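import Mathlib
import Groth.Prelude.Def_CAlgX

set_option autoImplicit false
set_option linter.unusedSectionVars false
set_option linter.unusedVariables false

namespace Groth.Agent.Helper7.QR

open MvPolynomial

universe u
variable {B : Type u} [CommRing B] {r : ℕ}

/-- all coefficients at monomials of degree `< d` vanish. -/
def LowVanish (d : ℕ) (T : MvPolynomial (Fin r) B) : Prop :=
  ∀ m : Fin r →₀ ℕ, m.degree < d → T.coeff m = 0

lemma LowVanish.zero_deg (T : MvPolynomial (Fin r) B) : LowVanish 0 T := by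
  intro m hm; exact absurd hm (Nat.not_lt_zero _)

lemma LowVanish.zero (d : ℕ) : LowVanish d (0 : MvPolynomial (Fin r) B) := by
  intro m _; simp

lemma LowVanish.mono {d d' : ℕ} (h : d' ≤ d) {T : MvPolynomial (Fin r) B} (hT : LowVanish d T) :
    LowVanish d' T := fun m hm => hT m (lt_of_lt_of_le hm h)

lemma LowVanish.add {d : ℕ} {T T' : MvPolynomial (Fin r) B} (hT : LowVanish d T)
    (hT' : LowVanish d T') : LowVanish d (T + T') := by
  intro m hm; rw [coeff_add, hT m hm, hT' m hm, add_zero]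

lemma LowVanish.neg {d : ℕ} {T : MvPolynomial (Fin r) B} (hT : LowVanish d T) :
    LowVanish d (-T) := by
  intro m hm; rw [coeff_neg, hT m hm, neg_zero]

lemma LowVanish.sub {d : ℕ} {T T' : MvPolynomial (Fin r) B} (hT : LowVanish d T)
    (hT' : LowVanish d T') : LowVanish d (T - T') := by
  intro m hm; rw [coeff_sub, hT m hm, hT' m hm, sub_zero]

lemma LowVanish.sum {ι : Type*} {d : ℕ} (s : Finset ι) (T : ι → MvPolynomial (Fin r) B)
    (hT : ∀ i ∈ s, LowVanish d (T i)) : LowVanish d (∑ i ∈ s, T i) := by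
  intro m hm
  rw [coeff_sum]
  exact Finset.sum_eq_zero fun i hi => hT i hi m hm

lemma LowVanish.C_mul {d : ℕ} (a : B) {T : MvPolynomial (Fin r) B} (hT : LowVanish d T) :
    LowVanish d (C a * T) := by
  intro m hm; rw [coeff_C_mul, hT m hm, mul_zero]

lemma LowVanish.mul_C {d : ℕ} (a : B) {T : MvPolynomial (Fin r) B} (hT : LowVanish d T) :
    LowVanish d (T * C a) := by
  rw [mul_comm]; exact hT.C_mul a

lemma degree_sub_single_lt (m : Fin r →₀ ℕ) (l : Fin r) (hl : l ∈ m.support) :
    (m - Finsupp.single l 1).degree + 1 = m.degree := by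
  have h1 : m - Finsupp.single l 1 + Finsupp.single l 1 = m := by
    apply tsub_add_cancel_of_le
    rw [Finsupp.single_le_iff]
    have := Finsupp.mem_support_iff.mp hl
    omega
  conv_rhs => rw [← h1]
  rw [map_add, Finsupp.degree_single]

lemma LowVanish.X_mul {d : ℕ} (l : Fin r) {T : MvPolynomial (Fin r) B} (hT : LowVanish d T) :
    LowVanish (d + 1) (X l * T) := by
  classical
  intro m hm
  rw [coeff_X_mul']
  split_ifs with hl
  · apply hT
    have := degree_sub_single_lt m l hl
    omega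
  · rfl

lemma LowVanish.mul_X {d : ℕ} (l : Fin r) {T : MvPolynomial (Fin r) B} (hT : LowVanish d T) :
    LowVanish (d + 1) (T * X l) := by
  rw [mul_comm]; exact hT.X_mul l

lemma LowVanish.X_sub_C_mul {d : ℕ} (l : Fin r) (a : B) {T : MvPolynomial (Fin r) B}
    (hT : LowVanish d T) : LowVanish d ((X l - C a) * T) := by
  rw [sub_mul]
  exact ((hT.X_mul l).mono (Nat.le_succ d)).sub (hT.C_mul a)

lemma LowVanish.of_isHomogeneous {N : ℕ} {T : MvPolynomial (Fin r) B} (hT : T.IsHomogeneous N) :
    LowVanish N T := fun m hm => hT.coeff_eq_zero (ne_of_lt hm)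

/-- coefficient of `(X l - C a) * G` in degree exactly `d` when `G` vanishes below `d`. -/
lemma coeff_X_sub_C_mul_of_lowVanish {d : ℕ} (l : Fin r) (a : B) {G : MvPolynomial (Fin r) B}
    (hG : LowVanish d G) (m : Fin r →₀ ℕ) (hm : m.degree ≤ d) :
    coeff m ((X l - C a) * G) = - (a * coeff m G) := by
  rw [sub_mul, coeff_sub, coeff_C_mul, (hG.X_mul l) m (Nat.lt_succ_of_le hm), zero_sub]

/-! ### Reduction: it suffices to treat forms vanishing at the sequence -/

lemma exists_form_of_mem_pow_succ {R : Type u} [CommRing R] {c : ℕ} (h : Fin c → R) (N : ℕ) (x : R)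
    (hx : x ∈ Ideal.span (Set.range h) ^ (N + 1)) :
    ∃ Q : MvPolynomial (Fin c) R, Q.IsHomogeneous N ∧
      (∀ d, Q.coeff d ∈ Ideal.span (Set.range h)) ∧ eval h Q = x := by
  rw [pow_succ'] at hx
  refine Submodule.mul_induction_on hx ?_ ?_
  · intro z hz y hy
    rw [Ideal.mem_span_pow_iff_exists_isHomogeneous] at hy
    obtain ⟨p, hp, rfl⟩ := hy
    refine ⟨C z * p, hp.C_mul z, fun d => ?_, by simp⟩
    rw [coeff_C_mul]
    exact Ideal.mul_mem_right _ _ hz
  · rintro x y ⟨Q, hQ, hQc, rfl⟩ ⟨Q', hQ', hQc', rfl⟩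
    exact ⟨Q + Q', hQ.add hQ', fun d => by rw [coeff_add]; exact add_mem (hQc d) (hQc' d),
      by simp⟩

lemma isQuasiRegular_of_core {R : Type u} [CommRing R] {c : ℕ} (h : Fin c → R)
    (core : ∀ (N : ℕ) (T : MvPolynomial (Fin c) R), T.IsHomogeneous N → eval h T = 0 →
      ∀ d, T.coeff d ∈ Ideal.span (Set.range h)) :
    CAlgX.IsQuasiRegular h := by
  intro N P hP hev d
  obtain ⟨Q, hQ, hQc, hQe⟩ := exists_form_of_mem_pow_succ h N _ hev
  have h1 := core N (P - Q) (hP.sub hQ) (by rw [map_sub, hQe, sub_self]) d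
  have : P.coeff d = (P - Q).coeff d + Q.coeff d := by rw [coeff_sub]; ring
  rw [this]
  exact add_mem h1 (hQc d)

/-! ### kernel of evaluation -/

lemma sub_C_eval_mem (h : Fin r → B) (T : MvPolynomial (Fin r) B) :
    T - C (eval h T) ∈ Ideal.span (Set.range fun l => (X l - C (h l) : MvPolynomial (Fin r) B)) := by
  induction T using MvPolynomial.induction_on with
  | C a => simp
  | add p q hp hq =>
    have : p + q - C (eval h (p + q)) = (p - C (eval h p)) + (q - C (eval h q)) := by
      rw [map_add, C_add]; ring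
    rw [this]; exact add_mem hp hq
  | mul_X p l hp =>
    have : p * X l - C (eval h (p * X l)) =
        (p - C (eval h p)) * X l + C (eval h p) * (X l - C (h l)) := by
      rw [map_mul, eval_X, C_mul]; ring
    rw [this]
    exact add_mem (Ideal.mul_mem_right _ _ hp)
      (Ideal.mul_mem_left _ _ (Ideal.subset_span ⟨l, rfl⟩))

lemma exists_rep_of_eval_eq_zero (h : Fin r → B) (T : MvPolynomial (Fin r) B)
    (hT : eval h T = 0) :
    ∃ G : Fin r → MvPolynomial (Fin r) B, T = ∑ l, (X l - C (h l)) * G l := by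
  have := sub_C_eval_mem h T
  rw [hT, C_0, sub_zero, Ideal.mem_span_range_iff_exists_fun] at this
  obtain ⟨c, hc⟩ := this
  exact ⟨c, by rw [← hc]; exact Finset.sum_congr rfl fun l _ => mul_comm _ _⟩

/-! ### H1-regularity in matrix form -/

lemma h1_rep {h : Fin r → B} (hh : CAlgX.IsH1Regular h) (a : Fin r → B)
    (ha : ∑ i, a i * h i = 0) :
    ∃ c : Fin r → Fin r → B, ∀ k, a k = ∑ j, (c k j - c j k) * h j := by
  have h1 := hh a ha
  have hset : {v : Fin r → B | ∃ i j : Fin r, v = Pi.single i (h j) - Pi.single j (h i)} =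
      Set.range (fun p : Fin r × Fin r => (Pi.single p.1 (h p.2) - Pi.single p.2 (h p.1) :
        Fin r → B)) := by
    ext v; constructor
    · rintro ⟨i, j, rfl⟩; exact ⟨(i, j), rfl⟩
    · rintro ⟨p, rfl⟩; exact ⟨p.1, p.2, rfl⟩
  rw [hset, Submodule.mem_span_range_iff_exists_fun] at h1
  obtain ⟨c, hc⟩ := h1
  refine ⟨fun i j => c (i, j), fun k => ?_⟩
  have := congrFun hc k
  rw [← this, Finset.sum_apply, Fintype.sum_prod_type]
  simp only [Pi.smul_apply, Pi.sub_apply, Pi.single_apply, smul_eq_mul, mul_sub, mul_ite, mul_zero,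
    Finset.sum_sub_distrib]
  simp only [sub_mul, Finset.sum_sub_distrib]
  congr 1
  · rw [Finset.sum_eq_single k]
    · simp
    · intro b _ hb; simp [Ne.symm hb]
    · simp
  · rw [Finset.sum_comm]
    rw [Finset.sum_eq_single k]
    · simp
    · intro b _ hb; simp [Ne.symm hb]
    · simp

end Groth.Agent.Helper7.QR
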