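import Mathlib
import Groth.Agent.Helper7.QR1

set_option autoImplicit false
set_option linter.unusedSectionVars false
set_option linter.unusedVariables false

namespace Groth.Agent.Helper7.QR

open MvPolynomial

universe u
variable {B : Type u} [CommRing B] {r : ℕ}

/-- antisymmetrised double sums vanish -/
lemma antisym_sum_zero {S : Type*} [CommRing S] (u : Fin r → S) (η : Fin r → Fin r → S) :
    ∑ j, u j * ∑ l, (η j l - η l j) * u l = 0 := by
  simp only [Finset.mul_sum, sub_mul, mul_sub, Finset.sum_sub_distrib]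
  rw [sub_eq_zero]
  rw [Finset.sum_comm]
  refine Finset.sum_congr rfl fun j _ => Finset.sum_congr rfl fun l _ => ?_
  ring

/-- one step of the key lemma -/
lemma KL_step {h : Fin r → B} (hh : CAlgX.IsH1Regular h) (d : ℕ)
    (T : MvPolynomial (Fin r) B) (hT : LowVanish (d + 1) T)
    (G : Fin r → MvPolynomial (Fin r) B) (hG : ∀ l, LowVanish d (G l))
    (hTG : T = ∑ l, (X l - C (h l)) * G l) :
    ∃ G' : Fin r → MvPolynomial (Fin r) B, (∀ l, LowVanish (d + 1) (G' l)) ∧
      T = ∑ l, (X l - C (h l)) * G' l := by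
  classical
  -- relations in degree d
  have rel : ∀ m : Fin r →₀ ℕ, m.degree = d → ∑ j, coeff m (G j) * h j = 0 := by
    intro m hm
    have h1 : coeff m T = 0 := hT m (by omega)
    rw [hTG, coeff_sum] at h1
    have h2 : ∀ j, coeff m ((X j - C (h j)) * G j) = - (h j * coeff m (G j)) := fun j =>
      coeff_X_sub_C_mul_of_lowVanish j (h j) (hG j) m hm.le
    simp only [h2, Finset.sum_neg_distrib, neg_eq_zero] at h1
    rw [← h1]
    exact Finset.sum_congr rfl fun j _ => mul_comm _ _
  have ex : ∀ m : Fin r →₀ ℕ, ∃ c : Fin r → Fin r → B,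
      (m.degree ≠ d → c = 0) ∧
      (m.degree = d → ∀ k, coeff m (G k) = ∑ j, (c k j - c j k) * h j) := by
    intro m
    by_cases hm : m.degree = d
    · obtain ⟨c, hc⟩ := h1_rep hh (fun j => coeff m (G j)) (rel m hm)
      exact ⟨c, fun h' => absurd hm h', fun _ => hc⟩
    · exact ⟨0, fun _ => rfl, fun h' => absurd h' hm⟩
  choose cc hcc0 hcc using ex
  let S : Finset (Fin r →₀ ℕ) := Finset.univ.biUnion fun j => (G j).support
  let η : Fin r → Fin r → MvPolynomial (Fin r) B := fun j l => ∑ m ∈ S, monomial m (cc m j l)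
  have hηc : ∀ j l m, coeff m (η j l) = if m ∈ S then cc m j l else 0 := by
    intro j l m
    simp only [η, coeff_sum, coeff_monomial]
    rw [Finset.sum_ite_eq' S m]
  have hηlow : ∀ j l, LowVanish d (η j l) := by
    intro j l m hm
    rw [hηc]
    split_ifs
    · rw [hcc0 m (by omega)]; rfl
    · rfl
  refine ⟨fun j => G j - ∑ l, (η j l - η l j) * (C (h l) - X l), ?_, ?_⟩
  · intro j m hm
    rw [coeff_sub, coeff_sum]
    have h3 : ∀ l, coeff m ((η j l - η l j) * (C (h l) - X l)) =
        (coeff m (η j l) - coeff m (η l j)) * h l := by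
      intro l
      rw [mul_sub, coeff_sub, mul_comm _ (C (h l)), coeff_C_mul, coeff_sub, mul_comm (h l)]
      have : LowVanish (d + 1) ((η j l - η l j) * X l) :=
        ((hηlow j l).sub (hηlow l j)).mul_X l
      rw [this m hm, sub_zero]
    simp only [h3, hηc]
    by_cases hmS : m ∈ S
    · simp only [hmS, if_true]
      by_cases hmd : m.degree = d
      · rw [hcc m hmd j, sub_self]
      · rw [hG j m (by omega), hcc0 m hmd]
        simp
    · simp only [hmS, if_false, sub_self, zero_mul, Finset.sum_const_zero, sub_zero]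
      by_contra hne
      apply hmS
      simp only [S, Finset.mem_biUnion, Finset.mem_univ, true_and]
      exact ⟨j, mem_support_iff.mpr hne⟩
  · rw [hTG]
    have key : ∑ j, (X j - C (h j)) * ∑ l, (η j l - η l j) * (C (h l) - X l) = 0 := by
      have := antisym_sum_zero (fun l => (X l - C (h l) : MvPolynomial (Fin r) B)) η
      rw [← neg_eq_zero, ← Finset.sum_neg_distrib, ← this]
      refine Finset.sum_congr rfl fun j _ => ?_
      rw [← mul_neg, ← Finset.sum_neg_distrib]
      congr 1
      refine Finset.sum_congr rfl fun l _ => ?_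
      ring
    calc ∑ l, (X l - C (h l)) * G l
        = ∑ l, (X l - C (h l)) * G l
          - ∑ j, (X j - C (h j)) * ∑ l, (η j l - η l j) * (C (h l) - X l) := by
            rw [key, sub_zero]
      _ = _ := by
            rw [← Finset.sum_sub_distrib]
            refine Finset.sum_congr rfl fun j _ => ?_
            rw [mul_sub]

/-- **Key lemma**: for an `H_1`-regular sequence, a polynomial vanishing at the sequence and with
no terms of degree `< d` lies in `(X - h) · (X)^d`. -/
lemma KL {h : Fin r → B} (hh : CAlgX.IsH1Regular h) (d : ℕ) :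
    ∀ (T : MvPolynomial (Fin r) B), LowVanish d T → eval h T = 0 →
    ∃ G : Fin r → MvPolynomial (Fin r) B, (∀ l, LowVanish d (G l)) ∧
      T = ∑ l, (X l - C (h l)) * G l := by
  induction d with
  | zero =>
    intro T _ hT0
    obtain ⟨G, hG⟩ := exists_rep_of_eval_eq_zero h T hT0
    exact ⟨G, fun l => LowVanish.zero_deg _, hG⟩
  | succ d ih =>
    intro T hT hT0
    obtain ⟨G, hG, hTG⟩ := ih T (hT.mono (Nat.le_succ d)) hT0
    exact KL_step hh d T hT G hG hTG

/-- core statement for `H_1`-regular sequences. -/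
lemma core_of_h1 {h : Fin r → B} (hh : CAlgX.IsH1Regular h) (N : ℕ)
    (T : MvPolynomial (Fin r) B) (hT : LowVanish N T) (hT0 : eval h T = 0)
    (m : Fin r →₀ ℕ) (hm : m.degree ≤ N) : coeff m T ∈ Ideal.span (Set.range h) := by
  obtain ⟨G, hG, hTG⟩ := KL hh N T hT hT0
  rw [hTG, coeff_sum]
  refine Ideal.sum_mem _ fun l _ => ?_
  rw [coeff_X_sub_C_mul_of_lowVanish l (h l) (hG l) m hm]
  exact neg_mem (Ideal.mul_mem_right _ _ (Ideal.subset_span ⟨l, rfl⟩))

theorem main_2103 {R : Type u} [CommRing R] {c : ℕ} (f : Fin c → R) (hf : CAlgX.IsH1Regular f) :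
    CAlgX.IsQuasiRegular f := by
  apply isQuasiRegular_of_core
  intro N T hT hT0 d
  by_cases hd : d.degree ≤ N
  · exact core_of_h1 hf N T (LowVanish.of_isHomogeneous hT) hT0 d hd
  · rw [hT.coeff_eq_zero (by omega)]
    exact zero_mem _

end Groth.Agent.Helper7.QR
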