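import Mathlib
import Groth.Prelude.Def_CAlgX
import Groth.Agent.Helper1.QuasiReg

set_option linter.style.haveILetI false
set_option linter.unusedSectionVars false
set_option autoImplicit false

/-! Quasi-regular sequences in the Jacobson radical of a Noetherian ring are regular. -/

namespace Groth.Agent.Helper7.QRReg

open MvPolynomial RingTheory.Sequence Groth.Agent.Helper1.QuasiReg Pointwise

universe u

section

variable {A : Type u} [CommRing A]

/-- coefficients of `X 0 * H` in `J` force coefficients of `H` in `J` -/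
theorem coeff_mem_of_X_mul {c : ℕ} (H : MvPolynomial (Fin (c + 1)) A) (J : Ideal A)
    (h : ∀ d, (X 0 * H).coeff d ∈ J) : ∀ d, H.coeff d ∈ J := by
  intro d
  have := h (Finsupp.single 0 1 + d)
  rwa [coeff_X_mul] at this

/-- multiplication by the first element of a quasi-regular sequence is injective on the
associated graded ring -/
theorem mem_pow_of_mul_mem {c : ℕ} (f : Fin (c + 1) → A) (hq : CAlgX.IsQuasiRegular f) :
    ∀ (i : ℕ) (ω : A), f 0 * ω ∈ Ideal.span (Set.range f) ^ (i + 1) →
      ω ∈ Ideal.span (Set.range f) ^ i := by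
  intro i
  induction i with
  | zero => intro ω _; simp
  | succ i ih =>
    intro ω hω
    have h1 : ω ∈ Ideal.span (Set.range f) ^ i :=
      ih ω (Ideal.pow_le_pow_right (Nat.le_succ _) hω)
    rw [Ideal.mem_span_pow_iff_exists_isHomogeneous] at h1
    obtain ⟨H, hH, rfl⟩ := h1
    have hP : (X 0 * H : MvPolynomial (Fin (c + 1)) A).IsHomogeneous (1 + i) :=
      (isHomogeneous_X A 0).mul hH
    rw [add_comm 1 i] at hP
    have hc := hq (i + 1) (X 0 * H) hP (by rw [map_mul, eval_X]; exact hω)
    exact eval_mem_pow_succ f i H hH (coeff_mem_of_X_mul H _ hc)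

/-- the first element of a quasi-regular sequence in the Jacobson radical of a Noetherian ring is
a nonzerodivisor -/
theorem isSMulRegular_zero [IsNoetherianRing A] {c : ℕ} (f : Fin (c + 1) → A)
    (hf : ∀ i, f i ∈ Ring.jacobson A) (hq : CAlgX.IsQuasiRegular f) : IsSMulRegular A (f 0) := by
  have hJ : Ideal.span (Set.range f) ≤ Ideal.jacobson ⊥ := by
    rw [Ideal.jacobson_bot, Ideal.span_le]
    rintro _ ⟨i, rfl⟩
    exact hf i
  have hinf := Ideal.iInf_pow_smul_eq_bot_of_le_jacobson (M := A) _ hJ
  rw [isSMulRegular_iff_right_eq_zero_of_smul]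
  intro ω hω
  rw [smul_eq_mul] at hω
  have hmem : ω ∈ (⨅ i : ℕ, Ideal.span (Set.range f) ^ i • ⊤ : Submodule A A) := by
    rw [Submodule.mem_iInf]
    intro i
    rw [smul_eq_mul, Ideal.mul_top]
    apply mem_pow_of_mul_mem f hq i ω
    rw [hω]
    exact zero_mem _
  rw [hinf] at hmem
  exact hmem

/-- the tail of a quasi-regular sequence is quasi-regular modulo the first element -/
theorem isQuasiRegular_tail {c : ℕ} (f : Fin (c + 1) → A) (hq : CAlgX.IsQuasiRegular f) :
    CAlgX.IsQuasiRegular
      (fun i : Fin c => Ideal.Quotient.mk (Ideal.span {f 0}) (f i.succ)) := by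
  classical
  have hπsurj : Function.Surjective (Ideal.Quotient.mk (Ideal.span {f 0})) :=
    Ideal.Quotient.mk_surjective
  have hx0 : Ideal.Quotient.mk (Ideal.span {f 0}) (f 0) = 0 :=
    Ideal.Quotient.eq_zero_iff_mem.2 (Ideal.subset_span rfl)
  have hxJ : f 0 ∈ Ideal.span (Set.range f) := Ideal.subset_span ⟨0, rfl⟩
  -- image of J
  have hmapJ : (Ideal.span (Set.range f)).map (Ideal.Quotient.mk (Ideal.span {f 0})) =
      Ideal.span (Set.range fun i : Fin c => Ideal.Quotient.mk (Ideal.span {f 0}) (f i.succ)) := by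
    rw [Ideal.map_span]
    apply le_antisymm
    · rw [Ideal.span_le]
      rintro _ ⟨_, ⟨i, rfl⟩, rfl⟩
      refine Fin.cases ?_ (fun j => ?_) i
      · rw [hx0]; exact zero_mem _
      · exact Ideal.subset_span ⟨j, rfl⟩
    · rw [Ideal.span_le]
      rintro _ ⟨j, rfl⟩
      exact Ideal.subset_span ⟨_, ⟨j.succ, rfl⟩, rfl⟩
  intro ν Pb hPb hev d
  rw [← hmapJ] at hev ⊢
  -- lift of `Pb`
  let Pt : MvPolynomial (Fin c) A :=
    ∑ e ∈ Pb.support, monomial e (hπsurj (Pb.coeff e)).choose
  have hcoeff : ∀ e, Ideal.Quotient.mk (Ideal.span {f 0}) (Pt.coeff e) = Pb.coeff e := by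
    intro e
    simp only [Pt, coeff_sum, coeff_monomial]
    rw [Finset.sum_ite_eq' Pb.support e]
    split_ifs with h
    · exact (hπsurj (Pb.coeff e)).choose_spec
    · rw [map_zero]
      exact (notMem_support_iff.mp h).symm
  have hPt : Pt.IsHomogeneous ν := by
    apply IsHomogeneous.sum
    intro e he
    apply isHomogeneous_monomial
    have := hPb (mem_support_iff.mp he)
    rw [Finsupp.degree_eq_weight_one]
    exact this
  have hmap : map (Ideal.Quotient.mk (Ideal.span {f 0})) Pt = Pb := by
    ext e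
    rw [coeff_map, hcoeff]
  let F : MvPolynomial (Fin (c + 1)) A := rename Fin.succ Pt
  have hFhom : F.IsHomogeneous ν := hPt.rename_isHomogeneous
  have hFeval : eval f F = eval (fun i : Fin c => f i.succ) Pt := eval_rename _ _ _
  have hπeval : Ideal.Quotient.mk (Ideal.span {f 0}) (eval (fun i : Fin c => f i.succ) Pt) =
      eval (fun i : Fin c => Ideal.Quotient.mk (Ideal.span {f 0}) (f i.succ)) Pb := by
    rw [← hmap, eval_map]
    exact eval₂_comp_left (Ideal.Quotient.mk (Ideal.span {f 0})) (RingHom.id A) _ Pt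
  -- decomposition of the value
  rw [← hπeval, ← Ideal.map_pow, Ideal.mem_map_iff_of_surjective _ hπsurj] at hev
  obtain ⟨G, hG, hGy⟩ := hev
  rw [Ideal.Quotient.eq, Ideal.mem_span_singleton'] at hGy
  obtain ⟨ω, hω⟩ := hGy
  have hy : eval f F = G - ω * f 0 := by rw [hFeval, hω]; ring
  -- coefficients of `F` at monomials without `X 0` lie in `J`
  have key : Pt.coeff d ∈ Ideal.span (Set.range f) := by
    have hd0 : (d.mapDomain Fin.succ) 0 = 0 := by
      apply Finsupp.mapDomain_of_notMem_range
      rintro ⟨j, hj⟩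
      exact Fin.succ_ne_zero j hj
    rw [← coeff_rename_mapDomain Fin.succ (Fin.succ_injective c) Pt d]
    cases ν with
    | zero =>
      apply hq 0 F hFhom
      rw [hy, zero_add, pow_one]
      rw [zero_add, pow_one] at hG
      exact Ideal.sub_mem _ hG (Ideal.mul_mem_left _ _ hxJ)
    | succ ν' =>
      have hmul : f 0 * (-ω) ∈ Ideal.span (Set.range f) ^ (ν' + 1) := by
        have h1 : eval f F ∈ Ideal.span (Set.range f) ^ (ν' + 1) :=
          (Ideal.mem_span_pow_iff_exists_isHomogeneous _ _).2 ⟨F, hFhom, rfl⟩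
        have h2 : G ∈ Ideal.span (Set.range f) ^ (ν' + 1) :=
          Ideal.pow_le_pow_right (Nat.le_succ _) hG
        have : f 0 * (-ω) = eval f F - G := by rw [hy]; ring
        rw [this]
        exact Ideal.sub_mem _ h1 h2
      have hω' := mem_pow_of_mul_mem f hq ν' (-ω) hmul
      rw [Ideal.mem_span_pow_iff_exists_isHomogeneous] at hω'
      obtain ⟨H, hH, hHω⟩ := hω'
      have hXH : (X 0 * H : MvPolynomial (Fin (c + 1)) A).IsHomogeneous (ν' + 1) := by
        have := (isHomogeneous_X A (0 : Fin (c + 1))).mul hH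
        rwa [add_comm 1 ν'] at this
      have hΦ : (F - X 0 * H).IsHomogeneous (ν' + 1) := hFhom.sub hXH
      have hc := hq (ν' + 1) (F - X 0 * H) hΦ (by
        rw [map_sub, map_mul, eval_X, hHω, hy]
        have : G - ω * f 0 - f 0 * -ω = G := by ring
        rw [this]
        exact hG)
      have := hc (d.mapDomain Fin.succ)
      rw [coeff_sub, coeff_X_mul', if_neg (by
        rw [Finsupp.mem_support_iff, hd0]; exact fun h => h rfl), sub_zero] at this
      exact this
  rw [← hcoeff d]
  exact Ideal.mem_map_of_mem _ key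

end

section main

/-- quasi-regular sequences in the Jacobson radical of a Noetherian ring are regular -/
theorem isWeaklyRegular_of_isQuasiRegular : ∀ (c : ℕ) (A : Type u) [CommRing A]
    [IsNoetherianRing A] (f : Fin c → A), (∀ i, f i ∈ Ring.jacobson A) →
    CAlgX.IsQuasiRegular f → IsWeaklyRegular A (List.ofFn f) := by
  intro c
  induction c with
  | zero =>
    intro A _ _ f _ _
    rw [List.ofFn_zero]
    exact IsWeaklyRegular.nil A A
  | succ c ih =>
    intro A _ _ f hf hq
    rw [List.ofFn_succ, isWeaklyRegular_cons_iff]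
    refine ⟨isSMulRegular_zero f hf hq, ?_⟩
    have hsub : (f 0 • (⊤ : Submodule A A)) = (Ideal.span {f 0} : Submodule A A) := by
      rw [← Submodule.ideal_span_singleton_smul, smul_eq_mul, Ideal.mul_top]
    let e : QuotSMulTop (f 0) A ≃ₗ[A] (A ⧸ Ideal.span {f 0}) := Submodule.quotEquivOfEq _ _ hsub
    rw [e.isWeaklyRegular_congr, ← isWeaklyRegular_map_algebraMap_iff (A ⧸ Ideal.span {f 0}),
      List.map_ofFn]
    apply ih (A ⧸ Ideal.span {f 0}) (fun i => Ideal.Quotient.mk (Ideal.span {f 0}) (f i.succ))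
    · intro i
      have h := hf i.succ
      rw [← Ideal.jacobson_bot, Ideal.mem_jacobson_bot] at h ⊢
      intro y
      obtain ⟨y, rfl⟩ := Ideal.Quotient.mk_surjective y
      rw [← map_mul, ← map_one (Ideal.Quotient.mk (Ideal.span {f 0})), ← map_add]
      exact (h y).map _
    · exact isQuasiRegular_tail f hq

theorem s5803 (A : Type u) [CommRing A] [IsNoetherianRing A]
    (c : ℕ) (f : Fin c → A) (hf : ∀ i, f i ∈ Ring.jacobson A) (hq : CAlgX.IsQuasiRegular f) :
    RingTheory.Sequence.IsWeaklyRegular A (List.ofFn f) :=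
  isWeaklyRegular_of_isQuasiRegular c A f hf hq

end main

end Groth.Agent.Helper7.QRReg
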