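import Mathlib
import Groth.Prelude

/-!
# Vasconcelos' theorem, part F: spreading out a regular sequence from a local ring
-/

set_option autoImplicit false
set_option linter.style.haveILetI false
set_option linter.unusedSectionVars false

namespace Groth.Agent.Helper7.Vasc

open RingTheory.Sequence

universe u

section char

variable {L : Type u} [CommRing L]

theorem smul_top_eq_self (K : Ideal L) : (K • (⊤ : Submodule L L)) = K := by
  rw [show (⊤ : Submodule L L) = (⊤ : Ideal L) from rfl, smul_eq_mul, Ideal.mul_top]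

/-- elementwise characterization of weakly regular sequences on the ring itself -/
theorem isWeaklyRegular_iff_forall (rs : List L) :
    IsWeaklyRegular L rs ↔ ∀ (i : ℕ) (h : i < rs.length), ∀ b : L,
      rs[i] * b ∈ Ideal.ofList (rs.take i) → b ∈ Ideal.ofList (rs.take i) := by
  rw [isWeaklyRegular_iff]
  refine forall_congr' fun i => forall_congr' fun h => ?_
  rw [isSMulRegular_quotient_iff_mem_of_smul_mem, smul_top_eq_self]
  rfl

theorem ofList_map_mul_unit (u : L → L) (hu : ∀ a, IsUnit (u a)) (rs : List L) :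
    Ideal.ofList (rs.map fun a => a * u a) = Ideal.ofList rs := by
  induction rs with
  | nil => rfl
  | cons a rs ih =>
    rw [List.map_cons, Ideal.ofList_cons, Ideal.ofList_cons, ih]
    congr 1
    exact Ideal.span_singleton_mul_right_unit (hu a) a

theorem isWeaklyRegular_map_mul_unit (u : L → L) (hu : ∀ a, IsUnit (u a)) (rs : List L)
    (h : IsWeaklyRegular L rs) : IsWeaklyRegular L (rs.map fun a => a * u a) := by
  rw [isWeaklyRegular_iff_forall] at h ⊢
  intro i hi b hb
  rw [List.length_map] at hi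
  rw [← List.map_take, ofList_map_mul_unit u hu] at hb ⊢
  rw [List.getElem_map, mul_assoc] at hb
  have := h i hi _ hb
  exact (Ideal.unit_mul_mem_iff_mem _ (hu _)).1 this

end char

section loc

variable {R : Type u} [CommRing R] (T : Submonoid R) (L : Type u) [CommRing L] [Algebra R L]
  [IsLocalization T L]

/-- weak regularity of the image of a sequence in a localization, elementwise in `R` -/
theorem isWeaklyRegular_map_of_forall (ys : List R)
    (h : ∀ (i : ℕ) (hi : i < ys.length), ∀ r : R,
      ys[i] * r ∈ Ideal.ofList (ys.take i) → ∃ t ∈ T, t * r ∈ Ideal.ofList (ys.take i)) :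
    IsWeaklyRegular L (ys.map (algebraMap R L)) := by
  rw [isWeaklyRegular_iff_forall]
  intro i hi b hb
  rw [List.length_map] at hi
  rw [← List.map_take, ← Ideal.map_ofList] at hb ⊢
  rw [List.getElem_map] at hb
  obtain ⟨r, s, rfl⟩ := IsLocalization.exists_mk'_eq T b
  rw [IsLocalization.mul_mk'_eq_mk'_of_mul, IsLocalization.mk'_mem_map_algebraMap_iff T] at hb
  obtain ⟨t, ht, htr⟩ := hb
  rw [IsLocalization.mk'_mem_map_algebraMap_iff T]
  have h1 : ys[i] * (t * r) ∈ Ideal.ofList (ys.take i) := by
    rw [mul_left_comm]; exact htr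
  obtain ⟨t', ht', h2⟩ := h i hi _ h1
  exact ⟨t' * t, T.mul_mem ht' ht, by rw [mul_assoc]; exact h2⟩

theorem forall_of_isWeaklyRegular_map (ys : List R)
    (h : IsWeaklyRegular L (ys.map (algebraMap R L))) (i : ℕ) (hi : i < ys.length) (r : R)
    (hr : ys[i] * r ∈ Ideal.ofList (ys.take i)) : ∃ t ∈ T, t * r ∈ Ideal.ofList (ys.take i) := by
  rw [isWeaklyRegular_iff_forall] at h
  have h1 := h i (by rw [List.length_map]; exact hi) (algebraMap R L r)
  rw [← List.map_take, ← Ideal.map_ofList, List.getElem_map, ← map_mul,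
    IsLocalization.algebraMap_mem_map_algebraMap_iff T,
    IsLocalization.algebraMap_mem_map_algebraMap_iff T] at h1
  exact h1 ⟨1, T.one_mem, by rw [one_mul]; exact hr⟩

end loc

section spread

variable {R : Type u} [CommRing R] [IsNoetherianRing R] (p : Ideal R) [hp : p.IsPrime]

theorem fg_clear (C K : Ideal R) (h : ∀ r ∈ C, ∃ t, t ∉ p ∧ t * r ∈ K) :
    ∃ g, g ∉ p ∧ ∀ r ∈ C, g * r ∈ K := by
  classical
  obtain ⟨F, hF⟩ := (isNoetherianRing_iff_ideal_fg R).mp ‹_› C
  have key : ∀ F' : Finset R, (∀ f ∈ F', f ∈ C) → ∃ g, g ∉ p ∧ ∀ f ∈ F', g * f ∈ K := by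
    intro F'
    induction F' using Finset.induction_on with
    | empty =>
      intro _
      exact ⟨1, fun h1 => (Ideal.ne_top_iff_one p).1 hp.ne_top h1, by simp⟩
    | insert a F' _ ih =>
      intro hmem
      obtain ⟨g, hg, hgF⟩ := ih fun f hf => hmem f (Finset.mem_insert_of_mem hf)
      obtain ⟨t, ht, hta⟩ := h a (hmem a (Finset.mem_insert_self _ _))
      refine ⟨t * g, fun hm => (hp.mem_or_mem hm).elim ht hg, ?_⟩
      intro f hf
      rcases Finset.mem_insert.1 hf with rfl | hf
      · rw [mul_right_comm]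
        exact K.mul_mem_right _ hta
      · rw [mul_assoc]
        exact K.mul_mem_left _ (hgF f hf)
  obtain ⟨g, hg, hgF⟩ := key F (fun f hf => by rw [← hF]; exact Ideal.subset_span hf)
  refine ⟨g, hg, ?_⟩
  intro r hr
  rw [← hF] at hr
  induction hr using Submodule.span_induction with
  | mem r hr => exact hgF r hr
  | zero => rw [mul_zero]; exact K.zero_mem
  | add r r' _ _ h1 h2 => rw [mul_add]; exact K.add_mem h1 h2
  | smul c r _ h1 => rw [smul_eq_mul, mul_left_comm]; exact K.mul_mem_left _ h1

theorem spread (I : Ideal R) (hIp : I ≤ p) (ys : List R)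
    (hreg : IsWeaklyRegular (Localization.AtPrime p)
      (ys.map (algebraMap R (Localization.AtPrime p))))
    (hof : Ideal.ofList (ys.map (algebraMap R (Localization.AtPrime p))) =
      I.map (algebraMap R (Localization.AtPrime p))) :
    ∃ g : R, g ∉ p ∧
      IsRegular (Localization.Away g) (ys.map (algebraMap R (Localization.Away g))) ∧
      Ideal.ofList (ys.map (algebraMap R (Localization.Away g))) =
        I.map (algebraMap R (Localization.Away g)) := by
  classical
  set S := Localization.AtPrime p with hS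
  rw [← Ideal.map_ofList] at hof
  -- regularity
  have h1 : ∀ i : Fin ys.length, ∃ g, g ∉ p ∧ ∀ r : R,
      ys[i] * r ∈ Ideal.ofList (ys.take i) → g * r ∈ Ideal.ofList (ys.take i) := by
    intro i
    let C : Ideal R :=
      { carrier := {r | ys[i] * r ∈ Ideal.ofList (ys.take i)}
        add_mem' := fun {a b} ha hb => by
          simp only [Set.mem_ofPred_eq] at ha hb ⊢
          rw [mul_add]; exact Ideal.add_mem _ ha hb
        zero_mem' := by simp
        smul_mem' := fun c {a} ha => by
          simp only [Set.mem_ofPred_eq, smul_eq_mul] at ha ⊢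
          rw [mul_left_comm]; exact Ideal.mul_mem_left _ _ ha }
    obtain ⟨g, hg, hgC⟩ := fg_clear p C (Ideal.ofList (ys.take i)) (by
      intro r hr
      obtain ⟨t, ht, htr⟩ := forall_of_isWeaklyRegular_map p.primeCompl S ys hreg i i.2 r hr
      exact ⟨t, ht, htr⟩)
    exact ⟨g, hg, fun r hr => hgC r hr⟩
  choose g₁ hg₁ hg₁' using h1
  obtain ⟨g₂, hg₂, hg₂'⟩ := fg_clear p I (Ideal.ofList ys) (by
    intro r hr
    have : algebraMap R S r ∈ (Ideal.ofList ys).map (algebraMap R S) := by
      rw [hof]; exact Ideal.mem_map_of_mem _ hr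
    rw [IsLocalization.algebraMap_mem_map_algebraMap_iff p.primeCompl] at this
    obtain ⟨t, ht, htr⟩ := this
    exact ⟨t, ht, htr⟩)
  obtain ⟨g₃, hg₃, hg₃'⟩ := fg_clear p (Ideal.ofList ys) I (by
    intro r hr
    have : algebraMap R S r ∈ I.map (algebraMap R S) := by
      rw [← hof]; exact Ideal.mem_map_of_mem _ hr
    rw [IsLocalization.algebraMap_mem_map_algebraMap_iff p.primeCompl] at this
    obtain ⟨t, ht, htr⟩ := this
    exact ⟨t, ht, htr⟩)
  set G₁ := ∏ i : Fin ys.length, g₁ i with hG₁
  have hG₁p : G₁ ∉ p := by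
    intro hmem
    obtain ⟨i, -, hi⟩ := (hp.prod_mem_iff).1 hmem
    exact hg₁ i hi
  set g := G₁ * g₂ * g₃ with hg
  have hgp : g ∉ p := by
    intro hmem
    rcases hp.mem_or_mem hmem with h | h
    · rcases hp.mem_or_mem h with h | h
      · exact hG₁p h
      · exact hg₂ h
    · exact hg₃ h
  have hgT : g ∈ Submonoid.powers g := Submonoid.mem_powers g
  have hofg : Ideal.ofList (ys.map (algebraMap R (Localization.Away g))) =
      I.map (algebraMap R (Localization.Away g)) := by
    rw [← Ideal.map_ofList]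
    apply le_antisymm
    · rw [Ideal.map_le_iff_le_comap]
      intro r hr
      rw [Ideal.mem_comap, IsLocalization.algebraMap_mem_map_algebraMap_iff (Submonoid.powers g)]
      refine ⟨g, hgT, ?_⟩
      have : G₁ * g₂ * g₃ * r = (G₁ * g₂) * (g₃ * r) := by ring
      rw [hg, this]
      exact I.mul_mem_left _ (hg₃' r hr)
    · rw [Ideal.map_le_iff_le_comap]
      intro r hr
      rw [Ideal.mem_comap, IsLocalization.algebraMap_mem_map_algebraMap_iff (Submonoid.powers g)]
      refine ⟨g, hgT, ?_⟩
      have : G₁ * g₂ * g₃ * r = (G₁ * g₃) * (g₂ * r) := by ring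
      rw [hg, this]
      exact Ideal.mul_mem_left _ _ (hg₂' r hr)
  refine ⟨g, hgp, ⟨?_, ?_⟩, hofg⟩
  · apply isWeaklyRegular_map_of_forall (Submonoid.powers g)
    intro i hi r hr
    refine ⟨g, hgT, ?_⟩
    obtain ⟨c, hc⟩ := Finset.dvd_prod_of_mem g₁ (Finset.mem_univ (⟨i, hi⟩ : Fin ys.length))
    have h2 := hg₁' ⟨i, hi⟩ r hr
    rw [hg, hG₁, hc]
    have : g₁ ⟨i, hi⟩ * c * g₂ * g₃ * r = (c * g₂ * g₃) * (g₁ ⟨i, hi⟩ * r) := by ring
    rw [this]
    exact Ideal.mul_mem_left _ _ h2
  · rw [smul_top_eq_self, hofg]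
    intro htop
    have h1 : (1 : Localization.Away g) ∈ I.map (algebraMap R (Localization.Away g)) := by
      rw [← htop]; trivial
    rw [← map_one (algebraMap R (Localization.Away g)),
      IsLocalization.algebraMap_mem_map_algebraMap_iff (Submonoid.powers g)] at h1
    obtain ⟨m, ⟨k, rfl⟩, hm⟩ := h1
    rw [mul_one] at hm
    exact hgp (hp.mem_of_pow_mem k (hIp hm))

end spread

end Groth.Agent.Helper7.Vasc
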