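import Mathlib
set_option autoImplicit false
open TensorProduct LinearMap
universe u

namespace Groth.Agent.Helper7.FlatAdic

section Cancel
variable (R S : Type*) [CommRing R] [CommRing S] [Algebra R S]
variable {P' P : Type*} [AddCommGroup P'] [Module R P'] [Module S P'] [IsScalarTower R S P']
  [AddCommGroup P] [Module R P] [Module S P] [IsScalarTower R S P]
variable (N : Type*) [AddCommGroup N] [Module R N]

lemma cancel_nat (g : P' →ₗ[S] P) (t : P' ⊗[S] (S ⊗[R] N)) :
    TensorProduct.AlgebraTensorModule.cancelBaseChange R S S P N (rTensor (S ⊗[R] N) g t) =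
      rTensor N (g.restrictScalars R)
        (TensorProduct.AlgebraTensorModule.cancelBaseChange R S S P' N t) := by
  induction t using TensorProduct.induction_on with
  | zero => simp
  | add a b ha hb => simp only [map_add, ha, hb]
  | tmul p y =>
    induction y using TensorProduct.induction_on with
    | zero => simp
    | add a b ha hb =>
      simp only [TensorProduct.tmul_add, map_add, ha, hb]
    | tmul s n =>
      simp [TensorProduct.AlgebraTensorModule.cancelBaseChange_tmul]

lemma rTensor_injective_of_flat [Module.Flat S (S ⊗[R] N)] (g : P' →ₗ[S] P)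
    (hg : Function.Injective g) : Function.Injective (rTensor N (g.restrictScalars R)) := by
  intro t1 t2 h
  have h1 := cancel_nat R S N g
    ((TensorProduct.AlgebraTensorModule.cancelBaseChange R S S P' N).symm t1)
  have h2 := cancel_nat R S N g
    ((TensorProduct.AlgebraTensorModule.cancelBaseChange R S S P' N).symm t2)
  rw [LinearEquiv.apply_symm_apply] at h1 h2
  have h3 : rTensor (S ⊗[R] N) g
      ((TensorProduct.AlgebraTensorModule.cancelBaseChange R S S P' N).symm t1) =
      rTensor (S ⊗[R] N) g
      ((TensorProduct.AlgebraTensorModule.cancelBaseChange R S S P' N).symm t2) := by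
    apply (TensorProduct.AlgebraTensorModule.cancelBaseChange R S S P N).injective
    rw [h1, h2, h]
  have h4 := Module.Flat.rTensor_preserves_injective_linearMap (M := S ⊗[R] N) g hg h3
  exact (TensorProduct.AlgebraTensorModule.cancelBaseChange R S S P' N).symm.injective h4

end Cancel

theorem flat_of_flat_quotients (B A : Type u) [CommRing B] [CommRing A]
    [IsNoetherianRing B] [IsNoetherianRing A] [Algebra B A] (J : Ideal B)
    [IsAdicComplete (J.map (algebraMap B A)) A]
    (hflat : ∀ n : ℕ, 0 < n → Module.Flat (B ⧸ J ^ n) ((B ⧸ J ^ n) ⊗[B] A)) :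
    Module.Flat B A := by
  rw [Module.Flat.iff_rTensor_injective']
  intro b
  rw [injective_iff_map_eq_zero]
  intro x hx
  have : Module.Finite B b := Module.Finite.of_fg (IsNoetherian.noetherian b)
  -- Step 1
  have step1 : ∀ n : ℕ, x ∈ (J ^ n) • (⊤ : Submodule B (b ⊗[B] A)) := by
    intro n
    obtain ⟨k, hk⟩ := Ideal.exists_pow_inf_eq_pow_smul J (b : Submodule B B)
    set m := n + k + 1 with hm
    have hmpos : 0 < m := by omega
    have hAR : ∀ z : B, z ∈ b → z ∈ J ^ m → z ∈ (J ^ n) • (b : Submodule B B) := by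
      intro z hzb hzJ
      have h1 : z ∈ (J ^ m • ⊤ ⊓ (b : Submodule B B) : Submodule B B) := by
        refine ⟨?_, hzb⟩
        rw [smul_eq_mul, Ideal.mul_top]; exact hzJ
      rw [hk m (by omega)] at h1
      have h2 : m - k = n + 1 := by omega
      rw [h2] at h1
      have h3 : J ^ (n + 1) • (J ^ k • ⊤ ⊓ (b : Submodule B B)) ≤ J ^ n • (b : Submodule B B) :=
        Submodule.smul_mono (Ideal.pow_le_pow_right (Nat.le_succ n)) inf_le_right
      exact h3 h1
    have := hflat m hmpos
    set Bq := B ⧸ J ^ m
    set bq : Ideal Bq := b.map (Ideal.Quotient.mk (J ^ m)) with hbq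
    let mk' : B →ₗ[B] Bq := Algebra.linearMap B Bq
    let π : b →ₗ[B] bq := mk'.restrict (p := b) (q := bq.restrictScalars B)
      (fun z hz => Ideal.mem_map_of_mem _ hz)
    let ι : bq →ₗ[Bq] Bq := bq.subtype
    have hπsurj : Function.Surjective π := by
      rintro ⟨w, hw⟩
      obtain ⟨z, hz, rfl⟩ := (Ideal.mem_map_iff_of_surjective _ Ideal.Quotient.mk_surjective).1 hw
      exact ⟨⟨z, hz⟩, rfl⟩
    have hιinj : Function.Injective (rTensor A (ι.restrictScalars B)) :=
      rTensor_injective_of_flat B Bq A ι Subtype.val_injective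
    have hcomp : (ι.restrictScalars B) ∘ₗ π = mk' ∘ₗ b.subtype := by
      ext z; rfl
    have h0 : rTensor A π x = 0 := by
      apply hιinj
      rw [map_zero, ← LinearMap.comp_apply, ← LinearMap.rTensor_comp, hcomp,
        LinearMap.rTensor_comp, LinearMap.comp_apply, hx, map_zero]
    have hex := rTensor_exact A (LinearMap.exact_subtype_ker_map π) hπsurj
    obtain ⟨w, rfl⟩ := (hex x).1 h0
    clear hx h0
    induction w using TensorProduct.induction_on with
    | zero => simp
    | add a c ha hc => rw [map_add]; exact Submodule.add_mem _ ha hc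
    | tmul z a =>
      obtain ⟨⟨z, hzb⟩, hzk⟩ := z
      rw [rTensor_tmul]
      change (⟨z, hzb⟩ : b) ⊗ₜ[B] a ∈ _
      have hzJ : z ∈ J ^ m := by
        have : π ⟨z, hzb⟩ = 0 := hzk
        have h' : (Ideal.Quotient.mk (J ^ m)) z = 0 := congrArg Subtype.val this
        exact Ideal.Quotient.eq_zero_iff_mem.1 h'
      have hz2 := hAR z hzb hzJ
      have hz3 : (⟨z, hzb⟩ : b) ∈ (J ^ n) • (⊤ : Submodule B b) :=
        (Submodule.mem_smul_top_iff (J ^ n) (b : Submodule B B) ⟨z, hzb⟩).2 hz2
      refine Submodule.smul_induction_on hz3 ?_ ?_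
      · intro r hr z' _
        rw [← TensorProduct.smul_tmul']
        exact Submodule.smul_mem_smul hr Submodule.mem_top
      · intro z1 z2 h1 h2
        rw [TensorProduct.add_tmul]
        exact Submodule.add_mem _ h1 h2
  -- Step 2
  set 𝔞 := J.map (algebraMap B A) with h𝔞
  have step2 : ∀ n : ℕ, TensorProduct.comm B b A x ∈ (𝔞 ^ n) • (⊤ : Submodule A (A ⊗[B] b)) := by
    intro n
    refine Submodule.smul_induction_on (step1 n) ?_ ?_
    · intro r hr t _
      rw [map_smul, ← algebraMap_smul A r]
      refine Submodule.smul_mem_smul ?_ Submodule.mem_top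
      rw [h𝔞, ← Ideal.map_pow]
      exact Ideal.mem_map_of_mem _ hr
    · intro t1 t2 h1 h2
      rw [map_add]
      exact Submodule.add_mem _ h1 h2
  have hkrull := Ideal.iInf_pow_smul_eq_bot_of_le_jacobson (R := A) (M := A ⊗[B] b) 𝔞
    (IsAdicComplete.le_jacobson_bot 𝔞)
  have hy : TensorProduct.comm B b A x ∈ (⨅ i : ℕ, 𝔞 ^ i • ⊤ : Submodule A (A ⊗[B] b)) := by
    rw [Submodule.mem_iInf]
    exact step2
  rw [hkrull, Submodule.mem_bot] at hy
  exact (TensorProduct.comm B b A).injective (by rw [hy, map_zero])

theorem flat_iff (B A : Type u) [CommRing B] [CommRing A]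
    [IsNoetherianRing B] [IsNoetherianRing A] [Algebra B A] (J : Ideal B)
    [IsAdicComplete (J.map (algebraMap B A)) A] :
    Module.Flat B A ↔ ∀ n : ℕ, 0 < n → Module.Flat (B ⧸ J ^ n) ((B ⧸ J ^ n) ⊗[B] A) := by
  constructor
  · intro h n _
    infer_instance
  · exact flat_of_flat_quotients B A J

end Groth.Agent.Helper7.FlatAdic
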