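import Mathlib

namespace Groth.Agent.Helper7.N2

universe u

set_option maxSynthPendingDepth 3 in
/-- Tower lemma: if the integral closure of `A` in `K'` is finite and `L/K'` is finite separable,
then the integral closure of `A` in `L` is finite over `A`. -/
theorem finite_integralClosure_of_tower
    (A : Type*) [CommRing A] [IsDomain A] [IsNoetherianRing A]
    (K : Type*) [Field K] [Algebra A K] [IsFractionRing A K]
    (K' : Type*) [Field K'] [Algebra A K'] [Algebra K K'] [IsScalarTower A K K']
    [FiniteDimensional K K']
    (L : Type*) [Field L] [Algebra A L] [Algebra K' L] [IsScalarTower A K' L]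
    [FiniteDimensional K' L] [Algebra.IsSeparable K' L]
    (hfin : Module.Finite A (integralClosure A K')) :
    Module.Finite A (integralClosure A L) := by
  let A' := integralClosure A K'
  have hN : IsNoetherianRing A' :=
    isNoetherianRing_iff.mpr (isNoetherian_of_tower A (isNoetherian_of_isNoetherianRing_of_finite A A'))
  have hIC : IsIntegrallyClosed A' := integralClosure.isIntegrallyClosedOfFiniteExtension K
  have hFR : IsFractionRing A' K' := integralClosure.isFractionRing_of_finite_extension K K'
  have : IsScalarTower A' K' L := inferInstance
  have : IsScalarTower A A' L := IsScalarTower.of_algebraMap_eq (fun x => by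
    rw [IsScalarTower.algebraMap_apply A K' L]; rfl)
  let C := integralClosure A' L
  have hC : Module.Finite A' C := IsIntegralClosure.finite A' K' L C
  have hCA : Module.Finite A C := Module.Finite.trans A' C
  have hNoeth : IsNoetherian A C := isNoetherian_of_isNoetherianRing_of_finite A C
  let f : integralClosure A L →ₗ[A] C :=
    { toFun := fun x => ⟨x.1, x.2.tower_top⟩
      map_add' := fun x y => rfl
      map_smul' := fun a x => by
        ext
        simp [Algebra.smul_def, IsScalarTower.algebraMap_apply A A' L] }
  have hf : Function.Injective f := by
    intro x y hxy
    have := congrArg (fun z : C => (z : L)) hxy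
    exact Subtype.ext this
  exact Module.Finite.of_injective f hf

end Groth.Agent.Helper7.N2
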