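import Mathlib
import Groth.Prelude.Def_Found
import Groth.Agent.Helper7.N2a

namespace Groth.Agent.Helper7.N2

universe u

open IntermediateField

/-- The fixed field of the full automorphism group of a normal extension is purely inseparable
over the base. -/
theorem isPurelyInseparable_fixedField_top (K E : Type*) [Field K] [Field E] [Algebra K E]
    [Normal K E] :
    IsPurelyInseparable K (fixedField (⊤ : Subgroup Gal(E/K))) := by
  classical
  rw [isPurelyInseparable_iff_natSepDegree_eq_one]
  intro x
  have hmin : minpoly K x = minpoly K (x : E) := (minpoly.algebraMap_eq (FaithfulSMul.algebraMap_injective _ E) x).symm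
  rw [hmin]
  have hsplits : ((minpoly K (x : E)).map (algebraMap K E)).Splits := Normal.splits inferInstance _
  rw [Polynomial.natSepDegree_eq_of_splits _ hsplits]
  have hroots : ((minpoly K (x : E)).aroots E).toFinset = {(x : E)} := by
    ext y
    simp only [Multiset.mem_toFinset, Finset.mem_singleton]
    constructor
    · intro hy
      have hy' : Polynomial.aeval y (minpoly K (x : E)) = 0 := by
        rw [Polynomial.mem_aroots] at hy
        exact hy.2
      have hint : IsIntegral K (x : E) := (Normal.isIntegral inferInstance _)
      have heq : minpoly K (x : E) = minpoly K y := minpoly.eq_of_irreducible_of_monic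
        (minpoly.irreducible hint) hy' (minpoly.monic hint)
      obtain ⟨σ, hσ⟩ := (Normal.minpoly_eq_iff_mem_orbit (x := y) (y := (x : E))).1 heq.symm
      have hx := (mem_fixedField_iff (⊤ : Subgroup Gal(E/K)) (x : E)).1 x.2 σ (Subgroup.mem_top _)
      rw [← hσ]
      exact hx
    · rintro rfl
      rw [Polynomial.mem_aroots]
      exact ⟨minpoly.ne_zero (Normal.isIntegral inferInstance _), minpoly.aeval _ _⟩
  rw [hroots, Finset.card_singleton]

set_option maxSynthPendingDepth 3 in
theorem result4562 (A : Type u) [CommRing A] [IsDomain A] [IsNoetherianRing A]
    (h : ∀ (K' : Type u) [Field K'] [Algebra A K'] [Algebra (FractionRing A) K']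
      [IsScalarTower A (FractionRing A) K'], FiniteDimensional (FractionRing A) K' →
      IsPurelyInseparable (FractionRing A) K' → Module.Finite A (integralClosure A K')) :
    CAlg.IsN2 A := by
  intro L _ _ _ _ hfd
  let Ω := AlgebraicClosure L
  have : Algebra.IsAlgebraic (FractionRing A) L := Algebra.IsAlgebraic.of_finite _ _
  let E : IntermediateField (FractionRing A) Ω := IntermediateField.normalClosure (FractionRing A) L Ω
  have hnorm : Normal (FractionRing A) E := normalClosure.normal (FractionRing A) L Ω
  have hfdE : FiniteDimensional (FractionRing A) E :=
    normalClosure.is_finiteDimensional (FractionRing A) L Ω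
  let F' : IntermediateField (FractionRing A) E := fixedField (⊤ : Subgroup Gal(E/(FractionRing A)))
  have hpi : IsPurelyInseparable (FractionRing A) F' :=
    isPurelyInseparable_fixedField_top (FractionRing A) E
  have hfin1 : Module.Finite A (integralClosure A F') := h F' inferInstance hpi
  have hgal : IsGalois F' E := IsGalois.of_fixed_field E (⊤ : Subgroup Gal(E/(FractionRing A)))
  have hst1 : IsScalarTower A F' E := IsScalarTower.of_algebraMap_eq (fun _ => rfl)
  have hst2 : IsScalarTower A L E :=
    IsScalarTower.of_algebraMap_eq (fun a => Subtype.ext (IsScalarTower.algebraMap_apply A L Ω a))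
  have hfin2 : Module.Finite A (integralClosure A E) :=
    finite_integralClosure_of_tower A (FractionRing A) F' E hfin1
  have hNoeth : IsNoetherian A (integralClosure A E) :=
    isNoetherian_of_isNoetherianRing_of_finite A _
  let f : integralClosure A L →ₗ[A] integralClosure A E :=
    { toFun := fun x => ⟨algebraMap L E x.1, x.2.map (IsScalarTower.toAlgHom A L E)⟩
      map_add' := fun x y => by ext; simp
      map_smul' := fun a x => by
        ext
        simp [Algebra.smul_def, IsScalarTower.algebraMap_apply A L E] }
  have hf : Function.Injective f := by
    intro x y hxy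
    have h1 := congrArg (fun z : integralClosure A E => (z : E)) hxy
    exact Subtype.ext ((algebraMap L E).injective h1)
  exact Module.Finite.of_injective f hf

end Groth.Agent.Helper7.N2
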