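import Mathlib
import Groth.Prelude.Def_Found

namespace Groth.Agent.Helper7.ZMTN2

set_option linter.unusedSectionVars false
set_option linter.style.haveILetI false

universe u

open Polynomial

section scale

variable {R S L : Type*} [CommRing R] [CommRing S] [CommRing L] [Algebra R S] [Algebra S L]
  [Algebra R L] [IsScalarTower R S L]

theorem exists_pow_mul_isIntegral (r : S) (hr : IsIntegral R r)
    (hS : ∀ y : S, ∃ m : ℕ, IsIntegral R (r ^ m * y)) (x : L) (hx : IsIntegral S x) :
    ∃ m : ℕ, IsIntegral R (algebraMap S L (r ^ m) * x) := by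
  classical
  obtain ⟨P, hP, hPx⟩ := hx
  choose e he using hS
  set m := (Finset.range (P.natDegree + 1)).sup (fun i => e (P.coeff i)) with hm
  have hcoef : ∀ i, IsIntegral R (r ^ m * P.coeff i) := by
    intro i
    by_cases hi : i ∈ Finset.range (P.natDegree + 1)
    · obtain ⟨d, hd⟩ := Nat.exists_eq_add_of_le
        (Finset.le_sup (f := fun i => e (P.coeff i)) hi)
      have hd' : m = e (P.coeff i) + d := hd
      rw [hd', pow_add, mul_comm (r ^ _), mul_assoc]
      exact (hr.pow d).mul (he (P.coeff i))
    · have : P.coeff i = 0 := by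
        apply coeff_eq_zero_of_natDegree_lt
        simp only [Finset.mem_range, not_lt] at hi
        omega
      rw [this, mul_zero]
      exact isIntegral_zero
  refine ⟨m, ?_⟩
  set Q := scaleRoots P (r ^ m) with hQ
  have hQm : Q.Monic := (monic_scaleRoots_iff _).2 hP
  have hQx : eval₂ (algebraMap S L) (algebraMap S L (r ^ m) * x) Q = 0 :=
    scaleRoots_eval₂_eq_zero _ hPx
  have hQc : ∀ i, IsIntegral R (Q.coeff i) := by
    intro i
    rw [hQ, coeff_scaleRoots]
    rcases lt_trichotomy i P.natDegree with hlt | heq | hgt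
    · obtain ⟨d, hd⟩ : ∃ d, P.natDegree - i = d + 1 := ⟨P.natDegree - i - 1, by omega⟩
      have h5 : P.coeff i * (r ^ m) ^ (d + 1) = (r ^ m) ^ d * (r ^ m * P.coeff i) := by ring
      rw [hd, h5]
      exact ((hr.pow m).pow d).mul (hcoef i)
    · rw [heq, Nat.sub_self, pow_zero, mul_one, coeff_natDegree, hP.leadingCoeff]
      exact isIntegral_one
    · rw [coeff_eq_zero_of_natDegree_lt hgt, zero_mul]
      exact isIntegral_zero
  -- lift `Q` to the integral closure
  have hlift : Q ∈ lifts (algebraMap (integralClosure R S) S) := by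
    rw [lifts_iff_coeff_lifts]
    intro i
    exact ⟨⟨Q.coeff i, hQc i⟩, rfl⟩
  obtain ⟨Q', hQ'1, -, hQ'2⟩ := lifts_and_natDegree_eq_and_monic hlift hQm
  have hint : IsIntegral (integralClosure R S) (algebraMap S L (r ^ m) * x) := by
    refine ⟨Q', hQ'2, ?_⟩
    rw [IsScalarTower.algebraMap_eq (integralClosure R S) S L, ← eval₂_map, hQ'1]
    exact hQx
  exact isIntegral_trans _ hint

end scale

theorem main {R S : Type u} [CommRing R] [IsDomain R] [IsNoetherianRing R] [CommRing S]
    [IsDomain S] [Algebra R S] (hinj : Function.Injective (algebraMap R S)) [Algebra.FiniteType R S]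
    [Algebra.QuasiFinite R S] (hR : CAlg.IsN2 R) : CAlg.IsN2 S := by
  intro L _ _ _ _ hfin
  classical
  have hZ : ∀ (p : Ideal S) [p.IsPrime], ∃ r ∉ p, IsIntegral R r ∧
      ∀ x : S, ∃ m, IsIntegral R (r ^ m * x) := fun p _ =>
    Algebra.zariskisMainProperty_iff.1 (Algebra.ZariskisMainProperty.of_finiteType p)
  have hSL : Function.Injective (algebraMap S L) := by
    rw [IsScalarTower.algebraMap_eq S (FractionRing S) L]
    exact (algebraMap (FractionRing S) L).injective.comp (IsFractionRing.injective S _)
  letI : Algebra R L := ((algebraMap S L).comp (algebraMap R S)).toAlgebra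
  haveI : IsScalarTower R S L := IsScalarTower.of_algebraMap_eq (fun _ => rfl)
  have hRL : Function.Injective (algebraMap R L) := hSL.comp hinj
  letI : Algebra (FractionRing R) L := (IsFractionRing.lift hRL).toAlgebra
  haveI : IsScalarTower R (FractionRing R) L :=
    IsScalarTower.of_algebraMap_eq (fun x => (IsFractionRing.lift_algebraMap hRL x).symm)
  haveI : IsScalarTower R (FractionRing S) L := IsScalarTower.of_algebraMap_eq (fun x => by
    rw [IsScalarTower.algebraMap_apply R S (FractionRing S),
      ← IsScalarTower.algebraMap_apply S (FractionRing S) L]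
    rfl)
  have hfd : FiniteDimensional (FractionRing R) L := by
    haveI : Algebra.QuasiFinite R L := Algebra.QuasiFinite.trans R (FractionRing S) L
    haveI : Algebra.QuasiFinite (FractionRing R) L :=
      Algebra.QuasiFinite.of_restrictScalars R (FractionRing R) L
    exact Module.Finite.of_quasiFinite
  have hfinR : Module.Finite R (integralClosure R L) := hR L hfd
  have hfg : (integralClosure R L).toSubmodule.FG := by
    rw [← Module.Finite.iff_fg]
    exact Module.Finite.equiv (Subalgebra.toSubmoduleEquiv _).symm
  obtain ⟨G, hG⟩ := hfg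
  have hSN : IsNoetherianRing S := Algebra.FiniteType.isNoetherianRing R S
  have hle : (integralClosure S L).toSubmodule ≤ Submodule.span S (G : Set L) := by
    intro x hx
    have hx' : IsIntegral S x := hx
    set J : Ideal S := (Submodule.span S (G : Set L)).colon {x} with hJ
    have hJtop : J = ⊤ := by
      by_contra hne
      obtain ⟨p, hp, hle⟩ := Ideal.exists_le_maximal _ hne
      haveI := hp.isPrime
      obtain ⟨r, hrp, hr, hrS⟩ := hZ p
      obtain ⟨m, hm⟩ := exists_pow_mul_isIntegral r hr hrS x hx'
      have h1 : algebraMap S L (r ^ m) * x ∈ Submodule.span R (G : Set L) := by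
        rw [hG]; exact hm
      have h2 := Submodule.span_le_restrictScalars R S (G : Set L) h1
      have h3 : r ^ m ∈ J := by
        rw [hJ, Submodule.mem_colon_singleton, Algebra.smul_def]
        exact h2
      exact hrp (hp.isPrime.mem_of_pow_mem m (hle h3))
    have h1 : (1 : S) ∈ J := by rw [hJtop]; trivial
    rw [hJ, Submodule.mem_colon_singleton, one_smul] at h1
    exact h1
  have hfg' : (integralClosure S L).toSubmodule.FG := Submodule.FG.of_le ⟨G, rfl⟩ hle
  rw [← Module.Finite.iff_fg] at hfg'
  exact Module.Finite.equiv (Subalgebra.toSubmoduleEquiv _)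

end Groth.Agent.Helper7.ZMTN2
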