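import Mathlib
import Groth.Prelude.Def_CAlg

namespace Groth.Agent.Helper7.S2Ass

open RingTheory.Sequence Pointwise

set_option linter.unusedSectionVars false

universe u v

section transport

variable {R : Type u} [CommRing R]

lemma idealDepth_congr (I : Ideal R) {M N : Type v} [AddCommGroup M] [Module R M]
    [AddCommGroup N] [Module R N] (e : M ≃ₗ[R] N) :
    LocCoh.idealDepth I M = LocCoh.idealDepth I N := by
  have h1 : (I • (⊤ : Submodule R M) = ⊤) ↔ (I • (⊤ : Submodule R N) = ⊤) := by
    have : (I • (⊤ : Submodule R N)) = (I • (⊤ : Submodule R M)).map e.toLinearMap := by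
      rw [Submodule.map_smul'', Submodule.map_top, LinearEquiv.range]
    rw [this]
    constructor
    · intro h; rw [h, Submodule.map_top, LinearEquiv.range]
    · intro h
      have := congrArg (Submodule.comap e.toLinearMap) h
      rw [Submodule.comap_map_eq_of_injective e.injective, Submodule.comap_top] at this
      exact this
  have h2 : ∀ rs : List R, IsWeaklyRegular M rs ↔ IsWeaklyRegular N rs :=
    fun rs => e.isWeaklyRegular_congr rs
  unfold LocCoh.idealDepth
  simp only [h1, h2]

end transport


section local_domain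

variable {S : Type u} [CommRing S] [IsDomain S] [IsLocalRing S]

lemma max_smul_top_ne_top :
    (IsLocalRing.maximalIdeal S) • (⊤ : Submodule S S) ≠ ⊤ := by
  intro h
  have h1 : (1 : S) ∈ (IsLocalRing.maximalIdeal S) • (⊤ : Submodule S S) := by rw [h]; trivial
  rw [smul_eq_mul, Ideal.mul_top] at h1
  exact (IsLocalRing.maximalIdeal.isMaximal S).ne_top ((Ideal.eq_top_iff_one _).2 h1)

lemma mem_smul_top_iff (r y : S) : y ∈ r • (⊤ : Submodule S S) ↔ ∃ z, r * z = y := by
  rw [Submodule.mem_smul_pointwise_iff_exists]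
  constructor
  · rintro ⟨z, _, rfl⟩; exact ⟨z, rfl⟩
  · rintro ⟨z, rfl⟩; exact ⟨z, trivial, rfl⟩

lemma depth_le_one (a x : S) (ha : a ≠ 0) (hx : ¬ ∃ z, a * z = x)
    (hm : ∀ s ∈ IsLocalRing.maximalIdeal S, ∃ z, a * z = s * x) :
    LocCoh.depth S S ≤ 1 := by
  unfold LocCoh.depth LocCoh.idealDepth
  rw [if_neg max_smul_top_ne_top]
  apply iSup₂_le
  rintro rs ⟨hreg, hmem⟩
  match rs, hreg, hmem with
  | [], _, _ => simp
  | [_], _, _ => simp
  | r1 :: r2 :: rest, hreg, hmem =>
    exfalso
    rw [isWeaklyRegular_cons_iff, isWeaklyRegular_cons_iff] at hreg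
    obtain ⟨h1, h2, -⟩ := hreg
    have hr1 : r1 ≠ 0 := by
      intro h0
      have := h1 (a₁ := (1 : S)) (a₂ := 0) (by simp [h0])
      exact one_ne_zero this
    have h2' := (isSMulRegular_quotient_iff_mem_of_smul_mem (r1 • (⊤ : Submodule S S)) r2).1 h2
    obtain ⟨y, hy⟩ := hm r1 (hmem r1 (by simp))
    -- y ∉ r1 S
    have hy1 : ¬ ∃ z, r1 * z = y := by
      rintro ⟨y', rfl⟩
      apply hx
      refine ⟨y', ?_⟩
      have : r1 * (a * y') = r1 * x := by rw [← hy]; ring
      exact mul_left_cancel₀ hr1 this
    -- r2 * y ∈ r1 S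
    obtain ⟨z2, hz2⟩ := hm r2 (hmem r2 (by simp))
    have hy2 : ∃ z, r1 * z = r2 * y := by
      refine ⟨z2, ?_⟩
      have : a * (r1 * z2) = a * (r2 * y) := by
        calc a * (r1 * z2) = r1 * (a * z2) := by ring
          _ = r1 * (r2 * x) := by rw [hz2]
          _ = r2 * (r1 * x) := by ring
          _ = r2 * (a * y) := by rw [hy]
          _ = a * (r2 * y) := by ring
      exact mul_left_cancel₀ ha this
    have := h2' y (by rw [smul_eq_mul, mem_smul_top_iff]; exact hy2)
    rw [mem_smul_top_iff] at this
    exact hy1 this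

lemma le_depth_of_seq (rs : List S) (hreg : IsWeaklyRegular S rs)
    (hmem : ∀ r ∈ rs, r ∈ IsLocalRing.maximalIdeal S) :
    (rs.length : ℕ∞) ≤ LocCoh.depth S S := by
  unfold LocCoh.depth LocCoh.idealDepth
  rw [if_neg max_smul_top_ne_top]
  exact le_iSup₂ (f := fun (rs : List S)
    (_ : IsWeaklyRegular S rs ∧ ∀ r ∈ rs, r ∈ IsLocalRing.maximalIdeal S) => (rs.length : ℕ∞))
    rs ⟨hreg, hmem⟩

end local_domain


section hasSk

variable (R : Type u) [CommRing R] [IsDomain R] [IsNoetherianRing R]

/-- the localized module of `R` at `P` is `R_P`. -/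
noncomputable def locEquiv (P : Ideal R) [P.IsPrime] :
    LocalizedModule P.primeCompl R ≃ₗ[Localization.AtPrime P] Localization.AtPrime P :=
  LinearEquiv.extendScalarsOfIsLocalization P.primeCompl (Localization.AtPrime P)
    (IsLocalizedModule.linearEquiv P.primeCompl (LocalizedModule.mkLinearMap P.primeCompl R)
      (Algebra.linearMap R (Localization.AtPrime P)))

lemma hasSk_iff :
    LocCoh.HasSk 2 R R ↔ ∀ (P : Ideal R) [P.IsPrime],
      min 2 P.height ≤ LocCoh.depth (Localization.AtPrime P) (Localization.AtPrime P) := by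
  unfold LocCoh.HasSk
  refine forall_congr' fun P => forall_congr' fun hP => ?_
  have h1 : Module.supportDim (Localization.AtPrime P) (LocalizedModule P.primeCompl R) =
      ((P.height : ℕ∞) : WithBot ℕ∞) := by
    rw [Module.supportDim_eq_of_equiv (locEquiv R P), Module.supportDim_self_eq_ringKrullDim,
      IsLocalization.AtPrime.ringKrullDim_eq_height P]
  have h2 : LocCoh.depth (Localization.AtPrime P) (LocalizedModule P.primeCompl R) =
      LocCoh.depth (Localization.AtPrime P) (Localization.AtPrime P) :=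
    idealDepth_congr _ (locEquiv R P)
  rw [h1, h2]
  have h3 : ((2 : ℕ) : WithBot ℕ∞) = (((2 : ℕ∞)) : WithBot ℕ∞) := rfl
  rw [h3, ← WithBot.coe_min, WithBot.coe_le_coe]

end hasSk


section main

variable (R : Type u) [CommRing R] [IsDomain R] [IsNoetherianRing R]

lemma algebraMap_inj (P : Ideal R) [P.IsPrime] :
    Function.Injective (algebraMap R (Localization.AtPrime P)) :=
  IsLocalization.injective (Localization.AtPrime P) P.primeCompl_le_nonZeroDivisors

/-- forward direction, local computation -/
lemma depth_le_one_of_ass (a : R) (ha : a ≠ 0) (P : Ideal R)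
    (hP : P ∈ associatedPrimes R (R ⧸ Ideal.span {a})) :
    haveI : P.IsPrime := hP.isPrime
    LocCoh.depth (Localization.AtPrime P) (Localization.AtPrime P) ≤ 1 := by
  have : P.IsPrime := hP.isPrime
  obtain ⟨-, xb, hPx⟩ := (isAssociatedPrime_iff.1 hP)
  obtain ⟨x, rfl⟩ := Ideal.Quotient.mk_surjective xb
  have hmemP : ∀ s : R, s ∈ P ↔ s * x ∈ Ideal.span {a} := by
    intro s
    rw [hPx, Submodule.mem_colon_singleton, Submodule.mem_bot, ← Ideal.Quotient.eq_zero_iff_mem]
    rfl
  set S := Localization.AtPrime P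
  have hinj := algebraMap_inj R P
  apply depth_le_one (algebraMap R S a) (algebraMap R S x)
  · intro h; exact ha (hinj (h.trans (map_zero _).symm))
  · rintro ⟨z, hz⟩
    obtain ⟨y, s, rfl⟩ := IsLocalization.exists_mk'_eq P.primeCompl z
    rw [IsLocalization.mul_mk'_eq_mk'_of_mul, eq_comm, IsLocalization.eq_mk'_iff_mul_eq,
      ← map_mul] at hz
    have := hinj hz
    apply s.2
    show (s : R) ∈ P
    rw [hmemP, mul_comm, this]
    exact Ideal.mul_mem_right _ _ (Ideal.subset_span rfl)
  · intro t ht
    obtain ⟨p, s, rfl⟩ := IsLocalization.exists_mk'_eq P.primeCompl t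
    rw [IsLocalization.AtPrime.mk'_mem_maximal_iff (Localization.AtPrime P) P] at ht
    obtain ⟨w, hw⟩ := Ideal.mem_span_singleton'.1 ((hmemP p).1 ht)
    refine ⟨IsLocalization.mk' S w s, ?_⟩
    rw [IsLocalization.mul_mk'_eq_mk'_of_mul, mul_comm (IsLocalization.mk' S p s),
      IsLocalization.mul_mk'_eq_mk'_of_mul, mul_comm a w, hw, mul_comm]

lemma weaklyRegular_pair (a b : R) (ha : a ≠ 0)
    (hb : ∀ Q ∈ associatedPrimes R (R ⧸ Ideal.span {a}), b ∉ Q) :
    IsWeaklyRegular R [a, b] := by
  rw [isWeaklyRegular_cons_iff, isWeaklyRegular_cons_iff]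
  refine ⟨fun x y h => mul_left_cancel₀ ha h, ?_, IsWeaklyRegular.nil _ _⟩
  rw [isSMulRegular_quotient_iff_mem_of_smul_mem]
  intro y hy
  have hspan : ∀ y : R, y ∈ a • (⊤ : Submodule R R) ↔ y ∈ Ideal.span {a} := by
    intro y
    rw [Submodule.mem_smul_pointwise_iff_exists, Ideal.mem_span_singleton']
    constructor
    · rintro ⟨z, _, rfl⟩; exact ⟨z, by rw [smul_eq_mul, mul_comm]⟩
    · rintro ⟨z, rfl⟩; exact ⟨z, trivial, by rw [smul_eq_mul, mul_comm]⟩
  rw [hspan] at hy ⊢
  by_contra hy0
  have hmem : b ∈ ⋃ p ∈ associatedPrimes R (R ⧸ Ideal.span {a}), (p : Set R) := by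
    rw [biUnion_associatedPrimes_eq_zero_divisors]
    refine ⟨Ideal.Quotient.mk _ y, ?_, ?_⟩
    · rwa [Ne, Ideal.Quotient.eq_zero_iff_mem]
    · rw [← Ideal.Quotient.mk_eq_mk, ← Submodule.Quotient.mk_smul]
      exact (Submodule.Quotient.mk_eq_zero _).2 hy
  simp only [Set.mem_iUnion] at hmem
  obtain ⟨Q, hQ, hbQ⟩ := hmem
  exact hb Q hQ hbQ


theorem result11269 :
    LocCoh.HasSk 2 R R ↔
      ∀ a : R, a ≠ 0 → ∀ P : Ideal R, P ∈ associatedPrimes R (R ⧸ Ideal.span {a}) → P.height = 1 := by
  rw [hasSk_iff]
  constructor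
  · intro h a ha P hP
    have hPp : P.IsPrime := hP.isPrime
    have h1 := depth_le_one_of_ass R a ha P hP
    have h2 := (h P).trans h1
    have haP : a ∈ P := by
      obtain ⟨-, xb, hPx⟩ := (isAssociatedPrime_iff.1 hP)
      rw [hPx, Submodule.mem_colon_singleton, Submodule.mem_bot]
      obtain ⟨x, rfl⟩ := Ideal.Quotient.mk_surjective xb
      rw [← Ideal.Quotient.mk_eq_mk, ← Submodule.Quotient.mk_smul]
      exact (Submodule.Quotient.mk_eq_zero _).2
        (by rw [smul_eq_mul]; exact Ideal.mul_mem_right _ _ (Ideal.subset_span rfl))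
    have hne : P.height ≠ 0 := by
      rw [Ne, Ideal.height_eq_zero_iff_eq_bot]
      intro hbot
      rw [hbot, Ideal.mem_bot] at haP
      exact ha haP
    apply le_antisymm
    · rcases min_le_iff.1 h2 with h3 | h3
      · exact absurd h3 (by norm_num)
      · exact h3
    · exact Order.one_le_iff_pos.2 (pos_iff_ne_zero.2 hne)
  · intro h P hP
    by_cases hbot : P = ⊥
    · have : P.height = 0 := Ideal.height_eq_zero_iff_eq_bot.2 hbot
      rw [this]; simp
    · obtain ⟨a, haP, ha⟩ := Submodule.exists_mem_ne_zero_of_ne_bot hbot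
      set S := Localization.AtPrime P
      have hinj := algebraMap_inj R P
      have hmemS : ∀ r ∈ P, algebraMap R S r ∈ IsLocalRing.maximalIdeal S := by
        intro r hr
        rwa [IsLocalization.AtPrime.to_map_mem_maximal_iff S P]
      by_cases hht : 2 ≤ P.height
      · -- find b
        have hfin := associatedPrimes.finite R (R ⧸ Ideal.span {a})
        have hnot : ¬ ((P : Set R) ⊆ ⋃ Q ∈ (↑hfin.toFinset : Set (Ideal R)),
            ((Q : Ideal R) : Set R)) := by
          intro hsub
          obtain ⟨Q, hQ, hPQ⟩ := (Ideal.subset_union_prime (f := fun Q : Ideal R => Q) ⊥ ⊥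
            (fun Q hQ _ _ => ((hfin.mem_toFinset).1 hQ).isPrime)).1 hsub
          have hQ' := (hfin.mem_toFinset).1 hQ
          have := h a ha Q hQ'
          have h3 := Ideal.height_mono hPQ
          rw [this] at h3
          exact absurd (hht.trans h3) (by norm_num)
        rw [Set.not_subset] at hnot
        obtain ⟨b, hbP, hb⟩ := hnot
        have hb' : ∀ Q ∈ associatedPrimes R (R ⧸ Ideal.span {a}), b ∉ Q := by
          intro Q hQ hbQ
          apply hb
          simp only [Set.mem_iUnion]
          exact ⟨Q, Finset.mem_coe.2 ((hfin.mem_toFinset).2 hQ), hbQ⟩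
        have hreg := weaklyRegular_pair R a b ha hb'
        have hregS := IsWeaklyRegular.of_isLocalization S P.primeCompl hreg
        have := le_depth_of_seq _ hregS (by
          intro r hr
          simp only [List.map_cons, List.map_nil, List.mem_cons, List.not_mem_nil, or_false] at hr
          rcases hr with rfl | rfl
          · exact hmemS a haP
          · exact hmemS b hbP)
        simp only [List.map_cons, List.map_nil, List.length_cons, List.length_nil] at this
        have this' : (2 : ℕ∞) ≤ LocCoh.depth S S := by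
          have e : (((0 + 1 + 1 : ℕ)) : ℕ∞) = 2 := by norm_num
          rw [e] at this; exact this
        exact (min_le_left _ _).trans this'
      · have hreg : IsWeaklyRegular R [a] := by
          rw [isWeaklyRegular_cons_iff]
          exact ⟨fun x y h => mul_left_cancel₀ ha h, IsWeaklyRegular.nil _ _⟩
        have hregS := IsWeaklyRegular.of_isLocalization S P.primeCompl hreg
        have := le_depth_of_seq _ hregS (by
          intro r hr
          simp only [List.map_cons, List.map_nil, List.mem_cons, List.not_mem_nil, or_false] at hr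
          rw [hr]; exact hmemS a haP)
        simp only [List.map_cons, List.map_nil, List.length_cons, List.length_nil] at this
        have h1 : P.height ≤ 1 := by
          rw [not_le] at hht
          have h2 : P.height < 1 + 1 := by rw [one_add_one_eq_two]; exact hht
          exact (ENat.lt_add_one_iff (by simp)).1 h2
        have this' : (1 : ℕ∞) ≤ LocCoh.depth S S := by
          have e : (((0 + 1 : ℕ)) : ℕ∞) = 1 := by norm_num
          rw [e] at this; exact this
        exact (min_le_right _ _).trans (h1.trans this')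

end main

end Groth.Agent.Helper7.S2Ass
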