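import Mathlib
import Groth.Prelude.Def_GrMod3

set_option autoImplicit false
universe u
open CategoryTheory AlgebraicGeometry Opposite

namespace Groth.Agent.Helper7.GrAlphaKer

variable {R σ : Type u} [CommRing R] [SetLike σ R] [AddSubgroupClass σ R] (𝒜 : ℕ → σ) [GradedRing 𝒜]
  {M τ : Type u} [AddCommGroup M] [Module R M] [SetLike τ M] [AddSubgroupClass τ M] (ℳ : ℕ → τ)
  [SetLike.GradedSMul 𝒜 ℳ] [DirectSum.Decomposition ℳ]

/-- annihilator of an element -/
def annEl (m : M) : Ideal R := LinearMap.ker (LinearMap.toSpanSingleton R M m)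

omit [SetLike σ R] [AddSubgroupClass σ R] in
theorem mem_annEl (m : M) (r : R) : r ∈ annEl (R := R) m ↔ r • m = 0 := by
  unfold annEl
  rw [LinearMap.mem_ker, LinearMap.toSpanSingleton_apply]

theorem annEl_isHomogeneous (i : ℕ) (m : ℳ i) : (annEl (R := R) (m : M)).IsHomogeneous 𝒜 := by
  classical
  intro d₀ r hr
  rw [mem_annEl] at hr ⊢
  have hmem : ∀ d, ((DirectSum.decompose 𝒜 r d : R)) • (m : M) ∈ ℳ (d + i) := fun d =>
    SetLike.GradedSMul.smul_mem (DirectSum.decompose 𝒜 r d).2 m.2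
  have h1 : r • (m : M) = ∑ d ∈ (DirectSum.decompose 𝒜 r).support,
      ((DirectSum.decompose 𝒜 r d : R)) • (m : M) := by
    conv_lhs => rw [← DirectSum.sum_support_decompose 𝒜 r]
    rw [Finset.sum_smul]
  have h2 : ((DirectSum.decompose ℳ (r • (m : M))) (d₀ + i) : M)
      = ((DirectSum.decompose 𝒜 r d₀ : R)) • (m : M) := by
    rw [h1, DirectSum.decompose_sum, DFinsupp.finsetSum_apply, AddSubmonoidClass.coe_finsetSum]
    by_cases hd : d₀ ∈ (DirectSum.decompose 𝒜 r).support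
    · rw [Finset.sum_eq_single d₀]
      · exact DirectSum.decompose_of_mem_same ℳ (hmem d₀)
      · intro d _ hne
        exact DirectSum.decompose_of_mem_ne ℳ (hmem d) (by omega)
      · intro h; exact absurd hd h
    · have : (DirectSum.decompose 𝒜 r d₀ : R) = 0 := by
        rw [DFinsupp.notMem_support_iff] at hd
        rw [hd]; rfl
      rw [this, zero_smul]
      refine Finset.sum_eq_zero fun d hd' => ?_
      exact DirectSum.decompose_of_mem_ne ℳ (hmem d) (by
        intro h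
        have : d = d₀ := by omega
        exact hd (this ▸ hd'))
  rw [← h2, hr, DirectSum.decompose_zero]
  rfl

theorem alpha_eq_zero_iff (i : ℕ) (m : ℳ i) :
    GrMod.alpha 𝒜 ℳ i m = 0 ↔ ∀ x : ProjectiveSpectrum 𝒜,
      ∃ s : R, s ∉ x.asHomogeneousIdeal.toIdeal ∧ s • (m : M) = 0 := by
  have key : ∀ x : ProjectiveSpectrum 𝒜,
      (LocalizedModule.mk (m : M) (1 : x.asHomogeneousIdeal.toIdeal.primeCompl)
        = (0 : LocalizedModule x.asHomogeneousIdeal.toIdeal.primeCompl M))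
      ↔ ∃ s : R, s ∉ x.asHomogeneousIdeal.toIdeal ∧ s • (m : M) = 0 := by
    intro x
    rw [← LocalizedModule.zero_mk (1 : x.asHomogeneousIdeal.toIdeal.primeCompl), LocalizedModule.mk_eq]
    constructor
    · rintro ⟨u, hu⟩
      refine ⟨u.1, u.2, ?_⟩
      have : u • (m : M) = 0 := by simpa using hu
      exact this
    · rintro ⟨s, hs, hsm⟩
      refine ⟨⟨s, hs⟩, ?_⟩
      simp only [one_smul, smul_zero]
      exact hsm
  constructor
  · intro h x
    rw [← key]
    have h1 := congrArg (fun t : GrMod.sect 𝒜 ℳ (i : ℤ) (op ⊤) => (t.1 ⟨x, trivial⟩ : GrMod.LocMod 𝒜 (M := M) x)) h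
    exact h1
  · intro h
    refine Subtype.ext (funext fun x => Subtype.ext ?_)
    exact (key x.1).mpr (h x.1)

theorem main [IsNoetherianRing R] (i : ℕ) (m : ℳ i) :
    GrMod.alpha 𝒜 ℳ i m = 0 ↔
      ∃ k : ℕ, ∀ r : R, r ∈ (HomogeneousIdeal.irrelevant 𝒜).toIdeal ^ k → r • (m : M) = 0 := by
  rw [alpha_eq_zero_iff]
  constructor
  · intro h
    have hrad : (HomogeneousIdeal.irrelevant 𝒜).toIdeal ≤ (annEl (R := R) (m : M)).radical := by
      rw [(annEl_isHomogeneous 𝒜 ℳ i m).radical_eq]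
      apply le_sInf
      rintro J ⟨hJh, hIJ, hJp⟩
      by_contra hnot
      obtain ⟨s, hs, hsm⟩ := h ⟨⟨J, hJh⟩, hJp, hnot⟩
      exact hs (hIJ ((mem_annEl _ _).mpr hsm))
    obtain ⟨k, hk⟩ := Ideal.exists_pow_le_of_le_radical_of_fg hrad
      (IsNoetherian.noetherian _)
    exact ⟨k, fun r hr => (mem_annEl _ _).mp (hk hr)⟩
  · rintro ⟨k, hk⟩ x
    have hx := x.not_irrelevant_le
    rw [SetLike.not_le_iff_exists] at hx
    obtain ⟨f, hf, hfx⟩ := hx
    refine ⟨f ^ k, fun h => hfx (x.isPrime.mem_of_pow_mem k h), hk _ (Ideal.pow_mem_pow hf k)⟩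

end Groth.Agent.Helper7.GrAlphaKer
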