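import Mathlib
import Groth.Prelude.Def_GrSyz

set_option autoImplicit false

namespace Groth.Agent.Helper7.GrSyzMin

open MvPolynomial

universe u v

theorem weight_one_pos {σ : Type v} (d : σ →₀ ℕ) (hd : d ≠ 0) :
    0 < Finsupp.weight (fun _ : σ => (1 : ℤ)) d := by
  classical
  rw [Finsupp.weight_apply, Finsupp.sum]
  obtain ⟨i, hi⟩ : ∃ i, d i ≠ 0 := by
    by_contra h
    push Not at h
    exact hd (Finsupp.ext h)
  have hmem : i ∈ d.support := Finsupp.mem_support_iff.mpr hi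
  have h1 : ∀ j ∈ d.support, (0 : ℤ) ≤ d j • (1 : ℤ) := by
    intro j _; simp
  calc (0 : ℤ) < d i • (1 : ℤ) := by
        simp only [nsmul_eq_mul, mul_one]
        exact_mod_cast Nat.pos_of_ne_zero hi
    _ ≤ ∑ j ∈ d.support, d j • (1 : ℤ) := Finset.single_le_sum h1 hmem

theorem irrel_le_ker (k : Type u) [CommRing k] (σ : Type v) :
    (GrSyz.irrel (GrSyz.stdGr k σ)).toIdeal ≤ RingHom.ker (constantCoeff : MvPolynomial σ k →+* k) := by
  change Ideal.span _ ≤ _
  rw [Ideal.span_le]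
  rintro p ⟨n, hn, hp⟩
  rw [SetLike.mem_coe, RingHom.mem_ker, constantCoeff_eq]
  rw [GrSyz.mem_stdGr_iff] at hp
  apply hp.coeff_eq_zero
  rw [map_zero]
  omega

theorem eq_zero_of_mem (k : Type u) [CommRing k] (σ : Type v) (n : ℤ) (hn : n ≤ 0)
    (p : MvPolynomial σ k) (hp : p ∈ GrSyz.stdGr k σ n)
    (hp' : p ∈ (GrSyz.irrel (GrSyz.stdGr k σ)).toIdeal) : p = 0 := by
  ext d
  rw [coeff_zero]
  by_cases hd : d = 0
  · subst hd
    have := irrel_le_ker k σ hp'
    rwa [RingHom.mem_ker, constantCoeff_eq] at this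
  · rw [GrSyz.mem_stdGr_iff] at hp
    apply hp.coeff_eq_zero
    have := weight_one_pos d hd
    omega

theorem one_not_mem (k : Type u) [CommRing k] [Nontrivial k] (σ : Type v) :
    (1 : MvPolynomial σ k) ∉ (GrSyz.irrel (GrSyz.stdGr k σ)).toIdeal := by
  intro h
  have := irrel_le_ker k σ h
  rw [RingHom.mem_ker, map_one] at this
  exact one_ne_zero this

theorem main (k : Type u) [Field k] (r : ℕ)
    (M : Type u) [AddCommGroup M] [Module k M] [Module (MvPolynomial (Fin (r + 1)) k) M]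
    [IsScalarTower k (MvPolynomial (Fin (r + 1)) k) M]
    (ℳ : ℤ → Submodule k M) [DirectSum.Decomposition ℳ] [SetLike.GradedSMul (GrSyz.stdGr k (Fin (r + 1))) ℳ]
    (F : GrSyz.FreeRes (GrSyz.stdGr k (Fin (r + 1))) ℳ) (hF : F.IsMinimal (GrSyz.irrel (GrSyz.stdGr k (Fin (r + 1)))).toIdeal) (i : ℕ) (d : ℤ)
    (h : ∀ a : Fin (F.rk i), d ≤ F.deg i a) (b : Fin (F.rk (i + 1))) :
    d + 1 ≤ F.deg (i + 1) b := by
  classical
  by_contra hcon
  push Not at hcon
  have hcol : ∀ a, F.d i a b = 0 := by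
    intro a
    apply eq_zero_of_mem k (Fin (r + 1)) (F.deg (i + 1) b - F.deg i a) _ _ (F.d_mem i a b) (hF i a b)
    have := h a
    omega
  have hker : (Pi.single b 1 : Fin (F.rk (i + 1)) → MvPolynomial (Fin (r + 1)) k) ∈
      LinearMap.ker (Matrix.mulVecLin (F.d i)) := by
    rw [LinearMap.mem_ker, Matrix.mulVecLin_apply, Matrix.mulVec_single_one]
    funext a
    exact hcol a
  rw [F.exact_succ i] at hker
  obtain ⟨v, hv⟩ := hker
  have hb := congrFun hv b
  rw [Matrix.mulVecLin_apply, Pi.single_eq_same, Matrix.mulVec, dotProduct] at hb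
  apply one_not_mem k (Fin (r + 1))
  rw [← hb]
  exact Ideal.sum_mem _ fun c _ => Ideal.mul_mem_right _ _ (hF (i + 1) b c)

end Groth.Agent.Helper7.GrSyzMin
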