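import Mathlib
import Groth.Agent.Helper7.GrSyzMin

set_option autoImplicit false

namespace Groth.Agent.Helper7.GrSyzMin

open MvPolynomial

universe u v

/-- if `x b` is in the span of the other `x b'`, there is a relation with coefficient `1` at `b`. -/
theorem exists_rel_of_mem_span {R : Type*} [CommRing R] {N : Type*} [AddCommGroup N] [Module R N]
    {n : ℕ} (x : Fin n → N) (b : Fin n)
    (h : x b ∈ Submodule.span R (x '' {b' | b' ≠ b})) :
    ∃ v : Fin n → R, v b = 1 ∧ ∑ c, v c • x c = 0 := by
  classical
  rw [Finsupp.mem_span_image_iff_linearCombination] at h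
  obtain ⟨l, hl, hlx⟩ := h
  have hlb : l b = 0 := by
    rw [Finsupp.mem_supported'] at hl
    exact hl b (by simp)
  refine ⟨fun c => (if c = b then 1 else 0) - l c, by simp [hlb], ?_⟩
  have h1 : Finsupp.linearCombination R x l = ∑ c, l c • x c := by
    rw [Finsupp.linearCombination_apply, Finsupp.sum_fintype]
    intro i; exact zero_smul _ _
  simp only [sub_smul, Finset.sum_sub_distrib, ite_smul, one_smul, zero_smul,
    Finset.sum_ite_eq', Finset.mem_univ, if_true]
  rw [← h1, hlx, sub_self]

/-- if a relation has a unit coefficient at `a`, then `x a` is in the span of the others. -/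
theorem mem_span_of_rel {R : Type*} [CommRing R] {N : Type*} [AddCommGroup N] [Module R N]
    {n : ℕ} (x : Fin n → N) (a : Fin n) (c : Fin n → R) (hc : IsUnit (c a))
    (h : ∑ a', c a' • x a' = 0) :
    x a ∈ Submodule.span R (x '' {a' | a' ≠ a}) := by
  classical
  obtain ⟨u, hu⟩ := hc
  rw [← Finset.add_sum_erase _ _ (Finset.mem_univ a)] at h
  have h1 : x a = -((↑u⁻¹ : R) • ∑ a' ∈ Finset.univ.erase a, c a' • x a') := by
    have h2 : c a • x a = -∑ a' ∈ Finset.univ.erase a, c a' • x a' := eq_neg_of_add_eq_zero_left h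
    rw [← smul_neg, ← h2, ← hu, smul_smul, Units.inv_mul, one_smul]
  rw [h1]
  apply Submodule.neg_mem
  apply Submodule.smul_mem
  apply Submodule.sum_mem
  intro a' ha'
  apply Submodule.smul_mem
  apply Submodule.subset_span
  exact ⟨a', by simpa using (Finset.mem_erase.mp ha').1, rfl⟩

/-- a homogeneous polynomial outside the irrelevant ideal is a unit (over a field). -/
theorem isUnit_of_not_mem (k : Type u) [Field k] (σ : Type v) (n : ℤ)
    (p : MvPolynomial σ k) (hp : p ∈ GrSyz.stdGr k σ n)
    (hp' : p ∉ (GrSyz.irrel (GrSyz.stdGr k σ)).toIdeal) : IsUnit p := by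
  classical
  have hn : n ≤ 0 := by
    by_contra hn
    push Not at hn
    exact hp' (Ideal.subset_span ⟨n, hn, hp⟩)
  have hC : p = C (coeff 0 p) := by
    ext d
    rw [coeff_C]
    by_cases hd : d = 0
    · subst hd; simp
    · rw [if_neg (Ne.symm hd)]
      rw [GrSyz.mem_stdGr_iff] at hp
      apply hp.coeff_eq_zero
      have := weight_one_pos d hd
      omega
  have hne : coeff 0 p ≠ 0 := by
    intro h0
    rw [h0, map_zero] at hC
    rw [hC] at hp'
    exact hp' (Ideal.zero_mem _)
  rw [hC]
  exact (isUnit_iff_ne_zero.mpr hne).map C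

theorem main2 (k : Type u) [Field k] (r : ℕ)
    (M : Type u) [AddCommGroup M] [Module k M] [Module (MvPolynomial (Fin (r + 1)) k) M]
    [IsScalarTower k (MvPolynomial (Fin (r + 1)) k) M]
    (ℳ : ℤ → Submodule k M) [DirectSum.Decomposition ℳ] [SetLike.GradedSMul (GrSyz.stdGr k (Fin (r + 1))) ℳ]
    (F : GrSyz.FreeRes (GrSyz.stdGr k (Fin (r + 1))) ℳ) :
    F.IsMinimal (GrSyz.irrel (GrSyz.stdGr k (Fin (r + 1)))).toIdeal ↔
      ((∀ b : Fin (F.rk 0), F.aug b ∉ Submodule.span (MvPolynomial (Fin (r + 1)) k) (F.aug '' {b' | b' ≠ b})) ∧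
        ∀ (i : ℕ) (b : Fin (F.rk (i + 1))),
          (fun a => F.d i a b) ∉ Submodule.span (MvPolynomial (Fin (r + 1)) k) ((fun b' a => F.d i a b') '' {b' | b' ≠ b})) := by
  classical
  set 𝔪 := (GrSyz.irrel (GrSyz.stdGr k (Fin (r + 1)))).toIdeal with h𝔪
  have h1mem : (1 : MvPolynomial (Fin (r + 1)) k) ∉ 𝔪 := one_not_mem k (Fin (r + 1))
  constructor
  · intro hF
    -- elements of the range of a minimal differential have coordinates in 𝔪
    have hrange : ∀ (i : ℕ) (v : Fin (F.rk i) → MvPolynomial (Fin (r + 1)) k),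
        v ∈ LinearMap.range (Matrix.mulVecLin (F.d i)) → ∀ b, v b ∈ 𝔪 := by
      rintro i _ ⟨w, rfl⟩ b
      rw [Matrix.mulVecLin_apply, Matrix.mulVec, dotProduct]
      exact Ideal.sum_mem _ fun c _ => Ideal.mul_mem_right _ _ (hF i b c)
    constructor
    · intro b hb
      obtain ⟨v, hvb, hv⟩ := exists_rel_of_mem_span F.aug b hb
      have hker : v ∈ LinearMap.ker (Fintype.linearCombination (MvPolynomial (Fin (r + 1)) k) F.aug) := by
        rw [LinearMap.mem_ker, Fintype.linearCombination_apply]; exact hv
      rw [F.exact_zero] at hker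
      have := hrange 0 v hker b
      rw [hvb] at this
      exact h1mem this
    · intro i b hb
      obtain ⟨v, hvb, hv⟩ := exists_rel_of_mem_span (fun b' a => F.d i a b') b hb
      have hker : v ∈ LinearMap.ker (Matrix.mulVecLin (F.d i)) := by
        rw [LinearMap.mem_ker, Matrix.mulVecLin_apply]
        funext a
        have := congrFun hv a
        simp only [Finset.sum_apply, Pi.smul_apply, smul_eq_mul, Pi.zero_apply] at this
        rw [Matrix.mulVec, dotProduct, Pi.zero_apply, ← this]
        exact Finset.sum_congr rfl fun c _ => mul_comm _ _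
      rw [F.exact_succ i] at hker
      have := hrange (i + 1) v hker b
      rw [hvb] at this
      exact h1mem this
  · rintro ⟨h0, hs⟩ i a b
    by_contra hmem
    have hu : IsUnit (F.d i a b) := isUnit_of_not_mem k (Fin (r + 1)) _ _ (F.d_mem i a b) hmem
    rcases i with _ | i
    · -- i = 0: relation among the aug
      have hrel : ∑ a', F.d 0 a' b • F.aug a' = 0 := by
        have hmemr : Matrix.mulVecLin (F.d 0) (Pi.single b 1) ∈
            LinearMap.range (Matrix.mulVecLin (F.d 0)) := ⟨_, rfl⟩
        rw [← F.exact_zero, LinearMap.mem_ker, Fintype.linearCombination_apply] at hmemr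
        rw [← hmemr]
        apply Finset.sum_congr rfl
        intro a' _
        rw [Matrix.mulVecLin_apply, Matrix.mulVec_single_one]
        rfl
      exact h0 a (mem_span_of_rel F.aug a (fun a' => F.d 0 a' b) hu hrel)
    · have hrel : ∑ a', F.d (i + 1) a' b • (fun a'' => F.d i a'' a') = 0 := by
        have hmemr : Matrix.mulVecLin (F.d (i + 1)) (Pi.single b 1) ∈
            LinearMap.range (Matrix.mulVecLin (F.d (i + 1))) := ⟨_, rfl⟩
        rw [← F.exact_succ i, LinearMap.mem_ker, Matrix.mulVecLin_apply, Matrix.mulVecLin_apply,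
          Matrix.mulVec_single_one] at hmemr
        funext a''
        have := congrFun hmemr a''
        rw [Matrix.mulVec, dotProduct] at this
        simp only [Finset.sum_apply, Pi.smul_apply, smul_eq_mul, Pi.zero_apply]
        rw [Pi.zero_apply] at this
        rw [← this]
        exact Finset.sum_congr rfl fun c _ => mul_comm _ _
      exact hs i a (mem_span_of_rel (fun a' a'' => F.d i a'' a') a (fun a' => F.d (i + 1) a' b) hu hrel)

end Groth.Agent.Helper7.GrSyzMin
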