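import Mathlib
import Groth.Prelude.Def_GrSyz
import Groth.Agent.Helper7.GrSyzMin2

set_option autoImplicit false

open CategoryTheory

namespace Groth.Agent.Helper7.PdLen

universe u

section General

variable {R : Type u} [CommRing R]

/-- dimension shifting along a surjection from a projective module. -/
theorem pd_shift {P N : Type u} [AddCommGroup P] [Module R P] [AddCommGroup N] [Module R N]
    [Module.Projective R P] (f : P →ₗ[R] N) (hf : Function.Surjective f) (n : ℕ) :
    HasProjectiveDimensionLT (ModuleCat.of R N) (n + 2) ↔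
      HasProjectiveDimensionLT (ModuleCat.of R (LinearMap.ker f)) (n + 1) :=
  (LinearMap.shortExact_shortComplexKer hf).hasProjectiveDimensionLT_X₃_iff n
    ((IsProjective.iff_projective P).1 inferInstance)

theorem pd_lt_one_iff {N : Type u} [AddCommGroup N] [Module R N] :
    HasProjectiveDimensionLT (ModuleCat.of R N) 1 ↔ Module.Projective R N := by
  rw [← projective_iff_hasProjectiveDimensionLT_one, ← IsProjective.iff_projective]

/-- a projective module minimally covered by a free module: the next term vanishes. -/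
theorem card_eq_zero_of_projective {a b : ℕ} {W : Type u} [AddCommGroup W] [Module R W]
    [Module.Projective R W] (𝔪 : Ideal R) (h1 : (1 : R) ∉ 𝔪)
    (p : (Fin a → R) →ₗ[R] W) (hp : Function.Surjective p) (D : Matrix (Fin a) (Fin b) R)
    (hD : ∀ i j, D i j ∈ 𝔪) (hrange : LinearMap.range (Matrix.mulVecLin D) = LinearMap.ker p)
    (hker : ∀ w ∈ LinearMap.ker (Matrix.mulVecLin D), ∀ j, w j ∈ 𝔪) : b = 0 := by
  classical
  by_contra hb
  obtain ⟨j0⟩ : Nonempty (Fin b) := ⟨⟨0, Nat.pos_of_ne_zero hb⟩⟩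
  obtain ⟨s, hs⟩ := Module.projective_lifting_property p LinearMap.id hp
  have hπ : ∀ x, x - s (p x) ∈ LinearMap.ker p := by
    intro x
    rw [LinearMap.mem_ker, map_sub]
    have := LinearMap.congr_fun hs (p x)
    simp only [LinearMap.comp_apply, LinearMap.id_apply] at this
    rw [this, sub_self]
  have hw : ∀ i : Fin a, ∃ w : Fin b → R, Matrix.mulVecLin D w =
      (Pi.single i 1 : Fin a → R) - s (p (Pi.single i 1)) := by
    intro i
    have := hπ (Pi.single i 1)
    rw [← hrange] at this
    exact this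
  choose w hw using hw
  set c : Fin a → R := Matrix.mulVecLin D (Pi.single j0 1) with hc
  have hcj : ∀ i, c i = D i j0 := by
    intro i
    rw [hc, Matrix.mulVecLin_apply, Matrix.mulVec_single_one]
    rfl
  have hcker : c ∈ LinearMap.ker p := by
    rw [← hrange]; exact ⟨_, rfl⟩
  have hc1 : c - s (p c) = c := by
    rw [LinearMap.mem_ker] at hcker
    rw [hcker, map_zero, sub_zero]
  have hc2 : c - s (p c) = Matrix.mulVecLin D (∑ i, c i • w i) := by
    rw [map_sum]
    simp_rw [map_smul, hw]
    set π : (Fin a → R) →ₗ[R] (Fin a → R) := LinearMap.id - s ∘ₗ p with hπdef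
    have h3 : π c = ∑ i, c i • π (Pi.single i 1) := by
      rw [LinearMap.pi_apply_eq_sum_univ π c]
      refine Finset.sum_congr rfl fun i _ => ?_
      congr 2
      funext j
      simp [Pi.single_apply, eq_comm]
    simpa [hπdef] using h3
  have hv : (Pi.single j0 1 - ∑ i, c i • w i : Fin b → R) ∈ LinearMap.ker (Matrix.mulVecLin D) := by
    rw [LinearMap.mem_ker, map_sub, ← hc2, hc1, ← hc, sub_self]
  have := hker _ hv j0
  simp only [Pi.sub_apply, Pi.single_eq_same, Finset.sum_apply, Pi.smul_apply, smul_eq_mul] at this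
  apply h1
  have h4 : (∑ i, c i * w i j0) ∈ 𝔪 :=
    Ideal.sum_mem _ fun i _ => Ideal.mul_mem_right _ _ (by rw [hcj]; exact hD i j0)
  have := Ideal.add_mem _ this h4
  simpa using this

end General

section Res

variable {R : Type u} [CommRing R] {σ' : Type u} [SetLike σ' R] [AddSubgroupClass σ' R]
  {𝒜 : ℤ → σ'} {M : Type u} [AddCommGroup M] [Module R M] {τ : Type u} [SetLike τ M]
  [AddSubgroupClass τ M] {ℳ : ℤ → τ} [DirectSum.Decomposition ℳ] [SetLike.GradedSMul 𝒜 ℳ]
  (F : GrSyz.FreeRes 𝒜 ℳ)

/-- the syzygy modules. -/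
def Z : (i : ℕ) → Submodule R (Fin (F.rk i) → R)
  | 0 => LinearMap.ker F.augLin
  | (i + 1) => LinearMap.ker (F.dLin i)

theorem Z_eq_range (i : ℕ) : Z F i = LinearMap.range (F.dLin i) := by
  cases i with
  | zero => exact F.exact_zero
  | succ i => exact F.exact_succ i

/-- the surjection `F_{i+1} → Z_i`. -/
def q (i : ℕ) : (Fin (F.rk (i + 1)) → R) →ₗ[R] Z F i :=
  (F.dLin i).codRestrict (Z F i) (fun x => by rw [Z_eq_range]; exact ⟨x, rfl⟩)

theorem q_surjective (i : ℕ) : Function.Surjective (q F i) := by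
  rintro ⟨x, hx⟩
  rw [Z_eq_range] at hx
  obtain ⟨y, rfl⟩ := hx
  exact ⟨y, rfl⟩

theorem ker_q (i : ℕ) : LinearMap.ker (q F i) = Z F (i + 1) :=
  LinearMap.ker_codRestrict _ _ _

theorem shift_chain (i : ℕ) : ∀ j : ℕ,
    HasProjectiveDimensionLT (ModuleCat.of R M) (j + i + 2) ↔
      HasProjectiveDimensionLT (ModuleCat.of R (Z F i)) (j + 1) := by
  induction i with
  | zero =>
    intro j
    exact pd_shift F.augLin F.aug_surjective j
  | succ i ih =>
    intro j
    have h1 := ih (j + 1)
    have h2 := pd_shift (q F i) (q_surjective F i) j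
    rw [ker_q] at h2
    rw [← h2, ← h1]
    have : j + (i + 1) + 2 = j + 1 + i + 2 := by ring
    rw [this]

variable (𝔪 : Ideal R) (h1 : (1 : R) ∉ 𝔪) (hF : F.IsMinimal 𝔪)
include h1 hF

theorem mem_of_mem_ker (i : ℕ) (w : Fin (F.rk (i + 1)) → R) (hw : w ∈ LinearMap.ker (F.dLin i))
    (j : Fin (F.rk (i + 1))) : w j ∈ 𝔪 := by
  rw [F.exact_succ i] at hw
  obtain ⟨v, rfl⟩ := hw
  rw [Matrix.mulVecLin_apply, Matrix.mulVec, dotProduct]
  exact Ideal.sum_mem _ fun c _ => Ideal.mul_mem_right _ _ (hF (i + 1) j c)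

theorem rk_succ_eq_zero (i : ℕ) (h : F.rk i = 0) : F.rk (i + 1) = 0 := by
  classical
  by_contra hb
  obtain ⟨j0⟩ : Nonempty (Fin (F.rk (i + 1))) := ⟨⟨0, Nat.pos_of_ne_zero hb⟩⟩
  haveI : IsEmpty (Fin (F.rk i)) := by rw [h]; infer_instance
  have hmem : (Pi.single j0 1 : Fin (F.rk (i + 1)) → R) ∈ LinearMap.ker (F.dLin i) := by
    rw [LinearMap.mem_ker]
    exact Subsingleton.elim _ _
  have := mem_of_mem_ker F 𝔪 h1 hF i _ hmem j0
  rw [Pi.single_eq_same] at this
  exact h1 this

theorem hasLengthLE_of_rk (n : ℕ) (h : F.rk (n + 1) = 0) : F.HasLengthLE n := by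
  intro i hi
  obtain ⟨j, rfl⟩ : ∃ j, i = n + 1 + j := ⟨i - (n + 1), by omega⟩
  clear hi
  induction j with
  | zero => exact h
  | succ j ih => exact rk_succ_eq_zero F 𝔪 h1 hF _ ih

theorem hasLengthLE_iff (n : ℕ) :
    F.HasLengthLE n ↔ HasProjectiveDimensionLE (ModuleCat.of R M) n := by
  constructor
  · intro hlen
    have hrk : F.rk (n + 1) = 0 := hlen _ (Nat.lt_succ_self n)
    haveI : IsEmpty (Fin (F.rk (n + 1))) := by rw [hrk]; infer_instance
    have hrange : LinearMap.range (F.dLin n) = ⊥ := by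
      rw [eq_bot_iff]
      rintro _ ⟨w, rfl⟩
      rw [Subsingleton.elim w 0, map_zero]
      exact Submodule.zero_mem _
    cases n with
    | zero =>
      show HasProjectiveDimensionLT _ (0 + 1)
      rw [pd_lt_one_iff]
      have hinj : Function.Injective F.augLin := by
        rw [← LinearMap.ker_eq_bot, F.exact_zero]; exact hrange
      exact Module.Projective.of_equiv (LinearEquiv.ofBijective F.augLin ⟨hinj, F.aug_surjective⟩)
    | succ n =>
      show HasProjectiveDimensionLT _ (n + 1 + 1)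
      have := (shift_chain F n 0)
      rw [show 0 + n + 2 = n + 1 + 1 by ring] at this
      rw [this, pd_lt_one_iff]
      have hinj : Function.Injective (q F n) := by
        rw [← LinearMap.ker_eq_bot, ker_q, Z_eq_range]; exact hrange
      exact Module.Projective.of_equiv (LinearEquiv.ofBijective (q F n) ⟨hinj, q_surjective F n⟩)
  · intro hpd
    apply hasLengthLE_of_rk F 𝔪 h1 hF
    cases n with
    | zero =>
      have hpd' : HasProjectiveDimensionLT (ModuleCat.of R M) (0 + 1) := hpd
      rw [pd_lt_one_iff] at hpd'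
      exact card_eq_zero_of_projective 𝔪 h1 F.augLin F.aug_surjective (F.d 0) (hF 0)
        F.exact_zero.symm (mem_of_mem_ker F 𝔪 h1 hF 0)
    | succ n =>
      have hpd' : HasProjectiveDimensionLT (ModuleCat.of R M) (n + 1 + 1) := hpd
      have := (shift_chain F n 0)
      rw [show 0 + n + 2 = n + 1 + 1 by ring] at this
      rw [this, pd_lt_one_iff] at hpd'
      refine card_eq_zero_of_projective 𝔪 h1 (q F n) (q_surjective F n) (F.d (n + 1)) (hF (n + 1))
        ?_ (mem_of_mem_ker F 𝔪 h1 hF (n + 1))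
      rw [ker_q]
      exact (F.exact_succ n).symm

end Res

end Groth.Agent.Helper7.PdLen
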