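import Mathlib
import Groth.Prelude.Def_CAlg
import Groth.Agent.Helper6.DepthLemma
import Groth.Agent.Helper6.DepthPi
import Groth.Agent.Helper2.DepthCM
import Groth.Agent.Helper2.Depth

/-!
# Auslander–Buchsbaum formula: auxiliary lemmas
-/

set_option autoImplicit false
set_option linter.style.haveILetI false
set_option linter.unusedSectionVars false
universe u

namespace Groth.Agent.Helper7.AusBuch

open CategoryTheory Abelian IsLocalRing
open Groth.Agent.Helper2.DepthRees

variable {R : Type u} [CommRing R] [IsLocalRing R]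

/-- elements of the maximal ideal act by zero on `Ext(k, N)` -/
lemma smul_ext_eq_zero (N : ModuleCat.{u} R) (n : ℕ) (r : R) (hr : r ∈ maximalIdeal R)
    (z : Ext (Q (maximalIdeal R)) N n) : r • z = 0 := by
  have h0 : r • 𝟙 (Q (maximalIdeal R)) = 0 := by
    apply ModuleCat.hom_ext
    apply LinearMap.ext
    intro x
    obtain ⟨y, rfl⟩ := Ideal.Quotient.mk_surjective x
    show r • (Ideal.Quotient.mk (maximalIdeal R) y) = 0
    rw [Algebra.smul_def, Ideal.Quotient.algebraMap_eq, ← map_mul,
      Ideal.Quotient.eq_zero_iff_mem]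
    exact Ideal.mul_mem_right _ _ hr
  have h1 : z = (Ext.mk₀ (𝟙 (Q (maximalIdeal R)))).comp z (zero_add n) := by simp
  rw [h1, ← Ext.smul_comp, ← Ext.mk₀_smul, h0, Ext.mk₀_zero, Ext.zero_comp]

section ZeroMap

variable {K F : Type u} [AddCommGroup K] [Module R K] [AddCommGroup F] [Module R F]

/-- the submodule of linear maps inducing zero on `Ext^n(k, -)` -/
def zeroSub (K F : Type u) [AddCommGroup K] [Module R K] [AddCommGroup F] [Module R F] (n : ℕ) :
    Submodule R (K →ₗ[R] F) where
  carrier := {g | ∀ x : Ext (Q (maximalIdeal R)) (ModuleCat.of R K) n,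
    x.comp (Ext.mk₀ (ModuleCat.ofHom g)) (add_zero n) = 0}
  add_mem' := by
    intro g h hg hh x
    rw [ModuleCat.ofHom_add, Ext.mk₀_add, Ext.comp_add, hg x, hh x, add_zero]
  zero_mem' := by
    intro x
    have : ModuleCat.ofHom (0 : K →ₗ[R] F) = 0 := rfl
    rw [this, Ext.mk₀_zero, Ext.comp_zero]
  smul_mem' := by
    intro c g hg x
    have : ModuleCat.ofHom (c • g) = c • ModuleCat.ofHom g := rfl
    rw [this, Ext.mk₀_smul, Ext.comp_smul, hg x, smul_zero]

lemma smul_mem_zeroSub (n : ℕ) (r : R) (hr : r ∈ maximalIdeal R) (g : K →ₗ[R] F) :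
    r • g ∈ zeroSub (R := R) K F n := by
  intro x
  have : ModuleCat.ofHom (r • g) = r • ModuleCat.ofHom g := rfl
  rw [this, Ext.mk₀_smul, Ext.comp_smul]
  exact smul_ext_eq_zero _ _ r hr _

lemma toSpanSingleton_comp_mem (n : ℕ) (c : K →ₗ[R] R) (y : F)
    (hy : y ∈ maximalIdeal R • (⊤ : Submodule R F)) :
    (LinearMap.toSpanSingleton R F y) ∘ₗ c ∈ zeroSub (R := R) K F n := by
  refine Submodule.smul_induction_on (p := fun y =>
    (LinearMap.toSpanSingleton R F y) ∘ₗ c ∈ zeroSub (R := R) K F n) hy ?_ ?_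
  · intro r hr y' _
    have : (LinearMap.toSpanSingleton R F (r • y')) ∘ₗ c =
        r • ((LinearMap.toSpanSingleton R F y') ∘ₗ c) := by
      ext z
      simp [LinearMap.toSpanSingleton_apply, smul_smul, mul_comm]
    rw [this]
    exact smul_mem_zeroSub n r hr _
  · intro y₁ y₂ h₁ h₂
    have : (LinearMap.toSpanSingleton R F (y₁ + y₂)) ∘ₗ c =
        (LinearMap.toSpanSingleton R F y₁) ∘ₗ c + (LinearMap.toSpanSingleton R F y₂) ∘ₗ c := by
      ext z
      simp [LinearMap.toSpanSingleton_apply, smul_add]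
    rw [this]
    exact Submodule.add_mem _ h₁ h₂

/-- a map from a finite free module with image in `m F` induces zero on `Ext(k, -)` -/
theorem mem_zeroSub_of_range_le {ι : Type*} [Fintype ι] (b : Module.Basis ι R K) (n : ℕ)
    (f : K →ₗ[R] F) (hf : ∀ z, f z ∈ maximalIdeal R • (⊤ : Submodule R F)) :
    f ∈ zeroSub (R := R) K F n := by
  classical
  have : f = ∑ j, (LinearMap.toSpanSingleton R F (f (b j))) ∘ₗ (b.coord j) := by
    apply b.ext
    intro i
    simp only [LinearMap.coe_sum, Finset.sum_apply, LinearMap.coe_comp, Function.comp_apply,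
      Module.Basis.coord_apply, Module.Basis.repr_self, LinearMap.toSpanSingleton_apply]
    rw [Finset.sum_eq_single i]
    · simp
    · intro j _ hj
      simp [hj.symm]
    · simp
  rw [this]
  exact Submodule.sum_mem _ fun j _ => toSpanSingleton_comp_mem n _ _ (hf _)

end ZeroMap

end Groth.Agent.Helper7.AusBuch
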