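import Mathlib
import Groth.Prelude.Def_CAlg
import Groth.Agent.Helper7.AusBuchA

/-!
# Auslander–Buchsbaum formula: minimal presentations
-/

set_option autoImplicit false
set_option linter.style.haveILetI false
set_option linter.unusedSectionVars false
universe u

namespace Groth.Agent.Helper7.AusBuch

open CategoryTheory Abelian IsLocalRing TensorProduct

variable {R : Type u} [CommRing R] [IsLocalRing R]

/-- a minimal presentation of a finite module over a local ring -/
theorem exists_minimal_presentation (M : Type u) [AddCommGroup M] [Module R M] [Module.Finite R M] :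
    ∃ (b : ℕ) (f : (Fin b → R) →ₗ[R] M), Function.Surjective f ∧
      ∀ c ∈ LinearMap.ker f, c ∈ maximalIdeal R • (⊤ : Submodule R (Fin b → R)) := by
  classical
  let k := ResidueField R
  let B := Module.finBasis k (k ⊗[R] M)
  have hsurj : Function.Surjective (TensorProduct.mk R k M 1) :=
    TensorProduct.mk_surjective R M k Ideal.Quotient.mk_surjective
  choose v hv using fun i => hsurj (B i)
  refine ⟨_, Fintype.linearCombination R v, ?_, ?_⟩
  · rw [← LinearMap.range_eq_top, Fintype.range_linearCombination]
    exact IsLocalRing.span_eq_top_of_tmul_eq_basis v B hv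
  · intro c hc
    rw [LinearMap.mem_ker, Fintype.linearCombination_apply] at hc
    have h1 : ∑ i, (residue R (c i)) • B i = 0 := by
      have := congrArg (TensorProduct.mk R k M 1) hc
      rw [map_sum, map_zero] at this
      rw [← this]
      refine Finset.sum_congr rfl fun i _ => ?_
      rw [map_smul, hv i]
      rw [← algebraMap_smul k (c i) (B i)]
      rfl
    have h2 : ∀ i, residue R (c i) = 0 :=
      Fintype.linearIndependent_iff.mp B.linearIndependent _ h1
    have h3 : ∀ i, c i ∈ maximalIdeal R := fun i => by
      rw [← Ideal.Quotient.eq_zero_iff_mem]; exact h2 i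
    have h4 : c = ∑ i, c i • (Pi.single i 1 : Fin _ → R) := by
      ext j
      simp [Finset.sum_apply, Pi.single_apply]
    rw [h4]
    exact Submodule.sum_mem _ fun i _ => Submodule.smul_mem_smul (h3 i) Submodule.mem_top

end Groth.Agent.Helper7.AusBuch
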