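import Mathlib
import Groth.Prelude.Def_CAlg
import Groth.Agent.Helper7.AusBuchB

/-!
# Auslander–Buchsbaum formula
-/

set_option autoImplicit false
set_option linter.style.haveILetI false
set_option linter.unusedSectionVars false
universe u

namespace Groth.Agent.Helper7.AusBuch

open CategoryTheory Abelian IsLocalRing
open Groth.Agent.Helper2 Groth.Agent.Helper2.DepthRees Groth.Agent.Helper6.DepthLemma

variable {R : Type u} [CommRing R] [IsLocalRing R] [IsNoetherianRing R]

/-- finite free modules of positive rank have the depth of the ring -/
lemma depth_free (M : Type u) [AddCommGroup M] [Module R M] [Module.Finite R M] [Nontrivial M]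
    [Module.Free R M] : LocCoh.depth R M = LocCoh.depth R R := by
  have e := (Module.finBasis R M).equivFun
  have hs : 1 ≤ Module.finrank R M := by
    by_contra h
    have h0 : Module.finrank R M = 0 := by omega
    rw [h0] at e
    have : Subsingleton M := e.toEquiv.subsingleton
    exact not_subsingleton M this
  unfold LocCoh.depth
  rw [DepthCM.idealDepth_congr (maximalIdeal R) e]
  exact Groth.Agent.Helper6.DepthLemma.idealDepth_pi (maximalIdeal R) R _ hs

lemma free_of_hasPDLT_one (M : Type u) [AddCommGroup M] [Module R M] [Module.Finite R M]
    (h : HasProjectiveDimensionLT (ModuleCat.of R M) 1) : Module.Free R M := by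
  rw [← projective_iff_hasProjectiveDimensionLT_one] at h
  have hp : Module.Projective R M := (IsProjective.iff_projective _).2 h
  exact Module.free_of_flat_of_isLocalRing

/-- the key step for projective dimension one -/
lemma key_pd_one {b : ℕ} {M : Type u} [AddCommGroup M] [Module R M] [Module.Finite R M]
    (f : (Fin b → R) →ₗ[R] M) (hf : Function.Surjective f)
    (hker : ∀ c ∈ LinearMap.ker f, c ∈ maximalIdeal R • (⊤ : Submodule R (Fin b → R)))
    [Module.Free R (LinearMap.ker f)] (d : ℕ)
    (hK : ExtVan (maximalIdeal R) (LinearMap.ker f) d)
    (hM : ExtVan (maximalIdeal R) M d) : ExtVan (maximalIdeal R) (LinearMap.ker f) (d + 1) := by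
  intro i hi
  rcases Nat.lt_succ_iff_lt_or_eq.mp hi with hlt | rfl
  · exact hK i hlt
  have hfg : Function.Exact (LinearMap.ker f).subtype f := LinearMap.exact_subtype_ker_map f
  have hS := Groth.Agent.Helper1.TorLib.scOfLinear_shortExact (LinearMap.ker f).subtype f
    (Submodule.subtype_injective _) hf hfg
  have hz := mem_zeroSub_of_range_le (Module.finBasis R (LinearMap.ker f)) i
    (LinearMap.ker f).subtype (fun z => hker _ z.2)
  refine ⟨fun x y => ?_⟩
  have key : ∀ x₁ : Ext (Q (maximalIdeal R))
      (Groth.Agent.Helper1.TorLib.scOfLinear (LinearMap.ker f).subtype f hfg).X₁ i, x₁ = 0 := by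
    intro x₁
    have hx0 : x₁.comp (Ext.mk₀ (Groth.Agent.Helper1.TorLib.scOfLinear
        (LinearMap.ker f).subtype f hfg).f) (add_zero i) = 0 := hz x₁
    cases i with
    | zero =>
      haveI : Mono (Groth.Agent.Helper1.TorLib.scOfLinear (LinearMap.ker f).subtype f hfg).f :=
        hS.mono_f
      apply Ext.postcomp_mk₀_injective_of_mono (Q (maximalIdeal R))
        (Groth.Agent.Helper1.TorLib.scOfLinear (LinearMap.ker f).subtype f hfg).f
      rw [map_zero]
      exact hx0
    | succ j =>
      haveI : Subsingleton (Ext (Q (maximalIdeal R))
          (Groth.Agent.Helper1.TorLib.scOfLinear (LinearMap.ker f).subtype f hfg).X₃ j) :=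
        hM j (by omega)
      obtain ⟨x₃, hx₃⟩ := Ext.covariant_sequence_exact₁ (Q (maximalIdeal R)) hS x₁ hx0
        (n₀ := j) rfl
      rw [← hx₃, Subsingleton.elim x₃ 0, Ext.zero_comp]
  exact (key x).trans (key y).symm


/-- Auslander–Buchsbaum, in terms of `HasProjectiveDimensionLT` -/
theorem main_aux : ∀ (e : ℕ) (M : Type u) [AddCommGroup M] [Module R M] [Module.Finite R M]
    [Nontrivial M], HasProjectiveDimensionLT (ModuleCat.of R M) (e + 1) →
    ¬ HasProjectiveDimensionLT (ModuleCat.of R M) e →
    LocCoh.depth R R = e + LocCoh.depth R M := by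
  intro e
  induction e with
  | zero =>
    intro M _ _ _ _ h _
    have := free_of_hasPDLT_one M h
    rw [depth_free M]
    simp
  | succ e ih =>
    intro M _ _ _ _ h hn
    obtain ⟨b, f, hf, hker⟩ := exists_minimal_presentation (R := R) M
    have hSA := LinearMap.shortExact_shortComplexKer hf
    have hP2 : Projective (f.shortComplexKer).X₂ := by
      change Projective (ModuleCat.of R (Fin b → R))
      exact (IsProjective.iff_projective _).1 inferInstance
    have h1 : HasProjectiveDimensionLT (ModuleCat.of R (LinearMap.ker f)) (e + 1) :=
      (hSA.hasProjectiveDimensionLT_X₃_iff e hP2).1 h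
    have hKnt : Nontrivial (LinearMap.ker f) := by
      by_contra hK
      rw [not_nontrivial_iff_subsingleton] at hK
      have hinj : Function.Injective f := by
        rw [← LinearMap.ker_eq_bot]
        exact Submodule.eq_bot_of_subsingleton
      have eqv : (Fin b → R) ≃ₗ[R] M := LinearEquiv.ofBijective f ⟨hinj, hf⟩
      have : Module.Free R M := Module.Free.of_equiv eqv
      have hp : Projective (ModuleCat.of R M) := (IsProjective.iff_projective _).1 inferInstance
      rw [projective_iff_hasProjectiveDimensionLT_one] at hp
      exact hn (hasProjectiveDimensionLT_of_ge _ 1 _ (by omega))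
    have hKn : ¬ HasProjectiveDimensionLT (ModuleCat.of R (LinearMap.ker f)) e := by
      intro hc
      cases e with
      | zero =>
        rw [hasProjectiveDimensionLT_zero_iff_isZero] at hc
        have : Subsingleton (LinearMap.ker f) := ModuleCat.subsingleton_of_isZero hc
        exact not_subsingleton _ this
      | succ e' =>
        exact hn ((hSA.hasProjectiveDimensionLT_X₃_iff e' hP2).2 hc)
    have hIH := ih (LinearMap.ker f) h1 hKn
    -- depths are finite
    have hbpos : 1 ≤ b := by
      by_contra hb
      have hb0 : b = 0 := by omega
      subst hb0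
      have : Subsingleton M := hf.subsingleton
      exact not_subsingleton M this
    have hFnt : Nontrivial (Fin b → R) := by
      have : Nonempty (Fin b) := ⟨⟨0, hbpos⟩⟩
      infer_instance
    have hdF : LocCoh.depth R (Fin b → R) = LocCoh.depth R R := depth_free _
    obtain ⟨d, hd⟩ := ENat.ne_top_iff_exists.mp
      (DepthCM.idealDepth_ne_top (maximalIdeal R) R (Depth.smul_top_ne_top R R))
    obtain ⟨dK, hdK⟩ := ENat.ne_top_iff_exists.mp
      (DepthCM.idealDepth_ne_top (maximalIdeal R) (LinearMap.ker f)
        (Depth.smul_top_ne_top R (LinearMap.ker f)))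
    obtain ⟨dM, hdM⟩ := ENat.ne_top_iff_exists.mp
      (DepthCM.idealDepth_ne_top (maximalIdeal R) M (Depth.smul_top_ne_top R M))
    have hdF' : LocCoh.idealDepth (maximalIdeal R) (Fin b → R) = d := by
      rw [hd]; exact hdF
    unfold LocCoh.depth at hIH ⊢
    rw [← hd, ← hdK] at hIH
    rw [← hd, ← hdM]
    have hIH' : d = e + dK := by exact_mod_cast hIH
    have hfg : Function.Exact (LinearMap.ker f).subtype f := LinearMap.exact_subtype_ker_map f
    have hinj : Function.Injective (LinearMap.ker f).subtype := Submodule.subtype_injective _
    have hright : ∀ n : ℕ, n ≤ d → n + 1 ≤ dK → n ≤ dM := by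
      intro n h2 h1
      have := le_idealDepth_right (maximalIdeal R) (LinearMap.ker f).subtype f hinj hf hfg n
        (by rw [hdF']; exact_mod_cast h2) (by rw [← hdK]; exact_mod_cast h1)
      rw [← hdM] at this
      exact_mod_cast this
    have hleft : ∀ n : ℕ, n ≤ d → n ≤ dM + 1 → n ≤ dK := by
      intro n h2 h3
      have := le_idealDepth_left (maximalIdeal R) (LinearMap.ker f).subtype f hinj hf hfg n
        (by rw [hdF']; exact_mod_cast h2) (by rw [← hdM]; exact_mod_cast h3)
      rw [← hdK] at this
      exact_mod_cast this
    have goal : d = (e + 1) + dM := by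
      cases e with
      | zero =>
        -- pd = 1
        have hKfree := free_of_hasPDLT_one (LinearMap.ker f) h1
        have hdd : d = dK := by omega
        have h1' : d ≤ dM + 1 := by
          rcases Nat.eq_zero_or_pos d with h0 | hpos
          · omega
          · have := hright (d - 1) (by omega) (by omega)
            omega
        have h2' : ¬ d ≤ dM := by
          intro hle
          have hKv : ExtVan (maximalIdeal R) (LinearMap.ker f) d := by
            rw [← le_idealDepth_iff_extVan, ← hdK]
            exact_mod_cast hdd.le
          have hMv : ExtVan (maximalIdeal R) M d := by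
            rw [← le_idealDepth_iff_extVan, ← hdM]
            exact_mod_cast hle
          have := key_pd_one f hf hker d hKv hMv
          rw [← le_idealDepth_iff_extVan, ← hdK] at this
          have : d + 1 ≤ dK := by exact_mod_cast this
          omega
        omega
      | succ e' =>
        have h1' : dM + 1 ≤ d := by
          by_contra hc
          have := hleft d le_rfl (by omega)
          omega
        have h2' := hleft (dM + 1) h1' le_rfl
        have h3' : dK ≤ dM + 1 := by
          rcases Nat.eq_zero_or_pos dK with h0 | hpos
          · omega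
          · have := hright (dK - 1) (by omega) (by omega)
            omega
        omega
    exact_mod_cast goal

/-- **Auslander–Buchsbaum formula** -/
theorem main (M : Type u) [AddCommGroup M] [Module R M] [Module.Finite R M] [Nontrivial M]
    (e : ℕ) (he : projectiveDimension (ModuleCat.of R M) = e) :
    LocCoh.depth R R = e + LocCoh.depth R M := by
  refine main_aux e M ?_ ?_
  · rw [← projectiveDimension_lt_iff, he]
    exact_mod_cast Nat.lt_succ_self e
  · rw [← projectiveDimension_lt_iff, he]
    simp

end Groth.Agent.Helper7.AusBuch
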