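import Mathlib
import Groth.Prelude.Def_Formal2

/-! Mittag-Leffler towers of abelian groups have vanishing lim¹. -/

universe u

open CategoryTheory Opposite

namespace Groth.Agent.Helper7.MLLimOne

variable (G : ℕ → Type u) [∀ n, AddCommGroup (G n)] (t : ∀ n, G (n + 1) →+ G n)

/-- the tower as a functor -/
noncomputable abbrev Gf : ℕᵒᵖ ⥤ AddCommGrpCat.{u} :=
  Functor.ofOpSequence (X := fun n => AddCommGrpCat.of (G n)) (fun n => AddCommGrpCat.ofHom (t n))

/-- transition maps -/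
noncomputable def σ {m n : ℕ} (h : m ≤ n) : G n →+ G m := ((Gf G t).map (homOfLE h).op).hom

lemma σ_refl (m : ℕ) (x : G m) : σ G t (le_refl m) x = x := by
  have : (homOfLE (le_refl m)).op = 𝟙 (op m) := Subsingleton.elim _ _
  unfold σ
  rw [this, (Gf G t).map_id]
  rfl

lemma σ_trans {l m n : ℕ} (h1 : l ≤ m) (h2 : m ≤ n) (x : G n) :
    σ G t h1 (σ G t h2 x) = σ G t (h1.trans h2) x := by
  have : (homOfLE (h1.trans h2)).op = (homOfLE h2).op ≫ (homOfLE h1).op := Subsingleton.elim _ _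
  unfold σ
  rw [this, (Gf G t).map_comp]
  rfl

lemma σ_succ (n : ℕ) (x : G (n + 1)) : σ G t (Nat.le_succ n) x = t n x := by
  unfold σ
  have := Functor.ofOpSequence_map_homOfLE_succ (X := fun n => AddCommGrpCat.of (G n))
    (fun n => AddCommGrpCat.ofHom (t n)) n
  have h2 : (homOfLE (Nat.le_succ n)).op = (homOfLE (Nat.le_add_right n 1)).op :=
    Subsingleton.elim _ _
  rw [h2, this]
  rfl

lemma map_eq {j k : ℕᵒᵖ} (g : k ⟶ j) :
    ((Gf G t ⋙ forget AddCommGrpCat.{u}).map g : G k.unop → G j.unop) =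
      ⇑(σ G t (leOfHom g.unop)) := by
  have : g = (homOfLE (leOfHom g.unop)).op := Subsingleton.elim _ _
  conv_lhs => rw [this]
  rfl

theorem main
    (h : (Gf G t ⋙ forget AddCommGrpCat.{u}).IsMittagLeffler) :
    Function.Surjective (Formal2.towerDiff G t) := by
  classical
  -- ML in terms of σ
  have hML : ∀ n : ℕ, ∃ i, ∃ hi : n ≤ i, ∀ k (hk : n ≤ k) (x : G i),
      ∃ z : G k, σ G t hk z = σ G t hi x := by
    intro n
    obtain ⟨i, f, hf⟩ := h (op n)
    refine ⟨i.unop, leOfHom f.unop, fun k hk x => ?_⟩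
    obtain ⟨z, hz⟩ := hf (homOfLE hk).op ⟨x, rfl⟩
    refine ⟨z, ?_⟩
    have e1 := congrFun (map_eq G t (homOfLE hk).op) z
    have e2 := congrFun (map_eq G t f) x
    exact e1.symm.trans (hz.trans e2)
  choose J hJ1 hJ2 using hML
  let E : ∀ n, AddSubgroup (G n) := fun n => (σ G t (hJ1 n)).range
  -- (i)
  have hi : ∀ n k (hk : J n ≤ k), (σ G t ((hJ1 n).trans hk)).range = E n := by
    intro n k hk
    apply le_antisymm
    · rintro _ ⟨z, rfl⟩
      exact ⟨σ G t hk z, σ_trans G t (hJ1 n) hk z⟩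
    · rintro _ ⟨x, rfl⟩
      obtain ⟨z, hz⟩ := hJ2 n k ((hJ1 n).trans hk) x
      exact ⟨z, hz⟩
  -- (ii)
  have hii : ∀ n (e : G n), e ∈ E n → ∃ e' : G (n + 1), e' ∈ E (n + 1) ∧ t n e' = e := by
    intro n e he
    set k := max (J n) (J (n + 1)) with hk
    have hk1 : J n ≤ k := le_max_left _ _
    have hk2 : J (n + 1) ≤ k := le_max_right _ _
    rw [← hi n k hk1] at he
    obtain ⟨z, rfl⟩ := he
    refine ⟨σ G t ((hJ1 (n + 1)).trans hk2) z, ?_, ?_⟩
    · rw [← hi (n + 1) k hk2]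
      exact ⟨z, rfl⟩
    · rw [← σ_succ, σ_trans]
  -- monotone bound
  let Jm : ℕ → ℕ := fun n => Nat.rec (J 0) (fun n r => max r (J (n + 1))) n
  have hJm_succ : ∀ n, Jm (n + 1) = max (Jm n) (J (n + 1)) := fun n => rfl
  have hJm_ge : ∀ n, J n ≤ Jm n := by
    intro n
    cases n with
    | zero => exact le_rfl
    | succ n => rw [hJm_succ]; exact le_max_right _ _
  have hJm_mono : ∀ n, Jm n ≤ Jm (n + 1) := fun n => by rw [hJm_succ]; exact le_max_left _ _
  intro y
  let S : ∀ n k : ℕ, G n := fun n k => if hk : n ≤ k then σ G t hk (y k) else 0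
  have hSE : ∀ n k, Jm n ≤ k → S n k ∈ E n := by
    intro n k hk
    have hk' : J n ≤ k := (hJm_ge n).trans hk
    have : S n k = σ G t ((hJ1 n).trans hk') (y k) := dif_pos _
    rw [this, ← hi n k hk']
    exact ⟨y k, rfl⟩
  let x1 : ∀ n, G n := fun n => ∑ k ∈ Finset.range (Jm n), S n k
  have hterm : ∀ n k, S n k - t n (S (n + 1) k) = if k = n then y n else 0 := by
    intro n k
    rcases lt_trichotomy k n with hlt | rfl | hgt
    · have e1 : S n k = 0 := dif_neg (by omega)
      have e2 : S (n + 1) k = 0 := dif_neg (by omega)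
      rw [e1, e2, map_zero, sub_zero, if_neg (by omega)]
    · have e1 : S k k = σ G t (le_refl k) (y k) := dif_pos _
      have e2 : S (k + 1) k = 0 := dif_neg (by omega)
      rw [e1, e2, map_zero, sub_zero, if_pos rfl, σ_refl]
    · have hk1 : n + 1 ≤ k := hgt
      have e1 : S n k = σ G t (Nat.le_of_succ_le hk1) (y k) := dif_pos _
      have e2 : S (n + 1) k = σ G t hk1 (y k) := dif_pos _
      rw [e1, e2, ← σ_succ, σ_trans, if_neg (by omega)]
      exact sub_self _
  have hA : ∀ n, y n - (x1 n - t n (x1 (n + 1))) ∈ E n := by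
    intro n
    have hn1 : n < Jm (n + 1) := by
      have := hJ1 (n + 1)
      have := hJm_ge (n + 1)
      omega
    have h1 : ∑ k ∈ Finset.range (Jm (n + 1)), (S n k - t n (S (n + 1) k)) = y n := by
      rw [Finset.sum_congr rfl (fun k _ => hterm n k), Finset.sum_ite_eq',
        if_pos (Finset.mem_range.2 hn1)]
    rw [Finset.sum_sub_distrib, ← map_sum] at h1
    have h2 : t n (x1 (n + 1)) = ∑ k ∈ Finset.range (Jm (n + 1)), S n k - y n := by
      rw [← h1]; abel
    have h3 : ∑ k ∈ Finset.range (Jm (n + 1)), S n k =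
        x1 n + ∑ k ∈ Finset.Ico (Jm n) (Jm (n + 1)), S n k := by
      rw [Finset.range_eq_Ico, ← Finset.sum_Ico_consecutive _ (Nat.zero_le _) (hJm_mono n)]
      show _ = ∑ k ∈ Finset.range (Jm n), S n k + _
      rw [Finset.range_eq_Ico]
    have h4 : y n - (x1 n - t n (x1 (n + 1))) = ∑ k ∈ Finset.Ico (Jm n) (Jm (n + 1)), S n k := by
      rw [h2, h3]; abel
    rw [h4]
    exact AddSubgroup.sum_mem _ fun k hk => hSE n k (Finset.mem_Ico.1 hk).1
  -- Step B
  choose lift hlift1 hlift2 using hii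
  let z : ∀ n, E n := fun n => Nat.rec (motive := fun n => E n) 0
    (fun n zn => ⟨lift n ((zn : G n) - (y n - (x1 n - t n (x1 (n + 1)))))
        ((E n).sub_mem zn.2 (hA n)),
      hlift1 n _ _⟩) n
  have hz : ∀ n, t n (z (n + 1) : G (n + 1)) = (z n : G n) - (y n - (x1 n - t n (x1 (n + 1)))) :=
    fun n => hlift2 n _ _
  refine ⟨fun n => x1 n + (z n : G n), ?_⟩
  funext n
  show (x1 n + (z n : G n)) - t n (x1 (n + 1) + (z (n + 1) : G (n + 1))) = y n
  rw [map_add, hz]
  abel

end Groth.Agent.Helper7.MLLimOne
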