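import Mathlib
import Groth.Prelude.Def_Fitting

set_option linter.style.haveILetI false
set_option linter.unusedSectionVars false

namespace Groth.Agent.Helper7.FittLib

open Matrix

universe u v
variable {R : Type u} [CommRing R] {M : Type v} [AddCommGroup M] [Module R M]

/-- The module of relations among a finite family. -/
def rel (R : Type u) [CommRing R] {M : Type v} [AddCommGroup M] [Module R M] {ι : Type*} [Fintype ι]
    (x : ι → M) : Submodule R (ι → R) :=
  LinearMap.ker (Fintype.linearCombination R x)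

lemma mem_rel {ι : Type*} [Fintype ι] (x : ι → M) (c : ι → R) :
    c ∈ rel R x ↔ ∑ i, c i • x i = 0 := by
  simp [rel, Fintype.linearCombination_apply]

/-- The ideal generated by determinants of `n × n` matrices whose first `p` rows lie in `Z`. -/
def big {n : ℕ} (Z : Set (Fin n → R)) (p : ℕ) : Ideal R :=
  Ideal.span {d | ∃ a : Matrix (Fin n) (Fin n) R, (∀ i : Fin n, (i : ℕ) < p → a i ∈ Z) ∧ d = a.det}

lemma det_mem_big {n : ℕ} {Z : Set (Fin n → R)} {p : ℕ} (a : Matrix (Fin n) (Fin n) R)
    (h : ∀ i : Fin n, (i : ℕ) < p → a i ∈ Z) : a.det ∈ big Z p :=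
  Ideal.subset_span ⟨a, h, rfl⟩

lemma big_le_iff {n : ℕ} {Z : Set (Fin n → R)} {p : ℕ} {I : Ideal R} :
    big Z p ≤ I ↔ ∀ a : Matrix (Fin n) (Fin n) R, (∀ i : Fin n, (i : ℕ) < p → a i ∈ Z) →
      a.det ∈ I := by
  constructor
  · intro h a ha
    exact h (det_mem_big a ha)
  · intro h
    refine Ideal.span_le.mpr ?_
    rintro d ⟨a, ha, rfl⟩
    exact h a ha

lemma big_zero {n : ℕ} (Z : Set (Fin n → R)) : big Z 0 = ⊤ := by
  rw [Ideal.eq_top_iff_one]
  have := det_mem_big (Z := Z) (p := 0) (1 : Matrix (Fin n) (Fin n) R) (by simp)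
  simpa using this

lemma big_anti {n : ℕ} (Z : Set (Fin n → R)) {p q : ℕ} (h : p ≤ q) : big Z q ≤ big Z p := by
  rw [big_le_iff]
  intro a ha
  exact det_mem_big a (fun i hi => ha i (lt_of_lt_of_le hi h))

lemma big_mono {n : ℕ} {Z Z' : Set (Fin n → R)} (h : Z ⊆ Z') (p : ℕ) : big Z p ≤ big Z' p := by
  rw [big_le_iff]
  intro a ha
  exact det_mem_big a (fun i hi => h (ha i hi))

lemma det_eq_of_col_op {n : Type*} [DecidableEq n] [Fintype n] {A B : Matrix n n R} (c : n → R)
    (k : n) (hk : c k = 0) (A_eq : ∀ i j, A i j = B i j + c j * B i k) : det A = det B := by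
  rw [← det_transpose A, ← det_transpose B]
  exact det_eq_of_forall_row_eq_smul_add_const c k hk (fun i j => by simp [A_eq])

lemma succAbove_val_le {n : ℕ} (i : Fin (n + 1)) (j : Fin n) : ((i.succAbove j : Fin (n+1)) : ℕ) ≤ j + 1 := by
  unfold Fin.succAbove
  split_ifs <;> simp

/-- One-step lemma: adding a redundant generator at the end. -/
theorem big_snoc {n : ℕ} (x : Fin n → M) (y : M) (c : Fin n → R) (hy : ∑ j, c j • x j = y) (p : ℕ) :
    big (rel R (Fin.snoc (α := fun _ => M) x y) : Set (Fin (n + 1) → R)) (p + 1) =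
      big (rel R x : Set (Fin n → R)) p := by
  apply le_antisymm
  · rw [big_le_iff]
    intro a' ha'
    -- column operation
    let a'' : Matrix (Fin (n+1)) (Fin (n+1)) R :=
      Matrix.of fun i j => a' i j + (Fin.snoc (α := fun _ => R) c 0 : Fin (n+1) → R) j * a' i (Fin.last n)
    have hdet : a''.det = a'.det :=
      det_eq_of_col_op (Fin.snoc (α := fun _ => R) c 0 : Fin (n+1) → R) (Fin.last n) (by simp)
        (fun i j => rfl)
    rw [← hdet, det_succ_column a'' (Fin.last n)]
    refine Ideal.sum_mem _ (fun i _ => Ideal.mul_mem_left _ _ ?_)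
    apply det_mem_big
    intro i' hi'
    have hs : ((i.succAbove i' : Fin (n+1)) : ℕ) < p + 1 :=
      lt_of_le_of_lt (succAbove_val_le i i') (by omega)
    have hrel := ha' _ hs
    rw [SetLike.mem_coe, mem_rel, Fin.sum_univ_castSucc] at hrel
    simp only [Fin.snoc_castSucc, Fin.snoc_last] at hrel
    rw [SetLike.mem_coe, mem_rel]
    simp only [submatrix_apply, Fin.succAbove_last, a'', Matrix.of_apply, Fin.snoc_castSucc]
    rw [← hrel, ← hy]
    simp only [add_smul, Finset.sum_add_distrib, Finset.smul_sum, smul_smul]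
    congr 1
    refine Finset.sum_congr rfl (fun j _ => ?_)
    rw [mul_comm]
  · rw [big_le_iff]
    intro a ha
    let a' : Matrix (Fin (n+1)) (Fin (n+1)) R :=
      Matrix.of (Fin.cons (α := fun _ => Fin (n+1) → R) (Fin.snoc (α := fun _ => R) (fun j => - c j) 1)
        (fun i => Fin.snoc (α := fun _ => R) (a i) 0))
    have hdet : a'.det = (-1) ^ n * a.det := by
      rw [det_succ_column a' (Fin.last n), Fin.sum_univ_succ]
      have h0 : ∀ i : Fin n, a' i.succ (Fin.last n) = 0 := by
        intro i
        simp [a']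
      have h1 : a' 0 (Fin.last n) = 1 := by simp [a']
      have h2 : a'.submatrix Fin.succ Fin.castSucc = a := by
        ext i j
        simp [a']
      simp [h0, h1, h2]
    have hmem : a'.det ∈ big (rel R (Fin.snoc (α := fun _ => M) x y) : Set (Fin (n + 1) → R)) (p + 1) := by
      apply det_mem_big
      intro i
      refine Fin.cases ?_ (fun i' => ?_) i
      · intro _
        rw [SetLike.mem_coe, mem_rel, Fin.sum_univ_castSucc]
        simp [a', ← hy]
      · intro hi'
        have : (i' : ℕ) < p := by simpa using hi'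
        have := ha i' this
        rw [SetLike.mem_coe, mem_rel] at this
        rw [SetLike.mem_coe, mem_rel, Fin.sum_univ_castSucc]
        simpa [a'] using this
    have : a.det = (-1) ^ n * a'.det := by
      rw [hdet, ← mul_assoc, ← mul_pow]; simp
    rw [this]
    exact Ideal.mul_mem_left _ _ hmem

/-- The candidate Fitting ideal computed from a fixed tuple of generators. -/
def fit (R : Type u) [CommRing R] {M : Type v} [AddCommGroup M] [Module R M] {n : ℕ} (x : Fin n → M)
    (r : ℕ) : Ideal R := big (rel R x : Set (Fin n → R)) (n - r)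

theorem fit_snoc {n : ℕ} (x : Fin n → M) (y : M) (hy : y ∈ Submodule.span R (Set.range x)) (r : ℕ) :
    fit R (Fin.snoc (α := fun _ => M) x y : Fin (n+1) → M) r = fit R x r := by
  obtain ⟨c, hc⟩ := (Submodule.mem_span_range_iff_exists_fun R).mp hy
  unfold fit
  by_cases h : r ≤ n
  · have : n + 1 - r = (n - r) + 1 := by omega
    rw [this]
    exact big_snoc x y c hc _
  · have h1 : n + 1 - r = 0 := by omega
    have h2 : n - r = 0 := by omega
    rw [h1, h2, big_zero, big_zero]

theorem fit_append {n : ℕ} (x : Fin n → M) (r : ℕ) : ∀ (m : ℕ) (y : Fin m → M),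
    (∀ i, y i ∈ Submodule.span R (Set.range x)) → fit R (Fin.append x y) r = fit R x r := by
  intro m
  induction m with
  | zero =>
    intro y _
    have : y = Fin.elim0 := by funext i; exact i.elim0
    rw [this, Fin.append_elim0]
    rfl
  | succ m ih =>
    intro y hy
    have hy' : y = Fin.snoc (α := fun _ => M) (Fin.init y) (y (Fin.last m)) := (Fin.snoc_init_self y).symm
    rw [hy', Fin.append_snoc]
    have : fit R (Fin.snoc (α := fun _ => M) (Fin.append x (Fin.init y)) (y (Fin.last m)) : Fin (n + m + 1) → M) r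
        = fit R (Fin.append x (Fin.init y)) r := by
      apply fit_snoc
      refine Submodule.span_mono ?_ (hy (Fin.last m))
      rintro _ ⟨i, rfl⟩
      exact ⟨Fin.castAdd m i, Fin.append_left _ _ _⟩
    exact this.trans (ih (Fin.init y) (fun i => hy _))

theorem big_perm_le {n : ℕ} (x : Fin n → M) (σ : Equiv.Perm (Fin n)) (p : ℕ) :
    big (rel R (x ∘ σ) : Set (Fin n → R)) p ≤ big (rel R x : Set (Fin n → R)) p := by
  rw [big_le_iff]
  intro a ha
  let b : Matrix (Fin n) (Fin n) R := a.submatrix id σ.symm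
  have hb : b.det ∈ big (rel R x : Set (Fin n → R)) p := by
    apply det_mem_big
    intro i hi
    have := ha i hi
    rw [SetLike.mem_coe, mem_rel] at this ⊢
    rw [← this, ← Equiv.sum_comp σ]
    simp [b]
  have hdet : b.det = (Equiv.Perm.sign σ.symm : ℤˣ) * a.det := det_permute' _ _
  rcases Int.units_eq_one_or (Equiv.Perm.sign σ.symm) with h | h
  · rw [h] at hdet
    simp only [Units.val_one, Int.cast_one, one_mul] at hdet
    rwa [← hdet]
  · rw [h] at hdet
    simp only [Units.val_neg, Units.val_one, Int.cast_neg, Int.cast_one, neg_mul, one_mul] at hdet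
    have : a.det = - b.det := by rw [hdet, neg_neg]
    rw [this]
    exact neg_mem hb

theorem fit_reindex {n n' : ℕ} (x : Fin n → M) (σ : Fin n' ≃ Fin n) (r : ℕ) :
    fit R (x ∘ σ) r = fit R x r := by
  have hn : n' = n := by simpa using Fintype.card_congr σ
  subst hn
  unfold fit
  apply le_antisymm (big_perm_le x σ _)
  have := big_perm_le (R := R) (x ∘ σ) σ.symm (n' - r)
  have h2 : (x ∘ σ) ∘ σ.symm = x := by funext i; simp
  rwa [h2] at this

theorem fit_swap {n m : ℕ} (x : Fin n → M) (y : Fin m → M) (r : ℕ) :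
    fit R (Fin.append x y) r = fit R (Fin.append y x) r := by
  let σ : Fin (n + m) ≃ Fin (m + n) :=
    finSumFinEquiv.symm.trans ((Equiv.sumComm _ _).trans finSumFinEquiv)
  have : Fin.append x y = Fin.append y x ∘ σ := by
    funext i
    refine Fin.addCases (fun i' => ?_) (fun i' => ?_) i
    · simp [σ]
    · simp [σ]
  rw [this, fit_reindex]

theorem fit_indep {n m : ℕ} (x : Fin n → M) (y : Fin m → M)
    (hx : Submodule.span R (Set.range x) = ⊤) (hy : Submodule.span R (Set.range y) = ⊤) (r : ℕ) :
    fit R x r = fit R y r := by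
  rw [← fit_append x r m y (fun i => by rw [hx]; trivial), fit_swap,
    fit_append y r n x (fun i => by rw [hy]; trivial)]

theorem fitt_eq_fit {n : ℕ} (x : Fin n → M) (hx : Submodule.span R (Set.range x) = ⊤) (r : ℕ) :
    Fitt.ideal R M r = fit R x r := by
  apply le_antisymm
  · refine Ideal.span_le.mpr ?_
    rintro d ⟨m, y, a, hy, ha, rfl⟩
    rw [fit_indep x y hx hy]
    apply det_mem_big
    intro i hi
    rw [SetLike.mem_coe, mem_rel]
    exact ha i hi
  · unfold fit
    rw [big_le_iff]
    intro a ha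
    refine Ideal.subset_span ⟨n, x, a, hx, fun i hi => ?_, rfl⟩
    have := ha i hi
    rwa [SetLike.mem_coe, mem_rel] at this

end Groth.Agent.Helper7.FittLib
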