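import Mathlib
import Groth.Agent.Helper7.Fitt1

set_option linter.style.haveILetI false
set_option linter.unusedSectionVars false

namespace Groth.Agent.Helper7.FittLib

open Matrix

universe u v
variable {R : Type u} [CommRing R] {M : Type v} [AddCommGroup M] [Module R M]

/-- The ideal generated by the `p × p` minors of the matrices with rows in `Z`. -/
def minors {ι : Type*} (Z : Set (ι → R)) (p : ℕ) : Ideal R :=
  Ideal.span {d | ∃ (z : Fin p → (ι → R)) (e : Fin p → ι), (∀ a, z a ∈ Z) ∧
    d = (Matrix.of fun a b => z a (e b)).det}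

lemma det_mem_minors {ι : Type*} {Z : Set (ι → R)} {p : ℕ} (z : Fin p → (ι → R)) (e : Fin p → ι)
    (hz : ∀ a, z a ∈ Z) : (Matrix.of fun a b => z a (e b)).det ∈ minors Z p :=
  Ideal.subset_span ⟨z, e, hz, rfl⟩

lemma minors_le_iff {ι : Type*} {Z : Set (ι → R)} {p : ℕ} {I : Ideal R} :
    minors Z p ≤ I ↔ ∀ (z : Fin p → (ι → R)) (e : Fin p → ι), (∀ a, z a ∈ Z) →
      (Matrix.of fun a b => z a (e b)).det ∈ I := by
  constructor
  · intro h z e hz
    exact h (det_mem_minors z e hz)
  · intro h
    refine Ideal.span_le.mpr ?_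
    rintro d ⟨z, e, hz, rfl⟩
    exact h z e hz

lemma minors_zero {ι : Type*} (Z : Set (ι → R)) : minors Z 0 = ⊤ := by
  rw [Ideal.eq_top_iff_one]
  have := det_mem_minors (Z := Z) (p := 0) (fun a => a.elim0) (fun a => a.elim0) (fun a => a.elim0)
  simpa using this

lemma minors_mono {ι : Type*} {Z Z' : Set (ι → R)} (h : Z ⊆ Z') (p : ℕ) :
    minors Z p ≤ minors Z' p := by
  rw [minors_le_iff]
  intro z e hz
  exact det_mem_minors z e (fun a => h (hz a))

lemma minors_comp_le {ι κ : Type*} (Z : Set (ι → R)) (f : κ → ι) (p : ℕ) :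
    minors ((fun z : ι → R => z ∘ f) '' Z) p ≤ minors Z p := by
  rw [minors_le_iff]
  intro z e hz
  choose w hw hwz using hz
  have : (Matrix.of fun a b => z a (e b)) = (Matrix.of fun a b => w a ((f ∘ e) b)) := by
    ext a b
    simp [← hwz a]
  rw [this]
  exact det_mem_minors w (f ∘ e) hw

theorem det_mem_minors_of_rows : ∀ (n : ℕ) (Z : Set (Fin n → R)) (p : ℕ) (_ : p ≤ n)
    (a : Matrix (Fin n) (Fin n) R), (∀ i : Fin n, (i : ℕ) < p → a i ∈ Z) → a.det ∈ minors Z p := by
  intro n
  induction n with
  | zero =>
    intro Z p hp a _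
    have : p = 0 := by omega
    subst this
    rw [minors_zero]; trivial
  | succ n ih =>
    intro Z p hp a ha
    by_cases hpn : p = n + 1
    · subst hpn
      have : a = Matrix.of fun i j => a i (id j) := by ext i j; rfl
      rw [this]
      exact det_mem_minors (fun i => a i) id (fun i => ha i i.2)
    · have hp' : p ≤ n := by omega
      rw [det_succ_row a (Fin.last n)]
      refine Ideal.sum_mem _ (fun j _ => Ideal.mul_mem_left _ _ ?_)
      refine minors_comp_le Z j.succAbove p ?_
      apply ih _ p hp'
      intro i hi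
      refine ⟨a (Fin.castSucc i), ha _ (by simpa using hi), ?_⟩
      funext k
      simp [Fin.succAbove_last]

theorem big_le_minors {n : ℕ} (Z : Set (Fin n → R)) (p : ℕ) (hp : p ≤ n) :
    big Z p ≤ minors Z p := by
  rw [big_le_iff]
  exact det_mem_minors_of_rows n Z p hp

theorem minors_le_big {n : ℕ} (Z : Set (Fin n → R)) (p : ℕ) (hp : p ≤ n) :
    minors Z p ≤ big Z p := by
  classical
  rw [minors_le_iff]
  intro z e hz
  by_cases he : Function.Injective e
  · -- extend `e` to a permutation
    have hcard : Fintype.card (Fin n) = (Finset.univ : Finset (Fin n)).card := by simp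
    let f : Fin n → Fin n := fun i => if h : (i : ℕ) < p then e ⟨i, h⟩ else i
    have hinj : Set.InjOn f {i : Fin n | (i : ℕ) < p} := by
      intro i hi j hj hij
      simp only [Set.mem_ofPred_eq] at hi hj
      simp only [f, dif_pos hi, dif_pos hj] at hij
      have := he hij
      exact Fin.ext (by simpa using this)
    obtain ⟨g, hg⟩ := Set.MapsTo.exists_equiv_extend_of_card_eq (t := (Finset.univ : Finset (Fin n)))
      hcard (s := {i : Fin n | (i : ℕ) < p}) (f := f) (fun i _ => by simp) hinj
    let σ : Equiv.Perm (Fin n) := g.trans (Equiv.subtypeUnivEquiv (fun x => Finset.mem_univ x))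
    have hσ : ∀ (i : Fin n) (h : (i : ℕ) < p), σ i = e ⟨i, h⟩ := by
      intro i h
      have := hg i h
      simp only [σ, Equiv.trans_apply, Equiv.subtypeUnivEquiv_apply, this, f, dif_pos h]
    let a : Matrix (Fin n) (Fin n) R :=
      Matrix.of fun i j => if h : (i : ℕ) < p then z ⟨i, h⟩ j else (Pi.single (σ i) 1 : Fin n → R) j
    have ha : a.det ∈ big Z p := by
      apply det_mem_big
      intro i hi
      have : a i = z ⟨i, hi⟩ := by
        funext j
        simp only [a, Matrix.of_apply, dif_pos hi]
      rw [this]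
      exact hz _
    let b : Matrix (Fin n) (Fin n) R := a.submatrix id σ
    have hb : b.det ∈ big Z p := by
      have hdet : b.det = (Equiv.Perm.sign σ : ℤˣ) * a.det := det_permute' _ _
      rw [hdet]
      exact Ideal.mul_mem_left _ _ ha
    have hblock := twoBlockTriangular_det b (fun i : Fin n => (i : ℕ) < p) (by
      intro i hi j hj
      simp only [b, a, submatrix_apply, id, Matrix.of_apply, dif_neg hi]
      rw [Pi.single_apply, if_neg]
      intro h
      have := σ.injective h
      omega)
    have h1 : (toSquareBlockProp b fun i : Fin n => ¬ (i : ℕ) < p) = 1 := by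
      ext i j
      simp only [toSquareBlockProp, toBlock_apply, b, a, submatrix_apply, id, Matrix.of_apply, dif_neg i.2]
      rw [Pi.single_apply, Matrix.one_apply]
      by_cases hij : i = j
      · simp [hij]
      · rw [if_neg hij, if_neg]
        intro h
        exact hij (Subtype.ext (σ.injective h).symm)
    rw [h1, det_one, mul_one] at hblock
    let ε : Fin p ≃ {i : Fin n // (i : ℕ) < p} :=
      { toFun := fun a => ⟨Fin.castLE hp a, by simp⟩
        invFun := fun i => ⟨i.1, i.2⟩
        left_inv := fun a => by simp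
        right_inv := fun i => by simp }
    have h2 : (toSquareBlockProp b fun i : Fin n => (i : ℕ) < p).submatrix ε ε
        = Matrix.of fun a b => z a (e b) := by
      ext i j
      have hi : ((Fin.castLE hp i : Fin n) : ℕ) < p := by simp
      have hj : ((Fin.castLE hp j : Fin n) : ℕ) < p := by simp
      simp only [toSquareBlockProp, toBlock_apply, b, a, submatrix_apply, id, Matrix.of_apply, ε,
        Equiv.coe_fn_mk, dif_pos hi, hσ _ hj]
      rfl
    rw [← h2, det_submatrix_equiv_self, ← hblock]
    exact hb
  · -- two equal columns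
    rw [Function.Injective] at he
    push Not at he
    obtain ⟨b, b', hbb, hne⟩ := he
    rw [det_zero_of_column_eq hne (fun k => by simp [hbb])]
    exact Ideal.zero_mem _

theorem big_eq_minors {n : ℕ} (Z : Set (Fin n → R)) (p : ℕ) (hp : p ≤ n) :
    big Z p = minors Z p :=
  le_antisymm (big_le_minors Z p hp) (minors_le_big Z p hp)


lemma of_update {ι : Type*} {p : ℕ} (z : Fin p → (ι → R)) (e : Fin p → ι) (a₀ : Fin p) (w : ι → R) :
    (Matrix.of fun a b => (Function.update z a₀ w) a (e b)) =
      updateRow (Matrix.of fun a b => z a (e b)) a₀ (w ∘ e) := by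
  ext a b
  by_cases h : a = a₀
  · subst h; simp
  · simp [h]

theorem minors_span {ι : Type*} (Z : Set (ι → R)) (p : ℕ) :
    minors (Submodule.span R Z : Set (ι → R)) p = minors Z p := by
  classical
  apply le_antisymm _ (minors_mono Submodule.subset_span p)
  rw [minors_le_iff]
  intro z e hz
  have key : ∀ (T : Finset (Fin p)) (z : Fin p → (ι → R)), (∀ a ∈ T, z a ∈ Submodule.span R Z) →
      (∀ a, a ∉ T → z a ∈ Z) → (Matrix.of fun a b => z a (e b)).det ∈ minors Z p := by
    intro T
    induction T using Finset.induction_on with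
    | empty =>
      intro z _ h2
      exact det_mem_minors z e (fun a => h2 a (by simp))
    | insert a₀ T ha₀ ih =>
      intro z h1 h2
      have hall : ∀ w ∈ Submodule.span R Z,
          (Matrix.of fun a b => (Function.update z a₀ w) a (e b)).det ∈ minors Z p := by
        intro w hw
        induction hw using Submodule.span_induction with
        | mem w hw =>
          apply ih
          · intro a ha
            have : a ≠ a₀ := fun h => ha₀ (h ▸ ha)
            rw [Function.update_of_ne this]
            exact h1 a (Finset.mem_insert_of_mem ha)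
          · intro a ha
            by_cases h : a = a₀
            · subst h; simpa using hw
            · rw [Function.update_of_ne h]
              exact h2 a (by simp [h, ha])
        | zero =>
          rw [of_update, det_eq_zero_of_row_eq_zero a₀ (fun j => by simp)]
          exact Ideal.zero_mem _
        | add w1 w2 _ _ h1' h2' =>
          rw [of_update] at h1' h2' ⊢
          have : (w1 + w2) ∘ e = w1 ∘ e + w2 ∘ e := rfl
          rw [this, det_updateRow_add]
          exact Ideal.add_mem _ h1' h2'
        | smul c w _ h' =>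
          rw [of_update] at h' ⊢
          have : (c • w) ∘ e = c • (w ∘ e) := rfl
          rw [this, det_updateRow_smul]
          exact Ideal.mul_mem_left _ _ h'
      have := hall (z a₀) (h1 a₀ (Finset.mem_insert_self _ _))
      rwa [Function.update_eq_self] at this
  exact key Finset.univ z (fun a _ => hz a) (fun a ha => absurd (Finset.mem_univ a) ha)

theorem minors_map {ι : Type*} {R' : Type*} [CommRing R'] (φ : R →+* R') (Z : Set (ι → R)) (p : ℕ) :
    minors ((fun z : ι → R => fun i => φ (z i)) '' Z) p = (minors Z p).map φ := by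
  apply le_antisymm
  · rw [minors_le_iff]
    intro z e hz
    choose w hw hwz using hz
    have : (Matrix.of fun a b => z a (e b)) = φ.mapMatrix (Matrix.of fun a b => w a (e b)) := by
      ext a b
      simp [← hwz a]
    rw [this, ← RingHom.map_det]
    exact Ideal.mem_map_of_mem _ (det_mem_minors w e hw)
  · rw [Ideal.map_le_iff_le_comap, minors_le_iff]
    intro z e hz
    rw [Ideal.mem_comap, RingHom.map_det]
    have : φ.mapMatrix (Matrix.of fun a b => z a (e b)) =
        (Matrix.of fun a b => (fun a => fun i => φ (z a i)) a (e b)) := by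
      ext a b
      simp
    rw [this]
    exact det_mem_minors (Z := (fun z : ι → R => fun i => φ (z i)) '' Z) _ e
      (fun a => ⟨z a, hz a, rfl⟩)

theorem minors_reindex {ι κ : Type*} (Z : Set (ι → R)) (σ : κ ≃ ι) (p : ℕ) :
    minors ((fun z : ι → R => z ∘ σ) '' Z) p = minors Z p := by
  apply le_antisymm (minors_comp_le Z σ p)
  have := minors_comp_le ((fun z : ι → R => z ∘ σ) '' Z) σ.symm p
  refine le_trans (minors_mono ?_ p) this
  intro z hz
  exact ⟨z ∘ σ, ⟨z, hz, rfl⟩, by funext i; simp⟩

theorem minors_succ_le {ι : Type*} (Z : Set (ι → R)) (p : ℕ) : minors Z (p + 1) ≤ minors Z p := by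
  rw [minors_le_iff]
  intro z e hz
  rw [det_succ_row_zero]
  refine Ideal.sum_mem _ (fun j _ => Ideal.mul_mem_left _ _ ?_)
  have : (Matrix.of fun a b => z a (e b)).submatrix Fin.succ j.succAbove =
      Matrix.of fun a b => (z ∘ Fin.succ) a ((e ∘ j.succAbove) b) := by
    ext a b; simp
  rw [this]
  exact det_mem_minors _ _ (fun a => hz _)

theorem minors_anti {ι : Type*} (Z : Set (ι → R)) {p q : ℕ} (h : p ≤ q) : minors Z q ≤ minors Z p := by
  induction q, h using Nat.le_induction with
  | base => exact le_rfl
  | succ q _ ih => exact (minors_succ_le Z q).trans ih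

theorem minors_eq_bot_of_card_lt {ι : Type*} [Fintype ι] (Z : Set (ι → R)) {p : ℕ}
    (h : Fintype.card ι < p) : minors Z p = ⊥ := by
  rw [eq_bot_iff, minors_le_iff]
  intro z e _
  obtain ⟨b, b', hne, hbb⟩ := Fintype.exists_ne_map_eq_of_card_lt e (by simpa using h)
  rw [det_zero_of_column_eq hne (fun k => by simp [hbb])]
  exact Ideal.zero_mem _

theorem minors_eq_bot_of_subset_zero {ι : Type*} (Z : Set (ι → R)) (hZ : Z ⊆ {0}) {p : ℕ}
    (h : 0 < p) : minors Z p = ⊥ := by
  rw [eq_bot_iff, minors_le_iff]
  intro z e hz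
  have h0 : z ⟨0, h⟩ = 0 := hZ (hz _)
  rw [det_eq_zero_of_row_eq_zero ⟨0, h⟩ (fun j => by simp [h0])]
  exact Ideal.zero_mem _

/-- The Fitting ideal in terms of minors of any spanning set of relations (tuples indexed by
`Fin n`). -/
theorem fitt_eq_minors_fin {n : ℕ} (x : Fin n → M) (hx : Submodule.span R (Set.range x) = ⊤)
    (Z : Set (Fin n → R)) (hZ : Submodule.span R Z = rel R x) (r : ℕ) :
    Fitt.ideal R M r = minors Z (n - r) := by
  rw [fitt_eq_fit x hx r, fit, big_eq_minors _ _ (Nat.sub_le n r), ← hZ, minors_span]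

lemma rel_comp_equiv {ι κ : Type*} [Fintype ι] [Fintype κ] (x : ι → M) (σ : κ ≃ ι) :
    (rel R (x ∘ σ) : Set (κ → R)) = (fun z : ι → R => z ∘ σ) '' (rel R x : Set (ι → R)) := by
  ext c
  simp only [SetLike.mem_coe, mem_rel, Set.mem_image, Function.comp_apply]
  constructor
  · intro h
    refine ⟨c ∘ σ.symm, ?_, by funext i; simp⟩
    rw [← h, ← Equiv.sum_comp σ]
    simp
  · rintro ⟨z, hz, rfl⟩
    rw [← hz, ← Equiv.sum_comp σ]
    simp

/-- The Fitting ideal in terms of minors of any spanning set of relations. -/
theorem fitt_eq_minors {ι : Type*} [Fintype ι] (x : ι → M)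
    (hx : Submodule.span R (Set.range x) = ⊤)
    (Z : Set (ι → R)) (hZ : Submodule.span R Z = rel R x) (r : ℕ) :
    Fitt.ideal R M r = minors Z (Fintype.card ι - r) := by
  let σ : Fin (Fintype.card ι) ≃ ι := (Fintype.equivFin ι).symm
  have hx' : Submodule.span R (Set.range (x ∘ σ)) = ⊤ := by
    rw [Set.range_comp, σ.surjective.range_eq, Set.image_univ, hx]
  rw [fitt_eq_fit (x ∘ σ) hx' r, fit, big_eq_minors _ _ (Nat.sub_le _ r), rel_comp_equiv, ← hZ]
  have : (fun z : ι → R => z ∘ σ) '' (Submodule.span R Z : Set (ι → R)) =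
      (Submodule.span R ((fun z : ι → R => z ∘ σ) '' Z) : Set _) := by
    have h := Submodule.map_span (LinearMap.funLeft R R σ) Z
    have h2 : (LinearMap.funLeft R R σ : (ι → R) → _) = fun z : ι → R => z ∘ σ := rfl
    rw [h2] at h
    rw [← h]
    rfl
  rw [this, minors_span, minors_reindex]

end Groth.Agent.Helper7.FittLib
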