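import Mathlib
import Groth.Agent.Helper7.Fitt2

set_option linter.style.haveILetI false
set_option linter.unusedSectionVars false

namespace Groth.Agent.Helper7.FittLib

open Matrix

universe u v
variable {R : Type u} [CommRing R] {M : Type v} [AddCommGroup M] [Module R M]

/-- Monotonicity under surjections: immediate from the definition. -/
theorem fitt_le_of_surjective {M' : Type*} [AddCommGroup M'] [Module R M'] (f : M →ₗ[R] M')
    (hf : Function.Surjective f) (r : ℕ) : Fitt.ideal R M r ≤ Fitt.ideal R M' r := by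
  refine Ideal.span_le.mpr ?_
  rintro d ⟨n, x, a, hx, ha, rfl⟩
  refine Ideal.subset_span ⟨n, f ∘ x, a, ?_, ?_, rfl⟩
  · rw [Set.range_comp, ← Submodule.map_span, hx, Submodule.map_top, LinearMap.range_eq_top.mpr hf]
  · intro i hi
    have := congrArg f (ha i hi)
    simpa using this

theorem fitt_congr {M' : Type*} [AddCommGroup M'] [Module R M'] (e : M ≃ₗ[R] M') (r : ℕ) :
    Fitt.ideal R M r = Fitt.ideal R M' r :=
  le_antisymm (fitt_le_of_surjective e.toLinearMap e.surjective r)
    (fitt_le_of_surjective e.symm.toLinearMap e.symm.surjective r)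

theorem fitt_mono_index {r r' : ℕ} (h : r ≤ r') : Fitt.ideal R M r ≤ Fitt.ideal R M r' := by
  refine Ideal.span_le.mpr ?_
  rintro d ⟨n, x, a, hx, ha, rfl⟩
  exact Ideal.subset_span ⟨n, x, a, hx, fun i hi => ha i (by omega), rfl⟩

theorem fitt_eq_top_of_le {ι : Type*} [Fintype ι] (x : ι → M)
    (hx : Submodule.span R (Set.range x) = ⊤) {r : ℕ} (h : Fintype.card ι ≤ r) :
    Fitt.ideal R M r = ⊤ := by
  rw [fitt_eq_minors x hx (rel R x : Set (ι → R)) (Submodule.span_eq _) r,
    Nat.sub_eq_zero_of_le h, minors_zero]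

lemma span_range_mkQ_comp {ι : Type*} {P : Type*} [AddCommGroup P] [Module R P] (N : Submodule R P)
    (x : ι → P) (hx : Submodule.span R (Set.range x) = ⊤) :
    Submodule.span R (Set.range (fun i => N.mkQ (x i))) = ⊤ := by
  have : Set.range (fun i => N.mkQ (x i)) = N.mkQ '' Set.range x := by
    rw [← Set.range_comp]; rfl
  rw [this, ← Submodule.map_span, hx, Submodule.map_top, Submodule.range_mkQ]

lemma rel_mkQ_basis {ι : Type*} [Fintype ι] {P : Type*} [AddCommGroup P] [Module R P]
    (b : Module.Basis ι R P) (N : Submodule R P) :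
    (rel R (fun i => N.mkQ (b i)) : Set (ι → R)) = b.equivFun '' (N : Set P) := by
  ext c
  simp only [SetLike.mem_coe, mem_rel, Set.mem_image]
  have h1 : ∑ i, c i • N.mkQ (b i) = N.mkQ (b.equivFun.symm c) := by
    rw [Module.Basis.equivFun_symm_apply, map_sum]
    simp
  rw [h1, Submodule.mkQ_apply, Submodule.Quotient.mk_eq_zero]
  constructor
  · intro h
    exact ⟨_, h, b.equivFun.apply_symm_apply c⟩
  · rintro ⟨w, hw, rfl⟩
    rw [b.equivFun.symm_apply_apply]
    exact hw

/-- Fitting ideals of a quotient of a finite free module. -/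
theorem fitt_quotient_basis {ι : Type*} [Fintype ι] {P : Type*} [AddCommGroup P] [Module R P]
    (b : Module.Basis ι R P) (N : Submodule R P) (W : Set P) (hW : Submodule.span R W = N) (r : ℕ) :
    Fitt.ideal R (P ⧸ N) r = minors (b.equivFun '' W) (Fintype.card ι - r) := by
  apply fitt_eq_minors (fun i => N.mkQ (b i)) (span_range_mkQ_comp N b b.span_eq)
  apply SetLike.coe_injective
  rw [rel_mkQ_basis, ← hW]
  have := Submodule.map_span b.equivFun.toLinearMap W
  have h2 : (b.equivFun.toLinearMap : P → _) '' W = b.equivFun '' W := rfl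
  rw [h2] at this
  rw [← this]
  rfl

theorem minors_range_eq_bot {ι κ : Type*} [Fintype κ] (ρ : κ → (ι → R)) {p : ℕ}
    (h : Fintype.card κ < p) : minors (Set.range ρ) p = ⊥ := by
  rw [eq_bot_iff, minors_le_iff]
  intro z e hz
  choose k hk using hz
  obtain ⟨a, a', hne, haa⟩ := Fintype.exists_ne_map_eq_of_card_lt k (by simpa using h)
  rw [det_zero_of_row_eq hne]
  · exact Ideal.zero_mem _
  · funext j
    simp [← hk a, ← hk a', haa]

theorem minors_range_transpose {ι κ : Type*} (A : Matrix ι κ R) (p : ℕ) :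
    minors (Set.range A) p ≤ minors (Set.range Aᵀ) p := by
  rw [minors_le_iff]
  intro z e hz
  choose i hi using hz
  have : (Matrix.of fun a b => z a (e b)) = (Matrix.of fun a b => (fun a => Aᵀ (e a)) a (i b))ᵀ := by
    ext a b
    simp [← hi a]
  rw [this, det_transpose]
  exact det_mem_minors _ _ (fun a => ⟨e a, rfl⟩)

theorem minors_range_transpose_eq {ι κ : Type*} (A : Matrix ι κ R) (p : ℕ) :
    minors (Set.range A) p = minors (Set.range Aᵀ) p :=
  le_antisymm (minors_range_transpose A p) (by simpa using minors_range_transpose Aᵀ p)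

end Groth.Agent.Helper7.FittLib
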