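import Mathlib
import Groth.Agent.Helper7.Fitt3

set_option linter.style.haveILetI false
set_option linter.unusedSectionVars false

namespace Groth.Agent.Helper7.FittLib

open Matrix

universe u v
variable {R : Type u} [CommRing R] {M : Type v} [AddCommGroup M] [Module R M]

/-- Fitting ideals of the image of a finite free module under a surjection whose kernel is spanned
by `W`. -/
theorem fitt_of_surjective_basis {ι : Type*} [Fintype ι] {P : Type*} [AddCommGroup P] [Module R P]
    (b : Module.Basis ι R P) (T : P →ₗ[R] M) (hT : Function.Surjective T) (W : Set P)
    (hW : Submodule.span R W = LinearMap.ker T) (r : ℕ) :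
    Fitt.ideal R M r = minors (b.equivFun '' W) (Fintype.card ι - r) := by
  rw [← fitt_congr (T.quotKerEquivOfSurjective hT) r]
  exact fitt_quotient_basis b (LinearMap.ker T) W hW r

/-- The `n × n` minors of an `n × n` matrix. -/
theorem minors_square {n : ℕ} (A : Matrix (Fin n) (Fin n) R) :
    minors (Set.range A) n = Ideal.span {A.det} := by
  classical
  apply le_antisymm
  · rw [minors_le_iff]
    intro z e hz
    choose k hk using hz
    have hmat : (Matrix.of fun a b => z a (e b)) = A.submatrix k e := by
      ext a b
      simp [← hk a]
    rw [hmat]
    by_cases hk' : Function.Injective k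
    · by_cases he : Function.Injective e
      · let k' : Equiv.Perm (Fin n) := Equiv.ofBijective k (Finite.injective_iff_bijective.mp hk')
        let e' : Equiv.Perm (Fin n) := Equiv.ofBijective e (Finite.injective_iff_bijective.mp he)
        have h1 : A.submatrix k e = (A.submatrix k' id).submatrix id e' := by
          ext a b; simp [k', e']
        rw [h1, det_permute', det_permute]
        exact Ideal.mul_mem_left _ _ (Ideal.mul_mem_left _ _ (Ideal.subset_span rfl))
      · rw [Function.Injective] at he
        push Not at he
        obtain ⟨b, b', hbb, hne⟩ := he
        rw [det_zero_of_column_eq (M := A.submatrix k e) hne (fun i => by simp [hbb])]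
        exact Ideal.zero_mem _
    · rw [Function.Injective] at hk'
      push Not at hk'
      obtain ⟨a, a', haa, hne⟩ := hk'
      rw [det_zero_of_row_eq (M := A.submatrix k e) hne (by funext j; simp [haa])]
      exact Ideal.zero_mem _
  · rw [Ideal.span_le, Set.singleton_subset_iff]
    have : A = Matrix.of fun a b => (fun a => A a) a (id b) := by ext; rfl
    rw [this]
    exact det_mem_minors _ _ (fun a => ⟨a, by ext; rfl⟩)

end Groth.Agent.Helper7.FittLib
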