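import Mathlib
import Groth.Agent.Helper7.Fitt4

set_option linter.style.haveILetI false
set_option linter.unusedSectionVars false

namespace Groth.Agent.Helper7.FittLib

open Matrix TensorProduct

universe u u' v
variable {R : Type u} [CommRing R] {M : Type v} [AddCommGroup M] [Module R M]

section BaseChange
variable (R' : Type u') [CommRing R'] [Algebra R R']

lemma rel_baseChange {n : ℕ} (x : Fin n → M) (hx : Submodule.span R (Set.range x) = ⊤) :
    Submodule.span R' ((fun z : Fin n → R => fun i => algebraMap R R' (z i)) '' (rel R x : Set (Fin n → R)))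
      = rel R' (fun i => (1 : R') ⊗ₜ[R] x i) := by
  classical
  apply le_antisymm
  · rw [Submodule.span_le]
    rintro _ ⟨z, hz, rfl⟩
    rw [SetLike.mem_coe, mem_rel] at hz ⊢
    have : ∑ i, algebraMap R R' (z i) • ((1 : R') ⊗ₜ[R] x i) = (1 : R') ⊗ₜ[R] (∑ i, z i • x i) := by
      rw [tmul_sum]
      refine Finset.sum_congr rfl (fun i _ => ?_)
      rw [smul_tmul', tmul_smul, smul_tmul', smul_eq_mul, mul_one, Algebra.smul_def, mul_one]
    rw [this, hz, tmul_zero]
  · intro c hc
    rw [mem_rel] at hc
    let f : ↥(rel R x) →ₗ[R] (Fin n → R) := (rel R x).subtype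
    let g : (Fin n → R) →ₗ[R] M := Fintype.linearCombination R x
    have hex : Function.Exact f g := by
      intro y
      simp only [f, g, rel, Set.mem_range, Subtype.exists]
      constructor
      · intro h; exact ⟨y, h, rfl⟩
      · rintro ⟨y, h, rfl⟩; exact h
    have hsurj : Function.Surjective g := by
      rw [← LinearMap.range_eq_top, Fintype.range_linearCombination, hx]
    have hex' := lTensor_exact R' hex hsurj
    let t : R' ⊗[R] (Fin n → R) := ∑ i, c i ⊗ₜ[R] (Pi.single i (1 : R))
    have ht : (g.lTensor R') t = 0 := by
      simp only [t, map_sum, LinearMap.lTensor_tmul, g, Fintype.linearCombination_apply_single,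
        one_smul]
      rw [← hc]
      refine Finset.sum_congr rfl (fun i _ => ?_)
      rw [smul_tmul', smul_eq_mul, mul_one]
    obtain ⟨s, hs⟩ := (hex' t).mp ht
    have hψt : piScalarRight R R' R' (Fin n) t = c := by
      simp only [t, map_sum, piScalarRight_apply, piScalarRightHom_tmul]
      funext j
      simp [Pi.single_apply]
    have key : ∀ s : R' ⊗[R] ↥(rel R x), piScalarRight R R' R' (Fin n) (f.lTensor R' s) ∈
        Submodule.span R' ((fun z : Fin n → R => fun i => algebraMap R R' (z i)) ''
          (rel R x : Set (Fin n → R))) := by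
      intro s
      induction s using TensorProduct.induction_on with
      | zero => simp
      | tmul r' z =>
        rw [LinearMap.lTensor_tmul, piScalarRight_apply, piScalarRightHom_tmul]
        have : (fun j => f z j • r') = r' • (fun i => algebraMap R R' (z.1 i)) := by
          funext j
          simp [f, Algebra.smul_def, mul_comm]
        rw [this]
        exact Submodule.smul_mem _ _ (Submodule.subset_span ⟨z.1, z.2, rfl⟩)
      | add s1 s2 h1 h2 =>
        rw [map_add, map_add]
        exact Submodule.add_mem _ h1 h2
    rw [← hψt, ← hs]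
    exact key s

/-- Fitting ideals commute with base change. -/
theorem fitt_baseChange [Module.Finite R M] (k : ℕ) :
    Fitt.ideal R' (R' ⊗[R] M) k = (Fitt.ideal R M k).map (algebraMap R R') := by
  obtain ⟨n, x, hx⟩ := Module.Finite.exists_fin (R := R) (M := M)
  have hx' : Submodule.span R' (Set.range fun i => (1 : R') ⊗ₜ[R] x i) = ⊤ := by
    have h1 := Submodule.baseChange_span (R := R) (A := R') (Set.range x)
    rw [hx, Submodule.baseChange_top, ← Set.range_comp] at h1
    exact h1.symm
  rw [fitt_eq_minors_fin (fun i => (1 : R') ⊗ₜ[R] x i) hx' _ (rel_baseChange R' x hx) k,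
    minors_map, fitt_eq_minors_fin x hx (rel R x : Set (Fin n → R)) (Submodule.span_eq _) k]

theorem fitt_isBaseChange [Module.Finite R M] {N : Type*} [AddCommGroup N] [Module R N] [Module R' N]
    [IsScalarTower R R' N] (f : M →ₗ[R] N) (hf : IsBaseChange R' f) (k : ℕ) :
    Fitt.ideal R' N k = (Fitt.ideal R M k).map (algebraMap R R') := by
  rw [← fitt_congr hf.equiv k, fitt_baseChange]

end BaseChange

theorem fitt_localizedModule (S : Submonoid R) [Module.Finite R M] (k : ℕ) :
    Fitt.ideal (Localization S) (LocalizedModule S M) k =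
      (Fitt.ideal R M k).map (algebraMap R (Localization S)) :=
  fitt_isBaseChange (Localization S) (LocalizedModule.mkLinearMap S M)
    (IsLocalizedModule.isBaseChange S _ _) k

theorem fitt_free {ι : Type*} [Fintype ι] (b : Module.Basis ι R M) (r : ℕ) :
    Fitt.ideal R M r = if r < Fintype.card ι then ⊥ else ⊤ := by
  have h := fitt_of_surjective_basis b (LinearMap.id : M →ₗ[R] M) Function.surjective_id ∅
    (by simp) r
  rw [h, Set.image_empty]
  split_ifs with hr
  · exact minors_eq_bot_of_subset_zero _ (Set.empty_subset _) (by omega)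
  · rw [Nat.sub_eq_zero_of_le (by omega), minors_zero]

theorem fitt_eq_bot_of_projective_rank [Module.Finite R M] [Module.Projective R M] (k : ℕ)
    (hk : ∀ p : PrimeSpectrum R, Module.rankAtStalk (R := R) M p = k) (j : ℕ) (hj : j < k) :
    Fitt.ideal R M j = ⊥ := by
  apply ideal_eq_bot_of_localization'
  intro J hJ
  rw [← fitt_localizedModule]
  have : Module.Free (Localization.AtPrime J) (LocalizedModule J.primeCompl M) :=
    Module.free_of_flat_of_isLocalRing
  have hrank : Module.finrank (Localization.AtPrime J) (LocalizedModule J.primeCompl M) = k :=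
    hk ⟨J, hJ.isPrime⟩
  let b := Module.finBasis (Localization.AtPrime J) (LocalizedModule J.primeCompl M)
  rw [fitt_free b j, Fintype.card_fin, hrank, if_pos hj]

end Groth.Agent.Helper7.FittLib
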