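import Mathlib
import Groth.Agent.Helper7.Fitt5

set_option linter.style.haveILetI false
set_option linter.unusedSectionVars false

namespace Groth.Agent.Helper7.FittLib

open Matrix TensorProduct

universe u u' v
variable {R : Type u} [CommRing R] {M : Type v} [AddCommGroup M] [Module R M]

section Cramer
variable {ι : Type*} [Fintype ι] [DecidableEq ι] {p : ℕ}

/-- The Cramer relation: replace column `b₀` of the minor by the `i`-th column. -/
noncomputable def cramerRel (z : Fin p → (ι → R)) (e : Fin p → ι) (b₀ : Fin p) : ι → R :=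
  fun i => (Matrix.of fun a b => z a (Function.update e b₀ i b)).det

lemma cramerRel_eq (z : Fin p → (ι → R)) (e : Fin p → ι) (b₀ : Fin p) (i : ι) :
    cramerRel z e b₀ i = ∑ a, (Matrix.of fun a b => z a (e b)).adjugate b₀ a * z a i := by
  have h1 : (Matrix.of fun a b => z a (Function.update e b₀ i b)) =
      (Matrix.of fun a b => z a (e b)).updateCol b₀ (fun a => z a i) := by
    ext a b
    by_cases h : b = b₀
    · subst h; simp
    · simp [h]
  rw [cramerRel, h1, ← cramer_apply, cramer_eq_adjugate_mulVec]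
  rfl

lemma cramerRel_mem_rel (x : ι → M) (z : Fin p → (ι → R)) (hz : ∀ a, z a ∈ rel R x) (e : Fin p → ι)
    (b₀ : Fin p) : cramerRel z e b₀ ∈ rel R x := by
  rw [mem_rel]
  simp_rw [cramerRel_eq, Finset.sum_smul, mul_smul]
  rw [Finset.sum_comm]
  refine Finset.sum_eq_zero (fun a _ => ?_)
  rw [← Finset.smul_sum, (mem_rel x (z a)).mp (hz a), smul_zero]

lemma cramerRel_mem_minors (Z : Set (ι → R)) (z : Fin p → (ι → R)) (hz : ∀ a, z a ∈ Z) (e : Fin p → ι)
    (b₀ : Fin p) (i : ι) : cramerRel z e b₀ i ∈ minors Z p :=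
  det_mem_minors z _ hz

lemma cramerRel_self (z : Fin p → (ι → R)) (e : Fin p → ι) (b₀ : Fin p) :
    cramerRel z e b₀ (e b₀) = (Matrix.of fun a b => z a (e b)).det := by
  rw [cramerRel, Function.update_eq_self]

lemma cramerRel_other (z : Fin p → (ι → R)) (e : Fin p → ι) (b₀ b : Fin p) (hb : b ≠ b₀) :
    cramerRel z e b₀ (e b) = 0 := by
  rw [cramerRel]
  apply det_zero_of_column_eq hb
  intro a
  simp [Function.update_of_ne hb]

end Cramer

/-- In a local ring, a principal ideal spanned by a set is spanned by one element of the set. -/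
lemma exists_unit_mul_of_span_eq [IsLocalRing R] (S : Set R) (f : R)
    (h : Ideal.span S = Ideal.span {f}) (h0 : (0 : R) ∈ S) : ∃ d ∈ S, ∃ u : Rˣ, d = u * f := by
  by_contra hcon
  push Not at hcon
  have hS : S ⊆ (IsLocalRing.maximalIdeal R * Ideal.span {f} : Ideal R) := by
    intro d hd
    have : d ∈ Ideal.span {f} := h ▸ Ideal.subset_span hd
    obtain ⟨s, rfl⟩ := Ideal.mem_span_singleton'.mp this
    have hs : ¬ IsUnit s := fun hu => hcon _ hd hu.unit rfl
    exact Ideal.mem_mul_span_singleton.mpr ⟨s, (IsLocalRing.mem_maximalIdeal s).mpr hs, rfl⟩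
  have hf : f ∈ IsLocalRing.maximalIdeal R * Ideal.span {f} := by
    have : Ideal.span {f} ≤ IsLocalRing.maximalIdeal R * Ideal.span {f} := by
      have h2 : Ideal.span S ≤ IsLocalRing.maximalIdeal R * Ideal.span {f} := Ideal.span_le.mpr hS
      rwa [h] at h2
    exact this (Ideal.subset_span rfl)
  obtain ⟨t, ht, htf⟩ := Ideal.mem_mul_span_singleton.mp hf
  have hu : IsUnit (1 - t) := IsLocalRing.isUnit_one_sub_self_of_mem_nonunits t
    ((IsLocalRing.mem_maximalIdeal t).mp ht)
  have hf0 : f = 0 := by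
    have : (1 - t) * f = 0 := by rw [sub_mul, one_mul, htf, sub_self]
    exact (hu.mul_right_eq_zero).mp this
  exact hcon 0 h0 1 (by simp [hf0])

lemma smul_mem_span_compl {ι : Type*} [Fintype ι] [DecidableEq ι] {N : Type*} [AddCommGroup N]
    [Module R N] (y : ι → N) (c : ι → R) (E : Set ι) (i₀ : ι)
    (h0 : ∑ i, c i • y i = 0) (hE : ∀ i ∈ E, i ≠ i₀ → c i = 0) :
    c i₀ • y i₀ ∈ Submodule.span R (y '' Eᶜ) := by
  have h1 : c i₀ • y i₀ = - ∑ i ∈ Finset.univ.erase i₀, c i • y i := by
    rw [eq_neg_iff_add_eq_zero,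
      Finset.add_sum_erase Finset.univ (fun i => c i • y i) (Finset.mem_univ i₀), h0]
  rw [h1]
  refine Submodule.neg_mem _ (Submodule.sum_mem _ (fun i hi => ?_))
  by_cases hiE : i ∈ E
  · rw [hE i hiE (Finset.ne_of_mem_erase hi), zero_smul]
    exact Submodule.zero_mem _
  · exact Submodule.smul_mem _ _ (Submodule.subset_span ⟨i, hiE, rfl⟩)

lemma exists_fin_span_of_card_le {κ : Type*} [Fintype κ] {N : Type*} [AddCommGroup N] [Module R N]
    (y : κ → N) (hy : Submodule.span R (Set.range y) = ⊤) {k : ℕ} (h : Fintype.card κ ≤ k) :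
    ∃ g : Fin k → N, Submodule.span R (Set.range g) = ⊤ := by
  let ε := Fintype.equivFin κ
  refine ⟨fun j => if hj : (j : ℕ) < Fintype.card κ then y (ε.symm ⟨j, hj⟩) else 0, ?_⟩
  rw [eq_top_iff, ← hy]
  refine Submodule.span_mono ?_
  rintro _ ⟨i, rfl⟩
  refine ⟨⟨ε i, lt_of_lt_of_le (ε i).2 h⟩, ?_⟩
  simp

/-- If `Fit_k(M) = (f)` over a local ring then `M / ker(f)` is generated by `k` elements. -/
theorem exists_span_quot_ker_of_fitt_principal {R : Type u} [CommRing R] [IsLocalRing R]
    (M : Type v) [AddCommGroup M] [Module R M] [Module.Finite R M] (k : ℕ) (f : R)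
    (hf : Fitt.ideal R M k = Ideal.span {f}) :
    ∃ g : Fin k → M ⧸ LinearMap.ker (f • (LinearMap.id : M →ₗ[R] M)),
      Submodule.span R (Set.range g) = ⊤ := by
  classical
  set K := LinearMap.ker (f • (LinearMap.id : M →ₗ[R] M)) with hK
  obtain ⟨n, x, hx⟩ := Module.Finite.exists_fin (R := R) (M := M)
  have hy : Submodule.span R (Set.range fun i => K.mkQ (x i)) = ⊤ := span_range_mkQ_comp K x hx
  by_cases hf0 : f = 0
  · refine ⟨fun _ => 0, ?_⟩
    have : K = ⊤ := by
      rw [hK, hf0, zero_smul, LinearMap.ker_zero]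
    have hsub : Subsingleton (M ⧸ K) := by
      rw [this]; infer_instance
    exact Subsingleton.elim _ _
  by_cases hnk : n ≤ k
  · exact exists_fin_span_of_card_le _ hy (by simpa using hnk)
  have hp : 0 < n - k := by omega
  rw [fitt_eq_minors_fin x hx (rel R x : Set (Fin n → R)) (Submodule.span_eq _) k] at hf
  have h0S : (0 : R) ∈ {d | ∃ (z : Fin (n - k) → (Fin n → R)) (e : Fin (n - k) → Fin n),
      (∀ a, z a ∈ (rel R x : Set (Fin n → R))) ∧ d = (Matrix.of fun a b => z a (e b)).det} := by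
    refine ⟨fun _ => 0, fun _ => ⟨0, by omega⟩, fun _ => Submodule.zero_mem _, ?_⟩
    rw [det_eq_zero_of_row_eq_zero ⟨0, hp⟩ (fun j => by simp)]
  obtain ⟨d, ⟨z, e, hz, rfl⟩, u, hu⟩ := exists_unit_mul_of_span_eq _ f hf h0S
  -- `e` is injective
  have he : Function.Injective e := by
    by_contra hne
    rw [Function.Injective] at hne
    push Not at hne
    obtain ⟨b, b', hbb, hne⟩ := hne
    rw [det_zero_of_column_eq hne (fun a => by simp [hbb])] at hu
    apply hf0
    have : (u : R) * f = 0 := hu.symm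
    exact (u.isUnit.mul_right_eq_zero).mp this
  -- the Cramer relations
  have hw : ∀ (b₀ : Fin (n - k)) (i : Fin n), ∃ c : R, cramerRel z e b₀ i = f * c := by
    intro b₀ i
    have := cramerRel_mem_minors (rel R x : Set (Fin n → R)) z hz e b₀ i
    rw [hf] at this
    obtain ⟨c, hc⟩ := Ideal.mem_span_singleton'.mp this
    exact ⟨c, by rw [← hc, mul_comm]⟩
  choose c₀ hc₀ using hw
  let c : Fin (n - k) → Fin n → R := fun b₀ i =>
    if i = e b₀ then (u : R) else if i ∈ Set.range e then 0 else c₀ b₀ i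
  have hc : ∀ b₀ i, cramerRel z e b₀ i = f * c b₀ i := by
    intro b₀ i
    simp only [c]
    split_ifs with h1 h2
    · rw [h1, cramerRel_self, hu, mul_comm]
    · obtain ⟨b, rfl⟩ := h2
      have : b ≠ b₀ := fun h => h1 (by rw [h])
      rw [cramerRel_other z e b₀ b this, mul_zero]
    · exact hc₀ b₀ i
  have hmem : ∀ b₀, K.mkQ (x (e b₀)) ∈
      Submodule.span R ((fun i => K.mkQ (x i)) '' (Set.range e)ᶜ) := by
    intro b₀
    have hsum : ∑ i, c b₀ i • K.mkQ (x i) = 0 := by
      have h1 : ∑ i, c b₀ i • K.mkQ (x i) = K.mkQ (∑ i, c b₀ i • x i) := by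
        rw [map_sum]
        simp
      rw [h1, Submodule.mkQ_apply, Submodule.Quotient.mk_eq_zero, hK, LinearMap.mem_ker,
        LinearMap.smul_apply, LinearMap.id_apply, Finset.smul_sum]
      have h2 := (mem_rel x _).mp (cramerRel_mem_rel x z (fun a => hz a) e b₀)
      rw [← h2]
      refine Finset.sum_congr rfl (fun i _ => ?_)
      rw [smul_smul, hc]
    have := smul_mem_span_compl (fun i => K.mkQ (x i)) (c b₀) (Set.range e) (e b₀) hsum ?_
    · have hcu : c b₀ (e b₀) = u := by simp [c]
      rw [hcu] at this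
      have h2 := Submodule.smul_mem _ ((u⁻¹ : Rˣ) : R) this
      rwa [smul_smul, Units.inv_mul, one_smul] at h2
    · intro i hi hne
      simp only [c, if_neg hne, if_pos hi]
  -- conclude
  have htop : Submodule.span R ((fun i => K.mkQ (x i)) '' (Set.range e)ᶜ) = ⊤ := by
    rw [eq_top_iff, ← hy, Submodule.span_le]
    rintro _ ⟨i, rfl⟩
    by_cases hi : i ∈ Set.range e
    · obtain ⟨b, rfl⟩ := hi
      exact hmem b
    · exact Submodule.subset_span ⟨i, hi, rfl⟩
  let κ := {i : Fin n // i ∉ Set.range e}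
  have hκ : Fintype.card κ ≤ k := by
    have h1 : Fintype.card κ = n - Fintype.card (Set.range e) := by
      simp only [κ]
      rw [Fintype.card_subtype_compl, Fintype.card_fin]
    have h2 : Fintype.card (Set.range e) = n - k := by
      rw [Set.card_range_of_injective he, Fintype.card_fin]
    omega
  refine exists_fin_span_of_card_le (κ := κ) (fun i => K.mkQ (x i.1)) ?_ hκ
  rw [← htop]
  congr 1
  ext m
  simp [κ]

end Groth.Agent.Helper7.FittLib
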