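import Mathlib
import Groth.Agent.Helper7.Fitt6

set_option linter.style.haveILetI false
set_option linter.unusedSectionVars false

namespace Groth.Agent.Helper7.FittLib

open Matrix TensorProduct

universe u u' v

/-- If `Fit_k(N) = (a)` and `T` contains the `a`-torsion of `N`, then `Fit_k(N/T) = ⊤`. -/
theorem fitt_quot_eq_top_of_principal {S : Type u} [CommRing S] (N : Type v) [AddCommGroup N]
    [Module S N] [Module.Finite S N] (k : ℕ) (a : S) (hN : Fitt.ideal S N k = Ideal.span {a})
    (T : Submodule S N) (hT : LinearMap.ker (a • (LinearMap.id : N →ₗ[S] N)) ≤ T) :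
    Fitt.ideal S (N ⧸ T) k = ⊤ := by
  classical
  obtain ⟨n, x, hx⟩ := Module.Finite.exists_fin (R := S) (M := N)
  have hy : Submodule.span S (Set.range fun i => T.mkQ (x i)) = ⊤ := span_range_mkQ_comp T x hx
  by_cases hnk : n ≤ k
  · exact fitt_eq_top_of_le _ hy (by simpa using hnk)
  have hp : 0 < n - k := by omega
  have hFk := fitt_eq_minors_fin (fun i => T.mkQ (x i)) hy
    (rel S (fun i => T.mkQ (x i)) : Set (Fin n → S)) (Submodule.span_eq _) k
  have hF0 := fitt_eq_minors_fin (fun i => T.mkQ (x i)) hy
    (rel S (fun i => T.mkQ (x i)) : Set (Fin n → S)) (Submodule.span_eq _) 0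
  rw [fitt_eq_minors_fin x hx (rel S x : Set (Fin n → S)) (Submodule.span_eq _) k] at hN
  set Q := (Fitt.ideal S (N ⧸ T) k).radical with hQ
  -- a relation among the `x i` up to `a`-torsion is a relation in the quotient
  have hrelT : ∀ c : Fin n → S, a • ∑ i, c i • x i = 0 → c ∈ rel S (fun i => T.mkQ (x i)) := by
    intro c hc
    rw [mem_rel]
    have h1 : ∑ i, c i • T.mkQ (x i) = T.mkQ (∑ i, c i • x i) := by
      rw [map_sum]; simp
    rw [h1, Submodule.mkQ_apply, Submodule.Quotient.mk_eq_zero]
    apply hT
    rw [LinearMap.mem_ker, LinearMap.smul_apply, LinearMap.id_apply, hc]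
  -- (2) annihilators of `a` lie in `Q`
  have h2 : ∀ v : S, a * v = 0 → v ∈ Q := by
    intro v hv
    have hrows : ∀ i : Fin n, (Pi.single i v : Fin n → S) ∈ rel S (fun i => T.mkQ (x i)) := by
      intro i
      apply hrelT
      simp only [Pi.single_apply, ite_smul, zero_smul, Finset.sum_ite_eq', Finset.mem_univ, if_true]
      rw [smul_smul, hv, zero_smul]
    have hdet : v ^ n ∈ Fitt.ideal S (N ⧸ T) 0 := by
      rw [hF0, Nat.sub_zero]
      have := det_mem_minors (Z := (rel S (fun i => T.mkQ (x i)) : Set (Fin n → S)))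
        (fun i : Fin n => (Pi.single i v : Fin n → S)) id hrows
      have hd : (Matrix.of fun a b : Fin n => (Pi.single a v : Fin n → S) (id b)) =
          Matrix.diagonal (fun _ => v) := by
        ext i j
        simp [Matrix.diagonal_apply, Pi.single_apply, eq_comm]
      rw [hd, det_diagonal, Finset.prod_const, Finset.card_univ, Fintype.card_fin] at this
      exact this
    exact ⟨n, fitt_mono_index (Nat.zero_le k) hdet⟩
  -- (1) cofactors of minors lie in `Q`
  have h1 : ∀ (z : Fin (n - k) → (Fin n → S)) (e : Fin (n - k) → Fin n),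
      (∀ b, z b ∈ rel S x) → ∀ s : S, (Matrix.of fun b b' => z b (e b')).det = s * a → s ∈ Q := by
    intro z e hz s hs
    by_cases he : Function.Injective e
    · have hw : ∀ (b₀ : Fin (n - k)) (i : Fin n), ∃ c : S, cramerRel z e b₀ i = a * c := by
        intro b₀ i
        have := cramerRel_mem_minors (rel S x : Set (Fin n → S)) z hz e b₀ i
        rw [hN] at this
        obtain ⟨c, hc⟩ := Ideal.mem_span_singleton'.mp this
        exact ⟨c, by rw [← hc, mul_comm]⟩
      choose c₀ hc₀ using hw
      let c : Fin (n - k) → Fin n → S := fun b₀ i =>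
        if i = e b₀ then s else if i ∈ Set.range e then 0 else c₀ b₀ i
      have hc : ∀ b₀ i, cramerRel z e b₀ i = a * c b₀ i := by
        intro b₀ i
        simp only [c]
        split_ifs with h1 h2
        · rw [h1, cramerRel_self, hs, mul_comm]
        · obtain ⟨b, rfl⟩ := h2
          have : b ≠ b₀ := fun h => h1 (by rw [h])
          rw [cramerRel_other z e b₀ b this, mul_zero]
        · exact hc₀ b₀ i
      have hcrel : ∀ b₀, c b₀ ∈ rel S (fun i => T.mkQ (x i)) := by
        intro b₀
        apply hrelT
        rw [Finset.smul_sum]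
        have h2 := (mem_rel x _).mp (cramerRel_mem_rel x z hz e b₀)
        rw [← h2]
        refine Finset.sum_congr rfl (fun i _ => ?_)
        rw [smul_smul, hc]
      have hdet : s ^ (n - k) ∈ Fitt.ideal S (N ⧸ T) k := by
        rw [hFk]
        have := det_mem_minors (Z := (rel S (fun i => T.mkQ (x i)) : Set (Fin n → S))) c e hcrel
        have hd : (Matrix.of fun b b' => c b (e b')) = Matrix.diagonal (fun _ => s) := by
          ext b b'
          simp only [c, Matrix.of_apply, Matrix.diagonal_apply]
          by_cases hbb : b = b'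
          · simp [hbb]
          · have : e b' ≠ e b := fun h => hbb (he h).symm
            simp [hbb, this]
        rw [hd, det_diagonal, Finset.prod_const, Finset.card_univ, Fintype.card_fin] at this
        exact this
      exact ⟨n - k, hdet⟩
    · rw [Function.Injective] at he
      push Not at he
      obtain ⟨b, b', hbb, hne⟩ := he
      rw [det_zero_of_column_eq hne (fun i => by simp [hbb])] at hs
      exact h2 s (by rw [mul_comm, ← hs])
  -- (3) conclusion
  have hB : minors (rel S x : Set (Fin n → S)) (n - k) ≤ Q * Ideal.span {a} := by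
    rw [minors_le_iff]
    intro z e hz
    have hmem : (Matrix.of fun b b' => z b (e b')).det ∈ Ideal.span {a} := by
      rw [← hN]; exact det_mem_minors z e hz
    obtain ⟨s, hs⟩ := Ideal.mem_span_singleton'.mp hmem
    exact Ideal.mem_mul_span_singleton.mpr ⟨s, h1 z e hz s hs.symm, hs⟩
  have ha : a ∈ Q * Ideal.span {a} := hB (hN ▸ Ideal.subset_span rfl)
  obtain ⟨s₀, hs₀, hs₀a⟩ := Ideal.mem_mul_span_singleton.mp ha
  have hv : (1 - s₀) ∈ Q := h2 _ (by rw [mul_sub, mul_one, mul_comm, hs₀a, sub_self])
  have h1Q : (1 : S) ∈ Q := by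
    have := Q.add_mem hs₀ hv
    simpa using this
  exact Ideal.radical_eq_top.mp ((Ideal.eq_top_iff_one _).mpr h1Q)

end Groth.Agent.Helper7.FittLib
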