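import Mathlib
import Groth.Agent.Helper7.Fitt7

set_option linter.style.haveILetI false
set_option linter.unusedSectionVars false

namespace Groth.Agent.Helper7.FittLib

open Matrix TensorProduct

universe u u' v
variable {R : Type u} [CommRing R] {M : Type v} [AddCommGroup M] [Module R M]

/-- Fitting ideals as ideals of minors (transposed convention). -/
theorem fitt_eq_span_minors_transpose {n : ℕ} (x : Fin n → M)
    (hx : Submodule.span R (Set.range x) = ⊤) (k : ℕ) :
    Fitt.ideal R M k = Ideal.span {d | ∃ (z : Fin (n - k) → (Fin n → R)) (e : Fin (n - k) → Fin n),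
      (∀ j, ∑ i, z j i • x i = 0) ∧ d = (Matrix.of fun a b => z b (e a)).det} := by
  rw [fitt_eq_minors_fin x hx (rel R x : Set (Fin n → R)) (Submodule.span_eq _) k, minors]
  congr 1
  ext d
  constructor
  · rintro ⟨z, e, hz, rfl⟩
    refine ⟨z, e, fun j => (mem_rel x (z j)).mp (hz j), ?_⟩
    rw [← det_transpose]
    rfl
  · rintro ⟨z, e, hz, rfl⟩
    refine ⟨z, e, fun j => (mem_rel x (z j)).mpr (hz j), ?_⟩
    rw [← det_transpose]
    rfl

lemma minors_fg {ι : Type*} [Finite ι] (Z : Set (ι → R)) (hZ : Z.Finite) (p : ℕ) :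
    (minors Z p).FG := by
  have := hZ.to_subtype
  apply Submodule.fg_span
  refine Set.Finite.subset (Set.finite_range
    (fun q : (Fin p → ↥Z) × (Fin p → ι) => (Matrix.of fun a b => (q.1 a).1 (q.2 b)).det)) ?_
  rintro d ⟨z, e, hz, rfl⟩
  exact ⟨(fun a => ⟨z a, hz a⟩, e), rfl⟩

theorem fitt_fg [Module.FinitePresentation R M] (k : ℕ) : (Fitt.ideal R M k).FG := by
  have : Module.Finite R M := inferInstance
  obtain ⟨n, x, hx⟩ := Module.Finite.exists_fin (R := R) (M := M)
  have hsurj : Function.Surjective (Fintype.linearCombination R x) := by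
    rw [← LinearMap.range_eq_top, Fintype.range_linearCombination, hx]
  obtain ⟨Z, hZ⟩ := Module.FinitePresentation.fg_ker (Fintype.linearCombination R x) hsurj
  rw [fitt_eq_minors_fin x hx (Z : Set (Fin n → R)) hZ k]
  exact minors_fg _ Z.finite_toSet _

end Groth.Agent.Helper7.FittLib
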