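import Mathlib
import Groth.Agent.Helper7.Fitt8

set_option linter.style.haveILetI false
set_option linter.unusedSectionVars false

namespace Groth.Agent.Helper7.FittLib

open Matrix TensorProduct

universe u u' v v'
variable {R : Type u} [CommRing R] {M : Type v} [AddCommGroup M] [Module R M]

/-- If a minor of relations becomes a unit in `R'`, the complementary generators suffice. -/
theorem exists_gen_of_minor_unit {n k : ℕ} (hkn : k < n) (x : Fin n → M)
    (z : Fin (n - k) → (Fin n → R)) (e : Fin (n - k) → Fin n) (hz : ∀ a, z a ∈ rel R x)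
    {R' : Type u'} [CommRing R'] [Algebra R R'] {N' : Type v'} [AddCommGroup N'] [Module R N']
    [Module R' N'] [IsScalarTower R R' N'] (q : M →ₗ[R] N')
    (hd : IsUnit (algebraMap R R' (Matrix.of fun a b => z a (e b)).det))
    (hq : Submodule.span R' (Set.range fun i => q (x i)) = ⊤) :
    ∃ g : Fin k → N', Submodule.span R' (Set.range g) = ⊤ := by
  classical
  by_cases he : Function.Injective e
  · have hmem : ∀ b₀, q (x (e b₀)) ∈
        Submodule.span R' ((fun i => q (x i)) '' (Set.range e)ᶜ) := by
      intro b₀
      have hsum : ∑ i, cramerRel z e b₀ i • q (x i) = 0 := by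
        have h2 := (mem_rel x _).mp (cramerRel_mem_rel x z hz e b₀)
        rw [← map_zero q, ← h2, map_sum]
        simp
      have h3 := smul_mem_span_compl (fun i => q (x i)) (cramerRel z e b₀) (Set.range e) (e b₀)
        hsum (by
          rintro _ ⟨b, rfl⟩ hne
          exact cramerRel_other z e b₀ b (fun h => hne (by rw [h])))
      rw [cramerRel_self] at h3
      have h4 : (Matrix.of fun a b => z a (e b)).det • q (x (e b₀)) ∈
          Submodule.span R' ((fun i => q (x i)) '' (Set.range e)ᶜ) :=
        Submodule.span_subset_span R R' _ h3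
      rw [← algebraMap_smul R'] at h4
      have h5 := Submodule.smul_mem _ ((hd.unit⁻¹ : R'ˣ) : R') h4
      rwa [smul_smul, IsUnit.val_inv_mul, one_smul] at h5
    have htop : Submodule.span R' ((fun i => q (x i)) '' (Set.range e)ᶜ) = ⊤ := by
      rw [eq_top_iff, ← hq, Submodule.span_le]
      rintro _ ⟨i, rfl⟩
      by_cases hi : i ∈ Set.range e
      · obtain ⟨b, rfl⟩ := hi
        exact hmem b
      · exact Submodule.subset_span ⟨i, hi, rfl⟩
    let κ := {i : Fin n // i ∉ Set.range e}
    have hκ : Fintype.card κ ≤ k := by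
      have h1 : Fintype.card κ = n - Fintype.card (Set.range e) := by
        simp only [κ]
        rw [Fintype.card_subtype_compl, Fintype.card_fin]
      have h2 : Fintype.card (Set.range e) = n - k := by
        rw [Set.card_range_of_injective he, Fintype.card_fin]
      omega
    refine exists_fin_span_of_card_le (κ := κ) (fun i => q (x i.1)) ?_ hκ
    rw [← htop]
    congr 1
    ext m
    simp [κ]
  · rw [Function.Injective] at he
    push Not at he
    obtain ⟨b, b', hbb, hne⟩ := he
    rw [det_zero_of_column_eq hne (fun i => by simp [hbb]), map_zero] at hd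
    have h01 : (0 : R') = 1 := by simpa using hd
    have : Subsingleton R' := subsingleton_of_zero_eq_one h01
    have : Subsingleton N' := Module.subsingleton R' N'
    exact ⟨fun _ => 0, Subsingleton.elim _ _⟩

/-- If `Fit_k(M)` is not contained in the prime `p`, there is `d ∉ p` such that `M` becomes
generated by `k` elements over every `R`-algebra in which `d` is invertible. -/
theorem exists_gen_of_fitt_not_le [Module.Finite R M] (k : ℕ) (p : Ideal R) [p.IsPrime]
    (hA : ¬ Fitt.ideal R M k ≤ p) :
    ∃ d : R, d ∉ p ∧ ∀ {R' : Type u} [CommRing R'] [Algebra R R'] {N' : Type (max u v)}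
      [AddCommGroup N'] [Module R N'] [Module R' N'] [IsScalarTower R R' N'] (q : M →ₗ[R] N'),
      IsUnit (algebraMap R R' d) → Submodule.span R' (Set.range q) = ⊤ →
      ∃ g : Fin k → N', Submodule.span R' (Set.range g) = ⊤ := by
  obtain ⟨n, x, hx⟩ := Module.Finite.exists_fin (R := R) (M := M)
  have hspan : ∀ {R' : Type u} [CommRing R'] [Algebra R R'] {N' : Type (max u v)}
      [AddCommGroup N'] [Module R N'] [Module R' N'] [IsScalarTower R R' N'] (q : M →ₗ[R] N'),
      Submodule.span R' (Set.range q) = ⊤ → Submodule.span R' (Set.range fun i => q (x i)) = ⊤ := by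
    intro R' _ _ N' _ _ _ _ q hq
    rw [eq_top_iff, ← hq, Submodule.span_le]
    rintro _ ⟨m, rfl⟩
    have hm : m ∈ Submodule.span R (Set.range x) := by rw [hx]; trivial
    obtain ⟨c, rfl⟩ := (Submodule.mem_span_range_iff_exists_fun R).mp hm
    rw [map_sum]
    refine Submodule.sum_mem _ (fun i _ => ?_)
    rw [map_smul, ← algebraMap_smul R']
    exact Submodule.smul_mem _ _ (Submodule.subset_span ⟨i, rfl⟩)
  by_cases hnk : n ≤ k
  · refine ⟨1, fun h => ‹p.IsPrime›.ne_top ((Ideal.eq_top_iff_one p).mpr h), ?_⟩
    intro R' _ _ N' _ _ _ _ q _ hq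
    exact exists_fin_span_of_card_le _ (hspan q hq) (by simpa using hnk)
  · rw [fitt_eq_minors_fin x hx (rel R x : Set (Fin n → R)) (Submodule.span_eq _) k,
      minors_le_iff] at hA
    push Not at hA
    obtain ⟨z, e, hz, hd⟩ := hA
    refine ⟨_, hd, ?_⟩
    intro R' _ _ N' _ _ _ _ q hu hq
    exact exists_gen_of_minor_unit (by omega) x z e hz q hu (hspan q hq)

/-- If a base change of `M` along `R → R'` with `p R' ≠ R'` is generated by `k` elements then
`Fit_k(M)` is not contained in `p`. -/
theorem fitt_not_le_of_gen [Module.Finite R M] (k : ℕ) (p : Ideal R)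
    {R' : Type u'} [CommRing R'] [Algebra R R'] (hp : p.map (algebraMap R R') ≠ ⊤)
    {N' : Type v'} [AddCommGroup N'] [Module R N'] [Module R' N'] [IsScalarTower R R' N']
    (q : M →ₗ[R] N') (hq : IsBaseChange R' q) (g : Fin k → N')
    (hg : Submodule.span R' (Set.range g) = ⊤) : ¬ Fitt.ideal R M k ≤ p := by
  intro hle
  have h1 : Fitt.ideal R' N' k = ⊤ := fitt_eq_top_of_le g hg (by simp)
  rw [fitt_isBaseChange R' q hq k] at h1
  exact hp (top_le_iff.mp (h1 ▸ Ideal.map_mono hle))

lemma span_range_mkLinearMap (S : Submonoid R) :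
    Submodule.span (Localization S) (Set.range (LocalizedModule.mkLinearMap S M)) = ⊤ := by
  rw [eq_top_iff]
  rintro y -
  induction y using LocalizedModule.induction_on with
  | h m s =>
    have : LocalizedModule.mk m s = Localization.mk 1 s • LocalizedModule.mkLinearMap S M m := by
      rw [LocalizedModule.mkLinearMap_apply, LocalizedModule.mk_smul_mk, one_smul, mul_one]
    rw [this]
    exact Submodule.smul_mem _ _ (Submodule.subset_span ⟨m, rfl⟩)

lemma span_range_tmul_one (R' : Type u') [CommRing R'] [Algebra R R'] :
    Submodule.span R' (Set.range (TensorProduct.mk R R' M 1)) = ⊤ := by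
  have h1 := Submodule.baseChange_span (R := R) (A := R') (Set.univ : Set M)
  rw [Submodule.span_univ, Submodule.baseChange_top, Set.image_univ] at h1
  exact h1.symm

end Groth.Agent.Helper7.FittLib
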