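import Mathlib
import Groth.Agent.Helper7.Fitt9

set_option linter.style.haveILetI false
set_option linter.unusedSectionVars false

namespace Groth.Agent.Helper7.FittLib

open Matrix TensorProduct

universe u

theorem fitt_not_le_iff {R : Type u} [CommRing R] (M : Type u) [AddCommGroup M] [Module R M]
    [Module.Finite R M] (k : ℕ) (p : Ideal R) [p.IsPrime] :
    (¬ Fitt.ideal R M k ≤ p ↔ Module.finrank p.ResidueField (p.ResidueField ⊗[R] M) ≤ k) ∧
    (¬ Fitt.ideal R M k ≤ p ↔
      ∃ g : Fin k → LocalizedModule p.primeCompl M,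
        Submodule.span (Localization.AtPrime p) (Set.range g) = ⊤) ∧
    (¬ Fitt.ideal R M k ≤ p ↔ ∃ f : R, f ∉ p ∧
      ∃ g : Fin k → LocalizedModule (Submonoid.powers f) M,
        Submodule.span (Localization.Away f) (Set.range g) = ⊤) := by
  refine ⟨⟨fun hA => ?_, fun hB => ?_⟩, ⟨fun hA => ?_, fun hC => ?_⟩, ⟨fun hA => ?_, fun hD => ?_⟩⟩
  · obtain ⟨d, hd, H⟩ := exists_gen_of_fitt_not_le k p hA
    obtain ⟨g, hg⟩ := H (R' := p.ResidueField) (N' := p.ResidueField ⊗[R] M)
      (TensorProduct.mk R p.ResidueField M 1)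
      (isUnit_iff_ne_zero.mpr (fun h => hd (Ideal.algebraMap_residueField_eq_zero.mp h)))
      (span_range_tmul_one _)
    have h1 := finrank_range_le_card (R := p.ResidueField) g
    rw [Set.finrank, hg, finrank_top, Fintype.card_fin] at h1
    exact h1
  · have hp : p.map (algebraMap R p.ResidueField) ≠ ⊤ := by
      have : p.map (algebraMap R p.ResidueField) = ⊥ := by
        rw [eq_bot_iff, Ideal.map_le_iff_le_comap]
        intro x hx
        rw [Ideal.mem_comap, Ideal.mem_bot]
        exact Ideal.algebraMap_residueField_eq_zero.mpr hx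
      rw [this]
      exact bot_ne_top
    obtain ⟨g, hg⟩ := exists_fin_span_of_card_le
      (Module.finBasis p.ResidueField (p.ResidueField ⊗[R] M))
      (Module.Basis.span_eq _) (k := k) (by simpa using hB)
    exact fitt_not_le_of_gen k p hp (TensorProduct.mk R p.ResidueField M 1)
      (TensorProduct.isBaseChange R M p.ResidueField) g hg
  · obtain ⟨d, hd, H⟩ := exists_gen_of_fitt_not_le k p hA
    exact H (R' := Localization.AtPrime p) (N' := LocalizedModule p.primeCompl M)
      (LocalizedModule.mkLinearMap p.primeCompl M)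
      (IsLocalization.map_units (Localization.AtPrime p) (⟨d, hd⟩ : p.primeCompl))
      (span_range_mkLinearMap _)
  · obtain ⟨g, hg⟩ := hC
    have hp : p.map (algebraMap R (Localization.AtPrime p)) ≠ ⊤ := by
      rw [IsLocalization.map_algebraMap_ne_top_iff_disjoint p.primeCompl]
      rw [Set.disjoint_left]
      intro x hx hx'
      exact hx hx'
    exact fitt_not_le_of_gen k p hp (LocalizedModule.mkLinearMap p.primeCompl M)
      (IsLocalizedModule.isBaseChange p.primeCompl _ _) g hg
  · obtain ⟨d, hd, H⟩ := exists_gen_of_fitt_not_le k p hA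
    refine ⟨d, hd, ?_⟩
    exact H (R' := Localization.Away d) (N' := LocalizedModule (Submonoid.powers d) M)
      (LocalizedModule.mkLinearMap (Submonoid.powers d) M)
      (IsLocalization.Away.algebraMap_isUnit d)
      (span_range_mkLinearMap _)
  · obtain ⟨f, hf, g, hg⟩ := hD
    have hp : p.map (algebraMap R (Localization.Away f)) ≠ ⊤ := by
      rw [IsLocalization.map_algebraMap_ne_top_iff_disjoint (Submonoid.powers f)]
      rw [Set.disjoint_left]
      rintro x ⟨m, rfl⟩ hx'
      exact hf (Ideal.IsPrime.mem_of_pow_mem ‹_› m hx')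
    exact fitt_not_le_of_gen k p hp (LocalizedModule.mkLinearMap (Submonoid.powers f) M)
      (IsLocalizedModule.isBaseChange (Submonoid.powers f) _ _) g hg

end Groth.Agent.Helper7.FittLib
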