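import Mathlib
import Groth.Agent.Helper7.Fitt10

set_option linter.style.haveILetI false
set_option linter.unusedSectionVars false

namespace Groth.Agent.Helper7.FittLib

open Matrix TensorProduct

universe u u' v

/-- A spanning family whose module has vanishing `Fit_{r-1}` is a basis. -/
theorem linearIndependent_of_fitt_eq_bot {S : Type u'} [CommRing S] {N : Type v} [AddCommGroup N]
    [Module S N] {r : ℕ} (g : Fin r → N) (hg : Submodule.span S (Set.range g) = ⊤)
    (h : ∀ k, k < r → Fitt.ideal S N k = ⊥) : LinearIndependent S g := by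
  rw [Fintype.linearIndependent_iff]
  intro c hc j
  have hr : 0 < r := j.pos
  have h1 := h (r - 1) (by omega)
  rw [fitt_eq_minors_fin g hg (rel S g : Set (Fin r → S)) (Submodule.span_eq _) (r - 1)] at h1
  have h2 : r - (r - 1) = 1 := by omega
  rw [h2] at h1
  have h3 := det_mem_minors (Z := (rel S g : Set (Fin r → S))) (fun _ : Fin 1 => c) (fun _ => j)
    (fun _ => (mem_rel g c).mpr hc)
  rw [h1, det_fin_one] at h3
  simpa using h3

lemma localizationAway_nontrivial {R : Type u} [CommRing R] (p : Ideal R) [p.IsPrime] (f : R)
    (hf : f ∉ p) : Nontrivial (Localization.Away f) := by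
  have hp : p.map (algebraMap R (Localization.Away f)) ≠ ⊤ := by
    rw [IsLocalization.map_algebraMap_ne_top_iff_disjoint (Submonoid.powers f)]
    rw [Set.disjoint_left]
    rintro x ⟨m, rfl⟩ hx'
    exact hf (Ideal.IsPrime.mem_of_pow_mem ‹_› m hx')
  by_contra hnt
  rw [not_nontrivial_iff_subsingleton] at hnt
  exact hp (Subsingleton.elim _ _)

theorem locally_free_iff_fitt {R : Type u} [CommRing R] (M : Type u) [AddCommGroup M] [Module R M]
    [Module.Finite R M] (r : ℕ) :
    (∀ (p : Ideal R) [p.IsPrime], ∃ f : R, f ∉ p ∧
      Module.Free (Localization.Away f) (LocalizedModule (Submonoid.powers f) M) ∧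
        Module.finrank (Localization.Away f) (LocalizedModule (Submonoid.powers f) M) = r) ↔
    ((∀ k, k < r → Fitt.ideal R M k = ⊥) ∧ (∀ k, r ≤ k → Fitt.ideal R M k = ⊤)) := by
  constructor
  · intro H
    have key : ∀ (p : Ideal R) [p.IsPrime], ∃ f : R, f ∉ p ∧ ∀ k,
        (Fitt.ideal R M k).map (algebraMap R (Localization.Away f)) = if k < r then ⊥ else ⊤ := by
      intro p _
      obtain ⟨f, hf, hfree, hrank⟩ := H p
      refine ⟨f, hf, fun k => ?_⟩
      have := localizationAway_nontrivial p f hf
      rw [← fitt_localizedModule]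
      let b := Module.finBasis (Localization.Away f) (LocalizedModule (Submonoid.powers f) M)
      rw [fitt_free b k, Fintype.card_fin, hrank]
    constructor
    · intro k hk
      rw [eq_bot_iff]
      intro a ha
      rw [Ideal.mem_bot]
      by_contra ha0
      have hann : (Ideal.span {a}).annihilator ≠ ⊤ := by
        intro htop
        have : (1 : R) ∈ (Ideal.span {a}).annihilator := htop ▸ trivial
        rw [Submodule.mem_annihilator_span_singleton, one_smul] at this
        exact ha0 this
      obtain ⟨J, hJ, hle⟩ := Ideal.exists_le_maximal _ hann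
      obtain ⟨f, hf, hmap⟩ := key J
      have h1 := hmap k
      rw [if_pos hk] at h1
      have h2 : algebraMap R (Localization.Away f) a = 0 := by
        have : algebraMap R (Localization.Away f) a ∈
            (Fitt.ideal R M k).map (algebraMap R (Localization.Away f)) :=
          Ideal.mem_map_of_mem _ ha
        rwa [h1] at this
      obtain ⟨⟨_, m, rfl⟩, hm⟩ := (IsLocalization.map_eq_zero_iff (Submonoid.powers f) _ a).mp h2
      have h3 : f ^ m ∈ (Ideal.span {a}).annihilator := by
        rw [Submodule.mem_annihilator_span_singleton]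
        exact hm
      exact hf (hJ.isPrime.mem_of_pow_mem m (hle h3))
    · intro k hk
      by_contra hne
      obtain ⟨J, hJ, hle⟩ := Ideal.exists_le_maximal _ hne
      obtain ⟨f, hf, hmap⟩ := key J
      have h1 := hmap k
      rw [if_neg (by omega)] at h1
      have h2 : J.map (algebraMap R (Localization.Away f)) ≠ ⊤ := by
        rw [IsLocalization.map_algebraMap_ne_top_iff_disjoint (Submonoid.powers f)]
        rw [Set.disjoint_left]
        rintro x ⟨m, rfl⟩ hx'
        exact hf (hJ.isPrime.mem_of_pow_mem m hx')
      exact h2 (top_le_iff.mp (h1 ▸ Ideal.map_mono hle))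
  · rintro ⟨h1, h2⟩ p _
    have hA : ¬ Fitt.ideal R M r ≤ p := by
      rw [h2 r le_rfl]
      intro h
      exact ‹p.IsPrime›.ne_top (top_le_iff.mp h)
    obtain ⟨f, hf, g, hg⟩ := (fitt_not_le_iff M r p).2.2.mp hA
    have := localizationAway_nontrivial p f hf
    have hli : LinearIndependent (Localization.Away f) g := by
      apply linearIndependent_of_fitt_eq_bot g hg
      intro k hk
      rw [fitt_localizedModule, h1 k hk, Ideal.map_bot]
    let b := Module.Basis.mk hli (top_le_iff.mpr hg).ge
    refine ⟨f, hf, Module.Free.of_basis b, ?_⟩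
    rw [Module.finrank_eq_card_basis b, Fintype.card_fin]

end Groth.Agent.Helper7.FittLib
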