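import Mathlib
import Groth.Prelude.Def_WeilCoh

set_option autoImplicit false
universe u v w

namespace Groth.Agent.Helper7.WC

open CategoryTheory AlgebraicGeometry WeilCoh

variable {k : Type u} [Field k] {P : ObjectProperty (Over (Spec (CommRingCat.of k)))}
variable {K : Type v} [Field K] (T : TheoryOn.{u, v, w} k P K)

theorem push_spec {X Y : P.FullSubcategory} (f : X ⟶ Y) (i : ℤ) (a : T.gr X i) (b : T.H Y)
    (hb : b ∈ T.gr Y (2 * (dim X.obj.left : ℤ) - i)) :
    T.tr Y ((T.push f i a : T.H Y) * b) = T.tr X ((a : T.H X) * T.pull f b) := by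
  have := T.duality Y (i + 2 * (dim Y.obj.left : ℤ) - 2 * (dim X.obj.left : ℤ))
    (2 * (dim X.obj.left : ℤ) - i) (by omega)
  have h := LinearMap.apply_symm_toPerfPair_self
    (pairing K (T.gr Y (i + 2 * (dim Y.obj.left : ℤ) - 2 * (dim X.obj.left : ℤ)))
      (T.gr Y (2 * (dim X.obj.left : ℤ) - i)) (T.tr Y)) (T.pushFunctional f i a)
  have h2 := LinearMap.congr_fun h ⟨b, hb⟩
  exact h2

theorem eq_of_forall_tr {Y : P.FullSubcategory} (m n : ℤ) (h : m + n = 2 * (dim Y.obj.left : ℤ))
    (y y' : T.H Y) (hy : y ∈ T.gr Y m) (hy' : y' ∈ T.gr Y m)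
    (H : ∀ b ∈ T.gr Y n, T.tr Y (y * b) = T.tr Y (y' * b)) : y = y' := by
  have hinj := (T.duality Y m n h).bijective_left.injective
  have : (⟨y, hy⟩ : T.gr Y m) = ⟨y', hy'⟩ := by
    apply hinj
    apply LinearMap.ext
    intro b
    exact H b b.2
  exact congrArg Subtype.val this

end Groth.Agent.Helper7.WC

namespace Groth.Agent.Helper7.WC

open CategoryTheory AlgebraicGeometry WeilCoh

variable {k : Type u} [Field k] {P : ObjectProperty (Over (Spec (CommRingCat.of k)))}
variable {K : Type v} [Field K] (T : TheoryOn.{u, v, w} k P K)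

theorem gr_congr {X : P.FullSubcategory} {m n : ℤ} (h : m = n) {a : T.H X} (ha : a ∈ T.gr X m) :
    a ∈ T.gr X n := h ▸ ha

theorem proj_formula {X Y : P.FullSubcategory} (f : X ⟶ Y) (i j : ℤ)
    (a : ↥(T.gr X i)) (c : ↥(T.gr Y j)) :
    (T.push f (i + j) ⟨(a : T.H X) * T.pull f c,
        SetLike.mul_mem_graded a.2 (T.pull_mem f j c c.2)⟩ : T.H Y) =
      (T.push f i a : T.H Y) * c := by
  apply eq_of_forall_tr T (i + j + 2 * (dim Y.obj.left : ℤ) - 2 * (dim X.obj.left : ℤ))
    (2 * (dim X.obj.left : ℤ) - (i + j)) (by omega)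
  · exact (T.push f (i + j) _).2
  · exact gr_congr T (by omega) (SetLike.mul_mem_graded (T.push f i a).2 c.2)
  · intro b hb
    have hcb : (c : T.H Y) * b ∈ T.gr Y (2 * (dim X.obj.left : ℤ) - i) :=
      gr_congr T (by omega) (SetLike.mul_mem_graded c.2 hb)
    rw [push_spec T f (i + j) _ b hb, mul_assoc ((T.push f i a : T.H Y)), push_spec T f i a _ hcb]
    show T.tr X ((a : T.H X) * T.pull f c * T.pull f b) = _
    rw [map_mul (T.pull f), mul_assoc]

theorem push_comp {X Y Z : P.FullSubcategory} (f : X ⟶ Y) (g : Y ⟶ Z) (i : ℤ)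
    (a : ↥(T.gr X i)) :
    (T.push (f ≫ g) i a : T.H Z) =
      (T.push g (i + 2 * (WeilCoh.dim Y.obj.left : ℤ) - 2 * (WeilCoh.dim X.obj.left : ℤ))
        (T.push f i a) : T.H Z) := by
  apply eq_of_forall_tr T (i + 2 * (dim Z.obj.left : ℤ) - 2 * (dim X.obj.left : ℤ))
    (2 * (dim X.obj.left : ℤ) - i) (by omega)
  · exact (T.push (f ≫ g) i a).2
  · exact gr_congr T (by omega) (T.push g _ (T.push f i a)).2
  · intro b hb
    rw [push_spec T (f ≫ g) i a b hb]
    have hb' : b ∈ T.gr Z (2 * (dim Y.obj.left : ℤ) -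
        (i + 2 * (WeilCoh.dim Y.obj.left : ℤ) - 2 * (WeilCoh.dim X.obj.left : ℤ))) :=
      gr_congr T (by omega) hb
    rw [push_spec T g _ (T.push f i a) b hb']
    rw [push_spec T f i a _ (T.pull_mem g _ b hb)]
    rw [T.pull_comp]
    rfl

end Groth.Agent.Helper7.WC

namespace Groth.Agent.Helper7.WC

open CategoryTheory AlgebraicGeometry WeilCoh

variable {k : Type u} [Field k] {P : ObjectProperty (Over (Spec (CommRingCat.of k)))}
variable {K : Type v} [Field K] (T : TheoryOn.{u, v, w} k P K)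

theorem one_ne_zero' (X : P.FullSubcategory) : (1 : T.H X) ≠ 0 := by
  intro h
  obtain ⟨e, he⟩ := (T.tr_bijective X).surjective 1
  have h0 : (e : T.H X) = 0 := by
    rw [← one_mul (e : T.H X), h, zero_mul]
  have : T.tr X (e : T.H X) = 1 := he
  rw [h0, map_zero] at this
  exact zero_ne_one this

theorem finrank_top (X : P.FullSubcategory) :
    Module.finrank K (T.gr X (2 * (dim X.obj.left : ℤ))) = 1 := by
  have e := LinearEquiv.ofBijective _ (T.tr_bijective X)
  rw [e.finrank_eq, Module.finrank_self]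

theorem finrank_zero (X : P.FullSubcategory) : Module.finrank K (T.gr X 0) = 1 := by
  have := T.duality X 0 (2 * (dim X.obj.left : ℤ)) (by omega)
  rw [Module.finrank_of_isPerfPair (pairing K (T.gr X 0) (T.gr X (2 * (dim X.obj.left : ℤ))) (T.tr X)),
    finrank_top]

theorem smul_one_bij (X : P.FullSubcategory) :
    Function.Bijective (fun c : K =>
      (⟨c • (1 : T.H X), (T.gr X 0).smul_mem c (SetLike.one_mem_graded (T.gr X))⟩ : ↥(T.gr X 0))) := by
  let φ : K →ₗ[K] T.gr X 0 :=
    { toFun := fun c => ⟨c • (1 : T.H X), (T.gr X 0).smul_mem c (SetLike.one_mem_graded (T.gr X))⟩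
      map_add' := fun a b => by
        apply Subtype.ext
        simp [add_smul]
      map_smul' := fun a b => by
        apply Subtype.ext
        simp [mul_smul] }
  have hinj : Function.Injective φ := by
    rw [injective_iff_map_eq_zero]
    intro c hc
    have h1 : c • (1 : T.H X) = 0 := congrArg Subtype.val hc
    rcases smul_eq_zero.mp h1 with h | h
    · exact h
    · exact absurd h (one_ne_zero' T X)
  have hdim : Module.finrank K K = Module.finrank K (T.gr X 0) := by
    rw [finrank_zero, Module.finrank_self]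
  exact ⟨hinj, (LinearMap.injective_iff_surjective_of_finrank_eq_finrank hdim).mp hinj⟩

end Groth.Agent.Helper7.WC

namespace Groth.Agent.Helper7.WC

open CategoryTheory AlgebraicGeometry WeilCoh

variable {k : Type u} [Field k] {P : ObjectProperty (Over (Spec (CommRingCat.of k)))}
variable {K : Type v} [Field K] (T : TheoryOn.{u, v, w} k P K)

include T in
theorem dim_prod {X Y Q : P.FullSubcategory} (p : Q ⟶ X) (q : Q ⟶ Y) (hQ : IsProd p q) :
    (dim Q.obj.left : ℤ) = dim X.obj.left + dim Y.obj.left := by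
  obtain ⟨eX, heX⟩ := (T.tr_bijective X).surjective 1
  obtain ⟨eY, heY⟩ := (T.tr_bijective Y).surjective 1
  have h1 : T.tr Q (T.pull p eX * T.pull q eY) = 1 := by
    rw [T.tr_prod p q hQ eX eY eX.2 eY.2]
    have h1 : T.tr X (eX : T.H X) = 1 := heX
    have h2 : T.tr Y (eY : T.H Y) = 1 := heY
    rw [h1, h2, one_mul]
  have hmem : T.pull p eX * T.pull q eY ∈
      T.gr Q (2 * (dim X.obj.left : ℤ) + 2 * (dim Y.obj.left : ℤ)) :=
    SetLike.mul_mem_graded (T.pull_mem p _ _ eX.2) (T.pull_mem q _ _ eY.2)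
  by_contra hne
  have := T.tr_vanish Q _ _ hmem (by omega)
  rw [h1] at this
  exact one_ne_zero this

theorem push_fst_pull_snd {X Y Q : P.FullSubcategory} (p : Q ⟶ X) (q : Q ⟶ Y)
    (hQ : WeilCoh.IsProd p q) (i : ℤ) (a : ↥(T.gr Y i)) :
    (i = 2 * (WeilCoh.dim Y.obj.left : ℤ) →
      (T.push p i ⟨T.pull q a, T.pull_mem q i a a.2⟩ : T.H X) = algebraMap K (T.H X) (T.tr Y a)) ∧
    (i ≠ 2 * (WeilCoh.dim Y.obj.left : ℤ) →
      (T.push p i ⟨T.pull q a, T.pull_mem q i a a.2⟩ : T.H X) = 0) := by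
  have hd := dim_prod T p q hQ
  constructor
  · intro hi
    apply eq_of_forall_tr T (i + 2 * (dim X.obj.left : ℤ) - 2 * (dim Q.obj.left : ℤ))
      (2 * (dim Q.obj.left : ℤ) - i) (by omega)
    · exact (T.push p i _).2
    · rw [Algebra.algebraMap_eq_smul_one]
      exact gr_congr T (by omega)
        ((T.gr X 0).smul_mem _ (SetLike.one_mem_graded (T.gr X)))
    · intro b hb
      rw [push_spec T p i _ b hb]
      show T.tr Q (T.pull q a * T.pull p b) = _
      have hb' : b ∈ T.gr X (2 * (dim X.obj.left : ℤ)) := gr_congr T (by omega) hb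
      have ha' : (a : T.H Y) ∈ T.gr Y (2 * (dim Y.obj.left : ℤ)) := gr_congr T hi a.2
      rw [T.gradedComm Q _ _ _ _ (T.pull_mem q _ _ ha') (T.pull_mem p _ _ hb')]
      have hsign : ((-1 : K) ^ ((2 * (dim Y.obj.left : ℤ)).natAbs * (2 * (dim X.obj.left : ℤ)).natAbs)) = 1 := by
        have : (2 * (dim Y.obj.left : ℤ)).natAbs = 2 * dim Y.obj.left := by
          rw [Int.natAbs_mul]; simp
        rw [this, mul_assoc, pow_mul]
        simp
      rw [hsign, one_smul, T.tr_prod p q hQ b a hb' ha', Algebra.algebraMap_eq_smul_one,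
        smul_mul_assoc, one_mul, map_smul, smul_eq_mul, mul_comm]
  · intro hi
    rcases lt_or_gt_of_ne hi with hlt | hgt
    · apply eq_of_forall_tr T (i + 2 * (dim X.obj.left : ℤ) - 2 * (dim Q.obj.left : ℤ))
        (2 * (dim Q.obj.left : ℤ) - i) (by omega)
      · exact (T.push p i _).2
      · exact zero_mem _
      · intro b hb
        have hbot := T.vanish X (2 * (dim Q.obj.left : ℤ) - i) (Or.inr (by omega))
        rw [hbot, Submodule.mem_bot] at hb
        rw [hb, mul_zero, mul_zero]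
    · have hbot := T.vanish Y i (Or.inr hgt)
      have ha0 : (a : T.H Y) = 0 := by
        have h2 : ∀ (S : Submodule K (T.H Y)) (x : T.H Y), x ∈ S → S = ⊥ → x = 0 := by
          intro S x hx hS
          rw [hS, Submodule.mem_bot] at hx
          exact hx
        exact h2 _ _ a.2 hbot
      have : (⟨T.pull q a, T.pull_mem q i a a.2⟩ : T.gr Q i) = 0 := by
        apply Subtype.ext
        show T.pull q a = 0
        rw [ha0, map_zero]
      rw [this, map_zero]
      rfl

end Groth.Agent.Helper7.WC
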