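import Groth.Agent.Helper7.AwnSch4

set_option autoImplicit false
universe u
open AlgebraicGeometry CategoryTheory Limits

namespace Groth.Agent.Helper7.UHImg

/-- Universal injectivity descends along a surjection of the source. -/
theorem universallyInjective_of_comp_of_surjective {X' X Y : Scheme.{u}} (q : X' ⟶ X) (f : X ⟶ Y)
    [Surjective q] [UniversallyInjective (q ≫ f)] : UniversallyInjective f := by
  have h1 := (tfae_universallyInjective f).out 0 3
  have h2 := (tfae_universallyInjective (q ≫ f)).out 0 3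
  rw [h1]
  have hd : Surjective (pullback.diagonal (q ≫ f)) := h2.1 ‹_›
  let m : pullback (q ≫ f) (q ≫ f) ⟶ pullback f f :=
    pullback.map (q ≫ f) (q ≫ f) f f q q (𝟙 Y) ((Category.comp_id _).trans rfl)
      ((Category.comp_id _).trans rfl)
  have hm : Surjective m :=
    MorphismProperty.pullbackMap (P := @Surjective) ‹_› ‹_› rfl rfl
  have hcomm : pullback.diagonal (q ≫ f) ≫ m = q ≫ pullback.diagonal f := by
    apply pullback.hom_ext
    · simp only [m, Category.assoc, pullback.lift_fst, pullback.diagonal_fst_assoc,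
        pullback.diagonal_fst, Category.comp_id, pullback.map]
    · simp only [m, Category.assoc, pullback.lift_snd, pullback.diagonal_snd_assoc,
        pullback.diagonal_snd, Category.comp_id, pullback.map]
  constructor
  intro z
  obtain ⟨z', rfl⟩ := m.surjective z
  obtain ⟨x', rfl⟩ := (pullback.diagonal (q ≫ f)).surjective z'
  refine ⟨q x', ?_⟩
  have := congrArg (fun g => g.base x') hcomm
  exact this.symm

/-- The scheme-theoretic image of a universal homeomorphism inside a separated scheme locally of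
finite type over the base is finite and universally homeomorphic over the base. -/
theorem image_finite_univHomeo {T' T P : Scheme.{u}} (ν : T' ⟶ T) (hν : FlatMor.IsUnivHomeo ν)
    (p : P ⟶ T) [IsSeparated p] [LocallyOfFiniteType p] (φ : T' ⟶ P) (hφ : φ ≫ p = ν) :
    IsFinite (φ.imageι ≫ p) ∧ FlatMor.IsUnivHomeo (φ.imageι ≫ p) ∧ Surjective φ.toImage ∧
      QuasiCompact φ := by
  obtain ⟨hint, hinj, hsurj⟩ := (Groth.Agent.Helper5.UnivHomeo.isUnivHomeo_iff ν).1 hν
  haveI : QuasiCompact (φ ≫ p) := by rw [hφ]; infer_instance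
  haveI : UniversallyClosed (φ ≫ p) := by rw [hφ]; infer_instance
  haveI : QuasiCompact φ :=
    MorphismProperty.of_postcomp (W := @QuasiCompact) (W' := @QuasiSeparated) φ p
      inferInstance inferInstance
  haveI : UniversallyClosed φ := UniversallyClosed.of_comp_of_isSeparated φ p
  haveI : Surjective φ.toImage :=
    surjective_of_isDominant_of_isClosed_range _ φ.toImage.isClosedMap.isClosed_range
  have hcomp : φ.toImage ≫ φ.imageι ≫ p = ν := by rw [Scheme.Hom.toImage_imageι_assoc, hφ]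
  haveI : UniversallyClosed (φ.toImage ≫ φ.imageι ≫ p) := by rw [hcomp]; infer_instance
  haveI : UniversallyClosed (φ.imageι ≫ p) := UniversallyClosed.of_comp_surjective φ.toImage _
  haveI : IsProper (φ.imageι ≫ p) := ⟨⟩
  haveI : Surjective (φ.toImage ≫ φ.imageι ≫ p) := by rw [hcomp]; exact hsurj
  haveI : Surjective (φ.imageι ≫ p) := Surjective.of_comp φ.toImage _
  haveI : UniversallyInjective (φ.toImage ≫ φ.imageι ≫ p) := by rw [hcomp]; exact hinj
  haveI : UniversallyInjective (φ.imageι ≫ p) :=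
    universallyInjective_of_comp_of_surjective φ.toImage _
  have hfin : IsFinite (φ.imageι ≫ p) := by
    refine IsZariskiLocalAtTarget.of_forall_exists_morphismRestrict (P := @IsFinite) fun t => ?_
    have hsub : ((φ.imageι ≫ p) ⁻¹' {t}).Subsingleton := by
      intro a ha b hb
      exact (φ.imageι ≫ p).injective (ha.trans hb.symm)
    exact exists_isFinite_morphismRestrict_of_finite_preimage_singleton _ t hsub.finite
  refine ⟨hfin, ?_, inferInstance, inferInstance⟩
  rw [Groth.Agent.Helper5.UnivHomeo.isUnivHomeo_iff]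
  exact ⟨inferInstance, inferInstance, inferInstance⟩

theorem isSchemeTheoreticallyDominant_toImage {X Y : Scheme.{u}} (f : X ⟶ Y) [QuasiCompact f] :
    IsSchemeTheoreticallyDominant f.toImage := by
  rw [isSchemeTheoreticallyDominant_iff]
  refine Scheme.IdealSheafData.ext_of_iSup_eq_top
    (fun U : Y.affineOpens ↦ ⟨f.imageι ⁻¹ᵁ U.1, U.2.preimage _⟩)
    (TopologicalSpace.IsOpenCover.comap (iSup_affineOpens_eq_top _) _) fun U ↦ ?_
  simp only [Scheme.Hom.ker_apply, Scheme.IdealSheafData.ideal_bot, Pi.bot_apply]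
  rw [← RingHom.injective_iff_ker_eq_bot]
  exact f.toImage_app_injective U

theorem isReduced_image {X Y : Scheme.{u}} (f : X ⟶ Y) [QuasiCompact f] [IsReduced X] :
    IsReduced f.image := by
  haveI := isSchemeTheoreticallyDominant_toImage f
  exact IsSchemeTheoreticallyDominant.isReduced f.toImage

open HTop in
theorem s13832 {S X T T' : Scheme.{u}} [IsNoetherian S] [IsNoetherian T] [S.IsSeparated]
    [X.IsSeparated] [T.IsSeparated] [T'.IsSeparated] (fX : X ⟶ S) [LocallyOfFiniteType fX]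
    (fT : T ⟶ S) (ν : T' ⟶ T) (hν : HTop.IsAWNormalization ν) :
    (∀ g : T' ⟶ X, g ≫ fX = ν ≫ fT →
      ∃ (T₁ : Scheme.{u}) (π : T₁ ⟶ T) (_ : IsFinite π) (_ : FlatMor.IsUnivHomeo π) (g₁ : T₁ ⟶ X)
        (h : T' ⟶ T₁), h ≫ π = ν ∧ g₁ ≫ fX = π ≫ fT ∧ h ≫ g₁ = g) ∧
    (∀ (T₁ T₂ : Scheme.{u}) (π₁ : T₁ ⟶ T) (π₂ : T₂ ⟶ T) [IsFinite π₁] [IsFinite π₂],
      FlatMor.IsUnivHomeo π₁ → FlatMor.IsUnivHomeo π₂ →
      ∀ (g₁ : T₁ ⟶ X) (g₂ : T₂ ⟶ X) (h₁ : T' ⟶ T₁) (h₂ : T' ⟶ T₂),
        g₁ ≫ fX = π₁ ≫ fT → g₂ ≫ fX = π₂ ≫ fT → h₁ ≫ π₁ = ν → h₂ ≫ π₂ = ν → h₁ ≫ g₁ = h₂ ≫ g₂ →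
        ∃ (T₃ : Scheme.{u}) (π₃ : T₃ ⟶ T) (_ : IsFinite π₃) (_ : FlatMor.IsUnivHomeo π₃)
          (a₁ : T₃ ⟶ T₁) (a₂ : T₃ ⟶ T₂), a₁ ≫ π₁ = π₃ ∧ a₂ ≫ π₂ = π₃ ∧ a₁ ≫ g₁ = a₂ ≫ g₂) := by
  constructor
  · intro g hg
    let φ : T' ⟶ pullback fX fT := pullback.lift g ν hg
    have hφ : φ ≫ pullback.snd fX fT = ν := pullback.lift_snd _ _ _
    obtain ⟨hfin, hU, -, -⟩ := image_finite_univHomeo ν hν.1 (pullback.snd fX fT) φ hφ
    refine ⟨φ.image, φ.imageι ≫ pullback.snd fX fT, hfin, hU, φ.imageι ≫ pullback.fst fX fT,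
      φ.toImage, ?_, ?_, ?_⟩
    · rw [Scheme.Hom.toImage_imageι_assoc, hφ]
    · rw [Category.assoc, Category.assoc, pullback.condition]
    · rw [Scheme.Hom.toImage_imageι_assoc]; exact pullback.lift_fst _ _ _
  · intro T₁ T₂ π₁ π₂ _ _ hπ₁ hπ₂ g₁ g₂ h₁ h₂ hg₁ hg₂ hh₁ hh₂ hgg
    haveI : IsReduced T' := Groth.Agent.Helper7.AwnSch.awnz_isReduced hν
    let ψ : T' ⟶ pullback π₁ π₂ := pullback.lift h₁ h₂ (hh₁.trans hh₂.symm)
    have hψ : ψ ≫ (pullback.fst π₁ π₂ ≫ π₁) = ν := by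
      rw [pullback.lift_fst_assoc, hh₁]
    obtain ⟨hfin, hU, -, hqc⟩ := image_finite_univHomeo ν hν.1 (pullback.fst π₁ π₂ ≫ π₁) ψ hψ
    haveI : IsReduced ψ.image := isReduced_image ψ
    refine ⟨ψ.image, ψ.imageι ≫ pullback.fst π₁ π₂ ≫ π₁, hfin, hU,
      ψ.imageι ≫ pullback.fst π₁ π₂, ψ.imageι ≫ pullback.snd π₁ π₂, ?_, ?_, ?_⟩
    · rw [Category.assoc]
    · rw [Category.assoc, pullback.condition]
    · refine ext_of_isDominant_of_isSeparated fX ?_ ψ.toImage ?_
      · simp only [Category.assoc]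
        rw [hg₁, hg₂, pullback.condition_assoc]
      · simp only [Category.assoc]
        rw [Scheme.Hom.toImage_imageι_assoc, Scheme.Hom.toImage_imageι_assoc,
          pullback.lift_fst_assoc, pullback.lift_snd_assoc, hgg]

end Groth.Agent.Helper7.UHImg
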