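import Mathlib
import Groth.Prelude.Def_ProCons

set_option autoImplicit false
universe u

namespace Groth.Agent.Helper7.PC

open AlgebraicGeometry Topology CategoryTheory

theorem lc_preimage {X Y : Scheme.{u}} (f : X ⟶ Y) {T : Set Y} (hT : IsLocallyConstructible T) :
    IsLocallyConstructible (f.base ⁻¹' T) := by
  intro x
  obtain ⟨V, hV, hVo, hVc⟩ := hT (f.base x)
  let V' : Y.Opens := ⟨V, hVo⟩
  refine ⟨(f ⁻¹ᵁ V' : Set X), ?_, (f ⁻¹ᵁ V').2, ?_⟩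
  · have hx : f.base x ∈ V := mem_of_mem_nhds hV
    exact (f ⁻¹ᵁ V').2.mem_nhds hx
  · have := (f ∣_ V').isConstructible_preimage (s := (Subtype.val ⁻¹' T : Set V')) hVc
    have heq : ((f ∣_ V').base ⁻¹' (Subtype.val ⁻¹' T : Set V') : Set ↥(f ⁻¹ᵁ V')) =
        (Subtype.val ⁻¹' (f.base ⁻¹' T) : Set ↥(f ⁻¹ᵁ V')) := by
      ext z
      simp only [Set.mem_preimage]
      rw [morphismRestrict_base_coe]
    exact heq ▸ this

theorem pro_preimage {X Y : Scheme.{u}} (f : X ⟶ Y) (T : Set Y)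
    (hT : ProCons.IsProConstructible T) :
    ProCons.IsProConstructible (f.base ⁻¹' T) := by
  intro x
  obtain ⟨U, hUo, hxU, S, hS, hE⟩ := hT (f.base x)
  let U' : Y.Opens := ⟨U, hUo⟩
  refine ⟨(f ⁻¹ᵁ U' : Set X), (f ⁻¹ᵁ U').2, hxU,
    (fun T' : Set ↥U' => ((f ∣_ U').base ⁻¹' T' : Set ↥(f ⁻¹ᵁ U'))) '' S, ?_, ?_⟩
  · rintro _ ⟨T', hT', rfl⟩
    exact lc_preimage (f ∣_ U') (hS T' hT')
  · ext z
    have h1 : (((f ∣_ U').base z).1 : Y) = f.base z.1 := morphismRestrict_base_coe f U' z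
    have h2 : ((f ∣_ U').base z) ∈ (Subtype.val ⁻¹' T : Set ↥U) ↔ ((f ∣_ U').base z) ∈ ⋂₀ S := by
      rw [hE]
    simp only [Set.mem_preimage, Set.mem_sInter, Set.mem_image, forall_exists_index, and_imp,
      forall_apply_eq_imp_iff₂] at h2 ⊢
    rw [← h1]
    exact h2

theorem ind_preimage {X Y : Scheme.{u}} (f : X ⟶ Y) (T : Set Y)
    (hT : ProCons.IsIndConstructible T) :
    ProCons.IsIndConstructible (f.base ⁻¹' T) := by
  intro x
  obtain ⟨U, hUo, hxU, S, hS, hE⟩ := hT (f.base x)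
  let U' : Y.Opens := ⟨U, hUo⟩
  refine ⟨(f ⁻¹ᵁ U' : Set X), (f ⁻¹ᵁ U').2, hxU,
    (fun T' : Set ↥U' => ((f ∣_ U').base ⁻¹' T' : Set ↥(f ⁻¹ᵁ U'))) '' S, ?_, ?_⟩
  · rintro _ ⟨T', hT', rfl⟩
    exact lc_preimage (f ∣_ U') (hS T' hT')
  · ext z
    have h1 : (((f ∣_ U').base z).1 : Y) = f.base z.1 := morphismRestrict_base_coe f U' z
    have h2 : ((f ∣_ U').base z) ∈ (Subtype.val ⁻¹' T : Set ↥U) ↔ ((f ∣_ U').base z) ∈ ⋃₀ S := by
      rw [hE]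
    simp only [Set.mem_preimage, Set.mem_sUnion, Set.mem_image, exists_exists_and_eq_and] at h2 ⊢
    rw [← h1]
    exact h2

end Groth.Agent.Helper7.PC
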