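import Mathlib
import Groth.Agent.Helper2.RegSmooth2

/-!
# Regularity lifts along a surjection with small nilpotent kernel; generic regular points
-/

set_option linter.style.haveILetI false
set_option linter.unusedSectionVars false
set_option autoImplicit false

universe u v

namespace Groth.Agent.Helper7.RegNil

open IsLocalRing

/-- Krull dimension is insensitive to a nil kernel -/
theorem ringKrullDim_eq_of_surjective_of_ker_le_nilradical {R S : Type*} [CommRing R] [CommRing S]
    (f : R →+* S) (hf : Function.Surjective f) (h1 : RingHom.ker f ≤ nilradical R) :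
    ringKrullDim R = ringKrullDim S := by
  refine le_antisymm ?_ (ringKrullDim_le_of_surjective f hf)
  have hker : ∀ p : PrimeSpectrum R, RingHom.ker f ≤ p.asIdeal := fun p =>
    h1.trans (nilradical_le_prime p.asIdeal)
  refine Order.krullDim_le_of_strictMono
    (fun p => ⟨p.asIdeal.map f, Ideal.map_isPrime_of_surjective hf (hker p)⟩) ?_
  intro p q hpq
  have hc : ∀ p : PrimeSpectrum R, (p.asIdeal.map f).comap f = p.asIdeal := fun p => by
    rw [Ideal.comap_map_of_surjective f hf]
    exact sup_eq_left.mpr (by
      change Ideal.comap f ⊥ ≤ _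
      exact hker p)
  rw [← PrimeSpectrum.asIdeal_lt_asIdeal] at hpq ⊢
  change p.asIdeal.map f < q.asIdeal.map f
  refine lt_of_le_of_ne (Ideal.map_mono hpq.le) ?_
  intro h
  have := congrArg (Ideal.comap f) h
  rw [hc p, hc q] at this
  exact hpq.ne this

/-- regularity lifts along a surjection whose kernel is nil and contained in `𝔪²` -/
theorem isRegularLocalRing_of_surjective {R S : Type*} [CommRing R] [CommRing S] [IsLocalRing R]
    [IsNoetherianRing R] [IsRegularLocalRing S] (f : R →+* S) (hf : Function.Surjective f)
    (h1 : RingHom.ker f ≤ nilradical R) (h2 : RingHom.ker f ≤ maximalIdeal R ^ 2) :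
    IsRegularLocalRing R := by
  apply IsRegularLocalRing.of_spanFinrank_maximalIdeal_le
  rw [ringKrullDim_eq_of_surjective_of_ker_le_nilradical f hf h1,
    ← IsRegularLocalRing.spanFinrank_maximalIdeal (R := S), Nat.cast_le]
  haveI : IsLocalHom f := hf.isLocalHom f
  have hmap : (maximalIdeal R).map f = maximalIdeal S := by
    rw [← IsLocalRing.map_maximalIdeal_of_surjective f hf]
  obtain ⟨s, hs1, hs2⟩ := Submodule.FG.exists_span_finset_card_eq_spanFinrank
    (IsNoetherian.noetherian (maximalIdeal S))
  classical
  -- lift the generators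
  have hlift : ∀ y : S, ∃ x : R, f x = y := fun y => hf y
  choose g hg using hlift
  let T : Finset R := s.image g
  have hT : (T : Set R) ⊆ maximalIdeal R := by
    intro x hx
    rw [Finset.coe_image] at hx
    obtain ⟨y, hy, rfl⟩ := hx
    have hy' : y ∈ maximalIdeal S := hs2 ▸ Submodule.subset_span hy
    rw [SetLike.mem_coe, mem_maximalIdeal, mem_nonunits_iff]
    rw [mem_maximalIdeal, mem_nonunits_iff] at hy'
    intro hu
    exact hy' (by rw [← hg y]; exact hu.map f)
  have hle : maximalIdeal R ≤ Ideal.span (T : Set R) ⊔ maximalIdeal R • maximalIdeal R := by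
    intro x hx
    have hx' : f x ∈ Ideal.span (s : Set S) := by
      change f x ∈ Submodule.span S (s : Set S)
      rw [hs2, ← hmap]
      exact Ideal.mem_map_of_mem f hx
    have hst : Ideal.span (s : Set S) = (Ideal.span (T : Set R)).map f := by
      rw [Ideal.map_span, Finset.coe_image, ← Set.image_comp]
      congr 1
      ext y
      simp [hg]
    rw [hst, Ideal.mem_map_iff_of_surjective f hf] at hx'
    obtain ⟨t, ht, htx⟩ := hx'
    have hk : x - t ∈ RingHom.ker f := by rw [RingHom.mem_ker, map_sub, htx, sub_self]
    have : x = t + (x - t) := by ring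
    rw [this]
    refine Submodule.add_mem_sup ht ?_
    rw [smul_eq_mul, ← pow_two]
    exact h2 hk
  have hspan : maximalIdeal R ≤ Ideal.span (T : Set R) :=
    Submodule.le_of_le_smul_of_le_jacobson_bot (IsNoetherian.noetherian _)
      (IsLocalRing.maximalIdeal_le_jacobson _) hle
  have heq : Ideal.span (T : Set R) = maximalIdeal R :=
    le_antisymm (Ideal.span_le.mpr hT) hspan
  calc (maximalIdeal R).spanFinrank = (Submodule.span R (T : Set R)).spanFinrank := by
        rw [← heq]
    _ ≤ (T : Set R).ncard := Submodule.spanFinrank_span_le_ncard_of_finite (Finset.finite_toSet T)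
    _ = T.card := Set.ncard_coe_finset T
    _ ≤ s.card := Finset.card_image_le
    _ = (maximalIdeal S).spanFinrank := hs1

/-- a reduced algebra of finite type over a perfect field has a regular closed point
(same universe version) -/
theorem exists_isMaximal_regular' (k B : Type u) [Field k] [PerfectField k] [CommRing B]
    [Algebra k B] [Algebra.FiniteType k B] [IsReduced B] [Nontrivial B] :
    ∃ m : Ideal B, ∃ _ : m.IsMaximal, IsRegularLocalRing (Localization.AtPrime m) := by
  haveI : IsNoetherianRing B := Algebra.FiniteType.isNoetherianRing k B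
  haveI : Algebra.FinitePresentation k B :=
    Algebra.FinitePresentation.of_finiteType.mp inferInstance
  haveI : IsJacobsonRing B := isJacobsonRing_of_finiteType (A := k) (B := B)
  obtain ⟨p, hp⟩ := Ideal.nonempty_minimalPrimes (bot_ne_top : (⊥ : Ideal B) ≠ ⊤)
  have hp' : p ∈ minimalPrimes B := hp
  haveI : p.IsPrime := hp.1.1
  haveI : Ring.KrullDimLE 0 (Localization.AtPrime p) := Ring.KrullDimLE.of_isLocalization p hp' _
  have hF : IsField (Localization.AtPrime p) := Ring.KrullDimLE.isField_of_isReduced
  have hbij : Function.Bijective (algebraMap (Localization.AtPrime p) p.ResidueField) := by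
    refine ⟨?_, IsLocalRing.residue_surjective⟩
    rw [RingHom.injective_iff_ker_eq_bot]
    change RingHom.ker (IsLocalRing.residue (Localization.AtPrime p)) = ⊥
    rw [IsLocalRing.ker_residue]
    exact IsLocalRing.isField_iff_maximalIdeal_eq.mp hF
  let e : Localization.AtPrime p ≃ₐ[k] p.ResidueField :=
    AlgEquiv.ofBijective (IsScalarTower.toAlgHom k _ _) hbij
  haveI : Algebra.EssFiniteType k (Localization.AtPrime p) :=
    Algebra.EssFiniteType.comp k B _
  haveI : Algebra.EssFiniteType k p.ResidueField :=
    Algebra.EssFiniteType.comp k (Localization.AtPrime p) _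
  haveI : Algebra.FormallySmooth k p.ResidueField := inferInstance
  have hsm : Algebra.FormallySmooth k (Localization.AtPrime p) :=
    Algebra.FormallySmooth.of_equiv e.symm
  have hmem : (⟨p, inferInstance⟩ : PrimeSpectrum B) ∈ Algebra.smoothLocus k B := hsm
  obtain ⟨x, hx, hxc⟩ := PrimeSpectrum.exists_isClosed_singleton_of_isJacobsonRing _
    (Algebra.isOpen_smoothLocus (R := k) (A := B)) ⟨_, hmem⟩
  have hmax : x.asIdeal.IsMaximal := (PrimeSpectrum.isClosed_singleton_iff_isMaximal x).mp hxc
  exact ⟨x.asIdeal, hmax,
    Groth.Agent.Helper2.RegSmooth2.isRegularLocalRing_of_isSmoothAt k B x.asIdeal hx⟩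

/-- a reduced algebra of finite type over a perfect field has a regular closed point -/
theorem exists_isMaximal_regular (k : Type u) (B : Type v) [Field k] [PerfectField k] [CommRing B]
    [Algebra k B] [Algebra.FiniteType k B] [IsReduced B] [Nontrivial B] :
    ∃ m : Ideal B, ∃ _ : m.IsMaximal, IsRegularLocalRing (Localization.AtPrime m) := by
  obtain ⟨n, φ, hφ⟩ := Algebra.FiniteType.iff_quotient_mvPolynomial''.1
    (inferInstance : Algebra.FiniteType k B)
  let e : (MvPolynomial (Fin n) k ⧸ RingHom.ker φ) ≃ₐ[k] B :=
    Ideal.quotientKerAlgEquivOfSurjective hφ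
  haveI : IsReduced (MvPolynomial (Fin n) k ⧸ RingHom.ker φ) :=
    isReduced_of_injective e e.injective
  haveI : Nontrivial (MvPolynomial (Fin n) k ⧸ RingHom.ker φ) := e.toEquiv.nontrivial
  obtain ⟨m', hm', hreg⟩ := exists_isMaximal_regular' k (MvPolynomial (Fin n) k ⧸ RingHom.ker φ)
  let e' : B ≃+* (MvPolynomial (Fin n) k ⧸ RingHom.ker φ) := e.toRingEquiv.symm
  haveI hmax : (m'.comap e').IsMaximal :=
    Ideal.comap_isMaximal_of_surjective _ e'.surjective
  refine ⟨m'.comap e', hmax, ?_⟩
  exact IsRegularLocalRing.of_ringEquiv (R := Localization.AtPrime m') (IsLocalization.ringEquivOfRingEquiv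
    (Localization.AtPrime (m'.comap e')) (Localization.AtPrime m') e'
    (e'.map_primeCompl_comap_eq m')).symm

end Groth.Agent.Helper7.RegNil
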