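import Mathlib

set_option linter.style.haveILetI false
set_option linter.unusedSectionVars false

/-! Base change of exterior powers: `B ⊗[A] ⋀[A]^p M ≃ ⋀[B]^p (B ⊗[A] M)`. -/

namespace Groth.Agent.Helper7.ExtBC

open TensorProduct exteriorPower

universe u

variable (A B : Type u) [CommRing A] [CommRing B] [Algebra A B]
variable (M : Type u) [AddCommGroup M] [Module A M]

/-- `b ⊗ m ↦ b ⊗ ι m`. -/
noncomputable def fBC : B ⊗[A] M →ₗ[B] B ⊗[A] ExteriorAlgebra A M :=
  (ExteriorAlgebra.ι A).baseChange B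

@[simp] theorem fBC_tmul (b : B) (m : M) :
    fBC A B M (b ⊗ₜ m) = b ⊗ₜ ExteriorAlgebra.ι A m := rfl

theorem fBC_anti (t t' : B ⊗[A] M) :
    fBC A B M t * fBC A B M t' + fBC A B M t' * fBC A B M t = 0 := by
  induction t with
  | zero => simp
  | add x y hx hy => rw [map_add, add_mul, mul_add, add_add_add_comm, hx, hy, add_zero]
  | tmul b m =>
    induction t' with
    | zero => simp
    | add x y hx hy => rw [map_add, add_mul, mul_add, add_add_add_comm, hx, hy, add_zero]
    | tmul b' m' =>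
      rw [fBC_tmul, fBC_tmul, Algebra.TensorProduct.tmul_mul_tmul,
        Algebra.TensorProduct.tmul_mul_tmul, mul_comm b' b, ← tmul_add,
        ExteriorAlgebra.ι_add_mul_swap, tmul_zero]

theorem fBC_sq (t : B ⊗[A] M) : fBC A B M t * fBC A B M t = 0 := by
  induction t with
  | zero => simp
  | add x y hx hy =>
    rw [map_add, add_mul, mul_add, mul_add, hx, hy, zero_add, add_zero]
    exact fBC_anti A B M x y
  | tmul b m =>
    rw [fBC_tmul, Algebra.TensorProduct.tmul_mul_tmul, ExteriorAlgebra.ι_sq_zero, tmul_zero]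

/-- The algebra map `⋀_B (B ⊗ M) → B ⊗ ⋀_A M`. -/
noncomputable def L : ExteriorAlgebra B (B ⊗[A] M) →ₐ[B] B ⊗[A] ExteriorAlgebra A M :=
  ExteriorAlgebra.lift B ⟨fBC A B M, fBC_sq A B M⟩

@[simp] theorem L_ι (t : B ⊗[A] M) : L A B M (ExteriorAlgebra.ι B t) = fBC A B M t :=
  ExteriorAlgebra.lift_ι_apply _ _ _ _

/-- The `A`-algebra map `⋀_A M → ⋀_B (B ⊗ M)`. -/
noncomputable def J : ExteriorAlgebra A M →ₐ[A] ExteriorAlgebra B (B ⊗[A] M) :=
  ExteriorAlgebra.lift A
    ⟨((ExteriorAlgebra.ι B).restrictScalars A).comp (TensorProduct.mk A B M 1),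
      fun _ => ExteriorAlgebra.ι_sq_zero _⟩

@[simp] theorem J_ι (m : M) :
    J A B M (ExteriorAlgebra.ι A m) = ExteriorAlgebra.ι B ((1 : B) ⊗ₜ[A] m) :=
  ExteriorAlgebra.lift_ι_apply _ _ _ _

theorem L_J (x : ExteriorAlgebra A M) : L A B M (J A B M x) = (1 : B) ⊗ₜ[A] x := by
  induction x using ExteriorAlgebra.induction with
  | algebraMap r =>
    rw [AlgHom.commutes, IsScalarTower.algebraMap_apply A B (ExteriorAlgebra B (B ⊗[A] M)),
      AlgHom.commutes, Algebra.TensorProduct.algebraMap_apply, Algebra.algebraMap_self_apply,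
      Algebra.algebraMap_eq_smul_one (A := B) r,
      Algebra.algebraMap_eq_smul_one (A := ExteriorAlgebra A M) r, smul_tmul]
  | ι m => rw [J_ι, L_ι, fBC_tmul]
  | mul a b ha hb =>
    rw [map_mul, map_mul, ha, hb, Algebra.TensorProduct.tmul_mul_tmul, mul_one]
  | add a b ha hb => rw [map_add, map_add, ha, hb, tmul_add]

/-- The projection of the exterior algebra onto its degree `p` part. -/
noncomputable def proj (p : ℕ) : ExteriorAlgebra A M →ₗ[A] ↥(⋀[A]^p M) :=
  (DirectSum.component A ℕ (fun i => ↥(⋀[A]^i M)) p).comp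
    (DirectSum.decomposeLinearEquiv (fun i : ℕ => ⋀[A]^i M)).toLinearMap

theorem proj_coe (p : ℕ) (x : ↥(⋀[A]^p M)) : proj A M p (x : ExteriorAlgebra A M) = x := by
  apply Subtype.ext
  exact DirectSum.decompose_of_mem_same (fun i : ℕ => ⋀[A]^i M) x.2

/-- The `A`-linear map `⋀[A]^p M → ⋀[B]^p (B ⊗ M)`. -/
noncomputable def inclAlt (p : ℕ) : M [⋀^Fin p]→ₗ[A] ↥(⋀[B]^p (B ⊗[A] M)) :=
  { (((ιMulti B p (M := B ⊗[A] M)).toMultilinearMap.restrictScalars A).compLinearMap
      (fun _ => TensorProduct.mk A B M 1)) with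
    map_eq_zero_of_eq' := fun v i j h hij =>
      (ιMulti B p (M := B ⊗[A] M)).map_eq_zero_of_eq (fun k => (1 : B) ⊗ₜ[A] v k)
        (by simp only [h]) hij }

theorem inclAlt_apply (p : ℕ) (m : Fin p → M) :
    inclAlt A B M p m = ιMulti B p (fun i => (1 : B) ⊗ₜ[A] m i) := rfl

/-- The `A`-linear map `⋀[A]^p M → ⋀[B]^p (B ⊗ M)`. -/
noncomputable def incl (p : ℕ) : ↥(⋀[A]^p M) →ₗ[A] ↥(⋀[B]^p (B ⊗[A] M)) :=
  exteriorPower.alternatingMapLinearEquiv (inclAlt A B M p)

theorem incl_ιMulti (p : ℕ) (m : Fin p → M) :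
    incl A B M p (ιMulti A p m) = ιMulti B p (fun i => (1 : B) ⊗ₜ[A] m i) := by
  rw [incl, alternatingMapLinearEquiv_apply_ιMulti, inclAlt_apply]

theorem coe_incl (p : ℕ) (x : ↥(⋀[A]^p M)) :
    ((incl A B M p x : ↥(⋀[B]^p (B ⊗[A] M))) : ExteriorAlgebra B (B ⊗[A] M)) =
      J A B M (x : ExteriorAlgebra A M) := by
  have h : ((Submodule.subtype (⋀[B]^p (B ⊗[A] M))).restrictScalars A).comp (incl A B M p) =
      (J A B M).toLinearMap.comp (Submodule.subtype (⋀[A]^p M)) := by
    apply exteriorPower.linearMap_ext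
    ext m
    simp only [LinearMap.compAlternatingMap_apply, LinearMap.coe_comp, Function.comp_apply,
      LinearMap.coe_restrictScalars, Submodule.coe_subtype, incl_ιMulti, ιMulti_apply_coe,
      AlgHom.toLinearMap_apply]
    rw [ExteriorAlgebra.ιMulti_apply, ExteriorAlgebra.ιMulti_apply, map_list_prod, List.map_ofFn]
    congr 2
    funext i
    simp
  exact LinearMap.congr_fun h x

/-- The base change map `B ⊗ ⋀[A]^p M → ⋀[B]^p (B ⊗ M)`. -/
noncomputable def beta (p : ℕ) : B ⊗[A] ↥(⋀[A]^p M) →ₗ[B] ↥(⋀[B]^p (B ⊗[A] M)) :=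
  (incl A B M p).liftBaseChange B

@[simp] theorem beta_tmul (p : ℕ) (b : B) (x : ↥(⋀[A]^p M)) :
    beta A B M p (b ⊗ₜ x) = b • incl A B M p x :=
  LinearMap.liftBaseChange_tmul _ _ _ _

theorem L_beta (p : ℕ) (t : B ⊗[A] ↥(⋀[A]^p M)) :
    L A B M ((beta A B M p t : ↥(⋀[B]^p (B ⊗[A] M))) : ExteriorAlgebra B (B ⊗[A] M)) =
      (Submodule.subtype (⋀[A]^p M)).lTensor B t := by
  induction t with
  | zero => simp
  | add x y hx hy => rw [map_add, Submodule.coe_add, map_add, map_add, hx, hy]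
  | tmul b x =>
    rw [beta_tmul, Submodule.coe_smul, map_smul, coe_incl, L_J, LinearMap.lTensor_tmul,
      smul_tmul', smul_eq_mul, mul_one]
    rfl

theorem beta_injective (p : ℕ) : Function.Injective (beta A B M p) := by
  have hinj : Function.Injective ((Submodule.subtype (⋀[A]^p M)).lTensor B) := by
    have h : ((proj A M p).lTensor B).comp ((Submodule.subtype (⋀[A]^p M)).lTensor B) =
        LinearMap.id := by
      rw [← LinearMap.lTensor_comp]
      have : (proj A M p).comp (Submodule.subtype (⋀[A]^p M)) = LinearMap.id :=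
        LinearMap.ext fun x => proj_coe A M p x
      rw [this, LinearMap.lTensor_id]
    exact Function.LeftInverse.injective (g := (proj A M p).lTensor B)
      (fun x => LinearMap.congr_fun h x)
  intro t t' h
  apply hinj
  rw [← L_beta, ← L_beta, h]

theorem beta_surjective (p : ℕ) : Function.Surjective (beta A B M p) := by
  rw [← LinearMap.range_eq_top, eq_top_iff]
  have hs : Submodule.span B (Set.range fun m : M => (1 : B) ⊗ₜ[A] m) = ⊤ := by
    rw [eq_top_iff]
    rintro t -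
    induction t with
    | zero => exact Submodule.zero_mem _
    | add x y hx hy => exact Submodule.add_mem _ hx hy
    | tmul b m =>
      have : b ⊗ₜ[A] m = b • ((1 : B) ⊗ₜ[A] m) := by rw [smul_tmul', smul_eq_mul, mul_one]
      rw [this]
      exact Submodule.smul_mem _ _ (Submodule.subset_span ⟨m, rfl⟩)
  rw [← ιMulti_span_of_span (R := B) (n := p) (hs := hs), Submodule.span_le]
  rintro _ ⟨v, hv, rfl⟩
  have : ∀ i, ∃ m : M, (1 : B) ⊗ₜ[A] m = v i := fun i => hv ⟨i, rfl⟩
  choose m hm using this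
  refine ⟨(1 : B) ⊗ₜ ιMulti A p m, ?_⟩
  rw [beta_tmul, one_smul, incl_ιMulti]
  congr 1
  funext i
  exact hm i

theorem beta_bijective (p : ℕ) : Function.Bijective (beta A B M p) :=
  ⟨beta_injective A B M p, beta_surjective A B M p⟩

end Groth.Agent.Helper7.ExtBC
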