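import Mathlib
import Groth.Prelude.Def_CAlg
import Groth.Agent.Helper6.ExtBC2
import Groth.Agent.Helper1.CoreC
import Groth.Agent.S0340

/-!
# Gorenstein local rings along flat local maps with trivial closed fibre (helper7)
-/

set_option autoImplicit false
universe u

namespace Groth.Agent.Helper7.SegGor

open CategoryTheory Abelian IsLocalRing TensorProduct Groth.Agent.Helper6.ExtBC

variable (A B : Type u) [CommRing A] [CommRing B] [IsLocalRing A] [IsLocalRing B]
  [IsNoetherianRing A] [IsNoetherianRing B] [Algebra A B] [Module.Flat A B]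

/-- `Ext^i(k_A, A)` vanishes iff `Ext^i(k_B, B)` does, for a flat local map with `m_A B = m_B` -/
theorem subsingleton_ext_iff
    (hmax : (maximalIdeal A).map (algebraMap A B) = maximalIdeal B) (i : ℕ) :
    Subsingleton (Ext (ModuleCat.of A (ResidueField A)) (ModuleCat.of A A) i) ↔
      Subsingleton (Ext (ModuleCat.of B (ResidueField B)) (ModuleCat.of B B) i) := by
  have hloc : IsLocalHom (algebraMap A B) := by
    refine ⟨fun a ha => ?_⟩
    by_contra hna
    have h1 : a ∈ maximalIdeal A := hna
    have h2 : algebraMap A B a ∈ maximalIdeal B := by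
      rw [← hmax]
      exact Ideal.mem_map_of_mem _ h1
    exact h2 ha
  have hff : Module.FaithfullyFlat A B := Module.FaithfullyFlat.of_flat_of_isLocalHom
  have hbij := bcF_bijective A B (ResidueField A) (ModuleCat.of A A) i
  -- the two isomorphisms
  let e₁ : (B ⊗[A] ResidueField A) ≃ₗ[B] ResidueField B :=
    ((Algebra.TensorProduct.quotIdealMapEquivTensorQuot B (maximalIdeal A)).symm.toLinearEquiv).trans
      (Submodule.quotEquivOfEq _ _ hmax)
  let e₂ : (B ⊗[A] A) ≃ₗ[B] B := TensorProduct.AlgebraTensorModule.rid A B B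
  let α₁ : (bcF A B).obj (ModuleCat.of A (ResidueField A)) ≅ ModuleCat.of B (ResidueField B) :=
    e₁.toModuleIso
  let α₂ : (bcF A B).obj (ModuleCat.of A A) ≅ ModuleCat.of B B := e₂.toModuleIso
  have hiff : Subsingleton (Ext ((bcF A B).obj (ModuleCat.of A (ResidueField A)))
      ((bcF A B).obj (ModuleCat.of A A)) i) ↔
      Subsingleton (Ext (ModuleCat.of B (ResidueField B)) (ModuleCat.of B B) i) := by
    constructor
    · intro h
      exact Groth.Agent.Helper1.Core.subsingleton_ext_of_iso_left α₁.symm i
        (Groth.Agent.Helper1.Core.subsingleton_ext_of_iso_right α₂.symm i h)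
    · intro h
      exact Groth.Agent.Helper1.Core.subsingleton_ext_of_iso_left α₁ i
        (Groth.Agent.Helper1.Core.subsingleton_ext_of_iso_right α₂ i h)
  rw [← hiff]
  rw [← Module.FaithfullyFlat.subsingleton_tensorProduct_iff_right A B]
  exact (Equiv.ofBijective _ hbij).subsingleton_congr

/-- Gorenstein local rings ascend and descend along flat local maps with `m_A B = m_B` -/
theorem gorenstein_iff_of_flat
    (hmax : (maximalIdeal A).map (algebraMap A B) = maximalIdeal B) :
    LocCoh.IsGorensteinLocalRing A ↔ LocCoh.IsGorensteinLocalRing B := by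
  rw [Groth.Agent.S0340.result A, Groth.Agent.S0340.result B]
  constructor
  · rintro ⟨N, hN⟩
    exact ⟨N, fun i hi => (subsingleton_ext_iff A B hmax i).1 (hN i hi)⟩
  · rintro ⟨N, hN⟩
    exact ⟨N, fun i hi => (subsingleton_ext_iff A B hmax i).2 (hN i hi)⟩

end Groth.Agent.Helper7.SegGor
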