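import Mathlib
import Groth.Prelude.Def_CAlg
import Groth.Agent.Helper7.SegGorC

/-!
# Transport of the Gorenstein property along ring isomorphisms (helper7)
-/

set_option autoImplicit false
set_option linter.style.haveILetI false
universe u

namespace Groth.Agent.Helper7.SegGor

open IsLocalRing

theorem gorLocal_of_ringEquiv {A B : Type u} [CommRing A] [CommRing B] (e : A ≃+* B)
    (h : LocCoh.IsGorensteinLocalRing A) : LocCoh.IsGorensteinLocalRing B := by
  haveI : IsNoetherianRing A := h.toIsNoetherian
  haveI : IsLocalRing A := h.toIsLocalRing
  haveI : IsNoetherianRing B := isNoetherianRing_of_ringEquiv A e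
  haveI : IsLocalRing B := e.isLocalRing
  letI : Algebra A B := e.toRingHom.toAlgebra
  haveI : Module.Flat A B := (RingHom.Flat.of_bijective (f := e.toRingHom) e.bijective)
  have hmax : (maximalIdeal A).map (algebraMap A B) = maximalIdeal B := by
    apply le_antisymm
    · rw [Ideal.map_le_iff_le_comap]
      intro a ha
      rw [Ideal.mem_comap, mem_maximalIdeal, mem_nonunits_iff] at *
      intro hu
      apply ha
      have : IsUnit (e.symm (e a)) := hu.map e.symm
      rwa [e.symm_apply_apply] at this
    · intro b hb
      have h1 : e.symm b ∈ maximalIdeal A := by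
        rw [mem_maximalIdeal, mem_nonunits_iff] at *
        intro hu
        apply hb
        have : IsUnit (e (e.symm b)) := hu.map e
        rwa [e.apply_symm_apply] at this
      have h2 := Ideal.mem_map_of_mem (algebraMap A B) h1
      have h3 : algebraMap A B (e.symm b) = b := e.apply_symm_apply b
      rwa [h3] at h2
  exact (gorenstein_iff_of_flat A B hmax).1 h

theorem gorLocal_comap {R R' : Type u} [CommRing R] [CommRing R'] (e : R ≃+* R')
    (q : Ideal R') [q.IsPrime]
    (h : LocCoh.IsGorensteinLocalRing (Localization.AtPrime (q.comap (e : R →+* R')))) :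
    LocCoh.IsGorensteinLocalRing (Localization.AtPrime q) := by
  have H : (q.comap (e : R →+* R')).primeCompl.map e.toMonoidHom = q.primeCompl := by
    ext x
    constructor
    · rintro ⟨y, hy, rfl⟩
      exact hy
    · intro hx
      refine ⟨e.symm x, ?_, e.apply_symm_apply x⟩
      show e.symm x ∉ q.comap (e : R →+* R')
      rw [Ideal.mem_comap]
      show ¬ e (e.symm x) ∈ q
      rw [e.apply_symm_apply]
      exact hx
  exact gorLocal_of_ringEquiv
    (IsLocalization.ringEquivOfRingEquiv (Localization.AtPrime (q.comap (e : R →+* R')))
      (Localization.AtPrime q) e H) h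

/-- the Gorenstein property is invariant under ring isomorphisms -/
theorem gorenstein_of_ringEquiv {S T : Type u} [CommRing S] [CommRing T] (e : S ≃+* T)
    [hS : LocCoh.IsGorensteinRing S] : LocCoh.IsGorensteinRing T :=
  { toIsNoetherian := isNoetherianRing_of_ringEquiv S e
    isGorensteinLocalRing_localization := fun p _ =>
      gorLocal_comap e p (hS.isGorensteinLocalRing_localization (p.comap (e : S →+* T))) }

end Groth.Agent.Helper7.SegGor
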