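import Mathlib

/-!
# Bass numbers, part A: `Ext(−, Y)` along a short exact sequence `0 → Q --y--> Q → Q' → 0` (helper7)

If multiplication by `y` is injective on every `Ext^n(Q, Y)` then `Ext^0(Q', Y) = 0` and
`Ext^{n+1}(Q', Y) ≅ Ext^n(Q, Y) / y Ext^n(Q, Y)`.
-/

set_option autoImplicit false
universe u

namespace Groth.Agent.Helper7.BassNum

open CategoryTheory Abelian Pointwise

variable {B : Type u} [CommRing B] {Q Q' : ModuleCat.{u} B} (y : B) (π : Q ⟶ Q')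
  (w : (y • 𝟙 Q) ≫ π = 0) (hS : (ShortComplex.mk (y • 𝟙 Q) π w).ShortExact)
  (Y : ModuleCat.{u} B)

theorem mk₀_smul_id_comp {n : ℕ} (x : Ext Q Y n) :
    (Ext.mk₀ (y • 𝟙 Q)).comp x (zero_add n) = y • x := by
  rw [Ext.mk₀_smul, Ext.smul_comp, Ext.mk₀_id_comp]

include hS in
/-- `Ext^0(Q', Y) = 0` when `y` is injective on `Ext^0(Q, Y)` -/
theorem ext_zero_eq_zero (hinj : ∀ x : Ext Q Y 0, y • x = 0 → x = 0) (x : Ext Q' Y 0) : x = 0 := by
  haveI : Epi π := hS.epi_g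
  have h1 : (Ext.mk₀ π).comp x (zero_add 0) = 0 := by
    apply hinj
    rw [← mk₀_smul_id_comp, ← Ext.comp_assoc_of_second_deg_zero, Ext.mk₀_comp_mk₀, w, Ext.mk₀_zero,
      Ext.zero_comp]
  exact Ext.precomp_mk₀_injective_of_epi Y π (by simpa using h1)

/-- the connecting map `Ext^n(Q, Y) → Ext^{n+1}(Q', Y)` -/
noncomputable def delta (n : ℕ) : Ext Q Y n →ₗ[B] Ext Q' Y (n + 1) :=
  hS.extClass.precompOfLinear B Y (add_comm 1 n)

theorem delta_apply (n : ℕ) (x : Ext Q Y n) :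
    delta y π w hS Y n x = hS.extClass.comp x (add_comm 1 n) := rfl

theorem delta_surjective (n : ℕ) (hinj : ∀ x : Ext Q Y (n + 1), y • x = 0 → x = 0) :
    Function.Surjective (delta y π w hS Y n) := by
  intro x₃
  have h1 : (Ext.mk₀ π).comp x₃ (zero_add (n + 1)) = 0 := by
    apply hinj
    rw [← mk₀_smul_id_comp, ← Ext.comp_assoc_of_second_deg_zero, Ext.mk₀_comp_mk₀, w, Ext.mk₀_zero,
      Ext.zero_comp]
  obtain ⟨x₁, hx₁⟩ := Ext.contravariant_sequence_exact₃ hS Y x₃ h1 (add_comm 1 n)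
  exact ⟨x₁, hx₁⟩

theorem ker_delta (n : ℕ) :
    LinearMap.ker (delta y π w hS Y n) = y • (⊤ : Submodule B (Ext Q Y n)) := by
  ext x
  rw [LinearMap.mem_ker, delta_apply, Submodule.mem_smul_pointwise_iff_exists]
  constructor
  · intro hx
    obtain ⟨x₂, hx₂⟩ := Ext.contravariant_sequence_exact₁ hS Y x (add_comm 1 n) hx
    refine ⟨x₂, trivial, ?_⟩
    rw [← hx₂]
    exact (mk₀_smul_id_comp y Y x₂).symm
  · rintro ⟨x₂, -, rfl⟩
    rw [← mk₀_smul_id_comp]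
    exact hS.extClass_comp_assoc x₂

/-- `Ext^{n+1}(Q', Y) ≅ Ext^n(Q, Y) / y Ext^n(Q, Y)` -/
noncomputable def quotEquiv (n : ℕ) (hinj : ∀ x : Ext Q Y (n + 1), y • x = 0 → x = 0) :
    (Ext Q Y n ⧸ (y • (⊤ : Submodule B (Ext Q Y n)))) ≃ₗ[B] Ext Q' Y (n + 1) :=
  (Submodule.quotEquivOfEq _ _ (ker_delta y π w hS Y n).symm).trans
    ((delta y π w hS Y n).quotKerEquivOfSurjective (delta_surjective y π w hS Y n hinj))

end Groth.Agent.Helper7.BassNum
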