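import Mathlib
import Groth.Agent.Helper7.BassA

/-!
# Bass numbers, part B: the shape of `Ext^•(B/J, Y)` when passing from `J` to `J + (y)` (helper7)
-/

set_option autoImplicit false
universe u

namespace Groth.Agent.Helper7.BassNum

open CategoryTheory Abelian Pointwise

section Finsupp

variable {B : Type u} [CommRing B] {M M' : Type u} [AddCommGroup M] [Module B M]
  [AddCommGroup M'] [Module B M'] (ι : Type u) (y : B) (π : M →ₗ[B] M')

theorem isSMulRegular_finsupp (hy : IsSMulRegular M y) : IsSMulRegular (ι →₀ M) y := by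
  intro f g h
  ext i
  apply hy
  have := DFunLike.congr_fun h i
  simpa using this

theorem ker_mapRange (hker : LinearMap.ker π = y • (⊤ : Submodule B M)) :
    LinearMap.ker (Finsupp.mapRange.linearMap (α := ι) π) = y • (⊤ : Submodule B (ι →₀ M)) := by
  classical
  ext f
  rw [LinearMap.mem_ker, Submodule.mem_smul_pointwise_iff_exists]
  constructor
  · intro hf
    have h1 : ∀ i, ∃ m : M, y • m = f i := by
      intro i
      have : f i ∈ LinearMap.ker π := by
        rw [LinearMap.mem_ker]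
        have := DFunLike.congr_fun hf i
        simpa using this
      rw [hker, Submodule.mem_smul_pointwise_iff_exists] at this
      obtain ⟨m, -, hm⟩ := this
      exact ⟨m, hm⟩
    choose c hc using h1
    refine ⟨Finsupp.onFinset f.support (fun i => if f i = 0 then 0 else c i) ?_, trivial, ?_⟩
    · intro i hi
      rw [Finsupp.mem_support_iff]
      intro h0
      apply hi
      rw [if_pos h0]
    · ext i
      rw [Finsupp.smul_apply, Finsupp.onFinset_apply]
      by_cases h0 : f i = 0
      · rw [if_pos h0, smul_zero, h0]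
      · rw [if_neg h0, hc]
  · rintro ⟨g, -, rfl⟩
    ext i
    have : π (y • g i) = 0 := by
      rw [← LinearMap.mem_ker, hker]
      exact Submodule.smul_mem_pointwise_smul _ y ⊤ trivial
    simpa using this

/-- `(ι →₀ M) / y ≅ ι →₀ M'` when `M' = M / y M` -/
noncomputable def finsuppQuotEquiv (hπ : Function.Surjective π)
    (hker : LinearMap.ker π = y • (⊤ : Submodule B M)) :
    QuotSMulTop y (ι →₀ M) ≃ₗ[B] (ι →₀ M') :=
  (Submodule.quotEquivOfEq _ _ (ker_mapRange ι y π hker).symm).trans
    ((Finsupp.mapRange.linearMap (α := ι) π).quotKerEquivOfSurjective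
      (Finsupp.mapRange_surjective _ (map_zero π) hπ))

end Finsupp

variable {B : Type u} [CommRing B] (Y : ModuleCat.{u} B) (I : ℕ → Type u)

/-- the shape of `Ext^•(B/J, Y)`: zero below degree `j`, free over `B/J` on `I i` in degree `i + j` -/
def Shape (J : Ideal B) (j : ℕ) : Prop :=
  (∀ n, n < j → Subsingleton (Ext (ModuleCat.of B (B ⧸ J)) Y n)) ∧
  ∀ i, Nonempty (Ext (ModuleCat.of B (B ⧸ J)) Y (i + j) ≃ₗ[B] (I i →₀ (B ⧸ J)))

variable {Y I}

theorem Shape.smul_injective {J : Ideal B} {j : ℕ} (h : Shape Y I J j) (y : B)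
    (hy : IsSMulRegular (B ⧸ J) y) (n : ℕ) (x : Ext (ModuleCat.of B (B ⧸ J)) Y n)
    (hx : y • x = 0) : x = 0 := by
  by_cases hn : n < j
  · haveI := h.1 n hn
    exact Subsingleton.elim _ _
  · obtain ⟨i, rfl⟩ : ∃ i, n = i + j := ⟨n - j, by omega⟩
    obtain ⟨e⟩ := h.2 i
    have hr : IsSMulRegular (Ext (ModuleCat.of B (B ⧸ J)) Y (i + j)) y :=
      (e.isSMulRegular_congr y).2 (isSMulRegular_finsupp (I i) y hy)
    apply hr
    show y • x = y • 0
    rw [hx, smul_zero]

section Step

variable (J : Ideal B) (y : B)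

/-- the projection `B/J → B/(J + (y))` -/
noncomputable def proj : (B ⧸ J) →ₗ[B] (B ⧸ (J ⊔ Ideal.span {y})) :=
  Submodule.factor (le_sup_left : J ≤ J ⊔ Ideal.span {y})

theorem proj_surjective : Function.Surjective (proj J y) := by
  intro z
  obtain ⟨b, rfl⟩ := Ideal.Quotient.mk_surjective z
  exact ⟨Ideal.Quotient.mk J b, rfl⟩

theorem ker_proj : LinearMap.ker (proj J y) = y • (⊤ : Submodule B (B ⧸ J)) := by
  ext z
  obtain ⟨b, rfl⟩ := Ideal.Quotient.mk_surjective z
  rw [LinearMap.mem_ker, Submodule.mem_smul_pointwise_iff_exists]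
  have h1 : proj J y (Ideal.Quotient.mk J b) = Ideal.Quotient.mk (J ⊔ Ideal.span {y}) b := rfl
  rw [h1, Ideal.Quotient.eq_zero_iff_mem, Submodule.mem_sup]
  constructor
  · rintro ⟨a, ha, c, hc, rfl⟩
    obtain ⟨c', rfl⟩ := Ideal.mem_span_singleton'.1 hc
    refine ⟨Ideal.Quotient.mk J c', trivial, ?_⟩
    rw [map_add, (Ideal.Quotient.eq_zero_iff_mem).2 ha, zero_add, mul_comm]
    rfl
  · rintro ⟨c, -, hc⟩
    obtain ⟨c', rfl⟩ := Ideal.Quotient.mk_surjective c
    have h2 : Ideal.Quotient.mk J (y * c') = Ideal.Quotient.mk J b := hc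
    rw [Ideal.Quotient.eq] at h2
    refine ⟨b - y * c', ?_, y * c', Ideal.mem_span_singleton'.2 ⟨c', mul_comm _ _⟩, by ring⟩
    have : b - y * c' = -(y * c' - b) := by ring
    rw [this]
    exact J.neg_mem h2

theorem smul_id_comp_proj :
    (y • 𝟙 (ModuleCat.of B (B ⧸ J))) ≫ ModuleCat.ofHom (proj J y) = 0 := by
  apply ModuleCat.hom_ext
  apply LinearMap.ext
  intro z
  have hz : y • z ∈ LinearMap.ker (proj J y) := by
    rw [ker_proj]
    exact Submodule.smul_mem_pointwise_smul _ y ⊤ trivial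
  exact hz

theorem shortExact_proj (hy : IsSMulRegular (B ⧸ J) y) :
    (ShortComplex.mk (y • 𝟙 (ModuleCat.of B (B ⧸ J))) (ModuleCat.ofHom (proj J y))
      (smul_id_comp_proj J y)).ShortExact := by
  apply ModuleCat.shortComplex_shortExact
  · intro z
    show proj J y z = 0 ↔ z ∈ Set.range fun z' : B ⧸ J => y • z'
    rw [← LinearMap.mem_ker, ker_proj, Submodule.mem_smul_pointwise_iff_exists]
    constructor
    · rintro ⟨c, -, hc⟩
      exact ⟨c, hc⟩
    · rintro ⟨c, hc⟩
      exact ⟨c, trivial, hc⟩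
  · exact hy
  · exact proj_surjective J y

variable {J y}

/-- **the step**: from `J` to `J + (y)` for `y` regular on `B/J` -/
theorem Shape.step {j : ℕ} (h : Shape Y I J j) (hy : IsSMulRegular (B ⧸ J) y) :
    Shape Y I (J ⊔ Ideal.span {y}) (j + 1) := by
  have hS := shortExact_proj J y hy
  have hinj := h.smul_injective y hy
  refine ⟨?_, ?_⟩
  · intro n hn
    rcases n with _ | n
    · exact ⟨fun a b => by
        rw [ext_zero_eq_zero y _ _ hS Y (hinj 0) a, ext_zero_eq_zero y _ _ hS Y (hinj 0) b]⟩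
    · haveI := h.1 n (by omega)
      exact (quotEquiv y _ _ hS Y n (hinj (n + 1))).symm.toEquiv.subsingleton
  · intro i
    obtain ⟨e⟩ := h.2 i
    exact ⟨((quotEquiv y _ _ hS Y (i + j) (hinj (i + j + 1))).symm.trans
      (QuotSMulTop.congr y e)).trans
      (finsuppQuotEquiv (I i) y (proj J y) (proj_surjective J y) (ker_proj J y))⟩

end Step

end Groth.Agent.Helper7.BassNum
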