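import Mathlib
import Groth.Agent.Helper7.BassB
import Groth.Agent.Lead.RegLocal

/-!
# Bass numbers, part C: from `J` with `B/J` regular local to the maximal ideal (helper7)
-/

set_option autoImplicit false
universe u

namespace Groth.Agent.Helper7.BassNum

open CategoryTheory Abelian Pointwise IsLocalRing

variable {B : Type u} [CommRing B] [IsLocalRing B] {Y : ModuleCat.{u} B} {I : ℕ → Type u}

theorem eq_maximalIdeal_of_dim_zero (J : Ideal B) (hJ : IsRegularLocalRing (B ⧸ J))
    (he : ringKrullDim (B ⧸ J) = 0) : J = maximalIdeal B := by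
  have h1 : ((maximalIdeal (B ⧸ J)).spanFinrank : WithBot ℕ∞) = 0 := by
    rw [hJ.spanFinrank_maximalIdeal, he]
  have h2 : (maximalIdeal (B ⧸ J)).spanFinrank = 0 := by exact_mod_cast h1
  have h3 : maximalIdeal (B ⧸ J) = ⊥ :=
    (Submodule.spanFinrank_eq_zero_iff_eq_bot (IsNoetherian.noetherian _)).1 h2
  have h4 : IsField (B ⧸ J) := IsLocalRing.isField_iff_maximalIdeal_eq.2 h3
  haveI : J.IsMaximal := Ideal.Quotient.maximal_of_isField J h4
  exact IsLocalRing.eq_maximalIdeal inferInstance

theorem exists_mem_notMem_sq (R : Type u) [CommRing R] [IsLocalRing R] [IsNoetherianRing R]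
    (h : maximalIdeal R ≠ ⊥) : ∃ x ∈ maximalIdeal R, x ∉ maximalIdeal R ^ 2 := by
  by_contra hcon
  push Not at hcon
  apply h
  have hle : maximalIdeal R ≤ maximalIdeal R • maximalIdeal R := by
    intro x hx
    have := hcon x hx
    rwa [pow_two] at this
  exact Submodule.eq_bot_of_le_smul_of_le_jacobson_bot (maximalIdeal R) (maximalIdeal R)
    (IsNoetherian.noetherian _) hle (IsLocalRing.maximalIdeal_le_jacobson _)

/-- **from `J` to the maximal ideal** when `B/J` is a regular local ring of dimension `e` -/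
theorem Shape.to_maximal : ∀ (e : ℕ) (J : Ideal B) (_ : IsRegularLocalRing (B ⧸ J))
    (_ : ringKrullDim (B ⧸ J) = e) (j : ℕ) (_ : Shape Y I J j),
    Shape Y I (maximalIdeal B) (j + e) := by
  intro e
  induction e with
  | zero =>
    intro J hJ he j h
    have := eq_maximalIdeal_of_dim_zero J hJ (by simpa using he)
    rw [← this]
    exact h
  | succ e ih =>
    intro J hJ he j h
    haveI := hJ
    have hne : maximalIdeal (B ⧸ J) ≠ ⊥ := by
      intro h0
      have h1 : ((maximalIdeal (B ⧸ J)).spanFinrank : WithBot ℕ∞) = ((e + 1 : ℕ) : WithBot ℕ∞) := by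
        rw [hJ.spanFinrank_maximalIdeal, he]
      rw [h0, Submodule.spanFinrank_bot] at h1
      have : (0 : ℕ) = e + 1 := by exact_mod_cast h1
      omega
    obtain ⟨x, hx, hx2⟩ := exists_mem_notMem_sq (B ⧸ J) hne
    obtain ⟨y, rfl⟩ := Ideal.Quotient.mk_surjective x
    obtain ⟨hreg, hdim, -⟩ := Groth.Agent.Lead.RegLocal.quotient_isRegularLocalRing hx hx2
    haveI : IsDomain (B ⧸ J) := Groth.Agent.Lead.RegLocal.isDomain_of_isRegularLocalRing _
    have hy0 : Ideal.Quotient.mk J y ≠ 0 := by
      intro h0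
      apply hx2
      rw [h0]
      exact Ideal.zero_mem _
    have hy : IsSMulRegular (B ⧸ J) y := by
      intro z z' hz
      have hz' : Ideal.Quotient.mk J y * z = Ideal.Quotient.mk J y * z' := hz
      exact mul_left_cancel₀ hy0 hz'
    have hmap : (Ideal.span {y}).map (Ideal.Quotient.mk J) = Ideal.span {Ideal.Quotient.mk J y} := by
      rw [Ideal.map_span, Set.image_singleton]
    let ε : ((B ⧸ J) ⧸ Ideal.span {Ideal.Quotient.mk J y}) ≃+* (B ⧸ (J ⊔ Ideal.span {y})) :=
      (Ideal.quotEquivOfEq hmap.symm).trans (DoubleQuot.quotQuotEquivQuotSup J (Ideal.span {y}))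
    have hreg' : IsRegularLocalRing (B ⧸ (J ⊔ Ideal.span {y})) :=
      IsRegularLocalRing.of_ringEquiv ε
    have hdim' : ringKrullDim (B ⧸ (J ⊔ Ideal.span {y})) = e := by
      rw [← ringKrullDim_eq_of_ringEquiv ε]
      rw [he] at hdim
      have h1 := hreg.spanFinrank_maximalIdeal
      rw [← h1] at hdim ⊢
      have : (maximalIdeal ((B ⧸ J) ⧸ Ideal.span {Ideal.Quotient.mk J y})).spanFinrank + 1 = e + 1 := by
        exact_mod_cast hdim
      have h2 : (maximalIdeal ((B ⧸ J) ⧸ Ideal.span {Ideal.Quotient.mk J y})).spanFinrank = e := by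
        omega
      rw [h2]
    have h' := ih (J ⊔ Ideal.span {y}) hreg' hdim' (j + 1) (h.step hy)
    have e1 : j + 1 + e = j + (e + 1) := by ring
    rw [e1] at h'
    exact h'

end Groth.Agent.Helper7.BassNum
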