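import Mathlib
import Groth.Prelude.Def_GrLC2
import Groth.Agent.Helper7.BassC
import Groth.Agent.Helper6.ExtBC2

/-!
# Bass numbers, part D: Bass numbers along a flat local homomorphism with regular closed fibre (helper7)
-/

set_option autoImplicit false
universe u

namespace Groth.Agent.Helper7.BassNum

open CategoryTheory Abelian Pointwise IsLocalRing TensorProduct Groth.Agent.Helper6.ExtBC

section Basis

variable {A : Type u} [CommRing A] (m : Ideal A) [hm : m.IsMaximal]
  (V : Type u) [AddCommGroup V] [Module A V]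

/-- a module killed by a maximal ideal is free over the residue field -/
theorem exists_basis_of_torsion (h : ∀ a ∈ m, ∀ v : V, a • v = 0) :
    ∃ I : Type u, Nonempty (V ≃ₗ[A] (I →₀ A ⧸ m)) := by
  have hM : Module.IsTorsionBySet A V m := by
    intro v a
    exact h a.1 a.2 v
  letI := hM.module
  letI : Field (A ⧸ m) := Ideal.Quotient.field m
  let b := Module.Free.chooseBasis (A ⧸ m) V
  exact ⟨_, ⟨b.repr.restrictScalars A⟩⟩

end Basis

section CongrLeft

variable {B : Type u} [CommRing B] {X X' : ModuleCat.{u} B} (α : X ≅ X') (Y : ModuleCat.{u} B)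

/-- `Ext` is invariant under isomorphisms in the first variable -/
noncomputable def extCongrLeft (n : ℕ) : Ext X Y n ≃ₗ[B] Ext X' Y n where
  toLinearMap := (Ext.mk₀ α.inv).precompOfLinear B Y (zero_add n)
  invFun := (Ext.mk₀ α.hom).precompOfLinear B Y (zero_add n)
  left_inv x := by
    show (Ext.mk₀ α.hom).comp ((Ext.mk₀ α.inv).comp x (zero_add n)) (zero_add n) = x
    rw [← Ext.comp_assoc_of_second_deg_zero, Ext.mk₀_comp_mk₀, α.hom_inv_id, Ext.mk₀_id_comp]
  right_inv x := by
    show (Ext.mk₀ α.inv).comp ((Ext.mk₀ α.hom).comp x (zero_add n)) (zero_add n) = x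
    rw [← Ext.comp_assoc_of_second_deg_zero, Ext.mk₀_comp_mk₀, α.inv_hom_id, Ext.mk₀_id_comp]

end CongrLeft

section Torsion

variable {A : Type u} [CommRing A] (X Y : ModuleCat.{u} A)

theorem ext_smul_eq_zero (a : A) (ha : ∀ x : X, a • x = 0) {n : ℕ} (e : Ext X Y n) : a • e = 0 := by
  have e2 : a • e = (Ext.mk₀ (a • 𝟙 X)).comp e (zero_add n) := by
    rw [Ext.mk₀_smul, Ext.smul_comp, Ext.mk₀_id_comp]
  have e3 : a • 𝟙 X = 0 := by
    apply ModuleCat.hom_ext
    apply LinearMap.ext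
    intro x
    exact ha x
  rw [e2, e3, Ext.mk₀_zero, Ext.zero_comp]

end Torsion

section Len

variable {R : Type u} [CommRing R] (m : Ideal R) [hm : m.IsMaximal] (I : Type u)

theorem length_finsupp_quot : Module.length R (I →₀ R ⧸ m) = ENat.card I := by
  haveI : IsSimpleModule R (R ⧸ m) := isSimpleModule_iff_isCoatom.mpr (Ideal.isMaximal_def.1 hm)
  rw [Module.length_finsupp, Module.length_eq_one, mul_one]

end Len

section Base

variable (A B : Type u) [CommRing A] [CommRing B] [IsLocalRing A] [IsLocalRing B]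
  [IsNoetherianRing A] [IsNoetherianRing B] [Algebra A B] [Module.Flat A B]
  (N : Type u) [AddCommGroup N] [Module A N]

/-- index sets counting the Bass numbers of `N` -/
theorem exists_index (i : ℕ) : ∃ I : Type u,
    Nonempty (Ext (ModuleCat.of A (A ⧸ maximalIdeal A)) (ModuleCat.of A N) i ≃ₗ[A]
      (I →₀ A ⧸ maximalIdeal A)) := by
  apply exists_basis_of_torsion (maximalIdeal A)
  intro a ha e
  apply ext_smul_eq_zero
  intro x
  obtain ⟨x, rfl⟩ := Ideal.Quotient.mk_surjective x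
  show Ideal.Quotient.mk (maximalIdeal A) (a * x) = 0
  rw [Ideal.Quotient.eq_zero_iff_mem]
  exact Ideal.mul_mem_right _ _ ha

/-- the base of the induction: `Ext^i_B(B/𝔪_A B, B ⊗ N) ≅ B ⊗ Ext^i_A(k, N)` is free over `B/𝔪_A B` -/
theorem shape_base (I : ℕ → Type u)
    (hI : ∀ i, Nonempty (Ext (ModuleCat.of A (A ⧸ maximalIdeal A)) (ModuleCat.of A N) i ≃ₗ[A]
      (I i →₀ A ⧸ maximalIdeal A))) :
    Shape (ModuleCat.of B (B ⊗[A] N)) I ((maximalIdeal A).map (algebraMap A B)) 0 := by
  classical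
  refine ⟨fun n hn => absurd hn (Nat.not_lt_zero n), fun i => ?_⟩
  obtain ⟨e⟩ := hI i
  let e₁ : (B ⊗[A] (A ⧸ maximalIdeal A)) ≃ₗ[B] (B ⧸ (maximalIdeal A).map (algebraMap A B)) :=
    (Algebra.TensorProduct.quotIdealMapEquivTensorQuot B (maximalIdeal A)).symm.toLinearEquiv
  let α : (bcF A B).obj (ModuleCat.of A (A ⧸ maximalIdeal A)) ≅
      ModuleCat.of B (B ⧸ (maximalIdeal A).map (algebraMap A B)) := e₁.toModuleIso
  let ψ : (B ⊗[A] Ext (ModuleCat.of A (A ⧸ maximalIdeal A)) (ModuleCat.of A N) i) ≃ₗ[B]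
      Ext ((bcF A B).obj (ModuleCat.of A (A ⧸ maximalIdeal A)))
        ((bcF A B).obj (ModuleCat.of A N)) i :=
    LinearEquiv.ofBijective _ (bcF_bijective A B (A ⧸ maximalIdeal A) (ModuleCat.of A N) i)
  let t1 : (B ⊗[A] Ext (ModuleCat.of A (A ⧸ maximalIdeal A)) (ModuleCat.of A N) i) ≃ₗ[B]
      B ⊗[A] (I i →₀ A ⧸ maximalIdeal A) :=
    TensorProduct.AlgebraTensorModule.congr (LinearEquiv.refl B B) e
  let t2 : (B ⊗[A] (I i →₀ A ⧸ maximalIdeal A)) ≃ₗ[B] (I i →₀ B ⊗[A] (A ⧸ maximalIdeal A)) :=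
    TensorProduct.finsuppRight A B B (A ⧸ maximalIdeal A) (I i)
  let t3 : (I i →₀ B ⊗[A] (A ⧸ maximalIdeal A)) ≃ₗ[B]
      (I i →₀ B ⧸ (maximalIdeal A).map (algebraMap A B)) :=
    Finsupp.mapRange.linearEquiv e₁
  exact ⟨(((extCongrLeft α ((bcF A B).obj (ModuleCat.of A N)) i).symm.trans ψ.symm).trans t1).trans
    (t2.trans t3)⟩

/-- **Bass numbers along a flat local homomorphism with regular closed fibre of dimension `d`** -/
theorem bassNumLocal_flat (d : ℕ)
    (hF : IsRegularLocalRing (B ⧸ (maximalIdeal A).map (algebraMap A B)))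
    (hd : ringKrullDim (B ⧸ (maximalIdeal A).map (algebraMap A B)) = d) (n : ℕ) :
    GrLC.bassNumLocal B (B ⊗[A] N) n = if n < d then 0 else GrLC.bassNumLocal A N (n - d) := by
  choose I hI using exists_index A N
  have hbase := shape_base A B N I hI
  have hmax := hbase.to_maximal d _ hF hd 0
  rw [zero_add] at hmax
  have hA : ∀ i, GrLC.bassNumLocal A N i = ENat.card (I i) := by
    intro i
    obtain ⟨e⟩ := hI i
    unfold GrLC.bassNumLocal
    exact e.length_eq.trans (length_finsupp_quot (maximalIdeal A) (I i))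
  unfold GrLC.bassNumLocal
  change Module.length B (Ext (ModuleCat.of B (B ⧸ maximalIdeal B)) (ModuleCat.of B (B ⊗[A] N)) n) = _
  by_cases hn : n < d
  · rw [if_pos hn]
    haveI := hmax.1 n hn
    exact Module.length_eq_zero
  · rw [if_neg hn]
    obtain ⟨i, rfl⟩ : ∃ i, n = i + d := ⟨n - d, by omega⟩
    obtain ⟨e⟩ := hmax.2 i
    have h1 : i + d - d = i := by omega
    rw [h1]
    exact (e.length_eq.trans (length_finsupp_quot (maximalIdeal B) (I i))).trans (hA i).symm

end Base

end Groth.Agent.Helper7.BassNum
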