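import Mathlib
import Groth.Prelude.Def_CAlg
import Groth.Prelude.Def_EGA4b
import Groth.Agent.Helper2.FlatLoc
import Groth.Agent.Helper6.FlatDepth
import Groth.Agent.Helper6.FlatGD

/-!
# Depth and dimension of a localised base change along a flat ring map (helper7)
-/

set_option autoImplicit false
set_option linter.unusedSectionVars false
set_option linter.style.haveILetI false
universe u

namespace Groth.Agent.Helper7.Torus

open IsLocalRing TensorProduct

section

variable (A B : Type u) [CommRing A] [CommRing B] [Algebra A B]
  (P : Ideal B) [P.IsPrime] (q : Ideal A) [q.IsPrime] [P.LiesOver q]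
  (M : Type u) [AddCommGroup M] [Module A M]

/-- the localisation of a base change is the base change of the localisation -/
theorem nonempty_equiv_localized_tensor :
    letI := Localization.AtPrime.algebraOfLiesOver q P
    Nonempty ((Localization.AtPrime P) ⊗[Localization.AtPrime q] (LocalizedModule q.primeCompl M)
      ≃ₗ[Localization.AtPrime P] LocalizedModule P.primeCompl (B ⊗[A] M)) := by
  letI := Localization.AtPrime.algebraOfLiesOver q P
  have e1 : LocalizedModule q.primeCompl M ≃ₗ[Localization.AtPrime q]
      (Localization.AtPrime q) ⊗[A] M :=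
    (IsLocalizedModule.isBaseChange q.primeCompl (Localization.AtPrime q)
      (LocalizedModule.mkLinearMap q.primeCompl M)).equiv.symm
  have e2 : (Localization.AtPrime P) ⊗[Localization.AtPrime q] (LocalizedModule q.primeCompl M)
      ≃ₗ[Localization.AtPrime P]
      (Localization.AtPrime P) ⊗[Localization.AtPrime q] ((Localization.AtPrime q) ⊗[A] M) :=
    TensorProduct.AlgebraTensorModule.congr (LinearEquiv.refl _ _) e1
  have e3 : (Localization.AtPrime P) ⊗[Localization.AtPrime q] ((Localization.AtPrime q) ⊗[A] M)
      ≃ₗ[Localization.AtPrime P] (Localization.AtPrime P) ⊗[A] M :=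
    TensorProduct.AlgebraTensorModule.cancelBaseChange A (Localization.AtPrime q)
      (Localization.AtPrime P) (Localization.AtPrime P) M
  have e4 : (Localization.AtPrime P) ⊗[B] (B ⊗[A] M) ≃ₗ[Localization.AtPrime P]
      (Localization.AtPrime P) ⊗[A] M :=
    TensorProduct.AlgebraTensorModule.cancelBaseChange A B
      (Localization.AtPrime P) (Localization.AtPrime P) M
  have e5 : (Localization.AtPrime P) ⊗[B] (B ⊗[A] M) ≃ₗ[Localization.AtPrime P]
      LocalizedModule P.primeCompl (B ⊗[A] M) :=
    (IsLocalizedModule.isBaseChange P.primeCompl (Localization.AtPrime P)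
      (LocalizedModule.mkLinearMap P.primeCompl (B ⊗[A] M))).equiv
  exact ⟨((e2.trans e3).trans e4.symm).trans e5⟩

end


section Formulas

variable (A B : Type u) [CommRing A] [CommRing B] [IsNoetherianRing A] [IsNoetherianRing B]
  [Algebra A B] [Module.Flat A B] (P : Ideal B) [P.IsPrime]
  (M : Type u) [AddCommGroup M] [Module A M] [Module.Finite A M]

/-- **depth formula** for the localisation at `P` of the base change `B ⊗ M` -/
theorem depth_localized_tensor :
    LocCoh.depth (Localization.AtPrime P) (LocalizedModule P.primeCompl (B ⊗[A] M)) =
      LocCoh.depth (Localization.AtPrime (P.comap (algebraMap A B)))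
        (LocalizedModule (P.comap (algebraMap A B)).primeCompl M) +
      LocCoh.depth (EGA4.FibLocRing A B P) (EGA4.FibLocRing A B P) := by
  letI := Localization.AtPrime.algebraOfLiesOver (P.comap (algebraMap A B)) P
  haveI : IsLocalHom (algebraMap (Localization.AtPrime (P.comap (algebraMap A B)))
      (Localization.AtPrime P)) :=
    Localization.isLocalHom_localRingHom _ _ _ Ideal.LiesOver.over
  obtain ⟨e⟩ := nonempty_equiv_localized_tensor A B P (P.comap (algebraMap A B)) M
  have h := Groth.Agent.Helper6.FlatDepth.depth_tensor
    (A := Localization.AtPrime (P.comap (algebraMap A B))) (B := Localization.AtPrime P)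
    (LocalizedModule (P.comap (algebraMap A B)).primeCompl M) (Localization.AtPrime P)
  have hc1 : LocCoh.depth (Localization.AtPrime P)
      ((Localization.AtPrime P) ⊗[Localization.AtPrime (P.comap (algebraMap A B))]
        (LocalizedModule (P.comap (algebraMap A B)).primeCompl M)) =
      LocCoh.depth (Localization.AtPrime P) (LocalizedModule P.primeCompl (B ⊗[A] M)) :=
    Groth.Agent.Helper2.DepthCM.idealDepth_congr (maximalIdeal (Localization.AtPrime P)) e
  rw [hc1] at h
  rw [h]
  congr 1
  have hI : (EGA4.mB (Localization.AtPrime (P.comap (algebraMap A B))) (Localization.AtPrime P) •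
      (⊤ : Submodule (Localization.AtPrime P) (Localization.AtPrime P))) =
      (P.comap (algebraMap A B)).map (algebraMap A (Localization.AtPrime P)) := by
    rw [smul_eq_mul, Ideal.mul_top]
    exact Groth.Agent.Helper2.FlatLoc.map_maximalIdeal A B P
  have e2 : EGA4.FibMod (Localization.AtPrime (P.comap (algebraMap A B))) (Localization.AtPrime P)
      (Localization.AtPrime P) ≃ₗ[Localization.AtPrime P] EGA4.FibLocRing A B P :=
    Submodule.quotEquivOfEq _ _ hI
  have hc2 : LocCoh.depth (Localization.AtPrime P)
      (EGA4.FibMod (Localization.AtPrime (P.comap (algebraMap A B))) (Localization.AtPrime P)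
      (Localization.AtPrime P)) =
      LocCoh.depth (Localization.AtPrime P) (EGA4.FibLocRing A B P) :=
    Groth.Agent.Helper2.DepthCM.idealDepth_congr (maximalIdeal (Localization.AtPrime P)) e2
  rw [hc2]
  haveI : IsLocalHom (algebraMap (Localization.AtPrime P) (EGA4.FibLocRing A B P)) :=
    IsLocalHom.of_surjective _ Ideal.Quotient.mk_surjective
  haveI : Module.Finite (Localization.AtPrime P) (EGA4.FibLocRing A B P) :=
    Module.Finite.of_surjective (Algebra.linearMap _ _) Ideal.Quotient.mk_surjective
  exact Groth.Agent.Helper2.RegCM.depth_eq_of_isLocalHom (Localization.AtPrime P)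
    (EGA4.FibLocRing A B P) (EGA4.FibLocRing A B P)

/-- the localisation of the base change vanishes exactly when the localisation does -/
theorem nontrivial_localized_tensor_iff :
    Nontrivial (LocalizedModule P.primeCompl (B ⊗[A] M)) ↔
      Nontrivial (LocalizedModule (P.comap (algebraMap A B)).primeCompl M) := by
  letI := Localization.AtPrime.algebraOfLiesOver (P.comap (algebraMap A B)) P
  haveI : IsLocalHom (algebraMap (Localization.AtPrime (P.comap (algebraMap A B)))
      (Localization.AtPrime P)) :=
    Localization.isLocalHom_localRingHom _ _ _ Ideal.LiesOver.over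
  obtain ⟨e⟩ := nonempty_equiv_localized_tensor A B P (P.comap (algebraMap A B)) M
  haveI : Module.FaithfullyFlat (Localization.AtPrime (P.comap (algebraMap A B)))
      (Localization.AtPrime P) := Module.FaithfullyFlat.of_flat_of_isLocalHom
  rw [← e.toEquiv.nontrivial_congr]
  rw [← not_subsingleton_iff_nontrivial, ← not_subsingleton_iff_nontrivial, not_iff_not]
  exact Module.FaithfullyFlat.subsingleton_tensorProduct_iff_right _ _

/-- **dimension formula** for the localisation at `P` of the base change `B ⊗ M` -/
theorem supportDim_localized_tensor
    [Nontrivial (LocalizedModule (P.comap (algebraMap A B)).primeCompl M)] :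
    Module.supportDim (Localization.AtPrime P) (LocalizedModule P.primeCompl (B ⊗[A] M)) =
      Module.supportDim (Localization.AtPrime (P.comap (algebraMap A B)))
        (LocalizedModule (P.comap (algebraMap A B)).primeCompl M) +
      ringKrullDim (EGA4.FibLocRing A B P) := by
  letI := Localization.AtPrime.algebraOfLiesOver (P.comap (algebraMap A B)) P
  haveI : IsLocalHom (algebraMap (Localization.AtPrime (P.comap (algebraMap A B)))
      (Localization.AtPrime P)) :=
    Localization.isLocalHom_localRingHom _ _ _ Ideal.LiesOver.over
  obtain ⟨e⟩ := nonempty_equiv_localized_tensor A B P (P.comap (algebraMap A B)) M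
  have h := Groth.Agent.Helper6.FlatGD.supportDim_tensor_eq
    (A := Localization.AtPrime (P.comap (algebraMap A B))) (B := Localization.AtPrime P)
    (LocalizedModule (P.comap (algebraMap A B)).primeCompl M) (Localization.AtPrime P)
  have hd : Module.supportDim (Localization.AtPrime P)
      ((Localization.AtPrime P) ⊗[Localization.AtPrime (P.comap (algebraMap A B))]
        (LocalizedModule (P.comap (algebraMap A B)).primeCompl M)) =
      Module.supportDim (Localization.AtPrime P) (LocalizedModule P.primeCompl (B ⊗[A] M)) :=
    @Module.supportDim_eq_of_equiv (Localization.AtPrime P) _ _ _ _ _ _ _ e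
  rw [hd] at h
  rw [h]
  congr 1
  have hI : ((maximalIdeal (Localization.AtPrime (P.comap (algebraMap A B)))).map
      (algebraMap (Localization.AtPrime (P.comap (algebraMap A B))) (Localization.AtPrime P)) •
      (⊤ : Submodule (Localization.AtPrime P) (Localization.AtPrime P))) =
      (P.comap (algebraMap A B)).map (algebraMap A (Localization.AtPrime P)) := by
    rw [smul_eq_mul, Ideal.mul_top]
    exact Groth.Agent.Helper2.FlatLoc.map_maximalIdeal A B P
  have e2 : (Localization.AtPrime P ⧸
      ((maximalIdeal (Localization.AtPrime (P.comap (algebraMap A B)))).map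
      (algebraMap (Localization.AtPrime (P.comap (algebraMap A B))) (Localization.AtPrime P)) •
      (⊤ : Submodule (Localization.AtPrime P) (Localization.AtPrime P))))
      ≃ₗ[Localization.AtPrime P] EGA4.FibLocRing A B P :=
    Submodule.quotEquivOfEq _ _ hI
  rw [Module.supportDim_eq_of_equiv e2]
  exact Module.supportDim_quotient_eq_ringKrullDim _


variable (q : Ideal A) [q.IsPrime]

theorem depth_localized_tensor' (hq : P.comap (algebraMap A B) = q) :
    LocCoh.depth (Localization.AtPrime P) (LocalizedModule P.primeCompl (B ⊗[A] M)) =
      LocCoh.depth (Localization.AtPrime q) (LocalizedModule q.primeCompl M) +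
      LocCoh.depth (EGA4.FibLocRing A B P) (EGA4.FibLocRing A B P) := by
  subst hq
  exact depth_localized_tensor A B P M

theorem nontrivial_localized_tensor_iff' (hq : P.comap (algebraMap A B) = q) :
    Nontrivial (LocalizedModule P.primeCompl (B ⊗[A] M)) ↔
      Nontrivial (LocalizedModule q.primeCompl M) := by
  subst hq
  exact nontrivial_localized_tensor_iff A B P M

theorem supportDim_localized_tensor' (hq : P.comap (algebraMap A B) = q)
    [Nontrivial (LocalizedModule q.primeCompl M)] :
    Module.supportDim (Localization.AtPrime P) (LocalizedModule P.primeCompl (B ⊗[A] M)) =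
      Module.supportDim (Localization.AtPrime q) (LocalizedModule q.primeCompl M) +
      ringKrullDim (EGA4.FibLocRing A B P) := by
  subst hq
  exact supportDim_localized_tensor A B P M

/-- if `P` is the extension of its contraction then the fibre local ring is a field -/
theorem fibLocRing_isField (hP : (P.comap (algebraMap A B)).map (algebraMap A B) = P) :
    IsField (EGA4.FibLocRing A B P) := by
  have h1 : (P.comap (algebraMap A B)).map (algebraMap A (Localization.AtPrime P)) =
      maximalIdeal (Localization.AtPrime P) := by
    rw [IsScalarTower.algebraMap_eq A B (Localization.AtPrime P), ← Ideal.map_map, hP]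
    exact Localization.AtPrime.map_eq_maximalIdeal
  have h2 : ((P.comap (algebraMap A B)).map (algebraMap A (Localization.AtPrime P))).IsMaximal := by
    rw [h1]
    infer_instance
  exact (Ideal.Quotient.maximal_ideal_iff_isField_quotient _).1 h2

theorem depth_eq_zero_of_isField (F : Type u) [CommRing F] [IsLocalRing F] (hF : IsField F) :
    LocCoh.depth F F = 0 := by
  rw [Groth.Agent.Helper2.Depth.depth_eq_zero_iff]
  intro r hr hreg
  have hr0 : r = 0 := by
    by_contra hne
    obtain ⟨s, hs⟩ := hF.mul_inv_cancel hne
    exact (IsLocalRing.mem_maximalIdeal r).1 hr (IsUnit.of_mul_eq_one s hs)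
  subst hr0
  have := hreg (show (0 : F) • (1 : F) = (0 : F) • (0 : F) by simp)
  exact one_ne_zero this

end Formulas

end Groth.Agent.Helper7.Torus
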