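import Mathlib
import Groth.Prelude.Def_GrLC2
import Groth.Prelude.Def_EGA4b
import Groth.Agent.Helper7.BassD
import Groth.Agent.Helper7.TorusD

/-!
# Bass numbers, part E: Bass numbers of a localised base change along a flat ring map (helper7)
-/

set_option autoImplicit false
set_option linter.unusedSectionVars false
universe u

namespace Groth.Agent.Helper7.BassNum

open CategoryTheory Abelian Pointwise IsLocalRing TensorProduct

section CongrRight

variable {B : Type u} [CommRing B] (X : ModuleCat.{u} B) {Y Y' : ModuleCat.{u} B} (α : Y ≅ Y')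

/-- `Ext` is invariant under isomorphisms in the second variable -/
noncomputable def extCongrRight (n : ℕ) : Ext X Y n ≃ₗ[B] Ext X Y' n where
  toLinearMap := (Ext.mk₀ α.hom).postcompOfLinear B X (add_zero n)
  invFun := (Ext.mk₀ α.inv).postcompOfLinear B X (add_zero n)
  left_inv x := by
    show ((x.comp (Ext.mk₀ α.hom) (add_zero n)).comp (Ext.mk₀ α.inv) (add_zero n)) = x
    rw [Ext.comp_assoc_of_third_deg_zero, Ext.mk₀_comp_mk₀, α.hom_inv_id, Ext.comp_mk₀_id]
  right_inv x := by
    show ((x.comp (Ext.mk₀ α.inv) (add_zero n)).comp (Ext.mk₀ α.hom) (add_zero n)) = x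
    rw [Ext.comp_assoc_of_third_deg_zero, Ext.mk₀_comp_mk₀, α.inv_hom_id, Ext.comp_mk₀_id]

end CongrRight

theorem bassNumLocal_congr {R : Type u} [CommRing R] [IsLocalRing R] {M M' : Type u}
    [AddCommGroup M] [Module R M] [AddCommGroup M'] [Module R M'] (e : M ≃ₗ[R] M') (i : ℕ) :
    GrLC.bassNumLocal R M i = GrLC.bassNumLocal R M' i := by
  unfold GrLC.bassNumLocal
  exact (extCongrRight _ e.toModuleIso i).length_eq

section Main

variable (A B : Type u) [CommRing A] [CommRing B] [IsNoetherianRing A] [IsNoetherianRing B]
  [Algebra A B] [Module.Flat A B] (P : Ideal B) [P.IsPrime]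
  (M : Type u) [AddCommGroup M] [Module A M]

/-- **Bass numbers of `(B ⊗ M)_P`** for a flat map `A → B` whose fibre local ring at `P` is regular of
dimension `d` -/
theorem bassNumLocal_localized_tensor (d : ℕ) (hF : IsRegularLocalRing (EGA4.FibLocRing A B P))
    (hd : ringKrullDim (EGA4.FibLocRing A B P) = d) (n : ℕ) :
    GrLC.bassNumLocal (Localization.AtPrime P) (LocalizedModule P.primeCompl (B ⊗[A] M)) n =
      if n < d then 0 else GrLC.bassNum (P.comap (algebraMap A B)) M (n - d) := by
  letI := Localization.AtPrime.algebraOfLiesOver (P.comap (algebraMap A B)) P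
  obtain ⟨e⟩ := Groth.Agent.Helper7.Torus.nonempty_equiv_localized_tensor A B P
    (P.comap (algebraMap A B)) M
  rw [← bassNumLocal_congr e]
  have hI := Groth.Agent.Helper2.FlatLoc.map_maximalIdeal A B P
  let ε : (Localization.AtPrime P ⧸ (maximalIdeal (Localization.AtPrime (P.comap (algebraMap A B)))).map
      (algebraMap (Localization.AtPrime (P.comap (algebraMap A B))) (Localization.AtPrime P))) ≃+*
      EGA4.FibLocRing A B P := Ideal.quotEquivOfEq hI
  have hF' : IsRegularLocalRing (Localization.AtPrime P ⧸
      (maximalIdeal (Localization.AtPrime (P.comap (algebraMap A B)))).map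
      (algebraMap (Localization.AtPrime (P.comap (algebraMap A B))) (Localization.AtPrime P))) :=
    IsRegularLocalRing.of_ringEquiv ε.symm
  have hd' : ringKrullDim (Localization.AtPrime P ⧸
      (maximalIdeal (Localization.AtPrime (P.comap (algebraMap A B)))).map
      (algebraMap (Localization.AtPrime (P.comap (algebraMap A B))) (Localization.AtPrime P))) = d := by
    rw [ringKrullDim_eq_of_ringEquiv ε, hd]
  exact bassNumLocal_flat (Localization.AtPrime (P.comap (algebraMap A B))) (Localization.AtPrime P)
    (LocalizedModule (P.comap (algebraMap A B)).primeCompl M) d hF' hd' n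

/-- variant with the contraction named -/
theorem bassNumLocal_localized_tensor' (q : Ideal A) [q.IsPrime]
    (hq : P.comap (algebraMap A B) = q) (d : ℕ)
    (hF : IsRegularLocalRing (EGA4.FibLocRing A B P))
    (hd : ringKrullDim (EGA4.FibLocRing A B P) = d) (n : ℕ) :
    GrLC.bassNumLocal (Localization.AtPrime P) (LocalizedModule P.primeCompl (B ⊗[A] M)) n =
      if n < d then 0 else GrLC.bassNum q M (n - d) := by
  subst hq
  exact bassNumLocal_localized_tensor A B P M d hF hd n

end Main

end Groth.Agent.Helper7.BassNum
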