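import Mathlib
import Groth.Prelude.Def_CAlg
import Groth.Agent.Helper2.DepthLoc
set_option autoImplicit false
open RingTheory.Sequence IsLocalRing Pointwise
universe u

namespace Groth.Agent.Helper7.CMRing
open Groth.Agent.Helper2

lemma supportDim_loc (R : Type u) [CommRing R] (p : Ideal R) [p.IsPrime] :
    Module.supportDim (Localization.AtPrime p) (LocalizedModule p.primeCompl R) =
      ((p.height : ℕ∞) : WithBot ℕ∞) := by
  have h1 : Module.supportDim (Localization.AtPrime p) (LocalizedModule p.primeCompl R) =
      Module.supportDim (Localization.AtPrime p) (Localization.AtPrime p) := rfl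
  rw [h1, Module.supportDim_self_eq_ringKrullDim,
    IsLocalization.AtPrime.ringKrullDim_eq_height p (Localization.AtPrime p)]

lemma depth_loc (R : Type u) [CommRing R] (p : Ideal R) [p.IsPrime] :
    LocCoh.depth (Localization.AtPrime p) (LocalizedModule p.primeCompl R) =
      LocCoh.depth (Localization.AtPrime p) (Localization.AtPrime p) := rfl

lemma smul_top_ne_top {R : Type u} [CommRing R] (a : Ideal R) (ha : a ≠ ⊤) :
    a • (⊤ : Submodule R R) ≠ ⊤ := by
  intro h
  apply ha
  rw [eq_top_iff]
  intro x _
  have : x ∈ a • (⊤ : Submodule R R) := by rw [h]; trivial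
  rw [smul_eq_mul, Ideal.mul_top] at this
  exact this

/-- depth of `R_p` is at most the height of `p`. -/
lemma depth_loc_le (R : Type u) [CommRing R] [IsNoetherianRing R] (p : Ideal R) [p.IsPrime] :
    LocCoh.depth (Localization.AtPrime p) (LocalizedModule p.primeCompl R) ≤ p.height := by
  have : Nontrivial (LocalizedModule p.primeCompl R) :=
    inferInstanceAs (Nontrivial (Localization.AtPrime p))
  have h := DepthCM4.depth_le_supportDim (A := Localization.AtPrime p)
    (LocalizedModule p.primeCompl R)
  rw [supportDim_loc] at h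
  exact WithBot.coe_le_coe.1 h

theorem cm_iff (R : Type u) [CommRing R] [IsNoetherianRing R] :
    LocCoh.IsCohenMacaulayRing R ↔
      ∀ a : Ideal R, a ≠ ⊤ → LocCoh.idealDepth a R = a.height := by
  constructor
  · intro hCM a ha
    have hIM := smul_top_ne_top a ha
    obtain ⟨rs, hreg, hmem, hmax, hlen⟩ := DepthCM.exists_length_eq_idealDepth a R hIM
    rw [← hlen]
    apply le_antisymm
    · rw [Ideal.height_eq_inf_minimalPrimes]
      refine le_iInf₂ (fun p hp => ?_)
      have hpp : p.IsPrime := hp.1.1
      have h1 := DepthLoc.length_le_depth_localized a R rs hmem hreg ⟨p, hpp⟩ hp.1.2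
      exact h1.trans (depth_loc_le R p)
    · obtain ⟨p, hap, hdp⟩ := DepthLoc.exists_depth_localized_eq a R hIM rs hmem hreg hmax
      have hpp : p.asIdeal.IsPrime := p.2
      have hcm := (hCM.isCohenMacaulayLocalRing_localization p.asIdeal).supportDim_eq_depth
      rw [← depth_loc, hdp] at hcm
      have h2 : Module.supportDim (Localization.AtPrime p.asIdeal)
          (Localization.AtPrime p.asIdeal) = ((p.asIdeal.height : ℕ∞) : WithBot ℕ∞) :=
        supportDim_loc R p.asIdeal
      rw [h2] at hcm
      have h3 : p.asIdeal.height = (rs.length : ℕ∞) := WithBot.coe_injective hcm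
      rw [← h3]
      exact Ideal.height_mono hap
  · intro h
    refine ⟨fun p hp => ?_⟩
    have hpt : p ≠ ⊤ := hp.ne_top
    have hIM := smul_top_ne_top p hpt
    obtain ⟨rs, hreg, hmem, hmax, hlen⟩ := DepthCM.exists_length_eq_idealDepth p R hIM
    rw [h p hpt] at hlen
    have h1 := DepthLoc.length_le_depth_localized p R rs hmem hreg ⟨p, hp⟩ le_rfl
    have h2 := depth_loc_le R p
    rw [hlen] at h1
    have h3 : LocCoh.depth (Localization.AtPrime p) (LocalizedModule p.primeCompl R) = p.height :=
      le_antisymm h2 h1
    refine { supportDim_eq_depth := ?_ }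
    rw [← depth_loc, h3]
    exact supportDim_loc R p

end Groth.Agent.Helper7.CMRing
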