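import Mathlib
import Groth.Agent.Helper4.SymGrB

/-!
# Homogeneous systems of parameters in a graded algebra over a field (helper7)

`R` is a commutative `k`-algebra graded by `𝒜 : ℤ → Submodule k R`, with `𝒜 n = ⊥` for `n < 0` and
`𝒜 0 = k·1`.  We build homogeneous elements of positive degree cutting the dimension down to `0`.
-/

set_option autoImplicit false
universe u

namespace Groth.Agent.Helper7.SegDim

open DirectSum

variable {k R : Type u} [Field k] [CommRing R] [Algebra k R] (𝒜 : ℤ → Submodule k R) [GradedAlgebra 𝒜]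

/-- irrelevant ideal: generated by homogeneous elements of positive degree -/
def irr : Ideal R := Ideal.span {x | ∃ n : ℤ, 0 < n ∧ x ∈ 𝒜 n}

theorem irr_isHomogeneous : (irr 𝒜).IsHomogeneous 𝒜 :=
  Ideal.homogeneous_span 𝒜 _ (by rintro x ⟨n, _, hx⟩; exact ⟨n, hx⟩)

section

variable (hpos : ∀ n : ℤ, n < 0 → 𝒜 n = ⊥)

include hpos in
theorem decompose_neg (x : R) {n : ℤ} (hn : n < 0) : (decompose 𝒜 x n : R) = 0 := by
  have h : ∀ y : R, y ∈ 𝒜 n → y = 0 := by
    rw [hpos n hn]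
    intro y hy
    exact (Submodule.mem_bot k).1 hy
  exact h _ (decompose 𝒜 x n).2

include hpos in
theorem mem_irr_of_zero (x : R) (hx : (decompose 𝒜 x 0 : R) = 0) : x ∈ irr 𝒜 := by
  classical
  rw [← DirectSum.sum_support_decompose 𝒜 x]
  refine Ideal.sum_mem _ fun n _ => ?_
  rcases lt_trichotomy n 0 with hn | rfl | hn
  · rw [decompose_neg 𝒜 hpos x hn]; exact zero_mem _
  · rw [hx]; exact zero_mem _
  · exact Ideal.subset_span ⟨n, hn, SetLike.coe_mem _⟩

include hpos in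
theorem zero_of_mem_irr (x : R) (hx : x ∈ irr 𝒜) : (decompose 𝒜 x 0 : R) = 0 := by
  classical
  unfold irr at hx
  induction hx using Submodule.span_induction with
  | mem y hy =>
    obtain ⟨n, hn, hy⟩ := hy
    exact DirectSum.decompose_of_mem_ne 𝒜 hy hn.ne'
  | zero => simp
  | add y z _ _ hy hz => rw [decompose_add, DirectSum.add_apply, Submodule.coe_add, hy, hz, add_zero]
  | smul r y _ hy =>
    rw [smul_eq_mul, ← DirectSum.sum_support_decompose 𝒜 r, Finset.sum_mul, decompose_sum,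
      DFinsupp.finsetSum_apply, AddSubmonoidClass.coe_finsetSum]
    refine Finset.sum_eq_zero fun i _ => ?_
    have h1 : (decompose 𝒜 ((decompose 𝒜 r i : R) * y) (i + (-i)) : R)
        = (decompose 𝒜 r i : R) * (decompose 𝒜 y (-i) : R) :=
      DirectSum.coe_decompose_mul_add_of_left_mem 𝒜 (SetLike.coe_mem _)
    rw [add_neg_cancel] at h1
    rw [h1]
    rcases lt_trichotomy i 0 with hi | rfl | hi
    · rw [decompose_neg 𝒜 hpos r hi, zero_mul]
    · rw [neg_zero, hy, mul_zero]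
    · rw [decompose_neg 𝒜 hpos y (neg_neg_of_pos hi), mul_zero]

variable (h0 : 𝒜 0 = Submodule.span k {(1 : R)})

omit [GradedAlgebra 𝒜] in
include h0 in
theorem exists_smul_one (y : R) (hy : y ∈ 𝒜 0) : ∃ c : k, c • (1 : R) = y := by
  rw [h0] at hy
  exact Submodule.mem_span_singleton.1 hy

include hpos h0 in
theorem le_irr {I : Ideal R} (hI : I.IsHomogeneous 𝒜) (hne : I ≠ ⊤) : I ≤ irr 𝒜 := by
  intro x hx
  apply mem_irr_of_zero 𝒜 hpos
  have h1 : (decompose 𝒜 x 0 : R) ∈ I := hI 0 hx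
  obtain ⟨c, hc⟩ := exists_smul_one 𝒜 h0 _ (SetLike.coe_mem (decompose 𝒜 x 0))
  by_contra hne0
  have hc0 : c ≠ 0 := by
    rintro rfl
    rw [zero_smul] at hc
    exact hne0 hc.symm
  apply hne
  rw [Ideal.eq_top_iff_one]
  have h3 : (1 : R) = c⁻¹ • (decompose 𝒜 x 0 : R) := by
    rw [← hc, smul_smul, inv_mul_cancel₀ hc0, one_smul]
  rw [h3]
  exact Submodule.smul_of_tower_mem I c⁻¹ h1

include hpos h0 in
theorem irr_isMaximal [Nontrivial R] : (irr 𝒜).IsMaximal := by
  rw [Ideal.isMaximal_iff]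
  constructor
  · intro h1
    have h2 := zero_of_mem_irr 𝒜 hpos 1 h1
    rw [DirectSum.decompose_of_mem_same 𝒜 (SetLike.one_mem_graded 𝒜)] at h2
    exact one_ne_zero h2
  · intro J a hJ ha haJ
    obtain ⟨c, hc⟩ := exists_smul_one 𝒜 h0 _ (SetLike.coe_mem (decompose 𝒜 a 0))
    have hc0 : c ≠ 0 := by
      rintro rfl
      rw [zero_smul] at hc
      exact ha (mem_irr_of_zero 𝒜 hpos a hc.symm)
    have h3 : a - (decompose 𝒜 a 0 : R) ∈ irr 𝒜 := by
      apply mem_irr_of_zero 𝒜 hpos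
      rw [decompose_sub, DirectSum.sub_apply, AddSubgroupClass.coe_sub,
        DirectSum.decompose_of_mem_same 𝒜 (SetLike.coe_mem _), sub_self]
    have h4 : (decompose 𝒜 a 0 : R) ∈ J := by
      have := J.sub_mem haJ (hJ h3)
      rwa [sub_sub_cancel] at this
    have h5 : (1 : R) = c⁻¹ • (decompose 𝒜 a 0 : R) := by
      rw [← hc, smul_smul, inv_mul_cancel₀ hc0, one_smul]
    rw [h5]
    exact Submodule.smul_of_tower_mem J c⁻¹ h4

end

theorem isHomogeneous_of_mem_minimalPrimes {I p : Ideal R} (hI : I.IsHomogeneous 𝒜)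
    (hp : p ∈ I.minimalPrimes) : p.IsHomogeneous 𝒜 := by
  have hp' : p.IsPrime := hp.1.1
  have h1 : (p.homogeneousCore 𝒜).toIdeal.IsPrime := Ideal.IsPrime.homogeneousCore hp'
  have h2 : I ≤ (p.homogeneousCore 𝒜).toIdeal := by
    rw [← hI.toIdeal_homogeneousCore_eq_self]
    exact Ideal.homogeneousCore_mono 𝒜 hp.1.2
  have h3 : (p.homogeneousCore 𝒜).toIdeal ≤ p := Ideal.toIdeal_homogeneousCore_le 𝒜 p
  have h4 : p ≤ (p.homogeneousCore 𝒜).toIdeal := hp.2 ⟨h1, h2⟩ h3
  have h5 : (p.homogeneousCore 𝒜).toIdeal = p := le_antisymm h3 h4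
  rw [← h5]
  exact (p.homogeneousCore 𝒜).isHomogeneous

/-- the avoidance setup of helper4 for a family of prime ideals -/
def avoidSetup : Groth.Agent.Helper4.SymGrB.Setup R (PrimeSpectrum R) where
  Hg m := (𝒜 (m : ℤ)).toAddSubgroup
  Pr i _ x := x ∈ i.asIdeal
  one_mem := by
    show (1 : R) ∈ 𝒜 ((0 : ℕ) : ℤ)
    rw [Nat.cast_zero]
    exact SetLike.one_mem_graded 𝒜
  mul_mem m m' x y hx hy := by
    show x * y ∈ 𝒜 ((m + m' : ℕ) : ℤ)
    rw [Nat.cast_add]
    exact SetLike.mul_mem_graded hx hy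
  P_one i := i.isPrime.one_notMem
  P_add i m x y _ _ hx hy := add_mem hx hy
  P_neg i m x _ hx := neg_mem hx
  P_mul i m m' x y _ _ := i.isPrime.mul_mem_iff_mem_or_mem

/-- homogeneous prime avoidance -/
theorem exists_homog_avoid (s : Finset (PrimeSpectrum R)) (hs : ∀ p ∈ s, ¬ irr 𝒜 ≤ p.asIdeal) :
    ∃ (n : ℤ) (x : R), 0 < n ∧ x ∈ 𝒜 n ∧ ∀ p ∈ s, x ∉ p.asIdeal := by
  classical
  have h := (avoidSetup 𝒜).exists_avoid s (by
    intro p hp
    have h1 := hs p hp
    unfold irr at h1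
    rw [Ideal.span_le, Set.not_subset] at h1
    obtain ⟨y, ⟨n, hn, hy⟩, hyp⟩ := h1
    refine ⟨n.toNat, by omega, y, ?_, hyp⟩
    show y ∈ 𝒜 ((n.toNat : ℕ) : ℤ)
    rwa [Int.toNat_of_nonneg hn.le])
  obtain ⟨m, hm, f, hf, hav⟩ := h
  exact ⟨(m : ℤ), f, by exact_mod_cast hm, hf, hav⟩


section

variable (hpos : ∀ n : ℤ, n < 0 → 𝒜 n = ⊥) (h0 : 𝒜 0 = Submodule.span k {(1 : R)})

include hpos h0 in
/-- cutting by a suitable homogeneous element of positive degree lowers the dimension -/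
theorem exists_drop [IsNoetherianRing R] [Nontrivial R] (I : Ideal R) (d : ℕ)
    (hd : ringKrullDim (R ⧸ I) ≤ ((d + 1 : ℕ) : WithBot ℕ∞)) :
    ∃ (n : ℤ) (x : R), 0 < n ∧ x ∈ 𝒜 n ∧ ringKrullDim (R ⧸ (I ⊔ Ideal.span {x})) ≤ (d : WithBot ℕ∞) := by
  classical
  have hfin : (I.minimalPrimes).Finite := Ideal.finite_minimalPrimes_of_isNoetherianRing R I
  let s0 : Finset (Ideal R) := hfin.toFinset
  let s : Finset (PrimeSpectrum R) :=
    (Finset.univ.filter (fun p : {p : Ideal R // p ∈ s0} => ¬ irr 𝒜 ≤ p.1)).image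
      (fun p => ⟨p.1, ((hfin.mem_toFinset).1 p.2).1.1⟩)
  have hs : ∀ p ∈ s, ¬ irr 𝒜 ≤ p.asIdeal := by
    intro p hp
    obtain ⟨q, hq, rfl⟩ := Finset.mem_image.1 hp
    exact (Finset.mem_filter.1 hq).2
  obtain ⟨n, x, hn, hx, hav⟩ := exists_homog_avoid 𝒜 s hs
  refine ⟨n, x, hn, hx, ?_⟩
  have hmax := irr_isMaximal 𝒜 hpos h0
  rw [ringKrullDim_quotient] at hd ⊢
  unfold Order.krullDim
  apply iSup_le
  intro l
  by_cases hl : l.length = 0
  · rw [hl]
    exact_mod_cast Nat.zero_le d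
  · have hI' : (I : Set R) ⊆ l.head.1.asIdeal := by
      have := l.head.2
      rw [PrimeSpectrum.mem_zeroLocus] at this
      exact fun a ha => this (Ideal.mem_sup_left ha)
    have hxl : x ∈ l.head.1.asIdeal := by
      have := l.head.2
      rw [PrimeSpectrum.mem_zeroLocus] at this
      exact this (Ideal.mem_sup_right (Ideal.mem_span_singleton_self x))
    obtain ⟨p, hp, hple⟩ := Ideal.exists_minimalPrimes_le (I := I) (J := l.head.1.asIdeal) hI'
    have hpne : p ≠ l.head.1.asIdeal := by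
      intro hpe
      by_cases hirr : irr 𝒜 ≤ p
      · -- p = irr is maximal, but l.head < l 1
        have hp_prime : p.IsPrime := hp.1.1
        have h1 : p = irr 𝒜 := (hmax.eq_of_le hp_prime.ne_top hirr).symm
        have hpos' : 0 < l.length := Nat.pos_of_ne_zero hl
        have h2 : l.head < l ⟨1, by omega⟩ := l.strictMono (by
          show (0 : ℕ) < 1
          exact Nat.zero_lt_one)
        have h3 : l.head.1.asIdeal < (l ⟨1, by omega⟩).1.asIdeal := h2
        rw [← hpe, h1] at h3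
        exact absurd (hmax.eq_of_le (l ⟨1, by omega⟩).1.isPrime.ne_top h3.le) (ne_of_lt h3)
      · have hmem : (⟨p, hp.1.1⟩ : PrimeSpectrum R) ∈ s := by
          refine Finset.mem_image.2 ⟨⟨p, (hfin.mem_toFinset).2 hp⟩, ?_, rfl⟩
          exact Finset.mem_filter.2 ⟨Finset.mem_univ _, hirr⟩
        have := hav _ hmem
        apply this
        show x ∈ p
        rw [hpe]
        exact hxl
    let p' : PrimeSpectrum.zeroLocus (R := R) (I : Set R) := ⟨⟨p, hp.1.1⟩, by
      rw [PrimeSpectrum.mem_zeroLocus]; exact hp.1.2⟩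
    let incl : PrimeSpectrum.zeroLocus (R := R) ((I ⊔ Ideal.span {x} : Ideal R) : Set R) →
        PrimeSpectrum.zeroLocus (R := R) (I : Set R) := fun q => ⟨q.1, by
      have := q.2
      rw [PrimeSpectrum.mem_zeroLocus] at this ⊢
      exact fun a ha => this (Ideal.mem_sup_left ha)⟩
    have hincl : StrictMono incl := fun a b hab => hab
    have hp'lt : p' < (l.map incl hincl).head := by
      show p < l.head.1.asIdeal
      exact lt_of_le_of_ne hple hpne
    have hlen := Order.LTSeries.length_le_krullDim ((l.map incl hincl).cons p' hp'lt)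
    have h4 : ((l.length + 1 : ℕ) : WithBot ℕ∞) ≤ ((d + 1 : ℕ) : WithBot ℕ∞) := by
      refine le_trans ?_ hd
      simpa using hlen
    have h5 : l.length + 1 ≤ d + 1 := by exact_mod_cast h4
    exact_mod_cast Nat.le_of_succ_le_succ h5

include hpos h0 in
/-- homogeneous elements of positive degree cutting the dimension down to `0` -/
theorem exists_sop [IsNoetherianRing R] [Nontrivial R] (d : ℕ) : ∀ (I : Ideal R),
    ringKrullDim (R ⧸ I) ≤ (d : WithBot ℕ∞) →
    ∃ (n : Fin d → ℤ) (x : Fin d → R), (∀ i, 0 < n i ∧ x i ∈ 𝒜 (n i)) ∧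
      ringKrullDim (R ⧸ (I ⊔ Ideal.span (Set.range x))) ≤ 0 := by
  induction d with
  | zero =>
    intro I hI
    refine ⟨Fin.elim0, Fin.elim0, fun i => i.elim0, ?_⟩
    have : Set.range (Fin.elim0 : Fin 0 → R) = ∅ := Set.range_eq_empty _
    rw [this, Ideal.span_empty, sup_bot_eq]
    exact_mod_cast hI
  | succ d ih =>
    intro I hI
    obtain ⟨n₀, x₀, hn₀, hx₀, hdim⟩ := exists_drop 𝒜 hpos h0 I d hI
    obtain ⟨n', x', hx', hdim'⟩ := ih (I ⊔ Ideal.span {x₀}) hdim
    refine ⟨Fin.cons n₀ n', Fin.cons x₀ x', ?_, ?_⟩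
    · intro i
      refine Fin.cases ?_ (fun j => ?_) i
      · simpa using ⟨hn₀, hx₀⟩
      · simpa using hx' j
    · have : I ⊔ Ideal.span (Set.range (Fin.cons x₀ x' : Fin (d + 1) → R))
          = (I ⊔ Ideal.span {x₀}) ⊔ Ideal.span (Set.range x') := by
        rw [Fin.range_cons, Ideal.span_insert, sup_assoc]
      rw [this]
      exact hdim'

end

end Groth.Agent.Helper7.SegDim
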