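import Mathlib
import Groth.Agent.Helper7.SegDim1
import Groth.Agent.Helper5.IntegralDim

/-!
# Graded Noether normalisation with generators of equal degree (helper7)
-/

set_option autoImplicit false
universe u

namespace Groth.Agent.Helper7.SegDim

open DirectSum

variable {k R : Type u} [Field k] [CommRing R] [Algebra k R] (𝒜 : ℤ → Submodule k R) [GradedAlgebra 𝒜]

/-- replacing generators by positive powers does not change dimension zero -/
theorem dim_pow_le {r : ℕ} (x : Fin r → R) (m : Fin r → ℕ) (hm : ∀ i, 0 < m i)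
    (hdim : ringKrullDim (R ⧸ Ideal.span (Set.range x)) ≤ 0) :
    ringKrullDim (R ⧸ Ideal.span (Set.range fun i => x i ^ m i)) ≤ 0 := by
  rw [ringKrullDim_quotient] at hdim ⊢
  have h : PrimeSpectrum.zeroLocus (R := R) (Ideal.span (Set.range fun i => x i ^ m i) : Set R)
      = PrimeSpectrum.zeroLocus (R := R) (Ideal.span (Set.range x) : Set R) := by
    rw [PrimeSpectrum.zeroLocus_span, PrimeSpectrum.zeroLocus_span]
    ext p
    simp only [PrimeSpectrum.mem_zeroLocus, Set.range_subset_iff, SetLike.mem_coe]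
    exact forall_congr' fun i => p.isPrime.pow_mem_iff_mem (m i) (hm i)
  rw [h]
  exact hdim

section

variable (hpos : ∀ n : ℤ, n < 0 → 𝒜 n = ⊥)

include hpos in
/-- graded Nakayama: if `R/(x)` has dimension `0` then `R` is a finite module over `k[x]` -/
theorem finite_of_dim_zero [Algebra.FiniteType k R] {r : ℕ} (x : Fin r → R) (e : ℤ) (he : 0 < e)
    (hx : ∀ i, x i ∈ 𝒜 e)
    (hdim : ringKrullDim (R ⧸ Ideal.span (Set.range x)) ≤ 0) :
    Module.Finite (Algebra.adjoin k (Set.range x)) R := by
  classical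
  set J : Ideal R := Ideal.span (Set.range x) with hJ
  have hfin : Module.Finite k (R ⧸ J) :=
    (Module.finite_iff_krullDimLE_zero (R := k) (A := R ⧸ J)).2 (Ring.krullDimLE_iff.2 (by exact_mod_cast hdim))
  let H : Set R := {a | ∃ n : ℤ, a ∈ 𝒜 n}
  let π : R →ₗ[k] R ⧸ J := (Ideal.Quotient.mkₐ k J).toLinearMap
  have hπ : Function.Surjective π := Ideal.Quotient.mkₐ_surjective k J
  have hH : Submodule.span k H = ⊤ := by
    rw [eq_top_iff]
    rintro a -
    rw [← DirectSum.sum_support_decompose 𝒜 a]
    exact Submodule.sum_mem _ fun n _ => Submodule.subset_span ⟨n, SetLike.coe_mem _⟩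
  have hspan : Submodule.span k (π '' H) = ⊤ := by
    rw [← Submodule.map_span, hH, Submodule.map_top, LinearMap.range_eq_top]
    exact hπ
  have hfg : (Submodule.span k (π '' H)).FG := by
    rw [hspan]; exact Module.Finite.fg_top
  obtain ⟨s', hs'H, hs'⟩ := (Submodule.fg_span_iff_fg_span_finset_subset (π '' H)).1 hfg
  obtain ⟨V₀, hV₀H, hV₀⟩ := Finset.subset_set_image_iff.1 hs'H
  set A' := Algebra.adjoin k (Set.range x) with hA'
  let W : Submodule A' R := Submodule.span A' (V₀ : Set R)
  have hkW : ∀ (c : k) (u : R), u ∈ W → c • u ∈ W := by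
    intro c u hu
    have : c • u = (algebraMap k A' c) • u := by rw [algebraMap_smul]
    rw [this]
    exact W.smul_mem _ hu
  have hxW : ∀ (i : Fin r) (u : R), u ∈ W → u * x i ∈ W := by
    intro i u hu
    have : u * x i = (⟨x i, Algebra.subset_adjoin ⟨i, rfl⟩⟩ : A') • u := by
      rw [Subalgebra.smul_def, smul_eq_mul, mul_comm]
    rw [this]
    exact W.smul_mem _ hu
  have hcompW : ∀ (n : ℤ) (w : R), w ∈ Submodule.span k (V₀ : Set R) → (decompose 𝒜 w n : R) ∈ W := by
    intro n w hw
    induction hw using Submodule.span_induction with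
    | mem v hv =>
      obtain ⟨m', hm'⟩ := hV₀H hv
      by_cases hmn : m' = n
      · subst hmn
        rw [DirectSum.decompose_of_mem_same 𝒜 hm']
        exact Submodule.subset_span hv
      · rw [DirectSum.decompose_of_mem_ne 𝒜 hm' hmn]
        exact zero_mem _
    | zero => simp
    | add u v _ _ hu hv =>
      rw [decompose_add, DirectSum.add_apply, Submodule.coe_add]
      exact add_mem hu hv
    | smul c u _ hu =>
      rw [decompose_smul, DirectSum.smul_apply, Submodule.coe_smul]
      exact hkW c _ hu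
  have key : ∀ m : ℕ, ∀ n : ℤ, n < m → ∀ a ∈ 𝒜 n, a ∈ W := by
    intro m
    induction m with
    | zero =>
      intro n hn a ha
      have h : ∀ y : R, y ∈ 𝒜 n → y = 0 := by
        rw [hpos n (by exact_mod_cast hn)]
        intro y hy
        exact (Submodule.mem_bot k).1 hy
      rw [h a ha]
      exact zero_mem _
    | succ m ih =>
      intro n hn a ha
      have h1 : π a ∈ Submodule.span k (π '' (V₀ : Set R)) := by
        have : π '' (V₀ : Set R) = (s' : Set (R ⧸ J)) := by
          rw [← hV₀, Finset.coe_image]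
        rw [this, ← hs', hspan]
        trivial
      rw [← Submodule.map_span] at h1
      obtain ⟨w, hw, hwa⟩ := h1
      have h2 : a - w ∈ J := by
        rw [← Ideal.Quotient.eq]
        exact hwa.symm
      rw [hJ, Ideal.mem_span_range_iff_exists_fun] at h2
      obtain ⟨b, hb⟩ := h2
      have h3 : a = (decompose 𝒜 w n : R) + ∑ i, (decompose 𝒜 (b i) (n - e) : R) * x i := by
        have h4 : a = w + ∑ i, b i * x i := by rw [hb]; ring
        have h5 : (decompose 𝒜 a n : R) = a := DirectSum.decompose_of_mem_same 𝒜 ha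
        rw [← h5]
        conv_lhs => rw [h4]
        rw [decompose_add, DirectSum.add_apply, Submodule.coe_add, decompose_sum,
          DFinsupp.finsetSum_apply, AddSubmonoidClass.coe_finsetSum]
        congr 1
        refine Finset.sum_congr rfl fun i _ => ?_
        have h6 := DirectSum.coe_decompose_mul_add_of_right_mem 𝒜 (a := b i) (i := n - e) (hx i)
        rw [sub_add_cancel] at h6
        exact h6
      rw [h3]
      refine add_mem (hcompW n w hw) (Submodule.sum_mem _ fun i _ => hxW i _ ?_)
      exact ih (n - e) (by push_cast at hn; omega) _ (SetLike.coe_mem _)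
  refine ⟨⟨V₀, ?_⟩⟩
  rw [eq_top_iff]
  rintro a -
  rw [← DirectSum.sum_support_decompose 𝒜 a]
  refine Submodule.sum_mem _ fun n _ => ?_
  exact key (n.toNat + 1) n (by push_cast; omega) _ (SetLike.coe_mem _)

end

/-- a family over which `R` is integral and of the right cardinality is algebraically independent -/
theorem algebraicIndependent_of_dim {r : ℕ} (x : Fin r → R)
    [Algebra.IsIntegral (Algebra.adjoin k (Set.range x)) R] (hr : ringKrullDim R = r) :
    AlgebraicIndependent k x := by
  rw [algebraicIndependent_iff_injective_aeval, injective_iff_map_eq_zero]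
  intro f hf
  by_contra hf0
  set A' := Algebra.adjoin k (Set.range x) with hA'
  have h1 : ringKrullDim R = ringKrullDim A' :=
    Groth.Agent.Helper5.IntegralDim.ringKrullDim_eq_of_isIntegral_of_injective
      (R := A') (S := R) Subtype.val_injective
  have hrange : (MvPolynomial.aeval x : MvPolynomial (Fin r) k →ₐ[k] R).range = A' := by
    rw [hA', Algebra.adjoin_range_eq_range_aeval]
  let φ : MvPolynomial (Fin r) k →+* A' :=
    ((MvPolynomial.aeval x : MvPolynomial (Fin r) k →ₐ[k] R).codRestrict A' (by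
      intro p
      rw [← hrange]
      exact ⟨p, rfl⟩)).toRingHom
  have hφ : Function.Surjective φ := by
    rintro ⟨a, ha⟩
    rw [← hrange] at ha
    obtain ⟨p, hp⟩ := ha
    exact ⟨p, Subtype.ext hp⟩
  have hφf : φ f = 0 := Subtype.ext hf
  have h2 := ringKrullDim_succ_le_of_surjective φ hφ (mem_nonZeroDivisors_of_ne_zero hf0) hφf
  rw [MvPolynomial.ringKrullDim_of_isNoetherianRing, ringKrullDim_eq_zero_of_field, ← h1, hr] at h2
  simp only [Nat.card_eq_fintype_card, Fintype.card_fin, zero_add] at h2
  have h3 : ((r + 1 : ℕ) : WithBot ℕ∞) ≤ (r : WithBot ℕ∞) := by exact_mod_cast h2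
  have h4 : r + 1 ≤ r := by exact_mod_cast h3
  omega


section

variable (hpos : ∀ n : ℤ, n < 0 → 𝒜 n = ⊥) (h0 : 𝒜 0 = Submodule.span k {(1 : R)})

include hpos h0 in
/-- **Graded Noether normalisation with equal degrees.** -/
theorem exists_param [Algebra.FiniteType k R] (r : ℕ) (hr : ringKrullDim R = r) :
    ∃ e₀ : ℕ, 0 < e₀ ∧ ∀ e : ℕ, 0 < e → e₀ ∣ e → ∃ x : Fin r → R, (∀ i, x i ∈ 𝒜 (e : ℤ)) ∧
      AlgebraicIndependent k x ∧ Algebra.IsIntegral (Algebra.adjoin k (Set.range x)) R := by
  classical
  have hN : IsNoetherianRing R := Algebra.FiniteType.isNoetherianRing k R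
  have hnt : Nontrivial R := by
    by_contra h
    rw [not_nontrivial_iff_subsingleton] at h
    rw [ringKrullDim_eq_bot_of_subsingleton] at hr
    exact absurd hr (by simp)
  have hbot : ringKrullDim (R ⧸ (⊥ : Ideal R)) ≤ (r : WithBot ℕ∞) := by
    rw [← hr]
    exact ringKrullDim_quotient_le _
  obtain ⟨n, x, hnx, hdim⟩ := exists_sop 𝒜 hpos h0 r ⊥ hbot
  rw [bot_sup_eq] at hdim
  refine ⟨∏ i, (n i).toNat, Finset.prod_pos fun i _ => by have := (hnx i).1; omega, ?_⟩
  intro e he hdvd
  have hdvd' : ∀ i, (n i).toNat ∣ e := fun i =>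
    dvd_trans (Finset.dvd_prod_of_mem (fun i => (n i).toNat) (Finset.mem_univ i)) hdvd
  let m : Fin r → ℕ := fun i => e / (n i).toNat
  have hm : ∀ i, 0 < m i := fun i =>
    Nat.div_pos (Nat.le_of_dvd he (hdvd' i)) (by have := (hnx i).1; omega)
  have hme : ∀ i, (m i : ℤ) * n i = e := by
    intro i
    have h1 : m i * (n i).toNat = e := Nat.div_mul_cancel (hdvd' i)
    have h2 : ((n i).toNat : ℤ) = n i := Int.toNat_of_nonneg (hnx i).1.le
    rw [← h2]
    exact_mod_cast h1
  have hx' : ∀ i, x i ^ m i ∈ 𝒜 (e : ℤ) := by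
    intro i
    have := SetLike.pow_mem_graded (m i) (hnx i).2
    rwa [nsmul_eq_mul, hme i] at this
  have hdim' := dim_pow_le x m hm hdim
  have hfin := finite_of_dim_zero 𝒜 hpos (fun i => x i ^ m i) (e : ℤ) (by exact_mod_cast he) hx' hdim'
  have hint : Algebra.IsIntegral (Algebra.adjoin k (Set.range fun i => x i ^ m i)) R :=
    Algebra.IsIntegral.of_finite _ _
  exact ⟨fun i => x i ^ m i, hx', algebraicIndependent_of_dim _ hr, hint⟩

end

end Groth.Agent.Helper7.SegDim
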