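import Mathlib
import Groth.Agent.Helper7.SegDim2
import Groth.Agent.Helper9.SegreMod

/-!
# Graded Noether normalisation for a graded module (helper7)
-/

set_option autoImplicit false
universe u

namespace Groth.Agent.Helper7.SegMod

open DirectSum Groth.Agent.Helper7.SegDim

variable {k R : Type u} [Field k] [CommRing R] [Algebra k R] (𝒜 : ℤ → Submodule k R) [GradedAlgebra 𝒜]
  {M : Type u} [AddCommGroup M] [Module R M] [Module k M] [IsScalarTower k R M]
  (ℳ : ℤ → AddSubgroup M) [DirectSum.Decomposition ℳ] [SetLike.GradedSMul 𝒜 ℳ]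

/-- replacing generators by positive powers does not change dimension zero -/
theorem dim_pow_le' (I : Ideal R) {r : ℕ} (x : Fin r → R) (m : Fin r → ℕ) (hm : ∀ i, 0 < m i)
    (hdim : ringKrullDim (R ⧸ (I ⊔ Ideal.span (Set.range x))) ≤ 0) :
    ringKrullDim (R ⧸ (I ⊔ Ideal.span (Set.range fun i => x i ^ m i))) ≤ 0 := by
  rw [ringKrullDim_quotient] at hdim ⊢
  have h : PrimeSpectrum.zeroLocus (R := R) ((I ⊔ Ideal.span (Set.range fun i => x i ^ m i) : Ideal R) : Set R)
      = PrimeSpectrum.zeroLocus (R := R) ((I ⊔ Ideal.span (Set.range x) : Ideal R) : Set R) := by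
    rw [PrimeSpectrum.zeroLocus_sup, PrimeSpectrum.zeroLocus_sup, PrimeSpectrum.zeroLocus_span,
      PrimeSpectrum.zeroLocus_span]
    congr 1
    ext p
    simp only [PrimeSpectrum.mem_zeroLocus, Set.range_subset_iff, SetLike.mem_coe]
    exact forall_congr' fun i => p.isPrime.pow_mem_iff_mem (m i) (hm i)
  rw [h]
  exact hdim

omit [Module k M] [IsScalarTower k R M] in
/-- components of `a • g` for a homogeneous `g` -/
theorem decompose_smul_homog (a : R) {t : ℤ} {g : M} (hg : g ∈ ℳ t) (n : ℤ) :
    (decompose ℳ (a • g) n : M) = (decompose 𝒜 a (n - t) : R) • g := by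
  classical
  conv_lhs => rw [← DirectSum.sum_support_decompose 𝒜 a, Finset.sum_smul]
  rw [decompose_sum, DFinsupp.finsetSum_apply, AddSubmonoidClass.coe_finsetSum]
  have h1 : ∀ i ∈ (decompose 𝒜 a).support,
      (decompose ℳ ((decompose 𝒜 a i : R) • g) n : M) = if i = n - t then (decompose 𝒜 a i : R) • g else 0 := by
    intro i _
    have hmem : (decompose 𝒜 a i : R) • g ∈ ℳ (i + t) :=
      SetLike.GradedSMul.smul_mem (A := 𝒜) (B := ℳ) (SetLike.coe_mem (decompose 𝒜 a i)) hg
    split_ifs with h
    · have : i + t = n := by rw [h]; ring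
      rw [← this]
      exact DirectSum.decompose_of_mem_same ℳ hmem
    · have : i + t ≠ n := fun h' => h (by rw [← h']; ring)
      exact DirectSum.decompose_of_mem_ne ℳ hmem this
  rw [Finset.sum_congr rfl h1, Finset.sum_ite_eq']
  split_ifs with h
  · rfl
  · rw [DFinsupp.notMem_support_iff.1 h, ZeroMemClass.coe_zero, zero_smul]


section

variable (hpos : ∀ n : ℤ, n < 0 → 𝒜 n = ⊥)

include hpos ℳ in
/-- graded Nakayama for modules: if `R/(ann M + (x))` has dimension `0` then `M` is a finite module over `k[x]` -/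
theorem finite_of_dim_zero' [Algebra.FiniteType k R] [Module.Finite R M] {r : ℕ} (x : Fin r → R) (e : ℤ)
    (he : 0 < e) (hx : ∀ i, x i ∈ 𝒜 e)
    (hdim : ringKrullDim (R ⧸ (Module.annihilator R M ⊔ Ideal.span (Set.range x))) ≤ 0) :
    Module.Finite (Algebra.adjoin k (Set.range x)) M := by
  classical
  set J : Ideal R := Module.annihilator R M ⊔ Ideal.span (Set.range x) with hJ
  have hfin : Module.Finite k (R ⧸ J) :=
    (Module.finite_iff_krullDimLE_zero (R := k) (A := R ⧸ J)).2 (Ring.krullDimLE_iff.2 (by exact_mod_cast hdim))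
  let H : Set R := {a | ∃ n : ℤ, a ∈ 𝒜 n}
  let π : R →ₗ[k] R ⧸ J := (Ideal.Quotient.mkₐ k J).toLinearMap
  have hπ : Function.Surjective π := Ideal.Quotient.mkₐ_surjective k J
  have hH : Submodule.span k H = ⊤ := by
    rw [eq_top_iff]
    rintro a -
    rw [← DirectSum.sum_support_decompose 𝒜 a]
    exact Submodule.sum_mem _ fun n _ => Submodule.subset_span ⟨n, SetLike.coe_mem _⟩
  have hspan : Submodule.span k (π '' H) = ⊤ := by
    rw [← Submodule.map_span, hH, Submodule.map_top, LinearMap.range_eq_top]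
    exact hπ
  have hfg : (Submodule.span k (π '' H)).FG := by
    rw [hspan]; exact Module.Finite.fg_top
  obtain ⟨s', hs'H, hs'⟩ := (Submodule.fg_span_iff_fg_span_finset_subset (π '' H)).1 hfg
  obtain ⟨V₀, hV₀H, hV₀⟩ := Finset.subset_set_image_iff.1 hs'H
  -- homogeneous generators of `M`
  let HM : Set M := {g | ∃ t : ℤ, g ∈ ℳ t}
  have hHM : Submodule.span R HM = ⊤ := by
    rw [eq_top_iff]
    rintro m -
    rw [← DirectSum.sum_support_decompose ℳ m]
    exact Submodule.sum_mem _ fun n _ => Submodule.subset_span ⟨n, SetLike.coe_mem _⟩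
  have hfgM : (Submodule.span R HM).FG := by
    rw [hHM]; exact Module.Finite.fg_top
  obtain ⟨G₀, hG₀H, hG₀⟩ := (Submodule.fg_span_iff_fg_span_finset_subset HM).1 hfgM
  rw [hHM] at hG₀
  choose! deg hdeg using (fun g (hg : g ∈ (G₀ : Set M)) => hG₀H hg)
  obtain ⟨n₁, hn₁⟩ := (G₀.image (fun g => - deg g)).exists_le
  set n₀ : ℤ := - n₁ with hn₀
  have hn₀' : ∀ g ∈ G₀, n₀ ≤ deg g := fun g hg => by
    have := hn₁ _ (Finset.mem_image_of_mem (fun g => - deg g) hg)
    omega
  set A' := Algebra.adjoin k (Set.range x) with hA'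
  let W : Submodule A' M :=
    Submodule.span A' (Set.image2 (fun (v : R) (g : M) => v • g) (V₀ : Set R) (G₀ : Set M))
  have hkW : ∀ (c : k) (u : M), u ∈ W → c • u ∈ W := by
    intro c u hu
    have : c • u = (algebraMap k A' c) • u := by rw [algebraMap_smul]
    rw [this]
    exact W.smul_mem _ hu
  have hxW : ∀ (i : Fin r) (u : M), u ∈ W → x i • u ∈ W := by
    intro i u hu
    have : x i • u = (⟨x i, Algebra.subset_adjoin ⟨i, rfl⟩⟩ : A') • u := rfl
    rw [this]
    exact W.smul_mem _ hu
  have hcompW : ∀ (n : ℤ) (w : R), w ∈ Submodule.span k (V₀ : Set R) → ∀ g ∈ G₀,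
      (decompose ℳ (w • g) n : M) ∈ W := by
    intro n w hw g hg
    induction hw using Submodule.span_induction with
    | mem v hv =>
      obtain ⟨m', hm'⟩ := hV₀H hv
      have hvg : v • g ∈ ℳ (m' + deg g) :=
        SetLike.GradedSMul.smul_mem (A := 𝒜) (B := ℳ) hm' (hdeg g hg)
      by_cases h : m' + deg g = n
      · subst h
        rw [DirectSum.decompose_of_mem_same ℳ hvg]
        exact Submodule.subset_span ⟨v, hv, g, hg, rfl⟩
      · rw [DirectSum.decompose_of_mem_ne ℳ hvg h]
        exact zero_mem _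
    | zero => simp
    | add u v _ _ hu hv =>
      rw [add_smul, decompose_add, DirectSum.add_apply, AddSubgroup.coe_add]
      exact add_mem hu hv
    | smul c u _ hu =>
      rw [smul_assoc]
      have h1 := (Groth.Agent.Helper9.SegreMod.proj 𝒜 ℳ n).map_smul c (u • g)
      rw [Groth.Agent.Helper9.SegreMod.proj_apply, Groth.Agent.Helper9.SegreMod.proj_apply] at h1
      rw [h1]
      exact hkW c _ hu
  -- every element of `R` decomposes modulo `J`
  have hdecomp : ∀ a : R, ∃ w ∈ Submodule.span k (V₀ : Set R), ∃ ι ∈ Module.annihilator R M,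
      ∃ b : Fin r → R, a = w + ι + ∑ i, b i * x i := by
    intro a
    have h1 : π a ∈ Submodule.span k (π '' (V₀ : Set R)) := by
      have : π '' (V₀ : Set R) = (s' : Set (R ⧸ J)) := by
        rw [← hV₀, Finset.coe_image]
      rw [this, ← hs', hspan]
      trivial
    rw [← Submodule.map_span] at h1
    obtain ⟨w, hw, hwa⟩ := h1
    have h2 : a - w ∈ J := by
      rw [← Ideal.Quotient.eq]
      exact hwa.symm
    rw [hJ, Submodule.mem_sup] at h2
    obtain ⟨ι, hι, j, hj, hij⟩ := h2
    rw [Ideal.mem_span_range_iff_exists_fun] at hj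
    obtain ⟨b, hb⟩ := hj
    refine ⟨w, hw, ι, hι, b, ?_⟩
    rw [hb, add_assoc, hij]
    ring
  choose w hw ι hι b hb using hdecomp
  have key : ∀ c : ℕ, ∀ n : ℤ, n < n₀ + c → ∀ m ∈ ℳ n, m ∈ W := by
    intro c
    induction c with
    | zero =>
      intro n hn m hm
      have hm_top : m ∈ Submodule.span R (G₀ : Set M) := by rw [← hG₀]; trivial
      obtain ⟨a, -, ha⟩ := Submodule.mem_span_finset.1 hm_top
      have h1 : m = ∑ g ∈ G₀, (decompose 𝒜 (a g) (n - deg g) : R) • g := by
        have h5 : (decompose ℳ m n : M) = m := DirectSum.decompose_of_mem_same ℳ hm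
        rw [← h5]
        conv_lhs => rw [← ha]
        rw [decompose_sum, DFinsupp.finsetSum_apply, AddSubmonoidClass.coe_finsetSum]
        exact Finset.sum_congr rfl fun g hg => decompose_smul_homog 𝒜 ℳ (a g) (hdeg g hg) n
      rw [h1]
      refine Submodule.sum_mem _ fun g hg => ?_
      have : n - deg g < 0 := by
        have := hn₀' g hg
        push_cast at hn
        omega
      rw [decompose_neg 𝒜 hpos _ this, zero_smul]
      exact zero_mem _
    | succ c ih =>
      intro n hn m hm
      have hm_top : m ∈ Submodule.span R (G₀ : Set M) := by rw [← hG₀]; trivial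
      obtain ⟨a, -, ha⟩ := Submodule.mem_span_finset.1 hm_top
      have h5 : (decompose ℳ m n : M) = m := DirectSum.decompose_of_mem_same ℳ hm
      have h1 : m = ∑ g ∈ G₀, (decompose 𝒜 (a g) (n - deg g) : R) • g := by
        rw [← h5]
        conv_lhs => rw [← ha]
        rw [decompose_sum, DFinsupp.finsetSum_apply, AddSubmonoidClass.coe_finsetSum]
        exact Finset.sum_congr rfl fun g hg => decompose_smul_homog 𝒜 ℳ (a g) (hdeg g hg) n
      set a' : M → R := fun g => (decompose 𝒜 (a g) (n - deg g) : R) with ha'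
      have h2 : m = ∑ g ∈ G₀, w (a' g) • g + ∑ i, x i • ∑ g ∈ G₀, b (a' g) i • g := by
        conv_lhs => rw [h1]
        have h3 : ∀ g ∈ G₀, a' g • g = w (a' g) • g + ∑ i, x i • (b (a' g) i • g) := by
          intro g _
          conv_lhs => rw [hb (a' g)]
          rw [add_smul, add_smul, Module.mem_annihilator.1 (hι (a' g)) g, add_zero, Finset.sum_smul]
          congr 1
          refine Finset.sum_congr rfl fun i _ => ?_
          rw [mul_comm, mul_smul]
        rw [Finset.sum_congr rfl h3, Finset.sum_add_distrib, Finset.sum_comm]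
        congr 1
        refine Finset.sum_congr rfl fun i _ => ?_
        rw [Finset.smul_sum]
      have h6 : m = ∑ g ∈ G₀, (decompose ℳ (w (a' g) • g) n : M)
          + ∑ i, x i • (decompose ℳ (∑ g ∈ G₀, b (a' g) i • g) (n - e) : M) := by
        conv_lhs => rw [← h5, h2]
        rw [decompose_add, DirectSum.add_apply, AddSubgroup.coe_add, decompose_sum,
          DFinsupp.finsetSum_apply, AddSubmonoidClass.coe_finsetSum, decompose_sum,
          DFinsupp.finsetSum_apply, AddSubmonoidClass.coe_finsetSum]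
        congr 1
        refine Finset.sum_congr rfl fun i _ => ?_
        exact Groth.Agent.Helper9.SegreMod.proj_smul 𝒜 ℳ e (x i) (hx i) _ n
      rw [h6]
      refine add_mem (Submodule.sum_mem _ fun g hg => hcompW n _ (hw (a' g)) g hg)
        (Submodule.sum_mem _ fun i _ => hxW i _ ?_)
      exact ih (n - e) (by push_cast at hn; omega) _ (SetLike.coe_mem _)
  refine ⟨⟨(Finset.image₂ (fun (v : R) (g : M) => v • g) V₀ G₀), ?_⟩⟩
  rw [Finset.coe_image₂, eq_top_iff]
  rintro m -
  rw [← DirectSum.sum_support_decompose ℳ m]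
  refine Submodule.sum_mem _ fun n _ => ?_
  exact key (n - n₀).toNat.succ n (by push_cast; omega) _ (SetLike.coe_mem _)

end


omit [GradedAlgebra 𝒜] [Module k M] [IsScalarTower k R M] in
/-- `R / ann M` is integral over `k[x]` when `M` is a finite `k[x]`-module -/
theorem isIntegral_quotient_annihilator {d : ℕ} (x : Fin d → R)
    [Module.Finite (Algebra.adjoin k (Set.range x)) M] :
    ((Ideal.Quotient.mk (Module.annihilator R M)).comp
      (MvPolynomial.aeval x : MvPolynomial (Fin d) k →ₐ[k] R).toRingHom).IsIntegral := by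
  set A' := Algebra.adjoin k (Set.range x) with hA'
  have hrange : (MvPolynomial.aeval x : MvPolynomial (Fin d) k →ₐ[k] R).range = A' := by
    rw [hA', Algebra.adjoin_range_eq_range_aeval]
  let φ : MvPolynomial (Fin d) k →+* A' :=
    ((MvPolynomial.aeval x : MvPolynomial (Fin d) k →ₐ[k] R).codRestrict A' (by
      intro p
      rw [← hrange]
      exact ⟨p, rfl⟩)).toRingHom
  have hφ : Function.Surjective φ := by
    rintro ⟨a, ha⟩
    rw [← hrange] at ha
    obtain ⟨p, hp⟩ := ha
    exact ⟨p, Subtype.ext hp⟩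
  let g : A' →+* R ⧸ Module.annihilator R M :=
    (Ideal.Quotient.mk (Module.annihilator R M)).comp (algebraMap A' R)
  have hg : g.IsIntegral := by
    intro z
    obtain ⟨r, rfl⟩ := Ideal.Quotient.mk_surjective z
    obtain ⟨p, hp, hp0⟩ := LinearMap.exists_monic_and_aeval_eq_zero A' (Algebra.lsmul A' A' M r)
    rw [Polynomial.aeval_algHom_apply] at hp0
    refine ⟨p, hp, ?_⟩
    have h1 : Polynomial.aeval r p ∈ Module.annihilator R M := by
      rw [Module.mem_annihilator]
      intro m
      have := LinearMap.congr_fun hp0 m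
      simpa using this
    have h2 : Polynomial.eval₂ g (Ideal.Quotient.mk (Module.annihilator R M) r) p
        = Ideal.Quotient.mk (Module.annihilator R M) (Polynomial.aeval r p) := by
      rw [Polynomial.aeval_def, Polynomial.hom_eval₂]
    rw [h2]
    exact Ideal.Quotient.eq_zero_iff_mem.2 h1
  have := (RingHom.isIntegral_of_surjective φ hφ).trans _ _ hg
  exact this


omit [GradedAlgebra 𝒜] [Module k M] [IsScalarTower k R M] in
/-- a parameter system of the right length acts faithfully -/
theorem faithful_of_dim [Module.Finite R M] {d : ℕ} (x : Fin d → R)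
    [Module.Finite (Algebra.adjoin k (Set.range x)) M] (hd : Module.supportDim R M = d)
    (f : MvPolynomial (Fin d) k) (hf : ∀ m : M, (MvPolynomial.aeval x f : R) • m = 0) : f = 0 := by
  by_contra hf0
  set I := Module.annihilator R M with hI
  set g : MvPolynomial (Fin d) k →+* R ⧸ I :=
    (Ideal.Quotient.mk I).comp (MvPolynomial.aeval x : MvPolynomial (Fin d) k →ₐ[k] R).toRingHom with hg
  have hgint : g.IsIntegral := isIntegral_quotient_annihilator x
  have hgf : g f = 0 := by
    rw [hg, RingHom.comp_apply]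
    exact Ideal.Quotient.eq_zero_iff_mem.2 (Module.mem_annihilator.2 hf)
  -- factor through the quotient by `f`
  let h : MvPolynomial (Fin d) k ⧸ Ideal.span {f} →+* R ⧸ I :=
    Ideal.Quotient.lift (Ideal.span {f}) g (by
      intro a ha
      obtain ⟨c, rfl⟩ := Ideal.mem_span_singleton'.1 ha
      rw [map_mul, hgf, mul_zero])
  have hcomp : h.comp (Ideal.Quotient.mk (Ideal.span {f})) = g := Ideal.Quotient.lift_comp_mk _ _ _
  have hhint : h.IsIntegral := by
    apply RingHom.IsIntegral.tower_top (Ideal.Quotient.mk (Ideal.span {f})) h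
    rw [hcomp]
    exact hgint
  let _ : Algebra (MvPolynomial (Fin d) k ⧸ Ideal.span {f}) (R ⧸ I) := h.toAlgebra
  have : Algebra.IsIntegral (MvPolynomial (Fin d) k ⧸ Ideal.span {f}) (R ⧸ I) := ⟨hhint⟩
  have h1 : ringKrullDim (R ⧸ I) ≤ ringKrullDim (MvPolynomial (Fin d) k ⧸ Ideal.span {f}) :=
    Groth.Agent.Helper5.IntegralDim.ringKrullDim_le_of_isIntegral
  have h2 := ringKrullDim_quotient_succ_le_of_nonZeroDivisor (mem_nonZeroDivisors_of_ne_zero hf0)
  rw [MvPolynomial.ringKrullDim_of_isNoetherianRing, ringKrullDim_eq_zero_of_field] at h2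
  simp only [Nat.card_eq_fintype_card, Fintype.card_fin, zero_add] at h2
  rw [Module.supportDim_eq_ringKrullDim_quotient_annihilator] at hd
  rw [hd] at h1
  have h3 : ((d + 1 : ℕ) : WithBot ℕ∞) ≤ (d : WithBot ℕ∞) := by
    refine le_trans ?_ h2
    push_cast
    gcongr
  have h4 : d + 1 ≤ d := by exact_mod_cast h3
  omega


section

variable (hpos : ∀ n : ℤ, n < 0 → 𝒜 n = ⊥) (h0 : 𝒜 0 = Submodule.span k {(1 : R)})

include hpos h0 ℳ in
/-- **Graded Noether normalisation for a graded module**, with parameters of equal degree. -/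
theorem exists_param_module [Algebra.FiniteType k R] [Module.Finite R M] (d : ℕ)
    (hd : Module.supportDim R M = d) :
    ∃ e₀ : ℕ, 0 < e₀ ∧ ∀ e : ℕ, 0 < e → e₀ ∣ e → ∃ x : Fin d → R, (∀ i, x i ∈ 𝒜 (e : ℤ)) ∧
      Module.Finite (Algebra.adjoin k (Set.range x)) M ∧
      ∀ f : MvPolynomial (Fin d) k, (∀ m : M, (MvPolynomial.aeval x f : R) • m = 0) → f = 0 := by
  classical
  have hN : IsNoetherianRing R := Algebra.FiniteType.isNoetherianRing k R
  have hnt : Nontrivial R := by
    by_contra h
    rw [not_nontrivial_iff_subsingleton] at h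
    have : Subsingleton M := Module.subsingleton R M
    rw [Module.supportDim_eq_bot_of_subsingleton] at hd
    exact absurd hd (by simp)
  have hbot : ringKrullDim (R ⧸ Module.annihilator R M) ≤ (d : WithBot ℕ∞) := by
    rw [← hd, Module.supportDim_eq_ringKrullDim_quotient_annihilator]
  obtain ⟨n, x, hnx, hdim⟩ := exists_sop 𝒜 hpos h0 d _ hbot
  refine ⟨∏ i, (n i).toNat, Finset.prod_pos fun i _ => by have := (hnx i).1; omega, ?_⟩
  intro e he hdvd
  have hdvd' : ∀ i, (n i).toNat ∣ e := fun i =>
    dvd_trans (Finset.dvd_prod_of_mem (fun i => (n i).toNat) (Finset.mem_univ i)) hdvd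
  let m : Fin d → ℕ := fun i => e / (n i).toNat
  have hm : ∀ i, 0 < m i := fun i =>
    Nat.div_pos (Nat.le_of_dvd he (hdvd' i)) (by have := (hnx i).1; omega)
  have hme : ∀ i, (m i : ℤ) * n i = e := by
    intro i
    have h1 : m i * (n i).toNat = e := Nat.div_mul_cancel (hdvd' i)
    have h2 : ((n i).toNat : ℤ) = n i := Int.toNat_of_nonneg (hnx i).1.le
    rw [← h2]
    exact_mod_cast h1
  have hx' : ∀ i, x i ^ m i ∈ 𝒜 (e : ℤ) := by
    intro i
    have := SetLike.pow_mem_graded (m i) (hnx i).2
    rwa [nsmul_eq_mul, hme i] at this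
  have hdim' := dim_pow_le' (Module.annihilator R M) x m hm hdim
  have hfin := finite_of_dim_zero' 𝒜 ℳ hpos (fun i => x i ^ m i) (e : ℤ) (by exact_mod_cast he) hx' hdim'
  exact ⟨fun i => x i ^ m i, hx', hfin, fun f hf => faithful_of_dim _ hd f hf⟩

end

end Groth.Agent.Helper7.SegMod
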