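import Mathlib
import Groth.Agent.Helper5.FtDim5

/-!
# The dimension of `k[X_i Y_j] ⊆ k[X, Y]` (helper7)
-/

set_option autoImplicit false
universe u

namespace Groth.Agent.Helper7.SegDim

open MvPolynomial Cardinal

variable (k : Type u) [Field k] (a b : ℕ)

/-- the polynomial ring in the variables `X_0..X_a, Y_0..Y_b` -/
abbrev PXY : Type u := MvPolynomial (Fin (a + 1) ⊕ Fin (b + 1)) k

/-- the generators `X_i Y_j` -/
noncomputable def gen (p : Fin (a + 1) × Fin (b + 1)) : PXY k a b := X (Sum.inl p.1) * X (Sum.inr p.2)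

/-- the subalgebra generated by the `X_i Y_j` -/
noncomputable def E : Subalgebra k (PXY k a b) := Algebra.adjoin k (Set.range (gen k a b))

theorem gen_mem (p : Fin (a + 1) × Fin (b + 1)) : gen k a b p ∈ E k a b :=
  Algebra.subset_adjoin ⟨p, rfl⟩

theorem gen_ne_zero (p : Fin (a + 1) × Fin (b + 1)) : gen k a b p ≠ 0 :=
  mul_ne_zero (X_ne_zero _) (X_ne_zero _)

/-- the generators as elements of `E` -/
noncomputable def genE (p : Fin (a + 1) × Fin (b + 1)) : E k a b := ⟨gen k a b p, gen_mem k a b p⟩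

/-- `a + b + 1` of the generators -/
noncomputable def G : Fin (a + 1) ⊕ Fin b → E k a b :=
  Sum.elim (fun i => genE k a b (i, 0)) (fun j => genE k a b (0, j.succ))

/-- the subalgebra generated by `G` -/
noncomputable def E₁ : Subalgebra k (E k a b) := Algebra.adjoin k (Set.range (G k a b))

theorem genE_zero_mem (j : Fin (b + 1)) : genE k a b (0, j) ∈ E₁ k a b := by
  refine Fin.cases ?_ (fun j' => ?_) j
  · exact Algebra.subset_adjoin ⟨Sum.inl 0, rfl⟩
  · exact Algebra.subset_adjoin ⟨Sum.inr j', rfl⟩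

theorem genE_mem_zero (i : Fin (a + 1)) : genE k a b (i, 0) ∈ E₁ k a b :=
  Algebra.subset_adjoin ⟨Sum.inl i, rfl⟩

theorem isAlgebraic_genE (p : Fin (a + 1) × Fin (b + 1)) : IsAlgebraic (E₁ k a b) (genE k a b p) := by
  obtain ⟨i, j⟩ := p
  let u : E₁ k a b := ⟨genE k a b (0, 0), genE_mem_zero k a b 0⟩
  let v : E₁ k a b := ⟨genE k a b (i, 0) * genE k a b (0, j),
    mul_mem (genE_mem_zero k a b i) (genE_zero_mem k a b j)⟩
  have hu : u ∈ nonZeroDivisors (E₁ k a b) := by
    apply mem_nonZeroDivisors_of_ne_zero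
    intro h
    have h1 : ((u : E k a b) : PXY k a b) = 0 := by rw [h]; rfl
    exact gen_ne_zero k a b (0, 0) h1
  have h2 : u • genE k a b (i, j) = algebraMap (E₁ k a b) (E k a b) v := by
    rw [Subalgebra.smul_def]
    show genE k a b (0, 0) * genE k a b (i, j) = genE k a b (i, 0) * genE k a b (0, j)
    apply Subtype.ext
    rw [Subalgebra.coe_mul, Subalgebra.coe_mul]
    show gen k a b (0, 0) * gen k a b (i, j) = gen k a b (i, 0) * gen k a b (0, j)
    simp only [gen]
    ring
  refine IsAlgebraic.of_smul (y := u) hu ?_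
  rw [h2]
  exact isAlgebraic_algebraMap v

theorem isAlgebraic_E : Algebra.IsAlgebraic (E₁ k a b) (E k a b) := by
  have htop : (⊤ : Subalgebra k (E k a b)) ≤
      (Subalgebra.algebraicClosure (E₁ k a b) (E k a b)).restrictScalars k := by
    have h : Algebra.adjoin k (((↑) : E k a b → PXY k a b) ⁻¹' Set.range (gen k a b)) = ⊤ :=
      Algebra.adjoin_adjoin_coe_preimage
    rw [← h]
    apply Algebra.adjoin_le
    rintro ⟨w, hw⟩ hw'
    obtain ⟨p, hp⟩ := (hw' : w ∈ Set.range (gen k a b))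
    have : (⟨w, hw⟩ : E k a b) = genE k a b p := Subtype.ext hp.symm
    rw [this]
    exact isAlgebraic_genE k a b p
  exact ⟨fun w => htop (Algebra.mem_top (x := w))⟩

theorem trdeg_E_le : Algebra.trdeg k (E k a b) ≤ ((a + b + 1 : ℕ) : Cardinal.{u}) := by
  have : Algebra.IsAlgebraic (Algebra.adjoin k (Set.range (G k a b))) (E k a b) := isAlgebraic_E k a b
  have h1 := Algebra.IsAlgebraic.trdeg_le_cardinalMk k (A := E k a b) (Set.range (G k a b))
  refine le_trans h1 ?_
  have h2 : lift.{0} #(Set.range (G k a b)) ≤ lift.{u} #(Fin (a + 1) ⊕ Fin b) :=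
    Cardinal.mk_range_le_lift
  rw [Cardinal.lift_uzero] at h2
  refine le_trans h2 ?_
  rw [Cardinal.mk_fintype]
  simp only [Fintype.card_sum, Fintype.card_fin, Cardinal.lift_natCast]
  exact_mod_cast (by omega : a + 1 + b ≤ a + b + 1)


/-- the subalgebra `E[X_0]` of `P` over `E` -/
noncomputable def A₁ : Subalgebra (E k a b) (PXY k a b) :=
  Algebra.adjoin (E k a b) {(X (Sum.inl 0) : PXY k a b)}

theorem X0_mem : (X (Sum.inl 0) : PXY k a b) ∈ A₁ k a b :=
  Algebra.subset_adjoin (Set.mem_singleton _)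

theorem gen_mem_A₁ (p : Fin (a + 1) × Fin (b + 1)) : gen k a b p ∈ A₁ k a b :=
  (A₁ k a b).algebraMap_mem (genE k a b p)

theorem isAlgebraic_X (v : Fin (a + 1) ⊕ Fin (b + 1)) : IsAlgebraic (A₁ k a b) (X v : PXY k a b) := by
  rcases v with i | j
  · let u : A₁ k a b := ⟨gen k a b (0, 0), gen_mem_A₁ k a b (0, 0)⟩
    let w : A₁ k a b := ⟨gen k a b (i, 0) * X (Sum.inl 0), mul_mem (gen_mem_A₁ k a b (i, 0)) (X0_mem k a b)⟩
    have hu : u ∈ nonZeroDivisors (A₁ k a b) := by
      apply mem_nonZeroDivisors_of_ne_zero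
      intro h
      have h1 : (u : PXY k a b) = 0 := by rw [h]; rfl
      exact gen_ne_zero k a b (0, 0) h1
    have h2 : u • (X (Sum.inl i) : PXY k a b) = algebraMap (A₁ k a b) (PXY k a b) w := by
      rw [Subalgebra.smul_def]
      show gen k a b (0, 0) * X (Sum.inl i) = gen k a b (i, 0) * X (Sum.inl 0)
      simp only [gen]
      ring
    refine IsAlgebraic.of_smul (y := u) hu ?_
    rw [h2]
    exact isAlgebraic_algebraMap w
  · let u : A₁ k a b := ⟨X (Sum.inl 0), X0_mem k a b⟩
    let w : A₁ k a b := ⟨gen k a b (0, j), gen_mem_A₁ k a b (0, j)⟩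
    have hu : u ∈ nonZeroDivisors (A₁ k a b) := by
      apply mem_nonZeroDivisors_of_ne_zero
      intro h
      have h1 : (u : PXY k a b) = 0 := by rw [h]; rfl
      exact X_ne_zero _ h1
    have h2 : u • (X (Sum.inr j) : PXY k a b) = algebraMap (A₁ k a b) (PXY k a b) w := by
      rw [Subalgebra.smul_def]
      rfl
    refine IsAlgebraic.of_smul (y := u) hu ?_
    rw [h2]
    exact isAlgebraic_algebraMap w

theorem isAlgebraic_P : Algebra.IsAlgebraic (A₁ k a b) (PXY k a b) := by
  refine ⟨fun p => ?_⟩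
  induction p using MvPolynomial.induction_on with
  | C c =>
    have hc : (C c : PXY k a b) ∈ A₁ k a b := (A₁ k a b).algebraMap_mem (algebraMap k (E k a b) c)
    exact isAlgebraic_algebraMap (⟨C c, hc⟩ : A₁ k a b)
  | add p q hp hq => exact hp.add hq
  | mul_X p v hp => exact hp.mul (isAlgebraic_X k a b v)

theorem trdeg_P_le : Algebra.trdeg (E k a b) (PXY k a b) ≤ 1 := by
  have : Algebra.IsAlgebraic (Algebra.adjoin (E k a b) {(X (Sum.inl 0) : PXY k a b)}) (PXY k a b) :=
    isAlgebraic_P k a b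
  have h1 := Algebra.IsAlgebraic.trdeg_le_cardinalMk (E k a b) (A := PXY k a b) {(X (Sum.inl 0) : PXY k a b)}
  simpa using h1

theorem trdeg_E_eq : Algebra.trdeg k (E k a b) = ((a + b + 1 : ℕ) : Cardinal.{u}) := by
  have h1 := trdeg_add_eq k (E k a b) (A := PXY k a b)
  rw [MvPolynomial.trdeg_of_isDomain, Cardinal.mk_fintype] at h1
  simp only [Fintype.card_sum, Fintype.card_fin, Cardinal.lift_natCast] at h1
  have h2 := trdeg_E_le k a b
  have h3 := trdeg_P_le k a b
  obtain ⟨c, hc⟩ := Cardinal.lt_aleph0.1 (lt_of_le_of_lt h2 Cardinal.natCast_lt_aleph0)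
  obtain ⟨d, hd⟩ := Cardinal.lt_aleph0.1 (lt_of_le_of_lt h3 (by exact_mod_cast Cardinal.natCast_lt_aleph0 (n := 1)))
  rw [hc] at h2 ⊢
  rw [hd] at h3
  rw [hc, hd] at h1
  have h1' : c + d = a + 1 + (b + 1) := by exact_mod_cast h1
  have h2' : c ≤ a + b + 1 := by exact_mod_cast h2
  have h3' : d ≤ 1 := by exact_mod_cast h3
  have : c = a + b + 1 := by omega
  rw [this]


instance : Algebra.FiniteType k (E k a b) := by
  rw [← Subalgebra.fg_iff_finiteType]
  exact ⟨(Set.finite_range (gen k a b)).toFinset, by rw [Set.Finite.coe_toFinset]; rfl⟩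

/-- **The dimension of `k[X_i Y_j]`.** -/
theorem ringKrullDim_E : ringKrullDim (E k a b) = ((a + b + 1 : ℕ) : WithBot ℕ∞) := by
  obtain ⟨n, hn, hn'⟩ := Groth.Agent.Helper5.FtDim.dim_eq_trdeg k (E k a b) (FractionRing (E k a b))
  have h1 := trdeg_add_eq k (E k a b) (A := FractionRing (E k a b))
  have h2 : Algebra.trdeg (E k a b) (FractionRing (E k a b)) = 0 := by
    have : Algebra.IsAlgebraic (E k a b) (FractionRing (E k a b)) :=
      IsLocalization.isAlgebraic _ (nonZeroDivisors (E k a b))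
    exact trdeg_eq_zero
  rw [h2, add_zero, trdeg_E_eq, hn'] at h1
  have : a + b + 1 = n := by exact_mod_cast h1
  rw [hn, this]

end Groth.Agent.Helper7.SegDim
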