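import Mathlib
import Groth.Agent.Helper7.SegDim3
import Groth.Agent.Helper9.Segre
import Groth.Agent.Helper5.IntegralDim

/-!
# The Segre product is integral over `k[x_i ⊗ y_j]` (helper7)
-/

set_option autoImplicit false
universe u

namespace Groth.Agent.Helper7.SegDim

open MvPolynomial TensorProduct

variable {k R S : Type u} [Field k] [CommRing R] [Algebra k R] [CommRing S] [Algebra k S]

section Phi

variable (k) {a b : ℕ} (x : Fin (a + 1) → R) (y : Fin (b + 1) → S)

/-- the family `x_i ⊗ 1, 1 ⊗ y_j` -/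
def zeta : Fin (a + 1) ⊕ Fin (b + 1) → R ⊗[k] S :=
  Sum.elim (fun i => x i ⊗ₜ[k] 1) (fun j => 1 ⊗ₜ[k] y j)

/-- evaluation at `zeta` -/
noncomputable def Phi : PXY k a b →ₐ[k] R ⊗[k] S := aeval (zeta k x y)

theorem Phi_comp_tensorEquivSum :
    (Phi k x y).comp (tensorEquivSum k (Fin (a + 1)) (Fin (b + 1)) k).toAlgHom =
      Algebra.TensorProduct.map (aeval x : MvPolynomial (Fin (a + 1)) k →ₐ[k] R)
        (aeval y : MvPolynomial (Fin (b + 1)) k →ₐ[k] S) := by
  apply Algebra.TensorProduct.ext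
  · apply MvPolynomial.algHom_ext
    intro i
    simp [Phi, zeta]
  · apply MvPolynomial.algHom_ext
    intro j
    simp [Phi, zeta]

theorem Phi_injective (hx : AlgebraicIndependent k x) (hy : AlgebraicIndependent k y) :
    Function.Injective (Phi k x y) := by
  rw [algebraicIndependent_iff_injective_aeval] at hx hy
  have h1 : Function.Injective (Algebra.TensorProduct.map (aeval x : MvPolynomial _ k →ₐ[k] R)
      (aeval y : MvPolynomial _ k →ₐ[k] S)) := by
    have := TensorProduct.map_injective_of_flat_flat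
      (aeval x : MvPolynomial _ k →ₐ[k] R).toLinearMap (aeval y : MvPolynomial _ k →ₐ[k] S).toLinearMap hx hy
    exact this
  rw [← Phi_comp_tensorEquivSum] at h1
  intro p q hpq
  have h2 := @h1 ((tensorEquivSum k (Fin (a + 1)) (Fin (b + 1)) k).symm p)
    ((tensorEquivSum k (Fin (a + 1)) (Fin (b + 1)) k).symm q) (by simpa using hpq)
  exact (tensorEquivSum k (Fin (a + 1)) (Fin (b + 1)) k).symm.injective h2

theorem Phi_rename_inl (p : MvPolynomial (Fin (a + 1)) k) :
    Phi k x y (rename Sum.inl p) = (aeval x p) ⊗ₜ[k] (1 : S) := by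
  unfold Phi
  rw [aeval_rename]
  have h : (aeval (zeta k x y ∘ Sum.inl) : MvPolynomial (Fin (a + 1)) k →ₐ[k] R ⊗[k] S)
      = (Algebra.TensorProduct.includeLeft : R →ₐ[k] R ⊗[k] S).comp (aeval x) := by
    apply MvPolynomial.algHom_ext
    intro i
    simp [zeta]
  rw [h]
  rfl

theorem Phi_rename_inr (p : MvPolynomial (Fin (b + 1)) k) :
    Phi k x y (rename Sum.inr p) = (1 : R) ⊗ₜ[k] (aeval y p) := by
  unfold Phi
  rw [aeval_rename]
  have h : (aeval (zeta k x y ∘ Sum.inr) : MvPolynomial (Fin (b + 1)) k →ₐ[k] R ⊗[k] S)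
      = (Algebra.TensorProduct.includeRight : S →ₐ[k] R ⊗[k] S).comp (aeval y) := by
    apply MvPolynomial.algHom_ext
    intro i
    simp [zeta]
  rw [h]
  rfl

theorem isIntegralElem_left (hx : AlgebraicIndependent k x)
    [Algebra.IsIntegral (Algebra.adjoin k (Set.range x)) R] (r : R) :
    (Phi k x y).toRingHom.IsIntegralElem (r ⊗ₜ[k] (1 : S)) := by
  have h1 : (algebraMap (Algebra.adjoin k (Set.range x)) R).IsIntegralElem r :=
    Algebra.IsIntegral.isIntegral (R := Algebra.adjoin k (Set.range x)) r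
  have h2 := h1.map (Algebra.TensorProduct.includeLeft : R →ₐ[k] R ⊗[k] S).toRingHom
  let φ : Algebra.adjoin k (Set.range x) →+* PXY k a b :=
    ((rename Sum.inl : MvPolynomial (Fin (a + 1)) k →ₐ[k] PXY k a b).comp
      hx.aevalEquiv.symm.toAlgHom).toRingHom
  have h3 : (Algebra.TensorProduct.includeLeft : R →ₐ[k] R ⊗[k] S).toRingHom.comp
      (algebraMap (Algebra.adjoin k (Set.range x)) R) = (Phi k x y).toRingHom.comp φ := by
    ext w
    obtain ⟨p, rfl⟩ := hx.aevalEquiv.surjective w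
    show (algebraMap (Algebra.adjoin k (Set.range x)) R (hx.aevalEquiv p)) ⊗ₜ[k] (1 : S)
      = Phi k x y (rename Sum.inl (hx.aevalEquiv.symm (hx.aevalEquiv p)))
    rw [AlgEquiv.symm_apply_apply, Phi_rename_inl, hx.algebraMap_aevalEquiv]
  rw [h3] at h2
  exact h2.of_comp

theorem isIntegralElem_right (hy : AlgebraicIndependent k y)
    [Algebra.IsIntegral (Algebra.adjoin k (Set.range y)) S] (s : S) :
    (Phi k x y).toRingHom.IsIntegralElem ((1 : R) ⊗ₜ[k] s) := by
  have h1 : (algebraMap (Algebra.adjoin k (Set.range y)) S).IsIntegralElem s :=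
    Algebra.IsIntegral.isIntegral (R := Algebra.adjoin k (Set.range y)) s
  have h2 := h1.map (Algebra.TensorProduct.includeRight : S →ₐ[k] R ⊗[k] S).toRingHom
  let φ : Algebra.adjoin k (Set.range y) →+* PXY k a b :=
    ((rename Sum.inr : MvPolynomial (Fin (b + 1)) k →ₐ[k] PXY k a b).comp
      hy.aevalEquiv.symm.toAlgHom).toRingHom
  have h3 : (Algebra.TensorProduct.includeRight : S →ₐ[k] R ⊗[k] S).toRingHom.comp
      (algebraMap (Algebra.adjoin k (Set.range y)) S) = (Phi k x y).toRingHom.comp φ := by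
    ext w
    obtain ⟨p, rfl⟩ := hy.aevalEquiv.surjective w
    show (1 : R) ⊗ₜ[k] (algebraMap (Algebra.adjoin k (Set.range y)) S (hy.aevalEquiv p))
      = Phi k x y (rename Sum.inr (hy.aevalEquiv.symm (hy.aevalEquiv p)))
    rw [AlgEquiv.symm_apply_apply, Phi_rename_inr, hy.algebraMap_aevalEquiv]
  rw [h3] at h2
  exact h2.of_comp

theorem isIntegralElem_Phi (hx : AlgebraicIndependent k x) (hy : AlgebraicIndependent k y)
    [Algebra.IsIntegral (Algebra.adjoin k (Set.range x)) R]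
    [Algebra.IsIntegral (Algebra.adjoin k (Set.range y)) S] (z : R ⊗[k] S) :
    (Phi k x y).toRingHom.IsIntegralElem z := by
  induction z using TensorProduct.induction_on with
  | zero => exact (Phi k x y).toRingHom.isIntegralElem_zero
  | tmul r s =>
    have h : r ⊗ₜ[k] s = (r ⊗ₜ[k] (1 : S)) * ((1 : R) ⊗ₜ[k] s) := by
      rw [Algebra.TensorProduct.tmul_mul_tmul, mul_one, one_mul]
    rw [h]
    exact (isIntegralElem_left k x y hx r).mul _ (isIntegralElem_right k x y hy s)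
  | add z w hz hw => exact RingHom.IsIntegralElem.add _ hz hw

end Phi


section Monomials

variable (k) (a b : ℕ)

theorem monomial_delta (i₀ : Fin (a + 1)) (j₀ : Fin (b + 1)) :
    monomial (Finsupp.single (Sum.inl i₀) 1 + Finsupp.single (Sum.inr j₀) 1) (1 : k) = gen k a b (i₀, j₀) := by
  unfold gen
  rw [X, X, monomial_mul, one_mul]

/-- monomials of charge zero lie in `E` -/
theorem monomial_mem_E : ∀ (N : ℕ) (m : (Fin (a + 1) ⊕ Fin (b + 1)) →₀ ℕ),
    (∑ i, m (Sum.inl i)) = N → (∑ j, m (Sum.inr j)) = N → monomial m (1 : k) ∈ E k a b := by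
  intro N
  induction N with
  | zero =>
    intro m h1 h2
    have h1' := (Finset.sum_eq_zero_iff.1 h1)
    have h2' := (Finset.sum_eq_zero_iff.1 h2)
    have hm : m = 0 := by
      ext v
      rcases v with i | j
      · exact h1' i (Finset.mem_univ _)
      · exact h2' j (Finset.mem_univ _)
    rw [hm]
    exact one_mem _
  | succ N ih =>
    intro m h1 h2
    obtain ⟨i₀, -, hi₀⟩ := Finset.exists_ne_zero_of_sum_ne_zero (by rw [h1]; exact Nat.succ_ne_zero N)
    obtain ⟨j₀, -, hj₀⟩ := Finset.exists_ne_zero_of_sum_ne_zero (by rw [h2]; exact Nat.succ_ne_zero N)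
    set δ : (Fin (a + 1) ⊕ Fin (b + 1)) →₀ ℕ :=
      Finsupp.single (Sum.inl i₀) 1 + Finsupp.single (Sum.inr j₀) 1 with hδ
    have hδl : ∀ i, δ (Sum.inl i) = if i₀ = i then 1 else 0 := by
      intro i
      simp [hδ, Finsupp.single_apply]
    have hδr : ∀ j, δ (Sum.inr j) = if j₀ = j then 1 else 0 := by
      intro j
      simp [hδ, Finsupp.single_apply]
    have hle : δ ≤ m := by
      intro v
      rcases v with i | j
      · rw [hδl]
        split_ifs with h
        · subst h; omega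
        · exact Nat.zero_le _
      · rw [hδr]
        split_ifs with h
        · subst h; omega
        · exact Nat.zero_le _
    have hm : m - δ + δ = m := tsub_add_cancel_of_le hle
    have hs1 : (∑ i, (m - δ) (Sum.inl i)) = N := by
      have : (∑ i, m (Sum.inl i)) = (∑ i, (m - δ) (Sum.inl i)) + ∑ i, δ (Sum.inl i) := by
        rw [← Finset.sum_add_distrib]
        refine Finset.sum_congr rfl fun i _ => ?_
        conv_lhs => rw [← hm]
        rfl
      rw [h1] at this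
      simp only [hδl, Finset.sum_ite_eq, Finset.mem_univ, if_true] at this
      omega
    have hs2 : (∑ j, (m - δ) (Sum.inr j)) = N := by
      have : (∑ j, m (Sum.inr j)) = (∑ j, (m - δ) (Sum.inr j)) + ∑ j, δ (Sum.inr j) := by
        rw [← Finset.sum_add_distrib]
        refine Finset.sum_congr rfl fun j _ => ?_
        conv_lhs => rw [← hm]
        rfl
      rw [h2] at this
      simp only [hδr, Finset.sum_ite_eq, Finset.mem_univ, if_true] at this
      omega
    have hmono : monomial m (1 : k) = monomial (m - δ) 1 * monomial δ 1 := by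
      rw [monomial_mul, one_mul, hm]
    rw [hmono, hδ, monomial_delta]
    exact mul_mem (ih (m - δ) hs1 hs2) (gen_mem k a b (i₀, j₀))

end Monomials


section Diag

open Groth.Agent.Helper9.Segre

variable (𝒜 : ℤ → Submodule k R) [GradedAlgebra 𝒜] (ℬ : ℤ → Submodule k S) [GradedAlgebra ℬ]
variable {a b : ℕ} (x : Fin (a + 1) → R) (y : Fin (b + 1) → S)

theorem Phi_monomial (m : (Fin (a + 1) ⊕ Fin (b + 1)) →₀ ℕ) (c : k) :
    Phi k x y (monomial m c) =
      c • ((∏ i, x i ^ m (Sum.inl i)) ⊗ₜ[k] (∏ j, y j ^ m (Sum.inr j))) := by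
  unfold Phi
  rw [aeval_monomial, Finsupp.prod_fintype _ _ (fun _ => pow_zero _), Fintype.prod_sum_type,
    ← Algebra.smul_def]
  congr 1
  have h1 : ∏ i, zeta k x y (Sum.inl i) ^ m (Sum.inl i)
      = (∏ i, x i ^ m (Sum.inl i)) ⊗ₜ[k] (1 : S) := by
    have : ∀ i, zeta k x y (Sum.inl i) ^ m (Sum.inl i)
        = (Algebra.TensorProduct.includeLeft : R →ₐ[k] R ⊗[k] S) (x i ^ m (Sum.inl i)) := by
      intro i
      simp [zeta, Algebra.TensorProduct.tmul_pow]
    rw [Finset.prod_congr rfl fun i _ => this i, ← map_prod]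
    rfl
  have h2 : ∏ j, zeta k x y (Sum.inr j) ^ m (Sum.inr j)
      = (1 : R) ⊗ₜ[k] (∏ j, y j ^ m (Sum.inr j)) := by
    have : ∀ j, zeta k x y (Sum.inr j) ^ m (Sum.inr j)
        = (Algebra.TensorProduct.includeRight : S →ₐ[k] R ⊗[k] S) (y j ^ m (Sum.inr j)) := by
      intro j
      simp [zeta, Algebra.TensorProduct.tmul_pow]
    rw [Finset.prod_congr rfl fun j _ => this j, ← map_prod]
    rfl
  rw [h1, h2, Algebra.TensorProduct.tmul_mul_tmul, mul_one, one_mul]

theorem prod_pow_mem {A : Type u} [CommRing A] [Algebra k A] (𝒞 : ℤ → Submodule k A) [GradedAlgebra 𝒞]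
    {n : ℕ} (z : Fin n → A) (e : ℕ) (hz : ∀ i, z i ∈ 𝒞 (e : ℤ)) (ν : Fin n → ℕ) :
    ∏ i, z i ^ ν i ∈ 𝒞 ((e : ℤ) * ((∑ i, ν i : ℕ) : ℤ)) := by
  have h := SetLike.prod_pow_mem_graded 𝒞 (fun _ : Fin n => (e : ℤ)) z ν (F := Finset.univ) (fun i _ => hz i)
  have h2 : (∑ i : Fin n, ν i • (e : ℤ)) = (e : ℤ) * ((∑ i, ν i : ℕ) : ℤ) := by
    push_cast
    rw [Finset.mul_sum]
    refine Finset.sum_congr rfl fun i _ => ?_
    rw [nsmul_eq_mul, mul_comm]
  rwa [h2] at h

/-- the diagonal projection of an element of the image of `Phi` lies in the image of `E` -/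
theorem exists_E_diagProj (e : ℕ) (he : 0 < e) (hx : ∀ i, x i ∈ 𝒜 (e : ℤ)) (hy : ∀ j, y j ∈ ℬ (e : ℤ))
    (q : PXY k a b) : ∃ w ∈ E k a b, Phi k x y w = diagProj 𝒜 ℬ (Phi k x y q) := by
  induction q using MvPolynomial.induction_on' with
  | monomial m c =>
    have hA := prod_pow_mem 𝒜 x e hx (fun i => m (Sum.inl i))
    have hB := prod_pow_mem ℬ y e hy (fun j => m (Sum.inr j))
    by_cases hN : (∑ i, m (Sum.inl i)) = ∑ j, m (Sum.inr j)
    · refine ⟨monomial m c, ?_, ?_⟩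
      · have : monomial m c = c • monomial m (1 : k) := by
          rw [smul_monomial, smul_eq_mul, mul_one]
        rw [this]
        exact Subalgebra.smul_mem _ (monomial_mem_E k a b _ m rfl hN.symm) c
      · rw [Phi_monomial, map_smul, diagProj_homog 𝒜 ℬ hA hB, if_pos (by rw [hN])]
    · refine ⟨0, zero_mem _, ?_⟩
      rw [Phi_monomial, map_smul, diagProj_homog 𝒜 ℬ hA hB, if_neg, smul_zero, map_zero]
      intro h
      apply hN
      have he' : (e : ℤ) ≠ 0 := by exact_mod_cast he.ne'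
      exact_mod_cast mul_left_cancel₀ he' h
  | add p q hp hq =>
    obtain ⟨w₁, hw₁, h₁⟩ := hp
    obtain ⟨w₂, hw₂, h₂⟩ := hq
    exact ⟨w₁ + w₂, add_mem hw₁ hw₂, by rw [map_add, map_add, map_add, h₁, h₂]⟩

end Diag


section Main

open Groth.Agent.Helper9.Segre

variable (𝒜 : ℤ → Submodule k R) [GradedAlgebra 𝒜] (ℬ : ℤ → Submodule k S) [GradedAlgebra ℬ]
variable {a b : ℕ} (x : Fin (a + 1) → R) (y : Fin (b + 1) → S)
variable {T : Type u} [CommRing T] [Algebra k T] (𝒯 : ℤ → Submodule k T) [GradedAlgebra 𝒯]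
  (ψ : T →ₐ[k] R ⊗[k] S) (hψ : Function.Injective ψ)
  (hdegT : ∀ n : ℤ, (𝒯 n).map ψ.toLinearMap =
    Submodule.span k {z : R ⊗[k] S | ∃ a ∈ 𝒜 n, ∃ b ∈ ℬ n, z = a ⊗ₜ[k] b})
  (e : ℕ) (hx : ∀ i, x i ∈ 𝒜 (e : ℤ)) (hy : ∀ j, y j ∈ ℬ (e : ℤ))

include hdegT hx hy in
theorem Phi_mem_range (w : PXY k a b) (hw : w ∈ E k a b) : Phi k x y w ∈ ψ.range := by
  have h : E k a b ≤ ψ.range.comap (Phi k x y) := by
    apply Algebra.adjoin_le
    rintro _ ⟨⟨i, j⟩, rfl⟩
    show Phi k x y (gen k a b (i, j)) ∈ ψ.range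
    have h1 : Phi k x y (gen k a b (i, j)) = x i ⊗ₜ[k] y j := by
      simp [Phi, gen, zeta]
    rw [h1]
    have h2 : x i ⊗ₜ[k] y j ∈ LinearMap.range ψ.toLinearMap := by
      rw [range_eq 𝒜 ℬ 𝒯 ψ hdegT]
      exact Submodule.subset_span ⟨(e : ℤ), x i, y j, hx i, hy j, rfl⟩
    obtain ⟨t, ht⟩ := h2
    exact ⟨t, ht⟩
  exact h hw

/-- the map `E → T` induced by `Phi` -/
noncomputable def theta : E k a b →ₐ[k] T :=
  (AlgEquiv.ofInjective ψ hψ).symm.toAlgHom.comp
    (((Phi k x y).comp (E k a b).val).codRestrict ψ.range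
      (fun w => Phi_mem_range 𝒜 ℬ x y 𝒯 ψ hdegT e hx hy w.1 w.2))

theorem psi_theta (w : E k a b) :
    ψ (theta 𝒜 ℬ x y 𝒯 ψ hψ hdegT e hx hy w) = Phi k x y (w : PXY k a b) := by
  unfold theta
  set z : ψ.range := (((Phi k x y).comp (E k a b).val).codRestrict ψ.range
      (fun w => Phi_mem_range 𝒜 ℬ x y 𝒯 ψ hdegT e hx hy w.1 w.2)) w with hz
  have h1 : (AlgEquiv.ofInjective ψ hψ) ((AlgEquiv.ofInjective ψ hψ).symm z) = z :=
    AlgEquiv.apply_symm_apply _ _
  have h2 := congrArg Subtype.val h1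
  rw [AlgEquiv.ofInjective_apply] at h2
  exact h2

theorem theta_injective (hxa : AlgebraicIndependent k x) (hya : AlgebraicIndependent k y) :
    Function.Injective (theta 𝒜 ℬ x y 𝒯 ψ hψ hdegT e hx hy) := by
  intro w w' h
  have h1 := congrArg ψ h
  rw [psi_theta, psi_theta] at h1
  exact Subtype.ext (Phi_injective k x y hxa hya h1)

include hdegT in
theorem psi_mem_span (t : T) : ψ t ∈ Submodule.span k (diagSet 𝒜 ℬ) := by
  rw [← range_eq 𝒜 ℬ 𝒯 ψ hdegT]
  exact ⟨t, rfl⟩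

theorem isIntegralElem_theta (he : 0 < e) (hxa : AlgebraicIndependent k x) (hya : AlgebraicIndependent k y)
    [Algebra.IsIntegral (Algebra.adjoin k (Set.range x)) R]
    [Algebra.IsIntegral (Algebra.adjoin k (Set.range y)) S] (t : T) :
    (theta 𝒜 ℬ x y 𝒯 ψ hψ hdegT e hx hy).toRingHom.IsIntegralElem t := by
  classical
  obtain ⟨p, hp, hpz⟩ := isIntegralElem_Phi k x y hxa hya (ψ t)
  set n := p.natDegree with hn
  choose w hwE hw using fun i : Fin n => exists_E_diagProj 𝒜 ℬ x y e he hx hy (p.coeff i)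
  let q : Polynomial (E k a b) :=
    Polynomial.X ^ n + ∑ i : Fin n, Polynomial.C (⟨w i, hwE i⟩ : E k a b) * Polynomial.X ^ (i : ℕ)
  have hq : q.Monic := Polynomial.monic_X_pow_add (Polynomial.degree_sum_fin_lt _)
  refine ⟨q, hq, ?_⟩
  apply hψ
  rw [map_zero]
  have h1 : ψ (Polynomial.eval₂ (theta 𝒜 ℬ x y 𝒯 ψ hψ hdegT e hx hy).toRingHom t q)
      = (ψ t) ^ n + ∑ i : Fin n, diagProj 𝒜 ℬ (Phi k x y (p.coeff i)) * (ψ t) ^ (i : ℕ) := by
    simp only [q, Polynomial.eval₂_add, Polynomial.eval₂_pow, Polynomial.eval₂_X,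
      Polynomial.eval₂_finsetSum, Polynomial.eval₂_mul, Polynomial.eval₂_C, map_add, map_pow,
      map_sum, map_mul]
    congr 1
    refine Finset.sum_congr rfl fun i _ => ?_
    rw [← hw i]
    congr 1
    exact psi_theta 𝒜 ℬ x y 𝒯 ψ hψ hdegT e hx hy ⟨w i, hwE i⟩
  rw [h1]
  have h2 : (ψ t) ^ n + ∑ i : Fin n, Phi k x y (p.coeff i) * (ψ t) ^ (i : ℕ) = 0 := by
    have h3 := congrArg (Polynomial.eval₂ (Phi k x y).toRingHom (ψ t)) hp.as_sum
    rw [hpz] at h3
    simp only [Polynomial.eval₂_add, Polynomial.eval₂_pow, Polynomial.eval₂_X,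
      Polynomial.eval₂_finsetSum, Polynomial.eval₂_mul, Polynomial.eval₂_C] at h3
    rw [Finset.sum_range] at h3
    exact h3.symm
  have h4 := congrArg (diagProj 𝒜 ℬ) h2
  rw [map_zero, map_add, map_sum] at h4
  have h5 : diagProj 𝒜 ℬ ((ψ t) ^ n) = (ψ t) ^ n := by
    rw [← map_pow]
    exact diagProj_fix 𝒜 ℬ _ (psi_mem_span 𝒜 ℬ 𝒯 ψ hdegT _)
  have h6 : ∀ i : Fin n, diagProj 𝒜 ℬ (Phi k x y (p.coeff i) * (ψ t) ^ (i : ℕ))
      = diagProj 𝒜 ℬ (Phi k x y (p.coeff i)) * (ψ t) ^ (i : ℕ) := by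
    intro i
    rw [mul_comm, ← map_pow, diagProj_mul 𝒜 ℬ _ (psi_mem_span 𝒜 ℬ 𝒯 ψ hdegT _), mul_comm]
  rw [h5, Finset.sum_congr rfl fun i _ => h6 i] at h4
  exact h4

include hψ hdegT hx hy in
/-- **The dimension of the Segre product**, given parameter systems of equal degree. -/
theorem dim_T (he : 0 < e) (hxa : AlgebraicIndependent k x) (hya : AlgebraicIndependent k y)
    [Algebra.IsIntegral (Algebra.adjoin k (Set.range x)) R]
    [Algebra.IsIntegral (Algebra.adjoin k (Set.range y)) S] :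
    ringKrullDim T = ((a + b + 1 : ℕ) : WithBot ℕ∞) := by
  let _ : Algebra (E k a b) T := (theta 𝒜 ℬ x y 𝒯 ψ hψ hdegT e hx hy).toRingHom.toAlgebra
  have hint : Algebra.IsIntegral (E k a b) T :=
    ⟨fun t => isIntegralElem_theta 𝒜 ℬ x y 𝒯 ψ hψ hdegT e hx hy he hxa hya t⟩
  have hinj : Function.Injective (algebraMap (E k a b) T) :=
    theta_injective 𝒜 ℬ x y 𝒯 ψ hψ hdegT e hx hy hxa hya
  rw [Groth.Agent.Helper5.IntegralDim.ringKrullDim_eq_of_isIntegral_of_injective hinj,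
    ringKrullDim_E]

end Main

end Groth.Agent.Helper7.SegDim
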