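import Mathlib
import Groth.Agent.Helper7.SegDim4
import Groth.Agent.Helper9.SegreMod

/-!
# The dimension of a Segre product of modules (helper7)
-/

set_option autoImplicit false
universe u

namespace Groth.Agent.Helper7.SegMod

open MvPolynomial TensorProduct Groth.Agent.Helper7.SegDim Groth.Agent.Helper9.Segre
  Groth.Agent.Helper9.SegreMod

variable {k R S : Type u} [Field k] [CommRing R] [Algebra k R] [CommRing S] [Algebra k S]
  (𝒜 : ℤ → Submodule k R) [GradedAlgebra 𝒜] (ℬ : ℤ → Submodule k S) [GradedAlgebra ℬ]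
  {M : Type u} [AddCommGroup M] [Module R M] [Module k M] [IsScalarTower k R M]
  (ℳ : ℤ → AddSubgroup M) [DirectSum.Decomposition ℳ] [SetLike.GradedSMul 𝒜 ℳ]
  {N : Type u} [AddCommGroup N] [Module S N] [Module k N] [IsScalarTower k S N]
  (𝒩 : ℤ → AddSubgroup N) [DirectSum.Decomposition 𝒩] [SetLike.GradedSMul ℬ 𝒩]

/-- the diagonal part of `M ⊗ N` -/
def diagM : Submodule k (M ⊗[k] N) := Submodule.span k
  {v : M ⊗[k] N | ∃ (n : ℤ) (x : M) (y : N), x ∈ ℳ n ∧ y ∈ 𝒩 n ∧ v = x ⊗ₜ[k] y}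

theorem D_fix (v : M ⊗[k] N) (hv : v ∈ diagM ℳ 𝒩) : D 𝒜 ℬ ℳ 𝒩 v = v := by
  unfold diagM at hv
  induction hv using Submodule.span_induction with
  | mem v hv =>
    obtain ⟨n, x, y, hx, hy, rfl⟩ := hv
    rw [D_homog 𝒜 ℬ ℳ 𝒩 hx hy, if_pos rfl]
  | zero => rw [map_zero]
  | add v w _ _ hv hw => rw [map_add, hv, hw]
  | smul c v _ hv => rw [map_smul, hv]

theorem D_act (τ : R ⊗[k] S) (v : M ⊗[k] N) (hv : v ∈ diagM ℳ 𝒩) :
    D 𝒜 ℬ ℳ 𝒩 (GrSeg.act k R S M N τ v) = GrSeg.act k R S M N (diagProj 𝒜 ℬ τ) v := by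
  have hτ : τ ∈ Submodule.span k {x : R ⊗[k] S | ∃ (i j : ℤ) (a : R) (b : S),
      a ∈ 𝒜 i ∧ b ∈ ℬ j ∧ x = a ⊗ₜ b} := by
    rw [Groth.Agent.Helper9.Segre.span_homog]; trivial
  induction hτ using Submodule.span_induction with
  | mem τ hτ =>
    obtain ⟨i, j, a, b, ha, hb, rfl⟩ := hτ
    unfold diagM at hv
    induction hv using Submodule.span_induction with
    | mem v hv =>
      obtain ⟨n, x, y, hx, hy, rfl⟩ := hv
      have hax : a • x ∈ ℳ (i + n) := SetLike.GradedSMul.smul_mem ha hx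
      have hby : b • y ∈ 𝒩 (j + n) := SetLike.GradedSMul.smul_mem hb hy
      rw [GrSeg.act_tmul, D_homog 𝒜 ℬ ℳ 𝒩 hax hby, diagProj_homog 𝒜 ℬ ha hb]
      by_cases h : i = j
      · subst h
        rw [if_pos rfl, if_pos rfl, GrSeg.act_tmul]
      · have : ¬ (i + n = j + n) := fun h' => h (add_right_cancel h')
        rw [if_neg h, if_neg this, map_zero, LinearMap.zero_apply]
    | zero => simp
    | add v w _ _ hv hw => simp only [map_add, hv, hw]
    | smul c v _ hv => simp only [map_smul, hv]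
  | zero => simp
  | add τ σ _ _ h1 h2 => simp only [map_add, LinearMap.add_apply, h1, h2]
  | smul c τ _ h1 => simp only [map_smul, LinearMap.smul_apply, h1]


section Faithful

variable {a b : ℕ} (x : Fin (a + 1) → R) (y : Fin (b + 1) → S)

/-- `f ↦ f(x) • m₀` as a `k`-linear map -/
noncomputable def evalSmul {d : ℕ} (x : Fin d → R) (m₀ : M) : MvPolynomial (Fin d) k →ₗ[k] M where
  toFun f := (aeval x f : R) • m₀
  map_add' f g := by rw [map_add, add_smul]
  map_smul' c f := by rw [map_smul, RingHom.id_apply, smul_assoc]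

theorem act_Phi_tensorEquivSum (m₀ : M) (n₀ : N) (f : MvPolynomial (Fin (a + 1)) k)
    (g : MvPolynomial (Fin (b + 1)) k) :
    GrSeg.act k R S M N (Phi k x y (tensorEquivSum k (Fin (a + 1)) (Fin (b + 1)) k (f ⊗ₜ[k] g)))
      (m₀ ⊗ₜ[k] n₀) = (evalSmul x m₀ f) ⊗ₜ[k] (evalSmul y n₀ g) := by
  have h := DFunLike.congr_fun (Phi_comp_tensorEquivSum k x y) (f ⊗ₜ[k] g)
  rw [AlgHom.comp_apply] at h
  have h' : Phi k x y (tensorEquivSum k (Fin (a + 1)) (Fin (b + 1)) k (f ⊗ₜ[k] g))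
      = (aeval x f : R) ⊗ₜ[k] (aeval y g : S) := by
    rw [← Algebra.TensorProduct.map_tmul]
    exact h
  rw [h', GrSeg.act_tmul]
  rfl

/-- `E` acts faithfully on `m₀ ⊗ n₀` when `m₀` and `n₀` are torsion-free -/
theorem act_Phi_injective (m₀ : M) (n₀ : N)
    (hm₀ : Function.Injective (evalSmul (k := k) x m₀))
    (hn₀ : Function.Injective (evalSmul (k := k) y n₀)) (w : PXY k a b)
    (hw : GrSeg.act k R S M N (Phi k x y w) (m₀ ⊗ₜ[k] n₀) = 0) : w = 0 := by
  have h1 : Function.Injective (TensorProduct.map (evalSmul (k := k) x m₀) (evalSmul (k := k) y n₀)) :=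
    TensorProduct.map_injective_of_flat_flat _ _ hm₀ hn₀
  set u := (tensorEquivSum k (Fin (a + 1)) (Fin (b + 1)) k).symm w with hu
  have hwu : w = tensorEquivSum k (Fin (a + 1)) (Fin (b + 1)) k u := by
    rw [hu, AlgEquiv.apply_symm_apply]
  have h2 : ∀ u : MvPolynomial (Fin (a + 1)) k ⊗[k] MvPolynomial (Fin (b + 1)) k,
      GrSeg.act k R S M N (Phi k x y (tensorEquivSum k (Fin (a + 1)) (Fin (b + 1)) k u)) (m₀ ⊗ₜ[k] n₀)
        = TensorProduct.map (evalSmul (k := k) x m₀) (evalSmul (k := k) y n₀) u := by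
    intro u
    induction u using TensorProduct.induction_on with
    | zero => simp
    | tmul f g => rw [act_Phi_tensorEquivSum, TensorProduct.map_tmul]
    | add u v hu hv => simp only [map_add, LinearMap.add_apply, hu, hv]
  rw [hwu, h2 u] at hw
  have h3 : u = 0 := h1 (by rw [hw, map_zero])
  rw [hwu, h3, map_zero]

end Faithful


section CayleyHamilton

attribute [local instance] Groth.Agent.Helper9.SegreMod.tensorModule

variable {a b : ℕ} (x : Fin (a + 1) → R) (y : Fin (b + 1) → S)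

/-- the inclusion `k[x] ⊗ k[y] → R ⊗ S` -/
noncomputable def iota : (Algebra.adjoin k (Set.range x)) ⊗[k] (Algebra.adjoin k (Set.range y)) →ₐ[k] R ⊗[k] S :=
  Algebra.TensorProduct.map (Algebra.adjoin k (Set.range x)).val (Algebra.adjoin k (Set.range y)).val

theorem act_iota (c : (Algebra.adjoin k (Set.range x)) ⊗[k] (Algebra.adjoin k (Set.range y)))
    (v : M ⊗[k] N) :
    c • v = GrSeg.act k R S M N (iota x y c) v := by
  rw [Groth.Agent.Helper9.SegreMod.smul_def]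
  induction c using TensorProduct.induction_on with
  | zero => simp
  | add c c' h1 h2 => simp only [map_add, LinearMap.add_apply, h1, h2]
  | tmul a' a'' =>
    induction v using TensorProduct.induction_on with
    | zero => simp
    | add v w hv hw => simp only [map_add, hv, hw]
    | tmul m n =>
      rw [GrSeg.act_tmul]
      show _ = GrSeg.act k R S M N ((a' : R) ⊗ₜ[k] (a'' : S)) (m ⊗ₜ[k] n)
      rw [GrSeg.act_tmul]
      rfl

theorem iota_mem_range_Phi (c : (Algebra.adjoin k (Set.range x)) ⊗[k] (Algebra.adjoin k (Set.range y))) :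
    ∃ q : PXY k a b, Phi k x y q = iota x y c := by
  induction c using TensorProduct.induction_on with
  | zero => exact ⟨0, by simp⟩
  | add c c' h1 h2 =>
    obtain ⟨q, hq⟩ := h1
    obtain ⟨q', hq'⟩ := h2
    exact ⟨q + q', by rw [map_add, map_add, hq, hq']⟩
  | tmul a' a'' =>
    have h1 : (a' : R) ∈ (aeval x : MvPolynomial (Fin (a + 1)) k →ₐ[k] R).range := by
      rw [← Algebra.adjoin_range_eq_range_aeval]; exact a'.2
    have h2 : (a'' : S) ∈ (aeval y : MvPolynomial (Fin (b + 1)) k →ₐ[k] S).range := by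
      rw [← Algebra.adjoin_range_eq_range_aeval]; exact a''.2
    obtain ⟨f, hf⟩ := h1
    obtain ⟨g, hg⟩ := h2
    refine ⟨tensorEquivSum k (Fin (a + 1)) (Fin (b + 1)) k (f ⊗ₜ[k] g), ?_⟩
    have h := DFunLike.congr_fun (Phi_comp_tensorEquivSum k x y) (f ⊗ₜ[k] g)
    rw [AlgHom.comp_apply] at h
    have h3 : Phi k x y (tensorEquivSum k (Fin (a + 1)) (Fin (b + 1)) k (f ⊗ₜ[k] g))
        = (aeval x f : R) ⊗ₜ[k] (aeval y g : S) := by
      rw [← Algebra.TensorProduct.map_tmul]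
      exact h
    rw [h3]
    show _ = (a' : R) ⊗ₜ[k] (a'' : S)
    rw [← hf, ← hg]
    rfl

/-- Cayley–Hamilton for the action of `z ∈ R ⊗ S` on the finite `k[x] ⊗ k[y]`-module `M ⊗ N` -/
theorem exists_monic_act_eq_zero [Module.Finite (Algebra.adjoin k (Set.range x)) M]
    [Module.Finite (Algebra.adjoin k (Set.range y)) N] (z : R ⊗[k] S) :
    ∃ p : Polynomial ((Algebra.adjoin k (Set.range x)) ⊗[k] (Algebra.adjoin k (Set.range y))),
      p.Monic ∧ ∀ v : M ⊗[k] N,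
        GrSeg.act k R S M N (Polynomial.eval₂ (iota x y).toRingHom z p) v = 0 := by
  have hfin : Module.Finite ((Algebra.adjoin k (Set.range x)) ⊗[k] (Algebra.adjoin k (Set.range y)))
      (M ⊗[k] N) := Groth.Agent.Helper9.SegreMod.finite_tensor
  let fC : Module.End ((Algebra.adjoin k (Set.range x)) ⊗[k] (Algebra.adjoin k (Set.range y))) (M ⊗[k] N) :=
    { toFun := fun v => GrSeg.act k R S M N z v
      map_add' := fun v w => map_add _ v w
      map_smul' := fun c v => by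
        rw [RingHom.id_apply, act_iota, act_iota, ← act_mul, ← act_mul, mul_comm] }
  obtain ⟨p, hp, hp0⟩ := LinearMap.exists_monic_and_aeval_eq_zero _ fC
  refine ⟨p, hp, fun v => ?_⟩
  have h1 := LinearMap.congr_fun hp0 v
  rw [Polynomial.aeval_endomorphism, LinearMap.zero_apply] at h1
  have hpow : ∀ (n : ℕ) (v : M ⊗[k] N), (fC ^ n) v = GrSeg.act k R S M N (z ^ n) v := by
    intro n
    induction n with
    | zero => intro v; rw [pow_zero, pow_zero]; exact (act_one v).symm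
    | succ n ih =>
      intro v
      rw [pow_succ, Module.End.mul_apply, ih, pow_succ, act_mul]
      rfl
  rw [Polynomial.eval₂_eq_sum, Polynomial.sum, map_sum, LinearMap.sum_apply]
  rw [Polynomial.sum] at h1
  rw [← h1]
  refine Finset.sum_congr rfl fun n _ => ?_
  rw [hpow, act_iota, ← act_mul]
  rfl

end CayleyHamilton


section Main

variable {a b : ℕ} (x : Fin (a + 1) → R) (y : Fin (b + 1) → S)
variable {T : Type u} [CommRing T] [Algebra k T] (𝒯 : ℤ → Submodule k T) [GradedAlgebra 𝒯]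
  (ψ : T →ₐ[k] R ⊗[k] S) (hψ : Function.Injective ψ)
  (hdegT : ∀ n : ℤ, (𝒯 n).map ψ.toLinearMap =
    Submodule.span k {z : R ⊗[k] S | ∃ a ∈ 𝒜 n, ∃ b ∈ ℬ n, z = a ⊗ₜ[k] b})
  (e : ℕ) (hx : ∀ i, x i ∈ 𝒜 (e : ℤ)) (hy : ∀ j, y j ∈ ℬ (e : ℤ))
  {P : Type u} [AddCommGroup P] [Module T P] [Module k P] [IsScalarTower k T P]
  (𝒬 : ℤ → AddSubgroup P) [DirectSum.Decomposition 𝒬] (φ : P →ₗ[k] M ⊗[k] N)
  (hP : GrSeg.IsSegreMod ψ ℳ 𝒩 𝒬 φ)

omit [DirectSum.Decomposition ℳ] [DirectSum.Decomposition 𝒩] [IsScalarTower k T P] in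
include hP in
theorem phi_mem_diagM (p : P) : φ p ∈ diagM ℳ 𝒩 := by
  classical
  rw [← DirectSum.sum_support_decompose 𝒬 p, map_sum]
  refine Submodule.sum_mem _ fun n _ => ?_
  have h1 : φ ((DirectSum.decompose 𝒬 p n : P)) ∈ φ '' ((𝒬 n : AddSubgroup P) : Set P) :=
    ⟨_, (DirectSum.decompose 𝒬 p n).2, rfl⟩
  rw [hP.image_piece n] at h1
  refine Submodule.span_mono ?_ h1
  rintro v ⟨x, hx, y, hy, rfl⟩
  exact ⟨n, x, y, hx, hy, rfl⟩

omit [IsScalarTower k T P] in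
include hP in
/-- every `t : T` acts on `P` integrally over `E` -/
theorem exists_monic_smul_eq_zero (he : 0 < e)
    [Module.Finite (Algebra.adjoin k (Set.range x)) M]
    [Module.Finite (Algebra.adjoin k (Set.range y)) N] (t : T) :
    ∃ q : Polynomial (E k a b), q.Monic ∧ ∀ p : P,
      (Polynomial.eval₂ (theta 𝒜 ℬ x y 𝒯 ψ hψ hdegT e hx hy).toRingHom t q) • p = 0 := by
  classical
  obtain ⟨p, hp, hpz⟩ := exists_monic_act_eq_zero (M := M) (N := N) x y (ψ t)
  set n := p.natDegree with hn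
  have hex : ∀ i : Fin n, ∃ w ∈ E k a b, Phi k x y w = diagProj 𝒜 ℬ (iota x y (p.coeff i)) := by
    intro i
    obtain ⟨q, hq⟩ := iota_mem_range_Phi x y (p.coeff i)
    rw [← hq]
    exact exists_E_diagProj 𝒜 ℬ x y e he hx hy q
  choose w hwE hw using hex
  let q : Polynomial (E k a b) :=
    Polynomial.X ^ n + ∑ i : Fin n, Polynomial.C (⟨w i, hwE i⟩ : E k a b) * Polynomial.X ^ (i : ℕ)
  have hq : q.Monic := Polynomial.monic_X_pow_add (Polynomial.degree_sum_fin_lt _)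
  refine ⟨q, hq, fun p₀ => ?_⟩
  apply hP.injective
  rw [map_zero, hP.map_smul]
  have h1 : ψ (Polynomial.eval₂ (theta 𝒜 ℬ x y 𝒯 ψ hψ hdegT e hx hy).toRingHom t q)
      = (ψ t) ^ n + ∑ i : Fin n, diagProj 𝒜 ℬ (iota x y (p.coeff i)) * (ψ t) ^ (i : ℕ) := by
    simp only [q, Polynomial.eval₂_add, Polynomial.eval₂_pow, Polynomial.eval₂_X,
      Polynomial.eval₂_finsetSum, Polynomial.eval₂_mul, Polynomial.eval₂_C, map_add, map_pow,
      map_sum, map_mul]
    congr 1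
    refine Finset.sum_congr rfl fun i _ => ?_
    rw [← hw i]
    congr 1
    exact psi_theta 𝒜 ℬ x y 𝒯 ψ hψ hdegT e hx hy ⟨w i, hwE i⟩
  rw [h1]
  have h2 : Polynomial.eval₂ (iota x y).toRingHom (ψ t) p
      = (ψ t) ^ n + ∑ i : Fin n, iota x y (p.coeff i) * (ψ t) ^ (i : ℕ) := by
    conv_lhs => rw [hp.as_sum]
    simp only [Polynomial.eval₂_add, Polynomial.eval₂_pow, Polynomial.eval₂_X,
      Polynomial.eval₂_finsetSum, Polynomial.eval₂_mul, Polynomial.eval₂_C]
    rw [Finset.sum_range]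
    rfl
  have h3 := hpz (φ p₀)
  rw [h2] at h3
  have h4 := congrArg (D 𝒜 ℬ ℳ 𝒩) h3
  rw [map_zero, D_act 𝒜 ℬ ℳ 𝒩 _ _ (phi_mem_diagM ℳ 𝒩 ψ 𝒬 φ hP p₀), map_add, map_sum] at h4
  have h5 : diagProj 𝒜 ℬ ((ψ t) ^ n) = (ψ t) ^ n := by
    rw [← map_pow]
    exact diagProj_fix 𝒜 ℬ _ (psi_mem_span 𝒜 ℬ 𝒯 ψ hdegT _)
  have h6 : ∀ i : Fin n, diagProj 𝒜 ℬ (iota x y (p.coeff i) * (ψ t) ^ (i : ℕ))
      = diagProj 𝒜 ℬ (iota x y (p.coeff i)) * (ψ t) ^ (i : ℕ) := by
    intro i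
    rw [mul_comm, ← map_pow, diagProj_mul 𝒜 ℬ _ (psi_mem_span 𝒜 ℬ 𝒯 ψ hdegT _), mul_comm]
  rw [h5, Finset.sum_congr rfl fun i _ => h6 i] at h4
  exact h4

omit [IsScalarTower k T P] in
include hP hψ hdegT hx hy in
/-- **The dimension of a Segre product of modules**, given parameter systems of equal degree and
torsion-free homogeneous elements of a common degree. -/
theorem supportDim_P (he : 0 < e)
    [Module.Finite (Algebra.adjoin k (Set.range x)) M]
    [Module.Finite (Algebra.adjoin k (Set.range y)) N] [Module.Finite T P]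
    (t₀ : ℤ) (m₀ : M) (hm₀ : m₀ ∈ ℳ t₀) (n₀ : N) (hn₀ : n₀ ∈ 𝒩 t₀)
    (hm₀i : Function.Injective (evalSmul (k := k) x m₀))
    (hn₀i : Function.Injective (evalSmul (k := k) y n₀)) :
    Module.supportDim T P = ((a + b + 1 : ℕ) : WithBot ℕ∞) := by
  rw [Module.supportDim_eq_ringKrullDim_quotient_annihilator]
  set I := Module.annihilator T P with hI
  let ρ : E k a b →+* T ⧸ I :=
    (Ideal.Quotient.mk I).comp (theta 𝒜 ℬ x y 𝒯 ψ hψ hdegT e hx hy).toRingHom
  let _ : Algebra (E k a b) (T ⧸ I) := ρ.toAlgebra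
  have hint : Algebra.IsIntegral (E k a b) (T ⧸ I) := ⟨by
    intro z
    obtain ⟨t, rfl⟩ := Ideal.Quotient.mk_surjective z
    obtain ⟨q, hq, hq0⟩ := exists_monic_smul_eq_zero 𝒜 ℬ ℳ 𝒩 x y 𝒯 ψ hψ hdegT e hx hy 𝒬 φ hP he t
    refine ⟨q, hq, ?_⟩
    have h1 : Polynomial.eval₂ (algebraMap (E k a b) (T ⧸ I)) (Ideal.Quotient.mk I t) q
        = Ideal.Quotient.mk I
          (Polynomial.eval₂ (theta 𝒜 ℬ x y 𝒯 ψ hψ hdegT e hx hy).toRingHom t q) := by
      rw [Polynomial.hom_eval₂]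
      rfl
    rw [h1]
    exact Ideal.Quotient.eq_zero_iff_mem.2 (Module.mem_annihilator.2 hq0)⟩
  have hinj : Function.Injective (algebraMap (E k a b) (T ⧸ I)) := by
    rw [injective_iff_map_eq_zero]
    intro w hw
    have h1 : theta 𝒜 ℬ x y 𝒯 ψ hψ hdegT e hx hy w ∈ I := Ideal.Quotient.eq_zero_iff_mem.1 hw
    have h2 : m₀ ⊗ₜ[k] n₀ ∈ φ '' ((𝒬 t₀ : AddSubgroup P) : Set P) := by
      rw [hP.image_piece t₀]
      exact Submodule.subset_span ⟨m₀, hm₀, n₀, hn₀, rfl⟩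
    obtain ⟨p₀, -, hp₀⟩ := h2
    have h3 := Module.mem_annihilator.1 h1 p₀
    have h4 := congrArg φ h3
    rw [hP.map_smul, psi_theta, hp₀, map_zero] at h4
    exact Subtype.ext (act_Phi_injective x y m₀ n₀ hm₀i hn₀i w h4)
  rw [Groth.Agent.Helper5.IntegralDim.ringKrullDim_eq_of_isIntegral_of_injective hinj,
    ringKrullDim_E]

end Main

end Groth.Agent.Helper7.SegMod
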