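import Mathlib
import Groth.Agent.Helper7.SegModA
import Groth.Agent.Helper7.SegModB
import Groth.Agent.Helper9.SegreNu

/-!
# Torsion-free homogeneous elements in every residue class (helper7)
-/

set_option autoImplicit false
universe u

namespace Groth.Agent.Helper7.SegMod

open MvPolynomial DirectSum

variable {k R : Type u} [Field k] [CommRing R] [Algebra k R] (𝒜 : ℤ → Submodule k R) [GradedAlgebra 𝒜]
  {M : Type u} [AddCommGroup M] [Module R M] [Module k M] [IsScalarTower k R M]
  (ℳ : ℤ → AddSubgroup M) [DirectSum.Decomposition ℳ] [SetLike.GradedSMul 𝒜 ℳ]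
  {d : ℕ} (x : Fin d → R)

theorem evalSmul_apply (m : M) (f : MvPolynomial (Fin d) k) :
    evalSmul (k := k) x m f = (aeval x f : R) • m := rfl

theorem injective_evalSmul_iff (m : M) :
    Function.Injective (evalSmul (k := k) x m) ↔
      ∀ f : MvPolynomial (Fin d) k, (aeval x f : R) • m = 0 → f = 0 := by
  rw [injective_iff_map_eq_zero]
  rfl

include ℳ in
/-- a faithful finite graded module has a torsion-free homogeneous element -/
theorem exists_torsionFree_homog [Module.Finite (Algebra.adjoin k (Set.range x)) M]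
    (hfaith : ∀ f : MvPolynomial (Fin d) k, (∀ m : M, (aeval x f : R) • m = 0) → f = 0) :
    ∃ (t₀ : ℤ) (m₀ : M), m₀ ∈ ℳ t₀ ∧ Function.Injective (evalSmul (k := k) x m₀) := by
  classical
  set A' := Algebra.adjoin k (Set.range x) with hA'
  let HM : Set M := {g | ∃ t : ℤ, g ∈ ℳ t}
  have hHM : Submodule.span A' HM = ⊤ := by
    rw [eq_top_iff]
    rintro m -
    rw [← DirectSum.sum_support_decompose ℳ m]
    exact Submodule.sum_mem _ fun n _ => Submodule.subset_span ⟨n, SetLike.coe_mem _⟩
  have hfgM : (Submodule.span A' HM).FG := by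
    rw [hHM]; exact Module.Finite.fg_top
  obtain ⟨G₀, hG₀H, hG₀⟩ := (Submodule.fg_span_iff_fg_span_finset_subset HM).1 hfgM
  rw [hHM] at hG₀
  by_contra hcon
  push Not at hcon
  have h1 : ∀ g ∈ G₀, ∃ f : MvPolynomial (Fin d) k, f ≠ 0 ∧ (aeval x f : R) • g = 0 := by
    intro g hg
    obtain ⟨t, ht⟩ := hG₀H hg
    have := hcon t g ht
    rw [injective_evalSmul_iff] at this
    push Not at this
    obtain ⟨f, hf, hf0⟩ := this
    exact ⟨f, hf0, hf⟩
  choose! f hf0 hf using h1
  set F : MvPolynomial (Fin d) k := ∏ g ∈ G₀, f g with hF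
  have hFne : F ≠ 0 := Finset.prod_ne_zero_iff.2 hf0
  apply hFne
  apply hfaith
  intro m
  have hm : m ∈ Submodule.span A' (G₀ : Set M) := by rw [← hG₀]; trivial
  induction hm using Submodule.span_induction with
  | mem g hg =>
    rw [hF, ← Finset.prod_erase_mul _ _ hg, map_mul, mul_smul, hf g hg, smul_zero]
  | zero => rw [smul_zero]
  | add u v _ _ hu hv => rw [smul_add, hu, hv, add_zero]
  | smul a' u _ hu =>
    have : (aeval x F : R) • (a' • u) = a' • ((aeval x F : R) • u) := by
      rw [Subalgebra.smul_def, Subalgebra.smul_def, smul_comm]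
    rw [this, hu, smul_zero]

/-- multiplying by a power of a parameter preserves torsion-freeness -/
theorem injective_evalSmul_pow_smul (i : Fin d) (j : ℕ) (m : M)
    (hm : Function.Injective (evalSmul (k := k) x m)) :
    Function.Injective (evalSmul (k := k) x (x i ^ j • m)) := by
  rw [injective_evalSmul_iff] at hm ⊢
  intro f hf
  have h1 : (aeval x (f * X i ^ j) : R) • m = 0 := by
    rw [map_mul, map_pow, aeval_X, mul_smul]
    exact hf
  have h2 := hm _ h1
  rcases mul_eq_zero.1 h2 with h | h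
  · exact h
  · exact absurd h (pow_ne_zero j (X_ne_zero i))


/-- over a standard graded ring, torsion-free elements exist in every residue class of degrees -/
theorem exists_torsionFree_shift
    (hstd : Ideal.span (⋃ n ∈ Set.Ioi (0 : ℤ), (𝒜 n : Set R)) = Ideal.span ((𝒜 1 : Submodule k R) : Set R))
    (e : ℕ) (hx : ∀ i, x i ∈ 𝒜 (e : ℤ)) (i₀ : Fin d) (m₀ : M)
    (hm₀ : Function.Injective (evalSmul (k := k) x m₀)) (c : ℕ) (hc : c ≤ e) :
    ∃ u ∈ 𝒜 (c : ℤ), Function.Injective (evalSmul (k := k) x (u • m₀)) := by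
  by_contra hcon
  push Not at hcon
  have h1 : ∀ u ∈ 𝒜 (c : ℤ), ∃ f : MvPolynomial (Fin d) k, f ≠ 0 ∧ (aeval x f : R) • (u • m₀) = 0 := by
    intro u hu
    have := hcon u hu
    rw [injective_evalSmul_iff] at this
    push Not at this
    obtain ⟨f, hf, hf0⟩ := this
    exact ⟨f, hf0, hf⟩
  have h2 : x i₀ ∈ Submodule.span k (Groth.Agent.Helper9.SegreNu.prodSet 𝒜 (c : ℤ) ((e - c : ℕ) : ℤ)) := by
    apply Groth.Agent.Helper9.SegreNu.add_le 𝒜 hstd (c : ℤ) (by positivity) (e - c)
    have : (c : ℤ) + ((e - c : ℕ) : ℤ) = (e : ℤ) := by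
      push_cast [Nat.cast_sub hc]
      ring
    rw [this]
    exact hx i₀
  have h3 : ∀ z ∈ Submodule.span k (Groth.Agent.Helper9.SegreNu.prodSet 𝒜 (c : ℤ) ((e - c : ℕ) : ℤ)),
      ∃ F : MvPolynomial (Fin d) k, F ≠ 0 ∧ (aeval x F : R) • (z • m₀) = 0 := by
    intro z hz
    induction hz using Submodule.span_induction with
    | mem z hz =>
      obtain ⟨u, hu, u', -, rfl⟩ := hz
      obtain ⟨f, hf0, hf⟩ := h1 u hu
      refine ⟨f, hf0, ?_⟩
      rw [mul_comm u u', mul_smul, smul_comm, hf, smul_zero]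
    | zero => exact ⟨1, one_ne_zero, by rw [zero_smul, smul_zero]⟩
    | add z z' _ _ hz hz' =>
      obtain ⟨F, hF0, hF⟩ := hz
      obtain ⟨F', hF'0, hF'⟩ := hz'
      refine ⟨F * F', mul_ne_zero hF0 hF'0, ?_⟩
      have e1 : (aeval x (F * F') : R) • (z • m₀) = 0 := by
        rw [map_mul, mul_comm, mul_smul, hF, smul_zero]
      have e2 : (aeval x (F * F') : R) • (z' • m₀) = 0 := by
        rw [map_mul, mul_smul, hF', smul_zero]
      rw [add_smul, smul_add, e1, e2, add_zero]
    | smul a z _ hz =>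
      obtain ⟨F, hF0, hF⟩ := hz
      refine ⟨F, hF0, ?_⟩
      rw [smul_assoc, smul_comm, hF, smul_zero]
  obtain ⟨F, hF0, hF⟩ := h3 _ h2
  rw [injective_evalSmul_iff] at hm₀
  have h4 : (aeval x (F * X i₀) : R) • m₀ = 0 := by
    rw [map_mul, aeval_X, mul_smul]
    exact hF
  exact mul_ne_zero hF0 (X_ne_zero i₀) (hm₀ _ h4)


section

variable (hpos : ∀ n : ℤ, n < 0 → 𝒜 n = ⊥) (h0 : 𝒜 0 = Submodule.span k {(1 : R)})

include hpos h0 ℳ in
/-- a finitely generated graded module of support dimension `0` is Artinian -/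
theorem isArtinian_of_supportDim_zero [Algebra.FiniteType k R] [Module.Finite R M]
    (hd : Module.supportDim R M = ((0 : ℕ) : WithBot ℕ∞)) : IsArtinian R M := by
  obtain ⟨e₀, he₀, H⟩ := exists_param_module 𝒜 ℳ hpos h0 0 hd
  obtain ⟨x, -, hfin, -⟩ := H e₀ he₀ dvd_rfl
  have hbot : Algebra.adjoin k (Set.range x) = ⊥ := by
    have : Set.range x = ∅ := Set.range_eq_empty _
    rw [this, Algebra.adjoin_empty]
  have h1 : Module.Finite k (Algebra.adjoin k (Set.range x)) := by
    rw [hbot]
    exact Subalgebra.finite_bot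
  have h2 : Module.Finite k M := Module.Finite.trans (Algebra.adjoin k (Set.range x)) M
  have h3 : IsArtinian k M := inferInstance
  exact isArtinian_of_tower k h3

end

end Groth.Agent.Helper7.SegMod
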