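import Mathlib
import Groth.Agent.Helper7.SegModC
import Groth.Agent.Helper2.Isch
import Groth.Agent.Helper2.DepthCM
import Groth.Agent.Helper5.RSD1
import Groth.Agent.Helper5.FtDim4

/-!
# Cohen–Macaulay graded modules are torsion-free over a parameter ring (helper7)
-/

set_option autoImplicit false
universe u

namespace Groth.Agent.Helper7.SegMod

open MvPolynomial DirectSum Groth.Agent.Helper7.SegDim

section Homog

variable {k R : Type u} [Field k] [CommRing R] [Algebra k R] (𝒜 : ℤ → Submodule k R) [GradedAlgebra 𝒜]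
  {M : Type u} [AddCommGroup M] [Module R M]
  (ℳ : ℤ → AddSubgroup M) [DirectSum.Decomposition ℳ] [SetLike.GradedSMul 𝒜 ℳ]

/-- the annihilator of a homogeneous element is a homogeneous ideal -/
theorem colon_isHomogeneous {t : ℤ} {m : M} (hm : m ∈ ℳ t) :
    ((⊥ : Submodule R M).colon {m}).IsHomogeneous 𝒜 := by
  intro i r hr
  rw [Submodule.mem_colon_singleton, Submodule.mem_bot] at hr ⊢
  have h := decompose_smul_homog 𝒜 ℳ r hm (i + t)
  rw [add_sub_cancel_right, hr, decompose_zero] at h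
  exact h.symm

include ℳ in
/-- the annihilator of a graded module is a homogeneous ideal -/
theorem annihilator_isHomogeneous : (Module.annihilator R M).IsHomogeneous 𝒜 := by
  intro i r hr
  rw [Module.mem_annihilator] at hr ⊢
  intro m
  induction m using DirectSum.Decomposition.inductionOn ℳ with
  | zero => rw [smul_zero]
  | @homogeneous t m =>
    have := colon_isHomogeneous 𝒜 ℳ m.2 i
      ((Submodule.mem_colon_singleton).2 ((Submodule.mem_bot R).2 (hr m)))
    exact (Submodule.mem_bot R).1 ((Submodule.mem_colon_singleton).1 this)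
  | add m m' h h' => rw [smul_add, h, h', add_zero]

end Homog

section Height

variable {k R : Type u} [Field k] [CommRing R] [Algebra k R] (𝒜 : ℤ → Submodule k R) [GradedAlgebra 𝒜]
  (hpos : ∀ n : ℤ, n < 0 → 𝒜 n = ⊥) (h0 : 𝒜 0 = Submodule.span k {(1 : R)}) [Algebra.FiniteType k R]

include hpos h0 in
/-- a homogeneous prime `Q` of coheight `≥ n` admits a chain of primes of length `n` above `Q`
ending at the irrelevant ideal -/
theorem exists_series_irr [Nontrivial R] (Q : PrimeSpectrum R) (hQ : Q.asIdeal.IsHomogeneous 𝒜)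
    (n : ℕ) (hn : (n : ℕ∞) ≤ Order.coheight Q) :
    ∃ l : LTSeries (PrimeSpectrum R), l.length = n ∧ (∀ i, Q ≤ l i) ∧
      l.last.asIdeal = irr 𝒜 := by
  have hmax : (irr 𝒜).IsMaximal := irr_isMaximal 𝒜 hpos h0
  have hQle : Q.asIdeal ≤ irr 𝒜 := le_irr 𝒜 hpos h0 hQ Q.2.ne_top
  set π := Ideal.Quotient.mk Q.asIdeal with hπ
  have hπs : Function.Surjective π := Ideal.Quotient.mk_surjective
  have hcm : Ideal.comap π (Ideal.map π (irr 𝒜)) = irr 𝒜 := by
    rw [Ideal.comap_map_of_surjective π hπs, ← RingHom.ker_eq_comap_bot, Ideal.mk_ker]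
    exact sup_eq_left.2 hQle
  have hmax' : (Ideal.map π (irr 𝒜)).IsMaximal := by
    rcases Ideal.map_eq_top_or_isMaximal_of_surjective π hπs hmax with h | h
    · exfalso
      rw [h, Ideal.comap_top] at hcm
      exact hmax.ne_top hcm.symm
    · exact h
  have h1 := Groth.Agent.Helper5.FtDim.height_of_isMaximal k (R ⧸ Q.asIdeal) (Ideal.map π (irr 𝒜))
  rw [Groth.Agent.Helper5.FtDim.ringKrullDim_quotient_eq_coheight Q] at h1
  have h2 : (Ideal.map π (irr 𝒜)).height = Order.coheight Q := by exact_mod_cast h1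
  have h3 := PrimeSpectrum.height_eq_orderHeight (⟨Ideal.map π (irr 𝒜), hmax'.isPrime⟩ :
    PrimeSpectrum (R ⧸ Q.asIdeal))
  change (Ideal.map π (irr 𝒜)).height = _ at h3
  rw [h2] at h3
  obtain ⟨p, hplast, hplen⟩ := Order.exists_series_of_le_height
    (⟨Ideal.map π (irr 𝒜), hmax'.isPrime⟩ : PrimeSpectrum (R ⧸ Q.asIdeal)) (n := n) (by rw [← h3]; exact hn)
  have hinj : Function.Injective (PrimeSpectrum.comap π) :=
    PrimeSpectrum.comap_injective_of_surjective π hπs
  have hmono : Monotone (PrimeSpectrum.comap π) := fun a b hab => by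
    rw [← PrimeSpectrum.asIdeal_le_asIdeal] at hab ⊢
    exact Ideal.comap_mono hab
  refine ⟨p.map (PrimeSpectrum.comap π) (hmono.strictMono_of_injective hinj), hplen, ?_, ?_⟩
  · intro i
    change Q ≤ PrimeSpectrum.comap π (p i)
    rw [← PrimeSpectrum.asIdeal_le_asIdeal]
    change Q.asIdeal ≤ Ideal.comap π (p i).asIdeal
    intro a ha
    rw [Ideal.mem_comap, hπ, Ideal.Quotient.eq_zero_iff_mem.2 ha]
    exact zero_mem _
  · rw [LTSeries.last_map, hplast]
    exact hcm


variable {M : Type u} [AddCommGroup M] [Module R M] [Module.Finite R M]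
  (ℳ : ℤ → AddSubgroup M) [DirectSum.Decomposition ℳ] [SetLike.GradedSMul 𝒜 ℳ]

omit [Algebra.FiniteType k R] in
include hpos h0 ℳ in
theorem irr_mem_support [Nontrivial M] (hI : (irr 𝒜).IsPrime) :
    (⟨irr 𝒜, hI⟩ : PrimeSpectrum R) ∈ Module.support R M := by
  rw [Module.mem_support_iff_of_finite]
  refine le_irr 𝒜 hpos h0 (annihilator_isHomogeneous 𝒜 ℳ) ?_
  rw [Ne, Module.annihilator_eq_top_iff]
  exact not_subsingleton M

include hpos h0 ℳ in
/-- the irrelevant ideal has height `dim M` in the support of a graded module `M` -/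
theorem le_height_support_irr (hI : (irr 𝒜).IsPrime) (r : ℕ) (hr : Module.supportDim R M = r)
    (hm : (⟨irr 𝒜, hI⟩ : PrimeSpectrum R) ∈ Module.support R M) :
    (r : ℕ∞) ≤ Order.height (⟨⟨irr 𝒜, hI⟩, hm⟩ : Module.support R M) := by
  have hnt : Nontrivial R := by
    by_contra h
    rw [not_nontrivial_iff_subsingleton] at h
    exact hI.ne_top (Subsingleton.elim _ _)
  obtain ⟨l, hl⟩ := Order.le_krullDim_iff.1 (show ((r : ℕ) : WithBot ℕ∞) ≤ Order.krullDim (Module.support R M) from
    le_of_eq hr.symm)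
  have hann : Module.annihilator R M ≤ l.head.1.asIdeal := Module.mem_support_iff_of_finite.1 l.head.2
  obtain ⟨Q, hQmin, hQle⟩ := Ideal.exists_minimalPrimes_le hann
  have hQp : Q.IsPrime := hQmin.1.1
  have hQh : Q.IsHomogeneous 𝒜 :=
    isHomogeneous_of_mem_minimalPrimes 𝒜 (annihilator_isHomogeneous 𝒜 ℳ) hQmin
  have hco : (r : ℕ∞) ≤ Order.coheight (⟨Q, hQp⟩ : PrimeSpectrum R) := by
    have h1 := Order.length_le_coheight (x := (⟨Q, hQp⟩ : PrimeSpectrum R))
      (p := l.map Subtype.val (fun a b hab => hab)) (by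
        rw [LTSeries.head_map, ← PrimeSpectrum.asIdeal_le_asIdeal]
        exact hQle)
    rw [LTSeries.map_length, hl] at h1
    exact h1
  obtain ⟨c, hclen, hcge, hclast⟩ := exists_series_irr 𝒜 hpos h0 ⟨Q, hQp⟩ hQh r hco
  have hmem : ∀ i, c i ∈ Module.support R M := by
    intro i
    rw [Module.mem_support_iff_of_finite]
    exact hQmin.1.2.trans ((PrimeSpectrum.asIdeal_le_asIdeal _ _).2 (hcge i))
  let c' : LTSeries (Module.support R M) := LTSeries.mk c.length (fun i => ⟨c i, hmem i⟩)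
    (fun i j hij => c.strictMono hij)
  have hlast : c'.last ≤ ⟨⟨irr 𝒜, hI⟩, hm⟩ := by
    change c.last ≤ ⟨irr 𝒜, hI⟩
    rw [← PrimeSpectrum.asIdeal_le_asIdeal, hclast]
  have := Order.length_le_height hlast
  rw [← hclen]
  exact this


include hpos h0 ℳ in
/-- every associated prime of a graded module which is Cohen–Macaulay at the irrelevant ideal has
full dimension -/
theorem le_dim_quotient_of_mem_ass [Nontrivial M] [hI : (irr 𝒜).IsPrime] (r : ℕ)
    (hr : Module.supportDim R M = r)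
    (hcm : LocCoh.IsCohenMacaulayModule (Localization.AtPrime (irr 𝒜))
      (LocalizedModule (irr 𝒜).primeCompl M))
    (p : Ideal R) (hp : p ∈ associatedPrimes R M) (hple : p ≤ irr 𝒜) :
    ((r : ℕ) : WithBot ℕ∞) ≤ ringKrullDim (R ⧸ p) := by
  have hN : IsNoetherianRing R := Algebra.FiniteType.isNoetherianRing k R
  have hpp : p.IsPrime := hp.1
  have hm := irr_mem_support 𝒜 hpos h0 ℳ hI
  have h1 := Groth.Agent.Helper5.RSD.supportDim_localized_eq_height M (irr 𝒜) hm
  have h2 := le_height_support_irr 𝒜 hpos h0 ℳ hI r hr hm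
  unfold LocCoh.IsCohenMacaulayModule at hcm
  rw [hcm] at h1
  have hd : Disjoint ((irr 𝒜).primeCompl : Set R) (p : Set R) := by
    rw [Set.disjoint_left]
    intro a ha hap
    exact ha (hple hap)
  set S := Localization.AtPrime (irr 𝒜) with hS
  set p' : Ideal S := Ideal.map (algebraMap R S) p with hp'
  have hp'prime : p'.IsPrime := IsLocalization.isPrime_of_isPrime_disjoint (irr 𝒜).primeCompl S p hpp hd
  have hcomap : p'.comap (algebraMap R S) = p :=
    IsLocalization.under_map_of_isPrime_disjoint (irr 𝒜).primeCompl S hpp hd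
  have hass : p' ∈ associatedPrimes S (LocalizedModule (irr 𝒜).primeCompl M) := by
    apply Module.associatedPrimes.mem_associatedPrimes_of_comap_mem_associatedPrimes_of_isLocalizedModule
      (irr 𝒜).primeCompl (LocalizedModule.mkLinearMap (irr 𝒜).primeCompl M)
    rw [hcomap]
    exact hp
  have h3 := Groth.Agent.Helper2.DepthCM.depth_le_dim_quotient_of_mem_ass
    (LocalizedModule (irr 𝒜).primeCompl M) p' hass
  have hple' : (⟨p, hpp⟩ : PrimeSpectrum R) ≤ ⟨irr 𝒜, hI⟩ := (PrimeSpectrum.asIdeal_le_asIdeal _ _).1 hple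
  have h4 := Groth.Agent.Helper2.Isch.dim_quot_localization_le R (⟨p, hpp⟩ : PrimeSpectrum R)
    ⟨irr 𝒜, hI⟩ hple' p' hcomap
  have h5 : Order.height (⟨⟨irr 𝒜, hI⟩, hple'⟩ : Set.Ici (⟨p, hpp⟩ : PrimeSpectrum R)) ≤
      Order.coheight (⟨p, hpp⟩ : PrimeSpectrum R) := by
    apply Order.height_le
    intro s _
    have := Order.length_le_coheight (x := (⟨p, hpp⟩ : PrimeSpectrum R))
      (p := s.map Subtype.val (fun a b hab => hab)) (by rw [LTSeries.head_map]; exact s.head.2)
    simpa using this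
  have h6 := Groth.Agent.Helper5.FtDim.ringKrullDim_quotient_eq_coheight (⟨p, hpp⟩ : PrimeSpectrum R)
  change ringKrullDim (R ⧸ p) = _ at h6
  rw [h6]
  calc ((r : ℕ) : WithBot ℕ∞) ≤ ((Order.height (⟨⟨irr 𝒜, hI⟩, hm⟩ : Module.support R M) : ℕ∞) : WithBot ℕ∞) := by
        exact_mod_cast h2
    _ = ((LocCoh.depth S (LocalizedModule (irr 𝒜).primeCompl M) : ℕ∞) : WithBot ℕ∞) := h1.symm
    _ ≤ ringKrullDim (S ⧸ p') := h3
    _ ≤ _ := h4
    _ ≤ _ := by exact_mod_cast h5

end Height


section TF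

variable {k R : Type u} [Field k] [CommRing R] [Algebra k R] (𝒜 : ℤ → Submodule k R) [GradedAlgebra 𝒜]
  (hpos : ∀ n : ℤ, n < 0 → 𝒜 n = ⊥) (h0 : 𝒜 0 = Submodule.span k {(1 : R)}) [Algebra.FiniteType k R]
  {M : Type u} [AddCommGroup M] [Module R M] [Module.Finite R M]
  (ℳ : ℤ → AddSubgroup M) [DirectSum.Decomposition ℳ] [SetLike.GradedSMul 𝒜 ℳ]

omit [GradedAlgebra 𝒜] [Algebra.FiniteType k R] [Module.Finite R M] in
/-- an ideal containing `ann M` and a nonzero polynomial in the parameters has dimension `< d` -/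
theorem dim_quotient_add_one_le {d : ℕ} (x : Fin d → R)
    [Module.Finite (Algebra.adjoin k (Set.range x)) M] (J : Ideal R)
    (hJ : Module.annihilator R M ≤ J) (f : MvPolynomial (Fin d) k) (hf0 : f ≠ 0)
    (hfJ : (aeval x f : R) ∈ J) :
    ringKrullDim (R ⧸ J) + 1 ≤ (d : WithBot ℕ∞) := by
  set I := Module.annihilator R M with hI
  set g : MvPolynomial (Fin d) k →+* R ⧸ J :=
    (Ideal.Quotient.factor hJ).comp ((Ideal.Quotient.mk I).comp
      (MvPolynomial.aeval x : MvPolynomial (Fin d) k →ₐ[k] R).toRingHom) with hg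
  have hgint : g.IsIntegral :=
    RingHom.IsIntegral.trans _ _ (isIntegral_quotient_annihilator x)
      (RingHom.isIntegral_of_surjective _ (Ideal.Quotient.factor_surjective hJ))
  have hgf : g f = 0 := by
    rw [hg, RingHom.comp_apply, RingHom.comp_apply, Ideal.Quotient.factor_mk]
    exact Ideal.Quotient.eq_zero_iff_mem.2 hfJ
  let h : MvPolynomial (Fin d) k ⧸ Ideal.span {f} →+* R ⧸ J :=
    Ideal.Quotient.lift (Ideal.span {f}) g (by
      intro a ha
      obtain ⟨c, rfl⟩ := Ideal.mem_span_singleton'.1 ha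
      rw [map_mul, hgf, mul_zero])
  have hcomp : h.comp (Ideal.Quotient.mk (Ideal.span {f})) = g := Ideal.Quotient.lift_comp_mk _ _ _
  have hhint : h.IsIntegral := by
    apply RingHom.IsIntegral.tower_top (Ideal.Quotient.mk (Ideal.span {f})) h
    rw [hcomp]
    exact hgint
  let _ : Algebra (MvPolynomial (Fin d) k ⧸ Ideal.span {f}) (R ⧸ J) := h.toAlgebra
  have : Algebra.IsIntegral (MvPolynomial (Fin d) k ⧸ Ideal.span {f}) (R ⧸ J) := ⟨hhint⟩
  have h1 : ringKrullDim (R ⧸ J) ≤ ringKrullDim (MvPolynomial (Fin d) k ⧸ Ideal.span {f}) :=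
    Groth.Agent.Helper5.IntegralDim.ringKrullDim_le_of_isIntegral
  have h2 := ringKrullDim_quotient_succ_le_of_nonZeroDivisor (mem_nonZeroDivisors_of_ne_zero hf0)
  rw [MvPolynomial.ringKrullDim_of_isNoetherianRing, ringKrullDim_eq_zero_of_field] at h2
  simp only [Nat.card_eq_fintype_card, Fintype.card_fin, zero_add] at h2
  refine le_trans ?_ h2
  gcongr

variable [Module k M] [IsScalarTower k R M]

include hpos h0 ℳ in
/-- **Cohen–Macaulay graded modules are torsion-free over a parameter ring**: every nonzero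
homogeneous element has zero annihilator in `k[x]`. -/
theorem injective_evalSmul_of_cm [hI : (irr 𝒜).IsPrime] (r : ℕ)
    (hr : Module.supportDim R M = r)
    (hcm : LocCoh.IsCohenMacaulayModule (Localization.AtPrime (irr 𝒜))
      (LocalizedModule (irr 𝒜).primeCompl M))
    (x : Fin r → R) [Module.Finite (Algebra.adjoin k (Set.range x)) M]
    {t : ℤ} {m : M} (hm : m ∈ ℳ t) (hm0 : m ≠ 0) :
    Function.Injective (evalSmul (k := k) x m) := by
  have hN : IsNoetherianRing R := Algebra.FiniteType.isNoetherianRing k R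
  have hnt : Nontrivial M := ⟨⟨m, 0, hm0⟩⟩
  rw [injective_evalSmul_iff]
  intro f hf
  by_contra hf0
  set I₀ : Ideal R := (⊥ : Submodule R M).colon {m} with hI₀
  have hI₀h : I₀.IsHomogeneous 𝒜 := colon_isHomogeneous 𝒜 ℳ hm
  have hI₀ne : I₀ ≠ ⊤ := by
    intro h
    have h1 : (1 : R) ∈ I₀ := by rw [h]; trivial
    rw [hI₀, Submodule.mem_colon_singleton, one_smul, Submodule.mem_bot] at h1
    exact hm0 h1
  obtain ⟨p, hpmin⟩ := Ideal.nonempty_minimalPrimes hI₀ne
  have hpp : p.IsPrime := hpmin.1.1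
  have hph : p.IsHomogeneous 𝒜 := isHomogeneous_of_mem_minimalPrimes 𝒜 hI₀h hpmin
  have hple : p ≤ irr 𝒜 := le_irr 𝒜 hpos h0 hph hpp.ne_top
  have hpass : p ∈ associatedPrimes R M := by
    obtain ⟨m', hm'⟩ := Submodule.exists_eq_colon_of_mem_minimalPrimes hpmin
    exact (isAssociatedPrime_iff).2 ⟨hpp, m', hm'⟩
  have h1 := le_dim_quotient_of_mem_ass 𝒜 hpos h0 ℳ r hr hcm p hpass hple
  have hfI : (aeval x f : R) ∈ I₀ := by
    rw [hI₀, Submodule.mem_colon_singleton, Submodule.mem_bot]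
    exact hf
  have hann : Module.annihilator R M ≤ p := by
    refine le_trans ?_ hpmin.1.2
    intro a ha
    rw [hI₀, Submodule.mem_colon_singleton, Submodule.mem_bot]
    exact Module.mem_annihilator.1 ha m
  have h2 := dim_quotient_add_one_le x p hann f hf0 (hpmin.1.2 hfI)
  have h3 : ((r : ℕ) : WithBot ℕ∞) + 1 ≤ (r : WithBot ℕ∞) := le_trans (by gcongr) h2
  have h4 : r + 1 ≤ r := by exact_mod_cast h3
  omega

end TF

end Groth.Agent.Helper7.SegMod
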