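import Mathlib
import Groth.Agent.Helper7.SegModE
import Groth.Agent.Helper7.CMRing

/-!
# Graded rings over a field: finite type, height of the irrelevant ideal, homogeneous regular
elements of Cohen–Macaulay graded rings (helper7)
-/

set_option autoImplicit false
universe u

namespace Groth.Agent.Helper7.SegOne

open DirectSum Groth.Agent.Helper7.SegDim Groth.Agent.Helper7.SegMod

variable {k R : Type u} [Field k] [CommRing R] [Algebra k R] (𝒜 : ℤ → Submodule k R) [GradedAlgebra 𝒜]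
  (hpos : ∀ n : ℤ, n < 0 → 𝒜 n = ⊥) (h0 : 𝒜 0 = Submodule.span k {(1 : R)})

include hpos h0 in
/-- a Noetherian nonnegatively graded ring with `R_0 = k` is a `k`-algebra of finite type -/
theorem finiteType_of_noeth [IsNoetherianRing R] : Algebra.FiniteType k R := by
  classical
  have hfg : (irr 𝒜).FG := (isNoetherianRing_iff_ideal_fg R).mp inferInstance _
  unfold irr at hfg
  obtain ⟨s, hsub, hspan⟩ := (Submodule.fg_span_iff_fg_span_finset_subset _).mp hfg
  have hdeg : ∀ t ∈ s, ∃ d : ℤ, 0 < d ∧ t ∈ 𝒜 d := fun t ht => hsub ht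
  choose! d hd using hdeg
  have key : ∀ n : ℕ, ∀ a ∈ 𝒜 (n : ℤ), a ∈ Algebra.adjoin k (s : Set R) := by
    intro n
    induction n using Nat.strong_induction_on with
    | _ n ih =>
      intro a ha
      rcases Nat.eq_zero_or_pos n with rfl | hn
      · rw [Nat.cast_zero] at ha
        obtain ⟨c, rfl⟩ := exists_smul_one 𝒜 h0 a ha
        rw [← Algebra.algebraMap_eq_smul_one]
        exact Subalgebra.algebraMap_mem _ c
      · have haM : a ∈ Ideal.span (s : Set R) := by
          show a ∈ Submodule.span R (s : Set R)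
          rw [← hspan]
          exact Submodule.subset_span ⟨n, by exact_mod_cast hn, ha⟩
        obtain ⟨f, -, hsum⟩ := Submodule.mem_span_finset.mp haM
        have h1 : a = (decompose 𝒜 a (n : ℤ) : R) := by
          rw [decompose_of_mem_same 𝒜 ha]
        rw [h1, ← hsum, decompose_sum, DFinsupp.finsetSum_apply, AddSubmonoidClass.coe_finsetSum]
        refine Subalgebra.sum_mem _ (fun t ht => ?_)
        rw [smul_eq_mul]
        have h2 : ((n : ℤ) - d t) + d t = (n : ℤ) := by ring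
        rw [← h2, coe_decompose_mul_add_of_right_mem 𝒜 (hd t ht).2]
        refine Subalgebra.mul_mem _ ?_ (Algebra.subset_adjoin ht)
        rcases lt_or_ge ((n : ℤ) - d t) 0 with hlt | hge
        · rw [decompose_neg 𝒜 hpos _ hlt]
          exact Subalgebra.zero_mem _
        · obtain ⟨m, hm⟩ := Int.eq_ofNat_of_zero_le hge
          have hmn : m < n := by
            have := (hd t ht).1
            omega
          rw [hm]
          exact ih m hmn _ (SetLike.coe_mem _)
  refine ⟨⟨s, ?_⟩⟩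
  rw [eq_top_iff]
  intro a _
  rw [← sum_support_decompose 𝒜 a]
  refine Subalgebra.sum_mem _ (fun i _ => ?_)
  rcases lt_or_ge i 0 with hlt | hge
  · rw [decompose_neg 𝒜 hpos _ hlt]
    exact Subalgebra.zero_mem _
  · obtain ⟨m, hm⟩ := Int.eq_ofNat_of_zero_le hge
    rw [hm]
    exact key m _ (SetLike.coe_mem _)

include hpos h0 in
/-- the irrelevant ideal has height `dim R` -/
theorem le_height_irr [Algebra.FiniteType k R] [Nontrivial R] (n : ℕ)
    (hn : ((n : ℕ) : WithBot ℕ∞) ≤ ringKrullDim R) : (n : ℕ∞) ≤ (irr 𝒜).height := by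
  have hmax : (irr 𝒜).IsMaximal := irr_isMaximal 𝒜 hpos h0
  have hI : (irr 𝒜).IsPrime := hmax.isPrime
  obtain ⟨l, hl⟩ := Order.le_krullDim_iff.1 hn
  obtain ⟨Q, hQmin, hQle⟩ := Ideal.exists_minimalPrimes_le (I := ⊥) (J := l.head.asIdeal) bot_le
  have hQp : Q.IsPrime := hQmin.1.1
  have hQh : Q.IsHomogeneous 𝒜 :=
    isHomogeneous_of_mem_minimalPrimes 𝒜 (Ideal.IsHomogeneous.bot 𝒜) hQmin
  have hco : (n : ℕ∞) ≤ Order.coheight (⟨Q, hQp⟩ : PrimeSpectrum R) := by
    have h1 := Order.length_le_coheight (x := (⟨Q, hQp⟩ : PrimeSpectrum R)) (p := l) (by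
      rw [← PrimeSpectrum.asIdeal_le_asIdeal]
      exact hQle)
    rw [hl] at h1
    exact h1
  obtain ⟨c, hclen, -, hclast⟩ := exists_series_irr 𝒜 hpos h0 ⟨Q, hQp⟩ hQh n hco
  have h3 := PrimeSpectrum.height_eq_orderHeight (⟨irr 𝒜, hI⟩ : PrimeSpectrum R)
  change (irr 𝒜).height = _ at h3
  rw [h3, ← hclen]
  apply Order.length_le_height
  rw [← PrimeSpectrum.asIdeal_le_asIdeal, hclast]

include hpos h0 in
/-- a Cohen–Macaulay graded ring of positive dimension has a homogeneous non-zero-divisor of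
positive degree -/
theorem exists_homog_regular [Algebra.FiniteType k R] [Nontrivial R]
    [hCM : LocCoh.IsCohenMacaulayRing R] (hdim : 1 ≤ ringKrullDim R) :
    ∃ (e : ℤ) (x : R), 0 < e ∧ x ∈ 𝒜 e ∧ IsSMulRegular R x := by
  classical
  have hN : IsNoetherianRing R := Algebra.FiniteType.isNoetherianRing k R
  have hmax : (irr 𝒜).IsMaximal := irr_isMaximal 𝒜 hpos h0
  have hne : irr 𝒜 ≠ ⊤ := hmax.ne_top
  have hd := (Groth.Agent.Helper7.CMRing.cm_iff R).1 hCM (irr 𝒜) hne
  have hht : (1 : ℕ∞) ≤ (irr 𝒜).height := by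
    have := le_height_irr 𝒜 hpos h0 1 (by exact_mod_cast hdim)
    exact_mod_cast this
  obtain ⟨rs, hreg, hmem, -, hlen⟩ :=
    Groth.Agent.Helper2.DepthCM.exists_length_eq_idealDepth (irr 𝒜) R
      (Groth.Agent.Helper7.CMRing.smul_top_ne_top (irr 𝒜) hne)
  rw [hd] at hlen
  have hpos' : 1 ≤ rs.length := by
    have : (1 : ℕ∞) ≤ (rs.length : ℕ∞) := by rw [hlen]; exact hht
    exact_mod_cast this
  obtain ⟨r₁, rs', rfl⟩ : ∃ r₁ rs', rs = r₁ :: rs' := by
    cases rs with
    | nil => simp at hpos'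
    | cons a l => exact ⟨a, l, rfl⟩
  have hr₁ : IsSMulRegular R r₁ := ((RingTheory.Sequence.isWeaklyRegular_cons_iff R r₁ rs').1 hreg).1
  have hr₁m : r₁ ∈ irr 𝒜 := hmem r₁ (List.mem_cons_self ..)
  have hfin : (associatedPrimes R R).Finite := associatedPrimes.finite R R
  let s : Finset (PrimeSpectrum R) :=
    (Finset.univ : Finset {p : Ideal R // p ∈ hfin.toFinset}).image
      (fun p => ⟨p.1, ((hfin.mem_toFinset).1 p.2).isPrime⟩)
  have hs : ∀ p ∈ s, ¬ irr 𝒜 ≤ p.asIdeal := by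
    intro p hp hle
    obtain ⟨q, -, rfl⟩ := Finset.mem_image.1 hp
    have hq : q.1 ∈ associatedPrimes R R := (hfin.mem_toFinset).1 q.2
    have h1 : r₁ ∈ ⋃ p ∈ associatedPrimes R R, (p : Set R) :=
      Set.mem_biUnion hq (hle hr₁m)
    rw [biUnion_associatedPrimes_eq_compl_regular] at h1
    exact h1 hr₁
  obtain ⟨n, x, hn, hx, hav⟩ := exists_homog_avoid 𝒜 s hs
  refine ⟨n, x, hn, hx, ?_⟩
  by_contra hcon
  have h1 : x ∈ ({r : R | IsSMulRegular R r}ᶜ : Set R) := hcon
  rw [← biUnion_associatedPrimes_eq_compl_regular] at h1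
  obtain ⟨p, hp, hxp⟩ := Set.mem_iUnion₂.1 h1
  exact hav ⟨p, hp.isPrime⟩ (Finset.mem_image.2 ⟨⟨p, (hfin.mem_toFinset).2 hp⟩, Finset.mem_univ _, rfl⟩) hxp

theorem mem_nonZeroDivisors_of_isSMulRegular {A : Type*} [CommRing A] (x : A)
    (h : IsSMulRegular A x) : x ∈ nonZeroDivisors A := by
  rw [mem_nonZeroDivisors_iff_right]
  intro y hy
  apply h
  show x * y = x * 0
  rw [mul_zero, mul_comm]
  exact hy

/-- the ideal generated by a homogeneous element is homogeneous -/
theorem span_singleton_isHomogeneous {e : ℤ} {x : R} (hx : x ∈ 𝒜 e) :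
    (Ideal.span {x}).IsHomogeneous 𝒜 :=
  Ideal.homogeneous_span 𝒜 _ (by rintro y rfl; exact ⟨e, hx⟩)

/-- modulo a homogeneous non-zero-divisor, a one-dimensional graded ring vanishes in high
degrees -/
theorem exists_bound [Algebra.FiniteType k R] {e : ℤ} {x : R} (hx : x ∈ 𝒜 e)
    (hreg : IsSMulRegular R x) (hdim : ringKrullDim R ≤ 1) :
    ∃ N : ℕ, ∀ n : ℤ, (N : ℤ) ≤ n → ∀ a ∈ 𝒜 n, a ∈ Ideal.span {x} := by
  classical
  set J : Ideal R := Ideal.span {x} with hJ
  have hJh : J.IsHomogeneous 𝒜 := span_singleton_isHomogeneous 𝒜 hx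
  have h1 := ringKrullDim_quotient_succ_le_of_nonZeroDivisor
    (mem_nonZeroDivisors_of_isSMulRegular x hreg)
  have h2 : ringKrullDim (R ⧸ J) ≤ 0 := by
    have h3 : ringKrullDim (R ⧸ J) + 1 ≤ 1 := h1.trans hdim
    generalize ringKrullDim (R ⧸ J) = d at h3 ⊢
    induction d using WithBot.recBotCoe with
    | bot => exact bot_le
    | coe d =>
      have h4 : d + 1 ≤ 1 := by exact_mod_cast h3
      induction d using ENat.recTopCoe with
      | top => simp at h4
      | coe m =>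
        have h5 : m + 1 ≤ 1 := by exact_mod_cast h4
        have h6 : m = 0 := by omega
        subst h6
        simp
  have hfin : Module.Finite k (R ⧸ J) :=
    (Module.finite_iff_krullDimLE_zero (R := k) (A := R ⧸ J)).2
      (Ring.krullDimLE_iff.2 (by exact_mod_cast h2))
  let π : R →ₗ[k] R ⧸ J := (Ideal.Quotient.mkₐ k J).toLinearMap
  let F : ℕ →o (Submodule k (R ⧸ J))ᵒᵈ :=
    { toFun := fun n => OrderDual.toDual
        (Submodule.map π (⨆ (m : ℤ) (_ : (n : ℤ) ≤ m), 𝒜 m))
      monotone' := by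
        intro n n' hnn'
        show Submodule.map π _ ≤ Submodule.map π _
        apply Submodule.map_mono
        refine iSup₂_le fun m hm => ?_
        exact le_iSup₂_of_le m (le_trans (by exact_mod_cast hnn') hm) le_rfl }
  obtain ⟨N, hN⟩ := IsArtinian.monotone_stabilizes F
  refine ⟨N, fun n hn a ha => ?_⟩
  obtain ⟨n', rfl⟩ := Int.eq_ofNat_of_zero_le (le_trans (Int.natCast_nonneg N) hn)
  have hn' : N ≤ n' := by exact_mod_cast hn
  have e1 : F n' = F (n' + 1) := by rw [← hN n' hn', ← hN (n' + 1) (by omega)]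
  have h3 : π a ∈ Submodule.map π (⨆ (m : ℤ) (_ : (n' : ℤ) ≤ m), 𝒜 m) :=
    Submodule.mem_map_of_mem (Submodule.mem_iSup_of_mem (n' : ℤ)
      (Submodule.mem_iSup_of_mem le_rfl ha))
  have h4 : π a ∈ Submodule.map π (⨆ (m : ℤ) (_ : ((n' + 1 : ℕ) : ℤ) ≤ m), 𝒜 m) := by
    have := congrArg OrderDual.ofDual e1
    change Submodule.map π _ = Submodule.map π _ at this
    rw [← this]
    exact h3
  obtain ⟨b, hb, hba⟩ := h4
  have hb0 : (decompose 𝒜 b (n' : ℤ) : R) = 0 := by
    have hle : (⨆ (m : ℤ) (_ : ((n' + 1 : ℕ) : ℤ) ≤ m), 𝒜 m) ≤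
        LinearMap.ker (GradedAlgebra.proj 𝒜 (n' : ℤ)) := by
      refine iSup₂_le fun m hm => ?_
      intro c hc
      rw [LinearMap.mem_ker, GradedAlgebra.proj_apply]
      apply decompose_of_mem_ne 𝒜 hc
      push_cast at hm
      omega
    have := hle hb
    rwa [LinearMap.mem_ker, GradedAlgebra.proj_apply] at this
  have h5 : b - a ∈ J := by
    have : π (b - a) = 0 := by rw [map_sub, hba, sub_self]
    exact Ideal.Quotient.eq_zero_iff_mem.1 this
  have h6 := hJh (n' : ℤ) h5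
  rw [decompose_sub, DFinsupp.sub_apply, AddSubgroupClass.coe_sub, hb0,
    decompose_of_mem_same 𝒜 ha, zero_sub] at h6
  exact neg_mem_iff.1 h6

end Groth.Agent.Helper7.SegOne
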