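import Mathlib
import Groth.Agent.Helper7.SegOneA
import Groth.Agent.Helper9.SegreNu

/-!
# Standard graded rings generated by one regular linear form are polynomial rings (helper7)
-/

set_option autoImplicit false
universe u

namespace Groth.Agent.Helper7.SegOne

open DirectSum Groth.Agent.Helper7.SegDim Groth.Agent.Helper7.SegMod Polynomial

variable {k R : Type u} [Field k] [CommRing R] [Algebra k R] (𝒜 : ℤ → Submodule k R) [GradedAlgebra 𝒜]
  (hpos : ∀ n : ℤ, n < 0 → 𝒜 n = ⊥) (h0 : 𝒜 0 = Submodule.span k {(1 : R)})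
  (hstd : Ideal.span (⋃ n ∈ Set.Ioi (0 : ℤ), (𝒜 n : Set R)) = Ideal.span ((𝒜 1 : Submodule k R) : Set R))

section Gen

variable {z : R} (hz1 : z ∈ 𝒜 1) (h1 : ∀ z' ∈ 𝒜 1, ∃ c : k, z' = c • z)

include hz1 in
theorem pow_mem_piece (n : ℕ) : z ^ n ∈ 𝒜 (n : ℤ) := by
  have := SetLike.pow_mem_graded n hz1
  rwa [nsmul_eq_mul, mul_one] at this

include h0 hstd h1 in
/-- every piece is spanned by the power of the generator -/
theorem piece_eq (n : ℕ) : ∀ a ∈ 𝒜 (n : ℤ), ∃ c : k, a = c • z ^ n := by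
  induction n with
  | zero =>
    intro a ha
    rw [Nat.cast_zero] at ha
    obtain ⟨c, hc⟩ := exists_smul_one 𝒜 h0 a ha
    exact ⟨c, by rw [pow_zero, hc]⟩
  | succ n ih =>
    intro a ha
    have h2 : (𝒜 ((n : ℤ) + 1)) ≤ Submodule.span k {z ^ (n + 1)} := by
      refine le_trans (Groth.Agent.Helper9.SegreNu.succ_le 𝒜 hstd (n : ℤ) (Int.natCast_nonneg n)) ?_
      rw [Submodule.span_le]
      rintro _ ⟨b, hb, z', hz', rfl⟩
      obtain ⟨c₁, rfl⟩ := ih b hb
      obtain ⟨c₂, rfl⟩ := h1 z' hz'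
      rw [SetLike.mem_coe, Submodule.mem_span_singleton]
      refine ⟨c₁ * c₂, ?_⟩
      rw [smul_mul_smul_comm, pow_succ]
    have h3 := h2 (by rwa [Nat.cast_succ] at ha)
    obtain ⟨c, hc⟩ := Submodule.mem_span_singleton.1 h3
    exact ⟨c, hc.symm⟩

include hz1 in
theorem decompose_aeval (p : k[X]) (n : ℕ) :
    (decompose 𝒜 (aeval z p) (n : ℤ) : R) = p.coeff n • z ^ n := by
  induction p using Polynomial.induction_on' with
  | add p q hp hq =>
    rw [map_add, decompose_add, DirectSum.add_apply, Submodule.coe_add, hp, hq, coeff_add, add_smul]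
  | monomial m c =>
    rw [aeval_monomial, ← Algebra.smul_def, coeff_monomial]
    have hm : c • z ^ m ∈ 𝒜 (m : ℤ) := Submodule.smul_mem _ c (pow_mem_piece 𝒜 hz1 m)
    by_cases hmn : m = n
    · subst hmn
      rw [decompose_of_mem_same 𝒜 hm, if_pos rfl]
    · rw [decompose_of_mem_ne 𝒜 hm (by exact_mod_cast hmn), if_neg hmn, zero_smul]

include hpos h0 hstd hz1 h1 in
/-- a standard graded ring generated by a regular linear form is a polynomial ring -/
theorem bijective_aeval [Nontrivial R] (hzreg : IsSMulRegular R z) :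
    Function.Bijective (aeval z : k[X] →ₐ[k] R) := by
  classical
  constructor
  · rw [injective_iff_map_eq_zero]
    intro p hp
    ext n
    have h2 := decompose_aeval 𝒜 hz1 p n
    rw [hp, decompose_zero, DirectSum.zero_apply, ZeroMemClass.coe_zero] at h2
    rw [coeff_zero]
    by_contra hne
    have h3 : z ^ n = 0 := by
      have := congrArg (fun r => (p.coeff n)⁻¹ • r) h2.symm
      simpa [smul_smul, inv_mul_cancel₀ hne] using this
    have h4 : IsSMulRegular R (z ^ n) := hzreg.pow n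
    rw [h3] at h4
    exact (IsSMulRegular.not_zero (M := R) (R := R)) h4
  · intro r
    rw [← sum_support_decompose 𝒜 r]
    have : ∀ i : ℤ, ∃ p : k[X], aeval z p = (decompose 𝒜 r i : R) := by
      intro i
      rcases lt_or_ge i 0 with hlt | hge
      · exact ⟨0, by rw [map_zero, decompose_neg 𝒜 hpos _ hlt]⟩
      · obtain ⟨m, rfl⟩ := Int.eq_ofNat_of_zero_le hge
        obtain ⟨c, hc⟩ := piece_eq 𝒜 h0 hstd h1 m _ (SetLike.coe_mem (decompose 𝒜 r (m : ℤ)))
        exact ⟨monomial m c, by rw [aeval_monomial, ← Algebra.smul_def, hc]⟩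
    choose p hp using this
    exact ⟨∑ i ∈ (decompose 𝒜 r).support, p i, by rw [map_sum]; exact Finset.sum_congr rfl fun i _ => hp i⟩

end Gen

section FromRegular

include hstd in
/-- if `R_e = k x` for a homogeneous non-zero-divisor `x` of degree `e > 0` in a standard graded
ring, then `R_1 = k z` for a non-zero-divisor `z` -/
theorem exists_gen_of_piece_le [Nontrivial R] (e : ℕ) (he : 0 < e) {x : R} (hx : x ∈ 𝒜 (e : ℤ))
    (hreg : IsSMulRegular R x) (hRe : ∀ a ∈ 𝒜 (e : ℤ), ∃ c : k, a = c • x) :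
    ∃ z ∈ 𝒜 1, IsSMulRegular R z ∧ ∀ z' ∈ 𝒜 1, ∃ c : k, z' = c • z := by
  have hx0 : x ≠ 0 := by
    rintro rfl
    exact (IsSMulRegular.not_zero (M := R) (R := R)) hreg
  obtain ⟨e', rfl⟩ : ∃ e', e = e' + 1 := ⟨e - 1, by omega⟩
  -- a nonzero product `b * z` in degree `e`
  have h2 : ∃ b ∈ 𝒜 (e' : ℤ), ∃ z ∈ 𝒜 1, b * z ≠ 0 := by
    by_contra hcon
    push Not at hcon
    have h3 : 𝒜 ((e' : ℤ) + 1) ≤ ⊥ := by
      refine le_trans (Groth.Agent.Helper9.SegreNu.succ_le 𝒜 hstd (e' : ℤ) (Int.natCast_nonneg e')) ?_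
      rw [Submodule.span_le]
      rintro _ ⟨b, hb, z', hz', rfl⟩
      exact (Submodule.mem_bot k).2 (hcon b hb z' hz')
    apply hx0
    rw [Nat.cast_succ] at hx
    exact (Submodule.mem_bot k).1 (h3 hx)
  obtain ⟨b, hb, z, hz, hbz⟩ := h2
  have hbzm : b * z ∈ 𝒜 ((e' + 1 : ℕ) : ℤ) := by
    have := SetLike.mul_mem_graded hb hz
    rwa [Nat.cast_succ]
  obtain ⟨c, hc⟩ := hRe _ hbzm
  have hc0 : c ≠ 0 := by
    rintro rfl
    rw [zero_smul] at hc
    exact hbz hc
  have hzreg : IsSMulRegular R z := by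
    have h3 : IsSMulRegular R (b * z) := by
      rw [hc]
      intro u v huv
      apply hreg
      simp only [smul_eq_mul, Algebra.smul_mul_assoc] at huv ⊢
      have := congrArg (fun r => c⁻¹ • r) huv
      simpa [smul_smul, inv_mul_cancel₀ hc0] using this
    exact IsSMulRegular.of_mul h3
  refine ⟨z, hz, hzreg, ?_⟩
  intro z' hz'
  -- `z ^ (e'+1) = c₁ x` and `z ^ e' * z' = c₂ x`
  have hzpow : z ^ (e' + 1) ∈ 𝒜 ((e' + 1 : ℕ) : ℤ) := pow_mem_piece 𝒜 hz (e' + 1)
  obtain ⟨c₁, hc₁⟩ := hRe _ hzpow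
  have hc₁0 : c₁ ≠ 0 := by
    rintro rfl
    rw [zero_smul] at hc₁
    have h4 : IsSMulRegular R (z ^ (e' + 1)) := hzreg.pow _
    rw [hc₁] at h4
    exact (IsSMulRegular.not_zero (M := R) (R := R)) h4
  have hzz' : z ^ e' * z' ∈ 𝒜 ((e' + 1 : ℕ) : ℤ) := by
    have := SetLike.mul_mem_graded (pow_mem_piece 𝒜 hz e') hz'
    rwa [Nat.cast_succ]
  obtain ⟨c₂, hc₂⟩ := hRe _ hzz'
  refine ⟨c₂ * c₁⁻¹, ?_⟩
  have h5 : IsSMulRegular R (z ^ e') := hzreg.pow _
  apply h5
  show z ^ e' * z' = z ^ e' * ((c₂ * c₁⁻¹) • z)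
  rw [hc₂, Algebra.mul_smul_comm, ← pow_succ, hc₁, smul_smul, mul_assoc, inv_mul_cancel₀ hc₁0, mul_one]

end FromRegular

section FromEquiv

include hpos in
/-- products of two elements of the irrelevant ideal have no component of degree `1` -/
theorem decompose_mul_irr_one {a b : R} (ha : a ∈ irr 𝒜) (hb : b ∈ irr 𝒜) :
    (decompose 𝒜 (a * b) 1 : R) = 0 := by
  have key : ∀ b ∈ irr 𝒜, ∀ a ∈ irr 𝒜, (decompose 𝒜 (a * b) 1 : R) = 0 := by
    intro b hb
    unfold irr at hb
    induction hb using Submodule.span_induction with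
    | mem y hy =>
      obtain ⟨n, hn, hy⟩ := hy
      intro a ha
      have h2 : (1 : ℤ) = (1 - n) + n := by ring
      rw [h2, coe_decompose_mul_add_of_right_mem 𝒜 hy]
      rcases lt_or_ge (1 - n) 0 with hlt | hge
      · rw [decompose_neg 𝒜 hpos _ hlt, zero_mul]
      · have h3 : 1 - n = 0 := by omega
        rw [h3, zero_of_mem_irr 𝒜 hpos a ha, zero_mul]
    | zero =>
      intro a _
      rw [mul_zero, decompose_zero]
      rfl
    | add b b' _ _ hb hb' =>
      intro a ha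
      rw [mul_add, decompose_add, DirectSum.add_apply, Submodule.coe_add, hb a ha, hb' a ha, add_zero]
    | smul r b _ hb =>
      intro a ha
      rw [smul_eq_mul, ← mul_assoc]
      exact hb (a * r) (Ideal.mul_mem_right _ _ ha)
  exact key b hb a ha

include hpos h0 hstd in
/-- a standard graded ring abstractly isomorphic to `k[X]`, of dimension one, is generated by a
regular linear form -/
theorem exists_gen_of_algEquiv [Nontrivial R] (e₀ : R ≃ₐ[k] k[X]) (hdim : ringKrullDim R = 1) :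
    ∃ z ∈ 𝒜 1, IsSMulRegular R z ∧ ∀ z' ∈ 𝒜 1, ∃ c : k, z' = c • z := by
  have hdom : IsDomain R := e₀.injective.isDomain e₀.toRingEquiv.toRingHom
  have hpir : IsPrincipalIdealRing R :=
    IsPrincipalIdealRing.of_surjective e₀.symm.toRingEquiv.toRingHom e₀.symm.surjective
  obtain ⟨f, hf⟩ := (IsPrincipalIdealRing.principal (irr 𝒜)).principal
  have hfirr : f ∈ irr 𝒜 := by
    rw [hf]; exact Submodule.mem_span_singleton_self f
  set z : R := (decompose 𝒜 f 1 : R) with hz
  have hz1 : z ∈ 𝒜 1 := SetLike.coe_mem _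
  have hgen : ∀ z' ∈ 𝒜 1, ∃ c : k, z' = c • z := by
    intro z' hz'
    have hz'irr : z' ∈ irr 𝒜 := Ideal.subset_span ⟨1, one_pos, hz'⟩
    rw [hf] at hz'irr
    obtain ⟨g, hg⟩ := Submodule.mem_span_singleton.1 hz'irr
    rw [smul_eq_mul] at hg
    obtain ⟨c, hc⟩ := exists_smul_one 𝒜 h0 _ (SetLike.coe_mem (decompose 𝒜 g 0))
    have hg' : g - (decompose 𝒜 g 0 : R) ∈ irr 𝒜 := by
      apply mem_irr_of_zero 𝒜 hpos
      rw [decompose_sub, DFinsupp.sub_apply, AddSubgroupClass.coe_sub,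
        decompose_of_mem_same 𝒜 (SetLike.coe_mem (decompose 𝒜 g 0)), sub_self]
    refine ⟨c, ?_⟩
    have h2 : z' = (decompose 𝒜 z' 1 : R) := by rw [decompose_of_mem_same 𝒜 hz']
    rw [h2, ← hg]
    have h3 : g * f = c • f + (g - (decompose 𝒜 g 0 : R)) * f := by
      rw [← hc]
      simp only [Algebra.smul_def, mul_one]
      ring
    rw [h3, decompose_add, DirectSum.add_apply, Submodule.coe_add,
      decompose_mul_irr_one 𝒜 hpos hg' hfirr, add_zero, decompose_smul]
    rfl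
  have hz0 : z ≠ 0 := by
    intro hz0
    have h2 : irr 𝒜 = ⊥ := by
      have h3 : irr 𝒜 = Ideal.span ((𝒜 1 : Submodule k R) : Set R) := by
        rw [← hstd]
        unfold irr
        congr 1
        ext y
        simp only [Set.mem_ofPred_eq, Set.mem_iUnion, Set.mem_Ioi, SetLike.mem_coe, exists_prop]
      rw [h3, Ideal.span_eq_bot]
      intro y hy
      obtain ⟨c, hc⟩ := hgen y hy
      rw [hc, hz0, smul_zero]
    have hmax : (irr 𝒜).IsMaximal := irr_isMaximal 𝒜 hpos h0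
    rw [h2] at hmax
    have hfld : IsField R := Ring.isField_iff_maximal_bot.2 hmax
    rw [ringKrullDim_eq_zero_of_isField hfld] at hdim
    exact zero_ne_one hdim
  refine ⟨z, hz1, ?_, hgen⟩
  exact (IsRegular.of_ne_zero hz0).left.isSMulRegular

end FromEquiv

end Groth.Agent.Helper7.SegOne
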