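import Mathlib
import Groth.Prelude

/-!
# Sections of `M~` over the complement of `V(J)`, concretely
-/

set_option autoImplicit false
set_option linter.style.haveILetI false
set_option linter.unusedSectionVars false

namespace Groth.Agent.Helper7.ZSec

open AlgebraicGeometry CategoryTheory Opposite

universe u
variable (A : Type u) [CommRing A] (M : Type u) [AddCommGroup M] [Module A M]

/-- sections of `M~` over an open subset -/
noncomputable abbrev Sec (U : (Spec (CommRingCat.of A)).Opens) := (EGA4.tildeOf A M).val.obj (op U)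

/-- the global section attached to an element of `M` -/
noncomputable def toGlob (m : M) : Sec A M ⊤ :=
  StructureSheaf.toOpenₗ (CommRingCat.of A) (ModuleCat.of (CommRingCat.of A) M) ⊤ m

theorem toGlob_bijective : Function.Bijective (toGlob A M) :=
  StructureSheaf.toOpenₗ_top_bijective (R := CommRingCat.of A)
    (M := ModuleCat.of (CommRingCat.of A) M)

theorem toGlob_apply (m : M) (x : (⊤ : (Spec (CommRingCat.of A)).Opens)) :
    (toGlob A M m).1 x = LocalizedModule.mk m 1 := rfl

variable {A M}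

theorem mem_openCompl_iff (J : Ideal A) (x : PrimeSpectrum A) :
    x ∈ EGA4.openCompl A J ↔ ¬ J ≤ x.asIdeal := by
  change x ∈ (PrimeSpectrum.zeroLocus (J : Set A))ᶜ ↔ _
  rw [Set.mem_compl_iff, PrimeSpectrum.mem_zeroLocus]
  rfl

theorem restr_apply (J : Ideal A) (s : Sec A M ⊤) (x : EGA4.openCompl A J) :
    ((EGA4.restrCompl A J M) s).1 x = s.1 ⟨x.1, trivial⟩ := rfl

theorem sec_ext {U : (Spec (CommRingCat.of A)).Opens} (s t : Sec A M U)
    (h : ∀ x, s.1 x = t.1 x) : s = t :=
  Subtype.ext (funext h)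

theorem mk_one_eq_zero_iff (x : PrimeSpectrum A) (m : M) :
    (LocalizedModule.mk m 1 : LocalizedModule x.asIdeal.primeCompl M) = 0 ↔
      ∃ s ∉ x.asIdeal, s • m = 0 := by
  have h := IsLocalizedModule.eq_zero_iff x.asIdeal.primeCompl
    (LocalizedModule.mkLinearMap x.asIdeal.primeCompl M) (m := m)
  rw [LocalizedModule.mkLinearMap_apply] at h
  rw [h]
  constructor
  · rintro ⟨s, hs⟩
    exact ⟨s.1, s.2, hs⟩
  · rintro ⟨s, hs, hsm⟩
    exact ⟨⟨s, hs⟩, hsm⟩

/-- injectivity of the restriction map, elementwise -/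
theorem injective_iff (J : Ideal A) :
    Function.Injective (EGA4.restrCompl A J M) ↔
      ∀ m : M, (∀ x : PrimeSpectrum A, ¬ J ≤ x.asIdeal → ∃ s ∉ x.asIdeal, s • m = 0) → m = 0 := by
  constructor
  · intro hinj m hm
    have h1 : EGA4.restrCompl A J M (toGlob A M m) = EGA4.restrCompl A J M (toGlob A M 0) := by
      apply sec_ext
      intro x
      rw [restr_apply, restr_apply, toGlob_apply, toGlob_apply]
      have hx : ¬ J ≤ x.1.asIdeal := (mem_openCompl_iff J x.1).1 x.2
      rw [(mk_one_eq_zero_iff x.1 m).2 (hm x.1 hx)]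
      exact (LocalizedModule.zero_mk 1).symm
    exact (toGlob_bijective A M).1 (hinj h1)
  · intro h s t hst
    obtain ⟨m, rfl⟩ := (toGlob_bijective A M).2 s
    obtain ⟨m', rfl⟩ := (toGlob_bijective A M).2 t
    have h2 : m - m' = 0 := by
      apply h
      intro x hx
      rw [← mk_one_eq_zero_iff]
      have h3 := congrArg (fun u => u.1 ⟨x, (mem_openCompl_iff J x).2 hx⟩) hst
      simp only [restr_apply, toGlob_apply] at h3
      have h4 := (LocalizedModule.mkLinearMap x.asIdeal.primeCompl M).map_sub m m'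
      simp only [LocalizedModule.mkLinearMap_apply] at h4
      rw [h4, h3, sub_self]
    rw [sub_eq_zero.1 h2]

/-- surjectivity of the restriction map, elementwise -/
theorem surjective_iff (J : Ideal A) :
    Function.Surjective (EGA4.restrCompl A J M) ↔
      ∀ s : Sec A M (EGA4.openCompl A J), ∃ m : M, ∀ x : EGA4.openCompl A J,
        s.1 x = LocalizedModule.mk m 1 := by
  constructor
  · intro hsurj s
    obtain ⟨t, rfl⟩ := hsurj s
    obtain ⟨m, rfl⟩ := (toGlob_bijective A M).2 t
    exact ⟨m, fun x => rfl⟩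
  · intro h s
    obtain ⟨m, hm⟩ := h s
    refine ⟨toGlob A M m, ?_⟩
    apply sec_ext
    intro x
    rw [restr_apply, toGlob_apply, hm x]

/-- a section is locally a fraction -/
theorem exists_fraction {U : (Spec (CommRingCat.of A)).Opens} (s : Sec A M U) (x : PrimeSpectrum A)
    (hx : x ∈ U) :
    ∃ (g : A) (hg : g ∉ x.asIdeal) (z : M) (hU : ∀ y : PrimeSpectrum A, g ∉ y.asIdeal → y ∈ U),
      ∀ (y : PrimeSpectrum A) (hy : g ∉ y.asIdeal),
        s.1 ⟨y, hU y hy⟩ = LocalizedModule.mk z ⟨g, hy⟩ := by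
  obtain ⟨g, hxg, i, z, hconst⟩ := StructureSheaf.exists_const
    (R := CommRingCat.of A) (M := ModuleCat.of (CommRingCat.of A) M) U s x hx
  refine ⟨g, hxg, z, fun y hy => i hy, ?_⟩
  intro y hy
  have h1 := congrArg (fun u => u.1 ⟨y, hy⟩) hconst
  simp only at h1
  exact h1.symm

/-- an element whose germs vanish on `D(f)` is killed by a power of `f` -/
theorem exists_pow_smul_eq_zero (f : A) (z : M)
    (h : ∀ y : PrimeSpectrum A, f ∉ y.asIdeal → ∃ s ∉ y.asIdeal, s • z = 0) :
    ∃ N : ℕ, f ^ N • z = 0 := by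
  set I : Ideal A := (⊥ : Submodule A M).colon {z} with hI
  have hmem : ∀ r : A, r ∈ I ↔ r • z = 0 := by
    intro r
    rw [hI, Submodule.mem_colon_singleton, Submodule.mem_bot]
  have hrad : f ∈ I.radical := by
    rw [Ideal.radical_eq_sInf, Submodule.mem_sInf]
    rintro P ⟨hIP, hP⟩
    by_contra hfP
    obtain ⟨s, hs, hsz⟩ := h ⟨P, hP⟩ hfP
    exact hs (hIP ((hmem s).2 hsz))
  obtain ⟨N, hN⟩ := hrad
  exact ⟨N, (hmem _).1 hN⟩

/-- construct a section from a dependent function which is locally a fraction -/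
noncomputable def mkSec {U : (Spec (CommRingCat.of A)).Opens}
    (f : ∀ x : U, LocalizedModule x.1.asIdeal.primeCompl M)
    (h : ∀ x : U, ∃ (g : A) (_ : g ∉ x.1.asIdeal) (z : M), ∀ (y : U) (hy : g ∉ y.1.asIdeal),
      f y = LocalizedModule.mk z ⟨g, hy⟩) : Sec A M U :=
  ⟨f, by
    intro x
    obtain ⟨g, hg, z, hz⟩ := h x
    refine ⟨PrimeSpectrum.basicOpen g ⊓ U, ⟨hg, x.2⟩, homOfLE inf_le_right, z, g, ?_⟩
    intro y
    exact ⟨y.2.1, hz ⟨y.1, y.2.2⟩ y.2.1⟩⟩

theorem mkSec_apply {U : (Spec (CommRingCat.of A)).Opens}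
    (f : ∀ x : U, LocalizedModule x.1.asIdeal.primeCompl M)
    (h : ∀ x : U, ∃ (g : A) (_ : g ∉ x.1.asIdeal) (z : M), ∀ (y : U) (hy : g ∉ y.1.asIdeal),
      f y = LocalizedModule.mk z ⟨g, hy⟩) (x : U) : (mkSec f h).1 x = f x := rfl

end Groth.Agent.Helper7.ZSec
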