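import Mathlib
import Groth.Prelude
import Groth.Agent.Helper7.ZSec
import Groth.Agent.Helper9.DepthS2
import Groth.Agent.Helper2.Depth

/-!
# `Z`-pure modules
-/

set_option autoImplicit false
set_option linter.style.haveILetI false
set_option linter.unusedSectionVars false

namespace Groth.Agent.Helper7.ZPure

open AlgebraicGeometry CategoryTheory Opposite Groth.Agent.Helper7.ZSec

universe u
variable {A : Type u} [CommRing A] [IsNoetherianRing A] {M : Type u} [AddCommGroup M] [Module A M]

theorem zeroLocus_subset_of_mem {Z : Set (PrimeSpectrum A)} (hZ : StableUnderSpecialization Z)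
    {p : PrimeSpectrum A} (hp : p ∈ Z) : PrimeSpectrum.zeroLocus (p.asIdeal : Set A) ⊆ Z := by
  intro q hq
  rw [PrimeSpectrum.mem_zeroLocus] at hq
  have h1 : p ≤ q := hq
  exact hZ ((PrimeSpectrum.le_iff_specializes p q).1 h1) hp

/-- elementwise form of purity -/
theorem isPureAlong_iff_elem (Z : Set (PrimeSpectrum A)) :
    EGA4.IsPureAlong Z M ↔ ∀ J : Ideal A, PrimeSpectrum.zeroLocus (J : Set A) ⊆ Z →
      ∀ m : M, (∀ x : PrimeSpectrum A, ¬ J ≤ x.asIdeal → ∃ s ∉ x.asIdeal, s • m = 0) → m = 0 := by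
  unfold EGA4.IsPureAlong
  constructor
  · intro h J hJ
    exact (injective_iff J).1 (h J hJ)
  · intro h J hJ
    exact (injective_iff J).2 (h J hJ)

theorem isPureAlong_iff_ass (Z : Set (PrimeSpectrum A)) (hZ : StableUnderSpecialization Z) :
    EGA4.IsPureAlong Z M ↔
      ∀ p : PrimeSpectrum A, p.asIdeal ∈ associatedPrimes A M → p ∉ Z := by
  rw [isPureAlong_iff_elem]
  constructor
  · intro h p hp hpZ
    rw [AssociatedPrimes.mem_iff, isAssociatedPrime_iff] at hp
    obtain ⟨hprime, y, hy⟩ := hp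
    have hy0 : y ≠ 0 := by
      rintro rfl
      have : (1 : A) ∈ p.asIdeal := by
        rw [hy, Submodule.mem_colon_singleton]; simp
      exact (Ideal.ne_top_iff_one _).mp hprime.ne_top this
    apply hy0
    apply h p.asIdeal (zeroLocus_subset_of_mem hZ hpZ)
    intro x hx
    obtain ⟨s, hs, hsx⟩ := SetLike.not_le_iff_exists.1 hx
    refine ⟨s, hsx, ?_⟩
    rw [hy, Submodule.mem_colon_singleton] at hs
    simpa using hs
  · intro h J hJ m hm
    by_contra hm0
    obtain ⟨P, hP, hle⟩ := exists_le_isAssociatedPrime_of_isNoetherianRing A m hm0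
    have hPZ : (⟨P, hP.isPrime⟩ : PrimeSpectrum A) ∉ Z := h ⟨P, hP.isPrime⟩ hP
    have hJP : ¬ J ≤ P := by
      intro hJP
      apply hPZ
      apply hJ
      rw [PrimeSpectrum.mem_zeroLocus]
      exact hJP
    obtain ⟨s, hs, hsm⟩ := hm ⟨P, hP.isPrime⟩ hJP
    apply hs
    apply hle
    rw [Submodule.mem_colon_singleton]
    simpa using hsm

/-- sub and extension -/
theorem isPureAlong_sub (Z : Set (PrimeSpectrum A)) (hZ : StableUnderSpecialization Z)
    (N : Submodule A M) (h : EGA4.IsPureAlong Z M) : EGA4.IsPureAlong Z ↥N := by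
  rw [isPureAlong_iff_ass Z hZ] at h ⊢
  intro p hp
  apply h p
  exact (AssociatedPrimes.mem_iff.1 hp).map_of_injective N.subtype N.injective_subtype

theorem isPureAlong_ext (Z : Set (PrimeSpectrum A)) (hZ : StableUnderSpecialization Z)
    (N : Submodule A M) (h1 : EGA4.IsPureAlong Z ↥N) (h2 : EGA4.IsPureAlong Z (M ⧸ N)) :
    EGA4.IsPureAlong Z M := by
  rw [isPureAlong_iff_ass Z hZ] at h1 h2 ⊢
  intro p hp
  have h3 := associatedPrimes.subset_union_of_exact N.injective_subtype
    (LinearMap.exact_subtype_mkQ N) hp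
  rcases h3 with h3 | h3
  · exact h1 p h3
  · exact h2 p h3

end Groth.Agent.Helper7.ZPure
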