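import Mathlib
import Groth.Prelude
import Groth.Agent.Helper7.ZPure

set_option autoImplicit false
set_option linter.style.haveILetI false
set_option linter.unusedSectionVars false

namespace Groth.Agent.Helper7.ZPure

open AlgebraicGeometry CategoryTheory Opposite Groth.Agent.Helper7.ZSec

universe u
variable {A : Type u} [CommRing A] [IsNoetherianRing A] {M : Type u} [AddCommGroup M] [Module A M]

theorem one_le_depth_iff [Module.Finite A M] (p : Ideal A) [p.IsPrime] :
    (1 : ℕ∞) ≤ LocCoh.depth (Localization.AtPrime p) (LocalizedModule p.primeCompl M) ↔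
      p ∉ associatedPrimes A M := by
  constructor
  · intro h hp
    rw [AssociatedPrimes.mem_iff, isAssociatedPrime_iff] at hp
    obtain ⟨hprime, y, hy⟩ := hp
    have hy' : ∀ a : A, a • y = 0 ↔ a ∈ p := by
      intro a
      rw [hy, Submodule.mem_colon_singleton, Submodule.mem_bot]
    obtain ⟨hw, hsoc⟩ := Groth.Agent.Helper9.DepthS2.loc_socle p y hy'
    exact Groth.Agent.Helper9.DepthS2.not_one_le_depth_of_socle _ hw hsoc h
  · intro hp
    by_cases hnt : Nontrivial (LocalizedModule p.primeCompl M)
    · by_contra h
      have h0 : LocCoh.depth (Localization.AtPrime p) (LocalizedModule p.primeCompl M) = 0 := by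
        by_contra h0
        exact h (Order.one_le_iff_ne_zero.2 h0)
      rw [Groth.Agent.Helper2.Depth.depth_eq_zero_iff] at h0
      have h1 := Groth.Agent.Helper2.Ass.maximalIdeal_mem_ass_of_forall_not_regular
        (Localization.AtPrime p) (LocalizedModule p.primeCompl M) h0
      have h2 := Module.associatedPrimes.comap_mem_associatedPrimes_of_mem_associatedPrimes_of_isLocalizedModule_of_fg
        p.primeCompl (LocalizedModule.mkLinearMap p.primeCompl M) _ h1
        ((isNoetherianRing_iff_ideal_fg A).mp ‹_› _)
      have h3 : Ideal.comap (algebraMap A (Localization.AtPrime p))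
          (IsLocalRing.maximalIdeal (Localization.AtPrime p)) = p :=
        Localization.AtPrime.under_maximalIdeal
      rw [h3] at h2
      exact hp h2
    · rw [not_nontrivial_iff_subsingleton] at hnt
      rw [Groth.Agent.Helper9.DepthS2.depth_eq_top_of_subsingleton]
      exact le_top

theorem isPureAlong_iff_depth [Module.Finite A M] (Z : Set (PrimeSpectrum A))
    (hZ : StableUnderSpecialization Z) :
    EGA4.IsPureAlong Z M ↔ ∀ p : PrimeSpectrum A, p ∈ Z →
      (1 : ℕ∞) ≤ LocCoh.depth (Localization.AtPrime p.asIdeal)
        (LocalizedModule p.asIdeal.primeCompl M) := by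
  rw [isPureAlong_iff_ass Z hZ]
  constructor
  · intro h p hp
    rw [one_le_depth_iff]
    intro hass
    exact h p hass hp
  · intro h p hass hp
    exact (one_le_depth_iff p.asIdeal).1 (h p hp) hass

end Groth.Agent.Helper7.ZPure
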