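import Mathlib
import Groth.Prelude
import Groth.Agent.Helper7.AusBuchC
import Groth.Agent.Helper7.ZPure2
import Groth.Agent.Helper7.CMRing
import Groth.Agent.Helper1.Syzygy
import Groth.Agent.Helper2.RegCM
import Groth.Agent.S5761

/-!
# Consequences of the Auslander–Buchsbaum formula
-/

set_option autoImplicit false
set_option linter.style.haveILetI false
set_option linter.unusedSectionVars false
universe u

namespace Groth.Agent.Helper7.AusBuch

open CategoryTheory Abelian IsLocalRing

/-- Auslander–Buchsbaum as an inequality -/
theorem exists_le {R : Type u} [CommRing R] [IsLocalRing R] [IsNoetherianRing R]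
    (M : Type u) [AddCommGroup M] [Module R M] [Module.Finite R M] [Nontrivial M] (n : ℕ)
    (h : HasProjectiveDimensionLT (ModuleCat.of R M) (n + 1)) :
    ∃ e : ℕ, e ≤ n ∧ HasProjectiveDimensionLT (ModuleCat.of R M) (e + 1) ∧
      ¬ HasProjectiveDimensionLT (ModuleCat.of R M) e ∧
      LocCoh.depth R R = e + LocCoh.depth R M := by
  classical
  have hex : ∃ e : ℕ, HasProjectiveDimensionLT (ModuleCat.of R M) (e + 1) := ⟨n, h⟩
  have h1 := Nat.find_spec hex
  have h2 : ¬ HasProjectiveDimensionLT (ModuleCat.of R M) (Nat.find hex) := by
    intro hc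
    rcases Nat.eq_zero_or_pos (Nat.find hex) with h0 | hpos
    · rw [h0, hasProjectiveDimensionLT_zero_iff_isZero] at hc
      have : Subsingleton M := ModuleCat.subsingleton_of_isZero hc
      exact not_subsingleton M this
    · have := Nat.find_min hex (m := Nat.find hex - 1) (by omega)
      apply this
      have he : Nat.find hex - 1 + 1 = Nat.find hex := by omega
      rw [he]
      exact hc
  exact ⟨Nat.find hex, Nat.find_min' hex h, h1, h2, main_aux _ M h1 h2⟩

/-- the height of an associated prime of a module over a regular local ring is at most the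
projective dimension -/
theorem height_le_of_mem_ass (B : Type u) [CommRing B] [IsRegularLocalRing B] (M : Type u)
    [AddCommGroup M] [Module B M] [Module.Finite B M] (p : Ideal B)
    (hp : p ∈ associatedPrimes B M) (n : ℕ)
    (hn : HasProjectiveDimensionLE (ModuleCat.of B M) n) : p.height ≤ n := by
  have hpp : p.IsPrime := (AssociatedPrimes.mem_iff.mp hp).isPrime
  have hCM : LocCoh.IsCohenMacaulayModule B B :=
    Groth.Agent.Helper2.RegCM.cm_of_isRegularLocalRing B
  have hsupp : (⟨p, hpp⟩ : PrimeSpectrum B) ∈ Module.support B B := by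
    rw [Module.support_eq_zeroLocus, Module.annihilator_eq_bot.mpr inferInstance]
    simp
  have hCMp := Groth.Agent.S5761.result B B hCM ⟨p, hpp⟩ hsupp
  have hdepth : LocCoh.depth (Localization.AtPrime p) (Localization.AtPrime p) = p.height := by
    have h1 : Module.supportDim (Localization.AtPrime p) (LocalizedModule p.primeCompl B) =
      ((LocCoh.depth (Localization.AtPrime p) (LocalizedModule p.primeCompl B) : ℕ∞) :
        WithBot ℕ∞) := hCMp
    rw [Groth.Agent.Helper7.CMRing.supportDim_loc] at h1
    exact (WithBot.coe_injective h1).symm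
  have h0 : LocCoh.depth (Localization.AtPrime p) (LocalizedModule p.primeCompl M) = 0 := by
    by_contra hne
    exact (Groth.Agent.Helper7.ZPure.one_le_depth_iff (M := M) p).1
      (Order.one_le_iff_pos.2 (pos_iff_ne_zero.2 hne)) hp
  have hnt : Nontrivial (LocalizedModule p.primeCompl M) := by
    by_contra hc
    rw [not_nontrivial_iff_subsingleton] at hc
    rw [Groth.Agent.Helper9.DepthS2.depth_eq_top_of_subsingleton] at h0
    exact ENat.top_ne_zero h0
  have hpd : projectiveDimension (ModuleCat.of (Localization.AtPrime p)
      (LocalizedModule p.primeCompl M)) ≤ n :=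
    (Groth.Agent.Helper1.Syzygy.hasPdLE_loc_iff M p.primeCompl n).1
      (ModuleCat.localizedModule_hasProjectiveDimensionLE n p.primeCompl (ModuleCat.of B M))
  rw [projectiveDimension_le_iff] at hpd
  obtain ⟨e, hen, -, -, he⟩ := exists_le (R := Localization.AtPrime p)
    (LocalizedModule p.primeCompl M) n hpd
  rw [hdepth, h0, add_zero] at he
  rw [he]
  exact_mod_cast hen

end Groth.Agent.Helper7.AusBuch
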