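import Mathlib
import Groth.Prelude
import Groth.Agent.Helper7.AusBuchD
import Groth.Agent.Helper1.RegAB
import Groth.Agent.Helper6.CMCaten
import Groth.Agent.Helper1.LocCohTopMod
import Groth.Agent.Helper2.DepthCM4
import Groth.Agent.Helper2.RegCM

/-!
# Cohen–Macaulay modules over a regular local ring via projective dimension
-/

set_option autoImplicit false
set_option linter.style.haveILetI false
set_option linter.unusedSectionVars false
universe u

namespace Groth.Agent.Helper7.CMOpen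

open CategoryTheory IsLocalRing
open Groth.Agent.Helper2 Groth.Agent.Helper1

variable {B : Type u} [CommRing B] [IsRegularLocalRing B]

lemma cmLocal : LocCoh.IsCohenMacaulayLocalRing B :=
  { supportDim_eq_depth := RegCM.cm_of_isRegularLocalRing B }

lemma exists_dim : ∃ d : ℕ, ringKrullDim B = d := by
  have hne_bot : ringKrullDim B ≠ ⊥ := ringKrullDim_ne_bot
  have hne_top : ringKrullDim B ≠ ⊤ := ringKrullDim_ne_top
  obtain ⟨x, hx⟩ := WithBot.ne_bot_iff_exists.mp hne_bot
  have hx' : x ≠ ⊤ := by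
    rintro rfl
    exact hne_top hx.symm
  obtain ⟨d, rfl⟩ := ENat.ne_top_iff_exists.mp hx'
  exact ⟨d, hx.symm⟩

/-- dimension formula in a regular local ring, in natural numbers -/
lemma dim_formula (d : ℕ) (hd : ringKrullDim B = d) (𝔭 : PrimeSpectrum B) :
    ∃ c h : ℕ, ringKrullDim (B ⧸ 𝔭.asIdeal) = c ∧ 𝔭.asIdeal.height = h ∧ d = c + h := by
  haveI := cmLocal (B := B)
  have h1 := Groth.Agent.Helper6.CMCaten.dim_eq (Groth.Agent.Helper6.CMCaten.hasCMFull_of_cm B) 𝔭
  obtain ⟨h, hh⟩ := ENat.ne_top_iff_exists.mp (Ideal.height_ne_top_of_isPrime (I := 𝔭.asIdeal))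
  have hne_bot : ringKrullDim (B ⧸ 𝔭.asIdeal) ≠ ⊥ := ringKrullDim_ne_bot
  obtain ⟨x, hx⟩ := WithBot.ne_bot_iff_exists.mp hne_bot
  rw [hd, ← hx, ← hh] at h1
  have hx' : x ≠ ⊤ := by
    rintro rfl
    rw [← WithBot.coe_add, top_add] at h1
    exact ENat.top_ne_natCast d (by exact_mod_cast h1.symm)
  obtain ⟨c, rfl⟩ := ENat.ne_top_iff_exists.mp hx'
  refine ⟨c, h, hx.symm, hh.symm, ?_⟩
  have : ((d : ℕ) : WithBot ℕ∞) = ((c + h : ℕ) : WithBot ℕ∞) := by
    push_cast
    exact h1
  exact_mod_cast this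

variable (N : Type u) [AddCommGroup N] [Module B N] [Module.Finite B N] [Nontrivial N]

/-- Auslander–Buchsbaum over a regular local ring, in natural numbers -/
lemma ab (d : ℕ) (hd : ringKrullDim B = d) :
    ∃ e δ : ℕ, HasProjectiveDimensionLT (ModuleCat.of B N) (e + 1) ∧
      ¬ HasProjectiveDimensionLT (ModuleCat.of B N) e ∧ LocCoh.depth B N = δ ∧ d = e + δ := by
  have hpd := RegAB.pd_le_dim d hd N
  obtain ⟨e, -, he1, he2, he3⟩ := Groth.Agent.Helper7.AusBuch.exists_le N d hpd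
  obtain ⟨δ, hδ⟩ := ENat.ne_top_iff_exists.mp
    (DepthCM.idealDepth_ne_top (maximalIdeal B) N (Depth.smul_top_ne_top B N))
  have hB : Module.supportDim B B = ((LocCoh.depth B B : ℕ∞) : WithBot ℕ∞) :=
    RegCM.cm_of_isRegularLocalRing B
  rw [Module.supportDim_self_eq_ringKrullDim, hd] at hB
  have hB' : LocCoh.depth B B = (d : ℕ∞) := by
    have : ((d : ℕ∞) : WithBot ℕ∞) = ((LocCoh.depth B B : ℕ∞) : WithBot ℕ∞) := hB
    exact (WithBot.coe_injective this).symm
  refine ⟨e, δ, he1, he2, hδ.symm, ?_⟩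
  have hδ' : LocCoh.depth B N = (δ : ℕ∞) := hδ.symm
  rw [hB', hδ'] at he3
  exact_mod_cast he3

lemma exists_supportDim (d : ℕ) (hd : ringKrullDim B = d) :
    ∃ m : ℕ, Module.supportDim B N = m := by
  have h1 : Module.supportDim B N ≤ ringKrullDim B := Module.supportDim_le_ringKrullDim B N
  have hne_bot : Module.supportDim B N ≠ ⊥ := Module.supportDim_ne_bot_of_nontrivial B N
  obtain ⟨x, hx⟩ := WithBot.ne_bot_iff_exists.mp hne_bot
  have hx' : x ≠ ⊤ := by
    rintro rfl
    rw [← hx, hd] at h1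
    exact ENat.top_ne_natCast d (top_le_iff.mp (by exact_mod_cast h1)).symm
  obtain ⟨m, rfl⟩ := ENat.ne_top_iff_exists.mp hx'
  exact ⟨m, hx.symm⟩

/-- over a regular local ring: Cohen–Macaulay iff the projective dimension is at most the height
of every prime of the support -/
theorem cm_iff : LocCoh.IsCohenMacaulayModule B N ↔
    ∃ j : ℕ, HasProjectiveDimensionLE (ModuleCat.of B N) j ∧
      ∀ 𝔭 ∈ Module.support B N, (j : ℕ∞) ≤ 𝔭.asIdeal.height := by
  obtain ⟨d, hd⟩ := exists_dim (B := B)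
  obtain ⟨e, δ, he1, he2, hδ, hdeδ⟩ := ab N d hd
  obtain ⟨m, hm⟩ := exists_supportDim N d hd
  have hδm : δ ≤ m := by
    have := DepthCM4.depth_le_supportDim (A := B) N
    rw [hm, hδ] at this
    exact_mod_cast this
  constructor
  · intro hCM
    have hCM' : Module.supportDim B N = ((LocCoh.depth B N : ℕ∞) : WithBot ℕ∞) := hCM
    rw [hm, hδ] at hCM'
    have hmδ : m = δ := by exact_mod_cast hCM'
    refine ⟨e, he1, fun 𝔭 h𝔭 => ?_⟩
    obtain ⟨c, h, hc, hh, hdch⟩ := dim_formula d hd 𝔭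
    have hcm : c ≤ m := by
      have := LocCohTopMod.ringKrullDim_quotient_le_supportDim (M := N) 𝔭 h𝔭
      rw [hc, hm] at this
      exact_mod_cast this
    rw [hh]
    have : e ≤ h := by omega
    exact_mod_cast this
  · rintro ⟨j, hj, hsupp⟩
    have hej : e ≤ j := by
      by_contra hlt
      exact he2 (hasProjectiveDimensionLT_of_ge _ (j + 1) e (by omega))
    obtain ⟨𝔭, h𝔭, h𝔭dim⟩ := LocCohTopMod.exists_mem_support_dim_eq (M := N) m hm
    obtain ⟨c, h, hc, hh, hdch⟩ := dim_formula d hd 𝔭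
    have hcm : c = m := by
      rw [hc] at h𝔭dim
      exact_mod_cast h𝔭dim
    have hjh : j ≤ h := by
      have := hsupp 𝔭 h𝔭
      rw [hh] at this
      exact_mod_cast this
    have hmδ : m = δ := by omega
    show Module.supportDim B N = ((LocCoh.depth B N : ℕ∞) : WithBot ℕ∞)
    rw [hm, hδ, hmδ]
    rfl

end Groth.Agent.Helper7.CMOpen
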