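import Mathlib
import Groth.Prelude
import Groth.Agent.Helper7.CMOpenA
import Groth.Agent.Helper1.RegBound
import Groth.Agent.Helper1.Syzygy
import Groth.Agent.Helper2.LocSupp

/-!
# Openness of the Cohen–Macaulay locus of a finite module over a regular ring
-/

set_option autoImplicit false
set_option linter.style.haveILetI false
set_option linter.unusedSectionVars false
universe u

namespace Groth.Agent.Helper7.CMOpen

open CategoryTheory IsLocalRing
open Groth.Agent.Helper2 Groth.Agent.Helper1

variable {P : Type u} [CommRing P] [IsRegularRing P]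
variable (M : Type u) [AddCommGroup M] [Module P M] [Module.Finite P M]

/-- primes of the support below `Q` have height at least `j` -/
def U (P : Type u) [CommRing P] (M : Type u) [AddCommGroup M] [Module P M] (j : ℕ) :
    Set (PrimeSpectrum P) :=
  {Q | ∀ p ∈ Module.support P M, p ≤ Q → (j : ℕ∞) ≤ p.asIdeal.height}

lemma isOpen_U (j : ℕ) : IsOpen (U P M j) := by
  have hfin : ((Module.annihilator P M).minimalPrimes).Finite :=
    Ideal.finite_minimalPrimes_of_isNoetherianRing P _
  have hEq : (U P M j)ᶜ = ⋃ p₀ ∈ {p₀ ∈ (Module.annihilator P M).minimalPrimes | p₀.height < j},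
      PrimeSpectrum.zeroLocus (p₀ : Set P) := by
    ext Q
    simp only [U, Set.mem_compl_iff, Set.mem_ofPred_eq, not_forall, Set.mem_iUnion,
      PrimeSpectrum.mem_zeroLocus, SetLike.coe_subset_coe, exists_prop]
    constructor
    · rintro ⟨p, hp, hpQ, hlt⟩
      rw [Module.mem_support_iff_of_finite] at hp
      haveI := p.2
      obtain ⟨p₀, hp₀, hle⟩ := Ideal.exists_minimalPrimes_le (J := p.asIdeal) hp
      refine ⟨p₀, ⟨hp₀, ?_⟩, hle.trans hpQ⟩
      exact lt_of_le_of_lt (Ideal.height_mono hle) (not_le.mp hlt)
    · rintro ⟨p₀, ⟨hp₀, hlt⟩, hle⟩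
      refine ⟨⟨p₀, hp₀.1.1⟩, ?_, hle, not_le.mpr hlt⟩
      rw [Module.mem_support_iff_of_finite]
      exact hp₀.1.2
  rw [← isClosed_compl_iff, hEq]
  exact Set.Finite.isClosed_biUnion (hfin.subset (fun _ h => h.1))
    (fun _ _ => PrimeSpectrum.isClosed_zeroLocus _)

/-- the open set cut out by the projective dimension and the heights -/
def T (P : Type u) [CommRing P] (M : Type u) [AddCommGroup M] [Module P M] :
    Set (PrimeSpectrum P) := ⋃ j : ℕ, RegBound.pdLocus (ModuleCat.of P M) j ∩ U P M j

lemma isOpen_T : IsOpen (T P M) :=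
  isOpen_iUnion fun j => (RegBound.isOpen_pdLocus j (ModuleCat.of P M)).inter (isOpen_U (P := P) M j)

theorem cm_localized_iff (Q : PrimeSpectrum P) (hQ : Q ∈ Module.support P M) :
    LocCoh.IsCohenMacaulayModule (Localization.AtPrime Q.asIdeal)
      (LocalizedModule Q.asIdeal.primeCompl M) ↔ Q ∈ T P M := by
  haveI : Nontrivial (LocalizedModule Q.asIdeal.primeCompl M) := Module.mem_support_iff.1 hQ
  rw [cm_iff, T, Set.mem_iUnion]
  apply exists_congr
  intro j
  rw [Set.mem_inter_iff]
  apply and_congr
  · have h1 := Syzygy.hasPdLE_loc_iff M Q.asIdeal.primeCompl j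
    rw [projectiveDimension_le_iff] at h1
    exact h1.symm
  · constructor
    · intro h p hp hpQ
      haveI := p.2
      have hdisj : Disjoint (Q.asIdeal.primeCompl : Set P) (p.asIdeal : Set P) := by
        rw [Set.disjoint_left]
        intro x hx hxp
        exact hx (hpQ hxp)
      have hprime := IsLocalization.isPrime_of_isPrime_disjoint Q.asIdeal.primeCompl
        (Localization.AtPrime Q.asIdeal) p.asIdeal p.2 hdisj
      have hcomap := IsLocalization.under_map_of_isPrime_disjoint Q.asIdeal.primeCompl
        (Localization.AtPrime Q.asIdeal) p.2 hdisj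
      have hmem := LocSupp.mem_support_localized Q.asIdeal M p hpQ hp
        ⟨p.asIdeal.map (algebraMap P (Localization.AtPrime Q.asIdeal)), hprime⟩ hcomap
      have := h _ hmem
      rwa [IsLocalization.height_map_of_disjoint Q.asIdeal.primeCompl p.asIdeal hdisj] at this
    · intro h 𝔭 h𝔭
      have hmem := DepthCM4.comap_mem_support Q.asIdeal M 𝔭 h𝔭
      have hle : (PrimeSpectrum.comap (algebraMap P (Localization.AtPrime Q.asIdeal)) 𝔭) ≤ Q := by
        have h1 : 𝔭.asIdeal ≤ maximalIdeal (Localization.AtPrime Q.asIdeal) :=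
          IsLocalRing.le_maximalIdeal 𝔭.2.ne_top
        have h2 := Ideal.comap_mono (f := algebraMap P (Localization.AtPrime Q.asIdeal)) h1
        have h3 : Ideal.comap (algebraMap P (Localization.AtPrime Q.asIdeal))
            (maximalIdeal (Localization.AtPrime Q.asIdeal)) = Q.asIdeal :=
          IsLocalization.AtPrime.under_maximalIdeal _ Q.asIdeal
        rw [h3] at h2
        exact h2
      have := h _ hmem hle
      have hht := IsLocalization.height_under Q.asIdeal.primeCompl 𝔭.asIdeal
      rw [← hht]
      exact this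

end Groth.Agent.Helper7.CMOpen
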