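import Mathlib
import Groth.Prelude
import Groth.Agent.Helper7.CMOpenB
import Groth.Agent.Helper6.FlatCM
import Groth.Agent.Helper2.DepthLocHom

/-!
# Openness of the Cohen–Macaulay locus of a quotient of a regular ring
-/

set_option autoImplicit false
set_option linter.style.haveILetI false
set_option linter.unusedSectionVars false
universe u

namespace Groth.Agent.Helper7.CMOpen

open CategoryTheory IsLocalRing
open Groth.Agent.Helper2 Groth.Agent.Helper1

variable {P : Type u} [CommRing P] [IsRegularRing P]
variable (S : Type u) [CommRing S] [Algebra P S]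

theorem cm_ring_iff (hsurj : Function.Surjective (algebraMap P S)) (q : PrimeSpectrum S) :
    LocCoh.IsCohenMacaulayLocalRing (Localization.AtPrime q.asIdeal) ↔
      LocCoh.IsCohenMacaulayModule
        (Localization.AtPrime (PrimeSpectrum.comap (algebraMap P S) q).asIdeal)
        (LocalizedModule (PrimeSpectrum.comap (algebraMap P S) q).asIdeal.primeCompl S) := by
  set Q := PrimeSpectrum.comap (algebraMap P S) q with hQdef
  have hQ : Q.asIdeal = q.asIdeal.comap (algebraMap P S) := rfl
  letI alg : Algebra (Localization.AtPrime Q.asIdeal) (Localization.AtPrime q.asIdeal) :=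
    (Localization.localRingHom Q.asIdeal q.asIdeal (algebraMap P S) hQ).toAlgebra
  have halg : ∀ x, algebraMap (Localization.AtPrime Q.asIdeal) (Localization.AtPrime q.asIdeal) x =
      Localization.localRingHom Q.asIdeal q.asIdeal (algebraMap P S) hQ x := fun _ => rfl
  haveI tower : IsScalarTower P (Localization.AtPrime Q.asIdeal) (Localization.AtPrime q.asIdeal) := by
    apply IsScalarTower.of_algebraMap_eq
    intro x
    rw [halg, Localization.localRingHom_to_map]
    exact IsScalarTower.algebraMap_apply P S (Localization.AtPrime q.asIdeal) x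
  have hsub : Algebra.algebraMapSubmonoid S Q.asIdeal.primeCompl = q.asIdeal.primeCompl := by
    ext s
    constructor
    · rintro ⟨x, hx, rfl⟩
      exact hx
    · intro hs
      obtain ⟨x, rfl⟩ := hsurj s
      exact ⟨x, hs, rfl⟩
  haveI hloc : IsLocalization (Algebra.algebraMapSubmonoid S Q.asIdeal.primeCompl)
      (Localization.AtPrime q.asIdeal) := by
    rw [hsub]
    infer_instance
  haveI hlm : IsLocalizedModule Q.asIdeal.primeCompl
      (IsScalarTower.toAlgHom P S (Localization.AtPrime q.asIdeal)).toLinearMap :=
    isLocalizedModule_iff_isLocalization.mpr hloc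
  let e₀ : LocalizedModule Q.asIdeal.primeCompl S ≃ₗ[P] Localization.AtPrime q.asIdeal :=
    IsLocalizedModule.iso Q.asIdeal.primeCompl
      (IsScalarTower.toAlgHom P S (Localization.AtPrime q.asIdeal)).toLinearMap
  let e : LocalizedModule Q.asIdeal.primeCompl S ≃ₗ[Localization.AtPrime Q.asIdeal]
      Localization.AtPrime q.asIdeal :=
    LinearEquiv.extendScalarsOfIsLocalization Q.asIdeal.primeCompl (Localization.AtPrime Q.asIdeal) e₀
  haveI hfin : Module.Finite (Localization.AtPrime Q.asIdeal) (Localization.AtPrime q.asIdeal) := by
    haveI : Module.Finite P S := Module.Finite.of_surjective (Algebra.linearMap P S) hsurj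
    exact Module.Finite.equiv e
  have hsurj' : Function.Surjective
      (algebraMap (Localization.AtPrime Q.asIdeal) (Localization.AtPrime q.asIdeal)) := by
    intro z
    obtain ⟨s, t, rfl⟩ := IsLocalization.exists_mk'_eq q.asIdeal.primeCompl z
    obtain ⟨x, rfl⟩ := hsurj s
    obtain ⟨y, hy⟩ := hsurj t.1
    have hyQ : y ∈ Q.asIdeal.primeCompl := by
      show y ∉ Q.asIdeal
      rw [hQ, Ideal.mem_comap, hy]
      exact t.2
    refine ⟨IsLocalization.mk' _ x ⟨y, hyQ⟩, ?_⟩
    rw [halg, Localization.localRingHom_mk']
    congr 1
    exact Subtype.ext hy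
  haveI hlocal : IsLocalHom
      (algebraMap (Localization.AtPrime Q.asIdeal) (Localization.AtPrime q.asIdeal)) :=
    Localization.isLocalHom_localRingHom _ _ _ hQ
  haveI : IsNoetherianRing S := isNoetherianRing_of_surjective P S (algebraMap P S) hsurj
  have hdim : Module.supportDim (Localization.AtPrime Q.asIdeal)
      (LocalizedModule Q.asIdeal.primeCompl S) =
      Module.supportDim (Localization.AtPrime q.asIdeal) (Localization.AtPrime q.asIdeal) := by
    rw [Module.supportDim_eq_of_equiv e]
    exact Groth.Agent.Helper6.FlatCM.supportDim_of_surjective _ hsurj'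
  obtain ⟨n, hn⟩ := ENat.ne_top_iff_exists.mp
    (DepthCM.idealDepth_ne_top (maximalIdeal (Localization.AtPrime Q.asIdeal))
      (Localization.AtPrime q.asIdeal)
      (Depth.smul_top_ne_top (Localization.AtPrime Q.asIdeal) (Localization.AtPrime q.asIdeal)))
  have hdepth1 : LocCoh.depth (Localization.AtPrime Q.asIdeal) (Localization.AtPrime q.asIdeal)
      = n := hn.symm
  have hdepth2 : LocCoh.depth (Localization.AtPrime q.asIdeal) (Localization.AtPrime q.asIdeal)
      = n := DepthLocHom.key _ _ n _ hdepth1
  have hdepth : LocCoh.depth (Localization.AtPrime Q.asIdeal)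
      (LocalizedModule Q.asIdeal.primeCompl S) =
      LocCoh.depth (Localization.AtPrime q.asIdeal) (Localization.AtPrime q.asIdeal) := by
    rw [hdepth2, ← hdepth1]
    exact DepthCM.idealDepth_congr _ e
  constructor
  · intro h
    show Module.supportDim _ _ = _
    rw [hdim, hdepth]
    exact h.supportDim_eq_depth
  · intro h
    have h' : Module.supportDim (Localization.AtPrime Q.asIdeal)
      (LocalizedModule Q.asIdeal.primeCompl S) = _ := h
    rw [hdim, hdepth] at h'
    exact { supportDim_eq_depth := h' }

end Groth.Agent.Helper7.CMOpen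

namespace Groth.Agent.Helper7.CMOpen

open CategoryTheory IsLocalRing

/-- the Cohen–Macaulay locus of a quotient of a regular ring is open -/
theorem isOpen_cm_of_surjective {P : Type u} [CommRing P] [IsRegularRing P]
    (S : Type u) [CommRing S] [Algebra P S] (hsurj : Function.Surjective (algebraMap P S)) :
    IsOpen {q : PrimeSpectrum S |
      LocCoh.IsCohenMacaulayLocalRing (Localization.AtPrime q.asIdeal)} := by
  haveI : Module.Finite P S := Module.Finite.of_surjective (Algebra.linearMap P S) hsurj
  have hEq : {q : PrimeSpectrum S |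
      LocCoh.IsCohenMacaulayLocalRing (Localization.AtPrime q.asIdeal)} =
      (PrimeSpectrum.comap (algebraMap P S)) ⁻¹' T P S := by
    ext q
    have hQ : PrimeSpectrum.comap (algebraMap P S) q ∈ Module.support P S := by
      rw [Module.mem_support_iff_of_finite]
      intro x hx
      rw [Module.mem_annihilator] at hx
      have h1 := hx 1
      rw [Algebra.smul_def, mul_one] at h1
      show algebraMap P S x ∈ q.asIdeal
      rw [h1]
      exact zero_mem _
    rw [Set.mem_preimage, ← cm_localized_iff S _ hQ, ← cm_ring_iff S hsurj q]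
    rfl
  rw [hEq]
  exact (isOpen_T (P := P) S).preimage (PrimeSpectrum.continuous_comap (algebraMap P S))

/-- the Cohen–Macaulay locus of a finite type algebra over a field is open -/
theorem isOpen_cm_of_finiteType (k S : Type u) [Field k] [CommRing S] [Algebra k S]
    [Algebra.FiniteType k S] :
    IsOpen {q : PrimeSpectrum S |
      LocCoh.IsCohenMacaulayLocalRing (Localization.AtPrime q.asIdeal)} := by
  obtain ⟨n, f, hf⟩ := Algebra.FiniteType.iff_quotient_mvPolynomial''.mp
    (inferInstance : Algebra.FiniteType k S)
  letI : Algebra (MvPolynomial (Fin n) k) S := f.toRingHom.toAlgebra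
  exact isOpen_cm_of_surjective (P := MvPolynomial (Fin n) k) S hf

end Groth.Agent.Helper7.CMOpen
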