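import Mathlib
import Groth.Agent.Helper7.SegOneB
import Groth.Agent.Helper8.GrLG

/-!
# The Segre product of `k[z]` with `S` is `S` (helper7)
-/

set_option autoImplicit false
set_option linter.unusedSectionVars false
universe u

namespace Groth.Agent.Helper7.SegOne

open DirectSum TensorProduct Polynomial Groth.Agent.Helper7.SegDim

/-- Cohen–Macaulay rings are stable under ring isomorphisms -/
theorem cm_of_ringEquiv {S T : Type u} [CommRing S] [CommRing T] (e : S ≃+* T)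
    [hS : LocCoh.IsCohenMacaulayRing S] : LocCoh.IsCohenMacaulayRing T :=
  { toIsNoetherian := isNoetherianRing_of_ringEquiv S e
    isCohenMacaulayLocalRing_localization := fun p _ =>
      Groth.Agent.Helper8.GrLG.cmLocal_comap e p
        (hS.isCohenMacaulayLocalRing_localization (p.comap (e : S →+* T))) }

/-- a linear map respecting two gradings commutes with the decompositions -/
theorem decompose_map {k S T : Type u} [Field k] [AddCommGroup S] [Module k S] [AddCommGroup T]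
    [Module k T] (ℬ : ℤ → Submodule k S) [DirectSum.Decomposition ℬ]
    (𝒯 : ℤ → Submodule k T) [DirectSum.Decomposition 𝒯] (f : T →ₗ[k] S)
    (hf : ∀ i, ∀ u ∈ 𝒯 i, f u ∈ ℬ i) (u : T) (i : ℤ) :
    (decompose ℬ (f u) i : S) = f (decompose 𝒯 u i : T) := by
  classical
  conv_lhs => rw [← sum_support_decompose 𝒯 u]
  rw [map_sum, decompose_sum, DFinsupp.finsetSum_apply, AddSubmonoidClass.coe_finsetSum]
  by_cases hi : i ∈ (decompose 𝒯 u).support
  · rw [Finset.sum_eq_single i]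
    · rw [decompose_of_mem_same ℬ (hf i _ (SetLike.coe_mem _))]
    · intro j _ hji
      rw [decompose_of_mem_ne ℬ (hf j _ (SetLike.coe_mem _)) hji]
    · intro h; exact absurd hi h
  · rw [Finset.sum_eq_zero]
    · rw [DFinsupp.notMem_support_iff] at hi
      rw [hi]
      simp
    · intro j hj
      have hji : j ≠ i := fun h => hi (h ▸ hj)
      rw [decompose_of_mem_ne ℬ (hf j _ (SetLike.coe_mem _)) hji]

section Theta

variable {k R S T : Type u} [Field k] [CommRing R] [Algebra k R] (𝒜 : ℤ → Submodule k R)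
  [GradedAlgebra 𝒜] [CommRing S] [Algebra k S] (ℬ : ℤ → Submodule k S) [GradedAlgebra ℬ]
  [CommRing T] [Algebra k T] (𝒯 : ℤ → Submodule k T) [GradedAlgebra 𝒯]
  (ψ : T →ₐ[k] R ⊗[k] S) (hψ : Function.Injective ψ)
  (hdegT : ∀ n : ℤ, (𝒯 n).map ψ.toLinearMap =
    Submodule.span k {x : R ⊗[k] S | ∃ a ∈ 𝒜 n, ∃ b ∈ ℬ n, x = a ⊗ₜ[k] b})
  (hposR : ∀ n : ℤ, n < 0 → 𝒜 n = ⊥) (hposS : ∀ n : ℤ, n < 0 → ℬ n = ⊥)

include hψ hdegT hposR in
/-- the Segre product is concentrated in nonnegative degrees -/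
theorem segre_hpos (n : ℤ) (hn : n < 0) : 𝒯 n = ⊥ := by
  have h1 := hdegT n
  have h2 : Submodule.span k {x : R ⊗[k] S | ∃ a ∈ 𝒜 n, ∃ b ∈ ℬ n, x = a ⊗ₜ[k] b} = ⊥ := by
    rw [Submodule.span_eq_bot]
    rintro _ ⟨a, ha, b, -, rfl⟩
    have ha0 : ∀ a' ∈ 𝒜 n, a' = 0 := by
      rw [hposR n hn]
      intro a' ha'
      exact (Submodule.mem_bot k).1 ha'
    rw [ha0 a ha, TensorProduct.zero_tmul]
  rw [h2] at h1
  rw [eq_bot_iff]
  intro u hu
  have h3 : ψ.toLinearMap u ∈ (𝒯 n).map ψ.toLinearMap := ⟨u, hu, rfl⟩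
  rw [h1, Submodule.mem_bot, AlgHom.toLinearMap_apply] at h3
  exact (Submodule.mem_bot k).2 (hψ (by rw [h3, map_zero]))

omit [GradedAlgebra 𝒯] in
include hψ hdegT in
/-- the degree-zero piece of the Segre product is `k` -/
theorem segre_h0 (h0R : 𝒜 0 = Submodule.span k {(1 : R)}) (h0S : ℬ 0 = Submodule.span k {(1 : S)}) :
    𝒯 0 = Submodule.span k {(1 : T)} := by
  have h1 := hdegT 0
  have h2 : Submodule.span k {x : R ⊗[k] S | ∃ a ∈ 𝒜 0, ∃ b ∈ ℬ 0, x = a ⊗ₜ[k] b}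
      = (Submodule.span k {(1 : T)}).map ψ.toLinearMap := by
    rw [Submodule.map_span, Set.image_singleton]
    apply le_antisymm
    · rw [Submodule.span_le]
      rintro _ ⟨a, ha, b, hb, rfl⟩
      obtain ⟨c, rfl⟩ := exists_smul_one 𝒜 h0R a ha
      obtain ⟨d, rfl⟩ := exists_smul_one ℬ h0S b hb
      rw [SetLike.mem_coe, Submodule.mem_span_singleton]
      refine ⟨c * d, ?_⟩
      rw [AlgHom.toLinearMap_apply, map_one, TensorProduct.smul_tmul_smul]
      rfl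
    · rw [Submodule.span_le, Set.singleton_subset_iff]
      apply Submodule.subset_span
      refine ⟨1, SetLike.one_mem_graded 𝒜, 1, SetLike.one_mem_graded ℬ, ?_⟩
      rw [AlgHom.toLinearMap_apply, map_one]
      rfl
  rw [h2] at h1
  exact Submodule.map_injective_of_injective (f := ψ.toLinearMap) hψ h1

variable {z : R} (hz1 : z ∈ 𝒜 1) (χ : R →ₐ[k] k) (hχ : ∀ n : ℕ, χ (z ^ n) = 1)
  (hpiece : ∀ n : ℕ, ∀ a ∈ 𝒜 (n : ℤ), ∃ c : k, a = c • z ^ n)

/-- `χ ⊗ id : R ⊗ S → S` -/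
noncomputable def theta' : R ⊗[k] S →ₐ[k] S :=
  (Algebra.TensorProduct.lid k S).toAlgHom.comp (Algebra.TensorProduct.map χ (AlgHom.id k S))

theorem theta'_tmul (a : R) (b : S) : theta' χ (a ⊗ₜ[k] b) = χ a • b := by
  simp [theta']

include hχ hpiece in
theorem theta'_span (n : ℕ) (w : R ⊗[k] S)
    (hw : w ∈ Submodule.span k {x : R ⊗[k] S | ∃ a ∈ 𝒜 (n : ℤ), ∃ b ∈ ℬ (n : ℤ), x = a ⊗ₜ[k] b}) :
    theta' χ w ∈ ℬ (n : ℤ) ∧ w = (z ^ n) ⊗ₜ[k] theta' χ w := by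
  induction hw using Submodule.span_induction with
  | mem w hw =>
    obtain ⟨a, ha, b, hb, rfl⟩ := hw
    obtain ⟨c, rfl⟩ := hpiece n a ha
    rw [theta'_tmul, map_smul, hχ n, smul_eq_mul, mul_one]
    exact ⟨Submodule.smul_mem _ c hb, by rw [TensorProduct.smul_tmul]⟩
  | zero => exact ⟨by rw [map_zero]; exact zero_mem _, by rw [map_zero, TensorProduct.tmul_zero]⟩
  | add v w _ _ hv hw =>
    exact ⟨by rw [map_add]; exact add_mem hv.1 hw.1, by
      rw [map_add, TensorProduct.tmul_add, ← hv.2, ← hw.2]⟩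
  | smul c v _ hv =>
    exact ⟨by rw [map_smul]; exact Submodule.smul_mem _ c hv.1, by
      rw [map_smul, TensorProduct.tmul_smul, ← hv.2]⟩

include hψ hdegT hposR hχ hpiece in
theorem theta_piece (i : ℤ) (u : T) (hu : u ∈ 𝒯 i) : theta' χ (ψ u) ∈ ℬ i := by
  rcases lt_or_ge i 0 with hlt | hge
  · have h1 : ∀ u' ∈ 𝒯 i, u' = 0 := by
      rw [segre_hpos 𝒜 ℬ 𝒯 ψ hψ hdegT hposR i hlt]
      intro u' hu'
      exact (Submodule.mem_bot k).1 hu'
    rw [h1 u hu, map_zero, map_zero]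
    exact zero_mem _
  · obtain ⟨n, rfl⟩ := Int.eq_ofNat_of_zero_le hge
    have h1 : ψ u ∈ (𝒯 (n : ℤ)).map ψ.toLinearMap := ⟨u, hu, rfl⟩
    rw [hdegT] at h1
    exact (theta'_span 𝒜 ℬ χ hχ hpiece n _ h1).1

include hψ hdegT hposR hposS hz1 hχ hpiece in
/-- `T = k[z] # S ≅ S` -/
theorem bijective_theta : Function.Bijective ((theta' χ).comp ψ) := by
  classical
  constructor
  · rw [injective_iff_map_eq_zero]
    intro u hu
    rw [← sum_support_decompose 𝒯 u]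
    refine Finset.sum_eq_zero fun i _ => ?_
    have h1 := decompose_map ℬ 𝒯 ((theta' χ).comp ψ).toLinearMap
      (fun j v hv => theta_piece 𝒜 ℬ 𝒯 ψ hψ hdegT hposR χ hχ hpiece j v hv) u i
    rw [AlgHom.toLinearMap_apply, hu, decompose_zero, DirectSum.zero_apply, ZeroMemClass.coe_zero,
      AlgHom.toLinearMap_apply, AlgHom.comp_apply] at h1
    rcases lt_or_ge i 0 with hlt | hge
    · have h2 : ∀ u' ∈ 𝒯 i, u' = 0 := by
        rw [segre_hpos 𝒜 ℬ 𝒯 ψ hψ hdegT hposR i hlt]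
        intro u' hu'
        exact (Submodule.mem_bot k).1 hu'
      exact h2 _ (SetLike.coe_mem _)
    · obtain ⟨n, rfl⟩ := Int.eq_ofNat_of_zero_le hge
      have h2 : ψ (decompose 𝒯 u (n : ℤ) : T) ∈ (𝒯 (n : ℤ)).map ψ.toLinearMap :=
        ⟨_, SetLike.coe_mem _, rfl⟩
      rw [hdegT] at h2
      have h3 := (theta'_span 𝒜 ℬ χ hχ hpiece n _ h2).2
      rw [← h1, TensorProduct.tmul_zero] at h3
      exact hψ (by rw [h3, map_zero])
  · intro b
    rw [← sum_support_decompose ℬ b]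
    have : ∀ i : ℤ, ∃ v : T, ((theta' χ).comp ψ) v = (decompose ℬ b i : S) := by
      intro i
      rcases lt_or_ge i 0 with hlt | hge
      · refine ⟨0, ?_⟩
        have h2 : ∀ b' ∈ ℬ i, b' = 0 := by
          rw [hposS i hlt]
          intro b' hb'
          exact (Submodule.mem_bot k).1 hb'
        rw [map_zero, h2 _ (SetLike.coe_mem _)]
      · obtain ⟨n, rfl⟩ := Int.eq_ofNat_of_zero_le hge
        have h2 : (z ^ n) ⊗ₜ[k] (decompose ℬ b (n : ℤ) : S) ∈ (𝒯 (n : ℤ)).map ψ.toLinearMap := by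
          rw [hdegT]
          exact Submodule.subset_span ⟨_, pow_mem_piece 𝒜 hz1 n, _, SetLike.coe_mem _, rfl⟩
        obtain ⟨v, -, hv⟩ := h2
        refine ⟨v, ?_⟩
        rw [AlgHom.comp_apply]
        rw [AlgHom.toLinearMap_apply] at hv
        rw [hv, theta'_tmul, hχ n, one_smul]
    choose v hv using this
    exact ⟨∑ i ∈ (decompose ℬ b).support, v i, by
      rw [map_sum]; exact Finset.sum_congr rfl fun i _ => hv i⟩

end Theta

section Main

variable {k R S T : Type u} [Field k] [CommRing R] [Algebra k R] (𝒜 : ℤ → Submodule k R)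
  [GradedAlgebra 𝒜] [CommRing S] [Algebra k S] (ℬ : ℤ → Submodule k S) [GradedAlgebra ℬ]
  [CommRing T] [Algebra k T] (𝒯 : ℤ → Submodule k T) [GradedAlgebra 𝒯]
  (ψ : T →ₐ[k] R ⊗[k] S) (hψ : Function.Injective ψ)
  (hdegT : ∀ n : ℤ, (𝒯 n).map ψ.toLinearMap =
    Submodule.span k {x : R ⊗[k] S | ∃ a ∈ 𝒜 n, ∃ b ∈ ℬ n, x = a ⊗ₜ[k] b})
  (hposR : ∀ n : ℤ, n < 0 → 𝒜 n = ⊥) (hposS : ∀ n : ℤ, n < 0 → ℬ n = ⊥)
  (h0R : 𝒜 0 = Submodule.span k {(1 : R)})
  (hstdR : Ideal.span (⋃ n ∈ Set.Ioi (0 : ℤ), (𝒜 n : Set R)) = Ideal.span ((𝒜 1 : Submodule k R) : Set R))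

include hψ hdegT hposR hposS h0R hstdR in
/-- if `R = k[z]` is a polynomial ring on a linear form then `R # S ≅ S` -/
theorem nonempty_algEquiv_of_gen [Nontrivial R] {z : R} (hz1 : z ∈ 𝒜 1) (hzreg : IsSMulRegular R z)
    (h1 : ∀ z' ∈ 𝒜 1, ∃ c : k, z' = c • z) : Nonempty (T ≃ₐ[k] S) := by
  have hbij := bijective_aeval 𝒜 hposR h0R hstdR hz1 h1 hzreg
  let φ : k[X] ≃ₐ[k] R := AlgEquiv.ofBijective (aeval z) hbij
  let χ : R →ₐ[k] k := (aeval (1 : k)).comp φ.symm.toAlgHom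
  have hχ : ∀ n : ℕ, χ (z ^ n) = 1 := by
    intro n
    have h2 : φ.symm (z ^ n) = X ^ n := by
      rw [AlgEquiv.symm_apply_eq]
      show z ^ n = aeval z (X ^ n)
      rw [map_pow, aeval_X]
    show aeval (1 : k) (φ.symm (z ^ n)) = 1
    rw [h2, map_pow, aeval_X, one_pow]
  have hpiece := piece_eq 𝒜 h0R hstdR h1
  exact ⟨AlgEquiv.ofBijective ((theta' χ).comp ψ)
    (bijective_theta 𝒜 ℬ 𝒯 ψ hψ hdegT hposR hposS hz1 χ hχ hpiece)⟩

end Main

end Groth.Agent.Helper7.SegOne
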