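import Mathlib

/-!
# The coaction of the torus on a graded ring (helper7)

For a ring `R` graded by an abelian group `ι`, the map `r ↦ ∑ r_g χ^g` is a ring homomorphism
`R → R[ι]`; it extends to an automorphism of the group algebra `R[ι]`.
-/

set_option autoImplicit false
universe u

namespace Groth.Agent.Helper7.Torus

open DirectSum AddMonoidAlgebra

variable {ι : Type} [AddCommGroup ι] [DecidableEq ι] {R : Type u} [CommRing R]
  (𝒜 : ι → AddSubgroup R) [GradedRing 𝒜]

/-- the coaction `r ↦ ∑ r_g χ^{ε g}` twisted by an endomorphism `ε` of the grading group -/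
noncomputable def coactWith (ε : ι →+ ι) : R →+* AddMonoidAlgebra R ι :=
  (DirectSum.toSemiring (A := fun i => 𝒜 i)
    (fun i => (AddMonoidAlgebra.singleAddHom (ε i)).comp (𝒜 i).subtype)
    (by
      show AddMonoidAlgebra.single (ε 0) (1 : R) = 1
      rw [map_zero]
      rfl)
    (by
      intro i j ai aj
      show AddMonoidAlgebra.single (ε (i + j)) ((ai : R) * (aj : R)) =
        AddMonoidAlgebra.single (ε i) (ai : R) * AddMonoidAlgebra.single (ε j) (aj : R)
      rw [AddMonoidAlgebra.single_mul_single, map_add])).comp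
    (DirectSum.decomposeRingEquiv 𝒜).toRingHom

theorem coactWith_of_mem (ε : ι →+ ι) {g : ι} {r : R} (hr : r ∈ 𝒜 g) :
    coactWith 𝒜 ε r = AddMonoidAlgebra.single (ε g) r := by
  unfold coactWith
  rw [RingHom.comp_apply]
  have h1 : (DirectSum.decomposeRingEquiv 𝒜).toRingHom r = DirectSum.of (fun i => 𝒜 i) g ⟨r, hr⟩ := by
    show DirectSum.decompose 𝒜 r = _
    exact DirectSum.decompose_of_mem 𝒜 hr
  rw [h1, DirectSum.toSemiring_of]
  rfl


/-- an additive predicate on `R` holds as soon as it holds on homogeneous elements -/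
theorem induction_hom {P : R → Prop} (h0 : P 0) (hadd : ∀ a b, P a → P b → P (a + b))
    (hhom : ∀ (g : ι) (r : R), r ∈ 𝒜 g → P r) (r : R) : P r := by
  classical
  rw [← DirectSum.sum_support_decompose 𝒜 r]
  refine Finset.sum_induction _ P hadd h0 ?_
  intro g _
  exact hhom g _ (SetLike.coe_mem _)

theorem coactWith_zero : coactWith 𝒜 (0 : ι →+ ι) = algebraMap R (AddMonoidAlgebra R ι) := by
  ext r : 1
  refine induction_hom 𝒜 (P := fun r => coactWith 𝒜 (0 : ι →+ ι) r = algebraMap R (AddMonoidAlgebra R ι) r)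
    ?_ ?_ ?_ r
  · rw [map_zero, map_zero]
  · intro a b ha hb
    rw [map_add, map_add, ha, hb]
  · intro g r hr
    rw [coactWith_of_mem 𝒜 0 hr]
    rfl

/-- the endomorphism `r χ^h ↦ ∑ r_g χ^{ε g + h}` of the group algebra -/
noncomputable def sigmaWith (ε : ι →+ ι) : AddMonoidAlgebra R ι →+* AddMonoidAlgebra R ι :=
  AddMonoidAlgebra.liftNCRingHom (coactWith 𝒜 ε) (AddMonoidAlgebra.of R ι) (fun _ _ => Commute.all _ _)

theorem sigmaWith_single (ε : ι →+ ι) (h : ι) (r : R) :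
    sigmaWith 𝒜 ε (AddMonoidAlgebra.single h r) = coactWith 𝒜 ε r * AddMonoidAlgebra.single h 1 := by
  unfold sigmaWith
  rw [AddMonoidAlgebra.liftNCRingHom]
  show AddMonoidAlgebra.liftNC _ _ _ = _
  rw [AddMonoidAlgebra.liftNC_single]
  rfl

theorem sigmaWith_single_of_mem (ε : ι →+ ι) (h : ι) {g : ι} {r : R} (hr : r ∈ 𝒜 g) :
    sigmaWith 𝒜 ε (AddMonoidAlgebra.single h r) = AddMonoidAlgebra.single (ε g + h) r := by
  rw [sigmaWith_single, coactWith_of_mem 𝒜 ε hr, AddMonoidAlgebra.single_mul_single, mul_one]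

theorem sigmaWith_algebraMap (ε : ι →+ ι) (r : R) :
    sigmaWith 𝒜 ε (algebraMap R (AddMonoidAlgebra R ι) r) = coactWith 𝒜 ε r := by
  have : algebraMap R (AddMonoidAlgebra R ι) r = AddMonoidAlgebra.single 0 r := rfl
  rw [this, sigmaWith_single]
  have h1 : (AddMonoidAlgebra.single (0 : ι) (1 : R)) = 1 := rfl
  rw [h1, mul_one]

theorem sigmaWith_comp (ε ε' : ι →+ ι) :
    (sigmaWith 𝒜 ε).comp (sigmaWith 𝒜 ε') = sigmaWith 𝒜 (ε + ε') := by
  apply AddMonoidAlgebra.ringHom_ext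
  · intro r
    refine induction_hom 𝒜 (P := fun r => ((sigmaWith 𝒜 ε).comp (sigmaWith 𝒜 ε'))
      (AddMonoidAlgebra.single 0 r) = sigmaWith 𝒜 (ε + ε') (AddMonoidAlgebra.single 0 r)) ?_ ?_ ?_ r
    · simp
    · intro a b ha hb
      rw [AddMonoidAlgebra.single_add, map_add, map_add, ha, hb]
    · intro g r hr
      rw [RingHom.comp_apply, sigmaWith_single_of_mem 𝒜 ε' 0 hr, sigmaWith_single_of_mem 𝒜 ε _ hr,
        sigmaWith_single_of_mem 𝒜 (ε + ε') 0 hr]
      congr 1
      rw [AddMonoidHom.add_apply]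
      abel
  · intro m
    rw [RingHom.comp_apply, sigmaWith_single, sigmaWith_single, map_one, one_mul, map_one, one_mul,
      sigmaWith_single, map_one, one_mul]

theorem sigmaWith_zero : sigmaWith 𝒜 (0 : ι →+ ι) = RingHom.id _ := by
  apply AddMonoidAlgebra.ringHom_ext
  · intro r
    rw [sigmaWith_single, coactWith_zero, RingHom.id_apply]
    have h1 : (AddMonoidAlgebra.single (0 : ι) (1 : R)) = 1 := rfl
    rw [h1, mul_one]
    rfl
  · intro m
    rw [sigmaWith_single, map_one, one_mul, RingHom.id_apply]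

/-- the coaction `r ↦ ∑ r_g χ^g` -/
noncomputable def coact : R →+* AddMonoidAlgebra R ι := coactWith 𝒜 (AddMonoidHom.id ι)

theorem coact_of_mem {g : ι} {r : R} (hr : r ∈ 𝒜 g) :
    coact 𝒜 r = AddMonoidAlgebra.single g r :=
  coactWith_of_mem 𝒜 _ hr

/-- the automorphism `r χ^h ↦ ∑ r_g χ^{g + h}` of the group algebra -/
noncomputable def sigma : AddMonoidAlgebra R ι ≃+* AddMonoidAlgebra R ι :=
  RingEquiv.ofRingHom (sigmaWith 𝒜 (AddMonoidHom.id ι)) (sigmaWith 𝒜 (-AddMonoidHom.id ι))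
    (by rw [sigmaWith_comp, add_neg_cancel, sigmaWith_zero])
    (by rw [sigmaWith_comp, neg_add_cancel, sigmaWith_zero])

theorem sigma_algebraMap (r : R) :
    sigma 𝒜 (algebraMap R (AddMonoidAlgebra R ι) r) = coact 𝒜 r :=
  sigmaWith_algebraMap 𝒜 _ r

theorem sigma_single_of_mem (h : ι) {g : ι} {r : R} (hr : r ∈ 𝒜 g) :
    sigma 𝒜 (AddMonoidAlgebra.single h r) = AddMonoidAlgebra.single (g + h) r :=
  sigmaWith_single_of_mem 𝒜 _ h hr

theorem sigma_single_one (h : ι) :
    sigma 𝒜 (AddMonoidAlgebra.single h (1 : R)) = AddMonoidAlgebra.single h 1 := by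
  show sigmaWith 𝒜 _ _ = _
  rw [sigmaWith_single, map_one, one_mul]

theorem sigma_symm_single_of_mem (h : ι) {g : ι} {r : R} (hr : r ∈ 𝒜 g) :
    (sigma 𝒜).symm (AddMonoidAlgebra.single h r) = AddMonoidAlgebra.single (-g + h) r := by
  show sigmaWith 𝒜 (-AddMonoidHom.id ι) _ = _
  rw [sigmaWith_single_of_mem 𝒜 _ h hr]
  rfl

theorem coact_eq_comp : coact 𝒜 = ((sigma 𝒜 : AddMonoidAlgebra R ι →+* AddMonoidAlgebra R ι)).comp
    (algebraMap R (AddMonoidAlgebra R ι)) := by
  ext r : 1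
  exact (sigma_algebraMap 𝒜 r).symm

end Groth.Agent.Helper7.Torus
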