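import Mathlib
import Groth.Agent.Helper7.TorusA

/-!
# Extended primes in the group algebra of a graded ring (helper7)
-/

set_option autoImplicit false
set_option linter.unusedSectionVars false
universe u

namespace Groth.Agent.Helper7.Torus

open DirectSum AddMonoidAlgebra

variable {ι : Type} [AddCommGroup ι] [DecidableEq ι] {R : Type u} [CommRing R]

section Ext

variable (p : Ideal R)

/-- the extension of an ideal of `R` to `R[ι]` consists of the elements with coefficients in it -/
theorem mem_map_iff (f : AddMonoidAlgebra R ι) :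
    f ∈ p.map (algebraMap R (AddMonoidAlgebra R ι)) ↔ ∀ g, f.coeff g ∈ p := by
  constructor
  · intro hf
    have hle : p.map (algebraMap R (AddMonoidAlgebra R ι)) ≤
        RingHom.ker (AddMonoidAlgebra.mapRingHom ι (Ideal.Quotient.mk p)) := by
      rw [Ideal.map_le_iff_le_comap]
      intro r hr
      rw [Ideal.mem_comap, RingHom.mem_ker]
      have : algebraMap R (AddMonoidAlgebra R ι) r = AddMonoidAlgebra.single 0 r := rfl
      rw [this, AddMonoidAlgebra.mapRingHom_single, Ideal.Quotient.eq_zero_iff_mem.2 hr,
        AddMonoidAlgebra.single_zero]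
    have h1 := hle hf
    rw [RingHom.mem_ker] at h1
    intro g
    have h2 := congrArg (fun x => x.coeff g) h1
    simp only [AddMonoidAlgebra.coeff_mapRingHom, AddMonoidAlgebra.coeff_zero,
      Finsupp.coe_zero, Pi.zero_apply] at h2
    exact Ideal.Quotient.eq_zero_iff_mem.1 h2
  · intro hf
    rw [← AddMonoidAlgebra.sum_coeff_single f, Finsupp.sum]
    refine Ideal.sum_mem _ fun g _ => ?_
    have h1 : AddMonoidAlgebra.single g (f.coeff g) =
        algebraMap R (AddMonoidAlgebra R ι) (f.coeff g) * AddMonoidAlgebra.single g 1 := by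
      have : algebraMap R (AddMonoidAlgebra R ι) (f.coeff g) =
          AddMonoidAlgebra.single 0 (f.coeff g) := rfl
      rw [this, AddMonoidAlgebra.single_mul_single, zero_add, mul_one]
    rw [h1]
    exact Ideal.mul_mem_right _ _ (Ideal.mem_map_of_mem _ (hf g))

theorem map_eq_ker : p.map (algebraMap R (AddMonoidAlgebra R ι)) =
    RingHom.ker (AddMonoidAlgebra.mapRingHom ι (Ideal.Quotient.mk p)) := by
  ext f
  rw [mem_map_iff, RingHom.mem_ker]
  constructor
  · intro h
    apply AddMonoidAlgebra.coeff_injective
    ext g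
    rw [AddMonoidAlgebra.coeff_mapRingHom, Ideal.Quotient.eq_zero_iff_mem.2 (h g)]
    rfl
  · intro h g
    have h2 := congrArg (fun x => x.coeff g) h
    simp only [AddMonoidAlgebra.coeff_mapRingHom, AddMonoidAlgebra.coeff_zero,
      Finsupp.coe_zero, Pi.zero_apply] at h2
    exact Ideal.Quotient.eq_zero_iff_mem.1 h2

theorem comap_map : (p.map (algebraMap R (AddMonoidAlgebra R ι))).comap
    (algebraMap R (AddMonoidAlgebra R ι)) = p := by
  ext r
  rw [Ideal.mem_comap, mem_map_iff]
  constructor
  · intro h
    have := h 0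
    have h2 : algebraMap R (AddMonoidAlgebra R ι) r = AddMonoidAlgebra.single 0 r := rfl
    rw [h2, AddMonoidAlgebra.coeff_single, Finsupp.single_eq_same] at this
    exact this
  · intro hr g
    have h2 : algebraMap R (AddMonoidAlgebra R ι) r = AddMonoidAlgebra.single 0 r := rfl
    rw [h2, AddMonoidAlgebra.coeff_single]
    classical
    rw [Finsupp.single_apply]
    split_ifs
    · exact hr
    · exact zero_mem _

/-- the extension of a prime of `R` to `R[ι]` is prime when `ι` is torsion-free -/
theorem map_isPrime [UniqueSums ι] [hp : p.IsPrime] :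
    (p.map (algebraMap R (AddMonoidAlgebra R ι))).IsPrime := by
  rw [map_eq_ker]
  exact RingHom.ker_isPrime _

end Ext

section Core

variable (𝒜 : ι → AddSubgroup R) [GradedRing 𝒜] (p : Ideal R)

theorem coeff_coact (r : R) (g : ι) : (coact 𝒜 r).coeff g = (DirectSum.decompose 𝒜 r g : R) := by
  classical
  refine induction_hom 𝒜 (P := fun r => (coact 𝒜 r).coeff g = (DirectSum.decompose 𝒜 r g : R))
    ?_ ?_ ?_ r
  · simp
  · intro a b ha hb
    rw [map_add, AddMonoidAlgebra.coeff_add, Finsupp.add_apply, ha, hb, DirectSum.decompose_add,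
      DirectSum.add_apply, AddSubgroup.coe_add]
  · intro h r hr
    rw [coact_of_mem 𝒜 hr, AddMonoidAlgebra.coeff_single, Finsupp.single_apply]
    split_ifs with hgh
    · subst hgh
      rw [DirectSum.decompose_of_mem_same 𝒜 hr]
    · rw [DirectSum.decompose_of_mem_ne 𝒜 hr hgh]

/-- the contraction of the extended prime along the coaction is the homogeneous core -/
theorem comap_coact : (p.map (algebraMap R (AddMonoidAlgebra R ι))).comap (coact 𝒜) =
    (p.homogeneousCore 𝒜).toIdeal := by
  ext r
  rw [Ideal.mem_comap, mem_map_iff]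
  simp only [coeff_coact]
  constructor
  · intro h
    classical
    rw [← DirectSum.sum_support_decompose 𝒜 r]
    refine Ideal.sum_mem _ fun g _ => ?_
    exact Ideal.mem_homogeneousCore_of_homogeneous_of_mem ⟨g, SetLike.coe_mem _⟩ (h g)
  · intro h g
    have h1 := (p.homogeneousCore 𝒜).isHomogeneous g h
    exact Ideal.toIdeal_homogeneousCore_le 𝒜 p h1

/-- a homogeneous ideal has the same extension along the coaction and along the inclusion -/
theorem map_coact_of_isHomogeneous (I : Ideal R) (hI : I.IsHomogeneous 𝒜) :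
    I.map (coact 𝒜) = I.map (algebraMap R (AddMonoidAlgebra R ι)) := by
  classical
  have key : ∀ (g : ι) (r : R), r ∈ 𝒜 g → coact 𝒜 r =
      algebraMap R (AddMonoidAlgebra R ι) r * AddMonoidAlgebra.single g 1 := by
    intro g r hr
    rw [coact_of_mem 𝒜 hr]
    have : algebraMap R (AddMonoidAlgebra R ι) r = AddMonoidAlgebra.single 0 r := rfl
    rw [this, AddMonoidAlgebra.single_mul_single, zero_add, mul_one]
  have key2 : ∀ (g : ι) (r : R), r ∈ 𝒜 g → algebraMap R (AddMonoidAlgebra R ι) r =
      coact 𝒜 r * AddMonoidAlgebra.single (-g) 1 := by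
    intro g r hr
    rw [key g r hr, mul_assoc, AddMonoidAlgebra.single_mul_single, add_neg_cancel, mul_one]
    have : (AddMonoidAlgebra.single (0 : ι) (1 : R)) = 1 := rfl
    rw [this, mul_one]
  apply le_antisymm
  · rw [Ideal.map_le_iff_le_comap]
    intro r hr
    rw [Ideal.mem_comap, ← DirectSum.sum_support_decompose 𝒜 r, map_sum]
    refine Ideal.sum_mem _ fun g _ => ?_
    rw [key g _ (SetLike.coe_mem _)]
    exact Ideal.mul_mem_right _ _ (Ideal.mem_map_of_mem _ (hI g hr))
  · rw [Ideal.map_le_iff_le_comap]
    intro r hr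
    rw [Ideal.mem_comap, ← DirectSum.sum_support_decompose 𝒜 r, map_sum]
    refine Ideal.sum_mem _ fun g _ => ?_
    rw [key2 g _ (SetLike.coe_mem _)]
    exact Ideal.mul_mem_right _ _ (Ideal.mem_map_of_mem _ (hI g hr))

end Core

end Groth.Agent.Helper7.Torus
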