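import Mathlib
import Groth.Agent.Helper2.SepAlg

/-!
# Group algebras of finitely generated free abelian groups over regular rings are regular (helper7)
-/

set_option autoImplicit false
set_option linter.unusedSectionVars false
set_option linter.style.haveILetI false
universe u

namespace Groth.Agent.Helper7.Torus

open AddMonoidAlgebra Polynomial

/-- the Laurent polynomial ring over a regular ring is regular -/
theorem isRegularRing_laurent (A : Type u) [CommRing A] [IsRegularRing A] :
    IsRegularRing (AddMonoidAlgebra A ℤ) := by
  haveI : IsRegularRing A[X] := inferInstance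
  haveI : IsLocalization (Submonoid.powers (X : A[X])) (LaurentPolynomial A) :=
    LaurentPolynomial.isLocalization
  exact Groth.Agent.Helper2.SepAlg.isRegularRing_of_isLocalization (R := A[X])
    (Submonoid.powers (X : A[X])) (LaurentPolynomial A)

theorem isRegularRing_addMonoidAlgebra_aux : ∀ (n : ℕ) (A : Type u) [CommRing A] [IsRegularRing A]
    (G : Type) [AddCommGroup G] (_ : G ≃+ (Fin n → ℤ)), IsRegularRing (AddMonoidAlgebra A G) := by
  intro n
  induction n with
  | zero =>
    intro A _ _ G _ e
    haveI : Subsingleton G := e.toEquiv.subsingleton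
    exact IsRegularRing.of_ringEquiv (AddMonoidAlgebra.uniqueRingEquiv (R := A) G).symm
  | succ n ih =>
    intro A _ _ G _ e
    have e1 : G ≃+ (ℤ × (Fin n → ℤ)) :=
      e.trans (Fin.consLinearEquiv ℤ (fun _ : Fin (n + 1) => ℤ)).symm.toAddEquiv
    haveI : IsRegularRing (AddMonoidAlgebra A (Fin n → ℤ)) := ih A (Fin n → ℤ) (AddEquiv.refl _)
    haveI : IsRegularRing (AddMonoidAlgebra (AddMonoidAlgebra A (Fin n → ℤ)) ℤ) :=
      isRegularRing_laurent _
    have e2 : AddMonoidAlgebra A G ≃+* AddMonoidAlgebra (AddMonoidAlgebra A (Fin n → ℤ)) ℤ :=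
      (AddMonoidAlgebra.mapDomainRingEquiv A e1).trans AddMonoidAlgebra.curryRingEquiv
    exact IsRegularRing.of_ringEquiv e2.symm

/-- the group algebra of a finitely generated free abelian group over a regular ring is regular -/
theorem isRegularRing_addMonoidAlgebra (A : Type u) [CommRing A] [IsRegularRing A]
    (G : Type) [AddCommGroup G] [Module.Free ℤ G] [Module.Finite ℤ G] :
    IsRegularRing (AddMonoidAlgebra A G) :=
  isRegularRing_addMonoidAlgebra_aux _ A G
    ((Module.finBasis ℤ G).equivFun.toAddEquiv)

/-- a finitely generated free abelian group has unique sums -/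
theorem twoUniqueSums_of_free (G : Type) [AddCommGroup G] [Module.Free ℤ G] : TwoUniqueSums G :=
  TwoUniqueSums.of_injective_addHom
    ({ toFun := (Module.Free.chooseBasis ℤ G).repr
       map_add' := map_add _ } : G →ₙ+ (Module.Free.ChooseBasisIndex ℤ G →₀ ℤ))
    (Module.Free.chooseBasis ℤ G).repr.injective inferInstance

end Groth.Agent.Helper7.Torus
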