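import Mathlib
import Groth.Agent.Helper7.TorusA

/-!
# The base change of a graded module along the coaction (helper7)

For a graded module `M` over a graded ring `R`, the base changes of `M` to the group algebra `R[ι]`
along the inclusion and along the coaction are isomorphic `R[ι]`-modules.
-/

set_option autoImplicit false
set_option linter.unusedSectionVars false
universe u

namespace Groth.Agent.Helper7.Torus

open DirectSum AddMonoidAlgebra TensorProduct

variable {ι : Type} [AddCommGroup ι] [DecidableEq ι] {R : Type u} [CommRing R]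
  (𝒜 : ι → AddSubgroup R) [GradedRing 𝒜]

/-- `R` regarded as a base of the group algebra `R[ι]` through the coaction -/
def CoR (_𝒜 : ι → AddSubgroup R) : Type u := R

noncomputable instance : CommRing (CoR 𝒜) := inferInstanceAs (CommRing R)

noncomputable instance : Algebra (CoR 𝒜) (AddMonoidAlgebra R ι) := (coact 𝒜).toAlgebra

theorem algebraMap_coR (r : R) :
    algebraMap (CoR 𝒜) (AddMonoidAlgebra R ι) r = coact 𝒜 r := rfl

/-- an `R`-module regarded as a module over `CoR 𝒜` -/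
def CoM (_𝒜 : ι → AddSubgroup R) (M : Type u) : Type u := M

/-- the identity map `M → CoM 𝒜 M` -/
def toCoM (_𝒜 : ι → AddSubgroup R) {M : Type u} (m : M) : CoM _𝒜 M := m

section Mod

variable (M : Type u) [AddCommGroup M] [Module R M]

noncomputable instance : AddCommGroup (CoM 𝒜 M) := inferInstanceAs (AddCommGroup M)

noncomputable instance : Module (CoR 𝒜) (CoM 𝒜 M) := inferInstanceAs (Module R M)

instance [h : Module.Finite R M] : Module.Finite (CoR 𝒜) (CoM 𝒜 M) := h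

end Mod

section Twist

variable {M : Type u} [AddCommGroup M] [Module R M] (ℳ : ι → AddSubgroup M)
  [DirectSum.Decomposition ℳ] [SetLike.GradedSMul 𝒜 ℳ]
  {X : Type u} [AddCommGroup X] [Module (AddMonoidAlgebra R ι) X]

/-- `m ↦ ∑ χ^{ε g} • k (m_g)` -/
noncomputable def tw (R : Type u) [CommRing R] [Module (AddMonoidAlgebra R ι) X]
    (ε : ι →+ ι) (k : M →+ X) : M →+ X :=
  (DirectSum.toAddMonoid (β := fun g => ℳ g) (fun g =>
    ((DistribSMul.toAddMonoidHom X (AddMonoidAlgebra.single (ε g) (1 : R))).comp k).comp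
      (ℳ g).subtype)).comp (DirectSum.decomposeAddEquiv ℳ).toAddMonoidHom

theorem tw_of_mem (ε : ι →+ ι) (k : M →+ X) {g : ι} {m : M} (hm : m ∈ ℳ g) :
    tw ℳ R ε k m = AddMonoidAlgebra.single (ε g) (1 : R) • k m := by
  unfold tw
  rw [AddMonoidHom.comp_apply]
  have h1 : (DirectSum.decomposeAddEquiv ℳ).toAddMonoidHom m =
      DirectSum.of (fun g => ℳ g) g ⟨m, hm⟩ := by
    show DirectSum.decompose ℳ m = _
    exact DirectSum.decompose_of_mem ℳ hm
  rw [h1, DirectSum.toAddMonoid_of]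
  rfl

/-- additive predicates on a graded module are checked on homogeneous elements -/
theorem induction_homM {P : M → Prop} (h0 : P 0) (hadd : ∀ a b, P a → P b → P (a + b))
    (hhom : ∀ (g : ι) (m : M), m ∈ ℳ g → P m) (m : M) : P m :=
  DirectSum.Decomposition.inductionOn ℳ h0 (fun {i} m => hhom i m m.2) hadd m

end Twist


section Iso

variable (M : Type u) [AddCommGroup M] [Module R M] (ℳ : ι → AddSubgroup M)
  [DirectSum.Decomposition ℳ] [SetLike.GradedSMul 𝒜 ℳ]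

variable (R) in
/-- `m ↦ ∑ χ^g ⊗ m_g`, the coaction on `M` -/
noncomputable def jα : M →+ (AddMonoidAlgebra R ι) ⊗[R] M :=
  tw ℳ R (AddMonoidHom.id ι) ((TensorProduct.mk R (AddMonoidAlgebra R ι) M 1).toAddMonoidHom)

theorem jα_of_mem {g : ι} {m : M} (hm : m ∈ ℳ g) :
    jα R M ℳ m = (AddMonoidAlgebra.single g (1 : R)) ⊗ₜ[R] m := by
  unfold jα
  rw [tw_of_mem ℳ _ _ hm]
  show AddMonoidAlgebra.single g (1 : R) • ((1 : AddMonoidAlgebra R ι) ⊗ₜ[R] m) = _
  rw [TensorProduct.smul_tmul', smul_eq_mul, mul_one]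

theorem jα_smul (r : R) (m : M) : jα R M ℳ (r • m) = coact 𝒜 r • jα R M ℳ m := by
  refine induction_hom 𝒜 (P := fun r => ∀ m, jα R M ℳ (r • m) = coact 𝒜 r • jα R M ℳ m) ?_ ?_ ?_ r m
  · intro m
    rw [zero_smul, map_zero, map_zero, zero_smul]
  · intro a b ha hb m
    rw [add_smul, map_add, ha, hb, map_add, add_smul]
  · intro h r hr m
    refine induction_homM ℳ (P := fun m => jα R M ℳ (r • m) = coact 𝒜 r • jα R M ℳ m) ?_ ?_ ?_ m
    · rw [smul_zero, map_zero, smul_zero]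
    · intro a b ha hb
      rw [smul_add, map_add, ha, hb, map_add, smul_add]
    · intro g m hm
      have hrm : r • m ∈ ℳ (h + g) := SetLike.GradedSMul.smul_mem hr hm
      rw [jα_of_mem M ℳ hrm, jα_of_mem M ℳ hm, coact_of_mem 𝒜 hr, TensorProduct.smul_tmul',
        smul_eq_mul, AddMonoidAlgebra.single_mul_single, mul_one, ← TensorProduct.smul_tmul,
        AddMonoidAlgebra.smul_single, smul_eq_mul, mul_one]

/-- `m ↦ ∑ χ^{-g} ⊗ m_g` into the base change along the coaction -/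
noncomputable def Gα : M →+ (AddMonoidAlgebra R ι) ⊗[CoR 𝒜] (CoM 𝒜 M) :=
  tw ℳ R (-AddMonoidHom.id ι)
    ((TensorProduct.mk (CoR 𝒜) (AddMonoidAlgebra R ι) (CoM 𝒜 M) 1).toAddMonoidHom)

theorem Gα_of_mem {g : ι} {m : M} (hm : m ∈ ℳ g) :
    Gα 𝒜 M ℳ m = (AddMonoidAlgebra.single (-g) (1 : R)) ⊗ₜ[CoR 𝒜] (toCoM 𝒜 m) := by
  unfold Gα
  rw [tw_of_mem ℳ _ _ hm]
  show AddMonoidAlgebra.single (-g) (1 : R) • ((1 : AddMonoidAlgebra R ι) ⊗ₜ[CoR 𝒜] (toCoM 𝒜 m)) = _
  rw [TensorProduct.smul_tmul', smul_eq_mul, mul_one]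

theorem tmul_coR_smul (b : AddMonoidAlgebra R ι) (r : R) (m : M) :
    b ⊗ₜ[CoR 𝒜] (toCoM 𝒜 (r • m)) = (coact 𝒜 r * b) ⊗ₜ[CoR 𝒜] (toCoM 𝒜 m) := by
  have h1 : (toCoM 𝒜 (r • m)) = (show CoR 𝒜 from r) • (toCoM 𝒜 m) := rfl
  rw [h1, ← TensorProduct.smul_tmul, Algebra.smul_def]
  rfl

theorem Gα_smul (r : R) (m : M) :
    Gα 𝒜 M ℳ (r • m) = algebraMap R (AddMonoidAlgebra R ι) r • Gα 𝒜 M ℳ m := by
  refine induction_hom 𝒜 (P := fun r => ∀ m, Gα 𝒜 M ℳ (r • m) =
    algebraMap R (AddMonoidAlgebra R ι) r • Gα 𝒜 M ℳ m) ?_ ?_ ?_ r m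
  · intro m
    rw [zero_smul, map_zero, map_zero, zero_smul]
  · intro a b ha hb m
    rw [add_smul, map_add, ha, hb, map_add, add_smul]
  · intro h r hr m
    refine induction_homM ℳ (P := fun m => Gα 𝒜 M ℳ (r • m) =
      algebraMap R (AddMonoidAlgebra R ι) r • Gα 𝒜 M ℳ m) ?_ ?_ ?_ m
    · rw [smul_zero, map_zero, smul_zero]
    · intro a b ha hb
      rw [smul_add, map_add, ha, hb, map_add, smul_add]
    · intro g m hm
      have hrm : r • m ∈ ℳ (h + g) := SetLike.GradedSMul.smul_mem hr hm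
      rw [Gα_of_mem 𝒜 M ℳ hrm, Gα_of_mem 𝒜 M ℳ hm, tmul_coR_smul, coact_of_mem 𝒜 hr,
        TensorProduct.smul_tmul', smul_eq_mul, AddMonoidAlgebra.single_mul_single, mul_one]
      have h2 : algebraMap R (AddMonoidAlgebra R ι) r = AddMonoidAlgebra.single 0 r := rfl
      rw [h2, AddMonoidAlgebra.single_mul_single, mul_one]
      congr 2
      abel


/-- the comparison map from the base change along the coaction to the standard base change -/
noncomputable def Phi : (AddMonoidAlgebra R ι) ⊗[CoR 𝒜] (CoM 𝒜 M) →+ (AddMonoidAlgebra R ι) ⊗[R] M :=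
  TensorProduct.liftAddHom
    ({ toFun := fun b => ((smulAddHom (AddMonoidAlgebra R ι) ((AddMonoidAlgebra R ι) ⊗[R] M)) b).comp
        (jα R M ℳ : CoM 𝒜 M →+ (AddMonoidAlgebra R ι) ⊗[R] M)
       map_zero' := by
        ext m
        simp
       map_add' := by
        intro b b'
        ext m
        simp } :
      AddMonoidAlgebra R ι →+ CoM 𝒜 M →+ (AddMonoidAlgebra R ι) ⊗[R] M)
    (by
      intro r b m
      show (r • b) • jα R M ℳ (show M from m) = b • jα R M ℳ ((show R from r) • (show M from m))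
      rw [jα_smul 𝒜, ← mul_smul, Algebra.smul_def, mul_comm b]
      rfl)


theorem Phi_tmul (b : AddMonoidAlgebra R ι) (m : M) :
    Phi 𝒜 M ℳ (b ⊗ₜ[CoR 𝒜] (toCoM 𝒜 m)) = b • jα R M ℳ m := rfl

/-- the comparison map from the standard base change to the base change along the coaction -/
noncomputable def Psi : (AddMonoidAlgebra R ι) ⊗[R] M →+ (AddMonoidAlgebra R ι) ⊗[CoR 𝒜] (CoM 𝒜 M) :=
  TensorProduct.liftAddHom
    ({ toFun := fun b => ((smulAddHom (AddMonoidAlgebra R ι)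
          ((AddMonoidAlgebra R ι) ⊗[CoR 𝒜] (CoM 𝒜 M))) b).comp (Gα 𝒜 M ℳ)
       map_zero' := by
        ext m
        simp
       map_add' := by
        intro b b'
        ext m
        simp } :
      AddMonoidAlgebra R ι →+ M →+ (AddMonoidAlgebra R ι) ⊗[CoR 𝒜] (CoM 𝒜 M))
    (by
      intro r b m
      show (r • b) • Gα 𝒜 M ℳ m = b • Gα 𝒜 M ℳ (r • m)
      rw [Gα_smul 𝒜, ← mul_smul, Algebra.smul_def, mul_comm b])

theorem Psi_tmul (b : AddMonoidAlgebra R ι) (m : M) :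
    Psi 𝒜 M ℳ (b ⊗ₜ[R] m) = b • Gα 𝒜 M ℳ m := rfl

theorem Phi_smul (c : AddMonoidAlgebra R ι) (x : (AddMonoidAlgebra R ι) ⊗[CoR 𝒜] (CoM 𝒜 M)) :
    Phi 𝒜 M ℳ (c • x) = c • Phi 𝒜 M ℳ x := by
  induction x using TensorProduct.induction_on with
  | zero => rw [smul_zero, map_zero, smul_zero]
  | tmul b m =>
    rw [TensorProduct.smul_tmul', smul_eq_mul]
    show Phi 𝒜 M ℳ ((c * b) ⊗ₜ[CoR 𝒜] (toCoM 𝒜 (show M from m))) =
      c • Phi 𝒜 M ℳ (b ⊗ₜ[CoR 𝒜] (toCoM 𝒜 (show M from m)))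
    rw [Phi_tmul, Phi_tmul, mul_smul]
  | add x y hx hy => rw [smul_add, map_add, hx, hy, map_add, smul_add]

theorem Psi_Phi (x : (AddMonoidAlgebra R ι) ⊗[CoR 𝒜] (CoM 𝒜 M)) :
    Psi 𝒜 M ℳ (Phi 𝒜 M ℳ x) = x := by
  induction x using TensorProduct.induction_on with
  | zero => rw [map_zero, map_zero]
  | tmul b m =>
    revert b
    refine induction_homM ℳ (P := fun m => ∀ b : AddMonoidAlgebra R ι,
      Psi 𝒜 M ℳ (Phi 𝒜 M ℳ (b ⊗ₜ[CoR 𝒜] (toCoM 𝒜 m))) = b ⊗ₜ[CoR 𝒜] (toCoM 𝒜 m)) ?_ ?_ ?_ m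
    · intro b
      have : toCoM 𝒜 (0 : M) = (0 : CoM 𝒜 M) := rfl
      rw [this, TensorProduct.tmul_zero, map_zero, map_zero]
    · intro a a' ha ha' b
      have : toCoM 𝒜 (a + a') = toCoM 𝒜 a + toCoM 𝒜 a' := rfl
      rw [this, TensorProduct.tmul_add, map_add, map_add, ha, ha']
    · intro g m hm b
      rw [Phi_tmul, jα_of_mem M ℳ hm, TensorProduct.smul_tmul', smul_eq_mul, Psi_tmul,
        Gα_of_mem 𝒜 M ℳ hm, TensorProduct.smul_tmul', smul_eq_mul, mul_assoc,
        AddMonoidAlgebra.single_mul_single, add_neg_cancel, mul_one]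
      have h1 : (AddMonoidAlgebra.single (0 : ι) (1 : R)) = 1 := rfl
      rw [h1, mul_one]
  | add x y hx hy => rw [map_add, map_add, hx, hy]

theorem Phi_Psi (x : (AddMonoidAlgebra R ι) ⊗[R] M) :
    Phi 𝒜 M ℳ (Psi 𝒜 M ℳ x) = x := by
  induction x using TensorProduct.induction_on with
  | zero => rw [map_zero, map_zero]
  | tmul b m =>
    revert b
    refine induction_homM ℳ (P := fun m => ∀ b : AddMonoidAlgebra R ι,
      Phi 𝒜 M ℳ (Psi 𝒜 M ℳ (b ⊗ₜ[R] m)) = b ⊗ₜ[R] m) ?_ ?_ ?_ m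
    · intro b
      rw [TensorProduct.tmul_zero, map_zero, map_zero]
    · intro a a' ha ha' b
      rw [TensorProduct.tmul_add, map_add, map_add, ha, ha']
    · intro g m hm b
      rw [Psi_tmul, Gα_of_mem 𝒜 M ℳ hm, TensorProduct.smul_tmul', smul_eq_mul, Phi_tmul,
        jα_of_mem M ℳ hm, TensorProduct.smul_tmul', smul_eq_mul, mul_assoc,
        AddMonoidAlgebra.single_mul_single, neg_add_cancel, mul_one]
      have h1 : (AddMonoidAlgebra.single (0 : ι) (1 : R)) = 1 := rfl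
      rw [h1, mul_one]
  | add x y hx hy => rw [map_add, map_add, hx, hy]

/-- **the twist isomorphism**: for a graded module, the base changes to the group algebra along the
coaction and along the inclusion are isomorphic -/
noncomputable def twistEquiv : (AddMonoidAlgebra R ι) ⊗[CoR 𝒜] (CoM 𝒜 M) ≃ₗ[AddMonoidAlgebra R ι]
    (AddMonoidAlgebra R ι) ⊗[R] M :=
  { toFun := Phi 𝒜 M ℳ
    map_add' := map_add _
    map_smul' := fun c x => Phi_smul 𝒜 M ℳ c x
    invFun := Psi 𝒜 M ℳ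
    left_inv := Psi_Phi 𝒜 M ℳ
    right_inv := Phi_Psi 𝒜 M ℳ }

end Iso

end Groth.Agent.Helper7.Torus
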