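import Mathlib
import Groth.Prelude.Def_CAlg
import Groth.Prelude.Def_EGA4b
import Groth.Agent.Helper7.TorusB
import Groth.Agent.Helper7.TorusC
import Groth.Agent.Helper7.TorusD
import Groth.Agent.Helper7.TorusE

/-!
# Depth and dimension at a prime and at its homogeneous core (helper7)
-/

set_option autoImplicit false
set_option linter.unusedSectionVars false
set_option linter.style.haveILetI false
universe u

namespace Groth.Agent.Helper7.Torus

open DirectSum AddMonoidAlgebra TensorProduct IsLocalRing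

variable {ι : Type} [AddCommGroup ι] [DecidableEq ι] [Module.Free ℤ ι] [Module.Finite ℤ ι]
  {R : Type u} [CommRing R] [IsNoetherianRing R] (𝒜 : ι → AddSubgroup R) [GradedRing 𝒜]

theorem isNoetherianRing_groupAlgebra : IsNoetherianRing (AddMonoidAlgebra R ι) := by
  haveI : AddGroup.FG ι := Module.Finite.iff_addGroup_fg.1 inferInstance
  haveI : AddMonoid.FG ι := AddGroup.fg_iff_addMonoid_fg.1 inferInstance
  exact Algebra.FiniteType.isNoetherianRing R (AddMonoidAlgebra R ι)

theorem flat_coR : Module.Flat (CoR 𝒜) (AddMonoidAlgebra R ι) := by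
  have h1 : (algebraMap R (AddMonoidAlgebra R ι)).Flat := by
    rw [RingHom.flat_algebraMap_iff]
    infer_instance
  have h2 : ((sigma 𝒜 : AddMonoidAlgebra R ι →+* AddMonoidAlgebra R ι)).Flat :=
    RingHom.Flat.of_bijective (sigma 𝒜).bijective
  have h3 := RingHom.Flat.comp h1 h2
  rw [← coact_eq_comp] at h3
  exact h3


instance : IsNoetherianRing (CoR 𝒜) := inferInstanceAs (IsNoetherianRing R)

section Main

variable (M : Type u) [AddCommGroup M] [Module R M] (ℳ : ι → AddSubgroup M)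
  [DirectSum.Decomposition ℳ] [SetLike.GradedSMul 𝒜 ℳ] [Module.Finite R M]
  (p : Ideal R) [p.IsPrime] [hc : (Ideal.homogeneousCore 𝒜 p).toIdeal.IsPrime]

/-- the extension of a prime to the group algebra -/
noncomputable abbrev PP (p : Ideal R) : Ideal (AddMonoidAlgebra R ι) :=
  p.map (algebraMap R (AddMonoidAlgebra R ι))

instance PP_isPrime : (PP (ι := ι) p).IsPrime := by
  haveI : TwoUniqueSums ι := twoUniqueSums_of_free ι
  exact map_isPrime p

/-- the fibre local ring of the coaction at the extended prime -/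
abbrev F2 : Type u := EGA4.FibLocRing (CoR 𝒜) (AddMonoidAlgebra R ι) (PP (ι := ι) p)

/-- localisations of the two base changes agree -/
noncomputable def locTwistEquiv :
    LocalizedModule (PP (ι := ι) p).primeCompl ((AddMonoidAlgebra R ι) ⊗[CoR 𝒜] (CoM 𝒜 M))
      ≃ₗ[Localization.AtPrime (PP (ι := ι) p)]
    LocalizedModule (PP (ι := ι) p).primeCompl ((AddMonoidAlgebra R ι) ⊗[R] M) :=
  IsLocalizedModule.mapEquiv (PP (ι := ι) p).primeCompl
    (LocalizedModule.mkLinearMap (PP (ι := ι) p).primeCompl _)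
    (LocalizedModule.mkLinearMap (PP (ι := ι) p).primeCompl _)
    (Localization.AtPrime (PP (ι := ι) p)) (twistEquiv 𝒜 M ℳ)

include ℳ in
theorem depth_eq_add :
    LocCoh.depth (Localization.AtPrime p) (LocalizedModule p.primeCompl M) =
      LocCoh.depth (Localization.AtPrime (Ideal.homogeneousCore 𝒜 p).toIdeal)
        (LocalizedModule (Ideal.homogeneousCore 𝒜 p).toIdeal.primeCompl M) +
      LocCoh.depth (F2 𝒜 p) (F2 𝒜 p) := by
  haveI : IsNoetherianRing (AddMonoidAlgebra R ι) := isNoetherianRing_groupAlgebra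
  haveI : Module.Flat (CoR 𝒜) (AddMonoidAlgebra R ι) := flat_coR 𝒜
  have h1 := depth_localized_tensor' R (AddMonoidAlgebra R ι) (PP (ι := ι) p) M p (comap_map p)
  have hF1 : LocCoh.depth (EGA4.FibLocRing R (AddMonoidAlgebra R ι) (PP (ι := ι) p))
      (EGA4.FibLocRing R (AddMonoidAlgebra R ι) (PP (ι := ι) p)) = 0 :=
    depth_eq_zero_of_isField _ (fibLocRing_isField R (AddMonoidAlgebra R ι) (PP (ι := ι) p)
      (by rw [comap_map]))
  rw [hF1, add_zero] at h1
  haveI hc' : (show Ideal (CoR 𝒜) from (Ideal.homogeneousCore 𝒜 p).toIdeal).IsPrime := hc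
  have h2 := depth_localized_tensor' (CoR 𝒜) (AddMonoidAlgebra R ι) (PP (ι := ι) p) (CoM 𝒜 M)
    (show Ideal (CoR 𝒜) from (Ideal.homogeneousCore 𝒜 p).toIdeal) (comap_coact 𝒜 p)
  have h3 : LocCoh.depth (Localization.AtPrime (PP (ι := ι) p))
      (LocalizedModule (PP (ι := ι) p).primeCompl ((AddMonoidAlgebra R ι) ⊗[CoR 𝒜] (CoM 𝒜 M))) =
      LocCoh.depth (Localization.AtPrime (PP (ι := ι) p))
      (LocalizedModule (PP (ι := ι) p).primeCompl ((AddMonoidAlgebra R ι) ⊗[R] M)) :=
    Groth.Agent.Helper2.DepthCM.idealDepth_congr _ (locTwistEquiv 𝒜 M ℳ p)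
  rw [← h1, ← h3, h2]
  rfl


include ℳ in
theorem nontrivial_core_iff :
    Nontrivial (LocalizedModule p.primeCompl M) ↔
      Nontrivial (LocalizedModule (Ideal.homogeneousCore 𝒜 p).toIdeal.primeCompl M) := by
  haveI : IsNoetherianRing (AddMonoidAlgebra R ι) := isNoetherianRing_groupAlgebra
  haveI : Module.Flat (CoR 𝒜) (AddMonoidAlgebra R ι) := flat_coR 𝒜
  have h1 := nontrivial_localized_tensor_iff' R (AddMonoidAlgebra R ι) (PP (ι := ι) p) M p
    (comap_map p)
  haveI hc' : (show Ideal (CoR 𝒜) from (Ideal.homogeneousCore 𝒜 p).toIdeal).IsPrime := hc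
  have h2 := nontrivial_localized_tensor_iff' (CoR 𝒜) (AddMonoidAlgebra R ι) (PP (ι := ι) p)
    (CoM 𝒜 M) (show Ideal (CoR 𝒜) from (Ideal.homogeneousCore 𝒜 p).toIdeal) (comap_coact 𝒜 p)
  rw [← h1, ← (locTwistEquiv 𝒜 M ℳ p).toEquiv.nontrivial_congr, h2]
  rfl

include ℳ in
theorem supportDim_eq_add [hnt : Nontrivial (LocalizedModule p.primeCompl M)] :
    Module.supportDim (Localization.AtPrime p) (LocalizedModule p.primeCompl M) =
      Module.supportDim (Localization.AtPrime (Ideal.homogeneousCore 𝒜 p).toIdeal)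
        (LocalizedModule (Ideal.homogeneousCore 𝒜 p).toIdeal.primeCompl M) +
      ringKrullDim (F2 𝒜 p) := by
  haveI : IsNoetherianRing (AddMonoidAlgebra R ι) := isNoetherianRing_groupAlgebra
  haveI : Module.Flat (CoR 𝒜) (AddMonoidAlgebra R ι) := flat_coR 𝒜
  have h1 := supportDim_localized_tensor' R (AddMonoidAlgebra R ι) (PP (ι := ι) p) M p
    (comap_map p)
  have hF1 : ringKrullDim (EGA4.FibLocRing R (AddMonoidAlgebra R ι) (PP (ι := ι) p)) = 0 := by
    have hf := fibLocRing_isField R (AddMonoidAlgebra R ι) (PP (ι := ι) p) (by rw [comap_map])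
    letI := hf.toField
    exact ringKrullDim_eq_zero_of_field _
  rw [hF1, add_zero] at h1
  haveI hc' : (show Ideal (CoR 𝒜) from (Ideal.homogeneousCore 𝒜 p).toIdeal).IsPrime := hc
  haveI hnt' : Nontrivial (LocalizedModule
      (show Ideal (CoR 𝒜) from (Ideal.homogeneousCore 𝒜 p).toIdeal).primeCompl (CoM 𝒜 M)) :=
    (nontrivial_core_iff 𝒜 M ℳ p).1 hnt
  have h2 := supportDim_localized_tensor' (CoR 𝒜) (AddMonoidAlgebra R ι) (PP (ι := ι) p) (CoM 𝒜 M)
    (show Ideal (CoR 𝒜) from (Ideal.homogeneousCore 𝒜 p).toIdeal) (comap_coact 𝒜 p)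
  have h3 : Module.supportDim (Localization.AtPrime (PP (ι := ι) p))
      (LocalizedModule (PP (ι := ι) p).primeCompl ((AddMonoidAlgebra R ι) ⊗[CoR 𝒜] (CoM 𝒜 M))) =
      Module.supportDim (Localization.AtPrime (PP (ι := ι) p))
      (LocalizedModule (PP (ι := ι) p).primeCompl ((AddMonoidAlgebra R ι) ⊗[R] M)) :=
    Module.supportDim_eq_of_equiv (locTwistEquiv 𝒜 M ℳ p)
  rw [← h1, ← h3, h2]
  rfl

end Main

end Groth.Agent.Helper7.Torus
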