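import Mathlib
import Groth.Prelude.Def_CAlg
import Groth.Prelude.Def_EGA4b
import Groth.Agent.Helper7.TorusF
import Groth.Agent.Helper7.SegOneC
import Groth.Agent.Helper7.CMRing
import Groth.Agent.Helper2.SkFlat
import Groth.Agent.Helper2.CMFields
import Groth.Agent.Helper2.SnFib

/-!
# The fibre of the coaction at an extended prime is Cohen–Macaulay (helper7)
-/

set_option autoImplicit false
set_option linter.unusedSectionVars false
set_option linter.style.haveILetI false
universe u

namespace Groth.Agent.Helper7.Torus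

open DirectSum AddMonoidAlgebra TensorProduct IsLocalRing

variable {ι : Type} [AddCommGroup ι] [DecidableEq ι] [Module.Free ℤ ι] [Module.Finite ℤ ι]
  {R : Type u} [CommRing R] [IsNoetherianRing R]

/-- the fibre local rings of `R → R[ι]` are Cohen–Macaulay -/
theorem cm_fibLocRing_std (Q : Ideal (AddMonoidAlgebra R ι)) [Q.IsPrime] :
    LocCoh.IsCohenMacaulayRing (EGA4.FibLocRing R (AddMonoidAlgebra R ι) Q) := by
  haveI : IsNoetherianRing (AddMonoidAlgebra R ι) := isNoetherianRing_groupAlgebra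
  have e : (Q.comap (algebraMap R (AddMonoidAlgebra R ι))).Fiber (AddMonoidAlgebra R ι)
      ≃ₐ[(Q.comap (algebraMap R (AddMonoidAlgebra R ι))).ResidueField]
      AddMonoidAlgebra (Q.comap (algebraMap R (AddMonoidAlgebra R ι))).ResidueField ι :=
    AddMonoidAlgebra.scalarTensorEquiv R _
  haveI : IsRegularRing
      (AddMonoidAlgebra (Q.comap (algebraMap R (AddMonoidAlgebra R ι))).ResidueField ι) :=
    isRegularRing_addMonoidAlgebra _ ι
  haveI : IsRegularRing
      ((Q.comap (algebraMap R (AddMonoidAlgebra R ι))).Fiber (AddMonoidAlgebra R ι)) :=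
    IsRegularRing.of_ringEquiv e.symm.toRingEquiv
  rw [Groth.Agent.Helper2.SnFib.isCohenMacaulayRing_iff]
  intro k
  exact Groth.Agent.Helper2.SkFlat.fibLocRing_hasSk R (AddMonoidAlgebra R ι) k Q
    (Groth.Agent.Helper2.CMFields.hasSk_of_isRegularRing _ k)


section Transport

variable (𝒜 : ι → AddSubgroup R) [GradedRing 𝒜] (p : Ideal R) [p.IsPrime]

/-- the pullback of the extended prime along the automorphism `σ` -/
noncomputable abbrev PPs : Ideal (AddMonoidAlgebra R ι) :=
  (PP (ι := ι) p).comap (sigma 𝒜 : AddMonoidAlgebra R ι →+* AddMonoidAlgebra R ι)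

theorem comap_PPs : (PPs 𝒜 p).comap (algebraMap R (AddMonoidAlgebra R ι)) =
    (p.homogeneousCore 𝒜).toIdeal := by
  unfold PPs
  rw [Ideal.comap_comap, ← coact_eq_comp]
  exact comap_coact 𝒜 p

/-- the fibre of the coaction at `P` is isomorphic to the fibre of the inclusion at `σ⁻¹ P` -/
theorem nonempty_fibre_equiv :
    Nonempty (EGA4.FibLocRing R (AddMonoidAlgebra R ι) (PPs 𝒜 p) ≃+* F2 𝒜 p) := by
  let eloc : Localization.AtPrime (PPs 𝒜 p) ≃+* Localization.AtPrime (PP (ι := ι) p) :=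
    Localization.localRingEquiv (PPs 𝒜 p) (PP (ι := ι) p) (sigma 𝒜) rfl
  refine ⟨Ideal.quotientEquiv _ _ eloc ?_⟩
  have hcore : (PP (ι := ι) p).comap (algebraMap (CoR 𝒜) (AddMonoidAlgebra R ι)) =
      (p.homogeneousCore 𝒜).toIdeal := comap_coact 𝒜 p
  have h1 : (algebraMap (CoR 𝒜) (Localization.AtPrime (PP (ι := ι) p))) =
      (algebraMap (AddMonoidAlgebra R ι) (Localization.AtPrime (PP (ι := ι) p))).comp
        (coact 𝒜) := rfl
  have h2 : ((eloc : Localization.AtPrime (PPs 𝒜 p) →+* Localization.AtPrime (PP (ι := ι) p))).comp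
      (algebraMap R (Localization.AtPrime (PPs 𝒜 p))) =
      (algebraMap (AddMonoidAlgebra R ι) (Localization.AtPrime (PP (ι := ι) p))).comp
        (coact 𝒜) := by
    ext r
    rw [RingHom.comp_apply, RingHom.comp_apply,
      IsScalarTower.algebraMap_apply R (AddMonoidAlgebra R ι) (Localization.AtPrime (PPs 𝒜 p))]
    show Localization.localRingHom (PPs 𝒜 p) (PP (ι := ι) p)
      (sigma 𝒜 : AddMonoidAlgebra R ι →+* AddMonoidAlgebra R ι) rfl _ = _
    rw [Localization.localRingHom_to_map]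
    congr 1
    exact sigma_algebraMap 𝒜 r
  rw [Ideal.map_map, h2, comap_PPs, hcore, h1]
  rfl


/-- the fibre of the coaction at the extended prime is a Cohen–Macaulay ring -/
theorem cm_F2 : LocCoh.IsCohenMacaulayRing (F2 𝒜 p) := by
  obtain ⟨e⟩ := nonempty_fibre_equiv 𝒜 p
  haveI := cm_fibLocRing_std (PPs 𝒜 p)
  exact Groth.Agent.Helper7.SegOne.cm_of_ringEquiv e

/-- depth equals dimension for the fibre of the coaction at the extended prime -/
theorem depth_F2 [IsLocalRing (F2 𝒜 p)] :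
    ((LocCoh.depth (F2 𝒜 p) (F2 𝒜 p) : ℕ∞) : WithBot ℕ∞) = ringKrullDim (F2 𝒜 p) := by
  have hCM := cm_F2 𝒜 p
  haveI : IsNoetherianRing (F2 𝒜 p) := hCM.toIsNoetherian
  have h1 := (Groth.Agent.Helper7.CMRing.cm_iff (F2 𝒜 p)).1 hCM (maximalIdeal (F2 𝒜 p))
    (IsLocalRing.maximalIdeal.isMaximal _).ne_top
  rw [← IsLocalRing.maximalIdeal_height_eq_ringKrullDim]
  unfold LocCoh.depth
  rw [h1]

end Transport

end Groth.Agent.Helper7.Torus
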