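import Mathlib
import Groth.Prelude.Def_GrLC

/-!
# The quotient of a graded ring by a homogeneous ideal as a graded module (helper7)
-/

set_option autoImplicit false
set_option linter.unusedSectionVars false
universe u

namespace Groth.Agent.Helper7.Torus

open DirectSum

variable {ι : Type} [AddCommGroup ι] [DecidableEq ι] {R : Type u} [CommRing R]
  (𝒜 : ι → AddSubgroup R) [GradedRing 𝒜] (I : HomogeneousIdeal 𝒜)

/-- the restriction of the quotient map to a graded piece -/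
noncomputable def mkPiece (g : ι) : 𝒜 g →+ GrLC.quotGr 𝒜 I g where
  toFun r := ⟨Ideal.Quotient.mk I.toIdeal (r : R), ⟨(r : R), r.2, rfl⟩⟩
  map_zero' := by
    ext
    simp
  map_add' a b := by
    ext
    simp

theorem coe_mkPiece (g : ι) (r : 𝒜 g) :
    ((mkPiece 𝒜 I g r : GrLC.quotGr 𝒜 I g) : R ⧸ I.toIdeal) = Ideal.Quotient.mk I.toIdeal (r : R) :=
  rfl

/-- the decomposition map before passing to the quotient -/
noncomputable def decQ₀ : R →+ ⨁ g, GrLC.quotGr 𝒜 I g :=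
  (DirectSum.map (fun g => mkPiece 𝒜 I g)).comp (DirectSum.decomposeAddEquiv 𝒜).toAddMonoidHom

theorem decQ₀_of_mem {g : ι} {r : R} (hr : r ∈ 𝒜 g) :
    decQ₀ 𝒜 I r = DirectSum.of (fun g => GrLC.quotGr 𝒜 I g) g (mkPiece 𝒜 I g ⟨r, hr⟩) := by
  unfold decQ₀
  rw [AddMonoidHom.comp_apply]
  have h1 : (DirectSum.decomposeAddEquiv 𝒜).toAddMonoidHom r =
      DirectSum.of (fun g => 𝒜 g) g ⟨r, hr⟩ := by
    show DirectSum.decompose 𝒜 r = _
    exact DirectSum.decompose_of_mem 𝒜 hr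
  rw [h1, DirectSum.map_of]

theorem decQ₀_eq_zero {r : R} (hr : r ∈ I.toIdeal) : decQ₀ 𝒜 I r = 0 := by
  unfold decQ₀
  rw [AddMonoidHom.comp_apply]
  ext g
  rw [DirectSum.map_apply, DirectSum.zero_apply]
  show ((mkPiece 𝒜 I g (DirectSum.decompose 𝒜 r g) : GrLC.quotGr 𝒜 I g) : R ⧸ I.toIdeal) = 0
  rw [coe_mkPiece, Ideal.Quotient.eq_zero_iff_mem]
  exact I.isHomogeneous g hr


/-- the decomposition map of the quotient -/
noncomputable def decQ : R ⧸ I.toIdeal →+ ⨁ g, GrLC.quotGr 𝒜 I g :=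
  QuotientAddGroup.lift I.toIdeal.toAddSubgroup (decQ₀ 𝒜 I) (fun _ hr => decQ₀_eq_zero 𝒜 I hr)

theorem decQ_mk (r : R) : decQ 𝒜 I (Ideal.Quotient.mk I.toIdeal r) = decQ₀ 𝒜 I r := rfl

theorem coe_map_mkPiece (x : ⨁ g, 𝒜 g) :
    DirectSum.coeAddMonoidHom (GrLC.quotGr 𝒜 I) (DirectSum.map (fun g => mkPiece 𝒜 I g) x) =
      Ideal.Quotient.mk I.toIdeal (DirectSum.coeAddMonoidHom 𝒜 x) := by
  induction x using DirectSum.induction_on with
  | zero => simp
  | of g r =>
    rw [DirectSum.map_of, DirectSum.coeAddMonoidHom_of, DirectSum.coeAddMonoidHom_of, coe_mkPiece]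
  | add x y hx hy => rw [map_add, map_add, hx, hy, map_add, map_add]

noncomputable instance quotDecomposition : DirectSum.Decomposition (GrLC.quotGr 𝒜 I) :=
  DirectSum.Decomposition.ofAddHom (GrLC.quotGr 𝒜 I) (decQ 𝒜 I)
    (by
      ext x
      obtain ⟨r, rfl⟩ := Ideal.Quotient.mk_surjective x
      rw [AddMonoidHom.comp_apply, decQ_mk]
      unfold decQ₀
      rw [AddMonoidHom.comp_apply, coe_map_mkPiece]
      show Ideal.Quotient.mk I.toIdeal (DirectSum.coeAddMonoidHom 𝒜 (DirectSum.decompose 𝒜 r)) = _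
      rw [AddMonoidHom.id_apply]
      congr 1
      exact (DirectSum.decomposeAddEquiv 𝒜).symm_apply_apply r)
    (by
      apply DirectSum.addHom_ext
      intro g x
      obtain ⟨x, r, hr, rfl⟩ := x
      rw [AddMonoidHom.comp_apply, DirectSum.coeAddMonoidHom_of, AddMonoidHom.id_apply]
      show decQ 𝒜 I (Ideal.Quotient.mk I.toIdeal r) = _
      rw [decQ_mk, decQ₀_of_mem 𝒜 I hr]
      rfl)

instance quotGradedSMul : SetLike.GradedSMul 𝒜 (GrLC.quotGr 𝒜 I) where
  smul_mem := by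
    intro i j a b ha hb
    obtain ⟨r, hr, rfl⟩ := hb
    refine ⟨a * r, SetLike.mul_mem_graded ha hr, ?_⟩
    show Ideal.Quotient.mk I.toIdeal (a * r) = a • Ideal.Quotient.mk I.toIdeal r
    rw [Algebra.smul_def, map_mul]
    rfl

end Groth.Agent.Helper7.Torus
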