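import Mathlib
import Groth.Prelude.Def_CAlg
import Groth.Agent.Helper5.RSD1
import Groth.Agent.Helper7.TorusG
import Groth.Agent.Helper7.TorusH

/-!
# `ht p = ht p* + ht (p/p*)`, and the depth and dimension formulas at a prime and its core (helper7)
-/

set_option autoImplicit false
set_option linter.unusedSectionVars false
set_option linter.style.haveILetI false
universe u

namespace Groth.Agent.Helper7.Torus

open DirectSum AddMonoidAlgebra TensorProduct IsLocalRing

section Quot

variable {R : Type u} [CommRing R]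

/-- the dimension of `(R/I)_p` is the height of `p/I` -/
theorem supportDim_localized_quot (I p : Ideal R) [hp : p.IsPrime] (hIp : I ≤ p) :
    Module.supportDim (Localization.AtPrime p) (LocalizedModule p.primeCompl (R ⧸ I)) =
      ((p.map (Ideal.Quotient.mk I)).height : WithBot ℕ∞) := by
  have hsupp : Module.support R (R ⧸ I) = PrimeSpectrum.zeroLocus (I : Set R) := by
    rw [Module.support_eq_zeroLocus, Ideal.annihilator_quotient]
  have hpM : (⟨p, hp⟩ : PrimeSpectrum R) ∈ Module.support R (R ⧸ I) := by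
    rw [hsupp]
    exact hIp
  rw [Groth.Agent.Helper5.RSD.supportDim_localized_eq_height (R ⧸ I) p hpM]
  let e : Module.support R (R ⧸ I) ≃o PrimeSpectrum (R ⧸ I) :=
    (OrderIso.setCongr _ _ hsupp).trans I.primeSpectrumQuotientOrderIsoZeroLocus.symm
  have hprime : (p.map (Ideal.Quotient.mk I)).IsPrime := by
    apply Ideal.map_isPrime_of_surjective Ideal.Quotient.mk_surjective
    rw [Ideal.mk_ker]
    exact hIp
  have h1 := Order.height_orderIso e ⟨⟨p, hp⟩, hpM⟩
  have h2 : e ⟨⟨p, hp⟩, hpM⟩ = ⟨p.map (Ideal.Quotient.mk I), hprime⟩ := rfl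
  rw [← h1, h2, ← PrimeSpectrum.height_eq_orderHeight]

end Quot


section Final

variable {ι : Type} [AddCommGroup ι] [DecidableEq ι] [Module.Free ℤ ι] [Module.Finite ℤ ι]
  {R : Type u} [CommRing R] [IsNoetherianRing R] (𝒜 : ι → AddSubgroup R) [GradedRing 𝒜]
  (p : Ideal R) [p.IsPrime]

/-- the homogeneous core of a prime is prime (for a finitely generated free grading group) -/
theorem core_isPrime : (Ideal.homogeneousCore 𝒜 p).toIdeal.IsPrime := by
  rw [← comap_coact 𝒜 p]
  exact Ideal.comap_isPrime _ _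

variable [hc : (Ideal.homogeneousCore 𝒜 p).toIdeal.IsPrime]

/-- the dimension of the fibre of the coaction at the extended prime is `ht (p/p*)` -/
theorem ringKrullDim_F2 : ringKrullDim (F2 𝒜 p) =
    ((p.map (Ideal.Quotient.mk (Ideal.homogeneousCore 𝒜 p).toIdeal)).height : WithBot ℕ∞) := by
  have hle : (Ideal.homogeneousCore 𝒜 p).toIdeal ≤ p := Ideal.toIdeal_homogeneousCore_le 𝒜 p
  have h1 := supportDim_localized_quot (Ideal.homogeneousCore 𝒜 p).toIdeal p hle
  have h2 := supportDim_localized_quot (Ideal.homogeneousCore 𝒜 p).toIdeal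
    (Ideal.homogeneousCore 𝒜 p).toIdeal le_rfl
  haveI hnt : Nontrivial (LocalizedModule p.primeCompl (R ⧸ (Ideal.homogeneousCore 𝒜 p).toIdeal)) := by
    rw [← Module.supportDim_ne_bot_iff_nontrivial (Localization.AtPrime p), h1]
    exact WithBot.coe_ne_bot
  have h3 := supportDim_eq_add 𝒜 (R ⧸ (Ideal.homogeneousCore 𝒜 p).toIdeal)
    (GrLC.quotGr 𝒜 (Ideal.homogeneousCore 𝒜 p)) p
  rw [h1, h2, Ideal.map_quotient_self] at h3
  haveI : IsDomain (R ⧸ (Ideal.homogeneousCore 𝒜 p).toIdeal) := Ideal.Quotient.isDomain _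
  rw [Ideal.height_bot] at h3
  rw [h3]
  simp


theorem depth_F2_eq [IsLocalRing (F2 𝒜 p)] : LocCoh.depth (F2 𝒜 p) (F2 𝒜 p) =
    (p.map (Ideal.Quotient.mk (Ideal.homogeneousCore 𝒜 p).toIdeal)).height := by
  have h1 := depth_F2 𝒜 p
  rw [ringKrullDim_F2] at h1
  exact_mod_cast h1

section Mod

variable (M : Type u) [AddCommGroup M] [Module R M] (ℳ : ι → AddSubgroup M)
  [DirectSum.Decomposition ℳ] [SetLike.GradedSMul 𝒜 ℳ] [Module.Finite R M]

include ℳ in
/-- **depth formula**: `depth M_p = depth M_{p*} + ht (p/p*)` -/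
theorem depth_localization_eq (d : ℕ)
    (hd : (p.map (Ideal.Quotient.mk (Ideal.homogeneousCore 𝒜 p).toIdeal)).height = d) :
    LocCoh.depth (Localization.AtPrime p) (LocalizedModule p.primeCompl M) =
      LocCoh.depth (Localization.AtPrime (Ideal.homogeneousCore 𝒜 p).toIdeal)
        (LocalizedModule (Ideal.homogeneousCore 𝒜 p).toIdeal.primeCompl M) + d := by
  haveI : IsNoetherianRing (AddMonoidAlgebra R ι) := isNoetherianRing_groupAlgebra
  haveI : Module.Flat (CoR 𝒜) (AddMonoidAlgebra R ι) := flat_coR 𝒜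
  rw [depth_eq_add 𝒜 M ℳ p, depth_F2_eq, hd]

include ℳ in
/-- **dimension formula**: `dim M_p = dim M_{p*} + ht (p/p*)` -/
theorem supportDim_localization_eq (d : ℕ)
    (hd : (p.map (Ideal.Quotient.mk (Ideal.homogeneousCore 𝒜 p).toIdeal)).height = d)
    (hsupp : Nontrivial (LocalizedModule p.primeCompl M)) :
    Module.supportDim (Localization.AtPrime p) (LocalizedModule p.primeCompl M) =
      Module.supportDim (Localization.AtPrime (Ideal.homogeneousCore 𝒜 p).toIdeal)
        (LocalizedModule (Ideal.homogeneousCore 𝒜 p).toIdeal.primeCompl M) + (d : WithBot ℕ∞) := by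
  rw [supportDim_eq_add 𝒜 M ℳ p, ringKrullDim_F2, hd]
  rfl

end Mod

omit hc in
/-- **height formula**: `ht p = ht p* + ht (p/p*)` -/
theorem height_eq_height_core_add :
    p.height = (p.homogeneousCore 𝒜).toIdeal.height +
      (p.map (Ideal.Quotient.mk (p.homogeneousCore 𝒜).toIdeal)).height := by
  haveI hc : (Ideal.homogeneousCore 𝒜 p).toIdeal.IsPrime := core_isPrime 𝒜 p
  have hloc : ∀ (q : Ideal R) [q.IsPrime],
      Module.supportDim (Localization.AtPrime q) (LocalizedModule q.primeCompl R) =
        (q.height : WithBot ℕ∞) := by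
    intro q _
    have h1 : Module.supportDim (Localization.AtPrime q) (Localization.AtPrime q) =
        ringKrullDim (Localization.AtPrime q) := Module.supportDim_self_eq_ringKrullDim _
    rw [IsLocalization.AtPrime.ringKrullDim_eq_height q] at h1
    exact h1
  haveI hnt : Nontrivial (LocalizedModule p.primeCompl R) :=
    inferInstanceAs (Nontrivial (Localization.AtPrime p))
  have h := supportDim_eq_add 𝒜 R 𝒜 p
  rw [hloc p, hloc (Ideal.homogeneousCore 𝒜 p).toIdeal, ringKrullDim_F2] at h
  exact_mod_cast h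

end Final

end Groth.Agent.Helper7.Torus
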