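import Mathlib
import Groth.Prelude.Def_GrLC2
import Groth.Prelude.Def_EGA4b
import Groth.Agent.Helper7.BassE
import Groth.Agent.Helper7.TorusI

/-!
# Bass numbers, part F: Bass numbers at a prime and at its homogeneous core (helper7)

`μ^n(p, M) = 0` for `n < d` and `μ^n(p, M) = μ^{n-d}(p*, M)` for `n ≥ d = ht(p/p*)`.
-/

set_option autoImplicit false
set_option linter.unusedSectionVars false
set_option linter.style.haveILetI false
universe u

namespace Groth.Agent.Helper7.BassNum

open DirectSum AddMonoidAlgebra TensorProduct IsLocalRing Groth.Agent.Helper7.Torus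

variable {ι : Type} [AddCommGroup ι] [DecidableEq ι] [Module.Free ℤ ι] [Module.Finite ℤ ι]
  {R : Type u} [CommRing R] [IsNoetherianRing R]

section Fib
variable (A B : Type u) [CommRing A] [CommRing B] [Algebra A B]

/-- the local ring of a regular fibre is a regular local ring -/
theorem fibLocRing_isRegularLocalRing [IsNoetherianRing B] (Q : Ideal B) [hQ : Q.IsPrime]
    (hF : IsRegularRing ((Q.comap (algebraMap A B)).Fiber B)) :
    IsRegularLocalRing (EGA4.FibLocRing A B Q) := by
  set p := Q.comap (algebraMap A B) with hp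
  haveI : p.IsPrime := Ideal.comap_isPrime _ _
  let q := PrimeSpectrum.preimageEquivFiber A B ⟨p, inferInstance⟩ ⟨⟨Q, hQ⟩, rfl⟩
  have hq : q.asIdeal.comap (Algebra.TensorProduct.includeRight : B →ₐ[A] p.Fiber B) = Q := by
    have := (PrimeSpectrum.preimageEquivFiber A B ⟨p, inferInstance⟩).left_inv ⟨⟨Q, hQ⟩, rfl⟩
    exact congrArg (fun x => x.1.asIdeal) this
  letI := Localization.AtPrime.algebraOfLiesOver p
    (q.asIdeal.comap (Algebra.TensorProduct.includeRight : B →ₐ[A] p.Fiber B))
  have e := Ideal.Fiber.localizationAlgEquivQuotient p q.asIdeal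
  have h0 : IsRegularLocalRing (Localization.AtPrime q.asIdeal) :=
    hF.isRegularLocalRing_localization q.asIdeal
  have h1 : IsRegularLocalRing (Localization.AtPrime
      (q.asIdeal.comap (Algebra.TensorProduct.includeRight : B →ₐ[A] p.Fiber B)) ⧸
      p.map (algebraMap A (Localization.AtPrime
        (q.asIdeal.comap (Algebra.TensorProduct.includeRight : B →ₐ[A] p.Fiber B))))) :=
    IsRegularLocalRing.of_ringEquiv (R := Localization.AtPrime q.asIdeal) e.toRingEquiv
  have key : ∀ (r : Ideal B) [r.IsPrime], r = Q →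
      IsRegularLocalRing (Localization.AtPrime r ⧸ p.map (algebraMap A (Localization.AtPrime r))) →
      IsRegularLocalRing (Localization.AtPrime Q ⧸ p.map (algebraMap A (Localization.AtPrime Q))) := by
    rintro r _ rfl h
    exact h
  exact key _ hq h1

end Fib

/-- the fibre local rings of `R → R[ι]` are regular local rings -/
theorem fibLocRing_std_isRegularLocalRing (Q : Ideal (AddMonoidAlgebra R ι)) [Q.IsPrime] :
    IsRegularLocalRing (EGA4.FibLocRing R (AddMonoidAlgebra R ι) Q) := by
  haveI : IsNoetherianRing (AddMonoidAlgebra R ι) := isNoetherianRing_groupAlgebra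
  have e : (Q.comap (algebraMap R (AddMonoidAlgebra R ι))).Fiber (AddMonoidAlgebra R ι)
      ≃ₐ[(Q.comap (algebraMap R (AddMonoidAlgebra R ι))).ResidueField]
      AddMonoidAlgebra (Q.comap (algebraMap R (AddMonoidAlgebra R ι))).ResidueField ι :=
    AddMonoidAlgebra.scalarTensorEquiv R _
  haveI : IsRegularRing
      (AddMonoidAlgebra (Q.comap (algebraMap R (AddMonoidAlgebra R ι))).ResidueField ι) :=
    isRegularRing_addMonoidAlgebra _ ι
  have : IsRegularRing
      ((Q.comap (algebraMap R (AddMonoidAlgebra R ι))).Fiber (AddMonoidAlgebra R ι)) :=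
    IsRegularRing.of_ringEquiv e.symm.toRingEquiv
  exact fibLocRing_isRegularLocalRing R (AddMonoidAlgebra R ι) Q this

variable (𝒜 : ι → AddSubgroup R) [GradedRing 𝒜] (p : Ideal R) [p.IsPrime]

/-- the fibre of the coaction at the extended prime is a regular local ring -/
theorem F2_isRegularLocalRing : IsRegularLocalRing (F2 𝒜 p) := by
  obtain ⟨e⟩ := nonempty_fibre_equiv 𝒜 p
  haveI := fibLocRing_std_isRegularLocalRing (PPs 𝒜 p)
  exact IsRegularLocalRing.of_ringEquiv e

variable [hc : (Ideal.homogeneousCore 𝒜 p).toIdeal.IsPrime]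
  (M : Type u) [AddCommGroup M] [Module R M] (ℳ : ι → AddSubgroup M)
  [DirectSum.Decomposition ℳ] [SetLike.GradedSMul 𝒜 ℳ]

include ℳ in
/-- **Bass numbers at `p` and at its homogeneous core `p*`** -/
theorem bassNum_eq (d : ℕ)
    (hd : (p.map (Ideal.Quotient.mk (Ideal.homogeneousCore 𝒜 p).toIdeal)).height = d) (n : ℕ) :
    GrLC.bassNum p M n =
      if n < d then 0 else GrLC.bassNum (Ideal.homogeneousCore 𝒜 p).toIdeal M (n - d) := by
  haveI : IsNoetherianRing (AddMonoidAlgebra R ι) := isNoetherianRing_groupAlgebra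
  haveI : Module.Flat (CoR 𝒜) (AddMonoidAlgebra R ι) := flat_coR 𝒜
  have hF1 : ringKrullDim (EGA4.FibLocRing R (AddMonoidAlgebra R ι) (PP (ι := ι) p)) = (0 : ℕ) := by
    have hf := fibLocRing_isField R (AddMonoidAlgebra R ι) (PP (ι := ι) p) (by rw [comap_map])
    letI := hf.toField
    rw [ringKrullDim_eq_zero_of_field]
    rfl
  have h1 := bassNumLocal_localized_tensor' R (AddMonoidAlgebra R ι) (PP (ι := ι) p) M p
    (comap_map p) 0 (fibLocRing_std_isRegularLocalRing _) hF1 n
  rw [if_neg (Nat.not_lt_zero n), Nat.sub_zero] at h1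
  haveI hc' : (show Ideal (CoR 𝒜) from (Ideal.homogeneousCore 𝒜 p).toIdeal).IsPrime := hc
  have hF2 : ringKrullDim (F2 𝒜 p) = d := by
    rw [ringKrullDim_F2, hd]
    rfl
  have h2 := bassNumLocal_localized_tensor' (CoR 𝒜) (AddMonoidAlgebra R ι) (PP (ι := ι) p)
    (CoM 𝒜 M) (show Ideal (CoR 𝒜) from (Ideal.homogeneousCore 𝒜 p).toIdeal) (comap_coact 𝒜 p)
    d (F2_isRegularLocalRing 𝒜 p) hF2 n
  have h3 := bassNumLocal_congr (R := Localization.AtPrime (PP (ι := ι) p))
    (M := LocalizedModule (PP (ι := ι) p).primeCompl ((AddMonoidAlgebra R ι) ⊗[CoR 𝒜] (CoM 𝒜 M)))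
    (M' := LocalizedModule (PP (ι := ι) p).primeCompl ((AddMonoidAlgebra R ι) ⊗[R] M))
    (locTwistEquiv 𝒜 M ℳ p) n
  rw [← h1, ← h3, h2]
  rfl

end Groth.Agent.Helper7.BassNum
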