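import Mathlib
import Groth.Prelude.Def_GrLC2
import Groth.Prelude.Def_EGA4b
import Groth.Agent.Helper7.BassF

/-!
# Bass numbers, part G: the `ℤ`-graded case, `ht(p/p*) = 1` for a non-homogeneous prime (helper7)
-/

set_option autoImplicit false
set_option linter.unusedSectionVars false
set_option linter.style.haveILetI false
universe u

namespace Groth.Agent.Helper7.BassNum

open DirectSum AddMonoidAlgebra TensorProduct IsLocalRing Groth.Agent.Helper7.Torus

/-- the Laurent polynomial ring over a field has dimension at most one -/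
theorem ringKrullDim_laurent_le (K : Type u) [Field K] :
    ringKrullDim (AddMonoidAlgebra K ℤ) ≤ 1 := by
  haveI : Ring.DimensionLEOne (Polynomial K) := inferInstance
  have hM : Submonoid.powers (Polynomial.X : Polynomial K) ≤ nonZeroDivisors (Polynomial K) := by
    rintro _ ⟨n, rfl⟩
    exact mem_nonZeroDivisors_of_ne_zero (pow_ne_zero n Polynomial.X_ne_zero)
  haveI : Ring.DimensionLEOne (LaurentPolynomial K) :=
    Ring.DimensionLEOne.localization (R := Polynomial K) (LaurentPolynomial K) hM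
  have h : Ring.KrullDimLE 1 (LaurentPolynomial K) := inferInstance
  exact Ring.krullDimLE_iff.1 h

section Fib
variable (A B : Type u) [CommRing A] [CommRing B] [Algebra A B]

/-- the dimension of a fibre local ring is at most the dimension of the fibre -/
theorem ringKrullDim_fibLocRing_le (Q : Ideal B) [hQ : Q.IsPrime] :
    ringKrullDim (EGA4.FibLocRing A B Q) ≤ ringKrullDim ((Q.comap (algebraMap A B)).Fiber B) := by
  set p := Q.comap (algebraMap A B) with hp
  haveI : p.IsPrime := Ideal.comap_isPrime _ _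
  let q := PrimeSpectrum.preimageEquivFiber A B ⟨p, inferInstance⟩ ⟨⟨Q, hQ⟩, rfl⟩
  have hq : q.asIdeal.comap (Algebra.TensorProduct.includeRight : B →ₐ[A] p.Fiber B) = Q := by
    have := (PrimeSpectrum.preimageEquivFiber A B ⟨p, inferInstance⟩).left_inv ⟨⟨Q, hQ⟩, rfl⟩
    exact congrArg (fun x => x.1.asIdeal) this
  letI := Localization.AtPrime.algebraOfLiesOver p
    (q.asIdeal.comap (Algebra.TensorProduct.includeRight : B →ₐ[A] p.Fiber B))
  have e := Ideal.Fiber.localizationAlgEquivQuotient p q.asIdeal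
  have h0 : ringKrullDim (Localization.AtPrime q.asIdeal) ≤ ringKrullDim (p.Fiber B) := by
    rw [IsLocalization.AtPrime.ringKrullDim_eq_height q.asIdeal (Localization.AtPrime q.asIdeal)]
    exact Ideal.height_le_ringKrullDim_of_ne_top q.isPrime.ne_top
  have h1 : ringKrullDim (Localization.AtPrime
      (q.asIdeal.comap (Algebra.TensorProduct.includeRight : B →ₐ[A] p.Fiber B)) ⧸
      p.map (algebraMap A (Localization.AtPrime
        (q.asIdeal.comap (Algebra.TensorProduct.includeRight : B →ₐ[A] p.Fiber B))))) ≤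
      ringKrullDim (p.Fiber B) := by
    rw [← ringKrullDim_eq_of_ringEquiv e.toRingEquiv]
    exact h0
  have key : ∀ (r : Ideal B) [r.IsPrime], r = Q →
      ringKrullDim (Localization.AtPrime r ⧸ p.map (algebraMap A (Localization.AtPrime r))) ≤
        ringKrullDim (p.Fiber B) →
      ringKrullDim (Localization.AtPrime Q ⧸ p.map (algebraMap A (Localization.AtPrime Q))) ≤
        ringKrullDim (p.Fiber B) := by
    rintro r _ rfl h
    exact h
  exact key _ hq h1

end Fib

variable {R : Type u} [CommRing R] [IsNoetherianRing R] (𝒜 : ℤ → AddSubgroup R) [GradedRing 𝒜]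
  (p : Ideal R) [p.IsPrime] [hc : (Ideal.homogeneousCore 𝒜 p).toIdeal.IsPrime]

/-- in a `ℤ`-graded ring, `ht(p/p*) ≤ 1` -/
theorem height_map_core_le_one :
    (p.map (Ideal.Quotient.mk (Ideal.homogeneousCore 𝒜 p).toIdeal)).height ≤ 1 := by
  have h1 := ringKrullDim_F2 𝒜 p
  obtain ⟨e⟩ := nonempty_fibre_equiv 𝒜 p
  rw [← ringKrullDim_eq_of_ringEquiv e] at h1
  have h2 := ringKrullDim_fibLocRing_le R (AddMonoidAlgebra R ℤ) (PPs 𝒜 p)
  have e' : ((PPs 𝒜 p).comap (algebraMap R (AddMonoidAlgebra R ℤ))).Fiber (AddMonoidAlgebra R ℤ)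
      ≃ₐ[((PPs 𝒜 p).comap (algebraMap R (AddMonoidAlgebra R ℤ))).ResidueField]
      AddMonoidAlgebra ((PPs 𝒜 p).comap (algebraMap R (AddMonoidAlgebra R ℤ))).ResidueField ℤ :=
    AddMonoidAlgebra.scalarTensorEquiv R _
  rw [ringKrullDim_eq_of_ringEquiv e'.toRingEquiv] at h2
  have h3 := h2.trans (ringKrullDim_laurent_le _)
  rw [h1] at h3
  exact_mod_cast h3

/-- in a `ℤ`-graded ring, `ht(p/p*) = 1` for a non-homogeneous prime `p` -/
theorem height_map_core_eq_one (hp : ¬ Ideal.IsHomogeneous 𝒜 p) :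
    (p.map (Ideal.Quotient.mk (Ideal.homogeneousCore 𝒜 p).toIdeal)).height = 1 := by
  apply le_antisymm (height_map_core_le_one 𝒜 p)
  have hle : (Ideal.homogeneousCore 𝒜 p).toIdeal ≤ p := Ideal.toIdeal_homogeneousCore_le 𝒜 p
  haveI : IsDomain (R ⧸ (Ideal.homogeneousCore 𝒜 p).toIdeal) := Ideal.Quotient.isDomain _
  haveI hprime : (p.map (Ideal.Quotient.mk (Ideal.homogeneousCore 𝒜 p).toIdeal)).IsPrime :=
    Ideal.map_isPrime_of_surjective Ideal.Quotient.mk_surjective (by rwa [Ideal.mk_ker])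
  have hne : p.map (Ideal.Quotient.mk (Ideal.homogeneousCore 𝒜 p).toIdeal) ≠ ⊥ := by
    intro h0
    apply hp
    have h1 : p ≤ (Ideal.homogeneousCore 𝒜 p).toIdeal := by
      rw [← Ideal.mk_ker (I := (Ideal.homogeneousCore 𝒜 p).toIdeal)]
      exact (Ideal.map_eq_bot_iff_le_ker _).1 h0
    have h2 : (Ideal.homogeneousCore 𝒜 p).toIdeal = p := le_antisymm hle h1
    rw [← h2]
    exact (Ideal.homogeneousCore 𝒜 p).isHomogeneous
  by_contra hlt
  push Not at hlt
  have h0 : (p.map (Ideal.Quotient.mk (Ideal.homogeneousCore 𝒜 p).toIdeal)).height = 0 :=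
    Order.lt_one_iff.1 hlt
  exact hne (Ideal.height_eq_zero_iff_eq_bot.1 h0)

end Groth.Agent.Helper7.BassNum
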