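import Mathlib
import Groth.Prelude.Def_GrLC
import Groth.Agent.Helper6.GrMod
import Groth.Agent.Helper6.GrExt

/-!
# Finitely generated torsion graded modules over a positively graded Noetherian ring
-/

namespace Groth.Agent.Helper7.GrFinA

open DirectSum Groth.Agent.Helper6.GrMod

universe u

section Deg0

variable {ι : Type} [AddCommGroup ι] [DecidableEq ι] {R : Type u} [CommRing R]
  (𝒜 : ι → AddSubgroup R) [GradedRing 𝒜]

/-- the degree-zero component of a product with a degree-zero element -/
theorem decompose_mul_zero (r : R) {c : R} (hc : c ∈ 𝒜 0) :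
    (decompose 𝒜 (r * c) 0 : R) = (decompose 𝒜 r 0 : R) * c := by
  have h := decompose_smul_right 𝒜 𝒜 hc r 0
  rw [zero_add] at h
  exact h

theorem mem_of_mem_map (J : Ideal (GrLC.deg0 𝒜)) (x : GrLC.deg0 𝒜)
    (hx : (x : R) ∈ Ideal.map (GrLC.deg0 𝒜).subtype J) : x ∈ J := by
  have key : ∀ y ∈ Ideal.map (GrLC.deg0 𝒜).subtype J, ∀ r : R,
      (⟨(decompose 𝒜 (r * y) 0 : R), SetLike.coe_mem _⟩ : GrLC.deg0 𝒜) ∈ J := by
    intro y hy
    unfold Ideal.map at hy
    induction hy using Submodule.span_induction with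
    | mem y hy =>
      obtain ⟨c, hc, rfl⟩ := hy
      intro r
      have h1 : (decompose 𝒜 (r * (c : R)) 0 : R) = (decompose 𝒜 r 0 : R) * c :=
        decompose_mul_zero 𝒜 r c.2
      have h2 : (⟨(decompose 𝒜 (r * (GrLC.deg0 𝒜).subtype c) 0 : R), SetLike.coe_mem _⟩ :
          GrLC.deg0 𝒜) = (⟨(decompose 𝒜 r 0 : R), SetLike.coe_mem _⟩ : GrLC.deg0 𝒜) * c :=
        Subtype.ext h1
      rw [h2]
      exact J.mul_mem_left _ hc
    | zero =>
      intro r
      have : (⟨(decompose 𝒜 (r * 0) 0 : R), SetLike.coe_mem _⟩ : GrLC.deg0 𝒜) = 0 :=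
        Subtype.ext (by simp)
      rw [this]
      exact zero_mem _
    | add y z _ _ hy hz =>
      intro r
      have : (⟨(decompose 𝒜 (r * (y + z)) 0 : R), SetLike.coe_mem _⟩ : GrLC.deg0 𝒜) =
          ⟨(decompose 𝒜 (r * y) 0 : R), SetLike.coe_mem _⟩ +
            ⟨(decompose 𝒜 (r * z) 0 : R), SetLike.coe_mem _⟩ :=
        Subtype.ext (by
          show (decompose 𝒜 (r * (y + z)) 0 : R) =
            (decompose 𝒜 (r * y) 0 : R) + (decompose 𝒜 (r * z) 0 : R)
          rw [mul_add, decompose_add, DirectSum.add_apply, AddSubgroup.coe_add])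
      rw [this]
      exact add_mem (hy r) (hz r)
    | smul s y _ hy =>
      intro r
      have : r * (s • y) = (r * s) * y := by rw [smul_eq_mul, mul_assoc]
      simp only [this]
      exact hy (r * s)
  have h1 := key _ hx 1
  have h2 : (⟨(decompose 𝒜 (1 * (x : R)) 0 : R), SetLike.coe_mem _⟩ : GrLC.deg0 𝒜) = x :=
    Subtype.ext (by rw [one_mul]; exact decompose_of_mem_same 𝒜 x.2)
  rwa [h2] at h1

instance isNoetherianRing_deg0 [IsNoetherianRing R] : IsNoetherianRing (GrLC.deg0 𝒜) := by
  rw [isNoetherianRing_iff, isNoetherian_iff']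
  let f : Ideal (GrLC.deg0 𝒜) ↪o Ideal R :=
    { toFun := fun J => Ideal.map (GrLC.deg0 𝒜).subtype J
      inj' := by
        intro I J h
        apply le_antisymm
        · intro x hx
          exact mem_of_mem_map 𝒜 J x (by
            have : (x : R) ∈ Ideal.map (GrLC.deg0 𝒜).subtype I := Ideal.mem_map_of_mem _ hx
            simp only at h
            rwa [h] at this)
        · intro x hx
          exact mem_of_mem_map 𝒜 I x (by
            have : (x : R) ∈ Ideal.map (GrLC.deg0 𝒜).subtype J := Ideal.mem_map_of_mem _ hx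
            simp only at h
            rwa [← h] at this)
      map_rel_iff' := by
        intro I J
        constructor
        · intro h x hx
          exact mem_of_mem_map 𝒜 J x (h (Ideal.mem_map_of_mem _ hx))
        · intro h
          exact Ideal.map_mono h }
  have hR : WellFoundedGT (Ideal R) := (isNoetherian_iff' (R := R) (M := R)).mp inferInstance
  exact OrderEmbedding.wellFoundedGT f

end Deg0

section Tors

variable {R : Type u} [CommRing R] (𝒜 : ℤ → AddSubgroup R) [GradedRing 𝒜]
  (hpos : ∀ n : ℤ, n < 0 → 𝒜 n = ⊥) (a : HomogeneousIdeal 𝒜)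
  (ha : a.toIdeal = Ideal.span (⋃ n ∈ Set.Ioi (0 : ℤ), (𝒜 n : Set R)))

include hpos ha in
/-- every element is congruent to its degree-zero component modulo the irrelevant ideal -/
theorem sub_decompose_zero_mem (r : R) : r - (decompose 𝒜 r 0 : R) ∈ a.toIdeal := by
  classical
  have h1 : r = ∑ i ∈ (decompose 𝒜 r).support, (decompose 𝒜 r i : R) :=
    (DirectSum.sum_support_decompose 𝒜 r).symm
  have key : ∀ i : ℤ, i ≠ 0 → (decompose 𝒜 r i : R) ∈ a.toIdeal := by
    intro i hi
    rcases lt_or_gt_of_ne hi with h | h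
    · have h1 : (decompose 𝒜 r i : R) ∈ 𝒜 i := SetLike.coe_mem _
      have h2 : (decompose 𝒜 r i : R) ∈ (⊥ : AddSubgroup R) := (hpos i h) ▸ h1
      rw [AddSubgroup.mem_bot] at h2
      rw [h2]
      exact zero_mem _
    · rw [ha]
      exact Ideal.subset_span (Set.mem_biUnion (x := i) h (SetLike.coe_mem _))
  by_cases h0 : (0 : ℤ) ∈ (decompose 𝒜 r).support
  · rw [← Finset.add_sum_erase _ _ h0] at h1
    have : r - (decompose 𝒜 r 0 : R) =
        ∑ i ∈ (decompose 𝒜 r).support.erase 0, (decompose 𝒜 r i : R) := by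
      rw [sub_eq_iff_eq_add, add_comm]
      exact h1
    rw [this]
    exact Ideal.sum_mem _ (fun i hi => key i (Finset.ne_of_mem_erase hi))
  · rw [DFinsupp.notMem_support_iff] at h0
    rw [h0, ZeroMemClass.coe_zero, sub_zero, h1]
    refine Ideal.sum_mem _ (fun i hi => key i ?_)
    rintro rfl
    exact (DFinsupp.mem_support_iff.mp hi) h0

variable (N : Type u) [AddCommGroup N] [Module R N]

include hpos ha in
/-- a finite module killed by the irrelevant ideal is finite over the degree-zero subring -/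
theorem finite_deg0_of_smul_eq_zero [Module.Finite R N] (h : ∀ r ∈ a.toIdeal, ∀ y : N, r • y = 0) :
    Module.Finite (GrLC.deg0 𝒜) N := by
  obtain ⟨S, hS⟩ := (Module.finite_def (R := R) (M := N)).mp inferInstance
  refine ⟨⟨S, ?_⟩⟩
  rw [eq_top_iff]
  intro y _
  have hy : y ∈ Submodule.span R (S : Set N) := by rw [hS]; trivial
  induction hy using Submodule.span_induction with
  | mem y hy => exact Submodule.subset_span hy
  | zero => exact zero_mem _
  | add y z _ _ hy hz => exact add_mem (hy trivial) (hz trivial)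
  | smul r y _ hy =>
    have h1 : r • y = (⟨(decompose 𝒜 r 0 : R), SetLike.coe_mem _⟩ : GrLC.deg0 𝒜) • y := by
      have h2 := h _ (sub_decompose_zero_mem 𝒜 hpos a ha r) y
      rw [sub_smul, sub_eq_zero] at h2
      exact h2
    rw [h1]
    exact Submodule.smul_mem _ _ (hy trivial)

include hpos ha in
/-- a finite module killed by a power of the irrelevant ideal is finite over the degree-zero
subring -/
theorem finite_deg0_of_pow_smul_eq_zero [IsNoetherianRing R] : ∀ (k : ℕ) (N : Type u)
    [AddCommGroup N] [Module R N] [Module.Finite R N],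
    (∀ r ∈ a.toIdeal ^ k, ∀ y : N, r • y = 0) → Module.Finite (GrLC.deg0 𝒜) N := by
  intro k
  induction k with
  | zero =>
    intro N _ _ _ h
    have : Subsingleton N := ⟨fun x y => by
      have hx := h 1 (by rw [pow_zero, Ideal.one_eq_top]; trivial) x
      have hy := h 1 (by rw [pow_zero, Ideal.one_eq_top]; trivial) y
      rw [one_smul] at hx hy
      rw [hx, hy]⟩
    infer_instance
  | succ k ih =>
    intro N _ _ _ h
    let N' : Submodule R N := a.toIdeal • ⊤
    have hN' : Module.Finite (GrLC.deg0 𝒜) ↥N' := by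
      apply ih
      intro r hr y
      apply Subtype.ext
      rw [Submodule.coe_smul, ZeroMemClass.coe_zero]
      have hy := y.2
      refine Submodule.smul_induction_on hy (fun s hs z _ => ?_) (fun z w hz hw => ?_)
      · rw [← mul_smul]
        exact h _ (by rw [pow_succ]; exact Ideal.mul_mem_mul hr hs) z
      · rw [smul_add, hz, hw, add_zero]
    have hQ : Module.Finite (GrLC.deg0 𝒜) (N ⧸ N') := by
      apply finite_deg0_of_smul_eq_zero 𝒜 hpos a ha
      intro r hr y
      obtain ⟨z, rfl⟩ := N'.mkQ_surjective y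
      rw [← map_smul, Submodule.mkQ_apply, Submodule.Quotient.mk_eq_zero]
      exact Submodule.smul_mem_smul hr trivial
    let f : N →ₗ[GrLC.deg0 𝒜] (N ⧸ N') := N'.mkQ.restrictScalars (GrLC.deg0 𝒜)
    have h1 : ((⊤ : Submodule (GrLC.deg0 𝒜) N).map f).FG := by
      have : (⊤ : Submodule (GrLC.deg0 𝒜) N).map f = ⊤ := by
        rw [Submodule.map_top, LinearMap.range_eq_top]
        exact N'.mkQ_surjective
      rw [this]
      exact Module.Finite.fg_top
    have h2 : ((⊤ : Submodule (GrLC.deg0 𝒜) N) ⊓ LinearMap.ker f).FG := by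
      rw [top_inf_eq]
      have h3 : LinearMap.ker f = N'.restrictScalars (GrLC.deg0 𝒜) := by
        ext y
        rw [LinearMap.mem_ker, Submodule.restrictScalars_mem]
        exact Submodule.Quotient.mk_eq_zero N'
      rw [h3]
      have h4 : Module.Finite (GrLC.deg0 𝒜) ↥(N'.restrictScalars (GrLC.deg0 𝒜)) := hN'
      exact (Submodule.fg_top _).mp h4.fg_top
    exact ⟨Submodule.fg_of_fg_map_of_fg_inf_ker f h1 h2⟩

include hpos ha in
/-- a finite torsion module is finite over the degree-zero subring -/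
theorem finite_deg0_of_torsion [IsNoetherianRing R] [Module.Finite R N]
    (hN : ∀ y : N, y ∈ GrLC.gam a.toIdeal N) : Module.Finite (GrLC.deg0 𝒜) N := by
  classical
  obtain ⟨S, hS⟩ := (Module.finite_def (R := R) (M := N)).mp inferInstance
  have hk : ∀ s : N, ∃ k : ℕ, ∀ r ∈ a.toIdeal ^ k, r • s = 0 := fun s => hN s
  choose k hk using hk
  apply finite_deg0_of_pow_smul_eq_zero 𝒜 hpos a ha (S.sup k) N
  intro r hr y
  have hy : y ∈ Submodule.span R (S : Set N) := by rw [hS]; trivial
  induction hy using Submodule.span_induction with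
  | mem y hy => exact hk y r (Ideal.pow_le_pow_right (Finset.le_sup (f := k) hy) hr)
  | zero => exact smul_zero _
  | add y z _ _ hy hz => rw [smul_add, hy, hz, add_zero]
  | smul s y _ hy => rw [smul_comm, hy, smul_zero]

end Tors

section Graded

variable {R : Type u} [CommRing R] (𝒜 : ℤ → AddSubgroup R) [GradedRing 𝒜]
  {N : Type u} [AddCommGroup N] [Module R N] (𝒩 : ℤ → AddSubgroup N) [Decomposition 𝒩]
  [SetLike.GradedSMul 𝒜 𝒩]

/-- projection to a graded piece as a map linear over the degree-zero subring -/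
noncomputable def projn (n : ℤ) : N →ₗ[GrLC.deg0 𝒜] N where
  toFun y := (decompose 𝒩 y n : N)
  map_add' y z := by rw [decompose_add, DirectSum.add_apply, AddSubgroup.coe_add]
  map_smul' c y := by
    have h := decompose_smul_homog 𝒜 𝒩 (c := (c : R)) c.2 y n
    rw [zero_add] at h
    exact h

theorem projn_apply (n : ℤ) (y : N) : projn 𝒜 𝒩 n y = (decompose 𝒩 y n : N) := rfl

/-- a graded module finite over the degree-zero subring is bounded above -/
theorem bounded_above_of_finite_deg0 [Module.Finite (GrLC.deg0 𝒜) N] :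
    ∃ n₀ : ℤ, ∀ n, n₀ ≤ n → 𝒩 n = ⊥ := by
  classical
  obtain ⟨S, hS⟩ := (Module.finite_def (R := GrLC.deg0 𝒜) (M := N)).mp inferInstance
  let T : Finset ℤ := S.biUnion (fun s => (decompose 𝒩 s).support)
  obtain ⟨D, hD⟩ : ∃ D : ℤ, ∀ t ∈ T, t < D := by
    by_cases hT : T.Nonempty
    · exact ⟨T.max' hT + 1, fun t ht => by have := T.le_max' t ht; omega⟩
    · exact ⟨0, fun t ht => absurd ⟨t, ht⟩ hT⟩
  refine ⟨D, fun n hn => ?_⟩
  rw [eq_bot_iff]
  intro y hy
  rw [AddSubgroup.mem_bot]
  have h1 : projn 𝒜 𝒩 n y = y := decompose_of_mem_same 𝒩 hy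
  have h2 : ∀ z ∈ Submodule.span (GrLC.deg0 𝒜) (S : Set N), projn 𝒜 𝒩 n z = 0 := by
    intro z hz
    induction hz using Submodule.span_induction with
    | mem z hz =>
      rw [projn_apply]
      by_contra hne
      have : n ∈ T := Finset.mem_biUnion.mpr ⟨z, hz, by
        rw [DFinsupp.mem_support_iff]
        intro h0
        exact hne (by rw [h0, ZeroMemClass.coe_zero])⟩
      have := hD n this
      omega
    | zero => exact map_zero _
    | add z w _ _ hz hw => rw [map_add, hz, hw, add_zero]
    | smul c z _ hz => rw [map_smul, hz, smul_zero]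
  rw [← h1]
  exact h2 y (by rw [hS]; trivial)

/-- the graded pieces of a graded module finite over the degree-zero subring are finite -/
theorem comp_fg_of_finite_deg0 [Module.Finite (GrLC.deg0 𝒜) N] (n : ℤ) :
    (GrLC.comp 𝒜 𝒩 n).FG := by
  have h1 : GrLC.comp 𝒜 𝒩 n = LinearMap.range (projn 𝒜 𝒩 n) := by
    ext y
    constructor
    · intro hy
      exact ⟨y, decompose_of_mem_same 𝒩 hy⟩
    · rintro ⟨z, rfl⟩
      exact (decompose 𝒩 z n).2
  rw [h1, LinearMap.range_eq_map]
  exact Submodule.FG.map _ Module.Finite.fg_top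

end Graded

end Groth.Agent.Helper7.GrFinA
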