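import Mathlib
import Groth.Prelude.Def_GrLC
import Groth.Agent.Helper6.GrMod

/-!
# Graded Artinian modules over a nonnegatively graded ring: the pieces are Artinian over `R_0` and
vanish in large degrees
-/

set_option autoImplicit false
set_option linter.unusedSectionVars false

namespace Groth.Agent.Helper7.GrArt

open DirectSum Groth.Agent.Helper6.GrMod

universe u

variable {R : Type u} [CommRing R] (𝒜 : ℤ → AddSubgroup R) [GradedRing 𝒜]
  (hpos : ∀ n : ℤ, n < 0 → 𝒜 n = ⊥)
  {H : Type u} [AddCommGroup H] [Module R H] (ℋ : ℤ → AddSubgroup H) [Decomposition ℋ]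
  [SetLike.GradedSMul 𝒜 ℋ]

include hpos in
/-- the component of degree `d'` of `s • y`, when `y` has no components below `e` and `d' ≤ e` -/
theorem decompose_smul_low (e : ℤ) (y : H) (hy : ∀ d' : ℤ, d' < e → (decompose ℋ y d' : H) = 0)
    (s : R) (d' : ℤ) (hd' : d' ≤ e) :
    (decompose ℋ (s • y) d' : H) =
      if d' = e then (decompose 𝒜 s 0 : R) • (decompose ℋ y e : H) else 0 := by
  classical
  have hz : ∀ j : ℤ, j < 0 → ∀ z ∈ 𝒜 j, z = 0 := fun j hj z hz => by
    rw [hpos j hj] at hz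
    exact AddSubgroup.mem_bot.mp hz
  have hsum : s • y = ∑ e' ∈ (decompose ℋ y).support, s • (decompose ℋ y e' : H) := by
    conv_lhs => rw [← DirectSum.sum_support_decompose ℋ y]
    rw [Finset.smul_sum]
  rw [hsum, decompose_sum, DFinsupp.finsetSum_apply, AddSubmonoidClass.coe_finsetSum]
  have hterm : ∀ e' : ℤ, (decompose ℋ (s • (decompose ℋ y e' : H)) d' : H) =
      if e' = e ∧ d' = e then (decompose 𝒜 s 0 : R) • (decompose ℋ y e : H) else 0 := by
    intro e'
    have h := decompose_smul_right 𝒜 ℋ (SetLike.coe_mem (decompose ℋ y e')) s (d' - e')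
    rw [sub_add_cancel] at h
    rw [h]
    by_cases he' : e' < e
    · rw [hy e' he', smul_zero, if_neg]
      rintro ⟨h1, -⟩
      omega
    · rcases eq_or_lt_of_le (not_lt.mp he') with h1 | h1
      · subst h1
        rcases eq_or_lt_of_le hd' with h2 | h2
        · subst h2
          rw [sub_self, if_pos ⟨rfl, rfl⟩]
        · have hneg : d' - e < 0 := by omega
          have h3 : (decompose 𝒜 s (d' - e) : R) = 0 := hz _ hneg _ (SetLike.coe_mem _)
          rw [h3, zero_smul, if_neg]
          rintro ⟨-, h4⟩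
          omega
      · have hneg : d' - e' < 0 := by omega
        have h3 : (decompose 𝒜 s (d' - e') : R) = 0 := hz _ hneg _ (SetLike.coe_mem _)
        rw [h3, zero_smul, if_neg]
        rintro ⟨h4, -⟩
        omega
  simp only [hterm]
  by_cases hde : d' = e
  · subst hde
    simp only [and_true, if_true]
    rw [Finset.sum_ite_eq']
    split_ifs with hmem
    · rfl
    · rw [DFinsupp.mem_support_toFun, not_not] at hmem
      rw [hmem, ZeroMemClass.coe_zero, smul_zero]
  · simp only [hde, and_false, if_false]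
    exact Finset.sum_const_zero

/-- the `R`-submodule of elements with no components below `e` and component of degree `e` in a given
`R_0`-submodule -/
def low (e : ℤ) (U : Submodule (GrLC.deg0 𝒜) H) : Submodule R H where
  carrier := {y | (∀ d' : ℤ, d' < e → (decompose ℋ y d' : H) = 0) ∧ (decompose ℋ y e : H) ∈ U}
  zero_mem' := by
    refine ⟨fun d' _ => ?_, ?_⟩
    · rw [decompose_zero, DirectSum.zero_apply, ZeroMemClass.coe_zero]
    · rw [decompose_zero, DirectSum.zero_apply, ZeroMemClass.coe_zero]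
      exact U.zero_mem
  add_mem' := by
    rintro x y ⟨hx1, hx2⟩ ⟨hy1, hy2⟩
    refine ⟨fun d' hd' => ?_, ?_⟩
    · rw [decompose_add, DirectSum.add_apply, AddSubgroup.coe_add, hx1 d' hd', hy1 d' hd', add_zero]
    · rw [decompose_add, DirectSum.add_apply, AddSubgroup.coe_add]
      exact U.add_mem hx2 hy2
  smul_mem' := by
    rintro s y ⟨hy1, hy2⟩
    refine ⟨fun d' hd' => ?_, ?_⟩
    · rw [decompose_smul_low 𝒜 hpos ℋ e y hy1 s d' hd'.le, if_neg hd'.ne]
    · rw [decompose_smul_low 𝒜 hpos ℋ e y hy1 s e le_rfl, if_pos rfl]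
      exact U.smul_mem ⟨(decompose 𝒜 s 0 : R), SetLike.coe_mem _⟩ hy2

theorem mem_low {e : ℤ} {U : Submodule (GrLC.deg0 𝒜) H} {y : H} :
    y ∈ low 𝒜 hpos ℋ e U ↔
      (∀ d' : ℤ, d' < e → (decompose ℋ y d' : H) = 0) ∧ (decompose ℋ y e : H) ∈ U := Iff.rfl

/-- the tail submodules -/
def tail (e : ℤ) : Submodule R H := low 𝒜 hpos ℋ e ⊤

theorem tail_antitone : Antitone (tail 𝒜 hpos ℋ) := by
  intro e e' hee' y hy
  refine ⟨fun d' hd' => ?_, trivial⟩
  exact hy.1 d' (lt_of_lt_of_le hd' hee')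

include hpos in
/-- a graded Artinian module over a nonnegatively graded ring vanishes in large degrees -/
theorem exists_bound [IsArtinian R H] : ∃ D : ℤ, ∀ d : ℤ, D ≤ d → ℋ d = ⊥ := by
  classical
  let f : ℕ →o (Submodule R H)ᵒᵈ :=
    ⟨fun n => OrderDual.toDual (tail 𝒜 hpos ℋ (n : ℤ)), fun a b hab =>
      tail_antitone 𝒜 hpos ℋ (by exact_mod_cast hab)⟩
  obtain ⟨n, hn⟩ := IsArtinian.monotone_stabilizes f
  refine ⟨(n : ℤ), fun d hd => ?_⟩
  obtain ⟨k, rfl⟩ := Int.eq_ofNat_of_zero_le (le_trans (Int.natCast_nonneg n) hd)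
  have hk : n ≤ k := by exact_mod_cast hd
  have h1 : tail 𝒜 hpos ℋ (k : ℤ) = tail 𝒜 hpos ℋ ((k + 1 : ℕ) : ℤ) := by
    have e1 := hn k hk
    have e2 := hn (k + 1) (by omega)
    exact OrderDual.toDual.injective (e1.symm.trans e2)
  rw [eq_bot_iff]
  intro x hx
  rw [AddSubgroup.mem_bot]
  have hx1 : x ∈ tail 𝒜 hpos ℋ (k : ℤ) := by
    refine ⟨fun d' hd' => ?_, trivial⟩
    exact decompose_of_mem_ne ℋ hx (by omega)
  rw [h1] at hx1
  have := hx1.1 (k : ℤ) (by push_cast; omega)
  rwa [decompose_of_mem_same ℋ hx] at this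

include hpos in
/-- the pieces of a graded Artinian module over a nonnegatively graded ring are Artinian over `R_0` -/
theorem isArtinian_piece [IsArtinian R H] (e : ℤ) (P : Submodule (GrLC.deg0 𝒜) H)
    (hP : ∀ y, y ∈ P ↔ y ∈ ℋ e) : IsArtinian (GrLC.deg0 𝒜) P := by
  let ψ : Submodule (GrLC.deg0 𝒜) P → Submodule R H :=
    fun V => low 𝒜 hpos ℋ e (V.map P.subtype)
  have hψ : StrictMono ψ := by
    intro V V' hVV'
    have hle : ψ V ≤ ψ V' := by
      intro y hy
      exact ⟨hy.1, Submodule.map_mono hVV'.le hy.2⟩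
    refine lt_of_le_of_ne hle ?_
    intro heq
    apply hVV'.not_ge
    intro v hv
    have hmem : (v : H) ∈ ψ V' := by
      refine ⟨fun d' hd' => ?_, ?_⟩
      · exact decompose_of_mem_ne ℋ ((hP _).mp v.2) (by omega)
      · rw [decompose_of_mem_same ℋ ((hP _).mp v.2)]
        exact ⟨v, hv, rfl⟩
    rw [← heq] at hmem
    have h2 := hmem.2
    rw [decompose_of_mem_same ℋ ((hP _).mp v.2)] at h2
    obtain ⟨w, hw, hwv⟩ := h2
    have : w = v := Subtype.ext hwv
    rw [← this]
    exact hw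
  exact hψ.wellFoundedLT

end Groth.Agent.Helper7.GrArt
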