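import Mathlib
import Groth.Prelude.Def_GrLC
import Groth.Agent.Helper6.GrMod
import Groth.Agent.Helper6.GrCon
import Groth.Agent.Helper6.GrShift

/-!
# Graded δ-functor library, part 1: extension lemma, chain maps between *injective resolutions
(existence of lifts).
-/

namespace Groth.Agent.Helper7.GrDel

open DirectSum Groth.Agent.Helper6.GrMod Groth.Agent.Helper6.GrCon

universe u

section Seq

/-- dependent recursion with a prescribed initial term -/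
theorem exists_seq {T : ℕ → Type*} (Q : ∀ n, T n → Prop) (Rl : ∀ n, T n → T (n + 1) → Prop)
    (t0 : T 0) (h0 : Q 0 t0)
    (hs : ∀ n t, Q n t → ∃ t', Q (n + 1) t' ∧ Rl n t t') :
    ∃ s : ∀ n, T n, s 0 = t0 ∧ (∀ n, Q n (s n)) ∧ ∀ n, Rl n (s n) (s (n + 1)) := by
  classical
  let S : ∀ n, {t : T n // Q n t} := fun n =>
    Nat.rec (motive := fun n => {t : T n // Q n t}) ⟨t0, h0⟩
      (fun n p => ⟨Classical.choose (hs n p.1 p.2), (Classical.choose_spec (hs n p.1 p.2)).1⟩) n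
  refine ⟨fun n => (S n).1, rfl, fun n => (S n).2, fun n => ?_⟩
  exact (Classical.choose_spec (hs n (S n).1 (S n).2)).2

end Seq

section Ext

variable {ι : Type} [AddCommGroup ι] [DecidableEq ι] {R : Type u} [CommRing R]
  (𝒜 : ι → AddSubgroup R) [GradedRing 𝒜]
  {A : Type u} [AddCommGroup A] [Module R A] (𝒜A : ι → AddSubgroup A) [Decomposition 𝒜A]
  [SetLike.GradedSMul 𝒜 𝒜A]
  {B : Type u} [AddCommGroup B] [Module R B] (ℬ : ι → AddSubgroup B) [Decomposition ℬ]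
  [SetLike.GradedSMul 𝒜 ℬ]
  {I : Type u} [AddCommGroup I] [Module R I] (ℐ : ι → AddSubgroup I) [Decomposition ℐ]
  [SetLike.GradedSMul 𝒜 ℐ]

/-- extension into a *injective along a homogeneous map, given the kernel condition -/
theorem exists_ext (hI : GrLC.IsStarInj 𝒜 ℐ) (f : A →ₗ[R] B) (hf : GrLC.IsGrHom 𝒜A ℬ f)
    (g : A →ₗ[R] I) (hg : GrLC.IsGrHom 𝒜A ℐ g) (hk : ∀ x, f x = 0 → g x = 0) :
    ∃ h : B →ₗ[R] I, GrLC.IsGrHom ℬ ℐ h ∧ ∀ x, h (f x) = g x := by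
  have hP : (LinearMap.ker f).IsHomogeneous 𝒜A := ker_isHomogeneous hf
  have hle : LinearMap.ker f ≤ LinearMap.ker g := fun x hx => hk x hx
  let f' : (A ⧸ LinearMap.ker f) →ₗ[R] B := (LinearMap.ker f).liftQ f le_rfl
  let g' : (A ⧸ LinearMap.ker f) →ₗ[R] I := (LinearMap.ker f).liftQ g hle
  have hf' : GrLC.IsGrHom (quotGMod 𝒜 𝒜A (LinearMap.ker f) hP).gr ℬ f' := by
    intro i q hq
    obtain ⟨m, hm, rfl⟩ := (mem_quotFam 𝒜A _).mp hq
    exact hf i m hm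
  have hg' : GrLC.IsGrHom (quotGMod 𝒜 𝒜A (LinearMap.ker f) hP).gr ℐ g' := by
    intro i q hq
    obtain ⟨m, hm, rfl⟩ := (mem_quotFam 𝒜A _).mp hq
    exact hg i m hm
  have hinj : Function.Injective f' := by
    rw [← LinearMap.ker_eq_bot]
    exact Submodule.ker_liftQ_eq_bot _ _ _ le_rfl
  obtain ⟨h, hh, hhf⟩ := hI (quotGMod 𝒜 𝒜A (LinearMap.ker f) hP) (GrLC.GMod.of 𝒜 B ℬ) f' hf' hinj
    g' hg'
  refine ⟨h, hh, fun x => ?_⟩
  have := LinearMap.congr_fun hhf ((LinearMap.ker f).mkQ x)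
  exact this

omit [Decomposition 𝒜A] [SetLike.GradedSMul 𝒜 𝒜A] in
/-- a product of *injectives is *injective -/
theorem isStarInj_prod [Decomposition (prodFam ℬ ℐ)] [SetLike.GradedSMul 𝒜 (prodFam ℬ ℐ)]
    (hB : GrLC.IsStarInj 𝒜 ℬ) (hI : GrLC.IsStarInj 𝒜 ℐ) : GrLC.IsStarInj 𝒜 (prodFam ℬ ℐ) := by
  intro X Y f hf hinj g hg
  obtain ⟨h1, hh1, e1⟩ := hB X Y f hf hinj ((LinearMap.fst R B I) ∘ₗ g)
    (fun i x hx => (hg i x hx).1)
  obtain ⟨h2, hh2, e2⟩ := hI X Y f hf hinj ((LinearMap.snd R B I) ∘ₗ g)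
    (fun i x hx => (hg i x hx).2)
  refine ⟨h1.prod h2, fun i y hy => ⟨hh1 i y hy, hh2 i y hy⟩, ?_⟩
  apply LinearMap.ext
  intro x
  apply Prod.ext
  · exact LinearMap.congr_fun e1 x
  · exact LinearMap.congr_fun e2 x

end Ext

section Res

variable {ι : Type} [AddCommGroup ι] [DecidableEq ι] {R : Type u} [CommRing R]
  {𝒜 : ι → AddSubgroup R} [GradedRing 𝒜]
  {M : Type u} [AddCommGroup M] [Module R M] {ℳ : ι → AddSubgroup M} [Decomposition ℳ]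
  [SetLike.GradedSMul 𝒜 ℳ]
  {N : Type u} [AddCommGroup N] [Module R N] {𝒩 : ι → AddSubgroup N} [Decomposition 𝒩]
  [SetLike.GradedSMul 𝒜 𝒩]
  {P : Type u} [AddCommGroup P] [Module R P] {𝓟 : ι → AddSubgroup P} [Decomposition 𝓟]
  [SetLike.GradedSMul 𝒜 𝓟]

theorem d_ε (E : GrLC.StarInjRes 𝒜 ℳ) (m : M) : E.d 0 (E.ε m) = 0 := by
  have : E.ε m ∈ LinearMap.ker (E.d 0) := by
    rw [E.exact_zero]; exact ⟨m, rfl⟩
  exact this

theorem d_d (E : GrLC.StarInjRes 𝒜 ℳ) (n : ℕ) (x : (E.X n).carrier) :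
    E.d (n + 1) (E.d n x) = 0 := by
  have : E.d n x ∈ LinearMap.ker (E.d (n + 1)) := by
    rw [E.exact_succ]; exact ⟨x, rfl⟩
  exact this

theorem exists_of_d_zero (E : GrLC.StarInjRes 𝒜 ℳ) (x : (E.X 0).carrier) (hx : E.d 0 x = 0) :
    ∃ m, E.ε m = x := by
  have : x ∈ LinearMap.ker (E.d 0) := hx
  rw [E.exact_zero] at this
  exact this

theorem exists_of_d_succ (E : GrLC.StarInjRes 𝒜 ℳ) (n : ℕ) (x : (E.X (n + 1)).carrier)
    (hx : E.d (n + 1) x = 0) : ∃ y, E.d n y = x := by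
  have : x ∈ LinearMap.ker (E.d (n + 1)) := hx
  rw [E.exact_succ] at this
  exact this

/-- a chain map between *injective resolutions over a linear map `φ` -/
structure ResHom (E : GrLC.StarInjRes 𝒜 ℳ) (F : GrLC.StarInjRes 𝒜 𝒩) (φ : M →ₗ[R] N) where
  f : ∀ n, (E.X n).carrier →ₗ[R] (F.X n).carrier
  f_gr : ∀ n, GrLC.IsGrHom (E.X n).gr (F.X n).gr (f n)
  comm_ε : ∀ m, f 0 (E.ε m) = F.ε (φ m)
  comm_d : ∀ n x, f (n + 1) (E.d n x) = F.d n (f n x)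

/-- identity chain map -/
def ResHom.id (E : GrLC.StarInjRes 𝒜 ℳ) : ResHom E E LinearMap.id where
  f _ := LinearMap.id
  f_gr _ _ _ hx := hx
  comm_ε _ := rfl
  comm_d _ _ := rfl

/-- composition of chain maps -/
def ResHom.comp {E : GrLC.StarInjRes 𝒜 ℳ} {F : GrLC.StarInjRes 𝒜 𝒩} {G : GrLC.StarInjRes 𝒜 𝓟}
    {φ : M →ₗ[R] N} {ψ : N →ₗ[R] P} (g : ResHom F G ψ) (f : ResHom E F φ) :
    ResHom E G (ψ ∘ₗ φ) where
  f n := g.f n ∘ₗ f.f n
  f_gr n i x hx := g.f_gr n i _ (f.f_gr n i x hx)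
  comm_ε m := by
    rw [LinearMap.comp_apply, f.comm_ε, g.comm_ε, LinearMap.comp_apply]
  comm_d n x := by
    rw [LinearMap.comp_apply, f.comm_d, g.comm_d, LinearMap.comp_apply]

/-- existence of a lift of a homogeneous map to the resolutions -/
theorem nonempty_resHom (E : GrLC.StarInjRes 𝒜 ℳ) (F : GrLC.StarInjRes 𝒜 𝒩) (φ : M →ₗ[R] N)
    (hφ : GrLC.IsGrHom ℳ 𝒩 φ) : Nonempty (ResHom E F φ) := by
  -- degree 0
  obtain ⟨f0, hf0, e0⟩ := exists_ext 𝒜 ℳ (E.X 0).gr (F.X 0).gr (F.starInj 0) E.ε E.ε_grHom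
    (F.ε ∘ₗ φ) (fun i m hm => F.ε_grHom i _ (hφ i m hm))
    (fun x hx => by
      have : x = 0 := E.ε_injective (by rw [hx, map_zero])
      rw [this, map_zero])
  let T : ℕ → Type u := fun n => (E.X n).carrier →ₗ[R] (F.X n).carrier
  let Q : ∀ n, T n → Prop := fun n f =>
    GrLC.IsGrHom (E.X n).gr (F.X n).gr f ∧ ∀ x, E.d n x = 0 → F.d n (f x) = 0
  let Rl : ∀ n, T n → T (n + 1) → Prop := fun n f f' => ∀ x, f' (E.d n x) = F.d n (f x)
  have hQ0 : Q 0 f0 := by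
    refine ⟨hf0, fun x hx => ?_⟩
    obtain ⟨m, rfl⟩ := exists_of_d_zero E x hx
    rw [e0, LinearMap.comp_apply, d_ε]
  have hstep : ∀ n t, Q n t → ∃ t', Q (n + 1) t' ∧ Rl n t t' := by
    intro n t ht
    obtain ⟨t', ht', e'⟩ := exists_ext 𝒜 (E.X n).gr (E.X (n + 1)).gr (F.X (n + 1)).gr
      (F.starInj (n + 1)) (E.d n) (E.d_grHom n) (F.d n ∘ₗ t)
      (fun i x hx => F.d_grHom n i _ (ht.1 i x hx)) (fun x hx => ht.2 x hx)
    refine ⟨t', ⟨ht', fun x hx => ?_⟩, fun x => e' x⟩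
    obtain ⟨y, rfl⟩ := exists_of_d_succ E n x hx
    rw [e', LinearMap.comp_apply, d_d]
  obtain ⟨s, hs0, hsQ, hsR⟩ := exists_seq Q Rl f0 hQ0 hstep
  exact ⟨{ f := s
           f_gr := fun n => (hsQ n).1
           comm_ε := fun m => by rw [hs0, e0, LinearMap.comp_apply]
           comm_d := fun n x => hsR n x }⟩

end Res

end Groth.Agent.Helper7.GrDel
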