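import Mathlib
import Groth.Prelude.Def_GrLC
import Groth.Agent.Helper7.GrDel1

/-!
# Graded δ-functor library, part 2: homotopies, induced maps on graded local cohomology,
independence of the resolution.
-/

namespace Groth.Agent.Helper7.GrDel

open DirectSum Groth.Agent.Helper6.GrMod Groth.Agent.Helper6.GrCon

universe u

section Res

variable {ι : Type} [AddCommGroup ι] [DecidableEq ι] {R : Type u} [CommRing R]
  {𝒜 : ι → AddSubgroup R} [GradedRing 𝒜]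
  {M : Type u} [AddCommGroup M] [Module R M] {ℳ : ι → AddSubgroup M} [Decomposition ℳ]
  [SetLike.GradedSMul 𝒜 ℳ]
  {N : Type u} [AddCommGroup N] [Module R N] {𝒩 : ι → AddSubgroup N} [Decomposition 𝒩]
  [SetLike.GradedSMul 𝒜 𝒩]
  {P : Type u} [AddCommGroup P] [Module R P] {𝓟 : ι → AddSubgroup P} [Decomposition 𝓟]
  [SetLike.GradedSMul 𝒜 𝓟]

/-- two chain maps over the same map are homotopic (through homogeneous maps) -/
theorem exists_homotopy {E : GrLC.StarInjRes 𝒜 ℳ} {F : GrLC.StarInjRes 𝒜 𝒩} {φ : M →ₗ[R] N}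
    (f g : ResHom E F φ) :
    ∃ s : ∀ n, (E.X (n + 1)).carrier →ₗ[R] (F.X n).carrier,
      (∀ n, GrLC.IsGrHom (E.X (n + 1)).gr (F.X n).gr (s n)) ∧
      (∀ x, f.f 0 x - g.f 0 x = s 0 (E.d 0 x)) ∧
      (∀ n x, f.f (n + 1) x - g.f (n + 1) x = s (n + 1) (E.d (n + 1) x) + F.d n (s n x)) := by
  obtain ⟨h, hh⟩ : ∃ h : ∀ n, (E.X n).carrier →ₗ[R] (F.X n).carrier,
      ∀ n x, h n x = f.f n x - g.f n x := ⟨fun n => f.f n - g.f n, fun _ _ => rfl⟩
  have hgr : ∀ n, GrLC.IsGrHom (E.X n).gr (F.X n).gr (h n) := fun n i x hx => by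
    rw [hh]
    exact sub_mem (f.f_gr n i x hx) (g.f_gr n i x hx)
  have hcomm : ∀ n x, h (n + 1) (E.d n x) = F.d n (h n x) := by
    intro n x
    rw [hh, hh, f.comm_d, g.comm_d, map_sub]
  obtain ⟨s0, hs0, e0⟩ := exists_ext 𝒜 (E.X 0).gr (E.X 1).gr (F.X 0).gr (F.starInj 0) (E.d 0)
    (E.d_grHom 0) (h 0) (hgr 0) (fun x hx => by
      obtain ⟨m, rfl⟩ := exists_of_d_zero E x hx
      rw [hh, f.comm_ε, g.comm_ε, sub_self])
  let T : ℕ → Type u := fun n => (E.X (n + 1)).carrier →ₗ[R] (F.X n).carrier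
  let Q : ∀ n, T n → Prop := fun n s =>
    GrLC.IsGrHom (E.X (n + 1)).gr (F.X n).gr s ∧ ∀ y, F.d n (s (E.d n y)) = F.d n (h n y)
  let Rl : ∀ n, T n → T (n + 1) → Prop := fun n s s' =>
    ∀ x, h (n + 1) x = s' (E.d (n + 1) x) + F.d n (s x)
  have hQ0 : Q 0 s0 := ⟨hs0, fun y => by rw [e0]⟩
  have hstep : ∀ n t, Q n t → ∃ t', Q (n + 1) t' ∧ Rl n t t' := by
    intro n t ht
    obtain ⟨t', ht', e'⟩ := exists_ext 𝒜 (E.X (n + 1)).gr (E.X (n + 2)).gr (F.X (n + 1)).gr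
      (F.starInj (n + 1)) (E.d (n + 1)) (E.d_grHom (n + 1)) (h (n + 1) - F.d n ∘ₗ t)
      (fun i x hx => sub_mem (hgr (n + 1) i x hx) (F.d_grHom n i _ (ht.1 i x hx)))
      (fun x hx => by
        obtain ⟨y, rfl⟩ := exists_of_d_succ E n x hx
        rw [LinearMap.sub_apply, LinearMap.comp_apply, hcomm, ht.2, sub_self])
    refine ⟨t', ⟨ht', fun y => ?_⟩, fun x => ?_⟩
    · show F.d (n + 1) (t' (E.d (n + 1) y)) = F.d (n + 1) (h (n + 1) y)
      rw [e', LinearMap.sub_apply, LinearMap.comp_apply, map_sub, d_d, sub_zero]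
    · show h (n + 1) x = t' (E.d (n + 1) x) + F.d n (t x)
      rw [e', LinearMap.sub_apply, LinearMap.comp_apply, sub_add_cancel]
  obtain ⟨s, hs0', hsQ, hsR⟩ := exists_seq Q Rl s0 hQ0 hstep
  refine ⟨s, fun n => (hsQ n).1, fun x => ?_, fun n x => ?_⟩
  · rw [hs0', e0, hh]
  · rw [← hh]
    exact hsR n x

theorem map_mem_gam (a : Ideal R) {X Y : Type u} [AddCommGroup X] [Module R X] [AddCommGroup Y]
    [Module R Y] (f : X →ₗ[R] Y) {x : X} (hx : x ∈ GrLC.gam a X) : f x ∈ GrLC.gam a Y := by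
  obtain ⟨n, hn⟩ := hx
  exact ⟨n, fun r hr => by rw [← map_smul, hn r hr, map_zero]⟩

variable {E : GrLC.StarInjRes 𝒜 ℳ} {F : GrLC.StarInjRes 𝒜 𝒩} {G : GrLC.StarInjRes 𝒜 𝓟}
  {φ : M →ₗ[R] N} {ψ : N →ₗ[R] P}

theorem ResHom.map_cocyc (f : ResHom E F φ) (a : HomogeneousIdeal 𝒜) (i : ℕ)
    (x : (E.X i).carrier) (hx : x ∈ E.cocyc a i) : f.f i x ∈ F.cocyc a i := by
  refine ⟨map_mem_gam _ _ hx.1, ?_⟩
  rw [SetLike.mem_coe, LinearMap.mem_ker, ← f.comm_d, (show E.d i x = 0 from hx.2), map_zero]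

theorem ResHom.map_cobdy (f : ResHom E F φ) (a : HomogeneousIdeal 𝒜) (i : ℕ)
    (x : (E.X i).carrier) (hx : x ∈ E.cobdy a i) : f.f i x ∈ F.cobdy a i := by
  cases i with
  | zero =>
    have : x = 0 := hx
    rw [this, map_zero]
    exact zero_mem _
  | succ n =>
    obtain ⟨y, hy, rfl⟩ := hx
    exact ⟨f.f n y, map_mem_gam _ _ hy, (f.comm_d n y).symm⟩

/-- the map induced on graded local cohomology by a chain map -/
noncomputable def Hmap (f : ResHom E F φ) (a : HomogeneousIdeal 𝒜) (i : ℕ) :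
    E.H a i →ₗ[R] F.H a i :=
  Submodule.mapQ _ _ ((f.f i).restrict (f.map_cocyc a i)) (fun _ hz => f.map_cobdy a i _ hz)

theorem Hmap_mk (f : ResHom E F φ) (a : HomogeneousIdeal 𝒜) (i : ℕ) (z : ↥(E.cocyc a i)) :
    Hmap f a i (E.toH a i z) = F.toH a i ⟨f.f i z, f.map_cocyc a i _ z.2⟩ := rfl

theorem Hmap_gr (f : ResHom E F φ) (a : HomogeneousIdeal 𝒜) (i : ℕ) :
    GrLC.IsGrHom (E.Hgr a i) (F.Hgr a i) (Hmap f a i) := by
  rintro g x ⟨z, hz, rfl⟩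
  exact ⟨⟨f.f i z, f.map_cocyc a i _ z.2⟩, f.f_gr i g _ hz, rfl⟩

theorem Hmap_eq (f g : ResHom E F φ) (a : HomogeneousIdeal 𝒜) (i : ℕ) :
    Hmap f a i = Hmap g a i := by
  obtain ⟨s, -, hs0, hs⟩ := exists_homotopy f g
  apply LinearMap.ext
  intro x
  obtain ⟨z, rfl⟩ := Submodule.mkQ_surjective _ x
  show Hmap f a i (E.toH a i z) = Hmap g a i (E.toH a i z)
  rw [Hmap_mk, Hmap_mk]
  apply (Submodule.Quotient.eq _).mpr
  show (f.f i z - g.f i z) ∈ F.cobdy a i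
  cases i with
  | zero =>
    rw [hs0, (show E.d 0 z = 0 from z.2.2), map_zero]
    exact zero_mem _
  | succ n =>
    rw [hs, (show E.d (n + 1) z = 0 from z.2.2), map_zero, zero_add]
    exact ⟨s n z, map_mem_gam _ _ z.2.1, rfl⟩

theorem Hmap_id (a : HomogeneousIdeal 𝒜) (i : ℕ) :
    Hmap (ResHom.id E) a i = LinearMap.id := by
  apply LinearMap.ext
  intro x
  obtain ⟨z, rfl⟩ := Submodule.mkQ_surjective _ x
  rfl

theorem Hmap_comp (g : ResHom F G ψ) (f : ResHom E F φ) (a : HomogeneousIdeal 𝒜) (i : ℕ) :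
    Hmap (g.comp f) a i = Hmap g a i ∘ₗ Hmap f a i := by
  apply LinearMap.ext
  intro x
  obtain ⟨z, rfl⟩ := Submodule.mkQ_surjective _ x
  rfl

variable (E F G)

/-- the map induced on graded local cohomology by a homogeneous map of modules -/
noncomputable def Hphi (φ : M →ₗ[R] N) (hφ : GrLC.IsGrHom ℳ 𝒩 φ) (a : HomogeneousIdeal 𝒜)
    (i : ℕ) : E.H a i →ₗ[R] F.H a i :=
  Hmap (Classical.choice (nonempty_resHom E F φ hφ)) a i

variable {E F G}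

theorem Hphi_eq (f : ResHom E F φ) (hφ : GrLC.IsGrHom ℳ 𝒩 φ) (a : HomogeneousIdeal 𝒜) (i : ℕ) :
    Hphi E F φ hφ a i = Hmap f a i := Hmap_eq _ _ a i

theorem Hphi_gr (hφ : GrLC.IsGrHom ℳ 𝒩 φ) (a : HomogeneousIdeal 𝒜) (i : ℕ) :
    GrLC.IsGrHom (E.Hgr a i) (F.Hgr a i) (Hphi E F φ hφ a i) := Hmap_gr _ a i

theorem Hphi_id (a : HomogeneousIdeal 𝒜) (i : ℕ) :
    Hphi E E LinearMap.id (fun _ _ h => h) a i = LinearMap.id := by
  rw [Hphi_eq (ResHom.id E), Hmap_id]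

theorem Hphi_comp (hφ : GrLC.IsGrHom ℳ 𝒩 φ) (hψ : GrLC.IsGrHom 𝒩 𝓟 ψ)
    (a : HomogeneousIdeal 𝒜) (i : ℕ) :
    Hphi F G ψ hψ a i ∘ₗ Hphi E F φ hφ a i =
      Hphi E G (ψ ∘ₗ φ) (fun j m hm => hψ j _ (hφ j m hm)) a i := by
  obtain ⟨f⟩ := nonempty_resHom E F φ hφ
  obtain ⟨g⟩ := nonempty_resHom F G ψ hψ
  rw [Hphi_eq f, Hphi_eq g, Hphi_eq (g.comp f), Hmap_comp]

/-- two *injective resolutions of the same graded module give isomorphic graded local cohomology -/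
noncomputable def Hequiv (E E' : GrLC.StarInjRes 𝒜 ℳ) (a : HomogeneousIdeal 𝒜) (i : ℕ) :
    E.H a i ≃ₗ[R] E'.H a i :=
  LinearEquiv.ofLinearMap (Hphi E E' LinearMap.id (fun _ _ h => h) a i)
    (Hphi E' E LinearMap.id (fun _ _ h => h) a i)
    (by
      have := Hphi_comp (E := E') (F := E) (G := E') (φ := LinearMap.id) (ψ := LinearMap.id)
        (fun _ _ h => h) (fun _ _ h => h) a i
      rw [this]
      exact Hphi_id a i)
    (by
      have := Hphi_comp (E := E) (F := E') (G := E) (φ := LinearMap.id) (ψ := LinearMap.id)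
        (fun _ _ h => h) (fun _ _ h => h) a i
      rw [this]
      exact Hphi_id a i)

theorem Hequiv_gr (E E' : GrLC.StarInjRes 𝒜 ℳ) (a : HomogeneousIdeal 𝒜) (i : ℕ) :
    GrLC.IsGrHom (E.Hgr a i) (E'.Hgr a i) (Hequiv E E' a i).toLinearMap :=
  Hphi_gr (E := E) (F := E') (φ := LinearMap.id) (fun _ _ h => h) a i

theorem Hequiv_symm_gr (E E' : GrLC.StarInjRes 𝒜 ℳ) (a : HomogeneousIdeal 𝒜) (i : ℕ) :
    GrLC.IsGrHom (E'.Hgr a i) (E.Hgr a i) (Hequiv E E' a i).symm.toLinearMap :=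
  Hphi_gr (E := E') (F := E) (φ := LinearMap.id) (fun _ _ h => h) a i

/-- vanishing of a graded piece does not depend on the resolution -/
theorem Hcomp_eq_bot_iff (E E' : GrLC.StarInjRes 𝒜 ℳ) (a : HomogeneousIdeal 𝒜) (i : ℕ) (g : ι) :
    E.Hcomp a i g = ⊥ ↔ E'.Hcomp a i g = ⊥ := by
  have key : ∀ (E E' : GrLC.StarInjRes 𝒜 ℳ), E'.Hcomp a i g = ⊥ → E.Hcomp a i g = ⊥ := by
    intro E E' h
    rw [eq_bot_iff]
    intro x hx
    have h1 : (Hequiv E E' a i) x ∈ E'.Hcomp a i g := Hequiv_gr E E' a i g x hx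
    rw [h] at h1
    have h2 : (Hequiv E E' a i) x = 0 := h1
    have : x = 0 := by
      rw [← (Hequiv E E' a i).symm_apply_apply x, h2, map_zero]
    rw [this]
    exact zero_mem _
  exact ⟨key E' E, key E E'⟩

end Res

end Groth.Agent.Helper7.GrDel
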