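import Mathlib
import Groth.Prelude.Def_GrLC
import Groth.Agent.Helper7.GrDel2

/-!
# Graded δ-functor library, part 3: the horseshoe construction.
-/

namespace Groth.Agent.Helper7.GrDel

open DirectSum Groth.Agent.Helper6.GrMod Groth.Agent.Helper6.GrCon

universe u

section HS

variable {ι : Type} [AddCommGroup ι] [DecidableEq ι] {R : Type u} [CommRing R]
  {𝒜 : ι → AddSubgroup R} [GradedRing 𝒜]
  {M' : Type u} [AddCommGroup M'] [Module R M'] {ℳ' : ι → AddSubgroup M'} [Decomposition ℳ']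
  [SetLike.GradedSMul 𝒜 ℳ']
  {M : Type u} [AddCommGroup M] [Module R M] (ℳ : ι → AddSubgroup M) [Decomposition ℳ]
  [SetLike.GradedSMul 𝒜 ℳ]
  {M'' : Type u} [AddCommGroup M''] [Module R M''] {ℳ'' : ι → AddSubgroup M''}
  [Decomposition ℳ''] [SetLike.GradedSMul 𝒜 ℳ'']

/-- horseshoe data: a lift `σ` of the augmentation and twisting maps `τ` -/
structure HS (E' : GrLC.StarInjRes 𝒜 ℳ') (E'' : GrLC.StarInjRes 𝒜 ℳ'') (u : M' →ₗ[R] M)
    (v : M →ₗ[R] M'') where
  σ : M →ₗ[R] (E'.X 0).carrier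
  σ_gr : GrLC.IsGrHom ℳ (E'.X 0).gr σ
  σ_u : ∀ m', σ (u m') = E'.ε m'
  τ : ∀ n, (E''.X n).carrier →ₗ[R] (E'.X (n + 1)).carrier
  τ_gr : ∀ n, GrLC.IsGrHom (E''.X n).gr (E'.X (n + 1)).gr (τ n)
  h0 : ∀ m, τ 0 (E''.ε (v m)) + E'.d 0 (σ m) = 0
  hτ : ∀ n x, τ (n + 1) (E''.d n x) + E'.d (n + 1) (τ n x) = 0

variable (E' : GrLC.StarInjRes 𝒜 ℳ') (E'' : GrLC.StarInjRes 𝒜 ℳ'') (u : M' →ₗ[R] M)
    (v : M →ₗ[R] M'')

theorem nonempty_HS (hu : GrLC.IsGrHom ℳ' ℳ u) (hv : GrLC.IsGrHom ℳ ℳ'' v)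
    (hinj : Function.Injective u) (hsurj : Function.Surjective v)
    (hex : ∀ m, v m = 0 → ∃ m', u m' = m) :
    Nonempty (HS ℳ E' E'' u v) := by
  -- σ
  obtain ⟨σ, hσ, eσ⟩ := exists_ext 𝒜 ℳ' ℳ (E'.X 0).gr (E'.starInj 0) u hu E'.ε E'.ε_grHom
    (fun x hx => by
      have : x = 0 := hinj (by rw [hx, map_zero])
      rw [this, map_zero])
  -- τ 0
  obtain ⟨τ0, hτ0, e0⟩ := exists_ext 𝒜 ℳ (E''.X 0).gr (E'.X 1).gr (E'.starInj 1)
    (E''.ε ∘ₗ v) (fun i m hm => E''.ε_grHom i _ (hv i m hm)) (-(E'.d 0 ∘ₗ σ))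
    (fun i m hm => neg_mem (E'.d_grHom 0 i _ (hσ i m hm)))
    (fun x hx => by
      have h1 : v x = 0 := E''.ε_injective (by rw [map_zero]; exact hx)
      obtain ⟨m', rfl⟩ := hex x h1
      rw [LinearMap.neg_apply, LinearMap.comp_apply, eσ, d_ε, neg_zero])
  let T : ℕ → Type u := fun n => (E''.X n).carrier →ₗ[R] (E'.X (n + 1)).carrier
  let Q : ∀ n, T n → Prop := fun n t =>
    GrLC.IsGrHom (E''.X n).gr (E'.X (n + 1)).gr t ∧ ∀ x, E''.d n x = 0 → E'.d (n + 1) (t x) = 0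
  let Rl : ∀ n, T n → T (n + 1) → Prop := fun n t t' =>
    ∀ x, t' (E''.d n x) + E'.d (n + 1) (t x) = 0
  have hQ0 : Q 0 τ0 := by
    refine ⟨hτ0, fun x hx => ?_⟩
    obtain ⟨m'', rfl⟩ := exists_of_d_zero E'' x hx
    obtain ⟨m, rfl⟩ := hsurj m''
    have := e0 m
    rw [LinearMap.comp_apply] at this
    rw [this, LinearMap.neg_apply, LinearMap.comp_apply, map_neg, d_d, neg_zero]
  have hstep : ∀ n t, Q n t → ∃ t', Q (n + 1) t' ∧ Rl n t t' := by
    intro n t ht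
    obtain ⟨t', ht', e'⟩ := exists_ext 𝒜 (E''.X n).gr (E''.X (n + 1)).gr (E'.X (n + 2)).gr
      (E'.starInj (n + 2)) (E''.d n) (E''.d_grHom n) (-(E'.d (n + 1) ∘ₗ t))
      (fun i x hx => neg_mem (E'.d_grHom (n + 1) i _ (ht.1 i x hx)))
      (fun x hx => by
        rw [LinearMap.neg_apply, LinearMap.comp_apply, ht.2 x hx, neg_zero])
    refine ⟨t', ⟨ht', fun x hx => ?_⟩, fun x => ?_⟩
    · obtain ⟨y, rfl⟩ := exists_of_d_succ E'' n x hx
      show E'.d (n + 2) (t' (E''.d n y)) = 0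
      rw [e', LinearMap.neg_apply, LinearMap.comp_apply, map_neg, d_d, neg_zero]
    · show t' (E''.d n x) + E'.d (n + 1) (t x) = 0
      rw [e', LinearMap.neg_apply, LinearMap.comp_apply, neg_add_cancel]
  obtain ⟨s, hs0, hsQ, hsR⟩ := exists_seq Q Rl τ0 hQ0 hstep
  exact ⟨{ σ := σ
           σ_gr := hσ
           σ_u := eσ
           τ := s
           τ_gr := fun n => (hsQ n).1
           h0 := fun m => by
             have := e0 m
             rw [LinearMap.comp_apply] at this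
             rw [hs0, this, LinearMap.neg_apply, LinearMap.comp_apply, neg_add_cancel]
           hτ := fun n x => hsR n x }⟩

variable {ℳ E' E'' u v}

/-- the differential of the horseshoe resolution -/
def HS.dd (D : HS ℳ E' E'' u v) (n : ℕ) :
    ((E'.X n).carrier × (E''.X n).carrier) →ₗ[R] ((E'.X (n + 1)).carrier × (E''.X (n + 1)).carrier) :=
  ((E'.d n).coprod (D.τ n)).prod (E''.d n ∘ₗ LinearMap.snd R _ _)

theorem HS.dd_apply (D : HS ℳ E' E'' u v) (n : ℕ) (x : (E'.X n).carrier × (E''.X n).carrier) :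
    D.dd n x = (E'.d n x.1 + D.τ n x.2, E''.d n x.2) := rfl

/-- the augmentation of the horseshoe resolution -/
def HS.ee (D : HS ℳ E' E'' u v) : M →ₗ[R] ((E'.X 0).carrier × (E''.X 0).carrier) :=
  D.σ.prod (E''.ε ∘ₗ v)

theorem HS.ee_apply (D : HS ℳ E' E'' u v) (m : M) : D.ee m = (D.σ m, E''.ε (v m)) := rfl

/-- the horseshoe resolution of the middle term -/
noncomputable def HS.res (D : HS ℳ E' E'' u v) (hv : GrLC.IsGrHom ℳ ℳ'' v)
    (hinj : Function.Injective u) (hsurj : Function.Surjective v)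
    (hex : ∀ m, v m = 0 → ∃ m', u m' = m) (hvu : ∀ m', v (u m') = 0) :
    GrLC.StarInjRes 𝒜 ℳ where
  X n := prodGMod 𝒜 (E'.X n).gr (E''.X n).gr
  d n := D.dd n
  ε := D.ee
  d_grHom n i x hx := by
    refine ⟨add_mem (E'.d_grHom n i _ hx.1) (D.τ_gr n i _ hx.2), E''.d_grHom n i _ hx.2⟩
  ε_grHom i m hm := ⟨D.σ_gr i m hm, E''.ε_grHom i _ (hv i m hm)⟩
  ε_injective := by
    intro m₁ m₂ h
    rw [← sub_eq_zero]
    have h' : D.ee (m₁ - m₂) = 0 := by
      rw [map_sub]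
      exact sub_eq_zero.mpr h
    rw [D.ee_apply, Prod.mk_eq_zero] at h'
    have h1 : v (m₁ - m₂) = 0 := E''.ε_injective (by rw [map_zero]; exact h'.2)
    obtain ⟨m', hm'⟩ := hex _ h1
    rw [← hm', D.σ_u] at h'
    have : m' = 0 := E'.ε_injective (by rw [map_zero]; exact h'.1)
    rw [← hm', this, map_zero]
  exact_zero := by
    apply le_antisymm
    · rintro ⟨x', x''⟩ hx
      rw [LinearMap.mem_ker] at hx
      change D.dd 0 (x', x'') = 0 at hx
      rw [D.dd_apply, Prod.mk_eq_zero] at hx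
      obtain ⟨m'', rfl⟩ := exists_of_d_zero E'' x'' hx.2
      obtain ⟨m, rfl⟩ := hsurj m''
      have h2 : E'.d 0 (x' - D.σ m) = 0 := by
        have h0 := eq_neg_of_add_eq_zero_right (D.h0 m)
        have h1 := eq_neg_of_add_eq_zero_left hx.1
        simp only at h1
        rw [map_sub, h1, h0, sub_self]
      obtain ⟨m', hm'⟩ := exists_of_d_zero E' _ h2
      refine ⟨m + u m', ?_⟩
      change D.ee (m + u m') = (x', E''.ε (v m))
      rw [D.ee_apply, map_add, D.σ_u, hm', map_add, hvu, add_zero, add_sub_cancel]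
    · rintro _ ⟨m, rfl⟩
      rw [LinearMap.mem_ker]
      change D.dd 0 (D.ee m) = 0
      rw [D.ee_apply, D.dd_apply, Prod.mk_eq_zero]
      refine ⟨?_, d_ε E'' _⟩
      exact (add_comm _ _).trans (D.h0 m)
  exact_succ n := by
    apply le_antisymm
    · rintro ⟨y', y''⟩ hy
      rw [LinearMap.mem_ker] at hy
      change D.dd (n + 1) (y', y'') = 0 at hy
      rw [D.dd_apply, Prod.mk_eq_zero] at hy
      obtain ⟨x'', rfl⟩ := exists_of_d_succ E'' n y'' hy.2
      have h2 : E'.d (n + 1) (y' - D.τ n x'') = 0 := by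
        have h0 := eq_neg_of_add_eq_zero_right (D.hτ n x'')
        have h1 := eq_neg_of_add_eq_zero_left hy.1
        simp only at h1
        rw [map_sub, h1, h0, sub_self]
      obtain ⟨x', hx'⟩ := exists_of_d_succ E' n _ h2
      refine ⟨(x', x''), ?_⟩
      change D.dd n (x', x'') = (y', E''.d n x'')
      rw [D.dd_apply]
      simp only
      rw [hx', sub_add_cancel]
    · rintro _ ⟨⟨x', x''⟩, rfl⟩
      rw [LinearMap.mem_ker]
      change D.dd (n + 1) (D.dd n (x', x'')) = 0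
      rw [D.dd_apply, D.dd_apply, Prod.mk_eq_zero]
      simp only
      refine ⟨?_, d_d E'' n _⟩
      rw [map_add, d_d, zero_add]
      exact (add_comm _ _).trans (D.hτ n x'')
  starInj n := by
    let _ : Decomposition (prodFam (E'.X n).gr (E''.X n).gr) :=
      (prodGMod 𝒜 (E'.X n).gr (E''.X n).gr).dec
    let _ : SetLike.GradedSMul 𝒜 (prodFam (E'.X n).gr (E''.X n).gr) :=
      (prodGMod 𝒜 (E'.X n).gr (E''.X n).gr).gsmul
    exact isStarInj_prod 𝒜 (E'.X n).gr (E''.X n).gr (E'.starInj n) (E''.starInj n)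

end HS

end Groth.Agent.Helper7.GrDel
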