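import Mathlib
import Groth.Prelude.Def_GrLC
import Groth.Agent.Helper7.GrDel3

/-!
# Graded δ-functor library, part 4: the long exact sequence for the horseshoe resolution.
-/

namespace Groth.Agent.Helper7.GrDel

open DirectSum Groth.Agent.Helper6.GrMod Groth.Agent.Helper6.GrCon

universe u

theorem mem_gam_prod {R : Type u} [CommRing R] (a : Ideal R) {X Y : Type u} [AddCommGroup X]
    [Module R X] [AddCommGroup Y] [Module R Y] (x : X) (y : Y) :
    ((x, y) : X × Y) ∈ GrLC.gam a (X × Y) ↔ x ∈ GrLC.gam a X ∧ y ∈ GrLC.gam a Y := by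
  constructor
  · intro h
    exact ⟨map_mem_gam a (LinearMap.fst R X Y) h, map_mem_gam a (LinearMap.snd R X Y) h⟩
  · rintro ⟨hx, hy⟩
    have h1 := map_mem_gam a (LinearMap.inl R X Y) hx
    have h2 := map_mem_gam a (LinearMap.inr R X Y) hy
    have := add_mem h1 h2
    simpa using this

section LES

variable {ι : Type} [AddCommGroup ι] [DecidableEq ι] {R : Type u} [CommRing R]
  {𝒜 : ι → AddSubgroup R} [GradedRing 𝒜]
  {M' : Type u} [AddCommGroup M'] [Module R M'] {ℳ' : ι → AddSubgroup M'} [Decomposition ℳ']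
  [SetLike.GradedSMul 𝒜 ℳ']
  {M : Type u} [AddCommGroup M] [Module R M] {ℳ : ι → AddSubgroup M} [Decomposition ℳ]
  [SetLike.GradedSMul 𝒜 ℳ]
  {M'' : Type u} [AddCommGroup M''] [Module R M''] {ℳ'' : ι → AddSubgroup M''}
  [Decomposition ℳ''] [SetLike.GradedSMul 𝒜 ℳ'']
  {E' : GrLC.StarInjRes 𝒜 ℳ'} {E'' : GrLC.StarInjRes 𝒜 ℳ''} {u : M' →ₗ[R] M}
  {v : M →ₗ[R] M''} (D : HS ℳ E' E'' u v) (hv : GrLC.IsGrHom ℳ ℳ'' v)
  (hinj : Function.Injective u) (hsurj : Function.Surjective v)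
  (hex : ∀ m, v m = 0 → ∃ m', u m' = m) (hvu : ∀ m', v (u m') = 0)

/-- inclusion of the sub-resolution -/
def HS.inl : ResHom E' (D.res hv hinj hsurj hex hvu) u where
  f n := LinearMap.inl R _ _
  f_gr n i x hx := ⟨hx, zero_mem _⟩
  comm_ε m' := by
    show ((E'.ε m', 0) : (E'.X 0).carrier × (E''.X 0).carrier) = D.ee (u m')
    rw [D.ee_apply, D.σ_u, hvu, map_zero]
  comm_d n x := by
    show ((E'.d n x, 0) : (E'.X (n + 1)).carrier × (E''.X (n + 1)).carrier) = D.dd n (x, 0)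
    rw [D.dd_apply]
    simp

/-- projection to the quotient resolution -/
def HS.snd : ResHom (D.res hv hinj hsurj hex hvu) E'' v where
  f n := LinearMap.snd R _ _
  f_gr n i x hx := hx.2
  comm_ε m := rfl
  comm_d n x := rfl

variable (a : HomogeneousIdeal 𝒜)

theorem HS.τ_cocyc (i : ℕ) (x : (E''.X i).carrier) (hx : x ∈ E''.cocyc a i) :
    D.τ i x ∈ E'.cocyc a (i + 1) := by
  refine ⟨map_mem_gam _ _ hx.1, ?_⟩
  rw [SetLike.mem_coe, LinearMap.mem_ker]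
  have h := D.hτ i x
  rw [(show E''.d i x = 0 from hx.2), map_zero, zero_add] at h
  exact h

theorem HS.τ_cobdy (i : ℕ) (x : (E''.X i).carrier) (hx : x ∈ E''.cobdy a i) :
    D.τ i x ∈ E'.cobdy a (i + 1) := by
  cases i with
  | zero =>
    have : x = 0 := hx
    rw [this, map_zero]
    exact zero_mem _
  | succ n =>
    obtain ⟨y, hy, rfl⟩ := hx
    refine ⟨-(D.τ n y), neg_mem (map_mem_gam _ _ hy), ?_⟩
    rw [map_neg]
    exact (eq_neg_of_add_eq_zero_left (D.hτ n y)).symm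

/-- the connecting homomorphism -/
noncomputable def HS.δ (i : ℕ) : E''.H a i →ₗ[R] E'.H a (i + 1) :=
  Submodule.mapQ _ _ ((D.τ i).restrict (D.τ_cocyc a i)) (fun _ hz => D.τ_cobdy a i _ hz)

theorem HS.δ_mk (i : ℕ) (z : ↥(E''.cocyc a i)) :
    D.δ a i (E''.toH a i z) = E'.toH a (i + 1) ⟨D.τ i z, D.τ_cocyc a i _ z.2⟩ := rfl

theorem HS.δ_gr (i : ℕ) : GrLC.IsGrHom (E''.Hgr a i) (E'.Hgr a (i + 1)) (D.δ a i) := by
  rintro g x ⟨z, hz, rfl⟩
  exact ⟨⟨D.τ i z, D.τ_cocyc a i _ z.2⟩, D.τ_gr i g _ hz, rfl⟩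

theorem toH_eq_zero_iff {N : Type u} [AddCommGroup N] [Module R N] {𝒩 : ι → AddSubgroup N}
    [Decomposition 𝒩] [SetLike.GradedSMul 𝒜 𝒩] (E : GrLC.StarInjRes 𝒜 𝒩) (i : ℕ)
    (z : ↥(E.cocyc a i)) : E.toH a i z = 0 ↔ (z : (E.X i).carrier) ∈ E.cobdy a i := by
  rw [Submodule.mkQ_apply, Submodule.Quotient.mk_eq_zero]
  rfl

theorem toH_eq_iff {N : Type u} [AddCommGroup N] [Module R N] {𝒩 : ι → AddSubgroup N}
    [Decomposition 𝒩] [SetLike.GradedSMul 𝒜 𝒩] (E : GrLC.StarInjRes 𝒜 𝒩) (i : ℕ)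
    (z w : ↥(E.cocyc a i)) :
    E.toH a i z = E.toH a i w ↔ (z : (E.X i).carrier) - w ∈ E.cobdy a i := by
  rw [Submodule.mkQ_apply, Submodule.mkQ_apply, Submodule.Quotient.eq]
  rfl

/-- exactness at the middle term -/
theorem HS.exact_mid (i : ℕ) (y : (D.res hv hinj hsurj hex hvu).H a i)
    (hy : Hmap (D.snd hv hinj hsurj hex hvu) a i y = 0) :
    ∃ x : E'.H a i, Hmap (D.inl hv hinj hsurj hex hvu) a i x = y := by
  obtain ⟨z, rfl⟩ := Submodule.mkQ_surjective _ y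
  change Hmap (D.snd hv hinj hsurj hex hvu) a i ((D.res hv hinj hsurj hex hvu).toH a i z) = 0 at hy
  rw [Hmap_mk, toH_eq_zero_iff] at hy
  obtain ⟨⟨z', z''⟩, hz⟩ := z
  have hzg : ((z', z'') : (E'.X i).carrier × (E''.X i).carrier) ∈ GrLC.gam a.toIdeal _ := hz.1
  have hzd : D.dd i (z', z'') = 0 := hz.2
  rw [mem_gam_prod] at hzg
  rw [D.dd_apply, Prod.mk_eq_zero] at hzd
  change z'' ∈ E''.cobdy a i at hy
  cases i with
  | zero =>
    have h0 : z'' = 0 := hy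
    subst h0
    simp only [map_zero, add_zero] at hzd
    refine ⟨E'.toH a 0 ⟨z', hzg.1, hzd.1⟩, ?_⟩
    rw [Hmap_mk]
    rfl
  | succ n =>
    obtain ⟨y'', hy'', rfl⟩ := hy
    have hc : z' - D.τ n y'' ∈ E'.cocyc a (n + 1) := by
      refine ⟨sub_mem hzg.1 (map_mem_gam _ _ hy''), ?_⟩
      rw [SetLike.mem_coe, LinearMap.mem_ker, map_sub]
      have h1 := eq_neg_of_add_eq_zero_left hzd.1
      have h2 := eq_neg_of_add_eq_zero_right (D.hτ n y'')
      simp only at h1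
      rw [h1, h2, sub_self]
    refine ⟨E'.toH a (n + 1) ⟨z' - D.τ n y'', hc⟩, ?_⟩
    rw [Hmap_mk, toH_eq_iff]
    refine ⟨((0, -y'') : (E'.X n).carrier × (E''.X n).carrier), ?_, ?_⟩
    · exact (mem_gam_prod _ _ _).mpr ⟨zero_mem _, neg_mem hy''⟩
    · change D.dd n (0, -y'') = ((z' - D.τ n y'' - z', 0 - E''.d n y'') :
        (E'.X (n + 1)).carrier × (E''.X (n + 1)).carrier)
      rw [D.dd_apply]
      apply Prod.ext
      · simp only [map_zero, zero_add, map_neg]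
        abel
      · simp

theorem HS.snd_inl (i : ℕ) (x : E'.H a i) :
    Hmap (D.snd hv hinj hsurj hex hvu) a i (Hmap (D.inl hv hinj hsurj hex hvu) a i x) = 0 := by
  obtain ⟨z, rfl⟩ := Submodule.mkQ_surjective _ x
  change Hmap (D.snd hv hinj hsurj hex hvu) a i
    (Hmap (D.inl hv hinj hsurj hex hvu) a i (E'.toH a i z)) = 0
  rw [Hmap_mk, Hmap_mk, toH_eq_zero_iff]
  exact zero_mem _

/-- exactness at the quotient term -/
theorem HS.exact_right (i : ℕ) (w : E''.H a i) (hw : D.δ a i w = 0) :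
    ∃ y : (D.res hv hinj hsurj hex hvu).H a i, Hmap (D.snd hv hinj hsurj hex hvu) a i y = w := by
  obtain ⟨z'', rfl⟩ := Submodule.mkQ_surjective _ w
  change D.δ a i (E''.toH a i z'') = 0 at hw
  rw [D.δ_mk, toH_eq_zero_iff] at hw
  obtain ⟨y', hy', hy⟩ := hw
  have hc : ((-y', (z'' : (E''.X i).carrier)) : (E'.X i).carrier × (E''.X i).carrier) ∈
      (D.res hv hinj hsurj hex hvu).cocyc a i := by
    refine ⟨(mem_gam_prod _ _ _).mpr ⟨neg_mem hy', z''.2.1⟩, ?_⟩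
    rw [SetLike.mem_coe, LinearMap.mem_ker]
    change D.dd i (-y', (z'' : (E''.X i).carrier)) = 0
    rw [D.dd_apply, Prod.mk_eq_zero]
    refine ⟨?_, z''.2.2⟩
    simp only
    rw [map_neg, hy]
    exact neg_add_cancel _
  refine ⟨(D.res hv hinj hsurj hex hvu).toH a i ⟨_, hc⟩, ?_⟩
  rw [Hmap_mk]
  rfl

theorem HS.δ_snd (i : ℕ) (y : (D.res hv hinj hsurj hex hvu).H a i) :
    D.δ a i (Hmap (D.snd hv hinj hsurj hex hvu) a i y) = 0 := by
  obtain ⟨z, rfl⟩ := Submodule.mkQ_surjective _ y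
  change D.δ a i (Hmap (D.snd hv hinj hsurj hex hvu) a i
    ((D.res hv hinj hsurj hex hvu).toH a i z)) = 0
  rw [Hmap_mk, D.δ_mk, toH_eq_zero_iff]
  obtain ⟨⟨z', z''⟩, hz⟩ := z
  have hzg : ((z', z'') : (E'.X i).carrier × (E''.X i).carrier) ∈ GrLC.gam a.toIdeal _ := hz.1
  have hzd : D.dd i (z', z'') = 0 := hz.2
  rw [mem_gam_prod] at hzg
  rw [D.dd_apply, Prod.mk_eq_zero] at hzd
  refine ⟨-z', neg_mem hzg.1, ?_⟩
  rw [map_neg]
  exact (eq_neg_of_add_eq_zero_right hzd.1).symm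

/-- exactness at the sub term -/
theorem HS.exact_left (i : ℕ) (x : E'.H a (i + 1))
    (hx : Hmap (D.inl hv hinj hsurj hex hvu) a (i + 1) x = 0) :
    ∃ w : E''.H a i, D.δ a i w = x := by
  obtain ⟨z', rfl⟩ := Submodule.mkQ_surjective _ x
  change Hmap (D.inl hv hinj hsurj hex hvu) a (i + 1) (E'.toH a (i + 1) z') = 0 at hx
  rw [Hmap_mk, toH_eq_zero_iff] at hx
  obtain ⟨⟨y', y''⟩, hyg, hy⟩ := hx
  have hyg' : ((y', y'') : (E'.X i).carrier × (E''.X i).carrier) ∈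
      GrLC.gam a.toIdeal ((E'.X i).carrier × (E''.X i).carrier) := hyg
  clear hyg
  have hyg := (mem_gam_prod _ _ _).mp hyg'
  change D.dd i (y', y'') = ((z' : (E'.X (i + 1)).carrier), 0) at hy
  rw [D.dd_apply, Prod.mk.injEq] at hy
  refine ⟨E''.toH a i ⟨y'', hyg.2, hy.2⟩, ?_⟩
  rw [D.δ_mk, toH_eq_iff]
  refine ⟨-y', neg_mem hyg.1, ?_⟩
  rw [map_neg]
  simp only
  rw [← hy.1]
  abel

theorem HS.inl_δ (i : ℕ) (w : E''.H a i) :
    Hmap (D.inl hv hinj hsurj hex hvu) a (i + 1) (D.δ a i w) = 0 := by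
  obtain ⟨z'', rfl⟩ := Submodule.mkQ_surjective _ w
  change Hmap (D.inl hv hinj hsurj hex hvu) a (i + 1) (D.δ a i (E''.toH a i z'')) = 0
  rw [D.δ_mk, Hmap_mk, toH_eq_zero_iff]
  refine ⟨((0, (z'' : (E''.X i).carrier)) : (E'.X i).carrier × (E''.X i).carrier), ?_, ?_⟩
  · exact (mem_gam_prod _ _ _).mpr ⟨zero_mem _, z''.2.1⟩
  · change D.dd i (0, (z'' : (E''.X i).carrier)) = ((D.τ i z'', 0) : _ × _)
    rw [D.dd_apply, (show E''.d i z'' = 0 from z''.2.2)]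
    simp

/-- left exactness in degree zero -/
theorem HS.inl_injective_zero (x : E'.H a 0)
    (hx : Hmap (D.inl hv hinj hsurj hex hvu) a 0 x = 0) : x = 0 := by
  obtain ⟨z', rfl⟩ := Submodule.mkQ_surjective _ x
  change Hmap (D.inl hv hinj hsurj hex hvu) a 0 (E'.toH a 0 z') = 0 at hx
  rw [Hmap_mk, toH_eq_zero_iff] at hx
  have h0 : (((z' : (E'.X 0).carrier), 0) : (E'.X 0).carrier × (E''.X 0).carrier) = 0 := hx
  rw [Prod.mk_eq_zero] at h0
  show E'.toH a 0 z' = 0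
  rw [toH_eq_zero_iff]
  exact h0.1

end LES

end Groth.Agent.Helper7.GrDel
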