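import Mathlib
import Groth.Prelude.Def_GrLC
import Groth.Agent.Helper7.GrDel4
import Groth.Agent.Helper6.GrH

/-!
# Graded δ-functor library, part 5: the long exact sequence of graded local cohomology for
arbitrary *injective resolutions.
-/

namespace Groth.Agent.Helper7.GrDel

open DirectSum Groth.Agent.Helper6.GrMod Groth.Agent.Helper6.GrCon

universe u

section Congr

variable {ι : Type} [AddCommGroup ι] [DecidableEq ι] {R : Type u} [CommRing R]
  {𝒜 : ι → AddSubgroup R} [GradedRing 𝒜]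
  {M : Type u} [AddCommGroup M] [Module R M] {ℳ : ι → AddSubgroup M} [Decomposition ℳ]
  [SetLike.GradedSMul 𝒜 ℳ]
  {N : Type u} [AddCommGroup N] [Module R N] {𝒩 : ι → AddSubgroup N} [Decomposition 𝒩]
  [SetLike.GradedSMul 𝒜 𝒩]

theorem Hphi_congr (E : GrLC.StarInjRes 𝒜 ℳ) (F : GrLC.StarInjRes 𝒜 𝒩) {φ φ' : M →ₗ[R] N}
    (h : φ = φ') (hφ : GrLC.IsGrHom ℳ 𝒩 φ) (hφ' : GrLC.IsGrHom ℳ 𝒩 φ') (a : HomogeneousIdeal 𝒜)
    (i : ℕ) : Hphi E F φ hφ a i = Hphi E F φ' hφ' a i := by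
  subst h
  rfl

/-- homogeneous elements in the range of a homogeneous map have homogeneous preimages -/
theorem exists_mem_of_gr {X Y : Type u} [AddCommGroup X] [Module R X] [AddCommGroup Y]
    [Module R Y] {𝒳 : ι → AddSubgroup X} {𝒴 : ι → AddSubgroup Y} (hX : DirectSum.IsInternal 𝒳)
    (hY : DirectSum.IsInternal 𝒴) (f : X →ₗ[R] Y) (hf : GrLC.IsGrHom 𝒳 𝒴 f) (g : ι) (x : X)
    (hy : f x ∈ 𝒴 g) : ∃ x' ∈ 𝒳 g, f x' = f x := by
  letI := hX.chooseDecomposition
  letI := hY.chooseDecomposition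
  refine ⟨(decompose 𝒳 x g : X), (decompose 𝒳 x g).2, ?_⟩
  rw [← decompose_map hf, decompose_of_mem_same 𝒴 hy]

end Congr

section LES

variable {ι : Type} [AddCommGroup ι] [DecidableEq ι] {R : Type u} [CommRing R]
  {𝒜 : ι → AddSubgroup R} [GradedRing 𝒜]
  {M' : Type u} [AddCommGroup M'] [Module R M'] {ℳ' : ι → AddSubgroup M'} [Decomposition ℳ']
  [SetLike.GradedSMul 𝒜 ℳ']
  {M : Type u} [AddCommGroup M] [Module R M] {ℳ : ι → AddSubgroup M} [Decomposition ℳ]
  [SetLike.GradedSMul 𝒜 ℳ]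
  {M'' : Type u} [AddCommGroup M''] [Module R M''] {ℳ'' : ι → AddSubgroup M''}
  [Decomposition ℳ''] [SetLike.GradedSMul 𝒜 ℳ'']

/-- The long exact sequence of graded local cohomology attached to a short exact sequence of graded
modules, for arbitrary *injective resolutions of the three terms. -/
theorem exists_les (E' : GrLC.StarInjRes 𝒜 ℳ') (E : GrLC.StarInjRes 𝒜 ℳ)
    (E'' : GrLC.StarInjRes 𝒜 ℳ'') (u : M' →ₗ[R] M) (v : M →ₗ[R] M'')
    (hu : GrLC.IsGrHom ℳ' ℳ u) (hv : GrLC.IsGrHom ℳ ℳ'' v)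
    (hinj : Function.Injective u) (hsurj : Function.Surjective v)
    (hex : ∀ m, v m = 0 → ∃ m', u m' = m) (hvu : ∀ m', v (u m') = 0) (a : HomogeneousIdeal 𝒜) :
    ∃ δ : ∀ i, E''.H a i →ₗ[R] E'.H a (i + 1),
      (∀ i, GrLC.IsGrHom (E''.Hgr a i) (E'.Hgr a (i + 1)) (δ i)) ∧
      (∀ x : E'.H a 0, Hphi E' E u hu a 0 x = 0 → x = 0) ∧
      (∀ i (y : E.H a i), Hphi E E'' v hv a i y = 0 ↔ ∃ x, Hphi E' E u hu a i x = y) ∧
      (∀ i (w : E''.H a i), δ i w = 0 ↔ ∃ y, Hphi E E'' v hv a i y = w) ∧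
      (∀ i (x : E'.H a (i + 1)), Hphi E' E u hu a (i + 1) x = 0 ↔ ∃ w, δ i w = x) := by
  obtain ⟨D⟩ := nonempty_HS ℳ E' E'' u v hu hv hinj hsurj hex
  set Et := D.res hv hinj hsurj hex hvu with hEt
  have hid : GrLC.IsGrHom ℳ ℳ (LinearMap.id : M →ₗ[R] M) := fun _ _ h => h
  -- α = θ ∘ inl
  have hα : ∀ i x, Hphi E' E u hu a i x =
      Hequiv Et E a i (Hmap (D.inl hv hinj hsurj hex hvu) a i x) := by
    intro i x
    have h1 := Hphi_comp (E := E') (F := Et) (G := E) (φ := u) (ψ := LinearMap.id) hu hid a i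
    rw [Hphi_eq (D.inl hv hinj hsurj hex hvu)] at h1
    have h2 := Hphi_congr E' E (LinearMap.id_comp u) (fun j m hm => hid j _ (hu j m hm)) hu a i
    rw [← h2, ← h1]
    rfl
  -- β = snd ∘ θ⁻¹
  have hβ : ∀ i y, Hphi E E'' v hv a i y =
      Hmap (D.snd hv hinj hsurj hex hvu) a i ((Hequiv Et E a i).symm y) := by
    intro i y
    have h1 := Hphi_comp (E := E) (F := Et) (G := E'') (φ := LinearMap.id) (ψ := v) hid hv a i
    rw [Hphi_eq (D.snd hv hinj hsurj hex hvu)] at h1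
    have h2 := Hphi_congr E E'' (LinearMap.comp_id v) (fun j m hm => hv j _ (hid j m hm)) hv a i
    rw [← h2, ← h1]
    rfl
  refine ⟨fun i => D.δ a i, fun i => D.δ_gr a i, ?_, ?_, ?_, ?_⟩
  · intro x hx
    rw [hα] at hx
    have := (Hequiv Et E a 0).injective (hx.trans (map_zero _).symm)
    exact D.inl_injective_zero hv hinj hsurj hex hvu a x this
  · intro i y
    constructor
    · intro hy
      rw [hβ] at hy
      obtain ⟨x, hx⟩ := D.exact_mid hv hinj hsurj hex hvu a i _ hy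
      exact ⟨x, by rw [hα, hx, LinearEquiv.apply_symm_apply]⟩
    · rintro ⟨x, rfl⟩
      rw [hβ, hα, LinearEquiv.symm_apply_apply]
      exact D.snd_inl hv hinj hsurj hex hvu a i x
  · intro i w
    constructor
    · intro hw
      obtain ⟨y, hy⟩ := D.exact_right hv hinj hsurj hex hvu a i w hw
      exact ⟨Hequiv Et E a i y, by rw [hβ, LinearEquiv.symm_apply_apply, hy]⟩
    · rintro ⟨y, rfl⟩
      rw [hβ]
      exact D.δ_snd hv hinj hsurj hex hvu a i _
  · intro i x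
    constructor
    · intro hx
      rw [hα] at hx
      have := (Hequiv Et E a (i + 1)).injective (hx.trans (map_zero _).symm)
      exact D.exact_left hv hinj hsurj hex hvu a i x this
    · rintro ⟨w, rfl⟩
      rw [hα, D.inl_δ hv hinj hsurj hex hvu a i w, map_zero]

end LES

end Groth.Agent.Helper7.GrDel
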