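import Mathlib
import Groth.Prelude.Def_GrLC
import Groth.Agent.Helper7.GrDel5

/-!
# Graded δ-functor library, part 6: shifts, multiplication by a homogeneous element, and the long exact
sequence attached to a homogeneous non-zero-divisor.
-/

namespace Groth.Agent.Helper7.GrDel

open DirectSum Groth.Agent.Helper6.GrMod Groth.Agent.Helper6.GrCon Groth.Agent.Helper6.GrShift

universe u

section Shift

variable {ι : Type} [AddCommGroup ι] [DecidableEq ι] {R : Type u} [CommRing R]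
  {𝒜 : ι → AddSubgroup R} [GradedRing 𝒜]
  {M : Type u} [AddCommGroup M] [Module R M] {ℳ : ι → AddSubgroup M} [Decomposition ℳ]
  [SetLike.GradedSMul 𝒜 ℳ]

/-- the shifted resolution, a *injective resolution of the shifted module -/
noncomputable def shiftRes (E : GrLC.StarInjRes 𝒜 ℳ) (d : ι) :
    GrLC.StarInjRes 𝒜 (shiftGMod 𝒜 (GrLC.GMod.of 𝒜 M ℳ) d).gr where
  X n := shiftGMod 𝒜 (E.X n) d
  d n := E.d n
  ε := E.ε
  d_grHom n i x hx := E.d_grHom n (i + d) x hx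
  ε_grHom i m hm := E.ε_grHom (i + d) m hm
  ε_injective := E.ε_injective
  exact_zero := E.exact_zero
  exact_succ := E.exact_succ
  starInj n := by
    let _ : Decomposition (shiftFam (E.X n).gr d) := (shiftGMod 𝒜 (E.X n) d).dec
    let _ : SetLike.GradedSMul 𝒜 (shiftFam (E.X n).gr d) := (shiftGMod 𝒜 (E.X n) d).gsmul
    exact isStarInj_shift 𝒜 (E.X n).gr d (E.starInj n)

theorem shiftRes_Hgr (E : GrLC.StarInjRes 𝒜 ℳ) (d : ι) (a : HomogeneousIdeal 𝒜) (i : ℕ) (g : ι) :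
    (shiftRes E d).Hgr a i g = E.Hgr a i (g + d) := rfl

theorem smul_mem_gr (X : GrLC.GMod.{u} 𝒜) {t : ι} {r : R} (hr : r ∈ 𝒜 t) (i : ι) (x : X.carrier)
    (hx : x ∈ X.gr (i + -t)) : r • x ∈ X.gr i := by
  have h := SetLike.GradedSMul.smul_mem (A := 𝒜) (B := X.gr) hr hx
  rw [vadd_eq_add, add_neg_cancel_comm_assoc] at h
  exact h

/-- multiplication by a homogeneous element as a chain map from the shifted resolution -/
def mulHom (E : GrLC.StarInjRes 𝒜 ℳ) (t : ι) (r : R) (hr : r ∈ 𝒜 t) :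
    ResHom (shiftRes E (-t)) E (r • (LinearMap.id : M →ₗ[R] M)) where
  f n := r • (LinearMap.id : (E.X n).carrier →ₗ[R] (E.X n).carrier)
  f_gr n i x hx := smul_mem_gr (E.X n) hr i x hx
  comm_ε m := (map_smul E.ε r m).symm
  comm_d n x := (map_smul (E.d n) r x).symm

theorem Hmap_mulHom (E : GrLC.StarInjRes 𝒜 ℳ) (t : ι) (r : R) (hr : r ∈ 𝒜 t)
    (a : HomogeneousIdeal 𝒜) (i : ℕ) (x : E.H a i) :
    Hmap (mulHom E t r hr) a i x = r • x := by
  obtain ⟨z, rfl⟩ := Submodule.mkQ_surjective _ x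
  rfl

end Shift

section Mul

variable {ι : Type} [AddCommGroup ι] [DecidableEq ι] {R : Type u} [CommRing R]
  {𝒜 : ι → AddSubgroup R} [GradedRing 𝒜]
  {M : Type u} [AddCommGroup M] [Module R M] {ℳ : ι → AddSubgroup M} [Decomposition ℳ]
  [SetLike.GradedSMul 𝒜 ℳ]
  {N : Type u} [AddCommGroup N] [Module R N] {𝒩 : ι → AddSubgroup N} [Decomposition 𝒩]
  [SetLike.GradedSMul 𝒜 𝒩]

/-- the long exact sequence attached to a homogeneous non-zero-divisor -/
structure MulLES (E : GrLC.StarInjRes 𝒜 ℳ) (F : GrLC.StarInjRes 𝒜 𝒩) (a : HomogeneousIdeal 𝒜)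
    (r : R) (t : ι) where
  β : ∀ i, E.H a i →ₗ[R] F.H a i
  δ : ∀ i, F.H a i →ₗ[R] E.H a (i + 1)
  β_gr : ∀ i, GrLC.IsGrHom (E.Hgr a i) (F.Hgr a i) (β i)
  δ_gr : ∀ i j w, w ∈ F.Hgr a i j → δ i w ∈ E.Hgr a (i + 1) (j - t)
  inj0 : ∀ x : E.H a 0, r • x = 0 → x = 0
  exact1 : ∀ i (y : E.H a i), β i y = 0 ↔ ∃ x : E.H a i, r • x = y
  exact2 : ∀ i (w : F.H a i), δ i w = 0 ↔ ∃ y, β i y = w
  exact3 : ∀ i (x : E.H a (i + 1)), r • x = 0 ↔ ∃ w, δ i w = x

theorem nonempty_mulLES (E : GrLC.StarInjRes 𝒜 ℳ) (F : GrLC.StarInjRes 𝒜 𝒩)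
    (a : HomogeneousIdeal 𝒜) (r : R) (t : ι) (hr : r ∈ 𝒜 t) (hreg : IsSMulRegular M r)
    (π : M →ₗ[R] N) (hπ : GrLC.IsGrHom ℳ 𝒩 π) (hsurj : Function.Surjective π)
    (hker : ∀ m, π m = 0 ↔ ∃ m', r • m' = m) : Nonempty (MulLES E F a r t) := by
  have hu : GrLC.IsGrHom (shiftGMod 𝒜 (GrLC.GMod.of 𝒜 M ℳ) (-t)).gr ℳ
      (r • (LinearMap.id : M →ₗ[R] M)) := by
    intro i m hm
    have h := SetLike.GradedSMul.smul_mem (A := 𝒜) (B := ℳ) hr (show m ∈ ℳ (i + -t) from hm)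
    rw [vadd_eq_add, add_neg_cancel_comm_assoc] at h
    exact h
  obtain ⟨δ, hδ, h0, h1, h2, h3⟩ := exists_les (shiftRes E (-t)) E F
    (r • (LinearMap.id : M →ₗ[R] M)) π hu hπ hreg hsurj
    (fun m hm => (hker m).mp hm) (fun m' => (hker _).mpr ⟨m', rfl⟩) a
  have hα : ∀ i (x : E.H a i),
      Hphi (shiftRes E (-t)) E (r • (LinearMap.id : M →ₗ[R] M)) hu a i x = r • x := by
    intro i x
    rw [Hphi_eq (mulHom E t r hr)]
    exact Hmap_mulHom E t r hr a i x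
  exact ⟨{ β := fun i => Hphi E F π hπ a i
           δ := δ
           β_gr := fun i => Hphi_gr hπ a i
           δ_gr := fun i j w hw => by
             have := hδ i j w hw
             rw [sub_eq_add_neg]
             exact this
           inj0 := fun x hx => h0 x (by rw [hα]; exact hx)
           exact1 := fun i y => by
             rw [h1]
             constructor
             · rintro ⟨x, hx⟩
               exact ⟨x, by rw [← hα]; exact hx⟩
             · rintro ⟨x, hx⟩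
               exact ⟨x, by rw [hα]; exact hx⟩
           exact2 := h2
           exact3 := fun i x =>
             ⟨fun hx => (h3 i x).mp ((hα (i + 1) x).trans hx),
              fun hw => (hα (i + 1) x).symm.trans ((h3 i x).mpr hw)⟩ }⟩

variable {E : GrLC.StarInjRes 𝒜 ℳ} {F : GrLC.StarInjRes 𝒜 𝒩} {a : HomogeneousIdeal 𝒜}
  {r : R} {t : ι}

theorem smul_mem_Hgr (hr : r ∈ 𝒜 t) (i : ℕ) (j : ι) (x : E.H a i) (hx : x ∈ E.Hgr a i j) :
    r • x ∈ E.Hgr a i (j + t) := by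
  obtain ⟨z, hz, rfl⟩ := hx
  refine ⟨r • z, ?_, (map_smul _ _ _)⟩
  have h := SetLike.GradedSMul.smul_mem (A := 𝒜) (B := (E.X i).gr) hr hz
  rw [vadd_eq_add, add_comm] at h
  exact h

/-- graded exactness at the source of `β` -/
theorem MulLES.exact1_gr (L : MulLES E F a r t) (hr : r ∈ 𝒜 t) (i : ℕ) (j : ι) (y : E.H a i)
    (hy : y ∈ E.Hgr a i j) (h : L.β i y = 0) : ∃ x ∈ E.Hgr a i (j - t), r • x = y := by
  obtain ⟨x, rfl⟩ := (L.exact1 i y).mp h
  have hX := Groth.Agent.Helper6.GrH.Hgr_isInternal 𝒜 _ a (shiftRes E (-t)) i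
  have hY := Groth.Agent.Helper6.GrH.Hgr_isInternal 𝒜 ℳ a E i
  have hf : GrLC.IsGrHom ((shiftRes E (-t)).Hgr a i) (E.Hgr a i)
      (r • (LinearMap.id : E.H a i →ₗ[R] E.H a i)) := by
    intro g x hx
    have := smul_mem_Hgr hr i (g + -t) x hx
    rw [neg_add_cancel_right] at this
    exact this
  obtain ⟨x', hx', e⟩ := exists_mem_of_gr hX hY _ hf j x hy
  refine ⟨x', ?_, e⟩
  rw [sub_eq_add_neg]
  exact hx'

/-- graded exactness at the target of `β` -/
theorem MulLES.exact2_gr (L : MulLES E F a r t) (i : ℕ) (j : ι) (w : F.H a i)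
    (hw : w ∈ F.Hgr a i j) (h : L.δ i w = 0) : ∃ y ∈ E.Hgr a i j, L.β i y = w := by
  obtain ⟨y, rfl⟩ := (L.exact2 i w).mp h
  have hX := Groth.Agent.Helper6.GrH.Hgr_isInternal 𝒜 ℳ a E i
  have hY := Groth.Agent.Helper6.GrH.Hgr_isInternal 𝒜 𝒩 a F i
  exact exists_mem_of_gr hX hY _ (L.β_gr i) j y hw

/-- graded exactness at the target of `δ` -/
theorem MulLES.exact3_gr (L : MulLES E F a r t) (i : ℕ) (j : ι) (x : E.H a (i + 1))
    (hx : x ∈ E.Hgr a (i + 1) j) (h : r • x = 0) : ∃ w ∈ F.Hgr a i (j + t), L.δ i w = x := by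
  obtain ⟨w, rfl⟩ := (L.exact3 i x).mp h
  have hX := Groth.Agent.Helper6.GrH.Hgr_isInternal 𝒜 𝒩 a F i
  have hY := Groth.Agent.Helper6.GrH.Hgr_isInternal 𝒜 _ a (shiftRes E (-t)) (i + 1)
  have hf : GrLC.IsGrHom (F.Hgr a i) ((shiftRes E (-t)).Hgr a (i + 1)) (L.δ i) := by
    intro g w hw
    have := L.δ_gr i g w hw
    rw [sub_eq_add_neg] at this
    exact this
  obtain ⟨w', hw', e⟩ := exists_mem_of_gr hX hY _ hf (j + t) w (by
    show L.δ i w ∈ E.Hgr a (i + 1) (j + t + -t)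
    rw [add_neg_cancel_right]
    exact hx)
  exact ⟨w', hw', e⟩

end Mul

end Groth.Agent.Helper7.GrDel
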