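import Mathlib
import Groth.Prelude.Def_GrLC
import Groth.Agent.Helper6.GrMod

/-!
# Graded prime avoidance and homogeneous non-zero-divisors of positive degree
-/

namespace Groth.Agent.Helper7.GrFinB

open DirectSum Groth.Agent.Helper6.GrMod

universe u

variable {R : Type u} [CommRing R] (𝒜 : ℤ → AddSubgroup R) [GradedRing 𝒜]

theorem exists_homog_notMem (p q : Ideal R) (hp : p.IsHomogeneous 𝒜) (h : ¬ p ≤ q) :
    ∃ e : ℤ, ∃ u ∈ 𝒜 e, u ∈ p ∧ u ∉ q := by
  classical
  obtain ⟨y, hyp, hyq⟩ := Set.not_subset.mp h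
  by_contra hcon
  push Not at hcon
  apply hyq
  rw [← DirectSum.sum_support_decompose 𝒜 y]
  exact Ideal.sum_mem _ (fun i _ => hcon i _ (SetLike.coe_mem _) (hp i hyp))

variable (hpos : ∀ n : ℤ, n < 0 → 𝒜 n = ⊥) (a : HomogeneousIdeal 𝒜)
  (ha : a.toIdeal = Ideal.span (⋃ n ∈ Set.Ioi (0 : ℤ), (𝒜 n : Set R)))

include hpos in
theorem deg_nonneg {e : ℤ} {u : R} (hu : u ∈ 𝒜 e) (hu0 : u ≠ 0) : 0 ≤ e := by
  by_contra h
  push Not at h
  have h2 : u ∈ (⊥ : AddSubgroup R) := (hpos e h) ▸ hu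
  exact hu0 ((AddSubgroup.mem_bot).mp h2)

include ha in
theorem mem_a_of_pos {d : ℤ} (hd : 0 < d) {x : R} (hx : x ∈ 𝒜 d) : x ∈ a.toIdeal := by
  rw [ha]
  exact Ideal.subset_span (Set.mem_biUnion (x := d) hd hx)

include ha in
theorem exists_pos_notMem (q : Ideal R) (h : ¬ a.toIdeal ≤ q) :
    ∃ e : ℤ, 0 < e ∧ ∃ u ∈ 𝒜 e, u ∉ q := by
  by_contra hcon
  push Not at hcon
  apply h
  rw [ha, Ideal.span_le]
  intro x hx
  simp only [Set.mem_iUnion, Set.mem_Ioi, SetLike.mem_coe] at hx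
  obtain ⟨n, hn, hxn⟩ := hx
  exact hcon n hn x hxn

include hpos ha in
/-- graded prime avoidance for the irrelevant ideal -/
theorem exists_avoid : ∀ (n : ℕ) (S : Finset (Ideal R)), S.card = n →
    (∀ p ∈ S, p.IsPrime ∧ p.IsHomogeneous 𝒜 ∧ ¬ a.toIdeal ≤ p) →
    ∃ d : ℤ, 0 < d ∧ ∃ x ∈ 𝒜 d, ∀ p ∈ S, x ∉ p := by
  classical
  intro n
  induction n with
  | zero =>
    intro S hS _
    rw [Finset.card_eq_zero] at hS
    subst hS
    exact ⟨1, one_pos, 0, zero_mem _, fun p hp => absurd hp (Finset.notMem_empty p)⟩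
  | succ n ih =>
    intro S hS hprop
    have hne : S.Nonempty := Finset.card_pos.mp (by omega)
    obtain ⟨q, hqS, hqmin⟩ := S.exists_minimal hne
    have hcard : (S.erase q).card = n := by rw [Finset.card_erase_of_mem hqS, hS]; rfl
    obtain ⟨d, hd, x, hx, hxS⟩ := ih (S.erase q) hcard
      (fun p hp => hprop p (Finset.mem_of_mem_erase hp))
    by_cases hxq : x ∉ q
    · refine ⟨d, hd, x, hx, fun p hp => ?_⟩
      by_cases hpq : p = q
      · rw [hpq]; exact hxq
      · exact hxS p (Finset.mem_erase.mpr ⟨hpq, hp⟩)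
    · rw [not_not] at hxq
      have hqprime : q.IsPrime := (hprop q hqS).1
      -- homogeneous elements u_p ∈ p \ q
      have hu : ∀ p ∈ S.erase q, ∃ e : ℤ, ∃ u ∈ 𝒜 e, u ∈ p ∧ u ∉ q := by
        intro p hp
        have hpS := Finset.mem_of_mem_erase hp
        have hpq : p ≠ q := Finset.ne_of_mem_erase hp
        apply exists_homog_notMem 𝒜 p q (hprop p hpS).2.1
        intro hle
        exact hpq (le_antisymm hle (hqmin hpS hle))
      choose! e u hue hup huq using hu
      obtain ⟨e₀, he₀, a₀, ha₀, ha₀q⟩ := exists_pos_notMem 𝒜 a ha q (hprop q hqS).2.2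
      have he : ∀ p ∈ S.erase q, 0 ≤ e p := fun p hp =>
        deg_nonneg 𝒜 hpos (hue p hp) (fun h0 => huq p hp (by rw [h0]; exact zero_mem _))
      set y : R := a₀ * ∏ p ∈ S.erase q, u p with hy
      set ey : ℤ := e₀ + ∑ p ∈ S.erase q, e p with hey
      have hyd : y ∈ 𝒜 ey :=
        SetLike.mul_mem_graded ha₀ (SetLike.prod_mem_graded 𝒜 e u hue)
      have hey_pos : 0 < ey := by
        have := Finset.sum_nonneg he
        omega
      have hyq : y ∉ q := by
        intro h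
        rcases hqprime.mem_or_mem h with h1 | h1
        · exact ha₀q h1
        · obtain ⟨p, hp, hpu⟩ := (hqprime.prod_mem_iff).mp h1
          exact huq p hp hpu
      have hyp : ∀ p ∈ S.erase q, y ∈ p := fun p hp =>
        Ideal.mul_mem_left _ _ (Ideal.prod_mem _ hp (hup p hp))
      -- z = x ^ ey + y ^ d
      obtain ⟨ky, hky⟩ : ∃ k : ℕ, (k : ℤ) = ey := ⟨ey.toNat, Int.toNat_of_nonneg hey_pos.le⟩
      obtain ⟨kd, hkd⟩ : ∃ k : ℕ, (k : ℤ) = d := ⟨d.toNat, Int.toNat_of_nonneg hd.le⟩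
      have hky_pos : 0 < ky := by omega
      have hkd_pos : 0 < kd := by omega
      have h1 : x ^ ky ∈ 𝒜 (d * ey) := by
        have := SetLike.pow_mem_graded ky hx
        rw [nsmul_eq_mul, hky, mul_comm] at this
        exact this
      have h2 : y ^ kd ∈ 𝒜 (d * ey) := by
        have := SetLike.pow_mem_graded kd hyd
        rw [nsmul_eq_mul, hkd] at this
        exact this
      refine ⟨d * ey, mul_pos hd hey_pos, x ^ ky + y ^ kd, add_mem h1 h2, fun p hp => ?_⟩
      have hpprime : p.IsPrime := (hprop p hp).1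
      by_cases hpq : p = q
      · rw [hpq]
        intro h
        have h3 : x ^ ky ∈ q := Ideal.pow_mem_of_mem _ hxq _ hky_pos
        have h4 : y ^ kd ∈ q := (Ideal.add_mem_iff_right _ h3).mp h
        exact hyq (hqprime.mem_of_pow_mem _ h4)
      · have hp' : p ∈ S.erase q := Finset.mem_erase.mpr ⟨hpq, hp⟩
        intro h
        have h3 : y ^ kd ∈ p := Ideal.pow_mem_of_mem _ (hyp p hp') _ hkd_pos
        have h4 : x ^ ky ∈ p := (Ideal.add_mem_iff_left _ h3).mp h
        exact hxS p hp' (hpprime.mem_of_pow_mem _ h4)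

variable (M : Type u) [AddCommGroup M] [Module R M]

include hpos ha in
/-- if `Γ_{R₊}(M) = 0` for a finite module `M` over a Noetherian positively graded ring, there is a
homogeneous non-zero-divisor on `M` of positive degree -/
theorem exists_regular [IsNoetherianRing R] [Module.Finite R M]
    (hM : ∀ y : M, y ∈ GrLC.gam a.toIdeal M → y = 0) :
    ∃ d : ℤ, 0 < d ∧ ∃ x ∈ 𝒜 d, IsSMulRegular M x := by
  classical
  have hfin : (associatedPrimes R M).Finite := associatedPrimes.finite R M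
  let S : Finset (Ideal R) := hfin.toFinset.image (fun p => (Ideal.homogeneousCore 𝒜 p).toIdeal)
  have hS : ∀ p ∈ S, p.IsPrime ∧ p.IsHomogeneous 𝒜 ∧ ¬ a.toIdeal ≤ p := by
    intro p hp
    obtain ⟨P, hP, rfl⟩ := Finset.mem_image.mp hp
    rw [Set.Finite.mem_toFinset] at hP
    have hPprime : P.IsPrime := hP.isPrime
    refine ⟨Ideal.IsPrime.homogeneousCore hPprime, (Ideal.homogeneousCore 𝒜 P).isHomogeneous, ?_⟩
    intro hle
    have hle' : a.toIdeal ≤ P := hle.trans (Ideal.toIdeal_homogeneousCore_le 𝒜 P)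
    obtain ⟨-, m, hm⟩ := (isAssociatedPrime_iff (R := R) (M := M)).mp hP
    have hm0 : m = 0 := by
      apply hM
      refine ⟨1, fun r hr => ?_⟩
      rw [pow_one] at hr
      have : r ∈ Submodule.colon (⊥ : Submodule R M) {m} := hm ▸ hle' hr
      rw [Submodule.mem_colon_singleton, Submodule.mem_bot] at this
      exact this
    apply hPprime.ne_top
    rw [hm, hm0, eq_top_iff]
    intro r _
    rw [Submodule.mem_colon_singleton, smul_zero]
    exact zero_mem _
  obtain ⟨d, hd, x, hx, hxS⟩ := exists_avoid 𝒜 hpos a ha S.card S rfl hS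
  refine ⟨d, hd, x, hx, ?_⟩
  have hnz : ∀ y : M, x • y = 0 → y = 0 := by
    intro y hy
    by_contra hy0
    have hmem : x ∈ ⋃ p ∈ associatedPrimes R M, (p : Set R) := by
      rw [biUnion_associatedPrimes_eq_zero_divisors]
      exact ⟨y, hy0, hy⟩
    simp only [Set.mem_iUnion, SetLike.mem_coe] at hmem
    obtain ⟨P, hP, hxP⟩ := hmem
    refine hxS _ (Finset.mem_image.mpr ⟨P, (Set.Finite.mem_toFinset hfin).mpr hP, rfl⟩) ?_
    exact Ideal.mem_homogeneousCore_of_homogeneous_of_mem ⟨d, hx⟩ hxP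
  intro y z hyz
  have : x • (y - z) = 0 := by
    rw [smul_sub]
    exact sub_eq_zero.mpr hyz
  exact sub_eq_zero.mp (hnz _ this)

end Groth.Agent.Helper7.GrFinB
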