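import Mathlib
import Groth.Prelude.Def_GrLC
import Groth.Agent.Helper7.GrDel6
import Groth.Agent.Helper7.GrFinA
import Groth.Agent.Helper7.GrFinB
import Groth.Agent.Helper6.GrExist
import Groth.Agent.Helper6.GrLCIrr
import Groth.Agent.Helper6.GrLCAcyc

/-!
# Reduction of graded local cohomology (support in the irrelevant ideal) to the torsion-free
quotient and a homogeneous non-zero-divisor
-/

namespace Groth.Agent.Helper7.GrFinC

open DirectSum Groth.Agent.Helper6.GrMod Groth.Agent.Helper6.GrCon Groth.Agent.Helper7.GrDel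

universe u

section Basic

variable {R : Type u} [CommRing R] {𝒜 : ℤ → AddSubgroup R} [GradedRing 𝒜]
  {M : Type u} [AddCommGroup M] [Module R M] {ℳ : ℤ → AddSubgroup M} [Decomposition ℳ]
  [SetLike.GradedSMul 𝒜 ℳ]

/-- every class of graded local cohomology is killed by a power of the ideal -/
theorem H_torsion (a : HomogeneousIdeal 𝒜) (E : GrLC.StarInjRes 𝒜 ℳ) (i : ℕ) (h : E.H a i) :
    ∃ k : ℕ, ∀ r ∈ a.toIdeal ^ k, r • h = 0 := by
  obtain ⟨z, rfl⟩ := Submodule.mkQ_surjective _ h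
  obtain ⟨k, hk⟩ := z.2.1
  refine ⟨k, fun r hr => ?_⟩
  rw [← map_smul]
  have : r • z = 0 := Subtype.ext (by rw [Submodule.coe_smul, hk r hr]; rfl)
  rw [this, map_zero]

/-- the graded local cohomology is the ordinary one with the grading forgotten -/
theorem nonempty_H_equiv [IsNoetherianRing R] (a : HomogeneousIdeal 𝒜) (E : GrLC.StarInjRes 𝒜 ℳ)
    (i : ℕ) : Nonempty (E.H a i ≃ₗ[R] LocCoh.H a.toIdeal i M) := by
  obtain ⟨e⟩ := Groth.Agent.Helper6.LCAcycRes.main a.toIdeal i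
    (fun n => ModuleCat.of R (E.X n).carrier) E.d M E.ε E.ε_injective E.exact_zero E.exact_succ
    (fun n k => Groth.Agent.Helper6.GrLCAcyc.main 𝒜 a (E.X n).gr (E.starInj n) (k + 1) (by omega))
  have hc : E.cobdy a i = Groth.Agent.Helper6.LCAcycRes.cobdy a.toIdeal
      (fun n => ModuleCat.of R (E.X n).carrier) E.d i := by
    cases i <;> rfl
  have hq : (E.cobdy a i).comap (E.cocyc a i).subtype =
      (Groth.Agent.Helper6.LCAcycRes.cobdy a.toIdeal
        (fun n => ModuleCat.of R (E.X n).carrier) E.d i).comap (E.cocyc a i).subtype := by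
    rw [hc]
  exact ⟨(Submodule.quotEquivOfEq _ _ hq).trans e⟩

theorem H_subsingleton_of_torsion [IsNoetherianRing R] (a : HomogeneousIdeal 𝒜)
    (hM : ∀ y : M, y ∈ GrLC.gam a.toIdeal M) (E : GrLC.StarInjRes 𝒜 ℳ) (i : ℕ) (hi : 1 ≤ i) :
    Subsingleton (E.H a i) := by
  obtain ⟨e⟩ := nonempty_H_equiv a E i
  have := Groth.Agent.Helper6.GrLCIrr.subsingleton_of_torsion a.toIdeal M hM i hi
  exact e.toEquiv.subsingleton

/-- a finitely generated torsion module is killed by a single power -/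
theorem exists_pow_smul_eq_zero (J : Ideal R) (N : Type u) [AddCommGroup N] [Module R N]
    [Module.Finite R N] (hN : ∀ y : N, y ∈ GrLC.gam J N) :
    ∃ k : ℕ, ∀ r ∈ J ^ k, ∀ y : N, r • y = 0 := by
  classical
  obtain ⟨S, hS⟩ := (Module.finite_def (R := R) (M := N)).mp inferInstance
  have hk : ∀ s : N, ∃ k : ℕ, ∀ r ∈ J ^ k, r • s = 0 := fun s => hN s
  choose k hk using hk
  refine ⟨S.sup k, fun r hr y => ?_⟩
  have hy : y ∈ Submodule.span R (S : Set N) := by rw [hS]; trivial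
  induction hy using Submodule.span_induction with
  | mem y hy => exact hk y r (Ideal.pow_le_pow_right (Finset.le_sup (f := k) hy) hr)
  | zero => exact smul_zero _
  | add y z _ _ hy hz => rw [smul_add, hy, hz, add_zero]
  | smul s y _ hy => rw [smul_comm, hy, smul_zero]

/-- the quotient by the torsion submodule is torsion-free -/
theorem gam_quot_eq_zero [IsNoetherianRing R] [Module.Finite R M] (J : Ideal R)
    (y : M ⧸ GrLC.gam J M) (hy : y ∈ GrLC.gam J (M ⧸ GrLC.gam J M)) : y = 0 := by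
  obtain ⟨l, hl⟩ := exists_pow_smul_eq_zero J ↥(GrLC.gam J M) (fun z => by
    obtain ⟨k, hk⟩ := z.2
    exact ⟨k, fun r hr => Subtype.ext (by rw [Submodule.coe_smul, hk r hr]; rfl)⟩)
  obtain ⟨m, rfl⟩ := (GrLC.gam J M).mkQ_surjective y
  obtain ⟨k, hk⟩ := hy
  rw [Submodule.mkQ_apply, Submodule.Quotient.mk_eq_zero]
  refine ⟨l + k, fun t ht => ?_⟩
  rw [pow_add] at ht
  refine Submodule.mul_induction_on ht (fun s hs r hr => ?_) (fun p q hp hq => ?_)
  · have h1 : r • m ∈ GrLC.gam J M := by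
      have := hk r hr
      rw [← map_smul, Submodule.mkQ_apply, Submodule.Quotient.mk_eq_zero] at this
      exact this
    have h2 := hl s hs ⟨r • m, h1⟩
    rw [mul_smul]
    exact congrArg Subtype.val h2
  · rw [add_smul, hp, hq, add_zero]

theorem gam_sub_torsion (J : Ideal R) (z : ↥(GrLC.gam J M)) :
    z ∈ GrLC.gam J ↥(GrLC.gam J M) := by
  obtain ⟨k, hk⟩ := z.2
  exact ⟨k, fun r hr => Subtype.ext (by rw [Submodule.coe_smul, hk r hr]; rfl)⟩

theorem range_smul_isHomogeneous (X : GrLC.GMod.{u} 𝒜) {d : ℤ} {x : R} (hx : x ∈ 𝒜 d) :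
    (LinearMap.range (x • LinearMap.id : X.carrier →ₗ[R] X.carrier)).IsHomogeneous X.gr := by
  rintro i _ ⟨z, rfl⟩
  refine ⟨(decompose X.gr z (i - d) : X.carrier), ?_⟩
  have h := decompose_smul_homog 𝒜 X.gr hx z (i - d)
  rw [add_sub_cancel] at h
  exact h.symm

end Basic

section Struct

variable {R : Type u} [CommRing R] [IsNoetherianRing R] (𝒜 : ℤ → AddSubgroup R) [GradedRing 𝒜]
  (hpos : ∀ n : ℤ, n < 0 → 𝒜 n = ⊥) (a : HomogeneousIdeal 𝒜)
  (ha : a.toIdeal = Ideal.span (⋃ n ∈ Set.Ioi (0 : ℤ), (𝒜 n : Set R)))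

include hpos ha in
/-- Structural reduction: for a finitely generated graded module `X` there are finitely generated graded
modules `Xq` (`X` modulo its `R₊`-torsion) and `XN` (`Xq` modulo a homogeneous non-zero-divisor `x` of
positive degree `d`) such that the higher local cohomology of `X` embeds homogeneously in that of `Xq`
and there is a long exact sequence for `x` relating `Xq` and `XN`. -/
theorem exists_struct (X : GrLC.GMod.{u} 𝒜) [Module.Finite R X.carrier] :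
    ∃ (Xq XN : GrLC.GMod.{u} 𝒜) (d : ℤ) (x : R), Module.Finite R Xq.carrier ∧
      Module.Finite R XN.carrier ∧ 0 < d ∧ x ∈ 𝒜 d ∧
      (∀ (E : GrLC.StarInjRes 𝒜 X.gr) (Eq : GrLC.StarInjRes 𝒜 Xq.gr) (i : ℕ), 1 ≤ i →
        ∃ f : E.H a i →ₗ[R] Eq.H a i, GrLC.IsGrHom (E.Hgr a i) (Eq.Hgr a i) f ∧
          Function.Injective f) ∧
      (∀ (Eq : GrLC.StarInjRes 𝒜 Xq.gr) (EN : GrLC.StarInjRes 𝒜 XN.gr),
        Nonempty (MulLES Eq EN a x d)) := by
  set Γ : Submodule R X.carrier := GrLC.gam a.toIdeal X.carrier with hΓdef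
  have hΓ : Γ.IsHomogeneous X.gr := Groth.Agent.Helper6.GrH.gam_isHomogeneous 𝒜 X.gr a
  let XΓ : GrLC.GMod.{u} 𝒜 := subGMod 𝒜 X.gr Γ hΓ
  let Xq : GrLC.GMod.{u} 𝒜 := quotGMod 𝒜 X.gr Γ hΓ
  haveI hfq : Module.Finite R Xq.carrier :=
    (inferInstance : Module.Finite R (X.carrier ⧸ Γ))
  obtain ⟨d, hd, x, hx, hreg⟩ := Groth.Agent.Helper7.GrFinB.exists_regular 𝒜 hpos a ha
    (X.carrier ⧸ Γ) (fun y hy => gam_quot_eq_zero a.toIdeal y hy)
  -- the submodule x • Xq
  let μ : Xq.carrier →ₗ[R] Xq.carrier := x • LinearMap.id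
  have hP : (LinearMap.range μ).IsHomogeneous Xq.gr := range_smul_isHomogeneous Xq hx
  let XN : GrLC.GMod.{u} 𝒜 := quotGMod 𝒜 Xq.gr (LinearMap.range μ) hP
  haveI hfN : Module.Finite R XN.carrier :=
    (inferInstance : Module.Finite R (Xq.carrier ⧸ LinearMap.range μ))
  refine ⟨Xq, XN, d, x, hfq, hfN, hd, hx, ?_, ?_⟩
  · intro E Eq i hi
    obtain ⟨EΓ⟩ := Groth.Agent.Helper6.GrExist.nonempty_starInjRes 𝒜 XΓ.gr
    let u : XΓ.carrier →ₗ[R] X.carrier := Γ.subtype
    let v : X.carrier →ₗ[R] Xq.carrier := Γ.mkQ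
    have hu : GrLC.IsGrHom XΓ.gr X.gr u := fun j z hz => hz
    have hv : GrLC.IsGrHom X.gr Xq.gr v := fun j z hz => mkQ_mem_quotFam X.gr Γ hz
    obtain ⟨δ, -, -, h1, -, -⟩ := exists_les EΓ E Eq u v hu hv
      Subtype.val_injective Γ.mkQ_surjective
      (fun m hm => ⟨⟨m, (Submodule.Quotient.mk_eq_zero Γ).mp hm⟩, rfl⟩)
      (fun m' => (Submodule.Quotient.mk_eq_zero Γ).mpr m'.2) a
    have htors : ∀ y : XΓ.carrier, y ∈ GrLC.gam a.toIdeal XΓ.carrier :=
      fun z => gam_sub_torsion a.toIdeal z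
    have hss : Subsingleton (EΓ.H a i) := H_subsingleton_of_torsion a htors EΓ i hi
    refine ⟨Hphi E Eq v hv a i, Hphi_gr hv a i, ?_⟩
    rw [← LinearMap.ker_eq_bot, eq_bot_iff]
    intro y hy
    obtain ⟨x', rfl⟩ := (h1 i y).mp hy
    rw [Subsingleton.elim x' 0, map_zero]
    exact zero_mem _
  · intro Eq EN
    let π : Xq.carrier →ₗ[R] XN.carrier := (LinearMap.range μ).mkQ
    have hπ : GrLC.IsGrHom Xq.gr XN.gr π := fun j z hz => mkQ_mem_quotFam Xq.gr _ hz
    exact nonempty_mulLES Eq EN a x d hx hreg π hπ (LinearMap.range μ).mkQ_surjective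
      (fun m => ⟨fun h => (Submodule.Quotient.mk_eq_zero _).mp h,
        fun h => (Submodule.Quotient.mk_eq_zero _).mpr h⟩)

end Struct

end Groth.Agent.Helper7.GrFinC
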