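import Mathlib
import Groth.Agent.Helper1.LocCohArtinian

set_option autoImplicit false
set_option linter.unusedSectionVars false

/-!
# `H^i_𝔪(M)` is Artinian for a finite module over a Noetherian ring and a maximal ideal `𝔪`
-/

namespace Groth.Agent.Helper7.LcArtMax
open CategoryTheory Limits Opposite
open Groth.Agent.Helper1.DeltaFun Groth.Agent.Helper1.LocCohDelta Groth.Agent.Helper1
  Groth.Agent.Helper1.LocCohArtinian

universe u

variable {R : Type u} [CommRing R] [IsNoetherianRing R] (m : Ideal R) [hm : m.IsMaximal]

/-- a finite module killed by a maximal ideal is Artinian -/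
lemma isArtinian_of_smul_eq_zero (N : Type u) [AddCommGroup N] [Module R N] [Module.Finite R N]
    (h : ∀ c ∈ m, ∀ x : N, c • x = 0) : IsArtinian R N := by
  have htors : Module.IsTorsionBySet R N (m : Set R) := by
    intro x c
    exact h c.1 c.2 x
  let _ : Field (R ⧸ m) := Ideal.Quotient.field m
  let _ : Module (R ⧸ m) N := htors.module
  have : IsScalarTower R (R ⧸ m) N := htors.isScalarTower
  have : Module.Finite (R ⧸ m) N := Module.Finite.of_restrictScalars_finite R (R ⧸ m) N
  have : IsArtinian (R ⧸ m) N := inferInstance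
  exact isArtinian_of_surjective_algebraMap (S := R) (R := R ⧸ m) (M := N)
    Ideal.Quotient.mk_surjective

/-- a finite `𝔪`-power torsion module is Artinian -/
lemma isArtinian_of_finite_of_isPowerTorsion (N : Type u) [AddCommGroup N] [Module R N]
    [Module.Finite R N] (hN : ∀ x : N, ∃ n : ℕ, ∀ c ∈ m ^ n, c • x = 0) :
    IsArtinian R N := by
  apply Melkersson.isArtinian_of_fg m (IsNoetherian.noetherian _) N hN
  apply isArtinian_of_smul_eq_zero m
  intro c hc t
  have := (Submodule.mem_torsionBySet_iff _ _).1 t.2 ⟨c, hc⟩
  exact Subtype.ext this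

/-- `H^i_𝔪(M)` is Artinian -/
theorem isArtinian_lc (i : ℕ) : ∀ (M : Type u) [AddCommGroup M] [Module R M] [Module.Finite R M],
    IsArtinian R ((localCohomology m i).obj (ModuleCat.of R M)) := by
  induction i with
  | zero =>
    intro M _ _ _
    have e : (localCohomology m 0).obj (ModuleCat.of R M) ≅
        ModuleCat.of R (DRing.torsionSub m M) :=
      (lcZeroIso m).app (ModuleCat.of R M)
    have : IsArtinian R (DRing.torsionSub m M) := by
      apply isArtinian_of_finite_of_isPowerTorsion m
      rintro ⟨x, n, hn⟩
      exact ⟨n, fun c hc => Subtype.ext (hn c hc)⟩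
    exact isArtinian_of_linearEquiv e.symm.toLinearEquiv
  | succ i ih =>
    intro M _ _ _
    apply isArtinian_of_quotient_torsionSub m i M
    obtain ⟨x, hxm, hreg⟩ := exists_regular' m (M ⧸ DRing.torsionSub m M)
      (torsionSub_quotient_eq_bot m M)
    exact isArtinian_of_regular m i _ x hxm hreg (ih (QuotSMulTop x (M ⧸ DRing.torsionSub m M)))

/-- the same for `LocCoh.H` -/
theorem isArtinian_H (i : ℕ) (M : Type u) [AddCommGroup M] [Module R M] [Module.Finite R M] :
    IsArtinian R (LocCoh.H m i M) := isArtinian_lc m i M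

end Groth.Agent.Helper7.LcArtMax
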