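import Mathlib
import Groth.Prelude.Def_GrLC
import Groth.Agent.Helper7.LcArtMax
import Groth.Agent.Helper7.GrArt1
import Groth.Agent.Helper7.GrFinC
import Groth.Agent.Helper7.GrDel6
import Groth.Agent.Helper6.GrH

/-!
# *Local nonnegatively graded rings: the *maximal ideal is maximal; the graded local cohomology with
support in it is Artinian, with Artinian pieces vanishing in large degrees
-/

set_option autoImplicit false
set_option linter.unusedSectionVars false

namespace Groth.Agent.Helper7.GrStarLoc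

open DirectSum

universe u

variable {R : Type u} [CommRing R] (𝒜 : ℤ → AddSubgroup R) [GradedRing 𝒜]
  (hpos : ∀ n : ℤ, n < 0 → 𝒜 n = ⊥) (m : HomogeneousIdeal 𝒜) (hm : IsCoatom m)

include hpos in
theorem eq_zero_of_neg (j : ℤ) (hj : j < 0) (z : R) (hz : z ∈ 𝒜 j) : z = 0 := by
  rw [hpos j hj] at hz
  exact AddSubgroup.mem_bot.mp hz

include hm in
theorem one_notMem : (1 : R) ∉ m.toIdeal := by
  intro h1
  apply hm.1
  apply HomogeneousIdeal.toIdeal_injective
  rw [HomogeneousIdeal.toIdeal_top]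
  exact (Ideal.eq_top_iff_one _).mpr h1

include hm in
/-- a homogeneous element outside `m` generates the unit ideal together with `m` -/
theorem exists_of_homog_notMem {n : ℤ} {z : R} (hz : z ∈ 𝒜 n) (hzm : z ∉ m.toIdeal) :
    ∃ a ∈ m.toIdeal, ∃ b : R, a + b * z = 1 := by
  let Z : HomogeneousIdeal 𝒜 := ⟨Ideal.span {z}, Ideal.homogeneous_span 𝒜 {z} (fun x hx => by
    rw [Set.mem_singleton_iff] at hx
    exact ⟨n, hx ▸ hz⟩)⟩
  have hlt : m < m ⊔ Z := by
    refine lt_of_le_of_ne le_sup_left ?_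
    intro heq
    apply hzm
    have h1 : z ∈ (m ⊔ Z).toIdeal := by
      rw [HomogeneousIdeal.toIdeal_sup]
      exact Ideal.mem_sup_right (Ideal.subset_span rfl)
    rw [← heq] at h1
    exact h1
  have htop : m ⊔ Z = ⊤ := hm.2 _ hlt
  have h1 : (1 : R) ∈ (m ⊔ Z).toIdeal := by
    rw [htop, HomogeneousIdeal.toIdeal_top]
    trivial
  rw [HomogeneousIdeal.toIdeal_sup] at h1
  obtain ⟨a, ha, c, hc, hac⟩ := Submodule.mem_sup.mp h1
  obtain ⟨b, rfl⟩ := Ideal.mem_span_singleton'.mp hc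
  exact ⟨a, ha, b, hac⟩

include hpos hm in
/-- elements of positive degree lie in `m` -/
theorem mem_of_pos {n : ℤ} (hn : 0 < n) {z : R} (hz : z ∈ 𝒜 n) : z ∈ m.toIdeal := by
  by_contra hzm
  obtain ⟨a, ha, b, hab⟩ := exists_of_homog_notMem 𝒜 m hm hz hzm
  apply one_notMem 𝒜 m hm
  have h0 : (decompose 𝒜 (1 : R) 0 : R) = 1 :=
    decompose_of_mem_same 𝒜 (SetLike.GradedOne.one_mem)
  rw [← h0, ← hab, decompose_add, DirectSum.add_apply, AddSubgroup.coe_add]
  have h1 : (decompose 𝒜 (b * z) 0 : R) = 0 := by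
    have h2 := DirectSum.coe_decompose_mul_add_of_right_mem 𝒜 (a := b) (i := -n) hz
    rw [neg_add_cancel] at h2
    rw [h2]
    have h3 : (decompose 𝒜 b (-n) : R) = 0 :=
      eq_zero_of_neg 𝒜 hpos (-n) (by omega) _ (SetLike.coe_mem _)
    rw [h3, zero_mul]
  rw [h1, add_zero]
  exact m.isHomogeneous 0 ha

include hpos hm in
/-- the *maximal ideal of a nonnegatively graded ring is a maximal ideal -/
theorem isMaximal : m.toIdeal.IsMaximal := by
  rw [Ideal.isMaximal_iff]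
  refine ⟨one_notMem 𝒜 m hm, fun J x hmJ hxm hxJ => ?_⟩
  have hcomp : ∀ i : ℤ, i ≠ 0 → (decompose 𝒜 x i : R) ∈ m.toIdeal := by
    intro i hi
    rcases lt_or_gt_of_ne hi with h | h
    · have h3 : (decompose 𝒜 x i : R) = 0 := eq_zero_of_neg 𝒜 hpos i h _ (SetLike.coe_mem _)
      rw [h3]
      exact zero_mem _
    · exact mem_of_pos 𝒜 hpos m hm h (SetLike.coe_mem _)
  have hx0 : (decompose 𝒜 x 0 : R) ∉ m.toIdeal := by
    intro h0
    apply hxm
    rw [m.isHomogeneous.mem_iff]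
    intro i
    by_cases hi : i = 0
    · subst hi; exact h0
    · exact hcomp i hi
  have hdiff : x - (decompose 𝒜 x 0 : R) ∈ m.toIdeal := by
    rw [m.isHomogeneous.mem_iff]
    intro i
    rw [decompose_sub, DirectSum.sub_apply, AddSubgroup.coe_sub]
    by_cases hi : i = 0
    · subst hi
      rw [decompose_of_mem_same 𝒜 (SetLike.coe_mem _), sub_self]
      exact zero_mem _
    · rw [decompose_of_mem_ne 𝒜 (SetLike.coe_mem (decompose 𝒜 x 0)) (Ne.symm hi), sub_zero]
      exact hcomp i hi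
  have hx0J : (decompose 𝒜 x 0 : R) ∈ J := by
    have : (decompose 𝒜 x 0 : R) = x - (x - (decompose 𝒜 x 0 : R)) := by ring
    rw [this]
    exact J.sub_mem hxJ (hmJ hdiff)
  obtain ⟨a, ha, b, hab⟩ := exists_of_homog_notMem 𝒜 m hm (SetLike.coe_mem (decompose 𝒜 x 0)) hx0
  rw [← hab]
  exact J.add_mem (hmJ ha) (J.mul_mem_left b hx0J)

section LC

variable [IsNoetherianRing R]
  {M : Type u} [AddCommGroup M] [Module R M] [Module.Finite R M] {ℳ : ℤ → AddSubgroup M}
  [Decomposition ℳ] [SetLike.GradedSMul 𝒜 ℳ] (E : GrLC.StarInjRes 𝒜 ℳ)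

include hpos hm in
/-- the graded local cohomology with support in the *maximal ideal is an Artinian module -/
theorem isArtinian_H (i : ℕ) : IsArtinian R (E.H m i) := by
  have := isMaximal 𝒜 hpos m hm
  obtain ⟨e⟩ := Groth.Agent.Helper7.GrFinC.nonempty_H_equiv m E i
  have : IsArtinian R (LocCoh.H m.toIdeal i M) :=
    Groth.Agent.Helper7.LcArtMax.isArtinian_H m.toIdeal i M
  exact isArtinian_of_linearEquiv e.symm

theorem gradedSMul_Hgr (a : HomogeneousIdeal 𝒜) (i : ℕ) : SetLike.GradedSMul 𝒜 (E.Hgr a i) where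
  smul_mem := by
    intro t j r x hr hx
    have := Groth.Agent.Helper7.GrDel.smul_mem_Hgr (E := E) (a := a) hr i j x hx
    rw [vadd_eq_add, add_comm]
    exact this

include hpos hm in
theorem exists_bound (i : ℕ) : ∃ N : ℤ, ∀ n : ℤ, N ≤ n → E.Hcomp m i n = ⊥ := by
  have := isArtinian_H 𝒜 hpos m hm E i
  let _ : Decomposition (E.Hgr m i) :=
    (Groth.Agent.Helper6.GrH.Hgr_isInternal 𝒜 ℳ m E i).chooseDecomposition
  have : SetLike.GradedSMul 𝒜 (E.Hgr m i) := gradedSMul_Hgr 𝒜 E m i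
  obtain ⟨D, hD⟩ := Groth.Agent.Helper7.GrArt.exists_bound 𝒜 hpos (E.Hgr m i)
  refine ⟨D, fun n hn => ?_⟩
  rw [eq_bot_iff]
  intro x hx
  have hx' : x ∈ E.Hgr m i n := hx
  rw [hD n hn, AddSubgroup.mem_bot] at hx'
  rw [Submodule.mem_bot]
  exact hx'

include hpos hm in
theorem isArtinian_Hcomp (i : ℕ) (n : ℤ) : IsArtinian (GrLC.deg0 𝒜) (E.Hcomp m i n) := by
  have := isArtinian_H 𝒜 hpos m hm E i
  let _ : Decomposition (E.Hgr m i) :=
    (Groth.Agent.Helper6.GrH.Hgr_isInternal 𝒜 ℳ m E i).chooseDecomposition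
  have : SetLike.GradedSMul 𝒜 (E.Hgr m i) := gradedSMul_Hgr 𝒜 E m i
  exact Groth.Agent.Helper7.GrArt.isArtinian_piece 𝒜 hpos (E.Hgr m i) n (E.Hcomp m i n)
    (fun y => Iff.rfl)

end LC

end Groth.Agent.Helper7.GrStarLoc
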