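import Mathlib
import Groth.Prelude.Def_GrLC
import Groth.Agent.Helper7.GrStarLoc1
import Groth.Agent.Helper7.GrFinA

/-!
# *Local nonnegatively graded rings with Artinian degree-zero part: a power of the *maximal ideal lies
in the irrelevant ideal, and local cohomology with support in either ideal has the same pieces
-/

set_option autoImplicit false
set_option linter.unusedSectionVars false

namespace Groth.Agent.Helper7.GrEC

open DirectSum

universe u

variable {R : Type u} [CommRing R] (𝒜 : ℤ → AddSubgroup R) [GradedRing 𝒜]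
  (hpos : ∀ n : ℤ, n < 0 → 𝒜 n = ⊥) (a : HomogeneousIdeal 𝒜)
  (ha : a.toIdeal = Ideal.span (⋃ n ∈ Set.Ioi (0 : ℤ), (𝒜 n : Set R)))
  (m : HomogeneousIdeal 𝒜) (hm : GrLC.IsStarLocal 𝒜 m)

include hpos ha in
/-- the degree-zero component of an element of the irrelevant ideal vanishes -/
theorem decompose_zero_of_mem_irrel (w : R) (hw : w ∈ a.toIdeal) : (decompose 𝒜 w 0 : R) = 0 := by
  rw [ha] at hw
  induction hw using Submodule.span_induction with
  | mem g hg =>
    simp only [Set.mem_iUnion, Set.mem_Ioi, SetLike.mem_coe, exists_prop] at hg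
    obtain ⟨n, hn, hgn⟩ := hg
    rw [decompose_of_mem_ne 𝒜 hgn (by omega)]
  | zero => rw [decompose_zero, DirectSum.zero_apply, ZeroMemClass.coe_zero]
  | add x y _ _ hx hy =>
    rw [decompose_add, DirectSum.add_apply, AddSubgroup.coe_add, hx, hy, add_zero]
  | smul r x hx ih =>
    -- `x` is in the span; decompose it
    rw [smul_eq_mul]
    have hxa : x ∈ a.toIdeal := by rw [ha]; exact hx
    classical
    have hsum : r * x = ∑ i ∈ (decompose 𝒜 x).support, r * (decompose 𝒜 x i : R) := by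
      conv_lhs => rw [← DirectSum.sum_support_decompose 𝒜 x]
      rw [Finset.mul_sum]
    rw [hsum, decompose_sum, DFinsupp.finsetSum_apply, AddSubmonoidClass.coe_finsetSum]
    apply Finset.sum_eq_zero
    intro i _
    rcases lt_trichotomy i 0 with hi | hi | hi
    · rw [Groth.Agent.Helper7.GrStarLoc.eq_zero_of_neg 𝒜 hpos i hi _ (SetLike.coe_mem _), mul_zero,
        decompose_zero, DirectSum.zero_apply, ZeroMemClass.coe_zero]
    · subst hi
      rw [ih, mul_zero, decompose_zero, DirectSum.zero_apply, ZeroMemClass.coe_zero]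
    · have h2 := DirectSum.coe_decompose_mul_add_of_right_mem 𝒜 (a := r) (i := -i)
        (SetLike.coe_mem (decompose 𝒜 x i))
      rw [neg_add_cancel] at h2
      rw [h2, Groth.Agent.Helper7.GrStarLoc.eq_zero_of_neg 𝒜 hpos (-i) (by omega) _
        (SetLike.coe_mem _), zero_mul]

include hm in
/-- in a Noetherian *local graded ring every proper homogeneous ideal lies in the *maximal ideal -/
theorem le_of_isHomogeneous_of_ne_top [IsNoetherianRing R] (I : Ideal R) (hI : I.IsHomogeneous 𝒜)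
    (hIt : I ≠ ⊤) : I ≤ m.toIdeal := by
  let S : Set (Ideal R) := {K | K.IsHomogeneous 𝒜 ∧ K ≠ ⊤ ∧ I ≤ K}
  have hS : S.Nonempty := ⟨I, hI, hIt, le_rfl⟩
  obtain ⟨K, ⟨hKh, hKt, hIK⟩, hKmax⟩ :=
    (wellFounded_gt (α := Ideal R)).has_min S hS
  let K' : HomogeneousIdeal 𝒜 := ⟨K, hKh⟩
  have hco : IsCoatom K' := by
    refine ⟨?_, fun b hb => ?_⟩
    · intro h
      apply hKt
      have := congrArg HomogeneousIdeal.toIdeal h
      rwa [HomogeneousIdeal.toIdeal_top] at this
    · by_contra hbt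
      have hb1 : b.toIdeal ≠ ⊤ := by
        intro h
        apply hbt
        apply HomogeneousIdeal.toIdeal_injective
        rw [h, HomogeneousIdeal.toIdeal_top]
      have hb2 : K < b.toIdeal :=
        lt_of_le_of_ne (show K ≤ b.toIdeal from hb.le)
          (fun h => hb.ne (HomogeneousIdeal.toIdeal_injective h))
      exact hKmax b.toIdeal ⟨b.isHomogeneous, hb1, hIK.trans hb2.le⟩ hb2
  have := hm.2 K' hco
  rw [← this]
  exact hIK

include hpos ha hm in
/-- the degree-zero part of the *maximal ideal lies in every maximal ideal of `R_0` -/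
theorem comap_le_maximal [IsNoetherianRing R] (n₀ : Ideal (GrLC.deg0 𝒜)) (hn₀ : n₀.IsMaximal) :
    m.toIdeal.comap (GrLC.deg0 𝒜).subtype ≤ n₀ := by
  set J : Ideal (GrLC.deg0 𝒜) := m.toIdeal.comap (GrLC.deg0 𝒜).subtype with hJ
  let N : Ideal R := Ideal.map (GrLC.deg0 𝒜).subtype n₀ ⊔ a.toIdeal
  have hmaph : (Ideal.map (GrLC.deg0 𝒜).subtype n₀).IsHomogeneous 𝒜 := by
    unfold Ideal.map
    apply Ideal.homogeneous_span
    rintro _ ⟨z, -, rfl⟩
    exact ⟨0, z.2⟩
  have hNh : N.IsHomogeneous 𝒜 := hmaph.sup a.isHomogeneous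
  have hNt : N ≠ ⊤ := by
    intro h
    have h1 : (1 : R) ∈ N := by rw [h]; trivial
    obtain ⟨y, hy, w, hw, hyw⟩ := Submodule.mem_sup.mp h1
    have h0 : (decompose 𝒜 (y + w) 0 : R) = 1 := by
      rw [hyw]
      exact decompose_of_mem_same 𝒜 (SetLike.GradedOne.one_mem)
    rw [decompose_add, DirectSum.add_apply, AddSubgroup.coe_add,
      decompose_zero_of_mem_irrel 𝒜 hpos a ha w hw, add_zero] at h0
    have hy0 : (decompose 𝒜 y 0 : R) ∈ Ideal.map (GrLC.deg0 𝒜).subtype n₀ := hmaph 0 hy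
    have h2 := Groth.Agent.Helper7.GrFinA.mem_of_mem_map 𝒜 n₀
      (⟨(decompose 𝒜 y 0 : R), SetLike.coe_mem _⟩ : GrLC.deg0 𝒜) hy0
    have h3 : (⟨(decompose 𝒜 y 0 : R), SetLike.coe_mem _⟩ : GrLC.deg0 𝒜) = 1 :=
      Subtype.ext h0
    rw [h3] at h2
    exact hn₀.ne_top ((Ideal.eq_top_iff_one _).mpr h2)
  have hNm : N ≤ m.toIdeal := le_of_isHomogeneous_of_ne_top 𝒜 m hm N hNh hNt
  have hle : n₀ ≤ J := by
    intro z hz
    rw [hJ, Ideal.mem_comap]
    exact hNm (Ideal.mem_sup_left (Ideal.mem_map_of_mem _ hz))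
  have hJt : J ≠ ⊤ := by
    intro h
    have h1 : (1 : GrLC.deg0 𝒜) ∈ J := by rw [h]; trivial
    rw [hJ, Ideal.mem_comap] at h1
    exact Groth.Agent.Helper7.GrStarLoc.one_notMem 𝒜 m hm.1 h1
  rw [← hn₀.eq_of_le hJt hle]

include hpos ha hm in
/-- a power of the *maximal ideal lies in the irrelevant ideal when `R_0` is Artinian -/
theorem exists_pow_le_irrel [IsNoetherianRing R] [IsArtinianRing (GrLC.deg0 𝒜)] :
    ∃ k : ℕ, m.toIdeal ^ k ≤ a.toIdeal := by
  set J : Ideal (GrLC.deg0 𝒜) := m.toIdeal.comap (GrLC.deg0 𝒜).subtype with hJ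
  have hJjac : J ≤ Ideal.jacobson ⊥ := by
    rw [Ideal.jacobson]
    apply le_sInf
    rintro n₀ ⟨-, hn₀⟩
    exact comap_le_maximal 𝒜 hpos a ha m hm n₀ hn₀
  obtain ⟨k, hk⟩ := IsArtinianRing.isNilpotent_jacobson_bot (R := GrLC.deg0 𝒜)
  have hJk : J ^ k = ⊥ := by
    rw [eq_bot_iff, ← Ideal.zero_eq_bot, ← hk]
    exact Ideal.pow_right_mono hJjac k
  set I : Ideal R := Ideal.map (GrLC.deg0 𝒜).subtype J with hI
  have hmle : m.toIdeal ≤ I ⊔ a.toIdeal := by
    intro x hx
    have h1 : x - (decompose 𝒜 x 0 : R) ∈ a.toIdeal :=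
      Groth.Agent.Helper7.GrFinA.sub_decompose_zero_mem 𝒜 hpos a ha x
    have h2 : (decompose 𝒜 x 0 : R) ∈ m.toIdeal := m.isHomogeneous 0 hx
    have h3 : (decompose 𝒜 x 0 : R) ∈ I := by
      have : (⟨(decompose 𝒜 x 0 : R), SetLike.coe_mem _⟩ : GrLC.deg0 𝒜) ∈ J := by
        rw [hJ, Ideal.mem_comap]
        exact h2
      exact Ideal.mem_map_of_mem _ this
    have : x = (decompose 𝒜 x 0 : R) + (x - (decompose 𝒜 x 0 : R)) := by ring
    rw [this]
    exact Submodule.add_mem_sup h3 h1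
  have hpow : ∀ j : ℕ, (I ⊔ a.toIdeal) ^ j ≤ I ^ j ⊔ a.toIdeal := by
    intro j
    induction j with
    | zero => simp
    | succ j ih =>
      rw [pow_succ, pow_succ]
      refine (Ideal.mul_mono_left ih).trans ?_
      rw [Ideal.sup_mul, Ideal.mul_sup, Ideal.mul_sup]
      refine sup_le (sup_le le_sup_left ?_) (sup_le ?_ ?_)
      · exact le_sup_of_le_right Ideal.mul_le_right
      · exact le_sup_of_le_right Ideal.mul_le_left
      · exact le_sup_of_le_right Ideal.mul_le_right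
  refine ⟨k, (Ideal.pow_right_mono hmle k).trans ((hpow k).trans ?_)⟩
  rw [hI, ← Ideal.map_pow, hJk, Ideal.map_bot, bot_sup_eq]

/-- ideals with a common radical-type comparison have the same torsion functor -/
theorem gam_eq_of_le_of_pow_le (I J : Ideal R) (hIJ : I ≤ J) (k : ℕ) (hk : J ^ k ≤ I)
    (Y : Type u) [AddCommGroup Y] [Module R Y] : GrLC.gam J Y = GrLC.gam I Y := by
  ext y
  constructor
  · rintro ⟨n, hn⟩
    exact ⟨n, fun r hr => hn r (Ideal.pow_right_mono hIJ n hr)⟩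
  · rintro ⟨n, hn⟩
    refine ⟨k * n, fun r hr => hn r ?_⟩
    rw [pow_mul] at hr
    exact Ideal.pow_right_mono hk n hr

section Congr

variable {M : Type u} [AddCommGroup M] [Module R M] {ℳ : ℤ → AddSubgroup M} [Decomposition ℳ]
  [SetLike.GradedSMul 𝒜 ℳ]

/-- a piece of a subquotient, with the cocycles and coboundaries as parameters -/
def pieceOf {X : Type u} [AddCommGroup X] [Module R X] (gr : ℤ → AddSubgroup X)
    [SetLike.GradedSMul 𝒜 gr] (C B : Submodule R X) (g : ℤ) :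
    Submodule (GrLC.deg0 𝒜) (↥C ⧸ B.comap C.subtype) where
  carrier := {x | ∃ z : ↥C, (z : X) ∈ gr g ∧ (B.comap C.subtype).mkQ z = x}
  zero_mem' := ⟨0, zero_mem _, map_zero _⟩
  add_mem' := by
    rintro x y ⟨z, hz, rfl⟩ ⟨w, hw, rfl⟩
    exact ⟨z + w, add_mem hz hw, map_add _ _ _⟩
  smul_mem' := by
    rintro r x ⟨z, hz, rfl⟩
    refine ⟨r • z, ?_, LinearMap.map_smul_of_tower _ _ _⟩
    have h := SetLike.GradedSMul.smul_mem (A := 𝒜) (B := gr) (show (r : R) ∈ 𝒜 0 from r.2) hz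
    rw [vadd_eq_add, zero_add] at h
    rw [Submodule.coe_smul_of_tower]
    exact h

theorem length_pieceOf_congr {X : Type u} [AddCommGroup X] [Module R X] (gr : ℤ → AddSubgroup X)
    [SetLike.GradedSMul 𝒜 gr] (C C' B B' : Submodule R X) (hC : C = C') (hB : B = B') (g : ℤ) :
    Module.length (GrLC.deg0 𝒜) (pieceOf 𝒜 gr C B g) =
      Module.length (GrLC.deg0 𝒜) (pieceOf 𝒜 gr C' B' g) := by
  subst hC hB
  rfl

theorem Hcomp_eq_pieceOf (E : GrLC.StarInjRes 𝒜 ℳ) (b : HomogeneousIdeal 𝒜) (i : ℕ) (g : ℤ) :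
    E.Hcomp b i g = pieceOf 𝒜 (E.X i).gr (E.cocyc b i) (E.cobdy b i) g := rfl

/-- the pieces of local cohomology depend only on the torsion functor -/
theorem length_Hcomp_congr (E : GrLC.StarInjRes 𝒜 ℳ) (b c : HomogeneousIdeal 𝒜)
    (h : ∀ i, GrLC.gam b.toIdeal (E.X i).carrier = GrLC.gam c.toIdeal (E.X i).carrier)
    (i : ℕ) (g : ℤ) :
    Module.length (GrLC.deg0 𝒜) (E.Hcomp b i g) = Module.length (GrLC.deg0 𝒜) (E.Hcomp c i g) := by
  have hC : E.cocyc b i = E.cocyc c i := by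
    show GrLC.gam b.toIdeal (E.X i).carrier ⊓ _ = GrLC.gam c.toIdeal (E.X i).carrier ⊓ _
    rw [h i]
  have hB : E.cobdy b i = E.cobdy c i := by
    cases i with
    | zero => rfl
    | succ j =>
      show (GrLC.gam b.toIdeal (E.X j).carrier).map _ = (GrLC.gam c.toIdeal (E.X j).carrier).map _
      rw [h j]
  rw [Hcomp_eq_pieceOf, Hcomp_eq_pieceOf]
  exact length_pieceOf_congr 𝒜 (E.X i).gr _ _ _ _ hC hB g

end Congr

end Groth.Agent.Helper7.GrEC
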