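import Mathlib
import Groth.Prelude.Def_GrLC
import Groth.Prelude.Def_GrLC2
import Groth.Prelude.Def_CAlg
import Groth.Agent.Helper7.BassG
import Groth.Agent.Helper7.GrEC5
import Groth.Agent.Helper7.SegGorD
import Groth.Agent.Helper1.CoreF
import Groth.Agent.S0340

/-!
# A *local graded ring which is Gorenstein at its *maximal ideal is Gorenstein (helper7)
-/

set_option autoImplicit false
set_option linter.unusedSectionVars false
set_option linter.style.haveILetI false

namespace Groth.Agent.Helper7.GrGor

open IsLocalRing CategoryTheory Groth.Agent.Helper7.BassNum Groth.Agent.Helper7.Torus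

universe u

section Local

variable {R : Type u} [CommRing R] [IsNoetherianRing R]

/-- the Gorenstein property of a localisation in terms of Bass numbers -/
theorem gor_iff_bassNum (p : Ideal R) [p.IsPrime] :
    LocCoh.IsGorensteinLocalRing (Localization.AtPrime p) ↔
      ∃ N : ℕ, ∀ i : ℕ, N ≤ i → GrLC.bassNum p R i = 0 := by
  haveI : IsNoetherianRing (Localization.AtPrime p) :=
    IsLocalization.isNoetherianRing p.primeCompl _ inferInstance
  rw [Groth.Agent.S0340.result (Localization.AtPrime p)]
  let α₀ : LocalizedModule p.primeCompl R ≃ₗ[R] Localization.AtPrime p :=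
    IsLocalizedModule.iso p.primeCompl (Algebra.linearMap R (Localization.AtPrime p))
  let α : LocalizedModule p.primeCompl R ≃ₗ[Localization.AtPrime p] Localization.AtPrime p :=
    LinearEquiv.extendScalarsOfIsLocalization p.primeCompl (Localization.AtPrime p) α₀
  have key : ∀ i : ℕ, GrLC.bassNum p R i = 0 ↔
      Subsingleton (Abelian.Ext (ModuleCat.of (Localization.AtPrime p)
        (ResidueField (Localization.AtPrime p)))
        (ModuleCat.of (Localization.AtPrime p) (Localization.AtPrime p)) i) := by
    intro i
    unfold GrLC.bassNum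
    rw [bassNumLocal_congr α i]
    unfold GrLC.bassNumLocal
    exact Module.length_eq_zero_iff
  constructor
  · rintro ⟨N, hN⟩
    exact ⟨N, fun i hi => (key i).2 (hN i hi)⟩
  · rintro ⟨N, hN⟩
    exact ⟨N, fun i hi => (key i).1 (hN i hi)⟩

/-- the Gorenstein property passes to localisations at smaller primes -/
theorem gor_of_le (m q : Ideal R) [hm : m.IsPrime] [hq : q.IsPrime] (hqm : q ≤ m)
    (h : LocCoh.IsGorensteinLocalRing (Localization.AtPrime m)) :
    LocCoh.IsGorensteinLocalRing (Localization.AtPrime q) := by
  have hdisj : Disjoint (m.primeCompl : Set R) (q : Set R) := by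
    rw [Set.disjoint_left]
    intro x hx hxq
    exact hx (hqm hxq)
  haveI hQ : (q.map (algebraMap R (Localization m.primeCompl))).IsPrime :=
    IsLocalization.isPrime_of_isPrime_disjoint m.primeCompl (Localization m.primeCompl) q hq hdisj
  have hcomap : (q.map (algebraMap R (Localization m.primeCompl))).comap
      (algebraMap R (Localization m.primeCompl)) = q :=
    IsLocalization.under_map_of_isPrime_disjoint m.primeCompl (Localization m.primeCompl) hq hdisj
  haveI : LocCoh.IsGorensteinLocalRing (Localization m.primeCompl) := h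
  have h1 : LocCoh.IsGorensteinLocalRing
      (Localization.AtPrime (q.map (algebraMap R (Localization m.primeCompl)))) :=
    Groth.Agent.Helper1.Core.gorenstein_localization (Localization m.primeCompl) _
  have h2 : LocCoh.IsGorensteinLocalRing (Localization.AtPrime
      ((q.map (algebraMap R (Localization m.primeCompl))).comap
        (algebraMap R (Localization m.primeCompl)))) :=
    Groth.Agent.Helper7.SegGor.gorLocal_of_ringEquiv
      (IsLocalization.localizationLocalizationAtPrimeIsoLocalization m.primeCompl
        (q.map (algebraMap R (Localization m.primeCompl)))).symm.toRingEquiv h1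
  have key : ∀ (q' : Ideal R) [q'.IsPrime], q' = q →
      LocCoh.IsGorensteinLocalRing (Localization.AtPrime q') →
      LocCoh.IsGorensteinLocalRing (Localization.AtPrime q) := by
    intro q' _ hq'
    subst hq'
    exact id
  exact key _ hcomap h2

end Local

section Graded

variable {R : Type u} [CommRing R] [IsNoetherianRing R] (𝒜 : ℤ → AddSubgroup R) [GradedRing 𝒜]

/-- a graded ring is Gorenstein at a prime if it is Gorenstein at its homogeneous core -/
theorem gor_of_gor_core (p : Ideal R) [p.IsPrime]
    [hc : (Ideal.homogeneousCore 𝒜 p).toIdeal.IsPrime]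
    (h : LocCoh.IsGorensteinLocalRing
      (Localization.AtPrime (Ideal.homogeneousCore 𝒜 p).toIdeal)) :
    LocCoh.IsGorensteinLocalRing (Localization.AtPrime p) := by
  rw [gor_iff_bassNum] at h ⊢
  obtain ⟨N, hN⟩ := h
  obtain ⟨d, hd, -⟩ := ENat.le_natCast_iff.1
    (show (p.map (Ideal.Quotient.mk (Ideal.homogeneousCore 𝒜 p).toIdeal)).height ≤ ((1 : ℕ) : ℕ∞)
      from height_map_core_le_one 𝒜 p)
  refine ⟨N + d, fun i hi => ?_⟩
  rw [bassNum_eq 𝒜 p R 𝒜 d hd i]
  split_ifs with h1
  · rfl
  · exact hN (i - d) (by omega)

/-- **a *local graded ring which is Gorenstein at its *maximal ideal is a Gorenstein ring** -/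
theorem isGorensteinRing_of_local (m : HomogeneousIdeal 𝒜) (hm : GrLC.IsStarLocal 𝒜 m)
    [hmp : m.toIdeal.IsPrime]
    (h : LocCoh.IsGorensteinLocalRing (Localization.AtPrime m.toIdeal)) :
    LocCoh.IsGorensteinRing R :=
  { toIsNoetherian := inferInstance
    isGorensteinLocalRing_localization := fun p hp => by
      haveI hc : (Ideal.homogeneousCore 𝒜 p).toIdeal.IsPrime := core_isPrime 𝒜 p
      have hle : (Ideal.homogeneousCore 𝒜 p).toIdeal ≤ m.toIdeal :=
        Groth.Agent.Helper7.GrEC.le_of_isHomogeneous_of_ne_top 𝒜 m hm _
          (Ideal.homogeneousCore 𝒜 p).isHomogeneous hc.ne_top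
      exact gor_of_gor_core 𝒜 p (gor_of_le m.toIdeal _ hle h) }

end Graded

end Groth.Agent.Helper7.GrGor
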