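import Mathlib
import Groth.Prelude.Def_CAlg
import Groth.Prelude.Def_GrLC
import Groth.Agent.Helper6.Rees3
import Groth.Agent.Helper7.SegGorD
import Groth.Agent.Helper7.GrGor5

/-!
# The Gorenstein property and quotients by a regular element, for non-local rings (helper7)
-/

set_option autoImplicit false
set_option linter.style.haveILetI false
universe u

namespace Groth.Agent.Helper7.GorQuot

open IsLocalRing

/-- the localisation of a quotient is the quotient of the localisation -/
theorem nonempty_locQuot_equiv {B : Type u} [CommRing B] (I : Ideal B) (q : Ideal B) [q.IsPrime]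
    (Q : Ideal (B ⧸ I)) [Q.IsPrime] (hQ : Q.comap (Ideal.Quotient.mk I) = q) :
    Nonempty ((Localization.AtPrime q ⧸ I.map (algebraMap B (Localization.AtPrime q))) ≃+*
      Localization.AtPrime Q) := by
  have : Q.LiesOver q := ⟨hQ.symm⟩
  have hsub : Algebra.algebraMapSubmonoid (B ⧸ I) q.primeCompl = Q.primeCompl :=
    Ideal.algebraMapSubmonoid_primeCompl_of_liesOver_surjective Q q
      Ideal.Quotient.mk_surjective
  have : IsLocalization.AtPrime (Localization.AtPrime q ⧸
      I.map (algebraMap B (Localization.AtPrime q))) Q := by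
    have : IsLocalization (Algebra.algebraMapSubmonoid (B ⧸ I) q.primeCompl)
      (Localization.AtPrime q ⧸ I.map (algebraMap B (Localization.AtPrime q))) := inferInstance
    rwa [hsub] at this
  exact ⟨(IsLocalization.algEquiv Q.primeCompl _ _).toRingEquiv⟩

/-- localisation of a quotient by a regular element: Gorenstein iff Gorenstein upstairs -/
theorem gorLocal_quotient_iff {B : Type u} [CommRing B] [IsNoetherianRing B] (f : B)
    (hreg : IsSMulRegular B f) (q : Ideal B) [q.IsPrime] (hfq : f ∈ q)
    (Q : Ideal (B ⧸ Ideal.span {f})) [Q.IsPrime]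
    (hQ : Q.comap (Ideal.Quotient.mk (Ideal.span {f})) = q) :
    LocCoh.IsGorensteinLocalRing (Localization.AtPrime q) ↔
      LocCoh.IsGorensteinLocalRing (Localization.AtPrime Q) := by
  let A := Localization.AtPrime q
  haveI : IsNoetherianRing A := IsLocalization.isNoetherianRing q.primeCompl _ inferInstance
  have hfm : algebraMap B A f ∈ maximalIdeal A :=
    (IsLocalization.AtPrime.to_map_mem_maximal_iff A q f).2 hfq
  have hfreg : IsSMulRegular A (algebraMap B A f) := hreg.of_flat
  have h1 := Groth.Agent.Helper6.Rees.main A (algebraMap B A f) hfm hfreg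
  have hImap : (Ideal.span {f}).map (algebraMap B A) = Ideal.span {algebraMap B A f} := by
    rw [Ideal.map_span, Set.image_singleton]
  obtain ⟨e⟩ := nonempty_locQuot_equiv (Ideal.span {f}) q Q hQ
  let e' : (A ⧸ Ideal.span {algebraMap B A f}) ≃+* Localization.AtPrime Q :=
    (Ideal.quotEquivOfEq hImap.symm).trans e
  rw [h1]
  exact ⟨fun h => Groth.Agent.Helper7.SegGor.gorLocal_of_ringEquiv e' h,
    fun h => Groth.Agent.Helper7.SegGor.gorLocal_of_ringEquiv e'.symm h⟩

/-- **the quotient of a Gorenstein ring by a regular element is Gorenstein** -/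
theorem gorenstein_quotient {B : Type u} [CommRing B] [hB : LocCoh.IsGorensteinRing B] (f : B)
    (hreg : IsSMulRegular B f) : LocCoh.IsGorensteinRing (B ⧸ Ideal.span {f}) :=
  { toIsNoetherian := inferInstance
    isGorensteinLocalRing_localization := fun Q hQ => by
      have hfq : f ∈ Q.comap (Ideal.Quotient.mk (Ideal.span {f})) := by
        rw [Ideal.mem_comap]
        have : Ideal.Quotient.mk (Ideal.span {f}) f = 0 :=
          Ideal.Quotient.eq_zero_iff_mem.2 (Ideal.mem_span_singleton_self f)
        rw [this]
        exact zero_mem _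
      exact (gorLocal_quotient_iff f hreg _ hfq Q rfl).1
        (hB.isGorensteinLocalRing_localization _) }

/-- if the quotient by a regular element of the prime `q` is Gorenstein, then so is `B_q` -/
theorem gorLocal_of_quotient {B : Type u} [CommRing B] [IsNoetherianRing B] (f : B)
    (hreg : IsSMulRegular B f) (q : Ideal B) [hq : q.IsPrime] (hfq : f ∈ q)
    [hG : LocCoh.IsGorensteinRing (B ⧸ Ideal.span {f})] :
    LocCoh.IsGorensteinLocalRing (Localization.AtPrime q) := by
  have hker : RingHom.ker (Ideal.Quotient.mk (Ideal.span {f})) ≤ q := by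
    rw [Ideal.mk_ker, Ideal.span_singleton_le_iff_mem]
    exact hfq
  set Q : Ideal (B ⧸ Ideal.span {f}) := q.map (Ideal.Quotient.mk (Ideal.span {f})) with hQdef
  haveI hQp : Q.IsPrime := Ideal.map_isPrime_of_surjective Ideal.Quotient.mk_surjective hker
  have hcomap : Q.comap (Ideal.Quotient.mk (Ideal.span {f})) = q := by
    rw [hQdef, Ideal.comap_map_of_surjective _ Ideal.Quotient.mk_surjective,
      ← RingHom.ker_eq_comap_bot]
    exact sup_eq_left.2 hker
  exact (gorLocal_quotient_iff f hreg q hfq Q hcomap).2
    (hG.isGorensteinLocalRing_localization Q)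

/-- **graded converse**: a *local ℤ-graded Noetherian ring whose quotient by a regular element
of the *maximal ideal is Gorenstein is Gorenstein -/
theorem gorenstein_of_quotient_graded {B : Type u} [CommRing B] [IsNoetherianRing B]
    (𝒜 : ℤ → AddSubgroup B) [GradedRing 𝒜] (m : HomogeneousIdeal 𝒜) (hm : GrLC.IsStarLocal 𝒜 m)
    [hmp : m.toIdeal.IsPrime] (f : B) (hreg : IsSMulRegular B f) (hfm : f ∈ m.toIdeal)
    [hG : LocCoh.IsGorensteinRing (B ⧸ Ideal.span {f})] : LocCoh.IsGorensteinRing B :=
  Groth.Agent.Helper7.GrGor.isGorensteinRing_of_local 𝒜 m hm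
    (gorLocal_of_quotient f hreg m.toIdeal hfm)

end Groth.Agent.Helper7.GorQuot
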