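import Mathlib

set_option linter.style.haveILetI false
set_option linter.unusedSectionVars false

/-! Finite length modules over a local ring are finite over any subring over which the residue
field is finite. -/

namespace Groth.Agent.Helper7.FinLenK

open IsLocalRing

universe u v

variable {A : Type u} [CommRing A] [IsLocalRing A] (k' : Subring A)

theorem finite_of_isFiniteLength (hκ : Module.Finite k' (A ⧸ maximalIdeal A))
    {M : Type v} [AddCommGroup M] [Module A M] (h : IsFiniteLength A M) : Module.Finite k' M := by
  induction h with
  | of_subsingleton => infer_instance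
  | @of_simple_quotient M _ _ N hs hN ih =>
    obtain ⟨I, hI, ⟨e⟩⟩ := isSimpleModule_iff_quot_maximal.mp hs
    have hIm : I = maximalIdeal A := IsLocalRing.eq_maximalIdeal hI
    subst hIm
    haveI h1 : Module.Finite k' (M ⧸ N) := Module.Finite.equiv (e.restrictScalars k').symm
    haveI h2 : Module.Finite k' ↥(N.restrictScalars k') :=
      Module.Finite.equiv ((Submodule.restrictScalarsEquiv k' A M N).restrictScalars k').symm
    haveI h3 : Module.Finite k' (M ⧸ N.restrictScalars k') :=
      Module.Finite.equiv (Submodule.Quotient.restrictScalarsEquiv k' N).symm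
    exact Module.Finite.of_submodule_quotient (N.restrictScalars k')

/-- If `𝔪` is minimal over `J` in a Noetherian local ring, then `A ⧸ J` has finite length. -/
theorem isFiniteLength_quotient [IsNoetherianRing A] (J : Ideal A)
    (hJ : maximalIdeal A ∈ J.minimalPrimes) : IsFiniteLength A (A ⧸ J) := by
  haveI : IsArtinianRing (A ⧸ J) :=
    IsLocalRing.quotient_artinian_of_mem_minimalPrimes_of_isLocalRing J hJ
  haveI : IsArtinian A (A ⧸ J) :=
    isArtinian_of_surjective_algebraMap (R := A ⧸ J) (S := A) (M := A ⧸ J)
      Ideal.Quotient.mk_surjective
  exact isFiniteLength_iff_isNoetherian_isArtinian.mpr ⟨inferInstance, inferInstance⟩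

/-- Transfer of finiteness from a field `k₀` to the range of its structure map. -/
theorem finite_range {k₀ : Type*} [Field k₀] [Algebra k₀ A] {M : Type*} [AddCommGroup M]
    [Module A M] [Module k₀ M] [IsScalarTower k₀ A M] [Module.Finite k₀ M] :
    Module.Finite (algebraMap k₀ A).range M := by
  let σ : k₀ →+* (algebraMap k₀ A).range := (algebraMap k₀ A).rangeRestrict
  haveI : RingHomSurjective σ := ⟨(algebraMap k₀ A).rangeRestrict_surjective⟩
  let f : M →ₛₗ[σ] M :=
    { toFun := id
      map_add' := fun _ _ => rfl
      map_smul' := fun c x => by
        show c • x = (σ c) • x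
        rw [← algebraMap_smul A c x]
        rfl }
  exact Module.Finite.of_surjective f Function.surjective_id

end Groth.Agent.Helper7.FinLenK
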