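import Groth.Agent.Helper7.NN2

set_option autoImplicit false
set_option maxSynthPendingDepth 3
universe u

namespace Groth.Agent.Helper7.NN

open MvPolynomial

section dim
variable {R S : Type*} [CommRing R] [CommRing S] [Algebra R S] [Algebra.IsIntegral R S]

theorem ringKrullDim_le_of_isIntegral : ringKrullDim S ≤ ringKrullDim R := by
  apply Order.krullDim_le_of_strictMono (PrimeSpectrum.comap (algebraMap R S))
  intro P Q hPQ
  have h : P.asIdeal < Q.asIdeal := hPQ
  have := Ideal.IsIntegral.comap_lt_comap (R := R) h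
  exact this

theorem ringKrullDim_eq_of_isIntegral_of_injective
    (hinj : Function.Injective (algebraMap R S)) : ringKrullDim S = ringKrullDim R := by
  refine le_antisymm ringKrullDim_le_of_isIntegral ?_
  have : FaithfulSMul R S := (faithfulSMul_iff_algebraMap_injective R S).mpr hinj
  apply iSup_le
  intro l
  obtain ⟨⟨P, hP, hPover⟩⟩ := Ideal.nonempty_primesOver (S := S) l.head.asIdeal
  obtain ⟨L, hlen, -, -⟩ := Ideal.exists_ltSeries_of_hasGoingUp l P
  rw [← hlen]
  exact Order.LTSeries.length_le_krullDim L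

end dim

theorem result12208 (k : Type u) [Field k] (n : ℕ) (I : Ideal (MvPolynomial (Fin n) k))
    (hI : I ≠ ⊤) :
    (∃ (r : ℕ) (y : Fin r → MvPolynomial (Fin n) k),
      (∀ i, y i ∈ Set.range (MvPolynomial.map (Int.castRingHom k) : MvPolynomial (Fin n) ℤ → MvPolynomial (Fin n) k)) ∧
      Function.Injective ((Ideal.Quotient.mkₐ k I).comp (MvPolynomial.aeval y)) ∧
      ((Ideal.Quotient.mkₐ k I).comp (MvPolynomial.aeval y)).toRingHom.Finite) ∧
    ∀ (r : ℕ) (y : Fin r → MvPolynomial (Fin n) k),
      Function.Injective ((Ideal.Quotient.mkₐ k I).comp (MvPolynomial.aeval y)) →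
      ((Ideal.Quotient.mkₐ k I).comp (MvPolynomial.aeval y)).toRingHom.Finite →
      ringKrullDim (MvPolynomial (Fin n) k ⧸ I) = r := by
  constructor
  · obtain ⟨s, -, y, hy, hinj, hint⟩ := exists_intSub_normalization I hI
    refine ⟨s, y, fun i => hy i, hinj, ?_⟩
    set g := (Ideal.Quotient.mkₐ k I).comp (MvPolynomial.aeval y) with hg
    have fin : Algebra.FiniteType k (MvPolynomial (Fin n) k ⧸ I) := inferInstance
    have h : algebraMap k (MvPolynomial (Fin n) k ⧸ I) =
        g.toRingHom.comp (algebraMap k (MvPolynomial (Fin s) k)) := by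
      algebraize [g.toRingHom]
      rw [IsScalarTower.algebraMap_eq k (MvPolynomial (Fin s) k), RingHom.algebraMap_toAlgebra']
    exact hint.to_finite (h ▸ RingHom.finiteType_algebraMap.mpr fin).of_comp_finiteType
  · intro r y hinj hfin
    set g := (Ideal.Quotient.mkₐ k I).comp (MvPolynomial.aeval y) with hg
    letI : Algebra (MvPolynomial (Fin r) k) (MvPolynomial (Fin n) k ⧸ I) := g.toRingHom.toAlgebra
    haveI : Module.Finite (MvPolynomial (Fin r) k) (MvPolynomial (Fin n) k ⧸ I) := hfin
    haveI : Algebra.IsIntegral (MvPolynomial (Fin r) k) (MvPolynomial (Fin n) k ⧸ I) :=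
      Algebra.IsIntegral.of_finite _ _
    have h1 := ringKrullDim_eq_of_isIntegral_of_injective
      (R := MvPolynomial (Fin r) k) (S := MvPolynomial (Fin n) k ⧸ I) hinj
    rw [h1, MvPolynomial.ringKrullDim_of_isNoetherianRing, ringKrullDim_eq_zero_of_field, zero_add,
      Nat.card_fin]

end Groth.Agent.Helper7.NN
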