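import Mathlib

set_option linter.style.haveILetI false
set_option linter.unusedSectionVars false

/-! Evaluation of power series (over a discrete ring) in an adically complete ring. -/

namespace Groth.Agent.Helper7.PSEval

attribute [local instance] DiscreteTopology.instContinuousSMul

theorem exists_algHom_X {k R : Type*} [CommRing k] [CommRing R] [Algebra k R] (I : Ideal R)
    [IsAdicComplete I R] {σ : Type*} [Finite σ] (b : σ → R) (hb : ∀ i, b i ∈ I) :
    ∃ ψ : MvPowerSeries σ k →ₐ[k] R, ∀ i, ψ (MvPowerSeries.X i) = b i := by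
  letI : UniformSpace k := ⊥
  letI : WithIdeal R := ⟨I⟩
  have hadic : IsAdic I := rfl
  obtain ⟨hc, ht2⟩ := hadic.isAdicComplete_iff.mp inferInstance
  have ha : MvPowerSeries.HasEval b :=
    ⟨fun s => WithIdeal.isTopologicallyNilpotent_of_mem (hb s), by
      rw [Filter.cofinite_eq_bot]; exact Filter.tendsto_bot⟩
  refine ⟨MvPowerSeries.aeval ha, fun i => ?_⟩
  rw [MvPowerSeries.coe_aeval, MvPowerSeries.eval₂_X]

end Groth.Agent.Helper7.PSEval
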