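import Mathlib
import Groth.Agent.Helper7.FinLenK
import Groth.Agent.Helper7.PSEval
import Groth.Agent.Helper7.NN3
import Groth.Agent.Helper5.MvPSDim
import Groth.Agent.Helper5.MvPSIdeal
import Groth.Agent.S0544

set_option linter.style.haveILetI false
set_option linter.unusedSectionVars false
set_option maxHeartbeats 400000

namespace Groth.Agent.Helper7.CohenFin

open IsLocalRing

universe u

section fin

variable {k₀ A : Type u} [Field k₀] [CommRing A] [IsLocalRing A] [IsNoetherianRing A]
  [IsAdicComplete (maximalIdeal A) A] [Algebra k₀ A] [Module.Finite k₀ (ResidueField A)]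
  {n : ℕ} (w : MvPowerSeries (Fin n) k₀ →ₐ[k₀] A)

/-- Finiteness of `A` over the power series ring when the images of the variables generate an
ideal `J` over which `𝔪` is minimal. -/
theorem finite_of_minimal
    (hJmin : maximalIdeal A ∈
      (Ideal.span (Set.range fun i => w (MvPowerSeries.X i))).minimalPrimes) :
    w.toRingHom.Finite := by
  classical
  set J : Ideal A := Ideal.span (Set.range fun i => w (MvPowerSeries.X i)) with hJ
  have hJle : J ≤ maximalIdeal A := hJmin.1.2
  let P := MvPowerSeries (Fin n) k₀
  let IP : Ideal P := Ideal.span (Set.range (MvPowerSeries.X : Fin n → P))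
  have hmap : IP.map w.toRingHom = J := by
    rw [Ideal.map_span, ← Set.range_comp]
    rfl
  letI : Algebra P A := w.toRingHom.toAlgebra
  have hsmul : ∀ m : ℕ, ((IP ^ m) • (⊤ : Submodule P A)) = (J ^ m).restrictScalars P := by
    intro m
    rw [Ideal.smul_top_eq_map, Ideal.map_pow]
    congr 2
  haveI : IsHausdorff IP A := ⟨fun a ha => by
    have hmem : ∀ m, a ∈ maximalIdeal A ^ m := fun m => by
      have h1 := ha m
      rw [SModEq.zero, hsmul m, Submodule.restrictScalars_mem] at h1
      exact Ideal.pow_right_mono hJle m h1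
    have hh : IsHausdorff (maximalIdeal A) A := inferInstance
    exact hh.haus' a (fun m => by
      rw [SModEq.zero, smul_eq_mul, Ideal.mul_top]; exact hmem m)⟩
  -- finiteness of A/J over k₀
  have hκ : Module.Finite (algebraMap k₀ A).range (A ⧸ maximalIdeal A) := by
    have := Groth.Agent.Helper7.FinLenK.finite_range (A := A) (k₀ := k₀) (M := ResidueField A)
    exact this
  have hfl := Groth.Agent.Helper7.FinLenK.isFiniteLength_quotient J hJmin
  have hfin' : Module.Finite (algebraMap k₀ A).range (A ⧸ J) :=
    Groth.Agent.Helper7.FinLenK.finite_of_isFiniteLength _ hκ hfl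
  have hfin0 : Module.Finite k₀ (A ⧸ J) := by
    let σ : k₀ →+* (algebraMap k₀ A).range := (algebraMap k₀ A).rangeRestrict
    haveI : RingHomSurjective σ := ⟨(algebraMap k₀ A).rangeRestrict_surjective⟩
    let f : (A ⧸ J) →ₛₗ[σ] (A ⧸ J) :=
      { toFun := id
        map_add' := fun _ _ => rfl
        map_smul' := fun c x => by
          show c • x = (σ c) • x
          rw [← algebraMap_smul A c x]
          rfl }
    exact (LinearMap.finite_iff_of_bijective f Function.bijective_id).mpr hfin'
  haveI hfin1 : Module.Finite k₀ (A ⧸ J.restrictScalars k₀) :=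
    Module.Finite.equiv (Submodule.Quotient.restrictScalarsEquiv k₀ J).symm
  -- the semilinear surjection onto A / IP A
  let g : A →ₛₗ[(MvPowerSeries.C : k₀ →+* P)] (A ⧸ (IP • ⊤ : Submodule P A)) :=
    { toFun := fun a => Submodule.Quotient.mk a
      map_add' := fun _ _ => rfl
      map_smul' := fun c a => by
        show Submodule.Quotient.mk (c • a) = (MvPowerSeries.C c : P) • Submodule.Quotient.mk a
        rw [← Submodule.Quotient.mk_smul]
        congr 1
        show c • a = w (MvPowerSeries.C c) * a
        have : w (MvPowerSeries.C c) = algebraMap k₀ A c := w.commutes c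
        rw [this, Algebra.smul_def] }
  have hker : J.restrictScalars k₀ ≤ LinearMap.ker g := by
    intro a ha
    rw [LinearMap.mem_ker]
    show Submodule.Quotient.mk a = 0
    rw [Submodule.Quotient.mk_eq_zero]
    have := hsmul 1
    rw [pow_one, pow_one] at this
    rw [this]
    exact ha
  have hfinQ : Module.Finite P (A ⧸ (IP • ⊤ : Submodule P A)) := by
    refine Module.Finite.of_surjective ((J.restrictScalars k₀).liftQ g hker) ?_
    intro y
    obtain ⟨a, rfl⟩ := Submodule.Quotient.mk_surjective _ y
    exact ⟨Submodule.Quotient.mk a, rfl⟩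
  exact Groth.Agent.S0544.result P IP A hfinQ

end fin

theorem s2460 {k₀ A : Type u} [Field k₀] [CommRing A] [IsDomain A] [IsLocalRing A]
    [IsNoetherianRing A]
    [IsAdicComplete (maximalIdeal A) A] [Algebra k₀ A] [Module.Finite k₀ (ResidueField A)] :
    ∃ (n : ℕ) (w : MvPowerSeries (Fin n) k₀ →ₐ[k₀] A), Function.Injective w ∧
      IsLocalHom w.toRingHom ∧ w.toRingHom.Finite := by
  classical
  obtain ⟨s, hs, hcard⟩ := Ideal.exists_finset_card_eq_height_of_isNoetherianRing (maximalIdeal A)
  let x : Fin s.card → A := fun i => (s.equivFin.symm i : A)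
  have hrange : Set.range x = (s : Set A) := by
    ext a
    constructor
    · rintro ⟨i, rfl⟩
      exact (s.equivFin.symm i).2
    · intro ha
      exact ⟨s.equivFin ⟨a, ha⟩, by simp [x]⟩
  have hJmin : maximalIdeal A ∈ (Ideal.span (Set.range x)).minimalPrimes := by
    rw [hrange]; exact hs
  have hxm : ∀ i, x i ∈ maximalIdeal A := fun i => hJmin.1.2 (Ideal.subset_span ⟨i, rfl⟩)
  obtain ⟨w, hw⟩ := Groth.Agent.Helper7.PSEval.exists_algHom_X (k := k₀) (maximalIdeal A) x hxm
  have hwx : (fun i => w (MvPowerSeries.X i)) = x := funext hw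
  have hfin : w.toRingHom.Finite := finite_of_minimal w (by rw [hwx]; exact hJmin)
  have hdimA : ringKrullDim A = (s.card : ℕ) := by
    rw [← IsLocalRing.maximalIdeal_height_eq_ringKrullDim, ← hcard]
    rfl
  refine ⟨s.card, w, ?_, ?_, hfin⟩
  · -- injectivity by dimension
    rw [injective_iff_map_eq_zero]
    intro p hp
    by_contra hne
    have hp0 : p ∈ nonZeroDivisors (MvPowerSeries (Fin s.card) k₀) :=
      mem_nonZeroDivisors_of_ne_zero hne
    let K := RingHom.ker w.toRingHom
    have hpK : p ∈ K := hp
    have h1 := ringKrullDim_succ_le_of_surjective (Ideal.Quotient.mk K)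
      Ideal.Quotient.mk_surjective hp0 (Ideal.Quotient.eq_zero_iff_mem.mpr hpK)
    letI : Algebra (MvPowerSeries (Fin s.card) k₀ ⧸ K) A := (RingHom.kerLift w.toRingHom).toAlgebra
    have hint : (RingHom.kerLift w.toRingHom).IsIntegral := by
      apply RingHom.IsIntegral.tower_top (Ideal.Quotient.mk K) (RingHom.kerLift w.toRingHom)
      have : (RingHom.kerLift w.toRingHom).comp (Ideal.Quotient.mk K) = w.toRingHom := by
        ext a; rfl
      rw [this]
      exact hfin.to_isIntegral
    haveI : Algebra.IsIntegral (MvPowerSeries (Fin s.card) k₀ ⧸ K) A := ⟨hint⟩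
    have h2 : ringKrullDim A ≤ ringKrullDim (MvPowerSeries (Fin s.card) k₀ ⧸ K) :=
      Groth.Agent.Helper7.NN.ringKrullDim_le_of_isIntegral
    have h3 := Groth.Agent.Helper5.MvPSDim.ringKrullDim_le k₀ s.card
    have h4 : ringKrullDim A + 1 ≤ (s.card : ℕ) := by
      calc ringKrullDim A + 1 ≤ ringKrullDim (MvPowerSeries (Fin s.card) k₀ ⧸ K) + 1 := by
            gcongr
        _ ≤ ringKrullDim (MvPowerSeries (Fin s.card) k₀) := h1
        _ ≤ _ := h3
    rw [hdimA] at h4
    have h5 : ((s.card + 1 : ℕ) : WithBot ℕ∞) ≤ (s.card : ℕ) := by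
      push_cast; exact h4
    have h6 : s.card + 1 ≤ s.card := by exact_mod_cast h5
    omega
  · -- local homomorphism
    constructor
    intro p hp
    rw [MvPowerSeries.isUnit_iff_constantCoeff]
    by_contra hc
    have hc0 : MvPowerSeries.constantCoeff p = 0 := by
      by_contra h; exact hc (IsUnit.mk0 _ h)
    -- p lies in the ideal generated by the variables
    have hpmem : p ∈ Ideal.span (Set.range (MvPowerSeries.X : Fin s.card → _)) :=
      Groth.Agent.Helper5.MvPSIdeal.mem_span_X p hc0
    have hwp : w p ∈ maximalIdeal A := by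
      have h1 : w.toRingHom p ∈ (Ideal.span (Set.range (MvPowerSeries.X : Fin s.card → _))).map
          w.toRingHom := Ideal.mem_map_of_mem _ hpmem
      rw [Ideal.map_span, ← Set.range_comp] at h1
      have h2 : Ideal.span (Set.range (w.toRingHom ∘ MvPowerSeries.X)) ≤ maximalIdeal A := by
        rw [Ideal.span_le]
        rintro _ ⟨i, rfl⟩
        show w (MvPowerSeries.X i) ∈ maximalIdeal A
        rw [hw]; exact hxm i
      exact h2 h1
    exact (IsLocalRing.mem_maximalIdeal _).mp hwp hp

end Groth.Agent.Helper7.CohenFin
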