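import Mathlib

/-!
# Lifting retractions modulo a nilpotent ideal
-/

set_option autoImplicit false
set_option linter.style.haveILetI false
set_option linter.unusedSectionVars false
universe u

namespace Groth.Agent.Helper7.Cohen

open TensorProduct

section Mod

variable {S : Type*} [CommRing S] (I : Ideal S) {M F M' F' : Type*}
  [AddCommGroup M] [Module S M] [AddCommGroup F] [Module S F]
  [AddCommGroup M'] [Module S M'] [AddCommGroup F'] [Module S F']

/-- powers of an endomorphism with image in `I M` have image in `I ^ j M` -/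
theorem range_pow_le (Δ : M →ₗ[S] M) (hΔ : LinearMap.range Δ ≤ I • (⊤ : Submodule S M)) (j : ℕ) :
    LinearMap.range (Δ ^ j) ≤ I ^ j • (⊤ : Submodule S M) := by
  induction j with
  | zero => simp
  | succ j ih =>
    rintro _ ⟨x, rfl⟩
    have h0 : (Δ ^ (j + 1)) x = Δ ((Δ ^ j) x) := by
      rw [pow_succ' Δ j, Module.End.mul_apply]
    rw [h0]
    have h1 : (Δ ^ j) x ∈ I ^ j • (⊤ : Submodule S M) := ih ⟨x, rfl⟩
    have h2 : Δ ((Δ ^ j) x) ∈ (I ^ j • (⊤ : Submodule S M)).map Δ := ⟨_, h1, rfl⟩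
    rw [Submodule.map_smul'', Submodule.map_top] at h2
    have h3 : I ^ j • LinearMap.range Δ ≤ I ^ j • (I • (⊤ : Submodule S M)) :=
      Submodule.smul_mono le_rfl hΔ
    have h4 := h3 h2
    rwa [← Submodule.mul_smul, ← pow_succ] at h4

/-- a map whose reduction has a retraction has a retraction, modulo a nilpotent ideal -/
theorem exists_retraction [Module.Projective S F] (n : ℕ)
    (hn : I ^ n • (⊤ : Submodule S M) = ⊥)
    (d : M →ₗ[S] F) (d' : M' →ₗ[S] F') (a : M →ₗ[S] M') (b : F →ₗ[S] F')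
    (hcomm : d' ∘ₗ a = b ∘ₗ d) (ha : Function.Surjective a)
    (hker : LinearMap.ker a ≤ I • (⊤ : Submodule S M))
    (σ : F' →ₗ[S] M') (hσ : σ ∘ₗ d' = LinearMap.id) :
    ∃ l : F →ₗ[S] M, l ∘ₗ d = LinearMap.id := by
  obtain ⟨l₀, hl₀⟩ := Module.projective_lifting_property a (σ ∘ₗ b) ha
  set Δ : M →ₗ[S] M := LinearMap.id - l₀ ∘ₗ d with hΔdef
  have hΔ : LinearMap.range Δ ≤ I • (⊤ : Submodule S M) := by
    rintro _ ⟨x, rfl⟩
    apply hker
    rw [LinearMap.mem_ker, hΔdef, LinearMap.sub_apply, map_sub, LinearMap.id_apply,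
      LinearMap.comp_apply, ← LinearMap.comp_apply a l₀, hl₀, LinearMap.comp_apply,
      ← LinearMap.comp_apply b d, ← hcomm, LinearMap.comp_apply, ← LinearMap.comp_apply σ d', hσ,
      LinearMap.id_apply, sub_self]
  have hpow : Δ ^ n = 0 := by
    ext x
    have := range_pow_le I Δ hΔ n ⟨x, rfl⟩
    rw [hn] at this
    simpa using this
  refine ⟨(∑ j ∈ Finset.range n, Δ ^ j) ∘ₗ l₀, ?_⟩
  have h1 : l₀ ∘ₗ d = 1 - Δ := by
    rw [hΔdef]
    change l₀ ∘ₗ d = LinearMap.id - (LinearMap.id - l₀ ∘ₗ d)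
    abel
  rw [LinearMap.comp_assoc, h1]
  change (∑ j ∈ Finset.range n, Δ ^ j) * (1 - Δ) = 1
  rw [geom_sum_mul_neg, hpow, sub_zero]

end Mod

end Groth.Agent.Helper7.Cohen
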