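import Mathlib
import Groth.Agent.Helper7.CohenA

/-!
# Formal smoothness of a flat algebra modulo a nilpotent ideal (Stacks 031L)
-/

set_option autoImplicit false
set_option linter.style.haveILetI false
set_option linter.unusedSectionVars false
universe u v

namespace Groth.Agent.Helper7.Cohen

open TensorProduct

section Flat

variable {R : Type*} [CommRing R] (I : Ideal R)

/-- `1 ⊗ z = 0` in `(R ⧸ I) ⊗ M` means `z ∈ I M` -/
theorem mem_smul_top_of_tmul_eq_zero {M : Type*} [AddCommGroup M] [Module R M] (z : M)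
    (h : (1 : R ⧸ I) ⊗ₜ[R] z = 0) : z ∈ I • (⊤ : Submodule R M) := by
  have h1 := congrArg (TensorProduct.quotTensorEquivQuotSMul M I) h
  rw [map_zero] at h1
  have h2 : TensorProduct.quotTensorEquivQuotSMul M I ((1 : R ⧸ I) ⊗ₜ[R] z) =
      Submodule.Quotient.mk z := by
    have := TensorProduct.quotTensorEquivQuotSMul_mk_tmul (M := M) I 1 z
    rwa [map_one, one_smul] at this
  rw [h2, Submodule.Quotient.mk_eq_zero] at h1
  exact h1

theorem tmul_eq_zero_of_mem_smul_top {M : Type*} [AddCommGroup M] [Module R M] (z : M)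
    (h : z ∈ I • (⊤ : Submodule R M)) : (1 : R ⧸ I) ⊗ₜ[R] z = 0 := by
  apply (TensorProduct.quotTensorEquivQuotSMul M I).injective
  rw [map_zero]
  have h2 : TensorProduct.quotTensorEquivQuotSMul M I ((1 : R ⧸ I) ⊗ₜ[R] z) =
      Submodule.Quotient.mk z := by
    have := TensorProduct.quotTensorEquivQuotSMul_mk_tmul (M := M) I 1 z
    rwa [map_one, one_smul] at this
  rw [h2, Submodule.Quotient.mk_eq_zero]
  exact h

/-- for a surjection `N → Q` onto a flat module with kernel `K`: `K ∩ I N = I K` -/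
theorem mem_smul_of_flat {N Q : Type*} [AddCommGroup N] [Module R N] [AddCommGroup Q] [Module R Q]
    [Module.Flat R Q] (π : N →ₗ[R] Q) (hπ : Function.Surjective π) (z : N)
    (hz : z ∈ LinearMap.ker π) (hzI : z ∈ I • (⊤ : Submodule R N)) :
    z ∈ I • LinearMap.ker π := by
  have hex : Function.Exact (LinearMap.ker π).subtype π := by
    intro y
    constructor
    · intro hy
      exact ⟨⟨y, hy⟩, rfl⟩
    · rintro ⟨y, rfl⟩
      exact y.2
  have hinj := LinearMap.lTensor_injective_of_exact_of_flat π hπ (LinearMap.ker π).subtype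
    (Submodule.subtype_injective _) hex (R ⧸ I)
  have h0 : (1 : R ⧸ I) ⊗ₜ[R] (⟨z, hz⟩ : LinearMap.ker π) = 0 := by
    apply hinj
    rw [map_zero, LinearMap.lTensor_tmul]
    exact tmul_eq_zero_of_mem_smul_top I z hzI
  have h1 := mem_smul_top_of_tmul_eq_zero I _ h0
  have h2 : (LinearMap.ker π).subtype ⟨z, hz⟩ ∈
      (I • (⊤ : Submodule R (LinearMap.ker π))).map (LinearMap.ker π).subtype := ⟨_, h1, rfl⟩
  rw [Submodule.map_smul'', Submodule.map_top, Submodule.range_subtype] at h2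
  exact h2

end Flat

section Main

open Algebra Algebra.Extension

variable (R : Type v) (S : Type u) [CommRing R] [CommRing S] [Algebra R S] [Module.Flat R S]
  (I : Ideal R)

/-- every element of `(R ⧸ I) ⊗ M` is of the form `1 ⊗ z` -/
theorem exists_one_tmul {M : Type*} [AddCommGroup M] [Module R M] (t : (R ⧸ I) ⊗[R] M) :
    ∃ z : M, (1 : R ⧸ I) ⊗ₜ[R] z = t := by
  induction t using TensorProduct.induction_on with
  | zero => exact ⟨0, TensorProduct.tmul_zero _ _⟩
  | add a b ha hb =>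
    obtain ⟨x, rfl⟩ := ha
    obtain ⟨y, rfl⟩ := hb
    exact ⟨x + y, TensorProduct.tmul_add _ _ _⟩
  | tmul t m =>
    obtain ⟨r, rfl⟩ := Ideal.Quotient.mk_surjective t
    refine ⟨r • m, ?_⟩
    rw [← TensorProduct.smul_tmul, Algebra.smul_def, mul_one]
    rfl

attribute [local instance] Algebra.TensorProduct.rightAlgebra in
/-- **Stacks 031L**: a flat algebra which is formally smooth modulo a nilpotent ideal is
formally smooth. -/
theorem formallySmooth_of_flat_of_nilpotent (n : ℕ) (hI : I ^ n = ⊥)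
    [h : Algebra.FormallySmooth (R ⧸ I) ((R ⧸ I) ⊗[R] S)] : Algebra.FormallySmooth R S := by
  let P : Algebra.Extension R S := (Algebra.Generators.self R S).toExtension
  haveI : Algebra.FormallySmooth R P.Ring :=
    inferInstanceAs (Algebra.FormallySmooth R (MvPolynomial S R))
  let P' : Algebra.Extension (R ⧸ I) ((R ⧸ I) ⊗[R] S) := P.baseChange
  haveI : Algebra.FormallySmooth (R ⧸ I) P'.Ring :=
    inferInstanceAs (Algebra.FormallySmooth (R ⧸ I) ((R ⧸ I) ⊗[R] P.Ring))
  let f : P.Hom P' := P.toBaseChange (R ⧸ I)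
  obtain ⟨σ, hσ⟩ := (Algebra.Extension.formallySmooth_iff_split_injection P').mp h
  rw [Algebra.Extension.formallySmooth_iff_split_injection P]
  have hsurjP : Function.Surjective
      (Algebra.TensorProduct.includeRight : P.Ring →ₐ[R] (R ⧸ I) ⊗[R] P.Ring) := by
    intro t
    obtain ⟨z, rfl⟩ := exists_one_tmul R I t
    exact ⟨z, rfl⟩
  have hkerP' : ∀ w : P'.Ring, w ∈ P'.ker ↔ ∃ j ∈ P.ker, (1 : R ⧸ I) ⊗ₜ[R] j = w := by
    intro w
    rw [Algebra.Extension.ker_baseChange]
    exact Ideal.mem_map_iff_of_surjective _ hsurjP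
  have hkerP'2 : ∀ w : P'.Ring, w ∈ P'.ker ^ 2 → ∃ j ∈ P.ker ^ 2, (1 : R ⧸ I) ⊗ₜ[R] j = w := by
    intro w hw
    rw [pow_two] at hw
    refine Submodule.mul_induction_on hw ?_ ?_
    · intro a ha b hb
      obtain ⟨j1, hj1, rfl⟩ := (hkerP' a).mp ha
      obtain ⟨j2, hj2, rfl⟩ := (hkerP' b).mp hb
      refine ⟨j1 * j2, ?_, ?_⟩
      · rw [pow_two]
        exact Ideal.mul_mem_mul hj1 hj2
      · change _ = ((1 : R ⧸ I) ⊗ₜ[R] j1 : (R ⧸ I) ⊗[R] P.Ring) * ((1 : R ⧸ I) ⊗ₜ[R] j2)
        rw [Algebra.TensorProduct.tmul_mul_tmul, one_mul]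
    · rintro a b ⟨j1, hj1, rfl⟩ ⟨j2, hj2, rfl⟩
      exact ⟨j1 + j2, Ideal.add_mem _ hj1 hj2, TensorProduct.tmul_add _ _ _⟩
  refine exists_retraction (M := P.Cotangent) (F := P.CotangentSpace) (M' := P'.Cotangent)
    (F' := P'.CotangentSpace) (I.map (algebraMap R S)) n ?_ P.cotangentComplex
    (P'.cotangentComplex.restrictScalars S) (Cotangent.map f) (CotangentSpace.map f)
    (CotangentSpace.map_comp_cotangentComplex f).symm ?_ ?_ (σ.restrictScalars S) ?_
  · rw [← Ideal.map_pow, hI, Ideal.map_bot, Submodule.bot_smul]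
  · -- surjectivity
    intro y
    obtain ⟨⟨w, hw⟩, rfl⟩ := Cotangent.mk_surjective y
    obtain ⟨j, hj, rfl⟩ := (hkerP' w).mp hw
    exact ⟨Cotangent.mk ⟨j, hj⟩, rfl⟩
  · -- the kernel
    intro x hx
    obtain ⟨⟨z, hz⟩, rfl⟩ := Cotangent.mk_surjective x
    rw [LinearMap.mem_ker, Cotangent.map_mk, Cotangent.mk_eq_zero_iff] at hx
    obtain ⟨y, hy, hyz⟩ := hkerP'2 _ hx
    have hy' : y ∈ P.ker := Ideal.pow_le_self (two_ne_zero) hy
    have h0 : (1 : R ⧸ I) ⊗ₜ[R] (z - y) = 0 := by
      rw [TensorProduct.tmul_sub, hyz, sub_eq_zero]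
      rfl
    have h1 : z - y ∈ I • (⊤ : Submodule R P.Ring) := mem_smul_top_of_tmul_eq_zero I _ h0
    have h2 : z - y ∈ I • LinearMap.ker (IsScalarTower.toAlgHom R P.Ring S).toLinearMap :=
      mem_smul_of_flat I (IsScalarTower.toAlgHom R P.Ring S).toLinearMap P.algebraMap_surjective
        (z - y) (Ideal.sub_mem _ hz hy') h1
    have h3 : Cotangent.mk (⟨z, hz⟩ : P.ker) = Cotangent.mk ⟨z - y, Ideal.sub_mem _ hz hy'⟩ := by
      rw [Cotangent.mk_eq_mk_iff_sub_mem]
      simpa using hy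
    rw [h3]
    have key : ∀ (w : P.Ring) (hwI : w ∈ I • LinearMap.ker (IsScalarTower.toAlgHom R P.Ring S).toLinearMap)
        (hw : w ∈ P.ker), Cotangent.mk (⟨w, hw⟩ : P.ker) ∈
          (I.map (algebraMap R S)) • (⊤ : Submodule S P.Cotangent) := by
      intro w hwI
      refine Submodule.smul_induction_on' (p := fun w _ => ∀ hw : w ∈ P.ker,
        Cotangent.mk (⟨w, hw⟩ : P.ker) ∈ (I.map (algebraMap R S)) • (⊤ : Submodule S P.Cotangent))
        hwI ?_ ?_
      · intro r hr j hj hw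
        have hj' : j ∈ P.ker := hj
        have e1 : Cotangent.mk (⟨r • j, hw⟩ : P.ker) =
            algebraMap R S r • Cotangent.mk (⟨j, hj'⟩ : P.ker) := by
          have : (⟨r • j, hw⟩ : P.ker) = algebraMap R P.Ring r • (⟨j, hj'⟩ : P.ker) := by
            ext
            simp [Algebra.smul_def]
          rw [this, map_smul, ← algebraMap_smul S, ← IsScalarTower.algebraMap_apply]
        rw [e1]
        exact Submodule.smul_mem_smul (Ideal.mem_map_of_mem _ hr) trivial
      · intro a ha b hb iha ihb hw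
        have ha' : a ∈ P.ker := (Submodule.smul_le_right (N := LinearMap.ker _) (I := I)) ha
        have hb' : b ∈ P.ker := (Submodule.smul_le_right (N := LinearMap.ker _) (I := I)) hb
        have : (⟨a + b, hw⟩ : P.ker) = ⟨a, ha'⟩ + ⟨b, hb'⟩ := rfl
        rw [this, map_add]
        exact Submodule.add_mem _ (iha ha') (ihb hb')
    exact key _ h2 _
  · ext x
    exact DFunLike.congr_fun hσ x

end Main

end Groth.Agent.Helper7.Cohen
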