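import Mathlib
import Groth.Agent.Helper7.CohenB
import Groth.Agent.Helper1.FieldSmooth1

/-!
# `Λ / pⁿ` is formally smooth over `ℤ / pⁿ` for a Cohen ring `Λ`
-/

set_option autoImplicit false
set_option linter.style.haveILetI false
set_option linter.unusedSectionVars false
universe u v w

namespace Groth.Agent.Helper7.Cohen

open TensorProduct

/-- transport of formal smoothness along an isomorphism of base rings -/
theorem formallySmooth_of_ringEquiv_base {A : Type v} {A' : Type w} {B : Type u} [CommRing A]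
    [CommRing A'] [CommRing B] [Algebra A B] [Algebra A' B] (e : A ≃+* A')
    (he : ∀ a, algebraMap A' B (e a) = algebraMap A B a) [Algebra.FormallySmooth A' B] :
    Algebra.FormallySmooth A B := by
  letI : Algebra A A' := e.toRingHom.toAlgebra
  haveI : IsScalarTower A A' B := IsScalarTower.of_algebraMap_eq fun a => (he a).symm
  haveI : Algebra.FormallySmooth A A' :=
    Algebra.FormallySmooth.of_equiv (AlgEquiv.ofRingEquiv (f := e) (fun _ => rfl))
  exact Algebra.FormallySmooth.comp A A' B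

/-- a torsion free ring modulo `N` is flat over `ℤ / N` -/
theorem flat_zmod_quotient (Λ : Type u) [CommRing Λ] [Module.Flat ℤ Λ] (N : ℕ) (I : Ideal Λ)
    (hI : I = Ideal.span {(N : Λ)}) [Algebra (ZMod N) (Λ ⧸ I)] : Module.Flat (ZMod N) (Λ ⧸ I) := by
  let φ : ZMod N ⊗[ℤ] Λ →ₐ[ZMod N] Λ ⧸ I :=
    Algebra.TensorProduct.lift (Algebra.ofId _ _) (Ideal.Quotient.mkₐ ℤ I) (fun _ _ => Commute.all _ _)
  have hone : ∀ t : ZMod N ⊗[ℤ] Λ, ∃ l : Λ, (1 : ZMod N) ⊗ₜ[ℤ] l = t := by
    intro t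
    induction t using TensorProduct.induction_on with
    | zero => exact ⟨0, TensorProduct.tmul_zero _ _⟩
    | add a b ha hb =>
      obtain ⟨x, rfl⟩ := ha
      obtain ⟨y, rfl⟩ := hb
      exact ⟨x + y, TensorProduct.tmul_add _ _ _⟩
    | tmul a l =>
      obtain ⟨z, rfl⟩ := ZMod.intCast_surjective a
      refine ⟨z • l, ?_⟩
      rw [← TensorProduct.smul_tmul, zsmul_eq_mul, mul_one]
  have hφ : ∀ l : Λ, φ ((1 : ZMod N) ⊗ₜ[ℤ] l) = Ideal.Quotient.mk I l := by
    intro l
    simp [φ]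
  have hinj : Function.Injective φ := by
    rw [injective_iff_map_eq_zero]
    intro t ht
    obtain ⟨l, rfl⟩ := hone t
    rw [hφ, Ideal.Quotient.eq_zero_iff_mem, hI, Ideal.mem_span_singleton] at ht
    obtain ⟨m, rfl⟩ := ht
    have : ((N : Λ) * m) = ((N : ℤ) • m) := by simp
    rw [this, ← TensorProduct.smul_tmul, zsmul_eq_mul, mul_one]
    simp
  have hsurj : Function.Surjective φ := by
    intro x
    obtain ⟨l, rfl⟩ := Ideal.Quotient.mk_surjective x
    exact ⟨_, hφ l⟩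
  exact Module.Flat.of_linearEquiv (LinearEquiv.ofBijective φ.toLinearMap ⟨hinj, hsurj⟩).symm



/-- a domain in which a prime number spans a proper nonzero ideal has characteristic zero -/
theorem charZero_of_prime_span (Λ : Type u) [CommRing Λ] [IsDomain Λ] (p : ℕ) (hp : p.Prime)
    (hp0 : (p : Λ) ≠ 0) (hpu : ¬ IsUnit (p : Λ)) : CharZero Λ := by
  obtain ⟨q, hq⟩ := CharP.exists Λ
  rcases CharP.char_is_prime_or_zero Λ q with hqp | hq0
  · exfalso
    have hq0 : (q : Λ) = 0 := CharP.cast_eq_zero Λ q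
    by_cases hpq : p = q
    · exact hp0 (hpq ▸ hq0)
    · have hcop : Nat.Coprime q p := (Nat.coprime_primes hqp hp).mpr (Ne.symm hpq)
      have h1 : IsCoprime ((q : ℤ)) (p : ℤ) := Nat.isCoprime_iff_coprime.mpr hcop
      have h2 := h1.map (Int.castRingHom Λ)
      simp only [eq_intCast, Int.cast_natCast, hq0, isCoprime_zero_left] at h2
      exact hpu h2
  · subst hq0
    exact CharP.charP_to_charZero Λ

/-- a field of characteristic `p` is formally smooth over any ring which is a copy of the prime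
field -/
theorem formallySmooth_of_prime_field (A : Type v) (B : Type u) [CommRing A] [Nontrivial A]
    [Field B] [Algebra A B] (p : ℕ) [Fact p.Prime] (hpA : (p : A) = 0)
    (hsurj : Function.Surjective (Int.cast : ℤ → A)) : Algebra.FormallySmooth A B := by
  have hp : p.Prime := Fact.out
  haveI : CharP A p := (CharP.charP_iff_prime_eq_zero hp).mpr hpA
  have hpB : (p : B) = 0 := by
    rw [← map_natCast (algebraMap A B), hpA, map_zero]
  haveI : CharP B p := (CharP.charP_iff_prime_eq_zero hp).mpr hpB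
  let f : ZMod p →+* A := ZMod.castHom (dvd_refl p) A
  have hf : Function.Bijective f := by
    refine ⟨f.injective, fun a => ?_⟩
    obtain ⟨z, rfl⟩ := hsurj a
    exact ⟨(z : ZMod p), map_intCast f z⟩
  let e : A ≃+* ULift.{u} (ZMod p) :=
    (RingEquiv.ofBijective f hf).symm.trans (ULift.ringEquiv (R := ZMod p)).symm
  letI : Algebra (ULift.{u} (ZMod p)) B := ((algebraMap A B).comp e.symm.toRingHom).toAlgebra
  have hperf : ∀ a : ULift.{u} (ZMod p), ∃ b : ULift.{u} (ZMod p), b ^ p = a := by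
    intro a
    refine ⟨a, ?_⟩
    apply ULift.ext
    change a.down ^ p = a.down
    exact ZMod.pow_card a.down
  haveI : Algebra.FormallySmooth (ULift.{u} (ZMod p)) B :=
    Groth.Agent.Helper1.FieldSmooth.formallySmooth_of_perfect p hperf
  refine formallySmooth_of_ringEquiv_base e (fun a => ?_)
  change algebraMap A B (e.symm (e a)) = _
  rw [RingEquiv.symm_apply_apply]

/-- the fibre `(R/I) ⊗ (Λ/pⁿ)` for `R = ℤ/pⁿ`, `I = (p)` is the field `Λ/p` -/
theorem isField_fibre (Λ : Type u) [CommRing Λ] (p : ℕ)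
    (hmax : (Ideal.span {(p : Λ)}).IsMaximal) (n : ℕ) (hn : 1 ≤ n)
    [Algebra (ZMod (p ^ n)) (Λ ⧸ Ideal.span {((p : Λ) ^ n)})] :
    IsField ((ZMod (p ^ n) ⧸ Ideal.span {(p : ZMod (p ^ n))}) ⊗[ZMod (p ^ n)]
      (Λ ⧸ Ideal.span {((p : Λ) ^ n)})) := by
  set R := ZMod (p ^ n)
  set S := Λ ⧸ Ideal.span {((p : Λ) ^ n)}
  set I : Ideal R := Ideal.span {(p : R)}
  let ψ : Λ →+* (R ⧸ I) ⊗[R] S :=
    (Algebra.TensorProduct.includeRight (R := R) (A := R ⧸ I) (B := S)).toRingHom.comp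
      (Ideal.Quotient.mk _)
  have hψ : ∀ l, ψ l = (1 : R ⧸ I) ⊗ₜ[R] (Ideal.Quotient.mk _ l : S) := fun l => rfl
  have hsurj : Function.Surjective ψ := by
    intro t
    obtain ⟨s, rfl⟩ := exists_one_tmul R I t
    obtain ⟨l, rfl⟩ := Ideal.Quotient.mk_surjective s
    exact ⟨l, rfl⟩
  have hsm : ∀ m : Λ, (p : R) • (Ideal.Quotient.mk (Ideal.span {((p : Λ) ^ n)}) m : S) =
      Ideal.Quotient.mk _ ((p : Λ) * m) := by
    intro m
    rw [Algebra.smul_def, map_natCast, map_mul, map_natCast]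
  have hker : RingHom.ker ψ = Ideal.span {(p : Λ)} := by
    ext l
    rw [RingHom.mem_ker, hψ, Ideal.mem_span_singleton]
    constructor
    · intro h
      have h1 := mem_smul_top_of_tmul_eq_zero I _ h
      rw [Submodule.ideal_span_singleton_smul, Submodule.mem_smul_pointwise_iff_exists] at h1
      obtain ⟨s, -, hs⟩ := h1
      obtain ⟨m, rfl⟩ := Ideal.Quotient.mk_surjective s
      rw [hsm, Ideal.Quotient.eq, Ideal.mem_span_singleton] at hs
      obtain ⟨c, hc⟩ := hs
      have : l = (p : Λ) * m - (p : Λ) ^ n * c := by rw [← hc]; ring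
      rw [this]
      obtain ⟨k, rfl⟩ : ∃ k, n = k + 1 := ⟨n - 1, by omega⟩
      exact ⟨m - (p : Λ) ^ k * c, by ring⟩
    · rintro ⟨m, rfl⟩
      rw [← hsm, ← TensorProduct.smul_tmul]
      have : (p : R) • (1 : R ⧸ I) = 0 := by
        rw [Algebra.smul_def, mul_one]
        exact Ideal.Quotient.eq_zero_iff_mem.mpr (Ideal.mem_span_singleton_self _)
      rw [this, TensorProduct.zero_tmul]
  haveI : (RingHom.ker ψ).IsMaximal := hker ▸ hmax
  have hF : IsField (Λ ⧸ RingHom.ker ψ) :=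
    (Ideal.Quotient.maximal_ideal_iff_isField_quotient _).mp inferInstance
  exact (RingHom.quotientKerEquivOfSurjective hsurj).symm.toMulEquiv.isField hF

/-- `Λ/pⁿ` is formally smooth over `ℤ/pⁿ` when `Λ` is a domain in which `p ≠ 0` generates a
maximal ideal -/
theorem formallySmooth_zmod_pow (Λ : Type u) [CommRing Λ] [IsDomain Λ] (p : ℕ) (hp : p.Prime)
    (hp0 : (p : Λ) ≠ 0) (hmax : (Ideal.span {(p : Λ)}).IsMaximal) (n : ℕ) (hn : 1 ≤ n)
    [Algebra (ZMod (p ^ n)) (Λ ⧸ Ideal.span {((p : Λ) ^ n)})] :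
    Algebra.FormallySmooth (ZMod (p ^ n)) (Λ ⧸ Ideal.span {((p : Λ) ^ n)}) := by
  haveI : Fact p.Prime := ⟨hp⟩
  have hpu : ¬ IsUnit (p : Λ) := fun h =>
    hmax.ne_top (Ideal.eq_top_of_isUnit_mem _ (Ideal.mem_span_singleton_self _) h)
  haveI := charZero_of_prime_span Λ p hp hp0 hpu
  haveI : Module.Flat (ZMod (p ^ n)) (Λ ⧸ Ideal.span {((p : Λ) ^ n)}) :=
    flat_zmod_quotient Λ (p ^ n) _ (by push_cast; rfl)
  haveI : Fact (1 < p ^ n) := ⟨Nat.one_lt_pow (by omega) hp.one_lt⟩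
  set R := ZMod (p ^ n)
  set S := Λ ⧸ Ideal.span {((p : Λ) ^ n)}
  set I : Ideal R := Ideal.span {(p : R)} with hIdef
  have hI : I ^ n = ⊥ := by
    rw [hIdef, Ideal.span_singleton_pow, ← Nat.cast_pow, ZMod.natCast_self]
    exact Ideal.span_singleton_eq_bot.mpr rfl
  have hpR : ¬ IsUnit (p : R) := by
    intro h
    have h2 := h.pow n
    rw [← Nat.cast_pow, ZMod.natCast_self] at h2
    exact not_isUnit_zero h2
  haveI : Nontrivial (R ⧸ I) := by
    rw [Ideal.Quotient.nontrivial_iff]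
    intro h
    exact hpR (Ideal.span_singleton_eq_top.mp h)
  have hpA : (p : R ⧸ I) = 0 := by
    rw [← map_natCast (Ideal.Quotient.mk I)]
    exact Ideal.Quotient.eq_zero_iff_mem.mpr (Ideal.mem_span_singleton_self _)
  have hsurj : Function.Surjective (Int.cast : ℤ → R ⧸ I) := by
    intro a
    obtain ⟨r, rfl⟩ := Ideal.Quotient.mk_surjective a
    obtain ⟨z, rfl⟩ := ZMod.intCast_surjective r
    exact ⟨z, (map_intCast (Ideal.Quotient.mk I) z).symm⟩
  letI : Field ((R ⧸ I) ⊗[R] S) := (isField_fibre Λ p hmax n hn).toField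
  haveI : Algebra.FormallySmooth (R ⧸ I) ((R ⧸ I) ⊗[R] S) :=
    formallySmooth_of_prime_field _ _ p hpA hsurj
  exact formallySmooth_of_flat_of_nilpotent R S I n hI


/-- S9455 -/
theorem s9455 (Λ : Type u) [CommRing Λ] [IsDomain Λ]
    [IsDiscreteValuationRing Λ] [IsAdicComplete (IsLocalRing.maximalIdeal Λ) Λ] (p : ℕ)
    (hp : p.Prime) (hm : IsLocalRing.maximalIdeal Λ = Ideal.span {(p : Λ)}) (n : ℕ) (hn : 1 ≤ n)
    [Algebra (ZMod (p ^ n)) (Λ ⧸ Ideal.span {((p : Λ) ^ n)})] :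
    Algebra.FormallySmooth (ZMod (p ^ n)) (Λ ⧸ Ideal.span {((p : Λ) ^ n)}) := by
  have hp0 : (p : Λ) ≠ 0 := by
    intro h
    have h1 : IsLocalRing.maximalIdeal Λ = ⊥ := by rw [hm, h]; exact Ideal.span_singleton_eq_bot.mpr rfl
    exact IsDiscreteValuationRing.not_a_field Λ h1
  have hmax : (Ideal.span {(p : Λ)}).IsMaximal := hm ▸ IsLocalRing.maximalIdeal.isMaximal Λ
  exact formallySmooth_zmod_pow Λ p hp hp0 hmax n hn

end Groth.Agent.Helper7.Cohen
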