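import Mathlib
import Groth.Prelude.Def_EGA41
import Groth.Agent.Helper7.CohenC

/-!
# Lifting homomorphisms out of Cohen rings (EGA 0_IV 19.8.6)
-/

set_option autoImplicit false
set_option linter.style.haveILetI false
set_option linter.unusedSectionVars false
universe u v w

namespace Groth.Agent.Helper7.Cohen

/-- **Lifting for Cohen rings**: a ring map from a Cohen ring lifts along a surjection with
nilpotent kernel, provided `p` is nilpotent in the source of the surjection. -/
theorem exists_lift_of_nilpotent (W : Type u) [CommRing W] [IsDomain W] (p : ℕ) (hp : p.Prime)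
    (hp0 : (p : W) ≠ 0) (hmax : (Ideal.span {(p : W)}).IsMaximal)
    {T : Type v} {T' : Type w} [CommRing T] [CommRing T'] (π : T →+* T')
    (hπ : Function.Surjective π) (hker : IsNilpotent (RingHom.ker π))
    (hpT : IsNilpotent (p : T)) (g : W →+* T') :
    ∃ g' : W →+* T, π.comp g' = g := by
  obtain ⟨N, hN⟩ := hpT
  have hN1 : (p : T) ^ (N + 1) = 0 := by rw [pow_succ, hN, zero_mul]
  generalize hM : N + 1 = M at hN1
  have hM1 : 1 ≤ M := by omega
  haveI : CharP T (ringChar T) := ringChar.charP T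
  have hdvd : ringChar T ∣ p ^ M := ringChar.dvd (by push_cast; exact hN1)
  letI : Algebra (ZMod (p ^ M)) T := (ZMod.castHom hdvd T).toAlgebra
  letI : Algebra (ZMod (p ^ M)) T' := (π.comp (algebraMap (ZMod (p ^ M)) T)).toAlgebra
  haveI : CharP (W ⧸ Ideal.span {((p : W) ^ M)}) (ringChar (W ⧸ Ideal.span {((p : W) ^ M)})) :=
    ringChar.charP _
  have hdvd' : ringChar (W ⧸ Ideal.span {((p : W) ^ M)}) ∣ p ^ M := ringChar.dvd (by
    push_cast
    rw [← map_natCast (Ideal.Quotient.mk (Ideal.span {((p : W) ^ M)})), ← map_pow]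
    exact Ideal.Quotient.eq_zero_iff_mem.mpr (Ideal.mem_span_singleton_self _))
  letI : Algebra (ZMod (p ^ M)) (W ⧸ Ideal.span {((p : W) ^ M)}) :=
    (ZMod.castHom hdvd' _).toAlgebra
  haveI : Algebra.FormallySmooth (ZMod (p ^ M)) (W ⧸ Ideal.span {((p : W) ^ M)}) :=
    formallySmooth_zmod_pow W p hp hp0 hmax M hM1
  let πa : T →ₐ[ZMod (p ^ M)] T' := { π with commutes' := fun r => rfl }
  have hg0 : ∀ a ∈ Ideal.span {((p : W) ^ M)}, g a = 0 := by
    intro a ha
    obtain ⟨c, rfl⟩ := Ideal.mem_span_singleton.mp ha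
    rw [map_mul, map_pow, map_natCast, ← map_natCast π, ← map_pow, hN1, map_zero, zero_mul]
  let g1 : W ⧸ Ideal.span {((p : W) ^ M)} →+* T' := Ideal.Quotient.lift _ g hg0
  let ga : W ⧸ Ideal.span {((p : W) ^ M)} →ₐ[ZMod (p ^ M)] T' :=
    { g1 with
      commutes' := fun r => RingHom.congr_fun
        (Subsingleton.elim (g1.comp (algebraMap (ZMod (p ^ M)) _)) (algebraMap (ZMod (p ^ M)) T')) r }
  let l := Algebra.FormallySmooth.liftOfSurjective ga πa hπ hker
  refine ⟨l.toRingHom.comp (Ideal.Quotient.mk _), ?_⟩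
  ext x
  exact Algebra.FormallySmooth.liftOfSurjective_apply ga πa hπ hker (Ideal.Quotient.mk _ x)

/-- abstract nilpotent lifting property of a ring `W` against a ring `T` -/
def LiftsTo (W : Type u) [CommRing W] (T : Type v) [CommRing T] : Prop :=
  ∀ (T' : Type v) [CommRing T'] (π : T →+* T'), Function.Surjective π →
    IsNilpotent (RingHom.ker π) → ∀ g : W →+* T', ∃ g' : W →+* T, π.comp g' = g

/-- lifting a compatible pair of maps to two quotients -/
theorem exists_lift_pair {W : Type u} [CommRing W] {T T₁ T₂ T₀ : Type v} [CommRing T]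
    [CommRing T₁] [CommRing T₂] [CommRing T₀] (hL : LiftsTo W T)
    (π₁ : T →+* T₁) (π₂ : T →+* T₂) (ρ₁ : T₁ →+* T₀) (ρ₂ : T₂ →+* T₀)
    (hcart : ∀ a b, ρ₁ a = ρ₂ b → ∃ t, π₁ t = a ∧ π₂ t = b)
    (hnil : IsNilpotent (RingHom.ker π₁ ⊓ RingHom.ker π₂))
    (g₁ : W →+* T₁) (g₂ : W →+* T₂) (hg : ρ₁.comp g₁ = ρ₂.comp g₂) :
    ∃ g : W →+* T, π₁.comp g = g₁ ∧ π₂.comp g = g₂ := by
  let φ : T →+* T₁ × T₂ := π₁.prod π₂
  have hker : RingHom.ker φ.rangeRestrict = RingHom.ker π₁ ⊓ RingHom.ker π₂ := by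
    ext t
    rw [RingHom.mem_ker, Ideal.mem_inf, RingHom.mem_ker, RingHom.mem_ker]
    constructor
    · intro h
      have h1 := congrArg Subtype.val h
      have h2 : φ t = 0 := h1
      exact ⟨congrArg Prod.fst h2, congrArg Prod.snd h2⟩
    · rintro ⟨h1, h2⟩
      apply Subtype.ext
      exact Prod.ext h1 h2
  let g : W →+* φ.range := (g₁.prod g₂).codRestrict φ.range (fun x => by
    obtain ⟨t, h1, h2⟩ := hcart (g₁ x) (g₂ x) (RingHom.congr_fun hg x)
    exact ⟨t, Prod.ext h1 h2⟩)
  obtain ⟨g', hg'⟩ := hL φ.range φ.rangeRestrict φ.rangeRestrict_surjective (hker ▸ hnil) g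
  refine ⟨g', ?_, ?_⟩
  · ext x
    have h1 := congrArg Subtype.val (RingHom.congr_fun hg' x)
    exact congrArg Prod.fst h1
  · ext x
    have h1 := congrArg Subtype.val (RingHom.congr_fun hg' x)
    exact congrArg Prod.snd h1

open Ideal.Quotient in
/-- one step of the tower -/
theorem exists_lift_step {W : Type u} [CommRing W] {C : Type v} [CommRing C] (m J : Ideal C)
    (hJm : J ≤ m) (u : W →+* C ⧸ J) (n : ℕ) (hL : LiftsTo W (C ⧸ m ^ (n + 1)))
    (v : W →+* C ⧸ m ^ n)
    (hv : (factor (le_sup_right : m ^ n ≤ J ⊔ m ^ n)).comp v =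
      (factor (le_sup_left : J ≤ J ⊔ m ^ n)).comp u) :
    ∃ v' : W →+* C ⧸ m ^ (n + 1),
      (factor (le_sup_right : m ^ (n + 1) ≤ J ⊔ m ^ (n + 1))).comp v' =
        (factor (le_sup_left : J ≤ J ⊔ m ^ (n + 1))).comp u ∧
      (factorPow m n.le_succ).comp v' = v := by
  have hle : J ⊔ m ^ (n + 1) ≤ J ⊔ m ^ n :=
    sup_le_sup_left (Ideal.pow_le_pow_right n.le_succ) J
  have hcart : ∀ (a : C ⧸ m ^ n) (b : C ⧸ (J ⊔ m ^ (n + 1))),
      factor (le_sup_right : m ^ n ≤ J ⊔ m ^ n) a = factor hle b →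
      ∃ t : C ⧸ m ^ (n + 1), factorPow m n.le_succ t = a ∧
        factor (le_sup_right : m ^ (n + 1) ≤ J ⊔ m ^ (n + 1)) t = b := by
    intro a b hab
    obtain ⟨x, rfl⟩ := Ideal.Quotient.mk_surjective a
    obtain ⟨y, rfl⟩ := Ideal.Quotient.mk_surjective b
    rw [factor_mk, factor_mk, Ideal.Quotient.eq, Submodule.mem_sup] at hab
    obtain ⟨j, hj, t, ht, hjt⟩ := hab
    refine ⟨Ideal.Quotient.mk _ (x - t), ?_, ?_⟩
    · rw [factor_mk, Ideal.Quotient.eq]
      simpa using (m ^ n).neg_mem ht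
    · rw [factor_mk, Ideal.Quotient.eq]
      have : x - t - y = j := by linear_combination -hjt
      rw [this]
      exact Ideal.mem_sup_left hj
  have hnil : IsNilpotent (RingHom.ker (factorPow m n.le_succ) ⊓
      RingHom.ker (factor (le_sup_right : m ^ (n + 1) ≤ J ⊔ m ^ (n + 1)))) := by
    refine ⟨n + 1, ?_⟩
    rw [Ideal.zero_eq_bot, eq_bot_iff]
    have h1 : RingHom.ker (factorPow m n.le_succ) ⊓
      RingHom.ker (factor (le_sup_right : m ^ (n + 1) ≤ J ⊔ m ^ (n + 1))) ≤
        m.map (Ideal.Quotient.mk (m ^ (n + 1))) := by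
      intro x hx
      obtain ⟨c, rfl⟩ := Ideal.Quotient.mk_surjective x
      have h2 : (factor (le_sup_right : m ^ (n + 1) ≤ J ⊔ m ^ (n + 1)))
          (Ideal.Quotient.mk (m ^ (n + 1)) c) = 0 := hx.2
      rw [factor_mk, Ideal.Quotient.eq_zero_iff_mem] at h2
      exact Ideal.mem_map_of_mem _ (sup_le hJm (Ideal.pow_le_self (Nat.succ_ne_zero n)) h2)
    refine (Ideal.pow_right_mono h1 (n + 1)).trans ?_
    rw [← Ideal.map_pow, Ideal.map_quotient_self]
  have hg : (factor (le_sup_right : m ^ n ≤ J ⊔ m ^ n)).comp v =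
      (factor hle).comp ((factor (le_sup_left : J ≤ J ⊔ m ^ (n + 1))).comp u) := by
    rw [hv, ← RingHom.comp_assoc, factor_comp]
  obtain ⟨g, h1, h2⟩ := exists_lift_pair hL (factorPow m n.le_succ)
    (factor (le_sup_right : m ^ (n + 1) ≤ J ⊔ m ^ (n + 1)))
    (factor (le_sup_right : m ^ n ≤ J ⊔ m ^ n)) (factor hle) hcart hnil v _ hg
  exact ⟨g, h2, h1⟩

open Ideal.Quotient in
/-- **lifting through a complete ring**: if `W` has the nilpotent lifting property against all
`C/mⁿ`, `C` is `m`-adically complete and `J ≤ m` is closed, then any `W → C/J` lifts to `W → C`. -/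
theorem exists_lift_of_complete {W : Type u} [CommRing W] {C : Type v} [CommRing C] (m : Ideal C)
    [IsAdicComplete m C] (J : Ideal C) (hJm : J ≤ m)
    (hcl : ∀ x, (∀ n, x ∈ J ⊔ m ^ n) → x ∈ J) (u : W →+* C ⧸ J)
    (hL : ∀ n, LiftsTo W (C ⧸ m ^ n)) : ∃ v : W →+* C, (Ideal.Quotient.mk J).comp v = u := by
  let X : ℕ → Type _ := fun n => {v : W →+* C ⧸ m ^ n //
    (factor (le_sup_right : m ^ n ≤ J ⊔ m ^ n)).comp v =
      (factor (le_sup_left : J ≤ J ⊔ m ^ n)).comp u}
  have hJ0 : J ≤ m ^ 0 := by simp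
  let base : X 0 := ⟨(factor hJ0).comp u, by rw [← RingHom.comp_assoc, factor_comp]⟩
  have step : ∀ n (x : X n), ∃ y : X (n + 1), (factorPow m n.le_succ).comp y.1 = x.1 := by
    intro n x
    obtain ⟨v', h1, h2⟩ := exists_lift_step m J hJm u n (hL (n + 1)) x.1 x.2
    exact ⟨⟨v', h1⟩, h2⟩
  choose next hnext using step
  let seq : ∀ n, X n := fun n => Nat.rec base (fun n x => next n x) n
  let f : ∀ n, W →+* C ⧸ m ^ n := fun n => (seq n).1
  have hf1 : ∀ n, (factorPow m n.le_succ).comp (f (n + 1)) = f n := fun n => hnext n (seq n)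
  have hf : ∀ {k n : ℕ} (hle : k ≤ n), (factorPow m hle).comp (f n) = f k := by
    intro k n hle
    induction n, hle using Nat.le_induction with
    | base =>
      ext x
      simp
    | succ n hkn ih =>
      rw [← ih, ← hf1 n, ← RingHom.comp_assoc, factor_comp]
  let vhat := AdicCompletion.liftRingHom m f hf
  let v : W →+* C := ((AdicCompletion.ofAlgEquiv m).symm : AdicCompletion m C →+* C).comp vhat
  have hv : ∀ n w, Ideal.Quotient.mk (m ^ n) (v w) = f n w := by
    intro n w
    change Ideal.Quotient.mk (m ^ n) ((AdicCompletion.ofAlgEquiv m).symm (vhat w)) = _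
    rw [AdicCompletion.mk_ofAlgEquiv_symm, AdicCompletion.evalₐ_liftRingHom]
  refine ⟨v, ?_⟩
  ext w
  obtain ⟨c, hc⟩ := Ideal.Quotient.mk_surjective (u w)
  have hmem : v w - c ∈ J := by
    apply hcl
    intro n
    rw [← Ideal.Quotient.eq]
    have h1 := RingHom.congr_fun (seq n).2 w
    rw [RingHom.comp_apply, RingHom.comp_apply] at h1
    change factor _ (f n w) = _ at h1
    rw [← hv n w, factor_mk, ← hc, factor_mk] at h1
    exact h1
  rw [RingHom.comp_apply, ← hc, Ideal.Quotient.eq]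
  exact hmem

lemma formallySmooth_rat (k : Type u) [Field k] [CharZero k] : Algebra.FormallySmooth ℚ k := by
  obtain ⟨ι, v, hv⟩ := exists_isTranscendenceBasis' ℚ k
  have halg : Algebra.IsAlgebraic (IntermediateField.adjoin ℚ (Set.range v)) k :=
    hv.isAlgebraic_field
  have : Algebra.IsSeparable (IntermediateField.adjoin ℚ (Set.range v)) k :=
    inferInstance
  exact Algebra.FormallySmooth.of_algebraicIndependent_of_isSeparable hv.1

lemma formallySmooth_int (k : Type u) [Field k] [CharZero k] : Algebra.FormallySmooth ℤ k := by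
  have h1 : Algebra.FormallySmooth ℤ ℚ := .of_isLocalization (nonZeroDivisors ℤ)
  have h2 := formallySmooth_rat k
  exact .comp ℤ ℚ k

theorem liftsTo_of_formallySmooth_int (W : Type u) [CommRing W] [Algebra.FormallySmooth ℤ W]
    (T : Type v) [CommRing T] : LiftsTo W T := by
  intro T' _ π hπ hker g
  refine ⟨(Algebra.FormallySmooth.liftOfSurjective g.toIntAlgHom π.toIntAlgHom hπ hker).toRingHom,
    ?_⟩
  ext x
  exact Algebra.FormallySmooth.liftOfSurjective_apply g.toIntAlgHom π.toIntAlgHom hπ hker x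

theorem liftsTo_of_cohen (W : Type u) [CommRing W] [IsDomain W] (p : ℕ) (hp : p.Prime)
    (hp0 : (p : W) ≠ 0) (hmax : (Ideal.span {(p : W)}).IsMaximal)
    (T : Type v) [CommRing T] (hpT : IsNilpotent (p : T)) : LiftsTo W T := by
  intro T' _ π hπ hker g
  exact exists_lift_of_nilpotent W p hp hp0 hmax π hπ hker hpT g

/-- in a Noetherian local ring every proper ideal is closed for the adic topology -/
theorem closed_of_noetherian_local {C : Type v} [CommRing C] [IsLocalRing C] [IsNoetherianRing C]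
    (J : Ideal C) [IsLocalRing (C ⧸ J)] (x : C)
    (hx : ∀ n, x ∈ J ⊔ IsLocalRing.maximalIdeal C ^ n) : x ∈ J := by
  have h1 : (IsLocalRing.maximalIdeal C).map (Ideal.Quotient.mk J) ≠ ⊤ := by
    intro h
    have hJ : J ≠ ⊤ := fun hJ => by
      have : Subsingleton (C ⧸ J) := Ideal.Quotient.subsingleton_iff.mpr hJ
      exact not_subsingleton (C ⧸ J) this
    have h2 : (1 : C ⧸ J) ∈ (IsLocalRing.maximalIdeal C).map (Ideal.Quotient.mk J) := by
      rw [h]; trivial
    rw [← map_one (Ideal.Quotient.mk J), Ideal.mem_quotient_iff_mem_sup,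
      sup_eq_left.mpr (IsLocalRing.le_maximalIdeal hJ)] at h2
    exact (IsLocalRing.maximalIdeal.isMaximal C).ne_top ((Ideal.eq_top_iff_one _).mpr h2)
  have h3 := Ideal.iInf_pow_eq_bot_of_isLocalRing _ h1
  have h4 : Ideal.Quotient.mk J x ∈ ⨅ i, (IsLocalRing.maximalIdeal C).map (Ideal.Quotient.mk J) ^ i := by
    rw [Ideal.mem_iInf]
    intro n
    rw [← Ideal.map_pow, Ideal.mem_quotient_iff_mem_sup, sup_comm]
    exact hx n
  rw [h3, Ideal.mem_bot, Ideal.Quotient.eq_zero_iff_mem] at h4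
  exact h4

open IsLocalRing in
theorem s2456 {W C : Type u} [CommRing W] [IsLocalRing W] (hW : EGA41.IsCohenRingEGA W)
    [CommRing C] [IsLocalRing C] [IsNoetherianRing C] [IsAdicComplete (maximalIdeal C) C]
    (J : Ideal C) (hJ : J ≠ ⊤) [IsLocalRing (C ⧸ J)] (u : W →+* C ⧸ J) [IsLocalHom u] :
    ∃ v : W →+* C, IsLocalHom v ∧ (Ideal.Quotient.mk J).comp v = u := by
  have hJm : J ≤ maximalIdeal C := IsLocalRing.le_maximalIdeal hJ
  have hL : ∀ n, LiftsTo W (C ⧸ maximalIdeal C ^ n) := by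
    rcases hW with ⟨hfield, hchar⟩ | ⟨hdom, hdvr, hcompl, p, hp, hmax⟩
    · letI : Field W := hfield.toField
      haveI := formallySmooth_int W
      exact fun n => liftsTo_of_formallySmooth_int W _
    · have hp0 : (p : W) ≠ 0 := by
        intro h
        have h1 : IsLocalRing.maximalIdeal W = ⊥ := by
          rw [hmax, h]; exact Ideal.span_singleton_eq_bot.mpr rfl
        exact IsDiscreteValuationRing.not_a_field W h1
      have hmax' : (Ideal.span {(p : W)}).IsMaximal := hmax ▸ IsLocalRing.maximalIdeal.isMaximal W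
      have hpW : (p : W) ∈ maximalIdeal W := hmax ▸ Ideal.mem_span_singleton_self _
      have hpu : ¬ IsUnit (u (p : W)) := fun h => hpW (IsLocalHom.map_nonunit _ h)
      have hpC : (p : C) ∈ maximalIdeal C := by
        by_contra h
        have h1 : IsUnit (p : C) := by
          by_contra h2
          exact h h2
        apply hpu
        rw [map_natCast, ← map_natCast (Ideal.Quotient.mk J)]
        exact h1.map _
      intro n
      refine liftsTo_of_cohen W p hp hp0 hmax' _ ⟨n, ?_⟩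
      rw [← map_natCast (Ideal.Quotient.mk (maximalIdeal C ^ n)), ← map_pow]
      exact Ideal.Quotient.eq_zero_iff_mem.mpr (Ideal.pow_mem_pow hpC n)
  obtain ⟨v, hv⟩ := exists_lift_of_complete (maximalIdeal C) J hJm
    (closed_of_noetherian_local J) u hL
  refine ⟨v, ⟨fun a ha => ?_⟩, hv⟩
  have h1 : IsUnit (u a) := by
    rw [← hv]
    exact ha.map (Ideal.Quotient.mk J)
  exact IsLocalHom.map_nonunit a h1

end Groth.Agent.Helper7.Cohen
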