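import Mathlib
import Groth.Prelude.Def_EGA41
import Groth.Agent.Helper7.CohenD

/-!
# Uniqueness of Cohen rings (EGA 0_IV 19.8.6 (ii))
-/

set_option autoImplicit false
set_option linter.style.haveILetI false
set_option linter.unusedSectionVars false
set_option linter.overlappingInstances false
universe u v w

namespace Groth.Agent.Helper7.Cohen

open IsLocalRing

theorem residue_bijective_of_isField {W : Type u} [CommRing W] [IsLocalRing W] (hF : IsField W) :
    Function.Bijective (residue W) := by
  refine ⟨?_, residue_surjective⟩
  rw [RingHom.injective_iff_ker_eq_bot, ker_residue]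
  exact isField_iff_maximalIdeal_eq.mp hF

theorem charP_residueField_of_cohen {W : Type u} [CommRing W] [IsLocalRing W] (p : ℕ)
    (hp : p.Prime) (hmax : maximalIdeal W = Ideal.span {(p : W)}) : CharP (ResidueField W) p := by
  rw [CharP.charP_iff_prime_eq_zero hp, ← map_natCast (residue W), residue_eq_zero_iff, hmax]
  exact Ideal.mem_span_singleton_self _

/-- a local homomorphism of Cohen rings which is an isomorphism on residue fields is bijective -/
theorem bijective_of_cohen {W W' : Type u} [CommRing W] [IsLocalRing W] [CommRing W']
    [IsLocalRing W'] [IsDomain W] [IsDiscreteValuationRing W] [IsDomain W']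
    [IsAdicComplete (maximalIdeal W) W] [IsAdicComplete (maximalIdeal W') W']
    (p : ℕ) (hmax : maximalIdeal W = Ideal.span {(p : W)})
    (hmax' : maximalIdeal W' = Ideal.span {(p : W')}) (hp0' : (p : W') ≠ 0)
    (v : W →+* W') [IsLocalHom v]
    (hsurj : Function.Surjective ((residue W').comp v)) : Function.Bijective v := by
  have hirr : Irreducible (p : W) :=
    (IsDiscreteValuationRing.irreducible_iff_uniformizer _).mpr hmax
  constructor
  · rw [injective_iff_map_eq_zero]
    intro x hx
    by_contra hx0
    obtain ⟨n, w, hw⟩ := IsDiscreteValuationRing.eq_unit_mul_pow_irreducible hx0 hirr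
    rw [hw, map_mul, map_pow, map_natCast] at hx
    rcases mul_eq_zero.mp hx with h | h
    · exact (w.isUnit.map v).ne_zero h
    · exact pow_ne_zero n hp0' h
  · have hmap : (maximalIdeal W).map v = maximalIdeal W' := by
      rw [hmax, hmax', Ideal.map_span, Set.image_singleton, map_natCast]
    haveI : IsHausdorff ((maximalIdeal W).map v) W' := by
      rw [hmap]; infer_instance
    apply surjective_of_mk_map_comp_surjective (I := maximalIdeal W) v
    rw [hmap]
    exact hsurj


theorem ne_zero_of_cohen {W : Type u} [CommRing W] [IsDomain W] [IsDiscreteValuationRing W]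
    (p : ℕ) (hmax : maximalIdeal W = Ideal.span {(p : W)}) : (p : W) ≠ 0 := by
  intro h
  have h1 : maximalIdeal W = ⊥ := by
    rw [hmax, h]; exact Ideal.span_singleton_eq_bot.mpr rfl
  exact IsDiscreteValuationRing.not_a_field W h1

theorem s2457 {W W' : Type u} [CommRing W] [IsLocalRing W] [CommRing W'] [IsLocalRing W']
    (hW : EGA41.IsCohenRingEGA W) (hW' : EGA41.IsCohenRingEGA W')
    (u : ResidueField W ≃+* ResidueField W') :
    ∃ v : W ≃+* W', ∀ x : W, residue W' (v x) = u (residue W x) := by
  rcases hW with ⟨hfield, hchar⟩ | ⟨hdom, hdvr, hcompl, p, hp, hmax⟩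
  · haveI : CharZero (ResidueField W) :=
      charZero_of_injective_ringHom (residue_bijective_of_isField hfield).1
    haveI : CharZero (ResidueField W') := charZero_of_injective_ringHom (f := (u : ResidueField W →+* ResidueField W')) u.injective
    rcases hW' with ⟨hfield', hchar'⟩ | ⟨hdom', hdvr', hcompl', p', hp', hmax'⟩
    · let e1 := RingEquiv.ofBijective (residue W) (residue_bijective_of_isField hfield)
      let e2 := RingEquiv.ofBijective (residue W') (residue_bijective_of_isField hfield')
      refine ⟨(e1.trans u).trans e2.symm, fun x => ?_⟩
      exact e2.apply_symm_apply _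
    · exfalso
      haveI := charP_residueField_of_cohen p' hp' hmax'
      exact hp'.ne_zero (CharP.eq (ResidueField W') inferInstance (CharP.ofCharZero _))
  · haveI := charP_residueField_of_cohen p hp hmax
    rcases hW' with ⟨hfield', hchar'⟩ | ⟨hdom', hdvr', hcompl', p', hp', hmax'⟩
    · exfalso
      haveI : CharZero (ResidueField W') :=
        charZero_of_injective_ringHom (residue_bijective_of_isField hfield').1
      haveI : CharZero (ResidueField W) := charZero_of_injective_ringHom (f := (u.symm : ResidueField W' →+* ResidueField W)) u.symm.injective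
      exact hp.ne_zero (CharP.eq (ResidueField W) inferInstance (CharP.ofCharZero _))
    · have hc1 : CharP (ResidueField W') p' := charP_residueField_of_cohen p' hp' hmax'
      have hc2 : CharP (ResidueField W') p :=
        charP_of_injective_ringHom (f := (u : ResidueField W →+* ResidueField W')) u.injective p
      obtain rfl : p = p' := CharP.eq (ResidueField W') hc2 hc1
      let u₀ : W →+* W' ⧸ maximalIdeal W' := (u : ResidueField W →+* ResidueField W').comp (residue W)
      haveI : IsLocalHom u₀ := ⟨fun a ha => by
        by_contra hna
        have h1 : residue W a = 0 := (residue_eq_zero_iff a).mpr hna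
        have h2 : u₀ a = 0 := by
          change u (residue W a) = 0
          rw [h1, map_zero]
        rw [h2] at ha
        exact not_isUnit_zero ha⟩
      haveI : IsLocalRing (W' ⧸ maximalIdeal W') :=
        inferInstanceAs (IsLocalRing (ResidueField W'))
      obtain ⟨v, hvloc, hv⟩ := s2456 (W := W) (C := W')
        (Or.inr ⟨hdom, hdvr, hcompl, p, hp, hmax⟩) (maximalIdeal W')
        (maximalIdeal.isMaximal W').ne_top u₀
      have hres : ∀ x, residue W' (v x) = u (residue W x) := fun x => RingHom.congr_fun hv x
      have hbij : Function.Bijective v := by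
        apply bijective_of_cohen p hmax hmax' (ne_zero_of_cohen p hmax') v
        intro y
        obtain ⟨z, rfl⟩ := u.surjective y
        obtain ⟨x, rfl⟩ := residue_surjective z
        exact ⟨x, hres x⟩
      exact ⟨RingEquiv.ofBijective v hbij, hres⟩

end Groth.Agent.Helper7.Cohen
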