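import Mathlib
import Groth.Prelude.Def_Found

/-!
# Completing a ring `R` with `R / t` a field and `t` not nilpotent modulo higher powers
gives a complete discrete valuation ring
-/

set_option autoImplicit false
set_option linter.style.haveILetI false
set_option linter.unusedSectionVars false
universe u v w

namespace Groth.Agent.Helper7.Cohen

open IsLocalRing

/-- a local ring, separated for its principal maximal ideal `(τ)` with `τ` not nilpotent: every
nonzero element is a power of `τ` times a unit -/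
theorem exists_eq_pow_mul_unit {Λ : Type u} [CommRing Λ] [IsLocalRing Λ] (τ : Λ)
    (hm : maximalIdeal Λ = Ideal.span {τ}) [IsHausdorff (maximalIdeal Λ) Λ] (x : Λ) (hx : x ≠ 0) :
    ∃ (n : ℕ) (u : Λ), IsUnit u ∧ x = τ ^ n * u := by
  classical
  have hex : ∃ n, x ∉ maximalIdeal Λ ^ n := by
    by_contra h
    push Not at h
    apply hx
    apply IsHausdorff.haus (inferInstance : IsHausdorff (maximalIdeal Λ) Λ) x
    intro n
    rw [SModEq.zero, smul_eq_mul, Ideal.mul_top]
    exact h n
  have hn0 : Nat.find hex ≠ 0 := by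
    intro h0
    have := Nat.find_spec hex
    rw [h0, pow_zero, Ideal.one_eq_top] at this
    exact this trivial
  obtain ⟨n, hn⟩ : ∃ n, Nat.find hex = n + 1 := ⟨Nat.find hex - 1, by omega⟩
  have h1 : x ∈ maximalIdeal Λ ^ n := by
    by_contra h
    have := Nat.find_min' hex h
    omega
  have h2 : x ∉ maximalIdeal Λ ^ (n + 1) := hn ▸ Nat.find_spec hex
  rw [hm, Ideal.span_singleton_pow, Ideal.mem_span_singleton'] at h1
  obtain ⟨u, hu⟩ := h1
  refine ⟨n, u, ?_, by rw [← hu, mul_comm]⟩
  by_contra hnu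
  have hum : u ∈ maximalIdeal Λ := hnu
  apply h2
  rw [pow_succ, ← hu, mul_comm u]
  refine Ideal.mul_mem_mul ?_ hum
  rw [hm, Ideal.span_singleton_pow]
  exact Ideal.mem_span_singleton_self _

theorem isDomain_of_principal {Λ : Type u} [CommRing Λ] [IsLocalRing Λ] (τ : Λ)
    (hm : maximalIdeal Λ = Ideal.span {τ}) [IsHausdorff (maximalIdeal Λ) Λ]
    (hτ : ∀ n : ℕ, τ ^ n ≠ 0) : IsDomain Λ := by
  haveI : NoZeroDivisors Λ := ⟨fun {x y} hxy => by
    by_contra h
    push Not at h
    obtain ⟨n, u, hu, rfl⟩ := exists_eq_pow_mul_unit τ hm x h.1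
    obtain ⟨k, v, hv, rfl⟩ := exists_eq_pow_mul_unit τ hm y h.2
    have h1 : τ ^ (n + k) * (u * v) = 0 := by rw [← hxy]; ring
    have h2 := (hu.mul hv).mul_left_eq_zero.mp h1
    exact hτ _ h2⟩
  exact NoZeroDivisors.to_isDomain Λ

theorem isDiscreteValuationRing_of_principal {Λ : Type u} [CommRing Λ] [IsLocalRing Λ] [IsDomain Λ]
    (τ : Λ) (hm : maximalIdeal Λ = Ideal.span {τ}) [IsHausdorff (maximalIdeal Λ) Λ]
    (hτ : τ ≠ 0) : IsDiscreteValuationRing Λ := by
  apply IsDiscreteValuationRing.ofHasUnitMulPowIrreducibleFactorization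
  have hprime : Prime τ := by
    rw [← Ideal.span_singleton_prime hτ, ← hm]
    infer_instance
  refine ⟨τ, hprime.irreducible, fun {x} hx => ?_⟩
  obtain ⟨n, u, hu, rfl⟩ := exists_eq_pow_mul_unit τ hm x hx
  exact ⟨n, ⟨hu.unit, rfl⟩⟩

/-- the `p`-adic completion of a ring `R` in which `p` generates a maximal ideal with residue
field `k` and `pⁿ ∉ (pⁿ⁺¹)` is a Cohen ring with residue field `k` -/
theorem exists_cohen_of_lift (R : Type u) [CommRing R] (p : ℕ) (hp : p.Prime) (k : Type u)
    [Field k] (ρ : R →+* k) (hρ : Function.Surjective ρ)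
    (hker : RingHom.ker ρ = Ideal.span {(p : R)})
    (hreg : ∀ n : ℕ, (p : R) ^ n ∉ Ideal.span {(p : R) ^ (n + 1)}) :
    ∃ (Λ : Type u) (_ : CommRing Λ) (_ : IsLocalRing Λ), CAlg.IsCohenRing Λ ∧
      Nonempty (ResidueField Λ ≃+* k) := by
  set I : Ideal R := Ideal.span {(p : R)} with hI
  have fg : I.FG := ⟨{(p : R)}, by simp [hI]⟩
  haveI hImax : I.IsMaximal := hker ▸ RingHom.ker_isMaximal_of_surjective ρ hρ
  haveI hmaxΛ : (I.map (algebraMap R (AdicCompletion I R))).IsMaximal :=
    AdicCompletion.isMaximal_map_of_le I I le_rfl fg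
  haveI hcomp : IsAdicComplete (I.map (algebraMap R (AdicCompletion I R))) (AdicCompletion I R) :=
    AdicCompletion.isAdicComplete_self I fg
  haveI hloc : IsLocalRing (AdicCompletion I R) :=
    isLocalRing_of_isAdicComplete_maximal (I.map (algebraMap R (AdicCompletion I R)))
  have hm : maximalIdeal (AdicCompletion I R) = I.map (algebraMap R (AdicCompletion I R)) :=
    (IsLocalRing.eq_maximalIdeal hmaxΛ).symm
  have hm' : maximalIdeal (AdicCompletion I R) = Ideal.span {(p : AdicCompletion I R)} := by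
    rw [hm, hI, Ideal.map_span, Set.image_singleton, map_natCast]
  haveI hcomp' : IsAdicComplete (maximalIdeal (AdicCompletion I R)) (AdicCompletion I R) := by
    rw [hm]; exact hcomp
  have hτ : ∀ n : ℕ, (p : AdicCompletion I R) ^ n ≠ 0 := by
    intro n h
    have h1 : AdicCompletion.evalₐ I (n + 1) ((p : AdicCompletion I R) ^ n) = 0 := by
      rw [h, map_zero]
    rw [map_pow, map_natCast, ← map_natCast (Ideal.Quotient.mk (I ^ (n + 1))), ← map_pow,
      Ideal.Quotient.eq_zero_iff_mem, hI, Ideal.span_singleton_pow] at h1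
    exact hreg n h1
  haveI hdom : IsDomain (AdicCompletion I R) := isDomain_of_principal _ hm' hτ
  haveI hdvr : IsDiscreteValuationRing (AdicCompletion I R) :=
    isDiscreteValuationRing_of_principal _ hm' (by simpa using hτ 1)
  refine ⟨AdicCompletion I R, inferInstance, hloc, ⟨hdom, hdvr, hcomp', p, hp, hm'⟩, ?_⟩
  -- residue field
  let ρ' : R ⧸ I →+* k := Ideal.Quotient.lift I ρ (fun a ha => by
    rw [← RingHom.mem_ker, hker]; exact ha)
  have hρ'inj : Function.Injective ρ' := by
    rw [injective_iff_map_eq_zero]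
    intro x hx
    obtain ⟨a, rfl⟩ := Ideal.Quotient.mk_surjective x
    rw [Ideal.Quotient.eq_zero_iff_mem, ← hker, RingHom.mem_ker]
    exact hx
  let g : AdicCompletion I R →+* k := ρ'.comp (AdicCompletion.evalOneₐ I).toRingHom
  have hg : Function.Surjective g := by
    intro y
    obtain ⟨a, rfl⟩ := hρ y
    obtain ⟨x, hx⟩ := AdicCompletion.evalOneₐ_surjective I (Ideal.Quotient.mk I a)
    refine ⟨x, ?_⟩
    change ρ' (AdicCompletion.evalOneₐ I x) = _
    rw [hx]
    rfl
  have hkerg : RingHom.ker g = maximalIdeal (AdicCompletion I R) := by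
    rw [hm, ← AdicCompletion.ker_evalOneₐ_eq_map I fg]
    ext x
    rw [RingHom.mem_ker, RingHom.mem_ker]
    change ρ' (AdicCompletion.evalOneₐ I x) = 0 ↔ _
    rw [map_eq_zero_iff ρ' hρ'inj]
    rfl
  exact ⟨(Ideal.quotEquivOfEq hkerg.symm).trans (RingHom.quotientKerEquivOfSurjective hg)⟩

end Groth.Agent.Helper7.Cohen
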