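import Mathlib
import Groth.Prelude.Def_Found
import Groth.Agent.Helper7.CohenF

/-!
# Sub-rings of a big local domain with prescribed residue field (Zorn argument)
-/

set_option autoImplicit false
set_option linter.style.haveILetI false
set_option linter.unusedSectionVars false
universe u v w

namespace Groth.Agent.Helper7.Cohen

open IsLocalRing Polynomial

section Zorn

variable {V : Type u} [CommRing V] [IsDomain V] [IsLocalRing V] (p : ℕ)
  (κ₀ : Subfield (ResidueField V))

/-- `B ∩ 𝔪_V = p B` and the residues of `B` lie in `κ₀` -/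
structure Good (B : Subring V) : Prop where
  div : ∀ x ∈ B, x ∈ maximalIdeal V → ∃ y ∈ B, x = p * y
  res : ∀ x ∈ B, residue V x ∈ κ₀

/-- moreover `B` is closed under inverses -/
structure VeryGood (B : Subring V) : Prop extends Good p κ₀ B where
  inv : ∀ x ∈ B, ∀ y, x * y = 1 → y ∈ B

/-- fractions with numerator in `S` and denominator a unit (of `V`) in `S` -/
def loc (S : Subring V) : Subring V where
  carrier := {x | ∃ y ∈ S, ∃ u ∈ S, u ∉ maximalIdeal V ∧ x * u = y}
  mul_mem' := by
    rintro a b ⟨y, hy, u, hu, hum, h1⟩ ⟨y', hy', u', hu', hum', h2⟩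
    refine ⟨y * y', S.mul_mem hy hy', u * u', S.mul_mem hu hu', ?_, ?_⟩
    · intro h
      rcases (maximalIdeal.isMaximal V).isPrime.mem_or_mem h with h | h
      · exact hum h
      · exact hum' h
    · rw [← h1, ← h2]; ring
  one_mem' := ⟨1, S.one_mem, 1, S.one_mem, fun h => (maximalIdeal.isMaximal V).ne_top
    ((Ideal.eq_top_iff_one _).mpr h), by ring⟩
  add_mem' := by
    rintro a b ⟨y, hy, u, hu, hum, h1⟩ ⟨y', hy', u', hu', hum', h2⟩
    refine ⟨y * u' + y' * u, S.add_mem (S.mul_mem hy hu') (S.mul_mem hy' hu), u * u',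
      S.mul_mem hu hu', ?_, ?_⟩
    · intro h
      rcases (maximalIdeal.isMaximal V).isPrime.mem_or_mem h with h | h
      · exact hum h
      · exact hum' h
    · rw [← h1, ← h2]; ring
  zero_mem' := ⟨0, S.zero_mem, 1, S.one_mem, fun h => (maximalIdeal.isMaximal V).ne_top
    ((Ideal.eq_top_iff_one _).mpr h), by ring⟩
  neg_mem' := by
    rintro a ⟨y, hy, u, hu, hum, h1⟩
    exact ⟨-y, S.neg_mem hy, u, hu, hum, by rw [← h1]; ring⟩

theorem le_loc (S : Subring V) : S ≤ loc S := fun x hx =>
  ⟨x, hx, 1, S.one_mem, fun h => (maximalIdeal.isMaximal V).ne_top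
    ((Ideal.eq_top_iff_one _).mpr h), by ring⟩

variable {p κ₀}

theorem veryGood_loc {S : Subring V} (hS : Good p κ₀ S) : VeryGood p κ₀ (loc S) where
  div := by
    rintro x ⟨y, hy, u, hu, hum, h1⟩ hxm
    have hym : y ∈ maximalIdeal V := h1 ▸ Ideal.mul_mem_right _ _ hxm
    obtain ⟨y', hy', rfl⟩ := hS.div y hy hym
    have huu : IsUnit u := by
      by_contra h
      exact hum h
    obtain ⟨w, hw⟩ := huu.exists_right_inv
    refine ⟨y' * w, ⟨y', hy', u, hu, hum, by rw [mul_assoc, mul_comm w, hw, mul_one]⟩, ?_⟩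
    have : x * u = (p * (y' * w)) * u := by
      rw [h1]
      calc (p : V) * y' = p * y' * (u * w) := by rw [hw, mul_one]
        _ = _ := by ring
    exact mul_right_cancel₀ huu.ne_zero this
  res := by
    rintro x ⟨y, hy, u, hu, hum, h1⟩
    have h2 : residue V x * residue V u = residue V y := by rw [← map_mul, h1]
    have h3 : residue V u ≠ 0 := fun h => hum ((residue_eq_zero_iff u).mp h)
    have h4 : residue V x = residue V y * (residue V u)⁻¹ := by
      rw [← h2, mul_assoc, mul_inv_cancel₀ h3, mul_one]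
    rw [h4]
    exact κ₀.mul_mem (hS.res y hy) (κ₀.inv_mem (hS.res u hu))
  inv := by
    rintro x ⟨y, hy, u, hu, hum, h1⟩ z hxz
    refine ⟨u, hu, y, hy, ?_, ?_⟩
    · intro hym
      have : x * u ∈ maximalIdeal V := h1 ▸ hym
      have hxu : IsUnit (x * u) := by
        have huu : IsUnit u := by
          by_contra h
          exact hum h
        exact (IsUnit.of_mul_eq_one z hxz).mul huu
      exact this hxu
    · rw [← h1]
      calc z * (x * u) = (x * z) * u := by ring
        _ = u := by rw [hxz, one_mul]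

/-- reduction of coefficients -/
noncomputable abbrev red (B : Subring V) : B →+* ResidueField V := (residue V).comp B.subtype

/-- a polynomial over `B` with zero reduction is divisible by `p` -/
theorem exists_eq_C_mul {B : Subring V} (hB : Good p κ₀ B) (G : B[X]) (hG : G.map (red B) = 0) :
    ∃ G' : B[X], G = C (p : B) * G' := by
  have h1 : G ∈ (Ideal.span {(p : B)}).map (C : B →+* B[X]) := by
    rw [Ideal.mem_map_C_iff]
    intro n
    have h2 : red B (G.coeff n) = 0 := by
      rw [← coeff_map, hG, coeff_zero]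
    have h3 : (G.coeff n : V) ∈ maximalIdeal V := (residue_eq_zero_iff _).mp h2
    obtain ⟨y, hy, hxy⟩ := hB.div _ (G.coeff n).2 h3
    rw [Ideal.mem_span_singleton']
    refine ⟨⟨y, hy⟩, ?_⟩
    apply Subtype.ext
    rw [Subring.coe_mul, Subring.coe_natCast, hxy, mul_comm]
  rw [Ideal.map_span, Set.image_singleton, Ideal.mem_span_singleton'] at h1
  obtain ⟨G', hG'⟩ := h1
  exact ⟨G', by rw [← hG', mul_comm]⟩

/-- the subring `B[α]` -/
noncomputable abbrev adj (B : Subring V) (α : V) : Subring V := (eval₂RingHom B.subtype α).range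

theorem le_adj (B : Subring V) (α : V) : B ≤ adj B α := fun x hx =>
  ⟨C ⟨x, hx⟩, by simp⟩

theorem mem_adj (B : Subring V) (α : V) : α ∈ adj B α := ⟨X, by simp⟩

theorem residue_eval₂ (B : Subring V) (α : V) (G : B[X]) :
    residue V (eval₂ B.subtype α G) = eval (residue V α) (G.map (red B)) := by
  rw [hom_eval₂, eval_map]

/-- `B[α]` is good as soon as every element is the value of a polynomial whose reduction is zero
or does not vanish at the residue of `α` -/
theorem good_adj {B : Subring V} (hB : Good p κ₀ B) (α : V) (hα : residue V α ∈ κ₀)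
    (H : ∀ y ∈ adj B α, ∃ G : B[X], y = eval₂ B.subtype α G ∧
      (G.map (red B) ≠ 0 → eval (residue V α) (G.map (red B)) ≠ 0)) :
    Good p κ₀ (adj B α) where
  div := by
    intro y hy hym
    obtain ⟨G, rfl, hG⟩ := H y hy
    have h1 : eval (residue V α) (G.map (red B)) = 0 := by
      rw [← residue_eval₂, residue_eq_zero_iff]; exact hym
    have h2 : G.map (red B) = 0 := by
      by_contra h
      exact hG h h1
    obtain ⟨G', rfl⟩ := exists_eq_C_mul hB G h2
    refine ⟨eval₂ B.subtype α G', ⟨G', rfl⟩, ?_⟩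
    rw [eval₂_mul, eval₂_C]
    simp
  res := by
    rintro y ⟨G, rfl⟩
    change residue V (eval₂ B.subtype α G) ∈ κ₀
    let r' : B →+* κ₀ := (red B).codRestrict κ₀ (fun x => hB.res x x.2)
    have h1 : red B = κ₀.subtype.comp r' := rfl
    have h2 : residue V α = κ₀.subtype ⟨residue V α, hα⟩ := rfl
    rw [hom_eval₂, h2]
    change eval₂ (red B) _ G ∈ κ₀
    rw [h1, ← hom_eval₂]
    exact Subtype.property _

/-- the extension step -/
theorem exists_good_adj (AIC : ∀ F : V[X], F.Monic → F.Splits) {B : Subring V}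
    (hB : VeryGood p κ₀ B) (a : ResidueField V) (ha : a ∈ κ₀) :
    ∃ α : V, residue V α = a ∧ Good p κ₀ (adj B α) := by
  classical
  by_cases hT : ∀ H : B[X], H.map (red B) ≠ 0 → eval a (H.map (red B)) ≠ 0
  · -- transcendental case
    obtain ⟨α, rfl⟩ := residue_surjective a
    refine ⟨α, rfl, good_adj hB.toGood α ha ?_⟩
    rintro y ⟨G, rfl⟩
    exact ⟨G, rfl, hT G⟩
  · -- algebraic case
    push Not at hT
    have hex : ∃ d : ℕ, ∃ H : B[X], H.natDegree = d ∧ H.map (red B) ≠ 0 ∧
        eval a (H.map (red B)) = 0 := by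
      obtain ⟨H, h1, h2⟩ := hT
      exact ⟨_, H, rfl, h1, h2⟩
    obtain ⟨H, hHd, hH0, hHa⟩ := Nat.find_spec hex
    have hmin : ∀ H' : B[X], H'.natDegree < H.natDegree → H'.map (red B) ≠ 0 →
        eval a (H'.map (red B)) ≠ 0 := by
      intro H' hlt h0 h1
      exact Nat.find_min hex (hHd ▸ hlt) ⟨H', rfl, h0, h1⟩
    -- the leading coefficient is a unit
    have hlead : red B H.leadingCoeff ≠ 0 := by
      intro h0
      have h1 : H.eraseLead.map (red B) = H.map (red B) := by
        conv_rhs => rw [← eraseLead_add_C_mul_X_pow H]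
        rw [Polynomial.map_add, Polynomial.map_mul, map_C, h0, map_zero, zero_mul, add_zero]
      rcases eraseLead_natDegree_lt_or_eraseLead_eq_zero H with h2 | h2
      · exact hmin _ h2 (h1 ▸ hH0) (h1 ▸ hHa)
      · rw [h2, Polynomial.map_zero] at h1
        exact hH0 h1.symm
    have hunit : IsUnit (H.leadingCoeff : V) := by
      by_contra h
      exact hlead ((residue_eq_zero_iff _).mpr h)
    obtain ⟨w, hw⟩ := hunit.exists_right_inv
    have hwB : w ∈ B := hB.inv _ H.leadingCoeff.2 w hw
    have hcw : (⟨w, hwB⟩ : B) * H.leadingCoeff = 1 := by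
      apply Subtype.ext
      rw [Subring.coe_mul, Subring.coe_one, mul_comm]
      exact hw
    set F : B[X] := C (⟨w, hwB⟩ : B) * H with hF
    have hFmonic : F.Monic := monic_C_mul_of_mul_leadingCoeff_eq_one hcw
    have hw0 : (⟨w, hwB⟩ : B) ≠ 0 := by
      intro h
      rw [h, zero_mul] at hcw
      exact zero_ne_one hcw
    have hFdeg : F.natDegree = H.natDegree := natDegree_C_mul hw0
    have hFa : eval a (F.map (red B)) = 0 := by
      rw [hF, Polynomial.map_mul, eval_mul, hHa, mul_zero]
    have hF1 : F ≠ 1 := by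
      intro h
      rw [h, Polynomial.map_one, eval_one] at hFa
      exact one_ne_zero hFa
    -- a root of `F` lifting `a`
    have hFV : (F.map B.subtype).Monic := hFmonic.map _
    have hsplit := AIC _ hFV
    have hmapmap : (F.map B.subtype).map (residue V) = F.map (red B) := Polynomial.map_map _ _ _
    have hne : (F.map B.subtype).map (residue V) ≠ 0 := (hFV.map _).ne_zero
    have hroots := hsplit.roots_map_of_ne_zero hne
    have hamem : a ∈ ((F.map B.subtype).map (residue V)).roots := by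
      rw [mem_roots hne, IsRoot.def, hmapmap]
      exact hFa
    rw [hroots, Multiset.mem_map] at hamem
    obtain ⟨α, hαroot, hαa⟩ := hamem
    have hαF : eval₂ B.subtype α F = 0 := by
      rw [eval₂_eq_eval_map]
      exact (mem_roots hFV.ne_zero).mp hαroot
    refine ⟨α, hαa, good_adj hB.toGood α (hαa ▸ ha) ?_⟩
    rintro y ⟨G, rfl⟩
    refine ⟨G %ₘ F, ?_, ?_⟩
    · change eval₂ B.subtype α G = _
      conv_lhs => rw [← modByMonic_add_div G F]
      rw [eval₂_add, eval₂_mul, hαF, zero_mul, add_zero]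
    · rw [hαa]
      refine hmin _ ?_
      rw [← hFdeg]
      exact natDegree_modByMonic_lt G hFmonic hF1

theorem good_bot (hp : p.Prime) (hpV : (p : V) ∈ maximalIdeal V) :
    Good p κ₀ (⊥ : Subring V) where
  div := by
    intro x hx hxm
    obtain ⟨n, rfl⟩ := Subring.mem_bot.mp hx
    haveI : CharP (ResidueField V) p := by
      rw [CharP.charP_iff_prime_eq_zero hp, ← map_natCast (residue V), residue_eq_zero_iff]
      exact hpV
    have h1 : ((n : ℤ) : ResidueField V) = 0 := by
      rw [← map_intCast (residue V), residue_eq_zero_iff]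
      exact hxm
    obtain ⟨m, rfl⟩ := (CharP.intCast_eq_zero_iff (ResidueField V) p n).mp h1
    exact ⟨(m : V), Subring.mem_bot.mpr ⟨m, rfl⟩, by push_cast; ring⟩
  res := by
    intro x hx
    obtain ⟨n, rfl⟩ := Subring.mem_bot.mp hx
    rw [map_intCast]
    exact intCast_mem κ₀ n

theorem veryGood_sSup (c : Set (Subring V)) (hc : IsChain (· ≤ ·) c) (hne : c.Nonempty)
    (h : ∀ B ∈ c, VeryGood p κ₀ B) : VeryGood p κ₀ (sSup c) := by
  have hdir : DirectedOn (· ≤ ·) c := hc.directedOn
  refine ⟨⟨?_, ?_⟩, ?_⟩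
  · intro x hx hxm
    obtain ⟨B, hBc, hxB⟩ := (Subring.mem_sSup_of_directedOn hne hdir).mp hx
    obtain ⟨y, hy, rfl⟩ := (h B hBc).div x hxB hxm
    exact ⟨y, (Subring.mem_sSup_of_directedOn hne hdir).mpr ⟨B, hBc, hy⟩, rfl⟩
  · intro x hx
    obtain ⟨B, hBc, hxB⟩ := (Subring.mem_sSup_of_directedOn hne hdir).mp hx
    exact (h B hBc).res x hxB
  · intro x hx y hxy
    obtain ⟨B, hBc, hxB⟩ := (Subring.mem_sSup_of_directedOn hne hdir).mp hx
    exact (Subring.mem_sSup_of_directedOn hne hdir).mpr ⟨B, hBc, (h B hBc).inv x hxB y hxy⟩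

/-- **Zorn**: there is a very good subring whose residues are exactly `κ₀` -/
theorem exists_veryGood_surj (AIC : ∀ F : V[X], F.Monic → F.Splits) (hp : p.Prime)
    (hpV : (p : V) ∈ maximalIdeal V) :
    ∃ B : Subring V, VeryGood p κ₀ B ∧ ∀ a ∈ κ₀, ∃ x ∈ B, residue V x = a := by
  obtain ⟨B, -, hBmax⟩ := zorn_le_nonempty₀ {B : Subring V | VeryGood p κ₀ B}
    (fun c hcs hc y hy => ⟨sSup c, veryGood_sSup c hc ⟨y, hy⟩ (fun B hB => hcs hB),
      fun z hz => le_sSup hz⟩) (loc ⊥) (veryGood_loc (good_bot hp hpV))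
  refine ⟨B, hBmax.prop, fun a ha => ?_⟩
  obtain ⟨α, hαa, hgood⟩ := exists_good_adj AIC hBmax.prop a ha
  have h1 : VeryGood p κ₀ (loc (adj B α)) := veryGood_loc hgood
  have h2 : B ≤ loc (adj B α) := (le_adj B α).trans (le_loc _)
  have h3 : loc (adj B α) ≤ B := hBmax.le_of_ge h1 h2
  exact ⟨α, h3 (le_loc _ (mem_adj B α)), hαa⟩

variable (p) in
/-- **Existence of Cohen rings inside an ambient local domain** -/
theorem exists_cohen_of_ambient (AIC : ∀ F : V[X], F.Monic → F.Splits) (hp : p.Prime)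
    (hpV : (p : V) ∈ maximalIdeal V) (hp0 : (p : V) ≠ 0) (k : Type u) [Field k]
    (ι : k →+* ResidueField V) :
    ∃ (Λ : Type u) (_ : CommRing Λ) (_ : IsLocalRing Λ), CAlg.IsCohenRing Λ ∧
      Nonempty (ResidueField Λ ≃+* k) := by
  obtain ⟨B, hB, hsurj⟩ := exists_veryGood_surj (κ₀ := ι.fieldRange) AIC hp hpV
  let ρ₀ : B →+* ι.fieldRange := (red B).codRestrict ι.fieldRange (fun x => hB.res x x.2)
  let ρ : B →+* k := (ι.rangeRestrictFieldEquiv.symm : ι.fieldRange →+* k).comp ρ₀
  have hρ₀ : ∀ x : B, ((ρ₀ x : ι.fieldRange) : ResidueField V) = residue V (x : V) := fun x => rfl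
  have hρ : Function.Surjective ρ := by
    intro a
    obtain ⟨x, hxB, hx⟩ := hsurj (ι a) ⟨a, rfl⟩
    refine ⟨⟨x, hxB⟩, ?_⟩
    change ι.rangeRestrictFieldEquiv.symm (ρ₀ ⟨x, hxB⟩) = a
    rw [RingEquiv.symm_apply_eq]
    apply Subtype.ext
    rw [hρ₀]
    exact hx
  have hker : RingHom.ker ρ = Ideal.span {(p : B)} := by
    ext x
    rw [RingHom.mem_ker, Ideal.mem_span_singleton']
    change ι.rangeRestrictFieldEquiv.symm (ρ₀ x) = 0 ↔ _
    rw [map_eq_zero_iff _ ι.rangeRestrictFieldEquiv.symm.injective]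
    constructor
    · intro h
      have h1 : residue V (x : V) = 0 := by
        rw [← hρ₀, h]; rfl
      obtain ⟨y, hy, hxy⟩ := hB.div x x.2 ((residue_eq_zero_iff _).mp h1)
      refine ⟨⟨y, hy⟩, ?_⟩
      apply Subtype.ext
      rw [Subring.coe_mul, Subring.coe_natCast, hxy, mul_comm]
    · rintro ⟨y, rfl⟩
      apply Subtype.ext
      rw [hρ₀, Subring.coe_mul, Subring.coe_natCast, map_mul]
      have : residue V (p : V) = 0 := (residue_eq_zero_iff _).mpr hpV
      rw [this, mul_zero]
      rfl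
  have hreg : ∀ n : ℕ, (p : B) ^ n ∉ Ideal.span {(p : B) ^ (n + 1)} := by
    intro n hn
    rw [Ideal.mem_span_singleton'] at hn
    obtain ⟨y, hy⟩ := hn
    have h1 := congrArg (Subtype.val : B → V) hy
    simp only [Subring.coe_mul, Subring.coe_pow, Subring.coe_natCast] at h1
    have h2 : (p : V) ^ n * ((y : V) * p) = (p : V) ^ n * 1 := by
      linear_combination h1
    have h3 := mul_left_cancel₀ (pow_ne_zero n hp0) h2
    have h4 : IsUnit (p : V) := IsUnit.of_mul_eq_one _ (by rw [mul_comm]; exact h3)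
    exact hpV h4
  exact exists_cohen_of_lift B p hp k ρ hρ hker hreg

end Zorn

end Groth.Agent.Helper7.Cohen
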