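import Mathlib
import Groth.Prelude.Def_Found
import Groth.Agent.Helper7.CohenG

set_option autoImplicit false
set_option linter.style.haveILetI false
set_option linter.unusedSectionVars false
universe u v w

namespace Groth.Agent.Helper7.Cohen

open IsLocalRing Polynomial

/-- a valuation ring of an algebraically closed field is absolutely integrally closed -/
theorem splits_of_valuationSubring {L : Type u} [Field L] [IsAlgClosed L] (A : ValuationSubring L)
    (F : (A)[X]) (hF : F.Monic) : F.Splits := by
  have hinj : Function.Injective (algebraMap A L) := Subtype.val_injective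
  refine Splits.of_splits_map_of_injective (i := algebraMap A L) hinj
    (IsAlgClosed.splits _) ?_
  intro a ha
  have hne : F.map (algebraMap A L) ≠ 0 := (hF.map _).ne_zero
  have hroot : eval₂ (algebraMap A L) a F = 0 := by
    rw [eval₂_eq_eval_map]
    exact (mem_roots hne).mp ha
  have hint : IsIntegral A a := ⟨F, hF, hroot⟩
  exact IsIntegrallyClosed.isIntegral_iff.mp hint

/-- an ambient absolutely integrally closed local domain of mixed characteristic whose residue
field contains `k` -/
theorem exists_ambient (p : ℕ) (hp : p.Prime) (k : Type u) [Field k] [CharP k p] :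
    ∃ (V : Type u) (_ : CommRing V) (_ : IsDomain V) (_ : IsLocalRing V),
      (∀ F : V[X], F.Monic → F.Splits) ∧ (p : V) ∈ maximalIdeal V ∧ (p : V) ≠ 0 ∧
      Nonempty (k →+* ResidueField V) := by
  let A₀ := MvPolynomial k ℤ
  let φ₀ : A₀ →+* k := MvPolynomial.eval₂Hom (Int.castRingHom k) id
  have hφ₀ : Function.Surjective φ₀ := fun a => ⟨MvPolynomial.X a, MvPolynomial.eval₂Hom_X' _ _ a⟩
  let P : Ideal A₀ := RingHom.ker φ₀
  haveI : P.IsPrime := RingHom.ker_isPrime φ₀
  let L := AlgebraicClosure (FractionRing A₀)
  let j : A₀ →+* L := (algebraMap (FractionRing A₀) L).comp (algebraMap A₀ (FractionRing A₀))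
  have hj : Function.Injective j :=
    (algebraMap (FractionRing A₀) L).injective.comp (IsFractionRing.injective A₀ _)
  have hunit : ∀ y : P.primeCompl, IsUnit (j y) := by
    intro y
    apply IsUnit.mk0
    intro h
    have h0 : (y : A₀) = 0 := hj (by rw [h, map_zero])
    exact y.2 (h0 ▸ P.zero_mem)
  let f : Localization.AtPrime P →+* L := IsLocalization.lift (M := P.primeCompl) hunit
  obtain ⟨A, hA, hloc⟩ := IsLocalRing.exists_factor_valuationRing f
  let g : A₀ →+* A := (f.codRestrict A.toSubring hA).comp (algebraMap A₀ (Localization.AtPrime P))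
  have hgj : ∀ a : A₀, ((g a : A) : L) = j a := by
    intro a
    change f (algebraMap A₀ (Localization.AtPrime P) a) = j a
    exact IsLocalization.lift_eq hunit a
  have hgP : ∀ a ∈ P, g a ∈ maximalIdeal A := by
    intro a ha hu
    have h1 : IsUnit (algebraMap A₀ (Localization.AtPrime P) a) := hloc.map_nonunit _ hu
    have h2 : algebraMap A₀ (Localization.AtPrime P) a ∈ maximalIdeal (Localization.AtPrime P) :=
      (IsLocalization.AtPrime.to_map_mem_maximal_iff _ P a).mpr ha
    exact h2 h1
  refine ⟨A, inferInstance, inferInstance, inferInstance, splits_of_valuationSubring A, ?_, ?_, ?_⟩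
  · have hpP : (p : A₀) ∈ P := by
      rw [RingHom.mem_ker, map_natCast]
      exact CharP.cast_eq_zero k p
    have := hgP _ hpP
    rwa [map_natCast] at this
  · intro h
    have h1 : ((p : A) : L) = 0 := by rw [h]; rfl
    rw [← map_natCast g, hgj, map_natCast] at h1
    exact (Nat.cast_ne_zero (R := L)).mpr hp.ne_zero h1
  · let ι₀ : A₀ ⧸ P →+* ResidueField A := Ideal.Quotient.lift P ((residue A).comp g) (fun a ha => by
      rw [RingHom.comp_apply, residue_eq_zero_iff]
      exact hgP a ha)
    exact ⟨ι₀.comp (RingHom.quotientKerEquivOfSurjective hφ₀).symm.toRingHom⟩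

/-- **Existence of Cohen rings** (S0578) -/
theorem s0578 (p : ℕ) [Fact p.Prime] (k : Type u) [Field k] [CharP k p] :
    ∃ (Λ : Type u) (_ : CommRing Λ) (_ : IsLocalRing Λ), CAlg.IsCohenRing Λ ∧
      Nonempty (IsLocalRing.ResidueField Λ ≃+* k) := by
  have hp : p.Prime := Fact.out
  obtain ⟨V, _, _, _, AIC, hpV, hp0, ⟨ι⟩⟩ := exists_ambient p hp k
  exact exists_cohen_of_ambient p AIC hp hpV hp0 k ι

end Groth.Agent.Helper7.Cohen
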