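import Mathlib
import Groth.Prelude.Def_Found
import Groth.Agent.Helper7.CohenH
import Groth.Agent.Helper7.CohenE
import Groth.Agent.Helper7.PSEval

/-!
# Cohen structure theorem (S0580)
-/

set_option autoImplicit false
set_option linter.style.haveILetI false
set_option linter.unusedSectionVars false
universe u v w

namespace Groth.Agent.Helper7.Cohen

open IsLocalRing

/-- a coefficient ring for a complete local ring: a field or a Cohen ring `Λ` with a map `Λ → R`
inducing a surjection onto the residue field -/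
theorem exists_coeffRing (R : Type u) [CommRing R] [IsLocalRing R]
    [IsAdicComplete (maximalIdeal R) R] :
    ∃ (Λ : Type u) (_ : CommRing Λ) (v : Λ →+* R), (IsField Λ ∨ CAlg.IsCohenRing Λ) ∧
      Function.Surjective ((Ideal.Quotient.mk (maximalIdeal R)).comp v) := by
  have hcl : ∀ x : R, (∀ n, x ∈ maximalIdeal R ⊔ maximalIdeal R ^ n) → x ∈ maximalIdeal R := by
    intro x hx
    have := hx 1
    rwa [pow_one, sup_idem] at this
  obtain ⟨q, hq⟩ := CharP.exists (ResidueField R)
  rcases CharP.char_is_prime_or_zero (ResidueField R) q with hqp | hq0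
  · haveI : Fact q.Prime := ⟨hqp⟩
    obtain ⟨Λ, _, _, hΛ, ⟨e⟩⟩ := s0578 q (ResidueField R)
    obtain ⟨hdom, hdvr, hcompl, p, hp, hmax⟩ := hΛ
    have hc1 : CharP (ResidueField Λ) p := charP_residueField_of_cohen p hp hmax
    have hc2 : CharP (ResidueField Λ) q :=
      charP_of_injective_ringHom (f := (e.symm : ResidueField R →+* ResidueField Λ))
        e.symm.injective q
    obtain rfl : p = q := CharP.eq (ResidueField Λ) hc1 hc2
    have hpR : (p : R) ∈ maximalIdeal R := by
      rw [← residue_eq_zero_iff, map_natCast]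
      exact CharP.cast_eq_zero _ p
    let u : Λ →+* R ⧸ maximalIdeal R := (e : ResidueField Λ →+* ResidueField R).comp (residue Λ)
    have hL : ∀ n, LiftsTo Λ (R ⧸ maximalIdeal R ^ n) := by
      intro n
      refine liftsTo_of_cohen Λ p hp (ne_zero_of_cohen p hmax)
        (hmax ▸ maximalIdeal.isMaximal Λ) _ ⟨n, ?_⟩
      rw [← map_natCast (Ideal.Quotient.mk (maximalIdeal R ^ n)), ← map_pow]
      exact Ideal.Quotient.eq_zero_iff_mem.mpr (Ideal.pow_mem_pow hpR n)
    obtain ⟨v, hv⟩ := exists_lift_of_complete (maximalIdeal R) (maximalIdeal R) le_rfl hcl u hL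
    refine ⟨Λ, inferInstance, v, Or.inr ⟨hdom, hdvr, hcompl, p, hp, hmax⟩, ?_⟩
    rw [hv]
    exact e.surjective.comp residue_surjective
  · subst hq0
    haveI : CharZero (ResidueField R) := CharP.charP_to_charZero _
    haveI := formallySmooth_int (ResidueField R)
    obtain ⟨v, hv⟩ := exists_lift_of_complete (W := ResidueField R) (maximalIdeal R)
      (maximalIdeal R) le_rfl hcl
      (RingHom.id (ResidueField R))
      (fun n => liftsTo_of_formallySmooth_int (ResidueField R) _)
    refine ⟨ResidueField R, inferInstance, v, Or.inl (Field.toIsField _), ?_⟩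
    rw [hv]
    exact Function.surjective_id

theorem s0580 (R : Type u) [CommRing R]
    [IsLocalRing R] [IsAdicComplete (IsLocalRing.maximalIdeal R) R]
    (hfg : (IsLocalRing.maximalIdeal R).FG) :
    ∃ (Λ : Type u) (_ : CommRing Λ) (n : ℕ) (f : MvPowerSeries (Fin n) Λ →+* R),
      (IsField Λ ∨ CAlg.IsCohenRing Λ) ∧ Function.Surjective f := by
  obtain ⟨Λ, _, v, hΛ, hv⟩ := exists_coeffRing R
  obtain ⟨n, x, hx⟩ := Submodule.fg_iff_exists_fin_generating_family.mp hfg
  have hxm : ∀ i, x i ∈ maximalIdeal R := fun i => hx ▸ Ideal.subset_span ⟨i, rfl⟩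
  letI : Algebra Λ R := v.toAlgebra
  obtain ⟨ψ, hψ⟩ := PSEval.exists_algHom_X (k := Λ) (maximalIdeal R) x hxm
  refine ⟨Λ, inferInstance, n, ψ.toRingHom, hΛ, ?_⟩
  have hmap : (Ideal.span (Set.range (MvPowerSeries.X : Fin n → MvPowerSeries (Fin n) Λ))).map
      ψ.toRingHom = maximalIdeal R := by
    rw [Ideal.map_span, ← Set.range_comp, ← hx]
    congr 2
    ext i
    exact hψ i
  haveI : IsHausdorff ((Ideal.span (Set.range
      (MvPowerSeries.X : Fin n → MvPowerSeries (Fin n) Λ))).map ψ.toRingHom) R := by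
    rw [hmap]; infer_instance
  apply surjective_of_mk_map_comp_surjective
    (I := Ideal.span (Set.range (MvPowerSeries.X : Fin n → MvPowerSeries (Fin n) Λ))) ψ.toRingHom
  intro y
  obtain ⟨r, rfl⟩ := Ideal.Quotient.mk_surjective y
  obtain ⟨c, hc⟩ := hv (Ideal.Quotient.mk _ r)
  refine ⟨MvPowerSeries.C c, ?_⟩
  rw [RingHom.comp_apply, Ideal.Quotient.eq, hmap]
  have h1 : ψ.toRingHom (MvPowerSeries.C c) = v c := by
    have := ψ.commutes c
    exact this
  rw [h1, ← Ideal.Quotient.eq]
  exact hc

end Groth.Agent.Helper7.Cohen
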