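import Mathlib
import Groth.Prelude.Def_EGA41
import Groth.Agent.Helper7.CohenI

/-!
# Artinian local rings which are quotients of Cohen rings (S2459)
-/

set_option autoImplicit false
set_option linter.style.haveILetI false
set_option linter.unusedSectionVars false
universe u v w

namespace Groth.Agent.Helper7.Cohen

open IsLocalRing

/-- refined version of `exists_coeffRing` keeping track of the residue characteristic -/
theorem exists_coeffRing' (R : Type u) [CommRing R] [IsLocalRing R]
    [IsAdicComplete (maximalIdeal R) R] (q : ℕ) [hq : CharP (ResidueField R) q] :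
    ∃ (Λ : Type u) (_ : CommRing Λ) (v : Λ →+* R),
      ((IsField Λ ∧ CharZero Λ ∧ q = 0) ∨
        (∃ (_ : IsDomain Λ) (_ : IsDiscreteValuationRing Λ),
          IsAdicComplete (maximalIdeal Λ) Λ ∧ q.Prime ∧ maximalIdeal Λ = Ideal.span {(q : Λ)})) ∧
      Function.Surjective ((Ideal.Quotient.mk (maximalIdeal R)).comp v) := by
  have hcl : ∀ x : R, (∀ n, x ∈ maximalIdeal R ⊔ maximalIdeal R ^ n) → x ∈ maximalIdeal R := by
    intro x hx
    have := hx 1
    rwa [pow_one, sup_idem] at this
  rcases CharP.char_is_prime_or_zero (ResidueField R) q with hqp | hq0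
  · haveI : Fact q.Prime := ⟨hqp⟩
    obtain ⟨Λ, _, _, hΛ, ⟨e⟩⟩ := s0578 q (ResidueField R)
    obtain ⟨hdom, hdvr, hcompl, p, hp, hmax⟩ := hΛ
    have hc1 : CharP (ResidueField Λ) p := charP_residueField_of_cohen p hp hmax
    have hc2 : CharP (ResidueField Λ) q :=
      charP_of_injective_ringHom (f := (e.symm : ResidueField R →+* ResidueField Λ))
        e.symm.injective q
    obtain rfl : p = q := CharP.eq (ResidueField Λ) hc1 hc2
    have hpR : (p : R) ∈ maximalIdeal R := by
      rw [← residue_eq_zero_iff, map_natCast]
      exact CharP.cast_eq_zero _ p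
    let u : Λ →+* R ⧸ maximalIdeal R := (e : ResidueField Λ →+* ResidueField R).comp (residue Λ)
    have hL : ∀ n, LiftsTo Λ (R ⧸ maximalIdeal R ^ n) := by
      intro n
      refine liftsTo_of_cohen Λ p hp (ne_zero_of_cohen p hmax)
        (hmax ▸ maximalIdeal.isMaximal Λ) _ ⟨n, ?_⟩
      rw [← map_natCast (Ideal.Quotient.mk (maximalIdeal R ^ n)), ← map_pow]
      exact Ideal.Quotient.eq_zero_iff_mem.mpr (Ideal.pow_mem_pow hpR n)
    obtain ⟨v, hv⟩ := exists_lift_of_complete (maximalIdeal R) (maximalIdeal R) le_rfl hcl u hL
    refine ⟨Λ, inferInstance, v, Or.inr ⟨hdom, hdvr, hcompl, hp, hmax⟩, ?_⟩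
    rw [hv]
    exact e.surjective.comp residue_surjective
  · subst hq0
    haveI : CharZero (ResidueField R) := CharP.charP_to_charZero _
    haveI := formallySmooth_int (ResidueField R)
    obtain ⟨v, hv⟩ := exists_lift_of_complete (W := ResidueField R) (maximalIdeal R)
      (maximalIdeal R) le_rfl hcl
      (RingHom.id (ResidueField R))
      (fun n => liftsTo_of_formallySmooth_int (ResidueField R) _)
    refine ⟨ResidueField R, inferInstance, v, Or.inl ⟨Field.toIsField _, inferInstance, rfl⟩, ?_⟩
    rw [hv]
    exact Function.surjective_id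

open IsLocalRing in
theorem s2459 {A : Type u} [CommRing A] [IsLocalRing A] [IsArtinianRing A]
    (p : ℕ) [CharP (ResidueField A) p] :
    (∃ (W : Type u) (_ : CommRing W) (I : Ideal W), EGA41.IsCohenRingEGA W ∧
      Nonempty (A ≃+* W ⧸ I)) ↔ maximalIdeal A = Ideal.span {(p : A)} := by
  constructor
  · rintro ⟨W, _, I, hW, ⟨e⟩⟩
    rcases hW with ⟨hfield, hchar⟩ | ⟨hdom, hdvr, hcompl, q, hq, hmax⟩
    · letI : Field W := hfield.toField
      let φ : W →+* ResidueField A :=
        (residue A).comp ((e.symm : W ⧸ I →+* A).comp (Ideal.Quotient.mk I))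
      haveI : CharZero (ResidueField A) := charZero_of_injective_ringHom φ.injective
      have hp0 : p = 0 := CharP.eq (ResidueField A) inferInstance (CharP.ofCharZero _)
      subst hp0
      rw [Nat.cast_zero, Ideal.span_singleton_eq_bot.mpr rfl, eq_bot_iff]
      intro x hx
      obtain ⟨w, hw⟩ := Ideal.Quotient.mk_surjective (e x)
      by_cases hw0 : w = 0
      · rw [hw0, map_zero] at hw
        rw [Ideal.mem_bot]
        exact e.injective (by rw [← hw, map_zero])
      · exfalso
        have h1 : IsUnit (e x) := hw ▸ (IsUnit.mk0 w hw0).map (Ideal.Quotient.mk I)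
        have h2 : IsUnit x := by
          have := h1.map (e.symm : W ⧸ I →+* A)
          simpa using this
        exact hx h2
    · have hI : I ≤ maximalIdeal W := by
        apply le_maximalIdeal
        intro h
        have : Subsingleton (W ⧸ I) := Ideal.Quotient.subsingleton_iff.mpr h
        have : Subsingleton A := e.injective.subsingleton
        exact not_subsingleton A this
      have hunit : ∀ x : A, ∀ w : W, e x = Ideal.Quotient.mk I w → (IsUnit x ↔ IsUnit w) := by
        intro x w hxw
        constructor
        · intro hx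
          have h1 : IsUnit (Ideal.Quotient.mk I w) := hxw ▸ hx.map (e : A →+* W ⧸ I)
          by_contra hw
          have hwm : w ∈ maximalIdeal W := hw
          obtain ⟨y, hy⟩ := h1.exists_right_inv
          obtain ⟨z, rfl⟩ := Ideal.Quotient.mk_surjective y
          rw [← map_mul, ← map_one (Ideal.Quotient.mk I), Ideal.Quotient.eq] at hy
          have h2 : w * z - 1 ∈ maximalIdeal W := hI hy
          have h3 : (1 : W) ∈ maximalIdeal W := by
            have := (maximalIdeal W).sub_mem (Ideal.mul_mem_right z _ hwm) h2
            simpa using this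
          exact (maximalIdeal.isMaximal W).ne_top ((Ideal.eq_top_iff_one _).mpr h3)
        · intro hw
          have h1 : IsUnit (e x) := hxw ▸ hw.map (Ideal.Quotient.mk I)
          have := h1.map (e.symm : W ⧸ I →+* A)
          simpa using this
      have heq : (e (q : A)) = Ideal.Quotient.mk I (q : W) := by
        rw [map_natCast, map_natCast]
      have hqm : (q : W) ∈ maximalIdeal W := hmax ▸ Ideal.mem_span_singleton_self _
      have hqA : (q : A) ∈ maximalIdeal A := fun h => hqm ((hunit _ _ heq).mp h)
      have hc : CharP (ResidueField A) q := by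
        rw [CharP.charP_iff_prime_eq_zero hq, ← map_natCast (residue A), residue_eq_zero_iff]
        exact hqA
      have hc' : CharP (ResidueField A) p := by assumption
      obtain rfl : q = p := CharP.eq (ResidueField A) hc hc'
      apply le_antisymm
      · intro x hx
        obtain ⟨w, hw⟩ := Ideal.Quotient.mk_surjective (e x)
        have hwm : w ∈ maximalIdeal W := fun h => hx ((hunit x w hw.symm).mpr h)
        rw [hmax, Ideal.mem_span_singleton'] at hwm
        obtain ⟨w', rfl⟩ := hwm
        rw [Ideal.mem_span_singleton']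
        refine ⟨e.symm (Ideal.Quotient.mk I w'), ?_⟩
        apply e.injective
        rw [map_mul, RingEquiv.apply_symm_apply, heq, ← hw, map_mul]
      · rw [Ideal.span_le, Set.singleton_subset_iff]
        exact hqA
  · intro hm
    obtain ⟨Λ, _, v, hΛ, hv⟩ := exists_coeffRing' A p
    have hmap : (Ideal.span {(p : Λ)}).map v = maximalIdeal A := by
      rw [Ideal.map_span, Set.image_singleton, map_natCast, hm]
    haveI : IsHausdorff ((Ideal.span {(p : Λ)}).map v) A := by
      rw [hmap]; infer_instance
    have hsurj : Function.Surjective v := by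
      rcases hΛ with ⟨hfield, hchar, hp0⟩ | ⟨hdom, hdvr, hcompl, hp, hmax⟩
      · subst hp0
        have hbot : Ideal.span {((0 : ℕ) : Λ)} = ⊥ := by
          rw [Nat.cast_zero]; exact Ideal.span_singleton_eq_bot.mpr rfl
        rw [hbot] at hmap
        haveI : IsHausdorff ((⊥ : Ideal Λ).map v) A := by
          rw [hmap]; infer_instance
        apply surjective_of_mk_map_comp_surjective (I := (⊥ : Ideal Λ)) v
        rw [hmap]
        exact hv
      · haveI : IsPrecomplete (Ideal.span {(p : Λ)}) Λ := by
          rw [← hmax]; infer_instance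
        apply surjective_of_mk_map_comp_surjective (I := Ideal.span {(p : Λ)}) v
        rw [hmap]
        exact hv
    refine ⟨Λ, inferInstance, RingHom.ker v, ?_, ⟨(RingHom.quotientKerEquivOfSurjective hsurj).symm⟩⟩
    rcases hΛ with ⟨hfield, hchar, hp0⟩ | ⟨hdom, hdvr, hcompl, hp, hmax⟩
    · exact Or.inl ⟨hfield, hchar⟩
    · exact Or.inr ⟨hdom, hdvr, hcompl, p, hp, hmax⟩

end Groth.Agent.Helper7.Cohen
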