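import Mathlib
import Groth.Prelude.Def_Found
import Groth.Agent.S0544
import Groth.Agent.Helper5.MvPSIdeal
import Groth.Agent.Helper7.FinLenK
import Groth.Agent.Helper7.PSEval
import Groth.Agent.Helper7.NN3
import Groth.Agent.Helper7.CohenFin
import Groth.Agent.Helper7.CohenJ

set_option autoImplicit false
set_option linter.style.haveILetI false
set_option linter.unusedSectionVars false
universe u v w

namespace Groth.Agent.Helper7.Cohen

open IsLocalRing

/-- a separated algebra over a complete ring which is finite modulo the ideal is finite -/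
theorem finite_of_complete (Λ₀ A : Type u) [CommRing Λ₀] [CommRing A] [Algebra Λ₀ A]
    (I₀ : Ideal Λ₀) [IsAdicComplete I₀ Λ₀] [IsHausdorff (I₀.map (algebraMap Λ₀ A)) A]
    (h : Module.Finite Λ₀ (A ⧸ I₀.map (algebraMap Λ₀ A))) : Module.Finite Λ₀ A := by
  haveI : IsHausdorff I₀ A := (IsHausdorff.map_algebraMap_iff (S := A)).mp inferInstance
  apply Groth.Agent.S0544.result Λ₀ I₀ A
  have heq : (I₀ • ⊤ : Submodule Λ₀ A) = (I₀.map (algebraMap Λ₀ A)).restrictScalars Λ₀ := by
    rw [Ideal.smul_top_eq_map]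
  rw [heq]
  exact Module.Finite.equiv (Submodule.Quotient.restrictScalarsEquiv Λ₀ _).symm

section PS

variable {Λ : Type u} [CommRing Λ] [IsLocalRing Λ] (π : Λ) (hπ : maximalIdeal Λ = Ideal.span {π})

open MvPowerSeries in
include hπ in
theorem maximalIdeal_mvPowerSeries (d : ℕ) :
    maximalIdeal (MvPowerSeries (Fin d) Λ) =
      Ideal.span (insert (C π) (Set.range (X : Fin d → MvPowerSeries (Fin d) Λ))) := by
  apply le_antisymm
  · intro f hf
    rw [IsLocalRing.mem_maximalIdeal, mem_nonunits_iff, MvPowerSeries.isUnit_iff_constantCoeff] at hf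
    have h1 : constantCoeff f ∈ maximalIdeal Λ := hf
    rw [hπ, Ideal.mem_span_singleton'] at h1
    obtain ⟨c, hc⟩ := h1
    have h2 : f - C (constantCoeff f) ∈ Ideal.span (Set.range (X : Fin d → MvPowerSeries (Fin d) Λ)) := by
      apply Groth.Agent.Helper5.MvPSIdeal.mem_span_X
      simp
    have h3 : f = C c * C π + (f - C (constantCoeff f)) := by
      rw [← map_mul, hc]; ring
    rw [h3]
    refine Ideal.add_mem _ (Ideal.mul_mem_left _ _ (Ideal.subset_span (Set.mem_insert _ _))) ?_
    exact Ideal.span_mono (Set.subset_insert _ _) h2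
  · rw [Ideal.span_le]
    rintro f (rfl | ⟨i, rfl⟩)
    · rw [SetLike.mem_coe, IsLocalRing.mem_maximalIdeal, mem_nonunits_iff,
        MvPowerSeries.isUnit_iff_constantCoeff, constantCoeff_C]
      have : π ∈ maximalIdeal Λ := hπ ▸ Ideal.mem_span_singleton_self _
      exact this
    · rw [SetLike.mem_coe, IsLocalRing.mem_maximalIdeal, mem_nonunits_iff,
        MvPowerSeries.isUnit_iff_constantCoeff, MvPowerSeries.constantCoeff_X]
      exact not_isUnit_zero

include hπ in
theorem ringKrullDim_mvPowerSeries_le [IsNoetherianRing Λ] (d : ℕ) :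
    ringKrullDim (MvPowerSeries (Fin d) Λ) ≤ ((d + 1 : ℕ) : WithBot ℕ∞) := by
  classical
  refine le_trans (ringKrullDim_le_spanFinrank_maximalIdeal _) ?_
  rw [maximalIdeal_mvPowerSeries π hπ d]
  have hfin : (insert (MvPowerSeries.C π)
      (Set.range (MvPowerSeries.X : Fin d → MvPowerSeries (Fin d) Λ))).Finite :=
    (Set.finite_range _).insert _
  have h1 := Submodule.spanFinrank_span_le_ncard_of_finite (R := MvPowerSeries (Fin d) Λ) hfin
  have h2 : (insert (MvPowerSeries.C π)
      (Set.range (MvPowerSeries.X : Fin d → MvPowerSeries (Fin d) Λ))).ncard ≤ d + 1 := by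
    refine le_trans (Set.ncard_insert_le _ _) ?_
    have : (Set.range (MvPowerSeries.X : Fin d → MvPowerSeries (Fin d) Λ)).ncard ≤ d := by
      rw [← Set.image_univ]
      refine le_trans (Set.ncard_image_le Set.finite_univ) ?_
      simp
    omega
  exact_mod_cast h1.trans h2

end PS

/-- finiteness over the range of the structure map gives finiteness over the base -/
theorem finite_of_finite_range {Λ R : Type*} [CommRing Λ] [CommRing R] [Algebra Λ R] {M : Type*}
    [AddCommGroup M] [Module R M] [Module Λ M] [IsScalarTower Λ R M]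
    (h : Module.Finite (algebraMap Λ R).range M) : Module.Finite Λ M := by
  let σ : Λ →+* (algebraMap Λ R).range := (algebraMap Λ R).rangeRestrict
  haveI : RingHomSurjective σ := ⟨(algebraMap Λ R).rangeRestrict_surjective⟩
  let f : M →ₛₗ[σ] M :=
    { toFun := id
      map_add' := fun _ _ => rfl
      map_smul' := fun c x => by
        show c • x = (σ c) • x
        rw [← algebraMap_smul R c x]
        rfl }
  exact (LinearMap.finite_iff_of_bijective f Function.bijective_id).mpr h

/-- finiteness of `R / J` over a complete discrete valuation ring `Λ` when `𝔪` is minimal over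
`J + (π)` -/
theorem finite_quotient_of_minimal (R : Type u) [CommRing R] [IsLocalRing R] [IsNoetherianRing R]
    (Λ : Type u) [CommRing Λ] [IsLocalRing Λ] [IsAdicComplete (maximalIdeal Λ) Λ] [Algebra Λ R]
    (π : Λ) (hmax : maximalIdeal Λ = Ideal.span {π})
    (hv : Function.Surjective ((residue R).comp (algebraMap Λ R))) (J : Ideal R)
    (hmin : maximalIdeal R ∈ (J ⊔ Ideal.span {algebraMap Λ R π}).minimalPrimes) :
    Module.Finite Λ (R ⧸ J) := by
  set Q : Ideal R := Ideal.span {algebraMap Λ R π} with hQ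
  have hJm : J ≤ maximalIdeal R := le_sup_left.trans hmin.1.2
  have hQm : Q ≤ maximalIdeal R := le_sup_right.trans hmin.1.2
  haveI : Nontrivial (R ⧸ J) := Ideal.Quotient.nontrivial_iff.mpr (fun h =>
    (maximalIdeal.isMaximal R).ne_top (top_le_iff.mp (h ▸ hJm)))
  haveI : IsLocalRing (R ⧸ J) :=
    IsLocalRing.of_surjective' (Ideal.Quotient.mk J) Ideal.Quotient.mk_surjective
  have hmapq : (maximalIdeal Λ).map (algebraMap Λ (R ⧸ J)) =
      Ideal.span {algebraMap Λ (R ⧸ J) π} := by
    rw [hmax, Ideal.map_span, Set.image_singleton]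
  have hne : Ideal.span {algebraMap Λ (R ⧸ J) π} ≠ ⊤ := by
    intro h
    rw [Ideal.span_singleton_eq_top] at h
    have h1 : algebraMap Λ (R ⧸ J) π = Ideal.Quotient.mk J (algebraMap Λ R π) := rfl
    rw [h1] at h
    have h2 : algebraMap Λ R π ∈ maximalIdeal R := hQm (Ideal.mem_span_singleton_self _)
    -- a unit modulo J ≤ 𝔪 is a unit
    obtain ⟨y, hy⟩ := h.exists_right_inv
    obtain ⟨z, rfl⟩ := Ideal.Quotient.mk_surjective y
    rw [← map_mul, ← map_one (Ideal.Quotient.mk J), Ideal.Quotient.eq] at hy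
    have h3 : (1 : R) ∈ maximalIdeal R := by
      have := (maximalIdeal R).sub_mem (Ideal.mul_mem_right z _ h2) (hJm hy)
      simpa using this
    exact (maximalIdeal.isMaximal R).ne_top ((Ideal.eq_top_iff_one _).mpr h3)
  haveI : IsHausdorff ((maximalIdeal Λ).map (algebraMap Λ (R ⧸ J))) (R ⧸ J) := by
    rw [hmapq]
    exact IsHausdorff.of_isLocalRing _ _ hne
  apply finite_of_complete Λ (R ⧸ J) (maximalIdeal Λ)
  rw [hmapq]
  -- finiteness of `R / (J + Q)` over `Λ`
  have hfl := Groth.Agent.Helper7.FinLenK.isFiniteLength_quotient (J ⊔ Q) hmin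
  have hκ : Module.Finite (algebraMap Λ R).range (R ⧸ maximalIdeal R) := by
    refine ⟨⟨{1}, ?_⟩⟩
    rw [eq_top_iff]
    rintro y -
    obtain ⟨c, hc⟩ := hv y
    rw [Finset.coe_singleton, Submodule.mem_span_singleton]
    refine ⟨⟨algebraMap Λ R c, c, rfl⟩, ?_⟩
    rw [← hc]
    change (algebraMap Λ R c) • (1 : R ⧸ maximalIdeal R) = _
    rw [Algebra.smul_def, mul_one]
    rfl
  have hfin' : Module.Finite (algebraMap Λ R).range (R ⧸ (J ⊔ Q)) :=
    Groth.Agent.Helper7.FinLenK.finite_of_isFiniteLength _ hκ hfl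
  haveI hfinΛ : Module.Finite Λ (R ⧸ (J ⊔ Q)) := finite_of_finite_range hfin'
  let φ₀ : R →ₐ[Λ] (R ⧸ J) ⧸ Ideal.span {algebraMap Λ (R ⧸ J) π} :=
    (Ideal.Quotient.mkₐ Λ _).comp (Ideal.Quotient.mkₐ Λ J)
  have hφ₀ : ∀ a ∈ J ⊔ Q, φ₀ a = 0 := by
    intro a ha
    obtain ⟨j, hj, t, ht, rfl⟩ := Submodule.mem_sup.mp ha
    rw [map_add]
    have h1 : φ₀ j = 0 := by
      change Ideal.Quotient.mk _ (Ideal.Quotient.mk J j) = 0
      rw [Ideal.Quotient.eq_zero_iff_mem.mpr hj, map_zero]
    have h2 : φ₀ t = 0 := by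
      obtain ⟨c, rfl⟩ := Ideal.mem_span_singleton'.mp ht
      change Ideal.Quotient.mk _ (Ideal.Quotient.mk J (c * algebraMap Λ R π)) = 0
      rw [Ideal.Quotient.eq_zero_iff_mem, map_mul]
      exact Ideal.mul_mem_left _ _ (Ideal.mem_span_singleton_self _)
    rw [h1, h2, add_zero]
  let φ : R ⧸ (J ⊔ Q) →ₐ[Λ] (R ⧸ J) ⧸ Ideal.span {algebraMap Λ (R ⧸ J) π} :=
    Ideal.Quotient.liftₐ (J ⊔ Q) φ₀ hφ₀
  refine Module.Finite.of_surjective φ.toLinearMap ?_
  intro y
  obtain ⟨y', rfl⟩ := Ideal.Quotient.mk_surjective y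
  obtain ⟨a, rfl⟩ := Ideal.Quotient.mk_surjective y'
  exact ⟨Ideal.Quotient.mk _ a, rfl⟩

/-- `A` is finite over a power series ring over `Λ` if it is finite over `Λ` modulo the images
of the variables -/
theorem finite_powerSeries_of_quotient_finite {Λ A : Type u} [CommRing Λ] [CommRing A]
    [IsLocalRing A] [IsNoetherianRing A] [Algebra Λ A] {n : ℕ}
    (w : MvPowerSeries (Fin n) Λ →ₐ[Λ] A)
    (hJle : Ideal.span (Set.range fun i => w (MvPowerSeries.X i)) ≤ maximalIdeal A)
    (hfin : Module.Finite Λ (A ⧸ Ideal.span (Set.range fun i => w (MvPowerSeries.X i)))) :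
    w.toRingHom.Finite := by
  set J : Ideal A := Ideal.span (Set.range fun i => w (MvPowerSeries.X i)) with hJ
  let P := MvPowerSeries (Fin n) Λ
  let IP : Ideal P := Ideal.span (Set.range (MvPowerSeries.X : Fin n → P))
  letI : Algebra P A := w.toRingHom.toAlgebra
  haveI : IsScalarTower Λ P A := IsScalarTower.of_algebraMap_eq fun c => (w.commutes c).symm
  have hmap : IP.map (algebraMap P A) = J := by
    rw [Ideal.map_span, ← Set.range_comp]
    rfl
  have hJne : J ≠ ⊤ := fun h => (maximalIdeal.isMaximal A).ne_top (top_le_iff.mp (h ▸ hJle))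
  haveI : IsHausdorff (IP.map (algebraMap P A)) A := by
    rw [hmap]
    exact IsHausdorff.of_isLocalRing _ _ hJne
  change Module.Finite P A
  apply finite_of_complete P A IP
  rw [hmap]
  exact Module.Finite.of_restrictScalars_finite Λ P (A ⧸ J)

/-- the mixed characteristic case of the Cohen structure theorem for domains -/
theorem exists_finite_injective_mixed (R : Type u) [CommRing R] [IsDomain R] [IsLocalRing R]
    [IsNoetherianRing R] [IsAdicComplete (maximalIdeal R) R]
    (Λ : Type u) [CommRing Λ] [IsDomain Λ] [IsDiscreteValuationRing Λ]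
    [IsAdicComplete (maximalIdeal Λ) Λ] (q : ℕ) (hmax : maximalIdeal Λ = Ideal.span {(q : Λ)})
    (v : Λ →+* R) (hqR : (q : R) ≠ 0) (hqm : (q : R) ∈ maximalIdeal R)
    (hv : Function.Surjective ((residue R).comp v)) :
    ∃ (n : ℕ) (f : MvPowerSeries (Fin n) Λ →+* R), Function.Injective f ∧ f.Finite ∧
      Function.Surjective ((residue R).comp f) := by
  classical
  letI : Algebra Λ R := v.toAlgebra
  have halg : ∀ c : Λ, algebraMap Λ R c = v c := fun c => rfl
  set Q : Ideal R := Ideal.span {(q : R)} with hQ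
  have hQm : Q ≤ maximalIdeal R := (Ideal.span_singleton_le_iff_mem _).mpr hqm
  haveI : Nontrivial (R ⧸ Q) := Ideal.Quotient.nontrivial_iff.mpr (fun h =>
    (maximalIdeal.isMaximal R).ne_top (top_le_iff.mp (h ▸ hQm)))
  haveI : IsLocalRing (R ⧸ Q) :=
    IsLocalRing.of_surjective' (Ideal.Quotient.mk Q) Ideal.Quotient.mk_surjective
  obtain ⟨s, hs, hcard⟩ :=
    Ideal.exists_finset_card_eq_height_of_isNoetherianRing (maximalIdeal (R ⧸ Q))
  let xbar : Fin s.card → R ⧸ Q := fun i => (s.equivFin.symm i : R ⧸ Q)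
  have hrange : Set.range xbar = (s : Set (R ⧸ Q)) := by
    ext a
    constructor
    · rintro ⟨i, rfl⟩
      exact (s.equivFin.symm i).2
    · intro ha
      exact ⟨s.equivFin ⟨a, ha⟩, by simp [xbar]⟩
  choose x hx using fun i => Ideal.Quotient.mk_surjective (xbar i)
  set J : Ideal R := Ideal.span (Set.range x) with hJ
  have hJmap : J.map (Ideal.Quotient.mk Q) = Ideal.span (s : Set (R ⧸ Q)) := by
    rw [hJ, Ideal.map_span, ← Set.range_comp, ← hrange]
    congr 2
    ext i
    exact hx i
  have hcomap : (Ideal.span (s : Set (R ⧸ Q))).comap (Ideal.Quotient.mk Q) = J ⊔ Q := by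
    rw [← hJmap, Ideal.comap_map_of_surjective' _ Ideal.Quotient.mk_surjective, Ideal.mk_ker]
  have hcomapm : (maximalIdeal (R ⧸ Q)).comap (Ideal.Quotient.mk Q) = maximalIdeal R :=
    IsLocalRing.eq_maximalIdeal
      (Ideal.comap_isMaximal_of_surjective _ Ideal.Quotient.mk_surjective)
  have hmin : maximalIdeal R ∈ (J ⊔ Q).minimalPrimes := by
    rw [← hcomap, ← hcomapm]
    exact Ideal.minimalPrimes_comap_of_surjective Ideal.Quotient.mk_surjective hs
  have hJm : J ≤ maximalIdeal R := le_sup_left.trans hmin.1.2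
  have hxm : ∀ i, x i ∈ maximalIdeal R := fun i => hJm (Ideal.subset_span ⟨i, rfl⟩)
  -- finiteness
  have hQeq : Q = Ideal.span {algebraMap Λ R (q : Λ)} := by rw [halg, map_natCast]
  have hfinJ : Module.Finite Λ (R ⧸ J) :=
    finite_quotient_of_minimal R Λ (q : Λ) hmax hv J (hQeq ▸ hmin)
  obtain ⟨w, hw⟩ := PSEval.exists_algHom_X (k := Λ) (maximalIdeal R) x hxm
  have hwx : (fun i => w (MvPowerSeries.X i)) = x := funext hw
  have hfin : w.toRingHom.Finite :=
    finite_powerSeries_of_quotient_finite w (by rw [hwx]; exact hJm) (by rw [hwx]; exact hfinJ)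
  refine ⟨s.card, w.toRingHom, ?_, hfin, ?_⟩
  · -- injectivity by dimension
    have hqnz : (q : R) ∈ nonZeroDivisors R := mem_nonZeroDivisors_of_ne_zero hqR
    have hdimQ : ringKrullDim (R ⧸ Q) + 1 ≤ ringKrullDim R :=
      ringKrullDim_succ_le_of_surjective (Ideal.Quotient.mk Q) Ideal.Quotient.mk_surjective hqnz
        (Ideal.Quotient.eq_zero_iff_mem.mpr (Ideal.mem_span_singleton_self _))
    have hdimQ' : ringKrullDim (R ⧸ Q) = (s.card : ℕ) := by
      rw [← IsLocalRing.maximalIdeal_height_eq_ringKrullDim, ← hcard]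
      rfl
    rw [injective_iff_map_eq_zero]
    intro g hg
    by_contra hne
    have hg0 : g ∈ nonZeroDivisors (MvPowerSeries (Fin s.card) Λ) :=
      mem_nonZeroDivisors_of_ne_zero hne
    let K := RingHom.ker w.toRingHom
    have hgK : g ∈ K := hg
    have h1 := ringKrullDim_succ_le_of_surjective (Ideal.Quotient.mk K)
      Ideal.Quotient.mk_surjective hg0 (Ideal.Quotient.eq_zero_iff_mem.mpr hgK)
    letI : Algebra (MvPowerSeries (Fin s.card) Λ ⧸ K) R := (RingHom.kerLift w.toRingHom).toAlgebra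
    have hint : (RingHom.kerLift w.toRingHom).IsIntegral := by
      apply RingHom.IsIntegral.tower_top (Ideal.Quotient.mk K) (RingHom.kerLift w.toRingHom)
      have : (RingHom.kerLift w.toRingHom).comp (Ideal.Quotient.mk K) = w.toRingHom := by
        ext a; rfl
      rw [this]
      exact hfin.to_isIntegral
    haveI : Algebra.IsIntegral (MvPowerSeries (Fin s.card) Λ ⧸ K) R := ⟨hint⟩
    have h2 : ringKrullDim R ≤ ringKrullDim (MvPowerSeries (Fin s.card) Λ ⧸ K) :=
      Groth.Agent.Helper7.NN.ringKrullDim_le_of_isIntegral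
    have h3 := ringKrullDim_mvPowerSeries_le (q : Λ) hmax s.card
    have h4 : ringKrullDim R + 1 ≤ ((s.card + 1 : ℕ) : WithBot ℕ∞) := by
      calc ringKrullDim R + 1 ≤ ringKrullDim (MvPowerSeries (Fin s.card) Λ ⧸ K) + 1 := by
            gcongr
        _ ≤ ringKrullDim (MvPowerSeries (Fin s.card) Λ) := h1
        _ ≤ _ := h3
    have h5 : ((s.card : ℕ) : WithBot ℕ∞) + 1 + 1 ≤ ((s.card + 1 : ℕ) : WithBot ℕ∞) := by
      calc ((s.card : ℕ) : WithBot ℕ∞) + 1 + 1 ≤ ringKrullDim R + 1 := by
            rw [← hdimQ']; gcongr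
        _ ≤ _ := h4
    have h6 : ((s.card + 1 + 1 : ℕ) : WithBot ℕ∞) ≤ ((s.card + 1 : ℕ) : WithBot ℕ∞) := by
      push_cast; push_cast at h5; exact h5
    have h7 : s.card + 1 + 1 ≤ s.card + 1 := by exact_mod_cast h6
    omega
  · intro y
    obtain ⟨c, hc⟩ := hv y
    refine ⟨MvPowerSeries.C c, ?_⟩
    rw [← hc, RingHom.comp_apply, RingHom.comp_apply]
    congr 1
    exact w.commutes c


/-- the case of a coefficient field -/
theorem exists_finite_injective_field (R : Type u) [CommRing R] [IsDomain R] [IsLocalRing R]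
    [IsNoetherianRing R] [IsAdicComplete (maximalIdeal R) R] (k₀ : Type u) [Field k₀]
    (v : k₀ →+* R) (hv : Function.Surjective ((residue R).comp v)) :
    ∃ (n : ℕ) (f : MvPowerSeries (Fin n) k₀ →+* R), Function.Injective f ∧ f.Finite ∧
      Function.Surjective ((residue R).comp f) := by
  letI : Algebra k₀ R := v.toAlgebra
  haveI : Module.Finite k₀ (ResidueField R) :=
    Module.Finite.of_surjective (Algebra.linearMap k₀ (ResidueField R)) hv
  obtain ⟨n, w, hinj, -, hfin⟩ := Groth.Agent.Helper7.CohenFin.s2460 (k₀ := k₀) (A := R)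
  refine ⟨n, w.toRingHom, hinj, hfin, ?_⟩
  intro y
  obtain ⟨c, hc⟩ := hv y
  refine ⟨MvPowerSeries.C c, ?_⟩
  rw [← hc, RingHom.comp_apply, RingHom.comp_apply]
  congr 1
  exact w.commutes c

/-- S0581 -/
theorem s0581 (R : Type u) [CommRing R]
    [IsDomain R] [IsLocalRing R] [IsNoetherianRing R]
    [IsAdicComplete (IsLocalRing.maximalIdeal R) R] :
    ∃ (Λ : Type u) (_ : CommRing Λ) (n : ℕ) (f : MvPowerSeries (Fin n) Λ →+* R),
      (IsField Λ ∨ CAlg.IsCohenRing Λ) ∧ Function.Injective f ∧ f.Finite ∧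
      Function.Surjective ((IsLocalRing.residue R).comp f) := by
  obtain ⟨q, hq⟩ := CharP.exists (ResidueField R)
  obtain ⟨Λ, _, v, hΛ, hv⟩ := exists_coeffRing' R q
  rcases hΛ with ⟨hfield, -, -⟩ | ⟨hdom, hdvr, hcompl, hqp, hmax⟩
  · letI : Field Λ := hfield.toField
    obtain ⟨n, f, h1, h2, h3⟩ := exists_finite_injective_field R Λ v hv
    exact ⟨Λ, inferInstance, n, f, Or.inl hfield, h1, h2, h3⟩
  · have hqm : (q : R) ∈ maximalIdeal R := by
      rw [← residue_eq_zero_iff, map_natCast]
      exact CharP.cast_eq_zero _ q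
    by_cases hqR : (q : R) = 0
    · -- equal characteristic `q`: the residue field of `Λ` is a coefficient field
      have hker : ∀ a ∈ maximalIdeal Λ, v a = 0 := by
        intro a ha
        rw [hmax, Ideal.mem_span_singleton'] at ha
        obtain ⟨c, rfl⟩ := ha
        rw [map_mul, map_natCast, hqR, mul_zero]
      let v' : ResidueField Λ →+* R := Ideal.Quotient.lift (maximalIdeal Λ) v hker
      have hv' : Function.Surjective ((residue R).comp v') := by
        intro y
        obtain ⟨c, hc⟩ := hv y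
        exact ⟨residue Λ c, hc⟩
      obtain ⟨n, f, h1, h2, h3⟩ := exists_finite_injective_field R (ResidueField Λ) v' hv'
      exact ⟨ResidueField Λ, inferInstance, n, f, Or.inl (Field.toIsField _), h1, h2, h3⟩
    · obtain ⟨n, f, h1, h2, h3⟩ := exists_finite_injective_mixed R Λ q hmax v hqR hqm hv
      exact ⟨Λ, inferInstance, n, f, Or.inr ⟨hdom, hdvr, hcompl, q, hqp, hmax⟩, h1, h2, h3⟩

end Groth.Agent.Helper7.Cohen
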