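import Mathlib
import Groth.Agent.Helper7.CohenM

set_option autoImplicit false
set_option linter.style.haveILetI false
set_option linter.unusedSectionVars false
universe u v w

namespace Groth.Agent.Helper7.Cohen

open MvPowerSeries IsLocalRing

/-- precompleteness of a ring in terms of ideal membership -/
theorem isPrecomplete_iff_ring {S : Type*} [CommRing S] (I : Ideal S) :
    IsPrecomplete I S ↔ ∀ f : ℕ → S, (∀ m n, m ≤ n → f m - f n ∈ I ^ m) →
      ∃ L, ∀ n, f n - L ∈ I ^ n := by
  rw [isPrecomplete_iff]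
  simp only [SModEq.sub_mem, smul_eq_mul, Ideal.mul_top]

/-- a ring precomplete for two ideals is precomplete for their sum -/
theorem isPrecomplete_sup {S : Type*} [CommRing S] (I J : Ideal S) [hI : IsPrecomplete I S]
    [hJ : IsPrecomplete J S] : IsPrecomplete (I ⊔ J) S := by
  classical
  rw [isPrecomplete_iff_ring] at hI hJ ⊢
  intro f hf
  have hd : ∀ n, f (2 * (n + 1)) - f (2 * n) ∈ I ^ n ⊔ J ^ n := by
    intro n
    have h1 : f (2 * n) - f (2 * (n + 1)) ∈ (I ⊔ J) ^ (2 * n) := hf _ _ (by omega)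
    have h2 : (I ⊔ J) ^ (2 * n) ≤ I ^ n ⊔ J ^ n := by
      rw [two_mul]; exact Ideal.sup_pow_add_le_pow_sup_pow
    have := h2 h1
    rw [← neg_sub]
    exact neg_mem this
  have hd' : ∀ n, ∃ a ∈ I ^ n, ∃ b ∈ J ^ n, a + b = f (2 * (n + 1)) - f (2 * n) :=
    fun n => Submodule.mem_sup.mp (hd n)
  choose a ha b hb hab using hd'
  have hcauchy : ∀ (K : Ideal S) (c : ℕ → S), (∀ n, c n ∈ K ^ n) → ∀ m n, m ≤ n →
      (∑ j ∈ Finset.range m, c j) - ∑ j ∈ Finset.range n, c j ∈ K ^ m := by
    intro K c hc m n hmn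
    rw [← neg_sub, ← Finset.sum_Ico_eq_sub _ hmn]
    refine neg_mem (Ideal.sum_mem _ fun j hj => ?_)
    exact Ideal.pow_le_pow_right (Finset.mem_Ico.mp hj).1 (hc j)
  obtain ⟨LA, hLA⟩ := hI _ (hcauchy I a ha)
  obtain ⟨LB, hLB⟩ := hJ _ (hcauchy J b hb)
  have htel : ∀ n, f (2 * n) = f 0 + (∑ j ∈ Finset.range n, a j) + ∑ j ∈ Finset.range n, b j := by
    intro n
    induction n with
    | zero => simp
    | succ n ih =>
      rw [Finset.sum_range_succ, Finset.sum_range_succ]
      have := hab n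
      have h3 : f (2 * (n + 1)) = f (2 * n) + (a n + b n) := by rw [this]; ring
      rw [h3, ih]
      ring
  refine ⟨f 0 + LA + LB, fun n => ?_⟩
  have h1 : f n - f (2 * n) ∈ (I ⊔ J) ^ n := hf _ _ (by omega)
  have h2 : f (2 * n) - (f 0 + LA + LB) ∈ (I ⊔ J) ^ n := by
    rw [htel n]
    have h3 : f 0 + (∑ j ∈ Finset.range n, a j) + (∑ j ∈ Finset.range n, b j) - (f 0 + LA + LB) =
        ((∑ j ∈ Finset.range n, a j) - LA) + ((∑ j ∈ Finset.range n, b j) - LB) := by ring
    rw [h3]
    exact add_mem (Ideal.pow_right_mono le_sup_left n (hLA n))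
      (Ideal.pow_right_mono le_sup_right n (hLB n))
  have h4 : f n - (f 0 + LA + LB) = (f n - f (2 * n)) + (f (2 * n) - (f 0 + LA + LB)) := by ring
  rw [h4]
  exact add_mem h1 h2

/-- membership in a power of the ideal generated by a constant, coefficientwise -/
theorem mem_span_C_pow_iff {Λ : Type*} [CommRing Λ] {σ : Type*} (π : Λ) (n : ℕ)
    (g : MvPowerSeries σ Λ) :
    g ∈ Ideal.span {(C π : MvPowerSeries σ Λ)} ^ n ↔ ∀ e, coeff e g ∈ Ideal.span {π} ^ n := by
  rw [Ideal.span_singleton_pow, Ideal.span_singleton_pow, ← map_pow]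
  constructor
  · intro hg e
    obtain ⟨h, rfl⟩ := Ideal.mem_span_singleton'.mp hg
    rw [mul_comm, coeff_C_mul]
    exact Ideal.mul_mem_right _ _ (Ideal.mem_span_singleton_self _)
  · intro hg
    have : ∀ e, ∃ c, c * π ^ n = coeff e g := fun e => Ideal.mem_span_singleton'.mp (hg e)
    choose h hh using this
    rw [Ideal.mem_span_singleton']
    refine ⟨fun e => h e, ?_⟩
    ext e
    rw [mul_comm, coeff_C_mul, mul_comm]
    exact hh e

/-- power series over a ring precomplete for `(π)` are precomplete for `(π)` -/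
theorem isPrecomplete_span_C {Λ : Type*} [CommRing Λ] {σ : Type*} (π : Λ)
    [hΛ : IsPrecomplete (Ideal.span {π}) Λ] :
    IsPrecomplete (Ideal.span {(C π : MvPowerSeries σ Λ)}) (MvPowerSeries σ Λ) := by
  rw [isPrecomplete_iff_ring] at hΛ ⊢
  intro f hf
  have hc : ∀ e, ∃ c, ∀ n, coeff e (f n) - c ∈ Ideal.span {π} ^ n := by
    intro e
    apply hΛ
    intro m n hmn
    have := (mem_span_C_pow_iff π m _).mp (hf m n hmn) e
    rwa [map_sub] at this
  choose c hc using hc
  refine ⟨fun e => c e, fun n => ?_⟩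
  rw [mem_span_C_pow_iff]
  intro e
  rw [map_sub]
  exact hc e n

section PS

variable {Λ : Type u} [CommRing Λ] [IsLocalRing Λ] [IsNoetherianRing Λ] (π : Λ)
  (hπ : maximalIdeal Λ = Ideal.span {π})

include hπ in
/-- power series over a complete local ring with principal maximal ideal are complete -/
theorem isAdicComplete_mvPowerSeries [IsAdicComplete (maximalIdeal Λ) Λ] (d : ℕ) :
    IsAdicComplete (maximalIdeal (MvPowerSeries (Fin d) Λ)) (MvPowerSeries (Fin d) Λ) := by
  haveI : IsPrecomplete (Ideal.span {π}) Λ := by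
    rw [← hπ]; infer_instance
  haveI := isPrecomplete_span_C (σ := Fin d) π
  have hm : maximalIdeal (MvPowerSeries (Fin d) Λ) =
      Ideal.span (Set.range (X : Fin d → MvPowerSeries (Fin d) Λ)) ⊔
        Ideal.span {(C π : MvPowerSeries (Fin d) Λ)} := by
    rw [maximalIdeal_mvPowerSeries π hπ d, Ideal.span_insert, sup_comm]
  haveI : IsPrecomplete (maximalIdeal (MvPowerSeries (Fin d) Λ)) (MvPowerSeries (Fin d) Λ) := by
    rw [hm]
    exact isPrecomplete_sup _ _
  exact { }

end PS

end Groth.Agent.Helper7.Cohen
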