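import Mathlib

set_option autoImplicit false
set_option linter.style.haveILetI false
set_option linter.unusedSectionVars false
universe u v w

namespace Groth.Agent.Helper7.Cohen

open MvPowerSeries Finsupp

/-- A power series in finitely many variables without constant term is a combination of the
variables, with explicit coefficients (adapted from `Helper5.MvPSIdeal.exists_decomp`). -/
theorem exists_decomp' {R : Type*} [CommRing R] {d : ℕ} (q : MvPowerSeries (Fin d) R)
    (hq : constantCoeff q = 0) :
    ∃ g : Fin d → MvPowerSeries (Fin d) R, q = ∑ i, X i * g i ∧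
      ∀ i e, coeff e (g i) = if (∀ j < i, e j = 0) then coeff (e + single i 1) q else 0 := by
  classical
  obtain ⟨G, hG⟩ : ∃ G : Fin d → MvPowerSeries (Fin d) R, ∀ i e, coeff e (G i) =
      if (∀ j < i, e j = 0) then coeff (e + single i 1) q else 0 :=
    ⟨fun i => fun e => if (∀ j < i, e j = 0) then coeff (e + single i 1) q else 0, fun i e => rfl⟩
  refine ⟨G, ?_, hG⟩
  ext e
  rw [map_sum]
  have hterm : ∀ i : Fin d, coeff e (X i * G i)
      = if (1 ≤ e i ∧ ∀ j < i, e j = 0) then coeff e q else 0 := by
    intro i
    rw [X_def, coeff_monomial_mul, one_mul]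
    have hle : single i 1 ≤ e ↔ 1 ≤ e i := Finsupp.single_le_iff
    by_cases h1 : 1 ≤ e i
    · rw [if_pos (hle.mpr h1), hG, tsub_add_cancel_of_le (hle.mpr h1)]
      have hcond : (∀ j < i, (e - single i 1 : Fin d →₀ ℕ) j = 0) ↔ ∀ j < i, e j = 0 := by
        constructor
        · intro h j hj
          have := h j hj
          rw [Finsupp.tsub_apply, Finsupp.single_eq_of_ne (ne_of_lt hj), tsub_zero] at this
          exact this
        · intro h j hj
          rw [Finsupp.tsub_apply, Finsupp.single_eq_of_ne (ne_of_lt hj), tsub_zero]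
          exact h j hj
      simp only [hcond, h1, true_and]
    · rw [if_neg (fun h => h1 (hle.mp h)), if_neg (fun h => h1 h.1)]
  rw [Finset.sum_congr rfl (fun i _ => hterm i)]
  by_cases he : e = 0
  · subst he
    simp only [Finsupp.coe_zero, Pi.zero_apply, nonpos_iff_eq_zero, one_ne_zero, false_and, if_false,
      Finset.sum_const_zero]
    exact hq
  · have hsupp : e.support.Nonempty := Finsupp.support_nonempty_iff.mpr he
    obtain ⟨i₀, hi₀⟩ : ∃ i₀, i₀ = e.support.min' hsupp := ⟨_, rfl⟩
    have hi₀mem : i₀ ∈ e.support := hi₀ ▸ Finset.min'_mem _ _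
    have hi₀min : ∀ j < i₀, e j = 0 := by
      intro j hj
      by_contra hne
      have : j ∈ e.support := Finsupp.mem_support_iff.mpr hne
      have := Finset.min'_le _ _ this
      rw [← hi₀] at this
      exact absurd hj (not_lt.mpr this)
    rw [Finset.sum_eq_single i₀]
    · rw [if_pos ⟨Nat.one_le_iff_ne_zero.mpr (Finsupp.mem_support_iff.mp hi₀mem), hi₀min⟩]
    · intro i _ hne
      rw [if_neg]
      rintro ⟨h1, h2⟩
      rcases lt_or_gt_of_ne hne with h | h
      · have := hi₀min i h; omega
      · have := h2 i₀ h
        exact (Finsupp.mem_support_iff.mp hi₀mem) this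
    · intro h; exact absurd (Finset.mem_univ _) h

/-- a power series all of whose coefficients of degree `< N` vanish lies in `(X)^N` -/
theorem mem_span_X_pow {R : Type*} [CommRing R] {d : ℕ} (N : ℕ) :
    ∀ q : MvPowerSeries (Fin d) R, (∀ e, e.degree < N → coeff e q = 0) →
      q ∈ Ideal.span (Set.range (X : Fin d → MvPowerSeries (Fin d) R)) ^ N := by
  induction N with
  | zero =>
    intro q _
    rw [pow_zero, Ideal.one_eq_top]
    trivial
  | succ N ih =>
    intro q hq
    have hq0 : constantCoeff q = 0 := by
      rw [← coeff_zero_eq_constantCoeff_apply]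
      exact hq 0 (by simp)
    obtain ⟨g, hg, hgc⟩ := exists_decomp' q hq0
    rw [hg, pow_succ']
    refine Ideal.sum_mem _ fun i _ => ?_
    refine Ideal.mul_mem_mul (Ideal.subset_span ⟨i, rfl⟩) (ih _ ?_)
    intro e he
    rw [hgc]
    split_ifs
    · apply hq
      rw [map_add, Finsupp.degree_single]
      omega
    · rfl

/-- a ring is adically complete with respect to any nilpotent ideal -/
theorem isAdicComplete_of_isNilpotent {A : Type*} [CommRing A] (I : Ideal A) (hI : IsNilpotent I) :
    IsAdicComplete I A := by
  obtain ⟨N, hN⟩ := hI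
  have hbot : ∀ m, N ≤ m → (I ^ m • ⊤ : Submodule A A) = ⊥ := by
    intro m hm
    have : I ^ m ≤ I ^ N := Ideal.pow_le_pow_right hm
    rw [hN, Ideal.zero_eq_bot, le_bot_iff] at this
    rw [this, Submodule.bot_smul]
  refine { toIsHausdorff := ⟨fun x hx => ?_⟩, toIsPrecomplete := ⟨fun f hf => ?_⟩ }
  · have := hx N
    rw [hbot N le_rfl, SModEq.bot] at this
    exact this
  · refine ⟨f N, fun m => ?_⟩
    by_cases h : m ≤ N
    · exact hf h
    · have := hf (show N ≤ m by omega)
      rw [hbot N le_rfl, SModEq.bot] at this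
      rw [this]

end Groth.Agent.Helper7.Cohen
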