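import Mathlib
import Groth.Agent.Helper2.PSReg
import Groth.Agent.Helper5.MvPSDim
import Groth.Agent.Helper7.CohenM
import Groth.Agent.Helper7.CohenP1

set_option autoImplicit false
set_option linter.style.haveILetI false
set_option linter.unusedSectionVars false
universe u v w

namespace Groth.Agent.Helper7.Cohen

open MvPowerSeries IsLocalRing

/-- lower bound for the dimension of a power series ring -/
theorem le_ringKrullDim_mvPowerSeries (Λ : Type u) [CommRing Λ] (d : ℕ) :
    ringKrullDim Λ + (d : WithBot ℕ∞) ≤ ringKrullDim (MvPowerSeries (Fin d) Λ) := by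
  induction d with
  | zero =>
    rw [ringKrullDim_eq_of_ringEquiv (MvPowerSeries.isEmptyEquiv (σ := Fin 0) (R := Λ)).toRingEquiv]
    simp
  | succ d ih =>
    rw [ringKrullDim_eq_of_ringEquiv (MvPowerSeries.finSuccEquiv Λ d).toRingEquiv]
    refine le_trans ?_ ringKrullDim_succ_le_ringKrullDim_powerseries
    push_cast
    rw [← add_assoc]
    gcongr

/-- dimension of a power series ring over a discrete valuation ring -/
theorem ringKrullDim_mvPowerSeries_dvr (Λ : Type u) [CommRing Λ] [IsDomain Λ]
    [IsDiscreteValuationRing Λ] (d : ℕ) :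
    ringKrullDim (MvPowerSeries (Fin d) Λ) = ((d + 1 : ℕ) : WithBot ℕ∞) := by
  obtain ⟨ϖ, hϖ⟩ := IsDiscreteValuationRing.exists_irreducible Λ
  have hmax : maximalIdeal Λ = Ideal.span {ϖ} :=
    (IsDiscreteValuationRing.irreducible_iff_uniformizer ϖ).mp hϖ
  apply le_antisymm (ringKrullDim_mvPowerSeries_le ϖ hmax d)
  refine le_trans ?_ (le_ringKrullDim_mvPowerSeries Λ d)
  rw [IsPrincipalIdealRing.ringKrullDim_eq_one Λ (IsDiscreteValuationRing.not_isField Λ)]
  push_cast
  rw [add_comm]

/-- dimension of a power series ring over a field -/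
theorem ringKrullDim_mvPowerSeries_field (k : Type u) [Field k] (d : ℕ) :
    ringKrullDim (MvPowerSeries (Fin d) k) = ((d + 0 : ℕ) : WithBot ℕ∞) :=
  le_antisymm (Groth.Agent.Helper5.MvPSDim.ringKrullDim_le k d)
    (Groth.Agent.Helper5.MvPSDim.le_ringKrullDim k d)

/-- power series rings over regular local rings are regular local rings -/
theorem isRegularLocalRing_mvPowerSeries (Λ : Type u) [CommRing Λ] [IsLocalRing Λ]
    [IsRegularRing Λ] (d : ℕ) : IsRegularLocalRing (MvPowerSeries (Fin d) Λ) := by
  haveI : IsRegularRing (MvPowerSeries (Fin d) Λ) :=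
    Groth.Agent.Helper2.PSReg.isRegularRing_mvPowerSeries Λ d
  exact IsRegularLocalRing.of_isRegularRing_of_isLocalRing _

/-- ring homomorphisms out of a power series ring into an adically separated ring are determined
by their values on constants and variables -/
theorem ringHom_ext_mvPowerSeries {Λ : Type*} [CommRing Λ] {d : ℕ} {B : Type*} [CommRing B]
    (mB : Ideal B) (hB : ⨅ n, mB ^ n = ⊥)
    (f g : MvPowerSeries (Fin d) Λ →+* B) (hC : ∀ c, f (C c) = g (C c))
    (hX : ∀ i, f (X i) = g (X i)) (hf : ∀ i, f (X i) ∈ mB) : f = g := by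
  have hpoly : f.comp (MvPolynomial.coeToMvPowerSeries.ringHom (σ := Fin d) (R := Λ)) =
      g.comp (MvPolynomial.coeToMvPowerSeries.ringHom (σ := Fin d) (R := Λ)) := by
    apply MvPolynomial.ringHom_ext
    · intro c
      simp only [RingHom.comp_apply, MvPolynomial.coeToMvPowerSeries.ringHom_apply,
        MvPolynomial.coe_C]
      exact hC c
    · intro i
      simp only [RingHom.comp_apply, MvPolynomial.coeToMvPowerSeries.ringHom_apply,
        MvPolynomial.coe_X]
      exact hX i
  have hpow : ∀ (φ : MvPowerSeries (Fin d) Λ →+* B), (∀ i, φ (X i) ∈ mB) → ∀ N,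
      ∀ r ∈ Ideal.span (Set.range (X : Fin d → MvPowerSeries (Fin d) Λ)) ^ N, φ r ∈ mB ^ N := by
    intro φ hφ N r hr
    have h1 : (Ideal.span (Set.range (X : Fin d → MvPowerSeries (Fin d) Λ)) ^ N).map φ ≤ mB ^ N := by
      rw [Ideal.map_pow]
      apply Ideal.pow_right_mono
      rw [Ideal.map_span, Ideal.span_le]
      rintro _ ⟨_, ⟨i, rfl⟩, rfl⟩
      exact hφ i
    exact h1 (Ideal.mem_map_of_mem _ hr)
  ext h
  rw [← sub_eq_zero, ← Ideal.mem_bot, ← hB, Ideal.mem_iInf]
  intro N
  have hr : h - ↑(truncTotal N h) ∈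
      Ideal.span (Set.range (X : Fin d → MvPowerSeries (Fin d) Λ)) ^ N := by
    apply mem_span_X_pow
    intro e he
    rw [map_sub, MvPolynomial.coeff_coe, coeff_truncTotal _ he, sub_self]
  have h3 := RingHom.congr_fun hpoly (truncTotal N h)
  simp only [RingHom.comp_apply, MvPolynomial.coeToMvPowerSeries.ringHom_apply] at h3
  have h4 : f h - g h = f (h - ↑(truncTotal N h)) - g (h - ↑(truncTotal N h)) := by
    rw [map_sub, map_sub, h3]; ring
  rw [h4]
  exact sub_mem (hpow f hf N _ hr) (hpow g (fun i => hX i ▸ hf i) N _ hr)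

end Groth.Agent.Helper7.Cohen
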