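import Mathlib
import Groth.Prelude.Def_Found
import Groth.Prelude.Def_EGA41
import Groth.Agent.S0564
import Groth.Agent.Helper2.Miracle
import Groth.Agent.Helper2.RegCM
import Groth.Agent.Helper7.CohenD
import Groth.Agent.Helper7.CohenJ
import Groth.Agent.Helper7.CohenT1
import Groth.Agent.Helper7.CohenT2
import Groth.Agent.Helper7.PSEval

set_option autoImplicit false
set_option linter.style.haveILetI false
set_option linter.unusedSectionVars false
universe u v w

namespace Groth.Agent.Helper7.Cohen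

open MvPowerSeries IsLocalRing

/-- a coefficient ring map extends to a surjection from a power series ring, with prescribed
images of the variables -/
theorem exists_surj_ps_of {R : Type u} [CommRing R] [IsLocalRing R] [IsNoetherianRing R]
    [IsAdicComplete (maximalIdeal R) R] {Λ : Type u} [CommRing Λ] (v : Λ →+* R)
    (hv : Function.Surjective ((Ideal.Quotient.mk (maximalIdeal R)).comp v))
    {n : ℕ} (x : Fin n → R) (hx : Ideal.span (Set.range x) = maximalIdeal R) :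
    ∃ (ψ : MvPowerSeries (Fin n) Λ →+* R), Function.Surjective ψ ∧
      (∀ c, ψ (C c) = v c) ∧ ∀ i, ψ (X i) = x i := by
  have hxm : ∀ i, x i ∈ maximalIdeal R := fun i => hx ▸ Ideal.subset_span ⟨i, rfl⟩
  letI : Algebra Λ R := v.toAlgebra
  obtain ⟨ψ, hψ⟩ := PSEval.exists_algHom_X (k := Λ) (maximalIdeal R) x hxm
  have h1 : ∀ c, ψ.toRingHom (MvPowerSeries.C c) = v c := fun c => ψ.commutes c
  refine ⟨ψ.toRingHom, ?_, h1, fun i => hψ i⟩
  have hmap : (Ideal.span (Set.range (MvPowerSeries.X : Fin n → MvPowerSeries (Fin n) Λ))).map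
      ψ.toRingHom = maximalIdeal R := by
    rw [Ideal.map_span, ← Set.range_comp, ← hx]
    congr 2
    ext i
    exact hψ i
  haveI : IsHausdorff ((Ideal.span (Set.range
      (MvPowerSeries.X : Fin n → MvPowerSeries (Fin n) Λ))).map ψ.toRingHom) R := by
    rw [hmap]; infer_instance
  apply surjective_of_mk_map_comp_surjective
    (I := Ideal.span (Set.range (MvPowerSeries.X : Fin n → MvPowerSeries (Fin n) Λ))) ψ.toRingHom
  intro y
  obtain ⟨r, rfl⟩ := Ideal.Quotient.mk_surjective y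
  obtain ⟨c, hc⟩ := hv (Ideal.Quotient.mk _ r)
  refine ⟨MvPowerSeries.C c, ?_⟩
  rw [RingHom.comp_apply, Ideal.Quotient.eq, hmap, h1, ← Ideal.Quotient.eq]
  exact hc

/-- a coefficient ring map extends to a surjection from a power series ring -/
theorem exists_surj_ps {R : Type u} [CommRing R] [IsLocalRing R] [IsNoetherianRing R]
    [IsAdicComplete (maximalIdeal R) R] {Λ : Type u} [CommRing Λ] (v : Λ →+* R)
    (hv : Function.Surjective ((Ideal.Quotient.mk (maximalIdeal R)).comp v)) :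
    ∃ (n : ℕ) (ψ : MvPowerSeries (Fin n) Λ →+* R), Function.Surjective ψ ∧
      (∀ c, ψ (C c) = v c) ∧ ∀ i, ψ (X i) ∈ maximalIdeal R := by
  have hfg : (maximalIdeal R).FG := (maximalIdeal R).fg_of_isNoetherianRing
  obtain ⟨n, x, hx⟩ := Submodule.fg_iff_exists_fin_generating_family.mp hfg
  have hxm : ∀ i, x i ∈ maximalIdeal R := fun i => hx ▸ Ideal.subset_span ⟨i, rfl⟩
  obtain ⟨ψ, h1, h2, h3⟩ := exists_surj_ps_of v hv x hx
  exact ⟨n, ψ, h1, h2, fun i => by rw [h3]; exact hxm i⟩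

/-- elements of the maximal ideal of a power series ring -/
theorem mem_maximalIdeal_mvPowerSeries_iff {Λ : Type*} [CommRing Λ] [IsLocalRing Λ] {σ : Type*}
    (f : MvPowerSeries σ Λ) :
    f ∈ maximalIdeal (MvPowerSeries σ Λ) ↔ constantCoeff f ∈ maximalIdeal Λ := by
  rw [mem_maximalIdeal, mem_nonunits_iff, MvPowerSeries.isUnit_iff_constantCoeff, mem_maximalIdeal,
    mem_nonunits_iff]

section main

variable {A B : Type u} [CommRing A] [CommRing B]
    [IsLocalRing A] [IsLocalRing B] [IsNoetherianRing A] [IsNoetherianRing B]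
    [IsAdicComplete (maximalIdeal A) A] [IsAdicComplete (maximalIdeal B) B]
    [Algebra A B] [IsLocalHom (algebraMap A B)]
    {Λ Λ' : Type u} [CommRing Λ] [CommRing Λ'] [IsLocalRing Λ] [IsLocalRing Λ']
    [IsRegularRing Λ] [IsRegularRing Λ']
    [IsAdicComplete (maximalIdeal Λ) Λ] [IsAdicComplete (maximalIdeal Λ') Λ']

/-- the lifting step: compatible maps of power series rings, for a given surjection onto the
target -/
theorem exists_compatible_of (q : ℕ) (hΛ : EGA41.IsCohenRingEGA Λ)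
    (hmax' : maximalIdeal Λ' = Ideal.span {(q : Λ')})
    (v : Λ →+* A) (hv : Function.Surjective ((Ideal.Quotient.mk (maximalIdeal A)).comp v))
    [hvloc : IsLocalHom v]
    {m : ℕ} (σ₀ : MvPowerSeries (Fin m) Λ' →+* B) (hσ₀s : Function.Surjective σ₀) :
    ∃ (n : ℕ) (ρ : MvPowerSeries (Fin n) Λ →+* A) (σ : MvPowerSeries (Fin (m + n)) Λ' →+* B)
      (τ : MvPowerSeries (Fin n) Λ →+* MvPowerSeries (Fin (m + n)) Λ')
      (s : Fin n → MvPowerSeries (Fin m) Λ'),
      Function.Surjective ρ ∧ Function.Surjective σ ∧ σ.comp τ = (algebraMap A B).comp ρ ∧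
      (∀ i, s i ∈ maximalIdeal (MvPowerSeries (Fin m) Λ')) ∧
      (∀ i, τ (X i) = rename (Fin.castAddEmb n) (s i) + X (Fin.natAdd m i)) := by
  classical
  obtain ⟨n, ρ, hρs, hρC, hρX⟩ := exists_surj_ps v hv
  haveI hS₀c : IsAdicComplete (maximalIdeal (MvPowerSeries (Fin m) Λ'))
      (MvPowerSeries (Fin m) Λ') := isAdicComplete_mvPowerSeries (q : Λ') hmax' m
  haveI hSc : IsAdicComplete (maximalIdeal (MvPowerSeries (Fin (m + n)) Λ'))
      (MvPowerSeries (Fin (m + n)) Λ') := isAdicComplete_mvPowerSeries (q : Λ') hmax' (m + n)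
  -- lift the coefficient ring
  have hJtop : RingHom.ker σ₀ ≠ ⊤ := RingHom.ker_ne_top σ₀
  let e : (MvPowerSeries (Fin m) Λ' ⧸ RingHom.ker σ₀) ≃+* B :=
    RingHom.quotientKerEquivOfSurjective hσ₀s
  haveI : IsLocalRing (MvPowerSeries (Fin m) Λ' ⧸ RingHom.ker σ₀) := e.symm.isLocalRing
  let u : Λ →+* MvPowerSeries (Fin m) Λ' ⧸ RingHom.ker σ₀ :=
    (e.symm : B →+* _).comp ((algebraMap A B).comp v)
  haveI : IsLocalHom u := by
    refine ⟨fun x hx => ?_⟩
    have h1 : IsUnit (e (u x)) := hx.map e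
    have h2 : e (u x) = algebraMap A B (v x) := e.apply_symm_apply _
    rw [h2] at h1
    exact isUnit_of_map_unit v x (isUnit_of_map_unit (algebraMap A B) _ h1)
  obtain ⟨φ₀, -, hφ₀⟩ := s2456 hΛ (RingHom.ker σ₀) hJtop u
  have hφ₀' : ∀ c, σ₀ (φ₀ c) = algebraMap A B (v c) := by
    intro c
    have h1 := RingHom.congr_fun hφ₀ c
    have h2 : e (Ideal.Quotient.mk _ (φ₀ c)) = σ₀ (φ₀ c) :=
      RingHom.quotientKerEquivOfSurjective_apply_mk hσ₀s (φ₀ c)
    rw [← h2]
    rw [RingHom.comp_apply] at h1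
    rw [h1]
    exact e.apply_symm_apply _
  -- lifts of the images of the variables
  have hs : ∀ i, ∃ s, σ₀ s = algebraMap A B (ρ (X i)) := fun i => hσ₀s _
  choose s hs using hs
  have hαm : ∀ a ∈ maximalIdeal A, algebraMap A B a ∈ maximalIdeal B := by
    intro a ha
    rw [mem_maximalIdeal, mem_nonunits_iff] at ha ⊢
    exact fun h => ha (isUnit_of_map_unit (algebraMap A B) a h)
  have hsm : ∀ i, s i ∈ maximalIdeal (MvPowerSeries (Fin m) Λ') := by
    intro i
    rw [mem_maximalIdeal, mem_nonunits_iff]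
    intro hu
    have h1 : IsUnit (σ₀ (s i)) := hu.map σ₀
    rw [hs] at h1
    exact (mem_maximalIdeal _).mp (hαm _ (hρX i)) h1
  -- the bigger power series ring
  have hκι : ∀ x : MvPowerSeries (Fin m) Λ',
      killCompl (Fin.castAddEmb n) (rename (Fin.castAddEmb n) x) = x :=
    fun x => killCompl_rename_app x
  have hκy : ∀ i : Fin n, killCompl (R := Λ') (Fin.castAddEmb n) (X (Fin.natAdd m i)) = 0 := by
    intro i
    apply killCompl_X_eq_zero
    rintro ⟨j, hj⟩
    have := congrArg Fin.val hj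
    simp only [Fin.castAddEmb_apply, Fin.val_castAdd, Fin.val_natAdd] at this
    omega
  have hιm : ∀ x ∈ maximalIdeal (MvPowerSeries (Fin m) Λ'),
      rename (Fin.castAddEmb n) x ∈ maximalIdeal (MvPowerSeries (Fin (m + n)) Λ') := by
    intro x hx
    rw [mem_maximalIdeal_mvPowerSeries_iff] at hx ⊢
    rwa [constantCoeff_rename]
  have hbm : ∀ i, rename (Fin.castAddEmb n) (s i) + X (Fin.natAdd m i) ∈
      maximalIdeal (MvPowerSeries (Fin (m + n)) Λ') := by
    intro i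
    refine add_mem (hιm _ (hsm i)) ?_
    rw [mem_maximalIdeal_mvPowerSeries_iff, constantCoeff_X]
    exact zero_mem _
  letI algΛS : Algebra Λ (MvPowerSeries (Fin (m + n)) Λ') :=
    (((rename (Fin.castAddEmb n) : MvPowerSeries (Fin m) Λ' →ₐ[Λ'] _) : _ →+* _).comp φ₀).toAlgebra
  obtain ⟨τ, hτ⟩ := PSEval.exists_algHom_X (k := Λ)
    (maximalIdeal (MvPowerSeries (Fin (m + n)) Λ'))
    (fun i => rename (Fin.castAddEmb n) (s i) + X (Fin.natAdd m i)) hbm
  have hτC : ∀ c, τ (C c) = rename (Fin.castAddEmb n) (φ₀ c) := fun c => τ.commutes c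
  refine ⟨n, ρ, σ₀.comp ((killCompl (Fin.castAddEmb n) :
    MvPowerSeries (Fin (m + n)) Λ' →ₐ[Λ'] MvPowerSeries (Fin m) Λ') : _ →+* _), τ.toRingHom, s, hρs, ?_, ?_,
    hsm, hτ⟩
  · intro b
    obtain ⟨x, rfl⟩ := hσ₀s b
    exact ⟨rename (Fin.castAddEmb n) x, by
      rw [RingHom.comp_apply]; erw [hκι x]⟩
  · apply ringHom_ext_mvPowerSeries (maximalIdeal B)
      (Ideal.iInf_pow_eq_bot_of_isLocalRing _ (maximalIdeal.isMaximal B).ne_top)
    · intro c
      change σ₀ (killCompl (Fin.castAddEmb n) (τ (C c))) = algebraMap A B (ρ (C c))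
      rw [hτC, hκι, hφ₀', hρC]
    · intro i
      change σ₀ (killCompl (Fin.castAddEmb n) (τ (X i))) = algebraMap A B (ρ (X i))
      rw [hτ, map_add, hκι, hκy, add_zero, hs]
    · intro i
      change σ₀ (killCompl (Fin.castAddEmb n) (τ (X i))) ∈ _
      rw [hτ, map_add, hκι, hκy, add_zero, hs]
      exact hαm _ (hρX i)

/-- the lifting step: compatible maps of power series rings -/
theorem exists_compatible (q : ℕ) (hΛ : EGA41.IsCohenRingEGA Λ)
    (hmax' : maximalIdeal Λ' = Ideal.span {(q : Λ')})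
    (v : Λ →+* A) (hv : Function.Surjective ((Ideal.Quotient.mk (maximalIdeal A)).comp v))
    [hvloc : IsLocalHom v]
    (v' : Λ' →+* B) (hv' : Function.Surjective ((Ideal.Quotient.mk (maximalIdeal B)).comp v')) :
    ∃ (n m : ℕ) (ρ : MvPowerSeries (Fin n) Λ →+* A) (σ : MvPowerSeries (Fin (m + n)) Λ' →+* B)
      (τ : MvPowerSeries (Fin n) Λ →+* MvPowerSeries (Fin (m + n)) Λ')
      (s : Fin n → MvPowerSeries (Fin m) Λ'),
      Function.Surjective ρ ∧ Function.Surjective σ ∧ σ.comp τ = (algebraMap A B).comp ρ ∧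
      (∀ i, s i ∈ maximalIdeal (MvPowerSeries (Fin m) Λ')) ∧
      (∀ i, τ (X i) = rename (Fin.castAddEmb n) (s i) + X (Fin.natAdd m i)) := by
  obtain ⟨m, σ₀, hσ₀s, -, -⟩ := exists_surj_ps v' hv'
  obtain ⟨n, ρ, σ, τ, s, h⟩ := exists_compatible_of q hΛ hmax' v hv σ₀ hσ₀s
  exact ⟨n, m, ρ, σ, τ, s, h⟩

omit [IsAdicComplete (maximalIdeal Λ) Λ] [IsAdicComplete (maximalIdeal Λ') Λ'] in
/-- flatness, regularity and dimension of the fibre -/
theorem flat_and_regular' (q ε : ℕ) (hε1 : q ≠ 0 → ε = 1)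
    (hmax : maximalIdeal Λ = Ideal.span {(q : Λ)}) (hmax' : maximalIdeal Λ' = Ideal.span {(q : Λ')})
    (hdim : ∀ d, ringKrullDim (MvPowerSeries (Fin d) Λ) = ((d + ε : ℕ) : WithBot ℕ∞))
    (hdim' : ∀ d, ringKrullDim (MvPowerSeries (Fin d) Λ') = ((d + ε : ℕ) : WithBot ℕ∞))
    {n m : ℕ} (τ : MvPowerSeries (Fin n) Λ →+* MvPowerSeries (Fin (m + n)) Λ')
    (s : Fin n → MvPowerSeries (Fin m) Λ')
    (hsm : ∀ i, s i ∈ maximalIdeal (MvPowerSeries (Fin m) Λ'))
    (hτ : ∀ i, τ (X i) = rename (Fin.castAddEmb n) (s i) + X (Fin.natAdd m i)) :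
    τ.Flat ∧ IsRegularRing (MvPowerSeries (Fin (m + n)) Λ' ⧸
      (maximalIdeal (MvPowerSeries (Fin n) Λ)).map τ) ∧
      ringKrullDim (MvPowerSeries (Fin (m + n)) Λ' ⧸
        (maximalIdeal (MvPowerSeries (Fin n) Λ)).map τ) = ((m : ℕ) : WithBot ℕ∞) ∧
      (maximalIdeal (MvPowerSeries (Fin n) Λ)).map τ ≤
        maximalIdeal (MvPowerSeries (Fin (m + n)) Λ') := by
  classical
  have hιm : ∀ x ∈ maximalIdeal (MvPowerSeries (Fin m) Λ'),
      rename (Fin.castAddEmb n) x ∈ maximalIdeal (MvPowerSeries (Fin (m + n)) Λ') := by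
    intro x hx
    rw [mem_maximalIdeal_mvPowerSeries_iff] at hx ⊢
    rwa [constantCoeff_rename]
  have hXm : ∀ t : Fin (m + n), (X t : MvPowerSeries (Fin (m + n)) Λ') ∈
      maximalIdeal (MvPowerSeries (Fin (m + n)) Λ') := by
    intro t
    rw [mem_maximalIdeal_mvPowerSeries_iff, constantCoeff_X]
    exact zero_mem _
  have hbm : ∀ i, rename (Fin.castAddEmb n) (s i) + X (Fin.natAdd m i) ∈
      maximalIdeal (MvPowerSeries (Fin (m + n)) Λ') :=
    fun i => add_mem (hιm _ (hsm i)) (hXm _)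
  have hqΛ' : (q : Λ') ∈ maximalIdeal Λ' := hmax' ▸ Ideal.mem_span_singleton_self _
  have hCq' : (C (q : Λ') : MvPowerSeries (Fin (m + n)) Λ') ∈
      maximalIdeal (MvPowerSeries (Fin (m + n)) Λ') := by
    rw [mem_maximalIdeal_mvPowerSeries_iff, constantCoeff_C]
    exact hqΛ'
  have hτq : τ (C (q : Λ)) = C (q : Λ') := by
    rw [map_natCast C, map_natCast τ, map_natCast C]
  have hR := maximalIdeal_mvPowerSeries (q : Λ) hmax n
  have hImap : (maximalIdeal (MvPowerSeries (Fin n) Λ)).map τ =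
      Ideal.span (insert (C (q : Λ')) (Set.range fun i => τ (X i))) := by
    rw [hR, Ideal.map_span, Set.image_insert_eq, ← Set.range_comp, hτq]
    rfl
  have hIle : (maximalIdeal (MvPowerSeries (Fin n) Λ)).map τ ≤
      maximalIdeal (MvPowerSeries (Fin (m + n)) Λ') := by
    rw [hImap, Ideal.span_le]
    rintro _ (rfl | ⟨i, rfl⟩)
    · exact hCq'
    · change τ (X i) ∈ _
      rw [hτ]; exact hbm i
  haveI hloc : IsLocalHom τ := ((IsLocalRing.local_hom_TFAE τ).out 0 2).mpr hIle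
  obtain ⟨I, hI⟩ : ∃ I, I = (maximalIdeal (MvPowerSeries (Fin n) Λ)).map τ := ⟨_, rfl⟩
  rw [← hI] at hImap hIle ⊢
  have hItop : I ≠ ⊤ := fun h => (maximalIdeal.isMaximal _).ne_top (top_le_iff.mp (h ▸ hIle))
  haveI : Nontrivial (MvPowerSeries (Fin (m + n)) Λ' ⧸ I) := Ideal.Quotient.nontrivial_iff.mpr hItop
  haveI : IsLocalRing (MvPowerSeries (Fin (m + n)) Λ' ⧸ I) :=
    IsLocalRing.of_surjective' (Ideal.Quotient.mk I) Ideal.Quotient.mk_surjective
  -- the ideal generated by the first `m` variables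
  obtain ⟨Z, hZ⟩ : ∃ Z : Ideal (MvPowerSeries (Fin (m + n)) Λ'),
      Z = Ideal.span (Set.range fun j : Fin m => (X (Fin.castAddEmb n j) :
        MvPowerSeries (Fin (m + n)) Λ')) := ⟨_, rfl⟩
  have hCqI : (C (q : Λ') : MvPowerSeries (Fin (m + n)) Λ') ∈ I :=
    hImap ▸ Ideal.subset_span (Set.mem_insert _ _)
  have hιZ : ∀ x ∈ maximalIdeal (MvPowerSeries (Fin m) Λ'),
      rename (Fin.castAddEmb n) x ∈ Z ⊔ I := by
    intro x hx
    have h1 := Ideal.mem_map_of_mem
      (rename (Fin.castAddEmb n) : MvPowerSeries (Fin m) Λ' →ₐ[Λ']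
        MvPowerSeries (Fin (m + n)) Λ').toRingHom hx
    rw [maximalIdeal_mvPowerSeries (q : Λ') hmax' m, Ideal.map_span] at h1
    refine (Ideal.span_le.mpr ?_) h1
    rintro _ ⟨y, (rfl | ⟨j, rfl⟩), rfl⟩
    · change rename (Fin.castAddEmb n) (C (q : Λ')) ∈ _
      rw [rename_C]
      exact Ideal.mem_sup_right hCqI
    · change rename (Fin.castAddEmb n) (X j) ∈ _
      rw [rename_X]
      exact Ideal.mem_sup_left (hZ ▸ Ideal.subset_span ⟨j, rfl⟩)
  have hmle : maximalIdeal (MvPowerSeries (Fin (m + n)) Λ') ≤ Z ⊔ I := by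
    rw [maximalIdeal_mvPowerSeries (q : Λ') hmax' (m + n), Ideal.span_le]
    rintro _ (rfl | ⟨t, rfl⟩)
    · exact Ideal.mem_sup_right hCqI
    · induction t using Fin.addCases with
      | left j => exact Ideal.mem_sup_left (hZ ▸ Ideal.subset_span ⟨j, rfl⟩)
      | right i =>
        have h1 : rename (Fin.castAddEmb n) (s i) + X (Fin.natAdd m i) ∈ I := by
          rw [← hτ, hImap]
          exact Ideal.subset_span (Set.mem_insert_of_mem _ ⟨i, rfl⟩)
        have h2 : (X (Fin.natAdd m i) : MvPowerSeries (Fin (m + n)) Λ') =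
            (rename (Fin.castAddEmb n) (s i) + X (Fin.natAdd m i)) -
              rename (Fin.castAddEmb n) (s i) := by ring
        rw [SetLike.mem_coe, h2]
        exact sub_mem (Ideal.mem_sup_right h1) (hιZ _ (hsm i))
  have hZle : Z ≤ maximalIdeal (MvPowerSeries (Fin (m + n)) Λ') := by
    rw [hZ, Ideal.span_le]
    rintro _ ⟨j, rfl⟩
    exact hXm _
  have hmQ : maximalIdeal (MvPowerSeries (Fin (m + n)) Λ' ⧸ I) =
      Ideal.span (Set.range fun j : Fin m => Ideal.Quotient.mk I (X (Fin.castAddEmb n j))) := by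
    rw [← IsLocalRing.map_maximalIdeal_of_surjective (Ideal.Quotient.mk I)
      Ideal.Quotient.mk_surjective]
    have h1 : Z.map (Ideal.Quotient.mk I) =
        Ideal.span (Set.range fun j : Fin m => Ideal.Quotient.mk I (X (Fin.castAddEmb n j))) := by
      rw [hZ, Ideal.map_span, ← Set.range_comp]
      rfl
    rw [← h1]
    apply le_antisymm
    · refine (Ideal.map_mono hmle).trans ?_
      rw [Ideal.map_sup, Ideal.map_quotient_self, sup_bot_eq]
    · exact Ideal.map_mono hZle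
  have hspanQ : (maximalIdeal (MvPowerSeries (Fin (m + n)) Λ' ⧸ I)).spanFinrank ≤ m := by
    rw [hmQ]
    refine (Submodule.spanFinrank_span_le_ncard_of_finite (Set.finite_range _)).trans ?_
    rw [← Set.image_univ]
    refine (Set.ncard_image_le Set.finite_univ).trans ?_
    simp
  have hspanI : I.spanFinrank ≤ n + ε := by
    have hrange : (Set.range fun i : Fin n => τ (X i)).ncard ≤ n := by
      rw [← Set.image_univ]
      refine (Set.ncard_image_le Set.finite_univ).trans ?_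
      simp
    by_cases hq : q = 0
    · have h0 : (C (q : Λ') : MvPowerSeries (Fin (m + n)) Λ') = 0 := by
        rw [hq, Nat.cast_zero, map_zero]
      rw [hImap, h0, Ideal.span_insert_zero]
      refine (Submodule.spanFinrank_span_le_ncard_of_finite (Set.finite_range _)).trans ?_
      omega
    · rw [hImap, hε1 hq]
      refine (Submodule.spanFinrank_span_le_ncard_of_finite
        ((Set.finite_range _).insert _)).trans ?_
      exact (Set.ncard_insert_le _ _).trans (by omega)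
  -- dimensions
  have hdimS := hdim' (m + n)
  have hdimR := hdim n
  have h1 : ringKrullDim (MvPowerSeries (Fin (m + n)) Λ') ≤
      ringKrullDim (MvPowerSeries (Fin (m + n)) Λ' ⧸ I) + I.spanFinrank := by
    apply ringKrullDim_le_ringKrullDim_quotient_add_spanFinrank
    rw [IsLocalRing.ringJacobson_eq_maximalIdeal]
    exact hIle
  have h2 : ringKrullDim (MvPowerSeries (Fin (m + n)) Λ' ⧸ I) ≤
      (maximalIdeal (MvPowerSeries (Fin (m + n)) Λ' ⧸ I)).spanFinrank :=
    ringKrullDim_le_spanFinrank_maximalIdeal _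
  have hne : ringKrullDim (MvPowerSeries (Fin (m + n)) Λ' ⧸ I) ≠ ⊥ := ringKrullDim_ne_bot
  obtain ⟨x, hx⟩ := WithBot.ne_bot_iff_exists.mp hne
  have hxtop : x ≠ ⊤ := by
    intro hxt
    rw [← hx, hxt] at h2
    have h3 : ((⊤ : ℕ∞) : WithBot ℕ∞) ≤ (((maximalIdeal
        (MvPowerSeries (Fin (m + n)) Λ' ⧸ I)).spanFinrank : ℕ∞) : WithBot ℕ∞) := by
      exact_mod_cast h2
    rw [WithBot.coe_le_coe, top_le_iff] at h3
    exact ENat.natCast_ne_top _ h3
  obtain ⟨d, rfl⟩ := ENat.ne_top_iff_exists.mp hxtop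
  rw [← hx] at h1 h2
  rw [hdimS] at h1
  have h1' : m + n + ε ≤ d + I.spanFinrank := by exact_mod_cast h1
  have h2' : d ≤ (maximalIdeal (MvPowerSeries (Fin (m + n)) Λ' ⧸ I)).spanFinrank := by
    exact_mod_cast h2
  have hdm : d = m := by omega
  have hdimQ : ringKrullDim (MvPowerSeries (Fin (m + n)) Λ' ⧸ I) = ((m : ℕ) : WithBot ℕ∞) := by
    rw [← hx, hdm]; rfl
  have hregQ : IsRegularLocalRing (MvPowerSeries (Fin (m + n)) Λ' ⧸ I) := by
    apply IsRegularLocalRing.of_spanFinrank_maximalIdeal_le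
    rw [hdimQ]
    exact_mod_cast hspanQ
  constructor
  · letI : Algebra (MvPowerSeries (Fin n) Λ) (MvPowerSeries (Fin (m + n)) Λ') := τ.toAlgebra
    haveI : IsLocalHom (algebraMap (MvPowerSeries (Fin n) Λ) (MvPowerSeries (Fin (m + n)) Λ')) :=
      hloc
    haveI : IsRegularLocalRing (MvPowerSeries (Fin n) Λ) := isRegularLocalRing_mvPowerSeries Λ n
    haveI : IsRegularLocalRing (MvPowerSeries (Fin (m + n)) Λ') :=
      isRegularLocalRing_mvPowerSeries Λ' (m + n)
    haveI : LocCoh.IsCohenMacaulayLocalRing (MvPowerSeries (Fin (m + n)) Λ') :=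
      { supportDim_eq_depth := Groth.Agent.Helper2.RegCM.cm_of_isRegularLocalRing _ }
    have hflat : Module.Flat (MvPowerSeries (Fin n) Λ) (MvPowerSeries (Fin (m + n)) Λ') := by
      apply Groth.Agent.Helper2.Miracle.flat_of_cm_ring
      have hI' : (maximalIdeal (MvPowerSeries (Fin n) Λ)).map
          (algebraMap (MvPowerSeries (Fin n) Λ) (MvPowerSeries (Fin (m + n)) Λ')) = I := hI.symm
      rw [hI', hdimS, hdimR, hdimQ]
      push_cast
      ring
    exact hflat
  · exact ⟨{ isRegularLocalRing_localization := fun p _ => Groth.Agent.S0564.result _ p }, hdimQ,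
      hIle⟩

omit [IsAdicComplete (maximalIdeal Λ) Λ] [IsAdicComplete (maximalIdeal Λ') Λ'] in
/-- flatness and regularity of the fibre -/
theorem flat_and_regular (q ε : ℕ) (hε1 : q ≠ 0 → ε = 1)
    (hmax : maximalIdeal Λ = Ideal.span {(q : Λ)}) (hmax' : maximalIdeal Λ' = Ideal.span {(q : Λ')})
    (hdim : ∀ d, ringKrullDim (MvPowerSeries (Fin d) Λ) = ((d + ε : ℕ) : WithBot ℕ∞))
    (hdim' : ∀ d, ringKrullDim (MvPowerSeries (Fin d) Λ') = ((d + ε : ℕ) : WithBot ℕ∞))
    {n m : ℕ} (τ : MvPowerSeries (Fin n) Λ →+* MvPowerSeries (Fin (m + n)) Λ')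
    (s : Fin n → MvPowerSeries (Fin m) Λ')
    (hsm : ∀ i, s i ∈ maximalIdeal (MvPowerSeries (Fin m) Λ'))
    (hτ : ∀ i, τ (X i) = rename (Fin.castAddEmb n) (s i) + X (Fin.natAdd m i)) :
    τ.Flat ∧ IsRegularRing (MvPowerSeries (Fin (m + n)) Λ' ⧸
      (maximalIdeal (MvPowerSeries (Fin n) Λ)).map τ) := by
  obtain ⟨h1, h2, -, -⟩ := flat_and_regular' q ε hε1 hmax hmax' hdim hdim' τ s hsm hτ
  exact ⟨h1, h2⟩

/-- the common part of both cases -/
theorem s2053_aux (q ε : ℕ) (hε1 : q ≠ 0 → ε = 1) (hΛ : EGA41.IsCohenRingEGA Λ)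
    (hmax : maximalIdeal Λ = Ideal.span {(q : Λ)}) (hmax' : maximalIdeal Λ' = Ideal.span {(q : Λ')})
    (hdim : ∀ d, ringKrullDim (MvPowerSeries (Fin d) Λ) = ((d + ε : ℕ) : WithBot ℕ∞))
    (hdim' : ∀ d, ringKrullDim (MvPowerSeries (Fin d) Λ') = ((d + ε : ℕ) : WithBot ℕ∞))
    (v : Λ →+* A) (hv : Function.Surjective ((Ideal.Quotient.mk (maximalIdeal A)).comp v))
    [hvloc : IsLocalHom v]
    (v' : Λ' →+* B) (hv' : Function.Surjective ((Ideal.Quotient.mk (maximalIdeal B)).comp v')) :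
    ∃ (n m : ℕ) (ρ : MvPowerSeries (Fin n) Λ →+* A) (σ : MvPowerSeries (Fin m) Λ' →+* B)
      (τ : MvPowerSeries (Fin n) Λ →+* MvPowerSeries (Fin m) Λ'),
      Function.Surjective ρ ∧ Function.Surjective σ ∧ σ.comp τ = (algebraMap A B).comp ρ ∧
      τ.Flat ∧ IsRegularRing (MvPowerSeries (Fin m) Λ' ⧸
        (maximalIdeal (MvPowerSeries (Fin n) Λ)).map τ) := by
  obtain ⟨n, m, ρ, σ, τ, s, hρ, hσ, hcomm, hsm, hτ⟩ := exists_compatible q hΛ hmax' v hv v' hv'
  obtain ⟨hflat, hreg⟩ := flat_and_regular q ε hε1 hmax hmax' hdim hdim' τ s hsm hτ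
  exact ⟨n, m + n, ρ, σ, τ, hρ, hσ, hcomm, hflat, hreg⟩

end main

theorem s2053 {A B : Type u} [CommRing A] [CommRing B]
    [IsLocalRing A] [IsLocalRing B] [IsNoetherianRing A] [IsNoetherianRing B]
    [IsAdicComplete (IsLocalRing.maximalIdeal A) A] [IsAdicComplete (IsLocalRing.maximalIdeal B) B]
    [Algebra A B] [IsLocalHom (algebraMap A B)] :
    ∃ (Λ Λ' : Type u) (_ : CommRing Λ) (_ : CommRing Λ') (_ : IsLocalRing Λ) (n m : ℕ)
      (ρ : MvPowerSeries (Fin n) Λ →+* A) (σ : MvPowerSeries (Fin m) Λ' →+* B)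
      (τ : MvPowerSeries (Fin n) Λ →+* MvPowerSeries (Fin m) Λ'),
      ((CharZero (IsLocalRing.ResidueField A) ∧ IsField Λ ∧ IsField Λ') ∨
        (¬ CharZero (IsLocalRing.ResidueField A) ∧ CAlg.IsCohenRing Λ ∧ CAlg.IsCohenRing Λ')) ∧
        Function.Surjective ρ ∧ Function.Surjective σ ∧ σ.comp τ = (algebraMap A B).comp ρ ∧
        τ.Flat ∧ IsRegularRing (MvPowerSeries (Fin m) Λ' ⧸
          (IsLocalRing.maximalIdeal (MvPowerSeries (Fin n) Λ)).map τ) := by
  obtain ⟨q, hqA⟩ : ∃ q, CharP (ResidueField A) q := ⟨ringChar _, ringChar.charP _⟩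
  haveI : CharP (ResidueField B) q :=
    charP_of_injective_ringHom (ResidueField.map (algebraMap A B)).injective q
  obtain ⟨Λ, _, v, hΛ, hv⟩ := exists_coeffRing' A q
  obtain ⟨Λ', _, v', hΛ', hv'⟩ := exists_coeffRing' B q
  rcases hΛ with ⟨hF, hchar, hq0⟩ | ⟨hdom, hdvr, hc, hqp, hmax⟩
  · rcases hΛ' with ⟨hF', hchar', -⟩ | ⟨_, _, _, hqp', _⟩
    swap
    · exact absurd hqp' (by rw [hq0]; exact Nat.not_prime_zero)
    letI := hF.toField
    letI := hF'.toField
    have hmax : maximalIdeal Λ = Ideal.span {(q : Λ)} := by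
      rw [hq0, Nat.cast_zero, IsLocalRing.maximalIdeal_eq_bot]
      exact (Ideal.span_singleton_eq_bot.mpr rfl).symm
    have hmax' : maximalIdeal Λ' = Ideal.span {(q : Λ')} := by
      rw [hq0, Nat.cast_zero, IsLocalRing.maximalIdeal_eq_bot]
      exact (Ideal.span_singleton_eq_bot.mpr rfl).symm
    obtain ⟨n, m, ρ, σ, τ, h⟩ := s2053_aux (A := A) (B := B) q 0 (fun h => absurd hq0 h)
      (Or.inl ⟨hF, hchar⟩) hmax hmax' (ringKrullDim_mvPowerSeries_field Λ)
      (ringKrullDim_mvPowerSeries_field Λ') v hv v' hv'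
    refine ⟨Λ, Λ', inferInstance, inferInstance, inferInstance, n, m, ρ, σ, τ, Or.inl ⟨?_, hF, hF'⟩, h⟩
    haveI : CharP (ResidueField A) 0 := hq0 ▸ hqA
    exact CharP.charP_to_charZero _
  · rcases hΛ' with ⟨-, -, hq0⟩ | ⟨hdom', hdvr', hc', -, hmax'⟩
    · exact absurd hqp (by rw [hq0]; exact Nat.not_prime_zero)
    haveI := hdom
    haveI := hdvr
    haveI := hc
    haveI := hdom'
    haveI := hdvr'
    haveI := hc'
    have hqA' : (q : A) ∈ maximalIdeal A := by
      rw [← Ideal.Quotient.eq_zero_iff_mem, map_natCast]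
      exact CharP.cast_eq_zero (ResidueField A) q
    haveI : IsLocalHom v := by
      refine ⟨fun x hx => ?_⟩
      by_contra hxu
      have hxm : x ∈ maximalIdeal Λ := (mem_maximalIdeal _).mpr hxu
      rw [hmax, Ideal.mem_span_singleton'] at hxm
      obtain ⟨y, rfl⟩ := hxm
      rw [map_mul, map_natCast] at hx
      exact (mem_maximalIdeal _).mp (Ideal.mul_mem_left _ _ hqA') hx
    obtain ⟨n, m, ρ, σ, τ, h⟩ := s2053_aux (A := A) (B := B) q 1 (fun _ => rfl)
      (Or.inr ⟨hdom, hdvr, hc, q, hqp, hmax⟩) hmax hmax' (ringKrullDim_mvPowerSeries_dvr Λ)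
      (ringKrullDim_mvPowerSeries_dvr Λ') v hv v' hv'
    refine ⟨Λ, Λ', inferInstance, inferInstance, inferInstance, n, m, ρ, σ, τ,
      Or.inr ⟨?_, ⟨hdom, hdvr, hc, q, hqp, hmax⟩, ⟨hdom', hdvr', hc', q, hqp, hmax'⟩⟩, h⟩
    intro hcz
    have h0 : ((q : ℕ) : ResidueField A) = 0 := CharP.cast_eq_zero _ q
    exact hqp.ne_zero (by exact_mod_cast h0)

end Groth.Agent.Helper7.Cohen
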