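import Mathlib
import Groth.Agent.Helper7.PSEval
import Groth.Agent.Helper4.RegSop
import Groth.Agent.S11741

set_option linter.style.haveILetI false
set_option linter.unusedSectionVars false

namespace Groth.Agent.Helper7.CohenK

open IsLocalRing

universe u

theorem s9443 (R : Type u)
    [CommRing R] [IsRegularLocalRing R] [IsAdicComplete (IsLocalRing.maximalIdeal R) R]
    (k : Type u) [Field k] [Algebra k R]
    (hk : Function.Bijective (algebraMap k (IsLocalRing.ResidueField R))) :
    ∃ d : ℕ, Nonempty (R ≃ₐ[k] MvPowerSeries (Fin d) k) := by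
  have hd : ringKrullDim R = ((maximalIdeal R).spanFinrank : ℕ) :=
    IsRegularLocalRing.spanFinrank_maximalIdeal.symm
  obtain ⟨f, hf, -⟩ := Groth.Agent.Helper4.RegSop.exists_quasiRegular R _ hd
  have hfm : ∀ i, f i ∈ maximalIdeal R := fun i => hf ▸ Ideal.subset_span ⟨i, rfl⟩
  obtain ⟨ψ, hψX⟩ := Groth.Agent.Helper7.PSEval.exists_algHom_X (k := k) (maximalIdeal R) f hfm
  have hψ : ∀ i, ψ (MvPowerSeries.X i) ∈ maximalIdeal R := fun i => by rw [hψX]; exact hfm i
  have hR : Function.Surjective ((IsLocalRing.residue R).comp (algebraMap k R)) := by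
    intro y
    obtain ⟨c, rfl⟩ := hk.2 y
    exact ⟨c, (IsScalarTower.algebraMap_apply k R (ResidueField R) c).symm⟩
  have hfun : (fun i => (maximalIdeal R).toCotangent ⟨ψ (MvPowerSeries.X i), hψ i⟩) =
      fun i => (maximalIdeal R).toCotangent ⟨f i, hfm i⟩ := by
    funext i
    congr 1
    exact Subtype.ext (hψX i)
  have hsp : Submodule.span (ResidueField R)
      (Set.range (fun i => (maximalIdeal R).toCotangent ⟨ψ (MvPowerSeries.X i), hψ i⟩)) = ⊤ := by
    rw [hfun, eq_top_iff]
    intro x _
    obtain ⟨⟨y, hy⟩, rfl⟩ := Ideal.toCotangent_surjective _ x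
    have hy' : y ∈ Ideal.span (Set.range f) := hf.symm ▸ hy
    -- induct on span
    have key : ∀ z (hz : z ∈ Ideal.span (Set.range f)),
        (maximalIdeal R).toCotangent ⟨z, hf ▸ hz⟩ ∈ Submodule.span (ResidueField R)
          (Set.range (fun i => (maximalIdeal R).toCotangent ⟨f i, hfm i⟩)) := by
      intro z hz
      induction hz using Submodule.span_induction with
      | mem z hz =>
        obtain ⟨i, rfl⟩ := hz
        exact Submodule.subset_span ⟨i, rfl⟩
      | zero =>
        have : (⟨0, hf ▸ (Ideal.span (Set.range f)).zero_mem⟩ : maximalIdeal R) = 0 := rfl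
        rw [this, map_zero]; exact Submodule.zero_mem _
      | add a b ha hb iha ihb =>
        have : (⟨a + b, hf ▸ (Ideal.span (Set.range f)).add_mem ha hb⟩ : maximalIdeal R) =
            ⟨a, hf ▸ ha⟩ + ⟨b, hf ▸ hb⟩ := rfl
        rw [this, map_add]; exact Submodule.add_mem _ iha ihb
      | smul c a ha iha =>
        have : (⟨c • a, hf ▸ (Ideal.span (Set.range f)).smul_mem c ha⟩ : maximalIdeal R) =
            c • ⟨a, hf ▸ ha⟩ := rfl
        rw [this, map_smul]
        have h2 : c • (maximalIdeal R).toCotangent ⟨a, hf ▸ ha⟩ =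
            (residue R c) • (maximalIdeal R).toCotangent ⟨a, hf ▸ ha⟩ := rfl
        rw [h2]
        exact Submodule.smul_mem _ _ iha
    exact key y hy'
  have hb : LinearIndependent (ResidueField R)
      (fun i => (maximalIdeal R).toCotangent ⟨ψ (MvPowerSeries.X i), hψ i⟩) := by
    apply linearIndependent_of_top_le_span_of_card_eq_finrank hsp.ge
    rw [Fintype.card_fin]
    exact IsLocalRing.spanFinrank_maximalIdeal_eq_finrank_cotangentSpace R
  have hbij := (Groth.Agent.S11741.result k R hR _ ψ hψ hb hsp).mp inferInstance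
  exact ⟨_, ⟨(AlgEquiv.ofBijective ψ hbij).symm⟩⟩

end Groth.Agent.Helper7.CohenK
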