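import Mathlib
import Groth.Prelude.Def_EGA41
import Groth.Agent.Helper7.CohenC
import Groth.Agent.Helper1.FieldSmooth7

/-!
# Cohen algebras are formally smooth for the adic topologies (EGA 0_IV 19.8.1)
-/

set_option autoImplicit false
set_option linter.style.haveILetI false
set_option linter.unusedSectionVars false
universe u v w

namespace Groth.Agent.Helper7.Cohen

open TensorProduct IsLocalRing

/-- **Stacks 031L**, in a form with abstract quotients `R → R₀`, `S → S₀`. -/
theorem formallySmooth_of_flat_of_nilpotent' {R : Type v} {S : Type u} {R₀ : Type w} {S₀ : Type u}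
    [CommRing R] [CommRing S] [CommRing R₀] [CommRing S₀] [Algebra R S] [Algebra R₀ S₀]
    [Module.Flat R S] (φ : R →+* R₀) (hφ : Function.Surjective φ) (ψ : S →+* S₀)
    (hψ : Function.Surjective ψ)
    (hcompat : ∀ r, ψ (algebraMap R S r) = algebraMap R₀ S₀ (φ r))
    (hker : RingHom.ker ψ = (RingHom.ker φ).map (algebraMap R S)) (n : ℕ)
    (hn : RingHom.ker φ ^ n = ⊥) [Algebra.FormallySmooth R₀ S₀] : Algebra.FormallySmooth R S := by
  set I := RingHom.ker φ with hI
  let e₁ : R ⧸ I ≃+* R₀ := RingHom.quotientKerEquivOfSurjective hφ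
  letI : Algebra R S₀ := (ψ.comp (algebraMap R S)).toAlgebra
  letI : Algebra (R ⧸ I) S₀ := ((algebraMap R₀ S₀).comp e₁.toRingHom).toAlgebra
  haveI : IsScalarTower R (R ⧸ I) S₀ := IsScalarTower.of_algebraMap_eq (fun r => by
    change ψ (algebraMap R S r) = algebraMap R₀ S₀ (e₁ (Ideal.Quotient.mk I r))
    rw [hcompat]
    rfl)
  haveI : Algebra.FormallySmooth (R ⧸ I) S₀ :=
    formallySmooth_of_ringEquiv_base e₁ (fun a => rfl)
  let g : S →ₐ[R] S₀ := { ψ with commutes' := fun r => rfl }
  let θ : (R ⧸ I) ⊗[R] S →ₐ[R ⧸ I] S₀ :=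
    Algebra.TensorProduct.lift (Algebra.ofId (R ⧸ I) S₀) g (fun _ _ => Commute.all _ _)
  have hθ : ∀ s : S, θ ((1 : R ⧸ I) ⊗ₜ[R] s) = ψ s := by
    intro s
    simp [θ, g]
  have hθbij : Function.Bijective θ := by
    constructor
    · rw [injective_iff_map_eq_zero]
      intro t ht
      obtain ⟨s, rfl⟩ := exists_one_tmul R I t
      rw [hθ] at ht
      have h1 : s ∈ (RingHom.ker φ).map (algebraMap R S) := by
        rw [← hker]; exact ht
      apply tmul_eq_zero_of_mem_smul_top
      have h2 : (I • ⊤ : Submodule R S) = ((I.map (algebraMap R S))).restrictScalars R := by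
        rw [Ideal.smul_top_eq_map]
      rw [h2]
      exact h1
    · intro y
      obtain ⟨s, rfl⟩ := hψ y
      exact ⟨_, hθ s⟩
  haveI : Algebra.FormallySmooth (R ⧸ I) ((R ⧸ I) ⊗[R] S) :=
    Algebra.FormallySmooth.of_equiv (AlgEquiv.ofBijective θ hθbij).symm
  exact formallySmooth_of_flat_of_nilpotent R S I n hn

/-- the truncations of a Cohen algebra are formally smooth -/
theorem formallySmooth_truncation {A B : Type u} [CommRing A] [IsLocalRing A] [CommRing B]
    [IsLocalRing B] [Algebra A B] [IsLocalHom (algebraMap A B)] [Module.Flat A B]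
    (hm : (maximalIdeal A).map (algebraMap A B) = maximalIdeal B)
    [Algebra.FormallySmooth (ResidueField A) (ResidueField B)] (n : ℕ) (hn : n ≠ 0) :
    Algebra.FormallySmooth (A ⧸ maximalIdeal A ^ n) ((A ⧸ maximalIdeal A ^ n) ⊗[A] B) := by
  set R := A ⧸ maximalIdeal A ^ n
  have hle : maximalIdeal A ^ n ≤ maximalIdeal A := Ideal.pow_le_self hn
  let φ : R →+* ResidueField A := Ideal.Quotient.factor hle
  have hφ : Function.Surjective φ := Ideal.Quotient.factor_surjective hle
  have hkerφ : RingHom.ker φ = (maximalIdeal A).map (Ideal.Quotient.mk (maximalIdeal A ^ n)) := by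
    ext x
    obtain ⟨a, rfl⟩ := Ideal.Quotient.mk_surjective x
    rw [RingHom.mem_ker]
    change Ideal.Quotient.factor hle (Ideal.Quotient.mk _ a) = 0 ↔ _
    rw [Ideal.Quotient.factor_mk, Ideal.Quotient.eq_zero_iff_mem,
      Ideal.mem_quotient_iff_mem_sup, sup_eq_left.mpr hle]
  have hnil : RingHom.ker φ ^ n = ⊥ := by
    rw [hkerφ, ← Ideal.map_pow, Ideal.map_quotient_self]
  letI : Algebra R (ResidueField B) :=
    ((algebraMap (ResidueField A) (ResidueField B)).comp φ).toAlgebra
  haveI : IsScalarTower A R (ResidueField B) := IsScalarTower.of_algebraMap_eq (fun a => by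
    change algebraMap A (ResidueField B) a = algebraMap (ResidueField A) (ResidueField B) (φ (Ideal.Quotient.mk _ a))
    rw [IsScalarTower.algebraMap_apply A (ResidueField A) (ResidueField B)]
    rfl)
  let ψ₀ : R ⊗[A] B →ₐ[R] ResidueField B :=
    Algebra.TensorProduct.lift (Algebra.ofId R (ResidueField B))
      (IsScalarTower.toAlgHom A B (ResidueField B)) (fun _ _ => Commute.all _ _)
  have hψ₀ : ∀ b : B, ψ₀ ((1 : R) ⊗ₜ[A] b) = residue B b := by
    intro b
    simp [ψ₀]
  refine formallySmooth_of_flat_of_nilpotent' φ hφ ψ₀.toRingHom ?_ ?_ ?_ n hnil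
  · intro y
    obtain ⟨b, rfl⟩ := residue_surjective y
    exact ⟨_, hψ₀ b⟩
  · intro r
    exact ψ₀.commutes r
  · apply le_antisymm
    · intro t ht
      obtain ⟨b, rfl⟩ := exists_one_tmul A (maximalIdeal A ^ n) t
      have h1 : residue B b = 0 := by rw [← hψ₀]; exact ht
      have h2 : b ∈ (maximalIdeal A).map (algebraMap A B) := by
        rw [hm]; exact (residue_eq_zero_iff b).mp h1
      rw [hkerφ, Ideal.map_map]
      -- `b` is a combination of images of elements of `𝔪_A`
      refine Submodule.span_induction (p := fun b _ => (1 : R) ⊗ₜ[A] b ∈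
        Ideal.map ((algebraMap R (R ⊗[A] B)).comp (Ideal.Quotient.mk (maximalIdeal A ^ n)))
          (maximalIdeal A)) ?_ ?_ ?_ ?_ h2
      · rintro _ ⟨a, ha, rfl⟩
        have : (1 : R) ⊗ₜ[A] (algebraMap A B a) =
            ((algebraMap R (R ⊗[A] B)).comp (Ideal.Quotient.mk (maximalIdeal A ^ n))) a := by
          rw [RingHom.comp_apply, Algebra.TensorProduct.algebraMap_apply, Algebra.algebraMap_eq_smul_one a,
            TensorProduct.tmul_smul, TensorProduct.smul_tmul', Algebra.smul_def, mul_one]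
          rfl
        rw [this]
        exact Ideal.mem_map_of_mem _ ha
      · rw [TensorProduct.tmul_zero]; exact Ideal.zero_mem _
      · intro x y _ _ hx hy
        rw [TensorProduct.tmul_add]; exact Ideal.add_mem _ hx hy
      · intro c x _ hx
        have : (1 : R) ⊗ₜ[A] (c • x) = ((1 : R) ⊗ₜ[A] c) * ((1 : R) ⊗ₜ[A] x) := by
          rw [Algebra.TensorProduct.tmul_mul_tmul, one_mul, smul_eq_mul]
        rw [this]
        exact Ideal.mul_mem_left _ _ hx
    · rw [Ideal.map_le_iff_le_comap]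
      intro r hr
      rw [Ideal.mem_comap, RingHom.mem_ker]
      have := ψ₀.commutes r
      change ψ₀ (algebraMap R (R ⊗[A] B) r) = 0
      rw [this]
      change algebraMap (ResidueField A) (ResidueField B) (φ r) = 0
      rw [(RingHom.mem_ker).mp hr, map_zero]

open IsLocalRing in
theorem s2454 {A B : Type u} [CommRing A] [IsLocalRing A] [CommRing B] [IsLocalRing B]
    [Algebra A B] [IsLocalHom (algebraMap A B)] (h : EGA41.IsCohenAlgebra A B) :
    EGA41.IsFormallySmoothAdic A (maximalIdeal A) B (maximalIdeal B) := by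
  obtain ⟨hA, hB, hcompl, hflat, hm, hsep⟩ := h
  haveI := hflat
  haveI : Algebra.FormallySmooth (ResidueField A) (ResidueField B) :=
    Groth.Agent.Helper1.FieldSmooth.formallySmooth_iff_isGeometricallyReduced.mpr hsep
  intro C _ _ J hJ ⟨k, hk⟩ u _
  have hn : (maximalIdeal A ^ (k + 1)).map (algebraMap A C) = ⊥ :=
    le_bot_iff.mp (hk ▸ Ideal.map_mono (Ideal.pow_le_pow_right (Nat.le_succ k)))
  haveI := formallySmooth_truncation hm (k + 1) (Nat.succ_ne_zero k)
  letI : Algebra (A ⧸ maximalIdeal A ^ (k + 1)) C :=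
    (Ideal.Quotient.lift (maximalIdeal A ^ (k + 1)) (algebraMap A C) (fun a ha => by
      have := Ideal.mem_map_of_mem (algebraMap A C) ha
      rw [hn] at this
      exact this)).toAlgebra
  haveI : IsScalarTower A (A ⧸ maximalIdeal A ^ (k + 1)) C :=
    IsScalarTower.of_algebraMap_eq (fun a => rfl)
  haveI : IsScalarTower A (A ⧸ maximalIdeal A ^ (k + 1)) (C ⧸ J) :=
    IsScalarTower.of_algebraMap_eq (fun a => rfl)
  let u' : (A ⧸ maximalIdeal A ^ (k + 1)) ⊗[A] B →ₐ[A ⧸ maximalIdeal A ^ (k + 1)] C ⧸ J :=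
    Algebra.TensorProduct.lift (Algebra.ofId _ (C ⧸ J)) u (fun _ _ => Commute.all _ _)
  let v' := Algebra.FormallySmooth.lift J hJ u'
  refine ⟨(v'.restrictScalars A).comp Algebra.TensorProduct.includeRight, ?_⟩
  ext b
  have h1 := Algebra.FormallySmooth.mk_lift J hJ u' ((1 : A ⧸ maximalIdeal A ^ (k + 1)) ⊗ₜ[A] b)
  change Ideal.Quotient.mk J (v' ((1 : A ⧸ maximalIdeal A ^ (k + 1)) ⊗ₜ[A] b)) = u b
  rw [h1]
  simp [u']

end Groth.Agent.Helper7.Cohen
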