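import Mathlib
import Groth.Prelude.Def_EGA41
import Groth.Agent.Helper7.CohenN
import Groth.Agent.Helper7.CohenE

/-!
# Uniqueness of complete unramified extensions of complete discrete valuation rings
-/

set_option autoImplicit false
set_option linter.style.haveILetI false
set_option linter.unusedSectionVars false
set_option linter.overlappingInstances false
universe u v w

namespace Groth.Agent.Helper7.Cohen

open TensorProduct IsLocalRing

/-- lifting algebra maps out of a "Cohen algebra" along nilpotent surjections of algebras killed by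
a power of the maximal ideal of the base -/
theorem cohen_lift_surj {A B : Type u} [CommRing A] [IsLocalRing A] [CommRing B]
    [IsLocalRing B] [Algebra A B] [IsLocalHom (algebraMap A B)] [Module.Flat A B]
    (hm : (maximalIdeal A).map (algebraMap A B) = maximalIdeal B)
    [Algebra.FormallySmooth (ResidueField A) (ResidueField B)]
    {T : Type v} {T' : Type w} [CommRing T] [CommRing T'] [Algebra A T] [Algebra A T']
    (π : T →ₐ[A] T') (hπ : Function.Surjective π) (hnil : IsNilpotent (RingHom.ker (π : T →+* T')))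
    (k : ℕ) (hk : (maximalIdeal A ^ k).map (algebraMap A T) = ⊥) (g : B →ₐ[A] T') :
    ∃ g' : B →ₐ[A] T, π.comp g' = g := by
  have hn : (maximalIdeal A ^ (k + 1)).map (algebraMap A T) = ⊥ :=
    le_bot_iff.mp (hk ▸ Ideal.map_mono (Ideal.pow_le_pow_right (Nat.le_succ k)))
  haveI := formallySmooth_truncation hm (k + 1) (Nat.succ_ne_zero k)
  letI : Algebra (A ⧸ maximalIdeal A ^ (k + 1)) T :=
    (Ideal.Quotient.lift (maximalIdeal A ^ (k + 1)) (algebraMap A T) (fun a ha => by
      have := Ideal.mem_map_of_mem (algebraMap A T) ha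
      rw [hn] at this
      exact this)).toAlgebra
  haveI : IsScalarTower A (A ⧸ maximalIdeal A ^ (k + 1)) T :=
    IsScalarTower.of_algebraMap_eq (fun a => rfl)
  letI : Algebra (A ⧸ maximalIdeal A ^ (k + 1)) T' :=
    ((π : T →+* T').comp (algebraMap (A ⧸ maximalIdeal A ^ (k + 1)) T)).toAlgebra
  haveI : IsScalarTower A (A ⧸ maximalIdeal A ^ (k + 1)) T' :=
    IsScalarTower.of_algebraMap_eq (fun a => by
      change algebraMap A T' a = π (algebraMap A T a)
      rw [π.commutes])
  let π' : T →ₐ[A ⧸ maximalIdeal A ^ (k + 1)] T' := { (π : T →+* T') with commutes' := fun r => rfl }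
  let g₁ : (A ⧸ maximalIdeal A ^ (k + 1)) ⊗[A] B →ₐ[A ⧸ maximalIdeal A ^ (k + 1)] T' :=
    Algebra.TensorProduct.lift (Algebra.ofId _ T') g (fun _ _ => Commute.all _ _)
  let l := Algebra.FormallySmooth.liftOfSurjective g₁ π' hπ hnil
  refine ⟨(l.restrictScalars A).comp Algebra.TensorProduct.includeRight, ?_⟩
  ext b
  have h1 := Algebra.FormallySmooth.liftOfSurjective_apply g₁ π' hπ hnil
    ((1 : A ⧸ maximalIdeal A ^ (k + 1)) ⊗ₜ[A] b)
  change π' (l ((1 : A ⧸ maximalIdeal A ^ (k + 1)) ⊗ₜ[A] b)) = g b
  rw [h1]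
  simp [g₁]

/-- passing to the limit in a tower of liftings of algebra maps -/
theorem exists_algHom_lift_of_complete {A : Type u} {W : Type v} {C : Type w} [CommRing A]
    [CommRing W] [CommRing C] [Algebra A W] [Algebra A C] (m : Ideal C) [IsAdicComplete m C]
    (hL : ∀ n : ℕ, ∀ g : W →ₐ[A] C ⧸ m ^ (n + 1), ∃ g' : W →ₐ[A] C ⧸ m ^ (n + 1 + 1),
      (Ideal.Quotient.factorₐ A (Ideal.pow_le_pow_right (Nat.le_succ (n + 1)))).comp g' = g)
    (u : W →ₐ[A] C ⧸ m) : ∃ v : W →ₐ[A] C, (Ideal.Quotient.mkₐ A m).comp v = u := by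
  choose next hnext using hL
  have h1 : m = m ^ (0 + 1) := by simp
  obtain ⟨seq, hseq0, hseq⟩ : ∃ seq : ∀ n, W →ₐ[A] C ⧸ m ^ (n + 1),
      seq 0 = (Ideal.quotientEquivAlgOfEq A h1).toAlgHom.comp u ∧
      ∀ n, (Ideal.Quotient.factorₐ A (Ideal.pow_le_pow_right (Nat.le_succ (n + 1)))).comp
        (seq (n + 1)) = seq n :=
    ⟨fun n => Nat.rec ((Ideal.quotientEquivAlgOfEq A h1).toAlgHom.comp u) (fun n x => next n x) n,
      rfl, fun n => hnext n _⟩
  obtain ⟨f, hfdef⟩ : ∃ f : ∀ n, W →ₐ[A] C ⧸ m ^ n, ∀ n, f n =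
      (Ideal.Quotient.factorₐ A (Ideal.pow_le_pow_right (Nat.le_succ n))).comp (seq n) :=
    ⟨_, fun _ => rfl⟩
  have hf1 : ∀ n, (Ideal.Quotient.factorₐ A (Ideal.pow_le_pow_right (Nat.le_succ n))).comp
      (f (n + 1)) = f n := by
    intro n
    rw [hfdef (n + 1), hfdef n, hseq n]
  have hf : ∀ {k n : ℕ} (hle : k ≤ n),
      (Ideal.Quotient.factorₐ A (Ideal.pow_le_pow_right hle)).comp (f n) = f k := by
    intro k n hle
    induction n, hle using Nat.le_induction with
    | base =>
      ext x
      simp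
    | succ n hkn ih =>
      rw [← Ideal.Quotient.factorₐ_comp A (Ideal.pow_le_pow_right n.le_succ)
        (Ideal.pow_le_pow_right hkn), AlgHom.comp_assoc, hf1, ih]
  refine ⟨((AdicCompletion.ofAlgEquiv m).symm.toAlgHom.restrictScalars A).comp
    (AdicCompletion.liftAlgHom m f hf), ?_⟩
  ext x
  change Ideal.Quotient.mk m ((AdicCompletion.ofAlgEquiv m).symm
    (AdicCompletion.liftAlgHom m f hf x)) = u x
  have h2 : Ideal.Quotient.mk (m ^ 1) ((AdicCompletion.ofAlgEquiv m).symm
      (AdicCompletion.liftAlgHom m f hf x)) = f 1 x := by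
    rw [AdicCompletion.mk_ofAlgEquiv_symm, AdicCompletion.evalₐ_liftAlgHom]
  have h3 := congrArg (Ideal.Quotient.factor (show m ^ 1 ≤ m by simp)) h2
  rw [Ideal.Quotient.factor_mk] at h3
  rw [h3, hfdef 1, AlgHom.comp_apply]
  have h4 : (Ideal.Quotient.factorₐ A (Ideal.pow_le_pow_right (Nat.le_succ 1))) (seq 1 x) =
      seq 0 x := AlgHom.congr_fun (hseq 0) x
  rw [h4, hseq0]
  obtain ⟨c, hc⟩ := Ideal.Quotient.mk_surjective (u x)
  rw [AlgHom.comp_apply, ← hc]
  rfl

/-- a local homomorphism of complete discrete valuation rings which is unramified and surjective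
on residue fields is bijective -/
theorem bijective_of_dvr {W W' : Type u} [CommRing W] [IsDomain W] [IsDiscreteValuationRing W]
    [CommRing W'] [IsDomain W'] [IsDiscreteValuationRing W']
    [IsAdicComplete (maximalIdeal W) W] [IsAdicComplete (maximalIdeal W') W']
    (v : W →+* W') (hmap : (maximalIdeal W).map v = maximalIdeal W')
    (hsurj : Function.Surjective ((residue W').comp v)) : Function.Bijective v := by
  obtain ⟨ϖ, hϖ⟩ := IsDiscreteValuationRing.exists_irreducible W
  have hmax : maximalIdeal W = Ideal.span {ϖ} :=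
    (IsDiscreteValuationRing.irreducible_iff_uniformizer ϖ).mp hϖ
  have hvϖ : v ϖ ≠ 0 := by
    intro h
    have h1 : maximalIdeal W' = ⊥ := by
      rw [← hmap, hmax, Ideal.map_span, Set.image_singleton, h]
      exact Ideal.span_singleton_eq_bot.mpr rfl
    exact IsDiscreteValuationRing.not_a_field W' h1
  have hunit : ∀ w : W, IsUnit w → IsUnit (v w) := fun w hw => hw.map v
  constructor
  · rw [injective_iff_map_eq_zero]
    intro x hx
    by_contra hx0
    obtain ⟨n, w, hw⟩ := IsDiscreteValuationRing.eq_unit_mul_pow_irreducible hx0 hϖ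
    rw [hw, map_mul, map_pow] at hx
    rcases mul_eq_zero.mp hx with h | h
    · exact (w.isUnit.map v).ne_zero h
    · exact pow_ne_zero n hvϖ h
  · haveI : IsHausdorff ((maximalIdeal W).map v) W' := by
      rw [hmap]; infer_instance
    apply surjective_of_mk_map_comp_surjective (I := maximalIdeal W) v
    rw [hmap]
    exact hsurj

open IsLocalRing in
theorem s2482 {A B B' : Type u} [CommRing A] [IsDomain A] [IsDiscreteValuationRing A]
    [IsAdicComplete (maximalIdeal A) A]
    [CommRing B] [IsDomain B] [IsDiscreteValuationRing B] [IsAdicComplete (maximalIdeal B) B]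
    [CommRing B'] [IsDomain B'] [IsDiscreteValuationRing B'] [IsAdicComplete (maximalIdeal B') B']
    (u : A →+* B) [IsLocalHom u] (hu : (maximalIdeal A).map u = maximalIdeal B)
    (hsep : letI := (ResidueField.map u).toAlgebra;
      Algebra.IsGeometricallyReduced (ResidueField A) (ResidueField B))
    (u' : A →+* B') [IsLocalHom u'] (hu' : (maximalIdeal A).map u' = maximalIdeal B')
    (σ : ResidueField B ≃+* ResidueField B')
    (hσ : (σ : ResidueField B →+* ResidueField B').comp (ResidueField.map u) = ResidueField.map u') :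
    ∃ w : B ≃+* B', (w : B →+* B').comp u = u' ∧ ∀ b : B, residue B' (w b) = σ (residue B b) := by
  letI : Algebra A B := u.toAlgebra
  letI : Algebra A B' := u'.toAlgebra
  haveI : IsLocalHom (algebraMap A B) := ‹IsLocalHom u›
  haveI : IsLocalHom (algebraMap A B') := ‹IsLocalHom u'›
  -- `u` is injective
  obtain ⟨ϖ, hϖ⟩ := IsDiscreteValuationRing.exists_irreducible A
  have hmax : maximalIdeal A = Ideal.span {ϖ} :=
    (IsDiscreteValuationRing.irreducible_iff_uniformizer ϖ).mp hϖ
  have huϖ : u ϖ ≠ 0 := by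
    intro h
    have h1 : maximalIdeal B = ⊥ := by
      rw [← hu, hmax, Ideal.map_span, Set.image_singleton, h]
      exact Ideal.span_singleton_eq_bot.mpr rfl
    exact IsDiscreteValuationRing.not_a_field B h1
  have huinj : Function.Injective u := by
    rw [injective_iff_map_eq_zero]
    intro x hx
    by_contra hx0
    obtain ⟨n, w, hw⟩ := IsDiscreteValuationRing.eq_unit_mul_pow_irreducible hx0 hϖ
    rw [hw, map_mul, map_pow] at hx
    rcases mul_eq_zero.mp hx with h | h
    · exact (w.isUnit.map u).ne_zero h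
    · exact pow_ne_zero n huϖ h
  haveI : Module.IsTorsionFree A B := by
    refine ⟨fun a ha b₁ b₂ h => ?_⟩
    have ha0 : a ≠ 0 := ha.ne_zero
    change a • b₁ = a • b₂ at h
    rw [Algebra.smul_def, Algebra.smul_def] at h
    have h2 : algebraMap A B a ≠ 0 := fun h0 => ha0 (huinj (by rw [map_zero]; exact h0))
    exact mul_left_cancel₀ h2 h
  haveI : Module.Flat A B := inferInstance
  have halgeq : (ResidueField.map u).toAlgebra =
      (inferInstance : Algebra (ResidueField A) (ResidueField B)) := by
    apply Algebra.algebra_ext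
    intro r
    obtain ⟨a, rfl⟩ := residue_surjective r
    rfl
  have hsep' : Algebra.IsGeometricallyReduced (ResidueField A) (ResidueField B) := by
    have h := hsep
    rw [halgeq] at h
    exact h
  haveI : Algebra.FormallySmooth (ResidueField A) (ResidueField B) :=
    Groth.Agent.Helper1.FieldSmooth.formallySmooth_iff_isGeometricallyReduced.mpr hsep'
  have hm : (maximalIdeal A).map (algebraMap A B) = maximalIdeal B := hu
  -- the map on residue fields as an algebra map
  let u₁ : B →ₐ[A] B' ⧸ maximalIdeal B' :=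
    { (σ : ResidueField B →+* ResidueField B').comp (residue B) with
      commutes' := fun a => by
        change σ (residue B (u a)) = residue B' (u' a)
        have := RingHom.congr_fun hσ (residue A a)
        exact this }
  have hL : ∀ n : ℕ, ∀ g : B →ₐ[A] B' ⧸ maximalIdeal B' ^ (n + 1),
      ∃ g' : B →ₐ[A] B' ⧸ maximalIdeal B' ^ (n + 1 + 1),
        (Ideal.Quotient.factorₐ A (Ideal.pow_le_pow_right (Nat.le_succ (n + 1)))).comp g' = g := by
    intro n g
    refine cohen_lift_surj hm (Ideal.Quotient.factorₐ A (Ideal.pow_le_pow_right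
      (I := maximalIdeal B') (Nat.le_succ (n + 1))))
      (Ideal.Quotient.factor_surjective (Ideal.pow_le_pow_right (Nat.le_succ (n + 1))))
      ?_ (n + 1 + 1) ?_ g
    · refine ⟨n + 1 + 1, ?_⟩
      rw [Ideal.zero_eq_bot]
      refine le_bot_iff.mp ((Ideal.pow_right_mono (?_ : _ ≤ (maximalIdeal B').map
        (Ideal.Quotient.mk (maximalIdeal B' ^ (n + 1 + 1)))) _).trans ?_)
      · intro x hx
        obtain ⟨c, rfl⟩ := Ideal.Quotient.mk_surjective x
        have h2 : Ideal.Quotient.mk (maximalIdeal B' ^ (n + 1)) c = 0 := hx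
        rw [Ideal.Quotient.eq_zero_iff_mem] at h2
        exact Ideal.mem_map_of_mem _ (Ideal.pow_le_self (Nat.succ_ne_zero n) h2)
      · rw [← Ideal.map_pow, Ideal.map_quotient_self]
    · have h1 : algebraMap A (B' ⧸ maximalIdeal B' ^ (n + 1 + 1)) =
          (Ideal.Quotient.mk _).comp u' := rfl
      rw [h1, ← Ideal.map_map, Ideal.map_pow, hu', Ideal.map_quotient_self]
  obtain ⟨w, hw⟩ := exists_algHom_lift_of_complete (maximalIdeal B') hL u₁
  have hres : ∀ b : B, residue B' (w b) = σ (residue B b) := fun b => AlgHom.congr_fun hw b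
  have hwu : (w : B →+* B').comp u = u' := by
    ext a
    exact w.commutes a
  have hmapw : (maximalIdeal B).map (w : B →+* B') = maximalIdeal B' := by
    rw [← hu, Ideal.map_map, hwu, hu']
  have hbij : Function.Bijective (w : B →+* B') := by
    apply bijective_of_dvr _ hmapw
    intro y
    obtain ⟨z, rfl⟩ := σ.surjective y
    obtain ⟨b, rfl⟩ := residue_surjective z
    exact ⟨b, hres b⟩
  exact ⟨RingEquiv.ofBijective (w : B →+* B') hbij, hwu, hres⟩

end Groth.Agent.Helper7.Cohen
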