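import Mathlib
import Groth.Prelude.Def_CAlgX

set_option autoImplicit false
set_option linter.style.haveILetI false
set_option linter.unusedSectionVars false
universe u v w

namespace Groth.Agent.Helper7.Cohen

/-- adic formal smoothness gives liftings along nilpotent (not only square-zero) ideals -/
theorem exists_lift_nilpotent {k R : Type u} [CommRing k] [CommRing R] [Algebra k R] (𝔫 : Ideal R)
    (h : CAlgX.IsAdicFormallySmooth k R 𝔫) {C : Type u} [CommRing C] [Algebra k C] (J : Ideal C)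
    (hJ : IsNilpotent J) (g : R →ₐ[k] C ⧸ J) (hg : ∃ a : ℕ, ∀ x ∈ 𝔫 ^ a, g x = 0) :
    ∃ f : R →ₐ[k] C, (Ideal.Quotient.mkₐ k J).comp f = g := by
  revert g
  revert ‹Algebra k C›
  have hJ' := hJ
  revert hJ'
  apply Ideal.IsNilpotent.induction_on (S := C) J hJ
    (P := fun B _ I => IsNilpotent I → ∀ [Algebra k B] (g : R →ₐ[k] B ⧸ I),
      (∃ a : ℕ, ∀ x ∈ 𝔫 ^ a, g x = 0) → ∃ f : R →ₐ[k] B, (Ideal.Quotient.mkₐ k I).comp f = g)
  · intro B _ I hI _ _ g hg
    exact h B I hI g hg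
  · intro B _ I J hIJ h₁ h₂ hJnil _ g hg
    obtain ⟨N, hN⟩ := hJnil
    rw [Ideal.zero_eq_bot] at hN
    have hInil : IsNilpotent I := ⟨N, le_bot_iff.mp (hN ▸ Ideal.pow_right_mono hIJ N)⟩
    have hJmap : IsNilpotent (J.map (Ideal.Quotient.mk I)) := by
      refine ⟨N, ?_⟩
      rw [← Ideal.map_pow, hN, Ideal.map_bot]
      rfl
    let e : ((B ⧸ I) ⧸ J.map (Ideal.Quotient.mk I)) ≃ₐ[k] B ⧸ J :=
      { (DoubleQuot.quotQuotEquivQuotSup I J).trans
          (Ideal.quotEquivOfEq (sup_eq_right.mpr hIJ)) with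
        commutes' := fun x => rfl }
    obtain ⟨a, ha⟩ := hg
    obtain ⟨g', hg'⟩ := h₂ hJmap (e.symm.toAlgHom.comp g) ⟨a, fun x hx => by
      change e.symm (g x) = 0
      rw [ha x hx, map_zero]⟩
    have hg'cont : ∃ b : ℕ, ∀ x ∈ 𝔫 ^ b, g' x = 0 := by
      refine ⟨a * N, fun x hx => ?_⟩
      have h1 : ∀ y ∈ 𝔫 ^ a, g' y ∈ J.map (Ideal.Quotient.mk I) := by
        intro y hy
        have h2 := AlgHom.congr_fun hg' y
        have h3 : Ideal.Quotient.mk (J.map (Ideal.Quotient.mk I)) (g' y) = e.symm (g y) := h2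
        rw [ha y hy, map_zero, Ideal.Quotient.eq_zero_iff_mem] at h3
        exact h3
      have h4 : (𝔫 ^ (a * N)).map (g' : R →+* B ⧸ I) ≤ (J.map (Ideal.Quotient.mk I)) ^ N := by
        rw [pow_mul, Ideal.map_pow]
        apply Ideal.pow_right_mono
        rw [Ideal.map_le_iff_le_comap]
        intro y hy
        exact h1 y hy
      have h5 := h4 (Ideal.mem_map_of_mem _ hx)
      rw [← Ideal.map_pow, hN, Ideal.map_bot] at h5
      exact h5
    obtain ⟨f, rfl⟩ := h₁ hInil g' hg'cont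
    refine ⟨f, ?_⟩
    replace hg' := congr_arg e.toAlgHom.comp hg'
    conv_rhs at hg' =>
      rw [← AlgHom.comp_assoc, AlgEquiv.comp_symm, AlgHom.id_comp]
    exact hg'

/-- version for surjections with nilpotent kernel -/
theorem exists_lift_nilpotent_surj {k R : Type u} [CommRing k] [CommRing R] [Algebra k R]
    (𝔫 : Ideal R) (h : CAlgX.IsAdicFormallySmooth k R 𝔫) {E F : Type u} [CommRing E] [CommRing F]
    [Algebra k E] [Algebra k F] (π : E →ₐ[k] F) (hπ : Function.Surjective π)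
    (hnil : IsNilpotent (RingHom.ker (π : E →+* F)))
    (g : R →ₐ[k] F) (hg : ∃ a : ℕ, ∀ x ∈ 𝔫 ^ a, g x = 0) : ∃ v : R →ₐ[k] E, π.comp v = g := by
  let e := Ideal.quotientKerAlgEquivOfSurjective hπ
  obtain ⟨v, hv⟩ := exists_lift_nilpotent 𝔫 h (RingHom.ker (π : E →+* F)) hnil
    (e.symm.toAlgHom.comp g) (by
    obtain ⟨a, ha⟩ := hg
    refine ⟨a, fun x hx => ?_⟩
    change e.symm (g x) = 0
    rw [ha x hx, map_zero])
  refine ⟨v, ?_⟩
  ext b
  have h1 := congrArg (fun φ => e (φ b)) hv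
  have h2 : e (e.symm.toAlgHom (g b)) = g b := e.apply_symm_apply (g b)
  exact h1.trans h2

end Groth.Agent.Helper7.Cohen
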