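import Mathlib
import Groth.Prelude.Def_CAlgX
import Groth.Prelude.Def_EGA41
import Groth.Agent.Helper7.PSEval
import Groth.Agent.Helper1.FieldSmooth7
import Groth.Agent.Helper5.MvPSDim

set_option linter.style.haveILetI false
set_option linter.unusedSectionVars false
set_option autoImplicit false

/-! Power series rings over a formally smooth base are formally smooth for the adic topology. -/

namespace Groth.Agent.Helper7.PSSmooth

open MvPowerSeries Finsupp

universe u v w

section decomp

variable {R : Type*} [CommRing R] {d : ℕ}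

/-- A power series vanishing to order `N + 1` is a combination of the variables with
coefficients vanishing to order `N`. -/
theorem exists_decomp_order (N : ℕ) (q : MvPowerSeries (Fin d) R)
    (hq : ∀ e : Fin d →₀ ℕ, e.degree < N + 1 → coeff e q = 0) :
    ∃ g : Fin d → MvPowerSeries (Fin d) R, q = ∑ i, X i * g i ∧
      ∀ i (e : Fin d →₀ ℕ), e.degree < N → coeff e (g i) = 0 := by
  classical
  obtain ⟨G, hG⟩ : ∃ G : Fin d → MvPowerSeries (Fin d) R, ∀ i e, coeff e (G i) =
      if (∀ j < i, e j = 0) then coeff (e + single i 1) q else 0 :=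
    ⟨fun i => fun e => if (∀ j < i, e j = 0) then coeff (e + single i 1) q else 0, fun i e => rfl⟩
  refine ⟨G, ?_, ?_⟩
  · ext e
    rw [map_sum]
    have hterm : ∀ i : Fin d, coeff e (X i * G i)
        = if (1 ≤ e i ∧ ∀ j < i, e j = 0) then coeff e q else 0 := by
      intro i
      rw [X_def, coeff_monomial_mul, one_mul]
      have hle : single i 1 ≤ e ↔ 1 ≤ e i := Finsupp.single_le_iff
      by_cases h1 : 1 ≤ e i
      · rw [if_pos (hle.mpr h1), hG, tsub_add_cancel_of_le (hle.mpr h1)]
        have hcond : (∀ j < i, (e - single i 1 : Fin d →₀ ℕ) j = 0) ↔ ∀ j < i, e j = 0 := by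
          constructor
          · intro h j hj
            have := h j hj
            rw [Finsupp.tsub_apply, Finsupp.single_eq_of_ne (ne_of_lt hj), tsub_zero] at this
            exact this
          · intro h j hj
            rw [Finsupp.tsub_apply, Finsupp.single_eq_of_ne (ne_of_lt hj), tsub_zero]
            exact h j hj
        simp only [hcond, h1, true_and]
      · rw [if_neg (fun h => h1 (hle.mp h)), if_neg (fun h => h1 h.1)]
    rw [Finset.sum_congr rfl (fun i _ => hterm i)]
    by_cases he : e = 0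
    · subst he
      simp only [Finsupp.coe_zero, Pi.zero_apply, nonpos_iff_eq_zero, one_ne_zero, false_and,
        if_false, Finset.sum_const_zero]
      exact hq 0 (by simp)
    · have hsupp : e.support.Nonempty := Finsupp.support_nonempty_iff.mpr he
      obtain ⟨i₀, hi₀⟩ : ∃ i₀, i₀ = e.support.min' hsupp := ⟨_, rfl⟩
      have hi₀mem : i₀ ∈ e.support := hi₀ ▸ Finset.min'_mem _ _
      have hi₀min : ∀ j < i₀, e j = 0 := by
        intro j hj
        by_contra hne
        have : j ∈ e.support := Finsupp.mem_support_iff.mpr hne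
        have := Finset.min'_le _ _ this
        rw [← hi₀] at this
        exact absurd hj (not_lt.mpr this)
      rw [Finset.sum_eq_single i₀]
      · rw [if_pos ⟨Nat.one_le_iff_ne_zero.mpr (Finsupp.mem_support_iff.mp hi₀mem), hi₀min⟩]
      · intro i _ hne
        rw [if_neg]
        rintro ⟨h1, h2⟩
        rcases lt_or_gt_of_ne hne with h | h
        · have := hi₀min i h; omega
        · have := h2 i₀ h
          exact (Finsupp.mem_support_iff.mp hi₀mem) this
      · intro h; exact absurd (Finset.mem_univ _) h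
  · intro i e he
    rw [hG]
    split_ifs
    · apply hq
      rw [map_add, Finsupp.degree_single]
      omega
    · rfl

/-- power series vanishing to order `N` lie in the `N`-th power of the ideal of variables -/
theorem mem_pow_of_order : ∀ (N : ℕ) (q : MvPowerSeries (Fin d) R),
    (∀ e : Fin d →₀ ℕ, e.degree < N → coeff e q = 0) →
    q ∈ Ideal.span (Set.range (X : Fin d → MvPowerSeries (Fin d) R)) ^ N := by
  intro N
  induction N with
  | zero => intro q _; simp
  | succ N ih =>
    intro q hq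
    obtain ⟨g, hg, hg0⟩ := exists_decomp_order N q hq
    rw [hg, pow_succ']
    refine Ideal.sum_mem _ fun i _ => ?_
    exact Ideal.mul_mem_mul (Ideal.subset_span ⟨i, rfl⟩) (ih (g i) (hg0 i))

theorem sub_truncTotal_mem (N : ℕ) (f : MvPowerSeries (Fin d) R) :
    f - ((truncTotal N f : MvPolynomial (Fin d) R) : MvPowerSeries (Fin d) R) ∈
      Ideal.span (Set.range (X : Fin d → MvPowerSeries (Fin d) R)) ^ N := by
  apply mem_pow_of_order
  intro e he
  rw [map_sub, MvPolynomial.coeff_coe, coeff_truncTotal _ he, sub_self]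

end decomp

section nilp

/-- a ring is adically complete for a nilpotent ideal -/
theorem isAdicComplete_of_isNilpotent {C : Type*} [CommRing C] (I : Ideal C) (hI : IsNilpotent I) :
    IsAdicComplete I C := by
  obtain ⟨N, hN⟩ := hI
  have hbot : (I ^ N • ⊤ : Submodule C C) = ⊥ := by
    rw [hN]
    exact Submodule.bot_smul _
  haveI : IsHausdorff I C := by
    refine ⟨fun x hx => ?_⟩
    have := hx N
    rw [hbot, SModEq.bot] at this
    exact this
  haveI : IsPrecomplete I C := by
    refine ⟨fun f hf => ⟨f N, fun n => ?_⟩⟩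
    rcases le_total n N with h | h
    · exact hf h
    · have := hf h
      have e : f n = f N := by
        rw [hbot, SModEq.bot] at this
        exact this.symm
      rw [e]
  exact { }

variable {k : Type*} [CommRing k] {C : Type*} [CommRing C] [Algebra k C] {n : ℕ}

/-- evaluation of power series at nilpotent elements -/
theorem exists_eval_nilp (c : Fin n → C) (hc : ∀ i, IsNilpotent (c i)) :
    ∃ v : MvPowerSeries (Fin n) k →ₐ[k] C, (∀ i, v (X i) = c i) ∧
      ∃ N : ℕ, ∀ x ∈ Ideal.span (Set.range (X : Fin n → MvPowerSeries (Fin n) k)) ^ N, v x = 0 := by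
  have hfg : (Ideal.span (Set.range c)).FG := ⟨(Set.finite_range c).toFinset, by simp⟩
  have hnil : IsNilpotent (Ideal.span (Set.range c)) := by
    rw [hfg.isNilpotent_iff_le_nilradical, Ideal.span_le]
    rintro _ ⟨i, rfl⟩
    exact (mem_nilradical).2 (hc i)
  haveI := isAdicComplete_of_isNilpotent _ hnil
  obtain ⟨v, hv⟩ := Groth.Agent.Helper7.PSEval.exists_algHom_X (k := k)
    (Ideal.span (Set.range c)) c (fun i => Ideal.subset_span ⟨i, rfl⟩)
  refine ⟨v, hv, ?_⟩
  obtain ⟨N, hN⟩ := hnil
  refine ⟨N, fun x hx => ?_⟩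
  have h1 : v x ∈ (Ideal.span (Set.range (X : Fin n → MvPowerSeries (Fin n) k)) ^ N).map
      v.toRingHom := Ideal.mem_map_of_mem _ hx
  rw [Ideal.map_pow, Ideal.map_span] at h1
  have h2 : (v.toRingHom '' Set.range (X : Fin n → MvPowerSeries (Fin n) k)) = Set.range c := by
    ext y
    constructor
    · rintro ⟨_, ⟨i, rfl⟩, rfl⟩
      exact ⟨i, (hv i).symm⟩
    · rintro ⟨i, rfl⟩
      exact ⟨_, ⟨i, rfl⟩, hv i⟩
  rw [h2, hN] at h1
  exact h1

variable {D : Type*} [CommRing D] [Algebra k D]

/-- algebra homomorphisms out of a power series ring killing a power of the variables are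
determined by the images of the variables -/
theorem algHom_ext_of_pow (u v : MvPowerSeries (Fin n) k →ₐ[k] D) (huv : ∀ i, u (X i) = v (X i))
    (hu : ∃ N : ℕ, ∀ x ∈ Ideal.span (Set.range (X : Fin n → MvPowerSeries (Fin n) k)) ^ N, u x = 0)
    (hv : ∃ N : ℕ, ∀ x ∈ Ideal.span (Set.range (X : Fin n → MvPowerSeries (Fin n) k)) ^ N, v x = 0) :
    u = v := by
  obtain ⟨N₁, h₁⟩ := hu
  obtain ⟨N₂, h₂⟩ := hv
  have hpoly : u.comp (MvPolynomial.coeToMvPowerSeries.algHom k) =
      v.comp (MvPolynomial.coeToMvPowerSeries.algHom k) := by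
    apply MvPolynomial.algHom_ext
    intro i
    simp only [AlgHom.comp_apply, MvPolynomial.coeToMvPowerSeries.algHom_apply,
      MvPolynomial.coe_X, Algebra.algebraMap_self, map_id]
    exact huv i
  ext f
  have hmem := sub_truncTotal_mem (max N₁ N₂) f
  have e1 : u (f - ((truncTotal (max N₁ N₂) f : MvPolynomial (Fin n) k) :
      MvPowerSeries (Fin n) k)) = 0 :=
    h₁ _ (Ideal.pow_le_pow_right (le_max_left _ _) hmem)
  have e2 : v (f - ((truncTotal (max N₁ N₂) f : MvPolynomial (Fin n) k) :
      MvPowerSeries (Fin n) k)) = 0 :=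
    h₂ _ (Ideal.pow_le_pow_right (le_max_right _ _) hmem)
  have e3 := AlgHom.congr_fun hpoly (truncTotal (max N₁ N₂) f)
  simp only [AlgHom.comp_apply, MvPolynomial.coeToMvPowerSeries.algHom_apply,
    Algebra.algebraMap_self, map_id] at e3
  rw [map_sub, sub_eq_zero] at e1 e2
  rw [e1, e2]
  exact e3

end nilp

section main

variable {k : Type*} [CommRing k] {K : Type*} [CommRing K] [Algebra k K]
  [Algebra.FormallySmooth k K] {n : ℕ} {A : Type*} [CommRing A] [Algebra k A]

/-- the lifting property of power series rings over a formally smooth base -/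
theorem exists_lift (J : Ideal A) (hJ : IsNilpotent J)
    (ψ : MvPowerSeries (Fin n) K →ₐ[k] A ⧸ J)
    (hψ : ∃ m : ℕ, ∀ x ∈ Ideal.span (Set.range (X : Fin n → MvPowerSeries (Fin n) K)) ^ m,
      ψ x = 0) :
    ∃ χ : MvPowerSeries (Fin n) K →ₐ[k] A, (Ideal.Quotient.mkₐ k J).comp χ = ψ := by
  let ψK : K →ₐ[k] A ⧸ J :=
    ψ.comp (IsScalarTower.toAlgHom k K (MvPowerSeries (Fin n) K))
  let φ : K →ₐ[k] A := Algebra.FormallySmooth.lift J hJ ψK
  have hφ : ∀ a, Ideal.Quotient.mk J (φ a) = ψK a := Algebra.FormallySmooth.mk_lift J hJ ψK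
  letI : Algebra K A := φ.toRingHom.toAlgebra
  haveI : IsScalarTower k K A := IsScalarTower.of_algebraMap_eq (fun x => (φ.commutes x).symm)
  let ψ' : MvPowerSeries (Fin n) K →ₐ[K] A ⧸ J :=
    { ψ.toRingHom with
      commutes' := fun a => by
        change ψ (algebraMap K (MvPowerSeries (Fin n) K) a) = Ideal.Quotient.mk J (φ a)
        rw [hφ]
        rfl }
  have hψ' : ∀ f, ψ' f = ψ f := fun f => rfl
  choose c hc using fun i => Ideal.Quotient.mk_surjective (ψ (X i))
  obtain ⟨m, hm⟩ := hψ
  obtain ⟨N, hN⟩ := hJ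
  have hnil : ∀ i, IsNilpotent (c i) := by
    intro i
    have h1 : ψ (X i ^ m) = 0 := hm _ (Ideal.pow_mem_pow (Ideal.subset_span (Set.mem_range_self i)) m)
    have h2 : c i ^ m ∈ J := by
      rw [← Ideal.Quotient.eq_zero_iff_mem, map_pow, hc, ← map_pow, h1]
    refine ⟨m * N, ?_⟩
    rw [pow_mul]
    have : (c i ^ m) ^ N ∈ J ^ N := Ideal.pow_mem_pow h2 N
    rw [hN] at this
    exact this
  obtain ⟨v, hv, N', hvN⟩ := exists_eval_nilp (k := K) c hnil
  have key : (Ideal.Quotient.mkₐ K J).comp v = ψ' := by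
    apply algHom_ext_of_pow
    · intro i
      rw [AlgHom.comp_apply, hv, hψ', Ideal.Quotient.mkₐ_eq_mk, hc]
    · exact ⟨N', fun x hx => by rw [AlgHom.comp_apply, hvN x hx, map_zero]⟩
    · exact ⟨m, fun x hx => by rw [hψ']; exact hm x hx⟩
  refine ⟨v.restrictScalars k, ?_⟩
  ext f
  have := AlgHom.congr_fun key f
  exact this

end main

section statements

open Groth.Agent.Helper1.FieldSmooth

theorem s9321 (K : Type) [Field K] [CharZero K] (n : ℕ) :
    CAlgX.IsAdicFormallySmooth ℚ (MvPowerSeries (Fin n) K)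
      (IsLocalRing.maximalIdeal (MvPowerSeries (Fin n) K)) := by
  intro A _ _ J hJ ψ hψ
  haveI : Algebra.FormallySmooth ℚ K := formallySmooth_of_charZero
  rw [Groth.Agent.Helper5.MvPSDim.maximalIdeal_eq] at hψ
  exact exists_lift J ⟨2, hJ⟩ ψ hψ

theorem s9322 (p : ℕ) [Fact p.Prime] (L : Type) [Field L]
    [Algebra (ZMod p) L] (n : ℕ) :
    CAlgX.IsAdicFormallySmooth (ZMod p) (MvPowerSeries (Fin n) L)
      (IsLocalRing.maximalIdeal (MvPowerSeries (Fin n) L)) := by
  intro A _ _ J hJ ψ hψ
  haveI : CharP L p := charP_of_injective_algebraMap (algebraMap (ZMod p) L).injective p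
  haveI : Algebra.FormallySmooth (ZMod p) L :=
    formallySmooth_of_perfect p (fun a => ⟨a, ZMod.pow_card a⟩)
  rw [Groth.Agent.Helper5.MvPSDim.maximalIdeal_eq] at hψ
  exact exists_lift J ⟨2, hJ⟩ ψ hψ

theorem s4533 (A : Type u) [CommRing A] (𝔞 : Ideal A) (n : ℕ) :
    EGA41.IsFormallySmoothAdic A 𝔞 (MvPowerSeries (Fin n) A)
      (𝔞.map (MvPowerSeries.C : A →+* MvPowerSeries (Fin n) A) ⊔
        RingHom.ker (MvPowerSeries.constantCoeff : MvPowerSeries (Fin n) A →+* A)) := by
  intro C _ _ J hJ _ u hu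
  obtain ⟨m, hm⟩ := hu
  apply exists_lift J hJ u
  refine ⟨m, fun x hx => hm x (Ideal.pow_right_mono ?_ m hx)⟩
  refine le_trans ?_ le_sup_right
  rw [Ideal.span_le]
  rintro _ ⟨i, rfl⟩
  rw [SetLike.mem_coe, RingHom.mem_ker, MvPowerSeries.constantCoeff_X]

end statements

end Groth.Agent.Helper7.PSSmooth
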