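import Mathlib
import Groth.Prelude.Def_CAlgX
import Groth.Agent.Helper6.ComplDim
import Groth.Agent.Helper7.CohenO
import Groth.Agent.Helper7.CohenU1
import Groth.Agent.Helper7.CohenK
import Groth.Agent.Helper7.PSSmooth
import Groth.Agent.Helper8.AdicFS
import Groth.Agent.Helper8.AdicReg2
import Groth.Agent.Helper1.FieldSmooth7

set_option autoImplicit false
set_option linter.style.haveILetI false
set_option linter.unusedSectionVars false
universe u v w

namespace Groth.Agent.Helper7.Cohen

open IsLocalRing

section CF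

variable {k A : Type u} [Field k] [CommRing A] [IsLocalRing A] [IsNoetherianRing A] [Algebra k A]

/-- every residue class of the completion comes from the ring -/
theorem exists_residue_cpl (y : AdicCompletion (maximalIdeal A) A) :
    ∃ a : A, residue (AdicCompletion (maximalIdeal A) A) y =
      residue _ (algebraMap A (AdicCompletion (maximalIdeal A) A) a) := by
  obtain ⟨a, ha⟩ := Ideal.Quotient.mk_surjective (AdicCompletion.evalOneₐ (maximalIdeal A) y)
  refine ⟨a, ?_⟩
  rw [← sub_eq_zero, ← map_sub, residue_eq_zero_iff, AdicCompletion.maximalIdeal_eq_map,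
    ← AdicCompletion.ker_evalOneₐ_eq_map _ (maximalIdeal A).fg_of_isNoetherianRing,
    RingHom.mem_ker]
  change AdicCompletion.evalOneₐ (maximalIdeal A) (y - _) = 0
  rw [map_sub, sub_eq_zero, ← ha]
  exact (AdicCompletion.evalOneₐ_of (maximalIdeal A) a).symm

/-- a coefficient field of the completion containing the base field, when the residue field is
formally smooth over the base field -/
theorem exists_coeffField_cpl [Algebra.FormallySmooth k (ResidueField A)] :
    ∃ s : ResidueField A →ₐ[k] AdicCompletion (maximalIdeal A) A,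
      ∀ a : A, residue (AdicCompletion (maximalIdeal A) A) (s (residue A a)) =
        residue _ (algebraMap A (AdicCompletion (maximalIdeal A) A) a) := by
  let u : ResidueField A →ₐ[k] AdicCompletion (maximalIdeal A) A ⧸
      maximalIdeal (AdicCompletion (maximalIdeal A) A) :=
    { ResidueField.map (algebraMap A (AdicCompletion (maximalIdeal A) A)) with
      commutes' := fun x => by
        change ResidueField.map (algebraMap A (AdicCompletion (maximalIdeal A) A))
          (residue A (algebraMap k A x)) = _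
        rw [ResidueField.map_residue, ← IsScalarTower.algebraMap_apply]
        rfl }
  have hL : ∀ n : ℕ, ∀ g : ResidueField A →ₐ[k] AdicCompletion (maximalIdeal A) A ⧸
      maximalIdeal (AdicCompletion (maximalIdeal A) A) ^ (n + 1),
      ∃ g' : ResidueField A →ₐ[k] AdicCompletion (maximalIdeal A) A ⧸
        maximalIdeal (AdicCompletion (maximalIdeal A) A) ^ (n + 1 + 1),
        (Ideal.Quotient.factorₐ k (Ideal.pow_le_pow_right (Nat.le_succ (n + 1)))).comp g' = g := by
    intro n g
    obtain ⟨π, hπ⟩ : ∃ π : (AdicCompletion (maximalIdeal A) A ⧸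
        maximalIdeal (AdicCompletion (maximalIdeal A) A) ^ (n + 1 + 1)) →ₐ[k]
        (AdicCompletion (maximalIdeal A) A ⧸
        maximalIdeal (AdicCompletion (maximalIdeal A) A) ^ (n + 1)),
        π = Ideal.Quotient.factorₐ k (Ideal.pow_le_pow_right (Nat.le_succ (n + 1))) := ⟨_, rfl⟩
    rw [← hπ]
    have hsurj : Function.Surjective π := by
      rw [hπ]
      exact Ideal.Quotient.factor_surjective (Ideal.pow_le_pow_right (Nat.le_succ (n + 1)))
    have hnil : IsNilpotent (RingHom.ker (π : (AdicCompletion (maximalIdeal A) A ⧸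
        maximalIdeal (AdicCompletion (maximalIdeal A) A) ^ (n + 1 + 1)) →+*
        (AdicCompletion (maximalIdeal A) A ⧸
        maximalIdeal (AdicCompletion (maximalIdeal A) A) ^ (n + 1)))) := by
      refine ⟨n + 1 + 1, ?_⟩
      rw [Ideal.zero_eq_bot]
      refine le_bot_iff.mp ((Ideal.pow_right_mono (?_ : _ ≤
        (maximalIdeal (AdicCompletion (maximalIdeal A) A)).map
        (Ideal.Quotient.mk (maximalIdeal (AdicCompletion (maximalIdeal A) A) ^ (n + 1 + 1)))) _).trans
          ?_)
      · intro x hx
        obtain ⟨c, rfl⟩ := Ideal.Quotient.mk_surjective x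
        have h2 : Ideal.Quotient.mk (maximalIdeal (AdicCompletion (maximalIdeal A) A) ^ (n + 1)) c
            = 0 := by
          have h3 : π (Ideal.Quotient.mk _ c) = 0 := hx
          rw [hπ] at h3
          exact h3
        rw [Ideal.Quotient.eq_zero_iff_mem] at h2
        exact Ideal.mem_map_of_mem _ (Ideal.pow_le_self (Nat.succ_ne_zero n) h2)
      · rw [← Ideal.map_pow, Ideal.map_quotient_self]
    refine ⟨Algebra.FormallySmooth.liftOfSurjective g π hsurj hnil, ?_⟩
    ext x
    exact Algebra.FormallySmooth.liftOfSurjective_apply g π hsurj hnil x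
  obtain ⟨s, hs⟩ := exists_algHom_lift_of_complete
    (maximalIdeal (AdicCompletion (maximalIdeal A) A)) hL u
  refine ⟨s, fun a => ?_⟩
  have h1 := AlgHom.congr_fun hs (residue A a)
  exact h1

end CF

section MAIN

open MvPowerSeries

/-- transport of adic formal smoothness along an algebra isomorphism -/
theorem isAdicFormallySmooth_of_algEquiv {R S S' : Type u} [CommRing R] [CommRing S] [CommRing S']
    [Algebra R S] [Algebra R S'] (e : S' ≃ₐ[R] S) (𝔫 : Ideal S) (𝔫' : Ideal S')
    (h𝔫 : ∀ x, x ∈ 𝔫' ↔ e x ∈ 𝔫)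
    (h : CAlgX.IsAdicFormallySmooth R S 𝔫) : CAlgX.IsAdicFormallySmooth R S' 𝔫' := by
  intro B _ _ J hJ ψ hψ
  obtain ⟨m, hm⟩ := hψ
  have hmap : 𝔫 = 𝔫'.map e.toRingEquiv := by
    ext y
    rw [Ideal.mem_map_of_equiv e.toRingEquiv]
    constructor
    · intro hy
      exact ⟨e.symm y, (h𝔫 _).mpr (by simpa using hy), by simp⟩
    · rintro ⟨x, hx, rfl⟩
      exact (h𝔫 x).mp hx
  obtain ⟨χ, hχ⟩ := h B J hJ (ψ.comp (e.symm : S →ₐ[R] S')) ⟨m, fun x hx => by
    rw [hmap, ← Ideal.map_pow, Ideal.mem_map_of_equiv e.toRingEquiv] at hx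
    obtain ⟨y, hy, rfl⟩ := hx
    change ψ (e.symm (e y)) = 0
    rw [AlgEquiv.symm_apply_apply]
    exact hm y hy⟩
  refine ⟨χ.comp (e : S' →ₐ[R] S), ?_⟩
  ext x
  have := AlgHom.congr_fun hχ (e x)
  simpa using this

variable {k A : Type u} [Field k] [CommRing A] [IsLocalRing A] [IsNoetherianRing A] [Algebra k A]

theorem regular_of_smooth (h : CAlgX.IsAdicFormallySmooth k A (maximalIdeal A)) :
    IsRegularLocalRing A := by
  have h1 := (Groth.Agent.Helper8.AdicFS.s9318 (R := k) (maximalIdeal A)
    (maximalIdeal A).fg_of_isNoetherianRing).mp h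
  rw [← AdicCompletion.maximalIdeal_eq_map] at h1
  haveI : IsRegularLocalRing (AdicCompletion (maximalIdeal A) A) :=
    Groth.Agent.Helper8.AdicReg.isRegularLocalRing h1
  exact (Groth.Agent.Helper6.ComplDim.main_S19474 A (maximalIdeal A)
    (Ideal.IsMaximal.ne_top inferInstance)).2.mpr inferInstance

theorem regular_of_equiv {n : ℕ}
    (e : AdicCompletion (maximalIdeal A) A ≃+* MvPowerSeries (Fin n) (ResidueField A)) :
    IsRegularLocalRing A := by
  haveI := Groth.Agent.Helper5.MvPSDim.isRegular (ResidueField A) n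
  haveI : IsRegularLocalRing (AdicCompletion (maximalIdeal A) A) :=
    IsRegularLocalRing.of_ringEquiv e.symm
  exact (Groth.Agent.Helper6.ComplDim.main_S19474 A (maximalIdeal A)
    (Ideal.IsMaximal.ne_top inferInstance)).2.mpr inferInstance

theorem exists_equiv_of_regular [Algebra.FormallySmooth k (ResidueField A)]
    (hreg : IsRegularLocalRing A) :
    ∃ (n : ℕ) (e : AdicCompletion (maximalIdeal A) A ≃+* MvPowerSeries (Fin n) (ResidueField A)),
      ∀ x : k, e (algebraMap A (AdicCompletion (maximalIdeal A) A) (algebraMap k A x)) =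
        algebraMap (ResidueField A) (MvPowerSeries (Fin n) (ResidueField A))
          (algebraMap k (ResidueField A) x) := by
  haveI : IsRegularLocalRing (AdicCompletion (maximalIdeal A) A) :=
    (Groth.Agent.Helper6.ComplDim.main_S19474 A (maximalIdeal A)
      (Ideal.IsMaximal.ne_top inferInstance)).2.mp hreg
  obtain ⟨s, hs⟩ := exists_coeffField_cpl (k := k) (A := A)
  letI : Algebra (ResidueField A) (AdicCompletion (maximalIdeal A) A) := s.toRingHom.toAlgebra
  obtain ⟨d, ⟨e⟩⟩ := Groth.Agent.Helper7.CohenK.s9443 (AdicCompletion (maximalIdeal A) A)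
    (ResidueField A) (by
      refine ⟨RingHom.injective _, fun y => ?_⟩
      obtain ⟨y', rfl⟩ := residue_surjective y
      obtain ⟨a, ha⟩ := exists_residue_cpl y'
      refine ⟨residue A a, ?_⟩
      rw [ha, ← hs a]
      rfl)
  refine ⟨d, e.toRingEquiv, fun x => ?_⟩
  have h1 : algebraMap A (AdicCompletion (maximalIdeal A) A) (algebraMap k A x) =
      algebraMap (ResidueField A) (AdicCompletion (maximalIdeal A) A)
        (algebraMap k (ResidueField A) x) := by
    rw [← IsScalarTower.algebraMap_apply k A (AdicCompletion (maximalIdeal A) A)]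
    exact (s.commutes x).symm
  rw [h1]
  exact e.commutes _

theorem smooth_of_equiv [Algebra.FormallySmooth k (ResidueField A)] {n : ℕ}
    (e : AdicCompletion (maximalIdeal A) A ≃+* MvPowerSeries (Fin n) (ResidueField A))
    (he : ∀ x : k, e (algebraMap A (AdicCompletion (maximalIdeal A) A) (algebraMap k A x)) =
        algebraMap (ResidueField A) (MvPowerSeries (Fin n) (ResidueField A))
          (algebraMap k (ResidueField A) x)) :
    CAlgX.IsAdicFormallySmooth k A (maximalIdeal A) := by
  rw [Groth.Agent.Helper8.AdicFS.s9318 (R := k) (maximalIdeal A)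
    (maximalIdeal A).fg_of_isNoetherianRing, ← AdicCompletion.maximalIdeal_eq_map]
  let e' : AdicCompletion (maximalIdeal A) A ≃ₐ[k] MvPowerSeries (Fin n) (ResidueField A) :=
    AlgEquiv.ofRingEquiv (f := e) (fun x => by
      rw [IsScalarTower.algebraMap_apply k A (AdicCompletion (maximalIdeal A) A), he x,
        ← IsScalarTower.algebraMap_apply])
  refine isAdicFormallySmooth_of_algEquiv e'
    (maximalIdeal (MvPowerSeries (Fin n) (ResidueField A))) _ (fun x => ?_) ?_
  · change x ∈ maximalIdeal _ ↔ e x ∈ maximalIdeal _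
    rw [mem_maximalIdeal, mem_maximalIdeal, mem_nonunits_iff, mem_nonunits_iff,
      MulEquiv.isUnit_map]
  · intro B _ _ J hJ ψ hψ
    rw [Groth.Agent.Helper5.MvPSDim.maximalIdeal_eq] at hψ
    exact Groth.Agent.Helper7.PSSmooth.exists_lift J ⟨2, hJ⟩ ψ hψ

theorem s2453 [Algebra.IsGeometricallyReduced k (ResidueField A)] :
    [CAlgX.IsAdicFormallySmooth k A (maximalIdeal A),
     ∃ (n : ℕ) (e : AdicCompletion (maximalIdeal A) A ≃+* MvPowerSeries (Fin n) (ResidueField A)),
       ∀ x : k, e (algebraMap A (AdicCompletion (maximalIdeal A) A) (algebraMap k A x)) =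
         algebraMap (ResidueField A) (MvPowerSeries (Fin n) (ResidueField A))
           (algebraMap k (ResidueField A) x),
     ∃ n : ℕ, Nonempty (AdicCompletion (maximalIdeal A) A ≃+*
       MvPowerSeries (Fin n) (ResidueField A)),
     IsRegularLocalRing A].TFAE := by
  haveI : Algebra.FormallySmooth k (ResidueField A) :=
    Groth.Agent.Helper1.FieldSmooth.formallySmooth_iff_isGeometricallyReduced.mpr inferInstance
  tfae_have 1 → 4 := regular_of_smooth
  tfae_have 4 → 2 := exists_equiv_of_regular
  tfae_have 2 → 3 := fun ⟨n, e, _⟩ => ⟨n, ⟨e⟩⟩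
  tfae_have 3 → 4 := fun ⟨n, ⟨e⟩⟩ => regular_of_equiv e
  tfae_have 2 → 1 := fun ⟨n, e, he⟩ => smooth_of_equiv e he
  tfae_finish

end MAIN

end Groth.Agent.Helper7.Cohen
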