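import Mathlib
import Groth.Prelude.Def_EGA41
import Groth.Agent.Helper7.CohenT3
import Groth.Agent.Helper5.ComplDVR
import Groth.Agent.Lead.RegLocal
import Groth.Agent.Helper4.RegSop
import Groth.Agent.Helper6.ComplDim
import Groth.Agent.Helper7.CohenU2

set_option autoImplicit false
set_option linter.style.haveILetI false
set_option linter.unusedSectionVars false
universe u v w

namespace Groth.Agent.Helper7.Cohen

open MvPowerSeries IsLocalRing TensorProduct

/-- a quotient of a complete Noetherian local ring is complete -/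
theorem isAdicComplete_quotient {S : Type*} [CommRing S] [IsLocalRing S] [IsNoetherianRing S]
    [IsAdicComplete (maximalIdeal S) S] (J : Ideal S) [IsLocalRing (S ⧸ J)] :
    IsAdicComplete (maximalIdeal (S ⧸ J)) (S ⧸ J) := by
  have h1 : IsPrecomplete (maximalIdeal S) (S ⧸ J) :=
    Groth.Agent.Helper5.ComplDVR.isPrecomplete_of_finite (maximalIdeal S) (S ⧸ J)
  have h2 : IsHausdorff (maximalIdeal S) (S ⧸ J) := inferInstance
  have h3 : IsAdicComplete (maximalIdeal S) (S ⧸ J) := { }
  have h4 : (maximalIdeal S).map (algebraMap S (S ⧸ J)) = maximalIdeal (S ⧸ J) :=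
    IsLocalRing.map_maximalIdeal_of_surjective _ Ideal.Quotient.mk_surjective
  rw [← h4, IsAdicComplete.map_algebraMap_iff]
  exact h3

/-- a surjection from a domain onto a ring of the same finite dimension is injective -/
theorem injective_of_surjective_of_dim_eq {P Q : Type*} [CommRing P] [IsDomain P] [CommRing Q]
    (φ : P →+* Q) (hφ : Function.Surjective φ) {d : ℕ}
    (hP : ringKrullDim P = ((d : ℕ) : WithBot ℕ∞)) (hQ : ringKrullDim Q = ((d : ℕ) : WithBot ℕ∞)) :
    Function.Injective φ := by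
  rw [injective_iff_map_eq_zero]
  intro x hx
  by_contra hx0
  have hnzd : x ∈ nonZeroDivisors P := mem_nonZeroDivisors_of_ne_zero hx0
  have h1 := ringKrullDim_quotient_succ_le_of_nonZeroDivisor hnzd
  have hle : Ideal.span {x} ≤ RingHom.ker φ := by
    rw [Ideal.span_le, Set.singleton_subset_iff]
    exact hx
  have h2 : ringKrullDim Q ≤ ringKrullDim (P ⧸ Ideal.span {x}) :=
    ringKrullDim_le_of_surjective (Ideal.Quotient.lift _ φ (fun a ha => hle ha))
      (Ideal.Quotient.lift_surjective_of_surjective _ _ hφ)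
  rw [hP] at h1
  rw [hQ] at h2
  have h3 : ((d : ℕ) : WithBot ℕ∞) + 1 ≤ ((d : ℕ) : WithBot ℕ∞) := (add_le_add_left h2 1).trans h1
  have h4 : ((d + 1 : ℕ) : WithBot ℕ∞) ≤ ((d : ℕ) : WithBot ℕ∞) := by
    push_cast
    exact h3
  have h5 : d + 1 ≤ d := by exact_mod_cast h4
  omega

/-- base change along a surjection: `A ⊗[R] S ≅ T` when `R → A` and `S → T` are surjective and the
kernel of the second is generated by the kernel of the first -/
theorem tensor_bijective_of_surjective {R A S T : Type*} [CommRing R] [CommRing A] [CommRing S]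
    [CommRing T] [Algebra R A] [Algebra R S] [Algebra A T] [Algebra S T] [Algebra R T]
    [IsScalarTower R A T] [IsScalarTower R S T]
    (hA : Function.Surjective (algebraMap R A))
    (hT : Function.Surjective (algebraMap S T))
    (hker : RingHom.ker (algebraMap S T) = (RingHom.ker (algebraMap R A)).map (algebraMap R S)) :
    Function.Bijective (Algebra.TensorProduct.lift (Algebra.ofId A T) (IsScalarTower.toAlgHom R S T)
      (fun _ _ => Commute.all _ _) : A ⊗[R] S →ₐ[A] T) := by
  have hone : ∀ z : A ⊗[R] S, ∃ s : S, z = 1 ⊗ₜ s := by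
    intro z
    induction z using TensorProduct.induction_on with
    | zero => exact ⟨0, by simp⟩
    | tmul a s =>
      obtain ⟨r, rfl⟩ := hA a
      refine ⟨r • s, ?_⟩
      rw [Algebra.algebraMap_eq_smul_one, TensorProduct.smul_tmul]
    | add x y hx hy =>
      obtain ⟨s, rfl⟩ := hx
      obtain ⟨t, rfl⟩ := hy
      exact ⟨s + t, by rw [TensorProduct.tmul_add]⟩
  constructor
  · rw [injective_iff_map_eq_zero]
    intro z hz
    obtain ⟨s, rfl⟩ := hone z
    rw [Algebra.TensorProduct.lift_tmul, map_one, one_mul] at hz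
    have hs : s ∈ RingHom.ker (algebraMap S T) := hz
    rw [hker] at hs
    -- elements of the extended ideal die in the tensor product
    have key : ∀ s ∈ (RingHom.ker (algebraMap R A)).map (algebraMap R S),
        (1 : A) ⊗ₜ[R] s = 0 := by
      intro s hs
      refine Submodule.span_induction ?_ ?_ ?_ ?_ hs
      · rintro _ ⟨j, hj, rfl⟩
        have hj0 : algebraMap R A j = 0 := hj
        rw [Algebra.algebraMap_eq_smul_one, ← TensorProduct.smul_tmul,
          ← Algebra.algebraMap_eq_smul_one, hj0, TensorProduct.zero_tmul]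
      · exact TensorProduct.tmul_zero _ _
      · intro a b _ _ ha hb
        rw [TensorProduct.tmul_add, ha, hb, add_zero]
      · intro c a _ ha
        have h1 : (1 : A) ⊗ₜ[R] (c • a) = ((1 : A) ⊗ₜ[R] c) * ((1 : A) ⊗ₜ[R] a) := by
          rw [Algebra.TensorProduct.tmul_mul_tmul, one_mul, smul_eq_mul]
        rw [h1, ha, mul_zero]
    exact key s hs
  · intro t
    obtain ⟨s, rfl⟩ := hT t
    exact ⟨1 ⊗ₜ s, by rw [Algebra.TensorProduct.lift_tmul, map_one, one_mul]; rfl⟩

section core

variable {A B : Type u} [CommRing A] [CommRing B]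
    [IsLocalRing A] [IsLocalRing B] [IsNoetherianRing A] [IsNoetherianRing B]
    [IsAdicComplete (maximalIdeal A) A] [IsAdicComplete (maximalIdeal B) B]
    [Algebra A B] [IsLocalHom (algebraMap A B)]
    {Λ Λ' : Type u} [CommRing Λ] [CommRing Λ'] [IsLocalRing Λ] [IsLocalRing Λ']
    [IsRegularRing Λ] [IsRegularRing Λ']
    [IsAdicComplete (maximalIdeal Λ) Λ] [IsAdicComplete (maximalIdeal Λ') Λ']

/-- a flat complete local lift of a complete regular local ring killed by the maximal ideal of the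
base, in terms of coefficient rings -/
theorem exists_flat_lift_aux (q ε : ℕ) (hε1 : q ≠ 0 → ε = 1) (hΛ : EGA41.IsCohenRingEGA Λ)
    (hmax : maximalIdeal Λ = Ideal.span {(q : Λ)}) (hmax' : maximalIdeal Λ' = Ideal.span {(q : Λ')})
    (hdim : ∀ d, ringKrullDim (MvPowerSeries (Fin d) Λ) = ((d + ε : ℕ) : WithBot ℕ∞))
    (hdim' : ∀ d, ringKrullDim (MvPowerSeries (Fin d) Λ') = ((d + ε : ℕ) : WithBot ℕ∞))
    (v : Λ →+* A) (hv : Function.Surjective ((Ideal.Quotient.mk (maximalIdeal A)).comp v))
    [hvloc : IsLocalHom v]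
    (v' : Λ' →+* B) (hv' : Function.Surjective ((Ideal.Quotient.mk (maximalIdeal B)).comp v'))
    (hB : IsRegularLocalRing B) (hkill : ∀ a ∈ maximalIdeal A, algebraMap A B a = 0) :
    ∃ (B' : Type u) (_ : CommRing B') (_ : IsLocalRing B') (_ : IsNoetherianRing B')
      (_ : Algebra A B') (_ : IsLocalHom (algebraMap A B')),
      IsAdicComplete (maximalIdeal B') B' ∧ Module.Flat A B' ∧
      ∃ g : B' →ₐ[A] B, Function.Surjective g ∧
        RingHom.ker (g : B' →+* B) = (maximalIdeal A).map (algebraMap A B') := by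
  classical
  obtain ⟨m, hm⟩ : ∃ m : ℕ, ringKrullDim B = ((m : ℕ) : WithBot ℕ∞) :=
    ⟨_, IsRegularLocalRing.spanFinrank_maximalIdeal.symm⟩
  obtain ⟨y, hy, -⟩ := Groth.Agent.Helper4.RegSop.exists_quasiRegular B m hm
  obtain ⟨σ₀, hσ₀s, -, -⟩ := exists_surj_ps_of v' hv' y hy
  obtain ⟨n, ρ, σ, τ, s, hρ, hσ, hcomm, hsm, hτ⟩ :=
    exists_compatible_of q hΛ hmax' v hv σ₀ hσ₀s
  obtain ⟨hflat, hreg, hdimQ, hIle⟩ :=
    flat_and_regular' q ε hε1 hmax hmax' hdim hdim' τ s hsm hτ
  haveI : IsRegularLocalRing (MvPowerSeries (Fin (m + n)) Λ') :=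
    isRegularLocalRing_mvPowerSeries Λ' (m + n)
  haveI hSc : IsAdicComplete (maximalIdeal (MvPowerSeries (Fin (m + n)) Λ'))
      (MvPowerSeries (Fin (m + n)) Λ') := isAdicComplete_mvPowerSeries (q : Λ') hmax' (m + n)
  obtain ⟨I, hI⟩ : ∃ I, I = (maximalIdeal (MvPowerSeries (Fin n) Λ)).map τ := ⟨_, rfl⟩
  obtain ⟨K, hK⟩ : ∃ K, K = (RingHom.ker ρ).map τ := ⟨_, rfl⟩
  rw [← hI] at hreg hdimQ hIle
  have hkerρ : RingHom.ker ρ ≤ maximalIdeal (MvPowerSeries (Fin n) Λ) :=
    IsLocalRing.le_maximalIdeal (RingHom.ker_ne_top ρ)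
  have hKI : K ≤ I := by rw [hK, hI]; exact Ideal.map_mono hkerρ
  have hItop : I ≠ ⊤ := fun h => (maximalIdeal.isMaximal _).ne_top (top_le_iff.mp (h ▸ hIle))
  have hKtop : K ≠ ⊤ := fun h => hItop (top_le_iff.mp (h ▸ hKI))
  haveI : Nontrivial (MvPowerSeries (Fin (m + n)) Λ' ⧸ K) := Ideal.Quotient.nontrivial_iff.mpr hKtop
  haveI : IsLocalRing (MvPowerSeries (Fin (m + n)) Λ' ⧸ K) :=
    IsLocalRing.of_surjective' (Ideal.Quotient.mk K) Ideal.Quotient.mk_surjective
  haveI : IsAdicComplete (maximalIdeal (MvPowerSeries (Fin (m + n)) Λ' ⧸ K))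
      (MvPowerSeries (Fin (m + n)) Λ' ⧸ K) := isAdicComplete_quotient K
  haveI : Nontrivial (MvPowerSeries (Fin (m + n)) Λ' ⧸ I) := Ideal.Quotient.nontrivial_iff.mpr hItop
  haveI : IsLocalRing (MvPowerSeries (Fin (m + n)) Λ' ⧸ I) :=
    IsLocalRing.of_surjective' (Ideal.Quotient.mk I) Ideal.Quotient.mk_surjective
  haveI : IsRegularLocalRing (MvPowerSeries (Fin (m + n)) Λ' ⧸ I) :=
    IsRegularLocalRing.of_isRegularRing_of_isLocalRing _
  haveI : IsDomain (MvPowerSeries (Fin (m + n)) Λ' ⧸ I) :=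
    Groth.Agent.Lead.RegLocal.isDomain_of_isRegularLocalRing _
  -- the structure map
  obtain ⟨eρ, heρ⟩ : ∃ eρ : (MvPowerSeries (Fin n) Λ ⧸ RingHom.ker ρ) ≃+* A,
      ∀ r, eρ (Ideal.Quotient.mk _ r) = ρ r :=
    ⟨RingHom.quotientKerEquivOfSurjective hρ,
      fun r => RingHom.quotientKerEquivOfSurjective_apply_mk hρ r⟩
  obtain ⟨θ, hθ⟩ : ∃ θ : A →+* MvPowerSeries (Fin (m + n)) Λ' ⧸ K,
      ∀ r, θ (ρ r) = Ideal.Quotient.mk K (τ r) := by
    refine ⟨(Ideal.quotientMap K τ (by rw [hK]; exact Ideal.le_comap_map)).comp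
      (eρ.symm : A →+* MvPowerSeries (Fin n) Λ ⧸ RingHom.ker ρ), fun r => ?_⟩
    have h1 : eρ.symm (ρ r) = Ideal.Quotient.mk _ r := by
      rw [RingEquiv.symm_apply_eq]; exact (heρ r).symm
    rw [RingHom.comp_apply]
    change Ideal.quotientMap K τ _ (eρ.symm (ρ r)) = _
    rw [h1, Ideal.quotientMap_mk]
  letI algAB' : Algebra A (MvPowerSeries (Fin (m + n)) Λ' ⧸ K) := θ.toAlgebra
  have hρm : (maximalIdeal (MvPowerSeries (Fin n) Λ)).map ρ = maximalIdeal A :=
    IsLocalRing.map_maximalIdeal_of_surjective ρ hρ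
  have hσI : I ≤ RingHom.ker σ := by
    rw [hI, Ideal.map_le_iff_le_comap]
    intro x hx
    rw [Ideal.mem_comap, RingHom.mem_ker]
    have h1 := RingHom.congr_fun hcomm x
    rw [RingHom.comp_apply, RingHom.comp_apply] at h1
    rw [h1]
    exact hkill _ (hρm ▸ Ideal.mem_map_of_mem ρ hx)
  have hσbar : Function.Injective (Ideal.Quotient.lift I σ (fun a ha => hσI ha)) :=
    injective_of_surjective_of_dim_eq _ (Ideal.Quotient.lift_surjective_of_surjective _ _ hσ)
      hdimQ hm
  have hkerσ : RingHom.ker σ = I := by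
    refine le_antisymm (fun x hx => ?_) hσI
    have h1 : Ideal.Quotient.lift I σ (fun a ha => hσI ha) (Ideal.Quotient.mk I x) = 0 := by
      rw [Ideal.Quotient.lift_mk]; exact hx
    have h2 := hσbar (h1.trans (map_zero _).symm)
    exact Ideal.Quotient.eq_zero_iff_mem.mp h2
  obtain ⟨g₀, hg₀⟩ : ∃ g₀ : MvPowerSeries (Fin (m + n)) Λ' ⧸ K →+* B,
      ∀ x, g₀ (Ideal.Quotient.mk K x) = σ x :=
    ⟨Ideal.Quotient.lift K σ (fun a ha => hσI (hKI ha)), fun x => Ideal.Quotient.lift_mk _ _ _⟩
  have hg₀θ : ∀ a, g₀ (θ a) = algebraMap A B a := by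
    intro a
    obtain ⟨r, rfl⟩ := hρ a
    rw [hθ, hg₀]
    exact RingHom.congr_fun hcomm r
  have hmapθ : (maximalIdeal A).map θ = I.map (Ideal.Quotient.mk K) := by
    rw [← hρm, Ideal.map_map, hI, Ideal.map_map]
    congr 1
    exact RingHom.ext hθ
  refine ⟨MvPowerSeries (Fin (m + n)) Λ' ⧸ K, inferInstance, inferInstance, inferInstance, algAB',
    ?_, inferInstance, ?_, { g₀ with commutes' := hg₀θ }, ?_, ?_⟩
  · change IsLocalHom θ
    refine ((IsLocalRing.local_hom_TFAE θ).out 0 2).mpr ?_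
    rw [hmapθ, ← IsLocalRing.map_maximalIdeal_of_surjective (Ideal.Quotient.mk K)
      Ideal.Quotient.mk_surjective]
    exact Ideal.map_mono hIle
  · letI algRA : Algebra (MvPowerSeries (Fin n) Λ) A := ρ.toAlgebra
    letI algRS : Algebra (MvPowerSeries (Fin n) Λ) (MvPowerSeries (Fin (m + n)) Λ') := τ.toAlgebra
    haveI : Module.Flat (MvPowerSeries (Fin n) Λ) (MvPowerSeries (Fin (m + n)) Λ') := hflat
    haveI : IsScalarTower (MvPowerSeries (Fin n) Λ) A (MvPowerSeries (Fin (m + n)) Λ' ⧸ K) :=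
      IsScalarTower.of_algebraMap_eq (fun r => (hθ r).symm)
    have hbij := tensor_bijective_of_surjective (R := MvPowerSeries (Fin n) Λ) (A := A)
      (S := MvPowerSeries (Fin (m + n)) Λ') (T := MvPowerSeries (Fin (m + n)) Λ' ⧸ K)
      hρ Ideal.Quotient.mk_surjective (by
        rw [Ideal.Quotient.algebraMap_eq, Ideal.mk_ker, hK]
        rfl)
    exact Module.Flat.of_linearEquiv (AlgEquiv.ofBijective _ hbij).symm.toLinearEquiv
  · intro b
    obtain ⟨x, rfl⟩ := hσ b
    exact ⟨Ideal.Quotient.mk K x, hg₀ x⟩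
  · change RingHom.ker g₀ = (maximalIdeal A).map θ
    rw [hmapθ]
    apply le_antisymm
    · intro x hx
      obtain ⟨z, rfl⟩ := Ideal.Quotient.mk_surjective x
      rw [RingHom.mem_ker, hg₀] at hx
      have hz : z ∈ I := hkerσ ▸ hx
      exact Ideal.mem_map_of_mem _ hz
    · rw [Ideal.map_le_iff_le_comap]
      intro z hz
      rw [Ideal.mem_comap, RingHom.mem_ker, hg₀]
      exact hσI hz

end core

/-- a flat complete local lift over a complete base -/
theorem exists_flat_lift_complete {A B : Type u} [CommRing A] [CommRing B]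
    [IsLocalRing A] [IsLocalRing B] [IsNoetherianRing A] [IsNoetherianRing B]
    [IsAdicComplete (maximalIdeal A) A] [IsAdicComplete (maximalIdeal B) B]
    [Algebra A B] [IsLocalHom (algebraMap A B)]
    (hB : IsRegularLocalRing B) (hkill : ∀ a ∈ maximalIdeal A, algebraMap A B a = 0) :
    ∃ (B' : Type u) (_ : CommRing B') (_ : IsLocalRing B') (_ : IsNoetherianRing B')
      (_ : Algebra A B') (_ : IsLocalHom (algebraMap A B')),
      IsAdicComplete (maximalIdeal B') B' ∧ Module.Flat A B' ∧
      ∃ g : B' →ₐ[A] B, Function.Surjective g ∧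
        RingHom.ker (g : B' →+* B) = (maximalIdeal A).map (algebraMap A B') := by
  obtain ⟨q, hqA⟩ : ∃ q, CharP (ResidueField A) q := ⟨ringChar _, ringChar.charP _⟩
  haveI : CharP (ResidueField B) q :=
    charP_of_injective_ringHom (ResidueField.map (algebraMap A B)).injective q
  obtain ⟨Λ, _, v, hΛ, hv⟩ := exists_coeffRing' A q
  obtain ⟨Λ', _, v', hΛ', hv'⟩ := exists_coeffRing' B q
  rcases hΛ with ⟨hF, hchar, hq0⟩ | ⟨hdom, hdvr, hc, hqp, hmax⟩
  · rcases hΛ' with ⟨hF', hchar', -⟩ | ⟨_, _, _, hqp', _⟩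
    swap
    · exact absurd hqp' (by rw [hq0]; exact Nat.not_prime_zero)
    letI := hF.toField
    letI := hF'.toField
    have hmax : maximalIdeal Λ = Ideal.span {(q : Λ)} := by
      rw [hq0, Nat.cast_zero, IsLocalRing.maximalIdeal_eq_bot]
      exact (Ideal.span_singleton_eq_bot.mpr rfl).symm
    have hmax' : maximalIdeal Λ' = Ideal.span {(q : Λ')} := by
      rw [hq0, Nat.cast_zero, IsLocalRing.maximalIdeal_eq_bot]
      exact (Ideal.span_singleton_eq_bot.mpr rfl).symm
    exact exists_flat_lift_aux (A := A) (B := B) q 0 (fun h => absurd hq0 h)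
      (Or.inl ⟨hF, hchar⟩) hmax hmax' (ringKrullDim_mvPowerSeries_field Λ)
      (ringKrullDim_mvPowerSeries_field Λ') v hv v' hv' hB hkill
  · rcases hΛ' with ⟨-, -, hq0⟩ | ⟨hdom', hdvr', hc', -, hmax'⟩
    · exact absurd hqp (by rw [hq0]; exact Nat.not_prime_zero)
    haveI := hdom
    haveI := hdvr
    haveI := hc
    haveI := hdom'
    haveI := hdvr'
    haveI := hc'
    have hqA' : (q : A) ∈ maximalIdeal A := by
      rw [← Ideal.Quotient.eq_zero_iff_mem, map_natCast]
      exact CharP.cast_eq_zero (ResidueField A) q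
    haveI : IsLocalHom v := by
      refine ⟨fun x hx => ?_⟩
      by_contra hxu
      have hxm : x ∈ maximalIdeal Λ := (mem_maximalIdeal _).mpr hxu
      rw [hmax, Ideal.mem_span_singleton'] at hxm
      obtain ⟨y, rfl⟩ := hxm
      rw [map_mul, map_natCast] at hx
      exact (mem_maximalIdeal _).mp (Ideal.mul_mem_left _ _ hqA') hx
    exact exists_flat_lift_aux (A := A) (B := B) q 1 (fun _ => rfl)
      (Or.inr ⟨hdom, hdvr, hc, q, hqp, hmax⟩) hmax hmax' (ringKrullDim_mvPowerSeries_dvr Λ)
      (ringKrullDim_mvPowerSeries_dvr Λ') v hv v' hv' hB hkill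

/-- existence of a flat complete local algebra with prescribed complete regular closed fibre -/
theorem s4514 {A : Type u} [CommRing A] [IsLocalRing A] [IsNoetherianRing A]
    (B₀ : Type u) [CommRing B₀] [IsRegularLocalRing B₀] [IsAdicComplete (maximalIdeal B₀) B₀]
    [Algebra (ResidueField A) B₀] :
    ∃ (B : Type u) (_ : CommRing B) (_ : IsLocalRing B) (_ : IsNoetherianRing B) (_ : Algebra A B)
      (_ : IsLocalHom (algebraMap A B)),
      IsAdicComplete (maximalIdeal B) B ∧ Module.Flat A B ∧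
        Nonempty (ResidueField A ⊗[A] B ≃ₐ[ResidueField A] B₀) := by
  -- the residue field of the completion
  have hφ : Function.Bijective
      (ResidueField.map (algebraMap A (AdicCompletion (maximalIdeal A) A))) := by
    refine ⟨RingHom.injective _, fun y => ?_⟩
    obtain ⟨y', rfl⟩ := residue_surjective y
    obtain ⟨a, ha⟩ := exists_residue_cpl y'
    exact ⟨residue A a, by rw [ResidueField.map_residue]; exact ha.symm⟩
  obtain ⟨γ, hγ⟩ : ∃ γ : ResidueField (AdicCompletion (maximalIdeal A) A) →+* ResidueField A,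
      ∀ a : A, γ (residue _ (algebraMap A (AdicCompletion (maximalIdeal A) A) a)) = residue A a := by
    refine ⟨((RingEquiv.ofBijective _ hφ).symm : _ →+* _), fun a => ?_⟩
    change (RingEquiv.ofBijective _ hφ).symm _ = _
    rw [RingEquiv.symm_apply_eq]
    exact (ResidueField.map_residue _ a).symm
  obtain ⟨α, hα⟩ : ∃ α : AdicCompletion (maximalIdeal A) A →+* B₀,
      α = (algebraMap (ResidueField A) B₀).comp
        (γ.comp (residue (AdicCompletion (maximalIdeal A) A))) := ⟨_, rfl⟩
  have hαι : ∀ a : A, α (algebraMap A (AdicCompletion (maximalIdeal A) A) a) =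
      algebraMap (ResidueField A) B₀ (residue A a) := by
    intro a
    rw [hα, RingHom.comp_apply, RingHom.comp_apply, hγ]
  have hkill : ∀ x ∈ maximalIdeal (AdicCompletion (maximalIdeal A) A), α x = 0 := by
    intro x hx
    rw [hα, RingHom.comp_apply, RingHom.comp_apply, (residue_eq_zero_iff x).mpr hx, map_zero,
      map_zero]
  letI algÂB₀ : Algebra (AdicCompletion (maximalIdeal A) A) B₀ := α.toAlgebra
  haveI : IsLocalHom (algebraMap (AdicCompletion (maximalIdeal A) A) B₀) := by
    refine ⟨fun x hx => ?_⟩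
    by_contra hxu
    have h0 : α x = 0 := hkill x ((mem_maximalIdeal x).mpr hxu)
    have hx' : IsUnit (α x) := hx
    rw [h0] at hx'
    exact not_isUnit_zero hx'
  obtain ⟨B', _, _, _, _, _, hcompl, hflat, g, hg, hker⟩ :=
    exists_flat_lift_complete (A := AdicCompletion (maximalIdeal A) A) (B := B₀) inferInstance hkill
  letI algAB' : Algebra A B' :=
    ((algebraMap (AdicCompletion (maximalIdeal A) A) B').comp
      (algebraMap A (AdicCompletion (maximalIdeal A) A))).toAlgebra
  haveI : IsScalarTower A (AdicCompletion (maximalIdeal A) A) B' :=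
    IsScalarTower.of_algebraMap_eq (fun _ => rfl)
  refine ⟨B', inferInstance, inferInstance, inferInstance, algAB', ?_, hcompl,
    Module.Flat.trans A (AdicCompletion (maximalIdeal A) A) B', ?_⟩
  · refine ⟨fun a ha => ?_⟩
    have h1 : IsUnit (algebraMap (AdicCompletion (maximalIdeal A) A) B'
        (algebraMap A (AdicCompletion (maximalIdeal A) A) a)) := ha
    exact isUnit_of_map_unit (algebraMap A (AdicCompletion (maximalIdeal A) A)) a
      (isUnit_of_map_unit (algebraMap (AdicCompletion (maximalIdeal A) A) B') _ h1)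
  · letI algAB₀ : Algebra A B₀ :=
      ((algebraMap (ResidueField A) B₀).comp (algebraMap A (ResidueField A))).toAlgebra
    haveI : IsScalarTower A (ResidueField A) B₀ := IsScalarTower.of_algebraMap_eq (fun _ => rfl)
    letI algB'B₀ : Algebra B' B₀ := (g : B' →+* B₀).toAlgebra
    haveI : IsScalarTower A B' B₀ := by
      refine IsScalarTower.of_algebraMap_eq (fun a => ?_)
      change algebraMap (ResidueField A) B₀ (residue A a) =
        g (algebraMap (AdicCompletion (maximalIdeal A) A) B'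
          (algebraMap A (AdicCompletion (maximalIdeal A) A) a))
      rw [g.commutes]
      exact (hαι a).symm
    have hbij := tensor_bijective_of_surjective (R := A) (A := ResidueField A) (S := B') (T := B₀)
      residue_surjective hg (by
        have h1 : RingHom.ker (algebraMap A (ResidueField A)) = maximalIdeal A := by
          ext a
          rw [RingHom.mem_ker]
          exact residue_eq_zero_iff a
        rw [h1]
        change RingHom.ker (g : B' →+* B₀) = _
        rw [hker, AdicCompletion.maximalIdeal_eq_map, Ideal.map_map]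
        rfl)
    exact ⟨AlgEquiv.ofBijective _ hbij⟩

end Groth.Agent.Helper7.Cohen
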