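import Mathlib
import Groth.Agent.Helper6.GorenFinDim

/-!
# Double annihilators in self-injective rings; zero-dimensional Gorenstein local rings are
self-injective
-/

set_option autoImplicit false
set_option linter.unusedSectionVars false

namespace Groth.Agent.Helper7.Liais11

open CategoryTheory IsLocalRing

universe u

section dblann

variable {B : Type u} [CommRing B] [hinj : Module.Injective B B]

/-- the ideal of elements killing `a` -/
def ann (a : Ideal B) : Ideal B where
  carrier := {y | ∀ z ∈ a, y * z = 0}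
  add_mem' := by
    intro x y hx hy z hz
    rw [add_mul, hx z hz, hy z hz, add_zero]
  zero_mem' := by
    intro z _
    exact zero_mul z
  smul_mem' := by
    intro c x hx z hz
    rw [smul_eq_mul, mul_assoc, hx z hz, mul_zero]

lemma mem_ann {a : Ideal B} {y : B} : y ∈ ann a ↔ ∀ z ∈ a, y * z = 0 := Iff.rfl

lemma le_ann_ann (a : Ideal B) : a ≤ ann (ann a) := by
  intro x hx y hy
  rw [mul_comm]
  exact hy x hx

/-- principal case -/
lemma ann_ann_span_singleton (a : B) : ann (ann (Ideal.span {a})) = Ideal.span {a} := by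
  apply le_antisymm _ (le_ann_ann _)
  intro x hx
  -- `ann a ⊆ ann x`
  have hax : ∀ r : B, r * a = 0 → r * x = 0 := by
    intro r hr
    have : r ∈ ann (Ideal.span {a}) := by
      intro z hz
      obtain ⟨c, rfl⟩ := Ideal.mem_span_singleton'.1 hz
      rw [mul_comm c a, ← mul_assoc, hr, zero_mul]
    rw [mul_comm]
    exact hx r this
  -- the maps `B/ann(a) → B`
  let K : Ideal B := LinearMap.ker (LinearMap.toSpanSingleton B B a)
  let f : (B ⧸ K) →ₗ[B] B := K.liftQ (LinearMap.toSpanSingleton B B a) le_rfl
  have hf : Function.Injective f := by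
    rw [← LinearMap.ker_eq_bot]
    exact Submodule.ker_liftQ_eq_bot _ _ _ le_rfl
  let g : (B ⧸ K) →ₗ[B] B := K.liftQ (LinearMap.toSpanSingleton B B x) (by
    intro r hr
    rw [LinearMap.mem_ker, LinearMap.toSpanSingleton_apply, smul_eq_mul] at hr ⊢
    exact hax r hr)
  obtain ⟨h, hh⟩ := Module.Injective.extension_property B B (B ⧸ K) B f hf g
  have h1 : h a = x := by
    have := congrArg (fun φ => φ (Submodule.Quotient.mk 1)) hh
    simp only [LinearMap.comp_apply] at this
    have e1 : f (Submodule.Quotient.mk 1) = a := by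
      show LinearMap.toSpanSingleton B B a 1 = a
      simp
    have e2 : g (Submodule.Quotient.mk 1) = x := by
      show LinearMap.toSpanSingleton B B x 1 = x
      simp
    rw [e1, e2] at this
    exact this
  rw [Ideal.mem_span_singleton']
  refine ⟨h 1, ?_⟩
  rw [← h1, mul_comm, ← smul_eq_mul, ← map_smul, smul_eq_mul, mul_one]

/-- additivity -/
lemma ann_ann_sup (a b : Ideal B) (ha : ann (ann a) = a) (hb : ann (ann b) = b) :
    ann (ann (a ⊔ b)) = a ⊔ b := by
  apply le_antisymm _ (le_ann_ann _)
  intro x hx
  -- `x` kills `ann a ⊓ ann b`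
  have hx' : ∀ r : B, r ∈ ann a → r ∈ ann b → r * x = 0 := by
    intro r hra hrb
    have : r ∈ ann (a ⊔ b) := by
      intro z hz
      obtain ⟨z1, hz1, z2, hz2, rfl⟩ := Submodule.mem_sup.1 hz
      rw [mul_add, hra z1 hz1, hrb z2 hz2, add_zero]
    rw [mul_comm]
    exact hx r this
  let K : Ideal B := ann a ⊓ ann b
  let f : (B ⧸ K) →ₗ[B] (B ⧸ ann a) × (B ⧸ ann b) :=
    K.liftQ (LinearMap.prod (Submodule.mkQ (ann a)) (Submodule.mkQ (ann b))) (by
      intro r hr
      rw [LinearMap.mem_ker, LinearMap.prod_apply, Prod.mk_eq_zero]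
      exact ⟨(Submodule.Quotient.mk_eq_zero _).2 hr.1, (Submodule.Quotient.mk_eq_zero _).2 hr.2⟩)
  have hf : Function.Injective f := by
    rw [← LinearMap.ker_eq_bot]
    apply Submodule.ker_liftQ_eq_bot
    intro r hr
    rw [LinearMap.mem_ker, LinearMap.prod_apply, Prod.mk_eq_zero] at hr
    exact ⟨(Submodule.Quotient.mk_eq_zero _).1 hr.1, (Submodule.Quotient.mk_eq_zero _).1 hr.2⟩
  let g : (B ⧸ K) →ₗ[B] B := K.liftQ (LinearMap.toSpanSingleton B B x) (by
    intro r hr
    rw [LinearMap.mem_ker, LinearMap.toSpanSingleton_apply, smul_eq_mul]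
    exact hx' r hr.1 hr.2)
  obtain ⟨h, hh⟩ := Module.Injective.extension_property B B (B ⧸ K) _ f hf g
  set u : B := h (Submodule.Quotient.mk 1, 0) with hu
  set v : B := h (0, Submodule.Quotient.mk 1) with hv
  have hxuv : x = u + v := by
    have := congrArg (fun φ => φ (Submodule.Quotient.mk 1)) hh
    simp only [LinearMap.comp_apply] at this
    have e1 : f (Submodule.Quotient.mk 1) = (Submodule.Quotient.mk 1, Submodule.Quotient.mk 1) := rfl
    have e2 : g (Submodule.Quotient.mk 1) = x := by
      show LinearMap.toSpanSingleton B B x 1 = x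
      simp
    rw [e1, e2] at this
    rw [← this, hu, hv, ← map_add, Prod.mk_add_mk, add_zero, zero_add]
  have hua : u ∈ ann (ann a) := by
    intro r hr
    rw [hu, mul_comm, ← smul_eq_mul, ← map_smul, Prod.smul_mk, smul_zero]
    have : r • (Submodule.Quotient.mk 1 : B ⧸ ann a) = 0 := by
      rw [← Submodule.Quotient.mk_smul, smul_eq_mul, mul_one]
      exact (Submodule.Quotient.mk_eq_zero _).2 hr
    rw [this]
    exact map_zero h
  have hvb : v ∈ ann (ann b) := by
    intro r hr
    rw [hv, mul_comm, ← smul_eq_mul, ← map_smul, Prod.smul_mk, smul_zero]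
    have : r • (Submodule.Quotient.mk 1 : B ⧸ ann b) = 0 := by
      rw [← Submodule.Quotient.mk_smul, smul_eq_mul, mul_one]
      exact (Submodule.Quotient.mk_eq_zero _).2 hr
    rw [this]
    exact map_zero h
  rw [ha] at hua
  rw [hb] at hvb
  rw [hxuv]
  exact Submodule.add_mem_sup hua hvb

lemma ann_ann_bot : ann (ann (⊥ : Ideal B)) = ⊥ := by
  have := ann_ann_span_singleton (B := B) 0
  rwa [Ideal.span_singleton_eq_bot.2 rfl] at this

/-- in a self-injective ring, `ann (ann a) = a` for finitely generated ideals -/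
theorem ann_ann_of_fg (a : Ideal B) (ha : a.FG) : ann (ann a) = a := by
  refine Submodule.fg_induction (R := B) (M := B)
    (motive := fun (a : Ideal B) _ => ann (ann a) = a) ?_ ?_ a ha
  · intro x
    exact ann_ann_span_singleton x
  · intro a b _ _ ha hb
    exact ann_ann_sup a b ha hb

end dblann

section gor

variable (B : Type u) [CommRing B] [hG : LocCoh.IsGorensteinLocalRing B]

/-- a zero-dimensional Gorenstein local ring is self-injective -/
theorem injective_of_gorenstein_dim_zero (hdim : ringKrullDim B = 0) : Module.Injective B B := by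
  have : IsNoetherianRing B := hG.toIsNoetherian
  have : IsLocalRing B := hG.toIsLocalRing
  obtain ⟨-, hvan⟩ := Groth.Agent.Helper6.Bass.gorenstein_top (A := B) 0 (by rw [hdim]; rfl)
  have h1 : HasInjectiveDimensionLT (ModuleCat.of B B) (0 + 1) :=
    Groth.Agent.Helper6.Bass.hasInjectiveDimensionLT_of_ext_residueField B 0
      (fun i hi => hvan _ i hi)
  have h2 : Injective (ModuleCat.of B B) := injective_iff_hasInjectiveDimensionLT_one.2 h1
  exact Module.injective_module_of_injective_object B B

end gor

end Groth.Agent.Helper7.Liais11
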