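import Mathlib
import Groth.Prelude.Def_CAlg
import Groth.Agent.Helper2.DepthLocHom
import Groth.Agent.Helper5.CMBC2
import Groth.Agent.Lead.CMCl
import Groth.Agent.Helper7.GorQuot1

/-!
# Cohen–Macaulay rings modulo a regular element (helper7)
-/

set_option autoImplicit false
set_option linter.unusedSectionVars false
set_option linter.style.haveILetI false

namespace Groth.Agent.Helper7.CMQuot

open IsLocalRing Groth.Agent.Helper2 Pointwise

universe u

section Local

variable (A : Type u) [CommRing A] [IsNoetherianRing A] [IsLocalRing A] (x : A)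

theorem isLocalRing_quotient (hx : x ∈ maximalIdeal A) : IsLocalRing (A ⧸ Ideal.span {x}) := by
  haveI : Nontrivial (A ⧸ Ideal.span {x}) := by
    rw [Ideal.Quotient.nontrivial_iff]
    intro h
    rw [Ideal.span_singleton_eq_top] at h
    exact (mem_maximalIdeal x).1 hx h
  exact IsLocalRing.of_surjective' (Ideal.Quotient.mk (Ideal.span {x}))
    Ideal.Quotient.mk_surjective

/-- the depth drops by one modulo a regular element -/
theorem depth_quotient_succ (hx : x ∈ maximalIdeal A) (hreg : IsSMulRegular A x)
    [IsLocalRing (A ⧸ Ideal.span {x})] :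
    LocCoh.depth (A ⧸ Ideal.span {x}) (A ⧸ Ideal.span {x}) + 1 = LocCoh.depth A A := by
  have hIM := Depth.smul_top_ne_top A A
  have h1 := DepthCM.idealDepth_quotSMulTop (maximalIdeal A) A hIM x hx hreg
  have heq : x • (⊤ : Submodule A A) = Ideal.span {x} := by
    rw [← Submodule.ideal_span_singleton_smul, smul_eq_mul, Ideal.mul_top]
  have e : QuotSMulTop x A ≃ₗ[A] A ⧸ Ideal.span {x} := Submodule.quotEquivOfEq _ _ heq
  rw [DepthCM.idealDepth_congr (maximalIdeal A) e] at h1
  haveI : IsLocalHom (algebraMap A (A ⧸ Ideal.span {x})) :=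
    IsLocalHom.of_surjective _ Ideal.Quotient.mk_surjective
  have hne : LocCoh.depth A (A ⧸ Ideal.span {x}) ≠ ⊤ :=
    DepthCM.idealDepth_ne_top (maximalIdeal A) _ (Depth.smul_top_ne_top A _)
  obtain ⟨n, hn⟩ := ENat.ne_top_iff_exists.mp hne
  have h2 := DepthLocHom.key A (A ⧸ Ideal.span {x}) n (A ⧸ Ideal.span {x}) hn.symm
  rw [h2]
  show _ = LocCoh.idealDepth (maximalIdeal A) A
  rw [← h1]
  show _ = LocCoh.depth A (A ⧸ Ideal.span {x}) + 1
  rw [← hn]

/-- **a Noetherian local ring is Cohen–Macaulay iff its quotient by a regular element is** -/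
theorem cmLocal_quotient_iff (hx : x ∈ maximalIdeal A) (hreg : IsSMulRegular A x) :
    LocCoh.IsCohenMacaulayLocalRing A ↔ LocCoh.IsCohenMacaulayLocalRing (A ⧸ Ideal.span {x}) := by
  haveI := isLocalRing_quotient A x hx
  have hd := depth_quotient_succ A x hx hreg
  have hk := ringKrullDim_quotient_span_singleton_succ_eq_ringKrullDim hreg hx
  rw [Groth.Agent.Helper5.CMBC.cm_iff_dim_eq_depth, Groth.Agent.Helper5.CMBC.cm_iff_dim_eq_depth,
    ← hk, ← hd]
  push_cast
  exact ENat.WithBot.add_one_cancel

end Local

section Global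

/-- Cohen–Macaulayness of a localisation and of the localisation of the quotient by a regular
element -/
theorem cmLocal_locQuot_iff {B : Type u} [CommRing B] [IsNoetherianRing B] (f : B)
    (hreg : IsSMulRegular B f) (q : Ideal B) [q.IsPrime] (hfq : f ∈ q)
    (Q : Ideal (B ⧸ Ideal.span {f})) [Q.IsPrime]
    (hQ : Q.comap (Ideal.Quotient.mk (Ideal.span {f})) = q) :
    LocCoh.IsCohenMacaulayLocalRing (Localization.AtPrime q) ↔
      LocCoh.IsCohenMacaulayLocalRing (Localization.AtPrime Q) := by
  let A := Localization.AtPrime q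
  haveI : IsNoetherianRing A := IsLocalization.isNoetherianRing q.primeCompl _ inferInstance
  have hfm : algebraMap B A f ∈ maximalIdeal A :=
    (IsLocalization.AtPrime.to_map_mem_maximal_iff A q f).2 hfq
  have hfreg : IsSMulRegular A (algebraMap B A f) := hreg.of_flat
  rw [cmLocal_quotient_iff A (algebraMap B A f) hfm hfreg]
  obtain ⟨e⟩ := Groth.Agent.Helper7.GorQuot.nonempty_locQuot_equiv (Ideal.span {f}) q Q hQ
  rw [Ideal.map_span, Set.image_singleton] at e
  constructor
  · intro h
    exact Groth.Agent.Lead.CMCl.cm_of_ringEquiv e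
  · intro h
    exact Groth.Agent.Lead.CMCl.cm_of_ringEquiv e.symm

/-- **the quotient of a Cohen–Macaulay ring by a regular element is Cohen–Macaulay** -/
theorem cm_quotient {B : Type u} [CommRing B] [hB : LocCoh.IsCohenMacaulayRing B] (f : B)
    (hreg : IsSMulRegular B f) : LocCoh.IsCohenMacaulayRing (B ⧸ Ideal.span {f}) :=
  { toIsNoetherian := inferInstance
    isCohenMacaulayLocalRing_localization := fun Q hQ => by
      have hfq : f ∈ Q.comap (Ideal.Quotient.mk (Ideal.span {f})) := by
        rw [Ideal.mem_comap]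
        have : Ideal.Quotient.mk (Ideal.span {f}) f = 0 :=
          Ideal.Quotient.eq_zero_iff_mem.2 (Ideal.mem_span_singleton_self f)
        rw [this]
        exact zero_mem _
      exact (cmLocal_locQuot_iff f hreg _ hfq Q rfl).1
        (hB.isCohenMacaulayLocalRing_localization _) }

/-- the localisation at a prime containing a regular element `f` is Cohen–Macaulay if `B/f` is a
Cohen–Macaulay ring -/
theorem cmLocal_of_quotient {B : Type u} [CommRing B] [IsNoetherianRing B] (f : B)
    (hreg : IsSMulRegular B f) (q : Ideal B) [hq : q.IsPrime] (hfq : f ∈ q)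
    [hG : LocCoh.IsCohenMacaulayRing (B ⧸ Ideal.span {f})] :
    LocCoh.IsCohenMacaulayLocalRing (Localization.AtPrime q) := by
  have hker : RingHom.ker (Ideal.Quotient.mk (Ideal.span {f})) ≤ q := by
    rw [Ideal.mk_ker, Ideal.span_singleton_le_iff_mem]
    exact hfq
  set Q : Ideal (B ⧸ Ideal.span {f}) := q.map (Ideal.Quotient.mk (Ideal.span {f})) with hQdef
  haveI hQp : Q.IsPrime := Ideal.map_isPrime_of_surjective Ideal.Quotient.mk_surjective hker
  have hcomap : Q.comap (Ideal.Quotient.mk (Ideal.span {f})) = q := by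
    rw [hQdef, Ideal.comap_map_of_surjective _ Ideal.Quotient.mk_surjective,
      ← RingHom.ker_eq_comap_bot, sup_eq_left.2 hker]
  exact (cmLocal_locQuot_iff f hreg q hfq Q hcomap).2
    (hG.isCohenMacaulayLocalRing_localization Q)

end Global

end Groth.Agent.Helper7.CMQuot
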