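import Mathlib
import Groth.Prelude.Def_CAlg
import Groth.Agent.Helper6.Bass5
import Groth.Agent.Helper2.DepthLocHom

/-!
# Vanishing of `Ext^j(N, A)` over a Gorenstein local ring above `dim A - depth N` (helper7)
-/

set_option autoImplicit false
set_option linter.unusedSectionVars false
set_option linter.style.haveILetI false

namespace Groth.Agent.Helper7.GorLink

open CategoryTheory Abelian Groth.Agent.Helper1.TorLib IsLocalRing RingTheory.Sequence
  Groth.Agent.Helper6.Bass Pointwise

universe u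

variable {A : Type u} [CommRing A]

section SES

variable (N : Type u) [AddCommGroup N] [Module A N] (x : A)

/-- multiplication by `x` on `N` -/
def mulx : N →ₗ[A] N := x • LinearMap.id

theorem mulx_apply (n : N) : mulx N x n = x • n := rfl

theorem mulx_injective (hx : IsSMulRegular N x) : Function.Injective (mulx N x) := hx

theorem mulx_exact : Function.Exact (mulx N x) (Submodule.mkQ (x • (⊤ : Submodule A N))) := by
  intro n
  rw [Submodule.mkQ_apply, Submodule.Quotient.mk_eq_zero]
  constructor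
  · intro h
    obtain ⟨m, -, rfl⟩ := (Submodule.mem_smul_pointwise_iff_exists _ _ _).mp h
    exact ⟨m, rfl⟩
  · rintro ⟨m, rfl⟩
    exact Submodule.smul_mem_pointwise_smul m x ⊤ Submodule.mem_top

end SES

/-- **Ext vanishing over a Gorenstein local ring**: if `N` admits a regular sequence of length
`t` in the maximal ideal, then `Ext^j(N, A) = 0` for `j > dim A - t` -/
theorem ext_subsingleton_of_regular [LocCoh.IsGorensteinLocalRing A] (d : ℕ)
    (hd : ringKrullDim A = d) (rs : List A) :
    ∀ (N : Type u) [AddCommGroup N] [Module A N] [Module.Finite A N],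
      IsWeaklyRegular N rs → (∀ r ∈ rs, r ∈ maximalIdeal A) →
      ∀ j : ℕ, d + 1 ≤ j + rs.length →
        Subsingleton (Ext (ModuleCat.of A N) (ModuleCat.of A A) j) := by
  induction rs with
  | nil =>
    intro N _ _ _ _ _ j hj
    exact (gorenstein_top (A := A) d hd).2 N j (by simpa using hj)
  | cons x rs ih =>
    intro N _ _ _ hreg hmem j hj
    rw [isWeaklyRegular_cons_iff] at hreg
    obtain ⟨hx, hrs⟩ := hreg
    have hxm : x ∈ maximalIdeal A := hmem x (List.mem_cons_self)
    have h3 : Subsingleton (Ext (ModuleCat.of A (QuotSMulTop x N)) (ModuleCat.of A A) (j + 1)) :=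
      ih (QuotSMulTop x N) hrs (fun r hr => hmem r (List.mem_cons_of_mem _ hr)) (j + 1) (by
        rw [List.length_cons] at hj; omega)
    refine subsingleton_of_smul_surjective A N j x hxm (fun e => ?_)
    have hT := scOfLinear_shortExact (mulx N x) (Submodule.mkQ (x • (⊤ : Submodule A N)))
      (mulx_injective N x hx) (Submodule.mkQ_surjective _) (mulx_exact N x)
    obtain ⟨e₂, he₂⟩ := exists_comp_eq_smul hT (ModuleCat.of A A) j 1
      (fun e' => @Subsingleton.elim _ h3 _ _) e
    refine ⟨e₂, ?_⟩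
    rw [one_smul] at he₂
    refine Eq.trans ?_ he₂
    exact (mk₀_smul_id_comp x (ModuleCat.of A N) (ModuleCat.of A A) j e₂).symm


/-- if `Ext^1(A/I, A) = 0`, every linear map `I → A` is multiplication by an element -/
theorem exists_mul_of_hom (I : Ideal A)
    (h : Subsingleton (Ext (ModuleCat.of A (A ⧸ I)) (ModuleCat.of A A) 1)) (φ : I →ₗ[A] A) :
    ∃ c : A, ∀ i : I, φ i = c * (i : A) := by
  have hT := scOfLinear_shortExact (Submodule.subtype I) (Submodule.mkQ I)
    I.injective_subtype (Submodule.mkQ_surjective I) (LinearMap.exact_subtype_mkQ I)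
  let e₁ : Ext (ModuleCat.of A I) (ModuleCat.of A A) 0 := Ext.mk₀ (ModuleCat.ofHom φ)
  obtain ⟨e₂, he₂⟩ := Ext.contravariant_sequence_exact₁ hT (ModuleCat.of A A) e₁ (add_comm 1 0)
    (@Subsingleton.elim _ h _ _)
  obtain ⟨ψ, rfl⟩ := (Ext.mk₀_bijective _ _).2 e₂
  rw [Ext.mk₀_comp_mk₀] at he₂
  have h2 := (Ext.mk₀_bijective _ _).1 he₂
  let ψ' : A →ₗ[A] A := ψ.hom
  refine ⟨ψ' (1 : A), fun i => ?_⟩
  have h3 : φ i = ψ' (i : A) := by
    have := congrArg (fun f => f.hom i) h2
    exact this.symm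
  rw [h3]
  have h4 : ((i : A) : A) = (i : A) • (1 : A) := by rw [smul_eq_mul, mul_one]
  conv_lhs => rw [h4]
  rw [map_smul, smul_eq_mul, mul_comm]


section CM

variable [LocCoh.IsGorensteinLocalRing A] (I : Ideal A) [hCM : LocCoh.IsCohenMacaulayLocalRing (A ⧸ I)]

include hCM in
/-- a regular sequence of maximal length on a Cohen–Macaulay quotient of maximal dimension -/
theorem exists_regular_of_cm (d : ℕ) (hd : ringKrullDim A = d)
    (hI : ringKrullDim (A ⧸ I) = ringKrullDim A) :
    ∃ rs : List A, IsWeaklyRegular (A ⧸ I) rs ∧ (∀ r ∈ rs, r ∈ maximalIdeal A) ∧ rs.length = d := by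
  haveI : IsLocalHom (algebraMap A (A ⧸ I)) :=
    IsLocalHom.of_surjective _ Ideal.Quotient.mk_surjective
  have hIM := Groth.Agent.Helper2.Depth.smul_top_ne_top A (A ⧸ I)
  obtain ⟨rs, h1, h2, -, h4⟩ :=
    Groth.Agent.Helper2.DepthCM.exists_length_eq_idealDepth (maximalIdeal A) (A ⧸ I) hIM
  refine ⟨rs, h1, h2, ?_⟩
  have h5 : LocCoh.depth A (A ⧸ I) = (rs.length : ℕ∞) := h4.symm
  have h6 := Groth.Agent.Helper2.DepthLocHom.key A (A ⧸ I) rs.length (A ⧸ I) h5
  have h7 := hCM.supportDim_eq_depth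
  rw [Module.supportDim_self_eq_ringKrullDim, hI, hd, h6] at h7
  have h8 : ((d : ℕ∞) : WithBot ℕ∞) = ((rs.length : ℕ∞) : WithBot ℕ∞) := h7
  exact_mod_cast h8.symm

include hCM in
theorem ext_one_subsingleton (hI : ringKrullDim (A ⧸ I) = ringKrullDim A) :
    Subsingleton (Ext (ModuleCat.of A (A ⧸ I)) (ModuleCat.of A A) 1) := by
  have hfin : (maximalIdeal A).height ≠ ⊤ := Ideal.height_ne_top (Ideal.IsPrime.ne_top inferInstance)
  obtain ⟨d, hd⟩ := ENat.ne_top_iff_exists.mp hfin
  have hdim : ringKrullDim A = ((d : ℕ) : WithBot ℕ∞) := by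
    rw [← IsLocalRing.maximalIdeal_height_eq_ringKrullDim, ← hd]
    rfl
  obtain ⟨rs, h1, h2, h3⟩ := exists_regular_of_cm I d hdim hI
  exact ext_subsingleton_of_regular d hdim rs (A ⧸ I) h1 h2 1 (by omega)

end CM

end Groth.Agent.Helper7.GorLink
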