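import Mathlib
import Groth.Prelude.Def_CAlg
import Groth.Agent.Helper7.GorLink1
import Groth.Agent.Helper7.CMQuot1
import Groth.Agent.Helper6.Rees3
import Groth.Agent.Helper8.GrLG

/-!
# The annihilator of a codimension-zero Cohen–Macaulay quotient of a Gorenstein local ring,
modulo a regular sequence (helper7)
-/

set_option autoImplicit false
set_option linter.unusedSectionVars false
set_option linter.style.haveILetI false

namespace Groth.Agent.Helper7.GorLink

open CategoryTheory Abelian IsLocalRing RingTheory.Sequence Pointwise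

universe u

/-- the hypotheses on the pair `(A, I)` -/
structure LinkData (A : Type u) [CommRing A] (I : Ideal A) : Prop where
  gor : LocCoh.IsGorensteinLocalRing A
  cm : LocCoh.IsCohenMacaulayLocalRing (A ⧸ I)
  dim : ringKrullDim (A ⧸ I) = ringKrullDim A

variable {A : Type u} [CommRing A]

/-- `(a) : I ⊆ Ann I + (a)` when `Ext^1(A/I, A) = 0` and `a` is a non-zero-divisor -/
theorem colon_le (I : Ideal A)
    (h : Subsingleton (Ext (ModuleCat.of A (A ⧸ I)) (ModuleCat.of A A) 1)) (a : A)
    (ha : IsSMulRegular A a) :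
    Submodule.colon (Ideal.span {a}) (I : Set A) ≤ Submodule.annihilator I ⊔ Ideal.span {a} := by
  intro y hy
  rw [Submodule.mem_colon] at hy
  have hy' : ∀ i : I, ∃ z : A, a * z = y * (i : A) := by
    intro i
    have := hy i i.2
    rw [smul_eq_mul, Ideal.mem_span_singleton'] at this
    obtain ⟨z, hz⟩ := this
    exact ⟨z, by rw [mul_comm]; exact hz⟩
  choose z hz using hy'
  have hcancel : ∀ {u v : A}, a * u = a * v → u = v := fun {u v} huv => ha huv
  let φ : I →ₗ[A] A :=
    { toFun := z
      map_add' := fun i j => by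
        apply hcancel
        rw [mul_add, hz, hz, hz, Submodule.coe_add, mul_add]
      map_smul' := fun r i => by
        apply hcancel
        rw [RingHom.id_apply, hz, smul_eq_mul, Submodule.coe_smul, smul_eq_mul,
          mul_left_comm a r, hz]
        ring }
  obtain ⟨c, hc⟩ := exists_mul_of_hom I h φ
  have h1 : y - a * c ∈ Submodule.annihilator I := by
    rw [Submodule.mem_annihilator]
    intro i hi
    have h2 := hc ⟨i, hi⟩
    have h3 := hz ⟨i, hi⟩
    have h4 : φ ⟨i, hi⟩ = z ⟨i, hi⟩ := rfl
    rw [h4] at h2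
    rw [h2] at h3
    rw [smul_eq_mul, sub_mul, ← h3]
    show a * (c * i) - a * c * i = 0
    ring
  have h2 : y = (y - a * c) + a * c := by ring
  rw [h2]
  exact Submodule.add_mem_sup h1 (Ideal.mul_mem_right _ _ (Ideal.mem_span_singleton_self a))


section Step

variable (I : Ideal A) (hL : LinkData A I)

include hL in
/-- an `A`-regular element of the maximal ideal is regular on `A/I` -/
theorem regular_on_quotient (a : A) (ham : ¬ IsUnit a) (hreg : IsSMulRegular A a) :
    IsSMulRegular (A ⧸ I) a := by
  haveI := hL.gor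
  haveI := hL.cm
  have ham' : a ∈ maximalIdeal A := ham
  by_contra hcon
  have h1 : a ∈ {r : A | IsSMulRegular (A ⧸ I) r}ᶜ := hcon
  rw [← biUnion_associatedPrimes_eq_compl_regular A (A ⧸ I)] at h1
  obtain ⟨p, hp, hap⟩ := Set.mem_iUnion₂.mp h1
  haveI : p.IsPrime := hp.isPrime
  have h2 := Groth.Agent.Helper2.DepthCM.depth_le_dim_quotient_of_mem_ass (A ⧸ I) p hp
  have hfin : (maximalIdeal A).height ≠ ⊤ := Ideal.height_ne_top (Ideal.IsPrime.ne_top inferInstance)
  obtain ⟨d, hd⟩ := ENat.ne_top_iff_exists.mp hfin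
  have hdim : ringKrullDim A = ((d : ℕ) : WithBot ℕ∞) := by
    rw [← IsLocalRing.maximalIdeal_height_eq_ringKrullDim, ← hd]
    rfl
  obtain ⟨rs, hr1, hr2, hr3⟩ := exists_regular_of_cm I d hdim hL.dim
  have hIM := Groth.Agent.Helper2.Depth.smul_top_ne_top A (A ⧸ I)
  have h3 : (d : ℕ∞) ≤ LocCoh.depth A (A ⧸ I) := by
    unfold LocCoh.depth LocCoh.idealDepth
    rw [if_neg hIM, ← hr3]
    exact le_iSup₂_of_le rs ⟨hr1, hr2⟩ le_rfl
  have h4 : ringKrullDim (A ⧸ p) ≤ ringKrullDim (A ⧸ Ideal.span {a}) := by
    have hle : Ideal.span {a} ≤ p := (Ideal.span_singleton_le_iff_mem _).mpr hap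
    exact ringKrullDim_le_of_surjective (Ideal.Quotient.factor hle)
      (Ideal.Quotient.factor_surjective hle)
  have h5 := ringKrullDim_quotient_span_singleton_succ_eq_ringKrullDim hreg ham'
  have h6 : ((d : ℕ∞) : WithBot ℕ∞) ≤ ringKrullDim (A ⧸ Ideal.span {a}) :=
    (WithBot.coe_le_coe.mpr h3).trans (h2.trans h4)
  rw [hdim] at h5
  generalize ringKrullDim (A ⧸ Ideal.span {a}) = x at h5 h6
  induction x with
  | bot => simp at h5
  | coe x =>
    induction x with
    | top =>
      have : ((⊤ : ℕ∞) : WithBot ℕ∞) + 1 = ((⊤ : ℕ∞) : WithBot ℕ∞) := rfl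
      rw [this] at h5
      have h7 : (⊤ : ℕ∞) = (d : ℕ∞) := by exact_mod_cast h5
      exact ENat.top_ne_natCast d h7
    | coe x =>
      have h7 : ((x + 1 : ℕ) : WithBot ℕ∞) = ((d : ℕ) : WithBot ℕ∞) := by
        rw [← h5]; push_cast; rfl
      have h8 : x + 1 = d := by exact_mod_cast h7
      have h9 : d ≤ x := by exact_mod_cast h6
      omega

end Step


section Step2

variable (I : Ideal A) (hL : LinkData A I)

include hL in
/-- the hypotheses pass to the quotient by a regular element -/
theorem linkData_quotient (a : A) (ham : ¬ IsUnit a) (hreg : IsSMulRegular A a) :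
    LinkData (A ⧸ Ideal.span {a}) (I.map (Ideal.Quotient.mk (Ideal.span {a}))) := by
  haveI := hL.gor
  haveI := hL.cm
  have ham' : a ∈ maximalIdeal A := ham
  have hregI := regular_on_quotient I hL a ham hreg
  -- the element `ā` of `B = A/I`
  set b : A ⧸ I := Ideal.Quotient.mk I a with hb
  have hbm : b ∈ maximalIdeal (A ⧸ I) := by
    rw [mem_maximalIdeal, mem_nonunits_iff]
    intro hu
    haveI : IsLocalHom (Ideal.Quotient.mk I) :=
      IsLocalHom.of_surjective _ Ideal.Quotient.mk_surjective
    exact ham ((isUnit_map_iff (Ideal.Quotient.mk I) a).mp hu)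
  have hbreg : IsSMulRegular (A ⧸ I) b := by
    intro x y hxy
    apply hregI
    show a • x = a • y
    have h1 : ∀ z : A ⧸ I, a • z = b * z := fun z => by
      rw [Algebra.smul_def]; rfl
    rw [h1, h1]
    exact hxy
  have hcmB : LocCoh.IsCohenMacaulayLocalRing ((A ⧸ I) ⧸ Ideal.span {b}) :=
    (Groth.Agent.Helper7.CMQuot.cmLocal_quotient_iff (A ⧸ I) b hbm hbreg).mp hL.cm
  -- the ring isomorphism
  have hmap : (Ideal.span {a}).map (Ideal.Quotient.mk I) = Ideal.span {b} := by
    rw [Ideal.map_span, Set.image_singleton]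
  let e : ((A ⧸ Ideal.span {a}) ⧸ I.map (Ideal.Quotient.mk (Ideal.span {a}))) ≃+*
      ((A ⧸ I) ⧸ Ideal.span {b}) :=
    (DoubleQuot.quotQuotEquivComm (Ideal.span {a}) I).trans (Ideal.quotEquivOfEq hmap)
  refine ⟨(Groth.Agent.Helper6.Rees.main A a ham' hreg).mp hL.gor,
    Groth.Agent.Helper8.GrLG.cmLocal_of_ringEquiv e.symm hcmB, ?_⟩
  rw [ringKrullDim_eq_of_ringEquiv e]
  have h1 := ringKrullDim_quotient_span_singleton_succ_eq_ringKrullDim hbreg hbm
  have h2 := ringKrullDim_quotient_span_singleton_succ_eq_ringKrullDim hreg ham'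
  rw [hL.dim, ← h2] at h1
  exact ENat.WithBot.add_one_cancel.mp h1

end Step2


section Ann

variable (I : Ideal A) (hL : LinkData A I)

include hL in
/-- the annihilator of `I` modulo a regular element `a` is the image of the annihilator of `I` -/
theorem ann_map (a : A) (hreg : IsSMulRegular A a) :
    Submodule.annihilator (I.map (Ideal.Quotient.mk (Ideal.span {a}))) =
      (Submodule.annihilator I).map (Ideal.Quotient.mk (Ideal.span {a})) := by
  haveI := hL.gor
  haveI := hL.cm
  have hext := ext_one_subsingleton I hL.dim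
  apply le_antisymm
  · intro y' hy'
    obtain ⟨y, rfl⟩ := Ideal.Quotient.mk_surjective y'
    rw [Submodule.mem_annihilator] at hy'
    have h1 : y ∈ Submodule.colon (Ideal.span {a}) (I : Set A) := by
      rw [Submodule.mem_colon]
      intro i hi
      have h2 := hy' _ (Ideal.mem_map_of_mem (Ideal.Quotient.mk (Ideal.span {a})) hi)
      rw [smul_eq_mul, ← map_mul, Ideal.Quotient.eq_zero_iff_mem] at h2
      exact h2
    have h3 := colon_le I hext a hreg h1
    obtain ⟨j, hj, c, hc, rfl⟩ := Submodule.mem_sup.mp h3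
    rw [map_add, Ideal.Quotient.eq_zero_iff_mem.mpr hc, add_zero]
    exact Ideal.mem_map_of_mem _ hj
  · rw [Ideal.map_le_iff_le_comap]
    intro y hy
    rw [Ideal.mem_comap, Submodule.mem_annihilator]
    intro z hz
    rw [Submodule.mem_annihilator] at hy
    obtain ⟨i, hi, rfl⟩ := (Ideal.mem_map_iff_of_surjective _ Ideal.Quotient.mk_surjective).mp hz
    rw [smul_eq_mul, ← map_mul]
    have := hy i hi
    rw [smul_eq_mul] at this
    rw [this, map_zero]

end Ann


section Main

theorem colon_bot (I : Ideal A) :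
    Submodule.colon (⊥ : Ideal A) (I : Set A) = Submodule.annihilator I := by
  ext y
  rw [Submodule.mem_colon, Submodule.mem_annihilator]
  constructor
  · intro h i hi
    exact (Submodule.mem_bot A).mp (h i hi)
  · intro h i hi
    exact (Submodule.mem_bot A).mpr (h i hi)

theorem main_aux : ∀ (n : ℕ) (A : Type u) [CommRing A] (I : Ideal A), LinkData A I →
    ∀ as : List A, as.length = n → IsWeaklyRegular A as → (∀ a ∈ as, ¬ IsUnit a) →
      Submodule.annihilator I ⊔ Ideal.ofList as =
          Submodule.colon (Ideal.ofList as) (I : Set A) ∧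
        Submodule.annihilator I ⊓ Ideal.ofList as = Ideal.ofList as * Submodule.annihilator I := by
  intro n
  induction n with
  | zero =>
    intro A _ I hL as hlen _ _
    have : as = [] := List.length_eq_zero_iff.mp hlen
    subst this
    rw [Ideal.ofList_nil, sup_bot_eq, inf_bot_eq, Ideal.bot_mul, colon_bot]
    exact ⟨rfl, rfl⟩
  | succ n ih =>
    intro A _ I hL as hlen hreg hnu
    obtain ⟨a, as', rfl⟩ : ∃ a as', as = a :: as' := by
      cases as with
      | nil => simp at hlen
      | cons a as' => exact ⟨a, as', rfl⟩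
    rw [isWeaklyRegular_cons_iff] at hreg
    obtain ⟨hareg, hreg'⟩ := hreg
    have hanu : ¬ IsUnit a := hnu a List.mem_cons_self
    have hL' := linkData_quotient I hL a hanu hareg
    haveI := hL.gor
    haveI := hL'.gor
    set π := Ideal.Quotient.mk (Ideal.span {a}) with hπ
    have hπs : Function.Surjective π := Ideal.Quotient.mk_surjective
    haveI : IsLocalHom π := IsLocalHom.of_surjective _ hπs
    -- the regular sequence downstairs
    have heq : a • (⊤ : Submodule A A) = Ideal.span {a} := by
      rw [← Submodule.ideal_span_singleton_smul, smul_eq_mul, Ideal.mul_top]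
    let e : QuotSMulTop a A ≃ₗ[A] A ⧸ Ideal.span {a} := Submodule.quotEquivOfEq _ _ heq
    have hreg'' : IsWeaklyRegular (A ⧸ Ideal.span {a}) (as'.map π) := by
      have h1 : IsWeaklyRegular (A ⧸ Ideal.span {a}) as' := (e.isWeaklyRegular_congr as').mp hreg'
      exact (isWeaklyRegular_map_algebraMap_iff (R := A) (S := A ⧸ Ideal.span {a})
        (M := A ⧸ Ideal.span {a}) as').mpr h1
    have hnu'' : ∀ x ∈ as'.map π, ¬ IsUnit x := by
      intro x hx hu
      obtain ⟨y, hy, rfl⟩ := List.mem_map.mp hx
      exact hnu y (List.mem_cons_of_mem _ hy) ((isUnit_map_iff π y).mp hu)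
    obtain ⟨ih1, ih2⟩ := ih (A ⧸ Ideal.span {a}) (I.map π) hL' (as'.map π)
      (by rw [List.length_map]; simpa using hlen) hreg'' hnu''
    rw [ann_map I hL a hareg, ← Ideal.map_ofList] at ih1 ih2
    set J := Submodule.annihilator I with hJ
    have hker : Ideal.comap π ⊥ = Ideal.span {a} := by
      rw [← RingHom.ker_eq_comap_bot, hπ, Ideal.mk_ker]
    have hcm : ∀ K : Ideal A, Ideal.comap π (Ideal.map π K) = K ⊔ Ideal.span {a} := by
      intro K
      rw [Ideal.comap_map_of_surjective π hπs, hker]
    have hmapa : ∀ x ∈ Ideal.span {a} ⊔ Ideal.ofList as', π x ∈ Ideal.map π (Ideal.ofList as') := by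
      intro x hx
      obtain ⟨u, hu, v, hv, rfl⟩ := Submodule.mem_sup.mp hx
      rw [map_add, Ideal.Quotient.eq_zero_iff_mem.mpr hu, zero_add]
      exact Ideal.mem_map_of_mem _ hv
    rw [Ideal.ofList_cons]
    constructor
    · apply le_antisymm
      · apply sup_le
        · intro y hy
          rw [Submodule.mem_colon]
          intro i hi
          rw [hJ, Submodule.mem_annihilator] at hy
          rw [hy i hi]
          exact zero_mem _
        · intro y hy
          rw [Submodule.mem_colon]
          intro i hi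
          rw [smul_eq_mul]
          exact Ideal.mul_mem_right _ _ hy
      · intro y hy
        rw [Submodule.mem_colon] at hy
        have h1 : π y ∈ Submodule.colon (Ideal.map π (Ideal.ofList as'))
            ((I.map π : Ideal (A ⧸ Ideal.span {a})) : Set (A ⧸ Ideal.span {a})) := by
          rw [Submodule.mem_colon]
          intro z hz
          obtain ⟨i, hi, rfl⟩ := (Ideal.mem_map_iff_of_surjective π hπs).mp hz
          rw [smul_eq_mul, ← map_mul]
          exact hmapa _ (hy i hi)
        rw [← ih1, ← Ideal.map_sup] at h1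
        have h2 : y ∈ Ideal.comap π (Ideal.map π (J ⊔ Ideal.ofList as')) := h1
        rw [hcm] at h2
        have h3 : J ⊔ Ideal.ofList as' ⊔ Ideal.span {a} = J ⊔ (Ideal.span {a} ⊔ Ideal.ofList as') := by
          rw [sup_assoc, sup_comm (Ideal.ofList as')]
        rw [← h3]
        exact h2
    · apply le_antisymm
      · intro x hx
        obtain ⟨hxJ, hxa⟩ := Submodule.mem_inf.mp hx
        have h1 : π x ∈ Ideal.map π J ⊓ Ideal.map π (Ideal.ofList as') :=
          Submodule.mem_inf.mpr ⟨Ideal.mem_map_of_mem _ hxJ, hmapa x hxa⟩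
        rw [ih2, ← Ideal.map_mul] at h1
        have h2 : x ∈ Ideal.comap π (Ideal.map π (Ideal.ofList as' * J)) := h1
        rw [hcm] at h2
        obtain ⟨z, hz, w, hw, rfl⟩ := Submodule.mem_sup.mp h2
        obtain ⟨c, rfl⟩ := Ideal.mem_span_singleton'.mp hw
        have hzJ : z ∈ J := Ideal.mul_le_right (I := Ideal.ofList as') (J := J) hz
        have hcJ : c ∈ J := by
          rw [hJ, Submodule.mem_annihilator]
          intro i hi
          have h3 : c * a ∈ J := by
            have := J.sub_mem hxJ hzJ
            rwa [add_sub_cancel_left] at this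
          rw [hJ, Submodule.mem_annihilator] at h3
          have h4 := h3 i hi
          rw [smul_eq_mul] at h4 ⊢
          apply hareg
          show a * (c * i) = a * 0
          rw [mul_zero, ← h4]
          ring
        rw [Ideal.sup_mul]
        rw [add_comm]
        refine Submodule.add_mem_sup ?_ hz
        rw [mul_comm c a]
        exact Ideal.mul_mem_mul (Ideal.mem_span_singleton_self a) hcJ
      · rw [mul_comm]
        exact Ideal.mul_le_inf

end Main


theorem main (R A : Type u) [CommRing R] [IsNoetherianRing R] [IsLocalRing R] [CommRing A]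
    [Algebra R A] [LocCoh.IsGorensteinLocalRing A] [IsLocalHom (algebraMap R A)] [Module.Flat R A]
    (I : Ideal A) (hI : ringKrullDim (A ⧸ I) = ringKrullDim A)
    [LocCoh.IsCohenMacaulayLocalRing (A ⧸ I)]
    (rs : List R) (hrs : RingTheory.Sequence.IsRegular R rs) :
    Submodule.annihilator I ⊔ (Ideal.ofList rs).map (algebraMap R A) =
        Submodule.colon ((Ideal.ofList rs).map (algebraMap R A)) (I : Set A) ∧
      Submodule.annihilator I ⊓ (Ideal.ofList rs).map (algebraMap R A) =
        (Ideal.ofList rs).map (algebraMap R A) * Submodule.annihilator I := by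
  rw [Ideal.map_ofList]
  refine main_aux rs.length A I ⟨inferInstance, inferInstance, hI⟩ (rs.map (algebraMap R A))
    (by rw [List.length_map]) hrs.toIsWeaklyRegular.of_flat ?_
  intro x hx hu
  obtain ⟨r, hr, rfl⟩ := List.mem_map.mp hx
  have hru : IsUnit r := (isUnit_map_iff (algebraMap R A) r).mp hu
  apply hrs.top_ne_smul
  have h1 : Ideal.ofList rs = ⊤ := by
    rw [Ideal.eq_top_iff_one]
    obtain ⟨v, hv⟩ := hru.exists_left_inv
    rw [← hv]
    exact Ideal.mul_mem_left _ _ (Ideal.subset_span hr)
  rw [h1, Submodule.top_smul]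

end Groth.Agent.Helper7.GorLink
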