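import Mathlib
import Groth.Prelude.Def_CAlg
import Groth.Agent.Helper1.TorReg
import Groth.Agent.Helper1.TorFlat
import Groth.Agent.Helper1.TorCrit
import Groth.Agent.S0390

/-!
# Flatness over a regular local ring from a regular system of parameters (helper7)
-/

set_option autoImplicit false
set_option linter.unusedSectionVars false
set_option linter.style.haveILetI false

namespace Groth.Agent.Helper7.GorLink

open CategoryTheory CategoryTheory.Limits IsLocalRing RingTheory.Sequence TensorProduct
  Groth.Agent.Helper1.TorLib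
open scoped Pointwise

universe u

section TorQuot

variable {A : Type u} [CommRing A]

/-- if `rs` is weakly regular on `L` and on `L ⊗ N` and the higher `Tor(L, N)` vanish, so do the
higher `Tor(L/(rs)L, N)` -/
theorem isZero_tor_quot_of_isWeaklyRegular_tensor (N : Type u) [AddCommGroup N] [Module A N]
    (rs : List A) :
    ∀ (L : Type u) [AddCommGroup L] [Module A L],
    IsWeaklyRegular L rs →
    (∀ i, 1 ≤ i →
      IsZero (((Tor (ModuleCat.{u} A) i).obj (ModuleCat.of A L)).obj (ModuleCat.of A N))) →
    IsWeaklyRegular (L ⊗[A] N) rs →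
      ∀ i, 1 ≤ i → IsZero (((Tor (ModuleCat.{u} A) i).obj
        (ModuleCat.of A (L ⧸ (Ideal.ofList rs • ⊤ : Submodule A L)))).obj (ModuleCat.of A N)) := by
  induction rs with
  | nil =>
    intro L _ _ _ h _ i hi
    have hbot : (Ideal.ofList ([] : List A) • ⊤ : Submodule A L) = ⊥ := by
      rw [Ideal.ofList_nil, Submodule.bot_smul]
    exact isZero_tor_of_iso (Submodule.quotEquivOfEqBot _ hbot).symm.toModuleIso _ i (h i hi)
  | cons r rs ih =>
    intro L _ _ hreg h hten i hi
    rw [isWeaklyRegular_cons_iff] at hreg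
    let e := Submodule.quotOfListConsSMulTopEquivQuotSMulTopInner L r rs
    have hK2 := isZero_torOne_quotSMulTop_iff L r hreg.1 N (h 1 le_rfl)
    have hK1 : ∀ i, IsZero (((Tor (ModuleCat.{u} A) (i + 1 + 1)).obj
        (ModuleCat.of A (QuotSMulTop r L))).obj (ModuleCat.of A N)) :=
      fun i => isZero_tor_quotSMulTop_succ L r hreg.1 _ i (h (i + 1) (by omega))
        (h (i + 1 + 1) (by omega))
    rw [isWeaklyRegular_cons_iff,
      ← (QuotSMulTop.quotSMulTopTensorEquivQuotSMulTop r N L).isWeaklyRegular_congr rs] at hten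
    obtain ⟨h1, h2⟩ := hten
    have hL' : ∀ i, 1 ≤ i → IsZero (((Tor (ModuleCat.{u} A) i).obj
        (ModuleCat.of A (QuotSMulTop r L))).obj (ModuleCat.of A N)) := by
      intro i hi
      obtain ⟨k, rfl⟩ : ∃ k, i = k + 1 := ⟨i - 1, by omega⟩
      obtain _ | k := k
      · exact hK2.mpr h1
      · exact hK1 k
    have := ih (QuotSMulTop r L) hreg.2 hL' h2 i hi
    exact isZero_tor_of_iso e.symm.toModuleIso _ i this

end TorQuot

section Flat

/-- a finite module over a local `R`-algebra on which a regular sequence generating the maximal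
ideal of `R` is regular is flat over `R` -/
theorem flat_of_regular {R : Type u} (A : Type u) {M : Type u} [CommRing R] [CommRing A]
    [IsLocalRing R] [IsLocalRing A]
    [IsNoetherianRing R] [IsNoetherianRing A] [Algebra R A] [IsLocalHom (algebraMap R A)]
    [AddCommGroup M] [Module R M] [Module A M] [IsScalarTower R A M] [Module.Finite A M]
    (rs : List R) (hrs : IsWeaklyRegular R rs)
    (hgen : Ideal.ofList rs = maximalIdeal R) (hM : IsWeaklyRegular M rs) : Module.Flat R M := by
  have h0 : ∀ i, 1 ≤ i →
      IsZero (((Tor (ModuleCat.{u} R) i).obj (ModuleCat.of R R)).obj (ModuleCat.of R M)) := by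
    intro i hi
    obtain ⟨k, rfl⟩ : ∃ k, i = k + 1 := ⟨i - 1, by omega⟩
    exact isZero_tor_of_flat_left (ModuleCat.of R R) (ModuleCat.of R M) k
  have hten : IsWeaklyRegular (R ⊗[R] M) rs :=
    ((TensorProduct.lid R M).isWeaklyRegular_congr rs).mpr hM
  have h1 := isZero_tor_quot_of_isWeaklyRegular_tensor M rs R hrs h0 hten 1 le_rfl
  have heq : (Ideal.ofList rs • ⊤ : Submodule R R) = maximalIdeal R := by
    rw [smul_eq_mul, Ideal.mul_top, hgen]
  have h2 : IsZero (((Tor (ModuleCat.{u} R) 1).obj
      (ModuleCat.of R (R ⧸ maximalIdeal R))).obj (ModuleCat.of R M)) :=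
    isZero_tor_of_iso (Submodule.quotEquivOfEq _ _ heq).toModuleIso _ 1 h1
  have h3 := (isZero_torOne_quotient_iff (maximalIdeal R) M).mp h2
  exact Groth.Agent.S0390.result (S := A) h3

end Flat

end Groth.Agent.Helper7.GorLink
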