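import Mathlib
import Groth.Prelude.Def_CAlg
import Groth.Agent.Helper7.GorLink2
import Groth.Agent.Helper7.GorLink3
import Groth.Agent.Helper2.RegSeq3

/-!
# Flatness of linked quotients of a Gorenstein local algebra over a regular local ring (helper7)
-/

set_option autoImplicit false
set_option linter.unusedSectionVars false
set_option linter.style.haveILetI false

namespace Groth.Agent.Helper7.GorLink

open IsLocalRing RingTheory.Sequence Pointwise

universe u

section QuotEquiv

variable {A : Type u} [CommRing A] (K : Ideal A) (a : A)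

/-- the projection `A → (A/K)/a(A/K)` -/
noncomputable def prOne : A →ₗ[A] QuotSMulTop a (A ⧸ K) :=
  (Submodule.mkQ (a • (⊤ : Submodule A (A ⧸ K)))) ∘ₗ (Submodule.mkQ K)

theorem prOne_surjective : Function.Surjective (prOne K a) :=
  (Submodule.mkQ_surjective _).comp (Submodule.mkQ_surjective K)

theorem ker_prOne : LinearMap.ker (prOne K a) = K ⊔ Ideal.span {a} := by
  ext x
  rw [LinearMap.mem_ker, prOne, LinearMap.comp_apply, Submodule.mkQ_apply, Submodule.mkQ_apply,
    Submodule.Quotient.mk_eq_zero, Submodule.mem_smul_pointwise_iff_exists]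
  constructor
  · rintro ⟨y, -, hy⟩
    obtain ⟨y, rfl⟩ := Submodule.Quotient.mk_surjective K y
    have h1 : x - a * y ∈ K := by
      rw [← Submodule.Quotient.mk_eq_zero K, Submodule.Quotient.mk_sub, ← hy]
      show _ - Submodule.Quotient.mk (a • y) = 0
      rw [Submodule.Quotient.mk_smul, sub_self]
    have h2 : x = (x - a * y) + a * y := by ring
    rw [h2]
    exact Submodule.add_mem_sup h1 (Ideal.mul_mem_right _ _ (Ideal.mem_span_singleton_self a))
  · intro hx
    obtain ⟨k, hk, w, hw, rfl⟩ := Submodule.mem_sup.mp hx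
    obtain ⟨c, rfl⟩ := Ideal.mem_span_singleton'.mp hw
    refine ⟨Submodule.Quotient.mk c, Submodule.mem_top, ?_⟩
    rw [Submodule.Quotient.mk_add, (Submodule.Quotient.mk_eq_zero K).mpr hk, zero_add,
      ← Submodule.Quotient.mk_smul, smul_eq_mul, mul_comm]

/-- the projection `A → (A/(a))/K(A/(a))` -/
noncomputable def prTwo :
    A →ₗ[A] ((A ⧸ Ideal.span {a}) ⧸ K.map (Ideal.Quotient.mk (Ideal.span {a}))) :=
  Algebra.linearMap A _

theorem prTwo_apply (x : A) : prTwo K a x =
    Ideal.Quotient.mk (K.map (Ideal.Quotient.mk (Ideal.span {a})))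
      (Ideal.Quotient.mk (Ideal.span {a}) x) := rfl

theorem prTwo_surjective : Function.Surjective (prTwo K a) := by
  intro y
  obtain ⟨y, rfl⟩ := Ideal.Quotient.mk_surjective y
  obtain ⟨y, rfl⟩ := Ideal.Quotient.mk_surjective y
  exact ⟨y, rfl⟩

theorem ker_prTwo : LinearMap.ker (prTwo K a) = K ⊔ Ideal.span {a} := by
  ext x
  rw [LinearMap.mem_ker, prTwo_apply, Ideal.Quotient.eq_zero_iff_mem]
  have h1 : Ideal.comap (Ideal.Quotient.mk (Ideal.span {a}))
      (Ideal.map (Ideal.Quotient.mk (Ideal.span {a})) K) = K ⊔ Ideal.span {a} := by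
    rw [Ideal.comap_map_of_surjective _ Ideal.Quotient.mk_surjective,
      ← RingHom.ker_eq_comap_bot, Ideal.mk_ker]
  rw [← h1, Ideal.mem_comap]

/-- `(A/K)/a(A/K) ≅ (A/(a))/K(A/(a))` as `A`-modules -/
noncomputable def quotEquiv :
    QuotSMulTop a (A ⧸ K) ≃ₗ[A]
      ((A ⧸ Ideal.span {a}) ⧸ K.map (Ideal.Quotient.mk (Ideal.span {a}))) :=
  ((prOne K a).quotKerEquivOfSurjective (prOne_surjective K a)).symm ≪≫ₗ
    (Submodule.quotEquivOfEq _ _ ((ker_prOne K a).trans (ker_prTwo K a).symm)) ≪≫ₗ
    ((prTwo K a).quotKerEquivOfSurjective (prTwo_surjective K a))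

end QuotEquiv


section Induct

/-- generic induction: a functorial ideal `𝒦(A, I)` which is stable under regular elements and
commutes with passing to the quotient by a regular element has `A/𝒦(A, I)` regular along any
regular sequence -/
theorem weaklyRegular_quot (𝒦 : ∀ (B : Type u) [CommRing B], Ideal B → Ideal B)
    (h1 : ∀ (B : Type u) [CommRing B] (I : Ideal B), LinkData B I → ∀ a : B, ¬ IsUnit a →
      IsSMulRegular B a → IsSMulRegular (B ⧸ 𝒦 B I) a)
    (h2 : ∀ (B : Type u) [CommRing B] (I : Ideal B), LinkData B I → ∀ a : B, ¬ IsUnit a →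
      IsSMulRegular B a → 𝒦 (B ⧸ Ideal.span {a}) (I.map (Ideal.Quotient.mk (Ideal.span {a}))) =
        (𝒦 B I).map (Ideal.Quotient.mk (Ideal.span {a}))) :
    ∀ (n : ℕ) (A : Type u) [CommRing A] (I : Ideal A), LinkData A I →
    ∀ as : List A, as.length = n → IsWeaklyRegular A as → (∀ a ∈ as, ¬ IsUnit a) →
      IsWeaklyRegular (A ⧸ 𝒦 A I) as := by
  intro n
  induction n with
  | zero =>
    intro A _ I hL as hlen _ _
    have : as = [] := List.length_eq_zero_iff.mp hlen
    subst this
    exact IsWeaklyRegular.nil A _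
  | succ n ih =>
    intro A _ I hL as hlen hreg hnu
    obtain ⟨a, as', rfl⟩ : ∃ a as', as = a :: as' := by
      cases as with
      | nil => simp at hlen
      | cons a as' => exact ⟨a, as', rfl⟩
    rw [isWeaklyRegular_cons_iff] at hreg
    obtain ⟨hareg, hreg'⟩ := hreg
    have hanu : ¬ IsUnit a := hnu a List.mem_cons_self
    have hL' := linkData_quotient I hL a hanu hareg
    haveI := hL.gor
    haveI := hL'.gor
    set π := Ideal.Quotient.mk (Ideal.span {a}) with hπ
    have hπs : Function.Surjective π := Ideal.Quotient.mk_surjective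
    haveI : IsLocalHom π := IsLocalHom.of_surjective _ hπs
    have heq : a • (⊤ : Submodule A A) = Ideal.span {a} := by
      rw [← Submodule.ideal_span_singleton_smul, smul_eq_mul, Ideal.mul_top]
    let e : QuotSMulTop a A ≃ₗ[A] A ⧸ Ideal.span {a} := Submodule.quotEquivOfEq _ _ heq
    have hreg'' : IsWeaklyRegular (A ⧸ Ideal.span {a}) (as'.map π) := by
      have h1 : IsWeaklyRegular (A ⧸ Ideal.span {a}) as' := (e.isWeaklyRegular_congr as').mp hreg'
      exact (isWeaklyRegular_map_algebraMap_iff (R := A) (S := A ⧸ Ideal.span {a})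
        (M := A ⧸ Ideal.span {a}) as').mpr h1
    have hnu'' : ∀ x ∈ as'.map π, ¬ IsUnit x := by
      intro x hx hu
      obtain ⟨y, hy, rfl⟩ := List.mem_map.mp hx
      exact hnu y (List.mem_cons_of_mem _ hy) ((isUnit_map_iff π y).mp hu)
    have ih' := ih (A ⧸ Ideal.span {a}) (I.map π) hL' (as'.map π)
      (by rw [List.length_map]; simpa using hlen) hreg'' hnu''
    rw [h2 A I hL a hanu hareg] at ih'
    rw [isWeaklyRegular_cons_iff]
    refine ⟨h1 A I hL a hanu hareg, ?_⟩
    have h3 : IsWeaklyRegular ((A ⧸ Ideal.span {a}) ⧸ (𝒦 A I).map π) as' :=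
      (isWeaklyRegular_map_algebraMap_iff (R := A) (S := A ⧸ Ideal.span {a})
        (M := (A ⧸ Ideal.span {a}) ⧸ (𝒦 A I).map π) as').mp ih'
    exact ((quotEquiv (𝒦 A I) a).isWeaklyRegular_congr as').mpr h3

end Induct


section Final

theorem regular_on_ann {B : Type u} [CommRing B] (I : Ideal B) (a : B) (hareg : IsSMulRegular B a) :
    IsSMulRegular (B ⧸ Submodule.annihilator I) a := by
  rw [isSMulRegular_iff_right_eq_zero_of_smul]
  intro x hx
  obtain ⟨x, rfl⟩ := Ideal.Quotient.mk_surjective x
  have h1 : a • (Ideal.Quotient.mk (Submodule.annihilator I) x) =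
      Ideal.Quotient.mk (Submodule.annihilator I) (a * x) := by
    rw [Algebra.smul_def, map_mul]; rfl
  rw [h1, Ideal.Quotient.eq_zero_iff_mem, Submodule.mem_annihilator] at hx
  rw [Ideal.Quotient.eq_zero_iff_mem, Submodule.mem_annihilator]
  intro i hi
  have h2 := hx i hi
  rw [smul_eq_mul] at h2 ⊢
  apply hareg
  show a * (x * i) = a * 0
  rw [mul_zero, ← h2]
  ring

theorem main_flat (R A : Type u) [CommRing R] [IsRegularLocalRing R] [CommRing A] [Algebra R A]
    [LocCoh.IsGorensteinLocalRing A] [IsLocalHom (algebraMap R A)] [Module.Flat R A] (I : Ideal A)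
    (hI : ringKrullDim (A ⧸ I) = ringKrullDim A) [LocCoh.IsCohenMacaulayLocalRing (A ⧸ I)] :
    Module.Flat R (A ⧸ I) ∧ Module.Flat R (A ⧸ (Submodule.annihilator I)) := by
  classical
  have hreg : IsRegularLocalRing (R ⧸ maximalIdeal R) := by
    letI : Field (R ⧸ maximalIdeal R) := Ideal.Quotient.field _
    infer_instance
  obtain ⟨c, x, hli, hspan⟩ := Groth.Agent.Helper2.RegSeq3.exists_indep_generators
    (maximalIdeal R) (Ideal.IsPrime.ne_top inferInstance) hreg
  obtain ⟨hregseq, hof⟩ := Groth.Agent.Helper2.RegSeq3.isRegular_ofFn c x hli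
  set rs : List R := List.ofFn fun i => (x i : R) with hrs
  have hgen : Ideal.ofList rs = maximalIdeal R := by rw [hof, ← hspan]
  have hL : LinkData A I := ⟨inferInstance, inferInstance, hI⟩
  have hAreg : IsWeaklyRegular A (rs.map (algebraMap R A)) := hregseq.toIsWeaklyRegular.of_flat
  have hnu : ∀ y ∈ rs.map (algebraMap R A), ¬ IsUnit y := by
    intro y hy hu
    obtain ⟨r, hr, rfl⟩ := List.mem_map.mp hy
    have hru : IsUnit r := (isUnit_map_iff (algebraMap R A) r).mp hu
    have hrm : r ∈ maximalIdeal R := by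
      rw [← hgen]
      exact Ideal.subset_span hr
    exact (mem_maximalIdeal r).mp hrm hru
  have W1 := weaklyRegular_quot (fun B _ I => I)
    (fun B _ I hL a hanu hareg => regular_on_quotient I hL a hanu hareg)
    (fun B _ I hL a hanu hareg => rfl) rs.length A I hL (rs.map (algebraMap R A))
    (by rw [List.length_map]) hAreg hnu
  have W2 := weaklyRegular_quot (fun B _ I => Submodule.annihilator I)
    (fun B _ I hL a hanu hareg => regular_on_ann I a hareg)
    (fun B _ I hL a hanu hareg => ann_map I hL a hareg) rs.length A I hL (rs.map (algebraMap R A))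
    (by rw [List.length_map]) hAreg hnu
  have W1' : IsWeaklyRegular (A ⧸ I) rs :=
    (isWeaklyRegular_map_algebraMap_iff (R := R) (S := A) (M := A ⧸ I) rs).mp W1
  have W2' : IsWeaklyRegular (A ⧸ Submodule.annihilator I) rs :=
    (isWeaklyRegular_map_algebraMap_iff (R := R) (S := A) (M := A ⧸ Submodule.annihilator I) rs).mp W2
  exact ⟨flat_of_regular A rs hregseq.toIsWeaklyRegular hgen W1',
    flat_of_regular A rs hregseq.toIsWeaklyRegular hgen W2'⟩

end Final

end Groth.Agent.Helper7.GorLink
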