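import Mathlib
import Groth.Prelude.Def_CAlg
import Groth.Agent.Helper7.GorLink4
import Groth.Agent.Helper2.DepthCM4

/-!
# Cohen–Macaulayness is preserved by direct linkage in a Gorenstein local ring (helper7)
-/

set_option autoImplicit false
set_option linter.unusedSectionVars false
set_option linter.style.haveILetI false

namespace Groth.Agent.Helper7.LinkCM

open IsLocalRing RingTheory.Sequence Pointwise Groth.Agent.Helper7.GorLink

universe u

theorem length_le_idealDepth {R : Type u} [CommRing R] (I : Ideal R) (M : Type u) [AddCommGroup M]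
    [Module R M] (rs : List R) (hreg : IsWeaklyRegular M rs) (hmem : ∀ r ∈ rs, r ∈ I) :
    (rs.length : ℕ∞) ≤ LocCoh.idealDepth I M := by
  unfold LocCoh.idealDepth
  split_ifs
  · exact le_top
  · exact le_iSup₂ (f := fun (rs : List R)
      (_ : IsWeaklyRegular M rs ∧ ∀ r ∈ rs, r ∈ I) => (rs.length : ℕ∞)) rs ⟨hreg, hmem⟩

variable (A : Type u) [CommRing A] [hG : LocCoh.IsGorensteinLocalRing A]

/-- a proper annihilator ideal `I = Ann J` in a Gorenstein (Cohen–Macaulay) local ring has
`dim A/I = dim A` -/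
theorem dim_quotient_ann (I J : Ideal A) (hI : Submodule.annihilator J = I) (hIne : I ≠ ⊤) :
    ringKrullDim (A ⧸ I) = ringKrullDim A := by
  haveI : IsNoetherianRing A := hG.toIsNoetherian
  haveI : IsLocalRing A := hG.toIsLocalRing
  have hCM : LocCoh.IsCohenMacaulayLocalRing A := Groth.Agent.Helper6.Bass.cm_of_gorenstein
  apply le_antisymm (ringKrullDim_le_of_surjective _ Ideal.Quotient.mk_surjective)
  haveI : Nontrivial (A ⧸ I) := Ideal.Quotient.nontrivial_iff.2 hIne
  obtain ⟨P, hP⟩ := associatedPrimes.nonempty A (A ⧸ I)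
  have hPp : P.IsPrime := hP.isPrime
  have hP' := hP
  rw [AssociatedPrimes.mem_iff, isAssociatedPrime_iff] at hP'
  obtain ⟨-, x, hx⟩ := hP'
  obtain ⟨x, rfl⟩ := Ideal.Quotient.mk_surjective x
  -- `P = Ann (x J)`
  have hPann : P = Module.annihilator A ↥(Ideal.span {x} * J) := by
    ext r
    rw [hx, Submodule.mem_colon_singleton, Submodule.mem_bot, Module.mem_annihilator]
    have h1 : r • (Ideal.Quotient.mk I x) = Ideal.Quotient.mk I (r * x) := by
      rw [Algebra.smul_def, map_mul]; rfl
    rw [h1, Ideal.Quotient.eq_zero_iff_mem, ← hI, Submodule.mem_annihilator]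
    constructor
    · intro h ⟨m, hm⟩
      apply Subtype.ext
      show r • m = 0
      refine Submodule.mul_induction_on hm ?_ ?_
      · intro a ha j hj
        obtain ⟨c, rfl⟩ := Ideal.mem_span_singleton'.1 ha
        have := h j hj
        rw [smul_eq_mul] at this ⊢
        calc r * (c * x * j) = c * (r * x * j) := by ring
          _ = 0 := by rw [this, mul_zero]
      · intro a b ha hb
        rw [smul_add, ha, hb, add_zero]
    · intro h j hj
      have := h ⟨x * j, Ideal.mul_mem_mul (Ideal.mem_span_singleton_self x) hj⟩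
      have h2 := congrArg Subtype.val this
      rw [smul_eq_mul, mul_assoc]
      exact h2
  have hPass : P ∈ associatedPrimes A A := by
    have h1 : P ∈ (Module.annihilator A ↥(Ideal.span {x} * J)).minimalPrimes := by
      rw [← hPann, Ideal.minimalPrimes_eq_subsingleton_self]
      rfl
    have h2 := Module.associatedPrimes.minimalPrimes_annihilator_subset_associatedPrimes A
      ↥(Ideal.span {x} * J) h1
    exact associatedPrimes.subset_of_injective (Submodule.injective_subtype _) h2
  have h3 := Groth.Agent.Helper2.DepthCM.depth_le_dim_quotient_of_mem_ass A P hPass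
  have h4 := hCM.supportDim_eq_depth
  rw [Module.supportDim_self_eq_ringKrullDim] at h4
  rw [h4]
  refine h3.trans ?_
  have hIP : I ≤ P := by
    intro r hr
    rw [hx, Submodule.mem_colon_singleton, Submodule.mem_bot]
    have h1 : r • (Ideal.Quotient.mk I x) = Ideal.Quotient.mk I (r * x) := by
      rw [Algebra.smul_def, map_mul]; rfl
    rw [h1, Ideal.Quotient.eq_zero_iff_mem]
    exact I.mul_mem_right _ hr
  exact ringKrullDim_le_of_surjective (Ideal.Quotient.factor hIP)
    (Ideal.Quotient.factor_surjective hIP)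

/-- **Cohen–Macaulayness passes to the linked ideal** (local form). -/
theorem cm_of_link_local (I J : Ideal A) (hJ : Submodule.annihilator I = J)
    (hI : Submodule.annihilator J = I) (hIne : I ≠ ⊤) (hJne : J ≠ ⊤)
    [hCMI : LocCoh.IsCohenMacaulayLocalRing (A ⧸ I)] :
    LocCoh.IsCohenMacaulayLocalRing (A ⧸ J) := by
  haveI : IsNoetherianRing A := hG.toIsNoetherian
  haveI : IsLocalRing A := hG.toIsLocalRing
  have hCM : LocCoh.IsCohenMacaulayLocalRing A := Groth.Agent.Helper6.Bass.cm_of_gorenstein
  have hdimI := dim_quotient_ann A I J hI hIne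
  have hL : LinkData A I := ⟨hG, hCMI, hdimI⟩
  -- a maximal regular sequence of `A`
  have hmA : (maximalIdeal A) • (⊤ : Submodule A A) ≠ ⊤ := by
    intro h
    have h1 : (1 : A) ∈ (maximalIdeal A) • (⊤ : Submodule A A) := by rw [h]; trivial
    rw [smul_eq_mul, Ideal.mul_top] at h1
    exact (IsLocalRing.maximalIdeal.isMaximal A).ne_top ((Ideal.eq_top_iff_one _).2 h1)
  obtain ⟨rs, hreg, hmem, -, hlen⟩ :=
    Groth.Agent.Helper2.DepthCM.exists_length_eq_idealDepth (maximalIdeal A) A hmA
  have hnu : ∀ y ∈ rs, ¬ IsUnit y := fun y hy => (mem_maximalIdeal y).mp (hmem y hy)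
  have W2 := weaklyRegular_quot (fun B _ I => Submodule.annihilator I)
    (fun B _ I hL a hanu hareg => regular_on_ann I a hareg)
    (fun B _ I hL a hanu hareg => ann_map I hL a hareg) rs.length A I hL rs rfl hreg hnu
  change IsWeaklyRegular (A ⧸ Submodule.annihilator I) rs at W2
  rw [hJ] at W2
  -- pass to the ring `A/J`
  haveI : Nontrivial (A ⧸ J) := Ideal.Quotient.nontrivial_iff.2 hJne
  haveI : IsLocalHom (Ideal.Quotient.mk J) :=
    IsLocalHom.of_surjective _ Ideal.Quotient.mk_surjective
  haveI : IsLocalRing (A ⧸ J) :=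
    IsLocalRing.of_surjective' (Ideal.Quotient.mk J) Ideal.Quotient.mk_surjective
  have W3 : IsWeaklyRegular (A ⧸ J) (rs.map (algebraMap A (A ⧸ J))) :=
    (isWeaklyRegular_map_algebraMap_iff (R := A) (S := A ⧸ J) (M := A ⧸ J) rs).mpr W2
  have hmem3 : ∀ r ∈ rs.map (algebraMap A (A ⧸ J)), r ∈ maximalIdeal (A ⧸ J) := by
    intro r hr
    obtain ⟨a, ha, rfl⟩ := List.mem_map.mp hr
    have h1 := hnu a ha
    rw [mem_maximalIdeal, mem_nonunits_iff]
    intro hu
    exact h1 ((isUnit_map_iff (Ideal.Quotient.mk J) a).mp hu)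
  have h1 := length_le_idealDepth (maximalIdeal (A ⧸ J)) (A ⧸ J) _ W3 hmem3
  rw [List.length_map] at h1
  have h2 := Groth.Agent.Helper2.DepthCM4.depth_le_supportDim (A := A ⧸ J) (A ⧸ J)
  have h3 : ringKrullDim (A ⧸ J) ≤ ringKrullDim A :=
    ringKrullDim_le_of_surjective _ Ideal.Quotient.mk_surjective
  have h4 := hCM.supportDim_eq_depth
  rw [Module.supportDim_self_eq_ringKrullDim] at h4
  refine { supportDim_eq_depth := ?_ }
  rw [Module.supportDim_self_eq_ringKrullDim] at h2 ⊢
  apply le_antisymm _ h2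
  refine h3.trans ?_
  rw [h4]
  have h5 : LocCoh.depth A A = (rs.length : ℕ∞) := hlen.symm
  rw [h5]
  exact WithBot.coe_le_coe.2 h1

end Groth.Agent.Helper7.LinkCM
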