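import Mathlib
import Groth.Prelude.Def_CAlg
import Groth.Agent.Helper7.LinkCM1
import Groth.Agent.Helper7.Liais11

/-!
# `A/Ann(f)` is Gorenstein when `A` is Gorenstein local and `A/(f)` is Cohen–Macaulay of
codimension zero (helper7)
-/

set_option autoImplicit false
set_option linter.unusedSectionVars false
set_option linter.style.haveILetI false

namespace Groth.Agent.Helper7.GorAnn

open IsLocalRing CategoryTheory RingTheory.Sequence Pointwise Groth.Agent.Helper7.GorLink

universe u

/-- a self-injective Noetherian local ring is Gorenstein -/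
theorem gorLocal_of_injective (A : Type u) [CommRing A] [IsNoetherianRing A] [IsLocalRing A]
    (hinj : Module.Injective A A) : LocCoh.IsGorensteinLocalRing A := by
  have h2 : Injective (ModuleCat.of A A) := Module.injective_object_of_injective_module A A
  exact { exists_hasInjectiveDimensionLT := ⟨1, injective_iff_hasInjectiveDimensionLT_one.1 h2⟩ }

section baer

variable {A : Type u} [CommRing A] [hinj : Module.Injective A A]

/-- in a self-injective ring, `A/Ann(f)` is self-injective -/
theorem injective_quot_ann (f : A) (K : Ideal A) (hK : ∀ r, r ∈ K ↔ r * f = 0) :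
    Module.Injective (A ⧸ K) (A ⧸ K) := by
  apply Module.Baer.injective
  intro 𝔞 g
  -- the embedding `A/K → A`, `x ↦ x f`
  let ι : (A ⧸ K) →ₗ[A] A := K.liftQ (LinearMap.toSpanSingleton A A f) (by
    intro r hr
    rw [LinearMap.mem_ker, LinearMap.toSpanSingleton_apply, smul_eq_mul]
    exact (hK r).1 hr)
  have hι : ∀ x : A, ι (Ideal.Quotient.mk K x) = x * f := by
    intro x
    show LinearMap.toSpanSingleton A A f x = x * f
    rw [LinearMap.toSpanSingleton_apply, smul_eq_mul]
  have hιinj : Function.Injective ι := by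
    rw [← LinearMap.ker_eq_bot]
    apply Submodule.ker_liftQ_eq_bot
    intro r hr
    rw [LinearMap.mem_ker, LinearMap.toSpanSingleton_apply, smul_eq_mul] at hr
    exact (hK r).2 hr
  let 𝔞' : Ideal A := 𝔞.comap (Ideal.Quotient.mk K)
  let g' : 𝔞' →ₗ[A] A :=
    { toFun := fun a => ι (g ⟨Ideal.Quotient.mk K a.1, a.2⟩)
      map_add' := by
        intro a b
        have : (⟨Ideal.Quotient.mk K (a + b : 𝔞').1, (a + b).2⟩ : 𝔞) =
            ⟨Ideal.Quotient.mk K a.1, a.2⟩ + ⟨Ideal.Quotient.mk K b.1, b.2⟩ := by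
          apply Subtype.ext
          simp
        rw [this, map_add, map_add]
      map_smul' := by
        intro c a
        have : (⟨Ideal.Quotient.mk K (c • a : 𝔞').1, (c • a).2⟩ : 𝔞) =
            (Ideal.Quotient.mk K c) • ⟨Ideal.Quotient.mk K a.1, a.2⟩ := by
          apply Subtype.ext
          simp
        rw [this, map_smul, RingHom.id_apply]
        have h2 : ∀ y : A ⧸ K, (Ideal.Quotient.mk K c) • y = c • y := by
          intro y
          rw [Algebra.smul_def]
          rfl
        rw [h2, map_smul] }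
  obtain ⟨G, hG⟩ := Module.Baer.of_injective hinj 𝔞' g'
  set b := G 1 with hb
  have hGx : ∀ x : A, G x = x * b := by
    intro x
    rw [hb, ← smul_eq_mul, ← map_smul, smul_eq_mul, mul_one]
  have hKb : ∀ r : A, r * f = 0 → r * b = 0 := by
    intro r hr
    have hrK : r ∈ K := (hK r).2 hr
    have hr𝔞 : r ∈ 𝔞' := by
      show Ideal.Quotient.mk K r ∈ 𝔞
      rw [Ideal.Quotient.eq_zero_iff_mem.2 hrK]
      exact zero_mem _
    rw [← hGx, hG r hr𝔞]
    show ι (g ⟨Ideal.Quotient.mk K r, _⟩) = 0
    have : (⟨Ideal.Quotient.mk K r, hr𝔞⟩ : 𝔞) = 0 := by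
      apply Subtype.ext
      exact Ideal.Quotient.eq_zero_iff_mem.2 hrK
    rw [this, map_zero, map_zero]
  have hbf : b ∈ Ideal.span {f} := by
    rw [← Groth.Agent.Helper7.Liais11.ann_ann_span_singleton f]
    intro z hz
    have hzf : z * f = 0 := hz f (Ideal.mem_span_singleton_self f)
    rw [mul_comm]
    exact hKb z hzf
  obtain ⟨c, hc⟩ := Ideal.mem_span_singleton'.1 hbf
  refine ⟨LinearMap.toSpanSingleton (A ⧸ K) (A ⧸ K) (Ideal.Quotient.mk K c), ?_⟩
  intro x hx
  obtain ⟨a, rfl⟩ := Ideal.Quotient.mk_surjective x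
  rw [LinearMap.toSpanSingleton_apply, smul_eq_mul]
  apply hιinj
  have ha : a ∈ 𝔞' := hx
  have h1 : ι (g ⟨Ideal.Quotient.mk K a, hx⟩) = a * b := by
    rw [← hGx, hG a ha]
    rfl
  rw [h1, ← map_mul, hι, ← hc]
  ring

end baer

theorem maximalIdeal_smul_top_ne_top (A : Type u) [CommRing A] [IsLocalRing A] :
    (maximalIdeal A) • (⊤ : Submodule A A) ≠ ⊤ := by
  intro h
  have h1 : (1 : A) ∈ (maximalIdeal A) • (⊤ : Submodule A A) := by rw [h]; trivial
  rw [smul_eq_mul, Ideal.mul_top] at h1
  exact (IsLocalRing.maximalIdeal.isMaximal A).ne_top ((Ideal.eq_top_iff_one _).2 h1)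

/-- **`A/Ann(f)` is Gorenstein** for a Gorenstein local ring `A` and an element `f ≠ 0` with
`A/(f)` Cohen–Macaulay of the dimension of `A`. -/
theorem gor_quot_ann_local : ∀ (d : ℕ) (A : Type u) [CommRing A] (f : A),
    LinkData A (Ideal.span {f}) → ringKrullDim A = d →
    Submodule.annihilator (Ideal.span {f}) ≠ ⊤ →
    LocCoh.IsGorensteinLocalRing (A ⧸ Submodule.annihilator (Ideal.span {f})) := by
  intro d
  induction d with
  | zero =>
    intro A _ f hL hdim hne
    haveI := hL.gor
    haveI : IsNoetherianRing A := hL.gor.toIsNoetherian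
    haveI : IsLocalRing A := hL.gor.toIsLocalRing
    haveI hinj : Module.Injective A A :=
      Groth.Agent.Helper7.Liais11.injective_of_gorenstein_dim_zero A (by rw [hdim]; rfl)
    have hK : ∀ r, r ∈ Submodule.annihilator (Ideal.span {f}) ↔ r * f = 0 := by
      intro r
      rw [Submodule.mem_annihilator_span_singleton, smul_eq_mul]
    have h1 := injective_quot_ann f _ hK
    haveI : Nontrivial (A ⧸ Submodule.annihilator (Ideal.span {f})) :=
      Ideal.Quotient.nontrivial_iff.2 hne
    haveI : IsLocalRing (A ⧸ Submodule.annihilator (Ideal.span {f})) :=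
      IsLocalRing.of_surjective' (Ideal.Quotient.mk _) Ideal.Quotient.mk_surjective
    exact gorLocal_of_injective _ h1
  | succ d ih =>
    intro A _ f hL hdim hne
    haveI hG := hL.gor
    haveI : IsNoetherianRing A := hL.gor.toIsNoetherian
    haveI : IsLocalRing A := hL.gor.toIsLocalRing
    have hCM : LocCoh.IsCohenMacaulayLocalRing A := Groth.Agent.Helper6.Bass.cm_of_gorenstein
    set I : Ideal A := Ideal.span {f} with hI
    set K : Ideal A := Submodule.annihilator I with hKdef
    -- a regular element of the maximal ideal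
    obtain ⟨rs, hreg, hmem, -, hlen⟩ :=
      Groth.Agent.Helper2.DepthCM.exists_length_eq_idealDepth (maximalIdeal A) A
        (maximalIdeal_smul_top_ne_top A)
    have h4 := hCM.supportDim_eq_depth
    rw [Module.supportDim_self_eq_ringKrullDim, hdim] at h4
    have hlen' : rs.length = d + 1 := by
      have h5 : LocCoh.depth A A = (rs.length : ℕ∞) := hlen.symm
      rw [h5] at h4
      have h6 : (((d + 1 : ℕ) : ℕ∞) : WithBot ℕ∞) = ((rs.length : ℕ∞) : WithBot ℕ∞) := h4
      exact_mod_cast (WithBot.coe_injective h6).symm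
    obtain ⟨a, rs', rfl⟩ : ∃ a rs', rs = a :: rs' := by
      cases rs with
      | nil => simp at hlen'
      | cons a rs' => exact ⟨a, rs', rfl⟩
    obtain ⟨hareg, -⟩ := (isWeaklyRegular_cons_iff A a rs').1 hreg
    have ham : a ∈ maximalIdeal A := hmem a List.mem_cons_self
    have hanu : ¬ IsUnit a := (mem_maximalIdeal a).mp ham
    -- pass to `A₁ = A/(a)`
    have hL₁ := linkData_quotient I hL a hanu hareg
    have hmap : I.map (Ideal.Quotient.mk (Ideal.span {a})) =
        Ideal.span {Ideal.Quotient.mk (Ideal.span {a}) f} := by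
      rw [hI, Ideal.map_span, Set.image_singleton]
    have hdim₁ : ringKrullDim (A ⧸ Ideal.span {a}) = d := by
      have h2 := ringKrullDim_quotient_span_singleton_succ_eq_ringKrullDim hareg ham
      rw [hdim] at h2
      have h3 : (((d + 1 : ℕ) : ℕ∞) : WithBot ℕ∞) = ((d : ℕ∞) : WithBot ℕ∞) + 1 := by
        push_cast; rfl
      rw [show ((d + 1 : ℕ) : WithBot ℕ∞) = ((d : ℕ∞) : WithBot ℕ∞) + 1 from by push_cast; rfl]
        at h2
      exact ENat.WithBot.add_one_cancel.mp h2
    have hann := ann_map I hL a hareg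
    have hKm : K ≤ maximalIdeal A := IsLocalRing.le_maximalIdeal hne
    have hne₁ : Submodule.annihilator (I.map (Ideal.Quotient.mk (Ideal.span {a}))) ≠ ⊤ := by
      rw [hann]
      intro h
      have h1 := congrArg (Ideal.comap (Ideal.Quotient.mk (Ideal.span {a}))) h
      rw [Ideal.comap_map_of_surjective _ Ideal.Quotient.mk_surjective,
        ← RingHom.ker_eq_comap_bot, Ideal.mk_ker, Ideal.comap_top] at h1
      have h2 : K ⊔ Ideal.span {a} ≤ maximalIdeal A :=
        sup_le hKm ((Ideal.span_singleton_le_iff_mem _).mpr ham)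
      rw [h1] at h2
      exact (IsLocalRing.maximalIdeal.isMaximal A).ne_top (top_le_iff.1 h2)
    rw [hmap] at hL₁ hne₁ hann
    have hIH := ih (A ⧸ Ideal.span {a}) _ hL₁ hdim₁ hne₁
    rw [hann] at hIH
    -- `(A/(a))/K(A/(a)) ≅ (A/K)/(ā)`
    have e := DoubleQuot.quotQuotEquivComm (Ideal.span {a}) K
    have hmap2 : (Ideal.span {a}).map (Ideal.Quotient.mk K) =
        Ideal.span {Ideal.Quotient.mk K a} := by
      rw [Ideal.map_span, Set.image_singleton]
    have hG2 : LocCoh.IsGorensteinLocalRing
        ((A ⧸ K) ⧸ Ideal.span {Ideal.Quotient.mk K a}) :=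
      Groth.Agent.Helper7.SegGor.gorLocal_of_ringEquiv
        (e.trans (Ideal.quotEquivOfEq hmap2)) hIH
    haveI : Nontrivial (A ⧸ K) := Ideal.Quotient.nontrivial_iff.2 hne
    haveI : IsLocalHom (Ideal.Quotient.mk K) :=
      IsLocalHom.of_surjective _ Ideal.Quotient.mk_surjective
    haveI : IsLocalRing (A ⧸ K) :=
      IsLocalRing.of_surjective' (Ideal.Quotient.mk K) Ideal.Quotient.mk_surjective
    have hamK : Ideal.Quotient.mk K a ∈ maximalIdeal (A ⧸ K) := by
      rw [mem_maximalIdeal, mem_nonunits_iff]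
      intro hu
      exact hanu ((isUnit_map_iff (Ideal.Quotient.mk K) a).mp hu)
    have haregK : IsSMulRegular (A ⧸ K) (Ideal.Quotient.mk K a) :=
      (isSMulRegular_algebraMap_iff (A := A ⧸ K) (M := A ⧸ K) (r := a)).2
        (regular_on_ann I a hareg)
    exact (Groth.Agent.Helper6.Rees.main (A ⧸ K) (Ideal.Quotient.mk K a) hamK haregK).2 hG2

end Groth.Agent.Helper7.GorAnn
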