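import Mathlib
import Groth.Prelude.Def_CAlg
import Groth.Agent.Helper6.Rees3
import Groth.Agent.Helper6.Bass5

/-!
# The socle of a Gorenstein ring modulo a regular element is at most one-dimensional (helper7)
-/

set_option autoImplicit false
universe u

namespace Groth.Agent.Helper7.SegGor

open CategoryTheory Abelian IsLocalRing

/-- A zero-dimensional Gorenstein local ring is self-injective. -/
theorem injective_self_of_dim_zero (B : Type u) [CommRing B] [LocCoh.IsGorensteinLocalRing B]
    (hdim : ringKrullDim B = 0) : Module.Injective B B := by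
  have hn : ringKrullDim B = ((0 : ℕ) : WithBot ℕ∞) := by rw [hdim]; rfl
  have hid : HasInjectiveDimensionLT (ModuleCat.of B B) (0 + 1) :=
    Groth.Agent.Helper6.Bass.hasInjectiveDimensionLT_of_ext_residueField B 0
      (fun i hi => (Groth.Agent.Helper6.Bass.gorenstein_top 0 hn).2 (B ⧸ maximalIdeal B) i hi)
  have : Injective (ModuleCat.of B B) := by
    have : HasInjectiveDimensionLT (ModuleCat.of B B) 1 := hid
    infer_instance
  exact Module.injective_module_of_injective_object B _

/-- in a self-injective local ring any two socle elements are proportional -/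
theorem exists_mul_eq_of_injective (B : Type u) [CommRing B] [IsLocalRing B]
    (hinj : Module.Injective B B) (σ₁ σ₂ : B) (h₁ : σ₁ ≠ 0)
    (hs₂ : ∀ b ∈ maximalIdeal B, b * σ₂ = 0) : ∃ c : B, σ₂ = c * σ₁ := by
  let φ₁ : B →ₗ[B] B := LinearMap.toSpanSingleton B B σ₁
  let φ₂ : B →ₗ[B] B := LinearMap.toSpanSingleton B B σ₂
  have hker : LinearMap.ker φ₁ ≤ LinearMap.ker φ₂ := by
    intro b hb
    rw [LinearMap.mem_ker, LinearMap.toSpanSingleton_apply, smul_eq_mul] at hb ⊢
    apply hs₂
    rw [mem_maximalIdeal, mem_nonunits_iff]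
    intro hu
    apply h₁
    have := hu.mul_left_cancel (b := σ₁) (c := 0) (by rw [hb, mul_zero])
    exact this
  let f : (B ⧸ LinearMap.ker φ₁) →ₗ[B] B := (LinearMap.ker φ₁).liftQ φ₁ le_rfl
  have hf : Function.Injective f := by
    rw [← LinearMap.ker_eq_bot]
    exact Submodule.ker_liftQ_eq_bot _ _ _ le_rfl
  let g : (B ⧸ LinearMap.ker φ₁) →ₗ[B] B := (LinearMap.ker φ₁).liftQ φ₂ hker
  obtain ⟨h, hh⟩ := hinj.out f hf g
  refine ⟨h 1, ?_⟩
  have h1 := hh (Submodule.Quotient.mk 1)
  have h2 : f (Submodule.Quotient.mk 1) = σ₁ := by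
    show φ₁ 1 = σ₁
    rw [LinearMap.toSpanSingleton_apply, one_smul]
  have h3 : g (Submodule.Quotient.mk 1) = σ₂ := by
    show φ₂ 1 = σ₂
    rw [LinearMap.toSpanSingleton_apply, one_smul]
  rw [h2, h3] at h1
  rw [← h1]
  have : h σ₁ = h (σ₁ • (1 : B)) := by rw [smul_eq_mul, mul_one]
  rw [this, map_smul, smul_eq_mul, mul_comm]

end Groth.Agent.Helper7.SegGor
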