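import Mathlib
import Groth.Prelude
import Groth.Agent.Helper7.SegGorA
import Groth.Agent.Helper7.GorAnn1
import Groth.Agent.S0344
import Groth.Agent.S0543

set_option autoImplicit false
set_option linter.style.haveILetI false
set_option linter.unusedSectionVars false

namespace Groth.Agent.Helper7.MCross

open IsLocalRing Groth.Agent.Helper7.SegGor

universe u

/-- the socle of a Gorenstein local ring modulo a regular parameter `f` with `m² ⊆ (f)` is at most
one-dimensional. -/
theorem socle_dependent_local (B : Type u) [CommRing B] [hG : LocCoh.IsGorensteinLocalRing B]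
    (f : B) (hf : f ∈ maximalIdeal B) (hreg : IsSMulRegular B f)
    (hnil : ∀ u ∈ maximalIdeal B, ∀ v ∈ maximalIdeal B, u * v ∈ Ideal.span {f})
    (w₁ w₂ : B) (h₂ : ∀ u ∈ maximalIdeal B, u * w₂ ∈ Ideal.span {f}) :
    ∃ a b : B, (a ∉ maximalIdeal B ∨ b ∉ maximalIdeal B) ∧ a * w₁ + b * w₂ ∈ Ideal.span {f} := by
  haveI hGB : LocCoh.IsGorensteinLocalRing (B ⧸ Ideal.span {f}) :=
    (Groth.Agent.Helper6.Rees.main B f hf hreg).1 hG
  have hmem : ∀ b : B ⧸ Ideal.span {f}, b ∈ maximalIdeal (B ⧸ Ideal.span {f}) →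
      ∃ a ∈ maximalIdeal B, Ideal.Quotient.mk _ a = b := by
    intro b hb
    obtain ⟨a, rfl⟩ := Ideal.Quotient.mk_surjective b
    refine ⟨a, ?_, rfl⟩
    rw [mem_maximalIdeal, mem_nonunits_iff] at hb ⊢
    intro hu
    exact hb (hu.map _)
  have hnilp : IsNilpotent (maximalIdeal (B ⧸ Ideal.span {f})) := by
    refine ⟨2, ?_⟩
    rw [sq, Ideal.zero_eq_bot, eq_bot_iff, Ideal.mul_le]
    intro x hx y hy
    obtain ⟨u, hu, rfl⟩ := hmem x hx
    obtain ⟨v, hv, rfl⟩ := hmem y hy
    rw [Ideal.mem_bot, ← map_mul, Ideal.Quotient.eq_zero_iff_mem]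
    exact hnil u hu v hv
  haveI : IsArtinianRing (B ⧸ Ideal.span {f}) :=
    (isArtinianRing_iff_isNilpotent_maximalIdeal _).2 hnilp
  have hdim : ringKrullDim (B ⧸ Ideal.span {f}) = 0 :=
    ringKrullDimZero_iff_ringKrullDim_eq_zero.1 inferInstance
  have hinj := injective_self_of_dim_zero (B ⧸ Ideal.span {f}) hdim
  have hsoc : ∀ b ∈ maximalIdeal (B ⧸ Ideal.span {f}), b * Ideal.Quotient.mk _ w₂ = 0 := by
    intro b hb
    obtain ⟨u, hu, rfl⟩ := hmem b hb
    rw [← map_mul, Ideal.Quotient.eq_zero_iff_mem]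
    exact h₂ u hu
  by_cases h0 : Ideal.Quotient.mk (Ideal.span {f}) w₁ = 0
  · rw [Ideal.Quotient.eq_zero_iff_mem] at h0
    refine ⟨1, 0, Or.inl ?_, by rw [one_mul, zero_mul, add_zero]; exact h0⟩
    rw [mem_maximalIdeal, mem_nonunits_iff, not_not]
    exact isUnit_one
  · obtain ⟨c, hc⟩ := exists_mul_eq_of_injective (B ⧸ Ideal.span {f}) hinj _ _ h0 hsoc
    obtain ⟨a, rfl⟩ := Ideal.Quotient.mk_surjective c
    refine ⟨-a, 1, Or.inr ?_, ?_⟩
    · rw [mem_maximalIdeal, mem_nonunits_iff, not_not]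
      exact isUnit_one
    · rw [← Ideal.Quotient.eq_zero_iff_mem, map_add, map_mul, map_mul, map_neg, map_one, one_mul,
        hc]
      ring

/-- the completion of a Gorenstein local ring is Gorenstein. -/
theorem gorLocal_adicCompletion (A : Type u) [CommRing A] [hG : LocCoh.IsGorensteinLocalRing A] :
    LocCoh.IsGorensteinLocalRing (AdicCompletion (maximalIdeal A) A) := by
  haveI : IsNoetherianRing (AdicCompletion (maximalIdeal A) A) := Groth.Agent.S0543.result A _
  refine (Groth.Agent.S0344.result A (AdicCompletion (maximalIdeal A) A)).2 ⟨hG, ?_⟩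
  haveI hmax : ((maximalIdeal A).map
      (algebraMap A (AdicCompletion (maximalIdeal A) A))).IsMaximal :=
    AdicCompletion.isMaximal_map_of_le _ _ (le_refl _) (maximalIdeal A).fg_of_isNoetherianRing
  letI : Field (AdicCompletion (maximalIdeal A) A ⧸
      (maximalIdeal A).map (algebraMap A (AdicCompletion (maximalIdeal A) A))) :=
    Ideal.Quotient.field _
  exact Groth.Agent.Helper7.GorAnn.gorLocal_of_injective _ (Module.injective_of_isSemisimpleRing _ _)

end Groth.Agent.Helper7.MCross
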