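import Mathlib
import Groth.Prelude.Def_GrSyz

set_option autoImplicit false

open DirectSum

namespace Groth.Agent.Helper7.HilbFn

universe u

section Generic

variable {k : Type u} [Field k] {R : Type u} [CommRing R] [Algebra k R]
  (𝒜 : ℤ → Submodule k R) [GradedAlgebra 𝒜]
  {M : Type u} [AddCommGroup M] [Module k M] [Module R M] [IsScalarTower k R M]
  (ℳ : ℤ → Submodule k M) [DirectSum.Decomposition ℳ] [SetLike.GradedSMul 𝒜 ℳ]

omit [IsScalarTower k R M] in
/-- component of `x • m` for homogeneous `m`. -/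
theorem decompose_smul_of_right_mem {m : M} {j : ℤ} (hm : m ∈ ℳ j) (x : R) (d : ℤ) :
    (decompose ℳ (x • m) d : M) = (decompose 𝒜 x (d - j) : R) • m := by
  classical
  refine DirectSum.Decomposition.inductionOn 𝒜 (motive := fun x =>
    (decompose ℳ (x • m) d : M) = (decompose 𝒜 x (d - j) : R) • m) ?_ ?_ ?_ x
  · simp
  · intro i a
    have h1 : (a : R) • m ∈ ℳ (i + j) := SetLike.GradedSMul.smul_mem a.2 hm
    by_cases h : i + j = d
    · subst h
      rw [decompose_of_mem_same ℳ h1, add_sub_cancel_right, decompose_of_mem_same 𝒜 a.2]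
    · rw [decompose_of_mem_ne ℳ h1 h, decompose_of_mem_ne 𝒜 a.2 (fun h' => h (by omega)), zero_smul]
  · intro a b ha hb
    simp only [add_smul, decompose_add, DirectSum.add_apply, Submodule.coe_add, ha, hb]

variable {n n' : ℕ}

/-- degree-`d` piece of the free module with basis degrees `a`. -/
def piece (a : Fin n → ℤ) (d : ℤ) : Submodule k (Fin n → R) :=
  Submodule.pi Set.univ (fun b => 𝒜 (d - a b))

theorem mem_piece {a : Fin n → ℤ} {d : ℤ} {v : Fin n → R} :
    v ∈ piece 𝒜 a d ↔ ∀ b, v b ∈ 𝒜 (d - a b) := by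
  simp [piece, Submodule.mem_pi]

/-- projection to the degree-`d` piece. -/
noncomputable def projv (a : Fin n → ℤ) (d : ℤ) (v : Fin n → R) : Fin n → R :=
  fun b => (decompose 𝒜 (v b) (d - a b) : R)

theorem projv_mem (a : Fin n → ℤ) (d : ℤ) (v : Fin n → R) : projv 𝒜 a d v ∈ piece 𝒜 a d :=
  (mem_piece 𝒜).2 fun _ => SetLike.coe_mem _

theorem projv_of_mem {a : Fin n → ℤ} {d : ℤ} {v : Fin n → R} (hv : v ∈ piece 𝒜 a d) :
    projv 𝒜 a d v = v := by
  funext b
  exact decompose_of_mem_same 𝒜 ((mem_piece 𝒜).1 hv b)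

theorem projv_mulVec (a : Fin n → ℤ) (a' : Fin n' → ℤ) (D : Matrix (Fin n) (Fin n') R)
    (hD : ∀ i j, D i j ∈ 𝒜 (a' j - a i)) (d : ℤ) (w : Fin n' → R) :
    projv 𝒜 a d (D.mulVec w) = D.mulVec (projv 𝒜 a' d w) := by
  classical
  funext i
  show (decompose 𝒜 (∑ j, D i j * w j) (d - a i) : R) = ∑ j, D i j * projv 𝒜 a' d w j
  rw [decompose_sum, DFinsupp.finset_sum_apply, AddSubmonoidClass.coe_finset_sum]
  refine Finset.sum_congr rfl fun j _ => ?_
  have : d - a i = (a' j - a i) + (d - a' j) := by ring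
  rw [this, coe_decompose_mul_add_of_left_mem 𝒜 (hD i j)]
  rfl

omit [IsScalarTower k R M] in
theorem decompose_linearCombination (a : Fin n → ℤ) (aug : Fin n → M) (haug : ∀ b, aug b ∈ ℳ (a b))
    (d : ℤ) (v : Fin n → R) :
    (decompose ℳ (Fintype.linearCombination R aug v) d : M) =
      Fintype.linearCombination R aug (projv 𝒜 a d v) := by
  classical
  rw [Fintype.linearCombination_apply, Fintype.linearCombination_apply, decompose_sum,
    DFinsupp.finset_sum_apply, AddSubmonoidClass.coe_finset_sum]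
  refine Finset.sum_congr rfl fun b _ => ?_
  rw [decompose_smul_of_right_mem 𝒜 ℳ (haug b)]
  rfl

omit [IsScalarTower k R M] in
theorem linearCombination_mem (a : Fin n → ℤ) (aug : Fin n → M) (haug : ∀ b, aug b ∈ ℳ (a b))
    (d : ℤ) (v : Fin n → R) (hv : v ∈ piece 𝒜 a d) :
    Fintype.linearCombination R aug v ∈ ℳ d := by
  rw [Fintype.linearCombination_apply]
  refine Submodule.sum_mem _ fun b _ => ?_
  have := SetLike.GradedSMul.smul_mem (A := 𝒜) (B := ℳ) ((mem_piece 𝒜).1 hv b) (haug b)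
  simpa using this

theorem mulVec_mem (a : Fin n → ℤ) (a' : Fin n' → ℤ) (D : Matrix (Fin n) (Fin n') R)
    (hD : ∀ i j, D i j ∈ 𝒜 (a' j - a i)) (d : ℤ) (w : Fin n' → R) (hw : w ∈ piece 𝒜 a' d) :
    D.mulVec w ∈ piece 𝒜 a d := by
  rw [← projv_of_mem 𝒜 hw, ← projv_mulVec 𝒜 a a' D hD]
  exact projv_mem 𝒜 a d _

theorem finrank_eq_inf_ker_add_map {V W : Type*} [AddCommGroup V] [Module k V] [AddCommGroup W]
    [Module k W] (f : V →ₗ[k] W) (p : Submodule k V) [FiniteDimensional k p] :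
    Module.finrank k p = Module.finrank k ↥(p ⊓ LinearMap.ker f) + Module.finrank k ↥(p.map f) := by
  have h := LinearMap.finrank_range_add_finrank_ker (f ∘ₗ p.subtype)
  rw [LinearMap.range_comp, Submodule.range_subtype, LinearMap.ker_comp] at h
  have e : Submodule.comap p.subtype (LinearMap.ker f) = Submodule.comap p.subtype (p ⊓ LinearMap.ker f) := by
    rw [Submodule.comap_inf, Submodule.comap_subtype_self, top_inf_eq]
  rw [e, LinearEquiv.finrank_eq (Submodule.comapSubtypeEquivOfLe (inf_le_left : p ⊓ LinearMap.ker f ≤ p))] at h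
  omega

/-- the piece is the product of the pieces. -/
noncomputable def pieceEquiv (a : Fin n → ℤ) (d : ℤ) : piece 𝒜 a d ≃ₗ[k] (∀ b, 𝒜 (d - a b)) where
  toFun v := fun b => ⟨v.1 b, (mem_piece 𝒜).1 v.2 b⟩
  invFun w := ⟨fun b => (w b : R), (mem_piece 𝒜).2 fun b => (w b).2⟩
  map_add' _ _ := rfl
  map_smul' _ _ := rfl
  left_inv _ := rfl
  right_inv _ := rfl

theorem finrank_piece [∀ i, FiniteDimensional k (𝒜 i)] (a : Fin n → ℤ) (d : ℤ) :
    Module.finrank k (piece 𝒜 a d) = ∑ b, Module.finrank k (𝒜 (d - a b)) := by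
  rw [LinearEquiv.finrank_eq (pieceEquiv 𝒜 a d), Module.finrank_pi_fintype]

instance [∀ i, FiniteDimensional k (𝒜 i)] (a : Fin n → ℤ) (d : ℤ) :
    FiniteDimensional k (piece 𝒜 a d) :=
  Module.Finite.equiv (pieceEquiv 𝒜 a d).symm

end Generic

section Res

variable {k : Type u} [Field k] {R : Type u} [CommRing R] [Algebra k R]
  {𝒜 : ℤ → Submodule k R} [GradedAlgebra 𝒜]
  {M : Type u} [AddCommGroup M] [Module k M] [Module R M] [IsScalarTower k R M]
  {ℳ : ℤ → Submodule k M} [DirectSum.Decomposition ℳ] [SetLike.GradedSMul 𝒜 ℳ]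
  (F : GrSyz.FreeRes 𝒜 ℳ) (d : ℤ)

/-- pieces of the terms of the resolution. -/
def P (i : ℕ) : Submodule k (Fin (F.rk i) → R) := piece 𝒜 (F.deg i) d

/-- kernels in degree `d`. -/
def K : (i : ℕ) → Submodule k (Fin (F.rk i) → R)
  | 0 => P F d 0 ⊓ LinearMap.ker (F.augLin.restrictScalars k)
  | (i + 1) => P F d (i + 1) ⊓ LinearMap.ker ((F.dLin i).restrictScalars k)

theorem map_aug_eq : (P F d 0).map (F.augLin.restrictScalars k) = ℳ d := by
  apply le_antisymm
  · rintro _ ⟨v, hv, rfl⟩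
    exact linearCombination_mem 𝒜 ℳ (F.deg 0) F.aug F.aug_mem d v hv
  · intro m hm
    obtain ⟨v, rfl⟩ := F.aug_surjective m
    refine ⟨projv 𝒜 (F.deg 0) d v, projv_mem 𝒜 _ d v, ?_⟩
    show Fintype.linearCombination R F.aug (projv 𝒜 (F.deg 0) d v) = _
    rw [← decompose_linearCombination 𝒜 ℳ (F.deg 0) F.aug F.aug_mem d v]
    exact decompose_of_mem_same ℳ hm

theorem map_d_zero_eq : (P F d 1).map ((F.dLin 0).restrictScalars k) = K F d 0 := by
  apply le_antisymm
  · rintro _ ⟨w, hw, rfl⟩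
    refine ⟨mulVec_mem 𝒜 (F.deg 0) (F.deg 1) (F.d 0) (F.d_mem 0) d w hw, ?_⟩
    have : (F.dLin 0) w ∈ LinearMap.ker F.augLin := by
      rw [F.exact_zero]; exact ⟨w, rfl⟩
    exact this
  · rintro v ⟨hv, hv0⟩
    have hv0' : v ∈ LinearMap.ker F.augLin := hv0
    rw [F.exact_zero] at hv0'
    obtain ⟨w, rfl⟩ := hv0'
    refine ⟨projv 𝒜 (F.deg 1) d w, projv_mem 𝒜 _ d w, ?_⟩
    show (F.d 0).mulVec (projv 𝒜 (F.deg 1) d w) = (F.d 0).mulVec w
    rw [← projv_mulVec 𝒜 (F.deg 0) (F.deg 1) (F.d 0) (F.d_mem 0)]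
    exact projv_of_mem 𝒜 hv

theorem map_d_succ_eq (i : ℕ) :
    (P F d (i + 2)).map ((F.dLin (i + 1)).restrictScalars k) = K F d (i + 1) := by
  apply le_antisymm
  · rintro _ ⟨w, hw, rfl⟩
    refine ⟨mulVec_mem 𝒜 (F.deg (i + 1)) (F.deg (i + 2)) (F.d (i + 1)) (F.d_mem (i + 1)) d w hw, ?_⟩
    have : (F.dLin (i + 1)) w ∈ LinearMap.ker (F.dLin i) := by
      rw [F.exact_succ]; exact ⟨w, rfl⟩
    exact this
  · rintro v ⟨hv, hv0⟩
    have hv0' : v ∈ LinearMap.ker (F.dLin i) := hv0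
    rw [F.exact_succ] at hv0'
    obtain ⟨w, rfl⟩ := hv0'
    refine ⟨projv 𝒜 (F.deg (i + 2)) d w, projv_mem 𝒜 _ d w, ?_⟩
    show (F.d (i + 1)).mulVec (projv 𝒜 (F.deg (i + 2)) d w) = (F.d (i + 1)).mulVec w
    rw [← projv_mulVec 𝒜 (F.deg (i + 1)) (F.deg (i + 2)) (F.d (i + 1)) (F.d_mem (i + 1))]
    exact projv_of_mem 𝒜 hv

theorem map_d_eq (i : ℕ) :
    (P F d (i + 1)).map ((F.dLin i).restrictScalars k) = K F d i := by
  cases i with
  | zero => exact map_d_zero_eq F d
  | succ i => exact map_d_succ_eq F d i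

variable [∀ i, FiniteDimensional k (𝒜 i)]

instance (i : ℕ) : FiniteDimensional k (P F d i) := by unfold P; infer_instance

theorem finrank_P_zero :
    Module.finrank k (P F d 0) = Module.finrank k (K F d 0) + Module.finrank k (ℳ d) := by
  rw [finrank_eq_inf_ker_add_map (F.augLin.restrictScalars k) (P F d 0), map_aug_eq]
  rfl

theorem finrank_P_succ (i : ℕ) :
    Module.finrank k (P F d (i + 1)) = Module.finrank k (K F d (i + 1)) + Module.finrank k (K F d i) := by
  rw [finrank_eq_inf_ker_add_map ((F.dLin i).restrictScalars k) (P F d (i + 1)), map_d_eq]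
  rfl

theorem finrank_K_of_rk_eq_zero (i : ℕ) (h : F.rk i = 0) : Module.finrank k (K F d i) = 0 := by
  haveI : IsEmpty (Fin (F.rk i)) := by rw [h]; infer_instance
  haveI : Subsingleton (K F d i) := inferInstance
  exact Module.finrank_zero_of_subsingleton

theorem finrank_P_of_rk_eq_zero (i : ℕ) (h : F.rk i = 0) : Module.finrank k (P F d i) = 0 := by
  haveI : IsEmpty (Fin (F.rk i)) := by rw [h]; infer_instance
  haveI : Subsingleton (P F d i) := inferInstance
  exact Module.finrank_zero_of_subsingleton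

theorem alt_sum (j : ℕ) :
    ∑ i ∈ Finset.range (j + 1), (-1 : ℤ) ^ i * (Module.finrank k (P F d i) : ℤ) =
      (Module.finrank k (ℳ d) : ℤ) + (-1 : ℤ) ^ j * (Module.finrank k (K F d j) : ℤ) := by
  induction j with
  | zero => simp [finrank_P_zero F d]; ring
  | succ j ih =>
    rw [Finset.sum_range_succ, ih, finrank_P_succ F d j]
    push_cast
    ring

theorem hilbert (m : ℕ) (hF : F.HasLengthLE m) :
    (Module.finrank k (ℳ d) : ℤ) =
      ∑ i ∈ Finset.range (m + 1), (-1 : ℤ) ^ i * (Module.finrank k (P F d i) : ℤ) := by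
  rw [alt_sum F d m]
  have h1 := finrank_P_succ F d m
  rw [finrank_P_of_rk_eq_zero F d (m + 1) (hF _ (Nat.lt_succ_self m))] at h1
  have : Module.finrank k (K F d m) = 0 := by omega
  rw [this]; simp

end Res

end Groth.Agent.Helper7.HilbFn
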