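import Mathlib
import Groth.Prelude.Def_GrSyz
import Groth.Agent.Helper6.HomogRank
import Groth.Agent.Helper7.HilbFn

set_option autoImplicit false

open MvPolynomial

namespace Groth.Agent.Helper7.HilbFn

universe u v

theorem weight_one_eq {σ : Type v} (d : σ →₀ ℕ) :
    Finsupp.weight (fun _ : σ => (1 : ℤ)) d = (d.degree : ℤ) := by
  rw [Finsupp.weight_apply, Finsupp.sum, Finsupp.degree_apply]
  push_cast
  refine Finset.sum_congr rfl fun i _ => ?_
  simp

theorem stdGr_natCast (k : Type u) [CommRing k] (σ : Type v) (m : ℕ) :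
    GrSyz.stdGr k σ (m : ℤ) = homogeneousSubmodule σ k m := by
  ext p
  rw [GrSyz.mem_stdGr_iff, mem_homogeneousSubmodule]
  have e : ∀ d : σ →₀ ℕ, (Finsupp.weight (1 : σ → ℕ)) d = d.degree := fun d => by
    rw [Finsupp.degree_eq_weight_one]; rfl
  constructor
  · intro h d hd
    have := h hd
    rw [weight_one_eq] at this
    rw [e]
    exact_mod_cast this
  · intro h d hd
    have := h hd
    rw [e] at this
    rw [weight_one_eq]
    exact_mod_cast this

theorem stdGr_neg (k : Type u) [CommRing k] (σ : Type v) (n : ℤ) (hn : n < 0) :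
    GrSyz.stdGr k σ n = ⊥ := by
  rw [eq_bot_iff]
  intro p hp
  rw [Submodule.mem_bot]
  ext d
  rw [coeff_zero]
  rw [GrSyz.mem_stdGr_iff] at hp
  apply hp.coeff_eq_zero
  rw [weight_one_eq]
  omega

variable (k : Type u) [Field k] (r : ℕ)

theorem finrank_stdGr (n : ℤ) :
    Module.finrank k (GrSyz.stdGr k (Fin (r + 1)) n) =
      if 0 ≤ n then Nat.choose (r + n.toNat) r else 0 := by
  split_ifs with h
  · obtain ⟨m, rfl⟩ := Int.eq_ofNat_of_zero_le h
    rw [stdGr_natCast, Groth.Agent.Helper6.HomogRank.finrank_homogeneousSubmodule, Int.toNat_natCast,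
      add_comm]
  · rw [stdGr_neg k _ n (by omega)]
    exact finrank_bot k _

instance finiteDimensional_stdGr (n : ℤ) : FiniteDimensional k (GrSyz.stdGr k (Fin (r + 1)) n) := by
  by_cases h : 0 ≤ n
  · obtain ⟨m, rfl⟩ := Int.eq_ofNat_of_zero_le h
    rw [stdGr_natCast]
    have := weightedHomogeneousSubmodule_fg k (1 : Fin (r + 1) → ℕ) (fun _ => one_ne_zero) m
    exact Module.Finite.iff_fg.2 this
  · rw [stdGr_neg k _ n (by omega)]
    infer_instance

theorem hilbert_std
    (M : Type u) [AddCommGroup M] [Module k M] [Module (MvPolynomial (Fin (r + 1)) k) M]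
    [IsScalarTower k (MvPolynomial (Fin (r + 1)) k) M]
    (ℳ : ℤ → Submodule k M) [DirectSum.Decomposition ℳ] [SetLike.GradedSMul (GrSyz.stdGr k (Fin (r + 1))) ℳ]
    (F : GrSyz.FreeRes (GrSyz.stdGr k (Fin (r + 1))) ℳ) (m : ℕ) (hF : F.HasLengthLE m) (d : ℤ) :
    (Module.finrank k ↥(ℳ d) : ℤ) =
      ∑ i ∈ Finset.range (m + 1), (-1 : ℤ) ^ i * ∑ b : Fin (F.rk i),
        (if F.deg i b ≤ d then ((Nat.choose (r + (d - F.deg i b).toNat) r : ℕ) : ℤ) else 0) := by
  rw [hilbert F d m hF]
  refine Finset.sum_congr rfl fun i _ => ?_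
  congr 1
  unfold P
  rw [finrank_piece]
  push_cast
  refine Finset.sum_congr rfl fun b _ => ?_
  rw [finrank_stdGr]
  by_cases h : F.deg i b ≤ d
  · rw [if_pos h, if_pos (by omega)]
  · rw [if_neg h, if_neg (by omega)]; rfl

end Groth.Agent.Helper7.HilbFn
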