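import Mathlib

/-! Module-level Amitsur exactness and faithfully flat descent of morphisms. -/

universe u

open TensorProduct

namespace Groth.Agent.Helper7.ModAmitsur

section

variable (A A' : Type*) [CommRing A] [CommRing A'] [Algebra A A'] (N : Type*) [AddCommGroup N]
  [Module A N]

/-- `n ↦ 1 ⊗ n` -/
noncomputable def ι : N →ₗ[A] A' ⊗[A] N := TensorProduct.mk A A' N 1

/-- the Amitsur differential `a ⊗ n ↦ (a ⊗ 1 - 1 ⊗ a) ⊗ n` -/
noncomputable def d : A' ⊗[A] N →ₗ[A] (A' ⊗[A] A') ⊗[A] N :=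
  LinearMap.rTensor N
    ((Algebra.TensorProduct.includeLeft : A' →ₐ[A] A' ⊗[A] A').toLinearMap -
      (Algebra.TensorProduct.includeRight : A' →ₐ[A] A' ⊗[A] A').toLinearMap)

/-- contraction -/
noncomputable def c : A' ⊗[A] (A' ⊗[A] N) →ₗ[A] A' ⊗[A] N :=
  (LinearMap.rTensor N (LinearMap.mul' A A')) ∘ₗ (TensorProduct.assoc A A' A' N).symm.toLinearMap

noncomputable def m₁ : A' ⊗[A] (A' ⊗[A] A') →ₗ[A] A' ⊗[A] A' :=
  LinearMap.rTensor A' (LinearMap.mul' A A') ∘ₗ (TensorProduct.assoc A A' A' A').symm.toLinearMap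

/-- homotopy -/
noncomputable def h : A' ⊗[A] ((A' ⊗[A] A') ⊗[A] N) →ₗ[A] A' ⊗[A] (A' ⊗[A] N) :=
  (TensorProduct.assoc A A' A' N).toLinearMap ∘ₗ LinearMap.rTensor N (m₁ A A') ∘ₗ
    (TensorProduct.assoc A A' (A' ⊗[A] A') N).symm.toLinearMap

lemma d_tmul (a : A') (n : N) : d A A' N (a ⊗ₜ n) = (a ⊗ₜ 1 - 1 ⊗ₜ a) ⊗ₜ n := by
  simp [d, TensorProduct.sub_tmul]

lemma d_comp_ι : d A A' N ∘ₗ ι A A' N = 0 := by
  refine LinearMap.ext fun n => ?_
  simp [ι, d_tmul]

lemma homotopy : h A A' N ∘ₗ (d A A' N).lTensor A' =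
    (ι A A' N).lTensor A' ∘ₗ c A A' N - LinearMap.id := by
  apply TensorProduct.ext'
  intro a y
  induction y using TensorProduct.induction_on with
  | zero => simp
  | tmul a' n =>
    simp [h, c, ι, d_tmul, m₁, TensorProduct.tmul_sub, TensorProduct.sub_tmul]
  | add y₁ y₂ h₁ h₂ =>
    rw [TensorProduct.tmul_add, map_add, map_add, h₁, h₂]

theorem amitsur_exact [Module.FaithfullyFlat A A'] : Function.Exact (ι A A' N) (d A A' N) := by
  apply Module.FaithfullyFlat.lTensor_reflects_exact A A'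
  intro z
  constructor
  · intro hz
    refine ⟨c A A' N z, ?_⟩
    have := congrArg (fun φ => φ z) (homotopy A A' N)
    simp only [LinearMap.comp_apply, LinearMap.sub_apply, LinearMap.id_apply] at this
    rw [hz, map_zero] at this
    exact (sub_eq_zero.1 this.symm)
  · rintro ⟨w, rfl⟩
    rw [← LinearMap.comp_apply, ← LinearMap.lTensor_comp, d_comp_ι, LinearMap.lTensor_zero,
      LinearMap.zero_apply]

end

theorem descent (A A' : Type u) [CommRing A] [CommRing A'] [Algebra A A']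
    [Module.FaithfullyFlat A A'] (M N : Type u) [AddCommGroup M] [Module A M] [AddCommGroup N]
    [Module A N]
    (f : A' ⊗[A] M →ₗ[A'] A' ⊗[A] N)
    (hf : ∀ m : M,
      LinearMap.rTensor N (Algebra.TensorProduct.includeLeft : A' →ₐ[A] A' ⊗[A] A').toLinearMap
          (f (1 ⊗ₜ[A] m)) =
        LinearMap.rTensor N (Algebra.TensorProduct.includeRight : A' →ₐ[A] A' ⊗[A] A').toLinearMap
          (f (1 ⊗ₜ[A] m))) :
    ∃! h : M →ₗ[A] N, h.baseChange A' = f := by
  have hinj : Function.Injective (ι A A' N) :=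
    Module.FaithfullyFlat.tensorProduct_mk_injective (A := A) (B := A') N
  let g : M →ₗ[A] A' ⊗[A] N := (f.restrictScalars A) ∘ₗ TensorProduct.mk A A' M 1
  have hg : ∀ m, g m = f (1 ⊗ₜ[A] m) := fun m => rfl
  have hrange : ∀ m, g m ∈ LinearMap.range (ι A A' N) := by
    intro m
    apply (amitsur_exact A A' N (g m)).1
    rw [hg, d, LinearMap.rTensor_sub, LinearMap.sub_apply, hf m, sub_self]
  let e := LinearEquiv.ofInjective (ι A A' N) hinj
  let h0 : M →ₗ[A] N := e.symm.toLinearMap ∘ₗ (g.codRestrict _ hrange)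
  have hh0 : ∀ m, (1 : A') ⊗ₜ[A] h0 m = f (1 ⊗ₜ[A] m) := by
    intro m
    have h1 : e (h0 m) = g.codRestrict _ hrange m := e.apply_symm_apply _
    have h2 := congrArg Subtype.val h1
    exact h2
  refine ⟨h0, ?_, ?_⟩
  · refine LinearMap.ext fun z => ?_
    induction z using TensorProduct.induction_on with
    | zero => simp
    | tmul a m =>
      have : a ⊗ₜ[A] m = a • ((1 : A') ⊗ₜ[A] m) := by rw [TensorProduct.smul_tmul', smul_eq_mul, mul_one]
      rw [this, map_smul, map_smul, LinearMap.baseChange_tmul, hh0]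
    | add x y hx hy => rw [map_add, map_add, hx, hy]
  · intro h' hh'
    refine LinearMap.ext fun m => hinj ?_
    show (1 : A') ⊗ₜ[A] h' m = (1 : A') ⊗ₜ[A] h0 m
    rw [hh0, ← hh', LinearMap.baseChange_tmul]

end Groth.Agent.Helper7.ModAmitsur
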