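import Mathlib

set_option autoImplicit false

universe u v w

namespace Groth.Agent.Helper7.SopFree

open RingTheory.Sequence IsLocalRing

/-- a finite module over a Noetherian local ring whose maximal ideal is generated by a sequence
that is weakly regular on the module is free -/
theorem free_of_regular (n : ℕ) : ∀ (P : Type v) [CommRing P] [IsLocalRing P] [IsNoetherianRing P]
    (M : Type w) [AddCommGroup M] [Module P M] [Module.Finite P M] (rs : List P),
    rs.length = n → IsWeaklyRegular M rs → Ideal.ofList rs = maximalIdeal P → Module.Free P M := by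
  induction n with
  | zero =>
    intro P _ _ _ M _ _ _ rs hlen _ hmax
    have hnil : rs = [] := List.length_eq_zero_iff.mp hlen
    subst hnil
    rw [Ideal.ofList_nil] at hmax
    have hF : IsField P := IsLocalRing.isField_iff_maximalIdeal_eq.mpr hmax.symm
    letI := hF.toField
    exact Module.Free.of_divisionRing P M
  | succ n ih =>
    intro P _ _ _ M _ _ _ rs hlen hreg hmax
    match rs, hlen with
    | r :: rs', hlen =>
      have hlen' : rs'.length = n := by simpa using hlen
      have hr : r ∈ maximalIdeal P := by
        rw [← hmax]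
        exact Ideal.subset_span (List.mem_cons_self)
      rw [isWeaklyRegular_cons_iff'] at hreg
      obtain ⟨hreg1, hreg2⟩ := hreg
      have hne : Ideal.span {r} ≠ ⊤ := by
        intro h
        have : Ideal.span {r} ≤ maximalIdeal P := by
          rw [Ideal.span_singleton_le_iff_mem]; exact hr
        rw [h, top_le_iff] at this
        exact (IsLocalRing.maximalIdeal.isMaximal P).ne_top this
      haveI : Nontrivial (P ⧸ Ideal.span {r}) := Ideal.Quotient.nontrivial_iff.mpr hne
      haveI : IsLocalRing (P ⧸ Ideal.span {r}) :=
        IsLocalRing.of_surjective' (Ideal.Quotient.mk (Ideal.span {r})) Ideal.Quotient.mk_surjective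
      haveI : Module.Finite (P ⧸ Ideal.span {r}) (QuotSMulTop r M) :=
        Module.Finite.of_restrictScalars_finite P _ _
      have hmax' : Ideal.ofList (rs'.map (Ideal.Quotient.mk (Ideal.span {r}))) =
          maximalIdeal (P ⧸ Ideal.span {r}) := by
        have h1 : (maximalIdeal P).map (Ideal.Quotient.mk (Ideal.span {r})) =
            maximalIdeal (P ⧸ Ideal.span {r}) := by
          apply IsLocalRing.eq_maximalIdeal
          apply Ideal.IsMaximal.map_of_surjective_of_ker_le Ideal.Quotient.mk_surjective
          rw [Ideal.mk_ker, Ideal.span_singleton_le_iff_mem]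
          exact hr
        rw [← h1, ← hmax, Ideal.map_ofList, List.map_cons, Ideal.ofList_cons]
        have h0 : Ideal.Quotient.mk (Ideal.span {r}) r = 0 :=
          Ideal.Quotient.eq_zero_iff_mem.mpr (Ideal.mem_span_singleton_self r)
        rw [h0]
        simp
      have hfree := ih (P ⧸ Ideal.span {r}) (QuotSMulTop r M) _ (by simpa using hlen') hreg2 hmax'
      haveI : Module.FinitePresentation P M := Module.finitePresentation_of_finite P M
      have hjac : r ∈ (⊥ : Ideal P).jacobson := IsLocalRing.maximalIdeal_le_jacobson ⊥ hr
      exact (Module.free_quotSMulTop_iff_free P M hjac hreg1).mp hfree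

section Len
variable {A : Type u} {B : Type v} [CommRing A] [CommRing B] [Algebra A B] [IsLocalRing B]

/-- a simple module over a local ring `B` stays simple over `A` when `A → B / 𝔪_B` is onto -/
theorem isSimpleModule_restrict
    (hres : ∀ b : B, ∃ a : A, b - algebraMap A B a ∈ maximalIdeal B)
    (S : Type w) [AddCommGroup S] [Module A S] [Module B S] [IsScalarTower A B S]
    [IsSimpleModule B S] : IsSimpleModule A S := by
  have hann : Module.annihilator B S = maximalIdeal B :=
    IsLocalRing.eq_maximalIdeal IsSimpleModule.annihilator_isMaximal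
  haveI : Nontrivial S := IsSimpleModule.nontrivial B S
  have key : ∀ N : Submodule A S, ∃ N' : Submodule B S, (N' : Set S) = N := by
    intro N
    refine ⟨{ carrier := N, add_mem' := N.add_mem, zero_mem' := N.zero_mem, smul_mem' := ?_ }, rfl⟩
    intro b s hs
    obtain ⟨a, ha⟩ := hres b
    have h0 : (b - algebraMap A B a) • s = 0 := by
      have : b - algebraMap A B a ∈ Module.annihilator B S := hann ▸ ha
      exact Module.mem_annihilator.mp this s
    have h1 : b • s = a • s := by
      rw [sub_smul, sub_eq_zero] at h0
      rw [h0, algebraMap_smul]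
    show b • s ∈ N
    rw [h1]
    exact N.smul_mem a hs
  rw [isSimpleModule_iff]
  refine { exists_pair_ne := ⟨⊥, ⊤, bot_ne_top⟩, eq_bot_or_eq_top := ?_ }
  intro N
  obtain ⟨N', hN'⟩ := key N
  rcases eq_bot_or_eq_top N' with h | h
  · left
    apply SetLike.coe_injective
    rw [← hN', h]
    rfl
  · right
    apply SetLike.coe_injective
    rw [← hN', h]
    rfl

theorem length_restrict_le
    (hres : ∀ b : B, ∃ a : A, b - algebraMap A B a ∈ maximalIdeal B)
    (M : Type w) [AddCommGroup M] [Module B M] (h : IsFiniteLength B M) :
    ∀ [Module A M] [IsScalarTower A B M], Module.length A M ≤ Module.length B M := by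
  induction h with
  | of_subsingleton =>
    intro _ _
    rw [Module.length_eq_zero, Module.length_eq_zero]
  | @of_simple_quotient M _ _ N _ _ ih =>
    intro _ _
    have h1 := Module.length_eq_add_of_exact (N.subtype.restrictScalars A)
      (N.mkQ.restrictScalars A) (Submodule.subtype_injective _) (Submodule.mkQ_surjective _)
      (LinearMap.exact_subtype_mkQ N)
    have h2 := Module.length_eq_add_of_exact N.subtype N.mkQ (Submodule.subtype_injective _)
      (Submodule.mkQ_surjective _) (LinearMap.exact_subtype_mkQ N)
    haveI : IsSimpleModule A (M ⧸ N) := isSimpleModule_restrict hres (M ⧸ N)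
    rw [h1, h2, Module.length_eq_one (R := A) (M := M ⧸ N), Module.length_eq_one (R := B) (M := M ⧸ N)]
    gcongr
    exact ih

theorem length_restrict
    (hres : ∀ b : B, ∃ a : A, b - algebraMap A B a ∈ maximalIdeal B)
    (M : Type w) [AddCommGroup M] [Module A M] [Module B M] [IsScalarTower A B M] :
    Module.length A M = Module.length B M := by
  apply le_antisymm
  · by_cases h : IsFiniteLength B M
    · exact length_restrict_le hres M h
    · rw [← Module.length_ne_top_iff, not_not] at h
      rw [h]
      exact le_top
  · have := Submodule.length_le_length_restrictScalars A (⊤ : Submodule B M)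
    rw [Module.length_top] at this
    refine this.trans ?_
    have e : ((⊤ : Submodule B M).restrictScalars A) ≃ₗ[A] M :=
      (LinearEquiv.ofEq _ _ (Submodule.restrictScalars_top A B M)).trans Submodule.topEquiv
    exact e.length_eq.le

end Len

section Adic

theorem mem_smul_top_pi_iff {R : Type u} [CommRing R] {ι : Type} [Fintype ι] [DecidableEq ι]
    (J : Ideal R) (x : ι → R) :
    x ∈ (J • ⊤ : Submodule R (ι → R)) ↔ ∀ i, x i ∈ J := by
  constructor
  · intro hx i
    refine Submodule.smul_induction_on hx (fun r hr m _ => ?_) (fun a b ha hb => ?_)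
    · simpa using J.mul_mem_right _ hr
    · simpa using J.add_mem ha hb
  · intro hx
    have : x = ∑ i, x i • (Pi.single i (1 : R) : ι → R) := by
      ext j
      simp [Finset.sum_apply, Pi.single_apply]
    rw [this]
    exact Submodule.sum_mem _ fun i _ => Submodule.smul_mem_smul (hx i) Submodule.mem_top

theorem isPrecomplete_pi {R : Type u} [CommRing R] {ι : Type} [Fintype ι] [DecidableEq ι]
    (I : Ideal R) [IsPrecomplete I R] : IsPrecomplete I (ι → R) := by
  refine ⟨fun f hf => ?_⟩
  have hc : ∀ i, ∃ L : R, ∀ n, f n i ≡ L [SMOD (I ^ n • ⊤ : Submodule R R)] := by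
    intro i
    apply IsPrecomplete.prec' (fun n => f n i)
    intro m n hmn
    have := hf hmn
    rw [SModEq.sub_mem] at this ⊢
    rw [mem_smul_top_pi_iff] at this
    simpa using this i
  choose L hL using hc
  refine ⟨L, fun n => ?_⟩
  rw [SModEq.sub_mem, mem_smul_top_pi_iff]
  intro i
  have := hL i n
  rw [SModEq.sub_mem] at this
  simpa using this

/-- universe-general version of the complete Nakayama lemma -/
theorem finite_of_adic (R : Type u) [CommRing R]
    (I : Ideal R) [IsAdicComplete I R] (M : Type w) [AddCommGroup M] [Module R M] [IsHausdorff I M]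
    (h : Module.Finite R (M ⧸ (I • ⊤ : Submodule R M))) : Module.Finite R M := by
  classical
  obtain ⟨n, s, hs⟩ := Module.Finite.exists_fin (R := R) (M := M ⧸ (I • ⊤ : Submodule R M))
  have hsurj : ∀ i, ∃ m : M, Submodule.Quotient.mk m = s i := fun i =>
    Submodule.Quotient.mk_surjective _ (s i)
  choose t ht using hsurj
  let f : (Fin n → R) →ₗ[R] M := Fintype.linearCombination R t
  have : IsPrecomplete I (Fin n → R) := isPrecomplete_pi I
  have hf : Function.Surjective ((I • ⊤ : Submodule R M).mkQ ∘ₗ f) := by
    rw [← LinearMap.range_eq_top, eq_top_iff, ← hs, Submodule.span_le]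
    rintro _ ⟨i, rfl⟩
    refine ⟨Pi.single i 1, ?_⟩
    simp [f, ht]
  exact Module.Finite.of_surjective f (surjective_of_mkQ_comp_surjective hf)

end Adic

end Groth.Agent.Helper7.SopFree
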