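import Mathlib
import Groth.Prelude.Def_Found
import Groth.Agent.Helper7.N2a

namespace Groth.Agent.Helper7.N2

universe u

theorem result0574 (R : Type u) [CommRing R] [IsDomain R] [IsNoetherianRing R]
    [CharZero R] : CAlg.IsN1 R ↔ CAlg.IsN2 R := by
  constructor
  · intro h1 L _ _ _ _ hfd
    have : CharZero (FractionRing R) :=
      charZero_of_injective_algebraMap (IsFractionRing.injective R (FractionRing R))
    exact finite_integralClosure_of_tower R (FractionRing R) (FractionRing R) L h1
  · intro h2
    exact h2 (FractionRing R) inferInstance

end Groth.Agent.Helper7.N2
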