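import Mathlib

set_option autoImplicit false
universe u

namespace Groth.Agent.Helper7.EtAdjRoot
open Polynomial

variable {A : Type u} [CommRing A]

/-- if `A[X]/(f)` is formally unramified over `A`, then `f'(root)` is a unit -/
lemma isUnit_derivative_root (f : A[X]) [Algebra.FormallyUnramified A (AdjoinRoot f)] :
    IsUnit (aeval (AdjoinRoot.root f) (derivative f)) := by
  set B := AdjoinRoot f
  set δ : B := aeval (AdjoinRoot.root f) (derivative f) with hδ
  set N := B ⧸ Ideal.span {δ}
  let π : B →ₐ[A] N := Ideal.Quotient.mkₐ A _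
  let g₁ : B →ₐ[A] DualNumber N := (TrivSqZeroExt.inlAlgHom A N N).comp π
  set x₀ : DualNumber N := g₁ (AdjoinRoot.root f) + DualNumber.eps with hx₀
  have heps : (DualNumber.eps : DualNumber N) ^ 2 = 0 := by
    rw [pow_two, DualNumber.eps_mul_eps]
  have hx₀f : aeval x₀ f = 0 := by
    rw [hx₀, Polynomial.aeval_add_of_sq_eq_zero _ _ _ heps, aeval_algHom_apply,
      aeval_algHom_apply]
    have h1 : aeval (AdjoinRoot.root f) f = 0 := by
      rw [AdjoinRoot.aeval_eq, AdjoinRoot.mk_self]
    have h2 : π δ = 0 := by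
      show Ideal.Quotient.mk _ δ = 0
      exact Ideal.Quotient.eq_zero_iff_mem.mpr (Ideal.subset_span rfl)
    rw [h1, map_zero, zero_add]
    show (TrivSqZeroExt.inlAlgHom A N N) (π δ) * _ = 0
    rw [h2, map_zero, zero_mul]
  let g₂ : B →ₐ[A] DualNumber N :=
    AdjoinRoot.liftAlgHom f (Algebra.ofId A (DualNumber N)) x₀ (by
      have := hx₀f
      rwa [Polynomial.aeval_def] at this)
  have hker : IsNilpotent (RingHom.ker (TrivSqZeroExt.fstHom A N N : DualNumber N →+* N)) := by
    refine ⟨2, ?_⟩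
    rw [Ideal.zero_eq_bot, eq_bot_iff]
    have hsq : ∀ I : Ideal (DualNumber N), I ^ 2 = I * I := fun I => pow_two I
    rw [hsq, Ideal.mul_le]
    intro x hx y hy
    rw [RingHom.mem_ker] at hx hy
    have hx' : x.fst = 0 := hx
    have hy' : y.fst = 0 := hy
    rw [Ideal.mem_bot]
    apply TrivSqZeroExt.ext
    · simp [hx', hy']
    · simp [hx', hy']
  have heq : g₁ = g₂ := by
    apply Algebra.FormallyUnramified.ext' (TrivSqZeroExt.fstHom A N N : DualNumber N →+* N) hker
    have hcomp : (TrivSqZeroExt.fstHom A N N).comp g₁ = (TrivSqZeroExt.fstHom A N N).comp g₂ := by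
      apply AdjoinRoot.algHom_ext
      simp only [AlgHom.comp_apply]
      show (g₁ (AdjoinRoot.root f)).fst = (g₂ (AdjoinRoot.root f)).fst
      rw [show g₂ (AdjoinRoot.root f) = x₀ from AdjoinRoot.liftAlgHom_root _ _ _ _, hx₀]
      simp
    intro x
    exact AlgHom.congr_fun hcomp x
  have h1 : (g₁ (AdjoinRoot.root f)).snd = (g₂ (AdjoinRoot.root f)).snd := by rw [heq]
  rw [show g₂ (AdjoinRoot.root f) = x₀ from AdjoinRoot.liftAlgHom_root _ _ _ _, hx₀] at h1
  have h2 : (g₁ (AdjoinRoot.root f)).snd = 0 := by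
    show ((TrivSqZeroExt.inlAlgHom A N N) (π (AdjoinRoot.root f))).snd = 0
    simp
  rw [TrivSqZeroExt.snd_add, h2, zero_add, DualNumber.snd_eps] at h1
  -- (0 : N) = 1
  have htop : Ideal.span {δ} = ⊤ := by
    rw [Ideal.eq_top_iff_one, ← Ideal.Quotient.eq_zero_iff_mem, map_one]
    exact h1.symm
  exact Ideal.span_singleton_eq_top.mp htop

/-- `A[X]/(f)` is étale when `f` is monic and `f' p₁ + f p₂ = 1` -/
lemma etale_of_bezout (f : A[X]) (hf : f.Monic) (p₁ p₂ : A[X])
    (h : derivative f * p₁ + f * p₂ = 1) : Algebra.Etale A (AdjoinRoot f) := by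
  let P : StandardEtalePair A := ⟨f, hf, 1, ⟨p₁, p₂, 1, by rw [h, pow_one]⟩⟩
  have hmap : P.HasMap (AdjoinRoot.root f) := by
    refine ⟨?_, ?_⟩
    · show aeval (AdjoinRoot.root f) f = 0
      rw [AdjoinRoot.aeval_eq, AdjoinRoot.mk_self]
    · show IsUnit (aeval (AdjoinRoot.root f) (1 : A[X]))
      rw [map_one]; exact isUnit_one
  let F : P.Ring →ₐ[A] AdjoinRoot f := P.lift (AdjoinRoot.root f) hmap
  let G : AdjoinRoot f →ₐ[A] P.Ring :=
    AdjoinRoot.liftAlgHom f (Algebra.ofId A P.Ring) P.X (by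
      have : aeval P.X f = 0 := P.hasMap_X.1
      rwa [Polynomial.aeval_def] at this)
  have h1 : F.comp G = AlgHom.id A _ := by
    apply AdjoinRoot.algHom_ext
    simp [F, G]
  have h2 : G.comp F = AlgHom.id A _ := by
    apply P.hom_ext
    simp [F, G]
  exact Algebra.Etale.of_equiv (AlgEquiv.ofAlgHom F G h1 h2)

theorem result (a : A) (n : ℕ) (hn : 1 ≤ n) :
    Algebra.Etale A (AdjoinRoot ((X : A[X]) ^ n - C a)) ↔ n = 1 ∨ IsUnit ((n : A) * a) := by
  have hn0 : n ≠ 0 := by omega
  have hmonic : ((X : A[X]) ^ n - C a).Monic := monic_X_pow_sub_C a hn0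
  have hder : derivative ((X : A[X]) ^ n - C a) = C (n : A) * X ^ (n - 1) := by
    rw [derivative_sub, derivative_X_pow, derivative_C, sub_zero]
  constructor
  · intro het
    by_cases h1 : n = 1
    · exact Or.inl h1
    right
    rcases subsingleton_or_nontrivial A with hsub | hnt
    · exact isUnit_of_subsingleton _
    set f := (X : A[X]) ^ n - C a with hf
    set B := AdjoinRoot f
    haveI : Algebra.FormallyUnramified A B := inferInstance
    have hδ := isUnit_derivative_root f
    rw [hder] at hδ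
    simp only [map_mul, aeval_C, map_pow, aeval_X] at hδ
    -- hδ : IsUnit (algebraMap A B n * root ^ (n-1))
    have hroot : IsUnit (AdjoinRoot.root f) := by
      have h2 : IsUnit (AdjoinRoot.root f ^ (n - 1)) := isUnit_of_mul_isUnit_right hδ
      exact (isUnit_pow_iff (by omega)).mp h2
    have hnB : IsUnit (algebraMap A B (n : A)) := isUnit_of_mul_isUnit_left hδ
    have hrootn : AdjoinRoot.root f ^ n = algebraMap A B a := by
      have h3 : aeval (AdjoinRoot.root f) f = 0 := by
        rw [AdjoinRoot.aeval_eq, AdjoinRoot.mk_self]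
      rw [hf] at h3
      simp only [map_sub, map_pow, aeval_X, aeval_C] at h3
      exact sub_eq_zero.mp h3
    have hna : IsUnit (algebraMap A B ((n : A) * a)) := by
      rw [map_mul, ← hrootn]
      exact hnB.mul (hroot.pow n)
    have hnorm : IsUnit (Algebra.norm A (algebraMap A B ((n : A) * a))) := hna.map _
    rw [Algebra.norm_algebraMap_of_basis (AdjoinRoot.powerBasis' hmonic).basis] at hnorm
    have hcard : Fintype.card (Fin (AdjoinRoot.powerBasis' hmonic).dim) = n := by
      rw [Fintype.card_fin, AdjoinRoot.powerBasis'_dim, natDegree_X_pow_sub_C]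
    rw [hcard] at hnorm
    exact (isUnit_pow_iff hn0).mp hnorm
  · rintro (h1 | hu)
    · subst h1
      apply etale_of_bezout _ hmonic 1 0
      rw [hder]; simp
    · obtain ⟨u, hu⟩ := hu
      apply etale_of_bezout _ hmonic (C ((u⁻¹ : Aˣ) : A) * X) (- C ((u⁻¹ : Aˣ) : A) * C (n : A))
      rw [hder]
      have h3 : (X : A[X]) ^ (n - 1) * X = X ^ n := by
        rw [← pow_succ]; congr 1; omega
      have h4 : C ((u⁻¹ : Aˣ) : A) * (C (n : A) * C a) = (1 : A[X]) := by
        rw [← C_mul, ← C_mul, ← hu, Units.inv_mul, C_1]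
      linear_combination (C ((u⁻¹ : Aˣ) : A) * C (n : A)) * h3 + h4

end Groth.Agent.Helper7.EtAdjRoot
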