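import Mathlib
import Groth.Agent.Helper8.RegAdj
import Groth.Agent.Helper8.RegEt

/-!
# CCvA: `R[X]/(Xⁿ - s)` for a regular ring `R`, a regular element `s` with `R/s` regular, `n` a unit
-/

set_option autoImplicit false
universe u
open Polynomial

namespace Groth.Agent.Helper7.CCv

section Basic

variable {R : Type u} [CommRing R] (s : R) (n : ℕ)

/-- the polynomial `Xⁿ - s` -/
noncomputable abbrev pol : R[X] := (X : R[X]) ^ n - C s

theorem pol_monic (hn : 0 < n) : (pol s n).Monic := monic_X_pow_sub_C s (by omega)

theorem root_pow : AdjoinRoot.root (pol s n) ^ n = AdjoinRoot.of (pol s n) s := by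
  have h3 : AdjoinRoot.mk (pol s n) (pol s n) = 0 := AdjoinRoot.mk_self
  rw [pol, map_sub, map_pow, AdjoinRoot.mk_X, sub_eq_zero] at h3
  exact h3

theorem finite_adj (hn : 0 < n) : Module.Finite R (AdjoinRoot (pol s n)) :=
  (AdjoinRoot.powerBasis' (pol_monic s n hn)).finite

theorem free_adj (hn : 0 < n) : Module.Free R (AdjoinRoot (pol s n)) :=
  Module.Free.of_basis (AdjoinRoot.powerBasis' (pol_monic s n hn)).basis

/-- regular elements of the base stay regular -/
theorem of_isSMulRegular (hn : 0 < n) (r : R) (hr : IsSMulRegular R r) :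
    IsSMulRegular (AdjoinRoot (pol s n)) (AdjoinRoot.of (pol s n) r) := by
  haveI := free_adj s n hn
  exact IsSMulRegular.of_flat (S := AdjoinRoot (pol s n)) hr

/-- the root is regular when `s` is -/
theorem root_isSMulRegular (hn : 0 < n) (hs : IsSMulRegular R s) :
    IsSMulRegular (AdjoinRoot (pol s n)) (AdjoinRoot.root (pol s n)) := by
  intro y z hyz
  have h1 := of_isSMulRegular s n hn s hs
  apply h1
  obtain ⟨m, rfl⟩ : ∃ m, n = m + 1 := ⟨n - 1, by omega⟩
  simp only [smul_eq_mul] at hyz ⊢
  rw [← root_pow, pow_succ, mul_assoc, mul_assoc, hyz]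

end Basic

section Local

variable (R : Type u) [CommRing R] [IsNoetherianRing R]

/-- prime-local criterion: `x` regular, `x ∈ Q`, `R/x` a regular ring ⟹ `R_Q` regular -/
theorem regular_atPrime_of_quotient (x : R) (hx : IsSMulRegular R x) (Q : Ideal R) [Q.IsPrime]
    (hxQ : x ∈ Q) (hq : IsRegularRing (R ⧸ Ideal.span {x})) :
    IsRegularLocalRing (Localization.AtPrime Q) := by
  let S := R ⧸ Ideal.span {x}
  have hsurj : Function.Surjective (algebraMap R S) := Ideal.Quotient.mk_surjective
  have hle : Ideal.span {x} ≤ Q := (Ideal.span_singleton_le_iff_mem _).2 hxQ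
  let q : Ideal S := Q.map (Ideal.Quotient.mk (Ideal.span {x}))
  haveI hqp : q.IsPrime := Ideal.map_isPrime_of_surjective Ideal.Quotient.mk_surjective
    (by rw [Ideal.mk_ker]; exact hle)
  have hcomap : q.comap (algebraMap R S) = Q := by
    show (Q.map (Ideal.Quotient.mk (Ideal.span {x}))).comap (Ideal.Quotient.mk (Ideal.span {x})) = Q
    rw [Ideal.comap_map_of_surjective _ Ideal.Quotient.mk_surjective, ← RingHom.ker_eq_comap_bot,
      Ideal.mk_ker]
    exact sup_eq_left.2 hle
  obtain ⟨e⟩ := Groth.Agent.Helper2.PSReg.exists_ringEquiv hsurj q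
  have hker : RingHom.ker (algebraMap R S) = Ideal.span {x} := Ideal.mk_ker
  rw [hker, Ideal.map_span, Set.image_singleton] at e
  -- transport along `hcomap`
  have key : ∀ (Q' : Ideal R) [Q'.IsPrime], Q' = Q →
      ((Localization.AtPrime Q' ⧸ Ideal.span {algebraMap R (Localization.AtPrime Q') x}) ≃+*
        Localization.AtPrime q) → IsRegularLocalRing (Localization.AtPrime Q) := by
    intro Q' hQ' hQQ e'
    subst hQQ
    haveI : IsRegularLocalRing (Localization.AtPrime q) := hq.isRegularLocalRing_localization q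
    have hreg : IsRegularLocalRing
        (Localization.AtPrime Q' ⧸ Ideal.span {algebraMap R (Localization.AtPrime Q') x}) :=
      IsRegularLocalRing.of_ringEquiv e'.symm
    apply Groth.Agent.Helper2.PSReg.regular_of_quotient_regular_elem (Localization.AtPrime Q')
      (algebraMap R (Localization.AtPrime Q') x)
    · exact (IsLocalization.AtPrime.to_map_mem_maximal_iff (Localization.AtPrime Q') Q' x).2 hxQ
    · exact IsSMulRegular.of_flat (S := Localization.AtPrime Q') hx
    · exact hreg
  exact key (q.comap (algebraMap R S)) hcomap e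

end Local

end Groth.Agent.Helper7.CCv
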