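import Mathlib
import Groth.Agent.Helper7.CCvA
import Groth.Agent.Helper8.RegAdj
import Groth.Agent.Helper2.PSReg
import Groth.Agent.Lead.RegLocal

/-!
# KAlgB: adjoining an `n`-th root of a regular parameter to a regular local ring
-/

set_option autoImplicit false
universe u v
open IsLocalRing Polynomial

namespace Groth.Agent.Helper7.KAlg

open Groth.Agent.Helper7.CCv (pol)

/-- concrete form of linear independence in the cotangent space (any finite index type) -/
theorem cot_li_iff' {R : Type*} [CommRing R] [IsLocalRing R] {ι : Type*} [Fintype ι]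
    (x : ι → maximalIdeal R) :
    LinearIndependent (ResidueField R) (fun i => (maximalIdeal R).toCotangent (x i)) ↔
      ∀ c : ι → R, (∑ i, c i * (x i : R)) ∈ maximalIdeal R ^ 2 →
        ∀ i, c i ∈ maximalIdeal R := by
  have key : ∀ c : ι → R, ∑ i, residue R (c i) • (maximalIdeal R).toCotangent (x i) =
      (maximalIdeal R).toCotangent ⟨∑ i, c i * (x i : R),
        Ideal.sum_mem _ fun i _ => Ideal.mul_mem_left _ _ (x i).2⟩ := by
    intro c
    have h1 : ∀ i, residue R (c i) • (maximalIdeal R).toCotangent (x i) =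
        (maximalIdeal R).toCotangent (c i • x i) := by
      intro i
      rw [map_smul]
      exact algebraMap_smul (ResidueField R) (c i) _
    rw [Finset.sum_congr rfl fun i _ => h1 i, ← map_sum]
    congr 1
    apply Subtype.ext
    rw [Submodule.coe_sum]
    rfl
  rw [Fintype.linearIndependent_iff]
  constructor
  · intro h c hc i
    have h2 := h (fun i => residue R (c i)) (by
      rw [key, Ideal.toCotangent_eq_zero]
      exact hc) i
    exact (residue_eq_zero_iff _).1 h2
  · intro h g hg i
    choose c hc using fun i => residue_surjective (g i)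
    have hg' : ∑ i, residue R (c i) • (maximalIdeal R).toCotangent (x i) = 0 := by
      rw [← hg]
      exact Finset.sum_congr rfl fun i _ => by rw [hc]
    rw [key, Ideal.toCotangent_eq_zero] at hg'
    rw [← hc i]
    exact (residue_eq_zero_iff _).2 (h c hg' i)

section OV

variable (R : Type u) [CommRing R] [IsRegularLocalRing R] (s : R) (hs : s ∈ maximalIdeal R)
  (hs2 : s ∉ maximalIdeal R ^ 2) (n : ℕ) (hn : 0 < n)

local notation "π" => Groth.Agent.Helper8.RegAdj.toQuot s n hn

include hs hs2 in
theorem quot_regular : IsRegularLocalRing (R ⧸ Ideal.span {s}) :=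
  (Groth.Agent.Lead.RegLocal.quotient_isRegularLocalRing hs hs2).1

theorem toQuot_of (a : R) : π (AdjoinRoot.of _ a) = Ideal.Quotient.mk _ a := by
  have : AdjoinRoot.of (pol s n) a = AdjoinRoot.mk (pol s n) (C a) := rfl
  rw [this, Groth.Agent.Helper8.RegAdj.toQuot_mk, coeff_C_zero]

theorem toQuot_root : π (AdjoinRoot.root _) = 0 := by
  have h := Groth.Agent.Helper8.RegAdj.ker_toQuot s n hn
  have : AdjoinRoot.root ((X : R[X]) ^ n - C s) ∈ RingHom.ker π := by
    rw [h]
    exact Ideal.mem_span_singleton_self _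
  exact this

include hs hn in
theorem root_mem_of_isMaximal (M : Ideal (AdjoinRoot (pol s n))) [hM : M.IsMaximal] :
    AdjoinRoot.root (pol s n) ∈ M := by
  haveI : Module.Finite R (AdjoinRoot (pol s n)) := Groth.Agent.Helper7.CCv.finite_adj s n hn
  haveI : Algebra.IsIntegral R (AdjoinRoot (pol s n)) := Algebra.IsIntegral.of_finite R _
  have hcm : (M.comap (algebraMap R (AdjoinRoot (pol s n)))).IsMaximal :=
    Ideal.isMaximal_comap_of_isIntegral_of_isMaximal M
  have hcm' : M.comap (algebraMap R (AdjoinRoot (pol s n))) = maximalIdeal R :=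
    IsLocalRing.eq_maximalIdeal hcm
  have hsM : algebraMap R (AdjoinRoot (pol s n)) s ∈ M := by
    have : s ∈ M.comap (algebraMap R (AdjoinRoot (pol s n))) := by
      rw [hcm']; exact hs
    exact this
  have hroot : AdjoinRoot.root (pol s n) ^ n = algebraMap R _ s :=
    Groth.Agent.Helper7.CCv.root_pow s n
  rw [← hroot] at hsM
  exact hM.isPrime.mem_of_pow_mem n hsM

include hs hs2 hn in
theorem isLocalRing_adj : IsLocalRing (AdjoinRoot (pol s n)) := by
  haveI := quot_regular R s hs hs2
  have hsurj := Groth.Agent.Helper8.RegAdj.toQuot_surjective s n hn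
  apply IsLocalRing.of_unique_max_ideal
  refine ⟨(maximalIdeal (R ⧸ Ideal.span {s})).comap π,
    Ideal.comap_isMaximal_of_surjective _ hsurj, ?_⟩
  intro M hM
  haveI := hM
  have hroot := root_mem_of_isMaximal R s hs n hn M
  have hker : RingHom.ker π ≤ M := by
    rw [Groth.Agent.Helper8.RegAdj.ker_toQuot s n hn, Ideal.span_singleton_le_iff_mem]
    exact hroot
  have hcm : (M.map π).comap π = M := by
    rw [Ideal.comap_map_of_surjective _ hsurj]
    exact sup_eq_left.2 hker
  rcases Ideal.map_eq_top_or_isMaximal_of_surjective _ hsurj hM with h | h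
  · exfalso
    rw [h, Ideal.comap_top] at hcm
    exact hM.ne_top hcm.symm
  · rw [← hcm, IsLocalRing.eq_maximalIdeal h]

include hs hs2 in
theorem maximalIdeal_adj :
    letI := isLocalRing_adj R s hs hs2 n hn
    haveI := quot_regular R s hs hs2
    maximalIdeal (AdjoinRoot (pol s n)) = (maximalIdeal (R ⧸ Ideal.span {s})).comap π := by
  letI := isLocalRing_adj R s hs hs2 n hn
  haveI := quot_regular R s hs hs2
  have hsurj := Groth.Agent.Helper8.RegAdj.toQuot_surjective s n hn
  exact (IsLocalRing.eq_maximalIdeal (Ideal.comap_isMaximal_of_surjective _ hsurj)).symm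

include hs hs2 in
theorem mem_maximalIdeal_adj (y : AdjoinRoot (pol s n)) :
    letI := isLocalRing_adj R s hs hs2 n hn
    haveI := quot_regular R s hs hs2
    y ∈ maximalIdeal (AdjoinRoot (pol s n)) ↔ π y ∈ maximalIdeal (R ⧸ Ideal.span {s}) := by
  letI := isLocalRing_adj R s hs hs2 n hn
  haveI := quot_regular R s hs hs2
  rw [maximalIdeal_adj R s hs hs2 n hn, Ideal.mem_comap]

include hs hs2 in
theorem mk_mem_iff (a : R) :
    haveI := quot_regular R s hs hs2
    Ideal.Quotient.mk (Ideal.span {s}) a ∈ maximalIdeal (R ⧸ Ideal.span {s}) ↔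
      a ∈ maximalIdeal R := by
  haveI := quot_regular R s hs hs2
  haveI : IsLocalHom (Ideal.Quotient.mk (Ideal.span {s})) :=
    IsLocalHom.of_surjective _ Ideal.Quotient.mk_surjective
  rw [mem_maximalIdeal, mem_maximalIdeal, mem_nonunits_iff, mem_nonunits_iff, not_iff_not]
  exact isUnit_map_iff _ a

include hs hs2 in
theorem of_mem_maximalIdeal_adj (a : R) (ha : a ∈ maximalIdeal R) :
    letI := isLocalRing_adj R s hs hs2 n hn
    AdjoinRoot.of (pol s n) a ∈ maximalIdeal (AdjoinRoot (pol s n)) := by
  letI := isLocalRing_adj R s hs hs2 n hn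
  rw [mem_maximalIdeal_adj R s hs hs2 n hn, toQuot_of, mk_mem_iff R s hs hs2]
  exact ha

include hs hs2 hn in
theorem isRegularLocalRing_adj : IsRegularLocalRing (AdjoinRoot (pol s n)) := by
  letI := isLocalRing_adj R s hs hs2 n hn
  haveI := quot_regular R s hs hs2
  haveI : IsDomain R := Groth.Agent.Lead.RegLocal.isDomain_of_isRegularLocalRing R
  haveI : Module.Finite R (AdjoinRoot (pol s n)) := Groth.Agent.Helper7.CCv.finite_adj s n hn
  haveI : IsNoetherianRing (AdjoinRoot (pol s n)) := IsNoetherianRing.of_finite R _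
  have hs0 : s ≠ 0 := by
    rintro rfl
    exact hs2 (Ideal.zero_mem _)
  have hsreg : IsSMulRegular R s := (IsRegular.of_ne_zero hs0).left.isSMulRegular
  have hrootreg := Groth.Agent.Helper7.CCv.root_isSMulRegular s n hn hsreg
  have hrootmem : AdjoinRoot.root (pol s n) ∈ maximalIdeal (AdjoinRoot (pol s n)) := by
    rw [mem_maximalIdeal_adj R s hs hs2 n hn, toQuot_root]
    exact Ideal.zero_mem _
  apply Groth.Agent.Helper2.PSReg.regular_of_quotient_regular_elem _ _ hrootmem hrootreg
  have e1 : (AdjoinRoot (pol s n) ⧸ Ideal.span {AdjoinRoot.root (pol s n)}) ≃+*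
      (R ⧸ Ideal.span {s}) :=
    (Ideal.quotEquivOfEq (Groth.Agent.Helper8.RegAdj.ker_toQuot s n hn).symm).trans
      (RingHom.quotientKerEquivOfSurjective (Groth.Agent.Helper8.RegAdj.toQuot_surjective s n hn))
  exact IsRegularLocalRing.of_ringEquiv e1.symm

end OV

section Cot

variable (R : Type u) [CommRing R] [IsRegularLocalRing R] {ι : Type v} [Fintype ι]
  (f : Option ι → R) (hm : ∀ o, f o ∈ maximalIdeal R)
  (hf : LinearIndependent (ResidueField R) (fun o => (maximalIdeal R).toCotangent ⟨f o, hm o⟩))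
  (n : ℕ) (hn : 0 < n)

include hf in
theorem none_notMem_sq : f none ∉ maximalIdeal R ^ 2 := by
  intro h
  apply hf.ne_zero none
  rw [Ideal.toCotangent_eq_zero]
  exact h

theorem cot_li_adj :
    letI := isLocalRing_adj R (f none) (hm none) (none_notMem_sq R f hm hf) n hn
    ∃ hm' : ∀ i, AdjoinRoot.of (pol (f none) n) (f (some i)) ∈
        maximalIdeal (AdjoinRoot (pol (f none) n)),
      LinearIndependent (ResidueField (AdjoinRoot (pol (f none) n)))
        (fun i => (maximalIdeal (AdjoinRoot (pol (f none) n))).toCotangent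
          ⟨AdjoinRoot.of _ (f (some i)), hm' i⟩) := by
  have hs2 := none_notMem_sq R f hm hf
  letI := isLocalRing_adj R (f none) (hm none) hs2 n hn
  haveI := quot_regular R (f none) (hm none) hs2
  refine ⟨fun i => of_mem_maximalIdeal_adj R (f none) (hm none) hs2 n hn _ (hm (some i)), ?_⟩
  rw [cot_li_iff' (fun i => (⟨AdjoinRoot.of _ (f (some i)),
    of_mem_maximalIdeal_adj R (f none) (hm none) hs2 n hn _ (hm (some i))⟩ :
      maximalIdeal (AdjoinRoot (pol (f none) n))))]
  intro c hc i
  let π := Groth.Agent.Helper8.RegAdj.toQuot (f none) n hn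
  have h1 : π (∑ i, c i * AdjoinRoot.of (pol (f none) n) (f (some i))) ∈
      maximalIdeal (R ⧸ Ideal.span {f none}) ^ 2 := by
    have hle : maximalIdeal (AdjoinRoot (pol (f none) n)) ^ 2 ≤
        (maximalIdeal (R ⧸ Ideal.span {f none}) ^ 2).comap π := by
      rw [maximalIdeal_adj R (f none) (hm none) hs2 n hn]
      exact Ideal.le_comap_pow _ _
    exact hle hc
  choose a ha using fun i => Ideal.Quotient.mk_surjective (π (c i))
  have h2 : Ideal.Quotient.mk (Ideal.span {f none}) (∑ i, a i * f (some i)) ∈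
      maximalIdeal (R ⧸ Ideal.span {f none}) ^ 2 := by
    rw [map_sum] at h1 ⊢
    convert h1 using 2 with i _
    rw [map_mul, map_mul, ha, toQuot_of]
  have htop : Ideal.span {f none} ≠ ⊤ := by
    intro h
    have hle : Ideal.span {f none} ≤ maximalIdeal R :=
      (Ideal.span_singleton_le_iff_mem _).mpr (hm none)
    rw [h] at hle
    exact (maximalIdeal.isMaximal R).ne_top (top_le_iff.mp hle)
  obtain ⟨_, hmax⟩ := Groth.Agent.Lead.RegLocal.quotient_local htop
  rw [← hmax, ← Ideal.map_pow, Ideal.mem_map_iff_of_surjective _ Ideal.Quotient.mk_surjective]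
    at h2
  obtain ⟨y, hy, hy2⟩ := h2
  have h3 : ∑ i, a i * f (some i) - y ∈ Ideal.span {f none} := by
    rw [← Ideal.Quotient.eq_zero_iff_mem, map_sub, hy2, sub_self]
  obtain ⟨b, hb⟩ := Ideal.mem_span_singleton'.1 h3
  have hcrit := (cot_li_iff' (fun o => (⟨f o, hm o⟩ : maximalIdeal R))).1 hf
    (fun o => o.elim (-b) a) (by
      rw [Fintype.sum_option]
      have : -b * f none + ∑ i, a i * f (some i) = y := by
        rw [neg_mul, hb]; ring
      show -b * f none + ∑ i, a i * f (some i) ∈ maximalIdeal R ^ 2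
      rw [this]
      exact hy) (some i)
  have hai : a i ∈ maximalIdeal R := hcrit
  rw [mem_maximalIdeal_adj R (f none) (hm none) hs2 n hn]
  show π (c i) ∈ _
  rw [← ha, mk_mem_iff R (f none) (hm none) hs2]
  exact hai

end Cot

end Groth.Agent.Helper7.KAlg
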