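import Mathlib
set_option linter.style.haveILetI false
set_option linter.unusedSectionVars false
set_option linter.unusedVariables false
open TensorProduct IsLocalRing Polynomial
universe u
namespace Groth.Agent.Helper7.CKd

section T
variable {A B : Type u} [CommRing A] [CommRing B] [Algebra A B]

/-- auxiliary: polynomial with nonzero reduction and `x^i G(x) ∈ PB`. -/
theorem trick_aux (P : Ideal A) (x : B) :
    ∀ (d : ℕ) (G : A[X]) (i : ℕ), G.natDegree = d → G.map (Ideal.Quotient.mk P) ≠ 0 →
      x ^ i * aeval x G ∈ P.map (algebraMap A B) →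
      ∃ (j : ℕ) (a : A) (y : B), a ∉ P ∧ x ^ j * (algebraMap A B a + x * y) ∈ P.map (algebraMap A B) := by
  intro d
  induction d using Nat.strong_induction_on with
  | _ d ih =>
    intro G i hd hG hx
    have hdecomp : G = G.divX * X + C (G.coeff 0) := (Polynomial.divX_mul_X_add G).symm
    by_cases h0 : G.coeff 0 ∈ P
    · -- recurse
      have hx' : x ^ (i + 1) * aeval x G.divX ∈ P.map (algebraMap A B) := by
        have h1 : x ^ (i + 1) * aeval x G.divX =
            x ^ i * aeval x G - x ^ i * algebraMap A B (G.coeff 0) := by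
          conv_rhs => rw [hdecomp]
          simp only [map_add, map_mul, aeval_X, aeval_C]
          rw [Polynomial.divX_mul_X_add]
          ring
        rw [h1]
        refine Ideal.sub_mem _ hx (Ideal.mul_mem_left _ _ (Ideal.mem_map_of_mem _ h0))
      have hG' : G.divX.map (Ideal.Quotient.mk P) ≠ 0 := by
        intro hz
        apply hG
        rw [hdecomp, Polynomial.map_add, Polynomial.map_mul, hz, zero_mul, zero_add,
          Polynomial.map_C, Ideal.Quotient.eq_zero_iff_mem.mpr h0, map_zero]
      have hdpos : 0 < d := by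
        rcases Nat.eq_zero_or_pos d with h | h
        · exfalso
          apply hG
          rw [h] at hd
          rw [Polynomial.eq_C_of_natDegree_eq_zero hd, Polynomial.map_C,
            Ideal.Quotient.eq_zero_iff_mem.mpr h0, map_zero]
        · exact h
      have hlt : G.divX.natDegree < d := by
        rw [Polynomial.natDegree_divX_eq_natDegree_tsub_one, hd]
        omega
      exact ih _ hlt G.divX (i + 1) rfl hG' hx'
    · refine ⟨i, G.coeff 0, aeval x G.divX, h0, ?_⟩
      have h1 : algebraMap A B (G.coeff 0) + x * aeval x G.divX = aeval x G := by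
        conv_rhs => rw [hdecomp]
        simp only [map_add, map_mul, aeval_X, aeval_C]
        ring
      rw [h1]
      exact hx

/-- the integrality trick. -/
theorem trick [Algebra.IsIntegral A B] (P : Ideal A) (hP : P ≠ ⊤) (x : B) :
    ∃ (j : ℕ) (a : A) (y : B), a ∉ P ∧ x ^ j * (algebraMap A B a + x * y) ∈ P.map (algebraMap A B) := by
  obtain ⟨F, hmon, hF⟩ := Algebra.IsIntegral.isIntegral (R := A) x
  haveI : Nontrivial (A ⧸ P) := Ideal.Quotient.nontrivial_iff.mpr hP
  have hF' : F.map (Ideal.Quotient.mk P) ≠ 0 := (hmon.map _).ne_zero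
  refine trick_aux P x _ F 0 rfl hF' ?_
  rw [pow_zero, one_mul]
  have : aeval x F = 0 := by rw [← hF]; rfl
  rw [this]
  exact Ideal.zero_mem _

end T

end Groth.Agent.Helper7.CKd
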