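import Mathlib
import Groth.Agent.Helper7.CKk1
set_option linter.style.haveILetI false
set_option linter.unusedSectionVars false
set_option linter.unusedVariables false
open TensorProduct IsLocalRing Polynomial
universe u
namespace Groth.Agent.Helper7.CKd

section T2
variable {A B : Type u} [CommRing A] [CommRing B] [Algebra A B] [Algebra.IsIntegral A B]
  (n : Ideal B) [n.IsPrime]

theorem pmap_le : (n.comap (algebraMap A B)).map (algebraMap A (Localization.AtPrime n)) ≤
    maximalIdeal (Localization.AtPrime n) := by
  rw [Ideal.map_le_iff_le_comap]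
  intro a ha
  rw [Ideal.mem_comap, IsScalarTower.algebraMap_apply A B (Localization.AtPrime n),
    ← Ideal.mem_comap]
  have := IsLocalization.AtPrime.under_maximalIdeal (Localization.AtPrime n) n
  rw [Ideal.under_def] at this
  rw [this]
  exact ha

theorem pmapB_le : ((n.comap (algebraMap A B)).map (algebraMap A B)).map
    (algebraMap B (Localization.AtPrime n)) =
    (n.comap (algebraMap A B)).map (algebraMap A (Localization.AtPrime n)) := by
  rw [Ideal.map_map, ← IsScalarTower.algebraMap_eq]

/-- (T1) elements of `n` are nilpotent modulo `P C`. -/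
theorem exists_pow_mem (x : B) (hx : x ∈ n) :
    ∃ j : ℕ, (algebraMap B (Localization.AtPrime n) x) ^ j ∈
      (n.comap (algebraMap A B)).map (algebraMap A (Localization.AtPrime n)) := by
  have hP : n.comap (algebraMap A B) ≠ ⊤ := Ideal.IsPrime.ne_top inferInstance
  obtain ⟨j, a, y, ha, hmem⟩ := trick (n.comap (algebraMap A B)) hP x
  refine ⟨j, ?_⟩
  have hu : algebraMap A B a + x * y ∉ n := by
    intro h
    apply ha
    have : algebraMap A B a ∈ n := by
      have h2 := n.sub_mem h (n.mul_mem_right y hx)
      simpa using h2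
    exact this
  have hunit : IsUnit (algebraMap B (Localization.AtPrime n) (algebraMap A B a + x * y)) :=
    IsLocalization.map_units (Localization.AtPrime n) (⟨_, hu⟩ : n.primeCompl)
  have h1 := Ideal.mem_map_of_mem (algebraMap B (Localization.AtPrime n)) hmem
  rw [pmapB_le, map_mul, map_pow] at h1
  obtain ⟨u, hu'⟩ := hunit
  have h2 := Ideal.mul_mem_right (↑u⁻¹ : Localization.AtPrime n) _ h1
  rw [← hu', mul_assoc, Units.mul_inv, mul_one] at h2
  exact h2

theorem maximalIdeal_le_radical : maximalIdeal (Localization.AtPrime n) ≤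
    ((n.comap (algebraMap A B)).map (algebraMap A (Localization.AtPrime n))).radical := by
  rw [← IsLocalization.AtPrime.map_eq_maximalIdeal n (Localization.AtPrime n),
    Ideal.map_le_iff_le_comap]
  intro x hx
  obtain ⟨j, hj⟩ := exists_pow_mem (A := A) n x hx
  exact ⟨j, hj⟩

theorem exists_maximalIdeal_pow_le [IsNoetherianRing B] : ∃ N : ℕ,
    maximalIdeal (Localization.AtPrime n) ^ N ≤
      (n.comap (algebraMap A B)).map (algebraMap A (Localization.AtPrime n)) := by
  haveI : IsNoetherianRing (Localization.AtPrime n) :=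
    IsLocalization.isNoetherianRing n.primeCompl _ inferInstance
  exact Ideal.exists_pow_le_of_le_radical_of_fg (maximalIdeal_le_radical n)
    (IsNoetherian.noetherian _)

/-- (T2) every element of `C` is, modulo `P C`, a fraction `b / a` with `a ∈ A ∖ P`. -/
theorem exists_smul_sub_mem (c : Localization.AtPrime n) :
    ∃ (a : A) (b : B), a ∉ n.comap (algebraMap A B) ∧
      a • c - algebraMap B (Localization.AtPrime n) b ∈
        (n.comap (algebraMap A B)).map (algebraMap A (Localization.AtPrime n)) := by
  obtain ⟨b₀, ⟨x, hx⟩, rfl⟩ := IsLocalization.exists_mk'_eq n.primeCompl c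
  have hP : n.comap (algebraMap A B) ≠ ⊤ := Ideal.IsPrime.ne_top inferInstance
  obtain ⟨j, a, y, ha, hmem⟩ := trick (n.comap (algebraMap A B)) hP x
  refine ⟨a, - (y * b₀), ha, ?_⟩
  have h1 := Ideal.mem_map_of_mem (algebraMap B (Localization.AtPrime n)) hmem
  rw [pmapB_le, map_mul, map_pow] at h1
  have hxu : IsUnit (algebraMap B (Localization.AtPrime n) x) :=
    IsLocalization.map_units (Localization.AtPrime n) (⟨x, hx⟩ : n.primeCompl)
  obtain ⟨u, hu⟩ := hxu
  -- a + x y ∈ P C
  have h2 := Ideal.mul_mem_right (↑(u⁻¹) ^ j : Localization.AtPrime n) _ h1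
  have h3 : (algebraMap B (Localization.AtPrime n) x) ^ j *
      algebraMap B (Localization.AtPrime n) (algebraMap A B a + x * y) * (↑(u⁻¹) ^ j) =
      algebraMap B (Localization.AtPrime n) (algebraMap A B a + x * y) := by
    rw [← hu, mul_comm ((u : Localization.AtPrime n) ^ j), mul_assoc, ← mul_pow, Units.mul_inv,
      one_pow, mul_one]
  rw [h3] at h2
  -- multiply by mk' b₀ x
  have h4 := Ideal.mul_mem_right (IsLocalization.mk' (Localization.AtPrime n) b₀
    (⟨x, hx⟩ : n.primeCompl)) _ h2
  have h5 : algebraMap B (Localization.AtPrime n) (algebraMap A B a + x * y) *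
      IsLocalization.mk' (Localization.AtPrime n) b₀ (⟨x, hx⟩ : n.primeCompl) =
      a • IsLocalization.mk' (Localization.AtPrime n) b₀ (⟨x, hx⟩ : n.primeCompl) -
        algebraMap B (Localization.AtPrime n) (-(y * b₀)) := by
    rw [map_add, add_mul, map_mul, map_neg, sub_neg_eq_add, map_mul,
      ← IsScalarTower.algebraMap_apply, Algebra.smul_def]
    congr 1
    have := IsLocalization.mk'_spec' (Localization.AtPrime n) b₀ (⟨x, hx⟩ : n.primeCompl)
    simp only at this
    rw [mul_assoc, mul_comm (algebraMap B (Localization.AtPrime n) y), ← mul_assoc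
      (algebraMap B (Localization.AtPrime n) x), this, mul_comm]
  rw [h5] at h4
  exact h4

end T2

end Groth.Agent.Helper7.CKd
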