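import Mathlib
import Groth.Agent.Helper7.CKk1b
import Groth.Agent.Helper3.ComplFam
import Groth.Agent.S0544
set_option linter.style.haveILetI false
set_option linter.unusedSectionVars false
set_option linter.unusedVariables false
open TensorProduct IsLocalRing Polynomial
open Groth.Agent.Helper3.ComplFam
universe u
namespace Groth.Agent.Helper7.CKd

section phi
variable (A B : Type u) [CommRing A] [CommRing B] [Algebra A B] [IsNoetherianRing A]
  [IsNoetherianRing B] (n : Ideal B) [n.IsPrime]

/-- the local hom `A_P → B_n`. -/
noncomputable def gloc : Localization.AtPrime (n.comap (algebraMap A B)) →+* Localization.AtPrime n :=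
  Localization.localRingHom (n.comap (algebraMap A B)) n (algebraMap A B) rfl

theorem gloc_le : (maximalIdeal (Localization.AtPrime (n.comap (algebraMap A B)))).map (gloc A B n) ≤
    maximalIdeal (Localization.AtPrime n) := by
  haveI := Localization.isLocalHom_localRingHom (n.comap (algebraMap A B)) n (algebraMap A B) rfl
  exact ((IsLocalRing.local_hom_TFAE (gloc A B n)).out 0 2).mp (by unfold gloc; infer_instance)

theorem gloc_algebraMap (a : A) :
    gloc A B n (algebraMap A _ a) = algebraMap A (Localization.AtPrime n) a := by
  unfold gloc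
  rw [Localization.localRingHom_to_map, ← IsScalarTower.algebraMap_apply]

/-- the induced map on completions `(A_P)^ → (B_n)^`. -/
noncomputable def phi : Chat A (n.comap (algebraMap A B)) →+* Chat B n :=
  Groth.Agent.Helper3.ComplMap.lift _ _ (gloc A B n) (gloc_le A B n)

theorem phi_of (x : Localization.AtPrime (n.comap (algebraMap A B))) :
    phi A B n (algebraMap _ _ x) = algebraMap (Localization.AtPrime n) (Chat B n) (gloc A B n x) :=
  Groth.Agent.Helper3.ComplMap.lift_of _ _ (gloc A B n) (gloc_le A B n) x

theorem phi_algebraMap (a : A) :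
    phi A B n (algebraMap A _ a) = algebraMap A (Chat B n) a := by
  rw [IsScalarTower.algebraMap_apply A (Localization.AtPrime (n.comap (algebraMap A B)))
    (Chat A (n.comap (algebraMap A B))), phi_of, gloc_algebraMap,
    ← IsScalarTower.algebraMap_apply]

/-- `phi` as an `A`-algebra map. -/
noncomputable def phiA : Chat A (n.comap (algebraMap A B)) →ₐ[A] Chat B n :=
  { phi A B n with commutes' := phi_algebraMap A B n }

theorem phiA_apply (x) : phiA A B n x = phi A B n x := rfl

/-- the comparison map `(A_P)^ ⊗_A B → (B_n)^`. -/
noncomputable def fS : Chat A (n.comap (algebraMap A B)) ⊗[A] B →ₐ[A] Chat B n :=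
  Algebra.TensorProduct.lift (phiA A B n) (IsScalarTower.toAlgHom A B (Chat B n))
    (fun _ _ => Commute.all _ _)

theorem fS_tmul (r : Chat A (n.comap (algebraMap A B))) (b : B) :
    fS A B n (r ⊗ₜ b) = phi A B n r * algebraMap B (Chat B n) b := by
  unfold fS
  rw [Algebra.TensorProduct.lift_tmul]
  rfl

end phi

end Groth.Agent.Helper7.CKd
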