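import Mathlib
import Groth.Agent.Helper7.CKk2
set_option linter.style.haveILetI false
set_option linter.unusedSectionVars false
set_option linter.unusedVariables false
open TensorProduct IsLocalRing Polynomial
open Groth.Agent.Helper3.ComplFam
universe u
namespace Groth.Agent.Helper7.CKd

section span
variable (A B : Type u) [CommRing A] [CommRing B] [Algebra A B] [IsNoetherianRing A]
  [IsNoetherianRing B] (n : Ideal B) [n.IsPrime]

theorem phi_maximalIdeal_le :
    (maximalIdeal (Chat A (n.comap (algebraMap A B)))).map (phi A B n) ≤ maximalIdeal (Chat B n) := by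
  rw [AdicCompletion.maximalIdeal_eq_map, Ideal.map_map, Ideal.map_le_iff_le_comap]
  intro x hx
  rw [Ideal.mem_comap, RingHom.comp_apply, phi_of, AdicCompletion.maximalIdeal_eq_map]
  apply Ideal.mem_map_of_mem
  exact gloc_le A B n (Ideal.mem_map_of_mem _ hx)

/-- `P Ĉ` is contained in the image of `𝔪_R`. -/
theorem pmap_le_map_phi :
    (n.comap (algebraMap A B)).map (algebraMap A (Chat B n)) ≤
      (maximalIdeal (Chat A (n.comap (algebraMap A B)))).map (phi A B n) := by
  rw [Ideal.map_le_iff_le_comap]
  intro a ha
  rw [Ideal.mem_comap, ← phi_algebraMap]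
  apply Ideal.mem_map_of_mem
  rw [AdicCompletion.maximalIdeal_eq_map,
    IsScalarTower.algebraMap_apply A (Localization.AtPrime (n.comap (algebraMap A B)))]
  apply Ideal.mem_map_of_mem
  rw [← IsLocalization.AtPrime.map_eq_maximalIdeal (n.comap (algebraMap A B))]
  exact Ideal.mem_map_of_mem _ ha

end span

section span2
variable (A B : Type u) [CommRing A] [CommRing B] [Algebra A B] [IsNoetherianRing A]
  [Module.Finite A B] (n : Ideal B) [n.IsPrime]

/-- every element of `Ĉ` is, modulo `P Ĉ`, of the form `φ(1/a) · b`. -/
theorem exists_approx [IsNoetherianRing B] (z : Chat B n) :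
    ∃ (a : A) (ha : a ∉ n.comap (algebraMap A B)) (b : B),
      z - phi A B n (algebraMap _ _ (IsLocalization.mk' (Localization.AtPrime (n.comap (algebraMap A B)))
        (1 : A) (⟨a, ha⟩ : (n.comap (algebraMap A B)).primeCompl))) * algebraMap B (Chat B n) b ∈
        (n.comap (algebraMap A B)).map (algebraMap A (Chat B n)) := by
  haveI : Algebra.IsIntegral A B := Algebra.IsIntegral.of_finite A B
  haveI : IsNoetherianRing (Localization.AtPrime n) :=
    IsLocalization.isNoetherianRing n.primeCompl _ inferInstance
  obtain ⟨N, hN⟩ := exists_maximalIdeal_pow_le (A := A) n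
  obtain ⟨c₀, hc₀⟩ := Groth.Agent.Helper3.ComplMap.exists_sub_mem_pow
    (maximalIdeal (Localization.AtPrime n)) N z
  obtain ⟨a, b, ha, hab⟩ := exists_smul_sub_mem (A := A) n c₀
  refine ⟨a, ha, b, ?_⟩
  set P := n.comap (algebraMap A B) with hPdef
  set u : Localization.AtPrime P := IsLocalization.mk' (Localization.AtPrime P)
        (1 : A) (⟨a, ha⟩ : P.primeCompl) with hu
  have hmapC : (P.map (algebraMap A (Localization.AtPrime n))).map
      (algebraMap (Localization.AtPrime n) (Chat B n)) = P.map (algebraMap A (Chat B n)) := by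
    rw [Ideal.map_map, ← IsScalarTower.algebraMap_eq]
  -- first piece
  have h1 : z - algebraMap (Localization.AtPrime n) (Chat B n) c₀ ∈ P.map (algebraMap A (Chat B n)) := by
    rw [← hmapC]
    exact Ideal.map_mono hN hc₀
  -- second piece
  have hua : gloc A B n u * algebraMap A (Localization.AtPrime n) a = 1 := by
    rw [← gloc_algebraMap, ← map_mul, hu]
    have : IsLocalization.mk' (Localization.AtPrime P) (1 : A) (⟨a, ha⟩ : P.primeCompl) *
        algebraMap A (Localization.AtPrime P) a = 1 := by
      have := IsLocalization.mk'_spec (Localization.AtPrime P) (1 : A) (⟨a, ha⟩ : P.primeCompl)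
      simpa using this
    rw [this, map_one]
  have h2 : c₀ - gloc A B n u * algebraMap B (Localization.AtPrime n) b ∈
      P.map (algebraMap A (Localization.AtPrime n)) := by
    have h3 := Ideal.mul_mem_left _ (gloc A B n u) hab
    have h4 : gloc A B n u * (a • c₀ - algebraMap B (Localization.AtPrime n) b) =
        c₀ - gloc A B n u * algebraMap B (Localization.AtPrime n) b := by
      rw [mul_sub, Algebra.smul_def, ← mul_assoc, hua, one_mul]
    rw [h4] at h3
    exact h3
  have h5 := Ideal.mem_map_of_mem (algebraMap (Localization.AtPrime n) (Chat B n)) h2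
  rw [hmapC, map_sub, map_mul, ← phi_of, ← IsScalarTower.algebraMap_apply] at h5
  have := Ideal.add_mem _ h1 h5
  rwa [sub_add_sub_cancel] at this

end span2

end Groth.Agent.Helper7.CKd
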