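import Mathlib
import Groth.Agent.Helper7.CKk3
set_option linter.style.haveILetI false
set_option linter.unusedSectionVars false
set_option linter.unusedVariables false
open TensorProduct IsLocalRing Polynomial
open Groth.Agent.Helper3.ComplFam
universe u
namespace Groth.Agent.Helper7.CKd

section surj
variable (A B : Type u) [CommRing A] [CommRing B] [Algebra A B] [IsNoetherianRing A]
  [Module.Finite A B] (n : Ideal B) [n.IsPrime]

theorem fS_surjective [IsNoetherianRing B] : Function.Surjective (fS A B n) := by
  classical
  obtain ⟨m, b, hb⟩ := Module.Finite.exists_fin (R := A) (M := B)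
  set P := n.comap (algebraMap A B) with hPdef
  letI alg : Algebra (Chat A P) (Chat B n) := (phi A B n).toAlgebra
  have halg : ∀ r : Chat A P, algebraMap (Chat A P) (Chat B n) r = phi A B n r := fun r => rfl
  let F : (Fin m → Chat A P) →ₗ[Chat A P] Chat B n :=
    Fintype.linearCombination (Chat A P) (fun i => algebraMap B (Chat B n) (b i))
  haveI : IsPrecomplete (maximalIdeal (Chat A P)) (Fin m → Chat A P) :=
    Groth.Agent.S0544.isPrecomplete_pi _
  haveI : IsHausdorff (maximalIdeal (Chat A P)) (Chat B n) :=
    IsHausdorff.of_map (J := maximalIdeal (Chat B n)) (phi_maximalIdeal_le A B n)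
  have hF : Function.Surjective F := by
    apply surjective_of_mkQ_comp_surjective (I := maximalIdeal (Chat A P))
    intro y
    obtain ⟨z, rfl⟩ := Submodule.mkQ_surjective _ y
    obtain ⟨a, ha, b₀, hz⟩ := exists_approx A B n z
    set u : Chat A P := algebraMap _ _ (IsLocalization.mk' (Localization.AtPrime P)
        (1 : A) (⟨a, ha⟩ : P.primeCompl)) with hu
    have hb₀ : b₀ ∈ Submodule.span A (Set.range b) := by rw [hb]; trivial
    obtain ⟨c, hc⟩ := (Submodule.mem_span_range_iff_exists_fun A).mp hb₀
    refine ⟨fun i => u * algebraMap A (Chat A P) (c i), ?_⟩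
    rw [LinearMap.comp_apply, Submodule.mkQ_apply, Submodule.mkQ_apply, eq_comm,
      Submodule.Quotient.eq]
    have h1 : F (fun i => u * algebraMap A (Chat A P) (c i)) =
        phi A B n u * algebraMap B (Chat B n) b₀ := by
      simp only [F, Fintype.linearCombination_apply]
      rw [← hc, map_sum, Finset.mul_sum]
      refine Finset.sum_congr rfl fun i _ => ?_
      rw [Algebra.smul_def, halg, map_mul, phi_algebraMap, mul_assoc, Algebra.smul_def, map_mul,
        ← IsScalarTower.algebraMap_apply]
    rw [h1, Ideal.smul_top_eq_map, Submodule.restrictScalars_mem]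
    exact pmap_le_map_phi A B n hz
  intro z
  obtain ⟨c, rfl⟩ := hF z
  refine ⟨∑ i, c i ⊗ₜ b i, ?_⟩
  simp only [F, Fintype.linearCombination_apply]
  rw [map_sum]
  refine Finset.sum_congr rfl fun i _ => ?_
  rw [fS_tmul, Algebra.smul_def, halg]

end surj

end Groth.Agent.Helper7.CKd
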