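import Mathlib
set_option linter.style.haveILetI false
set_option linter.unusedSectionVars false
set_option linter.unusedVariables false
open TensorProduct IsLocalRing Polynomial
universe u
namespace Groth.Agent.Helper7.CKd

section flat
variable {B S T : Type*} [CommRing B] [CommRing S] [CommRing T] [Algebra B S] [Algebra B T]

/-- for a surjection `S → T` of `B`-algebras with `T` flat over `B`, `ker ∩ I S ⊆ I · ker`. -/
theorem ker_inf_map_le_of_flat (f : S →ₐ[B] T) (hf : Function.Surjective f) [Module.Flat B T]
    (I : Ideal B) (x : S) (hx : f x = 0) (hxI : x ∈ I.map (algebraMap B S)) :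
    x ∈ I.map (algebraMap B S) * RingHom.ker f.toRingHom := by
  classical
  rw [Ideal.map, Ideal.span, Submodule.mem_span_set'] at hxI
  obtain ⟨l, s, g, hsum⟩ := hxI
  have hg : ∀ i, ∃ b : B, b ∈ I ∧ algebraMap B S b = (g i : S) := fun i => (g i).2
  choose nn hnn hnn' using hg
  have hrel : ∑ i, nn i • f (s i) = 0 := by
    rw [← hx, ← hsum, map_sum]
    refine Finset.sum_congr rfl fun i _ => ?_
    rw [smul_eq_mul, map_mul, ← hnn' i, AlgHom.commutes, Algebra.smul_def, mul_comm]
  obtain ⟨k, a, y, hy, ha⟩ := Module.Flat.isTrivialRelation_of_sum_smul_eq_zero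
    (R := B) (M := T) (f := nn) (x := fun i => f (s i)) hrel
  choose yt hyt using fun j => hf (y j)
  let z : Fin l → S := fun i => s i - ∑ j, a i j • yt j
  have hz : ∀ i, z i ∈ RingHom.ker f.toRingHom := by
    intro i
    rw [RingHom.mem_ker]
    show f (z i) = 0
    simp only [z, map_sub, map_sum, map_smul, hyt]
    have := hy i
    simp only at this
    rw [this, sub_self]
  have hxz : x = ∑ i, algebraMap B S (nn i) * z i := by
    have h1 : ∑ i, algebraMap B S (nn i) * z i =
        ∑ i, algebraMap B S (nn i) * s i - ∑ j, (∑ i, nn i * a i j) • yt j := by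
      simp only [z, mul_sub, Finset.sum_sub_distrib, Finset.mul_sum, Finset.sum_smul]
      congr 1
      rw [Finset.sum_comm]
      refine Finset.sum_congr rfl fun j _ => Finset.sum_congr rfl fun i _ => ?_
      rw [mul_smul, Algebra.smul_def (nn i)]
    rw [h1]
    simp only [ha, zero_smul, Finset.sum_const_zero, sub_zero]
    rw [← hsum]
    refine Finset.sum_congr rfl fun i _ => ?_
    rw [smul_eq_mul, hnn' i, mul_comm]
  rw [hxz]
  exact Ideal.sum_mem _ fun i _ => Ideal.mul_mem_mul (Ideal.mem_map_of_mem _ (hnn i)) (hz i)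

end flat

end Groth.Agent.Helper7.CKd
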