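import Mathlib
import Groth.Agent.Helper7.CKk4
import Groth.Agent.Helper7.CKk5
set_option linter.style.haveILetI false
set_option linter.unusedSectionVars false
set_option linter.unusedVariables false
open TensorProduct IsLocalRing Polynomial
open Groth.Agent.Helper3.ComplFam
universe u
namespace Groth.Agent.Helper7.CKd

attribute [local instance] Algebra.TensorProduct.rightAlgebra

section ker
variable (A B : Type u) [CommRing A] [CommRing B] [Algebra A B] [IsNoetherianRing A]
  [Module.Finite A B] (n : Ideal B) [n.IsPrime]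

theorem unit_of_notMem (a : A) (ha : a ∉ n.comap (algebraMap A B)) :
    IsUnit (algebraMap A (Chat A (n.comap (algebraMap A B))) a) := by
  rw [IsScalarTower.algebraMap_apply A (Localization.AtPrime (n.comap (algebraMap A B)))]
  exact (IsLocalization.map_units (Localization.AtPrime (n.comap (algebraMap A B)))
    (⟨a, ha⟩ : (n.comap (algebraMap A B)).primeCompl)).map _

theorem tmul_mem_map (I : Ideal A) (ρ : Chat A (n.comap (algebraMap A B)))
    (hρ : ρ ∈ I.map (algebraMap A (Chat A (n.comap (algebraMap A B))))) (b : B) :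
    ρ ⊗ₜ[A] b ∈ I.map (algebraMap A (Chat A (n.comap (algebraMap A B)) ⊗[A] B)) := by
  have h1 : ρ ⊗ₜ[A] b = algebraMap (Chat A (n.comap (algebraMap A B))) _ ρ * (1 ⊗ₜ b) := by
    rw [Algebra.TensorProduct.algebraMap_apply, Algebra.TensorProduct.tmul_mul_tmul]
    simp
  rw [h1]
  apply Ideal.mul_mem_right
  have h2 : I.map (algebraMap A (Chat A (n.comap (algebraMap A B)) ⊗[A] B)) =
      (I.map (algebraMap A (Chat A (n.comap (algebraMap A B))))).map
        (algebraMap (Chat A (n.comap (algebraMap A B))) _) := by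
    rw [Ideal.map_map, ← IsScalarTower.algebraMap_eq]
  rw [h2]
  exact Ideal.mem_map_of_mem _ hρ

theorem maximalIdeal_chat_eq : maximalIdeal (Chat A (n.comap (algebraMap A B))) =
    (n.comap (algebraMap A B)).map (algebraMap A (Chat A (n.comap (algebraMap A B)))) := by
  rw [AdicCompletion.maximalIdeal_eq_map,
    IsScalarTower.algebraMap_eq A (Localization.AtPrime (n.comap (algebraMap A B)))
      (Chat A (n.comap (algebraMap A B))), ← Ideal.map_map,
    IsLocalization.AtPrime.map_eq_maximalIdeal (n.comap (algebraMap A B))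
      (Localization.AtPrime (n.comap (algebraMap A B)))]

/-- every element of `R ⊗ B` is, up to a unit from `A ∖ P`, congruent to `1 ⊗ b` modulo `P`. -/
theorem exists_smul_sub_tmul_mem (x : Chat A (n.comap (algebraMap A B)) ⊗[A] B) :
    ∃ (a : A) (b : B), a ∉ n.comap (algebraMap A B) ∧
      a • x - 1 ⊗ₜ[A] b ∈ (n.comap (algebraMap A B)).map
        (algebraMap A (Chat A (n.comap (algebraMap A B)) ⊗[A] B)) := by
  set P := n.comap (algebraMap A B) with hP
  induction x using TensorProduct.induction_on with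
  | zero =>
    refine ⟨1, 0, fun h => (Ideal.IsPrime.ne_top inferInstance) ((Ideal.eq_top_iff_one _).mpr h), ?_⟩
    simp
  | tmul r b₀ =>
    obtain ⟨t, ht⟩ := Groth.Agent.Helper3.ComplMap.exists_sub_mem_pow
      (maximalIdeal (Localization.AtPrime P)) 1 r
    rw [pow_one, ← AdicCompletion.maximalIdeal_eq_map, maximalIdeal_chat_eq A B n] at ht
    obtain ⟨a', ⟨a, ha⟩, rfl⟩ := IsLocalization.exists_mk'_eq P.primeCompl t
    refine ⟨a, a' • b₀, ha, ?_⟩
    have h1 : a • (r ⊗ₜ[A] b₀) - 1 ⊗ₜ[A] (a' • b₀) =
        (a • (r - algebraMap (Localization.AtPrime P) (Chat A P)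
          (IsLocalization.mk' (Localization.AtPrime P) a' (⟨a, ha⟩ : P.primeCompl)))) ⊗ₜ[A] b₀ := by
      have hkey : a • algebraMap (Localization.AtPrime P) (Chat A P)
          (IsLocalization.mk' (Localization.AtPrime P) a' (⟨a, ha⟩ : P.primeCompl)) =
          a' • (1 : Chat A P) := by
        rw [Algebra.smul_def a, IsScalarTower.algebraMap_apply A (Localization.AtPrime P) (Chat A P),
          ← map_mul]
        have : algebraMap A (Localization.AtPrime P) a *
            IsLocalization.mk' (Localization.AtPrime P) a' (⟨a, ha⟩ : P.primeCompl) =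
            algebraMap A (Localization.AtPrime P) a' := by
          rw [mul_comm]
          exact IsLocalization.mk'_spec (Localization.AtPrime P) a' (⟨a, ha⟩ : P.primeCompl)
        rw [this, ← IsScalarTower.algebraMap_apply, Algebra.algebraMap_eq_smul_one]
      rw [smul_sub, TensorProduct.sub_tmul, hkey, TensorProduct.smul_tmul a' (1 : Chat A P) b₀,
        TensorProduct.smul_tmul']
    rw [h1]
    apply tmul_mem_map
    exact Submodule.smul_of_tower_mem _ a ht
  | add x y hx hy =>
    obtain ⟨a₁, b₁, ha₁, h₁⟩ := hx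
    obtain ⟨a₂, b₂, ha₂, h₂⟩ := hy
    refine ⟨a₁ * a₂, a₂ • b₁ + a₁ • b₂, ?_, ?_⟩
    · intro h
      rcases (inferInstance : P.IsPrime).mem_or_mem h with h | h
      · exact ha₁ h
      · exact ha₂ h
    · have h3 : (a₁ * a₂) • (x + y) - 1 ⊗ₜ[A] (a₂ • b₁ + a₁ • b₂) =
          a₂ • (a₁ • x - 1 ⊗ₜ[A] b₁) + a₁ • (a₂ • y - 1 ⊗ₜ[A] b₂) := by
        simp only [smul_add, smul_sub, TensorProduct.tmul_add, TensorProduct.tmul_smul, mul_smul]
        rw [smul_comm a₁ a₂ x]
        abel
      rw [h3]
      refine Ideal.add_mem _ ?_ ?_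
      · exact Submodule.smul_of_tower_mem _ a₂ h₁
      · exact Submodule.smul_of_tower_mem _ a₁ h₂

end ker

end Groth.Agent.Helper7.CKd
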