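import Mathlib
import Groth.Agent.Helper7.CKk6
set_option linter.style.haveILetI false
set_option linter.unusedSectionVars false
set_option linter.unusedVariables false
open TensorProduct IsLocalRing Polynomial
open Groth.Agent.Helper3.ComplFam
universe u
namespace Groth.Agent.Helper7.CKd

attribute [local instance] Algebra.TensorProduct.rightAlgebra

section ker2
variable (A B : Type u) [CommRing A] [CommRing B] [Algebra A B] [IsNoetherianRing A]
  [Module.Finite A B] (n : Ideal B) [n.IsPrime]

/-- `fS` as a `B`-algebra map. -/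
noncomputable def fSB [IsNoetherianRing B] :
    Chat A (n.comap (algebraMap A B)) ⊗[A] B →ₐ[B] Chat B n :=
  { (fS A B n).toRingHom with
    commutes' := fun b => by
      show fS A B n (algebraMap B _ b) = _
      rw [Algebra.TensorProduct.right_algebraMap_apply, fS_tmul, map_one, one_mul] }

theorem fSB_apply [IsNoetherianRing B] (x) : fSB A B n x = fS A B n x := rfl

theorem pmapS_le : (n.comap (algebraMap A B)).map
    (algebraMap A (Chat A (n.comap (algebraMap A B)) ⊗[A] B)) ≤
    n.map (algebraMap B (Chat A (n.comap (algebraMap A B)) ⊗[A] B)) := by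
  rw [IsScalarTower.algebraMap_eq A B (Chat A (n.comap (algebraMap A B)) ⊗[A] B), ← Ideal.map_map]
  exact Ideal.map_mono Ideal.map_comap_le

theorem ker_le_map [IsNoetherianRing B] : RingHom.ker (fS A B n).toRingHom ≤
    n.map (algebraMap B (Chat A (n.comap (algebraMap A B)) ⊗[A] B)) := by
  intro x hx
  rw [RingHom.mem_ker] at hx
  have hx0 : fS A B n x = 0 := hx
  obtain ⟨a, b, ha, hab⟩ := exists_smul_sub_tmul_mem A B n x
  -- image of `1 ⊗ b` lies in the maximal ideal
  have h1 : fS A B n (a • x - 1 ⊗ₜ[A] b) ∈
      (n.comap (algebraMap A B)).map (algebraMap A (Chat B n)) := by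
    have := Ideal.mem_map_of_mem (fS A B n).toRingHom hab
    rw [Ideal.map_map] at this
    have h2 : (fS A B n).toRingHom.comp (algebraMap A _) = algebraMap A (Chat B n) :=
      (fS A B n).comp_algebraMap
    rw [h2] at this
    exact this
  rw [map_sub, map_smul, hx0, smul_zero, zero_sub, fS_tmul, map_one, one_mul] at h1
  have h3 : algebraMap B (Chat B n) b ∈ maximalIdeal (Chat B n) := by
    have h4 := (pmap_le_map_phi A B n).trans (phi_maximalIdeal_le A B n) h1
    have := Ideal.neg_mem_iff _ |>.mp h4
    exact this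
  have hb : b ∈ n := by
    have := chat_comap B n
    rw [← this]
    exact h3
  have h5 : a • x ∈ n.map (algebraMap B (Chat A (n.comap (algebraMap A B)) ⊗[A] B)) := by
    have h6 : (1 : Chat A (n.comap (algebraMap A B))) ⊗ₜ[A] b ∈
        n.map (algebraMap B (Chat A (n.comap (algebraMap A B)) ⊗[A] B)) := by
      rw [← Algebra.TensorProduct.right_algebraMap_apply]
      exact Ideal.mem_map_of_mem _ hb
    have := Ideal.add_mem _ (pmapS_le A B n hab) h6
    rwa [sub_add_cancel] at this
  obtain ⟨u, hu⟩ := unit_of_notMem A B n a ha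
  have h7 : x = algebraMap (Chat A (n.comap (algebraMap A B))) _ (↑u⁻¹) * (a • x) := by
    rw [Algebra.smul_def a x, IsScalarTower.algebraMap_apply A (Chat A (n.comap (algebraMap A B))),
      ← mul_assoc, ← map_mul, ← hu, Units.inv_mul, map_one, one_mul]
  rw [h7]
  exact Ideal.mul_mem_left _ _ h5

/-- the kernel of `fS` is killed by an element congruent to `1` modulo `n S`. -/
theorem exists_kill [IsNoetherianRing B] :
    ∃ s : Chat A (n.comap (algebraMap A B)) ⊗[A] B,
      s - 1 ∈ n.map (algebraMap B (Chat A (n.comap (algebraMap A B)) ⊗[A] B)) ∧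
      ∀ x, fS A B n x = 0 → s * x = 0 := by
  set S := Chat A (n.comap (algebraMap A B)) ⊗[A] B with hS
  haveI : IsNoetherianRing S := IsNoetherianRing.of_finite (Chat A (n.comap (algebraMap A B))) S
  haveI : Module.Flat B (Chat B n) := chat_flat_self B n
  have hle : RingHom.ker (fS A B n).toRingHom ≤
      n.map (algebraMap B S) • RingHom.ker (fS A B n).toRingHom := by
    intro x hx
    have hx0 : fSB A B n x = 0 := hx
    have := ker_inf_map_le_of_flat (fSB A B n) (fS_surjective A B n) n x hx0 (ker_le_map A B n hx)
    exact this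
  obtain ⟨s, hs1, hs2⟩ := Submodule.exists_sub_one_mem_and_smul_eq_zero_of_fg_of_le_smul
    (n.map (algebraMap B S)) (RingHom.ker (fS A B n).toRingHom) (IsNoetherian.noetherian _) hle
  exact ⟨s, hs1, fun x hx => hs2 x hx⟩

end ker2

end Groth.Agent.Helper7.CKd
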