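import Mathlib
import Groth.Prelude.Def_CAlgX
set_option linter.style.haveILetI false
set_option linter.unusedSectionVars false
set_option linter.unusedVariables false
open TensorProduct IsLocalRing Polynomial
universe u
namespace Groth.Agent.Helper7.CKd

section AL
variable {A B R T : Type u} [CommRing A] [IsDomain A] [CommRing B] [IsDomain B] [Algebra A B]
  [CommRing R] [Algebra A R] [CommRing T] [Algebra A T] [Algebra B T] [IsScalarTower A B T]

local notation "K" => FractionRing A
local notation "L" => FractionRing B

/-- the comparison map `R ⊗_A B → T`. -/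
noncomputable def fAL (φ : R →ₐ[A] T) : R ⊗[A] B →ₐ[A] T :=
  Algebra.TensorProduct.lift φ (IsScalarTower.toAlgHom A B T) (fun _ _ => Commute.all _ _)

theorem fAL_tmul (φ : R →ₐ[A] T) (r : R) (b : B) :
    fAL φ (r ⊗ₜ b) = φ r * algebraMap B T b := by
  unfold fAL
  rw [Algebra.TensorProduct.lift_tmul]
  rfl

theorem transfer_adic (φ : R →ₐ[A] T) (q : Ideal T) [q.IsPrime]
    (hAB : Function.Injective (algebraMap A B))
    (hqB : ∀ b : B, algebraMap B T b ∈ q → b = 0)
    (hsurj : Function.Surjective (fAL (B := B) φ))
    (s : R ⊗[A] B) (hs : ∀ x, fAL (B := B) φ x = 0 → s * x = 0) (hsq : fAL (B := B) φ s ∉ q)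
    [Algebra (FractionRing A) (Localization.AtPrime (q.comap φ.toRingHom))]
    [IsScalarTower A (FractionRing A) (Localization.AtPrime (q.comap φ.toRingHom))]
    (H : CAlgX.IsAdicFormallySmooth (FractionRing A) (Localization.AtPrime (q.comap φ.toRingHom))
      (maximalIdeal _))
    [Algebra (FractionRing B) (Localization.AtPrime q)]
    [hBLq : IsScalarTower B (FractionRing B) (Localization.AtPrime q)] :
    CAlgX.IsAdicFormallySmooth (FractionRing B) (Localization.AtPrime q)
      (maximalIdeal (Localization.AtPrime q)) := by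
  intro C' _ _ N hN u ⟨t, ht⟩
  have eBLq : ∀ b : B, algebraMap B (Localization.AtPrime q) b =
      algebraMap L (Localization.AtPrime q) (algebraMap B L b) := fun b =>
    @IsScalarTower.algebraMap_apply B L (Localization.AtPrime q) _ _ _ _ _ _ hBLq b
  have eBTq : ∀ b : B, algebraMap B (Localization.AtPrime q) b =
      algebraMap T (Localization.AtPrime q) (algebraMap B T b) := fun b =>
    IsScalarTower.algebraMap_apply B T (Localization.AtPrime q) b
  set Q := q.comap φ.toRingHom with hQ
  -- algebra structures on C'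
  letI algBC : Algebra B C' := ((algebraMap L C').comp (algebraMap B L)).toAlgebra
  haveI towBLC : IsScalarTower B L C' := IsScalarTower.of_algebraMap_eq fun _ => rfl
  letI algAC : Algebra A C' := ((algebraMap B C').comp (algebraMap A B)).toAlgebra
  haveI towABC : IsScalarTower A B C' := IsScalarTower.of_algebraMap_eq fun _ => rfl
  have hunitA : ∀ y : nonZeroDivisors A, IsUnit (algebraMap A C' y) := by
    rintro ⟨y, hy⟩
    have hy0 : y ≠ 0 := nonZeroDivisors.ne_zero hy
    have : algebraMap A C' y = algebraMap L C' (algebraMap B L (algebraMap A B y)) := rfl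
    rw [this]
    apply IsUnit.map
    apply IsUnit.mk0
    intro h0
    have h1 : algebraMap A B y = 0 := by
      have := (IsFractionRing.injective B L)
      exact this (by rw [h0, map_zero])
    exact hy0 (hAB (by rw [h1, map_zero]))
  letI algKC : Algebra K C' := (IsLocalization.lift (M := nonZeroDivisors A) hunitA).toAlgebra
  haveI towAKC : IsScalarTower A K C' := IsScalarTower.of_algebraMap_eq fun a => by
    show _ = (IsLocalization.lift (M := nonZeroDivisors A) hunitA) (algebraMap A K a)
    rw [IsLocalization.lift_eq]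
  -- u commutes with B
  have huB : ∀ b : B, u (algebraMap B (Localization.AtPrime q) b) =
      Ideal.Quotient.mk N (algebraMap B C' b) := by
    intro b
    rw [eBLq, u.commutes]
    rfl
  -- the local hom ψ : R_Q → T_q
  let ψ : Localization.AtPrime Q →+* Localization.AtPrime q :=
    Localization.localRingHom Q q φ.toRingHom rfl
  have hψ : ∀ r : R, ψ (algebraMap R _ r) = algebraMap T _ (φ r) := fun r =>
    Localization.localRingHom_to_map Q q φ.toRingHom rfl r
  have hψle : (maximalIdeal (Localization.AtPrime Q)).map ψ ≤ maximalIdeal (Localization.AtPrime q) := by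
    have hloc : IsLocalHom ψ := Localization.isLocalHom_localRingHom Q q φ.toRingHom rfl
    exact ((IsLocalRing.local_hom_TFAE ψ).out 0 2).mp hloc
  -- u ∘ ψ as K-algebra hom
  have hcomm : ∀ k : K, (u.toRingHom.comp ψ) (algebraMap K _ k) =
      algebraMap K (C' ⧸ N) k := by
    intro k
    have : (u.toRingHom.comp ψ).comp (algebraMap K (Localization.AtPrime Q)) =
        algebraMap K (C' ⧸ N) := by
      apply IsLocalization.ringHom_ext (nonZeroDivisors A)
      ext a
      simp only [RingHom.comp_apply]
      rw [← IsScalarTower.algebraMap_apply A K (Localization.AtPrime Q),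
        IsScalarTower.algebraMap_apply A R (Localization.AtPrime Q), hψ, φ.commutes,
        IsScalarTower.algebraMap_apply A B T, ← eBTq]
      show u _ = _
      rw [huB, ← IsScalarTower.algebraMap_apply A K (C' ⧸ N),
        IsScalarTower.algebraMap_apply A C' (C' ⧸ N)]
      rfl
    exact RingHom.congr_fun this k
  let g : Localization.AtPrime Q →ₐ[K] C' ⧸ N :=
    { u.toRingHom.comp ψ with commutes' := hcomm }
  have hgcont : ∃ k : ℕ, ∀ x ∈ maximalIdeal (Localization.AtPrime Q) ^ k, g x = 0 := by
    refine ⟨t, fun x hx => ?_⟩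
    show u (ψ x) = 0
    apply ht
    have := Ideal.mem_map_of_mem ψ hx
    rw [Ideal.map_pow] at this
    exact Ideal.pow_right_mono hψle t this
  obtain ⟨w, hw⟩ := H C' N hN g hgcont
  have hw' : ∀ x, Ideal.Quotient.mk N (w x) = u (ψ x) := fun x => AlgHom.congr_fun hw x
  -- v₀ : S → C'
  let w' : R →ₐ[A] C' :=
    { w.toRingHom.comp (algebraMap R (Localization.AtPrime Q)) with
      commutes' := fun a => by
        show w (algebraMap R _ (algebraMap A R a)) = _
        rw [← IsScalarTower.algebraMap_apply A R (Localization.AtPrime Q),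
          IsScalarTower.algebraMap_apply A K (Localization.AtPrime Q), w.commutes,
          ← IsScalarTower.algebraMap_apply] }
  let v₀ : R ⊗[A] B →ₐ[A] C' :=
    Algebra.TensorProduct.lift w' (IsScalarTower.toAlgHom A B C') (fun _ _ => Commute.all _ _)
  have hv₀ : ∀ (r : R) (b : B), v₀ (r ⊗ₜ b) = w (algebraMap R _ r) * algebraMap B C' b := by
    intro r b
    simp only [v₀, Algebra.TensorProduct.lift_tmul]
    rfl
  -- (★)
  have hstar : ∀ x : R ⊗[A] B, Ideal.Quotient.mk N (v₀ x) =
      u (algebraMap T (Localization.AtPrime q) (fAL (B := B) φ x)) := by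
    intro x
    induction x using TensorProduct.induction_on with
    | zero => simp
    | add x y hx hy => simp only [map_add, hx, hy]
    | tmul r b =>
      rw [hv₀, map_mul, hw', hψ, fAL_tmul, map_mul, map_mul, ← eBTq, huB]
  have hNnil : IsNilpotent N := ⟨2, hN⟩
  have hunit_of : ∀ y : T, y ∉ q → ∀ c : C', Ideal.Quotient.mk N c =
      u (algebraMap T (Localization.AtPrime q) y) → IsUnit c := by
    intro y hy c hc
    rw [← IsNilpotent.isUnit_quotient_mk_iff hNnil, hc]
    apply IsUnit.map
    exact IsLocalization.map_units (Localization.AtPrime q) (⟨y, hy⟩ : q.primeCompl)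
  have hker : RingHom.ker (fAL (B := B) φ).toRingHom ≤ RingHom.ker v₀.toRingHom := by
    intro x hx
    rw [RingHom.mem_ker] at hx ⊢
    have h1 : s * x = 0 := hs x hx
    have h2 : v₀ s * v₀ x = 0 := by rw [← map_mul, h1, map_zero]
    have h3 : IsUnit (v₀ s) := hunit_of _ hsq _ (hstar s)
    exact (h3.mul_right_eq_zero).mp h2
  let v₁ : T →+* C' := (fAL (B := B) φ).toRingHom.liftOfSurjective hsurj ⟨v₀.toRingHom, hker⟩
  have hv₁ : ∀ x, v₁ (fAL (B := B) φ x) = v₀ x := fun x =>
    RingHom.liftOfSurjective_comp_apply _ hsurj ⟨v₀.toRingHom, hker⟩ x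
  have hv₁u : ∀ y : T, Ideal.Quotient.mk N (v₁ y) = u (algebraMap T _ y) := by
    intro y
    obtain ⟨x, rfl⟩ := hsurj y
    rw [hv₁, hstar]
  have hunits : ∀ y : q.primeCompl, IsUnit (v₁ y) := fun ⟨y, hy⟩ => hunit_of y hy _ (hv₁u y)
  let v : Localization.AtPrime q →+* C' := IsLocalization.lift (M := q.primeCompl) hunits
  have hvT : ∀ y : T, v (algebraMap T _ y) = v₁ y := fun y => IsLocalization.lift_eq hunits y
  have hvL : ∀ l : L, v (algebraMap L _ l) = algebraMap L C' l := by
    intro l
    have : v.comp (algebraMap L (Localization.AtPrime q)) = algebraMap L C' := by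
      apply IsLocalization.ringHom_ext (nonZeroDivisors B)
      ext b
      simp only [RingHom.comp_apply]
      rw [← eBLq, eBTq, hvT]
      have h1 : algebraMap B T b = fAL (B := B) φ (1 ⊗ₜ b) := by
        rw [fAL_tmul, map_one, one_mul]
      rw [h1, hv₁, hv₀, map_one, map_one, one_mul]
      rfl
    exact RingHom.congr_fun this l
  refine ⟨{ v with commutes' := hvL }, ?_⟩
  apply AlgHom.coe_ringHom_injective
  apply IsLocalization.ringHom_ext q.primeCompl
  ext y
  show Ideal.Quotient.mk N (v (algebraMap T _ y)) = u (algebraMap T _ y)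
  rw [hvT, hv₁u]

end AL

end Groth.Agent.Helper7.CKd
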