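import Mathlib
import Groth.Agent.Helper7.CKk7
import Groth.Agent.Helper7.CKk8
set_option linter.style.haveILetI false
set_option linter.unusedSectionVars false
set_option linter.unusedVariables false
open TensorProduct IsLocalRing Polynomial
open Groth.Agent.Helper3.ComplFam
universe u
namespace Groth.Agent.Helper7.CKd

section chat
variable (A B : Type u) [CommRing A] [CommRing B] [Algebra A B] [IsNoetherianRing A]
  [Module.Finite A B] [IsDomain A] [IsDomain B] [IsNoetherianRing B] (n : Ideal B) [n.IsPrime]

theorem eq_zero_of_mem_of_comap_eq_bot (q : Ideal (Chat B n)) 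
    (hq : q.comap (algebraMap (Localization.AtPrime n) (Chat B n)) = ⊥) (b : B)
    (hb : algebraMap B (Chat B n) b ∈ q) : b = 0 := by
  rw [IsScalarTower.algebraMap_apply B (Localization.AtPrime n) (Chat B n), ← Ideal.mem_comap, hq,
    Ideal.mem_bot] at hb
  have hinj : Function.Injective (algebraMap B (Localization.AtPrime n)) :=
    IsLocalization.injective _ n.primeCompl_le_nonZeroDivisors
  exact hinj (by rw [hb, map_zero])

theorem fS_eq_fAL : fS A B n = fAL (B := B) (phiA A B n) := rfl

attribute [local instance] Algebra.TensorProduct.rightAlgebra in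
theorem fS_notMem (q : Ideal (Chat B n)) [q.IsPrime]
    (s : Chat A (n.comap (algebraMap A B)) ⊗[A] B)
    (hs : s - 1 ∈ n.map (algebraMap B (Chat A (n.comap (algebraMap A B)) ⊗[A] B))) :
    fS A B n s ∉ q := by
  intro h
  have h1 : fS A B n (s - 1) ∈ maximalIdeal (Chat B n) := by
    have := Ideal.mem_map_of_mem (fSB A B n).toRingHom hs
    rw [Ideal.map_map] at this
    have h2 : (fSB A B n).toRingHom.comp (algebraMap B _) = algebraMap B (Chat B n) :=
      (fSB A B n).comp_algebraMap
    rw [h2] at this
    exact chat_map_le B n this
  have h3 : fS A B n s ∈ maximalIdeal (Chat B n) :=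
    IsLocalRing.le_maximalIdeal (Ideal.IsPrime.ne_top inferInstance) h
  rw [map_sub, map_one] at h1
  have := Ideal.sub_mem _ h3 h1
  rw [sub_sub_cancel] at this
  exact (Ideal.ne_top_iff_one _).mp (maximalIdeal.isMaximal _).ne_top this

/-- transfer of formal smoothness of generic formal fibres along a finite extension. -/
theorem transfer_chat (hinj : Function.Injective (algebraMap A B))
    (q : Ideal (Chat B n)) [q.IsPrime]
    (hq : q.comap (algebraMap (Localization.AtPrime n) (Chat B n)) = ⊥)
    (H : ∀ [Algebra (FractionRing A) (Localization.AtPrime (q.comap (phiA A B n).toRingHom))]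
      [IsScalarTower A (FractionRing A) (Localization.AtPrime (q.comap (phiA A B n).toRingHom))],
      CAlgX.IsAdicFormallySmooth (FractionRing A)
        (Localization.AtPrime (q.comap (phiA A B n).toRingHom)) (maximalIdeal _))
    [Algebra (FractionRing B) (Localization.AtPrime q)]
    [IsScalarTower B (FractionRing B) (Localization.AtPrime q)] :
    CAlgX.IsAdicFormallySmooth (FractionRing B) (Localization.AtPrime q)
      (maximalIdeal (Localization.AtPrime q)) := by
  set Q := q.comap (phiA A B n).toRingHom with hQ
  have hqB := eq_zero_of_mem_of_comap_eq_bot B n q hq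
  obtain ⟨s, hs1, hs2⟩ := exists_kill A B n
  have hunits : ∀ y : nonZeroDivisors A, IsUnit (algebraMap A (Localization.AtPrime Q) y) := by
    rintro ⟨y, hy⟩
    have hy0 : y ≠ 0 := nonZeroDivisors.ne_zero hy
    rw [IsScalarTower.algebraMap_apply A (Chat A (n.comap (algebraMap A B))) (Localization.AtPrime Q)]
    refine IsLocalization.map_units (Localization.AtPrime Q)
      (⟨algebraMap A (Chat A (n.comap (algebraMap A B))) y, ?_⟩ : Q.primeCompl)
    intro hmem
    apply hy0
    apply hinj
    rw [map_zero]
    apply hqB
    have h1 : phi A B n (algebraMap A _ y) ∈ q := hmem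
    rw [phi_algebraMap, IsScalarTower.algebraMap_apply A B (Chat B n)] at h1
    exact h1
  letI algK : Algebra (FractionRing A) (Localization.AtPrime Q) :=
    (IsLocalization.lift (M := nonZeroDivisors A) hunits).toAlgebra
  haveI towK : IsScalarTower A (FractionRing A) (Localization.AtPrime Q) :=
    IsScalarTower.of_algebraMap_eq fun a => by
      show _ = (IsLocalization.lift (M := nonZeroDivisors A) hunits) (algebraMap A _ a)
      rw [IsLocalization.lift_eq]
  exact transfer_adic (B := B) (phiA A B n) q hinj hqB (fS_surjective A B n) s hs2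
    (fS_notMem A B n q s hs1) H

end chat

end Groth.Agent.Helper7.CKd
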