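import Mathlib
import Groth.Agent.Helper7.CKk9
import Groth.Agent.Helper2.SerreLoc
import Groth.Agent.Helper8.GeomReg5
import Groth.Agent.S0548
set_option linter.style.haveILetI false
set_option linter.unusedSectionVars false
set_option linter.unusedVariables false
open TensorProduct IsLocalRing Polynomial
open Groth.Agent.Helper3.ComplFam
universe u
namespace Groth.Agent.Helper7.CKd

theorem s4602 {A B : Type u} [CommRing A] [IsRegularLocalRing A] [CharZero A] [CommRing B]
    [IsDomain B] [Algebra A B] [Module.Finite A B] (hinj : Function.Injective (algebraMap A B))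
    (n : Ideal B) [n.IsPrime] (q : Ideal (Chat B n)) [q.IsPrime]
    (hq : q.comap (algebraMap (Localization.AtPrime n) (Chat B n)) = ⊥)
    [Algebra (FractionRing B) (Localization.AtPrime q)]
    [IsScalarTower B (FractionRing B) (Localization.AtPrime q)] :
    CAlgX.IsAdicFormallySmooth (FractionRing B) (Localization.AtPrime q)
      (maximalIdeal (Localization.AtPrime q)) := by
  haveI : IsDomain A := hinj.isDomain (algebraMap A B)
  haveI : IsNoetherianRing B := IsNoetherianRing.of_finite A B
  apply transfer_chat A B n hinj q hq
  intro algK towK
  haveI h1 : IsRegularLocalRing (Localization.AtPrime (n.comap (algebraMap A B))) :=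
    Groth.Agent.Helper2.SerreLoc.isRegularLocalRing_localization A _
  haveI h2 : IsRegularLocalRing (Chat A (n.comap (algebraMap A B))) :=
    (Groth.Agent.S0548.result _).mp h1
  have h3 : IsRegularLocalRing (Localization.AtPrime (q.comap (phiA A B n).toRingHom)) :=
    Groth.Agent.Helper2.SerreLoc.isRegularLocalRing_localization _ _
  haveI : CharZero (FractionRing A) :=
    charZero_of_injective_algebraMap (IsFractionRing.injective A (FractionRing A))
  exact (Groth.Agent.Helper8.GeomReg.s2035).mp h3

end Groth.Agent.Helper7.CKd
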