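import Mathlib
import Groth.Prelude.Def_CAlgX
import Groth.Agent.Helper8.GeomReg6
import Groth.Agent.Helper2.H1Inj

/-!
# The relative Jacobian criterion for adic formal smoothness: extension of derivations
-/

set_option autoImplicit false
set_option linter.unusedSectionVars false
universe u

namespace Groth.Agent.Helper7.AdJac

open TensorProduct KaehlerDifferential Groth.Agent.Helper8.GeomReg

section Def

variable (Λ A B : Type u) [CommRing Λ] [CommRing A] [CommRing B] [Algebra Λ A] [Algebra A B]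
  [Algebra Λ B] [IsScalarTower Λ A B] (J : Ideal B)

/-- extension of `Λ`-derivations of `A` to `B`, with values in `B`-modules killed by `J` -/
def DerExtOver : Prop :=
  ∀ (V : Type u) [AddCommGroup V] [Module B V] [Module A V] [Module Λ V] [IsScalarTower A B V]
    [IsScalarTower Λ A V] [IsScalarTower Λ B V],
    (∀ b ∈ J, ∀ v : V, b • v = 0) → ∀ δ : Derivation Λ A V,
      ∃ D : Derivation Λ B V, ∀ a, D (algebraMap A B a) = δ a

end Def

section Suff

variable {Λ A B : Type u} [CommRing Λ] [CommRing A] [CommRing B] [Algebra Λ A] [Algebra A B]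
  [Algebra Λ B] [IsScalarTower Λ A B] (J : Ideal B)

theorem adic_of_derExtOver (hΛ : CAlgX.IsAdicFormallySmooth Λ B J) (hD : DerExtOver Λ A B J) :
    CAlgX.IsAdicFormallySmooth A B J := by
  apply isAdicFormallySmooth_of_smallLift
  intro E E' _ _ _ _ π hπ hsq g hg hcond
  letI : Algebra Λ E := ((algebraMap A E).comp (algebraMap Λ A)).toAlgebra
  haveI : IsScalarTower Λ A E := IsScalarTower.of_algebraMap_eq fun _ => rfl
  letI : Algebra Λ E' := ((algebraMap A E').comp (algebraMap Λ A)).toAlgebra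
  haveI : IsScalarTower Λ A E' := IsScalarTower.of_algebraMap_eq fun _ => rfl
  obtain ⟨χ₀, hχ₀⟩ := Groth.Agent.Helper2.H1Inj.lift_of_surjective J hΛ
    (π.restrictScalars Λ) hπ hsq (g.restrictScalars Λ) hg
  have hχ₀a : ∀ a, π (χ₀ a) = g a := fun a => congr($hχ₀ a)
  set N : Ideal E := RingHom.ker (π : E →+* E') with hN
  have hNN : ∀ x ∈ N, ∀ y ∈ N, x * y = 0 := by
    intro x hx y hy
    have : x * y ∈ N ^ 2 := by rw [pow_two]; exact Ideal.mul_mem_mul hx hy
    rwa [hsq] at this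
  letI modB : Module B N := Module.compHom N (χ₀ : B →+* E)
  have hsmulB : ∀ (b : B) (j : N), ((b • j : N) : E) = χ₀ b * (j : E) := fun b j => rfl
  have hsmulA : ∀ (c : A) (j : N), ((c • j : N) : E) = algebraMap A E c * (j : E) := fun c j => by
    rw [Submodule.coe_smul_of_tower, Algebra.smul_def]
  have hsmulΛ : ∀ (l : Λ) (j : N), ((l • j : N) : E) = l • (j : E) := fun l j =>
    Submodule.coe_smul_of_tower l j
  have hdiff : ∀ c : A, χ₀ (algebraMap A B c) - algebraMap A E c ∈ N := by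
    intro c
    rw [hN, RingHom.mem_ker]
    change π (χ₀ (algebraMap A B c) - algebraMap A E c) = 0
    rw [map_sub, hχ₀a, AlgHom.commutes, AlgHom.commutes, sub_self]
  haveI : IsScalarTower A B N := by
    refine ⟨fun c a j => ?_⟩
    apply Subtype.ext
    rw [hsmulB, hsmulA, hsmulB, Algebra.smul_def, map_mul, mul_assoc]
    have := hNN _ (hdiff c) (χ₀ a * (j : E)) (Ideal.mul_mem_left _ _ j.2)
    rw [sub_mul, sub_eq_zero] at this
    exact this
  haveI : IsScalarTower Λ B N := by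
    refine ⟨fun l b j => ?_⟩
    apply Subtype.ext
    rw [hsmulB, hsmulΛ, hsmulB, map_smul, smul_mul_assoc]
  let δ₀ : A →ₗ[Λ] N :=
    { toFun := fun c => ⟨χ₀ (algebraMap A B c) - algebraMap A E c, hdiff c⟩
      map_add' := fun a b => by
        apply Subtype.ext
        simp only [map_add, Submodule.coe_add]
        ring
      map_smul' := fun l a => by
        apply Subtype.ext
        rw [RingHom.id_apply, hsmulΛ]
        change χ₀ (algebraMap A B (l • a)) - algebraMap A E (l • a) =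
          l • (χ₀ (algebraMap A B a) - algebraMap A E a)
        rw [smul_sub, ← map_smul χ₀]
        congr 1
        · rw [Algebra.smul_def, Algebra.smul_def, map_mul, ← IsScalarTower.algebraMap_apply]
        · rw [Algebra.smul_def, Algebra.smul_def, map_mul, ← IsScalarTower.algebraMap_apply] }
  let δ : Derivation Λ A N := Derivation.mk' δ₀ (fun a b => by
    apply Subtype.ext
    change χ₀ (algebraMap A B (a * b)) - algebraMap A E (a * b) = _
    rw [Submodule.coe_add, hsmulA, hsmulA]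
    change _ = algebraMap A E a * (χ₀ (algebraMap A B b) - algebraMap A E b) +
      algebraMap A E b * (χ₀ (algebraMap A B a) - algebraMap A E a)
    have := hNN _ (hdiff a) _ (hdiff b)
    rw [map_mul, map_mul, map_mul]
    linear_combination this)
  obtain ⟨D, hDk⟩ := hD N (fun a ha j => by
    apply Subtype.ext
    rw [hsmulB, Submodule.coe_zero]
    exact hcond a (by rwa [pow_one]) (χ₀ a) (hχ₀a a) j j.2) δ
  let χ : B →ₐ[A] E :=
    { toFun := fun a => χ₀ a - (D a : E)
      map_one' := by rw [map_one, Derivation.map_one_eq_zero]; simp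
      map_mul' := fun a b => by
        rw [map_mul, Derivation.leibniz, Submodule.coe_add, hsmulB, hsmulB]
        have := hNN _ (D a).2 _ (D b).2
        linear_combination (-1 : E) * this
      map_zero' := by rw [map_zero, map_zero]; simp
      map_add' := fun a b => by
        rw [map_add, map_add, Submodule.coe_add]; ring
      commutes' := fun c => by
        rw [hDk]
        change χ₀ (algebraMap A B c) - (χ₀ (algebraMap A B c) - algebraMap A E c) = _
        ring }
  refine ⟨χ, ?_⟩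
  ext a
  change π (χ₀ a - (D a : E)) = g a
  rw [map_sub, hχ₀a]
  have : π (D a : E) = 0 := (D a).2
  rw [this, sub_zero]

end Suff

section Retr

variable {Λ A B : Type u} [CommRing Λ] [CommRing A] [CommRing B] [Algebra Λ A] [Algebra A B]
  [Algebra Λ B] [IsScalarTower Λ A B] (J : Ideal B)

theorem derExtOver_of_retraction
    (ρ : (B ⧸ J) ⊗[B] Ω[B⁄Λ] →ₗ[B] (B ⧸ J) ⊗[B] (B ⊗[A] Ω[A⁄Λ]))
    (hρ : ρ ∘ₗ (mapBaseChange Λ A B).lTensor (B ⧸ J) = LinearMap.id) :
    DerExtOver Λ A B J := by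
  intro V _ _ _ _ _ _ _ hV δ
  let φA : Ω[A⁄Λ] →ₗ[A] V := δ.liftKaehlerDifferential
  let φ : B ⊗[A] Ω[A⁄Λ] →ₗ[B] V := LinearMap.liftBaseChange B φA
  have hker : J • (⊤ : Submodule B (B ⊗[A] Ω[A⁄Λ])) ≤ LinearMap.ker φ := by
    rw [Submodule.smul_le]
    intro r hr x _
    rw [LinearMap.mem_ker, map_smul]
    exact hV r hr _
  let φbar : (B ⧸ J) ⊗[B] (B ⊗[A] Ω[A⁄Λ]) →ₗ[B] V :=
    (Submodule.liftQ _ φ hker) ∘ₗ
      (TensorProduct.quotTensorEquivQuotSMul (B ⊗[A] Ω[A⁄Λ]) J).toLinearMap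
  have hφbar : ∀ x, φbar ((1 : B ⧸ J) ⊗ₜ[B] x) = φ x := fun x => by
    change Submodule.liftQ _ φ hker
      (TensorProduct.quotTensorEquivQuotSMul (B ⊗[A] Ω[A⁄Λ]) J ((1 : B ⧸ J) ⊗ₜ[B] x)) = φ x
    rw [TensorProduct.quotTensorEquivQuotSMul_mk_one_tmul]
    rfl
  let ψ' : Ω[B⁄Λ] →ₗ[B] V := φbar ∘ₗ ρ ∘ₗ (TensorProduct.mk B (B ⧸ J) Ω[B⁄Λ] 1)
  refine ⟨ψ'.compDer (KaehlerDifferential.D Λ B), fun a => ?_⟩
  change φbar (ρ ((1 : B ⧸ J) ⊗ₜ[B] KaehlerDifferential.D Λ B (algebraMap A B a))) = δ a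
  have h1 : (1 : B ⧸ J) ⊗ₜ[B] KaehlerDifferential.D Λ B (algebraMap A B a) =
      (mapBaseChange Λ A B).lTensor (B ⧸ J)
        ((1 : B ⧸ J) ⊗ₜ[B] ((1 : B) ⊗ₜ[A] KaehlerDifferential.D Λ A a)) := by
    rw [LinearMap.lTensor_tmul, mapBaseChange_tmul, one_smul, KaehlerDifferential.map_D]
  rw [h1]
  have h2 := congr($hρ ((1 : B ⧸ J) ⊗ₜ[B] ((1 : B) ⊗ₜ[A] KaehlerDifferential.D Λ A a)))
  rw [LinearMap.comp_apply, LinearMap.id_apply] at h2
  rw [h2, hφbar, LinearMap.liftBaseChange_tmul, one_smul,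
    Derivation.liftKaehlerDifferential_comp_D]

theorem exists_retraction
    (hinj : Function.Injective ((mapBaseChange Λ A B).lTensor (B ⧸ J)))
    (hproj : Module.Projective (B ⧸ J) ((B ⧸ J) ⊗[B] Ω[B⁄A])) :
    ∃ ρ : (B ⧸ J) ⊗[B] Ω[B⁄Λ] →ₗ[B] (B ⧸ J) ⊗[B] (B ⊗[A] Ω[A⁄Λ]),
      ρ ∘ₗ (mapBaseChange Λ A B).lTensor (B ⧸ J) = LinearMap.id := by
  have hsurj0 : Function.Surjective (KaehlerDifferential.map Λ A B B) :=
    KaehlerDifferential.map_surjective Λ A B
  have hex : Function.Exact ((mapBaseChange Λ A B).lTensor (B ⧸ J))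
      ((KaehlerDifferential.map Λ A B B).lTensor (B ⧸ J)) :=
    lTensor_exact (B ⧸ J) (exact_mapBaseChange_map Λ A B) hsurj0
  have hsurj : Function.Surjective ((KaehlerDifferential.map Λ A B B).lTensor (B ⧸ J)) :=
    LinearMap.lTensor_surjective _ hsurj0
  obtain ⟨σ, hσ⟩ := Module.projective_lifting_property
    ((KaehlerDifferential.map Λ A B B).baseChange (B ⧸ J)) LinearMap.id (by
      intro x
      obtain ⟨y, hy⟩ := hsurj x
      exact ⟨y, hy⟩)
  have h1 : ((KaehlerDifferential.map Λ A B B).lTensor (B ⧸ J)) ∘ₗ (σ.restrictScalars B) =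
      LinearMap.id := by
    refine LinearMap.ext fun x => ?_
    exact congr($hσ x)
  exact (((hex.split_tfae').out 0 1 rfl rfl).1 ⟨hinj, σ.restrictScalars B, h1⟩).2

theorem adic_of_conditions (hΛ : CAlgX.IsAdicFormallySmooth Λ B J)
    (hinj : Function.Injective ((mapBaseChange Λ A B).lTensor (B ⧸ J)))
    (hproj : Module.Projective (B ⧸ J) ((B ⧸ J) ⊗[B] Ω[B⁄A])) :
    CAlgX.IsAdicFormallySmooth A B J := by
  obtain ⟨ρ, hρ⟩ := exists_retraction J hinj hproj
  exact adic_of_derExtOver J hΛ (derExtOver_of_retraction J ρ hρ)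

end Retr

end Groth.Agent.Helper7.AdJac
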