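import Mathlib
import Groth.Prelude.Def_CAlgX
import Groth.Agent.Helper7.AdJac1
import Groth.Agent.Helper8.GeomReg7

/-!
# The relative Jacobian criterion for adic formal smoothness: necessity
-/

set_option autoImplicit false
set_option linter.unusedSectionVars false
universe u

namespace Groth.Agent.Helper7.AdJac

open TensorProduct KaehlerDifferential Groth.Agent.Helper8.GeomReg

section Comp

variable {Λ A B : Type u} [CommRing Λ] [CommRing A] [CommRing B] [Algebra Λ A] [Algebra A B]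
  [Algebra Λ B] [IsScalarTower Λ A B] (J : Ideal B)

/-- transitivity: `A` formally smooth over `Λ`, `B` adically formally smooth over `A` -/
theorem adic_comp [Algebra.FormallySmooth Λ A] (hB : CAlgX.IsAdicFormallySmooth A B J) :
    CAlgX.IsAdicFormallySmooth Λ B J := by
  intro E _ _ K hK ψ hψ
  let f : A →ₐ[Λ] E := Algebra.FormallySmooth.lift K ⟨2, hK⟩
    (ψ.comp (IsScalarTower.toAlgHom Λ A B))
  have hf : ∀ a, Ideal.Quotient.mk K (f a) = ψ (algebraMap A B a) := fun a =>
    Algebra.FormallySmooth.mk_lift K ⟨2, hK⟩ (ψ.comp (IsScalarTower.toAlgHom Λ A B)) a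
  letI : Algebra A E := f.toRingHom.toAlgebra
  haveI : IsScalarTower Λ A E := IsScalarTower.of_algebraMap_eq fun l => (f.commutes l).symm
  let ψA : B →ₐ[A] E ⧸ K :=
    { ψ.toRingHom with
      commutes' := fun a => by
        change ψ (algebraMap A B a) = Ideal.Quotient.mk K (f a)
        rw [hf] }
  obtain ⟨χ, hχ⟩ := hB E K hK ψA hψ
  refine ⟨χ.restrictScalars Λ, ?_⟩
  ext b
  exact congr($hχ b)

end Comp

section Nec

variable {Λ A B : Type u} [CommRing Λ] [CommRing A] [CommRing B] [Algebra Λ A] [Algebra A B]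
  [Algebra Λ B] [IsScalarTower Λ A B] (J : Ideal B)

theorem injective_of_adic (hB : CAlgX.IsAdicFormallySmooth A B J) :
    Function.Injective ((mapBaseChange Λ A B).lTensor (B ⧸ J)) := by
  -- the derivation `a ↦ 1 ⊗ (1 ⊗ da)`
  let ℓ : Ω[A⁄Λ] →ₗ[A] (B ⧸ J) ⊗[B] (B ⊗[A] Ω[A⁄Λ]) :=
    ((TensorProduct.mk B (B ⧸ J) (B ⊗[A] Ω[A⁄Λ]) 1).restrictScalars A) ∘ₗ
      (TensorProduct.mk A B Ω[A⁄Λ] 1)
  let δΛ : Derivation Λ A ((B ⧸ J) ⊗[B] (B ⊗[A] Ω[A⁄Λ])) :=
    ℓ.compDer (KaehlerDifferential.D Λ A)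
  have hδΛ : ∀ a, δΛ a = (1 : B ⧸ J) ⊗ₜ[B] ((1 : B) ⊗ₜ[A] KaehlerDifferential.D Λ A a) :=
    fun a => rfl
  let δ : Derivation ℤ A ((B ⧸ J) ⊗[B] (B ⊗[A] Ω[A⁄Λ])) := δΛ.restrictScalars ℤ
  obtain ⟨D, hD⟩ := derExt_of_adic J hB ((B ⧸ J) ⊗[B] (B ⊗[A] Ω[A⁄Λ])) (fun b hb v => by
    induction v using TensorProduct.induction_on with
    | zero => rw [smul_zero]
    | add x y hx hy => rw [smul_add, hx, hy, add_zero]
    | tmul c y =>
      rw [TensorProduct.smul_tmul', Algebra.smul_def,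
        show algebraMap B (B ⧸ J) b = 0 from Ideal.Quotient.eq_zero_iff_mem.2 hb, zero_mul,
        TensorProduct.zero_tmul]) δ
  have hD' : ∀ a, D (algebraMap A B a) =
      (1 : B ⧸ J) ⊗ₜ[B] ((1 : B) ⊗ₜ[A] KaehlerDifferential.D Λ A a) := fun a => by
    rw [hD]; rfl
  -- `D` is `Λ`-linear
  let D₀ : B →ₗ[Λ] (B ⧸ J) ⊗[B] (B ⊗[A] Ω[A⁄Λ]) :=
    { toFun := fun b => D b
      map_add' := fun a b => map_add D a b
      map_smul' := fun l b => by
        rw [RingHom.id_apply, Algebra.smul_def, Derivation.leibniz,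
          IsScalarTower.algebraMap_apply Λ A B, hD', Derivation.map_algebraMap,
          TensorProduct.tmul_zero, TensorProduct.tmul_zero, smul_zero, add_zero,
          ← IsScalarTower.algebraMap_apply Λ A B, algebraMap_smul] }
  let DΛ : Derivation Λ B ((B ⧸ J) ⊗[B] (B ⊗[A] Ω[A⁄Λ])) :=
    Derivation.mk' D₀ (fun a b => Derivation.leibniz D a b)
  have hDΛ : ∀ a, DΛ (algebraMap A B a) =
      (1 : B ⧸ J) ⊗ₜ[B] ((1 : B) ⊗ₜ[A] KaehlerDifferential.D Λ A a) := hD'
  let ρ : (B ⧸ J) ⊗[B] Ω[B⁄Λ] →ₗ[B ⧸ J] (B ⧸ J) ⊗[B] (B ⊗[A] Ω[A⁄Λ]) :=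
    LinearMap.liftBaseChange (B ⧸ J) DΛ.liftKaehlerDifferential
  have key : ∀ (ω : Ω[A⁄Λ]) (c : B ⧸ J) (b : B),
      ρ ((mapBaseChange Λ A B).lTensor (B ⧸ J) (c ⊗ₜ[B] (b ⊗ₜ[A] ω))) = c ⊗ₜ[B] (b ⊗ₜ[A] ω) := by
    intro ω
    have hω : ω ∈ Submodule.span A (Set.range (KaehlerDifferential.D Λ A)) := by
      rw [KaehlerDifferential.span_range_derivation]
      exact Submodule.mem_top
    induction hω using Submodule.span_induction with
    | mem ω hω =>
      obtain ⟨a, rfl⟩ := hω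
      intro c b
      rw [LinearMap.lTensor_tmul, mapBaseChange_tmul, KaehlerDifferential.map_D,
        LinearMap.liftBaseChange_tmul, map_smul, Derivation.liftKaehlerDifferential_comp_D, hDΛ,
        TensorProduct.smul_tmul', TensorProduct.smul_tmul', smul_eq_mul]
      have h1 : b ⊗ₜ[A] KaehlerDifferential.D Λ A a =
          b • ((1 : B) ⊗ₜ[A] KaehlerDifferential.D Λ A a) := by
        rw [TensorProduct.smul_tmul', smul_eq_mul, mul_one]
      rw [h1, ← TensorProduct.smul_tmul, mul_smul_comm, mul_one]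
    | zero =>
      intro c b
      rw [TensorProduct.tmul_zero, TensorProduct.tmul_zero, map_zero, map_zero]
    | add ω ω' _ _ h h' =>
      intro c b
      rw [TensorProduct.tmul_add, TensorProduct.tmul_add, map_add, map_add, h, h']
    | smul a ω _ h =>
      intro c b
      have h1 : b ⊗ₜ[A] (a • ω) = (a • b) ⊗ₜ[A] ω := by
        rw [TensorProduct.tmul_smul, TensorProduct.smul_tmul']
      rw [h1, h]
  have hleft : ∀ x, ρ ((mapBaseChange Λ A B).lTensor (B ⧸ J) x) = x := by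
    intro x
    induction x using TensorProduct.induction_on with
    | zero => rw [map_zero, map_zero]
    | add x y hx hy => rw [map_add, map_add, hx, hy]
    | tmul c y =>
      induction y using TensorProduct.induction_on with
      | zero => rw [TensorProduct.tmul_zero, map_zero, map_zero]
      | add x y hx hy => rw [TensorProduct.tmul_add, map_add, map_add, hx, hy]
      | tmul b ω => exact key ω c b
  exact Function.LeftInverse.injective hleft

end Nec

end Groth.Agent.Helper7.AdJac
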