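import Mathlib

/-!
# Symmetric powers: universal property
-/

set_option autoImplicit false
set_option linter.unusedSectionVars false
universe u v w

namespace Groth.Agent.Helper7.SymT

open TensorProduct

variable {R ι : Type u} [CommRing R] {M : Type v} [AddCommGroup M] [Module R M]
  {N : Type w} [AddCommGroup N] [Module R N]

/-- the universal property of the symmetric power -/
noncomputable def lift (f : MultilinearMap R (fun _ : ι => M) N)
    (hf : ∀ (e : Equiv.Perm ι) (v : ι → M), f (fun i => v (e i)) = f v) :
    SymmetricPower R ι M →ₗ[R] N where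
  toFun := AddCon.lift _ (PiTensorProduct.lift f).toAddMonoidHom (by
    rw [AddCon.addConGen_le]
    rintro x y ⟨e, v⟩
    rw [AddCon.ker_rel, LinearMap.toAddMonoidHom_coe, PiTensorProduct.lift.tprod,
      PiTensorProduct.lift.tprod, hf])
  map_add' x y := map_add _ x y
  map_smul' r x := by
    induction x using AddCon.induction_on with
    | H x =>
      change PiTensorProduct.lift f (r • x) = r • PiTensorProduct.lift f x
      rw [map_smul]

@[simp]
lemma lift_tprod (f : MultilinearMap R (fun _ : ι => M) N)
    (hf : ∀ (e : Equiv.Perm ι) (v : ι → M), f (fun i => v (e i)) = f v) (v : ι → M) :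
    lift f hf (SymmetricPower.tprod R v) = f v := by
  change PiTensorProduct.lift f (PiTensorProduct.tprod R v) = f v
  rw [PiTensorProduct.lift.tprod]

lemma hom_ext {f g : SymmetricPower R ι M →ₗ[R] N}
    (h : ∀ v : ι → M, f (SymmetricPower.tprod R v) = g (SymmetricPower.tprod R v)) : f = g := by
  apply LinearMap.ext_on (SymmetricPower.span_tprod_eq_top R ι M)
  rintro _ ⟨v, rfl⟩
  exact h v

lemma hom_ext_of_surjective {W : Type*} {π : W → M} (hπ : Function.Surjective π)
    {f g : SymmetricPower R ι M →ₗ[R] N}
    (h : ∀ x : ι → W, f (SymmetricPower.tprod R (fun i => π (x i))) =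
      g (SymmetricPower.tprod R (fun i => π (x i)))) : f = g := by
  apply hom_ext
  intro v
  have : v = fun i => π (Function.surjInv hπ (v i)) := by
    funext i
    exact (Function.surjInv_eq hπ (v i)).symm
  rw [this]
  exact h _

end Groth.Agent.Helper7.SymT
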