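import Mathlib
import Groth.Agent.Helper7.SymT1

/-!
# The canonical map from the symmetric power of the cotangent module to the graded pieces
-/

set_option autoImplicit false
set_option linter.unusedSectionVars false
universe u v w

namespace Groth.Agent.Helper7.SymT

open TensorProduct

section Prod

variable {E : Type u} [CommRing E] (I : Ideal E) {ι : Type u}

lemma prod_mem_pow_card (s : Finset ι) (x : ι → E) (hx : ∀ i ∈ s, x i ∈ I) :
    ∏ i ∈ s, x i ∈ I ^ s.card := by
  classical
  induction s using Finset.induction_on with
  | empty => simp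
  | insert a s ha ih =>
    rw [Finset.prod_insert ha, Finset.card_insert_of_notMem ha, pow_succ']
    exact Ideal.mul_mem_mul (hx a (by simp)) (ih fun i hi => hx i (by simp [hi]))

lemma prod_sub_prod_mem (s : Finset ι) (x y : ι → E) (hx : ∀ i ∈ s, x i ∈ I)
    (hy : ∀ i ∈ s, y i ∈ I) (hxy : ∀ i ∈ s, x i - y i ∈ I ^ 2) :
    ∏ i ∈ s, x i - ∏ i ∈ s, y i ∈ I ^ (s.card + 1) := by
  classical
  induction s using Finset.induction_on with
  | empty => simp
  | insert a s ha ih =>
    rw [Finset.prod_insert ha, Finset.prod_insert ha, Finset.card_insert_of_notMem ha]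
    have h1 : x a * ∏ i ∈ s, x i - y a * ∏ i ∈ s, y i =
        x a * (∏ i ∈ s, x i - ∏ i ∈ s, y i) + (x a - y a) * ∏ i ∈ s, y i := by ring
    rw [h1]
    apply Ideal.add_mem
    · rw [pow_succ' I (s.card + 1)]
      exact Ideal.mul_mem_mul (hx a (by simp))
        (ih (fun i hi => hx i (by simp [hi])) (fun i hi => hy i (by simp [hi]))
          (fun i hi => hxy i (by simp [hi])))
    · have : I ^ (s.card + 1 + 1) = I ^ 2 * I ^ s.card := by rw [← pow_add]; congr 1; ring
      rw [this]
      exact Ideal.mul_mem_mul (hxy a (by simp))
        (prod_mem_pow_card I s y (fun i hi => hy i (by simp [hi])))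

variable [Fintype ι]

/-- the product of a family of elements of `I`, as an element of `I ^ n` -/
def prodI (x : ι → ↥I) : ↥(I ^ Fintype.card ι) :=
  ⟨∏ i, (x i : E), by
    simpa using prod_mem_pow_card I Finset.univ (fun i => (x i : E)) (fun i _ => (x i).2)⟩

@[simp] lemma prodI_val (x : ι → ↥I) : ((prodI I x : ↥(I ^ Fintype.card ι)) : E) = ∏ i, (x i : E) := rfl

lemma prodI_sub_mem (x y : ι → ↥I) (hxy : ∀ i, ((x i : E) - (y i : E)) ∈ I ^ 2) :
    ((prodI I x : ↥(I ^ Fintype.card ι)) : E) - (prodI I y : ↥(I ^ Fintype.card ι)) ∈
      I ^ (Fintype.card ι + 1) := by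
  simpa using prod_sub_prod_mem I Finset.univ (fun i => (x i : E)) (fun i => (y i : E))
    (fun i _ => (x i).2) (fun i _ => (y i).2) (fun i _ => hxy i)

lemma prodI_comp_perm (e : Equiv.Perm ι) (x : ι → ↥I) :
    prodI I (fun i => x (e i)) = prodI I x := by
  apply Subtype.ext
  exact Equiv.prod_comp e (fun i => (x i : E))

lemma coe_update [DecidableEq ι] (x : ι → ↥I) (i : ι) (a : ↥I) :
    (fun j => ((Function.update x i a j : ↥I) : E)) = Function.update (fun j => (x j : E)) i (a : E) := by
  funext j
  by_cases h : j = i
  · subst h; simp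
  · simp [Function.update_of_ne h]

lemma prodI_update_add [DecidableEq ι] (x : ι → ↥I) (i : ι) (a b : ↥I) :
    prodI I (Function.update x i (a + b)) =
      prodI I (Function.update x i a) + prodI I (Function.update x i b) := by
  apply Subtype.ext
  rw [Submodule.coe_add, prodI_val, prodI_val, prodI_val, coe_update, coe_update, coe_update]
  exact (MultilinearMap.mkPiAlgebra E ι E).map_update_add (fun j => (x j : E)) i (a : E) (b : E)

lemma prodI_update_mul [DecidableEq ι] (x : ι → ↥I) (i : ι) (c : E) (a : ↥I) :
    ((prodI I (Function.update x i (c • a)) : ↥(I ^ Fintype.card ι)) : E) =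
      c * (prodI I (Function.update x i a) : ↥(I ^ Fintype.card ι)) := by
  rw [prodI_val, prodI_val, coe_update, coe_update]
  exact (MultilinearMap.mkPiAlgebra E ι E).map_update_smul (fun j => (x j : E)) i c (a : E)

end Prod

section Descent

variable {S E : Type u} [CommRing S] [CommRing E] [Algebra S E] (I : Ideal E) {ι : Type u} [Fintype ι]
  {W : Type v} [AddCommGroup W] [Module S W]
  {G : Type w} [AddCommGroup G] [Module S G]
  (π : ↥I →ₗ[S] W) (hπs : Function.Surjective π) (hπk : ∀ x : ↥I, π x = 0 → (x : E) ∈ I ^ 2)
  (q : ↥(I ^ Fintype.card ι) →ₗ[S] G)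
  (hq : ∀ x : ↥(I ^ Fintype.card ι), (x : E) ∈ I ^ (Fintype.card ι + 1) → q x = 0)

include hπk hq in
lemma q_prodI_congr (x y : ι → ↥I) (h : ∀ i, π (x i) = π (y i)) :
    q (prodI I x) = q (prodI I y) := by
  rw [← sub_eq_zero, ← map_sub]
  apply hq
  rw [Submodule.coe_sub]
  apply prodI_sub_mem
  intro i
  have : π (x i - y i) = 0 := by rw [map_sub, h i, sub_self]
  exact hπk _ this

/-- the underlying function of the descended multilinear map -/
noncomputable def descFun (w : ι → W) : G := q (prodI I (fun i => Function.surjInv hπs (w i)))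

include hπk hq in
lemma descFun_apply (x : ι → ↥I) :
    descFun I π hπs q (fun i => π (x i)) = q (prodI I x) := by
  rw [descFun]
  apply q_prodI_congr I π hπk q hq
  intro i
  exact Function.surjInv_eq hπs _

/-- the descended multilinear map -/
noncomputable def descMulti : MultilinearMap S (fun _ : ι => W) G where
  toFun := descFun I π hπs q
  map_update_add' := by
    intro _ m i a b
    set x0 : ι → ↥I := fun j => Function.surjInv hπs (m j) with hx0
    set a' := Function.surjInv hπs a with ha'
    set b' := Function.surjInv hπs b with hb'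
    have hm : ∀ (c : W) (c' : ↥I), π c' = c →
        Function.update m i c = fun j => π (Function.update x0 i c' j) := by
      intro c c' hc
      funext j
      by_cases h : j = i
      · subst h; simp [hc]
      · simp only [Function.update_of_ne h, hx0]
        exact (Function.surjInv_eq hπs _).symm
    rw [hm (a + b) (a' + b') (by rw [map_add, ha', hb', Function.surjInv_eq hπs,
        Function.surjInv_eq hπs]),
      hm a a' (Function.surjInv_eq hπs _), hm b b' (Function.surjInv_eq hπs _),
      descFun_apply I π hπs hπk q hq, descFun_apply I π hπs hπk q hq,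
      descFun_apply I π hπs hπk q hq, prodI_update_add, map_add]
  map_update_smul' := by
    intro _ m i c a
    set x0 : ι → ↥I := fun j => Function.surjInv hπs (m j) with hx0
    set a' := Function.surjInv hπs a with ha'
    have hm : ∀ (c : W) (c' : ↥I), π c' = c →
        Function.update m i c = fun j => π (Function.update x0 i c' j) := by
      intro c c' hc
      funext j
      by_cases h : j = i
      · subst h; simp [hc]
      · simp only [Function.update_of_ne h, hx0]
        exact (Function.surjInv_eq hπs _).symm
    rw [hm (c • a) (c • a') (by rw [map_smul, ha', Function.surjInv_eq hπs]),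
      hm a a' (Function.surjInv_eq hπs _),
      descFun_apply I π hπs hπk q hq, descFun_apply I π hπs hπk q hq, ← map_smul]
    congr 1
    apply Subtype.ext
    have h1 : (c • a' : ↥I) = (algebraMap S E c) • a' := by
      apply Subtype.ext
      simp [Algebra.smul_def]
    rw [h1, prodI_update_mul]
    simp [Algebra.smul_def]

/-- the canonical map `Sym^n(I/I²) → I^n/I^(n+1)` -/
noncomputable def symToGr : SymmetricPower S ι W →ₗ[S] G :=
  lift (descMulti I π hπs hπk q hq) (by
    intro e v
    change descFun I π hπs q _ = descFun I π hπs q _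
    rw [descFun, descFun]
    congr 1
    exact prodI_comp_perm I e (fun i => Function.surjInv hπs (v i)))

lemma symToGr_tprod (x : ι → ↥I) :
    symToGr I π hπs hπk q hq (SymmetricPower.tprod S (fun i => π (x i))) = q (prodI I x) := by
  rw [symToGr, lift_tprod]
  exact descFun_apply I π hπs hπk q hq x

lemma symToGr_unique (φ : SymmetricPower S ι W →ₗ[S] G)
    (hφ : ∀ x : ι → ↥I, φ (SymmetricPower.tprod S (fun i => π (x i))) = q (prodI I x)) :
    φ = symToGr I π hπs hπk q hq := by
  apply hom_ext_of_surjective hπs
  intro x
  rw [hφ, symToGr_tprod]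

end Descent

end Groth.Agent.Helper7.SymT
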