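import Mathlib
import Groth.Agent.Helper7.SymT3

/-!
# Surjectivity of the canonical map `Sym^n(I/I²) → I^n/I^(n+1)`
-/

set_option autoImplicit false
set_option linter.unusedSectionVars false
universe u v w

namespace Groth.Agent.Helper7.SymT

open TensorProduct

section Closure

variable {E : Type u} [CommRing E] (I : Ideal E) {ι : Type u}

lemma pow_card_mem_closure [DecidableEq ι] (s : Finset ι) :
    ∀ y ∈ I ^ s.card, y ∈ AddSubgroup.closure
      {z : E | ∃ (e : E) (x : ι → ↥I), z = e * ∏ i ∈ s, (x i : E)} := by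
  induction s using Finset.induction_on with
  | empty =>
    intro y _
    apply AddSubgroup.subset_closure
    exact ⟨y, fun _ => 0, by simp⟩
  | insert a s ha ih =>
    intro y hy
    rw [Finset.card_insert_of_notMem ha, pow_succ'] at hy
    refine Submodule.mul_induction_on hy ?_ ?_
    · intro m hm z hz
      have hz' := ih z hz
      clear hz
      induction hz' using AddSubgroup.closure_induction with
      | mem z hz2 =>
        obtain ⟨e, x, rfl⟩ := hz2
        apply AddSubgroup.subset_closure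
        refine ⟨e, Function.update x a ⟨m, hm⟩, ?_⟩
        rw [Finset.prod_insert ha, Function.update_self]
        have : ∏ i ∈ s, ((Function.update x a ⟨m, hm⟩ i : ↥I) : E) = ∏ i ∈ s, (x i : E) := by
          apply Finset.prod_congr rfl
          intro i hi
          rw [Function.update_of_ne]
          rintro rfl
          exact ha hi
        rw [this]
        ring
      | zero => rw [mul_zero]; exact zero_mem _
      | add z z' _ _ h1 h2 => rw [mul_add]; exact add_mem h1 h2
      | neg z _ h1 => rw [mul_neg]; exact neg_mem h1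
    · intro y y' h1 h2
      exact add_mem h1 h2

variable [Fintype ι]

lemma closure_prodI_eq_top [Nonempty ι] :
    AddSubgroup.closure (Set.range (prodI I (ι := ι))) = ⊤ := by
  classical
  rw [eq_top_iff]
  rintro ⟨y, hy⟩ -
  have h1 := pow_card_mem_closure I (Finset.univ : Finset ι) y (by simpa using hy)
  have key : ∀ z ∈ AddSubgroup.closure
      {z : E | ∃ (e : E) (x : ι → ↥I), z = e * ∏ i ∈ (Finset.univ : Finset ι), (x i : E)},
      ∃ z' ∈ AddSubgroup.closure (Set.range (prodI I (ι := ι))), (z' : E) = z := by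
    intro z hz
    induction hz using AddSubgroup.closure_induction with
    | mem z hz =>
      obtain ⟨e, x, rfl⟩ := hz
      obtain ⟨i0⟩ := (inferInstance : Nonempty ι)
      refine ⟨prodI I (Function.update x i0 (e • x i0)), AddSubgroup.subset_closure ⟨_, rfl⟩, ?_⟩
      rw [prodI_update_mul, Function.update_eq_self]
      rfl
    | zero => exact ⟨0, zero_mem _, rfl⟩
    | add z z' _ _ h1 h2 =>
      obtain ⟨w, hw, rfl⟩ := h1
      obtain ⟨w', hw', rfl⟩ := h2
      exact ⟨w + w', add_mem hw hw', rfl⟩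
    | neg z _ h1 =>
      obtain ⟨w, hw, rfl⟩ := h1
      exact ⟨-w, neg_mem hw, rfl⟩
  obtain ⟨z', hz', hzy⟩ := key y h1
  have : z' = ⟨y, hy⟩ := Subtype.ext hzy
  rw [← this]
  exact hz'

end Closure

section Surj

variable {S E : Type u} [CommRing S] [CommRing E] [Algebra S E] (I : Ideal E) {ι : Type u} [Fintype ι]
  {W : Type v} [AddCommGroup W] [Module S W]
  {G : Type w} [AddCommGroup G] [Module S G]
  (π : ↥I →ₗ[S] W) (hπs : Function.Surjective π) (hπk : ∀ x : ↥I, π x = 0 → (x : E) ∈ I ^ 2)
  (q : ↥(I ^ Fintype.card ι) →ₗ[S] G)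
  (hq : ∀ x : ↥(I ^ Fintype.card ι), (x : E) ∈ I ^ (Fintype.card ι + 1) → q x = 0)

lemma symToGr_surjective [Nonempty ι] (hqs : Function.Surjective q) :
    Function.Surjective (symToGr I π hπs hπk q hq) := by
  intro g
  obtain ⟨y, rfl⟩ := hqs g
  have hy : y ∈ AddSubgroup.closure (Set.range (prodI I (ι := ι))) := by
    rw [closure_prodI_eq_top]
    exact AddSubgroup.mem_top y
  induction hy using AddSubgroup.closure_induction with
  | mem z hz =>
    obtain ⟨x, rfl⟩ := hz
    exact ⟨_, symToGr_tprod I π hπs hπk q hq x⟩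
  | zero => exact ⟨0, by rw [map_zero, map_zero]⟩
  | add z z' _ _ h1 h2 =>
    obtain ⟨w, hw⟩ := h1
    obtain ⟨w', hw'⟩ := h2
    exact ⟨w + w', by rw [map_add, map_add, hw, hw']⟩
  | neg z _ h1 =>
    obtain ⟨w, hw⟩ := h1
    exact ⟨-w, by rw [map_neg, map_neg, hw]⟩

end Surj

section Rep

variable {S E : Type u} [CommRing S] [CommRing E] [Algebra S E] (I : Ideal E) {ι : Type u} [Fintype ι]
  {W : Type v} [AddCommGroup W] [Module S W]
  {G : Type w} [AddCommGroup G] [Module S G] {G' : Type*} [AddCommGroup G'] [Module S G']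
  (π : ↥I →ₗ[S] W) (hπs : Function.Surjective π) (hπk : ∀ x : ↥I, π x = 0 → (x : E) ∈ I ^ 2)
  (q : ↥(I ^ Fintype.card ι) →ₗ[S] G)
  (hq : ∀ x : ↥(I ^ Fintype.card ι), (x : E) ∈ I ^ (Fintype.card ι + 1) → q x = 0)
  (q' : ↥(I ^ Fintype.card ι) →ₗ[S] G')
  (hq' : ∀ x : ↥(I ^ Fintype.card ι), (x : E) ∈ I ^ (Fintype.card ι + 1) → q' x = 0)

/-- simultaneous representatives for two descended maps -/
lemma exists_rep (z : SymmetricPower S ι W) :
    ∃ y : ↥(I ^ Fintype.card ι), symToGr I π hπs hπk q hq z = q y ∧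
      symToGr I π hπs hπk q' hq' z = q' y := by
  have hz : z ∈ Submodule.span S (Set.range (SymmetricPower.tprod S (ι := ι) (M := W))) := by
    rw [SymmetricPower.span_tprod_eq_top]
    exact Submodule.mem_top
  induction hz using Submodule.span_induction with
  | mem z hz =>
    obtain ⟨v, rfl⟩ := hz
    have hv : v = fun i => π (Function.surjInv hπs (v i)) := by
      funext i
      exact (Function.surjInv_eq hπs (v i)).symm
    rw [hv]
    exact ⟨prodI I (fun i => Function.surjInv hπs (v i)), symToGr_tprod _ _ _ _ _ _ _,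
      symToGr_tprod _ _ _ _ _ _ _⟩
  | zero => exact ⟨0, by simp, by simp⟩
  | add z z' _ _ h1 h2 =>
    obtain ⟨y, hy1, hy2⟩ := h1
    obtain ⟨y', hy1', hy2'⟩ := h2
    exact ⟨y + y', by rw [map_add, map_add, hy1, hy1'], by rw [map_add, map_add, hy2, hy2']⟩
  | smul c z _ h1 =>
    obtain ⟨y, hy1, hy2⟩ := h1
    exact ⟨c • y, by rw [map_smul, map_smul, hy1], by rw [map_smul, map_smul, hy2]⟩

end Rep

end Groth.Agent.Helper7.SymT
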