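import Mathlib
import Groth.Prelude.Def_PP16
import Groth.Agent.Helper7.SymT4

/-!
# The canonical map `Sym^n(Ω_{B/A}) → I^n/I^(n+1)` and differential smoothness
-/

set_option autoImplicit false
set_option linter.unusedSectionVars false
universe u v w

namespace Groth.Agent.Helper7.SymT

open TensorProduct PP16

section Span

variable {R ι : Type u} [CommRing R] [Finite ι] {M : Type v} [AddCommGroup M] [Module R M]
  {N : Type w} [AddCommGroup N] [Module R N]

/-- multilinear maps agreeing on families from a spanning set are equal -/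
lemma multilinear_ext_of_span {T : Set M} (hT : Submodule.span R T = ⊤)
    {f g : MultilinearMap R (fun _ : ι => M) N}
    (h : ∀ v : ι → M, (∀ i, v i ∈ T) → f v = g v) : f = g := by
  classical
  cases nonempty_fintype ι
  have key : ∀ s : Finset ι, ∀ v : ι → M, (∀ i, i ∉ s → v i ∈ T) → f v = g v := by
    intro s
    induction s using Finset.induction_on with
    | empty =>
      intro v hv
      exact h v (fun i => hv i (by simp))
    | insert a s ha ih =>
      intro v hv
      have hva : v a ∈ Submodule.span R T := by rw [hT]; exact Submodule.mem_top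
      have hupd : v = Function.update v a (v a) := (Function.update_eq_self a v).symm
      rw [hupd]
      have key2 : ∀ m ∈ Submodule.span R T,
          f (Function.update v a m) = g (Function.update v a m) := by
        intro m hm
        induction hm using Submodule.span_induction with
        | mem m hm =>
          apply ih
          intro i hi
          by_cases hia : i = a
          · subst hia; simpa using hm
          · rw [Function.update_of_ne hia]
            exact hv i (by simp [hia, hi])
        | zero => rw [f.map_update_zero, g.map_update_zero]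
        | add x y _ _ hx hy => rw [f.map_update_add, g.map_update_add, hx, hy]
        | smul c x _ hx => rw [f.map_update_smul, g.map_update_smul, hx]
      exact key2 _ hva
  ext v
  exact key Finset.univ v (fun i hi => absurd (Finset.mem_univ i) hi)

lemma hom_ext_of_span {T : Set M} (hT : Submodule.span R T = ⊤)
    {f g : SymmetricPower R ι M →ₗ[R] N}
    (h : ∀ v : ι → M, (∀ i, v i ∈ T) → f (SymmetricPower.tprod R v) = g (SymmetricPower.tprod R v)) :
    f = g := by
  apply hom_ext
  have : f.compMultilinearMap (SymmetricPower.tprod R) = g.compMultilinearMap (SymmetricPower.tprod R) :=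
    multilinear_ext_of_span hT h
  exact fun v => DFunLike.congr_fun this v

end Span

section Kaehler

variable (A B : Type u) [CommRing A] [CommRing B] [Algebra A B]

/-- the quotient map `I → Ω`, as a `B`-linear map -/
noncomputable def piK : ↥(KaehlerDifferential.ideal A B) →ₗ[B] Ω[B⁄A] :=
  (KaehlerDifferential.fromIdeal A B).restrictScalars B

lemma piK_surjective : Function.Surjective (piK A B) := KaehlerDifferential.fromIdeal_surjective A B

lemma piK_ker (x : ↥(KaehlerDifferential.ideal A B)) (hx : piK A B x = 0) :
    (x : B ⊗[A] B) ∈ KaehlerDifferential.ideal A B ^ 2 :=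
  (Ideal.toCotangent_eq_zero _ x).1 hx

/-- the element `1 ⊗ b - b ⊗ 1` of the ideal -/
noncomputable def δ (b : B) : ↥(KaehlerDifferential.ideal A B) :=
  ⟨(1 : B) ⊗ₜ[A] b - b ⊗ₜ[A] (1 : B), KaehlerDifferential.one_smul_sub_smul_one_mem_ideal A b⟩

lemma piK_δ (b : B) : piK A B (δ A B b) = KaehlerDifferential.D A B b := rfl

variable (ι : Type u) [Fintype ι]

/-- the quotient map `I^n → I^n/I^(n+1)`, as a `B`-linear map -/
noncomputable def qK : ↥(KaehlerDifferential.ideal A B ^ Fintype.card ι) →ₗ[B] grI A B (Fintype.card ι) where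
  toFun x := Submodule.Quotient.mk
    (⟨x.1, x.2⟩ : ↥((KaehlerDifferential.ideal A B ^ Fintype.card ι).restrictScalars B))
  map_add' x y := rfl
  map_smul' b x := rfl

lemma qK_surjective : Function.Surjective (qK A B ι) := by
  intro g
  obtain ⟨⟨y, hy⟩, rfl⟩ := Submodule.Quotient.mk_surjective _ g
  exact ⟨⟨y, hy⟩, rfl⟩

lemma qK_eq_zero (x : ↥(KaehlerDifferential.ideal A B ^ Fintype.card ι))
    (hx : (x : B ⊗[A] B) ∈ KaehlerDifferential.ideal A B ^ (Fintype.card ι + 1)) : qK A B ι x = 0 := by
  change Submodule.Quotient.mk _ = 0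
  rw [Submodule.Quotient.mk_eq_zero]
  exact hx

lemma qK_eq_zero_iff (x : ↥(KaehlerDifferential.ideal A B ^ Fintype.card ι)) :
    qK A B ι x = 0 ↔ (x : B ⊗[A] B) ∈ KaehlerDifferential.ideal A B ^ (Fintype.card ι + 1) := by
  change Submodule.Quotient.mk _ = 0 ↔ _
  rw [Submodule.Quotient.mk_eq_zero]
  rfl

lemma zetaProd_eq (b : ι → B) :
    zetaProd A B b = qK A B ι (prodI (KaehlerDifferential.ideal A B) (fun i => δ A B (b i))) := rfl

/-- the canonical map `Sym^n(Ω) → I^n/I^(n+1)` -/
noncomputable def symToGrI : SymmetricPower B ι Ω[B⁄A] →ₗ[B] grI A B (Fintype.card ι) :=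
  symToGr (KaehlerDifferential.ideal A B) (piK A B) (piK_surjective A B) (piK_ker A B) (qK A B ι)
    (qK_eq_zero A B ι)

lemma symToGrI_tprod (x : ι → ↥(KaehlerDifferential.ideal A B)) :
    symToGrI A B ι (SymmetricPower.tprod B (fun i => piK A B (x i))) =
      qK A B ι (prodI (KaehlerDifferential.ideal A B) x) :=
  symToGr_tprod _ _ _ _ _ _ x

lemma symToGrI_tprod_D (b : ι → B) :
    symToGrI A B ι (SymmetricPower.tprod B (fun i => KaehlerDifferential.D A B (b i))) =
      zetaProd A B b := by
  rw [zetaProd_eq]
  exact symToGrI_tprod A B ι (fun i => δ A B (b i))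

lemma symToGrI_unique (φ : SymmetricPower B ι Ω[B⁄A] →ₗ[B] grI A B (Fintype.card ι))
    (hφ : ∀ b : ι → B, φ (SymmetricPower.tprod B (fun i => KaehlerDifferential.D A B (b i))) =
      zetaProd A B b) : φ = symToGrI A B ι := by
  apply hom_ext_of_span (KaehlerDifferential.span_range_derivation A B)
  intro v hv
  choose b hb using hv
  have : v = fun i => KaehlerDifferential.D A B (b i) := funext fun i => (hb i).symm
  rw [this, hφ, symToGrI_tprod_D]

lemma symToGrI_surjective : Function.Surjective (symToGrI A B ι) := by
  rcases isEmpty_or_nonempty ι with hι | hι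
  · -- degree zero
    intro g
    obtain ⟨⟨y, hy⟩, rfl⟩ := qK_surjective A B ι g
    let x0 : ι → ↥(KaehlerDifferential.ideal A B) := fun i => isEmptyElim i
    let m : B := Algebra.TensorProduct.lmul' A y
    refine ⟨m • SymmetricPower.tprod B (fun i => piK A B (x0 i)), ?_⟩
    rw [map_smul, symToGrI_tprod, ← map_smul, ← sub_eq_zero, ← map_sub]
    apply qK_eq_zero
    have hcard : Fintype.card ι = 0 := Fintype.card_eq_zero
    have hI : KaehlerDifferential.ideal A B ^ (Fintype.card ι + 1) = KaehlerDifferential.ideal A B := by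
      rw [hcard, zero_add, pow_one]
    rw [hI]
    change (m • (prodI (KaehlerDifferential.ideal A B) x0 : ↥(KaehlerDifferential.ideal A B ^ Fintype.card ι)) : B ⊗[A] B) - y ∈ _
    rw [prodI_val, Finset.univ_eq_empty, Finset.prod_empty, Algebra.smul_def, mul_one,
      Algebra.TensorProduct.algebraMap_apply, KaehlerDifferential.ideal, RingHom.mem_ker, map_sub]
    simp [m]
  · exact symToGr_surjective _ _ _ _ _ _ (qK_surjective A B ι)

theorem isDiffSmooth_iff :
    IsDiffSmooth A B ↔ Module.Projective B Ω[B⁄A] ∧
      ∀ (ι : Type u) [Fintype ι], Function.Injective (symToGrI A B ι) := by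
  constructor
  · rintro ⟨hp, h⟩
    refine ⟨hp, fun ι _ => ?_⟩
    obtain ⟨φ, hφ, hbij⟩ := h ι
    rw [← symToGrI_unique A B ι φ hφ]
    exact hbij.1
  · rintro ⟨hp, h⟩
    refine ⟨hp, fun ι _ => ⟨symToGrI A B ι, symToGrI_tprod_D A B ι, h ι, symToGrI_surjective A B ι⟩⟩

end Kaehler

end Groth.Agent.Helper7.SymT
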