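import Mathlib
import Groth.Agent.Helper7.SymT1

/-!
# Symmetric powers of a free module embed in the polynomial ring
-/

set_option autoImplicit false
set_option linter.unusedSectionVars false
universe u v w

namespace Groth.Agent.Helper7.SymT

open TensorProduct MvPolynomial

variable {R ι : Type u} [CommRing R] [Fintype ι] {Λ : Type w} {F : Type v} [AddCommGroup F]
  [Module R F] (ω : Module.Basis Λ R F)

/-- the linear form `ω_λ ↦ X_λ` -/
noncomputable def ell : F →ₗ[R] MvPolynomial Λ R := ω.constr R (fun l => (MvPolynomial.X l : MvPolynomial Λ R))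

lemma ell_basis (l : Λ) : ell ω (ω l) = MvPolynomial.X l := by
  rw [ell, Module.Basis.constr_basis]

lemma ell_apply (v : F) : ell ω v = (ω.repr v).sum fun l r => r • (MvPolynomial.X l : MvPolynomial Λ R) := by
  rw [ell, Module.Basis.constr_apply]

/-- the comparison map to polynomials -/
noncomputable def Θ : SymmetricPower R ι F →ₗ[R] MvPolynomial Λ R :=
  lift ((MultilinearMap.mkPiAlgebra R ι (MvPolynomial Λ R)).compLinearMap (fun _ => ell ω)) (by
    intro e v
    simp only [MultilinearMap.compLinearMap_apply, MultilinearMap.mkPiAlgebra_apply]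
    exact Equiv.prod_comp e (fun i => ell ω (v i)))

lemma Θ_tprod (v : ι → F) : Θ (ι := ι) ω (SymmetricPower.tprod R v) = ∏ i, ell ω (v i) := by
  rw [Θ, lift_tprod]
  simp only [MultilinearMap.compLinearMap_apply, MultilinearMap.mkPiAlgebra_apply]

/-- the multi-index of a function -/
noncomputable def cnt (f : ι → Λ) : Λ →₀ ℕ := ∑ i, Finsupp.single (f i) 1

lemma Θ_tprod_basis (f : ι → Λ) :
    Θ (ι := ι) ω (SymmetricPower.tprod R (fun i => ω (f i))) = MvPolynomial.monomial (cnt f) 1 := by
  rw [Θ_tprod]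
  simp only [ell_basis]
  rw [cnt, MvPolynomial.monomial_sum_one]
  apply Finset.prod_congr rfl
  intro i _
  rfl

lemma cnt_apply [DecidableEq Λ] (f : ι → Λ) (l : Λ) :
    cnt f l = Fintype.card {i // f i = l} := by
  classical
  rw [cnt, Finsupp.finsetSum_apply, Fintype.card_subtype]
  simp only [Finsupp.single_apply]
  rw [Finset.card_filter]

lemma exists_perm_of_cnt_eq {f g : ι → Λ} (h : cnt f = cnt g) :
    ∃ σ : Equiv.Perm ι, ∀ i, g (σ i) = f i := by
  classical
  have hc : ∀ l : Λ, Nonempty ({i // f i = l} ≃ {i // g i = l}) := by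
    intro l
    exact Fintype.card_eq.1 ((cnt_apply f l).symm.trans ((DFunLike.congr_fun h l).trans (cnt_apply g l)))
  exact ⟨Equiv.ofFiberEquiv (fun l => (hc l).some),
    fun i => Equiv.ofFiberEquiv_map _ i⟩

lemma tprod_basis_eq_of_cnt_eq {f g : ι → Λ} (h : cnt f = cnt g) :
    SymmetricPower.tprod R (fun i => ω (f i)) = SymmetricPower.tprod R (fun i => ω (g i)) := by
  obtain ⟨σ, hσ⟩ := exists_perm_of_cnt_eq h
  have := SymmetricPower.tprod_equiv (R := R) σ (fun i => ω (g i))
  rw [← this]
  congr 1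
  funext i
  rw [hσ]

open scoped Classical in
/-- a left inverse of `Θ` -/
noncomputable def Ψ : MvPolynomial Λ R →ₗ[R] SymmetricPower R ι F :=
  (MvPolynomial.basisMonomials Λ R).constr R (fun q =>
    if h : ∃ f : ι → Λ, cnt f = q then SymmetricPower.tprod R (fun i => ω (h.choose i)) else 0)

lemma Ψ_monomial (f : ι → Λ) :
    Ψ (ι := ι) ω (MvPolynomial.monomial (cnt f) 1) = SymmetricPower.tprod R (fun i => ω (f i)) := by
  have h1 : (MvPolynomial.monomial (cnt f) (1 : R)) = MvPolynomial.basisMonomials Λ R (cnt f) := by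
    rw [MvPolynomial.coe_basisMonomials]
  rw [h1, Ψ, Module.Basis.constr_basis]
  have hex : ∃ f' : ι → Λ, cnt f' = cnt f := ⟨f, rfl⟩
  rw [dif_pos hex]
  exact tprod_basis_eq_of_cnt_eq ω hex.choose_spec

lemma Ψ_Θ (x : SymmetricPower R ι F) : Ψ ω (Θ ω x) = x := by
  have : (Ψ (ι := ι) ω) ∘ₗ (Θ ω) = LinearMap.id := by
    apply hom_ext
    intro v
    have h2 : ((Ψ (ι := ι) ω) ∘ₗ (Θ ω)).compMultilinearMap (SymmetricPower.tprod R) =
        (SymmetricPower.tprod R : MultilinearMap R (fun _ : ι => F) (SymmetricPower R ι F)) := by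
      apply Module.Basis.ext_multilinear (fun _ => ω)
      intro f
      rw [LinearMap.compMultilinearMap_apply, LinearMap.comp_apply, Θ_tprod_basis, Ψ_monomial]
    exact DFunLike.congr_fun h2 v
  exact DFunLike.congr_fun this x

lemma Θ_injective : Function.Injective (Θ (ι := ι) ω) :=
  Function.LeftInverse.injective (Ψ_Θ ω)

end Groth.Agent.Helper7.SymT
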