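import Mathlib
import Groth.Agent.Helper7.SymT2

/-!
# Symmetric powers: combinatorics of multi-indices
-/

set_option autoImplicit false
set_option linter.unusedSectionVars false
universe u v w

namespace Groth.Agent.Helper7.SymT

open TensorProduct

section Comb

variable {ι : Type u} [Fintype ι] {Λ : Type w}

/-- every multi-index of the right degree is the multi-index of a function -/
lemma exists_cnt_eq [Fintype Λ] (p : Λ → ℕ) (hp : ∑ l, p l = Fintype.card ι) :
    ∃ f : ι → Λ, ∀ l, cnt f l = p l := by
  classical
  have hcard : Fintype.card ι = Fintype.card (Σ l : Λ, Fin (p l)) := by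
    rw [Fintype.card_sigma, ← hp]
    simp
  let e : ι ≃ Σ l : Λ, Fin (p l) := Fintype.equivOfCardEq hcard
  refine ⟨fun j => (e j).1, fun l => ?_⟩
  rw [cnt_apply]
  have e2 : {j // (e j).1 = l} ≃ Fin (p l) :=
    (e.subtypeEquiv (p := fun j => (e j).1 = l) (q := fun s => s.1 = l) (fun _ => Iff.rfl)).trans
      (Equiv.sigmaSubtype l)
  rw [Fintype.card_congr e2, Fintype.card_fin]

lemma prod_comp_eq_prod_pow [Fintype Λ] {M : Type*} [CommMonoid M] (x : Λ → M) (f : ι → Λ) :
    ∏ j, x (f j) = ∏ l, x l ^ (cnt f l) := by
  classical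
  rw [← Finsupp.prod_fintype (cnt f) (fun l n => x l ^ n) (fun _ => pow_zero _), cnt,
    ← Finsupp.prod_finsetSum_index (h := fun l n => x l ^ n) (fun _ => pow_zero _)
      (fun _ _ _ => pow_add _ _ _)]
  apply Finset.prod_congr rfl
  intro j _
  rw [Finsupp.prod_single_index (h := fun l n => x l ^ n) (pow_zero _), pow_one]

lemma cnt_sum [Fintype Λ] (f : ι → Λ) : ∑ l, cnt f l = Fintype.card ι := by
  classical
  rw [cnt]
  simp only [Finsupp.finsetSum_apply, Finsupp.single_apply]
  rw [Finset.sum_comm]
  simp

end Comb

section SpanBasis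

variable {R ι : Type u} [CommRing R] [Fintype ι] {Λ : Type w} {F : Type v} [AddCommGroup F]
  [Module R F] (ω : Module.Basis Λ R F)

/-- the products of basis vectors span the symmetric power -/
lemma span_tprod_basis :
    Submodule.span R (Set.range fun f : ι → Λ => SymmetricPower.tprod R (fun j => ω (f j))) = ⊤ := by
  set N := Submodule.span R (Set.range fun f : ι → Λ => SymmetricPower.tprod R (fun j => ω (f j)))
    with hN
  have h1 : N.mkQ = 0 := by
    apply hom_ext
    intro v
    have h2 : N.mkQ.compMultilinearMap (SymmetricPower.tprod R) =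
        (0 : SymmetricPower R ι F →ₗ[R] _).compMultilinearMap
          (SymmetricPower.tprod R : MultilinearMap R (fun _ : ι => F) (SymmetricPower R ι F)) := by
      apply Module.Basis.ext_multilinear (fun _ => ω)
      intro f
      rw [LinearMap.compMultilinearMap_apply, LinearMap.compMultilinearMap_apply,
        LinearMap.zero_apply, Submodule.mkQ_apply, Submodule.Quotient.mk_eq_zero]
      exact Submodule.subset_span ⟨f, rfl⟩
    exact DFunLike.congr_fun h2 v
  rw [eq_top_iff]
  intro x _
  have := DFunLike.congr_fun h1 x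
  rwa [Submodule.mkQ_apply, LinearMap.zero_apply, Submodule.Quotient.mk_eq_zero] at this

end SpanBasis

end Groth.Agent.Helper7.SymT
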