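import Mathlib
import Groth.Prelude.Def_PP16
import Groth.Agent.Helper7.SymT5
import Groth.Agent.Helper7.SymT8

/-!
# Monomials in `1 ⊗ z_i - z_i ⊗ 1`: graded independence and spanning
-/

set_option autoImplicit false
set_option linter.unusedSectionVars false
universe u v w

namespace Groth.Agent.Helper7.SymT

open TensorProduct PP16

variable (A B : Type u) [CommRing A] [CommRing B] [Algebra A B] {ι : Type w} [Fintype ι]
  (z : ι → B)

/-- monomials in the `1 ⊗ z_i - z_i ⊗ 1` -/
noncomputable def dmon (p : ι → ℕ) : B ⊗[A] B :=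
  ∏ i, ((δ A B (z i) : ↥(KaehlerDifferential.ideal A B)) : B ⊗[A] B) ^ p i

lemma dmon_mem (p : ι → ℕ) : dmon A B z p ∈ KaehlerDifferential.ideal A B ^ (∑ i, p i) := by
  rw [dmon, ← Finset.prod_pow_eq_pow_sum]
  apply Ideal.prod_mem_prod
  intro i _
  exact Ideal.pow_mem_pow (δ A B (z i)).2 _

lemma dmon_mem_of_le (p : ι → ℕ) (k : ℕ) (hk : k ≤ ∑ i, p i) :
    dmon A B z p ∈ KaehlerDifferential.ideal A B ^ k :=
  Ideal.pow_le_pow_right hk (dmon_mem A B z p)

variable (ιk : Type u) [Fintype ιk]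

lemma prodI_delta_comp (f : ιk → ι) :
    ((prodI (KaehlerDifferential.ideal A B) (fun j => δ A B (z (f j))) :
      ↥(KaehlerDifferential.ideal A B ^ Fintype.card ιk)) : B ⊗[A] B) = dmon A B z (cnt f) := by
  rw [prodI_val, dmon]
  exact prod_comp_eq_prod_pow
    (fun i => ((δ A B (z i) : ↥(KaehlerDifferential.ideal A B)) : B ⊗[A] B)) f

variable (ω : Module.Basis ι B Ω[B⁄A]) (hω : ∀ i, ω i = KaehlerDifferential.D A B (z i))

include hω in
lemma symToGrI_tprod_basis (f : ιk → ι) :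
    symToGrI A B ιk (SymmetricPower.tprod B (fun j => ω (f j))) =
      qK A B ιk (prodI (KaehlerDifferential.ideal A B) (fun j => δ A B (z (f j)))) := by
  have : (fun j => ω (f j)) = fun j => piK A B (δ A B (z (f j))) := by
    funext j
    rw [hω, piK_δ]
  rw [this, symToGrI_tprod]

include hω in
/-- graded independence of the monomials -/
lemma K1 (hinj : Function.Injective (symToGrI A B ιk)) (s : Finset (ι → ℕ))
    (hs : ∀ p ∈ s, ∑ i, p i = Fintype.card ιk) (g : (ι → ℕ) → B)
    (h : ∑ p ∈ s, g p • dmon A B z p ∈ KaehlerDifferential.ideal A B ^ (Fintype.card ιk + 1)) :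
    ∀ p ∈ s, g p = 0 := by
  classical
  have hex : ∀ p ∈ s, ∃ f : ιk → ι, ∀ i, cnt f i = p i := fun p hp => exists_cnt_eq p (hs p hp)
  choose f hf using hex
  set w : SymmetricPower B ιk Ω[B⁄A] :=
    ∑ p ∈ s.attach, g p.1 • SymmetricPower.tprod B (fun j => ω (f p.1 p.2 j)) with hw
  have hcnt : ∀ p : {p // p ∈ s}, (⇑(cnt (f p.1 p.2)) : ι → ℕ) = p.1 := fun p => funext (hf p.1 p.2)
  have h1 : symToGrI A B ιk w = 0 := by
    rw [hw, map_sum]
    have h2 : ∀ p ∈ s.attach, symToGrI A B ιk (g p.1 • SymmetricPower.tprod B (fun j => ω (f p.1 p.2 j))) =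
        qK A B ιk (g p.1 • prodI (KaehlerDifferential.ideal A B) (fun j => δ A B (z (f p.1 p.2 j)))) := by
      intro p _
      rw [map_smul, symToGrI_tprod_basis A B z ιk ω hω, map_smul]
    rw [Finset.sum_congr rfl h2, ← map_sum]
    apply qK_eq_zero
    rw [Submodule.coe_sum]
    have h3 : ∀ p ∈ s.attach, ((g p.1 • prodI (KaehlerDifferential.ideal A B)
        (fun j => δ A B (z (f p.1 p.2 j))) : ↥(KaehlerDifferential.ideal A B ^ Fintype.card ιk)) : B ⊗[A] B) =
        g p.1 • dmon A B z p.1 := by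
      intro p _
      rw [Submodule.coe_smul_of_tower, prodI_delta_comp, hcnt]
    rw [Finset.sum_congr rfl h3, Finset.sum_attach s (fun p => g p • dmon A B z p)]
    exact h
  have h4 : w = 0 := hinj (by rw [h1, map_zero])
  have h5 : Θ (ι := ιk) ω w = 0 := by rw [h4, map_zero]
  rw [hw, map_sum] at h5
  intro p0 hp0
  have h6 := congrArg (MvPolynomial.coeff (cnt (f p0 hp0))) h5
  rw [MvPolynomial.coeff_sum, MvPolynomial.coeff_zero] at h6
  rw [Finset.sum_eq_single (⟨p0, hp0⟩ : {p // p ∈ s})] at h6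
  · rw [map_smul, Θ_tprod_basis, MvPolynomial.coeff_smul, MvPolynomial.coeff_monomial, if_pos rfl,
      smul_eq_mul, mul_one] at h6
    exact h6
  · intro p _ hne
    rw [map_smul, Θ_tprod_basis, MvPolynomial.coeff_smul, MvPolynomial.coeff_monomial, if_neg,
      smul_zero]
    intro heq
    apply hne
    apply Subtype.ext
    rw [← hcnt p, ← hcnt ⟨p0, hp0⟩, heq]
  · intro hnot
    exact absurd (Finset.mem_attach s _) hnot

include hω in
/-- spanning of each graded piece by the monomials -/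
lemma K2 (y : B ⊗[A] B) (hy : y ∈ KaehlerDifferential.ideal A B ^ Fintype.card ιk) :
    ∃ w ∈ Submodule.span B {x : B ⊗[A] B | ∃ p : ι → ℕ, ∑ i, p i = Fintype.card ιk ∧ x = dmon A B z p},
      y - w ∈ KaehlerDifferential.ideal A B ^ (Fintype.card ιk + 1) := by
  classical
  obtain ⟨t, ht⟩ := symToGrI_surjective A B ιk (qK A B ιk ⟨y, hy⟩)
  have key : ∀ t : SymmetricPower B ιk Ω[B⁄A], ∃ w ∈ Submodule.span B
      {x : B ⊗[A] B | ∃ p : ι → ℕ, ∑ i, p i = Fintype.card ιk ∧ x = dmon A B z p},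
      ∃ hw : w ∈ KaehlerDifferential.ideal A B ^ Fintype.card ιk,
        symToGrI A B ιk t = qK A B ιk ⟨w, hw⟩ := by
    intro t
    have htm : t ∈ Submodule.span B
        (Set.range fun f : ιk → ι => SymmetricPower.tprod B (fun j => ω (f j))) := by
      rw [span_tprod_basis]
      exact Submodule.mem_top
    induction htm using Submodule.span_induction with
    | mem t ht =>
      obtain ⟨f, rfl⟩ := ht
      refine ⟨dmon A B z (cnt f), Submodule.subset_span ⟨_, cnt_sum f, rfl⟩, ?_, ?_⟩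
      · rw [← prodI_delta_comp A B z ιk f]
        exact Subtype.property _
      · rw [symToGrI_tprod_basis A B z ιk ω hω]
        congr 1
        apply Subtype.ext
        exact prodI_delta_comp A B z ιk f
    | zero => exact ⟨0, zero_mem _, zero_mem _, by rw [map_zero]; exact (map_zero _).symm⟩
    | add t t' _ _ h1 h2 =>
      obtain ⟨w, hw1, hw2, hw3⟩ := h1
      obtain ⟨w', hw1', hw2', hw3'⟩ := h2
      refine ⟨w + w', add_mem hw1 hw1', add_mem hw2 hw2', ?_⟩
      rw [map_add, hw3, hw3', ← map_add]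
      rfl
    | smul c t _ h1 =>
      obtain ⟨w, hw1, hw2, hw3⟩ := h1
      refine ⟨c • w, Submodule.smul_mem _ c hw1, ?_, ?_⟩
      · rw [Algebra.smul_def]
        exact Ideal.mul_mem_left _ _ hw2
      · rw [map_smul, hw3, ← map_smul]
        rfl
  obtain ⟨w, hw1, hw2, hw3⟩ := key t
  refine ⟨w, hw1, ?_⟩
  rw [ht] at hw3
  have h0 : qK A B ιk (⟨y, hy⟩ - ⟨w, hw2⟩) = 0 := by rw [map_sub, hw3, sub_self]
  exact (qK_eq_zero_iff A B ιk _).1 h0

end Groth.Agent.Helper7.SymT
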