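import Mathlib
import Groth.Prelude.Def_PP16
import Groth.Agent.Helper7.SymT9

/-!
# Differentially smooth algebras: the principal parts are free on the monomials
-/

set_option autoImplicit false
set_option linter.unusedSectionVars false
universe u v w

namespace Groth.Agent.Helper7.SymT

open TensorProduct PP16

variable (A B : Type u) [CommRing A] [CommRing B] [Algebra A B] {ι : Type w} [Fintype ι]
  (z : ι → B) (ω : Module.Basis ι B Ω[B⁄A]) (hω : ∀ i, ω i = KaehlerDifferential.D A B (z i))
  (hinj : ∀ (ιk : Type u) [Fintype ιk], Function.Injective (symToGrI A B ιk))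

lemma card_ulift_fin (k : ℕ) : Fintype.card (ULift.{u} (Fin k)) = k := by simp

include hω hinj in
/-- independence of the monomials of degree `≤ m` modulo `I^(m+1)` -/
lemma LIcore (m : ℕ) (s : Finset (ι → ℕ)) (hs : ∀ p ∈ s, ∑ i, p i ≤ m) (g : (ι → ℕ) → B)
    (h : ∑ p ∈ s, g p • dmon A B z p ∈ KaehlerDifferential.ideal A B ^ (m + 1)) :
    ∀ p ∈ s, g p = 0 := by
  classical
  have key : ∀ k : ℕ, ∀ p ∈ s, ∑ i, p i = k → g p = 0 := by
    intro k
    induction k using Nat.strong_induction_on with
    | _ k ih =>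
    intro p0 hp0 hk0
    have hkm : k ≤ m := hk0 ▸ hs p0 hp0
    -- split the sum
    have hsplit : ∑ p ∈ s, g p • dmon A B z p =
        ∑ p ∈ s with ∑ i, p i = k, g p • dmon A B z p +
          ∑ p ∈ s with ¬ ∑ i, p i = k, g p • dmon A B z p :=
      (Finset.sum_filter_add_sum_filter_not s _ _).symm
    have hrest : ∑ p ∈ s with ¬ ∑ i, p i = k, g p • dmon A B z p ∈
        KaehlerDifferential.ideal A B ^ (k + 1) := by
      apply Ideal.sum_mem
      intro p hp
      rw [Finset.mem_filter] at hp
      rcases Nat.lt_or_ge (∑ i, p i) k with hlt | hge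
      · rw [ih _ hlt p hp.1 rfl, zero_smul]
        exact zero_mem _
      · have hgt : k + 1 ≤ ∑ i, p i := by
          rcases Nat.eq_or_lt_of_le hge with heq | hlt
          · exact absurd heq.symm hp.2
          · exact hlt
        rw [Algebra.smul_def]
        exact Ideal.mul_mem_left _ _ (dmon_mem_of_le A B z p _ hgt)
    have hmid : ∑ p ∈ s with ∑ i, p i = k, g p • dmon A B z p ∈
        KaehlerDifferential.ideal A B ^ (k + 1) := by
      have h1 : ∑ p ∈ s, g p • dmon A B z p ∈ KaehlerDifferential.ideal A B ^ (k + 1) :=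
        Ideal.pow_le_pow_right (by omega) h
      rw [hsplit] at h1
      exact (Ideal.add_mem_iff_left _ hrest).1 h1
    have hk' := card_ulift_fin.{u} k
    refine K1 A B z (ULift.{u} (Fin k)) ω hω (hinj _) (s.filter fun p => ∑ i, p i = k) ?_ g ?_ p0 ?_
    · intro p hp
      rw [hk']
      exact (Finset.mem_filter.1 hp).2
    · rw [hk']
      exact hmid
    · exact Finset.mem_filter.2 ⟨hp0, hk0⟩
  intro p hp
  exact key _ p hp rfl

include hω in
/-- the monomials of degree `≤ m` span modulo `I^k`, `k ≤ m + 1` -/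
lemma SPcore (m : ℕ) : ∀ k ≤ m + 1, ∀ y : B ⊗[A] B,
    ∃ w ∈ Submodule.span B {x : B ⊗[A] B | ∃ p : ι → ℕ, ∑ i, p i ≤ m ∧ x = dmon A B z p},
      y - w ∈ KaehlerDifferential.ideal A B ^ k := by
  intro k
  induction k with
  | zero =>
    intro _ y
    exact ⟨0, zero_mem _, by simp⟩
  | succ k ih =>
    intro hk y
    obtain ⟨w, hw, hyw⟩ := ih (by omega) y
    have hk' := card_ulift_fin.{u} k
    obtain ⟨w', hw', hyw'⟩ := K2 A B z (ULift.{u} (Fin k)) ω hω (y - w) (by rw [hk']; exact hyw)
    rw [hk'] at hyw' hw'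
    refine ⟨w + w', add_mem hw ?_, ?_⟩
    · refine Submodule.span_mono ?_ hw'
      rintro x ⟨p, hp, rfl⟩
      exact ⟨p, by omega, rfl⟩
    · have : y - (w + w') = y - w - w' := by ring
      rw [this]
      exact hyw'

end Groth.Agent.Helper7.SymT
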