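import Mathlib
import Groth.Agent.Helper9.AzuBC
set_option autoImplicit false
open TensorProduct LinearMap
universe u v w

namespace Groth.Agent.Helper7.AzuDesc

/-- finite presentation of modules descends along faithfully flat maps -/
lemma finitePresentation_of_faithfullyFlat (R : Type u) [CommRing R] (S : Type v) [CommRing S]
    [Algebra R S] [Module.FaithfullyFlat R S] (M : Type w) [AddCommGroup M] [Module R M]
    [Module.FinitePresentation S (S ⊗[R] M)] : Module.FinitePresentation R M := by
  have hfin : Module.Finite R M := Module.Finite.of_finite_tensorProduct_of_faithfullyFlat S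
  obtain ⟨n, f, hf⟩ := Module.Finite.exists_fin' R M
  refine Module.finitePresentation_of_free_of_surjective f hf ?_
  set K := LinearMap.ker f with hK
  -- S ⊗ K is finite over S
  have hfS : Function.Surjective (f.baseChange S) := by
    rw [LinearMap.baseChange_eq_ltensor]
    exact LinearMap.lTensor_surjective S hf
  have hkerS : (LinearMap.ker (f.baseChange S)).FG :=
    Module.FinitePresentation.fg_ker (f.baseChange S) hfS
  have hmem : ∀ t : S ⊗[R] K, (K.subtype.baseChange S) t ∈ LinearMap.ker (f.baseChange S) := by
    intro t
    rw [LinearMap.mem_ker, ← LinearMap.comp_apply, ← LinearMap.baseChange_comp]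
    have : f ∘ₗ K.subtype = 0 := by
      ext x; exact x.2
    rw [this, LinearMap.baseChange_zero, LinearMap.zero_apply]
  let g : S ⊗[R] K →ₗ[S] LinearMap.ker (f.baseChange S) :=
    (K.subtype.baseChange S).codRestrict _ hmem
  have hginj : Function.Injective g := by
    intro a b hab
    have h1 : (K.subtype.baseChange S) a = (K.subtype.baseChange S) b := congrArg Subtype.val hab
    have h2 : Function.Injective (K.subtype.baseChange S) := by
      rw [LinearMap.baseChange_eq_ltensor]
      exact Module.Flat.lTensor_preserves_injective_linearMap _ Subtype.val_injective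
    exact h2 h1
  have hgsurj : Function.Surjective g := by
    rintro ⟨y, hy⟩
    have hex := lTensor_exact S (LinearMap.exact_subtype_ker_map f) hf
    have hy' : (lTensor S f) y = 0 := by
      have := LinearMap.mem_ker.1 hy
      rwa [LinearMap.baseChange_eq_ltensor] at this
    obtain ⟨t, ht⟩ := (hex y).1 hy'
    exact ⟨t, Subtype.ext ht⟩
  have hfinS : Module.Finite S (S ⊗[R] K) :=
    haveI : Module.Finite S (LinearMap.ker (f.baseChange S)) := Module.Finite.of_fg hkerS
    Module.Finite.equiv (LinearEquiv.ofBijective g ⟨hginj, hgsurj⟩).symm
  have hfinK : Module.Finite R K := Module.Finite.of_finite_tensorProduct_of_faithfullyFlat S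
  exact (Module.finite_def.1 hfinK |> fun h => (Submodule.fg_top K).1 h)

open Groth.Agent.Helper9 in
theorem isAzumaya_of_faithfullyFlat (R : Type u) [CommRing R]
    (S : Type v) [CommRing S] [Algebra R S] [Module.FaithfullyFlat R S]
    (B : Type w) [Ring B] [Algebra R B] [IsAzumaya S (S ⊗[R] B)] : IsAzumaya R B := by
  have hfin : Module.Finite R B := Module.Finite.of_finite_tensorProduct_of_faithfullyFlat S
  have hflat : Module.Flat R B := Module.Flat.of_flat_tensorProduct R B S
  have hfpS : Module.FinitePresentation S (S ⊗[R] B) := Module.finitePresentation_of_projective S _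
  have hfp : Module.FinitePresentation R B := finitePresentation_of_faithfullyFlat R S B
  have hproj : Module.Projective R B := Module.Flat.projective_of_finitePresentation
  have hfaith : FaithfulSMul R B := by
    constructor
    intro r r' h
    have h1 : ∀ x : S ⊗[R] B, algebraMap R S r • x = algebraMap R S r' • x := by
      intro x
      induction x using TensorProduct.induction_on with
      | zero => simp
      | add a b ha hb => rw [smul_add, smul_add, ha, hb]
      | tmul s b =>
        rw [TensorProduct.smul_tmul', TensorProduct.smul_tmul', Algebra.algebraMap_eq_smul_one,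
          Algebra.algebraMap_eq_smul_one, smul_assoc, smul_assoc, one_smul,
          TensorProduct.smul_tmul, TensorProduct.smul_tmul (r := r'), h b]
    have h2 : algebraMap R S r = algebraMap R S r' := FaithfulSMul.eq_of_smul_eq_smul (α := S ⊗[R] B) h1
    exact FaithfulSMul.algebraMap_injective R S h2
  refine { bij := ?_ }
  have hk := AzuBC.key R S B
  have hθ := AzuBC.theta_bijective R S B
  have hS : Function.Bijective (AlgHom.mulLeftRight S (S ⊗[R] B)) := IsAzumaya.bij
  have h1 : Function.Bijective ((AlgHom.mulLeftRight S (S ⊗[R] B)).toLinearMap ∘ₗ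
      (AzuBC.rho R S B).toLinearMap) := by
    rw [LinearMap.coe_comp]
    exact hS.comp (AzuBC.rho R S B).bijective
  rw [hk, LinearMap.coe_comp] at h1
  have h2 : Function.Bijective ((AlgHom.mulLeftRight R B).toLinearMap.baseChange S) :=
    (Function.Bijective.of_comp_iff' hθ _).1 h1
  rw [LinearMap.baseChange_eq_ltensor] at h2
  exact ⟨(Module.FaithfullyFlat.lTensor_injective_iff_injective R S _).1 h2.1,
    (Module.FaithfullyFlat.lTensor_surjective_iff_surjective R S _).1 h2.2⟩

end Groth.Agent.Helper7.AzuDesc
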