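import Mathlib
import Groth.Agent.Helper7.SymT2

/-!
# Symmetric powers: functoriality, and projective modules
-/

set_option autoImplicit false
set_option linter.unusedSectionVars false
universe u v w

namespace Groth.Agent.Helper7.SymT

open TensorProduct MvPolynomial

section Map

variable {R ι : Type u} [CommRing R] {M : Type v} [AddCommGroup M] [Module R M]
  {N : Type w} [AddCommGroup N] [Module R N] {P : Type*} [AddCommGroup P] [Module R P]

/-- functoriality of the symmetric power -/
noncomputable def map (f : M →ₗ[R] N) : SymmetricPower R ι M →ₗ[R] SymmetricPower R ι N :=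
  lift ((SymmetricPower.tprod R (ι := ι) (M := N)).compLinearMap (fun _ => f)) (by
    intro e v
    simp only [MultilinearMap.compLinearMap_apply]
    exact SymmetricPower.tprod_equiv e (fun i => f (v i)))

@[simp]
lemma map_tprod (f : M →ₗ[R] N) (v : ι → M) :
    map (ι := ι) f (SymmetricPower.tprod R v) = SymmetricPower.tprod R (fun i => f (v i)) := by
  rw [map, lift_tprod]
  rfl

lemma map_id : map (ι := ι) (LinearMap.id : M →ₗ[R] M) = LinearMap.id := by
  apply hom_ext
  intro v
  rw [map_tprod]
  rfl

lemma map_comp (f : M →ₗ[R] N) (g : N →ₗ[R] P) :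
    map (ι := ι) (g ∘ₗ f) = map g ∘ₗ map f := by
  apply hom_ext
  intro v
  rw [map_tprod, LinearMap.comp_apply, map_tprod, map_tprod]
  rfl

lemma map_injective_of_leftInverse (f : M →ₗ[R] N) (g : N →ₗ[R] M) (h : g ∘ₗ f = LinearMap.id) :
    Function.Injective (map (ι := ι) f) := by
  have : map (ι := ι) g ∘ₗ map f = LinearMap.id := by rw [← map_comp, h, map_id]
  exact Function.LeftInverse.injective (g := map g) (fun x => DFunLike.congr_fun this x)

end Map

section Proj

variable {R ι : Type u} [CommRing R] [Fintype ι] {M : Type u} [AddCommGroup M] [Module R M]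
  (s : M →ₗ[R] M →₀ R) (hs : Finsupp.linearCombination R id ∘ₗ s = .id)

/-- the linear form attached to an element, through a dual basis -/
noncomputable def ellP : M →ₗ[R] MvPolynomial M R :=
  ell (Finsupp.basisSingleOne (R := R) (ι := M)) ∘ₗ s

/-- the comparison map `Sym^n(M) → R[X_m]` for a projective module -/
noncomputable def ΘP : SymmetricPower R ι M →ₗ[R] MvPolynomial M R :=
  Θ (ι := ι) (Finsupp.basisSingleOne (R := R) (ι := M)) ∘ₗ map s

lemma ΘP_tprod (v : ι → M) :
    ΘP (ι := ι) s (SymmetricPower.tprod R v) = ∏ i, ellP s (v i) := by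
  rw [ΘP, LinearMap.comp_apply, map_tprod, Θ_tprod]
  rfl

include hs in
lemma ΘP_injective : Function.Injective (ΘP (ι := ι) s) := by
  rw [ΘP, LinearMap.coe_comp]
  exact (Θ_injective _).comp (map_injective_of_leftInverse s _ hs)

lemma ell_isHomogeneous {Λ : Type w} {F : Type v} [AddCommGroup F] [Module R F]
    (ω : Module.Basis Λ R F) (x : F) : (ell ω x).IsHomogeneous 1 := by
  rw [ell_apply]
  apply MvPolynomial.IsHomogeneous.sum
  intro l _
  change ((ω.repr x l) • (X l : MvPolynomial Λ R)).IsHomogeneous 1
  rw [MvPolynomial.smul_eq_C_mul]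
  have := (MvPolynomial.isHomogeneous_C Λ (ω.repr x l)).mul (MvPolynomial.isHomogeneous_X R l)
  simpa using this

lemma ellP_apply (x : M) :
    ellP s x = ell (Finsupp.basisSingleOne (R := R) (ι := M)) (s x) := rfl

lemma ellP_isHomogeneous (x : M) : (ellP s x).IsHomogeneous 1 := by
  rw [ellP_apply]
  exact ell_isHomogeneous (Finsupp.basisSingleOne (R := R) (ι := M)) (s x)

lemma ellP_mem (x : M) : ellP s x ∈ MvPolynomial.idealOfVars M R := by
  have := (MvPolynomial.mem_pow_idealOfVars_iff' 1 (ellP s x)).2 (by
    intro d hd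
    apply (ellP_isHomogeneous s x).coeff_eq_zero
    omega)
  simpa using this

lemma ΘP_isHomogeneous (t : SymmetricPower R ι M) :
    (ΘP (ι := ι) s t).IsHomogeneous (Fintype.card ι) := by
  have ht : t ∈ Submodule.span R (Set.range (SymmetricPower.tprod R (ι := ι) (M := M))) := by
    rw [SymmetricPower.span_tprod_eq_top]
    exact Submodule.mem_top
  induction ht using Submodule.span_induction with
  | mem t ht =>
    obtain ⟨v, rfl⟩ := ht
    rw [ΘP_tprod]
    have := MvPolynomial.IsHomogeneous.prod (Finset.univ : Finset ι) (fun i => ellP s (v i))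
      (fun _ => 1) (fun i _ => ellP_isHomogeneous s (v i))
    simpa using this
  | zero => rw [map_zero]; exact MvPolynomial.isHomogeneous_zero _ _ _
  | add t t' _ _ h h' => rw [map_add]; exact h.add h'
  | smul c t _ h =>
    rw [map_smul, MvPolynomial.smul_eq_C_mul]
    have := (MvPolynomial.isHomogeneous_C M c).mul h
    simpa using this

lemma eq_zero_of_isHomogeneous_of_mem {Λ : Type w} (n : ℕ) (f : MvPolynomial Λ R)
    (hf : f.IsHomogeneous n) (hm : f ∈ MvPolynomial.idealOfVars Λ R ^ (n + 1)) : f = 0 := by
  ext d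
  rw [MvPolynomial.coeff_zero]
  by_cases hd : d.degree = n
  · exact (MvPolynomial.mem_pow_idealOfVars_iff' (n + 1) f).1 hm d (by omega)
  · exact hf.coeff_eq_zero hd

end Proj

end Groth.Agent.Helper7.SymT
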