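import Mathlib
import Groth.Agent.Helper7.SymT15

/-!
# Symmetric powers: dual bases over an arbitrary index, projectivity, semilinear functoriality
-/

set_option autoImplicit false
set_option linter.unusedSectionVars false
universe u v w w'

namespace Groth.Agent.Helper7.SymT

open TensorProduct MvPolynomial

section General

variable {R ι : Type u} [CommRing R] [Fintype ι] {Λ : Type w} {M : Type v} [AddCommGroup M]
  [Module R M] (s : M →ₗ[R] Λ →₀ R)

/-- the linear form attached to an element, through a "dual basis" indexed by `Λ` -/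
noncomputable def ellL : M →ₗ[R] MvPolynomial Λ R :=
  ell (Finsupp.basisSingleOne (R := R) (ι := Λ)) ∘ₗ s

/-- the comparison map `Sym^n(M) → R[X_λ]` -/
noncomputable def ΘL : SymmetricPower R ι M →ₗ[R] MvPolynomial Λ R :=
  Θ (ι := ι) (Finsupp.basisSingleOne (R := R) (ι := Λ)) ∘ₗ map s

lemma ΘL_tprod (v : ι → M) :
    ΘL (ι := ι) s (SymmetricPower.tprod R v) = ∏ i, ellL s (v i) := by
  rw [ΘL, LinearMap.comp_apply, map_tprod, Θ_tprod]
  rfl

lemma ΘL_injective (r : (Λ →₀ R) →ₗ[R] M) (h : r ∘ₗ s = .id) :
    Function.Injective (ΘL (ι := ι) s) := by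
  rw [ΘL, LinearMap.coe_comp]
  exact (Θ_injective _).comp (map_injective_of_leftInverse s r h)

lemma ellL_apply (x : M) :
    ellL s x = (s x).sum fun l c => c • (X l : MvPolynomial Λ R) := by
  rw [ellL, LinearMap.comp_apply, ell_apply]
  rfl

/-- a left inverse of `ΘL` -/
noncomputable def ΨL (r : (Λ →₀ R) →ₗ[R] M) : MvPolynomial Λ R →ₗ[R] SymmetricPower R ι M :=
  map r ∘ₗ Ψ (ι := ι) (Finsupp.basisSingleOne (R := R) (ι := Λ))

lemma ΨL_ΘL (r : (Λ →₀ R) →ₗ[R] M) (h : r ∘ₗ s = .id) :
    ΨL (ι := ι) r ∘ₗ ΘL s = LinearMap.id := by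
  ext t
  rw [LinearMap.comp_apply, ΨL, ΘL, LinearMap.comp_apply, LinearMap.comp_apply, Ψ_Θ,
    ← LinearMap.comp_apply, ← map_comp, h, map_id]

end General

section Projective

variable {R ι : Type u} [CommRing R] [Fintype ι] {M : Type v} [AddCommGroup M] [Module R M]

/-- symmetric powers of projective modules are projective -/
theorem projective_sym [Module.Projective R M] : Module.Projective R (SymmetricPower R ι M) := by
  obtain ⟨s, hs⟩ := (Module.projective_def' (R := R) (P := M)).1 inferInstance
  exact Module.Projective.of_split (ΘL (ι := ι) s) (ΨL (Finsupp.linearCombination R id)) (ΨL_ΘL s _ hs)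

end Projective

section SemiLinear

variable {R R' ι : Type u} [CommRing R] [CommRing R'] [Algebra R R']
  {M : Type v} [AddCommGroup M] [Module R M] {M' : Type w} [AddCommGroup M'] [Module R' M']
  [Module R M'] [IsScalarTower R R' M']

/-- semilinear functoriality of the symmetric power along a ring map -/
noncomputable def mapSL (j : M →ₗ[R] M') : SymmetricPower R ι M →+ SymmetricPower R' ι M' :=
  letI : Module R (SymmetricPower R' ι M') := Module.compHom _ (algebraMap R R')
  haveI : IsScalarTower R R' (SymmetricPower R' ι M') := ⟨fun c r z => by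
    change (c • r) • z = algebraMap R R' c • (r • z)
    rw [Algebra.smul_def, mul_smul]⟩
  (lift (((SymmetricPower.tprod R' (ι := ι) (M := M')).restrictScalars R).compLinearMap
      (fun _ => j))
    (by intro e v; exact SymmetricPower.tprod_equiv e (fun i => j (v i)))).toAddMonoidHom

lemma mapSL_tprod (j : M →ₗ[R] M') (v : ι → M) :
    mapSL (R' := R') j (SymmetricPower.tprod R v) = SymmetricPower.tprod R' (fun i => j (v i)) := by
  letI : Module R (SymmetricPower R' ι M') := Module.compHom _ (algebraMap R R')
  haveI : IsScalarTower R R' (SymmetricPower R' ι M') := ⟨fun c r z => by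
    change (c • r) • z = algebraMap R R' c • (r • z)
    rw [Algebra.smul_def, mul_smul]⟩
  exact lift_tprod (((SymmetricPower.tprod R' (ι := ι) (M := M')).restrictScalars R).compLinearMap
      (fun _ => j)) (by intro e v; exact SymmetricPower.tprod_equiv e (fun i => j (v i))) v

lemma mapSL_smul (j : M →ₗ[R] M') (c : R) (t : SymmetricPower R ι M) :
    mapSL (R' := R') j (c • t) = algebraMap R R' c • mapSL (R' := R') j t := by
  letI : Module R (SymmetricPower R' ι M') := Module.compHom _ (algebraMap R R')
  haveI : IsScalarTower R R' (SymmetricPower R' ι M') := ⟨fun c r z => by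
    change (c • r) • z = algebraMap R R' c • (r • z)
    rw [Algebra.smul_def, mul_smul]⟩
  exact LinearMap.map_smul (lift (((SymmetricPower.tprod R' (ι := ι) (M := M')).restrictScalars R).compLinearMap
      (fun _ => j)) (by intro e v; exact SymmetricPower.tprod_equiv e (fun i => j (v i)))) c t

variable [Fintype ι] {Λ : Type w'}

lemma ellL_comp (s : M →ₗ[R] Λ →₀ R) (s' : M' →ₗ[R'] Λ →₀ R') (j : M →ₗ[R] M')
    (hs : ∀ m, s' (j m) = Finsupp.mapRange (algebraMap R R') (map_zero _) (s m)) (m : M) :
    ellL s' (j m) = MvPolynomial.map (algebraMap R R') (ellL s m) := by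
  rw [ellL_apply, ellL_apply, hs, Finsupp.sum_mapRange_index (fun l => by rw [zero_smul]),
    map_finsuppSum]
  apply Finsupp.sum_congr
  intro l _
  rw [MvPolynomial.smul_eq_C_mul, MvPolynomial.smul_eq_C_mul, map_mul, MvPolynomial.map_C,
    MvPolynomial.map_X]

lemma ΘL_mapSL (s : M →ₗ[R] Λ →₀ R) (s' : M' →ₗ[R'] Λ →₀ R') (j : M →ₗ[R] M')
    (hs : ∀ m, s' (j m) = Finsupp.mapRange (algebraMap R R') (map_zero _) (s m))
    (t : SymmetricPower R ι M) :
    ΘL (ι := ι) s' (mapSL (R' := R') j t) = MvPolynomial.map (algebraMap R R') (ΘL (ι := ι) s t) := by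
  have ht : t ∈ Submodule.span R (Set.range (SymmetricPower.tprod R (ι := ι) (M := M))) := by
    rw [SymmetricPower.span_tprod_eq_top]
    exact Submodule.mem_top
  induction ht using Submodule.span_induction with
  | mem t ht =>
    obtain ⟨v, rfl⟩ := ht
    rw [mapSL_tprod, ΘL_tprod, ΘL_tprod, map_prod]
    apply Finset.prod_congr rfl
    intro i _
    exact ellL_comp s s' j hs (v i)
  | zero => rw [map_zero, map_zero, map_zero, map_zero]
  | add t t' _ _ h h' => rw [map_add, map_add, map_add, map_add, h, h']
  | smul c t _ h =>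
    rw [mapSL_smul, map_smul, map_smul, h, MvPolynomial.smul_eq_C_mul, MvPolynomial.smul_eq_C_mul,
      map_mul, MvPolynomial.map_C]

end SemiLinear

end Groth.Agent.Helper7.SymT
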