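import Mathlib
import Groth.Prelude.Def_PP16
import Groth.Agent.Helper7.SymT19
import Groth.Agent.Helper7.SymT5
import Groth.Agent.Helper7.AzuDesc

/-!
# Base change of Kähler differentials and of the canonical map `Sym^n(Ω) → I^n/I^(n+1)`
-/

set_option autoImplicit false
set_option linter.unusedSectionVars false
universe u v w w'

namespace Groth.Agent.Helper7.SymT

open TensorProduct PP16

section DualBC

variable {R R' : Type u} [CommRing R] [CommRing R'] [Algebra R R']
  {M : Type v} [AddCommGroup M] [Module R M] {M' : Type w} [AddCommGroup M'] [Module R' M']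
  [Module R M'] [IsScalarTower R R' M'] {j : M →ₗ[R] M'} (hj : IsBaseChange R' j)
  {Λ : Type w'} (s : M →ₗ[R] Λ →₀ R) (r : (Λ →₀ R) →ₗ[R] M)

/-- base change of the coordinate map of a dual basis -/
noncomputable def sBC : M' →ₗ[R'] Λ →₀ R' :=
  hj.lift ((Finsupp.mapRange.linearMap (Algebra.linearMap R R')) ∘ₗ s)

lemma sBC_apply (m : M) :
    sBC hj s (j m) = Finsupp.mapRange (algebraMap R R') (map_zero _) (s m) := by
  rw [sBC, IsBaseChange.lift_eq]
  rfl

/-- base change of the retraction of a dual basis -/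
noncomputable def rBC (j : M →ₗ[R] M') : (Λ →₀ R') →ₗ[R'] M' :=
  Finsupp.linearCombination R' (fun l => j (r (Finsupp.single l 1)))

lemma rBC_sBC (h : r ∘ₗ s = .id) : rBC r j ∘ₗ sBC hj s = LinearMap.id := by
  apply hj.algHom_ext
  intro m
  rw [LinearMap.comp_apply, sBC_apply, rBC, Finsupp.linearCombination_apply,
    Finsupp.sum_mapRange_index (fun l => by rw [zero_smul]), LinearMap.id_apply]
  have h1 : ∀ (l : Λ) (c : R), algebraMap R R' c • j (r (Finsupp.single l 1)) =
      j (r (Finsupp.single l c)) := by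
    intro l c
    rw [algebraMap_smul, ← map_smul, ← map_smul, Finsupp.smul_single_one]
  simp only [h1]
  rw [← map_finsuppSum, ← map_finsuppSum, Finsupp.sum_single]
  have h2 : r (s m) = m := DFunLike.congr_fun h m
  rw [h2]

end DualBC

section BC

variable (A B A' B' : Type u) [CommRing A] [CommRing B] [Algebra A B]
    [CommRing A'] [CommRing B'] [Algebra A' B'] [Algebra A A'] [Algebra B B'] [Algebra A B']
    [IsScalarTower A A' B'] [IsScalarTower A B B']

/-- the canonical map `Ω_{B/A} → Ω_{B'/A'}` -/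
noncomputable abbrev jK : Ω[B⁄A] →ₗ[B] Ω[B'⁄A'] := KaehlerDifferential.map A A' B B'

lemma tensorMap_mem_pow (n : ℕ) (y : B ⊗[A] B) (hy : y ∈ KaehlerDifferential.ideal A B ^ n) :
    tensorMap A B A' B' y ∈ KaehlerDifferential.ideal A' B' ^ n := by
  have h := Ideal.pow_right_mono (n := n) (ideal_map_tensorMap_le A B A' B')
  rw [← Ideal.map_pow] at h
  exact h (Ideal.mem_map_of_mem _ hy)

lemma tensorMap_mem (y : B ⊗[A] B) (hy : y ∈ KaehlerDifferential.ideal A B) :
    tensorMap A B A' B' y ∈ KaehlerDifferential.ideal A' B' := by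
  have := tensorMap_mem_pow A B A' B' 1 y (by simpa using hy)
  simpa using this

lemma tensorMap_smul (c : B) (y : B ⊗[A] B) :
    tensorMap A B A' B' (c • y) = algebraMap B B' c • tensorMap A B A' B' y := by
  rw [Algebra.smul_def, Algebra.smul_def, map_mul, Algebra.TensorProduct.algebraMap_apply,
    Algebra.TensorProduct.algebraMap_apply, tensorMap_tmul, map_one]
  rfl

lemma jK_piK (x : ↥(KaehlerDifferential.ideal A B)) :
    jK A B A' B' (piK A B x) =
      piK A' B' ⟨tensorMap A B A' B' x, tensorMap_mem A B A' B' _ x.2⟩ := by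
  have hspan := KaehlerDifferential.submodule_span_range_eq_ideal A B
  have key : ∀ y (hy : y ∈ Submodule.span B
      (Set.range fun s : B => (1 : B) ⊗ₜ[A] s - s ⊗ₜ[A] (1 : B))),
      ∀ (h : y ∈ KaehlerDifferential.ideal A B), jK A B A' B' (piK A B ⟨y, h⟩) =
        piK A' B' ⟨tensorMap A B A' B' y, tensorMap_mem A B A' B' _ h⟩ := by
    intro y hy
    induction hy using Submodule.span_induction with
    | mem y hy =>
      obtain ⟨b, rfl⟩ := hy
      intro h
      have h1 : (⟨(1 : B) ⊗ₜ[A] b - b ⊗ₜ[A] (1 : B), h⟩ : ↥(KaehlerDifferential.ideal A B)) =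
        δ A B b := rfl
      have h2 : (⟨tensorMap A B A' B' ((1 : B) ⊗ₜ[A] b - b ⊗ₜ[A] (1 : B)),
          tensorMap_mem A B A' B' _ h⟩ : ↥(KaehlerDifferential.ideal A' B')) =
          δ A' B' (algebraMap B B' b) := by
        apply Subtype.ext
        change tensorMap A B A' B' ((1 : B) ⊗ₜ[A] b - b ⊗ₜ[A] (1 : B)) = _
        rw [map_sub, tensorMap_tmul, tensorMap_tmul, map_one]
        rfl
      rw [h1, h2, piK_δ, piK_δ, jK, KaehlerDifferential.map_D]
    | zero =>
      intro h
      have h1 : (⟨0, h⟩ : ↥(KaehlerDifferential.ideal A B)) = 0 := rfl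
      have h2 : (⟨tensorMap A B A' B' 0, tensorMap_mem A B A' B' _ h⟩ :
          ↥(KaehlerDifferential.ideal A' B')) = 0 := by
        apply Subtype.ext
        change tensorMap A B A' B' 0 = 0
        rw [map_zero]
      rw [h1, h2, map_zero, map_zero, map_zero]
    | add y z hy hz ihy ihz =>
      intro h
      have hyI : y ∈ KaehlerDifferential.ideal A B := by
        have : y ∈ (KaehlerDifferential.ideal A B).restrictScalars B := by rw [← hspan]; exact hy
        exact this
      have hzI : z ∈ KaehlerDifferential.ideal A B := by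
        have : z ∈ (KaehlerDifferential.ideal A B).restrictScalars B := by rw [← hspan]; exact hz
        exact this
      have h1 : (⟨y + z, h⟩ : ↥(KaehlerDifferential.ideal A B)) = ⟨y, hyI⟩ + ⟨z, hzI⟩ := rfl
      have h2 : (⟨tensorMap A B A' B' (y + z), tensorMap_mem A B A' B' _ h⟩ :
          ↥(KaehlerDifferential.ideal A' B')) =
          ⟨tensorMap A B A' B' y, tensorMap_mem A B A' B' _ hyI⟩ +
            ⟨tensorMap A B A' B' z, tensorMap_mem A B A' B' _ hzI⟩ := by
        apply Subtype.ext
        change tensorMap A B A' B' (y + z) = tensorMap A B A' B' y + tensorMap A B A' B' z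
        rw [map_add]
      rw [h1, h2, map_add, map_add, map_add, ihy hyI, ihz hzI]
    | smul c y hy ihy =>
      intro h
      have hyI : y ∈ KaehlerDifferential.ideal A B := by
        have : y ∈ (KaehlerDifferential.ideal A B).restrictScalars B := by rw [← hspan]; exact hy
        exact this
      have h1 : (⟨c • y, h⟩ : ↥(KaehlerDifferential.ideal A B)) = c • ⟨y, hyI⟩ := rfl
      have h2 : (⟨tensorMap A B A' B' (c • y), tensorMap_mem A B A' B' _ h⟩ :
          ↥(KaehlerDifferential.ideal A' B')) =
          algebraMap B B' c • ⟨tensorMap A B A' B' y, tensorMap_mem A B A' B' _ hyI⟩ := by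
        apply Subtype.ext
        change tensorMap A B A' B' (c • y) = algebraMap B B' c • tensorMap A B A' B' y
        exact tensorMap_smul A B A' B' c y
      rw [h1, h2, map_smul, map_smul, map_smul, ihy hyI, algebraMap_smul]
  have hx : (x : B ⊗[A] B) ∈ Submodule.span B
      (Set.range fun s : B => (1 : B) ⊗ₜ[A] s - s ⊗ₜ[A] (1 : B)) := by
    rw [hspan]; exact x.2
  exact key x.1 hx x.2

variable (ι : Type u) [Fintype ι]

lemma nat_symToGrI (t : SymmetricPower B ι Ω[B⁄A]) :
    ∃ y : ↥(KaehlerDifferential.ideal A B ^ Fintype.card ι), symToGrI A B ι t = qK A B ι y ∧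
      symToGrI A' B' ι (mapSL (R' := B') (jK A B A' B') t) =
        qK A' B' ι ⟨tensorMap A B A' B' y, tensorMap_mem_pow A B A' B' _ _ y.2⟩ := by
  have ht : t ∈ Submodule.span B (Set.range (SymmetricPower.tprod B (ι := ι) (M := Ω[B⁄A]))) := by
    rw [SymmetricPower.span_tprod_eq_top]
    exact Submodule.mem_top
  induction ht using Submodule.span_induction with
  | mem t ht =>
    obtain ⟨v, rfl⟩ := ht
    choose x hx using fun i => piK_surjective A B (v i)
    have hv : v = fun i => piK A B (x i) := funext fun i => (hx i).symm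
    refine ⟨prodI (KaehlerDifferential.ideal A B) x, ?_, ?_⟩
    · rw [hv, symToGrI_tprod]
    · rw [hv, mapSL_tprod]
      simp only [jK_piK]
      rw [symToGrI_tprod]
      congr 1
      apply Subtype.ext
      change ∏ i, tensorMap A B A' B' (x i) = tensorMap A B A' B' (∏ i, (x i : B ⊗[A] B))
      rw [map_prod]
  | zero =>
    refine ⟨0, by rw [map_zero, map_zero], ?_⟩
    rw [map_zero, map_zero]
    symm
    apply qK_eq_zero
    change tensorMap A B A' B' 0 ∈ _
    rw [map_zero]
    exact Submodule.zero_mem _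
  | add t t' _ _ h h' =>
    obtain ⟨y, hy1, hy2⟩ := h
    obtain ⟨y', hy1', hy2'⟩ := h'
    refine ⟨y + y', by rw [map_add, map_add, hy1, hy1'], ?_⟩
    rw [map_add, map_add, hy2, hy2', ← map_add]
    congr 1
    apply Subtype.ext
    change tensorMap A B A' B' y + tensorMap A B A' B' y' = tensorMap A B A' B' (y + y' : B ⊗[A] B)
    rw [map_add]
  | smul c t _ h =>
    obtain ⟨y, hy1, hy2⟩ := h
    refine ⟨c • y, by rw [map_smul, map_smul, hy1], ?_⟩
    rw [mapSL_smul, map_smul, hy2, ← map_smul]
    congr 1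
    apply Subtype.ext
    change algebraMap B B' c • tensorMap A B A' B' y = tensorMap A B A' B' (c • (y : B ⊗[A] B))
    rw [tensorMap_smul]

end BC

section Pushout

variable (A B A' B' : Type u) [CommRing A] [CommRing B] [Algebra A B]
    [CommRing A'] [CommRing B'] [Algebra A' B'] [Algebra A A'] [Algebra B B'] [Algebra A B']
    [IsScalarTower A A' B'] [IsScalarTower A B B'] [Algebra.IsPushout A B A' B']

lemma isBaseChange_jK : IsBaseChange B' (jK A B A' B') := by
  haveI : Algebra.IsPushout A A' B B' := Algebra.IsPushout.symm inferInstance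
  apply IsBaseChange.of_equiv (KaehlerDifferential.tensorKaehlerEquiv A A' B B')
  intro ω
  have hω : ω ∈ Submodule.span B (Set.range (KaehlerDifferential.D A B)) := by
    rw [KaehlerDifferential.span_range_derivation]; exact Submodule.mem_top
  induction hω using Submodule.span_induction with
  | mem ω hω =>
    obtain ⟨b, rfl⟩ := hω
    rw [KaehlerDifferential.tensorKaehlerEquiv_tmul_D, one_smul, jK, KaehlerDifferential.map_D]
  | zero => rw [TensorProduct.tmul_zero, map_zero, map_zero]
  | add x y _ _ hx hy => rw [TensorProduct.tmul_add, map_add, map_add, hx, hy]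
  | smul c x _ hx =>
    have h1 : (1 : B') ⊗ₜ[B] (c • x) = algebraMap B B' c • ((1 : B') ⊗ₜ[B] x) := by
      rw [algebraMap_smul, TensorProduct.tmul_smul]
    rw [h1, map_smul, hx, algebraMap_smul, map_smul]

lemma faithfullyFlat_of_pushout [Module.FaithfullyFlat A A'] : Module.FaithfullyFlat B B' := by
  have h : IsBaseChange B (IsScalarTower.toAlgHom A A' B').toLinearMap := Algebra.IsPushout.out
  exact Module.FaithfullyFlat.of_linearEquiv B (B ⊗[A] A') h.equiv.symm

lemma finite_projective_descent [Module.FaithfullyFlat A A'] (hp : Module.Projective B' Ω[B'⁄A'])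
    (hf : Module.Finite B' Ω[B'⁄A']) :
    Module.Finite B Ω[B⁄A] ∧ Module.Projective B Ω[B⁄A] := by
  haveI : Algebra.IsPushout A A' B B' := Algebra.IsPushout.symm inferInstance
  haveI := faithfullyFlat_of_pushout A B A' B'
  let e := KaehlerDifferential.tensorKaehlerEquiv A A' B B'
  haveI : Module.Finite B' (B' ⊗[B] Ω[B⁄A]) := Module.Finite.equiv e.symm
  haveI : Module.Projective B' (B' ⊗[B] Ω[B⁄A]) := Module.Projective.of_equiv e.symm
  have hfin : Module.Finite B Ω[B⁄A] := Module.Finite.of_finite_tensorProduct_of_faithfullyFlat B'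
  have hflat : Module.Flat B Ω[B⁄A] := Module.Flat.of_flat_tensorProduct B _ B'
  haveI : Module.FinitePresentation B' (B' ⊗[B] Ω[B⁄A]) := Module.finitePresentation_of_projective B' _
  have hfp : Module.FinitePresentation B Ω[B⁄A] :=
    AzuDesc.finitePresentation_of_faithfullyFlat B B' _
  exact ⟨hfin, Module.Flat.projective_of_finitePresentation⟩

theorem diffSmooth_descent [Module.FaithfullyFlat A A'] (h : IsDiffSmooth A' B')
    (hfin : Module.Finite B' Ω[B'⁄A']) : IsDiffSmooth A B ∧ Module.Finite B Ω[B⁄A] := by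
  rw [isDiffSmooth_iff] at h ⊢
  obtain ⟨hp', hinj'⟩ := h
  obtain ⟨hf, hp⟩ := finite_projective_descent A B A' B' hp' hfin
  refine ⟨⟨hp, ?_⟩, hf⟩
  intro ι _
  haveI := faithfullyFlat_of_pushout A B A' B'
  obtain ⟨s, hs⟩ := (Module.projective_def' (R := B) (P := Ω[B⁄A])).1 hp
  have hj := isBaseChange_jK A B A' B'
  rw [injective_iff_map_eq_zero]
  intro t ht
  obtain ⟨y, hy1, hy2⟩ := nat_symToGrI A B A' B' ι t
  rw [ht] at hy1
  have hy3 := (qK_eq_zero_iff A B ι y).1 hy1.symm
  have hy4 : symToGrI A' B' ι (mapSL (R' := B') (jK A B A' B') t) = 0 := by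
    rw [hy2]
    apply qK_eq_zero
    exact tensorMap_mem_pow A B A' B' _ _ hy3
  have hy5 : mapSL (R' := B') (jK A B A' B') t = 0 := by
    apply hinj' ι
    rw [hy4, map_zero]
  have hy6 := ΘL_mapSL (ι := ι) s (sBC hj s) (jK A B A' B') (sBC_apply hj s) t
  rw [hy5, map_zero] at hy6
  have hinjB : Function.Injective (algebraMap B B') := FaithfulSMul.algebraMap_injective B B'
  have hy7 : ΘL (ι := ι) s t = 0 := by
    apply MvPolynomial.map_injective _ hinjB
    rw [← hy6, map_zero]
  apply ΘL_injective s _ hs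
  rw [hy7, map_zero]

end Pushout

end Groth.Agent.Helper7.SymT
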