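import Mathlib
import Groth.Prelude.Def_PP16
import Groth.Agent.Helper7.SymT20
import Groth.Agent.Helper7.SymT10

/-!
# Differential smoothness: `B`-linear retractions onto the powers of the diagonal ideal
-/

set_option autoImplicit false
set_option linter.unusedSectionVars false
universe u v w w'

namespace Groth.Agent.Helper7.SymT

open TensorProduct PP16

section Retraction

variable (A B : Type u) [CommRing A] [CommRing B] [Algebra A B]
  (hp : Module.Projective B Ω[B⁄A])
  (hinj : ∀ (ι : Type u) [Fintype ι], Function.Injective (symToGrI A B ι))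

include hp hinj in
/-- a `B`-linear section of `I^n → I^n/I^(n+1)` -/
lemma exists_section (ι : Type u) [Fintype ι] :
    ∃ σ : grI A B (Fintype.card ι) →ₗ[B] ↥(KaehlerDifferential.ideal A B ^ Fintype.card ι),
      qK A B ι ∘ₗ σ = LinearMap.id := by
  haveI := hp
  let e : SymmetricPower B ι Ω[B⁄A] ≃ₗ[B] grI A B (Fintype.card ι) :=
    LinearEquiv.ofBijective (symToGrI A B ι) ⟨hinj ι, symToGrI_surjective A B ι⟩
  haveI : Module.Projective B (SymmetricPower B ι Ω[B⁄A]) := projective_sym
  haveI : Module.Projective B (grI A B (Fintype.card ι)) := Module.Projective.of_equiv e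
  exact Module.projective_lifting_property (qK A B ι) LinearMap.id (qK_surjective A B ι)

include hp hinj in
/-- a `B`-linear retraction of `B ⊗_A B` onto `I^k` -/
lemma exists_retraction (k : ℕ) :
    ∃ π : (B ⊗[A] B) →ₗ[B] (B ⊗[A] B), (∀ x, π x ∈ KaehlerDifferential.ideal A B ^ k) ∧
      (∀ x ∈ KaehlerDifferential.ideal A B ^ k, π x = x) := by
  induction k with
  | zero =>
    refine ⟨LinearMap.id, fun x => ?_, fun x _ => rfl⟩
    rw [pow_zero, Ideal.one_eq_top]
    exact Submodule.mem_top
  | succ k ih =>
    obtain ⟨π, h1, h2⟩ := ih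
    have hc := card_ulift_fin.{u} k
    obtain ⟨σ, hσ⟩ := exists_section A B hp hinj (ULift.{u} (Fin k))
    let πk : (B ⊗[A] B) →ₗ[B]
        ↥(KaehlerDifferential.ideal A B ^ Fintype.card (ULift.{u} (Fin k))) :=
      { toFun := fun x => ⟨π x, by rw [hc]; exact h1 x⟩
        map_add' := fun x y => by
          apply Subtype.ext
          change π (x + y) = π x + π y
          rw [map_add]
        map_smul' := fun c x => by
          apply Subtype.ext
          change π (c • x) = c • π x
          rw [map_smul] }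
    let incl : ↥(KaehlerDifferential.ideal A B ^ Fintype.card (ULift.{u} (Fin k))) →ₗ[B] (B ⊗[A] B) :=
      { toFun := fun x => x.1
        map_add' := fun x y => rfl
        map_smul' := fun c x => rfl }
    refine ⟨π - incl ∘ₗ σ ∘ₗ qK A B (ULift.{u} (Fin k)) ∘ₗ πk, fun x => ?_, fun x hx => ?_⟩
    · have h3 : qK A B (ULift.{u} (Fin k)) (πk x - σ (qK A B (ULift.{u} (Fin k)) (πk x))) = 0 := by
        rw [map_sub, sub_eq_zero]
        exact (DFunLike.congr_fun hσ (qK A B (ULift.{u} (Fin k)) (πk x))).symm
      have h4 := (qK_eq_zero_iff A B _ _).1 h3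
      have h5 : ∀ z : B ⊗[A] B, z ∈ KaehlerDifferential.ideal A B ^
          (Fintype.card (ULift.{u} (Fin k)) + 1) → z ∈ KaehlerDifferential.ideal A B ^ (k + 1) := by
        rw [hc]
        exact fun z hz => hz
      exact h5 _ h4
    · have hx' : x ∈ KaehlerDifferential.ideal A B ^ k := Ideal.pow_le_pow_right (Nat.le_succ k) hx
      have h3 : qK A B (ULift.{u} (Fin k)) (πk x) = 0 := by
        apply qK_eq_zero
        change π x ∈ _
        rw [h2 x hx', hc]
        exact hx
      rw [LinearMap.sub_apply, LinearMap.comp_apply, LinearMap.comp_apply, LinearMap.comp_apply, h3,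
        map_zero, map_zero, sub_zero, h2 x hx']

variable {Λ : Type u} (s : Ω[B⁄A] →ₗ[B] Λ →₀ B)

include hp hinj in
/-- the `B`-linear map `B ⊗_A B → B[X_λ]` reading off the degree-`n` part -/
lemma exists_Lam (ι : Type u) [Fintype ι] :
    ∃ L : (B ⊗[A] B) →ₗ[B] MvPolynomial Λ B,
      (∀ x ∈ KaehlerDifferential.ideal A B ^ (Fintype.card ι + 1), L x = 0) ∧
      (∀ (t : SymmetricPower B ι Ω[B⁄A])
        (y : ↥(KaehlerDifferential.ideal A B ^ Fintype.card ι)),
        symToGrI A B ι t = qK A B ι y → L y = ΘL (ι := ι) s t) := by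
  obtain ⟨π, h1, h2⟩ := exists_retraction A B hp hinj (Fintype.card ι)
  let e : SymmetricPower B ι Ω[B⁄A] ≃ₗ[B] grI A B (Fintype.card ι) :=
    LinearEquiv.ofBijective (symToGrI A B ι) ⟨hinj ι, symToGrI_surjective A B ι⟩
  let πk : (B ⊗[A] B) →ₗ[B] ↥(KaehlerDifferential.ideal A B ^ Fintype.card ι) :=
    { toFun := fun x => ⟨π x, h1 x⟩
      map_add' := fun x y => by
        apply Subtype.ext
        change π (x + y) = π x + π y
        rw [map_add]
      map_smul' := fun c x => by
        apply Subtype.ext
        change π (c • x) = c • π x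
        rw [map_smul] }
  refine ⟨ΘL (ι := ι) s ∘ₗ e.symm.toLinearMap ∘ₗ qK A B ι ∘ₗ πk, fun x hx => ?_, fun t y hy => ?_⟩
  · have hx' : x ∈ KaehlerDifferential.ideal A B ^ Fintype.card ι :=
      Ideal.pow_le_pow_right (Nat.le_succ _) hx
    have h3 : qK A B ι (πk x) = 0 := by
      apply qK_eq_zero
      change π x ∈ _
      rw [h2 x hx']
      exact hx
    rw [LinearMap.comp_apply, LinearMap.comp_apply, LinearMap.comp_apply, h3, map_zero, map_zero]
  · have h3 : πk y = y := by
      apply Subtype.ext
      exact h2 y.1 y.2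
    rw [LinearMap.comp_apply, LinearMap.comp_apply, LinearMap.comp_apply, h3, ← hy]
    congr 1
    exact e.symm_apply_apply t

end Retraction

end Groth.Agent.Helper7.SymT
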