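import Mathlib
import Groth.Prelude.Def_PP16
import Groth.Agent.Helper7.SymT21
import Groth.Agent.Helper1.PPBaseChange

/-!
# Differential smoothness is stable under base change
-/

set_option autoImplicit false
set_option linter.unusedSectionVars false
universe u v w w'

namespace Groth.Agent.Helper7.SymT

open TensorProduct PP16

section BaseChange

variable (A B A' B' : Type u) [CommRing A] [CommRing B] [Algebra A B]
    [CommRing A'] [CommRing B'] [Algebra A' B'] [Algebra A A'] [Algebra B B'] [Algebra A B']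
    [IsScalarTower A A' B'] [IsScalarTower A B B'] [Algebra.IsPushout A B A' B']

/-- `B' ⊗_{A'} B'` is spanned over `B'` (left factor) by the image of `B ⊗_A B` -/
lemma span_range_tensorMap :
    Submodule.span B' (Set.range (tensorMap A B A' B')) = ⊤ := by
  haveI : Algebra.IsPushout A A' B B' := Algebra.IsPushout.symm inferInstance
  have hbc : IsBaseChange A' (IsScalarTower.toAlgHom A B B').toLinearMap := Algebra.IsPushout.out
  rw [eq_top_iff]
  rintro x -
  induction x using TensorProduct.induction_on with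
  | zero => exact zero_mem _
  | add x y hx hy => exact add_mem hx hy
  | tmul b' c' =>
    revert b'
    refine hbc.inductionOn c' (fun c' => ∀ b' : B', b' ⊗ₜ[A'] c' ∈
      Submodule.span B' (Set.range (tensorMap A B A' B'))) ?_ ?_ ?_ ?_
    · intro b'
      rw [TensorProduct.tmul_zero]
      exact zero_mem _
    · intro c b'
      have h1 : b' ⊗ₜ[A'] ((IsScalarTower.toAlgHom A B B').toLinearMap c) =
          b' • tensorMap A B A' B' ((1 : B) ⊗ₜ[A] c) := by
        rw [tensorMap_tmul, map_one, TensorProduct.smul_tmul', smul_eq_mul, mul_one]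
        rfl
      rw [h1]
      exact Submodule.smul_mem _ _ (Submodule.subset_span ⟨_, rfl⟩)
    · intro a' c' ih b'
      rw [← TensorProduct.smul_tmul]
      exact ih _
    · intro c1 c2 h1 h2 b'
      rw [TensorProduct.tmul_add]
      exact add_mem (h1 b') (h2 b')

/-- the diagonal ideal of the base change is generated by the image of the diagonal ideal -/
lemma ideal_map_tensorMap_eq :
    (KaehlerDifferential.ideal A B).map (tensorMap A B A' B') = KaehlerDifferential.ideal A' B' := by
  apply le_antisymm (ideal_map_tensorMap_le A B A' B')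
  rw [← KaehlerDifferential.span_range_eq_ideal A' B', Ideal.span_le]
  rintro _ ⟨b', rfl⟩
  refine Groth.Agent.Helper1.PPBaseChange.pushout_induction A B A' B'
    (fun b' => ((1 : B') ⊗ₜ[A'] b' - b' ⊗ₜ[A'] (1 : B') : B' ⊗[A'] B') ∈
      (KaehlerDifferential.ideal A B).map (tensorMap A B A' B')) ?_ ?_ ?_ ?_ b'
  · rw [TensorProduct.tmul_zero, TensorProduct.zero_tmul, sub_zero]
    exact zero_mem _
  · intro a'
    rw [Algebra.algebraMap_eq_smul_one, TensorProduct.tmul_smul, TensorProduct.smul_tmul', sub_self]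
    exact zero_mem _
  · intro b x hx
    have h1 : ((1 : B') ⊗ₜ[A'] (algebraMap B B' b * x) - (algebraMap B B' b * x) ⊗ₜ[A'] (1 : B') :
        B' ⊗[A'] B') = ((1 : B') ⊗ₜ[A'] algebraMap B B' b) * ((1 : B') ⊗ₜ[A'] x - x ⊗ₜ[A'] (1 : B')) +
          tensorMap A B A' B' ((1 : B) ⊗ₜ[A] b - b ⊗ₜ[A] (1 : B)) * (x ⊗ₜ[A'] (1 : B')) := by
      rw [map_sub, tensorMap_tmul, tensorMap_tmul, map_one, mul_sub, sub_mul]
      simp only [Algebra.TensorProduct.tmul_mul_tmul, one_mul, mul_one]
      abel
    rw [h1]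
    refine add_mem (Ideal.mul_mem_left _ _ hx) (Ideal.mul_mem_right _ _ ?_)
    exact Ideal.mem_map_of_mem _ (KaehlerDifferential.one_smul_sub_smul_one_mem_ideal A b)
  · intro x y hx hy
    have h1 : ((1 : B') ⊗ₜ[A'] (x + y) - (x + y) ⊗ₜ[A'] (1 : B') : B' ⊗[A'] B') =
        ((1 : B') ⊗ₜ[A'] x - x ⊗ₜ[A'] (1 : B')) + ((1 : B') ⊗ₜ[A'] y - y ⊗ₜ[A'] (1 : B')) := by
      rw [TensorProduct.tmul_add, TensorProduct.add_tmul]
      abel
    rw [h1]
    exact add_mem hx hy

variable {Λ : Type u}

/-- base change of a `B`-linear map `B ⊗_A B → B[X_λ]` -/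
lemma exists_bc (L : (B ⊗[A] B) →ₗ[B] MvPolynomial Λ B) :
    ∃ L' : (B' ⊗[A'] B') →ₗ[B'] MvPolynomial Λ B',
      ∀ x, L' (tensorMap A B A' B' x) = MvPolynomial.map (algebraMap B B') (L x) := by
  haveI : Algebra.IsPushout A A' B B' := Algebra.IsPushout.symm inferInstance
  have hbc : IsBaseChange A' (IsScalarTower.toAlgHom A B B').toLinearMap := Algebra.IsPushout.out
  let m : MvPolynomial Λ B →ₗ[A] MvPolynomial Λ B' :=
    (MvPolynomial.mapAlgHom (IsScalarTower.toAlgHom A B B')).toLinearMap
  let g0 : B →ₗ[A] MvPolynomial Λ B' :=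
    m ∘ₗ (L.restrictScalars A) ∘ₗ
      (Algebra.TensorProduct.includeRight : B →ₐ[A] B ⊗[A] B).toLinearMap
  let g : B' →ₗ[A'] MvPolynomial Λ B' := hbc.lift g0
  refine ⟨LinearMap.liftBaseChange B' g, ?_⟩
  intro x
  induction x using TensorProduct.induction_on with
  | zero => rw [map_zero, map_zero, map_zero, map_zero]
  | add x y hx hy => rw [map_add, map_add, hx, hy, map_add, map_add]
  | tmul b c =>
    rw [tensorMap_tmul, LinearMap.liftBaseChange_tmul]
    have h1 : g (algebraMap B B' c) = g0 c := hbc.lift_eq g0 c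
    rw [h1]
    change algebraMap B B' b • MvPolynomial.map (algebraMap B B') (L ((1 : B) ⊗ₜ[A] c)) = _
    have h2 : b ⊗ₜ[A] c = b • ((1 : B) ⊗ₜ[A] c) := by
      rw [TensorProduct.smul_tmul', smul_eq_mul, mul_one]
    rw [h2, map_smul, MvPolynomial.smul_eq_C_mul, MvPolynomial.smul_eq_C_mul, map_mul,
      MvPolynomial.map_C]

lemma bc_kills (n : ℕ) (L : (B ⊗[A] B) →ₗ[B] MvPolynomial Λ B)
    (L' : (B' ⊗[A'] B') →ₗ[B'] MvPolynomial Λ B')
    (hLL' : ∀ x, L' (tensorMap A B A' B' x) = MvPolynomial.map (algebraMap B B') (L x))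
    (hL : ∀ x ∈ KaehlerDifferential.ideal A B ^ n, L x = 0) :
    ∀ x' ∈ KaehlerDifferential.ideal A' B' ^ n, L' x' = 0 := by
  intro x' hx'
  rw [← ideal_map_tensorMap_eq A B A' B', ← Ideal.map_pow, Ideal.map] at hx'
  have key : ∀ e' : B' ⊗[A'] B', L' (e' * x') = 0 := by
    induction hx' using Submodule.span_induction with
    | mem x' h =>
      obtain ⟨x, hx, rfl⟩ := h
      intro e'
      have he' : e' ∈ Submodule.span B' (Set.range (tensorMap A B A' B')) := by
        rw [span_range_tensorMap]; exact Submodule.mem_top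
      induction he' using Submodule.span_induction with
      | mem e' he' =>
        obtain ⟨e, rfl⟩ := he'
        rw [← map_mul, hLL', hL _ (Ideal.mul_mem_left _ e hx), map_zero]
      | zero => rw [zero_mul, map_zero]
      | add e1 e2 _ _ h1 h2 => rw [add_mul, map_add, h1, h2, add_zero]
      | smul c e1 _ h1 => rw [smul_mul_assoc, map_smul, h1, smul_zero]
    | zero => intro e'; rw [mul_zero, map_zero]
    | add y z _ _ hy hz => intro e'; rw [mul_add, map_add, hy, hz, add_zero]
    | smul e'' y _ hy =>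
      intro e'
      rw [smul_eq_mul, ← mul_assoc]
      exact hy _
  have := key 1
  rwa [one_mul] at this

variable (ι : Type u) [Fintype ι]

lemma span_range_mapSL :
    Submodule.span B' (Set.range (mapSL (R' := B') (ι := ι) (jK A B A' B'))) = ⊤ := by
  have hj := isBaseChange_jK A B A' B'
  have hT : Submodule.span B' (Set.range (jK A B A' B')) = ⊤ := by
    rw [eq_top_iff]
    rintro ω' -
    refine hj.inductionOn ω' (fun ω' => ω' ∈ Submodule.span B' (Set.range (jK A B A' B')))
      (zero_mem _) (fun ω => Submodule.subset_span ⟨ω, rfl⟩)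
      (fun c ω' h => Submodule.smul_mem _ c h) (fun x y hx hy => add_mem hx hy)
  set S := Submodule.span B' (Set.range (mapSL (R' := B') (ι := ι) (jK A B A' B'))) with hS
  have h0 : S.mkQ = 0 := by
    apply hom_ext_of_span hT
    intro v' hv'
    choose v hv using hv'
    have : v' = fun i => jK A B A' B' (v i) := funext fun i => (hv i).symm
    rw [this, ← mapSL_tprod, LinearMap.zero_apply, Submodule.mkQ_apply, Submodule.Quotient.mk_eq_zero]
    exact Submodule.subset_span ⟨_, rfl⟩
  rw [← Submodule.ker_mkQ S, h0, LinearMap.ker_zero]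

theorem diffSmooth_baseChange (h : IsDiffSmooth A B) : IsDiffSmooth A' B' := by
  rw [isDiffSmooth_iff] at h ⊢
  obtain ⟨hp, hinj⟩ := h
  have hj := isBaseChange_jK A B A' B'
  refine ⟨?_, ?_⟩
  · haveI : Algebra.IsPushout A A' B B' := Algebra.IsPushout.symm inferInstance
    haveI := hp
    exact Module.Projective.of_equiv (KaehlerDifferential.tensorKaehlerEquiv A A' B B')
  · intro ι _
    obtain ⟨s, hs⟩ := (Module.projective_def' (R := B) (P := Ω[B⁄A])).1 hp
    obtain ⟨L, hL1, hL2⟩ := exists_Lam A B hp hinj s ι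
    obtain ⟨L', hL'⟩ := exists_bc A B A' B' L
    have hkill := bc_kills A B A' B' (Fintype.card ι + 1) L L' hL' hL1
    have key : ∀ t' : SymmetricPower B' ι Ω[B'⁄A'],
        ∃ y' : ↥(KaehlerDifferential.ideal A' B' ^ Fintype.card ι),
          symToGrI A' B' ι t' = qK A' B' ι y' ∧ L' y' = ΘL (ι := ι) (sBC hj s) t' := by
      intro t'
      have ht' : t' ∈ Submodule.span B'
          (Set.range (mapSL (R' := B') (ι := ι) (jK A B A' B'))) := by
        rw [span_range_mapSL]; exact Submodule.mem_top
      induction ht' using Submodule.span_induction with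
      | mem t' ht' =>
        obtain ⟨t, rfl⟩ := ht'
        obtain ⟨y, hy1, hy2⟩ := nat_symToGrI A B A' B' ι t
        refine ⟨⟨tensorMap A B A' B' y, tensorMap_mem_pow A B A' B' _ _ y.2⟩, hy2, ?_⟩
        change L' (tensorMap A B A' B' y) = _
        rw [hL', hL2 t y hy1, ΘL_mapSL (ι := ι) s (sBC hj s) (jK A B A' B') (sBC_apply hj s) t]
      | zero => exact ⟨0, by rw [map_zero, map_zero], by
          change L' 0 = _
          rw [map_zero, map_zero]⟩
      | add t1 t2 _ _ h1 h2 =>
        obtain ⟨y1, h11, h12⟩ := h1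
        obtain ⟨y2, h21, h22⟩ := h2
        refine ⟨y1 + y2, by rw [map_add, map_add, h11, h21], ?_⟩
        change L' ((y1 : B' ⊗[A'] B') + y2) = _
        rw [map_add, map_add, h12, h22]
      | smul c t1 _ h1 =>
        obtain ⟨y1, h11, h12⟩ := h1
        refine ⟨c • y1, by rw [map_smul, map_smul, h11], ?_⟩
        change L' (c • (y1 : B' ⊗[A'] B')) = _
        rw [map_smul, map_smul, h12]
    rw [injective_iff_map_eq_zero]
    intro t' ht'
    obtain ⟨y', hy1, hy2⟩ := key t'
    rw [ht'] at hy1
    have hy3 := (qK_eq_zero_iff A' B' ι y').1 hy1.symm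
    have h0 : ΘL (ι := ι) (sBC hj s) t' = 0 := by
      rw [← hy2]
      exact hkill _ hy3
    apply ΘL_injective (sBC hj s) (rBC (Finsupp.linearCombination B id) (jK A B A' B'))
      (rBC_sBC hj s _ hs)
    rw [h0, map_zero]

end BaseChange

end Groth.Agent.Helper7.SymT
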