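import Mathlib
import Groth.Prelude.Def_PP16
import Groth.Agent.Helper7.SymT22

/-!
# Quasi-regular ideals: the canonical map `Sym^n(J/J²) → J^n/J^(n+1)` and basic tools
-/

set_option autoImplicit false
set_option linter.unusedSectionVars false
universe u v w

namespace Groth.Agent.Helper7.QLoc

open PP16 SymT

section Setup

variable (R : Type u) [CommRing R] (J : Ideal R)

/-- the quotient map `J → J/J²` -/
noncomputable def piJ : ↥J →ₗ[R] J.Cotangent := J.toCotangent

lemma piJ_surjective : Function.Surjective (piJ R J) := J.toCotangent_surjective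

lemma piJ_ker (x : ↥J) (hx : piJ R J x = 0) : (x : R) ∈ J ^ 2 := (J.toCotangent_eq_zero x).1 hx

variable (ι : Type u) [Fintype ι]

/-- the quotient map `J^n → J^n/J^(n+1)` -/
noncomputable def qJ : ↥(J ^ Fintype.card ι) →ₗ[R] grJ R J (Fintype.card ι) := Submodule.mkQ _

lemma qJ_surjective : Function.Surjective (qJ R J ι) := Submodule.mkQ_surjective _

lemma qJ_eq_zero_iff (x : ↥(J ^ Fintype.card ι)) :
    qJ R J ι x = 0 ↔ (x : R) ∈ J ^ (Fintype.card ι + 1) := by
  rw [qJ, Submodule.mkQ_apply, Submodule.Quotient.mk_eq_zero]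
  rfl

/-- the canonical map `Sym^n(J/J²) → J^n/J^(n+1)` -/
noncomputable def symToGrJ : SymmetricPower R ι J.Cotangent →ₗ[R] grJ R J (Fintype.card ι) :=
  symToGr J (piJ R J) (piJ_surjective R J) (piJ_ker R J) (qJ R J ι)
    (fun x hx => (qJ_eq_zero_iff R J ι x).2 hx)

lemma symToGrJ_tprod' (x : ι → ↥J) :
    symToGrJ R J ι (SymmetricPower.tprod R (fun i => J.toCotangent (x i))) = qJ R J ι (prodI J x) :=
  symToGr_tprod _ _ _ _ _ _ x

lemma symToGrJ_tprod (x : ι → ↥J) :
    symToGrJ R J ι (SymmetricPower.tprod R (fun i => J.toCotangent (x i))) = zetaJ R J x :=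
  symToGrJ_tprod' R J ι x

lemma symToGrJ_surjective [Nonempty ι] : Function.Surjective (symToGrJ R J ι) :=
  symToGr_surjective _ _ _ _ _ _ (qJ_surjective R J ι)

lemma symToGrJ_unique (φ : SymmetricPower R ι J.Cotangent →ₗ[R] grJ R J (Fintype.card ι))
    (hφ : ∀ x : ι → ↥J, φ (SymmetricPower.tprod R (fun i => J.toCotangent (x i))) = zetaJ R J x) :
    φ = symToGrJ R J ι :=
  symToGr_unique _ _ _ _ _ _ φ hφ

end Setup

section Iff

variable (R : Type u) [CommRing R] (J : Ideal R)

theorem symGrBijective_iff :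
    SymGrBijective R J ↔
      ∀ (ι : Type u) [Fintype ι] [Nonempty ι], Function.Injective (symToGrJ R J ι) := by
  constructor
  · intro h ι _ _
    obtain ⟨φ, hφ, hbij⟩ := h ι
    rw [← symToGrJ_unique R J ι φ hφ]
    exact hbij.1
  · intro h ι _ _
    exact ⟨symToGrJ R J ι, symToGrJ_tprod R J ι, h ι, symToGrJ_surjective R J ι⟩

end Iff

section Kill

variable {R ι : Type u} [CommRing R] [Fintype ι] [Nonempty ι] {M : Type v} [AddCommGroup M]
  [Module R M]

/-- an element killing `M` kills the symmetric powers of positive degree -/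
lemma smul_sym_eq_zero (a : R) (ha : ∀ m : M, a • m = 0) (t : SymmetricPower R ι M) : a • t = 0 := by
  classical
  have ht : t ∈ Submodule.span R (Set.range (SymmetricPower.tprod R (ι := ι) (M := M))) := by
    rw [SymmetricPower.span_tprod_eq_top]
    exact Submodule.mem_top
  induction ht using Submodule.span_induction with
  | mem t ht =>
    obtain ⟨v, rfl⟩ := ht
    obtain ⟨i0⟩ := ‹Nonempty ι›
    have h1 : v = Function.update v i0 (v i0) := (Function.update_eq_self i0 v).symm
    rw [h1, ← MultilinearMap.map_update_smul, ha, MultilinearMap.map_update_zero]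
  | zero => rw [smul_zero]
  | add t t' _ _ h h' => rw [smul_add, h, h', add_zero]
  | smul c t _ h => rw [smul_comm, h, smul_zero]

lemma smul_cotangent_eq_zero (J : Ideal R) (a : R) (ha : a ∈ J) (m : J.Cotangent) : a • m = 0 := by
  obtain ⟨y, rfl⟩ := J.toCotangent_surjective m
  rw [← map_smul, Ideal.toCotangent_eq_zero]
  change a * (y : R) ∈ J ^ 2
  rw [pow_two]
  exact Ideal.mul_mem_mul ha y.2

lemma smul_symCotangent_eq_zero (J : Ideal R) (a : R) (ha : a ∈ J)
    (t : SymmetricPower R ι J.Cotangent) : a • t = 0 :=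
  smul_sym_eq_zero a (smul_cotangent_eq_zero J a ha) t

end Kill

section Fam

variable {R ι : Type u} [CommRing R] [Fintype ι] {Λ : Type w} {M : Type v} [AddCommGroup M]
  [Module R M] (ω : Λ → M)

lemma tprod_fam_eq_of_cnt_eq {f g : ι → Λ} (h : cnt f = cnt g) :
    SymmetricPower.tprod R (fun i => ω (f i)) = SymmetricPower.tprod R (fun i => ω (g i)) := by
  obtain ⟨σ, hσ⟩ := exists_perm_of_cnt_eq h
  have := SymmetricPower.tprod_equiv (R := R) σ (fun i => ω (g i))
  rw [← this]
  congr 1
  funext i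
  rw [hσ]

open scoped Classical in
/-- the map `R[X_λ] → Sym^n(M)` sending a monomial of degree `n` to the corresponding product -/
noncomputable def Ψf : MvPolynomial Λ R →ₗ[R] SymmetricPower R ι M :=
  (MvPolynomial.basisMonomials Λ R).constr R (fun q =>
    if h : ∃ f : ι → Λ, cnt f = q then SymmetricPower.tprod R (fun i => ω (h.choose i)) else 0)

lemma Ψf_monomial (f : ι → Λ) :
    Ψf (ι := ι) ω (MvPolynomial.monomial (cnt f) 1) = SymmetricPower.tprod R (fun i => ω (f i)) := by
  have h1 : (MvPolynomial.monomial (cnt f) (1 : R)) = MvPolynomial.basisMonomials Λ R (cnt f) := by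
    rw [MvPolynomial.coe_basisMonomials]
  rw [h1, Ψf, Module.Basis.constr_basis]
  have hex : ∃ f' : ι → Λ, cnt f' = cnt f := ⟨f, rfl⟩
  rw [dif_pos hex]
  exact tprod_fam_eq_of_cnt_eq ω hex.choose_spec

lemma prod_X_eq_monomial (f : ι → Λ) :
    ∏ j, (MvPolynomial.X (f j) : MvPolynomial Λ R) = MvPolynomial.monomial (cnt f) 1 := by
  rw [cnt, MvPolynomial.monomial_sum_one]
  apply Finset.prod_congr rfl
  intro i _
  rfl

lemma Ψf_prod_X (f : ι → Λ) :
    Ψf (ι := ι) ω (∏ j, (MvPolynomial.X (f j) : MvPolynomial Λ R)) =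
      SymmetricPower.tprod R (fun i => ω (f i)) := by
  rw [prod_X_eq_monomial, Ψf_monomial]

/-- the linear map `Sym^n(M) → Q` induced by a linear map `ℓ : M → Q` to a commutative algebra:
`m_1 ⋯ m_n ↦ ℓ(m_1) ⋯ ℓ(m_n)` -/
noncomputable def prodLift {Q : Type w} [CommRing Q] [Algebra R Q] (ℓ : M →ₗ[R] Q) :
    SymmetricPower R ι M →ₗ[R] Q :=
  lift ((MultilinearMap.mkPiAlgebra R ι Q).compLinearMap (fun _ => ℓ)) (by
    intro e v
    simp only [MultilinearMap.compLinearMap_apply, MultilinearMap.mkPiAlgebra_apply]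
    exact Equiv.prod_comp e (fun i => ℓ (v i)))

lemma prodLift_tprod {Q : Type w} [CommRing Q] [Algebra R Q] (ℓ : M →ₗ[R] Q) (v : ι → M) :
    prodLift (ι := ι) ℓ (SymmetricPower.tprod R v) = ∏ i, ℓ (v i) := by
  rw [prodLift, lift_tprod]
  simp only [MultilinearMap.compLinearMap_apply, MultilinearMap.mkPiAlgebra_apply]

end Fam

end Groth.Agent.Helper7.QLoc
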