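import Mathlib
import Groth.Prelude.Def_PP16
import Groth.Agent.Helper7.QLoc1
import Groth.Agent.Helper2.AdicFS

/-!
# Adic formal smoothness: basic tools (nilpotent lifting, symmetric powers over a quotient ring)
-/

set_option autoImplicit false
set_option linter.unusedSectionVars false
universe u v w

namespace Groth.Agent.Helper7.AdSm

open PP16 SymT QLoc

section Lift

/-- adic formal smoothness lifts along surjections with nilpotent kernel -/
theorem lift_nilpotent {A B : Type u} [CommRing A] [CommRing B] [Algebra A B] (𝔫 : Ideal B)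
    (h : CAlgX.IsAdicFormallySmooth A B 𝔫) {E F : Type u} [CommRing E] [CommRing F] [Algebra A E]
    [Algebra A F] (π : E →ₐ[A] F) (hπ : Function.Surjective π)
    (hnil : IsNilpotent (RingHom.ker (π : E →+* F)))
    (g : B →ₐ[A] F) (hg : ∃ k : ℕ, ∀ x ∈ 𝔫 ^ k, g x = 0) : ∃ v : B →ₐ[A] E, π.comp v = g := by
  have h' : EGA41.IsFormallySmoothAdic A ⊥ B 𝔫 := by
    apply Groth.Agent.Helper2.AdicFS.isFormallySmoothAdic_of_sqzero
    intro C _ _ J hJ _ u hu
    exact h C J hJ u hu
  let e := Ideal.quotientKerAlgEquivOfSurjective hπ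
  obtain ⟨v, hv⟩ := h' E (RingHom.ker (π : E →+* F)) hnil ⟨1, by rw [pow_one, Ideal.map_bot]⟩
    (e.symm.toAlgHom.comp g) (by
      obtain ⟨k, hk⟩ := hg
      refine ⟨k, fun x hx => ?_⟩
      change e.symm (g x) = 0
      rw [hk x hx, map_zero])
  refine ⟨v, ?_⟩
  ext b
  have h1 := congrArg (fun φ => e (φ b)) hv
  have h2 : e (e.symm.toAlgHom (g b)) = g b := e.apply_symm_apply (g b)
  exact h1.trans h2

end Lift

section Quot

variable {R R' ι : Type u} [CommRing R] [CommRing R'] [Algebra R R']
  (hR : Function.Surjective (algebraMap R R')) [Fintype ι]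
  {M : Type v} [AddCommGroup M] [Module R M] [Module R' M] [IsScalarTower R R' M]

/-- the comparison `Sym_R^n(M) → Sym_{R'}^n(M)` for an `R'`-module `M`, `R → R'` surjective -/
noncomputable def toQ : SymmetricPower R ι M →+ SymmetricPower R' ι M :=
  mapSL (R' := R') (LinearMap.id : M →ₗ[R] M)

lemma toQ_tprod (v : ι → M) :
    toQ (R' := R') (SymmetricPower.tprod R v) = SymmetricPower.tprod R' v :=
  mapSL_tprod _ v

lemma toQ_smul (c : R) (t : SymmetricPower R ι M) :
    toQ (R' := R') (ι := ι) (M := M) (c • t) = algebraMap R R' c • toQ (R' := R') t :=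
  mapSL_smul _ c t

variable [Nonempty ι]

omit [Nonempty ι] in
lemma smul_eq_of_algebraMap_eq (c c' : R) (h : algebraMap R R' c = algebraMap R R' c') (m : M) :
    c • m = c' • m := by
  rw [← algebraMap_smul R' c m, ← algebraMap_smul R' c' m, h]

lemma smul_sym_eq_of_algebraMap_eq (c c' : R) (h : algebraMap R R' c = algebraMap R R' c')
    (t : SymmetricPower R ι M) : c • t = c' • t := by
  have h1 : (c - c') • t = 0 := by
    refine smul_sym_eq_zero (c - c') (fun m => ?_) t
    rw [sub_smul, smul_eq_of_algebraMap_eq (R' := R') c c' h m, sub_self]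
  rw [sub_smul, sub_eq_zero] at h1
  exact h1

include hR in
/-- the `R'`-module structure on `Sym_R^n(M)` -/
@[instance_reducible]
noncomputable def modQ : Module R' (SymmetricPower R ι M) :=
  letI : SMul R' (SymmetricPower R ι M) := ⟨fun c t => (Function.surjInv hR c) • t⟩
  Function.Surjective.moduleLeft (algebraMap R R') hR (fun c t => by
    change (Function.surjInv hR (algebraMap R R' c)) • t = c • t
    exact smul_sym_eq_of_algebraMap_eq (R' := R') _ _ (Function.surjInv_eq hR _) t)

lemma modQ_smul (c : R) (t : SymmetricPower R ι M) :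
    letI := modQ (ι := ι) (M := M) hR
    algebraMap R R' c • t = c • t := by
  letI := modQ (ι := ι) (M := M) hR
  change (Function.surjInv hR (algebraMap R R' c)) • t = c • t
  exact smul_sym_eq_of_algebraMap_eq (R' := R') _ _ (Function.surjInv_eq hR _) t

/-- the symmetric product as an `R'`-multilinear map -/
noncomputable def tprodQ :
    letI := modQ (ι := ι) (M := M) hR
    MultilinearMap R' (fun _ : ι => M) (SymmetricPower R ι M) :=
  letI := modQ (ι := ι) (M := M) hR
  { toFun := fun v => SymmetricPower.tprod R v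
    map_update_add' := fun v i x y => (SymmetricPower.tprod R).map_update_add v i x y
    map_update_smul' := fun v i c x => by
      obtain ⟨c, rfl⟩ := hR c
      have h1 : (algebraMap R R' c) • x = c • x := algebraMap_smul R' c x
      rw [h1, (SymmetricPower.tprod R).map_update_smul, modQ_smul hR] }

/-- the inverse comparison, as a linear map -/
noncomputable def fromQL :
    letI := modQ (ι := ι) (M := M) hR
    SymmetricPower R' ι M →ₗ[R'] SymmetricPower R ι M :=
  letI := modQ (ι := ι) (M := M) hR
  lift (tprodQ (ι := ι) (M := M) hR) (fun e v => SymmetricPower.tprod_equiv e v)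

lemma fromQL_tprod (v : ι → M) :
    letI := modQ (ι := ι) (M := M) hR
    fromQL hR (SymmetricPower.tprod R' v) = SymmetricPower.tprod R v := by
  letI := modQ (ι := ι) (M := M) hR
  exact lift_tprod (tprodQ (ι := ι) (M := M) hR) _ v

/-- the inverse comparison -/
noncomputable def fromQ : SymmetricPower R' ι M →+ SymmetricPower R ι M :=
  letI := modQ (ι := ι) (M := M) hR
  (fromQL (ι := ι) (M := M) hR).toAddMonoidHom

lemma fromQ_tprod (v : ι → M) :
    fromQ hR (SymmetricPower.tprod R' v) = SymmetricPower.tprod R v :=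
  fromQL_tprod hR v

lemma fromQ_smul (c : R) (t : SymmetricPower R' ι M) :
    fromQ (ι := ι) (M := M) hR (algebraMap R R' c • t) = c • fromQ hR t := by
  letI := modQ (ι := ι) (M := M) hR
  change fromQL (ι := ι) (M := M) hR (algebraMap R R' c • t) = c • fromQL (ι := ι) (M := M) hR t
  rw [map_smul]
  exact modQ_smul hR c _

lemma fromQ_toQ (t : SymmetricPower R ι M) : fromQ hR (toQ (R' := R') t) = t := by
  have ht : t ∈ Submodule.span R (Set.range (SymmetricPower.tprod R (ι := ι) (M := M))) := by
    rw [SymmetricPower.span_tprod_eq_top]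
    exact Submodule.mem_top
  induction ht using Submodule.span_induction with
  | mem t ht =>
    obtain ⟨v, rfl⟩ := ht
    rw [toQ_tprod, fromQ_tprod]
  | zero => rw [map_zero, map_zero]
  | add t t' _ _ h h' => rw [map_add, map_add, h, h']
  | smul c t _ h => rw [toQ_smul, fromQ_smul, h]

lemma toQ_fromQ (t : SymmetricPower R' ι M) : toQ (R' := R') (fromQ hR t) = t := by
  have ht : t ∈ Submodule.span R'
      (Set.range (SymmetricPower.tprod R' (ι := ι) (M := M))) := by
    rw [SymmetricPower.span_tprod_eq_top]
    exact Submodule.mem_top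
  induction ht using Submodule.span_induction with
  | mem t ht =>
    obtain ⟨v, rfl⟩ := ht
    rw [fromQ_tprod, toQ_tprod]
  | zero => rw [map_zero, map_zero]
  | add t t' _ _ h h' => rw [map_add, map_add, h, h']
  | smul c t _ h =>
    obtain ⟨c, rfl⟩ := hR c
    rw [fromQ_smul, toQ_smul, h]

include hR in
lemma toQ_injective : Function.Injective (toQ (R := R) (R' := R') (ι := ι) (M := M)) :=
  Function.LeftInverse.injective (fromQ_toQ hR)

include hR in
lemma toQ_surjective : Function.Surjective (toQ (R := R) (R' := R') (ι := ι) (M := M)) :=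
  Function.RightInverse.surjective (toQ_fromQ hR)

end Quot

section Cnt

variable {ι : Type u} [Fintype ι] {Λ : Type w}

/-- multi-indices of degree `|ι|` come from functions (arbitrary index type) -/
lemma exists_cnt_eq' (d : Λ →₀ ℕ) (hd : d.degree = Fintype.card ι) :
    ∃ e : ι → Λ, cnt e = d := by
  classical
  obtain ⟨f, hf⟩ := exists_cnt_eq (ι := ι) (Λ := ↥d.support) (fun l => d l) (by
    rw [← hd, Finsupp.degree]
    exact Finset.sum_coe_sort d.support (fun l => d l))
  refine ⟨fun i => (f i : Λ), ?_⟩
  ext l
  have h1 : ∀ (g : ι → Λ) (l : Λ), cnt g l = ∑ i, if g i = l then 1 else 0 := by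
    intro g l
    rw [cnt, Finsupp.finsetSum_apply]
    apply Finset.sum_congr rfl
    intro i _
    rw [Finsupp.single_apply]
  by_cases hl : l ∈ d.support
  · have h2 := hf ⟨l, hl⟩
    have h3 : ∀ (g : ι → ↥d.support) (l : ↥d.support), cnt g l = ∑ i, if g i = l then 1 else 0 := by
      intro g l
      rw [cnt, Finsupp.finsetSum_apply]
      apply Finset.sum_congr rfl
      intro i _
      rw [Finsupp.single_apply]
    rw [h3] at h2
    rw [h1, ← h2]
    apply Finset.sum_congr rfl
    intro i _
    have : ((f i : Λ) = l) ↔ (f i = ⟨l, hl⟩) := by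
      constructor
      · intro h; exact Subtype.ext h
      · intro h; rw [h]
    simp only [this]
  · rw [h1, Finsupp.notMem_support_iff.1 hl]
    apply Finset.sum_eq_zero
    intro i _
    rw [if_neg]
    intro h
    exact hl (h ▸ (f i).2)

end Cnt

end Groth.Agent.Helper7.AdSm
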