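import Mathlib
import Groth.Prelude.Def_PP16
import Groth.Agent.Helper7.AdSm1

/-!
# Adic formal smoothness: polynomial charts of the truncations `B/𝔍^e`
-/

set_option autoImplicit false
set_option linter.unusedSectionVars false
universe u v w

namespace Groth.Agent.Helper7.AdSm

open PP16 SymT QLoc MvPolynomial

section LinForms

variable {Λ : Type w} {C : Type u} [CommRing C]

/-- linear forms -/
noncomputable def linX : (Λ →₀ C) →ₗ[C] MvPolynomial Λ C :=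
  Finsupp.linearCombination C (fun l => (X l : MvPolynomial Λ C))

lemma linX_single (l : Λ) (c : C) : linX (Finsupp.single l c) = c • (X l : MvPolynomial Λ C) := by
  rw [linX, Finsupp.linearCombination_single]

lemma ellL_eq_linX {M : Type v} [AddCommGroup M] [Module C M] (s : M →ₗ[C] Λ →₀ C) (x : M) :
    ellL s x = linX (s x) := by
  rw [ellL_apply, linX, Finsupp.linearCombination_apply]

lemma support_lin_finite (f : MvPolynomial Λ C) :
    (Function.support (fun l : Λ => coeff (Finsupp.single l 1) f)).Finite := by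
  have h1 : Function.support (fun l : Λ => coeff (Finsupp.single l 1) f) =
      (fun l : Λ => Finsupp.single l 1) ⁻¹' (f.support : Set (Λ →₀ ℕ)) := by
    ext l
    simp [mem_support_iff]
  rw [h1]
  exact Set.Finite.preimage ((Finsupp.single_left_injective one_ne_zero).injOn) f.support.finite_toSet

/-- the linear part of a polynomial -/
noncomputable def lin : MvPolynomial Λ C →ₗ[C] (Λ →₀ C) where
  toFun f := Finsupp.ofSupportFinite (fun l => coeff (Finsupp.single l 1) f) (support_lin_finite f)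
  map_add' f g := by
    ext l
    simp [Finsupp.ofSupportFinite_coe]
  map_smul' c f := by
    ext l
    simp [Finsupp.ofSupportFinite_coe]

lemma lin_apply (f : MvPolynomial Λ C) (l : Λ) : lin f l = coeff (Finsupp.single l 1) f := rfl

lemma degree_eq_one {x : Λ →₀ ℕ} (hx : x.degree = 1) : ∃ l, x = Finsupp.single l 1 := by
  classical
  have hne : x ≠ 0 := by
    rintro rfl
    simp at hx
  obtain ⟨l, hl⟩ := Finsupp.support_nonempty_iff.2 hne
  have hl' : x l ≠ 0 := Finsupp.mem_support_iff.1 hl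
  have h1 : Finsupp.single l 1 ≤ x := by
    intro i
    rw [Finsupp.single_apply]
    split_ifs with h
    · subst h; omega
    · omega
  obtain ⟨x', rfl⟩ := le_iff_exists_add.1 h1
  rw [map_add, Finsupp.degree_single] at hx
  have : x'.degree = 0 := by omega
  rw [Finsupp.degree_eq_zero_iff] at this
  exact ⟨l, by rw [this, add_zero]⟩

lemma coeff_single_linX (a : Λ →₀ C) (l : Λ) : coeff (Finsupp.single l 1) (linX a) = a l := by
  classical
  induction a using Finsupp.induction_linear with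
  | zero => simp
  | add f g hf hg => rw [map_add, coeff_add, hf, hg, Finsupp.add_apply]
  | single l' c =>
    rw [linX_single, coeff_smul, coeff_X, Finsupp.single_apply]
    by_cases h : l' = l
    · subst h; simp
    · have : Finsupp.single l' 1 ≠ Finsupp.single l 1 := by
        intro h'
        exact h (Finsupp.single_left_injective one_ne_zero h')
      simp [h, this]

lemma lin_linX (a : Λ →₀ C) : lin (linX a) = a := by
  ext l
  rw [lin_apply, coeff_single_linX]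

lemma linX_isHomogeneous (a : Λ →₀ C) : (linX a).IsHomogeneous 1 := by
  induction a using Finsupp.induction_linear with
  | zero => rw [map_zero]; exact isHomogeneous_zero _ _ _
  | add f g hf hg => rw [map_add]; exact hf.add hg
  | single l c =>
    rw [linX_single, smul_eq_C_mul]
    have := (isHomogeneous_C Λ c).mul (isHomogeneous_X C l)
    simpa using this

lemma linX_mem (a : Λ →₀ C) : linX a ∈ idealOfVars Λ C := by
  have := (mem_pow_idealOfVars_iff' 1 (linX a)).2 (by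
    intro d hd
    apply (linX_isHomogeneous a).coeff_eq_zero
    omega)
  simpa using this

lemma mem_idealOfVars_iff_constantCoeff (f : MvPolynomial Λ C) :
    f ∈ idealOfVars Λ C ↔ constantCoeff f = 0 := by
  have h := mem_pow_idealOfVars_iff' 1 f
  rw [pow_one] at h
  rw [h]
  constructor
  · intro h1
    exact h1 0 (by simp)
  · intro h1 x hx
    have : x = 0 := by
      rw [← Finsupp.degree_eq_zero_iff]
      omega
    rw [this]
    exact h1

lemma lin_eq_zero_of_mem (f : MvPolynomial Λ C) (hf : f ∈ idealOfVars Λ C ^ 2) : lin f = 0 := by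
  ext l
  rw [lin_apply, Finsupp.zero_apply]
  exact (mem_pow_idealOfVars_iff' 2 f).1 hf _ (by rw [Finsupp.degree_single]; norm_num)

lemma sub_linX_lin_mem (f : MvPolynomial Λ C) (hf : f ∈ idealOfVars Λ C) :
    f - linX (lin f) ∈ idealOfVars Λ C ^ 2 := by
  rw [mem_pow_idealOfVars_iff']
  intro x hx
  rw [coeff_sub]
  have h1 : x.degree = 0 ∨ x.degree = 1 := by omega
  rcases h1 with h1 | h1
  · rw [Finsupp.degree_eq_zero_iff] at h1
    subst h1
    have h2 := (mem_idealOfVars_iff_constantCoeff f).1 hf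
    have h3 := (mem_idealOfVars_iff_constantCoeff _).1 (linX_mem (lin f))
    rw [constantCoeff_eq] at h2 h3
    rw [h2, h3, sub_zero]
  · obtain ⟨l, rfl⟩ := degree_eq_one h1
    rw [coeff_single_linX, lin_apply, sub_self]

end LinForms

section QuotBy

/-- `C` is (a model of) the quotient `B/𝔍` -/
class IsQuotBy {B : Type u} [CommRing B] (𝔍 : Ideal B) (C : Type u) [CommRing C] [Algebra B C] :
    Prop where
  surj : Function.Surjective (algebraMap B C)
  ker : RingHom.ker (algebraMap B C) = 𝔍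

instance {B : Type u} [CommRing B] (𝔍 : Ideal B) : IsQuotBy 𝔍 (B ⧸ 𝔍) :=
  ⟨Ideal.Quotient.mk_surjective, Ideal.mk_ker⟩

variable {B C : Type u} [CommRing B] [CommRing C] [Algebra B C] (𝔍 : Ideal B) [IsQuotBy 𝔍 C]

lemma algebraMap_eq_zero_iff (b : B) : algebraMap B C b = 0 ↔ b ∈ 𝔍 := by
  rw [← RingHom.mem_ker, IsQuotBy.ker (𝔍 := 𝔍)]

end QuotBy

section Rho

variable (A C : Type u) {B : Type u} [CommRing A] [CommRing B] [CommRing C] [Algebra A B]
  [Algebra A C] [Algebra B C] [IsScalarTower A B C] (𝔍 : Ideal B) [IsQuotBy 𝔍 C]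
  (e : ℕ) [NeZero e]

omit [CommRing A] [CommRing C] [Algebra A B] [Algebra A C] [Algebra B C] [IsScalarTower A B C]
  [IsQuotBy 𝔍 C] [NeZero e] in
lemma mem_map_mk_pow (d : ℕ) (hd : d ≤ e) (z : B)
    (hz : Ideal.Quotient.mk (𝔍 ^ e) z ∈ (𝔍 ^ d).map (Ideal.Quotient.mk (𝔍 ^ e))) : z ∈ 𝔍 ^ d := by
  obtain ⟨z', hz', h⟩ := (Ideal.mem_map_iff_of_surjective _ Ideal.Quotient.mk_surjective).1 hz
  have h1 : z' - z ∈ 𝔍 ^ e := Ideal.Quotient.eq.1 h
  have h2 : z' - z ∈ 𝔍 ^ d := Ideal.pow_le_pow_right hd h1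
  have : z = z' - (z' - z) := by ring
  rw [this]
  exact sub_mem hz' h2

/-- the projection `B/𝔍^e → C = B/𝔍` -/
noncomputable def rho : B ⧸ 𝔍 ^ e →ₐ[A] C :=
  Ideal.Quotient.liftₐ (𝔍 ^ e) (IsScalarTower.toAlgHom A B C) (fun b hb => by
    change algebraMap B C b = 0
    exact (algebraMap_eq_zero_iff 𝔍 b).2 (Ideal.pow_le_self (NeZero.ne e) hb))

lemma rho_mk (b : B) :
    rho A C 𝔍 e (Ideal.Quotient.mk (𝔍 ^ e) b) = algebraMap B C b := rfl

lemma rho_surjective : Function.Surjective (rho A C 𝔍 e) := by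
  intro c
  obtain ⟨b, rfl⟩ := IsQuotBy.surj (𝔍 := 𝔍) c
  exact ⟨Ideal.Quotient.mk (𝔍 ^ e) b, rfl⟩

lemma ker_rho : RingHom.ker (rho A C 𝔍 e : B ⧸ 𝔍 ^ e →+* C) =
    𝔍.map (Ideal.Quotient.mk (𝔍 ^ e)) := by
  ext x
  obtain ⟨b, rfl⟩ := Ideal.Quotient.mk_surjective x
  rw [RingHom.mem_ker]
  change rho A C 𝔍 e (Ideal.Quotient.mk (𝔍 ^ e) b) = 0 ↔ _
  rw [rho_mk, algebraMap_eq_zero_iff 𝔍]
  constructor
  · intro h
    exact Ideal.mem_map_of_mem _ h
  · intro h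
    have := mem_map_mk_pow 𝔍 e 1 (NeZero.one_le) b (by rwa [pow_one])
    rwa [pow_one] at this

omit [CommRing A] [CommRing C] [Algebra A B] [Algebra A C] [Algebra B C] [IsScalarTower A B C]
  [IsQuotBy 𝔍 C] [NeZero e] in
lemma map_pow_eq_bot : (𝔍.map (Ideal.Quotient.mk (𝔍 ^ e))) ^ e = ⊥ := by
  rw [← Ideal.map_pow, Ideal.map_eq_bot_iff_le_ker, Ideal.mk_ker]

lemma rho_ker_nilpotent :
    IsNilpotent (RingHom.ker (rho A C 𝔍 e : B ⧸ 𝔍 ^ e →+* C)) := by
  refine ⟨e, ?_⟩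
  rw [ker_rho, map_pow_eq_bot, Ideal.zero_eq_bot]

theorem exists_sigma [Algebra.FormallySmooth A C] :
    ∃ σ : C →ₐ[A] B ⧸ 𝔍 ^ e, (rho A C 𝔍 e).comp σ = AlgHom.id A C :=
  ⟨Algebra.FormallySmooth.liftOfSurjective (AlgHom.id A C) (rho A C 𝔍 e) (rho_surjective A C 𝔍 e)
    (rho_ker_nilpotent A C 𝔍 e), Algebra.FormallySmooth.comp_liftOfSurjective _ _ _ _⟩

end Rho

section Chart

variable {A B C : Type u} [CommRing A] [CommRing B] [CommRing C] [Algebra A B]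
  [Algebra A C] [Algebra B C] [IsScalarTower A B C] (𝔍 : Ideal B) [IsQuotBy 𝔍 C]
  (e : ℕ) [NeZero e]
  (σ : C →ₐ[A] B ⧸ 𝔍 ^ e) (y : 𝔍.Cotangent → ↥𝔍)

/-- the polynomial chart `C[X_ν] → B/𝔍^e` attached to a section `σ` and lifts `y` -/
noncomputable def qHom : MvPolynomial 𝔍.Cotangent C →ₐ[A] B ⧸ 𝔍 ^ e :=
  { eval₂Hom (σ : C →+* B ⧸ 𝔍 ^ e) (fun ν => Ideal.Quotient.mk (𝔍 ^ e) (y ν : B)) with
    commutes' := fun a => by
      change eval₂Hom _ _ (algebraMap A _ a) = _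
      rw [MvPolynomial.algebraMap_apply, eval₂Hom_C]
      exact σ.commutes a }

lemma qHom_C (c : C) : qHom 𝔍 e σ y (MvPolynomial.C c) = σ c := eval₂Hom_C _ _ c

lemma qHom_X (ν : 𝔍.Cotangent) :
    qHom 𝔍 e σ y (X ν) = Ideal.Quotient.mk (𝔍 ^ e) (y ν : B) := eval₂Hom_X' _ _ ν

lemma qHom_smul (c : C) (p : MvPolynomial 𝔍.Cotangent C) :
    qHom 𝔍 e σ y (c • p) = σ c * qHom 𝔍 e σ y p := by
  rw [smul_eq_C_mul, map_mul, qHom_C]

lemma map_qHom_le : (idealOfVars 𝔍.Cotangent C).map (qHom 𝔍 e σ y) ≤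
    𝔍.map (Ideal.Quotient.mk (𝔍 ^ e)) := by
  rw [idealOfVars, Ideal.map_span, Ideal.span_le]
  rintro _ ⟨_, ⟨ν, rfl⟩, rfl⟩
  change qHom 𝔍 e σ y (X ν) ∈ _
  rw [qHom_X]
  exact Ideal.mem_map_of_mem _ (y ν).2

lemma qHom_mem_pow (d : ℕ) (p : MvPolynomial 𝔍.Cotangent C)
    (hp : p ∈ idealOfVars 𝔍.Cotangent C ^ d) :
    qHom 𝔍 e σ y p ∈ (𝔍 ^ d).map (Ideal.Quotient.mk (𝔍 ^ e)) := by
  have h1 : (idealOfVars 𝔍.Cotangent C ^ d).map (qHom 𝔍 e σ y) ≤
      (𝔍 ^ d).map (Ideal.Quotient.mk (𝔍 ^ e)) := by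
    rw [Ideal.map_pow, Ideal.map_pow]
    exact Ideal.pow_right_mono (map_qHom_le 𝔍 e σ y) d
  exact h1 (Ideal.mem_map_of_mem _ hp)

variable (hσ : (rho A C 𝔍 e).comp σ = AlgHom.id A C)

include hσ in
lemma rho_sigma (c : C) : rho A C 𝔍 e (σ c) = c := congr($hσ c)

include hσ in
lemma rho_qHom (p : MvPolynomial 𝔍.Cotangent C) :
    rho A C 𝔍 e (qHom 𝔍 e σ y p) = constantCoeff p := by
  have : ((rho A C 𝔍 e : B ⧸ 𝔍 ^ e →+* C).comp
      (qHom 𝔍 e σ y : MvPolynomial 𝔍.Cotangent C →+* B ⧸ 𝔍 ^ e)) = constantCoeff := by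
    apply MvPolynomial.ringHom_ext
    · intro c
      rw [RingHom.comp_apply, constantCoeff_C]
      change rho A C 𝔍 e (qHom 𝔍 e σ y (MvPolynomial.C c)) = c
      rw [qHom_C, rho_sigma 𝔍 e σ hσ]
    · intro ν
      rw [RingHom.comp_apply, constantCoeff_X]
      change rho A C 𝔍 e (qHom 𝔍 e σ y (X ν)) = 0
      rw [qHom_X, rho_mk]
      exact (algebraMap_eq_zero_iff 𝔍 _).2 (y ν).2
  exact congr($this p)

include hσ in
lemma sigma_sub_mk (b : B) :
    σ (algebraMap B C b) - Ideal.Quotient.mk (𝔍 ^ e) b ∈ 𝔍.map (Ideal.Quotient.mk (𝔍 ^ e)) := by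
  rw [← ker_rho A C 𝔍 e, RingHom.mem_ker]
  change rho A C 𝔍 e (σ (algebraMap B C b) - Ideal.Quotient.mk (𝔍 ^ e) b) = 0
  rw [map_sub, rho_sigma 𝔍 e σ hσ, rho_mk, sub_self]

variable [Module C 𝔍.Cotangent] [IsScalarTower B C 𝔍.Cotangent]
  (hy : ∀ ν, 𝔍.toCotangent (y ν) = ν)

include hσ hy in
/-- the chart is the identity on the cotangent space -/
lemma qHom_linX (a : 𝔍.Cotangent →₀ C) (z : ↥𝔍)
    (hz : 𝔍.toCotangent z = Finsupp.linearCombination C id a) :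
    qHom 𝔍 e σ y (linX a) - Ideal.Quotient.mk (𝔍 ^ e) (z : B) ∈
      (𝔍 ^ 2).map (Ideal.Quotient.mk (𝔍 ^ e)) := by
  induction a using Finsupp.induction_linear generalizing z with
  | zero =>
    rw [map_zero, map_zero, zero_sub]
    rw [map_zero] at hz
    exact neg_mem (Ideal.mem_map_of_mem _ ((𝔍.toCotangent_eq_zero z).1 hz))
  | add f g hf hg =>
    obtain ⟨z₁, hz₁⟩ := 𝔍.toCotangent_surjective (Finsupp.linearCombination C id f)
    have hz₂ : 𝔍.toCotangent (z - z₁) = Finsupp.linearCombination C id g := by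
      rw [map_sub, hz, hz₁, map_add, add_sub_cancel_left]
    have h1 := hf z₁ hz₁
    have h2 := hg (z - z₁) hz₂
    have h3 : qHom 𝔍 e σ y (linX (f + g)) - Ideal.Quotient.mk (𝔍 ^ e) (z : B) =
        (qHom 𝔍 e σ y (linX f) - Ideal.Quotient.mk (𝔍 ^ e) (z₁ : B)) +
        (qHom 𝔍 e σ y (linX g) - Ideal.Quotient.mk (𝔍 ^ e) ((z - z₁ : ↥𝔍) : B)) := by
      rw [map_add, map_add, Submodule.coe_sub, map_sub]
      ring
    rw [h3]
    exact add_mem h1 h2
  | single ν c =>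
    obtain ⟨b, rfl⟩ := IsQuotBy.surj (𝔍 := 𝔍) c
    rw [linX_single, qHom_smul, qHom_X]
    rw [Finsupp.linearCombination_single, id] at hz
    have h1 : (algebraMap B C b) • ν = 𝔍.toCotangent (b • y ν) := by
      rw [map_smul, hy]
      exact algebraMap_smul C b ν
    rw [h1] at hz
    have h2 : 𝔍.toCotangent (z - b • y ν) = 0 := by rw [map_sub, hz, sub_self]
    have h3 : ((z - b • y ν : ↥𝔍) : B) ∈ 𝔍 ^ 2 := (𝔍.toCotangent_eq_zero _).1 h2
    have h4 : σ (algebraMap B C b) * Ideal.Quotient.mk (𝔍 ^ e) (y ν : B) -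
        Ideal.Quotient.mk (𝔍 ^ e) (z : B) =
        (σ (algebraMap B C b) - Ideal.Quotient.mk (𝔍 ^ e) b) *
          Ideal.Quotient.mk (𝔍 ^ e) (y ν : B) -
        Ideal.Quotient.mk (𝔍 ^ e) ((z - b • y ν : ↥𝔍) : B) := by
      rw [Submodule.coe_sub, Submodule.coe_smul, smul_eq_mul, map_sub, map_mul]
      ring
    rw [h4]
    refine sub_mem ?_ (Ideal.mem_map_of_mem _ h3)
    rw [Ideal.map_pow, pow_two]
    exact Ideal.mul_mem_mul (sigma_sub_mk 𝔍 e σ hσ b) (Ideal.mem_map_of_mem _ (y ν).2)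

include hσ hy in
lemma exists_approx (d : ℕ) (z : B) (hz : z ∈ 𝔍 ^ d) :
    ∃ p : MvPolynomial 𝔍.Cotangent C,
      Ideal.Quotient.mk (𝔍 ^ e) z - qHom 𝔍 e σ y p ∈ (𝔍 ^ (d + 1)).map (Ideal.Quotient.mk (𝔍 ^ e)) := by
  induction d generalizing z with
  | zero =>
    refine ⟨MvPolynomial.C (algebraMap B C z), ?_⟩
    rw [qHom_C, zero_add, pow_one]
    have := sigma_sub_mk 𝔍 e σ hσ z
    rw [← neg_sub]
    exact neg_mem this
  | succ d ih =>
    rw [pow_succ] at hz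
    refine Submodule.mul_induction_on hz ?_ ?_
    · intro z₁ hz₁ z₂ hz₂
      obtain ⟨p₁, hp₁⟩ := ih z₁ hz₁
      refine ⟨p₁ * X (𝔍.toCotangent ⟨z₂, hz₂⟩), ?_⟩
      rw [map_mul, map_mul, qHom_X]
      set ν := 𝔍.toCotangent ⟨z₂, hz₂⟩ with hν
      have h1 : 𝔍.toCotangent (y ν - ⟨z₂, hz₂⟩) = 0 := by rw [map_sub, hy, hν, sub_self]
      have h2 : ((y ν : B) - z₂) ∈ 𝔍 ^ 2 := (𝔍.toCotangent_eq_zero _).1 h1
      have h3 : Ideal.Quotient.mk (𝔍 ^ e) z₁ * Ideal.Quotient.mk (𝔍 ^ e) z₂ -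
          qHom 𝔍 e σ y p₁ * Ideal.Quotient.mk (𝔍 ^ e) (y ν : B) =
          (Ideal.Quotient.mk (𝔍 ^ e) z₁ - qHom 𝔍 e σ y p₁) * Ideal.Quotient.mk (𝔍 ^ e) (y ν : B) -
          Ideal.Quotient.mk (𝔍 ^ e) z₁ * Ideal.Quotient.mk (𝔍 ^ e) ((y ν : B) - z₂) := by
        rw [map_sub]; ring
      rw [h3]
      refine sub_mem ?_ ?_
      · have : (𝔍 ^ (d + 1 + 1)).map (Ideal.Quotient.mk (𝔍 ^ e)) =
            (𝔍 ^ (d + 1)).map (Ideal.Quotient.mk (𝔍 ^ e)) * 𝔍.map (Ideal.Quotient.mk (𝔍 ^ e)) := by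
          rw [pow_succ, Ideal.map_mul]
        rw [this]
        exact Ideal.mul_mem_mul hp₁ (Ideal.mem_map_of_mem _ (y ν).2)
      · have : (𝔍 ^ (d + 1 + 1)).map (Ideal.Quotient.mk (𝔍 ^ e)) =
            (𝔍 ^ d).map (Ideal.Quotient.mk (𝔍 ^ e)) * (𝔍 ^ 2).map (Ideal.Quotient.mk (𝔍 ^ e)) := by
          rw [← Ideal.map_mul, ← pow_add]
        rw [this]
        exact Ideal.mul_mem_mul (Ideal.mem_map_of_mem _ hz₁) (Ideal.mem_map_of_mem _ h2)
    · intro z₁ z₂ ⟨p₁, hp₁⟩ ⟨p₂, hp₂⟩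
      refine ⟨p₁ + p₂, ?_⟩
      have : Ideal.Quotient.mk (𝔍 ^ e) (z₁ + z₂) - qHom 𝔍 e σ y (p₁ + p₂) =
          (Ideal.Quotient.mk (𝔍 ^ e) z₁ - qHom 𝔍 e σ y p₁) +
          (Ideal.Quotient.mk (𝔍 ^ e) z₂ - qHom 𝔍 e σ y p₂) := by
        rw [map_add, map_add]; ring
      rw [this]
      exact add_mem hp₁ hp₂

include hσ hy in
theorem qHom_surjective : Function.Surjective (qHom 𝔍 e σ y) := by
  have key : ∀ d : ℕ, ∀ x : B ⧸ 𝔍 ^ e, ∃ p : MvPolynomial 𝔍.Cotangent C,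
      x - qHom 𝔍 e σ y p ∈ (𝔍 ^ d).map (Ideal.Quotient.mk (𝔍 ^ e)) := by
    intro d
    induction d with
    | zero =>
      intro x
      exact ⟨0, by rw [pow_zero, Ideal.one_eq_top, Ideal.map_top]; exact Submodule.mem_top⟩
    | succ d ih =>
      intro x
      obtain ⟨p, hp⟩ := ih x
      obtain ⟨z, hz, hzx⟩ := (Ideal.mem_map_iff_of_surjective _ Ideal.Quotient.mk_surjective).1 hp
      obtain ⟨p', hp'⟩ := exists_approx 𝔍 e σ y hσ hy d z hz
      refine ⟨p + p', ?_⟩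
      have : x - qHom 𝔍 e σ y (p + p') = Ideal.Quotient.mk (𝔍 ^ e) z - qHom 𝔍 e σ y p' := by
        rw [hzx, map_add]; ring
      rw [this]
      exact hp'
  intro x
  obtain ⟨p, hp⟩ := key e x
  have h0 : (𝔍 ^ e).map (Ideal.Quotient.mk (𝔍 ^ e)) = ⊥ := by
    rw [Ideal.map_eq_bot_iff_le_ker, Ideal.mk_ker]
  rw [h0, Ideal.mem_bot, sub_eq_zero] at hp
  exact ⟨p, hp.symm⟩

end Chart

end Groth.Agent.Helper7.AdSm
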