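import Mathlib
import Groth.Prelude.Def_PP16
import Groth.Agent.Helper7.AdSm2

/-!
# Adic formal smoothness implies: cotangent module projective, `Sym ≅ gr`
-/

set_option autoImplicit false
set_option linter.unusedSectionVars false
universe u v w

namespace Groth.Agent.Helper7.AdSm

open PP16 SymT QLoc MvPolynomial

section Homog

variable {R ι : Type u} [CommRing R] [Fintype ι] {Λ : Type w} {M : Type v} [AddCommGroup M]
  [Module R M] (s : M →ₗ[R] Λ →₀ R)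

lemma ellL_isHomogeneous (x : M) : (ellL s x).IsHomogeneous 1 := by
  rw [ellL_eq_linX]
  exact linX_isHomogeneous _

lemma ellL_mem (x : M) : ellL s x ∈ idealOfVars Λ R := by
  rw [ellL_eq_linX]
  exact linX_mem _

lemma ΘL_isHomogeneous (t : SymmetricPower R ι M) :
    (ΘL (ι := ι) s t).IsHomogeneous (Fintype.card ι) := by
  have ht : t ∈ Submodule.span R (Set.range (SymmetricPower.tprod R (ι := ι) (M := M))) := by
    rw [SymmetricPower.span_tprod_eq_top]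
    exact Submodule.mem_top
  induction ht using Submodule.span_induction with
  | mem t ht =>
    obtain ⟨v, rfl⟩ := ht
    rw [ΘL_tprod]
    have := MvPolynomial.IsHomogeneous.prod (Finset.univ : Finset ι) (fun i => ellL s (v i))
      (fun _ => 1) (fun i _ => ellL_isHomogeneous s (v i))
    simpa using this
  | zero => rw [map_zero]; exact MvPolynomial.isHomogeneous_zero _ _ _
  | add t t' _ _ h h' => rw [map_add]; exact h.add h'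
  | smul c t _ h =>
    rw [map_smul, MvPolynomial.smul_eq_C_mul]
    have := (MvPolynomial.isHomogeneous_C Λ c).mul h
    simpa using this

end Homog

section Abbrev

variable {B : Type u} [CommRing B] (𝔍 : Ideal B) (C : Type u) [CommRing C]

/-- the polynomial ring on the cotangent module -/
abbrev Pq := MvPolynomial 𝔍.Cotangent C

/-- its ideal of variables -/
noncomputable abbrev Vq : Ideal (Pq 𝔍 C) := idealOfVars 𝔍.Cotangent C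

/-- the truncations -/
abbrev Tq (n : ℕ) := Pq 𝔍 C ⧸ Vq 𝔍 C ^ (n + 1)

end Abbrev

section Pi

variable {A B C : Type u} [CommRing A] [CommRing B] [CommRing C] [Algebra A B]
  [Algebra A C] [Algebra B C] [IsScalarTower A B C] (𝔍 : Ideal B) [IsQuotBy 𝔍 C]
  (σ : C →ₐ[A] B ⧸ 𝔍 ^ 2) (y : 𝔍.Cotangent → ↥𝔍) (n : ℕ) (hn : 1 ≤ n)

include hn in
lemma qHom_two_eq_zero (p : Pq 𝔍 C) (hp : p ∈ Vq 𝔍 C ^ (n + 1)) : qHom 𝔍 2 σ y p = 0 := by
  have h1 : p ∈ Vq 𝔍 C ^ 2 := Ideal.pow_le_pow_right (by omega) hp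
  have h2 := qHom_mem_pow 𝔍 2 σ y 2 p h1
  have h0 : (𝔍 ^ 2).map (Ideal.Quotient.mk (𝔍 ^ 2)) = ⊥ := by
    rw [Ideal.map_eq_bot_iff_le_ker, Ideal.mk_ker]
  rwa [h0, Ideal.mem_bot] at h2

/-- the projection of the truncated polynomial ring onto `B/𝔍²` -/
noncomputable def piN : Tq 𝔍 C n →ₐ[A] B ⧸ 𝔍 ^ 2 :=
  Ideal.Quotient.liftₐ _ (qHom 𝔍 2 σ y) (qHom_two_eq_zero 𝔍 σ y n hn)

lemma piN_mk (p : Pq 𝔍 C) :
    piN 𝔍 σ y n hn (Ideal.Quotient.mk _ p) = qHom 𝔍 2 σ y p := rfl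

variable (hσ : (rho A C 𝔍 2).comp σ = AlgHom.id A C)
  [Module C 𝔍.Cotangent] [IsScalarTower B C 𝔍.Cotangent]
  (hy : ∀ ν, 𝔍.toCotangent (y ν) = ν)

include hσ hy in
lemma piN_surjective : Function.Surjective (piN 𝔍 σ y n hn) := by
  intro x
  obtain ⟨p, rfl⟩ := qHom_surjective 𝔍 2 σ y hσ hy x
  exact ⟨Ideal.Quotient.mk _ p, rfl⟩

include hσ in
lemma piN_ker_le : RingHom.ker (piN 𝔍 σ y n hn : Tq 𝔍 C n →+* B ⧸ 𝔍 ^ 2) ≤
    (Vq 𝔍 C).map (Ideal.Quotient.mk (Vq 𝔍 C ^ (n + 1))) := by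
  intro x hx
  obtain ⟨p, rfl⟩ := Ideal.Quotient.mk_surjective x
  rw [RingHom.mem_ker] at hx
  change piN 𝔍 σ y n hn (Ideal.Quotient.mk _ p) = 0 at hx
  rw [piN_mk] at hx
  have h1 := rho_qHom 𝔍 2 σ y hσ p
  rw [hx, map_zero] at h1
  exact Ideal.mem_map_of_mem _ ((mem_idealOfVars_iff_constantCoeff p).2 h1.symm)

include hσ in
lemma piN_ker_nilpotent :
    IsNilpotent (RingHom.ker (piN 𝔍 σ y n hn : Tq 𝔍 C n →+* B ⧸ 𝔍 ^ 2)) := by
  refine ⟨n + 1, ?_⟩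
  have h1 : ((Vq 𝔍 C).map (Ideal.Quotient.mk (Vq 𝔍 C ^ (n + 1)))) ^ (n + 1) = ⊥ := by
    rw [← Ideal.map_pow, Ideal.map_eq_bot_iff_le_ker, Ideal.mk_ker]
  rw [Ideal.zero_eq_bot, eq_bot_iff, ← h1]
  exact Ideal.pow_right_mono (piN_ker_le 𝔍 σ y n hn hσ) (n + 1)

include hσ hy in
theorem exists_iN (hB : CAlgX.IsAdicFormallySmooth A B 𝔍) :
    ∃ i : B →ₐ[A] Tq 𝔍 C n, (piN 𝔍 σ y n hn).comp i = Ideal.Quotient.mkₐ A (𝔍 ^ 2) := by
  have h1 := piN_surjective 𝔍 σ y n hn hσ hy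
  have h2 := piN_ker_nilpotent 𝔍 σ y n hn hσ
  have h3 : ∃ k : ℕ, ∀ x ∈ 𝔍 ^ k, Ideal.Quotient.mkₐ A (𝔍 ^ 2) x = 0 :=
    ⟨2, fun x hx => Ideal.Quotient.eq_zero_iff_mem.2 hx⟩
  exact lift_nilpotent 𝔍 hB (piN 𝔍 σ y n hn) h1 h2 (Ideal.Quotient.mkₐ A (𝔍 ^ 2)) h3

end Pi

section Taylor

variable {A B C : Type u} [CommRing A] [CommRing B] [CommRing C] [Algebra A B]
  [Algebra A C] [Algebra B C] [IsScalarTower A B C] (𝔍 : Ideal B) [IsQuotBy 𝔍 C]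
  (σ : C →ₐ[A] B ⧸ 𝔍 ^ 2) (y : 𝔍.Cotangent → ↥𝔍) (n : ℕ) (hn : 1 ≤ n)
  (hσ : (rho A C 𝔍 2).comp σ = AlgHom.id A C)
  [Module C 𝔍.Cotangent] [IsScalarTower B C 𝔍.Cotangent]
  (hy : ∀ ν, 𝔍.toCotangent (y ν) = ν)
  (i : B →ₐ[A] Tq 𝔍 C n)
  (hi : (piN 𝔍 σ y n hn).comp i = Ideal.Quotient.mkₐ A (𝔍 ^ 2))

include hσ hi in
lemma exists_rep_i (b : B) : ∃ f : Pq 𝔍 C,
    i b = Ideal.Quotient.mk _ f ∧ qHom 𝔍 2 σ y f = Ideal.Quotient.mk (𝔍 ^ 2) b ∧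
      constantCoeff f = algebraMap B C b := by
  obtain ⟨f, hf⟩ := Ideal.Quotient.mk_surjective (i b)
  have h1 : piN 𝔍 σ y n hn (i b) = Ideal.Quotient.mk (𝔍 ^ 2) b := congr($hi b)
  rw [← hf, piN_mk] at h1
  refine ⟨f, hf.symm, h1, ?_⟩
  rw [← rho_qHom 𝔍 2 σ y hσ f, h1, rho_mk]

include hσ hy hi in
lemma exists_rep_i_mem (j : ↥𝔍) : ∃ f : Pq 𝔍 C,
    f ∈ Vq 𝔍 C ∧ i (j : B) = Ideal.Quotient.mk _ f ∧
      Finsupp.linearCombination C id (lin f) = 𝔍.toCotangent j := by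
  obtain ⟨f, hf1, hf2, hf3⟩ := exists_rep_i 𝔍 σ y n hn hσ i hi (j : B)
  have hfV : f ∈ Vq 𝔍 C := by
    rw [mem_idealOfVars_iff_constantCoeff, hf3]
    exact (algebraMap_eq_zero_iff 𝔍 _).2 j.2
  refine ⟨f, hfV, hf1, ?_⟩
  have h0 : (𝔍 ^ 2).map (Ideal.Quotient.mk (𝔍 ^ 2)) = ⊥ := by
    rw [Ideal.map_eq_bot_iff_le_ker, Ideal.mk_ker]
  -- `q₂ f = q₂ (linX (lin f))`
  have h1 := qHom_mem_pow 𝔍 2 σ y 2 _ (sub_linX_lin_mem f hfV)
  rw [h0, Ideal.mem_bot, map_sub, sub_eq_zero] at h1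
  obtain ⟨z, hz⟩ := 𝔍.toCotangent_surjective (Finsupp.linearCombination C id (lin f))
  have h2 := qHom_linX 𝔍 2 σ y hσ hy (lin f) z hz
  rw [h0, Ideal.mem_bot, sub_eq_zero, ← h1, hf2] at h2
  rw [← hz, Ideal.toCotangent_eq]
  have h3 : (j : B) - (z : B) ∈ 𝔍 ^ 2 := Ideal.Quotient.eq.1 h2
  have : (z : B) - (j : B) = -((j : B) - (z : B)) := by ring
  rw [this]
  exact neg_mem h3

/-- the linear part on the truncated polynomial ring -/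
noncomputable def linQ : Tq 𝔍 C n →ₗ[C] (𝔍.Cotangent →₀ C) :=
  (Submodule.liftQ ((Vq 𝔍 C ^ (n + 1)).restrictScalars C) lin (by
    intro f hf
    exact lin_eq_zero_of_mem f (Ideal.pow_le_pow_right (by omega) hf))) ∘ₗ
  (Submodule.Quotient.restrictScalarsEquiv C (Vq 𝔍 C ^ (n + 1))).symm.toLinearMap

lemma linQ_mk (f : Pq 𝔍 C) :
    linQ 𝔍 (C := C) n hn (Ideal.Quotient.mk _ f) = lin f := rfl

/-- the section of the cotangent module, on `𝔍` -/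
noncomputable def s0 : ↥𝔍 →ₗ[B] (𝔍.Cotangent →₀ C) where
  toFun j := linQ 𝔍 n hn (i (j : B))
  map_add' j j' := by rw [Submodule.coe_add, map_add, map_add]
  map_smul' b j := by
    obtain ⟨g, hg1, -, hg3⟩ := exists_rep_i 𝔍 σ y n hn hσ i hi b
    obtain ⟨f, hfV, hf1, -⟩ := exists_rep_i_mem 𝔍 σ y n hn hσ hy i hi j
    rw [Submodule.coe_smul, smul_eq_mul, map_mul, hg1, hf1, ← map_mul, linQ_mk, linQ_mk,
      RingHom.id_apply]
    have h1 : g * f = (algebraMap B C b) • f + (g - MvPolynomial.C (algebraMap B C b)) * f := by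
      rw [smul_eq_C_mul]; ring
    have h2 : g - MvPolynomial.C (algebraMap B C b) ∈ Vq 𝔍 C := by
      rw [mem_idealOfVars_iff_constantCoeff, map_sub, hg3, constantCoeff_C, sub_self]
    have h3 : (g - MvPolynomial.C (algebraMap B C b)) * f ∈ Vq 𝔍 C ^ 2 := by
      rw [pow_two]
      exact Ideal.mul_mem_mul h2 hfV
    rw [h1, map_add, lin_eq_zero_of_mem _ h3, add_zero, map_smul]
    exact algebraMap_smul C b (lin f)

lemma s0_apply (j : ↥𝔍) : s0 𝔍 σ y n hn hσ hy i hi j = linQ 𝔍 n hn (i (j : B)) := rfl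

/-- the section of the cotangent module, `B`-linear -/
noncomputable def sB : 𝔍.Cotangent →ₗ[B] (𝔍.Cotangent →₀ C) :=
  Submodule.liftQ (𝔍 • (⊤ : Submodule B ↥𝔍)) (s0 𝔍 σ y n hn hσ hy i hi) (by
    rw [Submodule.smul_le]
    intro r hr j _
    rw [LinearMap.mem_ker, map_smul, ← algebraMap_smul C r,
      (algebraMap_eq_zero_iff 𝔍 r).2 hr, zero_smul])

lemma sB_toCotangent (j : ↥𝔍) :
    sB 𝔍 σ y n hn hσ hy i hi (𝔍.toCotangent j) = linQ 𝔍 n hn (i (j : B)) := rfl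

/-- the section of the cotangent module -/
noncomputable def sC : 𝔍.Cotangent →ₗ[C] (𝔍.Cotangent →₀ C) :=
  LinearMap.extendScalarsOfSurjective (IsQuotBy.surj (𝔍 := 𝔍)) (sB 𝔍 σ y n hn hσ hy i hi)

lemma sC_toCotangent (j : ↥𝔍) :
    sC 𝔍 σ y n hn hσ hy i hi (𝔍.toCotangent j) = linQ 𝔍 n hn (i (j : B)) := rfl

theorem sC_section :
    Finsupp.linearCombination C id ∘ₗ sC 𝔍 σ y n hn hσ hy i hi = LinearMap.id := by
  ext ν
  obtain ⟨j, rfl⟩ := 𝔍.toCotangent_surjective ν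
  obtain ⟨f, -, hf1, hf2⟩ := exists_rep_i_mem 𝔍 σ y n hn hσ hy i hi j
  rw [LinearMap.comp_apply, sC_toCotangent, hf1, linQ_mk, hf2, LinearMap.id_apply]

/-- the first order term of the Taylor lift -/
theorem exists_rep_congr (j : ↥𝔍) : ∃ f : Pq 𝔍 C, f ∈ Vq 𝔍 C ∧
    f - ellL (sC 𝔍 σ y n hn hσ hy i hi) (𝔍.toCotangent j) ∈ Vq 𝔍 C ^ 2 ∧
      i (j : B) = Ideal.Quotient.mk _ f := by
  obtain ⟨f, hfV, hf1, -⟩ := exists_rep_i_mem 𝔍 σ y n hn hσ hy i hi j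
  refine ⟨f, hfV, ?_, hf1⟩
  rw [ellL_eq_linX, sC_toCotangent, hf1, linQ_mk]
  exact sub_linX_lin_mem f hfV

include hσ hi in
lemma i_sub_C_mem (b : B) :
    i b - Ideal.Quotient.mk _ (MvPolynomial.C (algebraMap B C b)) ∈
      (Vq 𝔍 C).map (Ideal.Quotient.mk (Vq 𝔍 C ^ (n + 1))) := by
  obtain ⟨g, hg1, -, hg3⟩ := exists_rep_i 𝔍 σ y n hn hσ i hi b
  rw [hg1, ← map_sub]
  apply Ideal.mem_map_of_mem
  rw [mem_idealOfVars_iff_constantCoeff, map_sub, hg3, constantCoeff_C, sub_self]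

include hσ hy hi in
lemma i_mem_pow (d : ℕ) (z : B) (hz : z ∈ 𝔍 ^ d) :
    i z ∈ (Vq 𝔍 C ^ d).map (Ideal.Quotient.mk (Vq 𝔍 C ^ (n + 1))) := by
  have h1 : 𝔍.map i ≤ (Vq 𝔍 C).map (Ideal.Quotient.mk (Vq 𝔍 C ^ (n + 1))) := by
    rw [Ideal.map_le_iff_le_comap]
    intro j hj
    rw [Ideal.mem_comap]
    obtain ⟨f, hfV, hf1, -⟩ := exists_rep_i_mem 𝔍 σ y n hn hσ hy i hi ⟨j, hj⟩
    change i j = _ at hf1
    rw [hf1]
    exact Ideal.mem_map_of_mem _ hfV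
  have h2 : (𝔍 ^ d).map i ≤ (Vq 𝔍 C ^ d).map (Ideal.Quotient.mk (Vq 𝔍 C ^ (n + 1))) := by
    rw [Ideal.map_pow, Ideal.map_pow]
    exact Ideal.pow_right_mono h1 d
  exact h2 (Ideal.mem_map_of_mem _ hz)

end Taylor

end Groth.Agent.Helper7.AdSm
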