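import Mathlib
import Groth.Prelude.Def_PP16
import Groth.Agent.Helper7.AdSm3

/-!
# Adic formal smoothness implies: cotangent module projective, `Sym ≅ gr` (conclusion)
-/

set_option autoImplicit false
set_option linter.unusedSectionVars false
universe u v w

namespace Groth.Agent.Helper7.AdSm

open PP16 SymT QLoc MvPolynomial

section Inj

variable {A B C : Type u} [CommRing A] [CommRing B] [CommRing C] [Algebra A B]
  [Algebra A C] [Algebra B C] [IsScalarTower A B C] (𝔍 : Ideal B) [IsQuotBy 𝔍 C]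
  (ι : Type u) [Fintype ι] [Nonempty ι]
  (σ : C →ₐ[A] B ⧸ 𝔍 ^ 2) (y : 𝔍.Cotangent → ↥𝔍)
  (hσ : (rho A C 𝔍 2).comp σ = AlgHom.id A C)
  [Module C 𝔍.Cotangent] [IsScalarTower B C 𝔍.Cotangent]
  (hy : ∀ ν, 𝔍.toCotangent (y ν) = ν)
  (hn : 1 ≤ Fintype.card ι)
  (i : B →ₐ[A] Tq 𝔍 C (Fintype.card ι))
  (hi : (piN 𝔍 σ y (Fintype.card ι) hn).comp i = Ideal.Quotient.mkₐ A (𝔍 ^ 2))

lemma exists_rep_sym (t : SymmetricPower B ι 𝔍.Cotangent) :
    ∃ z : ↥(𝔍 ^ Fintype.card ι), symToGrJ B 𝔍 ι t = qJ B 𝔍 ι z ∧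
      Ideal.Quotient.mk (Vq 𝔍 C ^ (Fintype.card ι + 1))
        (ΘL (ι := ι) (sC 𝔍 σ y (Fintype.card ι) hn hσ hy i hi) (toQ (R' := C) t)) = i (z : B) := by
  have ht : t ∈ Submodule.span B
      (Set.range (SymmetricPower.tprod B (ι := ι) (M := 𝔍.Cotangent))) := by
    rw [SymmetricPower.span_tprod_eq_top]
    exact Submodule.mem_top
  induction ht using Submodule.span_induction with
  | mem t ht =>
    obtain ⟨v, rfl⟩ := ht
    choose x hx using fun k => 𝔍.toCotangent_surjective (v k)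
    have hv : v = fun k => 𝔍.toCotangent (x k) := funext fun k => (hx k).symm
    refine ⟨prodI 𝔍 x, ?_, ?_⟩
    · rw [hv]
      exact symToGrJ_tprod' B 𝔍 ι x
    · rw [toQ_tprod, ΘL_tprod, prodI_val]
      choose f hf1 hf2 hf3 using fun k =>
        exists_rep_congr 𝔍 σ y (Fintype.card ι) hn hσ hy i hi (x k)
      have e1 : i (∏ k, (x k : B)) = ∏ k, i (x k : B) := map_prod i _ _
      rw [e1]
      simp_rw [hf3]
      have e2 : ∏ k, Ideal.Quotient.mk (Vq 𝔍 C ^ (Fintype.card ι + 1)) (f k) =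
          Ideal.Quotient.mk (Vq 𝔍 C ^ (Fintype.card ι + 1)) (∏ k, f k) :=
        (map_prod (Ideal.Quotient.mk (Vq 𝔍 C ^ (Fintype.card ι + 1))) f Finset.univ).symm
      rw [e2, Ideal.Quotient.eq]
      have := prod_sub_prod_mem (Vq 𝔍 C) (Finset.univ : Finset ι)
        (fun k => ellL (sC 𝔍 σ y (Fintype.card ι) hn hσ hy i hi) (v k)) f
        (fun k _ => ellL_mem _ _) (fun k _ => hf1 k) (fun k _ => by
          rw [← hx k]
          have h := hf2 k
          rw [← neg_sub]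
          exact neg_mem h)
      rwa [Finset.card_univ] at this
  | zero =>
    exact ⟨0, by rw [map_zero, map_zero], by
      rw [map_zero, map_zero, map_zero, Submodule.coe_zero, map_zero]⟩
  | add t t' _ _ h h' =>
    obtain ⟨z, hz1, hz2⟩ := h
    obtain ⟨z', hz1', hz2'⟩ := h'
    exact ⟨z + z', by rw [map_add, map_add, hz1, hz1'], by
      rw [map_add, map_add, map_add, hz2, hz2', Submodule.coe_add, map_add]⟩
  | smul b t _ h =>
    obtain ⟨z, hz1, hz2⟩ := h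
    refine ⟨b • z, by rw [map_smul, map_smul, hz1], ?_⟩
    rw [toQ_smul, map_smul, smul_eq_C_mul, map_mul, hz2, Submodule.coe_smul, smul_eq_mul, map_mul]
    have h1 := i_sub_C_mem 𝔍 σ y (Fintype.card ι) hn hσ i hi b
    have h2 := i_mem_pow 𝔍 σ y (Fintype.card ι) hn hσ hy i hi (Fintype.card ι) (z : B) z.2
    have h3 : (i b - Ideal.Quotient.mk _ (MvPolynomial.C (algebraMap B C b))) * i (z : B) ∈
        (Vq 𝔍 C).map (Ideal.Quotient.mk (Vq 𝔍 C ^ (Fintype.card ι + 1))) *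
          (Vq 𝔍 C ^ Fintype.card ι).map (Ideal.Quotient.mk (Vq 𝔍 C ^ (Fintype.card ι + 1))) :=
      Ideal.mul_mem_mul h1 h2
    rw [← Ideal.map_mul, ← pow_succ', Ideal.map_quotient_self,
      Ideal.mem_bot, sub_mul, sub_eq_zero] at h3
    exact h3.symm

include σ y hσ hy hn i hi in
theorem symToGrJ_injective_of_lift : Function.Injective (symToGrJ B 𝔍 ι) := by
  rw [injective_iff_map_eq_zero]
  intro t ht
  obtain ⟨z, hz1, hz2⟩ := exists_rep_sym 𝔍 ι σ y hσ hy hn i hi t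
  rw [ht] at hz1
  have hz : (z : B) ∈ 𝔍 ^ (Fintype.card ι + 1) := (qJ_eq_zero_iff B 𝔍 ι z).1 hz1.symm
  have h1 := i_mem_pow 𝔍 σ y (Fintype.card ι) hn hσ hy i hi (Fintype.card ι + 1) (z : B) hz
  rw [Ideal.map_quotient_self, Ideal.mem_bot] at h1
  rw [h1, Ideal.Quotient.eq_zero_iff_mem] at hz2
  have h2 := eq_zero_of_isHomogeneous_of_mem _ _ (ΘL_isHomogeneous _ _) hz2
  have h3 : toQ (R' := C) t = 0 :=
    ΘL_injective (sC 𝔍 σ y (Fintype.card ι) hn hσ hy i hi) (Finsupp.linearCombination C id)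
      (sC_section 𝔍 σ y (Fintype.card ι) hn hσ hy i hi) (by rw [h2, map_zero])
  exact toQ_injective (IsQuotBy.surj (𝔍 := 𝔍) (C := C)) (by rw [h3, map_zero])

end Inj

section Main

variable {A B : Type u} (C : Type u) [CommRing A] [CommRing B] [CommRing C] [Algebra A B]
  [Algebra A C] [Algebra B C] [IsScalarTower A B C] (𝔍 : Ideal B) [IsQuotBy 𝔍 C]
  [Module C 𝔍.Cotangent] [IsScalarTower B C 𝔍.Cotangent]
  [Algebra.FormallySmooth A C]

theorem projective_cotangent_of_adic (hB : CAlgX.IsAdicFormallySmooth A B 𝔍) :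
    Module.Projective C 𝔍.Cotangent := by
  obtain ⟨σ, hσ⟩ := exists_sigma A C 𝔍 2
  let y : 𝔍.Cotangent → ↥𝔍 := fun ν => (𝔍.toCotangent_surjective ν).choose
  have hy : ∀ ν, 𝔍.toCotangent (y ν) = ν := fun ν => (𝔍.toCotangent_surjective ν).choose_spec
  obtain ⟨i, hi⟩ := exists_iN 𝔍 σ y 1 le_rfl hσ hy hB
  exact Module.Projective.of_split (sC 𝔍 σ y 1 le_rfl hσ hy i hi)
    (Finsupp.linearCombination C id) (sC_section 𝔍 σ y 1 le_rfl hσ hy i hi)

omit [CommRing A] [CommRing B] [CommRing C] [Algebra A B] [Algebra A C] [Algebra B C]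
  [IsScalarTower A B C] [IsQuotBy 𝔍 C] [Module C 𝔍.Cotangent] [IsScalarTower B C 𝔍.Cotangent]
  [Algebra.FormallySmooth A C] in
theorem symGrBijective_of_adic {A B : Type u} (C : Type u) [CommRing A] [CommRing B] [CommRing C]
    [Algebra A B] [Algebra A C] [Algebra B C] [IsScalarTower A B C] (𝔍 : Ideal B) [IsQuotBy 𝔍 C]
    [Module C 𝔍.Cotangent] [IsScalarTower B C 𝔍.Cotangent] [Algebra.FormallySmooth A C]
    (hB : CAlgX.IsAdicFormallySmooth A B 𝔍) :
    SymGrBijective B 𝔍 := by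
  rw [symGrBijective_iff]
  intro ι _ _
  obtain ⟨σ, hσ⟩ := exists_sigma A C 𝔍 2
  let y : 𝔍.Cotangent → ↥𝔍 := fun ν => (𝔍.toCotangent_surjective ν).choose
  have hy : ∀ ν, 𝔍.toCotangent (y ν) = ν := fun ν => (𝔍.toCotangent_surjective ν).choose_spec
  have hn : 1 ≤ Fintype.card ι := Fintype.card_pos
  obtain ⟨i, hi⟩ := exists_iN 𝔍 σ y (Fintype.card ι) hn hσ hy hB
  exact symToGrJ_injective_of_lift 𝔍 ι σ y hσ hy hn i hi

end Main

end Groth.Agent.Helper7.AdSm
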