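import Mathlib
import Groth.Prelude.Def_PP16
import Groth.Agent.Helper7.AdSm4

/-!
# Projective cotangent module and `Sym ≅ gr` imply adic formal smoothness: the kernel of the chart
-/

set_option autoImplicit false
set_option linter.unusedSectionVars false
universe u v w

namespace Groth.Agent.Helper7.AdSm

open PP16 SymT QLoc MvPolynomial

section Eps

variable {C : Type u} [CommRing C] {N : Type u} [AddCommGroup N] [Module C N]
  (s : N →ₗ[C] N →₀ C) (hs : Finsupp.linearCombination C id ∘ₗ s = LinearMap.id)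

/-- the idempotent endomorphism of `C[X_ν]` attached to a dual basis -/
noncomputable def eps : MvPolynomial N C →ₐ[C] MvPolynomial N C := aeval (fun ν => ellL s ν)

lemma eps_X (ν : N) : eps s (X ν) = ellL s ν := aeval_X _ _

lemma eps_C (c : C) : eps s (MvPolynomial.C c) = MvPolynomial.C c := by
  rw [eps, aeval_C]
  rfl

lemma eps_linX (a : N →₀ C) : eps s (linX a) = ellL s (Finsupp.linearCombination C id a) := by
  induction a using Finsupp.induction_linear with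
  | zero => simp
  | add f g hf hg => rw [map_add, map_add, hf, hg, map_add, map_add]
  | single ν c =>
    rw [linX_single, map_smul, eps_X, Finsupp.linearCombination_single, id, map_smul]

include hs in
lemma eps_ellL (x : N) : eps s (ellL s x) = ellL s x := by
  rw [ellL_eq_linX, eps_linX, ← ellL_eq_linX]
  have : Finsupp.linearCombination C id (s x) = x := congr($hs x)
  rw [this]

include hs in
lemma eps_eps (p : MvPolynomial N C) : eps s (eps s p) = eps s p := by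
  have : (eps s).comp (eps s) = eps s := by
    apply MvPolynomial.algHom_ext
    intro ν
    rw [AlgHom.comp_apply, eps_X, eps_ellL s hs]
  exact congr($this p)

lemma map_eps_le : (idealOfVars N C).map (eps s) ≤ idealOfVars N C := by
  rw [idealOfVars, Ideal.map_span, Ideal.span_le]
  rintro _ ⟨_, ⟨ν, rfl⟩, rfl⟩
  change eps s (X ν) ∈ _
  rw [eps_X]
  exact ellL_mem s ν

lemma eps_mem_pow (d : ℕ) (p : MvPolynomial N C) (hp : p ∈ idealOfVars N C ^ d) :
    eps s p ∈ idealOfVars N C ^ d := by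
  have h1 : (idealOfVars N C ^ d).map (eps s) ≤ idealOfVars N C ^ d := by
    rw [Ideal.map_pow]
    exact Ideal.pow_right_mono (map_eps_le s) d
  exact h1 (Ideal.mem_map_of_mem _ hp)

lemma eps_isHomogeneous {p : MvPolynomial N C} {d : ℕ} (hp : p.IsHomogeneous d) :
    (eps s p).IsHomogeneous d := by
  have := hp.aeval (fun ν => ellL s ν) (n := 1) (fun ν => ellL_isHomogeneous s ν)
  rw [one_mul] at this
  exact this

variable {ι : Type u} [Fintype ι]

lemma ΘL_ΨL_monomial (f : ι → N) (c : C) :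
    ΘL (ι := ι) s (ΨL (ι := ι) (Finsupp.linearCombination C id) (monomial (cnt f) c)) =
      eps s (monomial (cnt f) c) := by
  have h0 : monomial (cnt f) c = c • monomial (cnt f) (1 : C) := by
    rw [smul_monomial, smul_eq_mul, mul_one]
  rw [h0, map_smul, map_smul, map_smul]
  congr 1
  rw [ΨL, LinearMap.comp_apply, Ψ_monomial, map_tprod, ΘL_tprod, ← prod_X_eq_monomial, map_prod]
  apply Finset.prod_congr rfl
  intro k _
  rw [eps_X]
  congr 1
  change Finsupp.linearCombination C id (Finsupp.single (f k) 1) = f k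
  rw [Finsupp.linearCombination_single, one_smul, id]

lemma ΘL_ΨL_of_isHomogeneous (h : MvPolynomial N C) (hh : h.IsHomogeneous (Fintype.card ι)) :
    ΘL (ι := ι) s (ΨL (ι := ι) (Finsupp.linearCombination C id) h) = eps s h := by
  conv_lhs => rw [h.as_sum]
  conv_rhs => rw [h.as_sum]
  rw [map_sum, map_sum, map_sum]
  apply Finset.sum_congr rfl
  intro x hx
  have hdeg : x.degree = Fintype.card ι := by
    by_contra hne
    exact (mem_support_iff.1 hx) (hh.coeff_eq_zero hne)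
  obtain ⟨f, rfl⟩ := exists_cnt_eq' (ι := ι) x hdeg
  exact ΘL_ΨL_monomial s f _

end Eps

section Ker

variable {A B C : Type u} [CommRing A] [CommRing B] [CommRing C] [Algebra A B]
  [Algebra A C] [Algebra B C] [IsScalarTower A B C] (𝔍 : Ideal B) [IsQuotBy 𝔍 C]
  (e : ℕ) [NeZero e]
  (σ : C →ₐ[A] B ⧸ 𝔍 ^ e) (y : 𝔍.Cotangent → ↥𝔍)
  (hσ : (rho A C 𝔍 e).comp σ = AlgHom.id A C)
  [Module C 𝔍.Cotangent] [IsScalarTower B C 𝔍.Cotangent]
  (hy : ∀ ν, 𝔍.toCotangent (y ν) = ν)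
  (s : 𝔍.Cotangent →ₗ[C] 𝔍.Cotangent →₀ C)
  (hs : Finsupp.linearCombination C id ∘ₗ s = LinearMap.id)

include hσ hy hs in
lemma qHom_ellL (z : ↥𝔍) :
    qHom 𝔍 e σ y (ellL s (𝔍.toCotangent z)) - Ideal.Quotient.mk (𝔍 ^ e) (z : B) ∈
      (𝔍 ^ 2).map (Ideal.Quotient.mk (𝔍 ^ e)) := by
  rw [ellL_eq_linX]
  apply qHom_linX 𝔍 e σ y hσ hy
  exact (congr($hs (𝔍.toCotangent z))).symm

lemma qHom_ellL_mem (x : 𝔍.Cotangent) :
    qHom 𝔍 e σ y (ellL s x) ∈ 𝔍.map (Ideal.Quotient.mk (𝔍 ^ e)) := by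
  have := qHom_mem_pow 𝔍 e σ y 1 (ellL s x) (by rw [pow_one]; exact ellL_mem s x)
  rwa [pow_one] at this

variable (ι : Type u) [Fintype ι] [Nonempty ι]

include hσ hy hs in
lemma exists_rep_q (t : SymmetricPower B ι 𝔍.Cotangent) :
    ∃ z : ↥(𝔍 ^ Fintype.card ι), symToGrJ B 𝔍 ι t = qJ B 𝔍 ι z ∧
      qHom 𝔍 e σ y (ΘL (ι := ι) s (toQ (R' := C) t)) - Ideal.Quotient.mk (𝔍 ^ e) (z : B) ∈
        (𝔍 ^ (Fintype.card ι + 1)).map (Ideal.Quotient.mk (𝔍 ^ e)) := by
  have ht : t ∈ Submodule.span B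
      (Set.range (SymmetricPower.tprod B (ι := ι) (M := 𝔍.Cotangent))) := by
    rw [SymmetricPower.span_tprod_eq_top]
    exact Submodule.mem_top
  induction ht using Submodule.span_induction with
  | mem t ht =>
    obtain ⟨v, rfl⟩ := ht
    choose x hx using fun k => 𝔍.toCotangent_surjective (v k)
    have hv : v = fun k => 𝔍.toCotangent (x k) := funext fun k => (hx k).symm
    refine ⟨prodI 𝔍 x, ?_, ?_⟩
    · rw [hv]
      exact symToGrJ_tprod' B 𝔍 ι x
    · rw [toQ_tprod, ΘL_tprod, prodI_val, map_prod, map_prod]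
      have := prod_sub_prod_mem (𝔍.map (Ideal.Quotient.mk (𝔍 ^ e))) (Finset.univ : Finset ι)
        (fun k => qHom 𝔍 e σ y (ellL s (v k))) (fun k => Ideal.Quotient.mk (𝔍 ^ e) (x k : B))
        (fun k _ => qHom_ellL_mem 𝔍 e σ y s (v k))
        (fun k _ => Ideal.mem_map_of_mem _ (x k).2) (fun k _ => by
          rw [← hx k, ← Ideal.map_pow]
          exact qHom_ellL 𝔍 e σ y hσ hy s hs (x k))
      rwa [Finset.card_univ, ← Ideal.map_pow] at this
  | zero =>
    exact ⟨0, by rw [map_zero, map_zero], by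
      rw [map_zero, map_zero, map_zero, Submodule.coe_zero, map_zero, sub_zero]
      exact zero_mem _⟩
  | add t t' _ _ h h' =>
    obtain ⟨z, hz1, hz2⟩ := h
    obtain ⟨z', hz1', hz2'⟩ := h'
    refine ⟨z + z', by rw [map_add, map_add, hz1, hz1'], ?_⟩
    have : qHom 𝔍 e σ y (ΘL (ι := ι) s (toQ (R' := C) (t + t'))) -
        Ideal.Quotient.mk (𝔍 ^ e) ((z + z' : ↥(𝔍 ^ Fintype.card ι)) : B) =
        (qHom 𝔍 e σ y (ΘL (ι := ι) s (toQ (R' := C) t)) - Ideal.Quotient.mk (𝔍 ^ e) (z : B)) +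
        (qHom 𝔍 e σ y (ΘL (ι := ι) s (toQ (R' := C) t')) - Ideal.Quotient.mk (𝔍 ^ e) (z' : B)) := by
      rw [map_add, map_add, map_add, Submodule.coe_add, map_add]
      ring
    rw [this]
    exact add_mem hz2 hz2'
  | smul b t _ h =>
    obtain ⟨z, hz1, hz2⟩ := h
    refine ⟨b • z, by rw [map_smul, map_smul, hz1], ?_⟩
    rw [toQ_smul, map_smul, qHom_smul, Submodule.coe_smul, smul_eq_mul, map_mul]
    have h1 := sigma_sub_mk 𝔍 e σ hσ b
    have h2 : Ideal.Quotient.mk (𝔍 ^ e) (z : B) ∈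
        (𝔍 ^ Fintype.card ι).map (Ideal.Quotient.mk (𝔍 ^ e)) := Ideal.mem_map_of_mem _ z.2
    have h3 : σ (algebraMap B C b) * qHom 𝔍 e σ y (ΘL (ι := ι) s (toQ (R' := C) t)) -
        Ideal.Quotient.mk (𝔍 ^ e) b * Ideal.Quotient.mk (𝔍 ^ e) (z : B) =
        σ (algebraMap B C b) *
          (qHom 𝔍 e σ y (ΘL (ι := ι) s (toQ (R' := C) t)) - Ideal.Quotient.mk (𝔍 ^ e) (z : B)) +
        (σ (algebraMap B C b) - Ideal.Quotient.mk (𝔍 ^ e) b) *
          Ideal.Quotient.mk (𝔍 ^ e) (z : B) := by ring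
    rw [h3]
    refine add_mem (Ideal.mul_mem_left _ _ hz2) ?_
    have h4 : (𝔍 ^ (Fintype.card ι + 1)).map (Ideal.Quotient.mk (𝔍 ^ e)) =
        𝔍.map (Ideal.Quotient.mk (𝔍 ^ e)) *
          (𝔍 ^ Fintype.card ι).map (Ideal.Quotient.mk (𝔍 ^ e)) := by
      rw [← Ideal.map_mul, ← pow_succ']
    rw [h4]
    exact Ideal.mul_mem_mul h1 h2

include hσ hy hs in
/-- a homogeneous polynomial of degree `n < e` fixed by `ε` and mapped into `𝔍^(n+1)` vanishes -/
lemma homog_eq_zero (hsym : Function.Injective (symToGrJ B 𝔍 ι))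
    (hcard : Fintype.card ι + 1 ≤ e) (h : Pq 𝔍 C)
    (hh : h.IsHomogeneous (Fintype.card ι)) (hεh : eps s h = h)
    (hqh : qHom 𝔍 e σ y h ∈ (𝔍 ^ (Fintype.card ι + 1)).map (Ideal.Quotient.mk (𝔍 ^ e))) :
    h = 0 := by
  obtain ⟨t, ht⟩ := toQ_surjective (ι := ι) (M := 𝔍.Cotangent) (IsQuotBy.surj (𝔍 := 𝔍) (C := C))
    (ΨL (ι := ι) (Finsupp.linearCombination C id) h)
  obtain ⟨z, hz1, hz2⟩ := exists_rep_q 𝔍 e σ y hσ hy s hs ι t
  rw [ht, ΘL_ΨL_of_isHomogeneous s h hh, hεh] at hz2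
  have h1 : Ideal.Quotient.mk (𝔍 ^ e) (z : B) ∈
      (𝔍 ^ (Fintype.card ι + 1)).map (Ideal.Quotient.mk (𝔍 ^ e)) := by
    have := sub_mem hqh hz2
    rwa [sub_sub_cancel] at this
  have h2 : (z : B) ∈ 𝔍 ^ (Fintype.card ι + 1) := mem_map_mk_pow 𝔍 e _ hcard _ h1
  have h3 : symToGrJ B 𝔍 ι t = 0 := by
    rw [hz1]
    exact (qJ_eq_zero_iff B 𝔍 ι z).2 h2
  have h4 : t = 0 := hsym (by rw [h3, map_zero])
  rw [h4, map_zero] at ht
  have h5 := ΘL_ΨL_of_isHomogeneous s h hh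
  rw [← ht, map_zero, hεh] at h5
  exact h5.symm

end Ker

end Groth.Agent.Helper7.AdSm
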