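import Mathlib
import Groth.Prelude.Def_PP16
import Groth.Agent.Helper7.AdSm5

/-!
# Projective cotangent module and `Sym ≅ gr` imply adic formal smoothness
-/

set_option autoImplicit false
set_option linter.unusedSectionVars false
universe u v w

namespace Groth.Agent.Helper7.AdSm

open PP16 SymT QLoc MvPolynomial

section KerThm

variable {A B C : Type u} [CommRing A] [CommRing B] [CommRing C] [Algebra A B]
  [Algebra A C] [Algebra B C] [IsScalarTower A B C] (𝔍 : Ideal B) [IsQuotBy 𝔍 C]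
  (e : ℕ) [NeZero e]
  (σ : C →ₐ[A] B ⧸ 𝔍 ^ e) (y : 𝔍.Cotangent → ↥𝔍)
  (hσ : (rho A C 𝔍 e).comp σ = AlgHom.id A C)
  [Module C 𝔍.Cotangent] [IsScalarTower B C 𝔍.Cotangent]
  (hy : ∀ ν, 𝔍.toCotangent (y ν) = ν)
  (s : 𝔍.Cotangent →ₗ[C] 𝔍.Cotangent →₀ C)
  (hs : Finsupp.linearCombination C id ∘ₗ s = LinearMap.id)
  (hsym : ∀ (ι : Type u) [Fintype ι] [Nonempty ι], Function.Injective (symToGrJ B 𝔍 ι))

include hσ hy hs hsym in
/-- elements of the kernel of the chart fixed by `ε` lie in a high power of the variables -/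
theorem mem_pow_of_fixed (d : ℕ) (hd : d ≤ e) (g : Pq 𝔍 C) (hg1 : eps s g = g)
    (hg2 : qHom 𝔍 e σ y g = 0) : g ∈ Vq 𝔍 C ^ d := by
  induction d with
  | zero =>
    rw [pow_zero, Ideal.one_eq_top]
    exact Submodule.mem_top
  | succ d ih =>
    have hgd := ih (by omega)
    obtain ⟨h, hh⟩ : ∃ h, h = homogeneousComponent d g := ⟨_, rfl⟩
    have hhom : h.IsHomogeneous d := by
      rw [hh]
      exact homogeneousComponent_isHomogeneous d g
    have hgh : g - h ∈ Vq 𝔍 C ^ (d + 1) := by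
      rw [mem_pow_idealOfVars_iff']
      intro x hx
      rw [coeff_sub, hh, coeff_homogeneousComponent]
      by_cases hxd : x.degree = d
      · rw [if_pos hxd, sub_self]
      · rw [if_neg hxd, sub_zero]
        exact (mem_pow_idealOfVars_iff' d g).1 hgd x (by omega)
    have hεh : eps s h = h := by
      have h1 : eps s h - h ∈ Vq 𝔍 C ^ (d + 1) := by
        have : eps s h - h = (g - h) - eps s (g - h) := by
          rw [map_sub, hg1]; ring
        rw [this]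
        exact sub_mem hgh (eps_mem_pow s _ _ hgh)
      have h2 : (eps s h - h).IsHomogeneous d := (eps_isHomogeneous s hhom).sub hhom
      exact sub_eq_zero.1 (eq_zero_of_isHomogeneous_of_mem d _ h2 h1)
    have hqh : qHom 𝔍 e σ y h ∈ (𝔍 ^ (d + 1)).map (Ideal.Quotient.mk (𝔍 ^ e)) := by
      have : qHom 𝔍 e σ y h = - qHom 𝔍 e σ y (g - h) := by
        rw [map_sub, hg2]; ring
      rw [this]
      exact neg_mem (qHom_mem_pow 𝔍 e σ y (d + 1) _ hgh)
    have hzero : h = 0 := by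
      rcases Nat.eq_zero_or_pos d with hd0 | hdpos
      · subst hd0
        rw [homogeneousComponent_zero] at hh
        rw [hh, qHom_C, zero_add, pow_one, ← ker_rho A C 𝔍 e, RingHom.mem_ker] at hqh
        change rho A C 𝔍 e (σ (coeff 0 g)) = 0 at hqh
        rw [rho_sigma 𝔍 e σ hσ] at hqh
        rw [hh, hqh, map_zero]
      · obtain ⟨d', rfl⟩ := Nat.exists_eq_succ_of_ne_zero (Nat.pos_iff_ne_zero.1 hdpos)
        have hc := card_ulift_fin.{u} (d' + 1)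
        haveI : Nonempty (ULift.{u} (Fin (d' + 1))) := ⟨⟨0⟩⟩
        exact homog_eq_zero 𝔍 e σ y hσ hy s hs (ULift.{u} (Fin (d' + 1)))
          (hsym (ULift.{u} (Fin (d' + 1)))) (by rw [hc]; exact hd) h (by rw [hc]; exact hhom) hεh
          (by rw [hc]; exact hqh)
    rw [hzero, sub_zero] at hgh
    exact hgh

end KerThm

section Final

variable {A B : Type u} (C : Type u) [CommRing A] [CommRing B] [CommRing C] [Algebra A B]
  [Algebra A C] [Algebra B C] [IsScalarTower A B C] (𝔍 : Ideal B) [IsQuotBy 𝔍 C]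
  [Module C 𝔍.Cotangent] [IsScalarTower B C 𝔍.Cotangent]
  [Algebra.FormallySmooth A C]

theorem adic_of_projective_of_sym (hproj : Module.Projective C 𝔍.Cotangent)
    (hsym' : SymGrBijective B 𝔍) : CAlgX.IsAdicFormallySmooth A B 𝔍 := by
  have hsym := (symGrBijective_iff B 𝔍).1 hsym'
  obtain ⟨s, hs⟩ := Module.projective_def'.1 hproj
  intro E _ _ K hK ψ ⟨k, hk⟩
  obtain ⟨e, he⟩ : ∃ e, e = 2 * (k + 1) := ⟨_, rfl⟩
  haveI : NeZero e := ⟨by omega⟩
  obtain ⟨σ, hσ⟩ := exists_sigma A C 𝔍 e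
  -- first choice of lifts
  let y₀ : 𝔍.Cotangent → ↥𝔍 := fun ν => (𝔍.toCotangent_surjective ν).choose
  have hy₀ : ∀ ν, 𝔍.toCotangent (y₀ ν) = ν := fun ν => (𝔍.toCotangent_surjective ν).choose_spec
  -- linear choice of lifts
  have hex : ∀ ν : 𝔍.Cotangent, ∃ j : B, j ∈ 𝔍 ∧
      Ideal.Quotient.mk (𝔍 ^ e) j = qHom 𝔍 e σ y₀ (ellL s ν) := fun ν =>
    (Ideal.mem_map_iff_of_surjective _ Ideal.Quotient.mk_surjective).1 (qHom_ellL_mem 𝔍 e σ y₀ s ν)
  choose y1 hy1 hy2 using hex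
  let y : 𝔍.Cotangent → ↥𝔍 := fun ν => ⟨y1 ν, hy1 ν⟩
  have hy : ∀ ν, 𝔍.toCotangent (y ν) = ν := by
    intro ν
    have h1 := qHom_ellL 𝔍 e σ y₀ hσ hy₀ s hs (y₀ ν)
    rw [hy₀, ← hy2, ← map_sub] at h1
    have h2 : y1 ν - (y₀ ν : B) ∈ 𝔍 ^ 2 := mem_map_mk_pow 𝔍 e 2 (by omega) _ h1
    have h3 : 𝔍.toCotangent (y ν) = 𝔍.toCotangent (y₀ ν) := by
      rw [Ideal.toCotangent_eq]
      exact h2
    rw [h3, hy₀]
  have hqX : ∀ ν, qHom 𝔍 e σ y (X ν) = qHom 𝔍 e σ y₀ (ellL s ν) := by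
    intro ν
    rw [qHom_X]
    exact hy2 ν
  have hqlin : ∀ a : 𝔍.Cotangent →₀ C, qHom 𝔍 e σ y (linX a) =
      qHom 𝔍 e σ y₀ (ellL s (Finsupp.linearCombination C id a)) := by
    intro a
    induction a using Finsupp.induction_linear with
    | zero => simp
    | add f g hf hg => rw [map_add, map_add, hf, hg, map_add, map_add, map_add]
    | single ν c =>
      rw [linX_single, qHom_smul, hqX, Finsupp.linearCombination_single, id, map_smul, qHom_smul]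
  have hqε : ∀ p, qHom 𝔍 e σ y (eps s p) = qHom 𝔍 e σ y p := by
    have : ((qHom 𝔍 e σ y : Pq 𝔍 C →+* B ⧸ 𝔍 ^ e).comp (eps s : Pq 𝔍 C →+* Pq 𝔍 C)) =
        (qHom 𝔍 e σ y : Pq 𝔍 C →+* B ⧸ 𝔍 ^ e) := by
      apply MvPolynomial.ringHom_ext
      · intro c
        rw [RingHom.comp_apply]
        change qHom 𝔍 e σ y (eps s (MvPolynomial.C c)) = qHom 𝔍 e σ y (MvPolynomial.C c)
        rw [eps_C]
      · intro ν
        rw [RingHom.comp_apply]
        change qHom 𝔍 e σ y (eps s (X ν)) = qHom 𝔍 e σ y (X ν)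
        rw [eps_X, ellL_eq_linX, hqlin, hqX]
        have : Finsupp.linearCombination C id (s ν) = ν := congr($hs ν)
        rw [this]
    intro p
    exact congr($this p)
  have hqsurj := qHom_surjective 𝔍 e σ y hσ hy
  -- the map to lift
  have hk' : ∀ x ∈ 𝔍 ^ e, ψ x = 0 := fun x hx =>
    hk x (Ideal.pow_le_pow_right (by omega) hx)
  let ψbar : B ⧸ 𝔍 ^ e →ₐ[A] E ⧸ K := Ideal.Quotient.liftₐ (𝔍 ^ e) ψ hk'
  have hψbar : ∀ b, ψbar (Ideal.Quotient.mk (𝔍 ^ e) b) = ψ b := fun b => rfl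
  haveI : Algebra.FormallySmooth A (Pq 𝔍 C) := Algebra.FormallySmooth.comp A C (Pq 𝔍 C)
  let Φ : Pq 𝔍 C →ₐ[A] E := Algebra.FormallySmooth.lift K ⟨2, hK⟩ (ψbar.comp (qHom 𝔍 e σ y))
  have hΦ : ∀ p, Ideal.Quotient.mk K (Φ p) = ψbar (qHom 𝔍 e σ y p) := fun p =>
    Algebra.FormallySmooth.mk_lift K ⟨2, hK⟩ (ψbar.comp (qHom 𝔍 e σ y)) p
  have hΦV : ∀ p ∈ Vq 𝔍 C ^ (k + 1), Φ p ∈ K := by
    intro p hp
    rw [← Ideal.Quotient.eq_zero_iff_mem, hΦ]
    obtain ⟨z, hz, hzp⟩ := (Ideal.mem_map_iff_of_surjective _ Ideal.Quotient.mk_surjective).1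
      (qHom_mem_pow 𝔍 e σ y (k + 1) p hp)
    rw [← hzp, hψbar]
    exact hk z (Ideal.pow_le_pow_right (by omega) hz)
  have hΦV2 : ∀ p ∈ Vq 𝔍 C ^ e, Φ p = 0 := by
    intro p hp
    rw [he, two_mul, pow_add] at hp
    have h1 : (Vq 𝔍 C ^ (k + 1) * Vq 𝔍 C ^ (k + 1)).map Φ ≤ K ^ 2 := by
      rw [Ideal.map_mul, pow_two]
      apply Ideal.mul_mono <;>
      · rw [Ideal.map_le_iff_le_comap]
        intro p hp
        exact hΦV p hp
    have h2 := h1 (Ideal.mem_map_of_mem _ hp)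
    rwa [hK, Ideal.mem_bot] at h2
  let Φε : Pq 𝔍 C →ₐ[A] E := Φ.comp ((eps s).restrictScalars A)
  have hker : RingHom.ker (qHom 𝔍 e σ y).toRingHom ≤ RingHom.ker Φε.toRingHom := by
    intro p hp
    rw [RingHom.mem_ker] at hp ⊢
    change qHom 𝔍 e σ y p = 0 at hp
    change Φ (eps s p) = 0
    apply hΦV2
    exact mem_pow_of_fixed 𝔍 e σ y hσ hy s hs hsym e le_rfl (eps s p) (eps_eps s hs p)
      (by rw [hqε, hp])
  let χ' : B ⧸ 𝔍 ^ e →ₐ[A] E := AlgHom.liftOfSurjective (qHom 𝔍 e σ y) hqsurj Φε hker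
  have hχ' : ∀ p, χ' (qHom 𝔍 e σ y p) = Φ (eps s p) := fun p =>
    AlgHom.liftOfSurjective_apply (qHom 𝔍 e σ y) hqsurj Φε hker p
  refine ⟨χ'.comp (Ideal.Quotient.mkₐ A (𝔍 ^ e)), ?_⟩
  ext b
  obtain ⟨p, hp⟩ := hqsurj (Ideal.Quotient.mk (𝔍 ^ e) b)
  change Ideal.Quotient.mk K (χ' (Ideal.Quotient.mk (𝔍 ^ e) b)) = ψ b
  rw [← hp, hχ', hΦ, hqε, hp, hψbar]

end Final

end Groth.Agent.Helper7.AdSm
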