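import Mathlib
import Groth.Agent.Helper7.AdJac2
import Groth.Agent.Helper8.GeomReg9
import Groth.Agent.S4538

/-!
# Adic formal smoothness of a local algebra over a field
-/

set_option autoImplicit false
set_option linter.unusedSectionVars false
universe u

namespace Groth.Agent.Helper7.AdJac

open TensorProduct KaehlerDifferential IsLocalRing Groth.Agent.Helper8.GeomReg

theorem local_field_iff {k A : Type u} [Field k] [CommRing A] [IsLocalRing A] [Algebra k A] :
    CAlgX.IsAdicFormallySmooth k A (maximalIdeal A) ↔
      (PP16.SymGrBijective A (maximalIdeal A) ∧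
        Function.Injective ((mapBaseChange ℤ k A).lTensor (ResidueField A))) := by
  obtain ⟨F, _, _, hF⟩ := exists_primeField k
  letI : Algebra F A := ((algebraMap k A).comp (algebraMap F k)).toAlgebra
  haveI : IsScalarTower F k A := IsScalarTower.of_algebraMap_eq fun _ => rfl
  haveI hFK : Algebra.FormallySmooth F (ResidueField A) := hF _
  haveI hFK' : Algebra.FormallySmooth F (A ⧸ maximalIdeal A) := hFK
  haveI : Algebra.FormallySmooth F k := hF k
  have hker : RingHom.ker (algebraMap A (ResidueField A)) = maximalIdeal A :=
    IsLocalRing.ker_residue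
  have hinj_iff : DerExt k A (maximalIdeal A) ↔
      Function.Injective ((mapBaseChange ℤ k A).lTensor (ResidueField A)) := by
    rw [injective_lTensor_iff, ← hker]
    exact ⟨injective_tmap_of_derExt _, derExt_of_injective_tmap _ IsLocalRing.residue_surjective⟩
  constructor
  · intro h
    have hΛ : CAlgX.IsAdicFormallySmooth F A (maximalIdeal A) := adic_comp _ h
    exact ⟨((Groth.Agent.S4538.result (A := F) (maximalIdeal A)).1 hΛ).2,
      hinj_iff.1 (derExt_of_adic _ h)⟩
  · rintro ⟨hβ, hγ⟩
    have hα : Module.Projective (A ⧸ maximalIdeal A) (maximalIdeal A).Cotangent := by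
      letI : Field (A ⧸ maximalIdeal A) := Ideal.Quotient.field (maximalIdeal A)
      exact Module.Projective.of_free
    have hΛ := (Groth.Agent.S4538.result (A := F) (maximalIdeal A)).2 ⟨hα, hβ⟩
    exact adic_of_derExt _ hΛ (hinj_iff.2 hγ)

end Groth.Agent.Helper7.AdJac
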