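import Mathlib
import Groth.Agent.Helper7.AdJac3
import Groth.Agent.Helper1.PBasisField3
import Groth.Agent.Helper1.FieldSmooth7

/-!
# Adic formal smoothness over a field of characteristic `p` through a family of subfields
-/

set_option autoImplicit false
set_option linter.unusedSectionVars false
universe u

namespace Groth.Agent.Helper7.AdJac

open TensorProduct KaehlerDifferential IsLocalRing

section Ker

variable {R S S' K : Type*} [CommRing R] [CommRing S] [CommRing S'] [CommRing K]
  [Algebra R S] [Algebra R S'] [Algebra R K] [Algebra S K] [Algebra S' K]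
  [IsScalarTower R S K] [IsScalarTower R S' K]

/-- the kernel of `Ω[K/R] → Ω[K/S]` only depends on the image of `S` in `K` -/
theorem map_eq_zero_of_range_le
    (h : Set.range (algebraMap S K) ⊆ Set.range (algebraMap S' K)) (ω : Ω[K⁄R])
    (hω : KaehlerDifferential.map R S K K ω = 0) : KaehlerDifferential.map R S' K K ω = 0 := by
  have key : ∀ s : Ω[S⁄R],
      KaehlerDifferential.map R S' K K (KaehlerDifferential.map R R S K s) = 0 := by
    intro s
    have hs : s ∈ Submodule.span S (Set.range (KaehlerDifferential.D R S)) := by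
      rw [KaehlerDifferential.span_range_derivation]; trivial
    induction hs using Submodule.span_induction with
    | mem s hs =>
      obtain ⟨a, rfl⟩ := hs
      rw [KaehlerDifferential.map_D, KaehlerDifferential.map_D]
      obtain ⟨a', ha'⟩ := h ⟨a, rfl⟩
      rw [Algebra.algebraMap_self, RingHom.id_apply, ← ha', Derivation.map_algebraMap]
    | zero => rw [map_zero, map_zero]
    | add x y _ _ hx hy => rw [map_add, map_add, hx, hy, add_zero]
    | smul c s _ hs =>
      rw [map_smul, ← algebraMap_smul K c, map_smul, hs, smul_zero]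
  have h1 : ω ∈ LinearMap.range (mapBaseChange R S K) := by
    rw [range_mapBaseChange]; exact hω
  obtain ⟨x, rfl⟩ := h1
  clear hω
  induction x using TensorProduct.induction_on with
  | zero => rw [map_zero, map_zero]
  | add x y hx hy => rw [map_add, map_add, hx, hy, add_zero]
  | tmul c s => rw [mapBaseChange_tmul, map_smul, key, smul_zero]

end Ker

section Comp

variable {R R' S K : Type*} [CommRing R] [CommRing R'] [CommRing S] [CommRing K]
  [Algebra R R'] [Algebra R' S] [Algebra R S] [IsScalarTower R R' S]
  [Algebra R K] [Algebra R' K] [Algebra S K] [IsScalarTower R R' K] [IsScalarTower R' S K]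
  [IsScalarTower R S K]

theorem map_map_eq (ω : Ω[K⁄R]) :
    KaehlerDifferential.map R' S K K (KaehlerDifferential.map R R' K K ω) =
      KaehlerDifferential.map R S K K ω := by
  have hs : ω ∈ Submodule.span K (Set.range (KaehlerDifferential.D R K)) := by
    rw [KaehlerDifferential.span_range_derivation]; trivial
  induction hs using Submodule.span_induction with
  | mem s hs =>
    obtain ⟨a, rfl⟩ := hs
    rw [KaehlerDifferential.map_D, KaehlerDifferential.map_D, KaehlerDifferential.map_D]
    rfl
  | zero => rw [map_zero, map_zero, map_zero]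
  | add x y _ _ hx hy => rw [map_add, map_add, map_add, hx, hy]
  | smul c s _ hs => rw [map_smul, map_smul, map_smul, hs]

end Comp

section Nat

variable {k A S : Type*} [CommRing k] [CommRing A] [CommRing S] [Algebra k A] [Algebra S k]
  [Algebra S A] [IsScalarTower S k A]

theorem map_map_nat (ω : Ω[k⁄ℤ]) :
    KaehlerDifferential.map ℤ S A A (KaehlerDifferential.map ℤ ℤ k A ω) =
      KaehlerDifferential.map S S k A (KaehlerDifferential.map ℤ S k k ω) := by
  have hs : ω ∈ Submodule.span k (Set.range (KaehlerDifferential.D ℤ k)) := by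
    rw [KaehlerDifferential.span_range_derivation]; trivial
  induction hs using Submodule.span_induction with
  | mem s hs =>
    obtain ⟨a, rfl⟩ := hs
    rw [KaehlerDifferential.map_D, KaehlerDifferential.map_D, KaehlerDifferential.map_D,
      KaehlerDifferential.map_D]
    rfl
  | zero => simp only [map_zero]
  | add x y _ _ hx hy => simp only [map_add, hx, hy]
  | smul c s _ hs =>
    rw [map_smul, ← algebraMap_smul A c, map_smul, hs, map_smul, map_smul, algebraMap_smul]

theorem map_mapBaseChange (x : A ⊗[k] Ω[k⁄ℤ]) :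
    KaehlerDifferential.map ℤ S A A (mapBaseChange ℤ k A x) =
      mapBaseChange S k A ((KaehlerDifferential.map ℤ S k k).baseChange A x) := by
  induction x using TensorProduct.induction_on with
  | zero => simp only [map_zero]
  | add x y hx hy => simp only [map_add, hx, hy]
  | tmul a ω =>
    rw [mapBaseChange_tmul, map_smul, LinearMap.baseChange_tmul, mapBaseChange_tmul, map_map_nat]

end Nat

section Free

theorem eq_zero_of_forall_lTensor {k K M : Type*} [Field k] [AddCommGroup K] [Module k K]
    [AddCommGroup M] [Module k M]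
    {J : Type*} {N : J → Type*} [∀ j, AddCommGroup (N j)] [∀ j, Module k (N j)]
    (f : ∀ j, M →ₗ[k] N j) (hf : ∀ m : M, (∀ j, f j m = 0) → m = 0)
    (y : K ⊗[k] M) (hy : ∀ j, (f j).lTensor K y = 0) : y = 0 := by
  let b := Module.Free.chooseBasis k K
  have nat : ∀ j (y : K ⊗[k] M) i,
      TensorProduct.equivFinsuppOfBasisLeft b ((f j).lTensor K y) i =
        f j (TensorProduct.equivFinsuppOfBasisLeft b y i) := by
    intro j y i
    induction y using TensorProduct.induction_on with
    | zero => simp only [map_zero, Finsupp.coe_zero, Pi.zero_apply]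
    | add x y hx hy => simp only [map_add, Finsupp.coe_add, Pi.add_apply, hx, hy]
    | tmul c m =>
      rw [LinearMap.lTensor_tmul, TensorProduct.equivFinsuppOfBasisLeft_apply_tmul_apply,
        TensorProduct.equivFinsuppOfBasisLeft_apply_tmul_apply, map_smul]
  apply (TensorProduct.equivFinsuppOfBasisLeft b).injective
  rw [map_zero]
  ext i
  apply hf
  intro j
  rw [← nat, hy, map_zero]
  rfl

variable {k A K : Type*} [Field k] [CommRing A] [Algebra k A] [Field K] [Algebra A K]
  [Algebra k K] [IsScalarTower k A K] {M : Type*} [AddCommGroup M] [Module k M]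

theorem cancel_nat {N : Type*} [AddCommGroup N] [Module k N] (f : M →ₗ[k] N)
    (x : K ⊗[A] (A ⊗[k] M)) :
    TensorProduct.AlgebraTensorModule.cancelBaseChange k A K K N
        ((f.baseChange A).lTensor K x) =
      f.lTensor K (TensorProduct.AlgebraTensorModule.cancelBaseChange k A K K M x) := by
  induction x using TensorProduct.induction_on with
  | zero => simp only [map_zero]
  | add x y hx hy => simp only [map_add, hx, hy]
  | tmul c y =>
    induction y using TensorProduct.induction_on with
    | zero => simp only [tmul_zero, map_zero]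
    | add x y hx hy => simp only [tmul_add, map_add, hx, hy]
    | tmul a m =>
      rw [LinearMap.lTensor_tmul, LinearMap.baseChange_tmul,
        TensorProduct.AlgebraTensorModule.cancelBaseChange_tmul,
        TensorProduct.AlgebraTensorModule.cancelBaseChange_tmul, LinearMap.lTensor_tmul]

theorem eq_zero_of_forall_baseChange
    {J : Type*} {N : J → Type*} [∀ j, AddCommGroup (N j)] [∀ j, Module k (N j)]
    (f : ∀ j, M →ₗ[k] N j) (hf : ∀ m : M, (∀ j, f j m = 0) → m = 0)
    (x : K ⊗[A] (A ⊗[k] M)) (hx : ∀ j, ((f j).baseChange A).lTensor K x = 0) : x = 0 := by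
  apply (TensorProduct.AlgebraTensorModule.cancelBaseChange k A K K M).injective
  rw [map_zero]
  apply eq_zero_of_forall_lTensor f hf
  intro j
  rw [← cancel_nat, hx, map_zero]

end Free

section FieldSide

open Groth.Agent.Helper1.FieldSmooth Groth.Agent.Helper1.PBasisField

variable {k : Type u} [Field k] (p : ℕ) [Fact p.Prime] [CharP k p]
  {ι : Type u} [Preorder ι] [IsDirected ι (· ≤ ·)] [Nonempty ι] (kα : ι → Subfield k)

theorem pf_mem (S : Subfield k) (c : PF.{u} p) : pfHom p k c ∈ S := by
  have h : pfHom p k c = ((c.down.val : ℕ) : k) := by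
    change ZMod.castHom (dvd_refl p) k c.down = _
    conv_lhs => rw [← ZMod.natCast_zmod_val c.down]
    rw [map_natCast]
  rw [h]
  exact natCast_mem S _

theorem kaehler_sep (hanti : Antitone kα)
    (hint : ⨅ α, (kα α ⊔ (frobenius k p).fieldRange) = (frobenius k p).fieldRange) (α₀ : ι)
    (ω : Ω[k⁄ℤ]) (hω : ∀ α, α₀ ≤ α → KaehlerDifferential.map ℤ (kα α) k k ω = 0) : ω = 0 := by
  letI : Algebra (PF.{u} p) k := (pfHom p k).toAlgebra
  have hmem : ∀ (S : Subfield k) (c : PF.{u} p), algebraMap (PF.{u} p) k c ∈ S :=
    fun S c => pf_mem p S c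
  let toIF : Subfield k → IntermediateField (PF.{u} p) k :=
    fun S => S.toIntermediateField (hmem S)
  have mem_toIF : ∀ (S : Subfield k) (x : k), x ∈ toIF S ↔ x ∈ S := fun S x => Iff.rfl
  let ι' : Type u := {α // α₀ ≤ α}
  haveI : Nonempty ι' := ⟨⟨α₀, le_refl _⟩⟩
  haveI : IsDirected ι' (· ≤ ·) := by
    refine ⟨fun a b => ?_⟩
    obtain ⟨c, hac, hbc⟩ := directed_of (· ≤ ·) a.1 b.1
    exact ⟨⟨c, le_trans a.2 hac⟩, hac, hbc⟩
  let k' : ι' → IntermediateField (PF.{u} p) k := fun i => toIF (kα i.1)
  have hk' : Antitone k' := by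
    intro a b hab x hx
    exact (mem_toIF _ _).2 (hanti hab ((mem_toIF _ _).1 hx))
  have h' : (⨅ i, k' i ⊔ Pfield p (k₀ := PF.{u} p) (K := k)) = Pfield p := by
    apply le_antisymm
    · intro z hz
      have hz' : ∀ i, z ∈ k' i ⊔ Pfield p (k₀ := PF.{u} p) (K := k) := by
        intro i
        exact (iInf_le (fun i => k' i ⊔ Pfield p (k₀ := PF.{u} p) (K := k)) i) hz
      have hz2 : z ∈ ⨅ α, (kα α ⊔ (frobenius k p).fieldRange) := by
        rw [Subfield.mem_iInf]
        intro α
        obtain ⟨c, hαc, hα₀c⟩ := directed_of (· ≤ ·) α α₀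
        have h1 := hz' ⟨c, hα₀c⟩
        have h2 : k' ⟨c, hα₀c⟩ ⊔ Pfield p (k₀ := PF.{u} p) (K := k) ≤
            toIF (kα α ⊔ (frobenius k p).fieldRange) := by
          apply sup_le
          · intro x hx
            exact (mem_toIF _ _).2 ((le_sup_left : kα α ≤ _) (hanti hαc ((mem_toIF _ _).1 hx)))
          · rw [IntermediateField.adjoin_le_iff]
            rintro _ ⟨y, rfl⟩
            exact (mem_toIF _ _).2 ((le_sup_right : (frobenius k p).fieldRange ≤ _) ⟨y, rfl⟩)
        exact (mem_toIF _ _).1 (h2 h1)
      rw [hint] at hz2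
      obtain ⟨y, rfl⟩ := hz2
      exact IntermediateField.subset_adjoin _ _ ⟨y, rfl⟩
    · exact le_iInf fun i => le_sup_right
  have hsub : Subsingleton (Ω[PF.{u} p⁄ℤ]) := by
    apply KaehlerDifferential.subsingleton_of_surjective
    intro a
    obtain ⟨n, hn⟩ := ZMod.intCast_surjective a.down
    refine ⟨n, ?_⟩
    apply ULift.ext
    rw [← hn]
    simp
  have hω' : ∀ i, KaehlerDifferential.map (PF.{u} p) (k' i) k k
      (KaehlerDifferential.map ℤ (PF.{u} p) k k ω) = 0 := by
    intro i
    rw [map_map_eq]
    refine map_eq_zero_of_range_le (S := kα i.1) ?_ ω (hω i.1 i.2)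
    rintro _ ⟨s, rfl⟩
    exact ⟨⟨s.1, (mem_toIF _ _).2 s.2⟩, rfl⟩
  have h0 := injective_of_iInf_eq p k' hk' h' _ hω'
  have h1 : ω ∈ LinearMap.range (mapBaseChange ℤ (PF.{u} p) k) := by
    rw [range_mapBaseChange]; exact h0
  have hall : ∀ x, mapBaseChange ℤ (PF.{u} p) k x = 0 := by
    intro x
    induction x using TensorProduct.induction_on with
    | zero => rw [map_zero]
    | add x y hx hy => rw [map_add, hx, hy, add_zero]
    | tmul c s => rw [Subsingleton.elim s 0, tmul_zero, map_zero]
  obtain ⟨x, rfl⟩ := h1
  exact hall x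

end FieldSide

section Main

variable {k A : Type u} [Field k] (p : ℕ) [Fact p.Prime] [CharP k p] [CommRing A] [IsLocalRing A]
  [Algebra k A] {ι : Type u} [Preorder ι] [IsDirected ι (fun a b => a ≤ b)] [Nonempty ι]
  (kα : ι → Subfield k)

theorem field_family_iff (hanti : Antitone kα)
    (hint : ⨅ α, (kα α ⊔ (frobenius k p).fieldRange) = (frobenius k p).fieldRange) :
    CAlgX.IsAdicFormallySmooth k A (maximalIdeal A) ↔
      (PP16.SymGrBijective A (maximalIdeal A) ∧ ∃ α₀ : ι, ∀ α : ι, α₀ ≤ α →
        Function.Injective ((mapBaseChange (kα α) k A).lTensor (ResidueField A))) := by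
  constructor
  · intro h
    refine ⟨(local_field_iff.1 h).1, Classical.arbitrary ι, fun α _ => ?_⟩
    exact injective_of_adic (Λ := kα α) (maximalIdeal A) h
  · rintro ⟨hSym, α₀, hα⟩
    refine local_field_iff.2 ⟨hSym, ?_⟩
    rw [injective_iff_map_eq_zero]
    intro x hx
    refine eq_zero_of_forall_baseChange (J := {α // α₀ ≤ α}) (N := fun j => Ω[k⁄kα j.1])
      (fun j => KaehlerDifferential.map ℤ (kα j.1) k k)
      (fun ω hω => kaehler_sep p kα hanti hint α₀ ω (fun α hα => hω ⟨α, hα⟩)) x ?_
    intro j
    apply hα j.1 j.2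
    rw [map_zero]
    have key : ∀ y, (mapBaseChange (kα j.1) k A).lTensor (ResidueField A)
        (((KaehlerDifferential.map ℤ (kα j.1) k k).baseChange A).lTensor (ResidueField A) y) =
        (KaehlerDifferential.map ℤ (kα j.1) A A).lTensor (ResidueField A)
          ((mapBaseChange ℤ k A).lTensor (ResidueField A) y) := by
      intro y
      induction y using TensorProduct.induction_on with
      | zero => simp only [map_zero]
      | add x y hx hy => simp only [map_add, hx, hy]
      | tmul c z =>
        rw [LinearMap.lTensor_tmul, LinearMap.lTensor_tmul, LinearMap.lTensor_tmul,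
          LinearMap.lTensor_tmul, map_mapBaseChange]
    rw [key, hx, map_zero]

end Main

end Groth.Agent.Helper7.AdJac
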