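import Mathlib
set_option linter.style.haveILetI false
set_option linter.unusedSectionVars false
set_option linter.unusedVariables false
open TensorProduct IsLocalRing KaehlerDifferential
universe u
namespace Groth.Agent.Helper7.CKd

section gamma
variable {k A : Type u} [Field k] [CommRing A] [IsLocalRing A] [Algebra k A] (k' : Subfield k)

theorem span_one_tmul_D_rel :
    Submodule.span (ResidueField A)
      (Set.range fun c : k => (1 : ResidueField A) ⊗ₜ[k] KaehlerDifferential.D k' k c) = ⊤ := by
  rw [eq_top_iff]
  rintro t -
  induction t using TensorProduct.induction_on with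
  | zero => exact Submodule.zero_mem _
  | add x y hx hy => exact Submodule.add_mem _ hx hy
  | tmul z ω =>
    have hω : ω ∈ Submodule.span k (Set.range (KaehlerDifferential.D k' k)) := by
      rw [KaehlerDifferential.span_range_derivation]; trivial
    revert z
    induction hω using Submodule.span_induction with
    | mem ω hω =>
      obtain ⟨c, rfl⟩ := hω
      intro z
      have : z ⊗ₜ[k] KaehlerDifferential.D k' k c =
          z • ((1 : ResidueField A) ⊗ₜ[k] KaehlerDifferential.D k' k c) := by
        rw [TensorProduct.smul_tmul', smul_eq_mul, mul_one]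
      rw [this]
      exact Submodule.smul_mem _ _ (Submodule.subset_span ⟨c, rfl⟩)
    | zero => intro z; rw [TensorProduct.tmul_zero]; exact Submodule.zero_mem _
    | add x y _ _ hx hy => intro z; rw [TensorProduct.tmul_add]; exact Submodule.add_mem _ (hx z) (hy z)
    | smul a x _ hx =>
      intro z
      rw [← TensorProduct.smul_tmul]
      exact hx _

/-- if every `k'`-derivation `k → κ` extends to `A`, the map of differentials is injective. -/
theorem injective_of_ext
    (hext : ∀ δ : Derivation k' k (ResidueField A), ∃ D : A →+ ResidueField A,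
      (∀ x y, D (x * y) = algebraMap _ _ x * D y + algebraMap _ _ y * D x) ∧
      ∀ c : k, D (algebraMap k A c) = δ c) :
    Function.Injective ((mapBaseChange k' k A).lTensor (ResidueField A)) := by
  set κ := ResidueField A with hκ
  rw [injective_iff_map_eq_zero]
  intro x hx
  apply (TensorProduct.AlgebraTensorModule.cancelBaseChange k A κ κ Ω[k⁄k']).injective
  rw [map_zero, ← Module.forall_dual_apply_eq_zero_iff κ]
  intro φ
  let ℓ : Ω[k⁄k'] →ₗ[k] κ := (φ.restrictScalars k) ∘ₗ (TensorProduct.mk k κ Ω[k⁄k'] 1)
  let δ : Derivation k' k κ := ℓ.compDer (KaehlerDifferential.D k' k)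
  obtain ⟨D, hD1, hD2⟩ := hext δ
  have hDk' : ∀ c : k', D (algebraMap k' A c) = 0 := by
    intro c
    rw [IsScalarTower.algebraMap_apply k' k A, hD2, Derivation.map_algebraMap]
  let Dd : Derivation k' A κ :=
    { toLinearMap :=
        { toFun := D
          map_add' := D.map_add
          map_smul' := fun c a => by
            simp only [RingHom.id_apply]
            rw [Algebra.smul_def, hD1, hDk', mul_zero, add_zero]
            rw [show c • D a = (c : k) • D a from rfl, Algebra.smul_def,
              IsScalarTower.algebraMap_apply k A κ]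
            rfl }
      map_one_eq_zero' := by
        show D 1 = 0
        have h := hD1 1 1
        rw [mul_one, (algebraMap A (ResidueField A)).map_one, one_mul] at h
        simpa using h
      leibniz' := fun x y => by
        show D (x * y) = x • D y + y • D x
        rw [hD1, Algebra.smul_def, Algebra.smul_def] }
  let φ' : κ ⊗[A] Ω[A⁄k'] →ₗ[κ] κ := LinearMap.liftBaseChange κ Dd.liftKaehlerDifferential
  let ψ : κ ⊗[k] Ω[k⁄k'] →ₗ[κ] κ :=
    φ' ∘ₗ ((mapBaseChange k' k A).baseChange κ) ∘ₗ
      (TensorProduct.AlgebraTensorModule.cancelBaseChange k A κ κ Ω[k⁄k']).symm.toLinearMap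
  have hψ : ψ = φ := by
    apply LinearMap.ext_on (span_one_tmul_D_rel k')
    rintro _ ⟨c, rfl⟩
    simp only [ψ, LinearMap.comp_apply, LinearEquiv.coe_coe,
      TensorProduct.AlgebraTensorModule.cancelBaseChange_symm_tmul]
    rw [LinearMap.baseChange_tmul, KaehlerDifferential.mapBaseChange_tmul, one_smul,
      KaehlerDifferential.map_D]
    simp only [φ', LinearMap.liftBaseChange_tmul, one_smul,
      Derivation.liftKaehlerDifferential_comp_D]
    show D (algebraMap k A c) = _
    rw [hD2]
    rfl
  rw [← hψ]
  simp only [ψ, LinearMap.comp_apply, LinearEquiv.coe_coe, LinearEquiv.symm_apply_apply]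
  rw [LinearMap.baseChange_eq_ltensor, hx, map_zero]

end gamma

end Groth.Agent.Helper7.CKd
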