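import Mathlib
set_option linter.style.haveILetI false
set_option linter.unusedSectionVars false
set_option linter.unusedVariables false
open TensorProduct IsLocalRing MvPowerSeries
universe u
namespace Groth.Agent.Helper7.CKd

section iota
variable {k : Type u} [Field k] (p : ℕ) [hp : Fact p.Prime] [CharP k p] (r : ℕ)

/-- the embedding `k'[[X]] → k[[T]]`, `X_i ↦ T_i^p`. -/
noncomputable def iota (k' : Subfield k) :
    MvPowerSeries (Fin r) k' →+* MvPowerSeries (Fin r) k :=
  (MvPowerSeries.expand p hp.out.ne_zero :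
    MvPowerSeries (Fin r) k →ₐ[k] MvPowerSeries (Fin r) k).toRingHom.comp
    (MvPowerSeries.map k'.subtype)

theorem iota_apply (k' : Subfield k) (g : MvPowerSeries (Fin r) k') :
    iota p r k' g = MvPowerSeries.expand p hp.out.ne_zero (MvPowerSeries.map k'.subtype g) := rfl

theorem coeff_iota_smul (k' : Subfield k) (g : MvPowerSeries (Fin r) k') (e : Fin r →₀ ℕ) :
    MvPowerSeries.coeff (p • e) (iota p r k' g) = ((MvPowerSeries.coeff e g : k') : k) := by
  rw [iota_apply, MvPowerSeries.coeff_expand_smul, MvPowerSeries.coeff_map]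
  rfl

theorem coeff_iota_of_not_dvd (k' : Subfield k) (g : MvPowerSeries (Fin r) k') {e : Fin r →₀ ℕ}
    {i : Fin r} (h : ¬ p ∣ e i) : MvPowerSeries.coeff e (iota p r k' g) = 0 := by
  rw [iota_apply]
  exact MvPowerSeries.coeff_expand_of_not_dvd p hp.out.ne_zero _ h

theorem iota_injective (k' : Subfield k) : Function.Injective (iota p r k') := by
  intro g₁ g₂ h
  apply MvPowerSeries.ext
  intro e
  have := congrArg (MvPowerSeries.coeff (p • e)) h
  rw [coeff_iota_smul, coeff_iota_smul] at this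
  exact Subtype.ext this

/-- exponent vectors divisible by `p`. -/
theorem exists_smul_eq (e : Fin r →₀ ℕ) (h : ∀ i, p ∣ e i) : ∃ e' : Fin r →₀ ℕ, p • e' = e := by
  refine ⟨e.mapRange (· / p) (by simp), ?_⟩
  ext i
  simp only [Finsupp.smul_apply, Finsupp.mapRange_apply, smul_eq_mul]
  exact Nat.mul_div_cancel' (h i)

theorem mem_range_iota_iff (k' : Subfield k) (f : MvPowerSeries (Fin r) k) :
    f ∈ Set.range (iota p r k') ↔
      (∀ e, MvPowerSeries.coeff e f ∈ k') ∧
        ∀ e : Fin r →₀ ℕ, (∃ i, ¬ p ∣ e i) → MvPowerSeries.coeff e f = 0 := by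
  constructor
  · rintro ⟨g, rfl⟩
    refine ⟨fun e => ?_, fun e ⟨i, hi⟩ => coeff_iota_of_not_dvd p r k' g hi⟩
    by_cases h : ∀ i, p ∣ e i
    · obtain ⟨e', rfl⟩ := exists_smul_eq p r e h
      rw [coeff_iota_smul]
      exact (MvPowerSeries.coeff e' g).2
    · push Not at h
      obtain ⟨i, hi⟩ := h
      rw [coeff_iota_of_not_dvd p r k' g hi]
      exact zero_mem _
  · rintro ⟨h1, h2⟩
    let g : MvPowerSeries (Fin r) k' := fun e => ⟨MvPowerSeries.coeff (p • e) f, h1 _⟩
    refine ⟨g, ?_⟩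
    ext e
    by_cases h : ∀ i, p ∣ e i
    · obtain ⟨e', rfl⟩ := exists_smul_eq p r e h
      rw [coeff_iota_smul]
      rfl
    · push Not at h
      obtain ⟨i, hi⟩ := h
      rw [coeff_iota_of_not_dvd p r k' g hi, h2 e ⟨i, hi⟩]

theorem range_iota_mono {k₁ k₂ : Subfield k} (h : k₁ ≤ k₂) :
    Set.range (iota p r k₁) ⊆ Set.range (iota p r k₂) := by
  intro f hf
  rw [mem_range_iota_iff] at hf ⊢
  exact ⟨fun e => h (hf.1 e), hf.2⟩

theorem pow_mem_range_iota (k' : Subfield k) (hk' : ∀ y : k, y ^ p ∈ k')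
    (x : MvPowerSeries (Fin r) k) : x ^ p ∈ Set.range (iota p r k') := by
  have h1 : x ^ p = MvPowerSeries.expand p hp.out.ne_zero (MvPowerSeries.map (frobenius k p) x) := by
    rw [← MvPowerSeries.map_expand, MvPowerSeries.map_frobenius_expand]
  rw [mem_range_iota_iff]
  constructor
  · intro e
    by_cases h : ∀ i, p ∣ e i
    · obtain ⟨e', rfl⟩ := exists_smul_eq p r e h
      rw [h1, MvPowerSeries.coeff_expand_smul, MvPowerSeries.coeff_map, frobenius_def]
      exact hk' _
    · push Not at h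
      obtain ⟨i, hi⟩ := h
      rw [h1, MvPowerSeries.coeff_expand_of_not_dvd p hp.out.ne_zero _ hi]
      exact zero_mem _
  · rintro e ⟨i, hi⟩
    rw [h1, MvPowerSeries.coeff_expand_of_not_dvd p hp.out.ne_zero _ hi]

/-- a series in every `k_i[[T^p]]`, with `⋂ k_i = k^p`, is a `p`-th power. -/
theorem exists_pow_eq_of_forall_mem_range {ι : Type*} [Nonempty ι] (kk : ι → Subfield k)
    (hkk : ∀ x : k, (∀ i, x ∈ kk i) → ∃ y : k, y ^ p = x)
    (f : MvPowerSeries (Fin r) k) (hf : ∀ i, f ∈ Set.range (iota p r (kk i))) :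
    ∃ g : MvPowerSeries (Fin r) k, g ^ p = f := by
  have h1 : ∀ e, ∃ y : k, y ^ p = MvPowerSeries.coeff (p • e) f := fun e =>
    hkk _ fun i => ((mem_range_iota_iff p r (kk i) f).mp (hf i)).1 _
  choose y hy using h1
  let g : MvPowerSeries (Fin r) k := fun e => y e
  refine ⟨g, ?_⟩
  have h2 : g ^ p = MvPowerSeries.expand p hp.out.ne_zero (MvPowerSeries.map (frobenius k p) g) := by
    rw [← MvPowerSeries.map_expand, MvPowerSeries.map_frobenius_expand]
  rw [h2]
  ext e
  by_cases h : ∀ i, p ∣ e i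
  · obtain ⟨e', rfl⟩ := exists_smul_eq p r e h
    rw [MvPowerSeries.coeff_expand_smul, MvPowerSeries.coeff_map, frobenius_def, ← hy e']
    rfl
  · push Not at h
    obtain ⟨i, hi⟩ := h
    rw [MvPowerSeries.coeff_expand_of_not_dvd p hp.out.ne_zero _ hi]
    obtain ⟨j⟩ := ‹Nonempty ι›
    exact (((mem_range_iota_iff p r (kk j) f).mp (hf j)).2 e ⟨i, hi⟩).symm

end iota

end Groth.Agent.Helper7.CKd
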