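import Mathlib
import Groth.Agent.Helper7.CKm1
import Groth.Agent.Helper2.PSReg
import Groth.Agent.Helper4.RegNormal
set_option linter.style.haveILetI false
set_option linter.unusedSectionVars false
set_option linter.unusedVariables false
open TensorProduct IsLocalRing MvPowerSeries
universe u
namespace Groth.Agent.Helper7.CKd

section Kf
variable {k : Type u} [Field k] (p : ℕ) [hp : Fact p.Prime] [CharP k p] (r : ℕ)
  [CharP (FractionRing (MvPowerSeries (Fin r) k)) p]

local notation "R₀" => MvPowerSeries (Fin r) k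
local notation "KK" => FractionRing (MvPowerSeries (Fin r) k)

theorem isIntegrallyClosed_mvPowerSeries (k' : Type u) [Field k'] (n : ℕ) :
    IsIntegrallyClosed (MvPowerSeries (Fin n) k') := by
  haveI : IsDomain (MvPowerSeries (Fin n) k') := NoZeroDivisors.to_isDomain _
  haveI : IsRegularRing (MvPowerSeries (Fin n) k') :=
    Groth.Agent.Helper2.PSReg.isRegularRing_mvPowerSeries k' n
  haveI : IsRegularLocalRing (MvPowerSeries (Fin n) k') :=
    IsRegularLocalRing.of_isRegularRing_of_isLocalRing _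
  exact Groth.Agent.Helper4.RegNormal.isIntegrallyClosed_of_isRegularLocalRing _

/-- the ring map `k'[[X]] → Frac k[[T]]`. -/
noncomputable def jmap (k' : Subfield k) : MvPowerSeries (Fin r) k' →+* KK :=
  (algebraMap R₀ KK).comp (iota p r k')

theorem jmap_injective (k' : Subfield k) : Function.Injective (jmap p r k') :=
  (IsFractionRing.injective R₀ KK).comp (iota_injective p r k')

/-- the subfield `Frac(k'[[T^p]])` of `Frac(k[[T]])`. -/
noncomputable def Kf (k' : Subfield k) : Subfield KK :=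
  Subfield.closure (Set.range (jmap p r k'))

theorem mem_Kf_iff (k' : Subfield k) (x : KK) :
    x ∈ Kf p r k' ↔ ∃ a b : MvPowerSeries (Fin r) k', jmap p r k' a / jmap p r k' b = x := by
  unfold Kf
  rw [Subfield.mem_closure_iff]
  have h1 : Subring.closure (Set.range (jmap p r k')) = (jmap p r k').range := by
    rw [← RingHom.coe_range, Subring.closure_eq]
  rw [h1]
  constructor
  · rintro ⟨y, ⟨a, rfl⟩, z, ⟨b, rfl⟩, rfl⟩
    exact ⟨a, b, rfl⟩
  · rintro ⟨a, b, rfl⟩
    exact ⟨_, ⟨a, rfl⟩, _, ⟨b, rfl⟩, rfl⟩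

theorem jmap_mem_Kf (k' : Subfield k) (a : MvPowerSeries (Fin r) k') : jmap p r k' a ∈ Kf p r k' :=
  Subfield.subset_closure ⟨a, rfl⟩

theorem Kf_mono {k₁ k₂ : Subfield k} (h : k₁ ≤ k₂) : Kf p r k₁ ≤ Kf p r k₂ := by
  unfold Kf
  apply Subfield.closure_mono
  rintro _ ⟨a, rfl⟩
  obtain ⟨b, hb⟩ := range_iota_mono p r h ⟨a, rfl⟩
  exact ⟨b, by unfold jmap; rw [RingHom.comp_apply, RingHom.comp_apply, hb]⟩

theorem algebraMap_pow_mem_Kf (k' : Subfield k) (hk' : ∀ y : k, y ^ p ∈ k') (x : R₀) :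
    algebraMap R₀ KK (x ^ p) ∈ Kf p r k' := by
  obtain ⟨g, hg⟩ := pow_mem_range_iota p r k' hk' x
  rw [← hg]
  exact jmap_mem_Kf p r k' g

theorem frobenius_le_Kf (k' : Subfield k) (hk' : ∀ y : k, y ^ p ∈ k') :
    (frobenius KK p).fieldRange ≤ Kf p r k' := by
  rintro _ ⟨x, rfl⟩
  obtain ⟨a, b, hb, rfl⟩ := IsFractionRing.div_surjective (A := R₀) x
  rw [frobenius_def, div_pow, ← map_pow, ← map_pow]
  exact (Kf p r k').div_mem (algebraMap_pow_mem_Kf p r k' hk' a) (algebraMap_pow_mem_Kf p r k' hk' b)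

/-- `Frac(k'[[T^p]]) ∩ k[[T]] = k'[[T^p]]`. -/
theorem mem_range_of_mem_Kf (k' : Subfield k) (hk' : ∀ y : k, y ^ p ∈ k') (x : R₀)
    (hx : algebraMap R₀ KK x ∈ Kf p r k') : x ∈ Set.range (iota p r k') := by
  rw [mem_Kf_iff] at hx
  obtain ⟨a, b, hab⟩ := hx
  by_cases hb : b = 0
  · rw [hb, map_zero, div_zero] at hab
    have : x = 0 := (IsFractionRing.injective R₀ KK) (by rw [← hab, map_zero])
    exact ⟨0, by rw [map_zero, this]⟩
  haveI : IsDomain (MvPowerSeries (Fin r) k') := NoZeroDivisors.to_isDomain _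
  haveI : IsIntegrallyClosed (MvPowerSeries (Fin r) k') := isIntegrallyClosed_mvPowerSeries k' r
  let J : FractionRing (MvPowerSeries (Fin r) k') →+* KK :=
    IsFractionRing.lift (jmap_injective p r k')
  have hJ : ∀ a : MvPowerSeries (Fin r) k', J (algebraMap _ _ a) = jmap p r k' a := fun a =>
    IsFractionRing.lift_algebraMap _ a
  set y : FractionRing (MvPowerSeries (Fin r) k') :=
    algebraMap (MvPowerSeries (Fin r) k') _ a / algebraMap (MvPowerSeries (Fin r) k') _ b with hy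
  have hJy : J y = algebraMap R₀ KK x := by
    rw [hy, map_div₀, hJ, hJ, hab]
  obtain ⟨g, hg⟩ := pow_mem_range_iota p r k' hk' x
  have hyp : y ^ p = algebraMap (MvPowerSeries (Fin r) k') _ g := by
    apply J.injective
    rw [map_pow, hJy, hJ, ← map_pow, ← hg]
    rfl
  have hint : IsIntegral (MvPowerSeries (Fin r) k') y := by
    refine ⟨Polynomial.X ^ p - Polynomial.C g, Polynomial.monic_X_pow_sub_C g hp.out.ne_zero, ?_⟩
    rw [Polynomial.eval₂_sub, Polynomial.eval₂_pow, Polynomial.eval₂_X, Polynomial.eval₂_C, hyp,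
      sub_self]
  obtain ⟨y₀, hy₀⟩ := IsIntegrallyClosed.isIntegral_iff.mp hint
  refine ⟨y₀, ?_⟩
  apply IsFractionRing.injective R₀ KK
  rw [← hJy, ← hy₀, hJ]
  rfl

/-- admissibility of the family `Frac(k_i[[T^p]])`. -/
theorem iInf_Kf {ι : Type*} [Nonempty ι] (kk : ι → Subfield k)
    (hpow : ∀ i, ∀ y : k, y ^ p ∈ kk i)
    (hkk : ∀ x : k, (∀ i, x ∈ kk i) → ∃ y : k, y ^ p = x) :
    ⨅ i, (Kf p r (kk i) ⊔ (frobenius KK p).fieldRange) = (frobenius KK p).fieldRange := by
  apply le_antisymm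
  · intro x hx
    rw [Subfield.mem_iInf] at hx
    have hx' : ∀ i, x ∈ Kf p r (kk i) := by
      intro i
      have := hx i
      rwa [sup_eq_left.mpr (frobenius_le_Kf p r (kk i) (hpow i))] at this
    obtain ⟨u, v, hv, rfl⟩ := IsFractionRing.div_surjective (A := R₀) x
    have hv0 : v ≠ 0 := nonZeroDivisors.ne_zero hv
    have hv0' : algebraMap R₀ KK v ≠ 0 := by
      intro h
      exact hv0 ((IsFractionRing.injective R₀ KK) (by rw [h, map_zero]))
    have hp1 : p - 1 + 1 = p := Nat.sub_add_cancel hp.out.one_le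
    -- w = u v^{p-1}
    have hw : ∀ i, u * v ^ (p - 1) ∈ Set.range (iota p r (kk i)) := by
      intro i
      apply mem_range_of_mem_Kf p r (kk i) (hpow i)
      have h1 : algebraMap R₀ KK (u * v ^ (p - 1)) =
          (algebraMap R₀ KK u / algebraMap R₀ KK v) * algebraMap R₀ KK (v ^ p) := by
        rw [map_mul, map_pow, map_pow]
        field_simp
        rw [mul_assoc, ← pow_succ, hp1]
      rw [h1]
      exact (Kf p r (kk i)).mul_mem (hx' i) (algebraMap_pow_mem_Kf p r (kk i) (hpow i) v)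
    obtain ⟨g, hg⟩ := exists_pow_eq_of_forall_mem_range p r kk hkk _ hw
    refine ⟨algebraMap R₀ KK g / algebraMap R₀ KK v, ?_⟩
    rw [frobenius_def, div_pow, ← map_pow, hg, map_mul, map_pow]
    field_simp
    rw [mul_assoc, ← pow_succ, hp1]
  · exact le_iInf fun i => le_sup_right

end Kf

end Groth.Agent.Helper7.CKd
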