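import Mathlib
import Groth.Agent.Helper7.CKm1
import Groth.Agent.Helper7.CohenFin
import Groth.Agent.Helper8.CKaePS
set_option linter.style.haveILetI false
set_option linter.unusedSectionVars false
set_option linter.unusedVariables false
open TensorProduct IsLocalRing MvPowerSeries
universe u
namespace Groth.Agent.Helper7.CKd

section fin
variable {k : Type u} [Field k] (p : ℕ) [hp : Fact p.Prime] [CharP k p] (r : ℕ) (k' : Subfield k)

theorem iota_C (c : k') : iota p r k' (MvPowerSeries.C c) = MvPowerSeries.C (c : k) := by
  rw [iota_apply, MvPowerSeries.map_C, MvPowerSeries.expand_C]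
  rfl

theorem iota_X (i : Fin r) : iota p r k' (MvPowerSeries.X i) = MvPowerSeries.X i ^ p := by
  rw [iota_apply, MvPowerSeries.map_X, MvPowerSeries.expand_X]

/-- `iota` as a `k'`-algebra map. -/
noncomputable def iotaAlg : MvPowerSeries (Fin r) k' →ₐ[k'] MvPowerSeries (Fin r) k :=
  { iota p r k' with
    commutes' := fun c => by
      show iota p r k' (algebraMap k' _ c) = algebraMap k' _ c
      rw [MvPowerSeries.algebraMap_apply, MvPowerSeries.algebraMap_apply, Algebra.algebraMap_self,
        RingHom.id_apply, iota_C]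
      rfl }

theorem iotaAlg_apply (g) : iotaAlg p r k' g = iota p r k' g := rfl

theorem iota_finite [Module.Finite k' k] : (iota p r k').Finite := by
  have h0 : Module.Finite k' (ResidueField (MvPowerSeries (Fin r) k)) := by
    let f : k →ₗ[k'] ResidueField (MvPowerSeries (Fin r) k) :=
      (Algebra.linearMap k (ResidueField (MvPowerSeries (Fin r) k))).restrictScalars k'
    exact Module.Finite.of_surjective f (Groth.Agent.Helper8.CKaePS.residue_surj k r)
  haveI hfin : @Module.Finite k' (ResidueField (MvPowerSeries (Fin r) k)) _ _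
      (ResidueField.algebra (MvPowerSeries (Fin r) k)).toModule := h0
  have h := Groth.Agent.Helper7.CohenFin.finite_of_minimal (iotaAlg p r k') (by
    refine ⟨⟨inferInstance, ?_⟩, ?_⟩
    · rw [Ideal.span_le]
      rintro _ ⟨i, rfl⟩
      show iotaAlg p r k' (MvPowerSeries.X i) ∈ _
      rw [iotaAlg_apply, iota_X, SetLike.mem_coe, IsLocalRing.mem_maximalIdeal, mem_nonunits_iff,
        MvPowerSeries.isUnit_iff_constantCoeff, map_pow, MvPowerSeries.constantCoeff_X,
        zero_pow hp.out.ne_zero]
      exact not_isUnit_zero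
    · rintro Q ⟨hQ, hQle⟩ -
      rw [Groth.Agent.Helper5.MvPSDim.maximalIdeal_eq, Ideal.span_le]
      rintro _ ⟨i, rfl⟩
      have : (MvPowerSeries.X i : MvPowerSeries (Fin r) k) ^ p ∈ Q := by
        apply hQle
        apply Ideal.subset_span
        exact ⟨i, by show iotaAlg p r k' (MvPowerSeries.X i) = _; rw [iotaAlg_apply, iota_X]⟩
      exact hQ.mem_of_pow_mem p this)
  exact h

end fin

end Groth.Agent.Helper7.CKd
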