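import Mathlib
import Groth.Agent.Helper7.AdJac4
import Groth.Agent.Helper8.Idx7

/-!
# Admissible subfields: `⋂ k_α(K^p) = k₀(K^p)` iff every finite imperfection module is detected
-/

set_option autoImplicit false
set_option linter.unusedSectionVars false
universe u

namespace Groth.Agent.Helper7.Admis

open TensorProduct KaehlerDifferential EGA41 Groth.Agent.Helper1.PBasis
  Groth.Agent.Helper1.PBasisField Groth.Agent.Helper7.AdJac

section Coord

variable {k K M N I : Type*} [DecidableEq I] [Field k] [AddCommGroup K] [Module k K]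
  [AddCommGroup M] [Module k M] [AddCommGroup N] [Module k N]

theorem equiv_lTensor_apply (b : Module.Basis I k K) (f : M →ₗ[k] N) (y : K ⊗[k] M) (i : I) :
    TensorProduct.equivFinsuppOfBasisLeft b (f.lTensor K y) i =
      f (TensorProduct.equivFinsuppOfBasisLeft b y i) := by
  induction y using TensorProduct.induction_on with
  | zero => simp only [map_zero, Finsupp.coe_zero, Pi.zero_apply]
  | add x y hx hy => simp only [map_add, Finsupp.coe_add, Pi.add_apply, hx, hy]
  | tmul c m =>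
    rw [LinearMap.lTensor_tmul, TensorProduct.equivFinsuppOfBasisLeft_apply_tmul_apply,
      TensorProduct.equivFinsuppOfBasisLeft_apply_tmul_apply, map_smul]

theorem lTensor_eq_zero_iff (b : Module.Basis I k K) (f : M →ₗ[k] N) (y : K ⊗[k] M) :
    f.lTensor K y = 0 ↔ ∀ i, f (TensorProduct.equivFinsuppOfBasisLeft b y i) = 0 := by
  constructor
  · intro h i
    rw [← equiv_lTensor_apply, h, map_zero]
    rfl
  · intro h
    apply (TensorProduct.equivFinsuppOfBasisLeft b).injective
    rw [map_zero]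
    ext i
    rw [equiv_lTensor_apply, h]
    rfl

end Coord

section Main

variable (p : ℕ) [hp : Fact p.Prime] {k₀ K : Type u} [Field k₀] [Field K] [Algebra k₀ K]
  [CharP K p] {ι : Type u} [Preorder ι] [IsDirected ι (· ≤ ·)] [Nonempty ι]
  (k : ι → IntermediateField k₀ K)

/-- the map `L ⊗ Ω_{K/k₀} → L ⊗ Ω_{K/k_i}` -/
noncomputable abbrev gmap (L : Type u) [Field L] [Algebra K L] (i : ι) :
    L ⊗[K] Ω[K⁄k₀] →ₗ[L] L ⊗[K] Ω[K⁄k i] :=
  ((KaehlerDifferential.map k₀ (k i) K K).restrictScalars K).baseChange L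

theorem gmap_eq_zero_iff (L : Type u) [Field L] [Algebra K L] {I : Type*} [DecidableEq I]
    (b : Module.Basis I K L) (i : ι) (y : L ⊗[K] Ω[K⁄k₀]) :
    gmap k L i y = 0 ↔
      ∀ j, KaehlerDifferential.map k₀ (k i) K K (TensorProduct.equivFinsuppOfBasisLeft b y j) = 0 :=
  lTensor_eq_zero_iff b ((KaehlerDifferential.map k₀ (k i) K K).restrictScalars K) y

theorem gmap_mono (hk : Antitone k) (L : Type u) [Field L] [Algebra K L] {i j : ι} (hij : i ≤ j)
    (y : L ⊗[K] Ω[K⁄k₀]) (hy : gmap k L j y = 0) : gmap k L i y = 0 := by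
  let b := Module.Free.chooseBasis K L
  rw [gmap_eq_zero_iff k L b] at hy ⊢
  intro l
  refine map_eq_zero_of_range_le (S := k j) ?_ _ (hy l)
  rintro _ ⟨s, rfl⟩
  exact ⟨⟨s.1, hk hij s.2⟩, rfl⟩

theorem gmap_sep (hk : Antitone k)
    (h : (⨅ i, k i ⊔ Pfield p (k₀ := k₀) (K := K)) = Pfield p)
    (L : Type u) [Field L] [Algebra K L] (y : L ⊗[K] Ω[K⁄k₀]) (hy : ∀ i, gmap k L i y = 0) :
    y = 0 :=
  eq_zero_of_forall_lTensor (K := L)
    (fun i => (KaehlerDifferential.map k₀ (k i) K K).restrictScalars K)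
    (fun ω hω => injective_of_iInf_eq p k hk h ω hω) y hy

theorem exists_admissible (hk : Antitone k)
    (h : (⨅ i, k i ⊔ Pfield p (k₀ := k₀) (K := K)) = Pfield p)
    (L : Type u) [Field L] [Algebra K L] [Algebra k₀ L] [IsScalarTower k₀ K L]
    (hfin : Module.Finite L (imperfection k₀ K L)) :
    ∃ i, ∀ ω ∈ imperfection k₀ K L, gmap k L i ω = 0 → ω = 0 := by
  classical
  let N : ι → Submodule L (L ⊗[K] Ω[K⁄k₀]) := fun i =>
    imperfection k₀ K L ⊓ LinearMap.ker (gmap k L i)
  have hNle : ∀ i, N i ≤ imperfection k₀ K L := fun i => inf_le_left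
  haveI : ∀ i, FiniteDimensional L (N i) := fun i => Submodule.finiteDimensional_of_le (hNle i)
  have hNmono : ∀ {i j}, i ≤ j → N j ≤ N i := by
    intro i j hij x hx
    exact ⟨hx.1, LinearMap.mem_ker.2 (gmap_mono k hk L hij x (LinearMap.mem_ker.1 hx.2))⟩
  let d : ι → ℕ := fun i => Module.finrank L (N i)
  obtain ⟨m, ⟨i₀, rfl⟩, hmin⟩ := Nat.lt_wfRel.wf.has_min (Set.range d)
    ⟨d (Classical.arbitrary ι), _, rfl⟩
  refine ⟨i₀, fun ω hω hg => ?_⟩
  by_contra hne
  obtain ⟨j, hj⟩ : ∃ j, gmap k L j ω ≠ 0 := by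
    by_contra hcon
    push Not at hcon
    exact hne (gmap_sep p k hk h L ω hcon)
  obtain ⟨c, hic, hjc⟩ := directed_of (· ≤ ·) i₀ j
  have hlt : N c < N i₀ := by
    refine lt_of_le_of_ne (hNmono hic) fun heq => ?_
    have hωc : ω ∈ N c := by
      rw [heq]
      exact ⟨hω, LinearMap.mem_ker.2 hg⟩
    exact hj (gmap_mono k hk L hjc ω (LinearMap.mem_ker.1 hωc.2))
  exact hmin (d c) ⟨c, rfl⟩ (Submodule.finrank_lt_finrank_of_lt hlt)

end Main

section Converse

variable (p : ℕ) [hp : Fact p.Prime] {k₀ K : Type u} [Field k₀] [Field K] [Algebra k₀ K]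
  [CharP K p] {ι : Type u} [Preorder ι] [IsDirected ι (· ≤ ·)] [Nonempty ι]
  (k : ι → IntermediateField k₀ K)

/-- `z ∉ k₀(K^p)` implies `dz ≠ 0` in `Ω_{K/k₀}` -/
theorem D_ne_zero_of_not_mem (z : K) (hz : z ∉ Pfield p (k₀ := k₀) (K := K)) :
    KaehlerDifferential.D k₀ K z ≠ 0 := by
  have hzC : z ∉ pPowerSubalgebra p k₀ K := fun h => hz ((mem_Pfield_iff p z).mpr h)
  have ha : z ∉ IntermediateField.adjoin (pPowerSubalgebra p k₀ K) (∅ : Set K) := by
    intro hmem
    rw [mem_adjoin_iff, Algebra.adjoin_empty] at hmem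
    obtain ⟨c, rfl⟩ := Algebra.mem_bot.mp hmem
    exact hzC c.2
  have hind : PInd p k₀ ({z} : Set K) := by
    have := pInd_insert p k₀ ∅ (pInd_empty p k₀) z ha
    rwa [insert_empty_eq] at this
  have h1 := linearIndependent_D_of_isPIndependent p k₀ (Subtype.val : ({z} : Set K) → K)
    ((isPIndependent_val_iff p k₀ {z}).mpr hind)
  exact h1.ne_zero ⟨z, rfl⟩

theorem iInf_eq_of_admissible
    (hb : ∀ (L : Type u) [Field L] [Algebra K L] [Algebra k₀ L] [IsScalarTower k₀ K L],
        Module.Finite L (imperfection k₀ K L) →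
          ∃ i, ∀ ω ∈ imperfection k₀ K L, gmap k L i ω = 0 → ω = 0) :
    (⨅ i, k i ⊔ Pfield p (k₀ := k₀) (K := K)) = Pfield p := by
  apply le_antisymm
  · intro z hz
    by_contra hzP
    have hroot : ∀ b : K, b ^ p ≠ z := by
      intro b hb'
      apply hzP
      rw [← hb']
      exact IntermediateField.subset_adjoin _ _ ⟨b, rfl⟩
    let f : Polynomial K := Polynomial.X ^ p - Polynomial.C z
    haveI : Fact (Irreducible f) := ⟨X_pow_sub_C_irreducible_of_prime hp.out hroot⟩
    let L := AdjoinRoot f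
    haveI : CharP L p := charP_of_injective_algebraMap (algebraMap K L).injective p
    have hfin := (Groth.Agent.Helper8.Idx.cartier (k := k₀) (K := K) (L := L)).2.1
    obtain ⟨i, hi⟩ := hb L hfin
    let t : L := AdjoinRoot.root f
    have ht : t ^ p = algebraMap K L z := by
      have h1 : Polynomial.eval₂ (AdjoinRoot.of f) (AdjoinRoot.root f) f = 0 :=
        AdjoinRoot.eval₂_root f
      rw [Polynomial.eval₂_sub, Polynomial.eval₂_pow, Polynomial.eval₂_X, Polynomial.eval₂_C,
        sub_eq_zero] at h1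
      exact h1
    let ω₀ : L ⊗[K] Ω[K⁄k₀] := 1 ⊗ₜ KaehlerDifferential.D k₀ K z
    have hω₀ : ω₀ ∈ imperfection k₀ K L := by
      change mapBaseChange k₀ K L ω₀ = 0
      rw [mapBaseChange_tmul, one_smul, KaehlerDifferential.map_D, ← ht, Derivation.leibniz_pow,
        ← Nat.cast_smul_eq_nsmul L, CharP.cast_eq_zero, zero_smul]
    have hg : gmap k L i ω₀ = 0 := by
      have hzi : z ∈ pPowerSubalgebra p (k i) K :=
        (mem_sup_iff p (k i) z).mpr ((iInf_le (fun i => k i ⊔ Pfield p) i) hz)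
      change ((KaehlerDifferential.map k₀ (k i) K K).restrictScalars K).baseChange L
        ((1 : L) ⊗ₜ KaehlerDifferential.D k₀ K z) = 0
      rw [LinearMap.baseChange_tmul, LinearMap.restrictScalars_apply, KaehlerDifferential.map_D,
        Algebra.algebraMap_self, RingHom.id_apply,
        derivation_eq_zero p (KaehlerDifferential.D (k i) K) z hzi, tmul_zero]
    have h0 := hi ω₀ hω₀ hg
    apply D_ne_zero_of_not_mem p z hzP
    obtain ⟨r, hr⟩ := LinearMap.exists_leftInverse_of_injective (Algebra.linearMap K L)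
      (LinearMap.ker_eq_bot.2 (algebraMap K L).injective)
    have h2 := congrArg (fun y => TensorProduct.lid K _ (r.rTensor _ y)) h0
    have hr1 : r 1 = 1 := by
      have := congr($hr 1)
      rwa [LinearMap.comp_apply, Algebra.linearMap_apply, map_one] at this
    simpa [ω₀, hr1] using h2
  · exact le_iInf fun i => le_sup_right

end Converse

end Groth.Agent.Helper7.Admis
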