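import Mathlib
import Groth.Agent.Helper7.Admis1

/-!
# Existence of admissible subfields of finite codegree
-/

set_option autoImplicit false
set_option linter.unusedSectionVars false
universe u

namespace Groth.Agent.Helper7.Admis

open TensorProduct KaehlerDifferential EGA41 Groth.Agent.Helper1.PBasis
  Groth.Agent.Helper1.PBasisField Groth.Agent.Helper7.AdJac

section KerFunctional

variable {R S K M : Type*} [CommRing R] [CommRing S] [CommRing K] [Algebra R S] [Algebra R K]
  [Algebra S K] [IsScalarTower R S K] [AddCommGroup M] [Module K M]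

theorem apply_eq_zero_of_map_eq_zero (φ : Ω[K⁄R] →ₗ[K] M)
    (hφ : ∀ s : S, φ (KaehlerDifferential.D R K (algebraMap S K s)) = 0) (ω : Ω[K⁄R])
    (hω : KaehlerDifferential.map R S K K ω = 0) : φ ω = 0 := by
  have key : ∀ s : Ω[S⁄R], φ (KaehlerDifferential.map R R S K s) = 0 := by
    intro s
    have hs : s ∈ Submodule.span S (Set.range (KaehlerDifferential.D R S)) := by
      rw [KaehlerDifferential.span_range_derivation]; trivial
    induction hs using Submodule.span_induction with
    | mem s hs =>
      obtain ⟨a, rfl⟩ := hs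
      rw [KaehlerDifferential.map_D, hφ]
    | zero => rw [map_zero, map_zero]
    | add x y _ _ hx hy => rw [map_add, map_add, hx, hy, add_zero]
    | smul c s _ hs =>
      rw [map_smul, ← algebraMap_smul K c, map_smul, hs, smul_zero]
  have h1 : ω ∈ LinearMap.range (mapBaseChange R S K) := by
    rw [range_mapBaseChange]; exact hω
  obtain ⟨x, rfl⟩ := h1
  clear hω
  induction x using TensorProduct.induction_on with
  | zero => rw [map_zero, map_zero]
  | add x y hx hy => rw [map_add, map_add, hx, hy, add_zero]
  | tmul c s => rw [mapBaseChange_tmul, map_smul, key, smul_zero]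

end KerFunctional

section Main

variable (p : ℕ) [hp : Fact p.Prime] {k₀ K : Type u} [Field k₀] [Field K] [Algebra k₀ K]
  [CharP K p] (B : Set K)

/-- the subfield `k₀(K^p)(B ∖ F)` -/
noncomputable def kF (F : Finset B) : IntermediateField k₀ K :=
  IntermediateField.adjoin k₀
    (Set.range (fun y : K => y ^ p) ∪ {z | ∃ b : B, b ∉ F ∧ (b : K) = z})

theorem kF_antitone : Antitone (kF p (k₀ := k₀) B) := by
  intro F F' h
  apply IntermediateField.adjoin.mono
  apply Set.union_subset_union_right
  rintro z ⟨b, hb, rfl⟩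
  exact ⟨b, fun hb' => hb (h hb'), rfl⟩

theorem pow_mem_kF (F : Finset B) (y : K) : y ^ p ∈ kF p (k₀ := k₀) B F :=
  IntermediateField.subset_adjoin _ _ (Or.inl ⟨y, rfl⟩)

variable (hB : IsPBasis p k₀ (Subtype.val : B → K))

theorem partialD_eq_zero (F : Finset B) (β : B) (hβ : β ∈ F) (a : K)
    (ha : a ∈ kF p (k₀ := k₀) B F) : partialD p k₀ (Subtype.val : B → K) hB β a = 0 := by
  unfold kF at ha
  induction ha using IntermediateField.adjoin_induction with
  | mem x hx =>
    rcases hx with ⟨y, rfl⟩ | ⟨b, hb, rfl⟩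
    · exact derivation_eq_zero p _ _ (pow_mem p y)
    · rw [partialD_x, if_neg]
      rintro rfl
      exact hb hβ
  | algebraMap x => exact Derivation.map_algebraMap _ x
  | add x y _ _ hx hy => rw [map_add, hx, hy, add_zero]
  | inv x _ hx => rw [Derivation.leibniz_inv, hx, smul_zero]
  | mul x y _ _ hx hy => rw [Derivation.leibniz, hx, hy, smul_zero, smul_zero, add_zero]

include hB in
theorem kF_sep (ω : Ω[K⁄k₀])
    (hω : ∀ F, KaehlerDifferential.map k₀ (kF p (k₀ := k₀) B F) K K ω = 0) : ω = 0 := by
  classical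
  let bas := basisD p k₀ (Subtype.val : B → K) hB
  by_contra hne
  have hsupp : (bas.repr ω).support.Nonempty := by
    rw [Finsupp.support_nonempty_iff]
    intro h0
    exact hne (by simpa using h0)
  obtain ⟨β, hβ⟩ := hsupp
  have h1 := apply_eq_zero_of_map_eq_zero (S := kF p (k₀ := k₀) B (bas.repr ω).support)
    ((partialD p k₀ (Subtype.val : B → K) hB β).liftKaehlerDifferential)
    (fun s => by
      rw [Derivation.liftKaehlerDifferential_comp_D]
      exact partialD_eq_zero p B hB _ β hβ s.1 s.2) ω (hω _)
  have h2 : (partialD p k₀ (Subtype.val : B → K) hB β).liftKaehlerDifferential ω =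
      bas.repr ω β := by
    conv_lhs => rw [← bas.linearCombination_repr ω, Finsupp.linearCombination_apply,
      Finsupp.sum, map_sum]
    simp only [map_smul, bas, basisD_apply, Derivation.liftKaehlerDifferential_comp_D, partialD_x,
      smul_eq_mul, mul_ite, mul_one, mul_zero]
    rw [Finset.sum_ite_eq' _ β, if_pos hβ]
  rw [h2] at h1
  exact (Finsupp.mem_support_iff.mp hβ) h1

include hB in
theorem iInf_kF :
    (⨅ F, kF p (k₀ := k₀) B F ⊔ Pfield p (k₀ := k₀) (K := K)) = Pfield p :=
  iInf_eq_of_injective p (kF p (k₀ := k₀) B) (kF_sep p B hB)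

include hB in
theorem finite_kF (F : Finset B) : Module.Finite (kF p (k₀ := k₀) B F) K := by
  classical
  let S : Set K := (fun b : B => (b : K)) '' (F : Set B)
  have hSfin : S.Finite := (Finset.finite_toSet F).image _
  have hint : ∀ x ∈ S, IsIntegral (kF p (k₀ := k₀) B F) x := by
    rintro _ ⟨b, _, rfl⟩
    refine ⟨Polynomial.X ^ p - Polynomial.C ⟨(b : K) ^ p, pow_mem_kF p B F b⟩,
      Polynomial.monic_X_pow_sub_C _ hp.out.ne_zero, ?_⟩
    rw [Polynomial.eval₂_sub, Polynomial.eval₂_pow, Polynomial.eval₂_X, Polynomial.eval₂_C]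
    exact sub_self _
  haveI : Finite S := hSfin.to_subtype
  have hfd := IntermediateField.finiteDimensional_adjoin (K := kF p (k₀ := k₀) B F) (S := S) hint
  have htop : IntermediateField.adjoin (kF p (k₀ := k₀) B F) S = ⊤ := by
    rw [← IntermediateField.restrictScalars_eq_top_iff (K := k₀),
      IntermediateField.restrictScalars_adjoin, eq_top_iff]
    rintro z -
    have hz : z ∈ Algebra.adjoin (pPowerSubalgebra p k₀ K) (Set.range (Subtype.val : B → K)) := by
      rw [adjoin_eq_top p _ hB.2]; trivial
    induction hz using Algebra.adjoin_induction with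
    | mem y hy =>
      obtain ⟨b, rfl⟩ := hy
      by_cases hb : b ∈ F
      · exact IntermediateField.subset_adjoin _ _ (Or.inr ⟨b, hb, rfl⟩)
      · exact IntermediateField.subset_adjoin _ _
          (Or.inl (IntermediateField.subset_adjoin _ _ (Or.inr ⟨b, hb, rfl⟩)))
    | algebraMap c =>
      apply IntermediateField.subset_adjoin _ _
      refine Or.inl ?_
      have hc : (c : K) ∈ Pfield p (k₀ := k₀) (K := K) := (mem_Pfield_iff p _).mpr c.2
      exact IntermediateField.adjoin.mono _ _ _ Set.subset_union_left hc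
    | add x y _ _ hx hy => exact add_mem hx hy
    | mul x y _ _ hx hy => exact mul_mem hx hy
  rw [htop] at hfd
  exact Module.Finite.equiv
    (IntermediateField.topEquiv (F := kF p (k₀ := k₀) B F) (E := K)).toLinearEquiv

end Main

section Final

variable (p : ℕ) [hp : Fact p.Prime] {k₀ K L : Type u} [Field k₀] [Field K] [Field L]
  [Algebra k₀ K] [Algebra K L] [Algebra k₀ L] [IsScalarTower k₀ K L] [CharP K p]

theorem exists_admissible_finite (hfin : Module.Finite L (imperfection k₀ K L)) :
    ∃ k : IntermediateField k₀ K, (∀ y : K, y ^ p ∈ k) ∧ Module.Finite k K ∧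
      ∀ ω ∈ imperfection k₀ K L,
        ((KaehlerDifferential.map k₀ k K K).restrictScalars K).baseChange L ω = 0 → ω = 0 := by
  classical
  obtain ⟨B, -, -, hB⟩ := exists_pBasis p k₀ (Set.univ : Set K) ∅ (Set.empty_subset _)
    (isPGenerating_univ p k₀) ((isPIndependent_val_iff p k₀ (∅ : Set K)).mpr (pInd_empty p k₀))
  obtain ⟨F, hF⟩ := exists_admissible p (kF p (k₀ := k₀) B) (kF_antitone p B)
    (iInf_kF p B hB) L hfin
  exact ⟨kF p B F, pow_mem_kF p B F, finite_kF p B hB F, hF⟩

end Final

end Groth.Agent.Helper7.Admis
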