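import Mathlib
import Groth.Agent.Helper7.Admis3
set_option linter.style.haveILetI false
set_option linter.unusedSectionVars false
set_option linter.unusedVariables false
open TensorProduct IsLocalRing EGA41 Groth.Agent.Helper1.PBasis
  Groth.Agent.Helper1.PBasisField Groth.Agent.Helper7.Admis
universe u
namespace Groth.Agent.Helper7.CKd

section fam
variable {k : Type u} [Field k] (p : ℕ) [hp : Fact p.Prime] [CharP k p]

/-- a directed decreasing family of subfields of `k`, each of finite codegree and containing `k^p`,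
with intersection `k^p`. -/
theorem exists_family :
    ∃ (ι : Type u) (_ : Preorder ι) (_ : IsDirected ι (fun a b => a ≤ b)) (_ : Nonempty ι)
      (kk : ι → Subfield k), Antitone kk ∧ (∀ i, ∀ y : k, y ^ p ∈ kk i) ∧
        (∀ i, Module.Finite (kk i) k) ∧ (∀ x : k, (∀ i, x ∈ kk i) → ∃ y : k, y ^ p = x) := by
  classical
  let k₀ : Subfield k := (frobenius k p).fieldRange
  obtain ⟨B, -, -, hB⟩ := exists_pBasis p k₀ (Set.univ : Set k) ∅ (Set.empty_subset _)
    (isPGenerating_univ p k₀) ((isPIndependent_val_iff p k₀ (∅ : Set k)).mpr (pInd_empty p k₀))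
  refine ⟨Finset B, inferInstance, inferInstance, inferInstance,
    fun F => (kF p (k₀ := k₀) B F).toSubfield, ?_, ?_, ?_, ?_⟩
  · intro F F' h x hx
    exact kF_antitone p B h hx
  · intro F y
    exact pow_mem_kF p B F y
  · intro F
    exact finite_kF p B hB F
  · intro x hx
    have h1 : x ∈ ⨅ F, kF p (k₀ := k₀) B F ⊔ Pfield p (k₀ := k₀) (K := k) := by
      rw [← SetLike.mem_coe, IntermediateField.coe_iInf, Set.mem_iInter]
      intro F
      exact (le_sup_left : kF p (k₀ := k₀) B F ≤ _) (hx F)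
    rw [iInf_kF p B hB, mem_Pfield_iff] at h1
    have h2 : pPowerSubalgebra p k₀ k ≤ (⊥ : Subalgebra k₀ k) := by
      unfold pPowerSubalgebra
      apply Algebra.adjoin_le
      rintro _ ⟨y, rfl⟩
      exact ⟨⟨y ^ p, ⟨y, rfl⟩⟩, rfl⟩
    obtain ⟨⟨c, ⟨y, hy⟩⟩, hc⟩ := h2 h1
    refine ⟨y, ?_⟩
    rw [← hc, ← frobenius_def]
    exact hy

end fam

end Groth.Agent.Helper7.CKd
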