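import Mathlib
import Groth.Agent.Helper7.CKk8
set_option linter.style.haveILetI false
set_option linter.unusedSectionVars false
set_option linter.unusedVariables false
open TensorProduct IsLocalRing Polynomial
universe u
namespace Groth.Agent.Helper7.CKd

section core
variable {A B R T : Type u} [CommRing A] [IsDomain A] [CommRing B] [IsDomain B] [Algebra A B]
  [CommRing R] [Algebra A R] [CommRing T] [Algebra A T] [Algebra B T] [IsScalarTower A B T]

/-- the lifting core: a compatible pair of maps on `R` and `B` into a ring `C'`, lifting (modulo a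
map `π` along which units lift) a map `u` on the localization `T_q`, glues to a map on `T_q`. -/
theorem lift_core (φ : R →ₐ[A] T) (q : Ideal T) [q.IsPrime]
    (hsurj : Function.Surjective (fAL (B := B) φ))
    (s : R ⊗[A] B) (hs : ∀ x, fAL (B := B) φ x = 0 → s * x = 0) (hsq : fAL (B := B) φ s ∉ q)
    {C' C'' : Type u} [CommRing C'] [CommRing C''] (π : C' →+* C'')
    (hunit : ∀ c : C', IsUnit (π c) → IsUnit c)
    (u : Localization.AtPrime q →+* C'') (w : R →+* C') (β : B →+* C')
    (hwβ : ∀ a : A, w (algebraMap A R a) = β (algebraMap A B a))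
    (hw : ∀ r : R, π (w r) = u (algebraMap T _ (φ r)))
    (hβ : ∀ b : B, π (β b) = u (algebraMap T _ (algebraMap B T b))) :
    ∃ v : Localization.AtPrime q →+* C', π.comp v = u ∧
      (∀ r : R, v (algebraMap T _ (φ r)) = w r) ∧
      (∀ b : B, v (algebraMap T _ (algebraMap B T b)) = β b) := by
  letI algAC : Algebra A C' := (w.comp (algebraMap A R)).toAlgebra
  let w' : R →ₐ[A] C' := { w with commutes' := fun a => rfl }
  let β' : B →ₐ[A] C' := { β with commutes' := fun a => (hwβ a).symm }
  let v₀ : R ⊗[A] B →ₐ[A] C' :=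
    Algebra.TensorProduct.lift w' β' (fun _ _ => Commute.all _ _)
  have hv₀ : ∀ (r : R) (b : B), v₀ (r ⊗ₜ b) = w r * β b := by
    intro r b
    simp only [v₀, Algebra.TensorProduct.lift_tmul]
    rfl
  have hstar : ∀ x : R ⊗[A] B, π (v₀ x) =
      u (algebraMap T (Localization.AtPrime q) (fAL (B := B) φ x)) := by
    intro x
    induction x using TensorProduct.induction_on with
    | zero => simp
    | add x y hx hy => simp only [map_add, hx, hy]
    | tmul r b =>
      rw [hv₀, map_mul, hw, hβ, fAL_tmul, map_mul, map_mul]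
  have hunit_of : ∀ y : T, y ∉ q → ∀ c : C', π c =
      u (algebraMap T (Localization.AtPrime q) y) → IsUnit c := by
    intro y hy c hc
    apply hunit
    rw [hc]
    apply IsUnit.map
    exact IsLocalization.map_units (Localization.AtPrime q) (⟨y, hy⟩ : q.primeCompl)
  have hker : RingHom.ker (fAL (B := B) φ).toRingHom ≤ RingHom.ker v₀.toRingHom := by
    intro x hx
    rw [RingHom.mem_ker] at hx ⊢
    have h1 : s * x = 0 := hs x hx
    have h2 : v₀ s * v₀ x = 0 := by rw [← map_mul, h1, map_zero]
    have h3 : IsUnit (v₀ s) := hunit_of _ hsq _ (hstar s)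
    exact (h3.mul_right_eq_zero).mp h2
  let v₁ : T →+* C' := (fAL (B := B) φ).toRingHom.liftOfSurjective hsurj ⟨v₀.toRingHom, hker⟩
  have hv₁ : ∀ x, v₁ (fAL (B := B) φ x) = v₀ x := fun x =>
    RingHom.liftOfSurjective_comp_apply _ hsurj ⟨v₀.toRingHom, hker⟩ x
  have hv₁u : ∀ y : T, π (v₁ y) = u (algebraMap T _ y) := by
    intro y
    obtain ⟨x, rfl⟩ := hsurj y
    rw [hv₁, hstar]
  have hunits : ∀ y : q.primeCompl, IsUnit (v₁ y) := fun ⟨y, hy⟩ => hunit_of y hy _ (hv₁u y)
  let v : Localization.AtPrime q →+* C' := IsLocalization.lift (M := q.primeCompl) hunits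
  have hvT : ∀ y : T, v (algebraMap T _ y) = v₁ y := fun y => IsLocalization.lift_eq hunits y
  refine ⟨v, ?_, ?_, ?_⟩
  · apply IsLocalization.ringHom_ext q.primeCompl
    ext y
    show π (v (algebraMap T _ y)) = u (algebraMap T _ y)
    rw [hvT, hv₁u]
  · intro r
    have h1 : φ r = fAL (B := B) φ (r ⊗ₜ 1) := by rw [fAL_tmul, map_one, mul_one]
    rw [hvT, h1, hv₁, hv₀, map_one, mul_one]
  · intro b
    have h1 : algebraMap B T b = fAL (B := B) φ (1 ⊗ₜ b) := by rw [fAL_tmul, map_one, one_mul]
    rw [hvT, h1, hv₁, hv₀, map_one, one_mul]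

end core

end Groth.Agent.Helper7.CKd
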