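import Mathlib
import Groth.Agent.Helper7.CKk11
set_option linter.style.haveILetI false
set_option linter.unusedSectionVars false
set_option linter.unusedVariables false
open TensorProduct IsLocalRing Polynomial
universe u
namespace Groth.Agent.Helper7.CKd

section der
variable {A B R T : Type u} [CommRing A] [IsDomain A] [CommRing B] [IsDomain B] [Algebra A B]
  [CommRing R] [Algebra A R] [CommRing T] [Algebra A T] [Algebra B T] [IsScalarTower A B T]

/-- the ring map `b ↦ b̄ + δ(b) ε` into the dual numbers attached to a derivation. -/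
noncomputable def dualHom {κ : Type u} [Field κ] [Algebra B κ] [Algebra A κ] [IsScalarTower A B κ]
    (δ : Derivation A B κ) : B →+* DualNumber κ where
  toFun b := TrivSqZeroExt.inl (algebraMap B κ b) + TrivSqZeroExt.inr (δ b)
  map_one' := by
    rw [map_one, δ.map_one_eq_zero, TrivSqZeroExt.inr_zero, add_zero]
    rfl
  map_mul' x y := by
    apply TrivSqZeroExt.ext
    · simp [TrivSqZeroExt.fst_mul]
    · simp only [TrivSqZeroExt.snd_add, TrivSqZeroExt.snd_inl, TrivSqZeroExt.snd_inr, zero_add,
        TrivSqZeroExt.snd_mul, TrivSqZeroExt.fst_add, TrivSqZeroExt.fst_inl, TrivSqZeroExt.fst_inr,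
        add_zero, δ.leibniz, MulOpposite.smul_eq_mul_unop, MulOpposite.unop_op, smul_eq_mul,
        Algebra.smul_def]
      ring
  map_zero' := by
    rw [map_zero, map_zero, TrivSqZeroExt.inr_zero, TrivSqZeroExt.inl_zero, add_zero]
  map_add' x y := by
    rw [map_add, map_add, TrivSqZeroExt.inl_add, TrivSqZeroExt.inr_add]
    abel

theorem dualHom_fst {κ : Type u} [Field κ] [Algebra B κ] [Algebra A κ] [IsScalarTower A B κ]
    (δ : Derivation A B κ) (b : B) : (dualHom δ b).fst = algebraMap B κ b := by
  simp [dualHom]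

theorem dualHom_snd {κ : Type u} [Field κ] [Algebra B κ] [Algebra A κ] [IsScalarTower A B κ]
    (δ : Derivation A B κ) (b : B) : (dualHom δ b).snd = δ b := by
  simp [dualHom]

/-- derivations of `B` over `A` into the residue field of `T_q` extend to `T_q`. -/
theorem exists_derivation_ext (φ : R →ₐ[A] T) (q : Ideal T) [q.IsPrime]
    (hsurj : Function.Surjective (fAL (B := B) φ))
    (s : R ⊗[A] B) (hs : ∀ x, fAL (B := B) φ x = 0 → s * x = 0) (hsq : fAL (B := B) φ s ∉ q)
    (δ₀ : Derivation A B (ResidueField (Localization.AtPrime q))) :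
    ∃ D : Localization.AtPrime q →+ ResidueField (Localization.AtPrime q),
      (∀ x y, D (x * y) = algebraMap _ _ x * D y + algebraMap _ _ y * D x) ∧
      ∀ b : B, D (algebraMap B _ b) = δ₀ b := by
  set E := Localization.AtPrime q with hE
  set κ := ResidueField E with hκ
  let π : DualNumber κ →+* κ := (TrivSqZeroExt.fstHom κ κ κ).toRingHom
  have hπ : ∀ c : DualNumber κ, π c = c.fst := fun c => rfl
  have hunit : ∀ c : DualNumber κ, IsUnit (π c) → IsUnit c := fun c hc =>
    TrivSqZeroExt.isUnit_iff_isUnit_fst.mpr hc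
  let u : E →+* κ := algebraMap E κ
  let w : R →+* DualNumber κ :=
    (TrivSqZeroExt.inlHom κ κ).comp ((algebraMap E κ).comp ((algebraMap T E).comp φ.toRingHom))
  have hwr : ∀ r : R, w r = TrivSqZeroExt.inl (algebraMap E κ (algebraMap T E (φ r))) := fun r => rfl
  obtain ⟨v, hv1, -, hv3⟩ := lift_core (B := B) φ q hsurj s hs hsq π hunit u w (dualHom δ₀)
    (fun a => by
      rw [hwr]
      apply TrivSqZeroExt.ext
      · rw [TrivSqZeroExt.fst_inl, dualHom_fst, φ.commutes,
          ← IsScalarTower.algebraMap_apply A T E, ← IsScalarTower.algebraMap_apply A E κ,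
          ← IsScalarTower.algebraMap_apply A B κ]
      · rw [TrivSqZeroExt.snd_inl, dualHom_snd, Derivation.map_algebraMap])
    (fun r => by rw [hπ, hwr, TrivSqZeroExt.fst_inl])
    (fun b => by
      rw [hπ, dualHom_fst, ← IsScalarTower.algebraMap_apply B T E]
      exact IsScalarTower.algebraMap_apply B E κ b)
  have hfst : ∀ x : E, (v x).fst = algebraMap E κ x := by
    intro x
    have := RingHom.congr_fun hv1 x
    exact this
  let D₀ : E →+ κ :=
    { toFun := fun x => (v x).snd
      map_zero' := by rw [map_zero]; rfl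
      map_add' := fun x y => by rw [map_add]; rfl }
  refine ⟨D₀, ?_, ?_⟩
  · intro x y
    show (v (x * y)).snd = algebraMap E κ x * (v y).snd + algebraMap E κ y * (v x).snd
    rw [map_mul, TrivSqZeroExt.snd_mul, hfst, hfst, MulOpposite.smul_eq_mul_unop,
      MulOpposite.unop_op, smul_eq_mul, mul_comm (v x).snd]
  · intro b
    show (v (algebraMap B E b)).snd = δ₀ b
    rw [IsScalarTower.algebraMap_apply B T E, hv3, dualHom_snd]

end der

end Groth.Agent.Helper7.CKd
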