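import Mathlib
import Groth.Agent.Helper7.CKk9
import Groth.Agent.Helper7.CKk12
set_option linter.style.haveILetI false
set_option linter.unusedSectionVars false
set_option linter.unusedVariables false
open TensorProduct IsLocalRing Polynomial
open Groth.Agent.Helper3.ComplFam
universe u
namespace Groth.Agent.Helper7.CKd

section chat
variable (A B : Type u) [CommRing A] [CommRing B] [Algebra A B] [IsNoetherianRing A]
  [Module.Finite A B] [IsDomain A] [IsDomain B] [IsNoetherianRing B] (n : Ideal B) [n.IsPrime]

/-- derivations of `B` over `A` extend to the local rings of the completion `(B_n)^`. -/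
theorem exists_derivation_ext_chat (q : Ideal (Chat B n)) [q.IsPrime]
    (δ₀ : Derivation A B (ResidueField (Localization.AtPrime q))) :
    ∃ D : Localization.AtPrime q →+ ResidueField (Localization.AtPrime q),
      (∀ x y, D (x * y) = algebraMap _ _ x * D y + algebraMap _ _ y * D x) ∧
      ∀ b : B, D (algebraMap B _ b) = δ₀ b := by
  obtain ⟨s, hs1, hs2⟩ := exists_kill A B n
  exact exists_derivation_ext (B := B) (phiA A B n) q (fS_surjective A B n) s hs2
    (fS_notMem A B n q s hs1) δ₀

end chat

end Groth.Agent.Helper7.CKd
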