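import Mathlib
import Groth.Agent.Helper7.CKk13
set_option linter.style.haveILetI false
set_option linter.unusedSectionVars false
set_option linter.unusedVariables false
open TensorProduct IsLocalRing Polynomial
open Groth.Agent.Helper3.ComplFam
universe u
namespace Groth.Agent.Helper7.CKd

section ext
variable (A B : Type u) [CommRing A] [CommRing B] [Algebra A B] [IsNoetherianRing A]
  [Module.Finite A B] [IsDomain A] [IsDomain B] [IsNoetherianRing B] (n : Ideal B) [n.IsPrime]

/-- derivations of `Frac B` over a subfield containing the image of `A` extend to the local rings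
of the generic formal fibre of `B_n`. -/
theorem exists_ext_of_subfield (q : Ideal (Chat B n)) [q.IsPrime]
    [Algebra (FractionRing B) (Localization.AtPrime q)]
    [IsScalarTower B (FractionRing B) (Localization.AtPrime q)]
    (K' : Subfield (FractionRing B))
    (hK' : ∀ a : A, algebraMap B (FractionRing B) (algebraMap A B a) ∈ K')
    (δ : Derivation K' (FractionRing B) (ResidueField (Localization.AtPrime q))) :
    ∃ D : Localization.AtPrime q →+ ResidueField (Localization.AtPrime q),
      (∀ x y, D (x * y) = algebraMap _ _ x * D y + algebraMap _ _ y * D x) ∧
      ∀ c : FractionRing B, D (algebraMap (FractionRing B) _ c) = δ c := by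
  set E := Localization.AtPrime q with hE
  set κ := ResidueField E with hκ
  -- compatibility of actions
  have hact : ∀ (b : B) (x : κ), algebraMap B (FractionRing B) b • x = b • x := by
    intro b x
    rw [Algebra.smul_def, Algebra.smul_def, IsScalarTower.algebraMap_apply (FractionRing B) E κ,
      ← IsScalarTower.algebraMap_apply B (FractionRing B) E,
      ← IsScalarTower.algebraMap_apply B E κ]
  have hδA : ∀ a : A, δ (algebraMap B (FractionRing B) (algebraMap A B a)) = 0 := by
    intro a
    have := Derivation.map_algebraMap δ (⟨_, hK' a⟩ : K')
    exact this
  let δ₀ : Derivation A B κ :=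
    { toLinearMap :=
        { toFun := fun b => δ (algebraMap B (FractionRing B) b)
          map_add' := fun b b' => by rw [map_add, map_add]
          map_smul' := fun a b => by
            simp only [RingHom.id_apply]
            rw [Algebra.smul_def, map_mul, Derivation.leibniz, hδA, smul_zero, add_zero, hact,
              algebraMap_smul] }
      map_one_eq_zero' := by
        show δ (algebraMap B (FractionRing B) 1) = 0
        rw [map_one, Derivation.map_one_eq_zero]
      leibniz' := fun b b' => by
        show δ (algebraMap B (FractionRing B) (b * b')) = b • δ (algebraMap B _ b') +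
          b' • δ (algebraMap B _ b)
        rw [map_mul, Derivation.leibniz, hact, hact] }
  obtain ⟨D, hD1, hD2⟩ := exists_derivation_ext_chat A B n q δ₀
  refine ⟨D, hD1, ?_⟩
  intro c
  obtain ⟨a, b, hb, rfl⟩ := IsFractionRing.div_surjective (A := B) c
  have hb0 : algebraMap B (FractionRing B) b ≠ 0 := by
    intro h
    exact nonZeroDivisors.ne_zero hb ((IsFractionRing.injective B (FractionRing B))
      (by rw [h, map_zero]))
  set c := algebraMap B (FractionRing B) a / algebraMap B (FractionRing B) b with hc
  have hcb : c * algebraMap B (FractionRing B) b = algebraMap B (FractionRing B) a := by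
    rw [hc]; field_simp
  -- image of b in κ is nonzero
  have hbκ : algebraMap E κ (algebraMap B E b) ≠ 0 := by
    have hu : IsUnit (algebraMap (FractionRing B) E (algebraMap B (FractionRing B) b)) :=
      (IsUnit.mk0 _ hb0).map _
    rw [← IsScalarTower.algebraMap_apply B (FractionRing B) E] at hu
    exact (hu.map (algebraMap E κ)).ne_zero
  -- the two equations
  have e1 : algebraMap E κ (algebraMap (FractionRing B) E c) * δ₀ b +
      algebraMap E κ (algebraMap B E b) * D (algebraMap (FractionRing B) E c) = δ₀ a := by
    have h : D (algebraMap (FractionRing B) E (c * algebraMap B (FractionRing B) b)) =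
        D (algebraMap (FractionRing B) E (algebraMap B (FractionRing B) a)) := by rw [hcb]
    rw [map_mul, hD1, ← IsScalarTower.algebraMap_apply B (FractionRing B) E, hD2,
      ← IsScalarTower.algebraMap_apply B (FractionRing B) E, hD2] at h
    exact h
  have e2 : algebraMap E κ (algebraMap (FractionRing B) E c) * δ₀ b +
      algebraMap E κ (algebraMap B E b) * δ c = δ₀ a := by
    have h := congrArg δ hcb
    rw [Derivation.leibniz] at h
    show _ + _ = δ (algebraMap B (FractionRing B) a)
    rw [← h, hact, Algebra.smul_def, Algebra.smul_def,
      IsScalarTower.algebraMap_apply (FractionRing B) E κ, IsScalarTower.algebraMap_apply B E κ]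
    rfl
  have e3 : algebraMap E κ (algebraMap B E b) * D (algebraMap (FractionRing B) E c) =
      algebraMap E κ (algebraMap B E b) * δ c := by
    have := e1.trans e2.symm
    exact add_left_cancel this
  exact mul_left_cancel₀ hbκ e3

end ext

end Groth.Agent.Helper7.CKd
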