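import Mathlib
import Groth.Agent.Helper7.CKm2
import Groth.Agent.Helper7.CKm3
import Groth.Agent.Helper7.CKm4
import Groth.Agent.Helper7.CKm5
import Groth.Agent.Helper7.CKk14
import Groth.Agent.Helper7.AdJac4
import Groth.Agent.Helper2.SerreLoc
import Groth.Agent.Helper8.GeomReg9
import Groth.Agent.S0548
set_option linter.style.haveILetI false
set_option linter.unusedSectionVars false
set_option linter.unusedVariables false
open TensorProduct IsLocalRing MvPowerSeries
open Groth.Agent.Helper3.ComplFam
universe u
namespace Groth.Agent.Helper7.CKd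

/-- a regular local ring containing a field has bijective `Sym → gr`. -/
theorem symGrBijective_of_regular {K E : Type u} [Field K] [CommRing E] [IsLocalRing E]
    [IsNoetherianRing E] [Algebra K E] (hreg : IsRegularLocalRing E) :
    PP16.SymGrBijective E (maximalIdeal E) := by
  obtain ⟨F, _, _, hF⟩ := Groth.Agent.Helper8.GeomReg.exists_primeField K
  letI : Algebra F E := ((algebraMap K E).comp (algebraMap F K)).toAlgebra
  haveI : Algebra.FormallySmooth F (ResidueField E) := hF _
  haveI : Algebra.IsGeometricallyReduced F (ResidueField E) :=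
    Groth.Agent.Helper1.FieldSmooth.formallySmooth_iff_isGeometricallyReduced.mp inferInstance
  have h1 : CAlgX.IsAdicFormallySmooth F E (maximalIdeal E) :=
    ((Groth.Agent.S2453.result (k := F) (A := E)).out 3 0).mp hreg
  exact (Groth.Agent.Helper7.AdJac.local_field_iff.1 h1).1

section main
variable {k : Type u} [Field k] (r : ℕ)

local notation "R₀" => MvPowerSeries (Fin r) k
local notation "KK" => FractionRing (MvPowerSeries (Fin r) k)

theorem isRegularLocalRing_mvPowerSeries : IsRegularLocalRing (MvPowerSeries (Fin r) k) := by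
  haveI : IsRegularRing (MvPowerSeries (Fin r) k) :=
    Groth.Agent.Helper2.PSReg.isRegularRing_mvPowerSeries k r
  exact IsRegularLocalRing.of_isRegularRing_of_isLocalRing _

/-- the local rings of the generic formal fibres of `k[[T]]_P` are formally smooth over `Frac k[[T]]`,
in characteristic `p`. -/
theorem adic_charP (p : ℕ) [hp : Fact p.Prime] [CharP k p]
    (P : Ideal (MvPowerSeries (Fin r) k)) [P.IsPrime]
    (Q : Ideal (Chat (MvPowerSeries (Fin r) k) P)) [Q.IsPrime]
    [Algebra (FractionRing (MvPowerSeries (Fin r) k)) (Localization.AtPrime Q)]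
    [IsScalarTower (MvPowerSeries (Fin r) k) (FractionRing (MvPowerSeries (Fin r) k))
      (Localization.AtPrime Q)] :
    CAlgX.IsAdicFormallySmooth (FractionRing (MvPowerSeries (Fin r) k)) (Localization.AtPrime Q)
      (maximalIdeal (Localization.AtPrime Q)) := by
  haveI : IsDomain R₀ := NoZeroDivisors.to_isDomain _
  haveI : CharP R₀ p := charP_of_injective_ringHom (MvPowerSeries.C_injective (σ := Fin r) (R := k)) p
  haveI : CharP KK p := charP_of_injective_algebraMap (IsFractionRing.injective R₀ KK) p
  obtain ⟨ι, _, _, _, kk, hanti, hpow, hfin, hkk⟩ := exists_family (k := k) p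
  -- regularity
  haveI hR₀ : IsRegularLocalRing R₀ := isRegularLocalRing_mvPowerSeries r
  haveI h1 : IsRegularLocalRing (Localization.AtPrime P) :=
    Groth.Agent.Helper2.SerreLoc.isRegularLocalRing_localization R₀ P
  haveI h2 : IsRegularLocalRing (Chat R₀ P) := (Groth.Agent.S0548.result _).mp h1
  have h3 : IsRegularLocalRing (Localization.AtPrime Q) :=
    Groth.Agent.Helper2.SerreLoc.isRegularLocalRing_localization _ Q
  rw [Groth.Agent.Helper7.AdJac.field_family_iff p (fun i => Kf p r (kk i))
    (fun i j hij => Kf_mono p r (hanti hij)) (iInf_Kf p r kk hpow hkk)]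
  refine ⟨symGrBijective_of_regular (K := KK) h3, Classical.arbitrary ι, fun α _ => ?_⟩
  apply injective_of_ext (Kf p r (kk α))
  intro δ
  letI : Algebra (MvPowerSeries (Fin r) (kk α)) R₀ := (iota p r (kk α)).toAlgebra
  haveI := hfin α
  haveI : Module.Finite (MvPowerSeries (Fin r) (kk α)) R₀ := iota_finite p r (kk α)
  haveI : IsDomain (MvPowerSeries (Fin r) (kk α)) := NoZeroDivisors.to_isDomain _
  exact exists_ext_of_subfield (MvPowerSeries (Fin r) (kk α)) R₀ P Q (Kf p r (kk α))
    (fun a => jmap_mem_Kf p r (kk α) a) δ

end main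

end Groth.Agent.Helper7.CKd
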