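import Mathlib
import Groth.Agent.Helper7.CKm6
import Groth.Agent.Helper7.CKk10
import Groth.Agent.S0581
set_option linter.style.haveILetI false
set_option linter.unusedSectionVars false
set_option linter.unusedVariables false
open TensorProduct IsLocalRing MvPowerSeries
open Groth.Agent.Helper3.ComplFam
universe u
namespace Groth.Agent.Helper7.CKd

/-- the characteristic zero case: local rings of the completion of a localisation of a regular
local ring are formally smooth over the fraction field. -/
theorem adic_charZero {A : Type u} [CommRing A] [IsRegularLocalRing A] [CharZero A] [IsDomain A]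
    (P : Ideal A) [P.IsPrime] (Q : Ideal (Chat A P)) [Q.IsPrime]
    [Algebra (FractionRing A) (Localization.AtPrime Q)]
    [IsScalarTower A (FractionRing A) (Localization.AtPrime Q)] :
    CAlgX.IsAdicFormallySmooth (FractionRing A) (Localization.AtPrime Q)
      (maximalIdeal (Localization.AtPrime Q)) := by
  haveI h1 : IsRegularLocalRing (Localization.AtPrime P) :=
    Groth.Agent.Helper2.SerreLoc.isRegularLocalRing_localization A _
  haveI h2 : IsRegularLocalRing (Chat A P) := (Groth.Agent.S0548.result _).mp h1
  have h3 : IsRegularLocalRing (Localization.AtPrime Q) :=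
    Groth.Agent.Helper2.SerreLoc.isRegularLocalRing_localization _ _
  haveI : CharZero (FractionRing A) :=
    charZero_of_injective_algebraMap (IsFractionRing.injective A (FractionRing A))
  exact (Groth.Agent.Helper8.GeomReg.s2035).mp h3

/-- a Cohen ring has characteristic zero. -/
theorem not_charP_of_isCohenRing (Λ : Type u) [CommRing Λ] (h : CAlg.IsCohenRing Λ) (ℓ : ℕ)
    (hℓ : ℓ.Prime) [CharP Λ ℓ] : False := by
  obtain ⟨hd, hdvr, -, p, hp, hmax⟩ := h
  have hℓ0 : (ℓ : Λ) = 0 := CharP.cast_eq_zero Λ ℓ
  have hpm : (p : Λ) ∈ maximalIdeal Λ := by rw [hmax]; exact Ideal.mem_span_singleton_self _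
  by_cases hne : ℓ = p
  · subst hne
    apply IsDiscreteValuationRing.not_a_field Λ
    rw [hmax, hℓ0, Ideal.span_singleton_eq_bot]
  · have hco : Nat.Coprime ℓ p := (Nat.coprime_primes hℓ hp).mpr hne
    have hco' : IsCoprime (ℓ : ℤ) (p : ℤ) := Nat.isCoprime_iff_coprime.mpr hco
    obtain ⟨a, b, hab⟩ := hco'
    have h1 : ((a * ℓ + b * p : ℤ) : Λ) = 1 := by rw [hab]; simp
    push_cast at h1
    rw [hℓ0, mul_zero, zero_add] at h1
    have : (1 : Λ) ∈ maximalIdeal Λ := by
      rw [← h1]
      exact Ideal.mul_mem_left _ _ hpm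
    exact (Ideal.ne_top_iff_one _).mp (maximalIdeal.isMaximal Λ).ne_top this

theorem s4583 {A : Type u} [CommRing A]
    [IsDomain A] [IsLocalRing A] [IsNoetherianRing A] [IsAdicComplete (maximalIdeal A) A]
    (𝔭 : Ideal A) [𝔭.IsPrime] (q : Ideal (Chat A 𝔭)) [q.IsPrime]
    (hq : q.comap (algebraMap (Localization.AtPrime 𝔭) (Chat A 𝔭)) = ⊥)
    [Algebra (FractionRing A) (Localization.AtPrime q)]
    [IsScalarTower A (FractionRing A) (Localization.AtPrime q)] :
    CAlgX.IsAdicFormallySmooth (FractionRing A) (Localization.AtPrime q)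
      (maximalIdeal (Localization.AtPrime q)) := by
  obtain ⟨Λ, _, n, f, hΛ, hinj, hfin, -⟩ := Groth.Agent.S0581.result A
  have hregΛ : IsRegularRing Λ := by
    rcases hΛ with h | h
    · haveI : IsDomain Λ := h.isDomain
      haveI : IsPrincipalIdealRing Λ := h.isPrincipalIdealRing
      infer_instance
    · obtain ⟨hd, hdvr, -⟩ := h
      infer_instance
  haveI : IsLocalRing Λ := by
    rcases hΛ with h | h
    · letI := h.toField
      infer_instance
    · obtain ⟨hd, hdvr, -⟩ := h
      infer_instance
  haveI hreg : IsRegularRing (MvPowerSeries (Fin n) Λ) :=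
    Groth.Agent.Helper2.PSReg.isRegularRing_mvPowerSeries Λ n
  haveI : IsRegularLocalRing (MvPowerSeries (Fin n) Λ) :=
    IsRegularLocalRing.of_isRegularRing_of_isLocalRing _
  letI alg : Algebra (MvPowerSeries (Fin n) Λ) A := f.toAlgebra
  haveI : Module.Finite (MvPowerSeries (Fin n) Λ) A := hfin
  haveI : IsDomain (MvPowerSeries (Fin n) Λ) := hinj.isDomain f
  have hinj' : Function.Injective (algebraMap (MvPowerSeries (Fin n) Λ) A) := hinj
  apply transfer_chat (MvPowerSeries (Fin n) Λ) A 𝔭 hinj' q hq
  intro algK towK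
  obtain ⟨c, hc⟩ := CharP.exists A
  rcases CharP.char_is_prime_or_zero A c with hprime | h0
  · -- characteristic p
    haveI : Fact c.Prime := ⟨hprime⟩
    haveI : CharP (MvPowerSeries (Fin n) Λ) c := RingHom.charP f hinj c
    haveI : CharP Λ c := RingHom.charP (MvPowerSeries.C (σ := Fin n) (R := Λ))
      MvPowerSeries.C_injective c
    rcases hΛ with h | h
    · letI : Field Λ := h.toField
      exact adic_charP n c _ _
    · exact (not_charP_of_isCohenRing Λ h c hprime).elim
  · subst h0
    haveI : CharZero A := CharP.charP_to_charZero A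
    haveI : CharZero (MvPowerSeries (Fin n) Λ) := RingHom.charZero f
    exact adic_charZero _ _

end Groth.Agent.Helper7.CKd
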