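import Mathlib
import Groth.Prelude.Def_CAlgX
import Groth.Agent.Helper7.CKk5
set_option linter.style.haveILetI false
set_option linter.unusedSectionVars false
set_option linter.unusedVariables false
open TensorProduct IsLocalRing
universe u
namespace Groth.Agent.Helper7.CKd

section liftmod
variable (Λ T : Type u) [CommRing Λ] [CommRing T] [Algebra Λ T]

/-- lifting property of `T` against surjections of `Λ`-algebras with square-zero kernel whose source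
is killed by `m` (continuous for the `n`-adic topology). -/
def LiftMod (m : Ideal Λ) (n : Ideal T) : Prop :=
  ∀ (C D : Type u) [CommRing C] [CommRing D] [Algebra Λ C] [Algebra Λ D] (ρ : C →ₐ[Λ] D),
    Function.Surjective ρ → (∀ x y : C, ρ x = 0 → ρ y = 0 → x * y = 0) →
    (∀ a ∈ m, algebraMap Λ C a = 0) →
    ∀ (u : T →ₐ[Λ] D) (s : ℕ), (∀ x ∈ n ^ s, u x = 0) → ∃ v : T →ₐ[Λ] C, ρ.comp v = u

variable {Λ T}

/-- the core step (EGA 0_IV 19.7.1): kernels killed by `m`. -/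
theorem core_lift [Module.Flat Λ T] [IsNoetherianRing T] (m : Ideal Λ) (n : Ideal T)
    (hL : LiftMod Λ T m n)
    {C D : Type u} [CommRing C] [CommRing D] [Algebra Λ C] [Algebra Λ D] (ρ : C →ₐ[Λ] D)
    (hρ : Function.Surjective ρ) (hsq : ∀ x y : C, ρ x = 0 → ρ y = 0 → x * y = 0)
    (hm : ∀ a ∈ m, ∀ x : C, ρ x = 0 → a • x = 0)
    (u : T →ₐ[Λ] D) (s : ℕ) (hu : ∀ x ∈ n ^ s, u x = 0) :
    ∃ v : T →ₐ[Λ] C, ρ.comp v = u := by
  classical
  let E : Subalgebra Λ (C × T) :=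
    AlgHom.equalizer (ρ.comp (AlgHom.fst Λ C T)) (u.comp (AlgHom.snd Λ C T))
  have hEmem : ∀ (c : C) (t : T), (c, t) ∈ E ↔ ρ c = u t := fun c t => Iff.rfl
  have hE : ∀ e : E, ρ e.1.1 = u e.1.2 := fun e => e.2
  let πE : E →ₐ[Λ] T := (AlgHom.snd Λ C T).comp E.val
  have hπE_apply : ∀ e : E, πE e = e.1.2 := fun e => rfl
  have hπE : Function.Surjective πE := by
    intro t
    obtain ⟨c, hc⟩ := hρ (u t)
    exact ⟨⟨(c, t), (hEmem c t).mpr hc⟩, rfl⟩
  set mE : Ideal E := m.map (algebraMap Λ E) with hmE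
  set mT : Ideal T := m.map (algebraMap Λ T) with hmT
  have hmap : mE.map πE.toRingHom = mT := by
    rw [hmE, hmT, Ideal.map_map]
    congr 1
  have hπmE : ∀ y ∈ mE, πE y ∈ mT := by
    intro y hy
    rw [← hmap]
    exact Ideal.mem_map_of_mem _ hy
  -- Artin–Rees
  obtain ⟨c₀, hc₀⟩ := Ideal.exists_pow_inf_eq_pow_smul n (mT : Submodule T T)
  set t := c₀ + s with ht
  have hts : n ^ t ≤ n ^ s := Ideal.pow_le_pow_right (by omega)
  have hE0 : ∀ b ∈ n ^ s, ((0 : C), b) ∈ E := by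
    intro b hb
    rw [hEmem, map_zero, hu b hb]
  -- the ideal of `b` with `(0, b) ∈ mE`
  let N : Ideal T :=
    { carrier := {b | ∃ h : ((0 : C), b) ∈ E, (⟨(0, b), h⟩ : E) ∈ mE}
      zero_mem' := ⟨E.zero_mem, by
        have : (⟨(0, 0), E.zero_mem⟩ : E) = 0 := rfl
        rw [this]; exact mE.zero_mem⟩
      add_mem' := by
        rintro b₁ b₂ ⟨h₁, h₁'⟩ ⟨h₂, h₂'⟩
        have h12 : ((0 : C), b₁ + b₂) ∈ E := by
          have := E.add_mem h₁ h₂
          simpa using this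
        refine ⟨h12, ?_⟩
        have : (⟨(0, b₁ + b₂), h12⟩ : E) = ⟨(0, b₁), h₁⟩ + ⟨(0, b₂), h₂⟩ := by
          apply Subtype.ext
          simp
        rw [this]
        exact mE.add_mem h₁' h₂'
      smul_mem' := by
        rintro t' b ⟨h, h'⟩
        obtain ⟨e', rfl⟩ := hπE t'
        have h2 : (e'.1 * ((0 : C), b)) = (0, πE e' • b) := by
          rw [hπE_apply]
          ext <;> simp
        have hmul : ((0 : C), πE e' • b) ∈ E := by
          have := E.mul_mem e'.2 h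
          rwa [h2] at this
        refine ⟨hmul, ?_⟩
        have : (⟨(0, πE e' • b), hmul⟩ : E) = e' * ⟨(0, b), h⟩ := by
          apply Subtype.ext
          exact h2.symm
        rw [this]
        exact mE.mul_mem_left _ h' }
  have hN : ∀ b, b ∈ N ↔ ∃ h : ((0 : C), b) ∈ E, (⟨(0, b), h⟩ : E) ∈ mE := fun b => Iff.rfl
  have hmulN : n ^ s * mT ≤ N := by
    rw [Ideal.mul_le]
    intro y hy x hx
    revert x
    show mT ≤ Submodule.comap (LinearMap.mulLeft T y) N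
    rw [hmT, Ideal.map, Ideal.span_le]
    rintro _ ⟨a, ha, rfl⟩
    show y * algebraMap Λ T a ∈ N
    have h1 := hE0 y hy
    have h2 : ((0 : C), y * algebraMap Λ T a) ∈ E := hE0 _ (Ideal.mul_mem_right _ _ hy)
    refine ⟨h2, ?_⟩
    have : (⟨(0, y * algebraMap Λ T a), h2⟩ : E) = algebraMap Λ E a * ⟨(0, y), h1⟩ := by
      apply Subtype.ext
      rw [← Algebra.smul_def]
      ext
      · simp
      · simp [Algebra.smul_def, mul_comm]
    rw [this]
    exact Ideal.mul_mem_right _ _ (Ideal.mem_map_of_mem _ ha)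
  -- Artin–Rees consequence
  have hAR : ∀ b ∈ n ^ t, b ∈ mT → b ∈ N := by
    intro b hb hbm
    have h1 : b ∈ (n ^ t • (⊤ : Submodule T T)) ⊓ (mT : Submodule T T) := by
      refine ⟨?_, hbm⟩
      rw [smul_eq_mul, Ideal.mul_top]
      exact hb
    rw [hc₀ t (by omega)] at h1
    have h2 : n ^ (t - c₀) • (n ^ c₀ • (⊤ : Submodule T T) ⊓ (mT : Submodule T T)) ≤
        n ^ s • (mT : Submodule T T) := by
      have : t - c₀ = s := by omega
      rw [this]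
      exact Submodule.smul_mono le_rfl inf_le_right
    exact hmulN (h2 h1)
  -- the ideal `0 × n^t`
  let at' : Ideal E :=
    { carrier := {e | e.1.1 = 0 ∧ e.1.2 ∈ n ^ t}
      zero_mem' := ⟨rfl, (n ^ t).zero_mem⟩
      add_mem' := by
        rintro e₁ e₂ ⟨h₁, h₁'⟩ ⟨h₂, h₂'⟩
        refine ⟨?_, ?_⟩
        · show e₁.1.1 + e₂.1.1 = 0
          rw [h₁, h₂, add_zero]
        · exact (n ^ t).add_mem h₁' h₂'
      smul_mem' := by
        rintro e' e ⟨h₁, h₁'⟩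
        refine ⟨?_, ?_⟩
        · show e'.1.1 * e.1.1 = 0
          rw [h₁, mul_zero]
        · exact (n ^ t).mul_mem_left _ h₁' }
  have hat : ∀ e : E, e ∈ at' ↔ e.1.1 = 0 ∧ e.1.2 ∈ n ^ t := fun e => Iff.rfl
  set 𝔞 : Ideal E := mE ⊔ at' with h𝔞
  -- kernel elements are killed by `mE`
  have hkill : ∀ x ∈ mE, ∀ μ : E, πE μ = 0 → x * μ = 0 := by
    intro x hx μ hμ
    have hμ1 : ρ μ.1.1 = 0 := by
      rw [hE μ, ← hπE_apply, hμ, map_zero]
    have hμ2 : μ.1.2 = 0 := hμ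
    induction hx using Submodule.span_induction with
    | mem x hx =>
      obtain ⟨a, ha, rfl⟩ := hx
      rw [← Algebra.smul_def]
      apply Subtype.ext
      ext
      · show a • μ.1.1 = 0
        exact hm a ha _ hμ1
      · show a • μ.1.2 = 0
        rw [hμ2, smul_zero]
    | zero => rw [zero_mul]
    | add x y _ _ hx hy => rw [add_mul, hx, hy, add_zero]
    | smul c x _ hx => rw [smul_eq_mul, mul_assoc, hx, mul_zero]
  -- Claim 1
  have hclaim1 : ∀ e ∈ 𝔞, πE e = 0 → e = 0 := by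
    intro e he h0
    rw [h𝔞, Submodule.mem_sup] at he
    obtain ⟨y, hy, z, hz, rfl⟩ := he
    obtain ⟨hz1, hz2⟩ := (hat z).mp hz
    have hzm : πE z ∈ mT := by
      have : πE z = - πE y := by
        rw [map_add] at h0
        exact eq_neg_of_add_eq_zero_right h0
      rw [this]
      exact mT.neg_mem (hπmE y hy)
    obtain ⟨h, h'⟩ := hAR (πE z) hz2 hzm
    have hzeq : z = ⟨(0, πE z), h⟩ := by
      apply Subtype.ext
      ext
      · exact hz1
      · rfl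
    have hzmE : z ∈ mE := by rw [hzeq]; exact h'
    have hyz : y + z ∈ mE := mE.add_mem hy hzmE
    have := ker_inf_map_le_of_flat πE hπE m (y + z) h0 hyz
    refine Submodule.mul_induction_on this ?_ ?_
    · intro x hx μ hμ
      exact hkill x hx μ hμ
    · intro x y hx hy
      rw [hx, hy, add_zero]
  -- decomposition of elements mapping into `mT ⊔ n^t`
  set 𝔟 : Ideal T := mT ⊔ n ^ t with h𝔟
  have hdecomp : ∀ e : E, πE e ∈ 𝔟 → ∃ μ : E, πE μ = 0 ∧ e - μ ∈ 𝔞 := by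
    intro e he
    rw [h𝔟, Submodule.mem_sup] at he
    obtain ⟨x₁, hx₁, b, hb, hsum⟩ := he
    rw [← hmap] at hx₁
    obtain ⟨y₁, hy₁, hy₁'⟩ := (Ideal.mem_map_iff_of_surjective πE.toRingHom hπE).mp hx₁
    have hbE : ((0 : C), b) ∈ E := hE0 b (hts hb)
    let z : E := ⟨(0, b), hbE⟩
    have hz : z ∈ at' := ⟨rfl, hb⟩
    refine ⟨e - y₁ - z, ?_, ?_⟩
    · rw [map_sub, map_sub, ← hsum]
      have h1 : πE y₁ = x₁ := hy₁'
      have h2 : πE z = b := rfl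
      rw [h1, h2]
      ring
    · have : e - (e - y₁ - z) = y₁ + z := by ring
      rw [this, h𝔞]
      exact Submodule.add_mem_sup hy₁ hz
  have hπ𝔞 : ∀ e ∈ 𝔞, ((Ideal.Quotient.mkₐ Λ 𝔟).comp πE) e = 0 := by
    intro e he
    rw [h𝔞, Submodule.mem_sup] at he
    obtain ⟨y, hy, z, hz, rfl⟩ := he
    rw [AlgHom.comp_apply, Ideal.Quotient.mkₐ_eq_mk, Ideal.Quotient.eq_zero_iff_mem, map_add, h𝔟]
    exact Submodule.add_mem_sup (hπmE y hy) ((hat z).mp hz).2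
  let ρ' : (E ⧸ 𝔞) →ₐ[Λ] (T ⧸ 𝔟) :=
    Ideal.Quotient.liftₐ 𝔞 ((Ideal.Quotient.mkₐ Λ 𝔟).comp πE) hπ𝔞
  have hρ'mk : ∀ e : E, ρ' (Ideal.Quotient.mk 𝔞 e) = Ideal.Quotient.mk 𝔟 (πE e) := fun e => rfl
  have hρ'surj : Function.Surjective ρ' := by
    intro x
    obtain ⟨t₀, rfl⟩ := Ideal.Quotient.mk_surjective x
    obtain ⟨e, rfl⟩ := hπE t₀
    exact ⟨Ideal.Quotient.mk 𝔞 e, hρ'mk e⟩
  have hker' : ∀ x : E ⧸ 𝔞, ρ' x = 0 → ∃ μ : E, πE μ = 0 ∧ x = Ideal.Quotient.mk 𝔞 μ := by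
    intro x hx
    obtain ⟨e, rfl⟩ := Ideal.Quotient.mk_surjective x
    rw [hρ'mk, Ideal.Quotient.eq_zero_iff_mem] at hx
    obtain ⟨μ, hμ, hμ'⟩ := hdecomp e hx
    exact ⟨μ, hμ, (Ideal.Quotient.eq.mpr hμ')⟩
  have hMsq : ∀ μ₁ μ₂ : E, πE μ₁ = 0 → πE μ₂ = 0 → μ₁ * μ₂ = 0 := by
    intro μ₁ μ₂ h₁ h₂
    apply Subtype.ext
    ext
    · show μ₁.1.1 * μ₂.1.1 = 0
      apply hsq
      · rw [hE μ₁, ← hπE_apply, h₁, map_zero]
      · rw [hE μ₂, ← hπE_apply, h₂, map_zero]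
    · show μ₁.1.2 * μ₂.1.2 = 0
      have : μ₁.1.2 = 0 := h₁
      rw [this, zero_mul]
  have hsq' : ∀ x y : E ⧸ 𝔞, ρ' x = 0 → ρ' y = 0 → x * y = 0 := by
    intro x y hx hy
    obtain ⟨μ₁, h₁, rfl⟩ := hker' x hx
    obtain ⟨μ₂, h₂, rfl⟩ := hker' y hy
    rw [← map_mul, hMsq μ₁ μ₂ h₁ h₂, map_zero]
  have hmC' : ∀ a ∈ m, algebraMap Λ (E ⧸ 𝔞) a = 0 := by
    intro a ha
    rw [← Ideal.Quotient.mk_algebraMap, Ideal.Quotient.eq_zero_iff_mem, h𝔞]
    exact Ideal.mem_sup_left (Ideal.mem_map_of_mem _ ha)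
  obtain ⟨v', hv'⟩ := hL (E ⧸ 𝔞) (T ⧸ 𝔟) ρ' hρ'surj hsq' hmC' (Ideal.Quotient.mkₐ Λ 𝔟) t (by
    intro x hx
    rw [Ideal.Quotient.mkₐ_eq_mk, Ideal.Quotient.eq_zero_iff_mem, h𝔟]
    exact Ideal.mem_sup_right hx)
  have hv'app : ∀ t₀ : T, ρ' (v' t₀) = Ideal.Quotient.mk 𝔟 t₀ := fun t₀ => by
    have := congrArg (fun f => f t₀) hv'
    exact this
  -- Lemma A
  have hex : ∀ t₀ : T, ∃ e : E, πE e = t₀ ∧ Ideal.Quotient.mk 𝔞 e = v' t₀ := by
    intro t₀
    obtain ⟨e₀, he₀⟩ := hπE t₀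
    have hx : ρ' (Ideal.Quotient.mk 𝔞 e₀ - v' t₀) = 0 := by
      rw [map_sub, hρ'mk, hv'app, he₀, sub_self]
    obtain ⟨μ, hμ, hμ'⟩ := hker' _ hx
    refine ⟨e₀ - μ, ?_, ?_⟩
    · rw [map_sub, hμ, sub_zero, he₀]
    · rw [map_sub, ← hμ']
      ring
  have huniq : ∀ e e' : E, πE e = πE e' →
      Ideal.Quotient.mk 𝔞 e = Ideal.Quotient.mk 𝔞 e' → e = e' := by
    intro e e' h1 h2
    have h3 : e - e' ∈ 𝔞 := Ideal.Quotient.eq.mp h2
    have h4 : πE (e - e') = 0 := by rw [map_sub, h1, sub_self]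
    exact sub_eq_zero.mp (hclaim1 _ h3 h4)
  choose σ hσ1 hσ2 using hex
  let σA : T →ₐ[Λ] E :=
    { toFun := σ
      map_one' := huniq _ _ (by rw [hσ1, map_one]) (by rw [hσ2, map_one, map_one])
      map_mul' := fun x y => huniq _ _ (by rw [hσ1, map_mul, hσ1, hσ1])
        (by rw [hσ2, map_mul, map_mul, hσ2, hσ2])
      map_zero' := huniq _ _ (by rw [hσ1, map_zero]) (by rw [hσ2, map_zero, map_zero])
      map_add' := fun x y => huniq _ _ (by rw [hσ1, map_add, hσ1, hσ1])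
        (by rw [hσ2, map_add, map_add, hσ2, hσ2])
      commutes' := fun a => huniq _ _ (by rw [hσ1, AlgHom.commutes])
        (by rw [hσ2, AlgHom.commutes, Ideal.Quotient.mk_algebraMap]) }
  refine ⟨(AlgHom.fst Λ C T).comp (E.val.comp σA), ?_⟩
  ext t₀
  show ρ (σ t₀).1.1 = u t₀
  rw [hE, ← hπE_apply, hσ1]

/-- induction on the `m`-adic order of the kernel. -/
theorem lift_of_pow [Module.Flat Λ T] [IsNoetherianRing T] (m : Ideal Λ) (n : Ideal T)
    (hL : LiftMod Λ T m n) :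
    ∀ (i : ℕ) (C D : Type u) [CommRing C] [CommRing D] [Algebra Λ C] [Algebra Λ D]
      (ρ : C →ₐ[Λ] D), Function.Surjective ρ → (∀ x y : C, ρ x = 0 → ρ y = 0 → x * y = 0) →
      (∀ a ∈ m ^ i, ∀ x : C, ρ x = 0 → a • x = 0) →
      ∀ (u : T →ₐ[Λ] D) (s : ℕ), (∀ x ∈ n ^ s, u x = 0) → ∃ v : T →ₐ[Λ] C, ρ.comp v = u := by
  intro i
  induction i with
  | zero =>
    intro C D _ _ _ _ ρ hρ hsq hm u s hu
    have hinj : Function.Injective ρ := by
      rw [injective_iff_map_eq_zero]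
      intro x hx
      have := hm (1 : Λ) (by rw [pow_zero, Ideal.one_eq_top]; exact Submodule.mem_top) x hx
      rwa [one_smul] at this
    let e : C ≃ₐ[Λ] D := AlgEquiv.ofBijective ρ ⟨hinj, hρ⟩
    refine ⟨(e.symm : D →ₐ[Λ] C).comp u, ?_⟩
    ext t₀
    show ρ (e.symm (u t₀)) = u t₀
    exact e.apply_symm_apply (u t₀)
  | succ i ih =>
    intro C D _ _ _ _ ρ hρ hsq hm u s hu
    set K : Ideal C := RingHom.ker ρ.toRingHom with hK
    have hKmem : ∀ x, x ∈ K ↔ ρ x = 0 := fun x => Iff.rfl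
    set J₁ : Ideal C := m.map (algebraMap Λ C) * K with hJ₁
    have hJ₁K : J₁ ≤ K := Ideal.mul_le_right
    let ρ₁ : (C ⧸ J₁) →ₐ[Λ] D := Ideal.Quotient.liftₐ J₁ ρ (fun x hx => (hKmem x).mp (hJ₁K hx))
    have hρ₁mk : ∀ x : C, ρ₁ (Ideal.Quotient.mk J₁ x) = ρ x := fun x => rfl
    have hρ₁surj : Function.Surjective ρ₁ := by
      intro d
      obtain ⟨c, rfl⟩ := hρ d
      exact ⟨Ideal.Quotient.mk J₁ c, hρ₁mk c⟩
    have hsq₁ : ∀ x y : C ⧸ J₁, ρ₁ x = 0 → ρ₁ y = 0 → x * y = 0 := by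
      intro x y hx hy
      obtain ⟨x, rfl⟩ := Ideal.Quotient.mk_surjective x
      obtain ⟨y, rfl⟩ := Ideal.Quotient.mk_surjective y
      rw [hρ₁mk] at hx hy
      rw [← map_mul, hsq x y hx hy, map_zero]
    have hm₁ : ∀ a ∈ m, ∀ x : C ⧸ J₁, ρ₁ x = 0 → a • x = 0 := by
      intro a ha x hx
      obtain ⟨x, rfl⟩ := Ideal.Quotient.mk_surjective x
      rw [hρ₁mk] at hx
      rw [← Ideal.Quotient.mkₐ_eq_mk Λ, ← map_smul, Ideal.Quotient.mkₐ_eq_mk,
        Ideal.Quotient.eq_zero_iff_mem, Algebra.smul_def, hJ₁]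
      exact Ideal.mul_mem_mul (Ideal.mem_map_of_mem _ ha) ((hKmem x).mpr hx)
    obtain ⟨u₁, hu₁⟩ := core_lift m n hL ρ₁ hρ₁surj hsq₁ hm₁ u s hu
    have hu₁app : ∀ t₀ : T, ρ₁ (u₁ t₀) = u t₀ := fun t₀ => congrArg (fun f => f t₀) hu₁
    have hu₁kill : ∀ x ∈ n ^ (s + s), u₁ x = 0 := by
      intro x hx
      rw [pow_add] at hx
      refine Submodule.mul_induction_on hx ?_ ?_
      · intro a ha b hb
        rw [map_mul]
        apply hsq₁
        · rw [hu₁app, hu a ha]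
        · rw [hu₁app, hu b hb]
      · intro a b ha hb
        rw [map_add, ha, hb, add_zero]
    -- the second lifting
    have hsq₂ : ∀ x y : C, Ideal.Quotient.mkₐ Λ J₁ x = 0 → Ideal.Quotient.mkₐ Λ J₁ y = 0 →
        x * y = 0 := by
      intro x y hx hy
      rw [Ideal.Quotient.mkₐ_eq_mk, Ideal.Quotient.eq_zero_iff_mem] at hx hy
      exact hsq x y ((hKmem x).mp (hJ₁K hx)) ((hKmem y).mp (hJ₁K hy))
    have hm₂ : ∀ a ∈ m ^ i, ∀ x : C, Ideal.Quotient.mkₐ Λ J₁ x = 0 → a • x = 0 := by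
      intro a ha x hx
      rw [Ideal.Quotient.mkₐ_eq_mk, Ideal.Quotient.eq_zero_iff_mem, hJ₁] at hx
      have key : ∀ x₁ ∈ m.map (algebraMap Λ C), ∀ x₂ ∈ K, a • (x₁ * x₂) = 0 := by
        intro x₁ hx₁
        induction hx₁ using Submodule.span_induction with
        | mem x₁ hx₁ =>
          intro x₂ hx₂
          obtain ⟨b, hb, rfl⟩ := hx₁
          rw [← Algebra.smul_def, smul_smul]
          exact hm (a * b) (by rw [pow_succ]; exact Ideal.mul_mem_mul ha hb) x₂ ((hKmem x₂).mp hx₂)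
        | zero => intro x₂ _; rw [zero_mul, smul_zero]
        | add y z _ _ hy hz => intro x₂ hx₂; rw [add_mul, smul_add, hy x₂ hx₂, hz x₂ hx₂, add_zero]
        | smul c y _ hy =>
          intro x₂ hx₂
          rw [smul_eq_mul, mul_comm c y, mul_assoc]
          exact hy (c * x₂) (K.mul_mem_left c hx₂)
      refine Submodule.mul_induction_on hx ?_ ?_
      · intro x₁ hx₁ x₂ hx₂
        exact key x₁ hx₁ x₂ hx₂
      · intro x y hx hy
        rw [smul_add, hx, hy, add_zero]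
    obtain ⟨v, hv⟩ := ih C (C ⧸ J₁) (Ideal.Quotient.mkₐ Λ J₁) (Ideal.Quotient.mkₐ_surjective Λ J₁)
      hsq₂ hm₂ u₁ (s + s) hu₁kill
    refine ⟨v, ?_⟩
    ext t₀
    have h1 : Ideal.Quotient.mk J₁ (v t₀) = u₁ t₀ := congrArg (fun f => f t₀) hv
    show ρ (v t₀) = u t₀
    rw [← hρ₁mk, h1, hu₁app]

/-- EGA 0_IV 19.7.1 (one direction), abstract form. -/
theorem adic_of_liftMod [Module.Flat Λ T] [IsNoetherianRing T] (m : Ideal Λ) (n : Ideal T)
    (hmn : m.map (algebraMap Λ T) ≤ n) (hL : LiftMod Λ T m n) :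
    CAlgX.IsAdicFormallySmooth Λ T n := by
  intro C _ _ J hJ ψ hψ
  obtain ⟨s, hs⟩ := hψ
  have hmJ : ∀ a ∈ m ^ s, algebraMap Λ C a ∈ J := by
    intro a ha
    rw [← Ideal.Quotient.eq_zero_iff_mem, Ideal.Quotient.mk_algebraMap, ← ψ.commutes]
    apply hs
    have h1 : algebraMap Λ T a ∈ (m ^ s).map (algebraMap Λ T) := Ideal.mem_map_of_mem _ ha
    rw [Ideal.map_pow] at h1
    exact Ideal.pow_right_mono hmn s h1
  have hsqJ : ∀ x y : C, x ∈ J → y ∈ J → x * y = 0 := by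
    intro x y hx hy
    have : x * y ∈ J ^ 2 := by rw [pow_two]; exact Ideal.mul_mem_mul hx hy
    rwa [hJ] at this
  obtain ⟨v, hv⟩ := lift_of_pow m n hL s C (C ⧸ J) (Ideal.Quotient.mkₐ Λ J)
    (Ideal.Quotient.mkₐ_surjective Λ J)
    (fun x y hx hy => hsqJ x y (by rwa [Ideal.Quotient.mkₐ_eq_mk, Ideal.Quotient.eq_zero_iff_mem] at hx)
      (by rwa [Ideal.Quotient.mkₐ_eq_mk, Ideal.Quotient.eq_zero_iff_mem] at hy))
    (fun a ha x hx => by
      rw [Ideal.Quotient.mkₐ_eq_mk, Ideal.Quotient.eq_zero_iff_mem] at hx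
      rw [Algebra.smul_def]
      exact hsqJ _ _ (hmJ a ha) hx)
    ψ s hs
  exact ⟨v, hv⟩

end liftmod
end Groth.Agent.Helper7.CKd
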