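import Mathlib
import Groth.Prelude.Def_CAlgX
import Groth.Agent.Helper7.CKp1
set_option linter.style.haveILetI false
set_option linter.unusedSectionVars false
set_option linter.unusedVariables false
open TensorProduct IsLocalRing
universe u
namespace Groth.Agent.Helper7.CKd

section fibre
variable {Λ T k T' : Type u} [CommRing Λ] [CommRing T] [Algebra Λ T] [CommRing k] [CommRing T']
  [Algebra k T']

/-- adic formal smoothness of the closed fibre gives the lifting property `LiftMod`. -/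
theorem liftMod_of_adic (m : Ideal Λ) (n : Ideal T)
    (π : Λ →+* k) (hπ : Function.Surjective π) (hkπ : RingHom.ker π ≤ m)
    (θ : T →+* T') (hθ : Function.Surjective θ)
    (hkθ : RingHom.ker θ ≤ m.map (algebraMap Λ T))
    (hcomp : ∀ a, θ (algebraMap Λ T a) = algebraMap k T' (π a))
    (hfs : CAlgX.IsAdicFormallySmooth k T' (n.map θ)) : LiftMod Λ T m n := by
  intro C D _ _ _ _ ρ hρ hsq hmC u s hu
  let φC : k →+* C := RingHom.liftOfSurjective π hπ
    ⟨algebraMap Λ C, fun a ha => hmC a (hkπ ha)⟩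
  have hφC : ∀ a, φC (π a) = algebraMap Λ C a := fun a =>
    RingHom.liftOfRightInverse_comp_apply _ _ _ ⟨algebraMap Λ C, fun a ha => hmC a (hkπ ha)⟩ a
  letI algkC : Algebra k C := φC.toAlgebra
  have halg : ∀ a, algebraMap k C (π a) = algebraMap Λ C a := hφC
  set J : Ideal C := RingHom.ker ρ.toRingHom with hJ
  have hJmem : ∀ x, x ∈ J ↔ ρ x = 0 := fun x => Iff.rfl
  have hJ2 : J ^ 2 = ⊥ := by
    rw [pow_two, eq_bot_iff, Ideal.mul_le]
    intro x hx y hy
    rw [Ideal.mem_bot]
    exact hsq x y hx hy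
  have hρ' : Function.Surjective ρ.toRingHom := hρ
  let e : (C ⧸ J) ≃+* D := RingHom.quotientKerEquivOfSurjective hρ'
  have he : ∀ x : C, e (Ideal.Quotient.mk J x) = ρ x := fun x =>
    RingHom.quotientKerEquivOfSurjective_apply_mk hρ' x
  have hukill : RingHom.ker θ ≤ RingHom.ker u.toRingHom := by
    refine hkθ.trans ?_
    rw [Ideal.map_le_iff_le_comap]
    intro a ha
    rw [Ideal.mem_comap, RingHom.mem_ker]
    show u (algebraMap Λ T a) = 0
    rw [u.commutes, ← ρ.commutes, hmC a ha, map_zero]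
  let u'' : T' →+* D := RingHom.liftOfSurjective θ hθ ⟨u.toRingHom, hukill⟩
  have hu'' : ∀ x, u'' (θ x) = u x := fun x =>
    RingHom.liftOfRightInverse_comp_apply _ _ _ ⟨u.toRingHom, hukill⟩ x
  let ψ : T' →ₐ[k] C ⧸ J :=
    { (e.symm.toRingHom.comp u'') with
      commutes' := fun c => by
        obtain ⟨a, rfl⟩ := hπ c
        show e.symm (u'' (algebraMap k T' (π a))) = algebraMap k (C ⧸ J) (π a)
        rw [← hcomp, hu'', u.commutes, RingEquiv.symm_apply_eq, ← Ideal.Quotient.mk_algebraMap,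
          he, halg, ρ.commutes] }
  have hψ : ∀ x, ψ (θ x) = e.symm (u x) := fun x => by
    show e.symm (u'' (θ x)) = _
    rw [hu'']
  have hψkill : ∀ x ∈ (n.map θ) ^ s, ψ x = 0 := by
    intro x hx
    rw [← Ideal.map_pow] at hx
    obtain ⟨y, hy, rfl⟩ := (Ideal.mem_map_iff_of_surjective θ hθ).mp hx
    rw [hψ, hu y hy, map_zero]
  obtain ⟨χ, hχ⟩ := hfs C J hJ2 ψ ⟨s, hψkill⟩
  have hχapp : ∀ x, Ideal.Quotient.mk J (χ x) = ψ x := fun x => congrArg (fun f => f x) hχ
  let v : T →ₐ[Λ] C :=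
    { (χ.toRingHom.comp θ) with
      commutes' := fun a => by
        show χ (θ (algebraMap Λ T a)) = algebraMap Λ C a
        rw [hcomp, χ.commutes, halg] }
  refine ⟨v, ?_⟩
  ext x
  show ρ (χ (θ x)) = u x
  rw [← he, hχapp, hψ, RingEquiv.apply_symm_apply]

/-- EGA 0_IV 19.7.1 (one direction), flexible form: a flat algebra with adically formally smooth
closed fibre is adically formally smooth. -/
theorem adic_of_flat_of_fibre [Module.Flat Λ T] [IsNoetherianRing T] (m : Ideal Λ) (n : Ideal T)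
    (hmn : m.map (algebraMap Λ T) ≤ n)
    (π : Λ →+* k) (hπ : Function.Surjective π) (hkπ : RingHom.ker π ≤ m)
    (θ : T →+* T') (hθ : Function.Surjective θ)
    (hkθ : RingHom.ker θ ≤ m.map (algebraMap Λ T))
    (hcomp : ∀ a, θ (algebraMap Λ T a) = algebraMap k T' (π a))
    (hfs : CAlgX.IsAdicFormallySmooth k T' (n.map θ)) : CAlgX.IsAdicFormallySmooth Λ T n :=
  adic_of_liftMod m n hmn (liftMod_of_adic m n π hπ hkπ θ hθ hkθ hcomp hfs)

end fibre

section quot
variable {Λ T : Type u} [CommRing Λ] [CommRing T] [Algebra Λ T]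

/-- EGA 0_IV 19.7.1 (one direction), quotient form. -/
theorem adic_of_flat_of_quotient [Module.Flat Λ T] [IsNoetherianRing T] (m : Ideal Λ) (n : Ideal T)
    (hmn : m.map (algebraMap Λ T) ≤ n)
    (hfs : CAlgX.IsAdicFormallySmooth (Λ ⧸ m) (T ⧸ m.map (algebraMap Λ T))
      (n.map (Ideal.Quotient.mk (m.map (algebraMap Λ T))))) :
    CAlgX.IsAdicFormallySmooth Λ T n := by
  refine adic_of_flat_of_fibre m n hmn (Ideal.Quotient.mk m) Ideal.Quotient.mk_surjective
    (by rw [Ideal.mk_ker]) (Ideal.Quotient.mk (m.map (algebraMap Λ T)))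
    Ideal.Quotient.mk_surjective (by rw [Ideal.mk_ker]) (fun a => rfl) hfs

end quot
end Groth.Agent.Helper7.CKd
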