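import Mathlib
import Groth.Agent.Helper7.CKk7
set_option linter.style.haveILetI false
set_option linter.unusedSectionVars false
set_option linter.unusedVariables false
open TensorProduct IsLocalRing Polynomial
open Groth.Agent.Helper3.ComplFam
universe u
namespace Groth.Agent.Helper7.CKd

attribute [local instance] Algebra.TensorProduct.rightAlgebra

section quot
variable (A : Type u) [CommRing A] [IsNoetherianRing A] (r' : Ideal A)
  (n : Ideal (A ⧸ r')) [n.IsPrime]

local notation "P" => n.comap (algebraMap A (A ⧸ r'))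
local notation "R" => Chat A (n.comap (algebraMap A (A ⧸ r')))
local notation "R'" => Chat (A ⧸ r') n

theorem le_comap_quot : r' ≤ P := by
  intro a ha
  rw [Ideal.mem_comap, Ideal.Quotient.algebraMap_eq, Ideal.Quotient.eq_zero_iff_mem.mpr ha]
  exact n.zero_mem

/-- the completed local rings of a quotient: `(A_P)^ → ((A/r')_n)^` is surjective. -/
theorem phi_quot_surjective : Function.Surjective (phi A (A ⧸ r') n) := by
  intro z
  obtain ⟨x, rfl⟩ := fS_surjective A (A ⧸ r') n z
  induction x using TensorProduct.induction_on with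
  | zero => exact ⟨0, by rw [map_zero, map_zero]⟩
  | tmul ρ b =>
    obtain ⟨a, rfl⟩ := Ideal.Quotient.mk_surjective b
    refine ⟨ρ * algebraMap A R a, ?_⟩
    rw [fS_tmul, map_mul, phi_algebraMap, ← Ideal.Quotient.algebraMap_eq,
      ← IsScalarTower.algebraMap_apply]
  | add x y hx hy =>
    obtain ⟨x', hx'⟩ := hx
    obtain ⟨y', hy'⟩ := hy
    exact ⟨x' + y', by rw [map_add, map_add, hx', hy']⟩

theorem map_le_ker_phi_quot :
    r'.map (algebraMap A R) ≤ RingHom.ker (phi A (A ⧸ r') n) := by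
  rw [Ideal.map_le_iff_le_comap]
  intro a ha
  rw [Ideal.mem_comap, RingHom.mem_ker, phi_algebraMap,
    IsScalarTower.algebraMap_apply A (A ⧸ r') R', Ideal.Quotient.algebraMap_eq,
    Ideal.Quotient.eq_zero_iff_mem.mpr ha, map_zero]

/-- the kernel of `(A_P)^ → ((A/r')_n)^` is `r' (A_P)^`. -/
theorem ker_phi_quot :
    RingHom.ker (phi A (A ⧸ r') n) = r'.map (algebraMap A R) := by
  apply le_antisymm _ (map_le_ker_phi_quot A r' n)
  intro x hx
  rw [RingHom.mem_ker] at hx
  set I : Ideal R := r'.map (algebraMap A R) with hI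
  have hIle : I ≤ maximalIdeal R := by
    refine le_trans (Ideal.map_mono (le_comap_quot A r' n)) ?_
    exact chat_map_le A P
  haveI : Nontrivial (R ⧸ I) := by
    apply Ideal.Quotient.nontrivial_iff.mpr
    intro h
    rw [h] at hIle
    exact (maximalIdeal.isMaximal R).ne_top (top_le_iff.mp hIle)
  haveI : IsLocalRing (R ⧸ I) :=
    IsLocalRing.of_surjective' (Ideal.Quotient.mk I) Ideal.Quotient.mk_surjective
  -- the map `S → R/I`
  let g₂ : (A ⧸ r') →ₐ[A] R ⧸ I := Ideal.Quotient.liftₐ r' (Algebra.ofId A (R ⧸ I)) (by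
    intro a ha
    show algebraMap A (R ⧸ I) a = 0
    rw [IsScalarTower.algebraMap_apply A R (R ⧸ I), Ideal.Quotient.algebraMap_eq I,
      Ideal.Quotient.eq_zero_iff_mem]
    exact Ideal.mem_map_of_mem _ ha)
  have hg₂ : ∀ a : A, g₂ (Ideal.Quotient.mk r' a) = Ideal.Quotient.mk I (algebraMap A R a) := by
    intro a
    show algebraMap A (R ⧸ I) a = _
    rw [IsScalarTower.algebraMap_apply A R (R ⧸ I), Ideal.Quotient.algebraMap_eq I]
  let g : R ⊗[A] (A ⧸ r') →ₐ[A] R ⧸ I :=
    Algebra.TensorProduct.lift (Ideal.Quotient.mkₐ A I) g₂ (fun _ _ => Commute.all _ _)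
  have hg : ∀ (ρ : R) (b : A ⧸ r'), g (ρ ⊗ₜ b) = Ideal.Quotient.mk I ρ * g₂ b := fun ρ b =>
    Algebra.TensorProduct.lift_tmul _ _ _ ρ b
  obtain ⟨s, hs1, hs2⟩ := exists_kill A (A ⧸ r') n
  have h1 : s * (x ⊗ₜ[A] (1 : A ⧸ r')) = 0 := by
    apply hs2
    rw [fS_tmul, hx, zero_mul]
  have h2 : g s * Ideal.Quotient.mk I x = 0 := by
    have := congrArg g h1
    rw [map_mul, hg, map_one, mul_one, map_zero] at this
    exact this
  have h3 : g s - 1 ∈ maximalIdeal (R ⧸ I) := by
    have hle : (n.map (algebraMap (A ⧸ r') (R ⊗[A] (A ⧸ r')))).map g.toRingHom ≤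
        maximalIdeal (R ⧸ I) := by
      rw [Ideal.map_map, Ideal.map_le_iff_le_comap]
      intro b hb
      obtain ⟨a, rfl⟩ := Ideal.Quotient.mk_surjective b
      rw [Ideal.mem_comap]
      show g (algebraMap (A ⧸ r') (R ⊗[A] (A ⧸ r')) (Ideal.Quotient.mk r' a)) ∈ _
      rw [Algebra.TensorProduct.right_algebraMap_apply, hg, map_one, one_mul, hg₂]
      have ha : a ∈ P := hb
      have : algebraMap A R a ∈ maximalIdeal R := chat_map_le A P (Ideal.mem_map_of_mem _ ha)
      rw [← IsLocalRing.map_maximalIdeal_of_surjective (Ideal.Quotient.mk I)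
        Ideal.Quotient.mk_surjective]
      exact Ideal.mem_map_of_mem _ this
    have := hle (Ideal.mem_map_of_mem g.toRingHom hs1)
    rw [AlgHom.toRingHom_eq_coe, RingHom.coe_coe, map_sub, map_one] at this
    exact this
  have h4 : IsUnit (g s) := by
    by_contra hns
    have h5 : g s ∈ maximalIdeal (R ⧸ I) := (IsLocalRing.mem_maximalIdeal _).mpr hns
    have h6 : (1 : R ⧸ I) ∈ maximalIdeal (R ⧸ I) := by
      have := (maximalIdeal (R ⧸ I)).sub_mem h5 h3
      rwa [sub_sub_cancel] at this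
    exact (Ideal.ne_top_iff_one _).mp (maximalIdeal.isMaximal _).ne_top h6
  have h5 : Ideal.Quotient.mk I x = 0 := by
    obtain ⟨w, hw⟩ := h4
    rw [← hw] at h2
    exact (Units.mul_right_eq_zero w).mp h2
  exact Ideal.Quotient.eq_zero_iff_mem.mp h5

end quot
end Groth.Agent.Helper7.CKd
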