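import Mathlib
set_option linter.style.haveILetI false
set_option linter.unusedSectionVars false
set_option linter.unusedVariables false
open TensorProduct IsLocalRing
universe u
namespace Groth.Agent.Helper7.CKd

section locsurj
variable {R R' : Type*} [CommRing R] [CommRing R'] (ψ : R →+* R') (hψ : Function.Surjective ψ)
  (q : Ideal R) [q.IsPrime] (q' : Ideal R') [q'.IsPrime] (h : q = q'.comap ψ)

include hψ in
theorem localRingHom_surjective_of_surjective :
    Function.Surjective (Localization.localRingHom q q' ψ h) := by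
  intro y
  obtain ⟨x', s', rfl⟩ := IsLocalization.exists_mk'_eq q'.primeCompl y
  obtain ⟨x, rfl⟩ := hψ x'
  obtain ⟨s, hs⟩ := hψ s'.1
  have hsq : s ∈ q.primeCompl := by
    intro hmem
    have hmem' : s ∈ q'.comap ψ := h ▸ hmem
    rw [Ideal.mem_comap, hs] at hmem'
    exact s'.2 hmem'
  refine ⟨IsLocalization.mk' _ x ⟨s, hsq⟩, ?_⟩
  rw [Localization.localRingHom_mk']
  congr 1
  exact Subtype.ext hs

include hψ in
theorem ker_localRingHom_of_surjective :
    RingHom.ker (Localization.localRingHom q q' ψ h) =
      (RingHom.ker ψ).map (algebraMap R (Localization.AtPrime q)) := by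
  apply le_antisymm
  · intro y hy
    obtain ⟨x, s, rfl⟩ := IsLocalization.exists_mk'_eq q.primeCompl y
    rw [RingHom.mem_ker, Localization.localRingHom_mk', IsLocalization.mk'_eq_zero_iff] at hy
    obtain ⟨u', hu'⟩ := hy
    obtain ⟨u, hu⟩ := hψ u'.1
    have huq : u ∈ q.primeCompl := by
      intro hmem
      have hmem' : u ∈ q'.comap ψ := h ▸ hmem
      rw [Ideal.mem_comap, hu] at hmem'
      exact u'.2 hmem'
    rw [IsLocalization.mk'_mem_map_algebraMap_iff]
    refine ⟨u, huq, ?_⟩
    rw [RingHom.mem_ker, map_mul, hu]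
    exact hu'
  · rw [Ideal.map_le_iff_le_comap]
    intro x hx
    rw [Ideal.mem_comap, RingHom.mem_ker, Localization.localRingHom_to_map,
      (RingHom.mem_ker).mp hx, map_zero]

end locsurj
end Groth.Agent.Helper7.CKd
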