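import Mathlib
set_option linter.style.haveILetI false
set_option linter.unusedSectionVars false
set_option linter.unusedVariables false
open TensorProduct IsLocalRing
universe u
namespace Groth.Agent.Helper7.CKd

section res
variable (A : Type u) [CommRing A] (P : Ideal A) [P.IsPrime]
  (r : Ideal (Localization.AtPrime P)) [r.IsPrime] (r' : Ideal A) [r'.IsPrime]
  (hr : r.comap (algebraMap A (Localization.AtPrime P)) = r')

/-- `A → Frac(A/r')`. -/
noncomputable def resMap₀ : A →+* FractionRing (A ⧸ r') :=
  (algebraMap (A ⧸ r') (FractionRing (A ⧸ r'))).comp (Ideal.Quotient.mk r')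

theorem resMap₀_eq_zero_iff (a : A) : resMap₀ A r' a = 0 ↔ a ∈ r' := by
  unfold resMap₀
  rw [RingHom.comp_apply, map_eq_zero_iff _ (IsFractionRing.injective (A ⧸ r') _),
    Ideal.Quotient.eq_zero_iff_mem]

include hr in
theorem le_of_comap_eq : r' ≤ P := by
  intro a ha
  rw [← hr, Ideal.mem_comap] at ha
  have h1 : algebraMap A (Localization.AtPrime P) a ∈ maximalIdeal (Localization.AtPrime P) :=
    IsLocalRing.le_maximalIdeal (Ideal.IsPrime.ne_top inferInstance) ha
  exact (IsLocalization.AtPrime.to_map_mem_maximal_iff (Localization.AtPrime P) P a).mp h1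

/-- `A_P → Frac(A/r')`. -/
noncomputable def resMapB : Localization.AtPrime P →+* FractionRing (A ⧸ r') :=
  IsLocalization.lift (M := P.primeCompl) (g := resMap₀ A r') (fun y =>
    isUnit_iff_ne_zero.mpr (fun h0 => y.2 (le_of_comap_eq A P r r' hr
      ((resMap₀_eq_zero_iff A r' y).mp h0))))

theorem resMapB_algebraMap (a : A) :
    resMapB A P r r' hr (algebraMap A (Localization.AtPrime P) a) = resMap₀ A r' a :=
  IsLocalization.lift_eq _ a

theorem resMapB_eq_zero_iff (y : Localization.AtPrime P) : resMapB A P r r' hr y = 0 ↔ y ∈ r := by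
  obtain ⟨a, s, rfl⟩ := IsLocalization.exists_mk'_eq P.primeCompl y
  unfold resMapB
  rw [IsLocalization.lift_mk'_spec, mul_zero, resMap₀_eq_zero_iff, IsLocalization.mk'_mem_iff,
    ← hr, Ideal.mem_comap]

/-- `(A_P)_r → Frac(A/r')`, the residue field map. -/
noncomputable def resMap : Localization.AtPrime r →+* FractionRing (A ⧸ r') :=
  IsLocalization.lift (M := r.primeCompl) (g := resMapB A P r r' hr) (fun y =>
    isUnit_iff_ne_zero.mpr (fun h0 => y.2 ((resMapB_eq_zero_iff A P r r' hr y).mp h0)))

theorem resMap_algebraMapB (b : Localization.AtPrime P) :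
    resMap A P r r' hr (algebraMap (Localization.AtPrime P) (Localization.AtPrime r) b) =
      resMapB A P r r' hr b :=
  IsLocalization.lift_eq _ b

theorem resMap_algebraMap (a : A) :
    resMap A P r r' hr (algebraMap A (Localization.AtPrime r) a) =
      algebraMap (A ⧸ r') (FractionRing (A ⧸ r')) (Ideal.Quotient.mk r' a) := by
  rw [IsScalarTower.algebraMap_apply A (Localization.AtPrime P) (Localization.AtPrime r),
    resMap_algebraMapB, resMapB_algebraMap]
  rfl

theorem resMap_surjective : Function.Surjective (resMap A P r r' hr) := by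
  intro z
  obtain ⟨x, s, rfl⟩ := IsLocalization.exists_mk'_eq (nonZeroDivisors (A ⧸ r')) z
  obtain ⟨a, rfl⟩ := Ideal.Quotient.mk_surjective x
  obtain ⟨c, hc⟩ := Ideal.Quotient.mk_surjective s.1
  have hc0 : Ideal.Quotient.mk r' c ≠ 0 := by
    rw [hc]
    exact nonZeroDivisors.ne_zero s.2
  have hcr : algebraMap A (Localization.AtPrime P) c ∈ r.primeCompl := by
    intro hmem
    apply hc0
    rw [Ideal.Quotient.eq_zero_iff_mem, ← hr]
    exact hmem
  refine ⟨IsLocalization.mk' _ (algebraMap A (Localization.AtPrime P) a) ⟨_, hcr⟩, ?_⟩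
  unfold resMap
  rw [IsLocalization.lift_mk'_spec, resMapB_algebraMap, resMapB_algebraMap]
  show algebraMap (A ⧸ r') _ (Ideal.Quotient.mk r' a) =
    algebraMap (A ⧸ r') _ (Ideal.Quotient.mk r' c) * _
  rw [hc, IsLocalization.mk'_spec']

theorem ker_resMap_le : RingHom.ker (resMap A P r r' hr) ≤ maximalIdeal (Localization.AtPrime r) :=
  IsLocalRing.le_maximalIdeal (RingHom.ker_ne_top _)

include hr in
theorem map_le_maximalIdeal_of_comap_eq :
    r'.map (algebraMap A (Localization.AtPrime r)) ≤ maximalIdeal (Localization.AtPrime r) := by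
  rw [Ideal.map_le_iff_le_comap]
  intro a ha
  rw [Ideal.mem_comap,
    IsScalarTower.algebraMap_apply A (Localization.AtPrime P) (Localization.AtPrime r),
    IsLocalization.AtPrime.to_map_mem_maximal_iff (Localization.AtPrime r) r]
  rw [← hr] at ha
  exact ha

end res
end Groth.Agent.Helper7.CKd
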