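import Mathlib
import Groth.Agent.Helper7.CKp2
import Groth.Agent.Helper7.CKp3
import Groth.Agent.Helper7.CKp4
import Groth.Agent.Helper7.CKp5
import Groth.Agent.Helper7.CKm7
import Groth.Agent.Helper7.CohenV1
set_option linter.style.haveILetI false
set_option linter.unusedSectionVars false
set_option linter.unusedVariables false
open TensorProduct IsLocalRing Polynomial
open Groth.Agent.Helper3.ComplFam
universe u
namespace Groth.Agent.Helper7.CKd

section main
variable (A : Type u) [CommRing A] [IsLocalRing A] [IsNoetherianRing A]
  [IsAdicComplete (maximalIdeal A) A] (r' : Ideal A) [r'.IsPrime]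
  (n : Ideal (A ⧸ r')) [n.IsPrime]

/-- formal fibres of `A_P`, `A` complete local: the case `P = n ∩ A`. -/
theorem fibre_adic_aux
    (q : Ideal (Chat A (n.comap (algebraMap A (A ⧸ r'))))) [q.IsPrime]
    (hq : q.comap (algebraMap A (Chat A (n.comap (algebraMap A (A ⧸ r'))))) = r')
    [Algebra (Localization.AtPrime (q.comap (algebraMap
        (Localization.AtPrime (n.comap (algebraMap A (A ⧸ r'))))
        (Chat A (n.comap (algebraMap A (A ⧸ r')))))))
      (Localization.AtPrime q)]
    [IsScalarTower (Localization.AtPrime (n.comap (algebraMap A (A ⧸ r'))))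
      (Localization.AtPrime (q.comap (algebraMap
        (Localization.AtPrime (n.comap (algebraMap A (A ⧸ r'))))
        (Chat A (n.comap (algebraMap A (A ⧸ r')))))))
      (Localization.AtPrime q)] :
    CAlgX.IsAdicFormallySmooth
      (Localization.AtPrime (q.comap (algebraMap
        (Localization.AtPrime (n.comap (algebraMap A (A ⧸ r'))))
        (Chat A (n.comap (algebraMap A (A ⧸ r')))))))
      (Localization.AtPrime q) (maximalIdeal (Localization.AtPrime q)) := by
  set P := n.comap (algebraMap A (A ⧸ r')) with hP
  set r := q.comap (algebraMap (Localization.AtPrime P) (Chat A P)) with hr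
  -- the quotient
  haveI : IsLocalRing (A ⧸ r') :=
    IsLocalRing.of_surjective' (Ideal.Quotient.mk r') Ideal.Quotient.mk_surjective
  haveI : IsAdicComplete (maximalIdeal (A ⧸ r')) (A ⧸ r') :=
    Groth.Agent.Helper7.Cohen.isAdicComplete_quotient r'
  set ψ := phi A (A ⧸ r') n with hψdef
  have hψ : Function.Surjective ψ := phi_quot_surjective A r' n
  have hkerψ : RingHom.ker ψ = r'.map (algebraMap A (Chat A P)) := ker_phi_quot A r' n
  have hkerq : RingHom.ker ψ ≤ q := by
    rw [hkerψ, Ideal.map_le_iff_le_comap, hq]
  set q' := q.map ψ with hq'def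
  haveI hq'prime : q'.IsPrime := Ideal.map_isPrime_of_surjective hψ hkerq
  have hqq' : q = q'.comap ψ := by
    rw [hq'def, Ideal.comap_map_of_surjective ψ hψ]
    exact (sup_eq_left.mpr (by rwa [← RingHom.ker_eq_comap_bot])).symm
  -- `q'` lies over zero
  have hmemq' : ∀ a : A, algebraMap (A ⧸ r') (Chat (A ⧸ r') n) (Ideal.Quotient.mk r' a) ∈ q' →
      a ∈ r' := by
    intro a ha
    rw [← Ideal.Quotient.algebraMap_eq, ← IsScalarTower.algebraMap_apply,
      ← phi_algebraMap A (A ⧸ r') n a] at ha
    have : algebraMap A (Chat A P) a ∈ q'.comap ψ := ha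
    rw [← hqq'] at this
    rw [← hq]
    exact this
  have hq'bot : q'.comap (algebraMap (Localization.AtPrime n) (Chat (A ⧸ r') n)) = ⊥ := by
    rw [eq_bot_iff]
    intro x hx
    obtain ⟨a', s, rfl⟩ := IsLocalization.exists_mk'_eq n.primeCompl x
    rw [IsLocalization.mk'_mem_iff, Ideal.mem_comap,
      ← IsScalarTower.algebraMap_apply (A ⧸ r') (Localization.AtPrime n) (Chat (A ⧸ r') n)] at hx
    obtain ⟨a, rfl⟩ := Ideal.Quotient.mk_surjective a'
    have := hmemq' a hx
    rw [Ideal.mem_bot, Ideal.Quotient.eq_zero_iff_mem.mpr this, IsLocalization.mk'_zero]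
  -- the localized map
  set θ := Localization.localRingHom q q' ψ hqq' with hθdef
  have hθ : Function.Surjective θ := localRingHom_surjective_of_surjective ψ hψ q q' hqq'
  have hkerθ : RingHom.ker θ = r'.map (algebraMap A (Localization.AtPrime q)) := by
    rw [hθdef, ker_localRingHom_of_surjective ψ hψ q q' hqq', hkerψ, Ideal.map_map,
      ← IsScalarTower.algebraMap_eq]
  -- the fraction field of `A/r'` acts on `T'`
  have hunits : ∀ y : nonZeroDivisors (A ⧸ r'),
      IsUnit (algebraMap (A ⧸ r') (Localization.AtPrime q') y) := by
    rintro ⟨y, hy⟩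
    have hy0 : y ≠ 0 := nonZeroDivisors.ne_zero hy
    obtain ⟨a, rfl⟩ := Ideal.Quotient.mk_surjective y
    rw [IsScalarTower.algebraMap_apply (A ⧸ r') (Chat (A ⧸ r') n) (Localization.AtPrime q')]
    refine IsLocalization.map_units (Localization.AtPrime q')
      (⟨algebraMap (A ⧸ r') (Chat (A ⧸ r') n) (Ideal.Quotient.mk r' a), ?_⟩ : q'.primeCompl)
    intro hmem
    exact hy0 (Ideal.Quotient.eq_zero_iff_mem.mpr (hmemq' a hmem))
  letI algK : Algebra (FractionRing (A ⧸ r')) (Localization.AtPrime q') :=
    (IsLocalization.lift (M := nonZeroDivisors (A ⧸ r')) hunits).toAlgebra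
  haveI towK : IsScalarTower (A ⧸ r') (FractionRing (A ⧸ r')) (Localization.AtPrime q') :=
    IsScalarTower.of_algebraMap_eq fun a => by
      show _ = (IsLocalization.lift (M := nonZeroDivisors (A ⧸ r')) hunits) (algebraMap (A ⧸ r') _ a)
      rw [IsLocalization.lift_eq]
  have hfs : CAlgX.IsAdicFormallySmooth (FractionRing (A ⧸ r')) (Localization.AtPrime q')
      (maximalIdeal (Localization.AtPrime q')) := s4583 n q' hq'bot
  -- the residue field map
  have hrr' : r.comap (algebraMap A (Localization.AtPrime P)) = r' := by
    rw [hr, Ideal.comap_comap, ← IsScalarTower.algebraMap_eq, hq]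
  set π := resMap A P r r' hrr' with hπdef
  have hπ : Function.Surjective π := resMap_surjective A P r r' hrr'
  have hkπ : RingHom.ker π ≤ maximalIdeal (Localization.AtPrime r) := ker_resMap_le A P r r' hrr'
  -- flatness
  haveI : Module.Flat (Localization.AtPrime P) (Chat A P) := inferInstance
  haveI : Module.Flat (Chat A P) (Localization.AtPrime q) := IsLocalization.flat _ q.primeCompl
  haveI : Module.Flat (Localization.AtPrime P) (Localization.AtPrime q) :=
    Module.Flat.trans (Localization.AtPrime P) (Chat A P) _
  haveI : Module.Flat (Localization.AtPrime r) (Localization.AtPrime q) :=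
    (Module.flat_iff_of_isLocalization (Localization.AtPrime r) r.primeCompl
      (Localization.AtPrime q)).mpr inferInstance
  -- compatibility of algebra maps
  have htow : ∀ a : A, algebraMap (Localization.AtPrime r) (Localization.AtPrime q)
      (algebraMap A (Localization.AtPrime r) a) = algebraMap A (Localization.AtPrime q) a := by
    intro a
    rw [IsScalarTower.algebraMap_apply A (Localization.AtPrime P) (Localization.AtPrime r),
      ← IsScalarTower.algebraMap_apply (Localization.AtPrime P) (Localization.AtPrime r)
        (Localization.AtPrime q),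
      ← IsScalarTower.algebraMap_apply A (Localization.AtPrime P) (Localization.AtPrime q)]
  have hmn : (maximalIdeal (Localization.AtPrime r)).map
      (algebraMap (Localization.AtPrime r) (Localization.AtPrime q)) ≤
      maximalIdeal (Localization.AtPrime q) := by
    have h1 : maximalIdeal (Localization.AtPrime r) =
        r.map (algebraMap (Localization.AtPrime P) (Localization.AtPrime r)) :=
      (Localization.AtPrime.map_eq_maximalIdeal).symm
    rw [h1, Ideal.map_map, ← IsScalarTower.algebraMap_eq, Ideal.map_le_iff_le_comap]
    intro b hb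
    rw [Ideal.mem_comap,
      IsScalarTower.algebraMap_apply (Localization.AtPrime P) (Chat A P) (Localization.AtPrime q),
      IsLocalization.AtPrime.to_map_mem_maximal_iff (Localization.AtPrime q) q]
    exact hb
  have hkθ : RingHom.ker θ ≤ (maximalIdeal (Localization.AtPrime r)).map
      (algebraMap (Localization.AtPrime r) (Localization.AtPrime q)) := by
    rw [hkerθ]
    have h1 : r'.map (algebraMap A (Localization.AtPrime q)) =
        (r'.map (algebraMap A (Localization.AtPrime r))).map
          (algebraMap (Localization.AtPrime r) (Localization.AtPrime q)) := by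
      rw [Ideal.map_map]
      congr 1
      ext a
      exact (htow a).symm
    rw [h1]
    exact Ideal.map_mono (map_le_maximalIdeal_of_comap_eq A P r r' hrr')
  have hcomp : ∀ a, θ (algebraMap (Localization.AtPrime r) (Localization.AtPrime q) a) =
      algebraMap (FractionRing (A ⧸ r')) (Localization.AtPrime q') (π a) := by
    intro a
    have hhom : θ.comp (algebraMap (Localization.AtPrime r) (Localization.AtPrime q)) =
        (algebraMap (FractionRing (A ⧸ r')) (Localization.AtPrime q')).comp π := by
      apply IsLocalization.ringHom_ext r.primeCompl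
      apply IsLocalization.ringHom_ext P.primeCompl
      ext a
      simp only [RingHom.comp_apply]
      rw [← IsScalarTower.algebraMap_apply A (Localization.AtPrime P) (Localization.AtPrime r),
        htow, hπdef, resMap_algebraMap,
        ← IsScalarTower.algebraMap_apply (A ⧸ r') (FractionRing (A ⧸ r')) (Localization.AtPrime q'),
        IsScalarTower.algebraMap_apply A (Chat A P) (Localization.AtPrime q), hθdef,
        Localization.localRingHom_to_map, hψdef, phi_algebraMap,
        IsScalarTower.algebraMap_apply (A ⧸ r') (Chat (A ⧸ r') n) (Localization.AtPrime q'),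
        ← Ideal.Quotient.algebraMap_eq, ← IsScalarTower.algebraMap_apply A (A ⧸ r')]
    exact congrArg (fun f => f a) hhom
  have hmax : (maximalIdeal (Localization.AtPrime q)).map θ =
      maximalIdeal (Localization.AtPrime q') :=
    IsLocalRing.map_maximalIdeal_of_surjective θ hθ
  rw [← hmax] at hfs
  exact adic_of_flat_of_fibre (maximalIdeal (Localization.AtPrime r))
    (maximalIdeal (Localization.AtPrime q)) hmn π hπ hkπ θ hθ hkθ hcomp hfs

end main
end Groth.Agent.Helper7.CKd
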