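import Mathlib
import Groth.Agent.Helper8.GeomReg13
import Groth.Agent.Helper2.AdicJac2
import Groth.Agent.S2463

set_option linter.style.haveILetI false
set_option linter.unusedSectionVars false

/-!
# Formal smoothness of finite type algebras over a separable extension
-/

namespace Groth.Agent.Helper7.FTSep

universe u
open IsLocalRing

section adic

variable {k A : Type u} [Field k] [CommRing A] [IsLocalRing A] [IsNoetherianRing A] [Algebra k A]

theorem adic_iff_geomReg :
    CAlgX.IsAdicFormallySmooth k A (maximalIdeal A) ↔ CAlg.IsGeometricallyRegular k A := by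
  obtain ⟨p, hp⟩ := ExpChar.exists k
  exact ⟨Groth.Agent.Helper8.GeomReg.geomReg, fun h =>
    (Groth.Agent.Helper8.GeomReg.s4573 p).mpr (fun k' _ _ hfin _ => h k' hfin)⟩

end adic

section pres

variable {k₀ k C : Type u} [Field k₀] [Field k] [Algebra k₀ k] [Algebra.FormallySmooth k₀ k]
  [CommRing C] [Algebra k C] [Algebra k₀ C] [IsScalarTower k₀ k C] [Algebra.FiniteType k C]

/-- a presentation of `C` as a quotient of a polynomial ring over `k`, as `k₀`-algebras -/
theorem exists_pres : ∃ (n : ℕ) (_ : Algebra (MvPolynomial (Fin n) k) C),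
    IsScalarTower k₀ (MvPolynomial (Fin n) k) C ∧
      Function.Surjective (algebraMap (MvPolynomial (Fin n) k) C) := by
  obtain ⟨n, f, hf⟩ := Algebra.FiniteType.iff_quotient_mvPolynomial''.mp
    (inferInstance : Algebra.FiniteType k C)
  refine ⟨n, f.toRingHom.toAlgebra, ?_, hf⟩
  letI : Algebra (MvPolynomial (Fin n) k) C := f.toRingHom.toAlgebra
  refine IsScalarTower.of_algebraMap_eq fun x => ?_
  change algebraMap k₀ C x = f (algebraMap k₀ (MvPolynomial (Fin n) k) x)
  rw [IsScalarTower.algebraMap_apply k₀ k (MvPolynomial (Fin n) k), AlgHom.commutes,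
    ← IsScalarTower.algebraMap_apply]

end pres

section main

variable {k₀ k C : Type u} [Field k₀] [Field k] [Algebra k₀ k] [Algebra.FormallySmooth k₀ k]
  [CommRing C] [Algebra k C] [Algebra k₀ C] [IsScalarTower k₀ k C] [Algebra.FiniteType k C]

include k in
theorem s4578 (p : Ideal C) [p.IsPrime] :
    [Algebra.FormallySmooth k₀ (Localization.AtPrime p),
     CAlgX.IsAdicFormallySmooth k₀ (Localization.AtPrime p) (maximalIdeal (Localization.AtPrime p)),
     ∃ f : C, f ∉ p ∧ Algebra.FormallySmooth k₀ (Localization.Away f),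
     CAlg.IsGeometricallyRegular k₀ (Localization.AtPrime p)].TFAE := by
  obtain ⟨n, _, htower, hsurj⟩ := exists_pres (k₀ := k₀) (k := k) (C := C)
  haveI : Algebra.FormallySmooth k₀ (MvPolynomial (Fin n) k) :=
    Algebra.FormallySmooth.comp k₀ k (MvPolynomial (Fin n) k)
  haveI : IsNoetherianRing C := Algebra.FiniteType.isNoetherianRing k C
  haveI hfinJ0 : Module.Finite (MvPolynomial (Fin n) k)
      (RingHom.ker (algebraMap (MvPolynomial (Fin n) k) C)) :=
    Module.Finite.of_fg (IsNoetherian.noetherian _)
  haveI hfinJ : Module.Finite (MvPolynomial (Fin n) k)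
      (RingHom.ker (algebraMap (MvPolynomial (Fin n) k) C)).Cotangent :=
    Module.Finite.of_surjective (RingHom.ker (algebraMap (MvPolynomial (Fin n) k) C)).toCotangent
      (RingHom.ker (algebraMap (MvPolynomial (Fin n) k) C)).toCotangent_surjective
  have h2463 := Groth.Agent.S2463.result (A := k₀) (B := MvPolynomial (Fin n) k) (C := C) hsurj p
  tfae_have 1 → 2 := fun h =>
    Groth.Agent.Helper2.AdicJac2.isAdicFormallySmooth_of_formallySmooth _
  tfae_have 2 → 1 := fun h =>
    Groth.Agent.Helper2.AdicJac2.formallySmooth_atPrime_of_isAdicFormallySmooth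
      (A := k₀) (B := MvPolynomial (Fin n) k) (C := C) hsurj p h
  tfae_have 1 ↔ 3 := h2463.out 0 2
  tfae_have 2 ↔ 4 := adic_iff_geomReg
  tfae_finish

end main

end Groth.Agent.Helper7.FTSep
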