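import Mathlib
import Groth.Agent.Helper7.FTSep1
import Groth.Agent.Helper2.SmoothQuotLoc
import Groth.Agent.Helper2.RegMax

set_option linter.style.haveILetI false
set_option linter.unusedSectionVars false

/-!
# Formal smoothness of finite type algebras over a separable extension, global version
-/

namespace Groth.Agent.Helper7.FTSep

universe u
open IsLocalRing TensorProduct

section gen

variable {k A : Type u} [Field k] [CommRing A] [Algebra k A]

attribute [local instance] Algebra.TensorProduct.rightAlgebra in
theorem finite_right' (k' : Type u) [Field k'] [Algebra k k'] [Module.Finite k k'] :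
    Module.Finite A (k' ⊗[k] A) := by
  let e : A ⊗[k] k' →ₐ[A] k' ⊗[k] A :=
    { (Algebra.TensorProduct.comm k A k').toAlgHom.toRingHom with
      commutes' := fun a => by
        simp [Algebra.TensorProduct.algebraMap_apply, Algebra.TensorProduct.right_algebraMap_apply] }
  refine Module.Finite.of_surjective e.toLinearMap ?_
  intro x
  exact ⟨(Algebra.TensorProduct.comm k A k').symm x, by simp [e]⟩

/-- geometric regularity passes to localizations (no local hypothesis) -/
theorem geomReg_localization' (h : CAlg.IsGeometricallyRegular k A) (M : Submonoid A)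
    (B : Type u) [CommRing B] [Algebra A B] [Algebra k B] [IsScalarTower k A B] [IsLocalization M B] :
    CAlg.IsGeometricallyRegular k B := by
  intro k' _ _ hfin
  haveI := h k' hfin
  letI : Algebra (k' ⊗[k] A) (k' ⊗[k] B) :=
    (Algebra.TensorProduct.map (AlgHom.id k' k') (IsScalarTower.toAlgHom k A B)).toRingHom.toAlgebra
  haveI : IsScalarTower k' (k' ⊗[k] A) (k' ⊗[k] B) := IsScalarTower.of_algebraMap_eq fun x => by
    change _ = (Algebra.TensorProduct.map (AlgHom.id k' k') (IsScalarTower.toAlgHom k A B))
      (algebraMap k' (k' ⊗[k] A) x)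
    rw [AlgHom.commutes]
  haveI := IsLocalization.tensorProduct_tensorProduct_right k k' M B (by
    ext a
    change (Algebra.TensorProduct.map (AlgHom.id k' k') (IsScalarTower.toAlgHom k A B))
      ((1 : k') ⊗ₜ[k] a) = (1 : k') ⊗ₜ[k] algebraMap A B a
    rw [Algebra.TensorProduct.map_tmul]
    rfl)
  exact Groth.Agent.Helper2.SepAlg.isRegularRing_of_isLocalization
    (M.map (Algebra.TensorProduct.includeRight (R := k) (A := k'))) (k' ⊗[k] B)

/-- a Noetherian formally smooth algebra over a field is geometrically regular -/
theorem geomReg_of_formallySmooth [IsNoetherianRing A] [Algebra.FormallySmooth k A] :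
    CAlg.IsGeometricallyRegular k A := by
  intro k' _ _ hfin
  letI : Algebra A (k' ⊗[k] A) := Algebra.TensorProduct.rightAlgebra
  haveI : Module.Finite A (k' ⊗[k] A) := finite_right' k'
  haveI : IsNoetherianRing (k' ⊗[k] A) := IsNoetherianRing.of_finite A _
  apply Groth.Agent.Helper2.RegMax.isRegularRing_of_forall_maximal
  intro M' hM'
  haveI : Algebra.FormallySmooth k' (k' ⊗[k] A) := inferInstance
  haveI : Algebra.FormallySmooth (k' ⊗[k] A) (Localization.AtPrime M') :=
    Algebra.FormallySmooth.of_isLocalization M'.primeCompl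
  haveI : Algebra.FormallySmooth k' (Localization.AtPrime M') :=
    Algebra.FormallySmooth.comp k' (k' ⊗[k] A) (Localization.AtPrime M')
  exact Groth.Agent.Helper8.GeomReg.isRegularLocalRing_of_adic
    (Groth.Agent.Helper2.AdicJac2.isAdicFormallySmooth_of_formallySmooth (A := k') _)

end gen

section main

variable {k₀ k C : Type u} [Field k₀] [Field k] [Algebra k₀ k] [Algebra.FormallySmooth k₀ k]
  [CommRing C] [Algebra k C] [Algebra k₀ C] [IsScalarTower k₀ k C] [Algebra.FiniteType k C]

include k in
theorem s4579 :
    [Algebra.FormallySmooth k₀ C,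
     ∀ (p : Ideal C) [p.IsPrime], Algebra.FormallySmooth k₀ (Localization.AtPrime p),
     ∀ (m : Ideal C) [m.IsMaximal], Algebra.FormallySmooth k₀ (Localization.AtPrime m),
     CAlg.IsGeometricallyRegular k₀ C].TFAE := by
  obtain ⟨n, _, htower, hsurj⟩ := exists_pres (k₀ := k₀) (k := k) (C := C)
  haveI : Algebra.FormallySmooth k₀ (MvPolynomial (Fin n) k) :=
    Algebra.FormallySmooth.comp k₀ k (MvPolynomial (Fin n) k)
  haveI : IsNoetherianRing C := Algebra.FiniteType.isNoetherianRing k C
  haveI hfinJ0 : Module.Finite (MvPolynomial (Fin n) k)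
      (RingHom.ker (algebraMap (MvPolynomial (Fin n) k) C)) :=
    Module.Finite.of_fg (IsNoetherian.noetherian _)
  haveI hfinJ : Module.Finite (MvPolynomial (Fin n) k)
      (RingHom.ker (algebraMap (MvPolynomial (Fin n) k) C)).Cotangent :=
    Module.Finite.of_surjective (RingHom.ker (algebraMap (MvPolynomial (Fin n) k) C)).toCotangent
      (RingHom.ker (algebraMap (MvPolynomial (Fin n) k) C)).toCotangent_surjective
  tfae_have 1 → 2 := fun h p _ => by
    haveI : Algebra.FormallySmooth C (Localization.AtPrime p) :=
      Algebra.FormallySmooth.of_isLocalization p.primeCompl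
    exact Algebra.FormallySmooth.comp k₀ C (Localization.AtPrime p)
  tfae_have 2 → 3 := fun h m _ => h m
  tfae_have 3 → 1 := fun h =>
    (Groth.Agent.Helper2.SmoothQuotLoc.iff_forall_maximal (A := k₀)
      (B := MvPolynomial (Fin n) k) (C := C) hsurj).mpr h
  tfae_have 1 → 4 := fun h => geomReg_of_formallySmooth
  tfae_have 4 → 2 := fun h p _ =>
    ((s4578 (k₀ := k₀) (k := k) p).out 3 0).mp
      (geomReg_localization' h p.primeCompl (Localization.AtPrime p))
  tfae_finish

end main

end Groth.Agent.Helper7.FTSep
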