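import Mathlib
import Groth.Prelude.Def_CAlgX
import Groth.Prelude.Def_Found
import Groth.Agent.Helper2.LocHom
import Groth.Agent.Helper7.FTSep2
set_option linter.style.haveILetI false
set_option linter.unusedSectionVars false
set_option linter.unusedVariables false
open TensorProduct IsLocalRing
universe u
namespace Groth.Agent.Helper7.CKd

section bc
variable {Λ T k T' : Type u} [CommRing Λ] [CommRing T] [Algebra Λ T] [CommRing k] [CommRing T']
  [Algebra k T']

/-- adic formal smoothness passes to the closed fibre (flexible form). -/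
theorem adic_fibre_of_adic (n : Ideal T)
    (π : Λ →+* k) (hπ : Function.Surjective π)
    (θ : T →+* T') (hθ : Function.Surjective θ)
    (hkθ : RingHom.ker θ ≤ (RingHom.ker π).map (algebraMap Λ T))
    (hcomp : ∀ a, θ (algebraMap Λ T a) = algebraMap k T' (π a))
    (hfs : CAlgX.IsAdicFormallySmooth Λ T n) : CAlgX.IsAdicFormallySmooth k T' (n.map θ) := by
  intro C _ _ J hJ ψ hψ
  obtain ⟨s, hs⟩ := hψ
  letI algΛC : Algebra Λ C := ((algebraMap k C).comp π).toAlgebra
  have halg : ∀ a, algebraMap Λ C a = algebraMap k C (π a) := fun a => rfl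
  let ψ₀ : T →ₐ[Λ] C ⧸ J :=
    { (ψ.toRingHom.comp θ) with
      commutes' := fun a => by
        show ψ (θ (algebraMap Λ T a)) = algebraMap Λ (C ⧸ J) a
        rw [hcomp, ψ.commutes, ← Ideal.Quotient.mk_algebraMap, ← Ideal.Quotient.mk_algebraMap,
          halg] }
  have hψ₀ : ∀ x, ψ₀ x = ψ (θ x) := fun x => rfl
  obtain ⟨χ₀, hχ₀⟩ := hfs C J hJ ψ₀ ⟨s, fun x hx => by
    rw [hψ₀]
    apply hs
    rw [← Ideal.map_pow]
    exact Ideal.mem_map_of_mem _ hx⟩
  have hχ₀app : ∀ x, Ideal.Quotient.mk J (χ₀ x) = ψ (θ x) := fun x =>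
    congrArg (fun f => f x) hχ₀
  have hkill : RingHom.ker θ ≤ RingHom.ker χ₀.toRingHom := by
    refine hkθ.trans ?_
    rw [Ideal.map_le_iff_le_comap]
    intro a ha
    rw [Ideal.mem_comap, RingHom.mem_ker]
    show χ₀ (algebraMap Λ T a) = 0
    rw [χ₀.commutes, halg, (RingHom.mem_ker).mp ha, map_zero]
  let χ₁ : T' →+* C := RingHom.liftOfSurjective θ hθ ⟨χ₀.toRingHom, hkill⟩
  have hχ₁ : ∀ x, χ₁ (θ x) = χ₀ x := fun x =>
    RingHom.liftOfRightInverse_comp_apply _ _ _ ⟨χ₀.toRingHom, hkill⟩ x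
  let χ : T' →ₐ[k] C :=
    { χ₁ with
      commutes' := fun c => by
        obtain ⟨a, rfl⟩ := hπ c
        show χ₁ (algebraMap k T' (π a)) = algebraMap k C (π a)
        rw [← hcomp, hχ₁, χ₀.commutes, halg] }
  refine ⟨χ, ?_⟩
  ext x
  obtain ⟨t, rfl⟩ := hθ x
  show Ideal.Quotient.mk J (χ₁ (θ t)) = ψ (θ t)
  rw [hχ₁, hχ₀app]

end bc

section lg
variable (κ F : Type u) [Field κ] [CommRing F] [Algebra κ F]

/-- geometric regularity is local on the target. -/
theorem geomReg_of_forall_maximal [IsNoetherianRing F]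
    (h : ∀ (M : Ideal F) [M.IsMaximal], CAlg.IsGeometricallyRegular κ (Localization.AtPrime M)) :
    CAlg.IsGeometricallyRegular κ F := by
  intro k' _ _ hfin
  haveI := hfin
  haveI : Module.Finite F (F ⊗[κ] k') := inferInstance
  haveI : IsNoetherianRing (F ⊗[κ] k') := IsNoetherianRing.of_finite F _
  haveI : IsRegularRing (F ⊗[κ] k') := by
    apply Groth.Agent.Helper2.LocHom.isRegularRing_of_forall_maximal_tensor F
    intro M hM
    let e1 : (F ⊗[κ] k') ⊗[F] Localization.AtPrime M ≃ₐ[F]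
        Localization.AtPrime M ⊗[F] (F ⊗[κ] k') := Algebra.TensorProduct.comm F _ _
    let e2 : Localization.AtPrime M ⊗[F] (F ⊗[κ] k') ≃ₐ[Localization.AtPrime M]
        Localization.AtPrime M ⊗[κ] k' :=
      Algebra.TensorProduct.cancelBaseChange κ F (Localization.AtPrime M) (Localization.AtPrime M) k'
    let e3 : Localization.AtPrime M ⊗[κ] k' ≃ₐ[κ] k' ⊗[κ] Localization.AtPrime M :=
      Algebra.TensorProduct.comm κ _ _
    haveI := h M k' hfin
    exact IsRegularRing.of_ringEquiv (R := k' ⊗[κ] Localization.AtPrime M)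
      ((e1.toRingEquiv.trans e2.toRingEquiv).trans e3.toRingEquiv).symm
  exact IsRegularRing.of_ringEquiv (R := F ⊗[κ] k') (Algebra.TensorProduct.comm κ F k').toRingEquiv

end lg
end Groth.Agent.Helper7.CKd
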