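import Mathlib
import Groth.Agent.Helper7.CKq1
import Groth.Agent.Helper7.FTSep1
import Groth.Agent.Helper2.RegBC
set_option linter.style.haveILetI false
set_option linter.unusedSectionVars false
set_option linter.unusedVariables false
set_option maxHeartbeats 400000
open TensorProduct IsLocalRing
universe u
namespace Groth.Agent.Helper7.CKd

section gen
variable {Λ T κ T' : Type u} [CommRing Λ] [CommRing T] [IsLocalRing T] [Algebra Λ T]
  [Field κ] [CommRing T'] [IsLocalRing T'] [IsNoetherianRing T'] [Algebra κ T']

/-- the closed fibre of an adically formally smooth local algebra is geometrically regular. -/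
theorem geomReg_fibre_of_adic
    (π : Λ →+* κ) (hπ : Function.Surjective π)
    (θ : T →+* T') (hθ : Function.Surjective θ)
    (hkθ : RingHom.ker θ ≤ (RingHom.ker π).map (algebraMap Λ T))
    (hcomp : ∀ a, θ (algebraMap Λ T a) = algebraMap κ T' (π a))
    (hfs : CAlgX.IsAdicFormallySmooth Λ T (maximalIdeal T)) :
    CAlg.IsGeometricallyRegular κ T' := by
  have h1 := adic_fibre_of_adic (maximalIdeal T) π hπ θ hθ hkθ hcomp hfs
  rw [IsLocalRing.map_maximalIdeal_of_surjective θ hθ] at h1
  exact Groth.Agent.Helper7.FTSep.adic_iff_geomReg.mp h1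

end gen

section reg
variable (A B : Type u) [CommRing A] [CommRing B] [Algebra A B]

/-- a flat map of noetherian rings all of whose local homomorphisms are adically formally smooth is
regular. -/
theorem isRegularHom_of_forall_adic [IsNoetherianRing A] [IsNoetherianRing B] [Module.Flat A B]
    (H : ∀ (p : Ideal A) [p.IsPrime] (r : Ideal B) [r.IsPrime] [r.LiesOver p]
      [Algebra (Localization.AtPrime p) (Localization.AtPrime r)]
      [IsScalarTower A (Localization.AtPrime p) (Localization.AtPrime r)],
      CAlgX.IsAdicFormallySmooth (Localization.AtPrime p) (Localization.AtPrime r)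
        (maximalIdeal (Localization.AtPrime r))) : CAlg.IsRegularHom A B := by
  refine ⟨inferInstance, fun p hp => ⟨Groth.Agent.Helper2.RegBC.isNoetherianRing_fiber A B p, ?_⟩⟩
  haveI := Groth.Agent.Helper2.RegBC.isNoetherianRing_fiber A B p
  apply geomReg_of_forall_maximal
  intro 𝔮 h𝔮
  set r := 𝔮.comap (Algebra.TensorProduct.includeRight : B →ₐ[A] p.Fiber B) with hr
  haveI : r.IsPrime := Ideal.comap_isPrime _ _
  letI := Localization.AtPrime.algebraOfLiesOver p r
  have hfs := H p r
  let e := Ideal.Fiber.localizationAlgEquivQuotient p 𝔮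
  set I : Ideal (Localization.AtPrime r) := p.map (algebraMap A (Localization.AtPrime r)) with hI
  let θ : Localization.AtPrime r →+* Localization.AtPrime 𝔮 :=
    (e.symm : _ →+* Localization.AtPrime 𝔮).comp (Ideal.Quotient.mk I)
  have hθapp : ∀ x, θ x = e.symm (Ideal.Quotient.mk I x) := fun x => rfl
  have hθ : Function.Surjective θ := e.symm.surjective.comp Ideal.Quotient.mk_surjective
  have hkerθ : RingHom.ker θ = I := by
    ext x
    rw [RingHom.mem_ker, hθapp, map_eq_zero_iff _ e.symm.injective, Ideal.Quotient.eq_zero_iff_mem]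
  let π : Localization.AtPrime p →+* p.ResidueField := algebraMap _ _
  have hπ : Function.Surjective π := IsLocalRing.residue_surjective
  have hkerπ : RingHom.ker π = maximalIdeal (Localization.AtPrime p) := IsLocalRing.ker_residue
  have hkθ : RingHom.ker θ ≤ (RingHom.ker π).map
      (algebraMap (Localization.AtPrime p) (Localization.AtPrime r)) := by
    rw [hkerθ, hkerπ, hI, ← Localization.AtPrime.map_eq_maximalIdeal, Ideal.map_map,
      ← IsScalarTower.algebraMap_eq]
  have hcomp : ∀ a, θ (algebraMap (Localization.AtPrime p) (Localization.AtPrime r) a) =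
      algebraMap p.ResidueField (Localization.AtPrime 𝔮) (π a) := by
    intro a
    rw [hθapp, ← Ideal.Quotient.algebraMap_eq, ← IsScalarTower.algebraMap_apply, e.symm.commutes]
    show _ = algebraMap p.ResidueField (Localization.AtPrime 𝔮)
      (algebraMap (Localization.AtPrime p) p.ResidueField a)
    rw [← IsScalarTower.algebraMap_apply]
  haveI : IsNoetherianRing (Localization.AtPrime 𝔮) :=
    IsLocalization.isNoetherianRing 𝔮.primeCompl _ inferInstance
  have t1 := @geomReg_fibre_of_adic (Localization.AtPrime p) (Localization.AtPrime r)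
      p.ResidueField (Localization.AtPrime 𝔮) _ _ _ _ _ _ _ _ _
  have t2 := t1 π hπ
  have t3 := t2 θ hθ
  have t4 := t3 hkθ
  have t5 := t4 hcomp
  exact t5 hfs

end reg
end Groth.Agent.Helper7.CKd
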