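import Mathlib
import Groth.Prelude.Def_Found
import Groth.Agent.Helper7.CKq2
import Groth.Agent.Helper7.CKp7
set_option linter.style.haveILetI false
set_option linter.unusedSectionVars false
set_option linter.unusedVariables false
open TensorProduct IsLocalRing
open Groth.Agent.Helper3.ComplFam
universe u
namespace Groth.Agent.Helper7.CKd

section gring
variable (A : Type u) [CommRing A] [IsLocalRing A] [IsNoetherianRing A]
  [IsAdicComplete (maximalIdeal A) A]

/-- EGA 0_IV 22.3.3, discrete-base form. -/
theorem fibre_adic' (p : Ideal A) [p.IsPrime] (q : Ideal (Chat A p)) [q.IsPrime]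
    [Algebra (Localization.AtPrime (q.comap (algebraMap (Localization.AtPrime p) (Chat A p))))
      (Localization.AtPrime q)]
    [IsScalarTower (Localization.AtPrime p)
      (Localization.AtPrime (q.comap (algebraMap (Localization.AtPrime p) (Chat A p))))
      (Localization.AtPrime q)] :
    CAlgX.IsAdicFormallySmooth
      (Localization.AtPrime (q.comap (algebraMap (Localization.AtPrime p) (Chat A p))))
      (Localization.AtPrime q) (maximalIdeal (Localization.AtPrime q)) := by
  set r' := q.comap (algebraMap A (Chat A p)) with hr'
  haveI : r'.IsPrime := Ideal.comap_isPrime _ _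
  have hr'p : r' ≤ p := by
    intro a ha
    have h1 : algebraMap A (Chat A p) a ∈ maximalIdeal (Chat A p) :=
      IsLocalRing.le_maximalIdeal (Ideal.IsPrime.ne_top inferInstance) ha
    have h2 : a ∈ (maximalIdeal (Chat A p)).comap (algebraMap A (Chat A p)) := h1
    rwa [chat_comap] at h2
  set n := p.map (Ideal.Quotient.mk r') with hn
  haveI : n.IsPrime := Ideal.map_isPrime_of_surjective Ideal.Quotient.mk_surjective
    (by rw [Ideal.mk_ker]; exact hr'p)
  have hp : n.comap (algebraMap A (A ⧸ r')) = p := by
    rw [hn, Ideal.Quotient.algebraMap_eq,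
      Ideal.comap_map_of_surjective _ Ideal.Quotient.mk_surjective, ← RingHom.ker_eq_comap_bot,
      Ideal.mk_ker]
    exact sup_eq_left.mpr hr'p
  exact fibre_adic A r' n p hp q rfl

/-- a complete noetherian local ring is a G-ring. -/
theorem s0598 : CAlg.IsGRing A := by
  refine ⟨inferInstance, fun p hp => ?_⟩
  haveI : Module.Flat (Localization.AtPrime p) (Chat A p) := inferInstance
  apply isRegularHom_of_forall_adic (Localization.AtPrime p) (Chat A p)
  intro r hr q hq hlo alg tow
  obtain rfl := hlo.over
  exact fibre_adic' A p q

end gring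
end Groth.Agent.Helper7.CKd
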