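import Mathlib
import Groth.Prelude.Def_CAlgX
import Groth.Prelude.Def_EGA41
import Groth.Agent.S2462
set_option linter.style.haveILetI false
set_option linter.unusedSectionVars false
set_option linter.unusedVariables false
open TensorProduct IsLocalRing
universe u
namespace Groth.Agent.Helper7.CKd

section retract
variable {A Bh C : Type u} [CommRing A] [CommRing Bh] [Algebra A Bh] [CommRing C] [IsLocalRing C]
  [IsNoetherianRing C] [IsAdicComplete (maximalIdeal C) C] [Algebra A C]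

/-- a formally smooth algebra which is a quotient of a complete local algebra is a retract of it. -/
theorem exists_section_of_adic (𝔟 : Ideal Bh) (hfs : EGA41.IsFormallySmoothAdic A ⊥ Bh 𝔟)
    (σ : C →ₐ[A] Bh) (hσ : Function.Surjective σ)
    (hloc : ∀ y : C, σ y ∈ 𝔟 → y ∈ maximalIdeal C) (h𝔟 : 𝔟 ≠ ⊤) :
    ∃ v : Bh →ₐ[A] C, ∀ x, σ (v x) = x := by
  set J : Ideal C := RingHom.ker σ.toRingHom with hJ
  haveI : Nontrivial Bh := by
    by_contra hnt
    rw [not_nontrivial_iff_subsingleton] at hnt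
    apply h𝔟
    rw [Ideal.eq_top_iff_one]
    have : (1 : Bh) = 0 := Subsingleton.elim _ _
    rw [this]; exact 𝔟.zero_mem
  have hJtop : J ≠ ⊤ := RingHom.ker_ne_top _
  let e : (C ⧸ J) ≃ₐ[A] Bh := Ideal.quotientKerAlgEquivOfSurjective hσ
  have he : ∀ y : C, e (Ideal.Quotient.mk J y) = σ y := fun y => rfl
  let u : Bh →ₐ[A] C ⧸ J := e.symm
  have hu : 𝔟.map u.toRingHom ≤ (maximalIdeal C).map (Ideal.Quotient.mk J) := by
    rw [Ideal.map_le_iff_le_comap]
    intro x hx
    rw [Ideal.mem_comap]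
    obtain ⟨y, rfl⟩ := hσ x
    have : u.toRingHom (σ y) = Ideal.Quotient.mk J y := by
      show e.symm (σ y) = _
      rw [← he, AlgEquiv.symm_apply_apply]
    rw [this]
    exact Ideal.mem_map_of_mem _ (hloc y hx)
  obtain ⟨v, -, hv⟩ := Groth.Agent.S2462.result (⊥ : Ideal A) 𝔟 hfs
    (by rw [Ideal.map_bot]; exact bot_le) J hJtop u hu
  refine ⟨v, fun x => ?_⟩
  have h1 : Ideal.Quotient.mk J (v x) = e.symm x := congrArg (fun f => f x) hv
  rw [← he, h1, AlgEquiv.apply_symm_apply]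

/-- hence it is flat when the complete local algebra is. -/
theorem flat_of_adic_of_surjective [Module.Flat A C] (𝔟 : Ideal Bh)
    (hfs : EGA41.IsFormallySmoothAdic A ⊥ Bh 𝔟)
    (σ : C →ₐ[A] Bh) (hσ : Function.Surjective σ)
    (hloc : ∀ y : C, σ y ∈ 𝔟 → y ∈ maximalIdeal C) (h𝔟 : 𝔟 ≠ ⊤) : Module.Flat A Bh := by
  obtain ⟨v, hv⟩ := exists_section_of_adic 𝔟 hfs σ hσ hloc h𝔟
  exact Module.Flat.of_retract v.toLinearMap σ.toLinearMap (LinearMap.ext hv)

end retract
end Groth.Agent.Helper7.CKd
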