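import Mathlib
import Groth.Prelude.Def_CAlgX
import Groth.Prelude.Def_EGA41
import Groth.Agent.Helper7.CohenV1
set_option autoImplicit false
set_option linter.style.haveILetI false
set_option linter.unusedSectionVars false
set_option linter.unusedVariables false
open TensorProduct IsLocalRing
universe u
namespace Groth.Agent.Helper7.CKd

/-- from a commutative square `R → S`, `R ↠ A`, `S ↠ B` over `A → B` with `R → S` flat and `S`
complete local noetherian: a flat complete local noetherian `A`-algebra surjecting onto `B`. -/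
theorem flat_cover_of {A B R S : Type u} [CommRing A] [CommRing B] [CommRing R] [CommRing S]
    [Nontrivial B] [Algebra A B]
    [IsLocalRing S] [IsNoetherianRing S] [IsAdicComplete (maximalIdeal S) S]
    (ρ : R →+* A) (σ : S →+* B) (τ : R →+* S) (hρ : Function.Surjective ρ)
    (hσ : Function.Surjective σ)
    (hcomm : σ.comp τ = (algebraMap A B).comp ρ) (hflat : τ.Flat) :
    ∃ (C : Type u) (_ : CommRing C) (_ : IsLocalRing C) (_ : IsNoetherianRing C)
      (_ : IsAdicComplete (maximalIdeal C) C) (_ : Algebra A C) (_ : Module.Flat A C)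
      (g : C →ₐ[A] B), Function.Surjective g := by
  classical
  obtain ⟨K, hK⟩ : ∃ K, K = (RingHom.ker ρ).map τ := ⟨_, rfl⟩
  have hKσ : K ≤ RingHom.ker σ := by
    rw [hK, Ideal.map_le_iff_le_comap]
    intro x hx
    rw [Ideal.mem_comap, RingHom.mem_ker]
    have h1 := RingHom.congr_fun hcomm x
    rw [RingHom.comp_apply, RingHom.comp_apply] at h1
    rw [h1, (RingHom.mem_ker).mp hx, map_zero]
  have hKtop : K ≠ ⊤ := fun h => (RingHom.ker_ne_top σ) (top_le_iff.mp (h ▸ hKσ))
  haveI : Nontrivial (S ⧸ K) := Ideal.Quotient.nontrivial_iff.mpr hKtop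
  haveI : IsLocalRing (S ⧸ K) :=
    IsLocalRing.of_surjective' (Ideal.Quotient.mk K) Ideal.Quotient.mk_surjective
  haveI : IsAdicComplete (maximalIdeal (S ⧸ K)) (S ⧸ K) :=
    Groth.Agent.Helper7.Cohen.isAdicComplete_quotient K
  obtain ⟨eρ, heρ⟩ : ∃ eρ : (R ⧸ RingHom.ker ρ) ≃+* A,
      ∀ r, eρ (Ideal.Quotient.mk _ r) = ρ r :=
    ⟨RingHom.quotientKerEquivOfSurjective hρ,
      fun r => RingHom.quotientKerEquivOfSurjective_apply_mk hρ r⟩
  obtain ⟨θ, hθ⟩ : ∃ θ : A →+* S ⧸ K, ∀ r, θ (ρ r) = Ideal.Quotient.mk K (τ r) := by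
    refine ⟨(Ideal.quotientMap K τ (by rw [hK]; exact Ideal.le_comap_map)).comp
      (eρ.symm : A →+* R ⧸ RingHom.ker ρ), fun r => ?_⟩
    have h1 : eρ.symm (ρ r) = Ideal.Quotient.mk _ r := by
      rw [RingEquiv.symm_apply_eq]; exact (heρ r).symm
    rw [RingHom.comp_apply]
    change Ideal.quotientMap K τ _ (eρ.symm (ρ r)) = _
    rw [h1, Ideal.quotientMap_mk]
  letI algAB' : Algebra A (S ⧸ K) := θ.toAlgebra
  obtain ⟨g₀, hg₀⟩ : ∃ g₀ : S ⧸ K →+* B, ∀ x, g₀ (Ideal.Quotient.mk K x) = σ x :=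
    ⟨Ideal.Quotient.lift K σ (fun a ha => hKσ ha), fun x => Ideal.Quotient.lift_mk _ _ _⟩
  have hg₀θ : ∀ a, g₀ (θ a) = algebraMap A B a := by
    intro a
    obtain ⟨r, rfl⟩ := hρ a
    rw [hθ, hg₀]
    exact RingHom.congr_fun hcomm r
  refine ⟨S ⧸ K, inferInstance, inferInstance, inferInstance, inferInstance, algAB',
    ?_, { g₀ with commutes' := hg₀θ }, ?_⟩
  · letI algRA : Algebra R A := ρ.toAlgebra
    letI algRS : Algebra R S := τ.toAlgebra
    haveI : Module.Flat R S := hflat
    haveI : IsScalarTower R A (S ⧸ K) :=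
      IsScalarTower.of_algebraMap_eq (fun r => (hθ r).symm)
    have hbij := Groth.Agent.Helper7.Cohen.tensor_bijective_of_surjective (R := R) (A := A)
      (S := S) (T := S ⧸ K)
      hρ Ideal.Quotient.mk_surjective (by
        rw [Ideal.Quotient.algebraMap_eq, Ideal.mk_ker, hK]
        rfl)
    exact Module.Flat.of_linearEquiv (AlgEquiv.ofBijective _ hbij).symm.toLinearEquiv
  · intro b
    obtain ⟨x, rfl⟩ := hσ b
    exact ⟨Ideal.Quotient.mk K x, hg₀ x⟩

/-- a local homomorphism of complete noetherian local rings factors through a flat complete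
noetherian local algebra surjecting onto the target (from Cohen factorisation). -/
theorem exists_flat_cover {A B : Type u} [CommRing A] [CommRing B]
    [IsLocalRing A] [IsLocalRing B] [IsNoetherianRing A] [IsNoetherianRing B]
    [IsAdicComplete (maximalIdeal A) A] [IsAdicComplete (maximalIdeal B) B]
    [Algebra A B] [IsLocalHom (algebraMap A B)] :
    ∃ (C : Type u) (_ : CommRing C) (_ : IsLocalRing C) (_ : IsNoetherianRing C)
      (_ : IsAdicComplete (maximalIdeal C) C) (_ : Algebra A C) (_ : Module.Flat A C)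
      (g : C →ₐ[A] B), Function.Surjective g := by
  obtain ⟨Λ, Λ', _, _, _, n, m, ρ, σ, τ, hcase, hρ, hσ, hcomm, hflat, -⟩ :=
    Groth.Agent.Helper7.Cohen.s2053 (A := A) (B := B)
  rcases hcase with ⟨-, hF, hF'⟩ | ⟨-, hC, hC'⟩
  · letI := hF'.toField
    have hmax' : maximalIdeal Λ' = Ideal.span {(0 : Λ')} := by
      rw [IsLocalRing.maximalIdeal_eq_bot]
      exact (Ideal.span_singleton_eq_bot.mpr rfl).symm
    haveI : IsAdicComplete (maximalIdeal Λ') Λ' := by
      rw [IsLocalRing.maximalIdeal_eq_bot]; infer_instance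
    haveI : IsRegularRing (MvPowerSeries (Fin m) Λ') :=
      Groth.Agent.Helper2.PSReg.isRegularRing_mvPowerSeries Λ' m
    haveI := Groth.Agent.Helper7.Cohen.isAdicComplete_mvPowerSeries (0 : Λ') hmax' m
    exact flat_cover_of ρ σ τ hρ hσ hcomm hflat
  · obtain ⟨hdom', hdvr', hc', q, hqp, hmax'⟩ := hC'
    haveI := hdom'
    haveI := hdvr'
    haveI := hc'
    haveI : IsRegularRing (MvPowerSeries (Fin m) Λ') :=
      Groth.Agent.Helper2.PSReg.isRegularRing_mvPowerSeries Λ' m
    haveI := Groth.Agent.Helper7.Cohen.isAdicComplete_mvPowerSeries (q : Λ') hmax' m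
    exact flat_cover_of ρ σ τ hρ hσ hcomm hflat

end Groth.Agent.Helper7.CKd
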