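import Mathlib
import Groth.Prelude.Def_CAlgX
import Groth.Prelude.Def_EGA41
import Groth.Agent.S0543
import Groth.Agent.S2461
import Groth.Agent.S4537
import Groth.Agent.Helper2.FFDesc
import Groth.Agent.Helper3.ComplMap
import Groth.Agent.Helper7.CKr1
import Groth.Agent.Helper7.CKr2
set_option autoImplicit false
set_option linter.style.haveILetI false
set_option linter.unusedSectionVars false
set_option linter.unusedVariables false
open TensorProduct IsLocalRing
universe u
namespace Groth.Agent.Helper7.CKd

section F
variable {A B : Type u} [CommRing A] [CommRing B] [IsLocalRing A] [IsLocalRing B]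
  [IsNoetherianRing A] [IsNoetherianRing B] [Algebra A B] [IsLocalHom (algebraMap A B)]

/-- EGA 0_IV 19.7.1 (⇒): a local homomorphism of noetherian local rings which is formally smooth
for the adic topologies is flat. -/
theorem flat_of_adic (hfs : CAlgX.IsAdicFormallySmooth A B (maximalIdeal B)) :
    Module.Flat A B := by
  haveI hnA : IsNoetherianRing (AdicCompletion (maximalIdeal A) A) :=
    Groth.Agent.S0543.result A _
  haveI hnB : IsNoetherianRing (AdicCompletion (maximalIdeal B) B) :=
    Groth.Agent.S0543.result B _
  have hle : (maximalIdeal A).map (algebraMap A B) ≤ maximalIdeal B :=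
    ((IsLocalRing.local_hom_TFAE (algebraMap A B)).out 0 2).mp ‹IsLocalHom (algebraMap A B)›
  obtain ⟨φ, hφ⟩ : ∃ φ : AdicCompletion (maximalIdeal A) A →+* AdicCompletion (maximalIdeal B) B,
      ∀ a, φ (algebraMap A _ a) = algebraMap B _ (algebraMap A B a) :=
    ⟨Groth.Agent.Helper3.ComplMap.lift (maximalIdeal A) (maximalIdeal B) (algebraMap A B) hle,
      Groth.Agent.Helper3.ComplMap.lift_of _ _ _ hle⟩
  letI algh : Algebra (AdicCompletion (maximalIdeal A) A) (AdicCompletion (maximalIdeal B) B) :=
    φ.toAlgebra
  haveI : IsScalarTower A (AdicCompletion (maximalIdeal A) A) (AdicCompletion (maximalIdeal B) B) :=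
    IsScalarTower.of_algebraMap_eq (fun a => (hφ a).symm)
  haveI : IsLocalHom (algebraMap (AdicCompletion (maximalIdeal A) A)
      (AdicCompletion (maximalIdeal B) B)) := by
    refine ((IsLocalRing.local_hom_TFAE _).out 0 2).mpr ?_
    rw [AdicCompletion.maximalIdeal_eq_map (R := A), Ideal.map_map, Ideal.map_le_iff_le_comap]
    intro a ha
    rw [Ideal.mem_comap, RingHom.comp_apply]
    change φ (algebraMap A _ a) ∈ _
    rw [hφ, AdicCompletion.maximalIdeal_eq_map (R := B)]
    exact Ideal.mem_map_of_mem _ (hle (Ideal.mem_map_of_mem _ ha))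
  obtain ⟨C, _, _, _, _, algC, flatC, g, hg⟩ :=
    exists_flat_cover (A := AdicCompletion (maximalIdeal A) A)
      (B := AdicCompletion (maximalIdeal B) B)
  letI algAC : Algebra A C :=
    ((algebraMap (AdicCompletion (maximalIdeal A) A) C).comp (algebraMap A _)).toAlgebra
  haveI : IsScalarTower A (AdicCompletion (maximalIdeal A) A) C :=
    IsScalarTower.of_algebraMap_eq (fun a => rfl)
  haveI : Module.Flat A C := Module.Flat.trans A (AdicCompletion (maximalIdeal A) A) C
  have h1 : EGA41.IsFormallySmoothAdic A ⊥ B (maximalIdeal B) :=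
    (Groth.Agent.S4537.result _).mp hfs
  have h2 := (Groth.Agent.S2461.result (⊥ : Ideal A) (maximalIdeal B)).mp h1
  rw [← AdicCompletion.maximalIdeal_eq_map (R := B)] at h2
  haveI : Module.Flat A (AdicCompletion (maximalIdeal B) B) := by
    refine flat_of_adic_of_surjective (maximalIdeal (AdicCompletion (maximalIdeal B) B)) h2
      (g.restrictScalars A) hg (fun y hy => ?_) (maximalIdeal.isMaximal _).ne_top
    by_contra hyu
    have hu : IsUnit y := by
      by_contra h
      exact hyu ((mem_maximalIdeal _).mpr h)
    exact (mem_maximalIdeal _).mp hy (hu.map g)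
  haveI : Module.FaithfullyFlat B (AdicCompletion (maximalIdeal B) B) :=
    Module.FaithfullyFlat.of_flat_of_isLocalHom
  exact Groth.Agent.Helper2.FFDesc.flat_of_flat_comp A B (AdicCompletion (maximalIdeal B) B)

end F
end Groth.Agent.Helper7.CKd
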