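import Mathlib
import Groth.Prelude.Def_CAlgX
import Groth.Prelude.Def_EGA41
import Groth.Prelude.Def_Found
import Groth.Agent.Helper7.CKp2
import Groth.Agent.Helper7.CKq2
import Groth.Agent.Helper7.CKr3
import Groth.Agent.Helper7.FTSep1
set_option autoImplicit false
set_option linter.style.haveILetI false
set_option linter.unusedSectionVars false
set_option linter.unusedVariables false
open TensorProduct IsLocalRing
universe u
namespace Groth.Agent.Helper7.CKd

/-- the kernel of `B → κ ⊗[A] B` for a quotient `κ` of `A`. -/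
theorem ker_includeRight_le {A B κ : Type u} [CommRing A] [CommRing B] [CommRing κ] [Algebra A B]
    [Algebra A κ] (hπ : Function.Surjective (algebraMap A κ)) (b : B)
    (hb : (1 : κ) ⊗ₜ[A] b = 0) : b ∈ (RingHom.ker (algebraMap A κ)).map (algebraMap A B) := by
  set I : Ideal A := RingHom.ker (algebraMap A κ) with hI
  have hsurj : Function.Surjective (Algebra.ofId A κ) := hπ
  let e₁ : (A ⧸ RingHom.ker (Algebra.ofId A κ)) ≃ₐ[A] κ :=
    Ideal.quotientKerAlgEquivOfSurjective hsurj
  have hIe : RingHom.ker (Algebra.ofId A κ) = I := rfl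
  let f : κ ⊗[A] B →ₗ[A] B ⧸ (I • (⊤ : Submodule A B)) :=
    (TensorProduct.quotTensorEquivQuotSMul B I).toLinearMap ∘ₗ
      (TensorProduct.congr e₁.symm.toLinearEquiv (LinearEquiv.refl A B)).toLinearMap
  have hf : f (1 ⊗ₜ b) = Submodule.Quotient.mk b := by
    show TensorProduct.quotTensorEquivQuotSMul B I
      (TensorProduct.congr e₁.symm.toLinearEquiv (LinearEquiv.refl A B) (1 ⊗ₜ b)) = _
    rw [TensorProduct.congr_tmul]
    have h1 : e₁.symm.toLinearEquiv (1 : κ) = (1 : A ⧸ I) := map_one e₁.symm
    rw [h1]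
    exact TensorProduct.quotTensorEquivQuotSMul_mk_one_tmul I b
  rw [hb, map_zero] at hf
  have h2 : b ∈ (I • (⊤ : Submodule A B)) := (Submodule.Quotient.mk_eq_zero _).mp hf.symm
  have h3 : (I.map (algebraMap A B)).restrictScalars A = I • (⊤ : Submodule A B) :=
    (Ideal.smul_top_eq_map I).symm
  rw [← h3] at h2
  exact h2

section gen
variable {A B κ T' : Type u} [CommRing A] [CommRing B] [IsLocalRing A] [IsLocalRing B]
  [IsNoetherianRing A] [IsNoetherianRing B] [Algebra A B] [IsLocalHom (algebraMap A B)]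
  [Field κ] [CommRing T'] [Algebra κ T']

/-- EGA 0_IV 19.7.1 for an abstract closed fibre. -/
theorem adic_iff_flat_and_geomReg (π : A →+* κ) (hπ : Function.Surjective π)
    (θ : B →+* T') (hθ : Function.Surjective θ)
    (hkθ : RingHom.ker θ ≤ (maximalIdeal A).map (algebraMap A B))
    (hcomp : ∀ a, θ (algebraMap A B a) = algebraMap κ T' (π a)) :
    (Module.Flat A B ∧ CAlg.IsGeometricallyRegular κ T') ↔
      CAlgX.IsAdicFormallySmooth A B (maximalIdeal B) := by
  have hkπ : RingHom.ker π = maximalIdeal A := by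
    haveI : (RingHom.ker π).IsMaximal := RingHom.ker_isMaximal_of_surjective π hπ
    exact IsLocalRing.eq_maximalIdeal inferInstance
  have hle : (maximalIdeal A).map (algebraMap A B) ≤ maximalIdeal B :=
    ((IsLocalRing.local_hom_TFAE (algebraMap A B)).out 0 2).mp ‹IsLocalHom (algebraMap A B)›
  haveI : Nontrivial T' := by
    refine ⟨⟨0, 1, fun h => ?_⟩⟩
    have h1 : (1 : B) ∈ RingHom.ker θ := by rw [RingHom.mem_ker, map_one]; exact h.symm
    exact (maximalIdeal.isMaximal B).ne_top ((Ideal.eq_top_iff_one _).mpr (hle (hkθ h1)))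
  haveI : IsLocalRing T' := IsLocalRing.of_surjective' θ hθ
  haveI : IsNoetherianRing T' := isNoetherianRing_of_surjective B T' θ hθ
  have hmax : (maximalIdeal B).map θ = maximalIdeal T' :=
    IsLocalRing.map_maximalIdeal_of_surjective θ hθ
  constructor
  · rintro ⟨hflat, hreg⟩
    haveI := hflat
    refine adic_of_flat_of_fibre (maximalIdeal A) (maximalIdeal B) hle π hπ hkπ.le θ hθ hkθ hcomp ?_
    rw [hmax]
    exact Groth.Agent.Helper7.FTSep.adic_iff_geomReg.mpr hreg
  · intro hfs
    refine ⟨flat_of_adic hfs, ?_⟩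
    exact geomReg_fibre_of_adic π hπ θ hθ (by rw [hkπ]; exact hkθ) hcomp hfs

end gen

section S2038
variable {A B : Type u} [CommRing A] [CommRing B]
    [IsLocalRing A] [IsLocalRing B] [IsNoetherianRing A] [IsNoetherianRing B] [Algebra A B]
    [IsLocalHom (algebraMap A B)]

theorem s2038 :
    (Module.Flat A B ∧ CAlg.IsGeometricallyRegular (IsLocalRing.maximalIdeal A).ResidueField
        ((IsLocalRing.maximalIdeal A).Fiber B)) ↔
      CAlgX.IsAdicFormallySmooth A B (IsLocalRing.maximalIdeal B) := by
  have hπ : Function.Surjective (algebraMap A (maximalIdeal A).ResidueField) :=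
    Ideal.algebraMap_residueField_surjective (maximalIdeal A)
  have hkπ : RingHom.ker (algebraMap A (maximalIdeal A).ResidueField) = maximalIdeal A :=
    Ideal.ker_algebraMap_residueField (maximalIdeal A)
  refine adic_iff_flat_and_geomReg (algebraMap A (maximalIdeal A).ResidueField) hπ
    (Algebra.TensorProduct.includeRight :
      B →ₐ[A] (maximalIdeal A).ResidueField ⊗[A] B).toRingHom ?_ ?_ ?_
  · intro z
    induction z using TensorProduct.induction_on with
    | zero => exact ⟨0, map_zero _⟩
    | tmul x b =>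
      obtain ⟨a, rfl⟩ := hπ x
      refine ⟨a • b, ?_⟩
      show (1 : (maximalIdeal A).ResidueField) ⊗ₜ[A] (a • b) = _
      rw [← TensorProduct.smul_tmul, Algebra.smul_def, mul_one]
    | add x y hx hy =>
      obtain ⟨x', rfl⟩ := hx
      obtain ⟨y', rfl⟩ := hy
      exact ⟨x' + y', map_add _ _ _⟩
  · intro b hb
    rw [← hkπ]
    exact ker_includeRight_le hπ b hb
  · intro a
    show (1 : (maximalIdeal A).ResidueField) ⊗ₜ[A] (algebraMap A B a) = _
    rw [Algebra.TensorProduct.algebraMap_apply, Algebra.algebraMap_self, RingHom.id_apply,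
      Algebra.algebraMap_eq_smul_one, ← TensorProduct.smul_tmul, Algebra.smul_def, mul_one]

end S2038
end Groth.Agent.Helper7.CKd
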