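import Mathlib
import Groth.Prelude.Def_CAlgX
import Groth.Prelude.Def_Found
import Groth.Agent.Helper2.RegLoc
import Groth.Agent.Helper7.CKq2
import Groth.Agent.Helper7.CKr4
set_option autoImplicit false
set_option linter.style.haveILetI false
set_option linter.unusedSectionVars false
set_option linter.unusedVariables false
open TensorProduct IsLocalRing
universe u
namespace Groth.Agent.Helper7.CKd

/-- an algebra structure between localizations compatible with the base map is the one induced by
`localRingHom`. -/
theorem algebra_eq_localRingHom {A B : Type u} [CommRing A] [CommRing B] [Algebra A B]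
    (p : Ideal A) [p.IsPrime] (r : Ideal B) [r.IsPrime]
    (alg : Algebra (Localization.AtPrime p) (Localization.AtPrime r))
    [IsScalarTower A (Localization.AtPrime p) (Localization.AtPrime r)]
    (hp : p = r.comap (algebraMap A B)) :
    alg = (Localization.localRingHom p r (algebraMap A B) hp).toAlgebra := by
  apply Algebra.algebra_ext
  intro x
  have h : (algebraMap (Localization.AtPrime p) (Localization.AtPrime r)) =
      Localization.localRingHom p r (algebraMap A B) hp := by
    apply IsLocalization.ringHom_ext p.primeCompl
    ext a
    rw [RingHom.comp_apply, RingHom.comp_apply, Localization.localRingHom_to_map,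
      ← IsScalarTower.algebraMap_apply, ← IsScalarTower.algebraMap_apply]
  rw [h]
  rfl

/-- a regular local homomorphism of noetherian local rings is adically formally smooth. -/
theorem adic_of_isRegularHom_local {A B : Type u} [CommRing A] [CommRing B]
    [IsLocalRing A] [IsLocalRing B] [IsNoetherianRing A] [IsNoetherianRing B] [Algebra A B]
    [IsLocalHom (algebraMap A B)] (h : CAlg.IsRegularHom A B) :
    CAlgX.IsAdicFormallySmooth A B (maximalIdeal B) :=
  s2038.mp ⟨h.1, (h.2 (maximalIdeal A)).2⟩

section S19864
variable (A B : Type u) [CommRing A] [CommRing B] [Algebra A B] [IsNoetherianRing A]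
  [IsNoetherianRing B]

theorem s19864 :
    CAlg.IsRegularHom A B ↔
      ∀ (q : Ideal B) [q.IsPrime],
        letI := (Localization.localRingHom (Ideal.comap (algebraMap A B) q) q (algebraMap A B) rfl).toAlgebra
        CAlgX.IsAdicFormallySmooth (Localization.AtPrime (Ideal.comap (algebraMap A B) q))
          (Localization.AtPrime q) (IsLocalRing.maximalIdeal (Localization.AtPrime q)) := by
  constructor
  · intro h q hq
    letI := (Localization.localRingHom (Ideal.comap (algebraMap A B) q) q (algebraMap A B) rfl).toAlgebra
    have h1 := Groth.Agent.Helper2.RegLoc.loc_of_isRegularHom A B h q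
    haveI : IsLocalHom (algebraMap (Localization.AtPrime (Ideal.comap (algebraMap A B) q))
        (Localization.AtPrime q)) :=
      Localization.isLocalHom_localRingHom _ _ _ rfl
    haveI : IsNoetherianRing (Localization.AtPrime (Ideal.comap (algebraMap A B) q)) :=
      IsLocalization.isNoetherianRing (Ideal.comap (algebraMap A B) q).primeCompl _ inferInstance
    haveI : IsNoetherianRing (Localization.AtPrime q) :=
      IsLocalization.isNoetherianRing q.primeCompl _ inferInstance
    exact adic_of_isRegularHom_local h1
  · intro H
    have hflat : Module.Flat A B := by
      rw [← RingHom.flat_algebraMap_iff]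
      apply RingHom.Flat.ofLocalizationPrime
      intro q hq
      letI := (Localization.localRingHom (Ideal.comap (algebraMap A B) q) q (algebraMap A B) rfl).toAlgebra
      haveI : IsLocalHom (algebraMap (Localization.AtPrime (Ideal.comap (algebraMap A B) q))
          (Localization.AtPrime q)) :=
        Localization.isLocalHom_localRingHom _ _ _ rfl
      haveI : IsNoetherianRing (Localization.AtPrime (Ideal.comap (algebraMap A B) q)) :=
        IsLocalization.isNoetherianRing (Ideal.comap (algebraMap A B) q).primeCompl _ inferInstance
      haveI : IsNoetherianRing (Localization.AtPrime q) :=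
        IsLocalization.isNoetherianRing q.primeCompl _ inferInstance
      have := flat_of_adic (H q)
      exact this
    haveI := hflat
    apply isRegularHom_of_forall_adic A B
    intro p hp r hr hlo alg tow
    obtain rfl := hlo.over
    have hEq := algebra_eq_localRingHom (r.under A) r alg rfl
    subst hEq
    exact H r

end S19864
end Groth.Agent.Helper7.CKd
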