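import Mathlib
import Groth.Prelude.Def_CAlgX
import Groth.Prelude.Def_Found
import Groth.Agent.Helper7.CohenV1
import Groth.Agent.Helper7.CKr4
import Groth.Agent.Helper8.GeomReg1
import Groth.Agent.Helper2.RegBC
set_option autoImplicit false
set_option linter.style.haveILetI false
set_option linter.unusedSectionVars false
set_option linter.unusedVariables false
open TensorProduct IsLocalRing
universe u
namespace Groth.Agent.Helper7.CKd

section lift
variable {A B κ : Type u} [CommRing A] [IsLocalRing A] [IsNoetherianRing A] [Field κ] [Algebra A κ]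
  [CommRing B] [IsLocalRing B] [IsNoetherianRing B] [IsAdicComplete (maximalIdeal B) B]
  [Algebra κ B]

/-- EGA 0_IV 19.7.2 (existence, closed fibre form): a complete local noetherian algebra over the
residue field, adically formally smooth, lifts to a flat complete local noetherian algebra, which
is then adically formally smooth. -/
theorem exists_fs_lift (hπ : Function.Surjective (algebraMap A κ))
    (hB : CAlgX.IsAdicFormallySmooth κ B (maximalIdeal B)) :
    ∃ (C : Type u) (_ : CommRing C) (_ : IsLocalRing C) (_ : IsNoetherianRing C) (_ : Algebra A C)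
      (_ : IsLocalHom (algebraMap A C)),
      IsAdicComplete (maximalIdeal C) C ∧ Module.Flat A C ∧
      CAlgX.IsAdicFormallySmooth A C (maximalIdeal C) ∧
      ∃ θ : C →+* B, Function.Surjective θ ∧
        RingHom.ker θ = (maximalIdeal A).map (algebraMap A C) ∧
        ∀ a, θ (algebraMap A C a) = algebraMap κ B (algebraMap A κ a) := by
  have hkπ : RingHom.ker (algebraMap A κ) = maximalIdeal A := by
    haveI : (RingHom.ker (algebraMap A κ)).IsMaximal :=
      RingHom.ker_isMaximal_of_surjective _ hπ
    exact IsLocalRing.eq_maximalIdeal inferInstance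
  -- the residue field of `A` maps to `κ`
  let j : ResidueField A →+* κ := Ideal.Quotient.lift (maximalIdeal A) (algebraMap A κ)
    (fun a ha => by rw [← RingHom.mem_ker, hkπ]; exact ha)
  have hj : ∀ a, j (residue A a) = algebraMap A κ a := fun a => Ideal.Quotient.lift_mk _ _ _
  letI algkB : Algebra (ResidueField A) B := ((algebraMap κ B).comp j).toAlgebra
  have halgkB : ∀ x, algebraMap (ResidueField A) B x = algebraMap κ B (j x) := fun x => rfl
  haveI hreg : IsRegularLocalRing B := Groth.Agent.Helper8.GeomReg.isRegularLocalRing_of_adic hB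
  obtain ⟨C, _, _, _, algC, hloc, hcompl, hflat, ⟨e₀⟩⟩ := Groth.Agent.Helper7.Cohen.s4514 (A := A) B
  have hres : Function.Surjective (algebraMap A (ResidueField A)) := residue_surjective
  have hkres : RingHom.ker (algebraMap A (ResidueField A)) = maximalIdeal A := ker_residue
  let θ : C →+* B := (e₀ : _ →+* B).comp
    (Algebra.TensorProduct.includeRight : C →ₐ[A] ResidueField A ⊗[A] C).toRingHom
  have hθapp : ∀ c, θ c = e₀ ((1 : ResidueField A) ⊗ₜ[A] c) := fun c => rfl
  have hone : ∀ z : ResidueField A ⊗[A] C, ∃ c : C, z = 1 ⊗ₜ c := by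
    intro z
    induction z using TensorProduct.induction_on with
    | zero => exact ⟨0, by simp⟩
    | tmul x c =>
      obtain ⟨a, rfl⟩ := hres x
      refine ⟨a • c, ?_⟩
      rw [← TensorProduct.smul_tmul, Algebra.smul_def, mul_one]
    | add x y hx hy =>
      obtain ⟨x', rfl⟩ := hx
      obtain ⟨y', rfl⟩ := hy
      exact ⟨x' + y', by rw [TensorProduct.tmul_add]⟩
  have hθs : Function.Surjective θ := by
    intro b
    obtain ⟨z, rfl⟩ := e₀.surjective b
    obtain ⟨c, rfl⟩ := hone z
    exact ⟨c, rfl⟩
  have hθcomp : ∀ a, θ (algebraMap A C a) = algebraMap κ B (algebraMap A κ a) := by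
    intro a
    rw [hθapp]
    have h1 : (1 : ResidueField A) ⊗ₜ[A] (algebraMap A C a) =
        algebraMap (ResidueField A) (ResidueField A ⊗[A] C) (algebraMap A (ResidueField A) a) := by
      rw [Algebra.TensorProduct.algebraMap_apply, Algebra.algebraMap_self, RingHom.id_apply,
        Algebra.algebraMap_eq_smul_one a, ← TensorProduct.smul_tmul, Algebra.smul_def, mul_one]
    rw [h1, e₀.commutes, halgkB]
    exact congrArg _ (hj a)
  have hkθ : RingHom.ker θ = (maximalIdeal A).map (algebraMap A C) := by
    apply le_antisymm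
    · intro c hc
      rw [RingHom.mem_ker, hθapp, map_eq_zero_iff _ e₀.injective] at hc
      rw [← hkres]
      exact ker_includeRight_le hres c hc
    · rw [Ideal.map_le_iff_le_comap]
      intro a ha
      rw [Ideal.mem_comap, RingHom.mem_ker, hθcomp]
      have : algebraMap A κ a = 0 := by rw [← RingHom.mem_ker, hkπ]; exact ha
      rw [this, map_zero]
  refine ⟨C, inferInstance, inferInstance, inferInstance, algC, hloc, hcompl, hflat, ?_, θ, hθs,
    hkθ, hθcomp⟩
  exact (adic_iff_flat_and_geomReg (algebraMap A κ) hπ θ hθs hkθ.le hθcomp).mp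
    ⟨hflat, Groth.Agent.Helper7.FTSep.adic_iff_geomReg.mp hB⟩

end lift

section S2040
variable {A B : Type u} [CommRing A] [IsLocalRing A]
    [IsNoetherianRing A] [CommRing B] [IsLocalRing B]
    [IsNoetherianRing B] [IsAdicComplete (IsLocalRing.maximalIdeal B) B]
    [Algebra (IsLocalRing.maximalIdeal A).ResidueField B]

theorem s2040
    (hB : CAlgX.IsAdicFormallySmooth (IsLocalRing.maximalIdeal A).ResidueField B (IsLocalRing.maximalIdeal B)) :
    ∃ (C : Type u) (_ : CommRing C) (_ : IsLocalRing C) (_ : Algebra A C),
      IsNoetherianRing C ∧ IsAdicComplete (IsLocalRing.maximalIdeal C) C ∧ IsLocalHom (algebraMap A C) ∧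
        CAlgX.IsAdicFormallySmooth A C (IsLocalRing.maximalIdeal C) ∧
        Nonempty ((IsLocalRing.maximalIdeal A).Fiber C ≃ₐ[(IsLocalRing.maximalIdeal A).ResidueField] B) := by
  have hπ : Function.Surjective (algebraMap A (maximalIdeal A).ResidueField) :=
    Ideal.algebraMap_residueField_surjective (maximalIdeal A)
  have hkπ : RingHom.ker (algebraMap A (maximalIdeal A).ResidueField) = maximalIdeal A :=
    Ideal.ker_algebraMap_residueField (maximalIdeal A)
  obtain ⟨C, _, _, _, algC, hloc, hcompl, hflat, hfs, θ, hθs, hkθ, hθcomp⟩ :=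
    exists_fs_lift (A := A) hπ hB
  refine ⟨C, inferInstance, inferInstance, algC, inferInstance, hcompl, hloc, hfs, ?_⟩
  letI algAB : Algebra A B :=
    ((algebraMap (maximalIdeal A).ResidueField B).comp
      (algebraMap A (maximalIdeal A).ResidueField)).toAlgebra
  haveI : IsScalarTower A (maximalIdeal A).ResidueField B :=
    IsScalarTower.of_algebraMap_eq (fun a => rfl)
  letI algCB : Algebra C B := θ.toAlgebra
  haveI : IsScalarTower A C B := IsScalarTower.of_algebraMap_eq (fun a => (hθcomp a).symm)
  have hbij := Groth.Agent.Helper7.Cohen.tensor_bijective_of_surjective (R := A)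
    (A := (maximalIdeal A).ResidueField) (S := C) (T := B) hπ hθs (by
      rw [hkπ]; exact hkθ)
  exact ⟨AlgEquiv.ofBijective _ hbij⟩

end S2040
end Groth.Agent.Helper7.CKd
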