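import Mathlib
import Groth.Prelude.Def_CAlgX
import Groth.Prelude.Def_EGA41
import Groth.Agent.S0544
import Groth.Agent.S4537
import Groth.Agent.Helper7.CKk5
set_option autoImplicit false
set_option linter.style.haveILetI false
set_option linter.unusedSectionVars false
set_option linter.unusedVariables false
open TensorProduct IsLocalRing
universe u
namespace Groth.Agent.Helper7.CKd

section base
variable {A B : Type u} [CommRing A] [CommRing B] [Algebra A B]

/-- for a continuous structure map, formal smoothness over the adic base and over the discrete base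
agree. -/
theorem adicBase_iff (𝔞 : Ideal A) (𝔟 : Ideal B) (h𝔞 : 𝔞.map (algebraMap A B) ≤ 𝔟) :
    EGA41.IsFormallySmoothAdic A 𝔞 B 𝔟 ↔ CAlgX.IsAdicFormallySmooth A B 𝔟 := by
  rw [Groth.Agent.S4537.result]
  constructor
  · intro h C _ _ J hJ _ u hu
    refine h C J hJ ?_ u hu
    obtain ⟨k, hk⟩ := hu
    obtain ⟨s, hs⟩ := hJ
    have h1 : (𝔞 ^ k).map (algebraMap A C) ≤ J := by
      rw [Ideal.map_le_iff_le_comap]
      intro a ha
      rw [Ideal.mem_comap, ← Ideal.Quotient.eq_zero_iff_mem, Ideal.Quotient.mk_algebraMap,
        ← u.commutes]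
      apply hk
      have h2 : algebraMap A B a ∈ (𝔞 ^ k).map (algebraMap A B) := Ideal.mem_map_of_mem _ ha
      rw [Ideal.map_pow] at h2
      exact Ideal.pow_right_mono h𝔞 k h2
    refine ⟨k * s, ?_⟩
    rw [pow_mul, Ideal.map_pow]
    exact le_bot_iff.mp ((Ideal.pow_right_mono h1 s).trans (by rw [← Ideal.zero_eq_bot, ← hs]))
  · intro h C _ _ J hJ _ u hu
    exact h C J hJ ⟨1, by rw [pow_one, Ideal.map_bot]⟩ u hu

end base

section L
variable {A B B' : Type u} [CommRing A] [CommRing B] [CommRing B'] [Algebra A B] [Algebra A B']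
  [IsLocalRing B] [IsNoetherianRing B] [IsAdicComplete (maximalIdeal B) B]
  [IsLocalRing B'] [IsNoetherianRing B'] [Module.Flat A B']

/-- a homomorphism of complete local noetherian algebras, with flat target, which is an isomorphism
modulo an ideal of the base is an isomorphism. -/
theorem bijective_of_flat_of_mod (I : Ideal A) (hIB : I.map (algebraMap A B) ≤ maximalIdeal B)
    (v : B →ₐ[A] B') (hloc : ∀ x ∈ maximalIdeal B, v x ∈ maximalIdeal B')
    (hinj : ∀ x, v x ∈ I.map (algebraMap A B') → x ∈ I.map (algebraMap A B))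
    (hsurj : ∀ y : B', ∃ x : B, y - v x ∈ I.map (algebraMap A B')) : Function.Bijective v := by
  -- surjectivity
  have hs : Function.Surjective v := by
    letI algBB' : Algebra B B' := v.toRingHom.toAlgebra
    have hsm : ∀ (b : B) (y : B'), b • y = v b * y := fun b y => rfl
    have hIB' : I.map (algebraMap A B') ≤ (maximalIdeal B).map (algebraMap B B') := by
      rw [Ideal.map_le_iff_le_comap]
      intro a ha
      rw [Ideal.mem_comap]
      have h1 : algebraMap A B' a = algebraMap B B' (algebraMap A B a) := (v.commutes a).symm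
      rw [h1]
      exact Ideal.mem_map_of_mem _ (hIB (Ideal.mem_map_of_mem _ ha))
    have hmapmax : (maximalIdeal B).map (algebraMap B B') ≤ maximalIdeal B' := by
      rw [Ideal.map_le_iff_le_comap]
      exact fun x hx => hloc x hx
    haveI : IsHausdorff (maximalIdeal B) B' := ⟨fun y hy => by
      have hmem : ∀ m, y ∈ maximalIdeal B' ^ m := fun m => by
        have h1 := hy m
        rw [SModEq.zero, Ideal.smul_top_eq_map, Submodule.restrictScalars_mem, Ideal.map_pow] at h1
        exact Ideal.pow_right_mono hmapmax m h1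
      have h2 : y ∈ (⨅ m, maximalIdeal B' ^ m : Ideal B') := by
        rw [Ideal.mem_iInf]; exact hmem
      rw [Ideal.iInf_pow_eq_bot_of_isLocalRing _ (maximalIdeal.isMaximal B').ne_top] at h2
      exact h2⟩
    have hdecomp : ∀ y : B', ∃ x : B, y - v x ∈ (maximalIdeal B).map (algebraMap B B') := by
      intro y
      obtain ⟨x, hx⟩ := hsurj y
      exact ⟨x, hIB' hx⟩
    have hfinQ : Module.Finite B (B' ⧸ (maximalIdeal B • ⊤ : Submodule B B')) := by
      refine ⟨⟨{Submodule.Quotient.mk 1}, ?_⟩⟩
      rw [eq_top_iff]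
      rintro z -
      obtain ⟨y, rfl⟩ := Submodule.Quotient.mk_surjective _ z
      obtain ⟨x, hx⟩ := hdecomp y
      have h1 : (Submodule.Quotient.mk y : B' ⧸ (maximalIdeal B • ⊤ : Submodule B B')) =
          x • Submodule.Quotient.mk 1 := by
        rw [← Submodule.Quotient.mk_smul, Submodule.Quotient.eq, hsm, mul_one,
          Ideal.smul_top_eq_map, Submodule.restrictScalars_mem]
        exact hx
      rw [h1]
      exact Submodule.smul_mem _ _ (Submodule.subset_span (by simp))
    haveI hfin : Module.Finite B B' := Groth.Agent.S0544.result B (maximalIdeal B) B' hfinQ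
    have htop : (⊤ : Submodule B B') ≤ Submodule.span B {(1 : B')} := by
      apply Submodule.le_of_le_smul_of_le_jacobson_bot (I := maximalIdeal B) hfin.1
        (IsLocalRing.maximalIdeal_le_jacobson _)
      rintro y -
      obtain ⟨x, hx⟩ := hdecomp y
      rw [Submodule.mem_sup]
      refine ⟨v x, ?_, y - v x, ?_, by ring⟩
      · have : v x = x • (1 : B') := by rw [hsm, mul_one]
        rw [this]
        exact Submodule.smul_mem _ _ (Submodule.subset_span rfl)
      · rw [Ideal.smul_top_eq_map, Submodule.restrictScalars_mem]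
        exact hx
    intro y
    have hy := htop (Submodule.mem_top : y ∈ ⊤)
    rw [Submodule.mem_span_singleton] at hy
    obtain ⟨x, rfl⟩ := hy
    exact ⟨x, by rw [hsm, mul_one]⟩
  refine ⟨?_, hs⟩
  -- injectivity
  rw [injective_iff_map_eq_zero]
  set K : Ideal B := RingHom.ker v.toRingHom with hK
  have hKI : K ≤ I.map (algebraMap A B) * K := by
    intro x hx
    have hvx : v x = 0 := hx
    exact ker_inf_map_le_of_flat v hs I x hvx (hinj x (by rw [hvx]; exact Ideal.zero_mem _))
  have hK0 : K = ⊥ := by
    have hfg : K.FG := IsNoetherian.noetherian K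
    have h1 : K ≤ maximalIdeal B • K := by
      refine hKI.trans ?_
      rw [smul_eq_mul]
      exact Ideal.mul_mono_left hIB
    exact Submodule.eq_bot_of_le_smul_of_le_jacobson_bot (maximalIdeal B) K hfg h1
      (IsLocalRing.maximalIdeal_le_jacobson _)
  intro x hx
  have : x ∈ K := hx
  rw [hK0] at this
  exact this

end L
end Groth.Agent.Helper7.CKd
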