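import Mathlib
import Groth.Prelude.Def_CAlgX
import Groth.Prelude.Def_EGA41
import Groth.Agent.S2462
import Groth.Agent.S4537
import Groth.Agent.Helper7.CKs3
set_option autoImplicit false
set_option linter.style.haveILetI false
set_option linter.unusedSectionVars false
set_option linter.unusedVariables false
open TensorProduct IsLocalRing
universe u
namespace Groth.Agent.Helper7.CKd

section U
variable {A B B' B₀ : Type u} [CommRing A] [CommRing B] [CommRing B'] [CommRing B₀]
  [Algebra A B] [Algebra A B'] [Algebra A B₀] [Nontrivial B₀]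
  [IsLocalRing B] [IsNoetherianRing B] [IsAdicComplete (maximalIdeal B) B]
  [IsLocalRing B'] [IsNoetherianRing B'] [IsAdicComplete (maximalIdeal B') B'] [Module.Flat A B']

omit [IsNoetherianRing B] [IsAdicComplete (maximalIdeal B) B] in
/-- a surjection from a local ring is local. -/
theorem mem_maximalIdeal_of_surjective_aux (θ : B →ₐ[A] B₀) (hθ : Function.Surjective θ)
    (x : B) (hx : IsUnit (θ x)) : IsUnit x := by
  by_contra hxu
  have hxm : x ∈ maximalIdeal B := (mem_maximalIdeal _).mpr hxu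
  obtain ⟨w, hw⟩ := hx.exists_right_inv
  obtain ⟨z, rfl⟩ := hθ w
  have h1 : x * z - 1 ∈ RingHom.ker θ.toRingHom := by
    rw [RingHom.mem_ker]
    show θ (x * z - 1) = 0
    rw [map_sub, map_mul, hw, map_one, sub_self]
  have h2 : x * z - 1 ∈ maximalIdeal B :=
    IsLocalRing.le_maximalIdeal (RingHom.ker_ne_top _) h1
  have h3 : (1 : B) ∈ maximalIdeal B := by
    have := (maximalIdeal B).sub_mem (Ideal.mul_mem_right z _ hxm) h2
    rwa [sub_sub_cancel] at this
  exact (maximalIdeal.isMaximal B).ne_top ((Ideal.eq_top_iff_one _).mpr h3)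

/-- EGA 0_IV 19.7.2 (uniqueness): two flat complete local noetherian lifts of the same algebra
`B₀ = B/JB = B'/JB'`, one of them adically formally smooth, are isomorphic over the base,
compatibly with the projections to `B₀`. -/
theorem exists_algEquiv_of_lifts (J : Ideal A)
    (hfs : CAlgX.IsAdicFormallySmooth A B (maximalIdeal B))
    (θ : B →ₐ[A] B₀) (hθ : Function.Surjective θ)
    (hkθ : RingHom.ker θ.toRingHom = J.map (algebraMap A B))
    (θ' : B' →ₐ[A] B₀) (hθ' : Function.Surjective θ')
    (hkθ' : RingHom.ker θ'.toRingHom = J.map (algebraMap A B')) :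
    ∃ v : B ≃ₐ[A] B', ∀ b, θ' (v b) = θ b := by
  set J' : Ideal B' := J.map (algebraMap A B') with hJ'
  have hJ'top : J' ≠ ⊤ := by rw [← hkθ']; exact RingHom.ker_ne_top _
  have hJB : J.map (algebraMap A B) ≤ maximalIdeal B := by
    rw [← hkθ]; exact IsLocalRing.le_maximalIdeal (RingHom.ker_ne_top _)
  let e₁ : (B' ⧸ J') ≃ₐ[A] B₀ :=
    (Ideal.quotientEquivAlgOfEq A hkθ'.symm).trans (Ideal.quotientKerAlgEquivOfSurjective hθ')
  have he₁ : ∀ y : B', e₁ (Ideal.Quotient.mk J' y) = θ' y := fun y => rfl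
  let ū : B →ₐ[A] B' ⧸ J' := e₁.symm.toAlgHom.comp θ
  have hū : ∀ b, e₁ (ū b) = θ b := fun b => e₁.apply_symm_apply _
  have hB : EGA41.IsFormallySmoothAdic A ⊥ B (maximalIdeal B) :=
    (Groth.Agent.S4537.result _).mp hfs
  have hu : (maximalIdeal B).map ū.toRingHom ≤ (maximalIdeal B').map (Ideal.Quotient.mk J') := by
    rw [Ideal.map_le_iff_le_comap]
    intro x hx
    rw [Ideal.mem_comap]
    obtain ⟨y, hy⟩ := hθ' (θ x)
    have h1 : ū.toRingHom x = Ideal.Quotient.mk J' y := by
      apply e₁.injective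
      rw [he₁, hy]
      exact hū x
    rw [h1]
    apply Ideal.mem_map_of_mem
    rw [mem_maximalIdeal]
    intro hyu
    have h2 : IsUnit (θ x) := by rw [← hy]; exact hyu.map θ'
    exact (mem_maximalIdeal _).mp hx (mem_maximalIdeal_of_surjective_aux θ hθ x h2)
  obtain ⟨v, -, hv⟩ := Groth.Agent.S2462.result (⊥ : Ideal A) (maximalIdeal B) hB
    (by rw [Ideal.map_bot]; exact bot_le) J' hJ'top ū hu
  have hvθ : ∀ b, θ' (v b) = θ b := by
    intro b
    have h1 : Ideal.Quotient.mk J' (v b) = ū b := congrArg (fun f => f b) hv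
    rw [← he₁, h1, hū]
  have hbij : Function.Bijective v := by
    apply bijective_of_flat_of_mod J hJB v
    · intro x hx
      rw [mem_maximalIdeal]
      intro hvu
      have h2 : IsUnit (θ x) := by rw [← hvθ]; exact hvu.map θ'
      exact (mem_maximalIdeal _).mp hx (mem_maximalIdeal_of_surjective_aux θ hθ x h2)
    · intro x hx
      rw [← hkθ, RingHom.mem_ker]
      show θ x = 0
      rw [← hvθ]
      have : v x ∈ RingHom.ker θ'.toRingHom := by rw [hkθ']; exact hx
      exact this
    · intro y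
      obtain ⟨x, hx⟩ := hθ (θ' y)
      refine ⟨x, ?_⟩
      rw [← hJ', ← hkθ', RingHom.mem_ker]
      show θ' (y - v x) = 0
      rw [map_sub, hvθ, hx, sub_self]
  exact ⟨AlgEquiv.ofBijective v hbij, hvθ⟩

end U
end Groth.Agent.Helper7.CKd
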