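import Mathlib
import Groth.Prelude.Def_CAlgX
import Groth.Prelude.Def_EGA41
import Groth.Agent.S2462
import Groth.Agent.S4537
import Groth.Agent.Helper7.CKq1
import Groth.Agent.Helper7.CKr3
import Groth.Agent.Helper7.CKs2
import Groth.Agent.Helper7.CKs3
import Groth.Agent.Helper7.CKs4
set_option autoImplicit false
set_option linter.style.haveILetI false
set_option linter.unusedSectionVars false
set_option linter.unusedVariables false
open TensorProduct IsLocalRing
universe u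
namespace Groth.Agent.Helper7.CKd

/-- a surjective ring homomorphism from a local ring reflects units. -/
theorem isUnit_of_surjective_of_isUnit {B B₀ : Type*} [CommRing B] [IsLocalRing B] [CommRing B₀]
    [Nontrivial B₀] (θ : B →+* B₀) (hθ : Function.Surjective θ) (x : B) (hx : IsUnit (θ x)) :
    IsUnit x := by
  by_contra hxu
  have hxm : x ∈ maximalIdeal B := (mem_maximalIdeal _).mpr hxu
  obtain ⟨w, hw⟩ := hx.exists_right_inv
  obtain ⟨z, rfl⟩ := hθ w
  have h1 : x * z - 1 ∈ RingHom.ker θ := by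
    rw [RingHom.mem_ker, map_sub, map_mul, hw, map_one, sub_self]
  have h2 : x * z - 1 ∈ maximalIdeal B :=
    IsLocalRing.le_maximalIdeal (RingHom.ker_ne_top _) h1
  have h3 : (1 : B) ∈ maximalIdeal B := by
    have := (maximalIdeal B).sub_mem (Ideal.mul_mem_right z _ hxm) h2
    rwa [sub_sub_cancel] at this
  exact (maximalIdeal.isMaximal B).ne_top ((Ideal.eq_top_iff_one _).mpr h3)

section E
variable {A B₀ : Type u} [CommRing A] [IsLocalRing A] [IsNoetherianRing A] (J : Ideal A)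
  [IsLocalRing (A ⧸ J)]
  [CommRing B₀] [IsLocalRing B₀] [IsNoetherianRing B₀] [IsAdicComplete (maximalIdeal B₀) B₀]
  [Algebra (A ⧸ J) B₀] [IsLocalHom (algebraMap (A ⧸ J) B₀)] [Algebra A B₀]
  [IsScalarTower A (A ⧸ J) B₀]

/-- EGA 0_IV 19.7.2 (existence): a complete local noetherian algebra over `A/J`, adically formally
smooth, lifts to a flat complete local noetherian `A`-algebra (which is adically formally
smooth). -/
theorem exists_flat_lift_of_adic
    (hfs₀ : CAlgX.IsAdicFormallySmooth (A ⧸ J) B₀ (maximalIdeal B₀)) :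
    ∃ (C : Type u) (_ : CommRing C) (_ : IsLocalRing C) (_ : IsNoetherianRing C) (_ : Algebra A C)
      (_ : IsLocalHom (algebraMap A C)),
      IsAdicComplete (maximalIdeal C) C ∧ Module.Flat A C ∧
      CAlgX.IsAdicFormallySmooth A C (maximalIdeal C) ∧
      ∃ v : C →ₐ[A] B₀, Function.Surjective v ∧
        RingHom.ker v.toRingHom = J.map (algebraMap A C) := by
  haveI hflat₀ : Module.Flat (A ⧸ J) B₀ := flat_of_adic hfs₀
  have hle₀ : (maximalIdeal (A ⧸ J)).map (algebraMap (A ⧸ J) B₀) ≤ maximalIdeal B₀ :=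
    ((IsLocalRing.local_hom_TFAE (algebraMap (A ⧸ J) B₀)).out 0 2).mp
      ‹IsLocalHom (algebraMap (A ⧸ J) B₀)›
  obtain ⟨J₀, hJ₀⟩ : ∃ J₀ : Ideal B₀, J₀ = (maximalIdeal (A ⧸ J)).map (algebraMap (A ⧸ J) B₀) :=
    ⟨_, rfl⟩
  have hJ₀le : J₀ ≤ maximalIdeal B₀ := hJ₀ ▸ hle₀
  have hJ₀top : J₀ ≠ ⊤ := fun h => (maximalIdeal.isMaximal B₀).ne_top (top_le_iff.mp (h ▸ hJ₀le))
  haveI : Nontrivial (B₀ ⧸ J₀) := Ideal.Quotient.nontrivial_iff.mpr hJ₀top
  haveI : IsLocalRing (B₀ ⧸ J₀) :=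
    IsLocalRing.of_surjective' (Ideal.Quotient.mk J₀) Ideal.Quotient.mk_surjective
  haveI : IsAdicComplete (maximalIdeal (B₀ ⧸ J₀)) (B₀ ⧸ J₀) :=
    Groth.Agent.Helper7.Cohen.isAdicComplete_quotient J₀
  -- the structure over the residue field
  let φ : ResidueField (A ⧸ J) →+* B₀ ⧸ J₀ :=
    Ideal.quotientMap J₀ (algebraMap (A ⧸ J) B₀) (by rw [hJ₀]; exact Ideal.le_comap_map)
  letI algk : Algebra (ResidueField (A ⧸ J)) (B₀ ⧸ J₀) := φ.toAlgebra
  have hφ : ∀ a : A ⧸ J, algebraMap (ResidueField (A ⧸ J)) (B₀ ⧸ J₀) (residue (A ⧸ J) a) =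
      Ideal.Quotient.mk J₀ (algebraMap (A ⧸ J) B₀ a) := fun a => rfl
  have hB₀₀ : CAlgX.IsAdicFormallySmooth (ResidueField (A ⧸ J)) (B₀ ⧸ J₀)
      (maximalIdeal (B₀ ⧸ J₀)) := by
    have := adic_fibre_of_adic (maximalIdeal B₀) (residue (A ⧸ J)) residue_surjective
      (Ideal.Quotient.mk J₀) Ideal.Quotient.mk_surjective
      (by rw [Ideal.mk_ker, ker_residue, hJ₀]) (fun a => (hφ a).symm) hfs₀
    rwa [IsLocalRing.map_maximalIdeal_of_surjective _ Ideal.Quotient.mk_surjective] at this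
  letI algAk : Algebra A (ResidueField (A ⧸ J)) :=
    ((residue (A ⧸ J)).comp (Ideal.Quotient.mk J)).toAlgebra
  have hAk : ∀ a : A, algebraMap A (ResidueField (A ⧸ J)) a =
      residue (A ⧸ J) (Ideal.Quotient.mk J a) := fun a => rfl
  have hπ : Function.Surjective (algebraMap A (ResidueField (A ⧸ J))) :=
    residue_surjective.comp Ideal.Quotient.mk_surjective
  obtain ⟨C, _, _, _, algC, hloc, hcompl, hflat, hfs, θC, hθCs, hkθC, hθCcomp⟩ :=
    exists_fs_lift (A := A) (κ := ResidueField (A ⧸ J)) (B := B₀ ⧸ J₀) hπ hB₀₀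
  refine ⟨C, inferInstance, inferInstance, inferInstance, algC, hloc, hcompl, hflat, hfs, ?_⟩
  -- lift `θC` to `B₀`
  have halgAB₀ : ∀ a : A, algebraMap A B₀ a = algebraMap (A ⧸ J) B₀ (Ideal.Quotient.mk J a) :=
    fun a => IsScalarTower.algebraMap_apply A (A ⧸ J) B₀ a
  let u : C →ₐ[A] B₀ ⧸ J₀ :=
    { θC with
      commutes' := fun a => by
        show θC (algebraMap A C a) = Ideal.Quotient.mk J₀ (algebraMap A B₀ a)
        rw [hθCcomp, hAk, hφ, halgAB₀] }
  have hu_app : ∀ c, u c = θC c := fun c => rfl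
  have hB : EGA41.IsFormallySmoothAdic A ⊥ C (maximalIdeal C) :=
    (Groth.Agent.S4537.result _).mp hfs
  have hθCmax : ∀ x ∈ maximalIdeal C, θC x ∈ maximalIdeal (B₀ ⧸ J₀) := by
    intro x hx
    rw [mem_maximalIdeal]
    intro hxu
    exact (mem_maximalIdeal _).mp hx (isUnit_of_surjective_of_isUnit θC hθCs x hxu)
  have hu : (maximalIdeal C).map u.toRingHom ≤
      (maximalIdeal B₀).map (Ideal.Quotient.mk J₀) := by
    rw [Ideal.map_le_iff_le_comap, IsLocalRing.map_maximalIdeal_of_surjective _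
      Ideal.Quotient.mk_surjective]
    intro x hx
    exact hθCmax x hx
  obtain ⟨v, -, hv⟩ := Groth.Agent.S2462.result (⊥ : Ideal A) (maximalIdeal C) hB
    (by rw [Ideal.map_bot]; exact bot_le) J₀ hJ₀top u hu
  have hvθ : ∀ c, Ideal.Quotient.mk J₀ (v c) = θC c := fun c => congrArg (fun f => f c) hv
  -- the quotient `C/JC`
  obtain ⟨JC, hJC⟩ : ∃ JC : Ideal C, JC = J.map (algebraMap A C) := ⟨_, rfl⟩
  have hlocC : (maximalIdeal A).map (algebraMap A C) ≤ maximalIdeal C :=
    ((IsLocalRing.local_hom_TFAE (algebraMap A C)).out 0 2).mp hloc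
  have hJle : J ≤ maximalIdeal A := IsLocalRing.le_maximalIdeal (fun h => by
    have : Subsingleton (A ⧸ J) := Ideal.Quotient.subsingleton_iff.mpr h
    exact not_subsingleton (A ⧸ J) this)
  have hJCle : JC ≤ maximalIdeal C := hJC ▸ (Ideal.map_mono hJle).trans hlocC
  have hvJ : ∀ a ∈ J, algebraMap A B₀ a = 0 := by
    intro a ha
    rw [halgAB₀, Ideal.Quotient.eq_zero_iff_mem.mpr ha, map_zero]
  have hJCker : JC ≤ RingHom.ker v.toRingHom := by
    rw [hJC, Ideal.map_le_iff_le_comap]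
    intro a ha
    rw [Ideal.mem_comap, RingHom.mem_ker]
    show v (algebraMap A C a) = 0
    rw [v.commutes, hvJ a ha]
  subst hJC
  have hJCtop : J.map (algebraMap A C) ≠ ⊤ :=
    fun h => (maximalIdeal.isMaximal C).ne_top (top_le_iff.mp (h ▸ hJCle))
  haveI : Nontrivial (C ⧸ J.map (algebraMap A C)) := Ideal.Quotient.nontrivial_iff.mpr hJCtop
  haveI : IsLocalRing (C ⧸ J.map (algebraMap A C)) :=
    IsLocalRing.of_surjective' (Ideal.Quotient.mk _) Ideal.Quotient.mk_surjective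
  haveI : IsAdicComplete (maximalIdeal (C ⧸ J.map (algebraMap A C))) (C ⧸ J.map (algebraMap A C)) :=
    Groth.Agent.Helper7.Cohen.isAdicComplete_quotient _
  let v₀r : C ⧸ J.map (algebraMap A C) →+* B₀ :=
    Ideal.Quotient.lift (J.map (algebraMap A C)) v.toRingHom (fun x hx => hJCker hx)
  have hv₀r : ∀ c, v₀r (Ideal.Quotient.mk _ c) = v c := fun c => Ideal.Quotient.lift_mk _ _ _
  let v₀ : C ⧸ J.map (algebraMap A C) →ₐ[A ⧸ J] B₀ :=
    { v₀r with
      commutes' := fun a => by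
        obtain ⟨a, rfl⟩ := Ideal.Quotient.mk_surjective a
        show v₀r (Ideal.Quotient.mk _ (algebraMap A C a)) = _
        rw [hv₀r, v.commutes, halgAB₀] }
  have hv₀ : ∀ c, v₀ (Ideal.Quotient.mk _ c) = v c := hv₀r
  have hmaxA₀ : maximalIdeal (A ⧸ J) = (maximalIdeal A).map (Ideal.Quotient.mk J) :=
    (IsLocalRing.map_maximalIdeal_of_surjective _ Ideal.Quotient.mk_surjective).symm
  have hmaxC₀ : maximalIdeal (C ⧸ J.map (algebraMap A C)) =
      (maximalIdeal C).map (Ideal.Quotient.mk _) :=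
    (IsLocalRing.map_maximalIdeal_of_surjective _ Ideal.Quotient.mk_surjective).symm
  have hmapC₀ : ((maximalIdeal A).map (algebraMap A C)).map (Ideal.Quotient.mk (J.map (algebraMap A C))) =
      (maximalIdeal (A ⧸ J)).map (algebraMap (A ⧸ J) (C ⧸ J.map (algebraMap A C))) := by
    rw [hmaxA₀, Ideal.map_map, Ideal.map_map]
    rfl
  have hbij : Function.Bijective v₀ := by
    apply bijective_of_flat_of_mod (maximalIdeal (A ⧸ J)) _ v₀
    · -- hloc
      intro x hx
      obtain ⟨c, rfl⟩ := Ideal.Quotient.mk_surjective x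
      have hc : c ∈ maximalIdeal C := by
        rw [mem_maximalIdeal]
        intro hcu
        exact (mem_maximalIdeal _).mp hx (hcu.map _)
      rw [hv₀, mem_maximalIdeal]
      intro hvu
      have h1 : IsUnit (θC c) := by rw [← hvθ]; exact hvu.map _
      exact (mem_maximalIdeal _).mp (hθCmax c hc) h1
    · -- hinj
      intro x hx
      obtain ⟨c, rfl⟩ := Ideal.Quotient.mk_surjective x
      rw [hv₀, ← hJ₀] at hx
      have h1 : θC c = 0 := by
        rw [← hvθ]; exact Ideal.Quotient.eq_zero_iff_mem.mpr hx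
      have h2 : c ∈ (maximalIdeal A).map (algebraMap A C) := by
        rw [← hkθC]; exact h1
      rw [← hmapC₀]
      exact Ideal.mem_map_of_mem _ h2
    · -- hsurj
      intro y
      obtain ⟨c, hc⟩ := hθCs (Ideal.Quotient.mk J₀ y)
      refine ⟨Ideal.Quotient.mk _ c, ?_⟩
      rw [hv₀, ← hJ₀, ← Ideal.Quotient.eq_zero_iff_mem, map_sub, hvθ, hc, sub_self]
    · -- hIB
      rw [← hmapC₀, hmaxC₀]
      exact Ideal.map_mono hlocC
  refine ⟨v, ?_, ?_⟩
  · intro y
    obtain ⟨x, hx⟩ := hbij.2 y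
    obtain ⟨c, rfl⟩ := Ideal.Quotient.mk_surjective x
    exact ⟨c, by rw [← hv₀]; exact hx⟩
  · apply le_antisymm _ hJCker
    intro c hc
    have h1 : v₀ (Ideal.Quotient.mk _ c) = 0 := by rw [hv₀]; exact hc
    have h2 := hbij.1 (h1.trans (map_zero v₀).symm)
    exact Ideal.Quotient.eq_zero_iff_mem.mp h2

end E
end Groth.Agent.Helper7.CKd
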