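import Mathlib
import Groth.Agent.Helper3.FinComp1
import Groth.Agent.Helper5.HenselFin
set_option autoImplicit false
set_option linter.style.haveILetI false
set_option linter.unusedSectionVars false
set_option linter.unusedVariables false
open TensorProduct IsLocalRing
universe u
namespace Groth.Agent.Helper7.CKd

section dual
variable (S : Type u) [CommRing S] [IsLocalRing S]

theorem isLocalRing_dualNumber : IsLocalRing (DualNumber S) := by
  haveI : Nontrivial (DualNumber S) := ⟨⟨0, 1, fun h => by
    have := congrArg TrivSqZeroExt.fst h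
    simp at this⟩⟩
  apply IsLocalRing.of_nonunits_add
  intro a b ha hb
  rw [mem_nonunits_iff, TrivSqZeroExt.isUnit_iff_isUnit_fst] at ha hb ⊢
  rw [TrivSqZeroExt.fst_add]
  exact IsLocalRing.nonunits_add ha hb

theorem mem_maximalIdeal_dualNumber [IsLocalRing (DualNumber S)] (x : DualNumber S) :
    x ∈ maximalIdeal (DualNumber S) ↔ x.fst ∈ maximalIdeal S := by
  rw [mem_maximalIdeal, mem_maximalIdeal, mem_nonunits_iff, mem_nonunits_iff,
    TrivSqZeroExt.isUnit_iff_isUnit_fst]

theorem finite_dualNumber : Module.Finite S (DualNumber S) := by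
  classical
  refine ⟨⟨{(TrivSqZeroExt.inl 1 : DualNumber S), (TrivSqZeroExt.inr 1 : DualNumber S)}, ?_⟩⟩
  rw [eq_top_iff]
  rintro x -
  have hx : x = x.fst • (TrivSqZeroExt.inl 1 : DualNumber S) +
      x.snd • (TrivSqZeroExt.inr 1 : DualNumber S) := by
    apply TrivSqZeroExt.ext <;> simp
  rw [hx]
  refine Submodule.add_mem _ (Submodule.smul_mem _ _ (Submodule.subset_span ?_))
    (Submodule.smul_mem _ _ (Submodule.subset_span ?_))
  · simp
  · simp

variable [IsNoetherianRing S]

theorem isNoetherianRing_dualNumber : IsNoetherianRing (DualNumber S) := by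
  haveI := finite_dualNumber S
  haveI : IsNoetherian S (DualNumber S) := isNoetherian_of_isNoetherianRing_of_finite S _
  exact isNoetherian_of_tower S inferInstance

theorem isAdicComplete_dualNumber [IsAdicComplete (maximalIdeal S) S]
    [IsLocalRing (DualNumber S)] :
    IsAdicComplete (maximalIdeal (DualNumber S)) (DualNumber S) := by
  haveI := finite_dualNumber S
  haveI h1 : IsAdicComplete ((maximalIdeal S).map (algebraMap S (DualNumber S))) (DualNumber S) :=
    Groth.Agent.Helper3.FinComp1.isAdicComplete_map S (DualNumber S)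
  have hmem : ∀ x : DualNumber S, x.fst ∈ maximalIdeal S → x.snd ∈ maximalIdeal S →
      x ∈ (maximalIdeal S).map (algebraMap S (DualNumber S)) := by
    intro x h1 h2
    have hx : x = algebraMap S (DualNumber S) x.fst * 1 +
        algebraMap S (DualNumber S) x.snd * (TrivSqZeroExt.inr 1 : DualNumber S) := by
      apply TrivSqZeroExt.ext <;> simp [TrivSqZeroExt.algebraMap_eq_inl]
    rw [hx]
    exact Ideal.add_mem _ (Ideal.mul_mem_right _ _ (Ideal.mem_map_of_mem _ h1))
      (Ideal.mul_mem_right _ _ (Ideal.mem_map_of_mem _ h2))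
  apply Groth.Agent.Helper5.HenselFin.isAdicComplete_of_pow_le
    ((maximalIdeal S).map (algebraMap S (DualNumber S))) (maximalIdeal (DualNumber S)) 2
  · rw [pow_two, Ideal.mul_le]
    intro x hx y hy
    rw [mem_maximalIdeal_dualNumber] at hx hy
    apply hmem
    · rw [TrivSqZeroExt.fst_mul]
      exact Ideal.mul_mem_right _ _ hx
    · rw [TrivSqZeroExt.snd_mul]
      refine Ideal.add_mem _ ?_ ?_
      · rw [smul_eq_mul]
        exact Ideal.mul_mem_right _ _ hx
      · rw [MulOpposite.smul_eq_mul_unop, MulOpposite.unop_op]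
        exact Ideal.mul_mem_left _ _ hy
  · rw [Ideal.map_le_iff_le_comap]
    intro a ha
    rw [Ideal.mem_comap, mem_maximalIdeal_dualNumber, TrivSqZeroExt.algebraMap_eq_inl,
      TrivSqZeroExt.fst_inl]
    exact ha

end dual
end Groth.Agent.Helper7.CKd
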