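import Mathlib
import Groth.Prelude.Def_CAlgX
import Groth.Prelude.Def_EGA41
import Groth.Agent.S2462
import Groth.Agent.S4537
import Groth.Agent.Helper7.CohenV1
import Groth.Agent.Helper7.CKt1
set_option autoImplicit false
set_option linter.style.haveILetI false
set_option linter.unusedSectionVars false
set_option linter.unusedVariables false
open TensorProduct IsLocalRing
universe u
namespace Groth.Agent.Helper7.CKd

section derext
variable {R₀ C : Type u} [CommRing R₀] [CommRing C] [Algebra R₀ C]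
    [IsLocalRing C] [IsNoetherianRing C] [IsAdicComplete (maximalIdeal C) C]

/-- derivations of the base with values in a quotient of a complete local noetherian adically
formally smooth algebra extend to the algebra. -/
theorem exists_derivation_ext_quot
    (hfs : CAlgX.IsAdicFormallySmooth R₀ C (maximalIdeal C))
    (r₀ : Ideal C) (hr₀ : r₀ ≠ ⊤)
    (d : R₀ →+ C ⧸ r₀)
    (hd : ∀ x y, d (x * y) = Ideal.Quotient.mk r₀ (algebraMap R₀ C x) * d y +
      Ideal.Quotient.mk r₀ (algebraMap R₀ C y) * d x) :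
    ∃ D : C →+ C ⧸ r₀, (∀ x y, D (x * y) = Ideal.Quotient.mk r₀ x * D y +
      Ideal.Quotient.mk r₀ y * D x) ∧ ∀ x : R₀, D (algebraMap R₀ C x) = d x := by
  haveI : Nontrivial (C ⧸ r₀) := Ideal.Quotient.nontrivial_iff.mpr hr₀
  haveI : IsLocalRing (C ⧸ r₀) :=
    IsLocalRing.of_surjective' (Ideal.Quotient.mk r₀) Ideal.Quotient.mk_surjective
  haveI : IsAdicComplete (maximalIdeal (C ⧸ r₀)) (C ⧸ r₀) :=
    Groth.Agent.Helper7.Cohen.isAdicComplete_quotient r₀
  haveI := isLocalRing_dualNumber (C ⧸ r₀)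
  haveI := isNoetherianRing_dualNumber (C ⧸ r₀)
  haveI := isAdicComplete_dualNumber (C ⧸ r₀)
  have hd1 : d 1 = 0 := by
    have h := hd 1 1
    rw [mul_one, (algebraMap R₀ C).map_one, (Ideal.Quotient.mk r₀).map_one, one_mul] at h
    have h2 : d 1 + 0 = d 1 + d 1 := by rw [add_zero]; exact h
    exact (add_left_cancel h2).symm
  let ρ : R₀ →+* DualNumber (C ⧸ r₀) :=
    { toFun := fun x => TrivSqZeroExt.inl (Ideal.Quotient.mk r₀ (algebraMap R₀ C x)) +
        TrivSqZeroExt.inr (d x)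
      map_one' := by
        rw [(algebraMap R₀ C).map_one, (Ideal.Quotient.mk r₀).map_one, hd1,
          TrivSqZeroExt.inr_zero, add_zero]
        rfl
      map_mul' := fun x y => by
        apply TrivSqZeroExt.ext
        · simp [TrivSqZeroExt.fst_mul]
        · simp only [TrivSqZeroExt.snd_add, TrivSqZeroExt.snd_inl, TrivSqZeroExt.snd_inr, zero_add,
            TrivSqZeroExt.snd_mul, TrivSqZeroExt.fst_add, TrivSqZeroExt.fst_inl,
            TrivSqZeroExt.fst_inr, add_zero, hd, MulOpposite.smul_eq_mul_unop,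
            MulOpposite.unop_op, smul_eq_mul]
          ring
      map_zero' := by
        rw [(algebraMap R₀ C).map_zero, (Ideal.Quotient.mk r₀).map_zero, d.map_zero,
          TrivSqZeroExt.inr_zero, TrivSqZeroExt.inl_zero, add_zero]
      map_add' := fun x y => by
        rw [(algebraMap R₀ C).map_add, (Ideal.Quotient.mk r₀).map_add, d.map_add,
          TrivSqZeroExt.inl_add, TrivSqZeroExt.inr_add]
        abel }
  have hρfst : ∀ x, (ρ x).fst = Ideal.Quotient.mk r₀ (algebraMap R₀ C x) := fun x => by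
    show (TrivSqZeroExt.inl _ + TrivSqZeroExt.inr _ : DualNumber (C ⧸ r₀)).fst = _
    simp
  have hρsnd : ∀ x, (ρ x).snd = d x := fun x => by
    show (TrivSqZeroExt.inl _ + TrivSqZeroExt.inr _ : DualNumber (C ⧸ r₀)).snd = _
    simp
  letI algT : Algebra R₀ (DualNumber (C ⧸ r₀)) := ρ.toAlgebra
  have halgT : ∀ x, algebraMap R₀ (DualNumber (C ⧸ r₀)) x = ρ x := fun x => rfl
  let fstH : DualNumber (C ⧸ r₀) →+* C ⧸ r₀ := (TrivSqZeroExt.fstHom (C ⧸ r₀) (C ⧸ r₀) (C ⧸ r₀)).toRingHom
  have hfstH : ∀ t, fstH t = t.fst := fun t => rfl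
  set J : Ideal (DualNumber (C ⧸ r₀)) := RingHom.ker fstH with hJ
  have hJmem : ∀ t, t ∈ J ↔ t.fst = 0 := fun t => by rw [hJ, RingHom.mem_ker, hfstH]
  have hJtop : J ≠ ⊤ := RingHom.ker_ne_top _
  let u : C →ₐ[R₀] DualNumber (C ⧸ r₀) ⧸ J :=
    { ((Ideal.Quotient.mk J).comp ((TrivSqZeroExt.inlHom (C ⧸ r₀) (C ⧸ r₀)).comp
        (Ideal.Quotient.mk r₀))) with
      commutes' := fun x => by
        show Ideal.Quotient.mk J (TrivSqZeroExt.inl (Ideal.Quotient.mk r₀ (algebraMap R₀ C x))) =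
          Ideal.Quotient.mk J (ρ x)
        rw [Ideal.Quotient.mk_eq_mk_iff_sub_mem, hJmem, TrivSqZeroExt.fst_sub,
          TrivSqZeroExt.fst_inl, hρfst, sub_self] }
  have hu_app : ∀ c, u c = Ideal.Quotient.mk J (TrivSqZeroExt.inl (Ideal.Quotient.mk r₀ c)) :=
    fun c => rfl
  have hB : EGA41.IsFormallySmoothAdic R₀ ⊥ C (maximalIdeal C) :=
    (Groth.Agent.S4537.result _).mp hfs
  have hu : (maximalIdeal C).map u.toRingHom ≤
      (maximalIdeal (DualNumber (C ⧸ r₀))).map (Ideal.Quotient.mk J) := by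
    rw [Ideal.map_le_iff_le_comap]
    intro c hc
    rw [Ideal.mem_comap]
    show u c ∈ _
    rw [hu_app]
    apply Ideal.mem_map_of_mem
    rw [mem_maximalIdeal_dualNumber, TrivSqZeroExt.fst_inl,
      ← IsLocalRing.map_maximalIdeal_of_surjective _ Ideal.Quotient.mk_surjective]
    exact Ideal.mem_map_of_mem _ hc
  obtain ⟨v, -, hv⟩ := Groth.Agent.S2462.result (⊥ : Ideal R₀) (maximalIdeal C) hB
    (by rw [Ideal.map_bot]; exact bot_le) J hJtop u hu
  have hvfst : ∀ c, (v c).fst = Ideal.Quotient.mk r₀ c := by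
    intro c
    have h1 : Ideal.Quotient.mk J (v c) = u c := congrArg (fun f => f c) hv
    rw [hu_app, Ideal.Quotient.mk_eq_mk_iff_sub_mem, hJmem, TrivSqZeroExt.fst_sub,
      TrivSqZeroExt.fst_inl, sub_eq_zero] at h1
    exact h1
  let D : C →+ C ⧸ r₀ :=
    { toFun := fun c => (v c).snd
      map_zero' := by rw [map_zero]; rfl
      map_add' := fun x y => by rw [map_add]; rfl }
  refine ⟨D, ?_, ?_⟩
  · intro x y
    show (v (x * y)).snd = Ideal.Quotient.mk r₀ x * (v y).snd + Ideal.Quotient.mk r₀ y * (v x).snd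
    rw [map_mul, TrivSqZeroExt.snd_mul, hvfst, hvfst, MulOpposite.smul_eq_mul_unop,
      MulOpposite.unop_op, smul_eq_mul, mul_comm (v x).snd]
  · intro x
    show (v (algebraMap R₀ C x)).snd = d x
    rw [v.commutes, halgT, hρsnd]

end derext
end Groth.Agent.Helper7.CKd
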