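import Mathlib
import Groth.Prelude.Def_CAlgX
import Groth.Agent.Helper7.CKt2
set_option autoImplicit false
set_option linter.style.haveILetI false
set_option linter.unusedSectionVars false
set_option linter.unusedVariables false
open TensorProduct IsLocalRing
universe u
namespace Groth.Agent.Helper7.CKd

section locext
variable {C : Type u} [CommRing C] (q : Ideal C) [q.IsPrime]

/-- a Leibniz map `C → κ(q)` extends to the localization at `q`. -/
theorem exists_leibniz_ext_localization
    (D₁ : C →+ q.ResidueField)
    (hD₁ : ∀ x y, D₁ (x * y) = algebraMap C q.ResidueField x * D₁ y +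
      algebraMap C q.ResidueField y * D₁ x) :
    ∃ D : Localization.AtPrime q →+ q.ResidueField,
      (∀ x y, D (x * y) = algebraMap (Localization.AtPrime q) q.ResidueField x * D y +
        algebraMap (Localization.AtPrime q) q.ResidueField y * D x) ∧
      ∀ c, D (algebraMap C (Localization.AtPrime q) c) = D₁ c := by
  have hd1 : D₁ 1 = 0 := by
    have h := hD₁ 1 1
    rw [mul_one, (algebraMap C q.ResidueField).map_one, one_mul] at h
    have h2 : D₁ 1 + 0 = D₁ 1 + D₁ 1 := by rw [add_zero]; exact h
    exact (add_left_cancel h2).symm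
  let Ψ : C →+* DualNumber q.ResidueField :=
    { toFun := fun x => TrivSqZeroExt.inl (algebraMap C q.ResidueField x) + TrivSqZeroExt.inr (D₁ x)
      map_one' := by
        rw [(algebraMap C q.ResidueField).map_one, hd1, TrivSqZeroExt.inr_zero, add_zero]
        rfl
      map_mul' := fun x y => by
        apply TrivSqZeroExt.ext
        · simp [TrivSqZeroExt.fst_mul]
        · simp only [TrivSqZeroExt.snd_add, TrivSqZeroExt.snd_inl, TrivSqZeroExt.snd_inr, zero_add,
            TrivSqZeroExt.snd_mul, TrivSqZeroExt.fst_add, TrivSqZeroExt.fst_inl,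
            TrivSqZeroExt.fst_inr, add_zero, hD₁, MulOpposite.smul_eq_mul_unop,
            MulOpposite.unop_op, smul_eq_mul]
          ring
      map_zero' := by
        rw [(algebraMap C q.ResidueField).map_zero, D₁.map_zero,
          TrivSqZeroExt.inr_zero, TrivSqZeroExt.inl_zero, add_zero]
      map_add' := fun x y => by
        rw [(algebraMap C q.ResidueField).map_add, D₁.map_add,
          TrivSqZeroExt.inl_add, TrivSqZeroExt.inr_add]
        abel }
  have hΨfst : ∀ x, (Ψ x).fst = algebraMap C q.ResidueField x := fun x => by
    show (TrivSqZeroExt.inl _ + TrivSqZeroExt.inr _ : DualNumber q.ResidueField).fst = _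
    simp
  have hΨsnd : ∀ x, (Ψ x).snd = D₁ x := fun x => by
    show (TrivSqZeroExt.inl _ + TrivSqZeroExt.inr _ : DualNumber q.ResidueField).snd = _
    simp
  have hunits : ∀ y : q.primeCompl, IsUnit (Ψ y) := by
    intro y
    rw [TrivSqZeroExt.isUnit_iff_isUnit_fst, hΨfst, isUnit_iff_ne_zero]
    intro h
    exact y.2 (Ideal.algebraMap_residueField_eq_zero.mp h)
  let v : Localization.AtPrime q →+* DualNumber q.ResidueField :=
    IsLocalization.lift (M := q.primeCompl) hunits
  have hv : ∀ c, v (algebraMap C (Localization.AtPrime q) c) = Ψ c := fun c =>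
    IsLocalization.lift_eq hunits c
  have hvfst : ∀ x, (v x).fst = algebraMap (Localization.AtPrime q) q.ResidueField x := by
    have h : ((TrivSqZeroExt.fstHom q.ResidueField q.ResidueField q.ResidueField).toRingHom.comp v) =
        algebraMap (Localization.AtPrime q) q.ResidueField := by
      apply IsLocalization.ringHom_ext q.primeCompl
      ext c
      rw [RingHom.comp_apply, RingHom.comp_apply, hv, RingHom.comp_apply]
      show (Ψ c).fst = _
      rw [hΨfst, ← IsScalarTower.algebraMap_apply]
    intro x
    exact RingHom.congr_fun h x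
  let D : Localization.AtPrime q →+ q.ResidueField :=
    { toFun := fun x => (v x).snd
      map_zero' := by rw [map_zero]; rfl
      map_add' := fun x y => by rw [map_add]; rfl }
  refine ⟨D, ?_, ?_⟩
  · intro x y
    show (v (x * y)).snd = algebraMap _ _ x * (v y).snd + algebraMap _ _ y * (v x).snd
    rw [map_mul, TrivSqZeroExt.snd_mul, hvfst, hvfst, MulOpposite.smul_eq_mul_unop,
      MulOpposite.unop_op, smul_eq_mul, mul_comm (v x).snd]
  · intro c
    show (v (algebraMap C _ c)).snd = D₁ c
    rw [hv, hΨsnd]

end locext
end Groth.Agent.Helper7.CKd
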