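import Mathlib
import Groth.Prelude.Def_CAlgX
import Groth.Agent.Helper7.CKt3
set_option autoImplicit false
set_option linter.style.haveILetI false
set_option linter.unusedSectionVars false
set_option linter.unusedVariables false
open TensorProduct IsLocalRing
universe u
namespace Groth.Agent.Helper7.CKd

section finext
variable (A' : Type u) {R₀ C : Type u} [CommRing A'] [CommRing R₀] [Algebra A' R₀]
  [Module.Finite A' R₀] [CommRing C] [Algebra R₀ C]
  [IsLocalRing C] [IsNoetherianRing C] [IsAdicComplete (maximalIdeal C) C]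

/-- a Leibniz map from the base into the residue field at a prime of an adically formally smooth
complete local algebra, linear over a subring over which the base is finite, extends. -/
theorem exists_leibniz_ext_of_finite
    (hfs : CAlgX.IsAdicFormallySmooth R₀ C (maximalIdeal C)) (q : Ideal C) [q.IsPrime]
    (δ₀ : R₀ →+ q.ResidueField)
    (hδ₀ : ∀ x y, δ₀ (x * y) = algebraMap C q.ResidueField (algebraMap R₀ C x) * δ₀ y +
      algebraMap C q.ResidueField (algebraMap R₀ C y) * δ₀ x)
    (hlin : ∀ (a : A') x, δ₀ (algebraMap A' R₀ a * x) =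
      algebraMap C q.ResidueField (algebraMap R₀ C (algebraMap A' R₀ a)) * δ₀ x) :
    ∃ D₁ : C →+ q.ResidueField,
      (∀ x y, D₁ (x * y) = algebraMap C q.ResidueField x * D₁ y +
        algebraMap C q.ResidueField y * D₁ x) ∧
      ∀ x, D₁ (algebraMap R₀ C x) = δ₀ x := by
  classical
  have hι : Function.Injective (algebraMap (C ⧸ q) q.ResidueField) :=
    Ideal.injective_algebraMap_quotient_residueField q
  have hιmk : ∀ c, algebraMap (C ⧸ q) q.ResidueField (Ideal.Quotient.mk q c) =
      algebraMap C q.ResidueField c := fun c => rfl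
  obtain ⟨G, hG⟩ := (Module.Finite.fg_top : (⊤ : Submodule A' R₀).FG)
  obtain ⟨b, hb⟩ := IsLocalization.exist_integer_multiples_of_finset
    (nonZeroDivisors (C ⧸ q)) (G.image δ₀)
  obtain ⟨s, hs⟩ : ∃ s : C ⧸ q, s = (b : C ⧸ q) := ⟨_, rfl⟩
  have hs0 : algebraMap (C ⧸ q) q.ResidueField s ≠ 0 := by
    rw [hs]
    exact map_ne_zero_of_mem_nonZeroDivisors _ hι b.2
  have hgen : ∀ g ∈ G, ∃ c : C ⧸ q, algebraMap (C ⧸ q) q.ResidueField c =
      algebraMap (C ⧸ q) q.ResidueField s * δ₀ g := by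
    intro g hg
    obtain ⟨c, hc⟩ := hb (δ₀ g) (Finset.mem_image_of_mem _ hg)
    refine ⟨c, ?_⟩
    rw [hc, hs, Algebra.smul_def]
  have key : ∀ x : R₀, ∃ c : C ⧸ q, algebraMap (C ⧸ q) q.ResidueField c =
      algebraMap (C ⧸ q) q.ResidueField s * δ₀ x := by
    intro x
    have hx : x ∈ Submodule.span A' (G : Set R₀) := by rw [hG]; trivial
    induction hx using Submodule.span_induction with
    | mem x hx => exact hgen x hx
    | zero => exact ⟨0, by rw [(algebraMap (C ⧸ q) q.ResidueField).map_zero, δ₀.map_zero, mul_zero]⟩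
    | add x y _ _ hx hy =>
      obtain ⟨c, hc⟩ := hx
      obtain ⟨c', hc'⟩ := hy
      exact ⟨c + c', by rw [(algebraMap (C ⧸ q) q.ResidueField).map_add, δ₀.map_add, hc, hc', mul_add]⟩
    | smul a x _ hx =>
      obtain ⟨c, hc⟩ := hx
      refine ⟨Ideal.Quotient.mk q (algebraMap R₀ C (algebraMap A' R₀ a)) * c, ?_⟩
      rw [(algebraMap (C ⧸ q) q.ResidueField).map_mul, hιmk, hc, Algebra.smul_def, hlin]
      ring
  choose d hd using key
  let dA : R₀ →+ C ⧸ q := AddMonoidHom.mk' d (fun x y => by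
    apply hι
    rw [(algebraMap (C ⧸ q) q.ResidueField).map_add, hd, hd, hd, δ₀.map_add, mul_add])
  have hdA : ∀ x, dA x = d x := fun x => rfl
  have hdL : ∀ x y, dA (x * y) = Ideal.Quotient.mk q (algebraMap R₀ C x) * dA y +
      Ideal.Quotient.mk q (algebraMap R₀ C y) * dA x := by
    intro x y
    apply hι
    rw [hdA, hdA, hdA, hd, (algebraMap (C ⧸ q) q.ResidueField).map_add,
      (algebraMap (C ⧸ q) q.ResidueField).map_mul, (algebraMap (C ⧸ q) q.ResidueField).map_mul,
      hd, hd, hιmk, hιmk, hδ₀]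
    ring
  obtain ⟨D₁', hD₁'L, hD₁'⟩ := exists_derivation_ext_quot hfs q (Ideal.IsPrime.ne_top inferInstance)
    dA hdL
  let D₁ : C →+ q.ResidueField :=
    (AddMonoidHom.mulLeft (algebraMap (C ⧸ q) q.ResidueField s)⁻¹).comp
      ((algebraMap (C ⧸ q) q.ResidueField).toAddMonoidHom.comp D₁')
  have hD₁ : ∀ c, D₁ c = (algebraMap (C ⧸ q) q.ResidueField s)⁻¹ *
      algebraMap (C ⧸ q) q.ResidueField (D₁' c) := fun c => rfl
  refine ⟨D₁, ?_, ?_⟩
  · intro x y
    rw [hD₁, hD₁, hD₁, hD₁'L, (algebraMap (C ⧸ q) q.ResidueField).map_add,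
      (algebraMap (C ⧸ q) q.ResidueField).map_mul, (algebraMap (C ⧸ q) q.ResidueField).map_mul,
      hιmk, hιmk]
    ring
  · intro x
    rw [hD₁, hD₁', hdA, hd, inv_mul_cancel_left₀ hs0]

end finext
end Groth.Agent.Helper7.CKd
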