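import Mathlib
import Groth.Prelude.Def_CAlgX
import Groth.Agent.Helper7.CKt4
set_option autoImplicit false
set_option linter.style.haveILetI false
set_option linter.unusedSectionVars false
set_option linter.unusedVariables false
open TensorProduct IsLocalRing
universe u
namespace Groth.Agent.Helper7.CKd

section ext
variable (A' R₀ : Type u) {C : Type u} [CommRing A'] [CommRing R₀] [IsDomain R₀] [Algebra A' R₀]
  [Module.Finite A' R₀] [CommRing C] [Algebra R₀ C]
  [IsLocalRing C] [IsNoetherianRing C] [IsAdicComplete (maximalIdeal C) C]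

/-- derivations of `Frac R₀` over a subfield containing the image of `A'` (over which `R₀` is
finite) extend to the local rings of the generic fibre of an adically formally smooth complete
local `R₀`-algebra. -/
theorem exists_ext_of_subfield_fs
    (hfs : CAlgX.IsAdicFormallySmooth R₀ C (maximalIdeal C)) (q : Ideal C) [q.IsPrime]
    [Algebra (FractionRing R₀) (Localization.AtPrime q)]
    [IsScalarTower R₀ (FractionRing R₀) (Localization.AtPrime q)]
    (K' : Subfield (FractionRing R₀))
    (hK' : ∀ a : A', algebraMap R₀ (FractionRing R₀) (algebraMap A' R₀ a) ∈ K')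
    (δ : Derivation K' (FractionRing R₀) (ResidueField (Localization.AtPrime q))) :
    ∃ D : Localization.AtPrime q →+ ResidueField (Localization.AtPrime q),
      (∀ x y, D (x * y) = algebraMap _ _ x * D y + algebraMap _ _ y * D x) ∧
      ∀ c : FractionRing R₀, D (algebraMap (FractionRing R₀) _ c) = δ c := by
  set E := Localization.AtPrime q with hE
  set κ := ResidueField E with hκ
  have hact : ∀ (b : R₀) (x : κ), algebraMap R₀ (FractionRing R₀) b • x =
      algebraMap C κ (algebraMap R₀ C b) * x := by
    intro b x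
    rw [Algebra.smul_def, IsScalarTower.algebraMap_apply (FractionRing R₀) E κ,
      ← IsScalarTower.algebraMap_apply R₀ (FractionRing R₀) E,
      IsScalarTower.algebraMap_apply R₀ C E, ← IsScalarTower.algebraMap_apply C E κ]
  have hδA : ∀ a : A', δ (algebraMap R₀ (FractionRing R₀) (algebraMap A' R₀ a)) = 0 := by
    intro a
    have := Derivation.map_algebraMap δ (⟨_, hK' a⟩ : K')
    exact this
  let δ₀ : R₀ →+ κ :=
    { toFun := fun b => δ (algebraMap R₀ (FractionRing R₀) b)
      map_zero' := by rw [map_zero, map_zero]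
      map_add' := fun b b' => by rw [map_add, map_add] }
  have hδ₀app : ∀ b, δ₀ b = δ (algebraMap R₀ (FractionRing R₀) b) := fun b => rfl
  have hδ₀ : ∀ x y, δ₀ (x * y) = algebraMap C κ (algebraMap R₀ C x) * δ₀ y +
      algebraMap C κ (algebraMap R₀ C y) * δ₀ x := by
    intro x y
    rw [hδ₀app, hδ₀app, hδ₀app, map_mul, Derivation.leibniz, hact, hact]
  have hlin : ∀ (a : A') x, δ₀ (algebraMap A' R₀ a * x) =
      algebraMap C κ (algebraMap R₀ C (algebraMap A' R₀ a)) * δ₀ x := by
    intro a x
    rw [hδ₀, hδ₀app (algebraMap A' R₀ a), hδA, mul_zero, add_zero]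
  obtain ⟨D₁, hD₁L, hD₁⟩ := exists_leibniz_ext_of_finite A' hfs q δ₀ hδ₀ hlin
  obtain ⟨D, hD1, hDC⟩ := exists_leibniz_ext_localization q D₁ hD₁L
  have hD2 : ∀ b : R₀, D (algebraMap R₀ E b) = δ₀ b := by
    intro b
    rw [IsScalarTower.algebraMap_apply R₀ C E, hDC, hD₁]
  refine ⟨D, hD1, ?_⟩
  intro c
  obtain ⟨a, b, hb, rfl⟩ := IsFractionRing.div_surjective (A := R₀) c
  have hb0 : algebraMap R₀ (FractionRing R₀) b ≠ 0 := by
    intro h
    exact nonZeroDivisors.ne_zero hb ((IsFractionRing.injective R₀ (FractionRing R₀))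
      (by rw [h, map_zero]))
  set c := algebraMap R₀ (FractionRing R₀) a / algebraMap R₀ (FractionRing R₀) b with hc
  have hcb : c * algebraMap R₀ (FractionRing R₀) b = algebraMap R₀ (FractionRing R₀) a := by
    rw [hc]; field_simp
  have hbκ : algebraMap E κ (algebraMap R₀ E b) ≠ 0 := by
    have hu : IsUnit (algebraMap (FractionRing R₀) E (algebraMap R₀ (FractionRing R₀) b)) :=
      (IsUnit.mk0 _ hb0).map _
    rw [← IsScalarTower.algebraMap_apply R₀ (FractionRing R₀) E] at hu
    exact (hu.map (algebraMap E κ)).ne_zero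
  have hEκ : ∀ b : R₀, algebraMap C κ (algebraMap R₀ C b) = algebraMap E κ (algebraMap R₀ E b) := by
    intro b
    rw [IsScalarTower.algebraMap_apply R₀ C E, ← IsScalarTower.algebraMap_apply C E κ]
  have e1 : algebraMap E κ (algebraMap (FractionRing R₀) E c) * δ₀ b +
      algebraMap E κ (algebraMap R₀ E b) * D (algebraMap (FractionRing R₀) E c) = δ₀ a := by
    have h : D (algebraMap (FractionRing R₀) E (c * algebraMap R₀ (FractionRing R₀) b)) =
        D (algebraMap (FractionRing R₀) E (algebraMap R₀ (FractionRing R₀) a)) := by rw [hcb]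
    rw [map_mul, hD1, ← IsScalarTower.algebraMap_apply R₀ (FractionRing R₀) E, hD2,
      ← IsScalarTower.algebraMap_apply R₀ (FractionRing R₀) E, hD2] at h
    exact h
  have e2 : algebraMap E κ (algebraMap (FractionRing R₀) E c) * δ₀ b +
      algebraMap E κ (algebraMap R₀ E b) * δ c = δ₀ a := by
    have h := congrArg δ hcb
    rw [Derivation.leibniz] at h
    rw [hδ₀app a, ← h, hact, hEκ, Algebra.smul_def,
      IsScalarTower.algebraMap_apply (FractionRing R₀) E κ, hδ₀app b]
  have e3 : algebraMap E κ (algebraMap R₀ E b) * D (algebraMap (FractionRing R₀) E c) =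
      algebraMap E κ (algebraMap R₀ E b) * δ c := by
    have := e1.trans e2.symm
    exact add_left_cancel this
  exact mul_left_cancel₀ hbκ e3

end ext
end Groth.Agent.Helper7.CKd
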