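import Mathlib
import Groth.Prelude.Def_CAlgX
import Groth.Agent.Helper2.RegFlat
import Groth.Agent.Helper7.CKm6
import Groth.Agent.Helper7.CKq1
import Groth.Agent.Helper7.CKr3
import Groth.Agent.Helper7.CKt5
import Groth.Agent.Helper8.GeomReg1
import Groth.Agent.Helper8.GeomReg5
set_option autoImplicit false
set_option linter.style.haveILetI false
set_option linter.unusedSectionVars false
set_option linter.unusedVariables false
open TensorProduct IsLocalRing MvPowerSeries
universe u
namespace Groth.Agent.Helper7.CKd

section reg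
variable {A₀ C : Type u} [CommRing A₀] [IsRegularLocalRing A₀] [CommRing C] [Algebra A₀ C]
  [IsLocalRing C] [IsNoetherianRing C] [IsLocalHom (algebraMap A₀ C)]

/-- an adically formally smooth local algebra over a regular local ring is regular. -/
theorem isRegularLocalRing_of_adic_of_regular
    (hfs : CAlgX.IsAdicFormallySmooth A₀ C (maximalIdeal C)) : IsRegularLocalRing C := by
  haveI : Module.Flat A₀ C := flat_of_adic hfs
  have hle : (maximalIdeal A₀).map (algebraMap A₀ C) ≤ maximalIdeal C :=
    ((IsLocalRing.local_hom_TFAE (algebraMap A₀ C)).out 0 2).mp ‹IsLocalHom (algebraMap A₀ C)›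
  obtain ⟨I, hI⟩ : ∃ I : Ideal C, I = (maximalIdeal A₀).map (algebraMap A₀ C) := ⟨_, rfl⟩
  have hItop : I ≠ ⊤ := fun h =>
    (maximalIdeal.isMaximal C).ne_top (top_le_iff.mp (h ▸ hI ▸ hle))
  haveI : Nontrivial (C ⧸ I) := Ideal.Quotient.nontrivial_iff.mpr hItop
  haveI : IsLocalRing (C ⧸ I) :=
    IsLocalRing.of_surjective' (Ideal.Quotient.mk I) Ideal.Quotient.mk_surjective
  let φ : ResidueField A₀ →+* C ⧸ I :=
    Ideal.quotientMap I (algebraMap A₀ C) (by rw [hI]; exact Ideal.le_comap_map)
  letI algk : Algebra (ResidueField A₀) (C ⧸ I) := φ.toAlgebra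
  have hφ : ∀ a : A₀, algebraMap (ResidueField A₀) (C ⧸ I) (residue A₀ a) =
      Ideal.Quotient.mk I (algebraMap A₀ C a) := fun a => rfl
  have h1 : CAlgX.IsAdicFormallySmooth (ResidueField A₀) (C ⧸ I) (maximalIdeal (C ⧸ I)) := by
    have := adic_fibre_of_adic (maximalIdeal C) (residue A₀) residue_surjective
      (Ideal.Quotient.mk I) Ideal.Quotient.mk_surjective
      (by rw [Ideal.mk_ker, ker_residue, hI]) (fun a => (hφ a).symm) hfs
    rwa [IsLocalRing.map_maximalIdeal_of_surjective _ Ideal.Quotient.mk_surjective] at this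
  have h2 : IsRegularLocalRing (C ⧸ I) :=
    Groth.Agent.Helper8.GeomReg.isRegularLocalRing_of_adic h1
  subst hI
  exact Groth.Agent.Helper2.RegFlat.isRegularLocalRing_of_flat_of_fibre h2

/-- characteristic zero: the local rings of the generic fibre are formally smooth. -/
theorem adic_generic_charZero [IsDomain A₀] [CharZero A₀]
    (hfs : CAlgX.IsAdicFormallySmooth A₀ C (maximalIdeal C)) (q : Ideal C) [q.IsPrime]
    [Algebra (FractionRing A₀) (Localization.AtPrime q)]
    [IsScalarTower A₀ (FractionRing A₀) (Localization.AtPrime q)] :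
    CAlgX.IsAdicFormallySmooth (FractionRing A₀) (Localization.AtPrime q)
      (maximalIdeal (Localization.AtPrime q)) := by
  haveI hC : IsRegularLocalRing C := isRegularLocalRing_of_adic_of_regular hfs
  have h3 : IsRegularLocalRing (Localization.AtPrime q) :=
    Groth.Agent.Helper2.SerreLoc.isRegularLocalRing_localization _ _
  haveI : CharZero (FractionRing A₀) :=
    charZero_of_injective_algebraMap (IsFractionRing.injective A₀ (FractionRing A₀))
  exact (Groth.Agent.Helper8.GeomReg.s2035).mp h3

end reg

section charP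
variable {k : Type u} [Field k] (r : ℕ) {C : Type u} [CommRing C]
  [Algebra (MvPowerSeries (Fin r) k) C]
  [IsLocalRing C] [IsNoetherianRing C] [IsAdicComplete (maximalIdeal C) C]
  [IsLocalHom (algebraMap (MvPowerSeries (Fin r) k) C)]

local notation "R₀" => MvPowerSeries (Fin r) k
local notation "KK" => FractionRing (MvPowerSeries (Fin r) k)

/-- characteristic `p`: the local rings of the generic fibre of an adically formally smooth complete
local algebra over `k[[T]]` are formally smooth over `Frac k[[T]]`. -/
theorem adic_generic_charP (p : ℕ) [hp : Fact p.Prime] [CharP k p]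
    (hfs : CAlgX.IsAdicFormallySmooth (MvPowerSeries (Fin r) k) C (maximalIdeal C))
    (q : Ideal C) [q.IsPrime]
    [Algebra (FractionRing (MvPowerSeries (Fin r) k)) (Localization.AtPrime q)]
    [IsScalarTower (MvPowerSeries (Fin r) k) (FractionRing (MvPowerSeries (Fin r) k))
      (Localization.AtPrime q)] :
    CAlgX.IsAdicFormallySmooth (FractionRing (MvPowerSeries (Fin r) k)) (Localization.AtPrime q)
      (maximalIdeal (Localization.AtPrime q)) := by
  haveI : IsDomain R₀ := NoZeroDivisors.to_isDomain _
  haveI : CharP R₀ p := charP_of_injective_ringHom (MvPowerSeries.C_injective (σ := Fin r) (R := k)) p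
  haveI : CharP KK p := charP_of_injective_algebraMap (IsFractionRing.injective R₀ KK) p
  obtain ⟨ι, _, _, _, kk, hanti, hpow, hfin, hkk⟩ := exists_family (k := k) p
  haveI hR₀ : IsRegularLocalRing R₀ := isRegularLocalRing_mvPowerSeries r
  haveI hC : IsRegularLocalRing C := isRegularLocalRing_of_adic_of_regular hfs
  have h3 : IsRegularLocalRing (Localization.AtPrime q) :=
    Groth.Agent.Helper2.SerreLoc.isRegularLocalRing_localization _ q
  haveI : IsNoetherianRing (Localization.AtPrime q) :=
    IsLocalization.isNoetherianRing q.primeCompl _ inferInstance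
  rw [Groth.Agent.Helper7.AdJac.field_family_iff p (fun i => Kf p r (kk i))
    (fun i j hij => Kf_mono p r (hanti hij)) (iInf_Kf p r kk hpow hkk)]
  refine ⟨symGrBijective_of_regular (K := KK) h3, Classical.arbitrary ι, fun α _ => ?_⟩
  apply injective_of_ext (Kf p r (kk α))
  intro δ
  letI : Algebra (MvPowerSeries (Fin r) (kk α)) R₀ := (iota p r (kk α)).toAlgebra
  haveI := hfin α
  haveI : Module.Finite (MvPowerSeries (Fin r) (kk α)) R₀ := iota_finite p r (kk α)
  exact exists_ext_of_subfield_fs (MvPowerSeries (Fin r) (kk α)) R₀ hfs q (Kf p r (kk α))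
    (fun a => jmap_mem_Kf p r (kk α) a) δ

end charP
end Groth.Agent.Helper7.CKd
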