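import Mathlib
import Groth.Prelude.Def_CAlgX
import Groth.Agent.S0581
import Groth.Agent.Helper7.CKm7
import Groth.Agent.Helper7.CKt6
set_option autoImplicit false
set_option linter.style.haveILetI false
set_option linter.unusedSectionVars false
set_option linter.unusedVariables false
open TensorProduct IsLocalRing MvPowerSeries
universe u
namespace Groth.Agent.Helper7.CKd

/-- the local rings of the generic fibre of an adically formally smooth complete local algebra over
a power series ring over a field or a Cohen ring are formally smooth over the fraction field. -/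
theorem adic_generic_ps {Λ : Type u} [CommRing Λ] (hΛ : IsField Λ ∨ CAlg.IsCohenRing Λ) (n : ℕ)
    {C : Type u} [CommRing C] [Algebra (MvPowerSeries (Fin n) Λ) C] [IsLocalRing C]
    [IsNoetherianRing C] [IsAdicComplete (maximalIdeal C) C]
    [IsLocalHom (algebraMap (MvPowerSeries (Fin n) Λ) C)]
    (hfs : CAlgX.IsAdicFormallySmooth (MvPowerSeries (Fin n) Λ) C (maximalIdeal C))
    (q : Ideal C) [q.IsPrime]
    [Algebra (FractionRing (MvPowerSeries (Fin n) Λ)) (Localization.AtPrime q)]
    [IsScalarTower (MvPowerSeries (Fin n) Λ) (FractionRing (MvPowerSeries (Fin n) Λ))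
      (Localization.AtPrime q)] :
    CAlgX.IsAdicFormallySmooth (FractionRing (MvPowerSeries (Fin n) Λ)) (Localization.AtPrime q)
      (maximalIdeal (Localization.AtPrime q)) := by
  have hregΛ : IsRegularRing Λ := by
    rcases hΛ with h | h
    · haveI : IsDomain Λ := h.isDomain
      haveI : IsPrincipalIdealRing Λ := h.isPrincipalIdealRing
      infer_instance
    · obtain ⟨hd, hdvr, -⟩ := h
      infer_instance
  haveI : IsLocalRing Λ := by
    rcases hΛ with h | h
    · letI := h.toField
      infer_instance
    · obtain ⟨hd, hdvr, -⟩ := h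
      infer_instance
  haveI : IsDomain Λ := by
    rcases hΛ with h | h
    · exact h.isDomain
    · obtain ⟨hd, hdvr, -⟩ := h
      exact hd
  haveI hreg : IsRegularRing (MvPowerSeries (Fin n) Λ) :=
    Groth.Agent.Helper2.PSReg.isRegularRing_mvPowerSeries Λ n
  haveI : IsRegularLocalRing (MvPowerSeries (Fin n) Λ) :=
    IsRegularLocalRing.of_isRegularRing_of_isLocalRing _
  haveI : IsDomain (MvPowerSeries (Fin n) Λ) := NoZeroDivisors.to_isDomain _
  obtain ⟨c, hc⟩ := CharP.exists (MvPowerSeries (Fin n) Λ)
  rcases CharP.char_is_prime_or_zero (MvPowerSeries (Fin n) Λ) c with hprime | h0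
  · haveI : Fact c.Prime := ⟨hprime⟩
    haveI : CharP Λ c := RingHom.charP (MvPowerSeries.C (σ := Fin n) (R := Λ))
      MvPowerSeries.C_injective c
    rcases hΛ with h | h
    · letI : Field Λ := h.toField
      exact adic_generic_charP n c hfs q
    · exact (not_charP_of_isCohenRing Λ h c hprime).elim
  · subst h0
    haveI : CharZero (MvPowerSeries (Fin n) Λ) := CharP.charP_to_charZero _
    exact adic_generic_charZero hfs q

end Groth.Agent.Helper7.CKd
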