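import Mathlib
import Groth.Prelude.Def_CAlgX
import Groth.Agent.S0544
import Groth.Agent.Helper7.CKk5
import Groth.Agent.Helper7.CKk8
set_option autoImplicit false
set_option linter.style.haveILetI false
set_option linter.unusedSectionVars false
set_option linter.unusedVariables false
open TensorProduct IsLocalRing
universe u
namespace Groth.Agent.Helper7.CKd

section fin
variable {A₀ A : Type u} [CommRing A₀] [CommRing A] [Algebra A₀ A] [Module.Finite A₀ A]
  [IsLocalRing A₀] [IsLocalRing A]

/-- a finite local algebra over a local ring: the structure map is local. -/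
theorem map_maximalIdeal_le_of_finite :
    (maximalIdeal A₀).map (algebraMap A₀ A) ≤ maximalIdeal A := by
  haveI : Algebra.IsIntegral A₀ A := Algebra.IsIntegral.of_finite A₀ A
  haveI : ((maximalIdeal A).comap (algebraMap A₀ A)).IsMaximal :=
    Ideal.isMaximal_comap_of_isIntegral_of_isMaximal (maximalIdeal A)
  rw [Ideal.map_le_iff_le_comap, ← IsLocalRing.eq_maximalIdeal this]

/-- and a power of the maximal ideal lies in the extension of the maximal ideal of the base. -/
theorem exists_pow_le_map :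
    ∃ N : ℕ, maximalIdeal A ^ N ≤ (maximalIdeal A₀).map (algebraMap A₀ A) := by
  have hIle : (maximalIdeal A₀).map (algebraMap A₀ A) ≤ maximalIdeal A :=
    map_maximalIdeal_le_of_finite
  have hItop : (maximalIdeal A₀).map (algebraMap A₀ A) ≠ ⊤ :=
    fun h => (maximalIdeal.isMaximal A).ne_top (top_le_iff.mp (h ▸ hIle))
  haveI : Nontrivial (A ⧸ (maximalIdeal A₀).map (algebraMap A₀ A)) :=
    Ideal.Quotient.nontrivial_iff.mpr hItop
  haveI : IsLocalRing (A ⧸ (maximalIdeal A₀).map (algebraMap A₀ A)) :=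
    IsLocalRing.of_surjective' (Ideal.Quotient.mk _) Ideal.Quotient.mk_surjective
  letI : Field (A₀ ⧸ maximalIdeal A₀) := Ideal.Quotient.field _
  haveI : Module.Finite A₀ (A ⧸ (maximalIdeal A₀).map (algebraMap A₀ A)) :=
    Module.Finite.of_surjective
      (Algebra.linearMap A (A ⧸ (maximalIdeal A₀).map (algebraMap A₀ A))|>.restrictScalars A₀)
      Ideal.Quotient.mk_surjective
  haveI : Module.Finite (A₀ ⧸ maximalIdeal A₀) (A ⧸ (maximalIdeal A₀).map (algebraMap A₀ A)) :=
    Module.Finite.of_restrictScalars_finite A₀ _ _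
  haveI : IsArtinianRing (A ⧸ (maximalIdeal A₀).map (algebraMap A₀ A)) :=
    IsArtinianRing.of_finite (A₀ ⧸ maximalIdeal A₀) _
  have hnil : IsNilpotent (maximalIdeal (A ⧸ (maximalIdeal A₀).map (algebraMap A₀ A))) := by
    have h := IsLocalRing.jacobson_eq_maximalIdeal
      (⊥ : Ideal (A ⧸ (maximalIdeal A₀).map (algebraMap A₀ A))) bot_ne_top
    have h2 : IsNilpotent (Ideal.jacobson (⊥ : Ideal (A ⧸ (maximalIdeal A₀).map (algebraMap A₀ A)))) :=
      IsArtinianRing.isNilpotent_jacobson_bot
    exact h ▸ h2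
  obtain ⟨N, hN⟩ := hnil
  refine ⟨N, ?_⟩
  intro x hx
  rw [← Ideal.Quotient.eq_zero_iff_mem]
  have h1 : Ideal.Quotient.mk ((maximalIdeal A₀).map (algebraMap A₀ A)) x ∈
      (maximalIdeal A ^ N).map (Ideal.Quotient.mk _) :=
    Ideal.mem_map_of_mem _ hx
  rw [Ideal.map_pow, IsLocalRing.map_maximalIdeal_of_surjective _ Ideal.Quotient.mk_surjective,
    hN] at h1
  exact h1

end fin
end Groth.Agent.Helper7.CKd
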