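import Mathlib
import Groth.Prelude.Def_CAlgX
import Groth.Agent.S0544
import Groth.Agent.Helper7.CKt7
set_option autoImplicit false
set_option linter.style.haveILetI false
set_option linter.unusedSectionVars false
set_option linter.unusedVariables false
open TensorProduct IsLocalRing
universe u
namespace Groth.Agent.Helper7.CKd

section D
variable {A₀ A B C : Type u} [CommRing A₀] [CommRing A] [CommRing B] [CommRing C]
  [Algebra A₀ A] [Algebra A₀ B] [Algebra A B] [IsScalarTower A₀ A B] [Algebra A₀ C]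
  [Module.Finite A₀ A] [IsLocalRing A₀] [IsLocalRing A] [IsDomain A₀] [IsDomain A]
  [IsLocalRing B] [IsNoetherianRing B]
  [IsLocalRing C] [IsNoetherianRing C] [IsAdicComplete (maximalIdeal C) C]

/-- the comparison map `C ⊗_{A₀} A → B` is surjective when `C → B/𝔪_A B` is. -/
theorem descent_surjective (w : C →ₐ[A₀] B) (hwloc : ∀ c ∈ maximalIdeal C, w c ∈ maximalIdeal B)
    (hlocC : (maximalIdeal A₀).map (algebraMap A₀ C) ≤ maximalIdeal C)
    (hw1 : ∀ b : B, ∃ c : C, b - w c ∈ (maximalIdeal A).map (algebraMap A B)) :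
    Function.Surjective (fAL (B := A) w) := by
  set Φ := fAL (B := A) w with hΦ
  have hΦt : ∀ (c : C) (a : A), Φ (c ⊗ₜ a) = w c * algebraMap A B a := fun c a => fAL_tmul w c a
  letI algCB : Algebra C B := w.toRingHom.toAlgebra
  have hsm : ∀ (c : C) (b : B), c • b = w c * b := fun c b => rfl
  let ΦC : C ⊗[A₀] A →ₗ[C] B :=
    { toFun := Φ
      map_add' := fun x y => map_add Φ x y
      map_smul' := fun c x => by
        simp only [RingHom.id_apply]
        rw [Algebra.smul_def, map_mul, Algebra.TensorProduct.algebraMap_apply,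
          Algebra.algebraMap_self, RingHom.id_apply, hΦt, map_one, mul_one, hsm] }
  have hΦC : ∀ x, ΦC x = Φ x := fun x => rfl
  -- the inductive approximation
  have hstep : ∀ (j : ℕ) (y : B), y ∈ (maximalIdeal A ^ j).map (algebraMap A B) →
      ∃ x : C ⊗[A₀] A, y - Φ x ∈ (maximalIdeal A ^ (j + 1)).map (algebraMap A B) := by
    intro j y hy
    have hy' : y ∈ ((maximalIdeal A ^ j) • (⊤ : Submodule A B)) := by
      have h3 : ((maximalIdeal A ^ j).map (algebraMap A B)).restrictScalars A =
          (maximalIdeal A ^ j) • (⊤ : Submodule A B) := (Ideal.smul_top_eq_map _).symm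
      rw [← h3]
      exact hy
    refine Submodule.smul_induction_on (p := fun y => ∃ x : C ⊗[A₀] A,
      y - Φ x ∈ (maximalIdeal A ^ (j + 1)).map (algebraMap A B)) hy' (fun μ hμ b _ => ?_)
      (fun y y' hy hy' => ?_)
    · obtain ⟨c, hc⟩ := hw1 b
      refine ⟨c ⊗ₜ μ, ?_⟩
      have h1 : μ • b - Φ (c ⊗ₜ μ) = algebraMap A B μ * (b - w c) := by
        rw [hΦt, Algebra.smul_def]; ring
      rw [h1, pow_succ, Ideal.map_mul]
      exact Ideal.mul_mem_mul (Ideal.mem_map_of_mem _ hμ) hc
    · obtain ⟨x, hx⟩ := hy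
      obtain ⟨x', hx'⟩ := hy'
      refine ⟨x + x', ?_⟩
      have : y + y' - Φ (x + x') = (y - Φ x) + (y' - Φ x') := by rw [map_add]; ring
      rw [this]
      exact Ideal.add_mem _ hx hx'
  have happrox : ∀ (j : ℕ) (b : B), ∃ x : C ⊗[A₀] A,
      b - Φ x ∈ (maximalIdeal A ^ j).map (algebraMap A B) := by
    intro j
    induction j with
    | zero => intro b; exact ⟨0, by rw [pow_zero, Ideal.one_eq_top, Ideal.map_top]; trivial⟩
    | succ j ih =>
      intro b
      obtain ⟨x, hx⟩ := ih b
      obtain ⟨x', hx'⟩ := hstep j _ hx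
      refine ⟨x + x', ?_⟩
      have : b - Φ (x + x') = b - Φ x - Φ x' := by rw [map_add]; ring
      rw [this]
      exact hx'
  obtain ⟨N₀, hN₀⟩ := exists_pow_le_map (A₀ := A₀) (A := A)
  have hmaxC : ∀ (b : B), b ∈ (maximalIdeal A ^ N₀).map (algebraMap A B) →
      b ∈ (maximalIdeal C • ⊤ : Submodule C B) := by
    intro b hb
    have h1 : (maximalIdeal A ^ N₀).map (algebraMap A B) ≤
        ((maximalIdeal A₀).map (algebraMap A₀ C)).map (algebraMap C B) := by
      refine (Ideal.map_mono hN₀).trans ?_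
      rw [Ideal.map_map, Ideal.map_map]
      apply le_of_eq
      congr 1
      ext α
      rw [RingHom.comp_apply, RingHom.comp_apply, ← IsScalarTower.algebraMap_apply]
      exact (w.commutes α).symm
    have h2 := Ideal.map_mono (f := algebraMap C B) hlocC (h1 hb)
    have h3 : ((maximalIdeal C).map (algebraMap C B)).restrictScalars C =
        (maximalIdeal C) • (⊤ : Submodule C B) := (Ideal.smul_top_eq_map _).symm
    rw [← h3]
    exact h2
  -- finiteness of `B` over `C`
  haveI : IsHausdorff (maximalIdeal C) B := ⟨fun y hy => by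
    have hmapmax : (maximalIdeal C).map (algebraMap C B) ≤ maximalIdeal B := by
      rw [Ideal.map_le_iff_le_comap]
      exact fun x hx => hwloc x hx
    have hmem : ∀ m, y ∈ maximalIdeal B ^ m := fun m => by
      have h1 := hy m
      rw [SModEq.zero, Ideal.smul_top_eq_map, Submodule.restrictScalars_mem, Ideal.map_pow] at h1
      exact Ideal.pow_right_mono hmapmax m h1
    have h2 : y ∈ (⨅ m, maximalIdeal B ^ m : Ideal B) := by
      rw [Ideal.mem_iInf]; exact hmem
    rw [Ideal.iInf_pow_eq_bot_of_isLocalRing _ (maximalIdeal.isMaximal B).ne_top] at h2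
    exact h2⟩
  haveI : Module.Finite C (C ⊗[A₀] A) := Module.Finite.base_change A₀ C A
  have hfinQ : Module.Finite C (B ⧸ (maximalIdeal C • ⊤ : Submodule C B)) := by
    refine Module.Finite.of_surjective ((Submodule.mkQ _).comp ΦC) ?_
    intro z
    obtain ⟨b, rfl⟩ := Submodule.Quotient.mk_surjective _ z
    obtain ⟨x, hx⟩ := happrox N₀ b
    refine ⟨x, ?_⟩
    rw [LinearMap.comp_apply, Submodule.mkQ_apply, hΦC, eq_comm, Submodule.Quotient.eq]
    exact hmaxC _ hx
  haveI hfin : Module.Finite C B := Groth.Agent.S0544.result C (maximalIdeal C) B hfinQ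
  have htop : (⊤ : Submodule C B) ≤ LinearMap.range ΦC := by
    apply Submodule.le_of_le_smul_of_le_jacobson_bot (I := maximalIdeal C) hfin.1
      (IsLocalRing.maximalIdeal_le_jacobson _)
    rintro b -
    obtain ⟨x, hx⟩ := happrox N₀ b
    rw [Submodule.mem_sup]
    exact ⟨Φ x, ⟨x, rfl⟩, b - Φ x, hmaxC _ hx, by ring⟩
  intro b
  obtain ⟨x, hx⟩ := htop (Submodule.mem_top : b ∈ ⊤)
  exact ⟨x, hx⟩

end D
end Groth.Agent.Helper7.CKd
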