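import Mathlib
import Groth.Prelude.Def_CAlgX
import Groth.Agent.Helper7.CKt8
import Groth.Agent.Helper7.CKk5
set_option autoImplicit false
set_option linter.style.haveILetI false
set_option linter.unusedSectionVars false
set_option linter.unusedVariables false
open TensorProduct IsLocalRing
universe u
namespace Groth.Agent.Helper7.CKd

section D
variable {A₀ A B C : Type u} [CommRing A₀] [CommRing A] [CommRing B] [CommRing C]
  [Algebra A₀ A] [Algebra A₀ B] [Algebra A B] [IsScalarTower A₀ A B] [Algebra A₀ C]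
  [Module.Finite A₀ A] [IsLocalRing A₀] [IsLocalRing A] [IsDomain A₀] [IsDomain A]
  [IsLocalRing B] [IsNoetherianRing B]
  [IsLocalRing C] [IsNoetherianRing C]

attribute [local instance] Algebra.TensorProduct.rightAlgebra in
/-- an element `s` of `C ⊗_{A₀} A` killing the kernel of `C ⊗_{A₀} A → B` and becoming a unit. -/
theorem descent_kill [Module.Flat A B] (w : C →ₐ[A₀] B)
    (hsurj : Function.Surjective (fAL (B := A) w))
    (hres : ∀ a : A, ∃ α : A₀, a - algebraMap A₀ A α ∈ maximalIdeal A)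
    (hw2 : ∀ c : C, w c ∈ (maximalIdeal A).map (algebraMap A B) →
      c ∈ (maximalIdeal A₀).map (algebraMap A₀ C))
    (hlocAB : (maximalIdeal A).map (algebraMap A B) ≤ maximalIdeal B)
    (hlocA : (maximalIdeal A₀).map (algebraMap A₀ A) ≤ maximalIdeal A) :
    ∃ s : C ⊗[A₀] A, (∀ x, fAL (B := A) w x = 0 → s * x = 0) ∧ IsUnit (fAL (B := A) w s) := by
  set Φ := fAL (B := A) w with hΦ
  have hΦt : ∀ (c : C) (a : A), Φ (c ⊗ₜ a) = w c * algebraMap A B a := fun c a => fAL_tmul w c a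
  have hAS : ∀ a : A, algebraMap A (C ⊗[A₀] A) a = (1 : C) ⊗ₜ[A₀] a := fun a => rfl
  let ΦA : C ⊗[A₀] A →ₐ[A] B :=
    { Φ.toRingHom with
      commutes' := fun a => by
        show Φ (algebraMap A (C ⊗[A₀] A) a) = _
        rw [hAS, hΦt, map_one, one_mul] }
  have hΦA : ∀ x, ΦA x = Φ x := fun x => rfl
  set I : Ideal (C ⊗[A₀] A) := (maximalIdeal A).map (algebraMap A (C ⊗[A₀] A)) with hI
  -- Step 1
  have h1 : ∀ x : C ⊗[A₀] A, ∃ c : C, x - c ⊗ₜ[A₀] (1 : A) ∈ I := by
    intro x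
    induction x using TensorProduct.induction_on with
    | zero => exact ⟨0, by rw [TensorProduct.zero_tmul, sub_zero]; exact I.zero_mem⟩
    | add x y hx hy =>
      obtain ⟨c, hc⟩ := hx
      obtain ⟨c', hc'⟩ := hy
      refine ⟨c + c', ?_⟩
      have : x + y - (c + c') ⊗ₜ[A₀] (1 : A) = (x - c ⊗ₜ[A₀] (1 : A)) + (y - c' ⊗ₜ[A₀] (1 : A)) := by
        rw [TensorProduct.add_tmul]; ring
      rw [this]
      exact I.add_mem hc hc'
    | tmul c a =>
      obtain ⟨α, hα⟩ := hres a
      refine ⟨α • c, ?_⟩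
      have : c ⊗ₜ[A₀] a - (α • c) ⊗ₜ[A₀] (1 : A) =
          (c ⊗ₜ[A₀] (1 : A)) * algebraMap A (C ⊗[A₀] A) (a - algebraMap A₀ A α) := by
        rw [hAS, Algebra.TensorProduct.tmul_mul_tmul, mul_one, one_mul, TensorProduct.tmul_sub,
          TensorProduct.smul_tmul, Algebra.smul_def, mul_one]
      rw [this]
      exact I.mul_mem_left _ (Ideal.mem_map_of_mem _ hα)
  -- Φ maps I into 𝔪_A B
  have hΦI : ∀ x ∈ I, Φ x ∈ (maximalIdeal A).map (algebraMap A B) := by
    intro x hx
    have : I ≤ ((maximalIdeal A).map (algebraMap A B)).comap ΦA.toRingHom := by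
      rw [hI, Ideal.map_le_iff_le_comap]
      intro a ha
      rw [Ideal.mem_comap, Ideal.mem_comap]
      show ΦA (algebraMap A _ a) ∈ _
      rw [ΦA.commutes]
      exact Ideal.mem_map_of_mem _ ha
    exact this hx
  -- m₀ C ⊗ 1 ⊆ I
  have hm0 : ∀ c ∈ (maximalIdeal A₀).map (algebraMap A₀ C), c ⊗ₜ[A₀] (1 : A) ∈ I := by
    intro c hc
    have : (maximalIdeal A₀).map (algebraMap A₀ C) ≤
        I.comap (Algebra.TensorProduct.includeLeft (R := A₀) (S := A₀) (A := C) (B := A)).toRingHom := by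
      rw [Ideal.map_le_iff_le_comap]
      intro μ hμ
      rw [Ideal.mem_comap, Ideal.mem_comap]
      show (algebraMap A₀ C μ) ⊗ₜ[A₀] (1 : A) ∈ I
      have : (algebraMap A₀ C μ) ⊗ₜ[A₀] (1 : A) = algebraMap A (C ⊗[A₀] A) (algebraMap A₀ A μ) := by
        rw [hAS, Algebra.algebraMap_eq_smul_one, Algebra.algebraMap_eq_smul_one,
          TensorProduct.smul_tmul]
      rw [this]
      exact Ideal.mem_map_of_mem _ (hlocA (Ideal.mem_map_of_mem _ hμ))
    exact this hc
  -- Step 2
  have h2 : ∀ x, Φ x = 0 → x ∈ I := by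
    intro x hx
    obtain ⟨c, hc⟩ := h1 x
    have h3 : w c ∈ (maximalIdeal A).map (algebraMap A B) := by
      have h4 := hΦI _ hc
      rw [map_sub, hx, zero_sub, hΦt, map_one, mul_one] at h4
      exact (Ideal.neg_mem_iff _).mp h4
    have h5 := hm0 c (hw2 c h3)
    have : x = (x - c ⊗ₜ[A₀] (1 : A)) + c ⊗ₜ[A₀] (1 : A) := by ring
    rw [this]
    exact I.add_mem hc h5
  -- Step 3
  have h3 : RingHom.ker ΦA.toRingHom ≤ I * RingHom.ker ΦA.toRingHom := by
    intro x hx
    rw [RingHom.mem_ker] at hx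
    exact ker_inf_map_le_of_flat ΦA hsurj (maximalIdeal A) x hx (h2 x hx)
  -- Step 4
  haveI : Module.Finite C (C ⊗[A₀] A) := Module.Finite.base_change A₀ C A
  haveI : IsNoetherian C (C ⊗[A₀] A) := isNoetherian_of_isNoetherianRing_of_finite C _
  haveI : IsNoetherianRing (C ⊗[A₀] A) := isNoetherian_of_tower C inferInstance
  obtain ⟨s, hs1, hs2⟩ := Submodule.exists_sub_one_mem_and_smul_eq_zero_of_fg_of_le_smul I
    (RingHom.ker ΦA.toRingHom) (IsNoetherian.noetherian _) (by rw [smul_eq_mul]; exact h3)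
  refine ⟨s, fun x hx => ?_, ?_⟩
  · have := hs2 x (by rw [RingHom.mem_ker]; exact hx)
    rwa [smul_eq_mul] at this
  · have h6 : Φ s - 1 ∈ maximalIdeal B := by
      have := hlocAB (hΦI _ hs1)
      rwa [map_sub, map_one] at this
    by_contra hnu
    have h7 : Φ s ∈ maximalIdeal B := (IsLocalRing.mem_maximalIdeal _).mpr hnu
    have h8 : (1 : B) ∈ maximalIdeal B := by
      have := (maximalIdeal B).sub_mem h7 h6
      rwa [sub_sub_cancel] at this
    exact (maximalIdeal.isMaximal B).ne_top ((Ideal.eq_top_iff_one _).mpr h8)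

end D
end Groth.Agent.Helper7.CKd
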