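import Mathlib
import Groth.Prelude.Def_CAlgX
import Groth.Prelude.Def_EGA41
import Groth.Agent.S0581
import Groth.Agent.S2462
import Groth.Agent.S4537
import Groth.Agent.Helper7.CKk8
import Groth.Agent.Helper7.CKq1
import Groth.Agent.Helper7.CKr3
import Groth.Agent.Helper7.CKs2
import Groth.Agent.Helper7.CKs5
import Groth.Agent.Helper7.CKt9
import Groth.Agent.Helper7.CKt10
set_option autoImplicit false
set_option linter.style.haveILetI false
set_option linter.unusedSectionVars false
set_option linter.unusedVariables false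
open TensorProduct IsLocalRing MvPowerSeries
universe u
namespace Groth.Agent.Helper7.CKd

section coreD
variable {A B : Type u} [CommRing A] [IsDomain A] [IsLocalRing A] [IsNoetherianRing A]
  [IsAdicComplete (maximalIdeal A) A]
  [CommRing B] [IsLocalRing B] [IsNoetherianRing B] [IsAdicComplete (maximalIdeal B) B]
  [Algebra A B] [IsLocalHom (algebraMap A B)]

/-- the local rings of the generic fibre of an adically formally smooth complete local algebra over
a complete local domain are formally smooth over the fraction field. -/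
theorem adic_generic_of_adic (hfs : CAlgX.IsAdicFormallySmooth A B (maximalIdeal B))
    (q : Ideal B) [q.IsPrime] (hq : ∀ a : A, algebraMap A B a ∈ q → a = 0)
    [Algebra (FractionRing A) (Localization.AtPrime q)]
    [IsScalarTower A (FractionRing A) (Localization.AtPrime q)] :
    CAlgX.IsAdicFormallySmooth (FractionRing A) (Localization.AtPrime q)
      (maximalIdeal (Localization.AtPrime q)) := by
  haveI hflat : Module.Flat A B := flat_of_adic hfs
  obtain ⟨Λ, _, n, f, hΛ, hinj, hfin, hres⟩ := Groth.Agent.S0581.result A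
  have hregΛ : IsRegularRing Λ := by
    rcases hΛ with h | h
    · haveI : IsDomain Λ := h.isDomain
      haveI : IsPrincipalIdealRing Λ := h.isPrincipalIdealRing
      infer_instance
    · obtain ⟨hd, hdvr, -⟩ := h
      infer_instance
  haveI : IsLocalRing Λ := by
    rcases hΛ with h | h
    · letI := h.toField
      infer_instance
    · obtain ⟨hd, hdvr, -⟩ := h
      infer_instance
  haveI hreg : IsRegularRing (MvPowerSeries (Fin n) Λ) :=
    Groth.Agent.Helper2.PSReg.isRegularRing_mvPowerSeries Λ n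
  haveI : IsRegularLocalRing (MvPowerSeries (Fin n) Λ) :=
    IsRegularLocalRing.of_isRegularRing_of_isLocalRing _
  letI alg : Algebra (MvPowerSeries (Fin n) Λ) A := f.toAlgebra
  haveI : Module.Finite (MvPowerSeries (Fin n) Λ) A := hfin
  haveI : IsDomain (MvPowerSeries (Fin n) Λ) := hinj.isDomain f
  have hinj' : Function.Injective (algebraMap (MvPowerSeries (Fin n) Λ) A) := hinj
  letI algB : Algebra (MvPowerSeries (Fin n) Λ) B := ((algebraMap A B).comp f).toAlgebra
  haveI : IsScalarTower (MvPowerSeries (Fin n) Λ) A B := IsScalarTower.of_algebraMap_eq fun _ => rfl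
  have halgB : ∀ y, algebraMap (MvPowerSeries (Fin n) Λ) B y = algebraMap A B (f y) := fun _ => rfl
  -- the closed fibre
  have hle : (maximalIdeal A).map (algebraMap A B) ≤ maximalIdeal B :=
    ((IsLocalRing.local_hom_TFAE (algebraMap A B)).out 0 2).mp ‹IsLocalHom (algebraMap A B)›
  obtain ⟨J₀, hJ₀⟩ : ∃ J₀ : Ideal B, J₀ = (maximalIdeal A).map (algebraMap A B) := ⟨_, rfl⟩
  have hJ₀le : J₀ ≤ maximalIdeal B := hJ₀ ▸ hle
  have hJ₀top : J₀ ≠ ⊤ := fun h => (maximalIdeal.isMaximal B).ne_top (top_le_iff.mp (h ▸ hJ₀le))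
  haveI : Nontrivial (B ⧸ J₀) := Ideal.Quotient.nontrivial_iff.mpr hJ₀top
  haveI : IsLocalRing (B ⧸ J₀) :=
    IsLocalRing.of_surjective' (Ideal.Quotient.mk J₀) Ideal.Quotient.mk_surjective
  haveI : IsAdicComplete (maximalIdeal (B ⧸ J₀)) (B ⧸ J₀) :=
    Groth.Agent.Helper7.Cohen.isAdicComplete_quotient J₀
  let φ : ResidueField A →+* B ⧸ J₀ :=
    Ideal.quotientMap J₀ (algebraMap A B) (by rw [hJ₀]; exact Ideal.le_comap_map)
  letI algk : Algebra (ResidueField A) (B ⧸ J₀) := φ.toAlgebra
  have hφ : ∀ a : A, algebraMap (ResidueField A) (B ⧸ J₀) (residue A a) =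
      Ideal.Quotient.mk J₀ (algebraMap A B a) := fun a => rfl
  have hB₀₀ : CAlgX.IsAdicFormallySmooth (ResidueField A) (B ⧸ J₀) (maximalIdeal (B ⧸ J₀)) := by
    have := adic_fibre_of_adic (maximalIdeal B) (residue A) residue_surjective
      (Ideal.Quotient.mk J₀) Ideal.Quotient.mk_surjective
      (by rw [Ideal.mk_ker, ker_residue, hJ₀]) (fun a => (hφ a).symm) hfs
    rwa [IsLocalRing.map_maximalIdeal_of_surjective _ Ideal.Quotient.mk_surjective] at this
  have hAk : ∀ y, algebraMap (MvPowerSeries (Fin n) Λ) (ResidueField A) y = residue A (f y) :=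
    fun y => rfl
  have hπ : Function.Surjective (algebraMap (MvPowerSeries (Fin n) Λ) (ResidueField A)) := hres
  obtain ⟨C, _, _, _, algC, hloc, hcompl, hflatC, hfsC, θC, hθCs, hkθC, hθCcomp⟩ :=
    exists_fs_lift (A := MvPowerSeries (Fin n) Λ) (κ := ResidueField A) (B := B ⧸ J₀) hπ hB₀₀
  -- lift `θC` to `B`
  let u : C →ₐ[MvPowerSeries (Fin n) Λ] B ⧸ J₀ :=
    { θC with
      commutes' := fun a => by
        show θC (algebraMap _ C a) = Ideal.Quotient.mk J₀ (algebraMap _ B a)
        rw [hθCcomp, hAk, hφ, halgB] }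
  have hu_app : ∀ c, u c = θC c := fun c => rfl
  have hBad : EGA41.IsFormallySmoothAdic (MvPowerSeries (Fin n) Λ) ⊥ C (maximalIdeal C) :=
    (Groth.Agent.S4537.result _).mp hfsC
  have hθCmax : ∀ x ∈ maximalIdeal C, θC x ∈ maximalIdeal (B ⧸ J₀) := by
    intro x hx
    rw [mem_maximalIdeal]
    intro hxu
    exact (mem_maximalIdeal _).mp hx (isUnit_of_surjective_of_isUnit θC hθCs x hxu)
  have hu : (maximalIdeal C).map u.toRingHom ≤
      (maximalIdeal B).map (Ideal.Quotient.mk J₀) := by
    rw [Ideal.map_le_iff_le_comap, IsLocalRing.map_maximalIdeal_of_surjective _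
      Ideal.Quotient.mk_surjective]
    intro x hx
    exact hθCmax x hx
  obtain ⟨w, -, hw⟩ := Groth.Agent.S2462.result (⊥ : Ideal (MvPowerSeries (Fin n) Λ))
    (maximalIdeal C) hBad (by rw [Ideal.map_bot]; exact bot_le) J₀ hJ₀top u hu
  have hwθ : ∀ c, Ideal.Quotient.mk J₀ (w c) = θC c := fun c => congrArg (fun f => f c) hw
  -- hypotheses for the descent
  have hwloc : ∀ c ∈ maximalIdeal C, w c ∈ maximalIdeal B := by
    intro c hc
    have h1 := hθCmax c hc
    rw [← hwθ] at h1
    rw [mem_maximalIdeal] at h1 ⊢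
    exact fun h => h1 (h.map _)
  have hlocC : (maximalIdeal (MvPowerSeries (Fin n) Λ)).map (algebraMap _ C) ≤ maximalIdeal C :=
    ((IsLocalRing.local_hom_TFAE (algebraMap (MvPowerSeries (Fin n) Λ) C)).out 0 2).mp hloc
  subst hJ₀
  have hw1 : ∀ b : B, ∃ c : C, b - w c ∈ (maximalIdeal A).map (algebraMap A B) := by
    intro b
    obtain ⟨c, hc⟩ := hθCs (Ideal.Quotient.mk _ b)
    refine ⟨c, ?_⟩
    rw [← Ideal.Quotient.eq, hwθ, hc]
  have hw2 : ∀ c : C, w c ∈ (maximalIdeal A).map (algebraMap A B) →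
      c ∈ (maximalIdeal (MvPowerSeries (Fin n) Λ)).map (algebraMap _ C) := by
    intro c hc
    rw [← hkθC, RingHom.mem_ker, ← hwθ]
    exact Ideal.Quotient.eq_zero_iff_mem.mpr hc
  have hres' : ∀ a : A, ∃ α : MvPowerSeries (Fin n) Λ, a - algebraMap _ A α ∈ maximalIdeal A := by
    intro a
    obtain ⟨α, hα⟩ := hres (residue A a)
    refine ⟨α, ?_⟩
    rw [← Ideal.Quotient.eq]
    exact hα.symm
  have hlocA : (maximalIdeal (MvPowerSeries (Fin n) Λ)).map (algebraMap _ A) ≤ maximalIdeal A :=
    map_maximalIdeal_le_of_finite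
  have hsurj := descent_surjective w hwloc hlocC hw1
  obtain ⟨s, hs, hsu⟩ := descent_kill w hsurj hres' hw2 hle hlocA
  -- the fraction field structure on the localisation of `C`
  have hunits : ∀ y : nonZeroDivisors (MvPowerSeries (Fin n) Λ),
      IsUnit (algebraMap (MvPowerSeries (Fin n) Λ)
        (Localization.AtPrime (q.comap w.toRingHom)) y) := by
    rintro ⟨y, hy⟩
    have hy0 : y ≠ 0 := nonZeroDivisors.ne_zero hy
    rw [IsScalarTower.algebraMap_apply (MvPowerSeries (Fin n) Λ) C
      (Localization.AtPrime (q.comap w.toRingHom))]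
    apply IsLocalization.map_units (Localization.AtPrime (q.comap w.toRingHom))
      (⟨algebraMap _ C y, ?_⟩ : (q.comap w.toRingHom).primeCompl)
    intro hmem
    have hmem' : w (algebraMap _ C y) ∈ q := hmem
    rw [w.commutes, halgB] at hmem'
    exact hy0 (hinj (by rw [hq _ hmem', map_zero]))
  letI algK : Algebra (FractionRing (MvPowerSeries (Fin n) Λ))
      (Localization.AtPrime (q.comap w.toRingHom)) :=
    (IsLocalization.lift (M := nonZeroDivisors (MvPowerSeries (Fin n) Λ)) hunits).toAlgebra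
  haveI towK : IsScalarTower (MvPowerSeries (Fin n) Λ) (FractionRing (MvPowerSeries (Fin n) Λ))
      (Localization.AtPrime (q.comap w.toRingHom)) :=
    IsScalarTower.of_algebraMap_eq fun y => (IsLocalization.lift_eq hunits y).symm
  have H := adic_generic_ps hΛ n hfsC (q.comap w.toRingHom)
  refine transfer_adic w q hinj' hq hsurj s hs (fun h => ?_) H
  exact (‹q.IsPrime›.ne_top) (Ideal.eq_top_of_isUnit_mem _ h hsu)

end coreD
end Groth.Agent.Helper7.CKd
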