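import Mathlib
import Groth.Prelude.Def_CAlgX
import Groth.Agent.Helper7.CKp2
import Groth.Agent.Helper7.CKp4
set_option autoImplicit false
set_option linter.style.haveILetI false
set_option linter.unusedSectionVars false
set_option linter.unusedVariables false
open TensorProduct IsLocalRing
universe u
namespace Groth.Agent.Helper7.CKd

section M
variable {A B : Type u} [CommRing A] [CommRing B] [Algebra A B] [IsNoetherianRing B]
  [Module.Flat A B]

/-- reduction modulo `p`: if the local ring of `B/pB` at `r/pB` is adically formally smooth over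
`Frac (A/p)`, then `B_r` is adically formally smooth over `A_p`. -/
theorem adic_loc_of_generic (p : Ideal A) [p.IsPrime] (r : Ideal B) [r.IsPrime] [r.LiesOver p]
    [Algebra (Localization.AtPrime p) (Localization.AtPrime r)]
    [IsScalarTower A (Localization.AtPrime p) (Localization.AtPrime r)]
    (r' : Ideal (B ⧸ p.map (algebraMap A B))) [r'.IsPrime]
    (hr' : r = r'.comap (Ideal.Quotient.mk (p.map (algebraMap A B))))
    [Algebra (FractionRing (A ⧸ p)) (Localization.AtPrime r')]
    [IsScalarTower (A ⧸ p) (FractionRing (A ⧸ p)) (Localization.AtPrime r')]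
    (Hgen : CAlgX.IsAdicFormallySmooth (FractionRing (A ⧸ p)) (Localization.AtPrime r')
      (maximalIdeal (Localization.AtPrime r'))) :
    CAlgX.IsAdicFormallySmooth (Localization.AtPrime p) (Localization.AtPrime r)
      (maximalIdeal (Localization.AtPrime r)) := by
  haveI : Module.Flat (Localization.AtPrime p) (Localization.AtPrime r) := by
    rw [Module.flat_iff_of_isLocalization (Localization.AtPrime p) p.primeCompl]
    exact Module.Flat.trans A B (Localization.AtPrime r)
  haveI : IsNoetherianRing (Localization.AtPrime r) :=
    IsLocalization.isNoetherianRing r.primeCompl _ inferInstance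
  have hpr : p.map (algebraMap A B) ≤ r := by
    rw [Ideal.map_le_iff_le_comap]
    intro a ha
    have h1 := Ideal.LiesOver.over (p := p) (P := r)
    rw [h1] at ha
    exact ha
  have hpr' : ∀ a : A, algebraMap A B a ∈ r → a ∈ p := by
    intro a ha
    have h1 := Ideal.LiesOver.over (p := p) (P := r)
    rw [h1]
    exact ha
  -- π
  let g₀ : A →+* FractionRing (A ⧸ p) :=
    (algebraMap (A ⧸ p) (FractionRing (A ⧸ p))).comp (Ideal.Quotient.mk p)
  have hg₀ : ∀ a, g₀ a = 0 ↔ a ∈ p := by
    intro a
    show algebraMap (A ⧸ p) (FractionRing (A ⧸ p)) (Ideal.Quotient.mk p a) = 0 ↔ _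
    rw [map_eq_zero_iff _ (IsFractionRing.injective (A ⧸ p) _), Ideal.Quotient.eq_zero_iff_mem]
  have hunits : ∀ y : p.primeCompl, IsUnit (g₀ y) := fun y =>
    isUnit_iff_ne_zero.mpr (fun h0 => y.2 ((hg₀ y).mp h0))
  let π : Localization.AtPrime p →+* FractionRing (A ⧸ p) :=
    IsLocalization.lift (M := p.primeCompl) hunits
  have hπa : ∀ a : A, π (algebraMap A _ a) = g₀ a := fun a => IsLocalization.lift_eq hunits a
  have hπs : Function.Surjective π := by
    intro z
    obtain ⟨x, s, rfl⟩ := IsLocalization.exists_mk'_eq (nonZeroDivisors (A ⧸ p)) z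
    obtain ⟨a, rfl⟩ := Ideal.Quotient.mk_surjective x
    obtain ⟨c, hc⟩ := Ideal.Quotient.mk_surjective s.1
    have hc0 : Ideal.Quotient.mk p c ≠ 0 := by
      rw [hc]
      exact nonZeroDivisors.ne_zero s.2
    have hcp : c ∈ p.primeCompl := fun hmem => hc0 (Ideal.Quotient.eq_zero_iff_mem.mpr hmem)
    refine ⟨IsLocalization.mk' _ a ⟨c, hcp⟩, ?_⟩
    rw [IsLocalization.lift_mk'_spec]
    show algebraMap (A ⧸ p) _ (Ideal.Quotient.mk p a) =
      algebraMap (A ⧸ p) _ (Ideal.Quotient.mk p c) * _
    rw [hc, IsLocalization.mk'_spec']
  have hkπ : RingHom.ker π ≤ maximalIdeal (Localization.AtPrime p) :=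
    IsLocalRing.le_maximalIdeal (RingHom.ker_ne_top _)
  -- θ
  let θ : Localization.AtPrime r →+* Localization.AtPrime r' :=
    Localization.localRingHom r r' (Ideal.Quotient.mk (p.map (algebraMap A B))) hr'
  have hθs : Function.Surjective θ :=
    localRingHom_surjective_of_surjective _ Ideal.Quotient.mk_surjective r r' hr'
  have hkθ0 : RingHom.ker θ =
      (p.map (algebraMap A B)).map (algebraMap B (Localization.AtPrime r)) := by
    have := ker_localRingHom_of_surjective (Ideal.Quotient.mk (p.map (algebraMap A B)))
      Ideal.Quotient.mk_surjective r r' hr'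
    rw [Ideal.mk_ker] at this
    exact this
  have hmaxp : maximalIdeal (Localization.AtPrime p) =
      p.map (algebraMap A (Localization.AtPrime p)) :=
    (Localization.AtPrime.map_eq_maximalIdeal).symm
  have hmaxr : maximalIdeal (Localization.AtPrime r) =
      r.map (algebraMap B (Localization.AtPrime r)) :=
    (Localization.AtPrime.map_eq_maximalIdeal).symm
  have hmapeq : (maximalIdeal (Localization.AtPrime p)).map
      (algebraMap (Localization.AtPrime p) (Localization.AtPrime r)) =
      (p.map (algebraMap A B)).map (algebraMap B (Localization.AtPrime r)) := by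
    rw [hmaxp, Ideal.map_map, Ideal.map_map, ← IsScalarTower.algebraMap_eq,
      ← IsScalarTower.algebraMap_eq]
  have hkθ : RingHom.ker θ ≤ (maximalIdeal (Localization.AtPrime p)).map
      (algebraMap (Localization.AtPrime p) (Localization.AtPrime r)) := by
    rw [hkθ0, hmapeq]
  have hmn : (maximalIdeal (Localization.AtPrime p)).map
      (algebraMap (Localization.AtPrime p) (Localization.AtPrime r)) ≤
      maximalIdeal (Localization.AtPrime r) := by
    rw [hmapeq, hmaxr]
    exact Ideal.map_mono hpr
  have hcomp : ∀ x, θ (algebraMap (Localization.AtPrime p) (Localization.AtPrime r) x) =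
      algebraMap (FractionRing (A ⧸ p)) (Localization.AtPrime r') (π x) := by
    intro x
    have : (θ.comp (algebraMap (Localization.AtPrime p) (Localization.AtPrime r))) =
        (algebraMap (FractionRing (A ⧸ p)) (Localization.AtPrime r')).comp π := by
      apply IsLocalization.ringHom_ext p.primeCompl
      ext a
      simp only [RingHom.comp_apply]
      rw [hπa, ← IsScalarTower.algebraMap_apply A (Localization.AtPrime p) (Localization.AtPrime r),
        IsScalarTower.algebraMap_apply A B (Localization.AtPrime r)]
      show Localization.localRingHom r r' _ hr' (algebraMap B _ (algebraMap A B a)) =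
        algebraMap (FractionRing (A ⧸ p)) (Localization.AtPrime r')
          (algebraMap (A ⧸ p) _ (Ideal.Quotient.mk p a))
      rw [Localization.localRingHom_to_map,
        ← IsScalarTower.algebraMap_apply (A ⧸ p) (FractionRing (A ⧸ p)) (Localization.AtPrime r'),
        IsScalarTower.algebraMap_apply (A ⧸ p) (B ⧸ p.map (algebraMap A B))
          (Localization.AtPrime r')]
      rfl
    exact RingHom.congr_fun this x
  have hnθ : (maximalIdeal (Localization.AtPrime r)).map θ = maximalIdeal (Localization.AtPrime r') :=
    IsLocalRing.map_maximalIdeal_of_surjective θ hθs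
  exact adic_of_flat_of_fibre (maximalIdeal (Localization.AtPrime p))
    (maximalIdeal (Localization.AtPrime r)) hmn π hπs hkπ θ hθs hkθ hcomp (by rw [hnθ]; exact Hgen)

end M
end Groth.Agent.Helper7.CKd
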