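import Mathlib
import Groth.Prelude.Def_CAlgX
import Groth.Prelude.Def_CAlg
import Groth.Agent.Helper7.CKq2
import Groth.Agent.Helper7.CKt11
import Groth.Agent.Helper7.CKt12
set_option autoImplicit false
set_option linter.style.haveILetI false
set_option linter.unusedSectionVars false
set_option linter.unusedVariables false
open TensorProduct IsLocalRing
universe u
namespace Groth.Agent.Helper7.CKd

section R
variable {A B : Type u} [CommRing A] [IsLocalRing A] [IsNoetherianRing A]
  [IsAdicComplete (maximalIdeal A) A]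
  [CommRing B] [IsLocalRing B] [IsNoetherianRing B] [IsAdicComplete (maximalIdeal B) B]
  [Algebra A B] [IsLocalHom (algebraMap A B)]

/-- **Theorem R**: an adically formally smooth local homomorphism of complete noetherian local
rings is regular. -/
theorem isRegularHom_of_adic_complete
    (hfs : CAlgX.IsAdicFormallySmooth A B (maximalIdeal B)) : CAlg.IsRegularHom A B := by
  haveI hflat : Module.Flat A B := flat_of_adic hfs
  have hle : (maximalIdeal A).map (algebraMap A B) ≤ maximalIdeal B :=
    ((IsLocalRing.local_hom_TFAE (algebraMap A B)).out 0 2).mp ‹IsLocalHom (algebraMap A B)›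
  apply isRegularHom_of_forall_adic
  intro p _ r _ _ _ _
  have hpm : p ≤ maximalIdeal A := IsLocalRing.le_maximalIdeal (Ideal.IsPrime.ne_top inferInstance)
  have hIle : p.map (algebraMap A B) ≤ maximalIdeal B := (Ideal.map_mono hpm).trans hle
  have hItop : p.map (algebraMap A B) ≠ ⊤ :=
    fun h => (maximalIdeal.isMaximal B).ne_top (top_le_iff.mp (h ▸ hIle))
  haveI : Nontrivial (B ⧸ p.map (algebraMap A B)) := Ideal.Quotient.nontrivial_iff.mpr hItop
  haveI : IsLocalRing (B ⧸ p.map (algebraMap A B)) :=
    IsLocalRing.of_surjective' (Ideal.Quotient.mk _) Ideal.Quotient.mk_surjective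
  haveI : IsAdicComplete (maximalIdeal (B ⧸ p.map (algebraMap A B))) (B ⧸ p.map (algebraMap A B)) :=
    Groth.Agent.Helper7.Cohen.isAdicComplete_quotient _
  haveI : IsLocalRing (A ⧸ p) :=
    IsLocalRing.of_surjective' (Ideal.Quotient.mk _) Ideal.Quotient.mk_surjective
  haveI : IsAdicComplete (maximalIdeal (A ⧸ p)) (A ⧸ p) :=
    Groth.Agent.Helper7.Cohen.isAdicComplete_quotient _
  have halg : ∀ a : A, algebraMap (A ⧸ p) (B ⧸ p.map (algebraMap A B)) (Ideal.Quotient.mk p a) =
      Ideal.Quotient.mk _ (algebraMap A B a) := fun a => rfl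
  have hfs' : CAlgX.IsAdicFormallySmooth (A ⧸ p) (B ⧸ p.map (algebraMap A B))
      (maximalIdeal (B ⧸ p.map (algebraMap A B))) := by
    have := adic_fibre_of_adic (maximalIdeal B) (Ideal.Quotient.mk p) Ideal.Quotient.mk_surjective
      (Ideal.Quotient.mk (p.map (algebraMap A B))) Ideal.Quotient.mk_surjective
      (by rw [Ideal.mk_ker, Ideal.mk_ker]) (fun a => (halg a).symm) hfs
    rwa [IsLocalRing.map_maximalIdeal_of_surjective _ Ideal.Quotient.mk_surjective] at this
  haveI : IsLocalHom (algebraMap (A ⧸ p) (B ⧸ p.map (algebraMap A B))) := by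
    refine ⟨fun x hx => ?_⟩
    obtain ⟨a, rfl⟩ := Ideal.Quotient.mk_surjective x
    rw [halg] at hx
    by_contra hna
    have h1 : Ideal.Quotient.mk p a ∈ maximalIdeal (A ⧸ p) := (mem_maximalIdeal _).mpr hna
    have h2 : a ∈ maximalIdeal A := by
      rw [mem_maximalIdeal]
      intro hu
      exact hna (hu.map _)
    have h3 : algebraMap A B a ∈ maximalIdeal B := hle (Ideal.mem_map_of_mem _ h2)
    have h4 : Ideal.Quotient.mk (p.map (algebraMap A B)) (algebraMap A B a) ∈
        maximalIdeal (B ⧸ p.map (algebraMap A B)) := by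
      rw [← IsLocalRing.map_maximalIdeal_of_surjective _ Ideal.Quotient.mk_surjective]
      exact Ideal.mem_map_of_mem _ h3
    exact (mem_maximalIdeal _).mp h4 hx
  -- the prime r'
  have hpr : p.map (algebraMap A B) ≤ r := by
    rw [Ideal.map_le_iff_le_comap]
    intro a ha
    have h1 := Ideal.LiesOver.over (p := p) (P := r)
    rw [h1] at ha
    exact ha
  have hpr' : ∀ a : A, algebraMap A B a ∈ r → a ∈ p := by
    intro a ha
    have h1 := Ideal.LiesOver.over (p := p) (P := r)
    rw [h1]
    exact ha
  have hkle : RingHom.ker (Ideal.Quotient.mk (p.map (algebraMap A B))) ≤ r := by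
    rw [Ideal.mk_ker]; exact hpr
  haveI hr'prime : (r.map (Ideal.Quotient.mk (p.map (algebraMap A B)))).IsPrime :=
    Ideal.map_isPrime_of_surjective Ideal.Quotient.mk_surjective hkle
  have hr' : r = (r.map (Ideal.Quotient.mk (p.map (algebraMap A B)))).comap
      (Ideal.Quotient.mk (p.map (algebraMap A B))) := by
    rw [Ideal.comap_map_of_surjective _ Ideal.Quotient.mk_surjective, ← RingHom.ker_eq_comap_bot,
      sup_eq_left.mpr hkle]
  have hq' : ∀ a' : A ⧸ p, algebraMap (A ⧸ p) (B ⧸ p.map (algebraMap A B)) a' ∈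
      r.map (Ideal.Quotient.mk (p.map (algebraMap A B))) → a' = 0 := by
    intro a' ha'
    obtain ⟨a, rfl⟩ := Ideal.Quotient.mk_surjective a'
    rw [halg] at ha'
    have h1 : algebraMap A B a ∈ r := by
      rw [hr']
      exact ha'
    exact Ideal.Quotient.eq_zero_iff_mem.mpr (hpr' a h1)
  -- the algebra structure over the fraction field
  have hunits : ∀ y : nonZeroDivisors (A ⧸ p), IsUnit (algebraMap (A ⧸ p)
      (Localization.AtPrime (r.map (Ideal.Quotient.mk (p.map (algebraMap A B))))) y) := by
    rintro ⟨y, hy⟩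
    have hy0 : y ≠ 0 := nonZeroDivisors.ne_zero hy
    rw [IsScalarTower.algebraMap_apply (A ⧸ p) (B ⧸ p.map (algebraMap A B))
      (Localization.AtPrime (r.map (Ideal.Quotient.mk (p.map (algebraMap A B)))))]
    exact IsLocalization.map_units (Localization.AtPrime _)
      (⟨algebraMap _ _ y, fun hmem => hy0 (hq' y hmem)⟩ :
        (r.map (Ideal.Quotient.mk (p.map (algebraMap A B)))).primeCompl)
  letI algK : Algebra (FractionRing (A ⧸ p))
      (Localization.AtPrime (r.map (Ideal.Quotient.mk (p.map (algebraMap A B))))) :=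
    (IsLocalization.lift (M := nonZeroDivisors (A ⧸ p)) hunits).toAlgebra
  haveI towK : IsScalarTower (A ⧸ p) (FractionRing (A ⧸ p))
      (Localization.AtPrime (r.map (Ideal.Quotient.mk (p.map (algebraMap A B))))) :=
    IsScalarTower.of_algebraMap_eq fun y => (IsLocalization.lift_eq hunits y).symm
  have Hgen := adic_generic_of_adic hfs' (r.map (Ideal.Quotient.mk (p.map (algebraMap A B)))) hq'
  exact adic_loc_of_generic p r _ hr' Hgen

end R
end Groth.Agent.Helper7.CKd
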