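import Mathlib
import Groth.Prelude.Def_CAlgX
import Groth.Prelude.Def_CAlg
import Groth.Prelude.Def_EGA41
import Groth.Agent.S0543
import Groth.Agent.S2461
import Groth.Agent.S4537
import Groth.Agent.Helper2.RegLoc
import Groth.Agent.Helper2.RegComp
import Groth.Agent.Helper2.RegBC
import Groth.Agent.Helper3.ComplMap
import Groth.Agent.Helper7.CKt13
set_option autoImplicit false
set_option linter.style.haveILetI false
set_option linter.unusedSectionVars false
set_option linter.unusedVariables false
open TensorProduct IsLocalRing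
universe u
namespace Groth.Agent.Helper7.CKd

/-- adic formal smoothness over `A` gives adic formal smoothness over an `A`-algebra `A'` in which
`A` is dense (for the `I`-adic topology), when `I A' T ⊆ 𝔫`. -/
theorem adic_of_adic_dense {A A' T : Type u} [CommRing A] [CommRing A'] [CommRing T]
    [Algebra A A'] [Algebra A' T] [Algebra A T] [IsScalarTower A A' T]
    (I : Ideal A) (𝔫 : Ideal T) (hI : (I.map (algebraMap A A')).map (algebraMap A' T) ≤ 𝔫)
    (hdense : ∀ (k : ℕ) (x : A'), ∃ a : A, x - algebraMap A A' a ∈ (I ^ k).map (algebraMap A A'))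
    (hfs : CAlgX.IsAdicFormallySmooth A T 𝔫) : CAlgX.IsAdicFormallySmooth A' T 𝔫 := by
  intro C _ _ J hJ ψ ⟨k, hk⟩
  letI algAC : Algebra A C := ((algebraMap A' C).comp (algebraMap A A')).toAlgebra
  haveI : IsScalarTower A A' C := IsScalarTower.of_algebraMap_eq (fun _ => rfl)
  let ψ₀ : T →ₐ[A] C ⧸ J :=
    { ψ.toRingHom with
      commutes' := fun a => by
        show ψ (algebraMap A T a) = Ideal.Quotient.mk J (algebraMap A C a)
        rw [IsScalarTower.algebraMap_apply A A' T, ψ.commutes]
        rfl }
  obtain ⟨χ₀, hχ₀⟩ := hfs C J hJ ψ₀ ⟨k, hk⟩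
  have hχψ : ∀ t, Ideal.Quotient.mk J (χ₀ t) = ψ t := fun t => AlgHom.congr_fun hχ₀ t
  set I' := I.map (algebraMap A A') with hI'
  have hIk : ∀ x ∈ I' ^ k, ψ (algebraMap A' T x) = 0 := by
    intro x hx
    apply hk
    have h1 := Ideal.mem_map_of_mem (algebraMap A' T) hx
    rw [Ideal.map_pow] at h1
    exact Ideal.pow_right_mono hI k h1
  have hkill1 : ∀ x ∈ I' ^ k, algebraMap A' C x ∈ J := by
    intro x hx
    rw [← Ideal.Quotient.eq_zero_iff_mem]
    have : Ideal.Quotient.mk J (algebraMap A' C x) = ψ (algebraMap A' T x) := (ψ.commutes x).symm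
    rw [this, hIk x hx]
  have hkill2 : ∀ x ∈ I' ^ k, χ₀ (algebraMap A' T x) ∈ J := by
    intro x hx
    rw [← Ideal.Quotient.eq_zero_iff_mem, hχψ, hIk x hx]
  have hgen : ∀ g : A' →+* C, (∀ x ∈ I' ^ k, g x ∈ J) → ∀ x ∈ I' ^ (k + k), g x = 0 := by
    intro g hg x hx
    have : I' ^ (k + k) ≤ RingHom.ker g := by
      rw [pow_add, Ideal.mul_le]
      intro y hy z hz
      rw [RingHom.mem_ker, map_mul]
      have h1 : g y * g z ∈ J ^ 2 := by
        rw [pow_two]
        exact Ideal.mul_mem_mul (hg y hy) (hg z hz)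
      rw [hJ] at h1
      exact h1
    exact this hx
  have h1 := hgen (algebraMap A' C) hkill1
  have h2 := hgen (χ₀.toRingHom.comp (algebraMap A' T)) hkill2
  refine ⟨{ χ₀.toRingHom with commutes' := ?_ }, ?_⟩
  · intro x
    show χ₀ (algebraMap A' T x) = algebraMap A' C x
    obtain ⟨a, ha⟩ := hdense (k + k) x
    rw [Ideal.map_pow] at ha
    have e1 : algebraMap A' C x = algebraMap A' C (algebraMap A A' a) := by
      have := h1 _ ha
      rw [map_sub, sub_eq_zero] at this
      exact this
    have e2 : χ₀ (algebraMap A' T x) = χ₀ (algebraMap A' T (algebraMap A A' a)) := by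
      have := h2 _ ha
      rw [RingHom.comp_apply, map_sub, map_sub, sub_eq_zero] at this
      exact this
    rw [e1, e2, ← IsScalarTower.algebraMap_apply A A' T, χ₀.commutes]
    rfl
  · apply AlgHom.ext
    intro t
    exact hχψ t

section S9314
variable {A B : Type u} [CommRing A] [CommRing B] [IsLocalRing A] [IsLocalRing B]
  [IsNoetherianRing A] [IsNoetherianRing B] [Algebra A B] [IsLocalHom (algebraMap A B)]

theorem s9314 (hA : CAlg.IsRegularHom A (AdicCompletion (IsLocalRing.maximalIdeal A) A))
    (h : CAlgX.IsAdicFormallySmooth A B (IsLocalRing.maximalIdeal B)) :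
    CAlg.IsRegularHom A B := by
  haveI hnA : IsNoetherianRing (AdicCompletion (maximalIdeal A) A) :=
    Groth.Agent.S0543.result A _
  haveI hnB : IsNoetherianRing (AdicCompletion (maximalIdeal B) B) :=
    Groth.Agent.S0543.result B _
  haveI : IsAdicComplete (maximalIdeal (AdicCompletion (maximalIdeal A) A))
      (AdicCompletion (maximalIdeal A) A) :=
    AdicCompletion.isAdicComplete_of_fg (maximalIdeal A).fg_of_isNoetherianRing
  haveI : IsAdicComplete (maximalIdeal (AdicCompletion (maximalIdeal B) B))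
      (AdicCompletion (maximalIdeal B) B) :=
    AdicCompletion.isAdicComplete_of_fg (maximalIdeal B).fg_of_isNoetherianRing
  have hle : (maximalIdeal A).map (algebraMap A B) ≤ maximalIdeal B :=
    ((IsLocalRing.local_hom_TFAE (algebraMap A B)).out 0 2).mp ‹IsLocalHom (algebraMap A B)›
  obtain ⟨φ, hφ⟩ : ∃ φ : AdicCompletion (maximalIdeal A) A →+* AdicCompletion (maximalIdeal B) B,
      ∀ a, φ (algebraMap A _ a) = algebraMap B _ (algebraMap A B a) :=
    ⟨Groth.Agent.Helper3.ComplMap.lift (maximalIdeal A) (maximalIdeal B) (algebraMap A B) hle,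
      Groth.Agent.Helper3.ComplMap.lift_of _ _ _ hle⟩
  letI algh : Algebra (AdicCompletion (maximalIdeal A) A) (AdicCompletion (maximalIdeal B) B) :=
    φ.toAlgebra
  haveI : IsScalarTower A (AdicCompletion (maximalIdeal A) A) (AdicCompletion (maximalIdeal B) B) :=
    IsScalarTower.of_algebraMap_eq (fun a => (hφ a).symm)
  have hloc' : (maximalIdeal (AdicCompletion (maximalIdeal A) A)).map
      (algebraMap _ (AdicCompletion (maximalIdeal B) B)) ≤
      maximalIdeal (AdicCompletion (maximalIdeal B) B) := by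
    rw [AdicCompletion.maximalIdeal_eq_map (R := A), Ideal.map_map, Ideal.map_le_iff_le_comap]
    intro a ha
    rw [Ideal.mem_comap, RingHom.comp_apply]
    change φ (algebraMap A _ a) ∈ _
    rw [hφ, AdicCompletion.maximalIdeal_eq_map (R := B)]
    exact Ideal.mem_map_of_mem _ (hle (Ideal.mem_map_of_mem _ ha))
  haveI : IsLocalHom (algebraMap (AdicCompletion (maximalIdeal A) A)
      (AdicCompletion (maximalIdeal B) B)) :=
    ((IsLocalRing.local_hom_TFAE _).out 0 2).mpr hloc'
  have h1 : EGA41.IsFormallySmoothAdic A ⊥ B (maximalIdeal B) :=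
    (Groth.Agent.S4537.result _).mp h
  have h2 := (Groth.Agent.S2461.result (⊥ : Ideal A) (maximalIdeal B)).mp h1
  rw [← AdicCompletion.maximalIdeal_eq_map (R := B)] at h2
  have h3 : CAlgX.IsAdicFormallySmooth A (AdicCompletion (maximalIdeal B) B)
      (maximalIdeal (AdicCompletion (maximalIdeal B) B)) := (Groth.Agent.S4537.result _).mpr h2
  have h4 : CAlgX.IsAdicFormallySmooth (AdicCompletion (maximalIdeal A) A)
      (AdicCompletion (maximalIdeal B) B) (maximalIdeal (AdicCompletion (maximalIdeal B) B)) := by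
    refine adic_of_adic_dense (maximalIdeal A) _ ?_
      (fun k x => Groth.Agent.Helper3.ComplMap.exists_sub_mem_pow (maximalIdeal A) k x) h3
    rw [← AdicCompletion.maximalIdeal_eq_map (R := A)]
    exact hloc'
  have h5 : CAlg.IsRegularHom (AdicCompletion (maximalIdeal A) A)
      (AdicCompletion (maximalIdeal B) B) := isRegularHom_of_adic_complete h4
  have h6 : CAlg.IsRegularHom A (AdicCompletion (maximalIdeal B) B) :=
    Groth.Agent.Helper2.RegComp.isRegularHom_comp A (AdicCompletion (maximalIdeal A) A) _ hA h5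
      (fun p' _ => Groth.Agent.Helper2.RegBC.isNoetherianRing_fiber _ _ p')
  haveI : Module.Flat B (AdicCompletion (maximalIdeal B) B) :=
    AdicCompletion.flat_of_isNoetherian (maximalIdeal B)
  haveI : Module.FaithfullyFlat B (AdicCompletion (maximalIdeal B) B) :=
    Module.FaithfullyFlat.of_flat_of_isLocalHom
  exact Groth.Agent.Helper2.RegLoc.isRegularHom_descent A B (AdicCompletion (maximalIdeal B) B) h6

end S9314
end Groth.Agent.Helper7.CKd
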