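import Mathlib
import Groth.Prelude.Def_CAlgX
import Groth.Prelude.Def_CAlg
import Groth.Prelude.Def_EGA41
import Groth.Agent.S2461
import Groth.Agent.S4537
set_option autoImplicit false
set_option linter.style.haveILetI false
set_option linter.unusedSectionVars false
set_option linter.unusedVariables false
open TensorProduct IsLocalRing
universe u
namespace Groth.Agent.Helper7.CKd

/-- adic formal smoothness passes to the local rings at primes containing the ideal of
definition. -/
theorem adic_localization {A B : Type u} [CommRing A] [CommRing B] [Algebra A B] (𝔛 : Ideal B)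
    (hfs : CAlgX.IsAdicFormallySmooth A B 𝔛)
    (p : Ideal A) [p.IsPrime] (q : Ideal B) [q.IsPrime] (h𝔛 : 𝔛 ≤ q)
    [Algebra (Localization.AtPrime p) (Localization.AtPrime q)]
    [IsScalarTower A (Localization.AtPrime p) (Localization.AtPrime q)] :
    CAlgX.IsAdicFormallySmooth (Localization.AtPrime p) (Localization.AtPrime q)
      (maximalIdeal (Localization.AtPrime q)) := by
  intro C _ _ J hJ ψ ⟨k, hk⟩
  letI algAC : Algebra A C :=
    ((algebraMap (Localization.AtPrime p) C).comp (algebraMap A (Localization.AtPrime p))).toAlgebra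
  haveI : IsScalarTower A (Localization.AtPrime p) C := IsScalarTower.of_algebraMap_eq (fun _ => rfl)
  let ψB : B →ₐ[A] C ⧸ J :=
    { ψ.toRingHom.comp (algebraMap B (Localization.AtPrime q)) with
      commutes' := fun a => by
        show ψ (algebraMap B (Localization.AtPrime q) (algebraMap A B a)) =
          Ideal.Quotient.mk J (algebraMap A C a)
        rw [← IsScalarTower.algebraMap_apply A B (Localization.AtPrime q),
          IsScalarTower.algebraMap_apply A (Localization.AtPrime p) (Localization.AtPrime q),
          ψ.commutes]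
        rfl }
  have hψB : ∀ b, ψB b = ψ (algebraMap B (Localization.AtPrime q) b) := fun b => rfl
  have hkill : ∀ x ∈ 𝔛 ^ k, ψB x = 0 := by
    intro x hx
    rw [hψB]
    apply hk
    have h1 := Ideal.mem_map_of_mem (algebraMap B (Localization.AtPrime q))
      (Ideal.pow_right_mono h𝔛 k hx)
    rw [Ideal.map_pow, Localization.AtPrime.map_eq_maximalIdeal] at h1
    exact h1
  obtain ⟨χB, hχB⟩ := hfs C J hJ ψB ⟨k, hkill⟩
  have hχψ : ∀ b, Ideal.Quotient.mk J (χB b) = ψB b := fun b => AlgHom.congr_fun hχB b
  have hNnil : IsNilpotent J := ⟨2, hJ⟩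
  have hunits : ∀ s : q.primeCompl, IsUnit (χB s) := by
    intro s
    rw [← IsNilpotent.isUnit_quotient_mk_iff hNnil, hχψ, hψB]
    exact (IsLocalization.map_units (Localization.AtPrime q) s).map ψ
  let v : Localization.AtPrime q →+* C := IsLocalization.lift (M := q.primeCompl) hunits
  have hvB : ∀ b : B, v (algebraMap B _ b) = χB b := fun b => IsLocalization.lift_eq hunits b
  have hvA : ∀ x : Localization.AtPrime p,
      v (algebraMap (Localization.AtPrime p) (Localization.AtPrime q) x) =
        algebraMap (Localization.AtPrime p) C x := by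
    intro x
    have : v.comp (algebraMap (Localization.AtPrime p) (Localization.AtPrime q)) =
        algebraMap (Localization.AtPrime p) C := by
      apply IsLocalization.ringHom_ext p.primeCompl
      ext a
      simp only [RingHom.comp_apply]
      rw [← IsScalarTower.algebraMap_apply A (Localization.AtPrime p) (Localization.AtPrime q),
        IsScalarTower.algebraMap_apply A B (Localization.AtPrime q), hvB, χB.commutes]
      rfl
    exact RingHom.congr_fun this x
  refine ⟨{ v with commutes' := hvA }, ?_⟩
  apply AlgHom.coe_ringHom_injective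
  apply IsLocalization.ringHom_ext q.primeCompl
  ext b
  show Ideal.Quotient.mk J (v (algebraMap B _ b)) = ψ (algebraMap B _ b)
  rw [hvB, hχψ, hψB]

/-- transport of adic formal smoothness along an isomorphism. -/
theorem adic_of_algEquiv {A T T' : Type u} [CommRing A] [CommRing T] [CommRing T'] [Algebra A T]
    [Algebra A T'] (e : T ≃ₐ[A] T') (𝔫 : Ideal T) (hfs : CAlgX.IsAdicFormallySmooth A T 𝔫) :
    CAlgX.IsAdicFormallySmooth A T' (𝔫.map (e : T →+* T')) := by
  intro C _ _ J hJ ψ ⟨k, hk⟩
  obtain ⟨χ, hχ⟩ := hfs C J hJ (ψ.comp (e : T →ₐ[A] T')) ⟨k, fun x hx => by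
    show ψ (e x) = 0
    apply hk
    have := Ideal.mem_map_of_mem (e : T →+* T') hx
    rw [Ideal.map_pow] at this
    exact this⟩
  refine ⟨χ.comp (e.symm : T' →ₐ[A] T), ?_⟩
  apply AlgHom.ext
  intro t'
  have := AlgHom.congr_fun hχ (e.symm t')
  show Ideal.Quotient.mkₐ A J (χ (e.symm t')) = ψ t'
  have h2 : ψ (e (e.symm t')) = ψ t' := by rw [e.apply_symm_apply]
  rw [← h2]
  exact this

/-- a formally smooth algebra (discrete topologies) is adically formally smooth. -/
theorem adic_of_formallySmooth {A T : Type u} [CommRing A] [CommRing T] [Algebra A T]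
    [Algebra.FormallySmooth A T] (𝔫 : Ideal T) : CAlgX.IsAdicFormallySmooth A T 𝔫 := by
  intro C _ _ J hJ ψ _
  exact Algebra.FormallySmooth.comp_surjective _ _ J hJ ψ

/-- `A[[X_1..X_r]]` is formally smooth over `A` for the `(X)`-adic topology. -/
theorem adic_mvPowerSeries (A : Type u) [CommRing A] [IsNoetherianRing A] (r : ℕ) :
    CAlgX.IsAdicFormallySmooth A (MvPowerSeries (Fin r) A)
      ((MvPolynomial.idealOfVars (Fin r) A).map
        (algebraMap (MvPolynomial (Fin r) A) (MvPowerSeries (Fin r) A))) := by
  have h0 : CAlgX.IsAdicFormallySmooth A (MvPolynomial (Fin r) A)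
      (MvPolynomial.idealOfVars (Fin r) A) := adic_of_formallySmooth _
  have h1 := (Groth.Agent.S2461.result (⊥ : Ideal A) (MvPolynomial.idealOfVars (Fin r) A)).mp
    ((Groth.Agent.S4537.result _).mp h0)
  have h2 := (Groth.Agent.S4537.result _).mpr h1
  let e : AdicCompletion (MvPolynomial.idealOfVars (Fin r) A) (MvPolynomial (Fin r) A) ≃ₐ[A]
      MvPowerSeries (Fin r) A :=
    ((MvPowerSeries.toAdicCompletionAlgEquiv (Fin r) A).restrictScalars A).symm
  have h3 := adic_of_algEquiv e _ h2
  have h4 : ((MvPolynomial.idealOfVars (Fin r) A).map (algebraMap (MvPolynomial (Fin r) A)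
      (AdicCompletion (MvPolynomial.idealOfVars (Fin r) A) (MvPolynomial (Fin r) A)))).map
      (e : _ →+* MvPowerSeries (Fin r) A) =
      (MvPolynomial.idealOfVars (Fin r) A).map
        (algebraMap (MvPolynomial (Fin r) A) (MvPowerSeries (Fin r) A)) := by
    rw [Ideal.map_map]
    congr 1
    apply RingHom.ext
    intro x
    show (MvPowerSeries.toAdicCompletionAlgEquiv (Fin r) A).symm (algebraMap _ _ x) = _
    rw [AlgEquiv.commutes]
  rw [h4] at h3
  exact h3

end Groth.Agent.Helper7.CKd
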