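import Mathlib
import Groth.Prelude.Def_CAlgX
set_option autoImplicit false
set_option linter.style.haveILetI false
set_option linter.unusedSectionVars false
set_option linter.unusedVariables false
open TensorProduct IsLocalRing
universe u
namespace Groth.Agent.Helper7.CKd

section der
variable {A C T : Type u} [CommRing A] [CommRing C] [CommRing T] [Algebra A C] [Algebra C T]
  [Algebra A T] [IsScalarTower A C T]

/-- **derivation trick**: if `T` is adically formally smooth over `A`, `C` is generated over `A` by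
`x_1..x_n` up to epimorphism, and `T` carries `A`-derivations `D_i` with `D_i x_j = δ_ij`, then `T`
is adically formally smooth over `C`. -/
theorem adic_of_derivations (𝔫 : Ideal T) (hfs : CAlgX.IsAdicFormallySmooth A T 𝔫)
    {ι : Type} [Fintype ι] [DecidableEq ι] (x : ι → C) (D : ι → T →+ T)
    (hD : ∀ i a b, D i (a * b) = a * D i b + b * D i a)
    (hDA : ∀ i (a : A), D i (algebraMap A T a) = 0)
    (hDx : ∀ i j, D i (algebraMap C T (x j)) = if i = j then 1 else 0)
    (hepi : ∀ (E : Type u) [CommRing E] (f g : C →+* E),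
      f.comp (algebraMap A C) = g.comp (algebraMap A C) → (∀ j, f (x j) = g (x j)) → f = g) :
    CAlgX.IsAdicFormallySmooth C T 𝔫 := by
  intro E _ _ J hJ ψ hψ
  letI : Algebra A E := ((algebraMap C E).comp (algebraMap A C)).toAlgebra
  haveI : IsScalarTower A C E := IsScalarTower.of_algebraMap_eq (fun _ => rfl)
  have hJ2 : ∀ a ∈ J, ∀ b ∈ J, a * b = 0 := by
    intro a ha b hb
    have : a * b ∈ J ^ 2 := by
      rw [pow_two]
      exact Ideal.mul_mem_mul ha hb
    rw [hJ] at this
    exact this
  obtain ⟨χ0, hχ0⟩ := hfs E J hJ (ψ.restrictScalars A) hψ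
  have hχ0app : ∀ t, Ideal.Quotient.mk J (χ0 t) = ψ t := fun t => congrArg (fun f => f t) hχ0
  have hD1 : ∀ i, D i 1 = 0 := by
    intro i
    have h := hD i 1 1
    rw [mul_one, one_mul] at h
    have h2 : D i 1 + 0 = D i 1 + D i 1 := by rw [add_zero]; exact h
    exact (add_left_cancel h2).symm
  -- the correction terms
  let δ : ι → E := fun j => algebraMap C E (x j) - χ0 (algebraMap C T (x j))
  have hδ : ∀ j, δ j ∈ J := by
    intro j
    rw [← Ideal.Quotient.eq_zero_iff_mem]
    show Ideal.Quotient.mk J (algebraMap C E (x j) - χ0 (algebraMap C T (x j))) = 0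
    rw [map_sub, hχ0app, ψ.commutes, Ideal.Quotient.mk_algebraMap, sub_self]
  let χf : T → E := fun t => χ0 t + ∑ j, δ j * χ0 (D j t)
  have hmul : ∀ s t, χf (s * t) = χf s * χf t := by
    intro s t
    show χ0 (s * t) + ∑ j, δ j * χ0 (D j (s * t)) =
      (χ0 s + ∑ j, δ j * χ0 (D j s)) * (χ0 t + ∑ j, δ j * χ0 (D j t))
    have hcross : (∑ j, δ j * χ0 (D j s)) * (∑ j, δ j * χ0 (D j t)) = 0 := by
      rw [Finset.sum_mul_sum]
      apply Finset.sum_eq_zero
      intro i _
      apply Finset.sum_eq_zero
      intro j _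
      have := hJ2 (δ i) (hδ i) (δ j) (hδ j)
      calc δ i * χ0 (D i s) * (δ j * χ0 (D j t))
          = (δ i * δ j) * (χ0 (D i s) * χ0 (D j t)) := by ring
        _ = 0 := by rw [this, zero_mul]
    have hsum : ∑ j, δ j * χ0 (D j (s * t)) =
        χ0 s * ∑ j, δ j * χ0 (D j t) + χ0 t * ∑ j, δ j * χ0 (D j s) := by
      rw [Finset.mul_sum, Finset.mul_sum, ← Finset.sum_add_distrib]
      apply Finset.sum_congr rfl
      intro j _
      rw [hD, map_add, map_mul, map_mul]
      ring
    rw [hsum, map_mul]
    have : (χ0 s + ∑ j, δ j * χ0 (D j s)) * (χ0 t + ∑ j, δ j * χ0 (D j t)) =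
        χ0 s * χ0 t + χ0 s * ∑ j, δ j * χ0 (D j t) + χ0 t * ∑ j, δ j * χ0 (D j s) +
          (∑ j, δ j * χ0 (D j s)) * (∑ j, δ j * χ0 (D j t)) := by ring
    rw [this, hcross]
    ring
  have hone : χf 1 = 1 := by
    show χ0 1 + ∑ j, δ j * χ0 (D j 1) = 1
    rw [map_one]
    have : ∑ j, δ j * χ0 (D j 1) = 0 := by
      apply Finset.sum_eq_zero
      intro j _
      rw [hD1, map_zero, mul_zero]
    rw [this, add_zero]
  have hadd : ∀ s t, χf (s + t) = χf s + χf t := by
    intro s t
    show χ0 (s + t) + ∑ j, δ j * χ0 (D j (s + t)) =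
      (χ0 s + ∑ j, δ j * χ0 (D j s)) + (χ0 t + ∑ j, δ j * χ0 (D j t))
    have : ∑ j, δ j * χ0 (D j (s + t)) = ∑ j, δ j * χ0 (D j s) + ∑ j, δ j * χ0 (D j t) := by
      rw [← Finset.sum_add_distrib]
      apply Finset.sum_congr rfl
      intro j _
      rw [map_add, map_add, mul_add]
    rw [this, map_add]
    ring
  have hzero : χf 0 = 0 := by
    show χ0 0 + ∑ j, δ j * χ0 (D j 0) = 0
    rw [map_zero]
    have : ∑ j, δ j * χ0 (D j 0) = 0 := by
      apply Finset.sum_eq_zero
      intro j _
      rw [map_zero, map_zero, mul_zero]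
    rw [this, add_zero]
  let χr : T →+* E :=
    { toFun := χf
      map_one' := hone
      map_mul' := hmul
      map_zero' := hzero
      map_add' := hadd }
  have hχrA : ∀ a : A, χr (algebraMap A T a) = algebraMap A E a := by
    intro a
    show χ0 (algebraMap A T a) + ∑ j, δ j * χ0 (D j (algebraMap A T a)) = _
    have : ∑ j, δ j * χ0 (D j (algebraMap A T a)) = 0 := by
      apply Finset.sum_eq_zero
      intro j _
      rw [hDA, map_zero, mul_zero]
    rw [this, add_zero, χ0.commutes]
  have hχrx : ∀ i, χr (algebraMap C T (x i)) = algebraMap C E (x i) := by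
    intro i
    show χ0 (algebraMap C T (x i)) + ∑ j, δ j * χ0 (D j (algebraMap C T (x i))) = _
    have : ∑ j, δ j * χ0 (D j (algebraMap C T (x i))) = δ i := by
      rw [Finset.sum_eq_single i]
      · rw [hDx, if_pos rfl, map_one, mul_one]
      · intro j _ hji
        rw [hDx, if_neg hji, map_zero, mul_zero]
      · intro h
        exact absurd (Finset.mem_univ i) h
    rw [this]
    show χ0 (algebraMap C T (x i)) + (algebraMap C E (x i) - χ0 (algebraMap C T (x i))) = _
    ring
  have hcomm : χr.comp (algebraMap C T) = algebraMap C E := by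
    apply hepi E
    · ext a
      show χr (algebraMap C T (algebraMap A C a)) = algebraMap C E (algebraMap A C a)
      rw [← IsScalarTower.algebraMap_apply A C T, hχrA]
      rfl
    · intro j
      exact hχrx j
  let χ : T →ₐ[C] E :=
    { χr with
      commutes' := fun c => congrArg (fun f => f c) hcomm }
  refine ⟨χ, ?_⟩
  ext t
  show Ideal.Quotient.mk J (χ0 t + ∑ j, δ j * χ0 (D j t)) = ψ t
  rw [map_add, hχ0app]
  have : Ideal.Quotient.mk J (∑ j, δ j * χ0 (D j t)) = 0 := by
    rw [Ideal.Quotient.eq_zero_iff_mem]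
    apply Ideal.sum_mem
    intro j _
    exact Ideal.mul_mem_right _ _ (hδ j)
  rw [this, add_zero]

end der

section locbase
variable {R A' T : Type u} [CommRing R] [CommRing A'] [CommRing T] [Algebra R A'] [Algebra A' T]
  [Algebra R T] [IsScalarTower R A' T]

/-- adic formal smoothness over a localization of the base descends to the base. -/
theorem adic_of_isLocalization_base (M : Submonoid R) [IsLocalization M A'] (𝔫 : Ideal T)
    (hfs : CAlgX.IsAdicFormallySmooth A' T 𝔫) : CAlgX.IsAdicFormallySmooth R T 𝔫 := by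
  intro E _ _ J hJ ψ hψ
  have hnil : ∀ a ∈ J, IsNilpotent a := by
    intro a ha
    refine ⟨2, ?_⟩
    have : a ^ 2 ∈ J ^ 2 := Ideal.pow_mem_pow ha 2
    rw [hJ] at this
    exact this
  have hunit : ∀ s : M, IsUnit (algebraMap R E s) := by
    intro s
    have h1 : IsUnit (Ideal.Quotient.mk J (algebraMap R E s)) := by
      have : Ideal.Quotient.mk J (algebraMap R E s) = ψ (algebraMap A' T (algebraMap R A' s)) := by
        rw [← IsScalarTower.algebraMap_apply R A' T, ψ.commutes, Ideal.Quotient.mk_algebraMap]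
      rw [this]
      exact ((IsLocalization.map_units A' s).map (algebraMap A' T)).map ψ
    obtain ⟨u, hu⟩ := h1
    obtain ⟨v, hv⟩ := Ideal.Quotient.mk_surjective (↑u⁻¹ : E ⧸ J)
    have h2 : algebraMap R E s * v - 1 ∈ J := by
      rw [← Ideal.Quotient.eq_zero_iff_mem, map_sub, map_mul, hv, ← hu, map_one]
      simp
    have h3 : IsUnit (algebraMap R E s * v) := by
      have : algebraMap R E s * v = 1 + (algebraMap R E s * v - 1) := by ring
      rw [this]
      exact (hnil _ h2).isUnit_one_add
    exact isUnit_of_mul_isUnit_left h3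
  letI : Algebra A' E := (IsLocalization.lift (M := M) (g := algebraMap R E) hunit).toAlgebra
  haveI : IsScalarTower R A' E := IsScalarTower.of_algebraMap_eq (fun r => by
    show algebraMap R E r = IsLocalization.lift (M := M) hunit (algebraMap R A' r)
    rw [IsLocalization.lift_eq])
  let ψ' : T →ₐ[A'] E ⧸ J :=
    { ψ.toRingHom with
      commutes' := fun a => by
        have h : (ψ.toRingHom.comp (algebraMap A' T)) = (algebraMap A' (E ⧸ J)) := by
          apply IsLocalization.ringHom_ext M
          ext r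
          show ψ (algebraMap A' T (algebraMap R A' r)) = algebraMap A' (E ⧸ J) (algebraMap R A' r)
          rw [← IsScalarTower.algebraMap_apply R A' T, ψ.commutes,
            ← IsScalarTower.algebraMap_apply R A' (E ⧸ J)]
        exact congrArg (fun f => f a) h }
  obtain ⟨χ, hχ⟩ := hfs E J hJ ψ' hψ
  refine ⟨χ.restrictScalars R, ?_⟩
  ext t
  exact congrArg (fun f => f t) hχ

end locbase

end Groth.Agent.Helper7.CKd
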