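import Mathlib
import Groth.Prelude.Def_CAlgX
import Groth.Agent.Helper3.ComplMap
import Groth.Agent.Helper7.CKt1
set_option autoImplicit false
set_option linter.style.haveILetI false
set_option linter.unusedSectionVars false
set_option linter.unusedVariables false
open TensorProduct IsLocalRing
universe u
namespace Groth.Agent.Helper7.CKd

section dual
variable {B T : Type u} [CommRing B] [CommRing T]

/-- the ring homomorphism to the dual numbers attached to a Leibniz pair. -/
noncomputable def leibHom (f : B →+* T) (d : B →+ T)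
    (hd : ∀ x y, d (x * y) = f x * d y + f y * d x) : B →+* DualNumber T :=
  have hd1 : d 1 = 0 := by
    have h := hd 1 1
    rw [mul_one, f.map_one, one_mul] at h
    have h2 : d 1 + 0 = d 1 + d 1 := by rw [add_zero]; exact h
    exact (add_left_cancel h2).symm
  { toFun := fun x => TrivSqZeroExt.inl (f x) + TrivSqZeroExt.inr (d x)
    map_one' := by
      rw [f.map_one, hd1, TrivSqZeroExt.inr_zero, add_zero]
      rfl
    map_mul' := fun x y => by
      apply TrivSqZeroExt.ext
      · simp [TrivSqZeroExt.fst_mul]
      · simp only [TrivSqZeroExt.snd_add, TrivSqZeroExt.snd_inl, TrivSqZeroExt.snd_inr, zero_add,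
          TrivSqZeroExt.snd_mul, TrivSqZeroExt.fst_add, TrivSqZeroExt.fst_inl,
          TrivSqZeroExt.fst_inr, add_zero, hd, MulOpposite.smul_eq_mul_unop,
          MulOpposite.unop_op, smul_eq_mul]
        ring
    map_zero' := by
      rw [f.map_zero, d.map_zero, TrivSqZeroExt.inr_zero, TrivSqZeroExt.inl_zero, add_zero]
    map_add' := fun x y => by
      rw [f.map_add, d.map_add, TrivSqZeroExt.inl_add, TrivSqZeroExt.inr_add]
      abel }

theorem fst_leibHom (f : B →+* T) (d : B →+ T)
    (hd : ∀ x y, d (x * y) = f x * d y + f y * d x) (x : B) : (leibHom f d hd x).fst = f x := by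
  show (TrivSqZeroExt.inl _ + TrivSqZeroExt.inr _ : DualNumber T).fst = _
  simp

theorem snd_leibHom (f : B →+* T) (d : B →+ T)
    (hd : ∀ x y, d (x * y) = f x * d y + f y * d x) (x : B) : (leibHom f d hd x).snd = d x := by
  show (TrivSqZeroExt.inl _ + TrivSqZeroExt.inr _ : DualNumber T).snd = _
  simp

/-- the Leibniz rule satisfied by the second component of a ring hom to the dual numbers. -/
theorem snd_map_mul (Φ : B →+* DualNumber T) (x y : B) :
    (Φ (x * y)).snd = (Φ x).fst * (Φ y).snd + (Φ y).fst * (Φ x).snd := by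
  rw [map_mul, TrivSqZeroExt.snd_mul]
  simp only [MulOpposite.smul_eq_mul_unop, MulOpposite.unop_op, smul_eq_mul]
  ring

/-- the first component as a ring hom. -/
noncomputable def fstRingHom (T : Type u) [CommRing T] : DualNumber T →+* T :=
  (TrivSqZeroExt.fstHom T T T).toRingHom

theorem fstRingHom_apply (x : DualNumber T) : fstRingHom T x = x.fst := rfl

/-- extension of a dual-number valued ring hom through a localization. -/
theorem exists_dual_ext_localization (M : Submonoid B) (B' : Type u) [CommRing B'] [Algebra B B']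
    [IsLocalization M B'] (Φ : B →+* DualNumber T) (hu : ∀ s : M, IsUnit (Φ s).fst) :
    ∃ Φ' : B' →+* DualNumber T, ∀ b, Φ' (algebraMap B B' b) = Φ b := by
  have hunits : ∀ s : M, IsUnit (Φ s) := fun s => by
    rw [TrivSqZeroExt.isUnit_iff_isUnit_fst]
    exact hu s
  exact ⟨IsLocalization.lift (M := M) hunits, fun b => IsLocalization.lift_eq _ _⟩

end dual

section cpl
variable (C : Type u) [CommRing C] [IsLocalRing C] [IsNoetherianRing C]
  (E : Type u) [CommRing E] [IsLocalRing E] [IsAdicComplete (maximalIdeal E) E]

/-- a local homomorphism to a complete local ring extends to the completion. -/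
theorem exists_ext_completion (Φ : C →+* E) (hΦ : (maximalIdeal C).map Φ ≤ maximalIdeal E) :
    ∃ Φ' : AdicCompletion (maximalIdeal C) C →+* E,
      ∀ c, Φ' (algebraMap C (AdicCompletion (maximalIdeal C) C) c) = Φ c := by
  refine ⟨((AdicCompletion.ofAlgEquiv (maximalIdeal E)).symm : _ →+* E).comp
    (Groth.Agent.Helper3.ComplMap.lift (maximalIdeal C) (maximalIdeal E) Φ hΦ), fun c => ?_⟩
  rw [RingHom.comp_apply, Groth.Agent.Helper3.ComplMap.lift_of]
  show (AdicCompletion.ofAlgEquiv (maximalIdeal E)).symm (algebraMap E _ (Φ c)) = Φ c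
  rw [AlgEquiv.commutes]
  rfl

end cpl

end Groth.Agent.Helper7.CKd
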