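import Mathlib
import Groth.Prelude.Def_CAlgX
import Groth.Agent.S0543
import Groth.Agent.Helper7.CKv2
set_option autoImplicit false
set_option linter.style.haveILetI false
set_option linter.unusedSectionVars false
set_option linter.unusedVariables false
open TensorProduct IsLocalRing
universe u
namespace Groth.Agent.Helper7.CKd

section locder
variable {B : Type u} [CommRing B]

/-- a derivation extends to a localization. -/
theorem exists_derivation_localization (M : Submonoid B) (B' : Type u) [CommRing B'] [Algebra B B']
    [IsLocalization M B'] (D : B →+ B)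
    (hD : ∀ a b, D (a * b) = a * D b + b * D a) :
    ∃ D' : B' →+ B', (∀ a b, D' (a * b) = a * D' b + b * D' a) ∧
      ∀ b, D' (algebraMap B B' b) = algebraMap B B' (D b) := by
  let g : B →+* B' := algebraMap B B'
  let d : B →+ B' := g.toAddMonoidHom.comp D
  have hd : ∀ x y, d (x * y) = g x * d y + g y * d x := by
    intro x y
    show g (D (x * y)) = g x * g (D y) + g y * g (D x)
    rw [hD, map_add, map_mul, map_mul]
  let Ψ : B →+* DualNumber B' := leibHom g d hd
  obtain ⟨Φ, hΦ⟩ := exists_dual_ext_localization M B' Ψ (fun s => by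
    rw [fst_leibHom]
    exact IsLocalization.map_units B' s)
  have hfst : ∀ y, (Φ y).fst = y := by
    have h : (fstRingHom B').comp Φ = RingHom.id B' := by
      apply IsLocalization.ringHom_ext M
      refine RingHom.ext fun b => ?_
      show (Φ (algebraMap B B' b)).fst = algebraMap B B' b
      rw [hΦ, fst_leibHom]
    intro y
    exact congrArg (fun f => f y) h
  let D' : B' →+ B' :=
    { toFun := fun y => (Φ y).snd
      map_zero' := by rw [map_zero]; rfl
      map_add' := fun x y => by rw [map_add, TrivSqZeroExt.snd_add] }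
  refine ⟨D', ?_, ?_⟩
  · intro a b
    show (Φ (a * b)).snd = a * (Φ b).snd + b * (Φ a).snd
    rw [snd_map_mul, hfst, hfst]
  · intro b
    show (Φ (algebraMap B B' b)).snd = _
    rw [hΦ, snd_leibHom]
    rfl

end locder

section main
variable (R : Type u) [CommRing R] [IsNoetherianRing R] (n : ℕ)
  (q : Ideal (MvPolynomial (Fin n) R)) [q.IsPrime]

/-- the partial derivatives extend to the completion of the local ring of `R[X_1..X_n]` at `q`. -/
theorem exists_derivation_cpl (i : Fin n) :
    ∃ D : AdicCompletion (maximalIdeal (Localization.AtPrime q)) (Localization.AtPrime q) →+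
        AdicCompletion (maximalIdeal (Localization.AtPrime q)) (Localization.AtPrime q),
      (∀ a b, D (a * b) = a * D b + b * D a) ∧
      (∀ r : R, D (algebraMap R _ r) = 0) ∧
      (∀ j, D (algebraMap (MvPolynomial (Fin n) R) _ (MvPolynomial.X j)) =
        if i = j then 1 else 0) := by
  haveI : IsNoetherianRing (Localization.AtPrime q) :=
    IsLocalization.isNoetherianRing q.primeCompl _ inferInstance
  haveI : IsNoetherianRing (AdicCompletion (maximalIdeal (Localization.AtPrime q))
      (Localization.AtPrime q)) := Groth.Agent.S0543.result _ _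
  obtain ⟨Ch, hCh⟩ : ∃ Ch : Type u, Ch = AdicCompletion (maximalIdeal (Localization.AtPrime q))
      (Localization.AtPrime q) := ⟨_, rfl⟩
  haveI := isLocalRing_dualNumber (AdicCompletion (maximalIdeal (Localization.AtPrime q))
      (Localization.AtPrime q))
  haveI := isAdicComplete_dualNumber (AdicCompletion (maximalIdeal (Localization.AtPrime q))
      (Localization.AtPrime q))
  let ι₀ : MvPolynomial (Fin n) R →+* AdicCompletion (maximalIdeal (Localization.AtPrime q))
      (Localization.AtPrime q) := algebraMap _ _
  let Φ₀ : MvPolynomial (Fin n) R →+* DualNumber (AdicCompletion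
      (maximalIdeal (Localization.AtPrime q)) (Localization.AtPrime q)) :=
    MvPolynomial.eval₂Hom ((TrivSqZeroExt.inlHom _ _).comp (algebraMap R _))
      (fun j => TrivSqZeroExt.inl (ι₀ (MvPolynomial.X j)) +
        if i = j then TrivSqZeroExt.inr 1 else 0)
  have hΦ₀C : ∀ r, Φ₀ (MvPolynomial.C r) = TrivSqZeroExt.inl (algebraMap R _ r) := by
    intro r
    show MvPolynomial.eval₂Hom _ _ (MvPolynomial.C r) = _
    rw [MvPolynomial.eval₂Hom_C]
    rfl
  have hΦ₀X : ∀ j, Φ₀ (MvPolynomial.X j) = TrivSqZeroExt.inl (ι₀ (MvPolynomial.X j)) +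
        if i = j then TrivSqZeroExt.inr 1 else 0 := by
    intro j
    show MvPolynomial.eval₂Hom _ _ (MvPolynomial.X j) = _
    rw [MvPolynomial.eval₂Hom_X']
  have hΦ₀fst : ∀ f, (Φ₀ f).fst = ι₀ f := by
    have h : (fstRingHom _).comp Φ₀ = ι₀ := by
      apply MvPolynomial.ringHom_ext
      · intro r
        show (Φ₀ (MvPolynomial.C r)).fst = ι₀ (MvPolynomial.C r)
        rw [hΦ₀C, TrivSqZeroExt.fst_inl]
        show algebraMap R _ r = algebraMap (MvPolynomial (Fin n) R) _ (algebraMap R _ r)
        rw [AdicCompletion.algebraMap_apply, AdicCompletion.algebraMap_apply,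
          ← IsScalarTower.algebraMap_apply]
      · intro j
        show (Φ₀ (MvPolynomial.X j)).fst = ι₀ (MvPolynomial.X j)
        rw [hΦ₀X]
        split_ifs <;> simp
    intro f
    exact congrArg (fun g => g f) h
  obtain ⟨Φ₁, hΦ₁⟩ := exists_dual_ext_localization q.primeCompl (Localization.AtPrime q) Φ₀
    (fun s => by
      rw [hΦ₀fst]
      exact (IsLocalization.map_units (Localization.AtPrime q) s).map
        (algebraMap (Localization.AtPrime q) (AdicCompletion (maximalIdeal (Localization.AtPrime q))
          (Localization.AtPrime q))))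
  have hΦ₁fst : ∀ c, (Φ₁ c).fst = algebraMap (Localization.AtPrime q) _ c := by
    have h : (fstRingHom _).comp Φ₁ = algebraMap (Localization.AtPrime q) _ := by
      apply IsLocalization.ringHom_ext q.primeCompl
      refine RingHom.ext fun f => ?_
      show (Φ₁ (algebraMap _ _ f)).fst = algebraMap (Localization.AtPrime q) _ (algebraMap _ _ f)
      rw [hΦ₁, hΦ₀fst]
      rfl
    intro c
    exact congrArg (fun g => g c) h
  have hloc : (maximalIdeal (Localization.AtPrime q)).map Φ₁ ≤ maximalIdeal (DualNumber _) := by
    rw [Ideal.map_le_iff_le_comap]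
    intro c hc
    rw [Ideal.mem_comap, mem_maximalIdeal_dualNumber, hΦ₁fst, AdicCompletion.maximalIdeal_eq_map]
    exact Ideal.mem_map_of_mem _ hc
  obtain ⟨Φ₂, hΦ₂⟩ := exists_ext_completion (Localization.AtPrime q) (DualNumber _) Φ₁ hloc
  have hΦ₂fst : ∀ y, (Φ₂ y).fst = y := by
    have h : (fstRingHom _).comp Φ₂ = RingHom.id _ := by
      apply Groth.Agent.Helper3.ComplMap.ringHom_ext (maximalIdeal (Localization.AtPrime q))
        (maximalIdeal (AdicCompletion (maximalIdeal (Localization.AtPrime q))
          (Localization.AtPrime q)))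
      · refine RingHom.ext fun c => ?_
        show (Φ₂ (algebraMap _ _ c)).fst = algebraMap _ _ c
        rw [hΦ₂, hΦ₁fst]
      · rw [AdicCompletion.maximalIdeal_eq_map]
        apply le_of_eq
        congr 1
        refine RingHom.ext fun c => ?_
        show (Φ₂ (algebraMap _ _ c)).fst = algebraMap _ _ c
        rw [hΦ₂, hΦ₁fst]
    intro y
    exact congrArg (fun g => g y) h
  let D : AdicCompletion (maximalIdeal (Localization.AtPrime q)) (Localization.AtPrime q) →+
      AdicCompletion (maximalIdeal (Localization.AtPrime q)) (Localization.AtPrime q) :=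
    { toFun := fun y => (Φ₂ y).snd
      map_zero' := by rw [map_zero]; rfl
      map_add' := fun x y => by rw [map_add, TrivSqZeroExt.snd_add] }
  have hDpoly : ∀ f : MvPolynomial (Fin n) R, D (algebraMap _ _ f) = (Φ₀ f).snd := by
    intro f
    show (Φ₂ (algebraMap (MvPolynomial (Fin n) R) (AdicCompletion _ _) f)).snd = _
    have : algebraMap (MvPolynomial (Fin n) R) (AdicCompletion (maximalIdeal
        (Localization.AtPrime q)) (Localization.AtPrime q)) f =
        algebraMap (Localization.AtPrime q) _ (algebraMap _ (Localization.AtPrime q) f) := rfl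
    rw [this, hΦ₂, hΦ₁]
  refine ⟨D, ?_, ?_, ?_⟩
  · intro a b
    show (Φ₂ (a * b)).snd = a * (Φ₂ b).snd + b * (Φ₂ a).snd
    rw [snd_map_mul, hΦ₂fst, hΦ₂fst]
  · intro r
    have : algebraMap R (AdicCompletion (maximalIdeal (Localization.AtPrime q))
        (Localization.AtPrime q)) r = algebraMap (MvPolynomial (Fin n) R) _ (MvPolynomial.C r) := by
      rw [AdicCompletion.algebraMap_apply, AdicCompletion.algebraMap_apply,
        IsScalarTower.algebraMap_apply R (MvPolynomial (Fin n) R) (Localization.AtPrime q) r]
      rfl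
    rw [this, hDpoly, hΦ₀C, TrivSqZeroExt.snd_inl]
  · intro j
    rw [hDpoly, hΦ₀X]
    split_ifs <;> simp

end main

end Groth.Agent.Helper7.CKd
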