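import Mathlib
import Groth.Prelude.Def_CAlgX
import Groth.Prelude.Def_CAlg
import Groth.Prelude.Def_EGA41
import Groth.Agent.S0543
import Groth.Agent.S2461
import Groth.Agent.S4537
import Groth.Agent.Helper7.CKt14
import Groth.Agent.Helper7.CKr5
import Groth.Agent.Helper7.CKq2
import Groth.Agent.Helper7.CKu3
import Groth.Agent.Helper7.CKv1
import Groth.Agent.Helper7.CKv3
set_option autoImplicit false
set_option linter.style.haveILetI false
set_option linter.unusedSectionVars false
set_option linter.unusedVariables false
set_option maxHeartbeats 1000000
open TensorProduct IsLocalRing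
universe u
namespace Groth.Agent.Helper7.CKd

section main
variable (R : Type u) [CommRing R] (n : ℕ)
  (q : Ideal (MvPolynomial (Fin n) R)) [q.IsPrime]

/-- **Theorem M**: for a G-ring `R`, the local rings of `R[X_1..X_n]` have regular completion
maps. -/
theorem isRegularHom_cpl_mvPolynomial_atPrime (hR : CAlg.IsGRing R) :
    CAlg.IsRegularHom (Localization.AtPrime q)
      (AdicCompletion (maximalIdeal (Localization.AtPrime q)) (Localization.AtPrime q)) := by
  haveI : IsNoetherianRing R := hR.1
  haveI : IsNoetherianRing (Localization.AtPrime q) :=
    IsLocalization.isNoetherianRing q.primeCompl _ inferInstance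
  haveI : IsNoetherianRing (AdicCompletion (maximalIdeal (Localization.AtPrime q))
      (Localization.AtPrime q)) := Groth.Agent.S0543.result _ _
  -- the local base ring
  obtain ⟨p, hp⟩ : ∃ p : Ideal R, p = q.comap (algebraMap R (MvPolynomial (Fin n) R)) := ⟨_, rfl⟩
  haveI : p.IsPrime := hp ▸ Ideal.comap_isPrime _ _
  haveI : IsNoetherianRing (Localization.AtPrime p) :=
    IsLocalization.isNoetherianRing p.primeCompl _ inferInstance
  letI algAC : Algebra (Localization.AtPrime p) (Localization.AtPrime q) :=
    (Localization.localRingHom p q (algebraMap R (MvPolynomial (Fin n) R)) hp).toAlgebra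
  haveI : IsScalarTower R (Localization.AtPrime p) (Localization.AtPrime q) :=
    IsScalarTower.of_algebraMap_eq (fun r => by
      show algebraMap R (Localization.AtPrime q) r =
        Localization.localRingHom p q _ hp (algebraMap R _ r)
      rw [Localization.localRingHom_to_map]
      exact IsScalarTower.algebraMap_apply R (MvPolynomial (Fin n) R) (Localization.AtPrime q) r)
  haveI hlocAC : IsLocalHom (algebraMap (Localization.AtPrime p) (Localization.AtPrime q)) :=
    Localization.isLocalHom_localRingHom _ _ _ hp
  -- formal smoothness
  haveI : Algebra.FormallySmooth R (Localization.AtPrime q) := inferInstance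
  haveI : Algebra.FormallySmooth (Localization.AtPrime p) (Localization.AtPrime q) :=
    Algebra.FormallySmooth.localization_base p.primeCompl
  have h0 : CAlgX.IsAdicFormallySmooth (Localization.AtPrime p) (Localization.AtPrime q)
      (maximalIdeal (Localization.AtPrime q)) := adic_of_formallySmooth _
  have h1 := (Groth.Agent.S2461.result (⊥ : Ideal (Localization.AtPrime p))
    (maximalIdeal (Localization.AtPrime q))).mp ((Groth.Agent.S4537.result _).mp h0)
  have h2 := (Groth.Agent.S4537.result _).mpr h1
  rw [← AdicCompletion.maximalIdeal_eq_map] at h2
  haveI hlocACh : IsLocalHom (algebraMap (Localization.AtPrime p)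
      (AdicCompletion (maximalIdeal (Localization.AtPrime q)) (Localization.AtPrime q))) := by
    have : algebraMap (Localization.AtPrime p)
        (AdicCompletion (maximalIdeal (Localization.AtPrime q)) (Localization.AtPrime q)) =
        (algebraMap (Localization.AtPrime q) _).comp
          (algebraMap (Localization.AtPrime p) (Localization.AtPrime q)) := rfl
    rw [this]
    exact RingHom.isLocalHom_comp _ _
  have hAreg : CAlg.IsRegularHom (Localization.AtPrime p)
      (AdicCompletion (maximalIdeal (Localization.AtPrime p)) (Localization.AtPrime p)) := hR.2 p
  have h3 : CAlg.IsRegularHom (Localization.AtPrime p)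
      (AdicCompletion (maximalIdeal (Localization.AtPrime q)) (Localization.AtPrime q)) :=
    s9314 hAreg h2
  -- now the local criterion
  apply isRegularHom_of_forall_adic
  intro P _ Q _ _ _ _
  obtain ⟨𝔭', h𝔭'⟩ : ∃ 𝔭' : Ideal (Localization.AtPrime p), 𝔭' = Q.comap (algebraMap _ _) :=
    ⟨_, rfl⟩
  haveI : 𝔭'.IsPrime := h𝔭' ▸ Ideal.comap_isPrime _ _
  letI alg' : Algebra (Localization.AtPrime 𝔭') (Localization.AtPrime Q) :=
    (Localization.localRingHom 𝔭' Q (algebraMap _ _) h𝔭').toAlgebra
  have h4 : CAlgX.IsAdicFormallySmooth (Localization.AtPrime 𝔭') (Localization.AtPrime Q)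
      (maximalIdeal (Localization.AtPrime Q)) := by
    subst h𝔭'
    exact (s19864 _ _).mp h3 Q
  haveI : IsScalarTower (Localization.AtPrime p) (Localization.AtPrime 𝔭') (Localization.AtPrime Q) :=
    IsScalarTower.of_algebraMap_eq (fun a => by
      show algebraMap (Localization.AtPrime p) (Localization.AtPrime Q) a =
        Localization.localRingHom 𝔭' Q _ h𝔭' (algebraMap _ _ a)
      rw [Localization.localRingHom_to_map]
      exact IsScalarTower.algebraMap_apply _ (AdicCompletion (maximalIdeal (Localization.AtPrime q))
        (Localization.AtPrime q)) _ a)
  have h5 : CAlgX.IsAdicFormallySmooth (Localization.AtPrime p) (Localization.AtPrime Q)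
      (maximalIdeal (Localization.AtPrime Q)) :=
    adic_of_isLocalization_base (A' := Localization.AtPrime 𝔭') 𝔭'.primeCompl _ h4
  haveI : IsScalarTower R (Localization.AtPrime p) (Localization.AtPrime Q) :=
    IsScalarTower.of_algebraMap_eq (fun r => by
      rw [IsScalarTower.algebraMap_apply R (AdicCompletion (maximalIdeal (Localization.AtPrime q))
        (Localization.AtPrime q)) (Localization.AtPrime Q),
        IsScalarTower.algebraMap_apply (Localization.AtPrime p) (AdicCompletion (maximalIdeal
        (Localization.AtPrime q)) (Localization.AtPrime q)) (Localization.AtPrime Q),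
        AdicCompletion.algebraMap_apply, AdicCompletion.algebraMap_apply,
        ← IsScalarTower.algebraMap_apply R (Localization.AtPrime p) (Localization.AtPrime q)])
  have h6 : CAlgX.IsAdicFormallySmooth R (Localization.AtPrime Q)
      (maximalIdeal (Localization.AtPrime Q)) :=
    adic_of_isLocalization_base (A' := Localization.AtPrime p) p.primeCompl _ h5
  -- the derivations
  choose Dh hDh1 hDh2 hDh3 using exists_derivation_cpl R n q
  choose D hD1 hD2 using fun i => exists_derivation_localization Q.primeCompl
    (Localization.AtPrime Q) (Dh i) (hDh1 i)
  haveI : IsScalarTower R (Localization.AtPrime P) (Localization.AtPrime Q) :=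
    IsScalarTower.of_algebraMap_eq (fun r => by
      rw [IsScalarTower.algebraMap_apply R (Localization.AtPrime q) (Localization.AtPrime P),
        ← IsScalarTower.algebraMap_apply (Localization.AtPrime q) (Localization.AtPrime P)
          (Localization.AtPrime Q),
        IsScalarTower.algebraMap_apply R (AdicCompletion (maximalIdeal (Localization.AtPrime q))
        (Localization.AtPrime q)) (Localization.AtPrime Q),
        IsScalarTower.algebraMap_apply (Localization.AtPrime q) (AdicCompletion (maximalIdeal
        (Localization.AtPrime q)) (Localization.AtPrime q)) (Localization.AtPrime Q)]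
      rfl)
  have hpoly : ∀ f : MvPolynomial (Fin n) R,
      algebraMap (Localization.AtPrime P) (Localization.AtPrime Q)
        (algebraMap (MvPolynomial (Fin n) R) (Localization.AtPrime P) f) =
      algebraMap (AdicCompletion (maximalIdeal (Localization.AtPrime q)) (Localization.AtPrime q))
        (Localization.AtPrime Q) (algebraMap (MvPolynomial (Fin n) R) _ f) := by
    intro f
    rw [IsScalarTower.algebraMap_apply (MvPolynomial (Fin n) R) (Localization.AtPrime q)
        (Localization.AtPrime P),
      ← IsScalarTower.algebraMap_apply (Localization.AtPrime q) (Localization.AtPrime P)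
          (Localization.AtPrime Q),
      IsScalarTower.algebraMap_apply (Localization.AtPrime q) (AdicCompletion (maximalIdeal
        (Localization.AtPrime q)) (Localization.AtPrime q)) (Localization.AtPrime Q)]
    rfl
  refine adic_of_derivations (A := R) (maximalIdeal (Localization.AtPrime Q)) h6
    (fun j => algebraMap (MvPolynomial (Fin n) R) (Localization.AtPrime P) (MvPolynomial.X j))
    D hD1 ?_ ?_ ?_
  · intro i r
    rw [IsScalarTower.algebraMap_apply R (AdicCompletion (maximalIdeal (Localization.AtPrime q))
        (Localization.AtPrime q)) (Localization.AtPrime Q), hD2, hDh2, map_zero]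
  · intro i j
    rw [hpoly, hD2, hDh3]
    split_ifs <;> simp
  · intro E _ f g hfg hx
    apply IsLocalization.ringHom_ext P.primeCompl
    apply IsLocalization.ringHom_ext q.primeCompl
    apply MvPolynomial.ringHom_ext
    · intro r
      have h := congrArg (fun φ => φ r) hfg
      have e : algebraMap R (Localization.AtPrime P) r =
          algebraMap (Localization.AtPrime q) (Localization.AtPrime P)
            (algebraMap (MvPolynomial (Fin n) R) (Localization.AtPrime q) (MvPolynomial.C r)) := by
        rw [IsScalarTower.algebraMap_apply R (Localization.AtPrime q) (Localization.AtPrime P),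
          IsScalarTower.algebraMap_apply R (MvPolynomial (Fin n) R) (Localization.AtPrime q)]
        rfl
      show f (algebraMap (Localization.AtPrime q) (Localization.AtPrime P)
            (algebraMap (MvPolynomial (Fin n) R) (Localization.AtPrime q) (MvPolynomial.C r))) =
        g (algebraMap (Localization.AtPrime q) (Localization.AtPrime P)
            (algebraMap (MvPolynomial (Fin n) R) (Localization.AtPrime q) (MvPolynomial.C r)))
      rw [← e]
      exact h
    · intro j
      have h := hx j
      have e : algebraMap (MvPolynomial (Fin n) R) (Localization.AtPrime P) (MvPolynomial.X j) =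
          algebraMap (Localization.AtPrime q) (Localization.AtPrime P)
            (algebraMap (MvPolynomial (Fin n) R) (Localization.AtPrime q) (MvPolynomial.X j)) :=
        IsScalarTower.algebraMap_apply _ _ _ _
      show f (algebraMap (Localization.AtPrime q) (Localization.AtPrime P)
            (algebraMap (MvPolynomial (Fin n) R) (Localization.AtPrime q) (MvPolynomial.X j))) =
        g (algebraMap (Localization.AtPrime q) (Localization.AtPrime P)
            (algebraMap (MvPolynomial (Fin n) R) (Localization.AtPrime q) (MvPolynomial.X j)))
      rw [← e]
      exact h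

end main

end Groth.Agent.Helper7.CKd
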