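import Mathlib
import Groth.Prelude.Def_Found
import Groth.Prelude.Def_EGA4b
import Groth.Agent.S4737
import Groth.Agent.Helper2.GLoc
import Groth.Agent.Helper7.CKv4
set_option autoImplicit false
set_option linter.style.haveILetI false
set_option linter.unusedSectionVars false
set_option linter.unusedVariables false
open TensorProduct IsLocalRing
universe u
namespace Groth.Agent.Helper7.CKd

/-- a surjective image of a G-ring is a G-ring. -/
theorem isGRing_of_surjective {R S : Type u} [CommRing R] [CommRing S] (f : R →+* S)
    (hf : Function.Surjective f) (hR : CAlg.IsGRing R) : CAlg.IsGRing S := by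
  haveI : IsNoetherianRing R := hR.1
  haveI : IsNoetherianRing S := isNoetherianRing_of_surjective R S f hf
  refine ⟨inferInstance, fun Q _ => ?_⟩
  haveI : IsNoetherianRing (Localization.AtPrime (Q.comap f)) :=
    IsLocalization.isNoetherianRing (Q.comap f).primeCompl _ inferInstance
  haveI : IsNoetherianRing (Localization.AtPrime Q) :=
    IsLocalization.isNoetherianRing Q.primeCompl _ inferInstance
  have hφ := RingHom.surjective_localRingHom_of_surjective f hf Q
  let e := RingHom.quotientKerEquivOfSurjective hφ
  haveI : Nontrivial (Localization.AtPrime (Q.comap f) ⧸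
      RingHom.ker (Localization.localRingHom (Q.comap f) Q f rfl)) := e.nontrivial
  have h1 := Groth.Agent.S4737.result (Localization.AtPrime (Q.comap f)) (hR.2 (Q.comap f))
    (RingHom.ker (Localization.localRingHom (Q.comap f) Q f rfl))
  exact Groth.Agent.Helper2.GLoc.isRegularHom_cpl_of_ringEquiv e h1

/-- polynomial rings over G-rings are G-rings. -/
theorem isGRing_mvPolynomial (R : Type u) [CommRing R] (hR : CAlg.IsGRing R) (n : ℕ) :
    CAlg.IsGRing (MvPolynomial (Fin n) R) := by
  haveI : IsNoetherianRing R := hR.1
  exact ⟨inferInstance, fun q _ => isRegularHom_cpl_mvPolynomial_atPrime R n q hR⟩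

/-- **finite type algebras over G-rings are G-rings.** -/
theorem s0599 (R : Type u) [CommRing R] (hR : CAlg.IsGRing R) (S : Type u)
    [CommRing S] [Algebra R S] [Algebra.FiniteType R S] : CAlg.IsGRing S := by
  obtain ⟨n, f, hf⟩ := Algebra.FiniteType.iff_quotient_mvPolynomial''.mp
    (inferInstance : Algebra.FiniteType R S)
  exact isGRing_of_surjective (f : MvPolynomial (Fin n) R →+* S) hf (isGRing_mvPolynomial R hR n)

end Groth.Agent.Helper7.CKd
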