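import Mathlib
import Groth.Prelude

/-!
# The integral closure of a reduced ring with finitely many minimal primes in its total ring
of fractions is the product of the normalizations of its irreducible components
-/

set_option autoImplicit false
set_option linter.style.haveILetI false
set_option linter.unusedSectionVars false

namespace Groth.Agent.Helper7.NormProd

universe u

variable {A : Type u} [CommRing A] {ι : Type u} [Fintype ι] [DecidableEq ι]
  (p : ι → Ideal A) [hp : ∀ i, (p i).IsPrime]

/-- the standing hypotheses: the `p i` are pairwise incomparable primes with zero intersection,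
avoided by all nonzerodivisors -/
structure Good : Prop where
  inf_eq : ∀ a : A, (∀ i, a ∈ p i) → a = 0
  incomp : ∀ i j, i ≠ j → ¬ p j ≤ p i
  nzd : ∀ t ∈ nonZeroDivisors A, ∀ i, t ∉ p i

variable {p}

theorem Good.mem_nzd (h : Good p) {t : A} (ht : ∀ i, t ∉ p i) : t ∈ nonZeroDivisors A := by
  rw [mem_nonZeroDivisors_iff_right]
  intro x hx
  apply h.inf_eq
  intro i
  have : x * t ∈ p i := by rw [hx]; exact (p i).zero_mem
  exact ((hp i).mem_or_mem this).resolve_right (ht i)

/-- elements `e i` with `e i ∉ p i` and `e i ∈ p j` for `j ≠ i` -/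
theorem Good.exists_e (h : Good p) :
    ∃ e : ι → A, (∀ i, e i ∉ p i) ∧ ∀ i j, j ≠ i → e i ∈ p j := by
  have hc : ∀ i j, ∃ c : A, c ∉ p i ∧ (j ≠ i → c ∈ p j) := by
    intro i j
    by_cases hij : j = i
    · exact ⟨1, fun h1 => (hp i).ne_top ((Ideal.eq_top_iff_one _).2 h1), fun hne => absurd hij hne⟩
    · obtain ⟨c, hcj, hci⟩ := SetLike.not_le_iff_exists.1 (h.incomp i j (Ne.symm hij))
      exact ⟨c, hci, fun _ => hcj⟩
  choose c hci hcj using hc
  refine ⟨fun i => ∏ j, c i j, ?_, ?_⟩
  · intro i hmem
    obtain ⟨j, -, hj⟩ := ((hp i).prod_mem_iff).1 hmem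
    exact hci i j hj
  · intro i j hji
    obtain ⟨d, hd⟩ := Finset.dvd_prod_of_mem (c i) (Finset.mem_univ j)
    change ∏ j, c i j ∈ p j
    rw [hd]
    exact (p j).mul_mem_right _ (hcj i j hji)

variable (p)

/-- the fraction field of the `i`-th component -/
abbrev F (i : ι) : Type u := FractionRing (A ⧸ p i)

/-- the map `A → Frac (A / p i)` -/
noncomputable def g (i : ι) : A →+* F p i :=
  (algebraMap (A ⧸ p i) (F p i)).comp (Ideal.Quotient.mk (p i))

variable {p}

theorem g_eq_zero_iff (i : ι) (a : A) : g p i a = 0 ↔ a ∈ p i := by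
  unfold g
  rw [RingHom.comp_apply, map_eq_zero_iff _ (IsFractionRing.injective (A ⧸ p i) (F p i)),
    Ideal.Quotient.eq_zero_iff_mem]

theorem Good.isUnit_g (h : Good p) (i : ι) (t : nonZeroDivisors A) : IsUnit (g p i t) := by
  rw [isUnit_iff_ne_zero, Ne, g_eq_zero_iff]
  exact h.nzd t.1 t.2 i

/-- the `i`-th projection from the total ring of fractions -/
noncomputable def φ (h : Good p) (i : ι) : FractionRing A →+* F p i :=
  IsLocalization.lift (M := nonZeroDivisors A) (g := g p i) (h.isUnit_g i)

theorem φ_algebraMap (h : Good p) (i : ι) (a : A) :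
    φ h i (algebraMap A (FractionRing A) a) = g p i a :=
  IsLocalization.lift_eq _ _

theorem φ_mk' (h : Good p) (i : ι) (a : A) (t : nonZeroDivisors A) :
    φ h i (IsLocalization.mk' (FractionRing A) a t) * g p i t = g p i a := by
  rw [← φ_algebraMap h i t, ← map_mul, IsLocalization.mk'_spec, φ_algebraMap]

theorem φ_eq_zero_iff (h : Good p) (i : ι) (a : A) (t : nonZeroDivisors A) :
    φ h i (IsLocalization.mk' (FractionRing A) a t) = 0 ↔ a ∈ p i := by
  rw [← g_eq_zero_iff, ← φ_mk' h i a t]
  constructor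
  · intro h0; rw [h0, zero_mul]
  · intro h0
    exact (mul_eq_zero.1 h0).resolve_right (h.isUnit_g i t).ne_zero

theorem eq_zero_of_forall_φ (h : Good p) (x : FractionRing A) (hx : ∀ i, φ h i x = 0) : x = 0 := by
  obtain ⟨a, t, rfl⟩ := IsLocalization.exists_mk'_eq (nonZeroDivisors A) x
  have : a = 0 := h.inf_eq a fun i => (φ_eq_zero_iff h i a t).1 (hx i)
  rw [this, IsLocalization.mk'_zero]

theorem isIntegral_φ (h : Good p) (i : ι) (x : FractionRing A) (hx : IsIntegral A x) :
    IsIntegral (A ⧸ p i) (φ h i x) := by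
  refine hx.map_of_comp_eq (Ideal.Quotient.mk (p i)) (φ h i) ?_
  ext a
  simp only [RingHom.comp_apply]
  rw [φ_algebraMap]
  rfl

theorem g_eq_of_sub_mem (i : ι) {a b : A} (hab : a - b ∈ p i) : g p i a = g p i b := by
  rw [← sub_eq_zero, ← map_sub, g_eq_zero_iff]
  exact hab

theorem exists_preimage (h : Good p) (i : ι) (y : F p i) (hy : IsIntegral (A ⧸ p i) y) :
    ∃ x : FractionRing A, IsIntegral A x ∧ φ h i x = y ∧ ∀ j, j ≠ i → φ h j x = 0 := by
  classical
  obtain ⟨e, hei, hej⟩ := h.exists_e
  -- write `y` as a fraction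
  obtain ⟨ab, bb, rfl⟩ := IsLocalization.exists_mk'_eq (nonZeroDivisors (A ⧸ p i)) y
  obtain ⟨a, rfl⟩ := Ideal.Quotient.mk_surjective ab
  obtain ⟨b, hb⟩ := Ideal.Quotient.mk_surjective bb.1
  have hbp : b ∉ p i := by
    intro hmem
    have : (bb : A ⧸ p i) = 0 := by rw [← hb]; exact Ideal.Quotient.eq_zero_iff_mem.2 hmem
    exact nonZeroDivisors.coe_ne_zero bb this
  set y := IsLocalization.mk' (F p i) (Ideal.Quotient.mk (p i) a) bb with hy_def
  have hyb : y * g p i b = g p i a := by
    have := IsLocalization.mk'_spec (F p i) (Ideal.Quotient.mk (p i) a) bb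
    rw [← hb] at this
    exact this
  -- the denominator
  set T : A := b * e i + ∑ j ∈ Finset.univ.erase i, e j with hT
  have hsum_mem : ∑ j ∈ Finset.univ.erase i, e j ∈ p i :=
    Ideal.sum_mem _ fun j hj => hej j i (Finset.ne_of_mem_erase hj).symm
  have hTi : T - b * e i ∈ p i := by
    rw [hT, add_sub_cancel_left]; exact hsum_mem
  have hTj : ∀ j, j ≠ i → T - e j ∈ p j := by
    intro j hji
    have h1 : ∑ l ∈ Finset.univ.erase i, e l = e j + ∑ l ∈ (Finset.univ.erase i).erase j, e l := by
      rw [Finset.add_sum_erase _ _ (Finset.mem_erase.2 ⟨hji, Finset.mem_univ j⟩)]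
    rw [hT, h1]
    have h2 : b * e i + (e j + ∑ l ∈ (Finset.univ.erase i).erase j, e l) - e j =
        b * e i + ∑ l ∈ (Finset.univ.erase i).erase j, e l := by ring
    rw [h2]
    refine (p j).add_mem ((p j).mul_mem_left _ (hej i j hji)) (Ideal.sum_mem _ fun l hl => ?_)
    exact hej l j (Finset.ne_of_mem_erase hl).symm
  have hTnzd : T ∈ nonZeroDivisors A := by
    apply h.mem_nzd
    intro j hmem
    by_cases hji : j = i
    · subst hji
      have : b * e j ∈ p j := by
        have := (p j).sub_mem hmem hTi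
        simpa using this
      rcases (hp j).mem_or_mem this with h1 | h1
      · exact hbp h1
      · exact hei j h1
    · have : e j ∈ p j := by
        have := (p j).sub_mem hmem (hTj j hji)
        simpa using this
      exact hei j this
  set x : FractionRing A := IsLocalization.mk' (FractionRing A) (a * e i) ⟨T, hTnzd⟩ with hx
  have hxi : φ h i x = y := by
    have h1 := φ_mk' h i (a * e i) ⟨T, hTnzd⟩
    rw [← hx] at h1
    have h2 : g p i T = g p i (b * e i) := g_eq_of_sub_mem i hTi
    rw [show ((⟨T, hTnzd⟩ : nonZeroDivisors A) : A) = T from rfl, h2, map_mul, map_mul, ← hyb] at h1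
    have hne : g p i b * g p i (e i) ≠ 0 := by
      apply mul_ne_zero
      · rw [Ne, g_eq_zero_iff]; exact hbp
      · rw [Ne, g_eq_zero_iff]; exact hei i
    apply mul_right_cancel₀ hne
    rw [h1]; ring
  have hxj : ∀ j, j ≠ i → φ h j x = 0 := by
    intro j hji
    rw [hx, φ_eq_zero_iff]
    exact (p j).mul_mem_left _ (hej i j hji)
  refine ⟨x, ?_, hxi, hxj⟩
  -- integrality
  obtain ⟨f, hfm, hfy⟩ := hy
  obtain ⟨f', hf', -, hf'm⟩ := Polynomial.lifts_and_degree_eq_and_monic
    ((Polynomial.mem_lifts f).2 (Polynomial.map_surjective _ Ideal.Quotient.mk_surjective f)) hfm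
  refine ⟨Polynomial.X * f', Polynomial.monic_X.mul hf'm, ?_⟩
  apply eq_zero_of_forall_φ h
  intro j
  rw [Polynomial.eval₂_mul, Polynomial.eval₂_X, map_mul]
  by_cases hji : j = i
  · subst hji
    have : φ h j (Polynomial.eval₂ (algebraMap A (FractionRing A)) x f') = 0 := by
      rw [Polynomial.hom_eval₂, hxi]
      have hcomp : (φ h j).comp (algebraMap A (FractionRing A)) =
          (algebraMap (A ⧸ p j) (F p j)).comp (Ideal.Quotient.mk (p j)) := by
        ext a'
        simp only [RingHom.comp_apply]
        rw [φ_algebraMap]; rfl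
      rw [hcomp, ← Polynomial.eval₂_map, hf']
      exact hfy
    rw [this, mul_zero]
  · rw [hxj j hji, zero_mul]

/-- the comparison map from the integral closure in the total ring of fractions to the product
of the normalizations -/
noncomputable def Φ (h : Good p) :
    integralClosure A (FractionRing A) →+* (∀ i, integralClosure (A ⧸ p i) (F p i)) :=
  RingHom.pi fun i =>
    ((φ h i).comp (integralClosure A (FractionRing A)).val.toRingHom).codRestrict
      (integralClosure (A ⧸ p i) (F p i)) (fun x => isIntegral_φ h i x.1 x.2)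

theorem Φ_apply (h : Good p) (x : integralClosure A (FractionRing A)) (i : ι) :
    ((Φ h x i : integralClosure (A ⧸ p i) (F p i)) : F p i) = φ h i (x : FractionRing A) := rfl

theorem Φ_injective (h : Good p) : Function.Injective (Φ h) := by
  rw [injective_iff_map_eq_zero]
  intro x hx
  apply Subtype.ext
  apply eq_zero_of_forall_φ h
  intro i
  rw [← Φ_apply, hx]
  rfl

theorem Φ_surjective (h : Good p) : Function.Surjective (Φ h) := by
  classical
  intro y
  have hex : ∀ i, ∃ x : integralClosure A (FractionRing A),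
      φ h i x.1 = (y i : F p i) ∧ ∀ j, j ≠ i → φ h j x.1 = 0 := by
    intro i
    obtain ⟨x, hxint, hxi, hxj⟩ := exists_preimage h i (y i : F p i) (y i).2
    exact ⟨⟨x, hxint⟩, hxi, hxj⟩
  choose x hxi hxj using hex
  refine ⟨∑ i, x i, ?_⟩
  funext j
  apply Subtype.ext
  rw [Φ_apply]
  have : ((∑ i, x i : integralClosure A (FractionRing A)) : FractionRing A) =
      ∑ i, (x i : FractionRing A) := by
    simp
  rw [this, map_sum, Finset.sum_eq_single j]
  · exact hxi j
  · intro i _ hij
    exact hxj i j (Ne.symm hij)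
  · intro hj
    exact absurd (Finset.mem_univ j) hj

/-- the ring isomorphism `A' ≃ ∏ D_i'` -/
noncomputable def equiv (h : Good p) :
    integralClosure A (FractionRing A) ≃+* (∀ i, integralClosure (A ⧸ p i) (F p i)) :=
  RingEquiv.ofBijective (Φ h) ⟨Φ_injective h, Φ_surjective h⟩

theorem equiv_algebraMap (h : Good p) (a : A) (i : ι) :
    equiv h (algebraMap A (integralClosure A (FractionRing A)) a) i =
      algebraMap (A ⧸ p i) (integralClosure (A ⧸ p i) (F p i)) (Ideal.Quotient.mk (p i) a) := by
  apply Subtype.ext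
  change φ h i (algebraMap A (FractionRing A) a) = _
  rw [φ_algebraMap]
  rfl

end Groth.Agent.Helper7.NormProd
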