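import Mathlib
import Groth.Prelude
import Groth.Agent.Helper7.NormProd
import Groth.Agent.S6279

/-!
# Normalization of a reduced Noetherian ring with N-1 components
-/

set_option autoImplicit false
set_option linter.style.haveILetI false
set_option linter.unusedSectionVars false

namespace Groth.Agent.Helper7.NormProd

universe u

section general

variable (A : Type u) [CommRing A] [IsNoetherianRing A] [IsReduced A]

/-- the index type of minimal primes -/
abbrev MinIdx : Type u := {q : Ideal A // q ∈ minimalPrimes A}

instance : Finite (MinIdx A) := (minimalPrimes.finite_of_isNoetherianRing A).to_subtype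

noncomputable instance : Fintype (MinIdx A) := Fintype.ofFinite _

instance (i : MinIdx A) : i.1.IsPrime := i.2.1.1

theorem good : Good (fun i : MinIdx A => i.1) where
  inf_eq := by
    intro a ha
    have h1 : a ∈ sInf (minimalPrimes A) := by
      rw [Ideal.mem_sInf]
      intro q hq
      exact ha ⟨q, hq⟩
    have h2 : sInf (minimalPrimes A) = (⊥ : Ideal A) := by
      rw [minimalPrimes, Ideal.sInf_minimalPrimes, Ideal.radical_bot_of_isReduced]
    rw [h2] at h1
    exact h1
  incomp := by
    intro i j hij hle
    apply hij
    apply Subtype.ext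
    exact le_antisymm (i.2.2 ⟨j.2.1.1, bot_le⟩ hle) hle
  nzd := by
    intro t ht i hmem
    exact Set.disjoint_left.1 (Ideal.disjoint_nonZeroDivisors_of_mem_minimalPrimes i.2) hmem ht

end general

theorem isNormalRing_of_ringEquiv {R R' : Type u} [CommRing R] [CommRing R'] (e : R ≃+* R')
    (h : EGA4.IsNormalRing R) : EGA4.IsNormalRing R' := by
  intro p' hp'
  haveI : (p'.comap (e : R →+* R')).IsPrime := Ideal.comap_isPrime _ _
  let e' := Localization.localRingEquiv (p'.comap (e : R →+* R')) p' e rfl
  obtain ⟨h1, h2⟩ := h (p'.comap (e : R →+* R'))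
  exact ⟨e'.symm.toMulEquiv.isDomain, IsIntegrallyClosed.of_equiv e'⟩

theorem isNormalRing_of_isIntegrallyClosed (R : Type u) [CommRing R] [IsDomain R]
    [IsIntegrallyClosed R] : EGA4.IsNormalRing R := by
  intro q hq
  haveI : IsDomain (Localization.AtPrime q) :=
    IsLocalization.isDomain_localization q.primeCompl_le_nonZeroDivisors
  exact ⟨inferInstance, isIntegrallyClosed_of_isLocalization (Localization.AtPrime q)
    q.primeCompl q.primeCompl_le_nonZeroDivisors⟩

section main

variable (A : Type u) [CommRing A] [IsNoetherianRing A] [IsReduced A]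

/-- the integral closure of a reduced Noetherian ring in its total ring of fractions is normal -/
theorem normal_closure : EGA4.IsNormalRing (integralClosure A (FractionRing A)) := by
  refine isNormalRing_of_ringEquiv (equiv (good A)).symm ?_
  apply Groth.Agent.S6279.result
  intro i
  haveI : IsIntegrallyClosed (integralClosure (A ⧸ i.1) (FractionRing (A ⧸ i.1))) :=
    integralClosure.isIntegrallyClosedOfFiniteExtension (FractionRing (A ⧸ i.1))
  exact isNormalRing_of_isIntegrallyClosed _

/-- the `A`-algebra isomorphism `A' ≃ ∏ D_i'` -/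
noncomputable def algEquiv :
    integralClosure A (FractionRing A) ≃ₐ[A]
      (∀ i : MinIdx A, integralClosure (A ⧸ i.1) (FractionRing (A ⧸ i.1))) :=
  AlgEquiv.ofRingEquiv (f := equiv (good A)) (by
    intro a
    funext i
    exact equiv_algebraMap (good A) a i)

theorem finite_closure
    (hN1 : ∀ i : MinIdx A, Module.Finite (A ⧸ i.1)
      (integralClosure (A ⧸ i.1) (FractionRing (A ⧸ i.1)))) :
    Module.Finite A (integralClosure A (FractionRing A)) := by
  haveI : ∀ i : MinIdx A, Module.Finite A
      (integralClosure (A ⧸ i.1) (FractionRing (A ⧸ i.1))) := fun i =>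
    haveI := hN1 i
    Module.Finite.trans (A ⧸ i.1) _
  exact Module.Finite.equiv (algEquiv A).symm.toLinearEquiv

theorem exists_nzd_smul_mem (x : integralClosure A (FractionRing A)) :
    ∃ t ∈ nonZeroDivisors A, t • x ∈
      LinearMap.range (Algebra.linearMap A (integralClosure A (FractionRing A))) := by
  obtain ⟨a, t, hat⟩ := IsLocalization.exists_mk'_eq (nonZeroDivisors A) (x : FractionRing A)
  refine ⟨t.1, t.2, algebraMap A _ a, ?_⟩
  apply Subtype.ext
  change algebraMap A (FractionRing A) a = (t.1 • x : integralClosure A (FractionRing A)).1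
  rw [show ((t.1 • x : integralClosure A (FractionRing A)) : FractionRing A) =
    t.1 • (x : FractionRing A) from rfl, ← hat, Algebra.smul_def, IsLocalization.mk'_spec']

theorem finiteLength_coker [Ring.KrullDimLE 1 A]
    (hfin : Module.Finite A (integralClosure A (FractionRing A))) :
    IsFiniteLength A ((integralClosure A (FractionRing A)) ⧸
      LinearMap.range (Algebra.linearMap A (integralClosure A (FractionRing A)))) := by
  classical
  set A' := integralClosure A (FractionRing A) with hA'
  set N := LinearMap.range (Algebra.linearMap A A') with hN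
  obtain ⟨S, hS⟩ := hfin.fg_top
  choose t ht htx using exists_nzd_smul_mem A
  set T : A := ∏ x ∈ S, t x with hT
  have hTnzd : T ∈ nonZeroDivisors A := Submonoid.prod_mem _ fun x _ => ht x
  have hTx : ∀ x : A', T • x ∈ N := by
    intro x
    have hx : x ∈ Submodule.span A (S : Set A') := by rw [hS]; trivial
    induction hx using Submodule.span_induction with
    | mem x hx =>
      obtain ⟨d, hd⟩ := Finset.dvd_prod_of_mem t hx
      rw [hT, hd, mul_comm, mul_smul]
      exact N.smul_mem _ (htx x)
    | zero => rw [smul_zero]; exact N.zero_mem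
    | add x y _ _ hx hy => rw [smul_add]; exact N.add_mem hx hy
    | smul c x _ hx => rw [smul_comm]; exact N.smul_mem _ hx
  have htors : Module.IsTorsionBySet A (A' ⧸ N) (Ideal.span {T} : Set A) := by
    rw [Module.isTorsionBySet_span_singleton_iff]
    intro m
    obtain ⟨x, rfl⟩ := Submodule.Quotient.mk_surjective _ m
    rw [← Submodule.Quotient.mk_smul, Submodule.Quotient.mk_eq_zero]
    exact hTx x
  rw [isFiniteLength_iff_isNoetherian_isArtinian]
  refine ⟨inferInstance, ?_⟩
  letI : Module (A ⧸ Ideal.span {T}) (A' ⧸ N) := htors.module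
  haveI : IsScalarTower A (A ⧸ Ideal.span {T}) (A' ⧸ N) := htors.isScalarTower
  haveI : Module.Finite (A ⧸ Ideal.span {T}) (A' ⧸ N) :=
    Module.Finite.of_restrictScalars_finite A _ _
  have hfl := isFiniteLength_quotient_span_singleton A hTnzd
  rw [isFiniteLength_iff_isNoetherian_isArtinian] at hfl
  haveI : IsArtinian A (A ⧸ Ideal.span {T}) := hfl.2
  haveI : IsArtinianRing (A ⧸ Ideal.span {T}) := isArtinian_of_tower A inferInstance
  haveI : IsArtinian (A ⧸ Ideal.span {T}) (A' ⧸ N) := inferInstance
  exact isArtinian_of_surjective_algebraMap (R := A ⧸ Ideal.span {T})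
    (Ideal.Quotient.mk_surjective (I := Ideal.span {T}))

end main

end Groth.Agent.Helper7.NormProd
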