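import Mathlib
import Groth.Prelude.Def_CartDual2

set_option autoImplicit false
universe u v w
open TensorProduct

namespace Groth.Agent.Helper7.CartTr

open CartDual

lemma eval_bijective (R : Type u) [CommRing R] (A : Type v) [Ring A] [Bialgebra R A]
    [Module.Finite R A] [Module.Projective R A] : Function.Bijective (CartDual.eval R A) := by
  have h1 : Function.Bijective (Module.Dual.eval R A) := Module.bijective_dual_eval R A
  have h2 : Function.Bijective ((toDual R A).symm.dualMap) := (toDual R A).symm.dualMap.bijective
  have h3 : Function.Bijective ((toDual R (D R A)).symm) := (toDual R (D R A)).symm.bijective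
  have : (CartDual.eval R A : A → D R (D R A)) =
      (toDual R (D R A)).symm ∘ (toDual R A).toLinearMap.dualMap ∘ (Module.Dual.eval R A) := rfl
  rw [this]
  refine h3.comp (Function.Bijective.comp ?_ h1)
  exact (toDual R A).dualMap.bijective

theorem transpose_bijective (R : Type u) [CommRing R] (A : Type v) (B : Type w)
    [Ring A] [Bialgebra R A] [Module.Finite R A] [Module.Projective R A]
    [Ring B] [Bialgebra R B] [Module.Finite R B] [Module.Projective R B] :
    Function.Bijective (fun f : A →ₐc[R] B => CartDual.transpose R f) := by
  constructor
  · intro f g hfg
    apply DFunLike.ext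
    intro a
    rw [← sub_eq_zero, ← Module.forall_dual_apply_eq_zero_iff R]
    intro y
    have := congrArg (fun T => (T (WithConv.toConv y)) a) hfg
    simp only [transpose_apply] at this
    rw [map_sub, sub_eq_zero]
    exact this
  · intro h
    let eB := BialgEquiv.ofBijective (R := R) (A := B) (B := D R (D R B)) (CartDual.eval R B) (eval_bijective R B)
    let f : A →ₐc[R] B :=
      ((eB.symm : D R (D R B) →ₐc[R] B).comp (CartDual.transpose R h)).comp (CartDual.eval R A)
    refine ⟨f, ?_⟩
    apply DFunLike.ext
    intro x
    apply WithConv.ext
    apply LinearMap.ext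
    intro a
    change x (f a) = (h x) a
    have h1 : CartDual.eval R B (f a) = CartDual.transpose R h (CartDual.eval R A a) := by
      change eB (eB.symm _) = _
      rw [BialgEquiv.apply_symm_apply]
      rfl
    have h2 := congrArg (fun z => z x) h1
    simp only [eval_apply, transpose_apply] at h2
    exact h2

end Groth.Agent.Helper7.CartTr
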