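import Groth.Agent.Helper7.Kap1

namespace Groth.Agent.Helper7.Kap

open Submodule

universe u

variable {R : Type u} [CommRing R] {M : Type u} [AddCommGroup M] [Module R M]

theorem sSupIndep_insert {α : Type*} [CompleteLattice α] [IsModularLattice α] {s : Set α} {c : α}
    (hs : sSupIndep s) (hc : Disjoint c (sSup s)) : sSupIndep (insert c s) := by
  have key : Disjoint c (sSup (insert c s \ {c})) := by
    refine hc.mono_right (sSup_le_sSup ?_)
    rintro x ⟨hx, hxc⟩
    rcases hx with rfl | hx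
    · exact absurd rfl hxc
    · exact hx
  intro a ha
  by_cases hac : a = c
  · subst hac
    exact key
  · rcases ha with rfl | ha
    · exact absurd rfl hac
    · have hset : insert c s \ {a} = insert c (s \ {a}) := by
        ext y
        simp only [Set.mem_sdiff, Set.mem_insert_iff, Set.mem_singleton_iff]
        constructor
        · rintro ⟨rfl | hy, hya⟩
          · exact Or.inl rfl
          · exact Or.inr ⟨hy, hya⟩
        · rintro (rfl | ⟨hy, hya⟩)
          · exact ⟨Or.inl rfl, fun h => hac h.symm⟩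
          · exact ⟨Or.inr hy, hya⟩
      rw [hset, sSup_insert, sup_comm]
      have h1 : Disjoint a (sSup (s \ {a})) := hs ha
      have h2 : Disjoint (a ⊔ sSup (s \ {a})) c := by
        refine hc.symm.mono_left (sup_le (le_sSup ha) (sSup_le_sSup Set.sdiff_subset))
      exact h1.disjoint_sup_right_of_disjoint_sup_left h2

section main

variable {ι : Type u} (N : ι → Submodule R M)

/-- partial sums -/
def MJ (J : Set ι) : Submodule R M := ⨆ i ∈ J, N i

theorem MJ_mono {J J' : Set ι} (h : J ⊆ J') : MJ N J ≤ MJ N J' :=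
  biSup_mono h

theorem MJ_union (J J' : Set ι) : MJ N (J ∪ J') = MJ N J ⊔ MJ N J' :=
  iSup_union

variable (P Q : Submodule R M) (hPQ : IsCompl P Q)

/-- admissible pairs -/
def Adm (x : Set ι × Set (Submodule R M)) : Prop :=
  (∀ L ∈ x.2, L ≤ P ∧ CGs L) ∧ sSupIndep x.2 ∧ sSup x.2 = P ⊓ MJ N x.1 ∧
    Stable P Q hPQ (MJ N x.1)

theorem adm_chain (c : Set (Set ι × Set (Submodule R M)))
    (hcs : ∀ z ∈ c, Adm N P Q hPQ z) (hch : IsChain (· ≤ ·) c) :
    ∃ ub, Adm N P Q hPQ ub ∧ ∀ z ∈ c, z ≤ ub := by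
  rcases c.eq_empty_or_nonempty with rfl | hne
  · refine ⟨(∅, ∅), ⟨?_, sSupIndep_empty, ?_, ?_⟩, fun z hz => absurd hz (Set.notMem_empty z)⟩
    · intro L hL
      exact absurd hL (Set.notMem_empty L)
    · simp [MJ]
    · simp [MJ, Stable]
  · set Js : Set ι := ⋃₀ (Prod.fst '' c) with hJs
    set Ls : Set (Submodule R M) := ⋃₀ (Prod.snd '' c) with hLs
    have hMJ : MJ N Js = ⨆ z ∈ c, MJ N z.1 := by
      apply le_antisymm
      · apply iSup₂_le
        intro i hi
        obtain ⟨_, ⟨z, hz, rfl⟩, hiz⟩ := hi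
        exact le_trans (le_biSup N hiz) (le_biSup (fun z : Set ι × Set (Submodule R M) => MJ N z.1) hz)
      · apply iSup₂_le
        intro z hz
        exact MJ_mono N (Set.subset_sUnion_of_mem ⟨z, hz, rfl⟩)
    have hdir : Directed (· ≤ ·) (fun z : c => MJ N z.1.1) := by
      intro z z'
      rcases hch.total z.2 z'.2 with h | h
      · exact ⟨z', MJ_mono N h.1, le_rfl⟩
      · exact ⟨z, le_rfl, MJ_mono N h.1⟩
    have : Nonempty c := hne.to_subtype
    have hmem : ∀ x ∈ MJ N Js, ∃ z ∈ c, x ∈ MJ N z.1 := by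
      intro x hx
      rw [hMJ, iSup_subtype'] at hx
      obtain ⟨z, hz⟩ := (Submodule.mem_iSup_of_directed _ hdir).1 hx
      exact ⟨z.1, z.2, hz⟩
    refine ⟨(Js, Ls), ⟨?_, ?_, ?_, ?_⟩, ?_⟩
    · rintro L ⟨_, ⟨z, hz, rfl⟩, hL⟩
      exact (hcs z hz).1 L hL
    · apply iSupIndep_sUnion_of_directed
      · rintro _ ⟨z, hz, rfl⟩ _ ⟨z', hz', rfl⟩
        rcases hch.total hz hz' with h | h
        · exact ⟨z'.2, ⟨z', hz', rfl⟩, h.2, le_rfl⟩
        · exact ⟨z.2, ⟨z, hz, rfl⟩, le_rfl, h.2⟩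
      · rintro _ ⟨z, hz, rfl⟩
        exact (hcs z hz).2.1
    · apply le_antisymm
      · apply sSup_le
        rintro L ⟨_, ⟨z, hz, rfl⟩, hL⟩
        have h1 : L ≤ sSup z.2 := le_sSup hL
        rw [(hcs z hz).2.2.1] at h1
        exact h1.trans (inf_le_inf_left P (MJ_mono N (Set.subset_sUnion_of_mem ⟨z, hz, rfl⟩)))
      · rintro x ⟨hxP, hxM⟩
        obtain ⟨z, hz, hxz⟩ := hmem x hxM
        have h1 : x ∈ P ⊓ MJ N z.1 := ⟨hxP, hxz⟩
        rw [← (hcs z hz).2.2.1] at h1
        have hsub : z.2 ⊆ Ls := Set.subset_sUnion_of_mem ⟨z, hz, rfl⟩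
        exact (sSup_le_sSup hsub) h1
    · show Stable P Q hPQ (MJ N Js)
      rw [hMJ]
      exact Stable.biSup (fun z hz => (hcs z hz).2.2.2)
    · intro z hz
      exact ⟨Set.subset_sUnion_of_mem ⟨z, hz, rfl⟩, Set.subset_sUnion_of_mem ⟨z, hz, rfl⟩⟩


variable (hind : iSupIndep N) (htop : iSup N = ⊤) (hc : ∀ i, CGs (N i))

include hind htop hc in
theorem adm_extend (x : Set ι × Set (Submodule R M)) (hx : Adm N P Q hPQ x) (i₀ : ι) :
    ∃ y, Adm N P Q hPQ y ∧ x ≤ y ∧ i₀ ∈ y.1 := by
  classical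
  obtain ⟨J, 𝓛⟩ := x
  obtain ⟨ha, hb, hcc, hd⟩ := hx
  simp only at ha hb hcc hd
  -- supports
  have hT : ∀ i, ∃ T : Set ι, T.Countable ∧ (N i).map (piP P Q hPQ) ≤ MJ N T := fun i =>
    exists_countable_support htop ((hc i).map (piP P Q hPQ))
  choose T hTc hTle using hT
  obtain ⟨S, hSc, hi₀S, hSclosed⟩ := exists_countable_closed T hTc i₀
  have hStS : Stable P Q hPQ (MJ N S) := by
    unfold Stable MJ
    simp only [Submodule.map_iSup]
    apply iSup₂_le
    intro i hi
    exact (hTle i).trans (MJ_mono N (hSclosed i hi))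
  set J' : Set ι := J ∪ S with hJ'
  set D : Set ι := S \ J with hD
  have hDc : D.Countable := hSc.mono Set.sdiff_subset
  have hJ'D : J' = J ∪ D := by
    rw [hJ', hD, Set.union_sdiff_self]
  have hStJ' : Stable P Q hPQ (MJ N J') := by
    rw [hJ', MJ_union]
    exact hd.sup hStS
  set A : Submodule R M := P ⊓ MJ N J with hA
  set A'' : Submodule R M := Q ⊓ MJ N J with hA''
  have hAA'' : A ⊔ A'' = MJ N J := hd.sup_eq
  set G : Submodule R M := A'' ⊔ MJ N Jᶜ with hG
  have hdisjJ : Disjoint (MJ N J) (MJ N Jᶜ) := hind.disjoint_biSup_biSup disjoint_compl_right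
  have hAG : IsCompl A G := by
    constructor
    · rw [Submodule.disjoint_def]
      intro x hxA hxG
      obtain ⟨a, ha'', e, he, rfl⟩ := Submodule.mem_sup.1 hxG
      have he2 : e ∈ MJ N J := by
        have : e = (a + e) - a := by abel
        rw [this]
        exact (MJ N J).sub_mem hxA.2 ha''.2
      have he0 : e = 0 := (Submodule.disjoint_def.1 hdisjJ) e he2 he
      subst he0
      rw [add_zero] at hxA ⊢
      exact (Submodule.disjoint_def.1 hPQ.disjoint) a hxA.1 ha''.1
    · rw [codisjoint_iff, hG, ← sup_assoc, hAA'', ← MJ_union, Set.union_compl_self]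
      simp only [MJ, Set.mem_univ, iSup_pos]
      exact htop
  set ρ : M →ₗ[R] M := G.projection A hAG.symm with hρ
  have hρG : ∀ x, ρ x ∈ G := fun x => Submodule.projection_apply_mem hAG.symm x
  have hρA : ∀ x, x - ρ x ∈ A := fun x => by
    rw [← Submodule.projection_eq_self_sub_projection hAG.symm x]
    exact Submodule.projection_apply_mem hAG.symm.symm x
  set B : Submodule R M := P ⊓ MJ N J' with hB
  have hAB : A ≤ B := inf_le_inf_left P (MJ_mono N Set.subset_union_left)
  have hBeq : B = A ⊔ (MJ N D).map (piP P Q hPQ) := by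
    rw [hB, ← hStJ'.map_eq, hJ'D, MJ_union, Submodule.map_sup, hd.map_eq]
  set C : Submodule R M := (MJ N D).map (ρ ∘ₗ piP P Q hPQ) with hC
  have hCG : C ≤ G := by
    rintro _ ⟨d, -, rfl⟩
    exact hρG _
  have hCB : C ≤ B := by
    rintro _ ⟨d, hd', rfl⟩
    have h1 : piP P Q hPQ d ∈ B := by
      rw [hBeq]
      exact Submodule.mem_sup_right ⟨d, hd', rfl⟩
    have h2 : piP P Q hPQ d - ρ (piP P Q hPQ d) ∈ B := hAB (hρA _)
    have : ρ (piP P Q hPQ d) = piP P Q hPQ d - (piP P Q hPQ d - ρ (piP P Q hPQ d)) := by abel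
    rw [LinearMap.comp_apply, this]
    exact B.sub_mem h1 h2
  have hACB : A ⊔ C = B := by
    apply le_antisymm (sup_le hAB hCB)
    rw [hBeq]
    apply sup_le le_sup_left
    rintro _ ⟨d, hd', rfl⟩
    have : piP P Q hPQ d = (piP P Q hPQ d - ρ (piP P Q hPQ d)) + ρ (piP P Q hPQ d) := by abel
    rw [this]
    exact Submodule.add_mem_sup (hρA _) ⟨d, hd', rfl⟩
  have hCcg : CGs C := (CGs.biSup hDc (fun i _ => hc i)).map _
  have hdisjAC : Disjoint C A := (hAG.disjoint.mono_right hCG).symm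
  refine ⟨(J', insert C 𝓛), ⟨?_, ?_, ?_, hStJ'⟩, ⟨Set.subset_union_left, Set.subset_insert _ _⟩,
    Or.inr hi₀S⟩
  · rintro L (rfl | hL)
    · exact ⟨hCB.trans inf_le_left, hCcg⟩
    · exact ha L hL
  · apply sSupIndep_insert hb
    rw [hcc]
    exact hdisjAC
  · show sSup (insert C 𝓛) = B
    rw [sSup_insert, hcc, sup_comm]
    exact hACB


include hind htop hc hPQ in
theorem exists_family : ∃ 𝓛 : Set (Submodule R M), (∀ L ∈ 𝓛, L ≤ P ∧ CGs L) ∧ sSupIndep 𝓛 ∧
    sSup 𝓛 = P := by
  obtain ⟨m, hm⟩ := zorn_le₀ {x | Adm N P Q hPQ x} (fun c hcs hch => by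
    obtain ⟨ub, hub, hle⟩ := adm_chain N P Q hPQ c hcs hch
    exact ⟨ub, hub, hle⟩)
  have hJ : m.1 = Set.univ := by
    rw [Set.eq_univ_iff_forall]
    intro i₀
    obtain ⟨y, hy, hmy, hi⟩ := adm_extend N P Q hPQ hind htop hc m hm.prop i₀
    exact (hm.le_of_ge hy hmy).1 hi
  obtain ⟨ha, hb, hcc, -⟩ := hm.prop
  refine ⟨m.2, ha, hb, ?_⟩
  rw [hcc, hJ]
  have : MJ N Set.univ = ⊤ := by
    simp only [MJ, Set.mem_univ, iSup_pos]
    exact htop
  rw [this, inf_top_eq]

end main

end Groth.Agent.Helper7.Kap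

namespace Groth.Agent.Helper7.Kap

open Submodule

universe u

open scoped Classical in
theorem result0583 (R : Type u) [CommRing R] (M : Type u)
    [AddCommGroup M] [Module R M] (ι : Type u) (N : ι → Submodule R M) (hN : DirectSum.IsInternal N)
    (hc : ∀ i, CAlg.IsCountablyGenerated R (N i)) (P Q : Submodule R M) (hPQ : IsCompl P Q) :
    ∃ (κ : Type u) (L : κ → Submodule R P), DirectSum.IsInternal L ∧
      ∀ k, CAlg.IsCountablyGenerated R (L k) := by
  obtain ⟨hind, htop⟩ := (DirectSum.isInternal_submodule_iff_iSupIndep_and_iSup_eq_top N).1 hN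
  obtain ⟨𝓛, ha, hb, hsup⟩ := exists_family N P Q hPQ hind htop (fun i => cgs_of_module (hc i))
  refine ⟨𝓛, fun k => (k.1 : Submodule R M).comap P.subtype, ?_, ?_⟩
  · have hmap : ∀ k : 𝓛, ((k.1 : Submodule R M).comap P.subtype).map P.subtype = k.1 := by
      intro k
      rw [Submodule.map_comap_subtype, inf_eq_right.2 (ha k.1 k.2).1]
    suffices key : ∀ (inst : DecidableEq 𝓛), @DirectSum.IsInternal 𝓛 _ _ inst _ _ _
        (fun k : 𝓛 => (k.1 : Submodule R M).comap P.subtype) from key _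
    intro inst
    refine (DirectSum.isInternal_submodule_iff_iSupIndep_and_iSup_eq_top _).2 ⟨?_, ?_⟩
    · intro k
      rw [Submodule.disjoint_def]
      intro x hx1 hx2
      have h1 : (x : M) ∈ (k.1 : Submodule R M) := hx1
      have h2 : (x : M) ∈ sSup (𝓛 \ {k.1}) := by
        have : (x : M) ∈ (⨆ j, ⨆ (_ : j ≠ k), (j.1 : Submodule R M).comap P.subtype).map P.subtype :=
          ⟨x, hx2, rfl⟩
        simp only [Submodule.map_iSup] at this
        refine (iSup₂_le ?_ : _ ≤ sSup (𝓛 \ {k.1})) this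
        intro j hj
        rw [hmap j]
        exact le_sSup ⟨j.2, fun h => hj (Subtype.ext h)⟩
      have := (Submodule.disjoint_def.1 (hb k.2)) (x : M) h1 h2
      exact Subtype.ext this
    · rw [eq_top_iff]
      intro x _
      have hx : (x : M) ∈ sSup 𝓛 := by rw [hsup]; exact x.2
      have h3 : sSup 𝓛 = (⨆ k : 𝓛, (k.1 : Submodule R M).comap P.subtype).map P.subtype := by
        simp only [Submodule.map_iSup]
        rw [sSup_eq_iSup']
        exact iSup_congr fun k => (hmap k).symm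
      rw [h3] at hx
      obtain ⟨y, hy, hyx⟩ := hx
      have : y = x := Subtype.ext hyx
      rwa [this] at hy
  · intro k
    have hinj : Function.Injective
        (P.subtype ∘ₗ ((k.1 : Submodule R M).comap P.subtype).subtype) :=
      fun a b hab => Subtype.ext (Subtype.ext hab)
    apply module_of_cgs _ hinj
    have : LinearMap.range (P.subtype ∘ₗ ((k.1 : Submodule R M).comap P.subtype).subtype) = k.1 := by
      rw [LinearMap.range_comp, Submodule.range_subtype, Submodule.map_comap_subtype,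
        inf_eq_right.2 (ha k.1 k.2).1]
    rw [this]
    exact (ha k.1 k.2).2

end Groth.Agent.Helper7.Kap
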