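import Mathlib
import Groth.Prelude.Def_Found

namespace Groth.Agent.Helper7.Kap

open Submodule

universe u

variable {R : Type u} [CommRing R] {M : Type u} [AddCommGroup M] [Module R M]

/-- countably generated submodule -/
def CGs (L : Submodule R M) : Prop := ∃ s : Set M, s.Countable ∧ span R s = L

theorem cgs_of_module {L : Submodule R M} (h : CAlg.IsCountablyGenerated R L) : CGs L := by
  obtain ⟨s, hs, hspan⟩ := h
  refine ⟨L.subtype '' s, hs.image _, ?_⟩
  rw [← Submodule.map_span, hspan, Submodule.map_top, Submodule.range_subtype]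

theorem module_of_cgs {N : Type u} [AddCommGroup N] [Module R N] (f : N →ₗ[R] M)
    (hf : Function.Injective f) (h : CGs (LinearMap.range f)) : CAlg.IsCountablyGenerated R N := by
  obtain ⟨s, hs, hspan⟩ := h
  refine ⟨f ⁻¹' s, hs.preimage_of_injOn hf.injOn, ?_⟩
  have hsub : s ⊆ Set.range f := by
    intro x hx
    have : x ∈ span R s := subset_span hx
    rw [hspan] at this
    exact this
  have h1 : map f (span R (f ⁻¹' s)) = map f ⊤ := by
    rw [Submodule.map_span, Set.image_preimage_eq_of_subset hsub, hspan, Submodule.map_top]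
  exact Submodule.map_injective_of_injective hf h1

theorem CGs.map {L : Submodule R M} (h : CGs L) (f : M →ₗ[R] M) : CGs (L.map f) := by
  obtain ⟨s, hs, rfl⟩ := h
  exact ⟨f '' s, hs.image _, by rw [Submodule.map_span]⟩

theorem CGs.biSup {ι : Type*} {N : ι → Submodule R M} {D : Set ι} (hD : D.Countable)
    (h : ∀ i ∈ D, CGs (N i)) : CGs (⨆ i ∈ D, N i) := by
  choose! s hs hspan using h
  refine ⟨⋃ i ∈ D, s i, hD.biUnion hs, ?_⟩
  rw [Submodule.span_iUnion₂]
  exact iSup_congr fun i => iSup_congr fun hi => hspan i hi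

/-- a countable set of indices supporting a countably generated submodule -/
theorem exists_countable_support {ι : Type*} {N : ι → Submodule R M} (htop : iSup N = ⊤)
    {L : Submodule R M} (hL : CGs L) : ∃ T : Set ι, T.Countable ∧ L ≤ ⨆ i ∈ T, N i := by
  classical
  obtain ⟨s, hs, rfl⟩ := hL
  have : ∀ x : M, ∃ F : Finset ι, x ∈ ⨆ i ∈ F, N i := by
    intro x
    have hx : x ∈ ⨆ i, N i := by rw [htop]; trivial
    exact Submodule.exists_finset_of_mem_iSup N hx
  choose F hF using this
  refine ⟨⋃ x ∈ s, (F x : Set ι), hs.biUnion (fun x _ => (F x).countable_toSet), ?_⟩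
  rw [Submodule.span_le]
  intro x hx
  have h1 : (⨆ i ∈ F x, N i) ≤ ⨆ i ∈ (⋃ x ∈ s, (F x : Set ι)), N i := by
    apply biSup_mono
    intro i hi
    exact Set.mem_biUnion hx hi
  exact h1 (hF x)

section proj

variable (P Q : Submodule R M) (hPQ : IsCompl P Q)

/-- projection onto `P` along `Q` as an endomorphism of `M` -/
noncomputable abbrev piP : M →ₗ[R] M := P.projection Q hPQ

theorem piP_mem (x : M) : piP P Q hPQ x ∈ P := Submodule.projection_apply_mem hPQ x

theorem piP_of_mem {x : M} (hx : x ∈ P) : piP P Q hPQ x = x :=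
  Submodule.projection_apply_of_mem_left hPQ hx

theorem piP_of_mem_right {x : M} (hx : x ∈ Q) : piP P Q hPQ x = 0 :=
  Submodule.projection_apply_of_mem_right hPQ hx

theorem sub_piP_mem (x : M) : x - piP P Q hPQ x ∈ Q := by
  rw [← Submodule.projection_eq_self_sub_projection hPQ x]
  exact Submodule.projection_apply_mem hPQ.symm x

/-- stability under the projection -/
def Stable (S : Submodule R M) : Prop := S.map (piP P Q hPQ) ≤ S

variable {P Q hPQ}

theorem Stable.map_eq {S : Submodule R M} (hS : Stable P Q hPQ S) :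
    S.map (piP P Q hPQ) = P ⊓ S := by
  apply le_antisymm
  · refine le_inf ?_ hS
    rintro _ ⟨x, -, rfl⟩
    exact piP_mem P Q hPQ x
  · rintro x ⟨hxP, hxS⟩
    exact ⟨x, hxS, piP_of_mem P Q hPQ hxP⟩

theorem Stable.sup_eq {S : Submodule R M} (hS : Stable P Q hPQ S) :
    (P ⊓ S) ⊔ (Q ⊓ S) = S := by
  apply le_antisymm
  · exact sup_le inf_le_right inf_le_right
  · intro x hx
    have h1 : piP P Q hPQ x ∈ P ⊓ S := ⟨piP_mem P Q hPQ x, hS ⟨x, hx, rfl⟩⟩
    have h2 : x - piP P Q hPQ x ∈ Q ⊓ S :=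
      ⟨sub_piP_mem P Q hPQ x, S.sub_mem hx h1.2⟩
    have : x = piP P Q hPQ x + (x - piP P Q hPQ x) := by abel
    rw [this]
    exact Submodule.add_mem_sup h1 h2

theorem Stable.sup {S T : Submodule R M} (hS : Stable P Q hPQ S) (hT : Stable P Q hPQ T) :
    Stable P Q hPQ (S ⊔ T) := by
  unfold Stable at *
  rw [Submodule.map_sup]
  exact sup_le_sup hS hT

theorem Stable.biSup {κ : Type*} {S : κ → Submodule R M} {c : Set κ}
    (h : ∀ k ∈ c, Stable P Q hPQ (S k)) : Stable P Q hPQ (⨆ k ∈ c, S k) := by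
  unfold Stable at *
  simp only [Submodule.map_iSup]
  exact iSup₂_mono h

end proj

/-- closure of a point under a countable-set-valued operation -/
theorem exists_countable_closed {ι : Type*} (T : ι → Set ι) (hT : ∀ i, (T i).Countable) (i₀ : ι) :
    ∃ S : Set ι, S.Countable ∧ i₀ ∈ S ∧ ∀ i ∈ S, T i ⊆ S := by
  let Sn : ℕ → Set ι := fun n => Nat.rec {i₀} (fun _ A => A ∪ ⋃ i ∈ A, T i) n
  have hSn0 : Sn 0 = {i₀} := rfl
  have hSnS : ∀ n, Sn (n + 1) = Sn n ∪ ⋃ i ∈ Sn n, T i := fun n => rfl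
  have hc : ∀ n, (Sn n).Countable := by
    intro n
    induction n with
    | zero => rw [hSn0]; exact Set.countable_singleton _
    | succ n ih => rw [hSnS]; exact ih.union (ih.biUnion fun i _ => hT i)
  refine ⟨⋃ n, Sn n, Set.countable_iUnion hc, Set.mem_iUnion.2 ⟨0, by rw [hSn0]; rfl⟩, ?_⟩
  intro i hi
  obtain ⟨n, hn⟩ := Set.mem_iUnion.1 hi
  intro j hj
  refine Set.mem_iUnion.2 ⟨n + 1, ?_⟩
  rw [hSnS]
  exact Or.inr (Set.mem_biUnion hn hj)


end Groth.Agent.Helper7.Kap
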