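import Mathlib

set_option maxSynthPendingDepth 3
set_option linter.style.haveILetI false

/-!
Completion of a semilocal ring along an ideal of coheight zero is the product of the
completions of its localizations.
-/

namespace Groth.Agent.Helper7.SemiCompl

universe u

variable {R : Type u} [CommRing R] (I : Ideal R)

/-- elements of `I^n • ⊤ ⊆ R_m` have a multiple by some `t ∉ m` coming from `I^n`. -/
lemma exists_smul_eq_of_mem (m : Ideal R) [m.IsPrime] (n : ℕ) (z : Localization.AtPrime m)
    (hz : z ∈ (I ^ n • ⊤ : Submodule R (Localization.AtPrime m))) :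
    ∃ t : R, t ∉ m ∧ ∃ a ∈ I ^ n, t • z = algebraMap R (Localization.AtPrime m) a := by
  refine Submodule.smul_induction_on hz ?_ ?_
  · intro a ha w _
    obtain ⟨⟨b, s⟩, hbs⟩ := IsLocalization.mk'_surjective m.primeCompl w
    refine ⟨s, s.2, a * b, Ideal.mul_mem_right _ _ ha, ?_⟩
    rw [← hbs, Algebra.smul_def, Algebra.smul_def, map_mul, mul_left_comm]
    congr 1
    simp only
    rw [IsLocalization.mul_mk'_eq_mk'_of_mul, IsLocalization.mk'_mul_cancel_left]
  · intro z₁ z₂ ih₁ ih₂
    obtain ⟨t₁, ht₁, a₁, ha₁, e₁⟩ := ih₁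
    obtain ⟨t₂, ht₂, a₂, ha₂, e₂⟩ := ih₂
    refine ⟨t₁ * t₂, fun h => ?_, t₂ * a₁ + t₁ * a₂,
      Ideal.add_mem _ (Ideal.mul_mem_left _ _ ha₁) (Ideal.mul_mem_left _ _ ha₂), ?_⟩
    · rcases Ideal.IsPrime.mem_or_mem inferInstance h with h | h
      · exact ht₁ h
      · exact ht₂ h
    · rw [smul_add, map_add, map_mul, map_mul, ← e₁, ← e₂]
      simp only [Algebra.smul_def, map_mul]
      ring

/-- level-`n` injectivity. -/
lemma mem_pow_of_forall_mem (n : ℕ) (x : R)
    (hx : ∀ m : {m : MaximalSpectrum R // I ≤ m.asIdeal},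
      algebraMap R (Localization.AtPrime m.1.asIdeal) x ∈
        (I ^ n • ⊤ : Submodule R (Localization.AtPrime m.1.asIdeal))) :
    x ∈ I ^ n := by
  let J : Ideal R :=
    { carrier := {r | r * x ∈ I ^ n}
      add_mem' := fun {a b} ha hb => by
        simp only [Set.mem_ofPred_eq] at ha hb ⊢
        rw [add_mul]; exact Ideal.add_mem _ ha hb
      zero_mem' := by simp
      smul_mem' := fun c a ha => by
        simp only [Set.mem_ofPred_eq, smul_eq_mul] at ha ⊢
        rw [mul_assoc]; exact Ideal.mul_mem_left _ _ ha }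
  have hJ : J = ⊤ := by
    by_contra hne
    obtain ⟨m, hm, hJm⟩ := Ideal.exists_le_maximal J hne
    by_cases hIm : I ≤ m
    · have hxm := hx ⟨⟨m, hm⟩, hIm⟩
      haveI := hm.isPrime
      obtain ⟨t, ht, a, ha, e⟩ := exists_smul_eq_of_mem I m n _ hxm
      rw [Algebra.smul_def, ← map_mul] at e
      obtain ⟨s, hs⟩ := (IsLocalization.eq_iff_exists m.primeCompl _).1 e
      have h1 : (s : R) * t ∈ J := by
        show (s : R) * t * x ∈ I ^ n
        rw [mul_assoc, hs]; exact Ideal.mul_mem_left _ _ ha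
      have h2 := hJm h1
      rcases hm.isPrime.mem_or_mem h2 with h | h
      · exact s.2 h
      · exact ht h
    · obtain ⟨i, hi, him⟩ := SetLike.not_le_iff_exists.1 hIm
      have h1 : i ^ n ∈ J := by
        show i ^ n * x ∈ I ^ n
        exact Ideal.mul_mem_right _ _ (Ideal.pow_mem_pow hi n)
      exact him (hm.isPrime.mem_of_pow_mem n (hJm h1))
  have : (1 : R) ∈ J := by rw [hJ]; trivial
  simpa [J] using this

/-- the spectrum of `R ⧸ I^n` is discrete. -/
lemma discrete_quot (hR : Finite (MaximalSpectrum R))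
    (hI : ∀ (p : Ideal R), p.IsPrime → I ≤ p → p.IsMaximal) (n : ℕ) :
    DiscreteTopology (PrimeSpectrum (R ⧸ I ^ n)) := by
  have hmax : ∀ q : PrimeSpectrum (R ⧸ I ^ n),
      (q.asIdeal.comap (Ideal.Quotient.mk (I ^ n))).IsMaximal := by
    intro q
    apply hI _ (Ideal.comap_isPrime _ _)
    have h1 : I ^ n ≤ q.asIdeal.comap (Ideal.Quotient.mk (I ^ n)) := by
      intro a ha
      rw [Ideal.mem_comap, Ideal.Quotient.eq_zero_iff_mem.2 ha]
      exact Ideal.zero_mem _
    haveI := Ideal.comap_isPrime (Ideal.Quotient.mk (I ^ n)) q.asIdeal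
    exact Ideal.IsPrime.le_of_pow_le h1
  rw [PrimeSpectrum.discreteTopology_iff_finite_and_krullDimLE_zero]
  constructor
  · let f : PrimeSpectrum (R ⧸ I ^ n) → MaximalSpectrum R := fun q => ⟨_, hmax q⟩
    refine Finite.of_injective f ?_
    intro q q' h
    have h' : q.asIdeal.comap (Ideal.Quotient.mk (I ^ n)) =
        q'.asIdeal.comap (Ideal.Quotient.mk (I ^ n)) := congrArg MaximalSpectrum.asIdeal h
    ext1
    exact Ideal.comap_injective_of_surjective _ Ideal.Quotient.mk_surjective h'
  · rw [Ring.krullDimLE_zero_iff]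
    intro q hq
    have h1 := hmax ⟨q, hq⟩
    have h2 : RingHom.ker (Ideal.Quotient.mk (I ^ n)) ≤ q.comap (Ideal.Quotient.mk (I ^ n)) := by
      intro a ha
      rw [Ideal.mem_comap, RingHom.mem_ker.1 ha]
      exact Ideal.zero_mem _
    have h3 := Ideal.IsMaximal.map_of_surjective_of_ker_le
      (f := Ideal.Quotient.mk (I ^ n)) Ideal.Quotient.mk_surjective h2
    rwa [Ideal.map_comap_of_surjective _ Ideal.Quotient.mk_surjective] at h3

/-- kernel of `R_m → (R/I^n)_{m'}`, `m = m' ∩ R`. -/
lemma mem_of_localRingHom_eq_zero (n : ℕ) (m' : Ideal (R ⧸ I ^ n)) [m'.IsPrime]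
    (z : Localization.AtPrime (m'.comap (Ideal.Quotient.mk (I ^ n))))
    (hz : Localization.localRingHom (m'.comap (Ideal.Quotient.mk (I ^ n))) m'
      (Ideal.Quotient.mk (I ^ n)) rfl z = 0) :
    z ∈ (I ^ n • ⊤ :
      Submodule R (Localization.AtPrime (m'.comap (Ideal.Quotient.mk (I ^ n))))) := by
  obtain ⟨⟨b, s⟩, rfl⟩ := IsLocalization.mk'_surjective
    (m'.comap (Ideal.Quotient.mk (I ^ n))).primeCompl z
  rw [Localization.localRingHom_mk', IsLocalization.mk'_eq_zero_iff] at hz
  obtain ⟨t', ht'⟩ := hz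
  obtain ⟨t, ht⟩ := Ideal.Quotient.mk_surjective (t' : R ⧸ I ^ n)
  have htm : t ∈ (m'.comap (Ideal.Quotient.mk (I ^ n))).primeCompl := fun h => t'.2 (by
    rw [← ht]; exact h)
  have hb : t * b ∈ I ^ n := by
    rw [← Ideal.Quotient.eq_zero_iff_mem, map_mul, ht]; exact ht'
  have e : IsLocalization.mk' (Localization.AtPrime (m'.comap (Ideal.Quotient.mk (I ^ n)))) b s
      = (t * b) • IsLocalization.mk'
          (Localization.AtPrime (m'.comap (Ideal.Quotient.mk (I ^ n)))) (1 : R)
          (⟨t, htm⟩ * s) := by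
    rw [Algebra.smul_def, IsLocalization.mul_mk'_eq_mk'_of_mul, mul_one]
    apply IsLocalization.mk'_eq_of_eq
    simp only [Submonoid.coe_mul]
    ring
  show IsLocalization.mk' (Localization.AtPrime (m'.comap (Ideal.Quotient.mk (I ^ n)))) b s ∈ _
  rw [e]
  exact Submodule.smul_mem_smul hb trivial

/-- level-`n` surjectivity. -/
lemma exists_approx (hR : Finite (MaximalSpectrum R))
    (hI : ∀ (p : Ideal R), p.IsPrime → I ≤ p → p.IsMaximal) (n : ℕ)
    (y : ∀ m : {m : MaximalSpectrum R // I ≤ m.asIdeal}, Localization.AtPrime m.1.asIdeal) :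
    ∃ x : R, ∀ m : {m : MaximalSpectrum R // I ≤ m.asIdeal},
      algebraMap R (Localization.AtPrime m.1.asIdeal) x - y m ∈
        (I ^ n • ⊤ : Submodule R (Localization.AtPrime m.1.asIdeal)) := by
  rcases Nat.eq_zero_or_pos n with rfl | hn
  · refine ⟨0, fun m => ?_⟩
    rw [pow_zero, Ideal.one_eq_top, Submodule.top_smul]
    trivial
  haveI := discrete_quot I hR hI n
  -- the index attached to a maximal ideal of the quotient
  have hle : ∀ m' : MaximalSpectrum (R ⧸ I ^ n),
      I ≤ m'.asIdeal.comap (Ideal.Quotient.mk (I ^ n)) := by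
    intro m'
    have h1 : I ^ n ≤ m'.asIdeal.comap (Ideal.Quotient.mk (I ^ n)) := by
      intro a ha
      rw [Ideal.mem_comap, Ideal.Quotient.eq_zero_iff_mem.2 ha]
      exact Ideal.zero_mem _
    haveI := Ideal.comap_isPrime (Ideal.Quotient.mk (I ^ n)) m'.asIdeal
    exact Ideal.IsPrime.le_of_pow_le h1
  let idx : MaximalSpectrum (R ⧸ I ^ n) → {m : MaximalSpectrum R // I ≤ m.asIdeal} :=
    fun m' => ⟨⟨m'.asIdeal.comap (Ideal.Quotient.mk (I ^ n)),
      Ideal.comap_isMaximal_of_surjective _ Ideal.Quotient.mk_surjective⟩, hle m'⟩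
  have hidx : Function.Surjective idx := by
    intro m
    have hker : RingHom.ker (Ideal.Quotient.mk (I ^ n)) ≤ m.1.asIdeal := by
      rw [Ideal.mk_ker]
      exact (Ideal.pow_le_self hn.ne').trans m.2
    haveI := m.1.isMaximal
    refine ⟨⟨m.1.asIdeal.map (Ideal.Quotient.mk (I ^ n)),
      Ideal.IsMaximal.map_of_surjective_of_ker_le Ideal.Quotient.mk_surjective hker⟩, ?_⟩
    apply Subtype.ext
    apply MaximalSpectrum.ext
    show (m.1.asIdeal.map (Ideal.Quotient.mk (I ^ n))).comap (Ideal.Quotient.mk (I ^ n)) = _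
    rw [Ideal.comap_map_of_surjective _ Ideal.Quotient.mk_surjective, ← RingHom.ker_eq_comap_bot]
    exact sup_eq_left.2 hker
  let Y : MaximalSpectrum.PiLocalization (R ⧸ I ^ n) := fun m' =>
    Localization.localRingHom (m'.asIdeal.comap (Ideal.Quotient.mk (I ^ n))) m'.asIdeal
      (Ideal.Quotient.mk (I ^ n)) rfl (y (idx m'))
  obtain ⟨x', hx'⟩ :=
    PrimeSpectrum.maximalSpectrumToPiLocalization_surjective_of_discreteTopology (R ⧸ I ^ n) Y
  obtain ⟨x, rfl⟩ := Ideal.Quotient.mk_surjective x'
  refine ⟨x, fun m => ?_⟩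
  obtain ⟨m', rfl⟩ := hidx m
  apply mem_of_localRingHom_eq_zero I n m'.asIdeal
  rw [map_sub, Localization.localRingHom_to_map]
  have := congrFun hx' m'
  rw [MaximalSpectrum.toPiLocalization_apply_apply] at this
  rw [this]
  exact sub_self _

theorem main (hR : Finite (MaximalSpectrum R))
    (hI : ∀ (p : Ideal R), p.IsPrime → I ≤ p → p.IsMaximal) :
    Function.Bijective (LinearMap.pi (fun m : {m : MaximalSpectrum R // I ≤ m.asIdeal} =>
      AdicCompletion.map I (Algebra.linearMap R (Localization.AtPrime m.1.asIdeal)))) := by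
  constructor
  · rw [injective_iff_map_eq_zero]
    intro X hX
    obtain ⟨a, rfl⟩ := AdicCompletion.mk_surjective I R X
    apply AdicCompletion.ext
    intro n
    rw [AdicCompletion.mk_apply_coe, AdicCompletion.val_zero_apply, Submodule.mkQ_apply,
      Submodule.Quotient.mk_eq_zero]
    have key : a n ∈ I ^ n := by
      apply mem_pow_of_forall_mem I n (a n)
      intro m
      have h1 := congrFun hX m
      rw [LinearMap.pi_apply, AdicCompletion.map_mk] at h1
      have h2 := congrArg (fun z => z.val n) h1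
      simp only [AdicCompletion.mk_apply_coe, Pi.zero_apply, AdicCompletion.val_zero_apply,
        Submodule.mkQ_apply, Submodule.Quotient.mk_eq_zero] at h2
      exact h2
    rw [smul_eq_mul, Ideal.mul_top]
    exact key
  · intro Y
    choose b hb using fun m => AdicCompletion.mk_surjective I _ (Y m)
    choose x hx using fun n => exists_approx I hR hI n (fun m => b m n)
    have hcauchy : ∀ n, x n ≡ x (n + 1) [SMOD (I ^ n • ⊤ : Submodule R R)] := by
      intro n
      rw [SModEq.sub_mem, smul_eq_mul, Ideal.mul_top]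
      apply mem_pow_of_forall_mem I n
      intro m
      have h1 := hx n m
      have h2 : algebraMap R (Localization.AtPrime m.1.asIdeal) (x (n + 1)) - b m (n + 1) ∈
          (I ^ n • ⊤ : Submodule R (Localization.AtPrime m.1.asIdeal)) :=
        Submodule.smul_mono_left (Ideal.pow_le_pow_right (Nat.le_succ n)) (hx (n + 1) m)
      have h3 : b m n - b m (n + 1) ∈
          (I ^ n • ⊤ : Submodule R (Localization.AtPrime m.1.asIdeal)) :=
        SModEq.sub_mem.1 ((b m).property (Nat.le_succ n))
      have e : algebraMap R (Localization.AtPrime m.1.asIdeal) (x n - x (n + 1)) =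
          (algebraMap R (Localization.AtPrime m.1.asIdeal) (x n) - b m n) -
          (algebraMap R (Localization.AtPrime m.1.asIdeal) (x (n + 1)) - b m (n + 1)) +
          (b m n - b m (n + 1)) := by
        rw [map_sub]; ring
      rw [e]
      exact Submodule.add_mem _ (Submodule.sub_mem _ h1 h2) h3
    refine ⟨AdicCompletion.mk I R (AdicCompletion.AdicCauchySequence.mk I R x hcauchy), ?_⟩
    funext m
    rw [LinearMap.pi_apply, AdicCompletion.map_mk, ← hb m]
    apply AdicCompletion.ext
    intro n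
    rw [AdicCompletion.mk_apply_coe, AdicCompletion.mk_apply_coe, Submodule.mkQ_apply,
      Submodule.mkQ_apply, Submodule.Quotient.eq]
    exact hx n m

end Groth.Agent.Helper7.SemiCompl
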