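import Mathlib
import Groth.Prelude.Def_CAlgX
import Groth.Prelude.Def_Found
import Groth.Prelude.Def_EGA4b
import Groth.Agent.S0543
import Groth.Agent.Helper2.RegLoc
import Groth.Agent.Helper2.RegBC
import Groth.Agent.Helper2.CplMap
import Groth.Agent.Helper2.CplIff
import Groth.Agent.Helper2.GLoc
import Groth.Agent.Helper7.CKq3
set_option autoImplicit false
set_option linter.style.haveILetI false
set_option linter.unusedSectionVars false
set_option linter.unusedVariables false
open TensorProduct IsLocalRing
universe u
namespace Groth.Agent.Helper7.CKd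

section X
variable (A : Type u) [CommRing A] [IsLocalRing A] [IsNoetherianRing A]

/-- if the formal fibres of a noetherian local ring are geometrically regular, so are those of its
localizations (Matsumura 32.4 / EGA IV 7.4.4 local part). -/
theorem isRegularHom_cpl_localization (h : CAlg.IsRegularHom A (EGA4.Cpl A))
    (P : Ideal (EGA4.Cpl A)) [P.IsPrime] :
    CAlg.IsRegularHom (Localization.AtPrime (P.comap (algebraMap A (EGA4.Cpl A))))
      (EGA4.Cpl (Localization.AtPrime (P.comap (algebraMap A (EGA4.Cpl A))))) := by
  haveI hn : IsNoetherianRing (EGA4.Cpl A) := Groth.Agent.S0543.result A _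
  set q := P.comap (algebraMap A (EGA4.Cpl A)) with hq
  letI alg1 : Algebra (Localization.AtPrime q) (Localization.AtPrime P) :=
    (Localization.localRingHom q P (algebraMap A (EGA4.Cpl A)) rfl).toAlgebra
  have h1 : CAlg.IsRegularHom (Localization.AtPrime q) (Localization.AtPrime P) :=
    Groth.Agent.Helper2.RegLoc.loc_of_isRegularHom A (EGA4.Cpl A) h P
  haveI : IsLocalHom (algebraMap (Localization.AtPrime q) (Localization.AtPrime P)) :=
    Localization.isLocalHom_localRingHom _ _ _ rfl
  haveI : IsNoetherianRing (Localization.AtPrime q) :=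
    IsLocalization.isNoetherianRing q.primeCompl _ inferInstance
  haveI : IsNoetherianRing (Localization.AtPrime P) :=
    IsLocalization.isNoetherianRing P.primeCompl _ inferInstance
  haveI : IsNoetherianRing (EGA4.Cpl (Localization.AtPrime P)) := Groth.Agent.S0543.result _ _
  have hG : CAlg.IsGRing (EGA4.Cpl A) := s0598 (EGA4.Cpl A)
  have h2 : CAlg.IsRegularHom (Localization.AtPrime P) (EGA4.Cpl (Localization.AtPrime P)) :=
    hG.2 P
  haveI : IsScalarTower (Localization.AtPrime q) (Localization.AtPrime P)
      (EGA4.Cpl (Localization.AtPrime P)) := IsScalarTower.of_algebraMap_eq (fun a => rfl)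
  have h3 : CAlg.IsRegularHom (Localization.AtPrime q) (EGA4.Cpl (Localization.AtPrime P)) :=
    Groth.Agent.Helper2.RegComp.isRegularHom_comp _ (Localization.AtPrime P) _ h1 h2
      (fun p' _ => Groth.Agent.Helper2.RegBC.isNoetherianRing_fiber _ _ p')
  haveI : Module.Flat (Localization.AtPrime q) (Localization.AtPrime P) := h1.1
  obtain ⟨alg2, tow2, ff⟩ := Groth.Agent.Helper2.CplMap.exists_algebra (Localization.AtPrime q)
    (Localization.AtPrime P)
  exact Groth.Agent.Helper2.RegLoc.isRegularHom_descent (Localization.AtPrime q)
    (EGA4.Cpl (Localization.AtPrime q)) (EGA4.Cpl (Localization.AtPrime P)) h3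

theorem isRegularHom_cpl_congr {R : Type u} [CommRing R] (p₁ p₂ : Ideal R) [p₁.IsPrime]
    [p₂.IsPrime] (h : p₁ = p₂)
    (H : CAlg.IsRegularHom (Localization.AtPrime p₁) (EGA4.Cpl (Localization.AtPrime p₁))) :
    CAlg.IsRegularHom (Localization.AtPrime p₂) (EGA4.Cpl (Localization.AtPrime p₂)) := by
  subst h
  exact H

/-- a noetherian local ring with geometrically regular formal fibres is a G-ring. -/
theorem isGRing_of_isRegularHom_cpl (h : CAlg.IsRegularHom A (EGA4.Cpl A)) : CAlg.IsGRing A := by
  refine ⟨inferInstance, fun q hq => ?_⟩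
  haveI := Groth.Agent.Helper2.CplIff.ff A
  obtain ⟨P, hP⟩ := PrimeSpectrum.comap_surjective_of_faithfullyFlat (B := EGA4.Cpl A) ⟨q, hq⟩
  haveI := P.isPrime
  have hP' : P.asIdeal.comap (algebraMap A (EGA4.Cpl A)) = q := congrArg PrimeSpectrum.asIdeal hP
  exact isRegularHom_cpl_congr _ q hP' (isRegularHom_cpl_localization A h P.asIdeal)

end X

section S2047
variable {R : Type u} [CommRing R] [IsNoetherianRing R]

theorem s2047 :
    CAlg.IsGRing R ↔ ∀ (m : Ideal R) [m.IsMaximal],
      CAlg.IsRegularHom (Localization.AtPrime m)
        (AdicCompletion (IsLocalRing.maximalIdeal (Localization.AtPrime m)) (Localization.AtPrime m)) := by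
  constructor
  · intro h m hm
    exact h.2 m
  · intro H
    refine ⟨inferInstance, fun p hp => ?_⟩
    obtain ⟨m, hm, hpm⟩ := Ideal.exists_le_maximal p hp.ne_top
    haveI := hm
    haveI : IsNoetherianRing (Localization.AtPrime m) :=
      IsLocalization.isNoetherianRing m.primeCompl _ inferInstance
    have hA : CAlg.IsGRing (Localization.AtPrime m) :=
      isGRing_of_isRegularHom_cpl (Localization.AtPrime m) (H m)
    have hdisj : Disjoint (m.primeCompl : Set R) (p : Set R) := by
      rw [Set.disjoint_left]
      intro x hx hxp
      exact hx (hpm hxp)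
    set p' := p.map (algebraMap R (Localization.AtPrime m)) with hp'
    haveI : p'.IsPrime :=
      IsLocalization.isPrime_of_isPrime_disjoint m.primeCompl _ p hp hdisj
    have hcomap : p'.comap (algebraMap R (Localization.AtPrime m)) = p :=
      IsLocalization.under_map_of_isPrime_disjoint m.primeCompl _ hp hdisj
    have h1 := hA.2 p'
    haveI : IsLocalization.AtPrime (Localization.AtPrime p')
        (p'.comap (algebraMap R (Localization.AtPrime m))) :=
      IsLocalization.isLocalization_isLocalization_atPrime_isLocalization m.primeCompl _ p'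
    let e : Localization.AtPrime (p'.comap (algebraMap R (Localization.AtPrime m))) ≃ₐ[R]
        Localization.AtPrime p' :=
      IsLocalization.algEquiv (p'.comap (algebraMap R (Localization.AtPrime m))).primeCompl _ _
    haveI : IsNoetherianRing (Localization.AtPrime p') :=
      IsLocalization.isNoetherianRing p'.primeCompl _ inferInstance
    haveI : IsNoetherianRing
        (Localization.AtPrime (p'.comap (algebraMap R (Localization.AtPrime m)))) :=
      IsLocalization.isNoetherianRing
        (p'.comap (algebraMap R (Localization.AtPrime m))).primeCompl _ inferInstance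
    have h2 := Groth.Agent.Helper2.GLoc.isRegularHom_cpl_of_ringEquiv e.symm.toRingEquiv h1
    exact isRegularHom_cpl_congr _ p hcomap h2

end S2047
end Groth.Agent.Helper7.CKd
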