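import Mathlib
import Groth.Prelude.Def_CAlgX
import Groth.Prelude.Def_CAlg
import Groth.Prelude.Def_Hensel
import Groth.Agent.Helper1.HensStrictNoeth
import Groth.Agent.Helper1.HensReg
import Groth.Agent.Helper2.HensGReg
import Groth.Agent.Helper2.GLoc
import Groth.Agent.Helper7.CKr5
import Groth.Agent.Helper7.CKs1
import Groth.Agent.Helper7.CKt14
set_option autoImplicit false
set_option linter.style.haveILetI false
set_option linter.unusedSectionVars false
set_option linter.unusedVariables false
open TensorProduct IsLocalRing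
open Groth.Agent.Helper1.Hens Groth.Agent.Helper2.HensFib Groth.Agent.Helper2.HensGReg
universe u
namespace Groth.Agent.Helper7.CKd

/-- a noetherian local G-ring has a regular completion map. -/
theorem isRegularHom_cpl_of_isGRing (A : Type u) [CommRing A] [IsLocalRing A] [IsNoetherianRing A]
    (h : CAlg.IsGRing A) : CAlg.IsRegularHom A (EGA4.Cpl A) := by
  have hu : ∀ x : A, x ∈ (maximalIdeal A).primeCompl → IsUnit x := by
    intro x hx
    by_contra hnu
    exact hx ((mem_maximalIdeal x).mpr hnu)
  let e : A ≃ₐ[A] Localization.AtPrime (maximalIdeal A) :=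
    IsLocalization.atUnits A (maximalIdeal A).primeCompl hu
  haveI : IsNoetherianRing (Localization.AtPrime (maximalIdeal A)) :=
    IsLocalization.isNoetherianRing (maximalIdeal A).primeCompl _ inferInstance
  exact Groth.Agent.Helper2.GLoc.isRegularHom_cpl_of_ringEquiv e.symm.toRingEquiv
    (h.2 (maximalIdeal A))

section hens
variable (R : Type u) [CommRing R] (Ω : Type u) [Field Ω] [Algebra R Ω]
  [IsLocalRing R] [IsNoetherianRing R] [IsLocalHom (algebraMap R Ω)]

/-- the completion map of `Hens R Ω` is regular when that of `R` is. -/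
theorem isRegularHom_cpl_hens (hR : CAlg.IsRegularHom R (EGA4.Cpl R)) :
    CAlg.IsRegularHom (Hens R Ω) (EGA4.Cpl (Hens R Ω)) := by
  haveI := Hens.isNoetherianRing R Ω
  have h2 : CAlg.IsRegularHom R (Hens R Ω) := isRegularHom_hens R Ω
  have h3 : CAlgX.IsAdicFormallySmooth R (Hens R Ω) (maximalIdeal (Hens R Ω)) :=
    adic_of_isRegularHom_local h2
  haveI hnB : IsNoetherianRing (AdicCompletion (maximalIdeal (Hens R Ω)) (Hens R Ω)) :=
    Groth.Agent.S0543.result _ _
  haveI : Module.Flat (Hens R Ω) (AdicCompletion (maximalIdeal (Hens R Ω)) (Hens R Ω)) :=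
    AdicCompletion.flat_of_isNoetherian _
  haveI : IsLocalHom (algebraMap R (AdicCompletion (maximalIdeal (Hens R Ω)) (Hens R Ω))) := by
    rw [IsScalarTower.algebraMap_eq R (Hens R Ω) (AdicCompletion (maximalIdeal (Hens R Ω)) (Hens R Ω))]
    exact RingHom.isLocalHom_comp _ _
  have h4 : CAlgX.IsAdicFormallySmooth R (AdicCompletion (maximalIdeal (Hens R Ω)) (Hens R Ω))
      (maximalIdeal (AdicCompletion (maximalIdeal (Hens R Ω)) (Hens R Ω))) := by
    have a1 := (Groth.Agent.S4537.result _).mp h3
    have a2 := (Groth.Agent.S2461.result (⊥ : Ideal R) (maximalIdeal (Hens R Ω))).mp a1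
    rw [← AdicCompletion.maximalIdeal_eq_map (R := Hens R Ω)] at a2
    exact (Groth.Agent.S4537.result _).mpr a2
  have h5 : CAlg.IsRegularHom R (AdicCompletion (maximalIdeal (Hens R Ω)) (Hens R Ω)) :=
    s9314 hR h4
  exact isRegularHom_cancel R (Hens R Ω) (AdicCompletion (maximalIdeal (Hens R Ω)) (Hens R Ω)) h5
    (fun p _ => isVNR_fibre p.ResidueField) (fun Q _ => isSeparable_hens R Ω Q)

end hens

theorem s2045 {R S : Type u} [CommRing R] [IsLocalRing R] [IsNoetherianRing R]
    (hR : CAlg.IsGRing R) [CommRing S] [IsLocalRing S] [Algebra R S] [IsLocalHom (algebraMap R S)]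
    [Hensel.IsHenselization R S] : CAlg.IsGRing S := by
  haveI := isNoetherianRing_of_isHenselization R S
  have h1 := isRegularHom_cpl_of_isGRing R hR
  exact isGRing_of_isRegularHom_cpl S ((Groth.Agent.Helper2.HensGReg.main R S).mpr h1)

theorem s2046 {R S : Type u} [CommRing R] [IsLocalRing R] [IsNoetherianRing R]
    (hR : CAlg.IsGRing R) [CommRing S] [IsLocalRing S] [Algebra R S] [IsLocalHom (algebraMap R S)]
    [Hensel.IsStrictHenselization R S] : CAlg.IsGRing S := by
  haveI := isNoetherianRing_of_isStrictHenselization R S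
  haveI := Hens.isNoetherianRing R (ResidueField S)
  have h1 := isRegularHom_cpl_of_isGRing R hR
  have h2 := isRegularHom_cpl_hens R (ResidueField S) h1
  exact isGRing_of_isRegularHom_cpl S
    (Groth.Agent.Helper2.GLoc.isRegularHom_cpl_of_ringEquiv
      (equivOfIsStrictHenselization R S).symm.toRingEquiv h2)

end Groth.Agent.Helper7.CKd
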