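import Mathlib
import Groth.Prelude.Def_Found
import Groth.Prelude.Def_EGA4b
import Groth.Agent.Helper2.ExcLoc
import Groth.Agent.Helper7.CKs1
import Groth.Agent.Helper7.CKu5
import Groth.Agent.Helper7.CKq3
import Groth.Agent.Helper7.CohenT1
import Groth.Agent.Helper7.CKv5
set_option autoImplicit false
set_option linter.style.haveILetI false
set_option linter.unusedSectionVars false
set_option linter.unusedVariables false
open TensorProduct IsLocalRing
universe u
namespace Groth.Agent.Helper7.CKd

/-- **algebras essentially of finite type over G-rings are G-rings.** -/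
theorem isGRing_of_essFiniteType (R : Type u) [CommRing R] (hR : CAlg.IsGRing R) (S : Type u)
    [CommRing S] [Algebra R S] [Algebra.EssFiniteType R S] : CAlg.IsGRing S := by
  have h0 := s0599 R hR (Algebra.EssFiniteType.subalgebra R S)
  exact Groth.Agent.Helper2.ExcLoc.isGRing_of_isLocalization _
    (Algebra.EssFiniteType.submonoid R S) S h0

/-- a noetherian local ring essentially of finite type over a noetherian local ring with regular
completion map has a regular completion map. -/
theorem isRegularHom_cpl_of_essFiniteType (A B : Type u) [CommRing A] [CommRing B]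
    [IsLocalRing A] [IsNoetherianRing A] [IsLocalRing B] [Algebra A B] [Algebra.EssFiniteType A B]
    (hA : CAlg.IsRegularHom A (EGA4.Cpl A)) : CAlg.IsRegularHom B (EGA4.Cpl B) := by
  have hG : CAlg.IsGRing A := isGRing_of_isRegularHom_cpl A hA
  have hGB := isGRing_of_essFiniteType A hG B
  haveI := hGB.1
  exact isRegularHom_cpl_of_isGRing B hGB

theorem s9289 (R R' : Type u) [CommRing R]
    [CommRing R'] [IsNoetherianRing R] [IsNoetherianRing R'] [Algebra R R'] [Algebra.FiniteType R R']
    (p' : Ideal R') [p'.IsPrime]
    (h : CAlg.IsRegularHom (Localization.AtPrime (Ideal.comap (algebraMap R R') p'))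
      (AdicCompletion (IsLocalRing.maximalIdeal (Localization.AtPrime (Ideal.comap (algebraMap R R') p')))
        (Localization.AtPrime (Ideal.comap (algebraMap R R') p')))) :
    CAlg.IsRegularHom (Localization.AtPrime p')
      (AdicCompletion (IsLocalRing.maximalIdeal (Localization.AtPrime p')) (Localization.AtPrime p')) := by
  haveI : IsNoetherianRing (Localization.AtPrime (Ideal.comap (algebraMap R R') p')) :=
    IsLocalization.isNoetherianRing (Ideal.comap (algebraMap R R') p').primeCompl _ inferInstance
  letI : Algebra (Localization.AtPrime (Ideal.comap (algebraMap R R') p')) (Localization.AtPrime p') :=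
    (Localization.localRingHom (Ideal.comap (algebraMap R R') p') p' (algebraMap R R') rfl).toAlgebra
  haveI : IsScalarTower R (Localization.AtPrime (Ideal.comap (algebraMap R R') p'))
      (Localization.AtPrime p') :=
    IsScalarTower.of_algebraMap_eq (fun r => by
      show algebraMap R (Localization.AtPrime p') r =
        Localization.localRingHom _ p' _ rfl (algebraMap R _ r)
      rw [Localization.localRingHom_to_map]
      exact IsScalarTower.algebraMap_apply R R' (Localization.AtPrime p') r)
  haveI : Algebra.EssFiniteType R (Localization.AtPrime p') := inferInstance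
  haveI : Algebra.EssFiniteType (Localization.AtPrime (Ideal.comap (algebraMap R R') p'))
      (Localization.AtPrime p') :=
    Algebra.EssFiniteType.of_comp R _ _
  exact isRegularHom_cpl_of_essFiniteType _ _ h

theorem s9281
    (A : Type u) [CommRing A] [IsLocalRing A] [IsNoetherianRing A]
    [IsAdicComplete (IsLocalRing.maximalIdeal A) A]
    (q : Ideal (Polynomial A)) [q.IsPrime]
    (R : Ideal (Localization.AtPrime q)) [R.IsPrime] :
    CAlg.IsGeometricallyRegular R.ResidueField (EGA4.formalFibre (Localization.AtPrime q) R) := by
  have hG : CAlg.IsGRing A := s0598 A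
  have hG2 : CAlg.IsGRing (Polynomial A) := s0599 A hG _
  exact ((hG2.2 q).2 R).2

theorem s9299 (k : Type u) [Field k] (n m : ℕ)
    (P : Ideal (MvPolynomial (Fin m) (MvPowerSeries (Fin n) k))) [P.IsPrime]
    (Q : Ideal (Localization.AtPrime P)) [Q.IsPrime] :
    CAlg.IsGeometricallyRegular (@Ideal.ResidueField (Localization.AtPrime P) _ Q _)
      (EGA4.formalFibre (Localization.AtPrime P) Q) := by
  haveI : IsAdicComplete (maximalIdeal k) k := by
    rw [IsLocalRing.maximalIdeal_eq_bot]; infer_instance
  haveI : IsAdicComplete (maximalIdeal (MvPowerSeries (Fin n) k)) (MvPowerSeries (Fin n) k) :=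
    Groth.Agent.Helper7.Cohen.isAdicComplete_mvPowerSeries (0 : k)
      (by rw [IsLocalRing.maximalIdeal_eq_bot]; simp) n
  have hG : CAlg.IsGRing (MvPowerSeries (Fin n) k) := s0598 _
  have hG2 := isGRing_mvPolynomial _ hG m
  exact ((hG2.2 P).2 Q).2

end Groth.Agent.Helper7.CKd
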