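import Mathlib
import Groth.Prelude.Def_HopfRep
import Groth.Prelude.Def_Hoch

set_option autoImplicit false
set_option linter.unusedSectionVars false
universe u v w w'

namespace Groth.Agent.Helper7.Comodule

open TensorProduct HopfRep

section Slice

variable {K : Type u} [CommRing K] {M : Type w} {M' : Type w'} {C : Type v} {C' : Type*}
  [AddCommGroup M] [Module K M] [AddCommGroup M'] [Module K M'] [AddCommGroup C] [Module K C]
  [AddCommGroup C'] [Module K C']

/-- contract the right tensor factor against a functional -/
noncomputable def sliceR (g : C →ₗ[K] K) : M ⊗[K] C →ₗ[K] M :=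
  (TensorProduct.rid K M).toLinearMap ∘ₗ LinearMap.lTensor M g

/-- contract the left tensor factor against a functional -/
noncomputable def sliceL (l : M →ₗ[K] K) : M ⊗[K] C →ₗ[K] C :=
  (TensorProduct.lid K C).toLinearMap ∘ₗ LinearMap.rTensor C l

@[simp] lemma sliceR_tmul (g : C →ₗ[K] K) (m : M) (c : C) :
    sliceR g (m ⊗ₜ[K] c) = g c • m := by simp [sliceR]

@[simp] lemma sliceL_tmul (l : M →ₗ[K] K) (m : M) (c : C) :
    sliceL l (m ⊗ₜ[K] c) = l m • c := by simp [sliceL]

lemma sliceR_rTensor (g : C →ₗ[K] K) (h : M →ₗ[K] M') (x : M ⊗[K] C) :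
    sliceR g (LinearMap.rTensor C h x) = h (sliceR g x) := by
  induction x using TensorProduct.induction_on with
  | zero => simp
  | tmul m c => simp
  | add x y hx hy => simp [hx, hy]

lemma sliceR_lTensor (g : C' →ₗ[K] K) (h : C →ₗ[K] C') (x : M ⊗[K] C) :
    sliceR g (LinearMap.lTensor M h x) = sliceR (g ∘ₗ h) x := by
  induction x using TensorProduct.induction_on with
  | zero => simp
  | tmul m c => simp
  | add x y hx hy => simp [hx, hy]

lemma sliceL_lTensor (l : M →ₗ[K] K) (h : C →ₗ[K] C') (x : M ⊗[K] C) :
    sliceL l (LinearMap.lTensor M h x) = h (sliceL l x) := by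
  induction x using TensorProduct.induction_on with
  | zero => simp
  | tmul m c => simp
  | add x y hx hy => simp [hx, hy]

lemma sliceL_rTensor (l : M' →ₗ[K] K) (h : M →ₗ[K] M') (x : M ⊗[K] C) :
    sliceL l (LinearMap.rTensor C h x) = sliceL (l ∘ₗ h) x := by
  induction x using TensorProduct.induction_on with
  | zero => simp
  | tmul m c => simp
  | add x y hx hy => simp [hx, hy]

lemma sliceL_map (l : M' →ₗ[K] K) (h : M →ₗ[K] M') (h' : C →ₗ[K] C') (x : M ⊗[K] C) :
    sliceL l (TensorProduct.map h h' x) = h' (sliceL (l ∘ₗ h) x) := by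
  induction x using TensorProduct.induction_on with
  | zero => simp
  | tmul m c => simp
  | add x y hx hy => simp [hx, hy]

lemma sliceR_map (g : C' →ₗ[K] K) (h : M →ₗ[K] M') (h' : C →ₗ[K] C') (x : M ⊗[K] C) :
    sliceR g (TensorProduct.map h h' x) = h (sliceR (g ∘ₗ h') x) := by
  induction x using TensorProduct.induction_on with
  | zero => simp
  | tmul m c => simp
  | add x y hx hy => simp [hx, hy]

/-- If all right slices of `x` lie in `W`, then `x` comes from `W ⊗ C` (free right factor). -/
lemma mem_range_rTensor_of_sliceR [Module.Free K C] (W : Submodule K M) (x : M ⊗[K] C)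
    (h : ∀ g : C →ₗ[K] K, sliceR g x ∈ W) :
    x ∈ LinearMap.range (LinearMap.rTensor C W.subtype) := by
  classical
  let b := Module.Free.chooseBasis K C
  have hx : x = (TensorProduct.equivFinsuppOfBasisRight b).symm
      (TensorProduct.equivFinsuppOfBasisRight b x) := (LinearEquiv.symm_apply_apply _ _).symm
  rw [hx, TensorProduct.equivFinsuppOfBasisRight_symm_apply]
  refine Submodule.sum_mem _ fun i _ => ?_
  have hi : TensorProduct.equivFinsuppOfBasisRight b x i ∈ W := by
    rw [TensorProduct.equivFinsuppOfBasisRight_apply]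
    exact h (b.coord i)
  exact ⟨⟨_, hi⟩ ⊗ₜ b i, by simp⟩

/-- If all left slices of `x` lie in `D`, then `x` comes from `M ⊗ D` (free left factor). -/
lemma mem_range_lTensor_of_sliceL [Module.Free K M] (D : Submodule K C) (x : M ⊗[K] C)
    (h : ∀ l : M →ₗ[K] K, sliceL l x ∈ D) :
    x ∈ LinearMap.range (LinearMap.lTensor M D.subtype) := by
  classical
  let b := Module.Free.chooseBasis K M
  have hx : x = (TensorProduct.equivFinsuppOfBasisLeft b).symm
      (TensorProduct.equivFinsuppOfBasisLeft b x) := (LinearEquiv.symm_apply_apply _ _).symm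
  rw [hx, TensorProduct.equivFinsuppOfBasisLeft_symm_apply]
  refine Submodule.sum_mem _ fun i _ => ?_
  have hi : TensorProduct.equivFinsuppOfBasisLeft b x i ∈ D := by
    rw [TensorProduct.equivFinsuppOfBasisLeft_apply]
    exact h (b.coord i)
  exact ⟨b i ⊗ₜ ⟨_, hi⟩, by simp⟩

/-- right slices separate points (free right factor). -/
lemma eq_zero_of_sliceR [Module.Free K C] (x : M ⊗[K] C)
    (h : ∀ g : C →ₗ[K] K, sliceR g x = 0) : x = 0 := by
  classical
  let b := Module.Free.chooseBasis K C
  apply (TensorProduct.equivFinsuppOfBasisRight b).injective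
  ext i
  rw [TensorProduct.equivFinsuppOfBasisRight_apply]
  exact h (b.coord i)

/-- left slices separate points (free left factor). -/
lemma eq_zero_of_sliceL [Module.Free K M] (x : M ⊗[K] C)
    (h : ∀ l : M →ₗ[K] K, sliceL l x = 0) : x = 0 := by
  classical
  let b := Module.Free.chooseBasis K M
  apply (TensorProduct.equivFinsuppOfBasisLeft b).injective
  ext i
  rw [TensorProduct.equivFinsuppOfBasisLeft_apply]
  exact h (b.coord i)

end Slice

section Act

variable {K : Type u} {C : Type v} [CommRing K] [AddCommGroup C] [Module K C] [Coalgebra K C]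
variable {V : Type w} [AddCommGroup V] [Module K V] [Comod K C V]
variable {V' : Type w'} [AddCommGroup V'] [Module K V'] [Comod K C V']

/-- the coaction, with explicit arguments -/
abbrev ρ (K : Type u) (C : Type v) [CommRing K] [AddCommGroup C] [Module K C] [Coalgebra K C]
    (V : Type w) [AddCommGroup V] [Module K V] [Comod K C V] : V →ₗ[K] V ⊗[K] C :=
  Comod.coact (k := K) (A := C)

/-- the action of a functional on `C` on a right `C`-comodule -/
noncomputable def act (f : C →ₗ[K] K) : V →ₗ[K] V := sliceR f ∘ₗ ρ K C V

lemma act_apply (f : C →ₗ[K] K) (v : V) : act f v = sliceR f (ρ K C V v) := rfl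

lemma act_add (f g : C →ₗ[K] K) (v : V) : act (f + g) v = act f v + act g v := by
  simp [act_apply, sliceR, LinearMap.lTensor_add]

lemma act_smul (c : K) (f : C →ₗ[K] K) (v : V) : act (c • f) v = c • act f v := by
  simp [act_apply, sliceR, LinearMap.lTensor_smul]

lemma act_zero (v : V) : act (0 : C →ₗ[K] K) v = 0 := by
  simp [act_apply, sliceR]

lemma act_counit (v : V) : act (CoalgebraStruct.counit (R := K) (A := C)) v = v := by
  have h := LinearMap.congr_fun (Comod.counit_comp (k := K) (A := C) (V := V)) v
  simp only [LinearMap.coe_comp, Function.comp_apply, LinearMap.flip_apply,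
    TensorProduct.mk_apply] at h
  rw [act_apply, sliceR, LinearMap.coe_comp, Function.comp_apply, h]
  simp

private lemma aux_inner (f g : C →ₗ[K] K) (c : C) (z : V ⊗[K] C) :
    sliceR (LinearMap.mul' K K ∘ₗ TensorProduct.map f g)
      ((TensorProduct.assoc K V C C) (z ⊗ₜ[K] c)) = g c • sliceR f z := by
  induction z using TensorProduct.induction_on with
  | zero => simp
  | tmul v d => simp [smul_smul, mul_comm]
  | add x y hx hy => simp only [TensorProduct.add_tmul, map_add, hx, hy, smul_add]

private lemma aux_outer (f g : C →ₗ[K] K) (y : V ⊗[K] C) :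
    sliceR (LinearMap.mul' K K ∘ₗ TensorProduct.map f g)
      ((TensorProduct.assoc K V C C) (LinearMap.rTensor C (ρ K C V) y)) =
      act f (sliceR g y) := by
  induction y using TensorProduct.induction_on with
  | zero => simp
  | tmul v c =>
    rw [LinearMap.rTensor_tmul, aux_inner, sliceR_tmul, map_smul, act_apply]
  | add x y hx hy => simp only [map_add, hx, hy]

lemma act_convMul (f g : C →ₗ[K] K) (v : V) :
    act (LinearMap.mul' K K ∘ₗ TensorProduct.map f g ∘ₗ CoalgebraStruct.comul) v =
      act f (act g v) := by
  have h := LinearMap.congr_fun (Comod.coassoc (k := K) (A := C) (V := V)) v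
  simp only [LinearMap.coe_comp, Function.comp_apply, LinearEquiv.coe_coe] at h
  rw [act_apply (f := g), ← aux_outer, h, sliceR_lTensor, act_apply]
  rfl

/-- the dual algebra of a coalgebra: linear functionals under convolution -/
def Dual (K : Type u) (C : Type v) [CommRing K] [AddCommGroup C] [Module K C] [Coalgebra K C] :
    Type (max u v) := WithConv (C →ₗ[K] K)

noncomputable instance : Ring (Dual K C) := inferInstanceAs (Ring (WithConv (C →ₗ[K] K)))

noncomputable instance : Algebra K (Dual K C) :=
  inferInstanceAs (Algebra K (WithConv (C →ₗ[K] K)))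

/-- a functional as an element of the dual algebra -/
def Dual.of (f : C →ₗ[K] K) : Dual K C := WithConv.toConv f

/-- the functional underlying an element of the dual algebra -/
def Dual.fn (f : Dual K C) : C →ₗ[K] K := WithConv.ofConv f

@[simp] lemma Dual.fn_of (f : C →ₗ[K] K) : (Dual.of f).fn = f := rfl
@[simp] lemma Dual.of_fn (f : Dual K C) : Dual.of f.fn = f := rfl

lemma Dual.fn_one : (1 : Dual K C).fn = CoalgebraStruct.counit := by
  change (1 : WithConv (C →ₗ[K] K)).ofConv = _
  rw [LinearMap.convOne_def, WithConv.ofConv_toConv]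
  ext; simp

lemma Dual.fn_mul (f g : Dual K C) :
    (f * g).fn = LinearMap.mul' K K ∘ₗ TensorProduct.map f.fn g.fn ∘ₗ CoalgebraStruct.comul := rfl

lemma Dual.fn_add (f g : Dual K C) : (f + g).fn = f.fn + g.fn := rfl
lemma Dual.fn_zero : (0 : Dual K C).fn = 0 := rfl
lemma Dual.fn_smul (c : K) (f : Dual K C) : (c • f).fn = c • f.fn := rfl

/-- a right `C`-comodule is a left module over the dual algebra -/
noncomputable instance instModuleDual : Module (Dual K C) V where
  smul f v := act f.fn v
  one_smul v := by
    change act (1 : Dual K C).fn v = v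
    rw [Dual.fn_one, act_counit]
  mul_smul f g v := by
    change act (f * g).fn v = act f.fn (act g.fn v)
    rw [Dual.fn_mul, act_convMul]
  smul_zero f := by change act f.fn 0 = 0; simp
  smul_add f v w := by change act f.fn (v + w) = act f.fn v + act f.fn w; simp
  add_smul f g v := by
    change act (f + g).fn v = act f.fn v + act g.fn v
    rw [Dual.fn_add, act_add]
  zero_smul v := by change act (0 : Dual K C).fn v = 0; rw [Dual.fn_zero]; exact act_zero v

lemma dual_smul_def (f : Dual K C) (v : V) : f • v = act f.fn v := rfl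

instance instIsScalarTowerDual : IsScalarTower K (Dual K C) V where
  smul_assoc c f v := by
    change act (c • f).fn v = c • act f.fn v
    rw [Dual.fn_smul, act_smul]

instance instSMulCommClassDual : SMulCommClass K (Dual K C) V where
  smul_comm c f v := by
    change c • act f.fn v = act f.fn (c • v)
    rw [map_smul]

/-- `act` commutes with comodule maps -/
lemma act_comodHom {φ : V →ₗ[K] V'} (hφ : Hoch.IsComodHom C φ) (f : C →ₗ[K] K) (v : V) :
    φ (act f v) = act f (φ v) := by
  have h := LinearMap.congr_fun hφ v
  simp only [LinearMap.coe_comp, Function.comp_apply] at h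
  rw [act_apply, act_apply]
  change _ = sliceR f (Comod.coact (k := K) (A := C) (φ v))
  rw [h, sliceR_rTensor]

/-- a comodule map as a map of modules over the dual algebra -/
noncomputable def toDualHom {φ : V →ₗ[K] V'} (hφ : Hoch.IsComodHom C φ) : V →ₗ[Dual K C] V' where
  toFun := φ
  map_add' := map_add φ
  map_smul' f v := act_comodHom hφ f.fn v

@[simp] lemma toDualHom_apply {φ : V →ₗ[K] V'} (hφ : Hoch.IsComodHom C φ) (v : V) :
    toDualHom hφ v = φ v := rfl

/-- a map of modules over the dual algebra is a comodule map (free coalgebra) -/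
lemma isComodHom_of_dualHom [Module.Free K C] (ψ : V →ₗ[Dual K C] V') :
    Hoch.IsComodHom C (ψ.restrictScalars K) := by
  apply LinearMap.ext
  intro v
  rw [← sub_eq_zero]
  apply eq_zero_of_sliceR
  intro g
  rw [map_sub, sub_eq_zero]
  simp only [LinearMap.coe_comp, Function.comp_apply]
  rw [sliceR_rTensor]
  have := ψ.map_smul (Dual.of g) v
  exact this.symm

/-- a subcomodule is stable under the dual algebra -/
lemma act_mem_of_isSubcomod {W : Submodule K V} (hW : IsSubcomod (k := K) (A := C) W)
    (f : C →ₗ[K] K) {w : V} (hw : w ∈ W) : act f w ∈ W := by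
  obtain ⟨y, hy⟩ := hW w hw
  rw [act_apply]
  change sliceR f (Comod.coact (k := K) (A := C) w) ∈ W
  rw [← hy, sliceR_rTensor]
  exact (sliceR f y).2

/-- a subspace stable under the dual algebra is a subcomodule (free coalgebra) -/
lemma isSubcomod_of_act_mem [Module.Free K C] {W : Submodule K V}
    (h : ∀ (f : C →ₗ[K] K), ∀ w ∈ W, act f w ∈ W) : IsSubcomod (k := K) (A := C) W :=
  fun w hw => mem_range_rTensor_of_sliceR W _ fun g => h g w hw

/-- the submodule over the dual algebra defined by a subcomodule -/
def toDualSub (W : Submodule K V) (hW : IsSubcomod (k := K) (A := C) W) :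
    Submodule (Dual K C) V where
  carrier := W
  add_mem' := W.add_mem
  zero_mem' := W.zero_mem
  smul_mem' f _ hw := act_mem_of_isSubcomod hW f.fn hw

@[simp] lemma mem_toDualSub {W : Submodule K V} {hW : IsSubcomod (k := K) (A := C) W} {v : V} :
    v ∈ toDualSub W hW ↔ v ∈ W := Iff.rfl

@[simp] lemma toDualSub_restrictScalars {W : Submodule K V}
    {hW : IsSubcomod (k := K) (A := C) W} : (toDualSub W hW).restrictScalars K = W := rfl

lemma isSubcomod_restrictScalars [Module.Free K C] (N : Submodule (Dual K C) V) :
    IsSubcomod (k := K) (A := C) (N.restrictScalars K) :=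
  isSubcomod_of_act_mem fun f _ hw => N.smul_mem (Dual.of f) hw

end Act

end Groth.Agent.Helper7.Comodule
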