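import Mathlib
import Groth.Agent.Helper7.ComodA

set_option autoImplicit false
set_option linter.unusedSectionVars false
universe u v w w'

namespace Groth.Agent.Helper7.Comodule

open TensorProduct HopfRep

section Sub

variable {K : Type u} {C : Type v} [Field K] [AddCommGroup C] [Module K C] [Coalgebra K C]
variable {V : Type w} [AddCommGroup V] [Module K V] [Comod K C V]

lemma rTensor_subtype_injective (W : Submodule K V) :
    Function.Injective (LinearMap.rTensor C W.subtype) :=
  Module.Flat.rTensor_preserves_injective_linearMap _ W.subtype_injective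

lemma lTensor_subtype_injective (M : Type w') [AddCommGroup M] [Module K M] (D : Submodule K C) :
    Function.Injective (LinearMap.lTensor M D.subtype) :=
  Module.Flat.lTensor_preserves_injective_linearMap _ D.subtype_injective

/-- the coaction of a subcomodule -/
noncomputable def subCoact (W : Submodule K V) (hW : IsSubcomod (k := K) (A := C) W) :
    W →ₗ[K] W ⊗[K] C :=
  (LinearEquiv.ofInjective _ (rTensor_subtype_injective (C := C) W)).symm.toLinearMap ∘ₗ
    (ρ K C V ∘ₗ W.subtype).codRestrict _ (fun w => hW w.1 w.2)

lemma rTensor_subCoact (W : Submodule K V) (hW : IsSubcomod (k := K) (A := C) W) (w : W) :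
    LinearMap.rTensor C W.subtype (subCoact W hW w) = ρ K C V w.1 := by
  unfold subCoact
  simp only [LinearMap.coe_comp, LinearEquiv.coe_coe, Function.comp_apply]
  have := LinearEquiv.apply_symm_apply (LinearEquiv.ofInjective _ (rTensor_subtype_injective (C := C) W))
    ((ρ K C V ∘ₗ W.subtype).codRestrict _ (fun w => hW w.1 w.2) w)
  exact congrArg Subtype.val this

private lemma aux1 (W : Submodule K V) (c : C) (z : W ⊗[K] C) :
    LinearMap.rTensor (C ⊗[K] C) W.subtype ((TensorProduct.assoc K W C C) (z ⊗ₜ[K] c)) =
      (TensorProduct.assoc K V C C) (LinearMap.rTensor C W.subtype z ⊗ₜ[K] c) := by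
  induction z using TensorProduct.induction_on with
  | zero => simp
  | tmul v d => simp
  | add x y hx hy => simp only [TensorProduct.add_tmul, map_add, hx, hy]

private lemma aux2 (W : Submodule K V) (hW : IsSubcomod (k := K) (A := C) W) (y : W ⊗[K] C) :
    LinearMap.rTensor (C ⊗[K] C) W.subtype
      ((TensorProduct.assoc K W C C) (LinearMap.rTensor C (subCoact W hW) y)) =
    (TensorProduct.assoc K V C C) (LinearMap.rTensor C (ρ K C V)
      (LinearMap.rTensor C W.subtype y)) := by
  induction y using TensorProduct.induction_on with
  | zero => simp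
  | tmul v d =>
    rw [LinearMap.rTensor_tmul, aux1, rTensor_subCoact, LinearMap.rTensor_tmul,
      LinearMap.rTensor_tmul]
    rfl
  | add x y hx hy => simp only [map_add, hx, hy]

private lemma aux3 (W : Submodule K V) (y : W ⊗[K] C) :
    LinearMap.rTensor (C ⊗[K] C) W.subtype
      (LinearMap.lTensor W (CoalgebraStruct.comul (R := K) (A := C)) y) =
    LinearMap.lTensor V (CoalgebraStruct.comul (R := K) (A := C))
      (LinearMap.rTensor C W.subtype y) := by
  induction y using TensorProduct.induction_on with
  | zero => simp
  | tmul v d => simp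
  | add x y hx hy => simp only [map_add, hx, hy]

private lemma aux4 (W : Submodule K V) (y : W ⊗[K] C) :
    LinearMap.rTensor K W.subtype
      (LinearMap.lTensor W (CoalgebraStruct.counit (R := K) (A := C)) y) =
    LinearMap.lTensor V (CoalgebraStruct.counit (R := K) (A := C))
      (LinearMap.rTensor C W.subtype y) := by
  induction y using TensorProduct.induction_on with
  | zero => simp
  | tmul v d => simp
  | add x y hx hy => simp only [map_add, hx, hy]

/-- a subcomodule is a comodule -/
@[reducible] noncomputable def subComod (W : Submodule K V)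
    (hW : IsSubcomod (k := K) (A := C) W) : Comod K C W where
  coact := subCoact W hW
  coassoc := by
    apply LinearMap.ext
    intro w
    apply Module.Flat.rTensor_preserves_injective_linearMap (M := C ⊗[K] C) _ W.subtype_injective
    simp only [LinearMap.coe_comp, Function.comp_apply, LinearEquiv.coe_coe]
    rw [aux2, aux3, rTensor_subCoact]
    have h := LinearMap.congr_fun (Comod.coassoc (k := K) (A := C) (V := V)) w.1
    simpa using h
  counit_comp := by
    apply LinearMap.ext
    intro w
    apply Module.Flat.rTensor_preserves_injective_linearMap (M := K) _ W.subtype_injective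
    simp only [LinearMap.coe_comp, Function.comp_apply]
    rw [aux4, rTensor_subCoact]
    have h := LinearMap.congr_fun (Comod.counit_comp (k := K) (A := C) (V := V)) w.1
    simpa using h

lemma subtype_isComodHom (W : Submodule K V) (hW : IsSubcomod (k := K) (A := C) W) :
    letI := subComod W hW
    Hoch.IsComodHom C W.subtype := by
  letI := subComod W hW
  apply LinearMap.ext
  intro w
  simp only [LinearMap.coe_comp, Function.comp_apply]
  exact (rTensor_subCoact W hW w).symm

end Sub

section Simple

variable {K : Type u} {C : Type v} [Field K] [AddCommGroup C] [Module K C] [Coalgebra K C]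
variable {V : Type w} [AddCommGroup V] [Module K V] [Comod K C V]

/-- every element lies in a finite-dimensional subspace containing its whole orbit under the
dual algebra -/
lemma exists_fg_orbit (v : V) : ∃ S : Submodule K V, S.FG ∧ ∀ f : C →ₗ[K] K, act f v ∈ S := by
  obtain ⟨s, hs⟩ := TensorProduct.exists_finset (ρ K C V v)
  refine ⟨Submodule.span K ((fun i : V × C => i.1) '' (s : Set (V × C))),
    Submodule.fg_span (s.finite_toSet.image _), fun f => ?_⟩
  rw [act_apply, hs, map_sum]
  refine Submodule.sum_mem _ fun i hi => ?_
  rw [sliceR_tmul]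
  exact Submodule.smul_mem _ _ (Submodule.subset_span ⟨i, hi, rfl⟩)

/-- cyclic modules over the dual algebra are finite-dimensional -/
lemma finite_span_singleton (v : V) :
    Module.Finite K (Submodule.span (Dual K C) {v}) := by
  obtain ⟨S, hS, hv⟩ := exists_fg_orbit (K := K) (C := C) v
  have hle : (Submodule.span (Dual K C) {v}).restrictScalars K ≤ S := by
    intro x hx
    obtain ⟨f, rfl⟩ := Submodule.mem_span_singleton.1 hx
    exact hv f.fn
  have : Module.Finite K S := Module.Finite.iff_fg.2 hS
  have : Module.Finite K ((Submodule.span (Dual K C) {v}).restrictScalars K) :=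
    Module.Finite.of_injective (Submodule.inclusion hle) (Submodule.inclusion_injective hle)
  exact this

/-- every nonzero submodule over the dual algebra contains a simple submodule -/
lemma exists_simple_le (N : Submodule (Dual K C) V) (hN : N ≠ ⊥) :
    ∃ S : Submodule (Dual K C) V, S ≤ N ∧ IsSimpleModule (Dual K C) S := by
  obtain ⟨v, hvN, hv0⟩ := Submodule.exists_mem_ne_zero_of_ne_bot hN
  obtain ⟨P, hP⟩ : ∃ P : Submodule (Dual K C) V, P = Submodule.span (Dual K C) {v} := ⟨_, rfl⟩
  have hfin : Module.Finite K P := by rw [hP]; exact finite_span_singleton (K := K) (C := C) v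
  have hvP : v ∈ P := by rw [hP]; exact Submodule.mem_span_singleton_self v
  have hPN : P ≤ N := by rw [hP]; exact Submodule.span_le.2 (by simpa using hvN)
  have hA : IsArtinian K P := @isArtinian_of_fg_of_artinian' K P _ _ _ _ hfin
  have hA' : IsArtinian (Dual K C) P := isArtinian_of_tower K hA
  have hPne : (⊤ : Submodule (Dual K C) P) ≠ ⊥ := by
    intro h
    have : (⟨v, hvP⟩ : P) ∈ (⊤ : Submodule (Dual K C) P) := Submodule.mem_top
    rw [h, Submodule.mem_bot] at this
    exact hv0 (congrArg Subtype.val this)
  obtain ⟨a, ha, -⟩ : ∃ a : Submodule (Dual K C) P, IsAtom a ∧ a ≤ ⊤ :=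
    (eq_bot_or_exists_atom_le (⊤ : Submodule (Dual K C) P)).resolve_left hPne
  refine ⟨a.map P.subtype, (Submodule.map_subtype_le P a).trans hPN, ?_⟩
  have hs : IsSimpleModule (Dual K C) a := isSimpleModule_iff_isAtom.2 ha
  exact IsSimpleModule.congr (Submodule.equivMapOfInjective P.subtype P.subtype_injective a).symm

lemma isSimpleModule_of_isSimpleComod (h : IsSimpleComod K C V) :
    IsSimpleModule (Dual K C) V := by
  have := h.1
  refine { toIsSimpleOrder := { eq_bot_or_eq_top := fun N => ?_ } }
  rcases h.2 _ (isSubcomod_restrictScalars N) with h' | h'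
  · exact Or.inl ((Submodule.restrictScalars_eq_bot_iff K (Dual K C) V).1 h')
  · exact Or.inr ((Submodule.restrictScalars_eq_top_iff K (Dual K C) V).1 h')

lemma isSimpleComod_of_isSimpleModule [h : IsSimpleModule (Dual K C) V] :
    IsSimpleComod K C V := by
  refine ⟨IsSimpleModule.nontrivial (Dual K C) V, fun W hW => ?_⟩
  rcases eq_bot_or_eq_top (toDualSub W hW) with h' | h'
  · left
    rw [← toDualSub_restrictScalars (hW := hW), h']; rfl
  · right
    rw [← toDualSub_restrictScalars (hW := hW), h']; rfl

end Simple

end Groth.Agent.Helper7.Comodule
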