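import Mathlib
import Groth.Agent.Helper7.ComodB

set_option autoImplicit false
set_option linter.unusedSectionVars false
universe u v w w'

namespace Groth.Agent.Helper7.Comodule

open TensorProduct HopfRep

section Coeff

variable {K : Type u} {C : Type v} [Field K] [AddCommGroup C] [Module K C] [Coalgebra K C]
variable {V : Type w} [AddCommGroup V] [Module K V] [Comod K C V]

variable (K C V) in
/-- the coefficient space of a comodule -/
def coeff : Submodule K C :=
  Submodule.span K (Set.range fun p : (V →ₗ[K] K) × V => sliceL p.1 (ρ K C V p.2))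

lemma sliceL_mem_coeff (l : V →ₗ[K] K) (v : V) : sliceL l (ρ K C V v) ∈ coeff K C V :=
  Submodule.subset_span ⟨(l, v), rfl⟩

lemma coact_mem_coeff (v : V) :
    ρ K C V v ∈ LinearMap.range (LinearMap.lTensor V (coeff K C V).subtype) :=
  mem_range_lTensor_of_sliceL _ _ fun l => sliceL_mem_coeff l v

lemma coeff_le {D' : Submodule K C}
    (h : ∀ v : V, ρ K C V v ∈ LinearMap.range (LinearMap.lTensor V D'.subtype)) :
    coeff K C V ≤ D' := by
  refine Submodule.span_le.2 ?_
  rintro _ ⟨⟨l, v⟩, rfl⟩
  obtain ⟨y, hy⟩ := h v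
  change sliceL l (ρ K C V v) ∈ D'
  rw [← hy, sliceL_lTensor]
  exact (sliceL l y).2

lemma eq_coeff_of_isLeast {D : Submodule K C}
    (hD : IsLeast {D' : Submodule K C |
      ∀ e : V, Comod.coact (k := K) (A := C) e ∈
        LinearMap.range (LinearMap.lTensor V D'.subtype)} D) : D = coeff K C V :=
  le_antisymm (hD.2 fun v => coact_mem_coeff v) (coeff_le hD.1)

lemma isLeast_coeff : IsLeast {D' : Submodule K C |
      ∀ e : V, Comod.coact (k := K) (A := C) e ∈
        LinearMap.range (LinearMap.lTensor V D'.subtype)} (coeff K C V) :=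
  ⟨fun v => coact_mem_coeff v, fun _ h => coeff_le h⟩

private lemma auxA (D : Submodule K C) (d : D) (y' : V ⊗[K] D) :
    (TensorProduct.assoc K V C C) (LinearMap.lTensor V D.subtype y' ⊗ₜ[K] (d : C)) =
      LinearMap.lTensor V (TensorProduct.map D.subtype D.subtype)
        ((TensorProduct.assoc K V D D) (y' ⊗ₜ[K] d)) := by
  induction y' using TensorProduct.induction_on with
  | zero => simp
  | tmul v d' => simp
  | add x y hx hy => simp only [TensorProduct.add_tmul, map_add, hx, hy]

private lemma auxB (D : Submodule K C)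
    (hD : ∀ v : V, ρ K C V v ∈ LinearMap.range (LinearMap.lTensor V D.subtype))
    (y : V ⊗[K] D) :
    (TensorProduct.assoc K V C C) (LinearMap.rTensor C (ρ K C V)
      (LinearMap.lTensor V D.subtype y)) ∈
      LinearMap.range (LinearMap.lTensor V (TensorProduct.map D.subtype D.subtype)) := by
  induction y using TensorProduct.induction_on with
  | zero => simp
  | tmul v d =>
    obtain ⟨y', hy'⟩ := hD v
    rw [LinearMap.lTensor_tmul, LinearMap.rTensor_tmul, ← hy']
    exact ⟨_, (auxA D d y').symm⟩
  | add x y hx hy =>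
    simp only [map_add]
    exact Submodule.add_mem _ hx hy

/-- the coefficient space is a subcoalgebra -/
lemma comul_mem_of_coact_mem (D : Submodule K C)
    (hD : ∀ v : V, ρ K C V v ∈ LinearMap.range (LinearMap.lTensor V D.subtype))
    (l : V →ₗ[K] K) (v : V) :
    CoalgebraStruct.comul (R := K) (sliceL l (ρ K C V v)) ∈
      LinearMap.range (TensorProduct.map D.subtype D.subtype) := by
  rw [← sliceL_lTensor]
  have h : (TensorProduct.assoc K V C C) (LinearMap.rTensor C (ρ K C V) (ρ K C V v)) =
      LinearMap.lTensor V CoalgebraStruct.comul (ρ K C V v) :=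
    LinearMap.congr_fun (Comod.coassoc (k := K) (A := C) (V := V)) v
  rw [← h]
  obtain ⟨y, hy⟩ := hD v
  obtain ⟨z, hz⟩ := auxB D hD y
  rw [hy] at hz
  rw [← hz, sliceL_lTensor]
  exact ⟨_, rfl⟩

lemma coeff_comul (b : C) (hb : b ∈ coeff K C V) :
    CoalgebraStruct.comul (R := K) b ∈
      LinearMap.range (TensorProduct.map (coeff K C V).subtype (coeff K C V).subtype) := by
  induction hb using Submodule.span_induction with
  | mem x hx =>
    obtain ⟨⟨l, v⟩, rfl⟩ := hx
    exact comul_mem_of_coact_mem _ (fun v => coact_mem_coeff v) l v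
  | zero => simp
  | add x y _ _ hx hy => rw [map_add]; exact Submodule.add_mem _ hx hy
  | smul c x _ hx => rw [map_smul]; exact Submodule.smul_mem _ _ hx

lemma coeff_ne_bot [Nontrivial V] : coeff K C V ≠ ⊥ := by
  intro h
  obtain ⟨v, hv⟩ := exists_ne (0 : V)
  apply hv
  obtain ⟨y, hy⟩ := coact_mem_coeff (K := K) (C := C) v
  have hsub : Subsingleton (coeff K C V) := by
    rw [h]; infer_instance
  have hy0 : y = 0 := by
    induction y using TensorProduct.induction_on with
    | zero => rfl
    | tmul a b => rw [Subsingleton.elim b 0, TensorProduct.tmul_zero]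
    | add a b ha hb =>
      -- generic: every element of V ⊗ 0 is zero
      have : ∀ z : V ⊗[K] (coeff K C V), z = 0 := by
        intro z
        induction z using TensorProduct.induction_on with
        | zero => rfl
        | tmul a b => rw [Subsingleton.elim b 0, TensorProduct.tmul_zero]
        | add a b ha hb => rw [ha, hb, add_zero]
      exact this _
  rw [hy0, map_zero] at hy
  have := act_counit (K := K) (C := C) v
  rw [act_apply, ← hy, map_zero] at this
  exact this.symm

/-- the matrix-coefficient map attached to a functional -/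
noncomputable def phi (l : V →ₗ[K] K) : V →ₗ[K] C := sliceL l ∘ₗ ρ K C V

lemma phi_apply (l : V →ₗ[K] K) (v : V) : phi (C := C) l v = sliceL l (ρ K C V v) := rfl

private lemma auxC (l : V →ₗ[K] K) (c : C) (z : V ⊗[K] C) :
    sliceL l ((TensorProduct.assoc K V C C) (z ⊗ₜ[K] c)) = sliceL l z ⊗ₜ[K] c := by
  induction z using TensorProduct.induction_on with
  | zero => simp
  | tmul v d => simp [TensorProduct.smul_tmul']
  | add x y hx hy => simp only [TensorProduct.add_tmul, map_add, hx, hy]

private lemma auxD (l : V →ₗ[K] K) (x : V ⊗[K] C) :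
    sliceL l ((TensorProduct.assoc K V C C) (LinearMap.rTensor C (ρ K C V) x)) =
      LinearMap.rTensor C (phi (C := C) l) x := by
  induction x using TensorProduct.induction_on with
  | zero => simp
  | tmul v c => rw [LinearMap.rTensor_tmul, auxC, LinearMap.rTensor_tmul, phi_apply]
  | add x y hx hy => simp only [map_add, hx, hy]

lemma phi_isComodHom (l : V →ₗ[K] K) : Hoch.IsComodHom C (phi (C := C) l) := by
  apply LinearMap.ext
  intro v
  simp only [LinearMap.coe_comp, Function.comp_apply]
  change CoalgebraStruct.comul (R := K) (sliceL l (ρ K C V v)) = _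
  rw [← sliceL_lTensor]
  have h : (TensorProduct.assoc K V C C) (LinearMap.rTensor C (ρ K C V) (ρ K C V v)) =
      LinearMap.lTensor V CoalgebraStruct.comul (ρ K C V v) :=
    LinearMap.congr_fun (Comod.coassoc (k := K) (A := C) (V := V)) v
  rw [← h, auxD]

lemma apply_sliceL {M : Type w'} [AddCommGroup M] [Module K M] (l : M →ₗ[K] K) (g : C →ₗ[K] K)
    (x : M ⊗[K] C) : g (sliceL l x) = l (sliceR g x) := by
  induction x using TensorProduct.induction_on with
  | zero => simp
  | tmul m c => simp [mul_comm]
  | add x y hx hy => simp only [map_add, hx, hy]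

lemma counit_phi (l : V →ₗ[K] K) (v : V) :
    CoalgebraStruct.counit (R := K) (phi (C := C) l v) = l v := by
  rw [phi_apply, apply_sliceL, ← act_apply, act_counit]

lemma sliceL_counit_comul (c : C) :
    sliceL (CoalgebraStruct.counit (R := K) (A := C)) (CoalgebraStruct.comul (R := K) c) = c := by
  have h := LinearMap.congr_fun (Coalgebra.rTensor_counit_comp_comul (R := K) (A := C)) c
  simp only [LinearMap.coe_comp, Function.comp_apply, TensorProduct.mk_apply] at h
  rw [sliceL, LinearMap.coe_comp, Function.comp_apply, h]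
  simp

/-- every comodule map to the regular comodule is a matrix-coefficient map -/
lemma comodHom_eq_phi (f : V →ₗ[K] C) (hf : Hoch.IsComodHom C f) :
    f = phi (C := C) (CoalgebraStruct.counit (R := K) (A := C) ∘ₗ f) := by
  apply LinearMap.ext
  intro v
  have h := LinearMap.congr_fun hf v
  simp only [LinearMap.coe_comp, Function.comp_apply] at h
  rw [phi_apply, ← sliceL_rTensor]
  change _ = sliceL _ (LinearMap.rTensor C f (Comod.coact (k := K) (A := C) v))
  rw [← h]
  exact (sliceL_counit_comul (f v)).symm

lemma range_phi_le (l : V →ₗ[K] K) : LinearMap.range (phi (C := C) l) ≤ coeff K C V := by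
  rintro _ ⟨v, rfl⟩
  exact sliceL_mem_coeff l v

lemma range_comodHom_le (f : V →ₗ[K] C) (hf : Hoch.IsComodHom C f) :
    LinearMap.range f ≤ coeff K C V := by
  rw [comodHom_eq_phi f hf]
  exact range_phi_le _

/-- if a comodule embeds in a subcoalgebra `B` of the regular comodule, its coefficient space
lies in `B` -/
lemma coeff_le_of_embedding (ψ : V →ₗ[K] C) (hψ : Hoch.IsComodHom C ψ)
    (hinj : Function.Injective ψ) (B : Submodule K C)
    (hB : ∀ b ∈ B, CoalgebraStruct.comul (R := K) b ∈
      LinearMap.range (TensorProduct.map B.subtype B.subtype))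
    (hle : LinearMap.range ψ ≤ B) : coeff K C V ≤ B := by
  refine Submodule.span_le.2 ?_
  rintro _ ⟨⟨l, v⟩, rfl⟩
  obtain ⟨χ, hχ⟩ := LinearMap.exists_leftInverse_of_injective ψ (LinearMap.ker_eq_bot.2 hinj)
  have hl : l = (l ∘ₗ χ) ∘ₗ ψ := by rw [LinearMap.comp_assoc, hχ, LinearMap.comp_id]
  change sliceL l (ρ K C V v) ∈ B
  rw [hl, ← sliceL_rTensor]
  have h := LinearMap.congr_fun hψ v
  simp only [LinearMap.coe_comp, Function.comp_apply] at h
  change sliceL _ (LinearMap.rTensor C ψ (Comod.coact (k := K) (A := C) v)) ∈ B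
  rw [← h]
  obtain ⟨z, hz⟩ := hB (ψ v) (hle ⟨v, rfl⟩)
  change sliceL _ (CoalgebraStruct.comul (R := K) (ψ v)) ∈ B
  rw [← hz, sliceL_map]
  exact (sliceL _ z).2

end Coeff

end Groth.Agent.Helper7.Comodule
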