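import Mathlib
import Groth.Agent.Helper7.ComodC

set_option autoImplicit false
set_option linter.unusedSectionVars false
universe u v w w'

namespace Groth.Agent.Helper7.Comodule

open TensorProduct HopfRep

section CoeffA

variable {K : Type u} {C : Type v} [Field K] [AddCommGroup C] [Module K C] [Coalgebra K C]
variable {V : Type w} [AddCommGroup V] [Module K V] [Comod K C V]

/-- the matrix-coefficient map as a map of modules over the dual algebra -/
noncomputable def phiA (l : V →ₗ[K] K) : V →ₗ[Dual K C] C := toDualHom (phi_isComodHom l)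

@[simp] lemma phiA_apply (l : V →ₗ[K] K) (v : V) : phiA (C := C) l v = phi (C := C) l v := rfl

variable (K C V) in
/-- the coefficient space as a submodule over the dual algebra -/
noncomputable def coeffA : Submodule (Dual K C) C :=
  ⨆ l : V →ₗ[K] K, LinearMap.range (phiA (C := C) l)

lemma mem_coeffA_iff {c : C} : c ∈ coeffA K C V ↔ c ∈ coeff K C V := by
  constructor
  · intro h
    refine Submodule.iSup_induction (p := fun l : V →ₗ[K] K => LinearMap.range (phiA (C := C) l))
      (motive := fun c => c ∈ coeff K C V) h ?_ ?_ ?_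
    · rintro l _ ⟨v, rfl⟩
      exact sliceL_mem_coeff l v
    · exact Submodule.zero_mem _
    · intro x y hx hy
      exact Submodule.add_mem _ hx hy
  · intro h
    have hle : coeff K C V ≤ (coeffA K C V).restrictScalars K := by
      refine Submodule.span_le.2 ?_
      rintro _ ⟨⟨l, v⟩, rfl⟩
      exact (le_iSup (fun l : V →ₗ[K] K => LinearMap.range (phiA (C := C) l)) l) ⟨v, rfl⟩
    exact hle h

lemma coeffA_restrictScalars : (coeffA K C V).restrictScalars K = coeff K C V := by
  ext c; exact mem_coeffA_iff

/-- a simple submodule of the coefficient space of a simple comodule is isomorphic to it -/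
lemma exists_iso_of_simple_le [IsSimpleModule (Dual K C) V] (S : Submodule (Dual K C) C)
    [IsSimpleModule (Dual K C) S] (hS : S ≤ coeffA K C V) : Nonempty (V ≃ₗ[Dual K C] S) := by
  let s : Set (Submodule (Dual K C) C) :=
    {m | ∃ l : V →ₗ[K] K, phiA (C := C) l ≠ 0 ∧ m = LinearMap.range (phiA (C := C) l)}
  have hsimple : ∀ m : s, IsSimpleModule (Dual K C) m := by
    rintro ⟨m, l, hl, rfl⟩
    have hinj := LinearMap.injective_of_ne_zero hl
    exact IsSimpleModule.congr (LinearEquiv.ofInjective _ hinj).symm
  have hle : S ≤ sSup s := by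
    refine hS.trans (iSup_le fun l => ?_)
    by_cases hl : phiA (C := C) l = 0
    · rw [hl, LinearMap.range_zero]; exact bot_le
    · exact le_sSup ⟨l, hl, rfl⟩
  obtain ⟨m, ⟨l, hl, rfl⟩, ⟨e⟩⟩ := Submodule.linearEquiv_of_le_sSup S s hle
  have hinj := LinearMap.injective_of_ne_zero hl
  exact ⟨(LinearEquiv.ofInjective _ hinj).trans e.symm⟩

/-- a subcoalgebra is a subcomodule of the regular comodule -/
lemma isSubcomod_of_subcoalgebra (B : Submodule K C)
    (hB : ∀ b ∈ B, CoalgebraStruct.comul (R := K) b ∈
      LinearMap.range (TensorProduct.map B.subtype B.subtype)) :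
    IsSubcomod (k := K) (A := C) B := by
  intro b hb
  obtain ⟨z, hz⟩ := hB b hb
  refine ⟨LinearMap.lTensor B B.subtype z, ?_⟩
  change _ = CoalgebraStruct.comul (R := K) b
  rw [← hz, ← LinearMap.rTensor_comp_lTensor]
  rfl

/-- subcoalgebras of the coefficient space of a simple comodule are trivial -/
theorem coeff_simple (hV : IsSimpleComod K C V) (B : Submodule K C) (hle : B ≤ coeff K C V)
    (hB : ∀ b ∈ B, CoalgebraStruct.comul (R := K) b ∈
      LinearMap.range (TensorProduct.map B.subtype B.subtype)) :
    B = ⊥ ∨ B = coeff K C V := by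
  by_cases hB0 : B = ⊥
  · exact Or.inl hB0
  right
  refine le_antisymm hle ?_
  have := isSimpleModule_of_isSimpleComod hV
  have hsub := isSubcomod_of_subcoalgebra B hB
  have hne : toDualSub B hsub ≠ ⊥ := by
    intro h
    apply hB0
    rw [← toDualSub_restrictScalars (hW := hsub), h]; rfl
  obtain ⟨S, hSB, hS⟩ := exists_simple_le _ hne
  have hSle : S ≤ coeffA K C V := fun c hc => mem_coeffA_iff.2 (hle (hSB hc))
  obtain ⟨e⟩ := exists_iso_of_simple_le S hSle
  let ψ : V →ₗ[Dual K C] C := S.subtype ∘ₗ e.toLinearMap
  have hψ := isComodHom_of_dualHom ψ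
  refine coeff_le_of_embedding (ψ.restrictScalars K) hψ ?_ B hB ?_
  · exact S.subtype_injective.comp e.injective
  · rintro _ ⟨v, rfl⟩
    exact hSB (e v).2

end CoeffA

end Groth.Agent.Helper7.Comodule
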