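import Mathlib
import Groth.Agent.Helper7.ComodD

set_option autoImplicit false
set_option linter.unusedSectionVars false
universe u v w w'

namespace Groth.Agent.Helper7.Comodule

open TensorProduct HopfRep

section Iso

variable {K : Type u} {C : Type v} [Field K] [AddCommGroup C] [Module K C] [Coalgebra K C]
variable {V : Type w} [AddCommGroup V] [Module K V] [Comod K C V]
variable {V' : Type w'} [AddCommGroup V'] [Module K V'] [Comod K C V']

/-- a nonzero comodule has a nonzero matrix-coefficient map -/
lemma exists_phiA_ne_zero [Nontrivial V] : ∃ l : V →ₗ[K] K, phiA (C := C) l ≠ 0 := by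
  obtain ⟨v, hv⟩ := exists_ne (0 : V)
  have : ¬ ∀ φ : Module.Dual K V, φ v = 0 := fun h =>
    hv ((Module.forall_dual_apply_eq_zero_iff K v).1 h)
  push Not at this
  obtain ⟨l, hl⟩ := this
  refine ⟨l, fun h => hl ?_⟩
  have h1 : phiA (C := C) l v = 0 := by rw [h]; rfl
  rw [phiA_apply] at h1
  rw [← counit_phi (C := C) l v, h1, map_zero]

/-- simple comodules with the same coefficient space are isomorphic -/
theorem iso_of_coeff_eq (hV : IsSimpleComod K C V) (hV' : IsSimpleComod K C V')
    (h : coeff K C V = coeff K C V') :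
    ∃ e : V ≃ₗ[K] V', Hoch.IsComodHom C e.toLinearMap := by
  have := isSimpleModule_of_isSimpleComod hV
  have := isSimpleModule_of_isSimpleComod hV'
  have := hV'.1
  obtain ⟨μ, hμ⟩ := exists_phiA_ne_zero (K := K) (C := C) (V := V')
  have hinj := LinearMap.injective_of_ne_zero hμ
  have hS : IsSimpleModule (Dual K C) (LinearMap.range (phiA (C := C) μ)) :=
    IsSimpleModule.congr (LinearEquiv.ofInjective _ hinj).symm
  have hle : LinearMap.range (phiA (C := C) μ) ≤ coeffA K C V := by
    rintro _ ⟨v, rfl⟩
    rw [mem_coeffA_iff, h]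
    exact sliceL_mem_coeff μ v
  obtain ⟨e⟩ := exists_iso_of_simple_le _ hle
  let e' : V ≃ₗ[Dual K C] V' := e.trans (LinearEquiv.ofInjective _ hinj).symm
  exact ⟨e'.restrictScalars K, isComodHom_of_dualHom e'.toLinearMap⟩

end Iso

end Groth.Agent.Helper7.Comodule
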