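import Mathlib
import Groth.Agent.Helper7.ComodE

set_option autoImplicit false
set_option linter.unusedSectionVars false
universe u v w w'

namespace Groth.Agent.Helper7.Comodule

open TensorProduct HopfRep

section Transfer

variable {K : Type u} {C : Type v} [Field K] [AddCommGroup C] [Module K C] [Coalgebra K C]
variable {V : Type w} [AddCommGroup V] [Module K V] [Comod K C V]
variable {V' : Type w'} [AddCommGroup V'] [Module K V'] [Comod K C V']

lemma isSubcomod_map {φ : V →ₗ[K] V'} (hφ : Hoch.IsComodHom C φ) {W : Submodule K V}
    (hW : IsSubcomod (k := K) (A := C) W) : IsSubcomod (k := K) (A := C) (W.map φ) := by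
  apply isSubcomod_of_act_mem
  rintro f _ ⟨w, hw, rfl⟩
  rw [← act_comodHom hφ]
  exact ⟨_, act_mem_of_isSubcomod hW f hw, rfl⟩

/-- comodule structure on a submodule over the dual algebra -/
@[reducible] noncomputable def comodOfDualSub (N : Submodule (Dual K C) V) :
    Comod K C ↥(N.restrictScalars K) := subComod _ (isSubcomod_restrictScalars N)

lemma val_act_sub (W : Submodule K V) (hW : IsSubcomod (k := K) (A := C) W) (f : C →ₗ[K] K)
    (x : W) : letI := subComod W hW; ((act f x : W) : V) = act f (x : V) := by
  letI := subComod W hW
  exact act_comodHom (subtype_isComodHom W hW) f x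

/-- the identity, as an equivalence of modules over the dual algebra between the two module
structures on a submodule -/
noncomputable def restrictEquiv (N : Submodule (Dual K C) V) :
    letI := comodOfDualSub N
    ↥(N.restrictScalars K) ≃ₗ[Dual K C] ↥N :=
  letI := comodOfDualSub N
  { toFun := fun x => ⟨x.1, x.2⟩
    invFun := fun x => ⟨x.1, x.2⟩
    left_inv := fun _ => rfl
    right_inv := fun _ => rfl
    map_add' := fun _ _ => rfl
    map_smul' := fun f x => by
      apply Subtype.ext
      exact val_act_sub (N.restrictScalars K) (isSubcomod_restrictScalars N) f.fn x }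

lemma restrictEquiv_apply (N : Submodule (Dual K C) V)
    (x : ↥(N.restrictScalars K)) :
    letI := comodOfDualSub N
    ((restrictEquiv N x : N) : V) = x.1 := rfl

lemma isSimpleComod_sub (S : Submodule (Dual K C) V) [IsSimpleModule (Dual K C) S] :
    letI := comodOfDualSub S
    IsSimpleComod K C ↥(S.restrictScalars K) := by
  letI := comodOfDualSub S
  have : IsSimpleModule (Dual K C) ↥(S.restrictScalars K) :=
    IsSimpleModule.congr (restrictEquiv S)
  exact isSimpleComod_of_isSimpleModule

/-- semisimple over the dual algebra ⟹ completely reducible comodule -/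
lemma isSemisimpleComod_of_isSemisimpleModule [IsSemisimpleModule (Dual K C) V] :
    IsSemisimpleComod K C V := by
  intro W hW
  obtain ⟨N', hN'⟩ := exists_isCompl (toDualSub W hW)
  refine ⟨N'.restrictScalars K, isSubcomod_restrictScalars N', ?_⟩
  have := (Submodule.isCompl_restrictScalars_iff (S := K)).2 hN'
  rwa [toDualSub_restrictScalars] at this

/-- completely reducible comodule ⟹ semisimple over the dual algebra -/
lemma isSemisimpleModule_of_isSemisimpleComod (h : IsSemisimpleComod K C V) :
    IsSemisimpleModule (Dual K C) V := by
  refine { toComplementedLattice := ⟨fun N => ?_⟩ }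
  obtain ⟨W', hW', hc⟩ := h (N.restrictScalars K) (isSubcomod_restrictScalars N)
  refine ⟨toDualSub W' hW', ?_⟩
  rw [← Submodule.isCompl_restrictScalars_iff (S := K), toDualSub_restrictScalars]
  exact hc

lemma iSupIndep_restrictScalars {ι : Type*} (N : ι → Submodule (Dual K C) V)
    (h : iSupIndep N) : iSupIndep (fun i => (N i).restrictScalars K) := by
  intro i
  have := h i
  rw [← Submodule.disjoint_restrictScalars_iff (S := K)] at this
  simpa only [Submodule.restrictScalars_iSup] using this

end Transfer

end Groth.Agent.Helper7.Comodule
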