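import Mathlib
import Groth.Agent.Helper7.ComodA

set_option autoImplicit false
set_option linter.unusedSectionVars false
universe u v w w'

namespace Groth.Agent.Helper7.Comodule

open TensorProduct HopfRep

section General

variable {R : Type u} {C : Type v} [CommRing R] [AddCommGroup C] [Module R C] [Coalgebra R C]
variable {V : Type w} [AddCommGroup V] [Module R V] [Comod R C V]

lemma coassoc_apply (v : V) :
    (TensorProduct.assoc R V C C) (LinearMap.rTensor C (ρ R C V) (ρ R C V v)) =
      LinearMap.lTensor V CoalgebraStruct.comul (ρ R C V v) :=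
  LinearMap.congr_fun (Comod.coassoc (k := R) (A := C) (V := V)) v

lemma coassoc_apply' (v : V) :
    LinearMap.rTensor C (ρ R C V) (ρ R C V v) =
      (TensorProduct.assoc R V C C).symm (LinearMap.lTensor V CoalgebraStruct.comul (ρ R C V v)) := by
  rw [← coassoc_apply, LinearEquiv.symm_apply_apply]

lemma sliceR_counit_comul (c : C) :
    sliceR (CoalgebraStruct.counit (R := R) (A := C)) (CoalgebraStruct.comul (R := R) c) = c := by
  have h := LinearMap.congr_fun (Coalgebra.lTensor_counit_comp_comul (R := R) (A := C)) c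
  simp only [LinearMap.coe_comp, Function.comp_apply, LinearMap.flip_apply,
    TensorProduct.mk_apply] at h
  rw [sliceR, LinearMap.coe_comp, Function.comp_apply, h]
  simp

lemma sliceL_counit_comul' (c : C) :
    sliceL (CoalgebraStruct.counit (R := R) (A := C)) (CoalgebraStruct.comul (R := R) c) = c := by
  have h := LinearMap.congr_fun (Coalgebra.rTensor_counit_comp_comul (R := R) (A := C)) c
  simp only [LinearMap.coe_comp, Function.comp_apply, TensorProduct.mk_apply] at h
  rw [sliceL, LinearMap.coe_comp, Function.comp_apply, h]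
  simp

private lemma auxE (f : C →ₗ[R] R) (v : V) (z : C ⊗[R] C) :
    sliceR f ((TensorProduct.assoc R V C C).symm (v ⊗ₜ[R] z)) = v ⊗ₜ[R] sliceR f z := by
  induction z using TensorProduct.induction_on with
  | zero => simp
  | tmul a b => simp [TensorProduct.tmul_smul]
  | add x y hx hy => simp only [TensorProduct.tmul_add, map_add, hx, hy]

private lemma auxF (f : C →ₗ[R] R) (y : V ⊗[R] C) :
    sliceR f ((TensorProduct.assoc R V C C).symm
      (LinearMap.lTensor V CoalgebraStruct.comul y)) =
      LinearMap.lTensor V (sliceR f ∘ₗ CoalgebraStruct.comul (R := R) (A := C)) y := by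
  induction y using TensorProduct.induction_on with
  | zero => simp
  | tmul v c => rw [LinearMap.lTensor_tmul, auxE, LinearMap.lTensor_tmul]; rfl
  | add x y hx hy => simp only [map_add, hx, hy]

/-- the coaction of `act f v` -/
lemma coact_act (f : C →ₗ[R] R) (v : V) :
    ρ R C V (act f v) =
      LinearMap.lTensor V (sliceR f ∘ₗ CoalgebraStruct.comul (R := R) (A := C)) (ρ R C V v) := by
  rw [act_apply, ← sliceR_rTensor, coassoc_apply', auxF]

private lemma auxG (f : C →ₗ[R] R) (v : V) (z : C ⊗[R] C) :
    LinearMap.rTensor C (sliceR f) ((TensorProduct.assoc R V C C).symm (v ⊗ₜ[R] z)) =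
      v ⊗ₜ[R] sliceL f z := by
  induction z using TensorProduct.induction_on with
  | zero => simp
  | tmul a b => simp [TensorProduct.tmul_smul, TensorProduct.smul_tmul']
  | add x y hx hy => simp only [TensorProduct.tmul_add, map_add, hx, hy]

private lemma auxH (f : C →ₗ[R] R) (y : V ⊗[R] C) :
    LinearMap.rTensor C (sliceR f) ((TensorProduct.assoc R V C C).symm
      (LinearMap.lTensor V CoalgebraStruct.comul y)) =
      LinearMap.lTensor V (sliceL f ∘ₗ CoalgebraStruct.comul (R := R) (A := C)) y := by
  induction y using TensorProduct.induction_on with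
  | zero => simp
  | tmul v c => rw [LinearMap.lTensor_tmul, auxG, LinearMap.lTensor_tmul]; rfl
  | add x y hx hy => simp only [map_add, hx, hy]

/-- `act f` applied to the left factor of the coaction -/
lemma rTensor_act_coact (f : C →ₗ[R] R) (v : V) :
    LinearMap.rTensor C (act (V := V) f) (ρ R C V v) =
      LinearMap.lTensor V (sliceL f ∘ₗ CoalgebraStruct.comul (R := R) (A := C)) (ρ R C V v) := by
  have : act (V := V) f = sliceR f ∘ₗ ρ R C V := rfl
  rw [this, LinearMap.rTensor_comp, LinearMap.coe_comp, Function.comp_apply, coassoc_apply', auxH]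

end General

section Decomp

variable {R : Type u} {C : Type v} [CommRing R] [AddCommGroup C] [Module R C] [Coalgebra R C]
variable {ι : Type w} (D : ι → Submodule R C)
variable {V : Type w'} [AddCommGroup V] [Module R V] [Comod R C V]

lemma isCompl_of_indep (hind : iSupIndep D) (htop : iSup D = ⊤) (i : ι) :
    IsCompl (D i) (⨆ (j) (_ : j ≠ i), D j) := by
  refine ⟨hind i, codisjoint_iff.2 ?_⟩
  rw [eq_top_iff, ← htop]
  refine iSup_le fun j => ?_
  by_cases hj : j = i
  · subst hj; exact le_sup_left
  · exact le_sup_of_le_right (le_iSup₂_of_le j hj le_rfl)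

/-- projection of `C` onto the summand `D i`, as an endomorphism of `C` -/
noncomputable def P (hind : iSupIndep D) (htop : iSup D = ⊤) (i : ι) : C →ₗ[R] C :=
  (D i).subtype ∘ₗ Submodule.projectionOnto _ _ (isCompl_of_indep D hind htop i)

variable {D}
variable (hind : iSupIndep D) (htop : iSup D = ⊤)

lemma P_mem (i : ι) (c : C) : P D hind htop i c ∈ D i := Submodule.coe_mem _

lemma P_same {i : ι} {c : C} (hc : c ∈ D i) : P D hind htop i c = c := by
  have := Submodule.projectionOnto_apply_left (isCompl_of_indep D hind htop i) ⟨c, hc⟩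
  simp only [P, LinearMap.coe_comp, Function.comp_apply, Submodule.subtype_apply]
  exact congrArg Subtype.val this

lemma P_ne {i j : ι} (hij : j ≠ i) {c : C} (hc : c ∈ D j) : P D hind htop i c = 0 := by
  have hc' : c ∈ ⨆ (j) (_ : j ≠ i), D j :=
    Submodule.mem_iSup_of_mem j (Submodule.mem_iSup_of_mem hij hc)
  have := Submodule.projectionOnto_apply_of_mem_right (isCompl_of_indep D hind htop i) hc'
  simp only [P, LinearMap.coe_comp, Function.comp_apply, Submodule.subtype_apply, this]
  rfl

lemma P_comp_subtype_same (i : ι) : P D hind htop i ∘ₗ (D i).subtype = (D i).subtype := by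
  ext c; exact P_same hind htop c.2

lemma P_comp_subtype_ne {i j : ι} (hij : j ≠ i) : P D hind htop i ∘ₗ (D j).subtype = 0 := by
  ext c; exact P_ne hind htop hij c.2

/-- every element is the finite sum of its components -/
lemma exists_finset_sum_P (c : C) :
    ∃ s : Finset ι, ∀ t : Finset ι, s ⊆ t → ∑ j ∈ t, P D hind htop j c = c := by
  classical
  have hc : c ∈ iSup D := by rw [htop]; trivial
  refine Submodule.iSup_induction D (motive := fun c => ∃ s : Finset ι, ∀ t : Finset ι, s ⊆ t →
    ∑ j ∈ t, P D hind htop j c = c) hc ?_ ?_ ?_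
  · intro k x hx
    refine ⟨{k}, fun t ht => ?_⟩
    rw [Finset.sum_eq_single k]
    · exact P_same hind htop hx
    · intro j _ hjk
      exact P_ne hind htop (Ne.symm hjk) hx
    · intro hk
      exact absurd (ht (Finset.mem_singleton_self k)) hk
  · exact ⟨∅, fun t _ => by simp⟩
  · rintro x y ⟨s₁, h₁⟩ ⟨s₂, h₂⟩
    refine ⟨s₁ ∪ s₂, fun t ht => ?_⟩
    simp only [map_add, Finset.sum_add_distrib]
    rw [h₁ t (Finset.union_subset_left ht), h₂ t (Finset.union_subset_right ht)]

variable (hD : ∀ i, ∀ d ∈ D i, CoalgebraStruct.comul (R := R) d ∈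
      LinearMap.range (TensorProduct.map (D i).subtype (D i).subtype))

include hD in
lemma rTensor_P_comul (i : ι) (c : C) :
    LinearMap.rTensor C (P D hind htop i) (CoalgebraStruct.comul (R := R) c) =
      CoalgebraStruct.comul (R := R) (P D hind htop i c) := by
  have hc : c ∈ iSup D := by rw [htop]; trivial
  refine Submodule.iSup_induction D (motive := fun c =>
    LinearMap.rTensor C (P D hind htop i) (CoalgebraStruct.comul (R := R) c) =
      CoalgebraStruct.comul (R := R) (P D hind htop i c)) hc ?_ ?_ ?_
  · intro k x hx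
    obtain ⟨z, hz⟩ := hD k x hx
    by_cases hk : k = i
    · subst hk
      rw [P_same hind htop hx, ← hz, ← LinearMap.comp_apply, LinearMap.rTensor_comp_map,
        P_comp_subtype_same]
    · rw [P_ne hind htop hk hx, map_zero, ← hz, ← LinearMap.comp_apply,
        LinearMap.rTensor_comp_map, P_comp_subtype_ne hind htop hk, TensorProduct.map_zero_left]
      rfl
  · simp
  · intro x y hx hy
    simp only [map_add, hx, hy]

include hD in
lemma lTensor_P_comul (i : ι) (c : C) :
    LinearMap.lTensor C (P D hind htop i) (CoalgebraStruct.comul (R := R) c) =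
      CoalgebraStruct.comul (R := R) (P D hind htop i c) := by
  have hc : c ∈ iSup D := by rw [htop]; trivial
  refine Submodule.iSup_induction D (motive := fun c =>
    LinearMap.lTensor C (P D hind htop i) (CoalgebraStruct.comul (R := R) c) =
      CoalgebraStruct.comul (R := R) (P D hind htop i c)) hc ?_ ?_ ?_
  · intro k x hx
    obtain ⟨z, hz⟩ := hD k x hx
    by_cases hk : k = i
    · subst hk
      rw [P_same hind htop hx, ← hz, ← LinearMap.comp_apply, LinearMap.lTensor_comp_map,
        P_comp_subtype_same]
    · rw [P_ne hind htop hk hx, map_zero, ← hz, ← LinearMap.comp_apply,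
        LinearMap.lTensor_comp_map, P_comp_subtype_ne hind htop hk, TensorProduct.map_zero_right]
      rfl
  · simp
  · intro x y hx hy
    simp only [map_add, hx, hy]

/-- the functional `ε ∘ P i` -/
noncomputable def εP (i : ι) : C →ₗ[R] R :=
  CoalgebraStruct.counit (R := R) (A := C) ∘ₗ P D hind htop i

include hD in
lemma sliceR_εP_comul (i : ι) (c : C) :
    sliceR (εP hind htop i) (CoalgebraStruct.comul (R := R) c) = P D hind htop i c := by
  rw [εP, ← sliceR_lTensor, lTensor_P_comul hind htop hD, sliceR_counit_comul]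

include hD in
lemma sliceL_εP_comul (i : ι) (c : C) :
    sliceL (εP hind htop i) (CoalgebraStruct.comul (R := R) c) = P D hind htop i c := by
  rw [εP, ← sliceL_rTensor, rTensor_P_comul hind htop hD, sliceL_counit_comul']

/-- the projection of a comodule onto its `i`-th component -/
noncomputable def q (i : ι) : V →ₗ[R] V := act (εP hind htop i)

include hD in
lemma coact_q (i : ι) (v : V) :
    ρ R C V (q (V := V) hind htop i v) = LinearMap.lTensor V (P D hind htop i) (ρ R C V v) := by
  have : sliceR (εP hind htop i) ∘ₗ CoalgebraStruct.comul (R := R) (A := C) = P D hind htop i :=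
    LinearMap.ext fun c => sliceR_εP_comul hind htop hD i c
  rw [q, coact_act, this]

include hD in
lemma rTensor_q_coact (i : ι) (v : V) :
    LinearMap.rTensor C (q (V := V) hind htop i) (ρ R C V v) =
      LinearMap.lTensor V (P D hind htop i) (ρ R C V v) := by
  have : sliceL (εP hind htop i) ∘ₗ CoalgebraStruct.comul (R := R) (A := C) = P D hind htop i :=
    LinearMap.ext fun c => sliceL_εP_comul hind htop hD i c
  rw [q, rTensor_act_coact, this]

variable (D) (V) in
/-- the `i`-th component of a comodule -/
def Vc (i : ι) : Submodule R V :=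
  (LinearMap.range (LinearMap.lTensor V (D i).subtype)).comap (ρ R C V)

include hD in
lemma q_mem (i : ι) (v : V) : q (V := V) hind htop i v ∈ Vc D V i := by
  show ρ R C V (q (V := V) hind htop i v) ∈ LinearMap.range (LinearMap.lTensor V (D i).subtype)
  rw [coact_q hind htop hD, P, LinearMap.lTensor_comp]
  exact ⟨_, rfl⟩

lemma q_same {i : ι} {v : V} (hv : v ∈ Vc D V i) : q (V := V) hind htop i v = v := by
  obtain ⟨y, hy⟩ := hv
  rw [q, act_apply, ← hy, sliceR_lTensor, εP, LinearMap.comp_assoc, P_comp_subtype_same,
    ← sliceR_lTensor, hy, ← act_apply, act_counit]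

lemma q_ne {i j : ι} (hij : j ≠ i) {v : V} (hv : v ∈ Vc D V j) :
    q (V := V) hind htop i v = 0 := by
  obtain ⟨y, hy⟩ := hv
  rw [q, act_apply, ← hy, sliceR_lTensor, εP, LinearMap.comp_assoc,
    P_comp_subtype_ne hind htop hij, LinearMap.comp_zero]
  simp [sliceR]

lemma exists_finset_sum_sliceR (x : V ⊗[R] C) :
    ∃ s : Finset ι, ∀ t : Finset ι, s ⊆ t →
      ∑ j ∈ t, sliceR (εP hind htop j) x = sliceR (CoalgebraStruct.counit (R := R) (A := C)) x := by
  classical
  induction x using TensorProduct.induction_on with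
  | zero => exact ⟨∅, fun t _ => by simp⟩
  | tmul v c =>
    obtain ⟨s, hs⟩ := exists_finset_sum_P hind htop c
    refine ⟨s, fun t ht => ?_⟩
    simp only [sliceR_tmul, εP, LinearMap.coe_comp, Function.comp_apply]
    rw [← Finset.sum_smul, ← map_sum, hs t ht]
  | add x y hx hy =>
    obtain ⟨s₁, h₁⟩ := hx
    obtain ⟨s₂, h₂⟩ := hy
    refine ⟨s₁ ∪ s₂, fun t ht => ?_⟩
    simp only [map_add, Finset.sum_add_distrib]
    rw [h₁ t (Finset.union_subset_left ht), h₂ t (Finset.union_subset_right ht)]

include hind htop hD in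
/-- S14844 -/
theorem decomposition :
    (∀ i, IsSubcomod (k := R) (A := C) (Vc D V i)) ∧
    iSupIndep (fun i => Vc D V i) ∧ (⨆ i, Vc D V i) = ⊤ ∧
    ∀ i, ∀ v ∈ Vc D V i, ρ R C V v ∈
      LinearMap.range (TensorProduct.map (Vc D V i).subtype (D i).subtype) := by
  have hq' : ∀ i (v : V), q (V := V) hind htop i v ∈ Vc D V i := q_mem hind htop hD
  -- corestrictions
  let q' : ∀ i, V →ₗ[R] Vc D V i := fun i =>
    (q (V := V) hind htop i).codRestrict (Vc D V i) (hq' i)
  have hqq : ∀ i, (Vc D V i).subtype ∘ₗ q' i = q (V := V) hind htop i := fun i => rfl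
  let p' : ∀ i, C →ₗ[R] D i := fun i =>
    Submodule.projectionOnto _ _ (isCompl_of_indep D hind htop i)
  have hpp : ∀ i, (D i).subtype ∘ₗ p' i = P D hind htop i := fun i => rfl
  have hfix : ∀ i, ∀ v ∈ Vc D V i,
      LinearMap.rTensor C (q (V := V) hind htop i) (ρ R C V v) = ρ R C V v := by
    intro i v hv
    rw [rTensor_q_coact hind htop hD, ← coact_q hind htop hD, q_same hind htop hv]
  have hfix2 : ∀ i, ∀ v ∈ Vc D V i,
      LinearMap.lTensor V (P D hind htop i) (ρ R C V v) = ρ R C V v := by
    intro i v hv
    rw [← coact_q hind htop hD, q_same hind htop hv]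
  refine ⟨?_, ?_, ?_, ?_⟩
  · intro i v hv
    refine ⟨LinearMap.rTensor C (q' i) (ρ R C V v), ?_⟩
    rw [← LinearMap.comp_apply, ← LinearMap.rTensor_comp, hqq]
    exact hfix i v hv
  · intro i
    rw [Submodule.disjoint_def]
    intro v hv hv'
    rw [← q_same hind htop hv]
    have hker : (⨆ (j) (_ : j ≠ i), Vc D V j) ≤ LinearMap.ker (q (V := V) hind htop i) := by
      refine iSup₂_le fun j hj => ?_
      intro w hw
      exact q_ne hind htop hj hw
    exact hker hv'
  · rw [eq_top_iff]
    intro v _
    obtain ⟨s, hs⟩ := exists_finset_sum_sliceR hind htop (ρ R C V v)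
    have := hs s subset_rfl
    rw [← act_apply, act_counit] at this
    rw [← this]
    refine Submodule.sum_mem _ fun j _ => ?_
    exact (le_iSup (fun i => Vc D V i) j) (hq' j v)
  · intro i v hv
    refine ⟨TensorProduct.map (q' i) (p' i) (ρ R C V v), ?_⟩
    rw [← LinearMap.comp_apply, ← TensorProduct.map_comp, hqq, hpp,
      ← LinearMap.rTensor_comp_lTensor, LinearMap.comp_apply, hfix2 i v hv, hfix i v hv]

end Decomp

end Groth.Agent.Helper7.Comodule
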