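import Mathlib
import Groth.Prelude.Def_GLin
import Groth.Prelude.Def_W4c1tameactTame
import Groth.Agent.Helper7.ComodA
import Groth.Agent.Helper7.ComodB
import Groth.Agent.Helper7.ComodK

set_option autoImplicit false
set_option linter.unusedSectionVars false
universe u v w w'

namespace Groth.Agent.Helper7.HopfModQ

open TensorProduct HopfRep Groth.Agent.Helper7.Comodule

section Surj

variable {K : Type u} {C : Type v} [CommRing K] [AddCommGroup C] [Module K C] [Coalgebra K C]
variable {V : Type w} [AddCommGroup V] [Module K V] [Comod K C V]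
variable {Q : Type w'} [AddCommGroup Q] [Module K Q]

/-- the coaction induced on the target of a surjection with stable kernel -/
noncomputable def surjCoact (π : V →ₗ[K] Q) (hπ : Function.Surjective π)
    (hker : IsSubcomod (k := K) (A := C) (LinearMap.ker π)) : Q →ₗ[K] Q ⊗[K] C :=
  ((LinearMap.ker π).liftQ (LinearMap.rTensor C π ∘ₗ ρ K C V) (by
    intro w hw
    obtain ⟨y, hy⟩ := hker w hw
    rw [LinearMap.mem_ker, LinearMap.comp_apply]
    change LinearMap.rTensor C π (Comod.coact (k := K) (A := C) w) = 0
    rw [← hy, ← LinearMap.comp_apply, ← LinearMap.rTensor_comp]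
    have : π ∘ₗ (LinearMap.ker π).subtype = 0 := by
      ext x; exact x.2
    rw [this, LinearMap.rTensor_zero, LinearMap.zero_apply])) ∘ₗ
    (π.quotKerEquivOfSurjective hπ).symm.toLinearMap

lemma surjCoact_apply (π : V →ₗ[K] Q) (hπ : Function.Surjective π)
    (hker : IsSubcomod (k := K) (A := C) (LinearMap.ker π)) (v : V) :
    surjCoact π hπ hker (π v) = LinearMap.rTensor C π (ρ K C V v) := by
  have h1 : (π.quotKerEquivOfSurjective hπ).symm (π v) = (LinearMap.ker π).mkQ v := by
    rw [LinearEquiv.symm_apply_eq]
    rfl
  unfold surjCoact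
  rw [LinearMap.comp_apply, LinearEquiv.coe_coe, h1]
  rfl

private lemma auxS1 (π : V →ₗ[K] Q) (g : Q →ₗ[K] Q ⊗[K] C)
    (hg : ∀ v, g (π v) = LinearMap.rTensor C π (ρ K C V v)) (y : V ⊗[K] C) :
    (TensorProduct.assoc K Q C C) (LinearMap.rTensor C g (LinearMap.rTensor C π y)) =
    LinearMap.rTensor (C ⊗[K] C) π ((TensorProduct.assoc K V C C)
      (LinearMap.rTensor C (ρ K C V) y)) := by
  induction y using TensorProduct.induction_on with
  | zero => simp
  | tmul v c =>
    rw [LinearMap.rTensor_tmul, LinearMap.rTensor_tmul, hg, LinearMap.rTensor_tmul]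
    generalize ρ K C V v = z
    induction z using TensorProduct.induction_on with
    | zero => simp
    | tmul v' d => simp
    | add a b ha hb => simp only [map_add, TensorProduct.add_tmul, ha, hb]
  | add a b ha hb => simp only [map_add, ha, hb]

private lemma auxS2 (π : V →ₗ[K] Q) {D : Type*} [AddCommGroup D] [Module K D] (f : C →ₗ[K] D)
    (y : V ⊗[K] C) :
    LinearMap.lTensor Q f (LinearMap.rTensor C π y) =
    LinearMap.rTensor D π (LinearMap.lTensor V f y) := by
  induction y using TensorProduct.induction_on with
  | zero => simp
  | tmul v c => simp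
  | add a b ha hb => simp only [map_add, ha, hb]

/-- the comodule structure induced on the target of a surjection with stable kernel -/
@[reducible] noncomputable def surjComod (π : V →ₗ[K] Q) (hπ : Function.Surjective π)
    (hker : IsSubcomod (k := K) (A := C) (LinearMap.ker π)) : Comod K C Q where
  coact := surjCoact π hπ hker
  coassoc := by
    rw [← LinearMap.cancel_right hπ]
    apply LinearMap.ext
    intro v
    simp only [LinearMap.coe_comp, Function.comp_apply, LinearEquiv.coe_coe]
    rw [surjCoact_apply, auxS1 π _ (surjCoact_apply π hπ hker), auxS2, coassoc_apply]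
  counit_comp := by
    rw [← LinearMap.cancel_right hπ]
    apply LinearMap.ext
    intro v
    simp only [LinearMap.coe_comp, Function.comp_apply]
    rw [surjCoact_apply, auxS2]
    have h := LinearMap.congr_fun (Comod.counit_comp (k := K) (A := C) (V := V)) v
    simp only [LinearMap.coe_comp, Function.comp_apply, LinearMap.flip_apply,
      TensorProduct.mk_apply] at h
    change LinearMap.rTensor K π (LinearMap.lTensor V CoalgebraStruct.counit
      (Comod.coact (k := K) (A := C) v)) = _
    rw [h]
    simp

lemma surj_isComodHom (π : V →ₗ[K] Q) (hπ : Function.Surjective π)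
    (hker : IsSubcomod (k := K) (A := C) (LinearMap.ker π)) :
    letI := surjComod π hπ hker
    Hoch.IsComodHom C π := by
  letI := surjComod π hπ hker
  apply LinearMap.ext
  intro v
  exact surjCoact_apply π hπ hker v

end Surj

section HM

variable {k : Type u} [Field k] {A : Type v} [CommRing A] [Bialgebra k A]
variable {B : Type w} [CommRing B] [Algebra k B] [Comod k A B]
variable {M : Type w'} [AddCommGroup M] [Module k M] [Module B M] [IsScalarTower k B M]
variable {N : Type*} [AddCommGroup N] [Module k N] [Module B N] [IsScalarTower k B N]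

lemma rTensor_hmSMul (φ : M →ₗ[B] N) (z : B ⊗[k] A) (t : M ⊗[k] A) :
    LinearMap.rTensor A (φ.restrictScalars k) (TameAct.hmSMul k A B M z t) =
      TameAct.hmSMul k A B N z (LinearMap.rTensor A (φ.restrictScalars k) t) := by
  induction z using TensorProduct.induction_on with
  | zero => simp
  | add x₁ x₂ h₁ h₂ => simp only [map_add, LinearMap.add_apply, h₁, h₂]
  | tmul b a =>
    induction t using TensorProduct.induction_on with
    | zero => simp
    | add y₁ y₂ h₁ h₂ => simp only [map_add, h₁, h₂]
    | tmul m a' => simp

variable [Comod k A M] [TameAct.IsHopfMod k A B M]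

/-- Hopf-module structure passes to quotients -/
theorem isHopfMod_surj {Q : Type*} [AddCommGroup Q] [Module k Q] [Module B Q] [IsScalarTower k B Q]
    (π : M →ₗ[B] Q) (hπ : Function.Surjective π)
    (hker : IsSubcomod (k := k) (A := A) (LinearMap.ker (π.restrictScalars k))) :
    letI := surjComod (π.restrictScalars k) hπ hker
    TameAct.IsHopfMod k A B Q := by
  letI := surjComod (π.restrictScalars k) hπ hker
  refine ⟨fun b q => ?_⟩
  obtain ⟨m, rfl⟩ := hπ q
  rw [← map_smul]
  change surjCoact (π.restrictScalars k) hπ hker ((π.restrictScalars k) (b • m)) =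
    TameAct.hmSMul k A B Q _ (surjCoact (π.restrictScalars k) hπ hker ((π.restrictScalars k) m))
  rw [surjCoact_apply, surjCoact_apply]
  change LinearMap.rTensor A (π.restrictScalars k) (Comod.coact (k := k) (A := A) (b • m)) = _
  rw [TameAct.IsHopfMod.coact_smul, rTensor_hmSMul]

/-- Hopf-module structure passes to stable submodules -/
theorem isHopfMod_sub (S : Submodule B M)
    (hS : IsSubcomod (k := k) (A := A) (S.restrictScalars k)) :
    letI := subComod (S.restrictScalars k) hS
    TameAct.IsHopfMod k A B ↥(S.restrictScalars k) := by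
  letI := subComod (S.restrictScalars k) hS
  refine ⟨fun b s => ?_⟩
  apply rTensor_subtype_injective (C := A) (S.restrictScalars k)
  change LinearMap.rTensor A (S.restrictScalars k).subtype
    (subCoact (S.restrictScalars k) hS (b • s)) =
    LinearMap.rTensor A (S.restrictScalars k).subtype
      (TameAct.hmSMul k A B _ _ (subCoact (S.restrictScalars k) hS s))
  rw [rTensor_subCoact]
  have h2 := rTensor_hmSMul (k := k) (A := A)
    ((S.subtype).comp (Submodule.restrictScalarsEquiv k B M S).toLinearMap)
    (Comod.coact (k := k) (A := A) b) (subCoact (S.restrictScalars k) hS s)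
  have h3 : (((S.subtype).comp (Submodule.restrictScalarsEquiv k B M S).toLinearMap).restrictScalars k)
      = (S.restrictScalars k).subtype := rfl
  rw [h3] at h2
  rw [h2, rTensor_subCoact]
  exact TameAct.IsHopfMod.coact_smul (k := k) (A := A) b (s : M)

end HM

end Groth.Agent.Helper7.HopfModQ
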