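import Mathlib
import Groth.Prelude.Def_GLin
import Groth.Agent.Helper7.ComodA
import Groth.Agent.Helper7.ComodK
import Groth.Agent.Helper8.InvNoeth
import Groth.Agent.Helper8.LunaAdic

set_option autoImplicit false
set_option linter.unusedSectionVars false
universe u v w

namespace Groth.Agent.Helper7.ColonStable

open TensorProduct HopfRep Groth.Agent.Helper7.Comodule

variable {k : Type u} [Field k] {A : Type v} [CommRing A] [HopfAlgebra k A]
  {R : Type w} [CommRing R] [Algebra k R] [Comod k A R] [GLin.IsCoactAlg k A R]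

/-- `Ψ(r ⊗ a) = ρ(r)·(1 ⊗ S a)` -/
noncomputable def Psi : R ⊗[k] A →ₗ[k] R ⊗[k] A :=
  LinearMap.mul' k (R ⊗[k] A) ∘ₗ TensorProduct.map (ρ k A R)
    ((Algebra.TensorProduct.includeRight : A →ₐ[k] R ⊗[k] A).toLinearMap ∘ₗ HopfAlgebra.antipode k)

lemma Psi_tmul (r : R) (a : A) :
    Psi (k := k) (r ⊗ₜ[k] a) = ρ k A R r * ((1 : R) ⊗ₜ[k] HopfAlgebra.antipode k a) := by
  simp [Psi]

lemma aux_assoc (z : R ⊗[k] A) (a : A) :
    LinearMap.lTensor R (LinearMap.mul' k A ∘ₗ LinearMap.lTensor A (HopfAlgebra.antipode k))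
      ((TensorProduct.assoc k R A A) (z ⊗ₜ[k] a)) =
      z * ((1 : R) ⊗ₜ[k] HopfAlgebra.antipode k a) := by
  induction z using TensorProduct.induction_on with
  | zero => simp
  | tmul r c => simp
  | add x y hx hy => simp only [TensorProduct.add_tmul, map_add, hx, hy, add_mul]

lemma Psi_eq (t : R ⊗[k] A) :
    Psi (k := k) t =
      LinearMap.lTensor R (LinearMap.mul' k A ∘ₗ LinearMap.lTensor A (HopfAlgebra.antipode k))
        ((TensorProduct.assoc k R A A) (LinearMap.rTensor A (ρ k A R) t)) := by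
  induction t using TensorProduct.induction_on with
  | zero => simp
  | tmul r a => rw [Psi_tmul, LinearMap.rTensor_tmul, aux_assoc]
  | add x y hx hy => simp only [map_add, hx, hy]

/-- `y ⊗ 1 = Σ ρ(y₀)(1 ⊗ S y₁)` -/
lemma Psi_coact (y : R) : Psi (k := k) (ρ k A R y) = y ⊗ₜ[k] (1 : A) := by
  rw [Psi_eq, coassoc_apply (C := A) y, ← LinearMap.comp_apply, ← LinearMap.lTensor_comp,
    LinearMap.comp_assoc, HopfAlgebra.mul_antipode_lTensor_comul, LinearMap.lTensor_comp,
    LinearMap.comp_apply]
  have h := LinearMap.congr_fun (Comod.counit_comp (k := k) (A := A) (V := R)) y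
  simp only [LinearMap.coe_comp, Function.comp_apply, LinearMap.flip_apply,
    TensorProduct.mk_apply] at h
  rw [h, LinearMap.lTensor_tmul]
  simp

lemma sliceR_mul_tmul_one (g : A →ₗ[k] k) (t : R ⊗[k] A) (y : R) :
    sliceR g (t * (y ⊗ₜ[k] (1 : A))) = sliceR g t * y := by
  induction t using TensorProduct.induction_on with
  | zero => simp
  | tmul r a => simp [mul_comm]
  | add x y hx hy => simp only [add_mul, map_add, hx, hy]

lemma range_eq_map (J : Ideal R) (t : R ⊗[k] A) :
    t ∈ LinearMap.range (LinearMap.rTensor A (J.restrictScalars k).subtype) ↔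
      t ∈ J.map (Algebra.TensorProduct.includeLeft : R →ₐ[k] R ⊗[k] A) := by
  rw [← Ideal.map_includeLeft_eq]
  rfl

lemma sliceR_mem_of_mem_range (J : Ideal R) (g : A →ₗ[k] k) (t : R ⊗[k] A)
    (ht : t ∈ LinearMap.range (LinearMap.rTensor A (J.restrictScalars k).subtype)) :
    sliceR g t ∈ J := by
  obtain ⟨z, rfl⟩ := ht
  rw [sliceR_rTensor]
  exact (sliceR g z).2

/-- the colon of two stable ideals is stable -/
theorem isSubcomod_colon (I J : Ideal R)
    (hI : IsSubcomod (k := k) (A := A) (I.restrictScalars k))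
    (hJ : IsSubcomod (k := k) (A := A) (J.restrictScalars k)) :
    IsSubcomod (k := k) (A := A) ((J.colon I).restrictScalars k) := by
  refine isSubcomod_of_act_mem fun g x hx => ?_
  rw [Submodule.restrictScalars_mem, Submodule.mem_colon] at hx ⊢
  intro y hy
  rw [smul_eq_mul, act_apply, ← sliceR_mul_tmul_one, ← Psi_coact (k := k) (A := A) y]
  apply sliceR_mem_of_mem_range
  obtain ⟨z, hz⟩ := hI y hy
  change LinearMap.rTensor A (I.restrictScalars k).subtype z = ρ k A R y at hz
  rw [← hz, range_eq_map]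
  clear hz
  induction z using TensorProduct.induction_on with
  | zero => simp
  | tmul i a =>
    rw [LinearMap.rTensor_tmul, Psi_tmul, ← mul_assoc]
    refine Ideal.mul_mem_right _ _ ?_
    have h1 : ρ k A R x * ρ k A R (i : R) = ρ k A R (x * (i : R)) :=
      (GLin.IsCoactAlg.coact_mul (k := k) (A := A) x (i : R)).symm
    rw [Submodule.subtype_apply, h1, ← range_eq_map]
    exact hJ _ (hx _ i.2)
  | add z₁ z₂ h₁ h₂ =>
    rw [map_add, map_add, mul_add]
    exact Ideal.add_mem _ h₁ h₂

/-- an ideal generated by invariants is stable -/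
theorem isSubcomod_span_invariants (s : Set R) (hs : ∀ x ∈ s, x ∈ GLin.invariants k A R) :
    IsSubcomod (k := k) (A := A) ((Ideal.span s).restrictScalars k) := by
  intro x hx
  change ρ k A R x ∈ _
  rw [range_eq_map]
  have hle : Ideal.span s ≤ Ideal.comap (GLin.coactAlgHom k A R)
      ((Ideal.span s).map (Algebra.TensorProduct.includeLeft : R →ₐ[k] R ⊗[k] A)) := by
    refine Ideal.span_le.2 fun y hy => ?_
    rw [SetLike.mem_coe, Ideal.mem_comap, GLin.coactAlgHom_apply]
    have hinv : Comod.coact (k := k) (A := A) y = y ⊗ₜ[k] (1 : A) := hs y hy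
    rw [hinv]
    exact Ideal.mem_map_of_mem _ (Ideal.subset_span hy)
  exact hle hx

end Groth.Agent.Helper7.ColonStable
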