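import Mathlib
import Groth.Prelude.Def_GLin
import Groth.Prelude.Def_W4c1tameactTame
import Groth.Agent.Helper7.ComodA
import Groth.Agent.Helper7.ComodK
import Groth.Agent.Helper7.ColonStable

set_option autoImplicit false
set_option linter.unusedSectionVars false
universe u v w w'

namespace Groth.Agent.Helper7.ColonStableM

open TensorProduct HopfRep Groth.Agent.Helper7.Comodule

variable {k : Type u} [Field k] {A : Type v} [CommRing A] [HopfAlgebra k A]
  {R : Type w} [CommRing R] [Algebra k R] [Comod k A R] [GLin.IsCoactAlg k A R]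
  {M : Type w'} [AddCommGroup M] [Module k M] [Module R M] [IsScalarTower k R M]
  [Comod k A M] [TameAct.IsHopfMod k A R M]

/-- `Ψ(m ⊗ a) = (1 ⊗ S a)·ρ(m)` -/
noncomputable def PsiM : M ⊗[k] A →ₗ[k] M ⊗[k] A :=
  TensorProduct.lift
    ((TameAct.hmSMul k A R M ∘ₗ (TensorProduct.mk k R A 1) ∘ₗ HopfAlgebra.antipode k).flip ∘ₗ
      ρ k A M)

lemma PsiM_tmul (m : M) (a : A) :
    PsiM (k := k) (R := R) (m ⊗ₜ[k] a) =
      TameAct.hmSMul k A R M ((1 : R) ⊗ₜ[k] HopfAlgebra.antipode k a) (ρ k A M m) := by
  simp [PsiM]

lemma aux_assocM (z : M ⊗[k] A) (a : A) :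
    LinearMap.lTensor M (LinearMap.mul' k A ∘ₗ LinearMap.lTensor A (HopfAlgebra.antipode k))
      ((TensorProduct.assoc k M A A) (z ⊗ₜ[k] a)) =
      TameAct.hmSMul k A R M ((1 : R) ⊗ₜ[k] HopfAlgebra.antipode k a) z := by
  induction z using TensorProduct.induction_on with
  | zero => simp
  | tmul r c => simp [mul_comm]
  | add x y hx hy => simp only [TensorProduct.add_tmul, map_add, hx, hy]

lemma PsiM_eq (t : M ⊗[k] A) :
    PsiM (k := k) (R := R) t =
      LinearMap.lTensor M (LinearMap.mul' k A ∘ₗ LinearMap.lTensor A (HopfAlgebra.antipode k))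
        ((TensorProduct.assoc k M A A) (LinearMap.rTensor A (ρ k A M) t)) := by
  induction t using TensorProduct.induction_on with
  | zero => simp
  | tmul r a => rw [PsiM_tmul, LinearMap.rTensor_tmul, aux_assocM (R := R)]
  | add x y hx hy => simp only [map_add, hx, hy]

/-- `m ⊗ 1 = Σ (1 ⊗ S m₁) ρ(m₀)` -/
lemma PsiM_coact (y : M) : PsiM (k := k) (R := R) (ρ k A M y) = y ⊗ₜ[k] (1 : A) := by
  rw [PsiM_eq, coassoc_apply (C := A) y, ← LinearMap.comp_apply, ← LinearMap.lTensor_comp,
    LinearMap.comp_assoc, HopfAlgebra.mul_antipode_lTensor_comul, LinearMap.lTensor_comp,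
    LinearMap.comp_apply]
  have h := LinearMap.congr_fun (Comod.counit_comp (k := k) (A := A) (V := M)) y
  simp only [LinearMap.coe_comp, Function.comp_apply, LinearMap.flip_apply,
    TensorProduct.mk_apply] at h
  rw [h, LinearMap.lTensor_tmul]
  simp

lemma sliceR_hmSMul_tmul_one (g : A →ₗ[k] k) (t : R ⊗[k] A) (y : M) :
    sliceR g (TameAct.hmSMul k A R M t (y ⊗ₜ[k] (1 : A))) = sliceR g t • y := by
  induction t using TensorProduct.induction_on with
  | zero => simp
  | tmul r a => simp [sliceR]
  | add x y hx hy => simp only [map_add, LinearMap.add_apply, hx, hy, add_smul]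

lemma hmSMul_comm (z z' : R ⊗[k] A) (t : M ⊗[k] A) :
    TameAct.hmSMul k A R M z (TameAct.hmSMul k A R M z' t) =
      TameAct.hmSMul k A R M z' (TameAct.hmSMul k A R M z t) := by
  induction z using TensorProduct.induction_on with
  | zero => simp
  | add x₁ x₂ h₁ h₂ => simp only [map_add, LinearMap.add_apply, h₁, h₂]
  | tmul b a =>
    induction z' using TensorProduct.induction_on with
    | zero => simp
    | add x₁ x₂ h₁ h₂ => simp only [map_add, LinearMap.add_apply, h₁, h₂]
    | tmul b' a' =>
      induction t using TensorProduct.induction_on with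
      | zero => simp
      | add y₁ y₂ h₁ h₂ => simp only [map_add, h₁, h₂]
      | tmul m a'' =>
        simp only [TameAct.hmSMul_tmul]
        rw [smul_comm b b' m, mul_left_comm]

lemma hmSMul_mem_range (F : Submodule R M) (z : R ⊗[k] A) (t : M ⊗[k] A)
    (ht : t ∈ LinearMap.range (LinearMap.rTensor A (F.restrictScalars k).subtype)) :
    TameAct.hmSMul k A R M z t ∈
      LinearMap.range (LinearMap.rTensor A (F.restrictScalars k).subtype) := by
  obtain ⟨y, rfl⟩ := ht
  induction z using TensorProduct.induction_on with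
  | zero => simp
  | add x₁ x₂ h₁ h₂ =>
    rw [map_add, LinearMap.add_apply]
    exact Submodule.add_mem _ h₁ h₂
  | tmul b a =>
    induction y using TensorProduct.induction_on with
    | zero => simp
    | add y₁ y₂ h₁ h₂ =>
      rw [map_add, map_add]
      exact Submodule.add_mem _ h₁ h₂
    | tmul f a' =>
      rw [LinearMap.rTensor_tmul, TameAct.hmSMul_tmul]
      exact ⟨(⟨b • (f : M), F.smul_mem b f.2⟩ : ↥(F.restrictScalars k)) ⊗ₜ[k] (a * a'), by simp⟩

/-- the annihilator of `M / F` is a stable ideal for a stable submodule `F` of a Hopf module -/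
theorem isSubcomod_colon_top (F : Submodule R M)
    (hF : IsSubcomod (k := k) (A := A) (F.restrictScalars k)) :
    IsSubcomod (k := k) (A := A) ((F.colon (⊤ : Submodule R M)).restrictScalars k) := by
  refine isSubcomod_of_act_mem fun g x hx => ?_
  rw [Submodule.restrictScalars_mem, Submodule.mem_colon] at hx ⊢
  intro y _
  rw [act_apply, ← sliceR_hmSMul_tmul_one, ← PsiM_coact (k := k) (A := A) (R := R) y]
  have hmem : TameAct.hmSMul k A R M (ρ k A R x) (PsiM (k := k) (R := R) (ρ k A M y)) ∈
      LinearMap.range (LinearMap.rTensor A (F.restrictScalars k).subtype) := by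
    generalize ρ k A M y = z
    induction z using TensorProduct.induction_on with
    | zero => simp
    | tmul m a =>
      rw [PsiM_tmul, hmSMul_comm]
      apply hmSMul_mem_range
      have h1 : TameAct.hmSMul k A R M (ρ k A R x) (ρ k A M m) = ρ k A M (x • m) :=
        (TameAct.IsHopfMod.coact_smul (k := k) (A := A) x m).symm
      rw [h1]
      exact hF _ (hx m trivial)
    | add z₁ z₂ h₁ h₂ =>
      rw [map_add, map_add]
      exact Submodule.add_mem _ h₁ h₂
  obtain ⟨z, hz⟩ := hmem
  rw [← hz, sliceR_rTensor]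
  exact (sliceR g z).2

/-- `I • ⊤` is stable for a stable ideal `I` -/
theorem isSubcomod_smul_top (I : Ideal R)
    (hI : IsSubcomod (k := k) (A := A) (I.restrictScalars k)) :
    IsSubcomod (k := k) (A := A) ((I • (⊤ : Submodule R M)).restrictScalars k) := by
  intro w hw
  rw [Submodule.restrictScalars_mem] at hw
  refine Submodule.smul_induction_on hw ?_ ?_
  · intro r hr m _
    change ρ k A M (r • m) ∈ _
    rw [show ρ k A M (r • m) = TameAct.hmSMul k A R M (ρ k A R r) (ρ k A M m) from
      TameAct.IsHopfMod.coact_smul (k := k) (A := A) r m]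
    obtain ⟨z, hz⟩ := hI r hr
    change LinearMap.rTensor A (I.restrictScalars k).subtype z = ρ k A R r at hz
    rw [← hz]
    clear hz
    generalize ρ k A M m = t
    induction z using TensorProduct.induction_on with
    | zero => simp
    | add x₁ x₂ h₁ h₂ =>
      rw [map_add, map_add, LinearMap.add_apply]
      exact Submodule.add_mem _ h₁ h₂
    | tmul i a =>
      induction t using TensorProduct.induction_on with
      | zero => simp
      | add y₁ y₂ h₁ h₂ =>
        rw [map_add]
        exact Submodule.add_mem _ h₁ h₂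
      | tmul m' a' =>
        rw [LinearMap.rTensor_tmul, TameAct.hmSMul_tmul]
        exact ⟨(⟨(i : R) • m', Submodule.smul_mem_smul i.2 trivial⟩ :
          ↥((I • (⊤ : Submodule R M)).restrictScalars k)) ⊗ₜ[k] (a * a'), by simp⟩
  · intro x y hx hy
    change ρ k A M (x + y) ∈ _
    rw [map_add]
    exact Submodule.add_mem _ hx hy

/-- a submodule generated by invariants is stable -/
theorem isSubcomod_span_fixedPts (s : Set M) (hs : ∀ x ∈ s, x ∈ HopfRep.fixedPts k A M) :
    IsSubcomod (k := k) (A := A) ((Submodule.span R s).restrictScalars k) := by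
  intro w hw
  rw [Submodule.restrictScalars_mem] at hw
  induction hw using Submodule.span_induction with
  | mem x hx =>
    have h : Comod.coact (k := k) (A := A) x = x ⊗ₜ[k] (1 : A) := hs x hx
    rw [h]
    exact ⟨(⟨x, Submodule.subset_span hx⟩ : ↥((Submodule.span R s).restrictScalars k)) ⊗ₜ[k] 1,
      by simp⟩
  | zero => simp
  | add x y _ _ hx hy =>
    rw [map_add]
    exact Submodule.add_mem _ hx hy
  | smul r x _ hx =>
    rw [TameAct.IsHopfMod.coact_smul (k := k) (A := A) r x]
    exact hmSMul_mem_range _ _ _ hx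

end Groth.Agent.Helper7.ColonStableM
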