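import Mathlib
import Groth.Prelude.Def_GLin
import Groth.Prelude.Def_W4c1tameactTame
import Groth.Agent.Helper7.ColonStableM
import Groth.Agent.Helper7.Fitt5

set_option autoImplicit false
set_option linter.unusedSectionVars false
universe u v w w'

namespace Groth.Agent.Helper7.Takeuchi

open TensorProduct HopfRep Groth.Agent.Helper7.Comodule Groth.Agent.Helper7.FittLib

variable {k : Type u} [Field k] {H : Type v} [CommRing H] [HopfAlgebra k H]
  {R : Type w} [CommRing R] [Algebra k R] [Comod k H R] [GLin.IsCoactAlg k H R]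
  {M : Type w'} [AddCommGroup M] [Module k M] [Module R M] [IsScalarTower k R M]
  [Comod k H M] [TameAct.IsHopfMod k H R M]

/-- `m ⊗ h ↦ (1 ⊗ h) ⊗ m`, from `M ⊗_k H` to the base change of `M` along `R → R ⊗_k H` -/
noncomputable def sig : M ⊗[k] H →ₗ[k] (R ⊗[k] H) ⊗[R] M :=
  TensorProduct.lift
    (LinearMap.mk₂ k (fun (m : M) (h : H) => ((1 : R) ⊗ₜ[k] h) ⊗ₜ[R] m)
      (fun m m' h => by rw [TensorProduct.tmul_add])
      (fun c m h => by rw [TensorProduct.tmul_smul])
      (fun m h h' => by rw [TensorProduct.tmul_add, TensorProduct.add_tmul])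
      (fun c m h => by
        rw [TensorProduct.tmul_smul]
        exact (TensorProduct.smul_tmul' c _ m).symm))

lemma sig_tmul (m : M) (h : H) :
    sig (k := k) (R := R) (m ⊗ₜ[k] h) = ((1 : R) ⊗ₜ[k] h) ⊗ₜ[R] m := by
  simp [sig]

lemma sig_hmSMul (z : R ⊗[k] H) (t : M ⊗[k] H) :
    sig (k := k) (R := R) (TameAct.hmSMul k H R M z t) = z • sig (k := k) (R := R) t := by
  induction z using TensorProduct.induction_on with
  | zero => simp
  | add x₁ x₂ h₁ h₂ => simp only [map_add, LinearMap.add_apply, h₁, h₂, add_smul]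
  | tmul b a =>
    induction t using TensorProduct.induction_on with
    | zero => simp
    | add y₁ y₂ h₁ h₂ => simp only [map_add, h₁, h₂, smul_add]
    | tmul m h =>
      rw [TameAct.hmSMul_tmul, sig_tmul, sig_tmul, TensorProduct.smul_tmul',
        smul_eq_mul, Algebra.TensorProduct.tmul_mul_tmul, mul_one]
      have h1 : ((1 : R) ⊗ₜ[k] (a * h)) ⊗ₜ[R] (b • m) =
          (b • ((1 : R) ⊗ₜ[k] (a * h))) ⊗ₜ[R] m := (TensorProduct.smul_tmul _ _ _).symm
      rw [h1, TensorProduct.smul_tmul', smul_eq_mul, mul_one]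

/-- the twisted coaction `M → (R ⊗ H) ⊗_R M` -/
noncomputable def rhot : M →ₗ[k] (R ⊗[k] H) ⊗[R] M :=
  sig (k := k) (H := H) (R := R) (M := M) ∘ₗ ρ k H M

lemma rhot_smul (b : R) (m : M) :
    rhot (k := k) (H := H) (R := R) (b • m) = ρ k H R b • rhot (k := k) (H := H) (R := R) m := by
  unfold rhot
  rw [LinearMap.comp_apply, LinearMap.comp_apply]
  change sig (k := k) (R := R) (Comod.coact (k := k) (A := H) (b • m)) = _
  rw [TameAct.IsHopfMod.coact_smul (k := k) (A := H) b m, sig_hmSMul]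

lemma one_tmul_mem (m : M) :
    ((1 : R ⊗[k] H) ⊗ₜ[R] m) ∈
      Submodule.span (R ⊗[k] H) (Set.range (rhot (k := k) (H := H) (R := R) (M := M))) := by
  have h1 : ((1 : R ⊗[k] H) ⊗ₜ[R] m) = sig (k := k) (R := R) (m ⊗ₜ[k] (1 : H)) := by
    rw [sig_tmul, Algebra.TensorProduct.one_def]
  rw [h1, ← ColonStableM.PsiM_coact (k := k) (A := H) (R := R) m]
  generalize ρ k H M m = t
  induction t using TensorProduct.induction_on with
  | zero => simp
  | add y₁ y₂ h₁ h₂ =>
    rw [map_add, map_add]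
    exact Submodule.add_mem _ h₁ h₂
  | tmul m' a =>
    rw [ColonStableM.PsiM_tmul, sig_hmSMul]
    exact Submodule.smul_mem _ _ (Submodule.subset_span ⟨m', rfl⟩)

lemma span_rhot {n : ℕ} (x : Fin n → M) (hx : Submodule.span R (Set.range x) = ⊤) :
    Submodule.span (R ⊗[k] H) (Set.range fun i => rhot (k := k) (H := H) (R := R) (x i)) = ⊤ := by
  rw [eq_top_iff]
  have h1 : Submodule.span (R ⊗[k] H) (Set.range (rhot (k := k) (H := H) (R := R) (M := M))) ≤
      Submodule.span (R ⊗[k] H) (Set.range fun i => rhot (k := k) (H := H) (R := R) (x i)) := by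
    rw [Submodule.span_le]
    rintro _ ⟨m, rfl⟩
    have hm : m ∈ Submodule.span R (Set.range x) := by rw [hx]; trivial
    obtain ⟨c, rfl⟩ := (Submodule.mem_span_range_iff_exists_fun R).1 hm
    rw [map_sum]
    refine Submodule.sum_mem _ fun i _ => ?_
    rw [rhot_smul]
    exact Submodule.smul_mem _ _ (Submodule.subset_span ⟨i, rfl⟩)
  rintro y -
  induction y using TensorProduct.induction_on with
  | zero => exact Submodule.zero_mem _
  | add y₁ y₂ h₁ h₂ => exact Submodule.add_mem _ h₁ h₂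
  | tmul z m =>
    have : z ⊗ₜ[R] m = z • ((1 : R ⊗[k] H) ⊗ₜ[R] m) := by
      rw [TensorProduct.smul_tmul', smul_eq_mul, mul_one]
    rw [this]
    exact Submodule.smul_mem _ _ (h1 (one_tmul_mem m))

/-- the Fitting ideals of a finite Hopf module are stable under the coaction -/
theorem isSubcomod_fitt [Module.Finite R M] (r : ℕ) :
    IsSubcomod (k := k) (A := H) ((Fitt.ideal R M r).restrictScalars k) := by
  intro d hd
  change ρ k H R d ∈ _
  rw [ColonStable.range_eq_map]
  have hle : Fitt.ideal R M r ≤ Ideal.comap (GLin.coactAlgHom k H R)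
      ((Fitt.ideal R M r).map (Algebra.TensorProduct.includeLeft : R →ₐ[k] R ⊗[k] H)) := by
    refine Ideal.span_le.2 ?_
    rintro _ ⟨n, x, a, hx, ha, rfl⟩
    rw [SetLike.mem_coe, Ideal.mem_comap]
    have hbc := fitt_baseChange (R := R) (M := M) (R ⊗[k] H) r
    have halg : (algebraMap R (R ⊗[k] H)) =
        ((Algebra.TensorProduct.includeLeft : R →ₐ[k] R ⊗[k] H) : R →+* R ⊗[k] H) := rfl
    rw [halg] at hbc
    change (GLin.coactAlgHom k H R) a.det ∈
      Ideal.map ((Algebra.TensorProduct.includeLeft : R →ₐ[k] R ⊗[k] H) : R →+* R ⊗[k] H) _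
    rw [← hbc, AlgHom.map_det]
    refine Ideal.subset_span ⟨n, fun i => rhot (k := k) (H := H) (R := R) (x i),
      (GLin.coactAlgHom k H R).mapMatrix a, span_rhot x hx, ?_, rfl⟩
    intro i hi
    have h0 := congrArg (rhot (k := k) (H := H) (R := R) (M := M)) (ha i hi)
    rw [map_sum, map_zero] at h0
    rw [← h0]
    refine Finset.sum_congr rfl fun j _ => ?_
    rw [rhot_smul]
    rfl
  exact hle hd

end Groth.Agent.Helper7.Takeuchi
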