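import Mathlib
import Groth.Agent.Helper7.TakA
import Groth.Agent.Helper7.Fitt11

set_option autoImplicit false
set_option linter.unusedSectionVars false
universe u v w

namespace Groth.Agent.Helper7.Takeuchi

open TensorProduct HopfRep Groth.Agent.Helper7.Comodule Groth.Agent.Helper7.FittLib

section Proj

variable {R : Type u} [CommRing R] (M : Type u) [AddCommGroup M] [Module R M]

/-- a finite module whose Fitting ideals jump from `⊥` to `⊤` is projective -/
theorem projective_of_fitt [Module.Finite R M] (r : ℕ)
    (h0 : ∀ k, k < r → Fitt.ideal R M k = ⊥) (h1 : ∀ k, r ≤ k → Fitt.ideal R M k = ⊤) :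
    Module.Projective R M := by
  have hloc := (locally_free_iff_fitt M r).2 ⟨h0, h1⟩
  -- finite presentation
  let s : Set R := {f | Module.Free (Localization.Away f)
    (LocalizedModule (Submonoid.powers f) M)}
  have hs : Ideal.span s = ⊤ := by
    by_contra hne
    obtain ⟨𝔪, h𝔪, hle⟩ := Ideal.exists_le_maximal _ hne
    haveI := h𝔪.isPrime
    obtain ⟨f, hf, hfree, -⟩ := hloc 𝔪
    exact hf (hle (Ideal.subset_span hfree))
  haveI hfp : Module.FinitePresentation R M := by
    refine Module.FinitePresentation.of_localizationSpan s hs fun g => ?_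
    haveI : Module.Free (Localization.Away g.1) (LocalizedModule (Submonoid.powers g.1) M) := g.2
    exact Module.finitePresentation_of_projective _ _
  apply Module.projective_of_localization_maximal
  intro 𝔪 h𝔪
  haveI := h𝔪.isPrime
  have hnot : ¬ Fitt.ideal R M r ≤ 𝔪 := by
    rw [h1 r le_rfl]
    intro h
    exact h𝔪.ne_top (top_le_iff.1 h)
  obtain ⟨g, hg⟩ := ((fitt_not_le_iff M r 𝔪).2.1).1 hnot
  have hli : LinearIndependent (Localization.AtPrime 𝔪) g := by
    refine linearIndependent_of_fitt_eq_bot g hg fun k hk => ?_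
    have := fitt_localizedModule (R := R) (M := M) 𝔪.primeCompl k
    rw [h0 k hk, Ideal.map_bot] at this
    exact this
  haveI : Module.Free (Localization.AtPrime 𝔪) (LocalizedModule 𝔪.primeCompl M) :=
    Module.Free.of_basis (Module.Basis.mk hli hg.ge)
  infer_instance

end Proj

variable {k : Type u} [Field k] {H : Type v} [CommRing H] [HopfAlgebra k H]
  {R : Type w} [CommRing R] [Algebra k R] [Comod k H R] [GLin.IsCoactAlg k H R]
  {M : Type w} [AddCommGroup M] [Module k M] [Module R M] [IsScalarTower k R M]
  [Comod k H M] [TameAct.IsHopfMod k H R M]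

/-- finite Hopf modules over a comodule algebra without nontrivial stable ideals are projective -/
theorem projective_of_simple [Module.Finite R M]
    (hsimple : ∀ 𝔞 : Ideal R, IsSubcomod (k := k) (A := H) (𝔞.restrictScalars k) → 𝔞 = ⊥ ∨ 𝔞 = ⊤) :
    Module.Projective R M := by
  classical
  have hF : ∀ r, Fitt.ideal R M r = ⊥ ∨ Fitt.ideal R M r = ⊤ := fun r =>
    hsimple _ (isSubcomod_fitt (k := k) (H := H) r)
  obtain ⟨n, x, hx⟩ := Module.Finite.exists_fin (R := R) (M := M)
  have hex : ∃ r, Fitt.ideal R M r = ⊤ :=
    ⟨n, fitt_eq_top_of_le x hx (by simp)⟩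
  refine projective_of_fitt M (Nat.find hex) (fun j hj => ?_) (fun j hj => ?_)
  · exact (hF j).resolve_right (Nat.find_min hex hj)
  · exact top_le_iff.1 ((Nat.find_spec hex).ge.trans (fitt_mono_index hj))

end Groth.Agent.Helper7.Takeuchi
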