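import Mathlib
import Groth.Agent.Helper7.TakB
import Groth.Agent.Helper7.HopfModQ
import Groth.Agent.Helper7.ComodF
import Groth.Agent.Helper3.Comod
import Groth.Agent.Helper9.Comod

set_option autoImplicit false
set_option linter.unusedSectionVars false
universe u v w w'

namespace Groth.Agent.Helper7.Takeuchi

open TensorProduct HopfRep Groth.Agent.Helper7.Comodule Groth.Agent.Helper7.HopfModQ

section Lin

variable {K : Type u} [Field K] {X : Type v} {Y : Type w} [AddCommGroup X] [Module K X]
  [AddCommGroup Y] [Module K Y]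

/-- `(U ⊗ Y) ∩ (X ⊗ W) = U ⊗ W` inside `X ⊗ Y` -/
lemma mem_range_map_of_mem_of_mem (U : Submodule K X) (W : Submodule K Y) (x : X ⊗[K] Y)
    (h1 : x ∈ LinearMap.range (LinearMap.rTensor Y U.subtype))
    (h2 : x ∈ LinearMap.range (LinearMap.lTensor X W.subtype)) :
    x ∈ LinearMap.range (TensorProduct.map U.subtype W.subtype) := by
  obtain ⟨z, rfl⟩ := h1
  have hz : z ∈ LinearMap.range (LinearMap.lTensor U W.subtype) := by
    refine mem_range_lTensor_of_sliceL W z fun l => ?_
    obtain ⟨l', hl'⟩ := LinearMap.exists_extend l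
    have h3 : sliceL l z = sliceL l' (LinearMap.rTensor Y U.subtype z) := by
      rw [sliceL_rTensor, hl']
    rw [h3]
    obtain ⟨y, hy⟩ := h2
    rw [← hy, sliceL_lTensor]
    exact (sliceL l' y).2
  obtain ⟨w, rfl⟩ := hz
  refine ⟨w, ?_⟩
  rw [← LinearMap.comp_apply, LinearMap.rTensor_comp_lTensor]

end Lin

section General

variable {k : Type u} [Field k] {H : Type v} [CommRing H] [HopfAlgebra k H]
  {R : Type w} [CommRing R] [Algebra k R] [Comod k H R] [GLin.IsCoactAlg k H R]
  {M : Type w'} [AddCommGroup M] [Module k M] [Module R M] [IsScalarTower k R M]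
  [Comod k H M] [TameAct.IsHopfMod k H R M]

/-- the `R`-span of a subcomodule of a Hopf module is a subcomodule -/
theorem isSubcomod_span (V : Submodule k M) (hV : IsSubcomod (k := k) (A := H) V) :
    IsSubcomod (k := k) (A := H) ((Submodule.span R (V : Set M)).restrictScalars k) := by
  intro w hw
  rw [Submodule.restrictScalars_mem] at hw
  induction hw using Submodule.span_induction with
  | mem x hx =>
    have hle : V ≤ (Submodule.span R (V : Set M)).restrictScalars k := fun y hy =>
      Submodule.subset_span hy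
    exact Groth.Agent.Helper9.range_rTensor_subtype_mono hle (hV x hx)
  | zero => simp
  | add x y _ _ hx hy =>
    rw [map_add]
    exact Submodule.add_mem _ hx hy
  | smul r x _ hx =>
    rw [TameAct.IsHopfMod.coact_smul (k := k) (A := H) r x]
    exact ColonStableM.hmSMul_mem_range _ _ _ hx

end General

section HopfSub

variable {k : Type u} [Field k] {H : Type v} [CommRing H] [HopfAlgebra k H] (B : Subalgebra k H)

/-- the comultiplication maps `B` into `B ⊗ B` -/
def ComulMem : Prop := ∀ b ∈ B, CoalgebraStruct.comul (R := k) (A := H) b ∈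
  LinearMap.range (TensorProduct.map B.val.toLinearMap B.val.toLinearMap)

lemma isSubcomod_toSubmodule (hΔ : ComulMem B) :
    IsSubcomod (k := k) (A := H) (Subalgebra.toSubmodule B) := by
  intro b hb
  obtain ⟨z, hz⟩ := hΔ b hb
  refine ⟨LinearMap.lTensor (↥B) B.val.toLinearMap z, ?_⟩
  change _ = CoalgebraStruct.comul (R := k) b
  rw [← hz]
  clear hz
  induction z using TensorProduct.induction_on with
  | zero => simp
  | tmul x y => rfl
  | add x y hx hy => simp only [map_add, hx, hy]

/-- the coaction of `H` on a sub-bialgebra `B` -/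
@[reducible] noncomputable def comodB (hΔ : ComulMem B) : Comod k H ↥B :=
  subComod (Subalgebra.toSubmodule B) (isSubcomod_toSubmodule B hΔ)

/-- the inclusion `B ⊗ H → H ⊗ H` -/
noncomputable abbrev incl : ↥B ⊗[k] H →ₗ[k] H ⊗[k] H :=
  LinearMap.rTensor H (Subalgebra.toSubmodule B).subtype

lemma incl_injective : Function.Injective (incl (k := k) B) :=
  rTensor_subtype_injective (C := H) (Subalgebra.toSubmodule B)

lemma incl_coact (hΔ : ComulMem B) (b : ↥B) :
    letI := comodB B hΔ
    incl B (Comod.coact (k := k) (A := H) b) = CoalgebraStruct.comul (R := k) (b : H) :=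
  rTensor_subCoact (Subalgebra.toSubmodule B) (isSubcomod_toSubmodule B hΔ) b

lemma incl_eq_map (x : ↥B ⊗[k] H) :
    incl B x = Algebra.TensorProduct.map B.val (AlgHom.id k H) x := by
  induction x using TensorProduct.induction_on with
  | zero => simp
  | tmul b h => rfl
  | add x y hx hy => simp only [map_add, hx, hy]

lemma incl_mul (x y : ↥B ⊗[k] H) : incl B (x * y) = incl B x * incl B y := by
  rw [incl_eq_map, incl_eq_map, incl_eq_map, map_mul]

lemma incl_one : incl B (1 : ↥B ⊗[k] H) = 1 := by
  rw [incl_eq_map, map_one]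

theorem isCoactAlgB (hΔ : ComulMem B) :
    letI := comodB B hΔ
    GLin.IsCoactAlg k H ↥B := by
  letI := comodB B hΔ
  refine ⟨?_, fun f g => ?_⟩
  · apply incl_injective B
    rw [incl_coact B hΔ, incl_one]
    exact Bialgebra.comul_one
  · apply incl_injective B
    rw [incl_coact B hΔ, incl_mul, incl_coact B hΔ, incl_coact B hΔ]
    exact Bialgebra.comul_mul _ _

lemma hmSMul_eq_mul (z : ↥B ⊗[k] H) (t : H ⊗[k] H) :
    TameAct.hmSMul k H ↥B H z t = incl B z * t := by
  induction z using TensorProduct.induction_on with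
  | zero => simp
  | add x₁ x₂ h₁ h₂ => simp only [map_add, LinearMap.add_apply, h₁, h₂, add_mul]
  | tmul b a =>
    induction t using TensorProduct.induction_on with
    | zero => simp
    | add y₁ y₂ h₁ h₂ => simp only [map_add, h₁, h₂, mul_add]
    | tmul h a' =>
      rw [TameAct.hmSMul_tmul]
      change ((b : H) * h) ⊗ₜ[k] (a * a') = ((b : H) ⊗ₜ[k] a) * (h ⊗ₜ[k] a')
      rw [Algebra.TensorProduct.tmul_mul_tmul]

theorem isHopfModH (hΔ : ComulMem B) :
    letI := comodB B hΔ
    TameAct.IsHopfMod k H ↥B H := by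
  letI := comodB B hΔ
  refine ⟨fun b h => ?_⟩
  rw [hmSMul_eq_mul, incl_coact B hΔ]
  change CoalgebraStruct.comul (R := k) ((b : H) * h) = _
  exact Bialgebra.comul_mul _ _

/-- a Hopf subalgebra has no nontrivial ideals stable under the comultiplication -/
theorem simpleB (hΔ : ComulMem B) (hS : ∀ b ∈ B, HopfAlgebra.antipode k b ∈ B) :
    letI := comodB B hΔ
    ∀ 𝔞 : Ideal ↥B, IsSubcomod (k := k) (A := H) (𝔞.restrictScalars k) → 𝔞 = ⊥ ∨ 𝔞 = ⊤ := by
  letI := comodB B hΔ
  intro 𝔞 h𝔞
  -- the image of `𝔞` in `H`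
  let U : Submodule k H := (𝔞.restrictScalars k).map (Subalgebra.toSubmodule B).subtype
  have hU : ∀ a : ↥B, a ∈ 𝔞 → (a : H) ∈ U := fun a ha => ⟨a, ha, rfl⟩
  have hΔU : ∀ a : ↥B, a ∈ 𝔞 → CoalgebraStruct.comul (R := k) (a : H) ∈
      LinearMap.range (LinearMap.rTensor H U.subtype) := by
    intro a ha
    obtain ⟨z, hz⟩ := h𝔞 a ha
    rw [← incl_coact B hΔ, ← hz]
    clear hz
    induction z using TensorProduct.induction_on with
    | zero => simp
    | tmul x y => exact ⟨(⟨(x : ↥B), hU _ x.2⟩ : U) ⊗ₜ[k] y, rfl⟩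
    | add x y hx hy =>
      rw [map_add, map_add]
      exact Submodule.add_mem _ hx hy
  by_cases hε : ∀ a ∈ 𝔞, CoalgebraStruct.counit (R := k) ((a : ↥B) : H) = 0
  · left
    rw [eq_bot_iff]
    intro a ha
    rw [Ideal.mem_bot]
    apply Subtype.ext
    obtain ⟨z, hz⟩ := hΔU a ha
    have h1 : ((a : ↥B) : H) = sliceL (CoalgebraStruct.counit (R := k) (A := H))
        (CoalgebraStruct.comul (R := k) (a : H)) := (sliceL_counit_comul' (R := k) _).symm
    rw [h1, ← hz, sliceL_rTensor]
    have h2 : (CoalgebraStruct.counit (R := k) (A := H)) ∘ₗ U.subtype = 0 := by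
      ext ⟨u, a', ha', rfl⟩
      exact hε a' ha'
    rw [h2]
    change sliceL 0 z = ((0 : ↥B) : H)
    clear hz h1
    induction z using TensorProduct.induction_on with
    | zero => simp
    | tmul x y => simp [sliceL]
    | add x y hx hy => rw [map_add, hx, hy]; simp
  · right
    push Not at hε
    obtain ⟨a, ha, hεa⟩ := hε
    rw [Ideal.eq_top_iff_one]
    have h2 : CoalgebraStruct.comul (R := k) ((a : ↥B) : H) ∈
        LinearMap.range (LinearMap.lTensor H (Subalgebra.toSubmodule B).subtype) := by
      obtain ⟨z, hz⟩ := hΔ a a.2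
      rw [← hz]
      clear hz
      induction z using TensorProduct.induction_on with
      | zero => simp
      | tmul x y => exact ⟨(x : H) ⊗ₜ[k] (y : Subalgebra.toSubmodule B), rfl⟩
      | add x y hx hy =>
        rw [map_add]
        exact Submodule.add_mem _ hx hy
    obtain ⟨w, hw⟩ := mem_range_map_of_mem_of_mem U (Subalgebra.toSubmodule B) _ (hΔU a ha) h2
    have h3 := HopfAlgebra.mul_antipode_lTensor_comul_apply (R := k) ((a : ↥B) : H)
    rw [← hw] at h3
    have h4 : ∀ w : U ⊗[k] (Subalgebra.toSubmodule B),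
        LinearMap.mul' k H ((HopfAlgebra.antipode k).lTensor H
          (TensorProduct.map U.subtype (Subalgebra.toSubmodule B).subtype w)) ∈ U := by
      intro w
      induction w using TensorProduct.induction_on with
      | zero => simp
      | tmul x y =>
        obtain ⟨x', hx', hxx'⟩ := x.2
        rw [TensorProduct.map_tmul, LinearMap.lTensor_tmul, LinearMap.mul'_apply]
        let x'' : ↥B := x'
        refine ⟨(x'' * (⟨HopfAlgebra.antipode k (y : H), hS _ y.2⟩ : ↥B) : ↥B),
          𝔞.mul_mem_right _ hx', ?_⟩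
        change ((x' : ↥B) : H) * HopfAlgebra.antipode k (y : H) = _
        rw [show ((x' : ↥B) : H) = (x : H) from hxx']
        rfl
      | add x y hx hy =>
        rw [map_add, map_add, map_add]
        exact Submodule.add_mem _ hx hy
    have h5 := h4 w
    rw [h3] at h5
    obtain ⟨c, hc, hc1⟩ := h5
    have hc2 : c = algebraMap k ↥B (CoalgebraStruct.counit (R := k) ((a : ↥B) : H)) := by
      apply Subtype.ext
      exact hc1
    rw [hc2] at hc
    have h6 : (1 : ↥B) = (CoalgebraStruct.counit (R := k) ((a : ↥B) : H))⁻¹ •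
        algebraMap k ↥B (CoalgebraStruct.counit (R := k) ((a : ↥B) : H)) := by
      rw [Algebra.smul_def, ← map_mul, inv_mul_cancel₀ hεa, map_one]
    rw [h6]
    exact Submodule.smul_mem (𝔞.restrictScalars k) _ hc

end HopfSub

end Groth.Agent.Helper7.Takeuchi
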