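import Mathlib
import Groth.Agent.Helper7.TakC

set_option autoImplicit false
set_option linter.unusedSectionVars false
universe u v w

namespace Groth.Agent.Helper7.Takeuchi

open TensorProduct HopfRep Groth.Agent.Helper7.Comodule Groth.Agent.Helper7.HopfModQ

section General

variable {k : Type u} [Field k] {H : Type v} [CommRing H] [HopfAlgebra k H]
  {R : Type w} [CommRing R] [Algebra k R] [Comod k H R] [GLin.IsCoactAlg k H R]
  {M : Type w} [AddCommGroup M] [Module k M] [Module R M] [IsScalarTower k R M]
  [Comod k H M] [TameAct.IsHopfMod k H R M]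

/-- finitely generated stable submodules of a Hopf module over a simple comodule algebra are
projective -/
theorem projective_sub
    (hsimple : ∀ 𝔞 : Ideal R, IsSubcomod (k := k) (A := H) (𝔞.restrictScalars k) → 𝔞 = ⊥ ∨ 𝔞 = ⊤)
    (S : Submodule R M) (hfg : S.FG)
    (hS : IsSubcomod (k := k) (A := H) (S.restrictScalars k)) : Module.Projective R ↥S := by
  letI := subComod (S.restrictScalars k) hS
  haveI : TameAct.IsHopfMod k H R ↥(S.restrictScalars k) := isHopfMod_sub (M := M) S hS
  haveI : Module.Finite R ↥S := Module.Finite.iff_fg.2 hfg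
  haveI : Module.Finite R ↥(S.restrictScalars k) :=
    Module.Finite.equiv (Submodule.restrictScalarsEquiv k R M S).symm
  have h := projective_of_simple (k := k) (H := H) (R := R) (M := ↥(S.restrictScalars k)) hsimple
  exact Module.Projective.of_equiv (Submodule.restrictScalarsEquiv k R M S)

/-- every finite subset of a Hopf module lies in a finitely generated stable submodule -/
theorem exists_stable_fg (s : Finset M) :
    ∃ S : Submodule R M, (↑s ⊆ (S : Set M)) ∧ S.FG ∧
      IsSubcomod (k := k) (A := H) (S.restrictScalars k) := by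
  classical
  have hV : ∃ V : Submodule k M, (↑s ⊆ (V : Set M)) ∧ V.FG ∧ IsSubcomod (k := k) (A := H) V := by
    induction s using Finset.induction_on with
    | empty => exact ⟨⊥, by simp, Submodule.fg_bot, Groth.Agent.Helper9.isSubcomod_bot⟩
    | insert a s _ ih =>
      obtain ⟨V, hsV, hVfg, hVsub⟩ := ih
      obtain ⟨W, hWfin, haW, hWsub⟩ := Groth.Agent.Helper3.exists_finite_subcomod (k := k) (C := H) a
      refine ⟨V ⊔ W, ?_, hVfg.sup (Module.Finite.iff_fg.1 hWfin),
        Groth.Agent.Helper9.isSubcomod_sup hVsub hWsub⟩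
      rw [Finset.coe_insert, Set.insert_subset_iff]
      exact ⟨Submodule.mem_sup_right haW, hsV.trans (fun x hx => Submodule.mem_sup_left hx)⟩
  obtain ⟨V, hsV, hVfg, hVsub⟩ := hV
  refine ⟨Submodule.span R (V : Set M), hsV.trans Submodule.subset_span, ?_,
    isSubcomod_span V hVsub⟩
  obtain ⟨t, ht⟩ := hVfg
  rw [← ht, Submodule.span_span_of_tower]
  exact Submodule.fg_span t.finite_toSet

/-- every Hopf module over a simple comodule algebra is flat -/
theorem flat_of_simple
    (hsimple : ∀ 𝔞 : Ideal R, IsSubcomod (k := k) (A := H) (𝔞.restrictScalars k) → 𝔞 = ⊥ ∨ 𝔞 = ⊤) :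
    Module.Flat R M := by
  classical
  rw [Module.Flat.iff_rTensor_injective']
  intro I
  rw [injective_iff_map_eq_zero]
  intro x hx
  obtain ⟨s, hs⟩ := TensorProduct.exists_finset x
  obtain ⟨S, hsS, hSfg, hSsub⟩ := exists_stable_fg (k := k) (H := H) (R := R)
    (s.image fun p : ↥I × M => p.2)
  haveI : Module.Projective R ↥S := projective_sub (k := k) (H := H) hsimple S hSfg hSsub
  have hmem : ∀ p ∈ s, p.2 ∈ S := fun p hp =>
    hsS (Finset.mem_coe.2 (Finset.mem_image_of_mem _ hp))
  let x' : ↥I ⊗[R] ↥S := ∑ p ∈ s.attach, p.1.1 ⊗ₜ[R] (⟨p.1.2, hmem p.1 p.2⟩ : ↥S)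
  have hx' : LinearMap.lTensor ↥I S.subtype x' = x := by
    rw [hs, map_sum, ← Finset.sum_attach s]
    exact Finset.sum_congr rfl fun p _ => rfl
  have hcomm : LinearMap.lTensor R S.subtype (LinearMap.rTensor ↥S I.subtype x') = 0 := by
    rw [← LinearMap.comp_apply, LinearMap.lTensor_comp_rTensor, ← LinearMap.rTensor_comp_lTensor,
      LinearMap.comp_apply, hx', hx]
  have h1 : LinearMap.rTensor ↥S I.subtype x' = 0 := by
    have hinj : Function.Injective (LinearMap.lTensor R S.subtype) :=
      Module.Flat.lTensor_preserves_injective_linearMap _ S.subtype_injective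
    exact hinj (by rw [hcomm, map_zero])
  have h2 : x' = 0 := by
    have hinj : Function.Injective (LinearMap.rTensor ↥S I.subtype) :=
      Module.Flat.rTensor_preserves_injective_linearMap _ I.subtype_injective
    exact hinj (by rw [h1, map_zero])
  rw [← hx', h2, map_zero]

end General

end Groth.Agent.Helper7.Takeuchi
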