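import Mathlib
import Groth.Agent.Helper7.TakD

set_option autoImplicit false
set_option linter.unusedSectionVars false
universe u v w

namespace Groth.Agent.Helper7.Takeuchi

open TensorProduct HopfRep Groth.Agent.Helper7.Comodule Groth.Agent.Helper7.HopfModQ

section General

variable {k : Type u} [Field k] {H : Type v} [CommRing H] [HopfAlgebra k H]
  {R : Type w} [CommRing R] [Algebra k R] [Comod k H R] [GLin.IsCoactAlg k H R]
  {M : Type w} [AddCommGroup M] [Module k M] [Module R M] [IsScalarTower k R M]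
  [Comod k H M] [TameAct.IsHopfMod k H R M]

/-- a finitely generated stable submodule of a Hopf module over a simple comodule algebra retracts
onto its intersection with any stable submodule -/
theorem exists_retraction
    (hsimple : ∀ 𝔞 : Ideal R, IsSubcomod (k := k) (A := H) (𝔞.restrictScalars k) → 𝔞 = ⊥ ∨ 𝔞 = ⊤)
    (N : Submodule R M) (hN : IsSubcomod (k := k) (A := H) (N.restrictScalars k))
    (S : Submodule R M) (hfg : S.FG)
    (hS : IsSubcomod (k := k) (A := H) (S.restrictScalars k)) :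
    ∃ r : ↥S →ₗ[R] ↥N, ∀ s : ↥S, (s : M) ∈ N → ((r s : ↥N) : M) = s := by
  classical
  let π : M →ₗ[R] M ⧸ N := N.mkQ
  have hπ : Function.Surjective π := N.mkQ_surjective
  have hker : IsSubcomod (k := k) (A := H) (LinearMap.ker (π.restrictScalars k)) := by
    have h1 : LinearMap.ker (π.restrictScalars k) = N.restrictScalars k := by
      ext x
      simp [π]
    rw [h1]
    exact hN
  letI := surjComod (π.restrictScalars k) hπ hker
  haveI : TameAct.IsHopfMod k H R (M ⧸ N) := isHopfMod_surj π hπ hker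
  have hπc : Hoch.IsComodHom H (π.restrictScalars k) :=
    surj_isComodHom (π.restrictScalars k) hπ hker
  let T : Submodule R (M ⧸ N) := S.map π
  have hTfg : T.FG := hfg.map π
  have hT : IsSubcomod (k := k) (A := H) (T.restrictScalars k) := by
    have h1 : T.restrictScalars k = (S.restrictScalars k).map (π.restrictScalars k) := by
      ext x
      simp [T]
    rw [h1]
    exact Groth.Agent.Helper9.isSubcomod_map hπc hS
  haveI : Module.Projective R ↥T := projective_sub (k := k) (H := H) hsimple T hTfg hT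
  let πS : ↥S →ₗ[R] ↥T := (π.domRestrict S).codRestrict T (fun s => ⟨s, s.2, rfl⟩)
  have hπS : Function.Surjective πS := by
    rintro ⟨_, s, hs, rfl⟩
    exact ⟨⟨s, hs⟩, rfl⟩
  obtain ⟨σ, hσ⟩ := Module.projective_lifting_property πS LinearMap.id hπS
  have hσ' : ∀ t : ↥T, π ((σ t : ↥S) : M) = (t : M ⧸ N) := fun t =>
    congrArg Subtype.val (LinearMap.congr_fun hσ t)
  let r0 : ↥S →ₗ[R] M := S.subtype ∘ₗ (LinearMap.id - σ ∘ₗ πS)
  have hr0 : ∀ s : ↥S, r0 s = (s : M) - ((σ (πS s) : ↥S) : M) := fun s => rfl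
  have hr0N : ∀ s : ↥S, r0 s ∈ N := by
    intro s
    have h1 : π (r0 s) = 0 := by
      rw [hr0, map_sub, hσ']
      exact sub_self _
    exact (Submodule.Quotient.mk_eq_zero N).1 h1
  refine ⟨r0.codRestrict N hr0N, fun s hs => ?_⟩
  change r0 s = s
  rw [hr0]
  have h1 : πS s = 0 := by
    apply Subtype.ext
    exact (Submodule.Quotient.mk_eq_zero N).2 hs
  rw [h1, map_zero]
  simp

end General

section HopfSub

variable {k : Type u} [Field k] {H : Type v} [CommRing H] [HopfAlgebra k H] (B : Subalgebra k H)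

/-- **Takeuchi's theorem** : a commutative Hopf algebra over a field is faithfully flat over every
Hopf subalgebra. -/
theorem faithfullyFlat (hΔ : ComulMem B) (hS : ∀ b ∈ B, HopfAlgebra.antipode k b ∈ B) :
    Module.FaithfullyFlat ↥B H := by
  classical
  letI := comodB B hΔ
  haveI := isCoactAlgB B hΔ
  haveI := isHopfModH B hΔ
  have hsimple := simpleB B hΔ hS
  haveI : Module.Flat ↥B H := flat_of_simple (k := k) (H := H) (R := ↥B) (M := H) hsimple
  refine ⟨fun 𝔪 h𝔪 htop => ?_⟩
  have hfin : ∀ x ∈ 𝔪 • (⊤ : Submodule ↥B H),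
      ∃ s : Finset H, x ∈ 𝔪 • Submodule.span ↥B (s : Set H) := by
    intro x hx
    refine Submodule.smul_induction_on hx ?_ ?_
    · intro a ha m _
      exact ⟨{m}, Submodule.smul_mem_smul ha (Submodule.subset_span (by simp))⟩
    · rintro x y ⟨s, hs⟩ ⟨t, ht⟩
      refine ⟨s ∪ t, Submodule.add_mem _
        (Submodule.smul_mono le_rfl (Submodule.span_mono ?_) hs)
        (Submodule.smul_mono le_rfl (Submodule.span_mono ?_) ht)⟩
      · exact Finset.coe_subset.2 Finset.subset_union_left
      · exact Finset.coe_subset.2 Finset.subset_union_right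
  have h1 : (1 : H) ∈ 𝔪 • (⊤ : Submodule ↥B H) := by
    rw [htop]
    exact Submodule.mem_top
  obtain ⟨s, hs⟩ := hfin 1 h1
  obtain ⟨S, hsS, hSfg, hSsub⟩ := exists_stable_fg (k := k) (H := H) (R := ↥B) (insert 1 s)
  have h1S : (1 : H) ∈ S := hsS (by simp)
  have hspan : Submodule.span ↥B (s : Set H) ≤ S :=
    Submodule.span_le.2 (fun x hx => hsS (by simp [Finset.mem_coe.1 hx]))
  have h1' : (⟨1, h1S⟩ : ↥S) ∈ 𝔪 • (⊤ : Submodule ↥B ↥S) := by
    rw [Submodule.mem_smul_top_iff]
    exact Submodule.smul_mono le_rfl hspan hs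
  let N₁ : Submodule ↥B H := LinearMap.range (Algebra.linearMap ↥B H)
  have hN₁ : IsSubcomod (k := k) (A := H) (N₁.restrictScalars k) := by
    have h2 : N₁.restrictScalars k = Subalgebra.toSubmodule B := by
      ext x
      constructor
      · rintro ⟨b, rfl⟩
        exact b.2
      · intro hx
        exact ⟨⟨x, hx⟩, rfl⟩
    rw [h2]
    exact isSubcomod_toSubmodule B hΔ
  obtain ⟨r, hr⟩ := exists_retraction (k := k) (H := H) hsimple N₁ hN₁ S hSfg hSsub
  let e : ↥B ≃ₗ[↥B] ↥N₁ :=
    LinearEquiv.ofInjective (Algebra.linearMap ↥B H) Subtype.val_injective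
  let r' : ↥S →ₗ[↥B] ↥B := e.symm.toLinearMap ∘ₗ r
  have hr1 : r' ⟨1, h1S⟩ = 1 := by
    change e.symm (r ⟨1, h1S⟩) = 1
    rw [LinearEquiv.symm_apply_eq]
    apply Subtype.ext
    rw [hr ⟨1, h1S⟩ ⟨1, rfl⟩]
    rfl
  have hmap : ∀ x ∈ 𝔪 • (⊤ : Submodule ↥B ↥S), r' x ∈ 𝔪 := by
    intro x hx
    refine Submodule.smul_induction_on hx ?_ ?_
    · intro a ha m _
      rw [map_smul, smul_eq_mul]
      exact 𝔪.mul_mem_right _ ha
    · intro x y hx hy
      rw [map_add]
      exact 𝔪.add_mem hx hy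
  have h2 := hmap _ h1'
  rw [hr1] at h2
  exact h𝔪.ne_top ((Ideal.eq_top_iff_one _).2 h2)

end HopfSub

end Groth.Agent.Helper7.Takeuchi
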