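import Mathlib
import Groth.Agent.Helper7.TakE

set_option autoImplicit false
set_option linter.unusedSectionVars false
universe u v w

namespace Groth.Agent.Helper7.Takeuchi

open TensorProduct HopfRep Coalgebra WithConv

section Antipode

variable {k : Type u} [CommSemiring k] {A : Type v} [Semiring A] [HopfAlgebra k A]
  {B : Type w} [Semiring B] [HopfAlgebra k B]

/-- bialgebra maps between Hopf algebras commute with the antipodes -/
theorem map_antipode (f : A →ₐc[k] B) (a : A) :
    f (HopfAlgebra.antipode k a) = HopfAlgebra.antipode k (f a) := by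
  have hL : toConv ((HopfAlgebra.antipode k (A := B)) ∘ₗ (f : A →ₗ[k] B)) *
      toConv (f : A →ₗ[k] B) = 1 := by
    ext a
    rw [(ℛ k a).convMul_apply]
    simpa using HopfAlgebra.sum_antipode_mul_eq_algebraMap_counit ((ℛ k a).induced f)
  have hR : toConv (f : A →ₗ[k] B) *
      toConv ((f : A →ₗ[k] B) ∘ₗ (HopfAlgebra.antipode k (A := A))) = 1 := by
    ext a
    rw [(ℛ k a).convMul_apply]
    have h := congrArg f (HopfAlgebra.sum_mul_antipode_eq_algebraMap_counit (ℛ k a))
    rw [AlgHomClass.commutes f] at h
    simpa [map_sum] using h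
  have h := left_inv_eq_right_inv hL hR
  have h2 := congrArg (fun g => (ofConv g) a) h
  exact h2.symm

end Antipode

end Groth.Agent.Helper7.Takeuchi

namespace Groth.Agent.Helper7.Takeuchi

open TensorProduct HopfRep Coalgebra

section Range

variable {k : Type u} [Field k] {A : Type v} [CommRing A] [HopfAlgebra k A]
  {B : Type w} [CommRing B] [HopfAlgebra k B]

theorem comulMem_range (f : A →ₐc[k] B) : ComulMem (k := k) (H := B) (f : A →ₐ[k] B).range := by
  rintro _ ⟨a, rfl⟩
  have h1 : CoalgebraStruct.comul (R := k) ((f : A →ₐ[k] B) a) =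
      TensorProduct.map (f : A →ₗ[k] B) (f : A →ₗ[k] B) (CoalgebraStruct.comul (R := k) a) :=
    (LinearMap.congr_fun (CoalgHomClass.map_comp_comul f) a).symm
  change CoalgebraStruct.comul (R := k) ((f : A →ₐ[k] B) a) ∈ _
  rw [h1]
  generalize CoalgebraStruct.comul (R := k) a = z
  induction z using TensorProduct.induction_on with
  | zero => simp
  | tmul x y =>
    exact ⟨(⟨f x, x, rfl⟩ : (f : A →ₐ[k] B).range) ⊗ₜ[k] (⟨f y, y, rfl⟩ : (f : A →ₐ[k] B).range),
      rfl⟩
  | add x y hx hy =>
    rw [map_add]
    exact Submodule.add_mem _ hx hy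

theorem antipode_mem_range (f : A →ₐc[k] B) :
    ∀ b ∈ (f : A →ₐ[k] B).range, HopfAlgebra.antipode k b ∈ (f : A →ₐ[k] B).range := by
  rintro _ ⟨a, rfl⟩
  exact ⟨HopfAlgebra.antipode k a, map_antipode f a⟩

/-- the target of a map of commutative Hopf algebras over a field is faithfully flat over the
image -/
theorem faithfullyFlat_range (f : A →ₐc[k] B) :
    Module.FaithfullyFlat ↥(f : A →ₐ[k] B).range B :=
  faithfullyFlat _ (comulMem_range f) (antipode_mem_range f)

theorem faithfullyFlat_range_val (f : A →ₐc[k] B) :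
    ((f : A →ₐ[k] B).range.val : (f : A →ₐ[k] B).range →+* B).FaithfullyFlat :=
  RingHom.faithfullyFlat_algebraMap_iff.2 (faithfullyFlat_range f)

/-- an injective map of commutative Hopf algebras over a field is faithfully flat -/
theorem faithfullyFlat_of_injective (f : A →ₐc[k] B) (hf : Function.Injective f) :
    (f : A →+* B).FaithfullyFlat := by
  let g : A →+* (f : A →ₐ[k] B).range := ((f : A →ₐ[k] B).rangeRestrict : A →+* _)
  have hg : g.FaithfullyFlat := by
    refine RingHom.FaithfullyFlat.of_bijective ⟨?_, ?_⟩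
    · intro x y hxy
      exact hf (congrArg Subtype.val hxy)
    · rintro ⟨_, a, rfl⟩
      exact ⟨a, rfl⟩
  change (letI : Algebra A B := (f : A →+* B).toAlgebra; Module.FaithfullyFlat A B)
  letI : Algebra A B := (f : A →+* B).toAlgebra
  letI : Algebra A (f : A →ₐ[k] B).range := g.toAlgebra
  haveI : IsScalarTower A (f : A →ₐ[k] B).range B := IsScalarTower.of_algebraMap_eq (fun a => rfl)
  haveI : Module.FaithfullyFlat A (f : A →ₐ[k] B).range := hg
  haveI : Module.FaithfullyFlat (f : A →ₐ[k] B).range B := faithfullyFlat_range f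
  exact Module.FaithfullyFlat.trans A (f : A →ₐ[k] B).range B

end Range

end Groth.Agent.Helper7.Takeuchi
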