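import Mathlib
import Groth.Prelude.Def_Dyn
import Groth.Prelude.Def_SGA3

set_option autoImplicit false
universe u v w
open TensorProduct

namespace Groth.Agent.Helper7.UnitComp

/-- An idempotent congruent to `1` modulo the Jacobson radical is `1`. -/
lemma eq_one_of_isIdempotentElem {B : Type*} [CommRing B] {E : B} (hE : IsIdempotentElem E)
    (h : E - 1 ∈ Ideal.jacobson (⊥ : Ideal B)) : E = 1 := by
  have hu : IsUnit E := by
    have := (Ideal.mem_jacobson_bot.1 h) 1
    simpa using this
  have h0 : E * (E - 1) = 0 := by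
    have : E * E = E := hE
    rw [mul_sub, this, mul_one, sub_self]
  have := hu.mul_right_eq_zero.1 h0
  exact sub_eq_zero.1 this

/-- If `D` is a local ring integral over `R` with an `R`-retraction `ε`, then for any integral
`R`-algebra `B` and `ι : D → B`, the image of `ker ε` lies in the Jacobson radical of `B`. -/
lemma map_mem_jacobson {R B D : Type*} [CommRing R] [CommRing B] [CommRing D] [Algebra R B]
    [Algebra R D] [Algebra.IsIntegral R B] [Algebra.IsIntegral R D] [IsLocalRing D]
    (ι : D →ₐ[R] B) (ε : D →ₐ[R] R) {d : D} (hd : ε d = 0) :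
    ι d ∈ Ideal.jacobson (⊥ : Ideal B) := by
  rw [Ideal.jacobson, Ideal.mem_sInf]
  rintro M ⟨-, hM⟩
  have := hM
  have hp : (M.comap (algebraMap R B)).IsMaximal :=
    Ideal.isMaximal_comap_of_isIntegral_of_isMaximal M
  set P : Ideal D := M.comap ι.toRingHom with hP
  have : P.IsPrime := Ideal.comap_isPrime _ _
  have hPc : P.comap (algebraMap R D) = M.comap (algebraMap R B) := by
    rw [hP, Ideal.comap_comap]
    congr 1
    ext r
    simp
  have hPm : P.IsMaximal := by
    apply Ideal.isMaximal_of_isIntegral_of_isMaximal_comap (R := R) P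
    rw [hPc]; exact hp
  have hPe : P = IsLocalRing.maximalIdeal D := IsLocalRing.eq_maximalIdeal hPm
  have hdm : d ∈ IsLocalRing.maximalIdeal D := by
    rw [IsLocalRing.mem_maximalIdeal]
    intro hu
    have hu' : IsUnit (ε d) := hu.map ε
    rw [hd] at hu'
    have : Subsingleton R := subsingleton_of_zero_eq_one (isUnit_zero_iff.1 hu')
    have : Subsingleton B := Algebra.subsingleton R B
    exact hM.ne_top (Subsingleton.elim _ _)
  rw [← hPe] at hdm
  exact hdm


/-- Modulo a maximal ideal of `B`, the image of `d : D` is the scalar `ε d`. -/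
lemma mk_map_eq {R B D : Type*} [CommRing R] [CommRing B] [CommRing D] [Algebra R B]
    [Algebra R D] [Algebra.IsIntegral R B] [Algebra.IsIntegral R D] [IsLocalRing D]
    (ι : D →ₐ[R] B) (ε : D →ₐ[R] R) (M : Ideal B) [hM : M.IsMaximal] (d : D) :
    Ideal.Quotient.mk M (ι d) = algebraMap R (B ⧸ M) (ε d) := by
  have h1 : ε (d - algebraMap R D (ε d)) = 0 := by simp
  have h2 := map_mem_jacobson ι ε h1
  have h3 : ι (d - algebraMap R D (ε d)) ∈ M := by
    rw [Ideal.jacobson, Ideal.mem_sInf] at h2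
    exact h2 ⟨bot_le, hM⟩
  rw [map_sub, AlgHom.commutes] at h3
  have := Ideal.Quotient.eq_zero_iff_mem.2 h3
  rw [map_sub, sub_eq_zero] at this
  rw [this]
  rfl

/-- The retraction `C ⊗ D → C` induced by `ε : D → R`. -/
noncomputable def retr {R : Type*} (C : Type*) {D : Type*} [CommRing R] [CommRing C] [CommRing D]
    [Algebra R C] [Algebra R D] (ε : D →ₐ[R] R) : C ⊗[R] D →ₐ[R] C :=
  Algebra.TensorProduct.lift (AlgHom.id R C) ((Algebra.ofId R C).comp ε) (fun _ _ => Commute.all _ _)

@[simp] lemma retr_tmul {R : Type*} (C : Type*) {D : Type*} [CommRing R] [CommRing C] [CommRing D]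
    [Algebra R C] [Algebra R D] (ε : D →ₐ[R] R) (c : C) (d : D) :
    retr C ε (c ⊗ₜ[R] d) = c * algebraMap R C (ε d) := by
  simp [retr, Algebra.ofId_apply]

/-- An idempotent of `C ⊗ D` (with `D` local, integral over `R`, with retraction `ε`) whose image
under `id ⊗ ε` is `1` equals `1`. -/
lemma eq_one_of_retr_eq_one {R C D : Type*} [CommRing R] [CommRing C] [CommRing D]
    [Algebra R C] [Algebra R D] [Algebra.IsIntegral R (C ⊗[R] D)] [Algebra.IsIntegral R D]
    [IsLocalRing D] (ε : D →ₐ[R] R) {E : C ⊗[R] D} (hE : IsIdempotentElem E)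
    (h1 : retr C ε E = 1) : E = 1 := by
  apply eq_one_of_isIdempotentElem hE
  rw [Ideal.jacobson, Ideal.mem_sInf]
  rintro M ⟨-, hM⟩
  have := hM
  have key : (Ideal.Quotient.mkₐ R M) =
      ((Ideal.Quotient.mkₐ R M).comp (Algebra.TensorProduct.includeLeft)).comp (retr C ε) := by
    apply Algebra.TensorProduct.ext
    · ext c
      simp
    · ext d
      have := mk_map_eq (Algebra.TensorProduct.includeRight : D →ₐ[R] C ⊗[R] D) ε M d
      rw [Algebra.TensorProduct.includeRight_apply] at this
      change Ideal.Quotient.mk M (1 ⊗ₜ[R] d) =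
        Ideal.Quotient.mk M ((retr C ε (1 ⊗ₜ[R] d)) ⊗ₜ[R] 1)
      rw [this, retr_tmul, one_mul, ← Algebra.TensorProduct.algebraMap_apply]
      rfl
  have h2 := congrArg (fun f => f E) key
  simp only [AlgHom.coe_comp, Function.comp_apply, h1, map_one] at h2
  have h3 : Ideal.Quotient.mk M (E - 1) = 0 := by
    rw [map_sub, map_one, sub_eq_zero]
    exact h2
  exact Ideal.Quotient.eq_zero_iff_mem.1 h3


section Hopf

variable {R : Type u} [CommRing R] {A : Type v} [CommRing A] [HopfAlgebra R A]
  {e : A}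

/-- The ideal `(1 - e)`. -/
abbrev I0 (e : A) : Ideal A := Ideal.span ({1 - e} : Set A)

lemma eq_zero_of_map_e {T : Type*} [CommRing T] [Algebra R T] (φ : A →ₐ[R] T) (h : φ e = 1)
    {a : A} (ha : a ∈ I0 e) : φ a = 0 := by
  obtain ⟨b, rfl⟩ := Ideal.mem_span_singleton'.1 ha
  rw [map_mul, map_sub, map_one, h, sub_self, mul_zero]

lemma mk_e : Ideal.Quotient.mk (I0 e) e = 1 := by
  have : Ideal.Quotient.mk (I0 e) (1 - e) = 0 :=
    Ideal.Quotient.eq_zero_iff_mem.2 (Ideal.subset_span rfl)
  rw [map_sub, map_one, sub_eq_zero] at this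
  exact this.symm

variable (hε : Bialgebra.counitAlgHom R A e = 1)

/-- The counit of the unit component. -/
noncomputable def epsBar : (A ⧸ I0 e) →ₐ[R] R :=
  Ideal.Quotient.liftₐ _ (Bialgebra.counitAlgHom R A) (fun _ ha => eq_zero_of_map_e _ hε ha)

@[simp] lemma epsBar_mk (a : A) : epsBar hε (Ideal.Quotient.mk (I0 e) a) =
    Coalgebra.counit (R := R) a := rfl

lemma retr_comp_comul : (retr A (Bialgebra.counitAlgHom R A)).comp (Bialgebra.comulAlgHom R A) =
    AlgHom.id R A := by
  apply AlgHom.toLinearMap_injective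
  have h1 : (retr A (Bialgebra.counitAlgHom R A)).toLinearMap =
      (TensorProduct.rid R A).toLinearMap ∘ₗ LinearMap.lTensor A (Coalgebra.counit (R := R)) := by
    ext a b
    simp [Algebra.smul_def, mul_comm]
  rw [AlgHom.comp_toLinearMap, h1, LinearMap.comp_assoc]
  have h2 : (Bialgebra.comulAlgHom R A).toLinearMap = Coalgebra.comul (R := R) := rfl
  rw [h2, Coalgebra.lTensor_counit_comp_comul]
  ext a
  simp

lemma retr_comp_map :
    (retr (A ⧸ I0 e) (epsBar hε)).comp
      (Algebra.TensorProduct.map (Ideal.Quotient.mkₐ R (I0 e)) (Ideal.Quotient.mkₐ R (I0 e))) =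
    (Ideal.Quotient.mkₐ R (I0 e)).comp (retr A (Bialgebra.counitAlgHom R A)) := by
  apply Algebra.TensorProduct.ext
  · ext a
    simp
  · ext a
    simp

variable [Module.Finite R A] [IsLocalRing (A ⧸ I0 e)]

include hε in
theorem isHopfIdeal (he : IsIdempotentElem e) : (I0 e).IsHopfIdeal R := by
  have hfin : Module.Finite R (A ⧸ I0 e) :=
    Module.Finite.of_surjective (Ideal.Quotient.mkₐ R (I0 e)).toLinearMap
      Ideal.Quotient.mk_surjective
  have hint : Algebra.IsIntegral R (A ⧸ I0 e) := Algebra.IsIntegral.of_finite R _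
  have hint2 : Algebra.IsIntegral R ((A ⧸ I0 e) ⊗[R] (A ⧸ I0 e)) :=
    Algebra.IsIntegral.of_finite R _
  refine { counit_eq_zero := ?_, map_mkQ_comul_eq_zero := ?_, antipode_mem := ?_ }
  · intro x hx
    exact eq_zero_of_map_e (Bialgebra.counitAlgHom R A) hε hx
  · intro x hx
    set Φ : A →ₐ[R] (A ⧸ I0 e) ⊗[R] (A ⧸ I0 e) :=
      (Algebra.TensorProduct.map (Ideal.Quotient.mkₐ R (I0 e)) (Ideal.Quotient.mkₐ R (I0 e))).comp
        (Bialgebra.comulAlgHom R A) with hΦ
    change Φ x = 0
    apply eq_zero_of_map_e Φ _ hx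
    apply eq_one_of_retr_eq_one (epsBar hε) (he.map Φ)
    have : (retr (A ⧸ I0 e) (epsBar hε)).comp Φ = Ideal.Quotient.mkₐ R (I0 e) := by
      rw [hΦ, ← AlgHom.comp_assoc, retr_comp_map, AlgHom.comp_assoc, retr_comp_comul,
        AlgHom.comp_id]
    have h2 := congrArg (fun f => f e) this
    simp only [AlgHom.coe_comp, Function.comp_apply, Ideal.Quotient.mkₐ_eq_mk] at h2
    rw [h2, mk_e]
  · intro x hx
    have h1 : Ideal.Quotient.mk (I0 e) (HopfAlgebra.antipodeAlgHom R A e) = 1 := by
      apply eq_one_of_isIdempotentElem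
      · exact (he.map (HopfAlgebra.antipodeAlgHom R A)).map (Ideal.Quotient.mk (I0 e))
      · have h0 : epsBar hε (Ideal.Quotient.mk (I0 e) (HopfAlgebra.antipodeAlgHom R A e) - 1) = 0 := by
          rw [map_sub, map_one, epsBar_mk, sub_eq_zero]
          change Coalgebra.counit (R := R) (HopfAlgebra.antipode R e) = 1
          rw [HopfAlgebra.counit_antipode]
          exact hε
        exact map_mem_jacobson (AlgHom.id R (A ⧸ I0 e)) (epsBar hε) h0
    have := eq_zero_of_map_e ((Ideal.Quotient.mkₐ R (I0 e)).comp (HopfAlgebra.antipodeAlgHom R A))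
      h1 hx
    exact Ideal.Quotient.eq_zero_iff_mem.1 this

end Hopf

end Groth.Agent.Helper7.UnitComp
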