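import Mathlib
import Groth.Agent.Helper7.UnitComp

set_option autoImplicit false
universe u v w
open TensorProduct WithConv

namespace Groth.Agent.Helper7.UnitComp

section Conv

variable {R : Type u} [CommRing R] {A : Type v} [CommRing A] [HopfAlgebra R A]

/-- Post-composition with an algebra map, as a monoid hom between groups of points. -/
noncomputable def compHom {T T' : Type*} [CommRing T] [CommRing T'] [Algebra R T] [Algebra R T']
    (φ : T →ₐ[R] T') : WithConv (A →ₐ[R] T) →* WithConv (A →ₐ[R] T') where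
  toFun f := toConv (φ.comp f.ofConv)
  map_one' := by
    apply WithConv.ofConv_injective
    ext a
    simp [AlgHom.convOne_def, Algebra.ofId_apply]
  map_mul' f g := by
    apply WithConv.ofConv_injective
    rw [ofConv_toConv, AlgHom.comp_convMul_distrib]

@[simp] lemma compHom_apply {T T' : Type*} [CommRing T] [CommRing T'] [Algebra R T] [Algebra R T']
    (φ : T →ₐ[R] T') (f : WithConv (A →ₐ[R] T)) : compHom φ f = toConv (φ.comp f.ofConv) := rfl

lemma mul_comp_antipode {T : Type*} [CommRing T] [Algebra R T] (f : A →ₐ[R] T) :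
    toConv f * toConv (f.comp (HopfAlgebra.antipodeAlgHom R A)) = 1 := by
  have h1 : toConv (AlgHom.id R A) * toConv (HopfAlgebra.antipodeAlgHom R A) = 1 :=
    mul_inv_cancel (toConv (AlgHom.id R A))
  have h2 := map_mul (compHom f) (toConv (AlgHom.id R A)) (toConv (HopfAlgebra.antipodeAlgHom R A))
  rw [h1, map_one] at h2
  rw [h2]
  simp

lemma conv3_eq {A : Type u} [CommRing A] [HopfAlgebra R A] {T : Type u} [CommRing T] [Algebra R T]
    (f g h : A →ₐ[R] T) :
    Dyn.conv3 R A f g h = (toConv f * toConv g * toConv h).ofConv := by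
  rw [AlgHom.convMul_def, AlgHom.convMul_def]
  simp only [WithConv.ofConv_toConv, Dyn.conv3]
  congr 1
  rw [← AlgHom.comp_assoc]
  congr 1
  ext a <;> simp

end Conv

section Normal

variable {R : Type u} [CommRing R] {A : Type u} [CommRing A] [HopfAlgebra R A] {e : A}
  [Module.Finite R A] [IsLocalRing (A ⧸ I0 e)]

theorem isNormal (he : IsIdempotentElem e) (hε : Bialgebra.counitAlgHom R A e = 1) :
    SGA3.IsNormalHopfIdeal R A (I0 e) := by
  intro T _ _ g h hh a ha
  have hfin : Module.Finite R (A ⧸ I0 e) :=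
    Module.Finite.of_surjective (Ideal.Quotient.mkₐ R (I0 e)).toLinearMap
      Ideal.Quotient.mk_surjective
  have hint : Algebra.IsIntegral R (A ⧸ I0 e) := Algebra.IsIntegral.of_finite R _
  have hint2 : Algebra.IsIntegral R (A ⊗[R] (A ⧸ I0 e)) := Algebra.IsIntegral.of_finite R _
  refine eq_zero_of_map_e _ ?_ ha
  rw [conv3_eq]
  let π : A →ₐ[R] A ⧸ I0 e := Ideal.Quotient.mkₐ R (I0 e)
  let ι₁ : A →ₐ[R] A ⊗[R] (A ⧸ I0 e) := Algebra.TensorProduct.includeLeft
  let ι₂ : (A ⧸ I0 e) →ₐ[R] A ⊗[R] (A ⧸ I0 e) := Algebra.TensorProduct.includeRight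
  let U : WithConv (A →ₐ[R] A ⊗[R] (A ⧸ I0 e)) :=
    toConv ι₁ * toConv (ι₂.comp π) * toConv (ι₁.comp (HopfAlgebra.antipodeAlgHom R A))
  let hbar : (A ⧸ I0 e) →ₐ[R] T := Ideal.Quotient.liftₐ (I0 e) h hh
  let θ : A ⊗[R] (A ⧸ I0 e) →ₐ[R] T :=
    Algebra.TensorProduct.lift g hbar (fun _ _ => Commute.all _ _)
  have hθ : compHom θ U = toConv g * toConv h * toConv (g.comp (HopfAlgebra.antipodeAlgHom R A)) := by
    have h1 : compHom θ (toConv ι₁) = toConv g := by
      apply WithConv.ofConv_injective
      ext a
      simp [θ, ι₁]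
    have h2 : compHom θ (toConv (ι₂.comp π)) = toConv h := by
      apply WithConv.ofConv_injective
      ext a
      simp [θ, ι₂, π, hbar]
    have h3 : compHom θ (toConv (ι₁.comp (HopfAlgebra.antipodeAlgHom R A))) =
        toConv (g.comp (HopfAlgebra.antipodeAlgHom R A)) := by
      apply WithConv.ofConv_injective
      ext a
      simp [θ, ι₁]
    simp only [U, map_mul, h1, h2, h3]
  have hU : U.ofConv e = 1 := by
    apply eq_one_of_retr_eq_one (epsBar hε) (he.map U.ofConv)
    have h3 : compHom (retr A (epsBar hε)) U = 1 := by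
      have h1 : compHom (retr A (epsBar hε)) (toConv (ι₂.comp π)) = 1 := by
        apply WithConv.ofConv_injective
        ext a
        simp [ι₂, π, AlgHom.convOne_def, Algebra.ofId_apply]
      have h2 : compHom (retr A (epsBar hε)) (toConv ι₁) = toConv (AlgHom.id R A) := by
        apply WithConv.ofConv_injective
        ext a
        simp [ι₁]
      have h3 : compHom (retr A (epsBar hε)) (toConv (ι₁.comp (HopfAlgebra.antipodeAlgHom R A))) =
          toConv ((AlgHom.id R A).comp (HopfAlgebra.antipodeAlgHom R A)) := by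
        apply WithConv.ofConv_injective
        ext a
        simp [ι₁]
      simp only [U, map_mul, h1, h2, h3, mul_one]
      exact mul_comp_antipode (AlgHom.id R A)
    have h4 := congrArg (fun f => f.ofConv e) h3
    simp only [compHom_apply, ofConv_toConv, AlgHom.coe_comp, Function.comp_apply] at h4
    rw [h4]
    simp only [AlgHom.convOne_def, ofConv_toConv, AlgHom.coe_comp, Function.comp_apply,
      Algebra.ofId_apply]
    rw [hε, map_one]
  have h5 := congrArg (fun f => f.ofConv e) hθ
  simp only [compHom_apply, ofConv_toConv, AlgHom.coe_comp, Function.comp_apply] at h5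
  rw [← h5, hU, map_one]

end Normal

end Groth.Agent.Helper7.UnitComp
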