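import Mathlib
import Groth.Agent.Helper7.UnitComp3

set_option autoImplicit false
universe u v w
open TensorProduct WithConv

namespace Groth.Agent.Helper7.Deligne

open Groth.Agent.Helper7.UnitComp

variable {R : Type u} [CommRing R] {A : Type v} [CommRing A] [HopfAlgebra R A]

variable (R A) in
/-- first inclusion -/
abbrev i1 : A →ₐ[R] A ⊗[R] A := Algebra.TensorProduct.includeLeft
variable (R A) in
/-- second inclusion -/
abbrev i2 : A →ₐ[R] A ⊗[R] A := Algebra.TensorProduct.includeRight

lemma lift_comp_comul {B : Type*} [CommRing B] [Algebra R B] (f g : A →ₐ[R] B) :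
    (Algebra.TensorProduct.lift f g (fun _ _ => Commute.all _ _)).comp
      (Bialgebra.comulAlgHom R A) = (toConv f * toConv g).ofConv := by
  rw [AlgHom.convMul_def, ofConv_toConv, ofConv_toConv, ofConv_toConv, ← AlgHom.comp_assoc]
  congr 1
  apply Algebra.TensorProduct.ext <;> ext a <;> simp

lemma comul_eq_mul : toConv (Bialgebra.comulAlgHom R A) = toConv (i1 R A) * toConv (i2 R A) := by
  apply WithConv.ofConv_injective
  rw [← lift_comp_comul, ofConv_toConv]
  have : Algebra.TensorProduct.lift (i1 R A) (i2 R A) (fun _ _ => Commute.all _ _) =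
      AlgHom.id R (A ⊗[R] A) := by
    apply Algebra.TensorProduct.ext <;> ext a <;> simp
  rw [this, AlgHom.id_comp]

variable (R A) in
/-- the universal translation `(g, h) ↦ (g, g h)` -/
noncomputable def T : A ⊗[R] A →ₐ[R] A ⊗[R] A :=
  Algebra.TensorProduct.lift (i1 R A) (Bialgebra.comulAlgHom R A) (fun _ _ => Commute.all _ _)

variable (R A) in
/-- the antipode twisted second inclusion `h ↦ g⁻¹ h` -/
noncomputable def θ : A →ₐ[R] A ⊗[R] A :=
  (toConv ((i1 R A).comp (HopfAlgebra.antipodeAlgHom R A)) * toConv (i2 R A)).ofConv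

variable (R A) in
/-- the inverse translation `(g, h) ↦ (g, g⁻¹ h)` -/
noncomputable def T' : A ⊗[R] A →ₐ[R] A ⊗[R] A :=
  Algebra.TensorProduct.lift (i1 R A) (θ R A) (fun _ _ => Commute.all _ _)

@[simp] lemma T_comp_i1 : (T R A).comp (i1 R A) = i1 R A := by
  ext a; simp [T]
@[simp] lemma T_comp_i2 : (T R A).comp (i2 R A) = Bialgebra.comulAlgHom R A := by
  ext a; simp [T]
@[simp] lemma T'_comp_i1 : (T' R A).comp (i1 R A) = i1 R A := by
  ext a; simp [T']
@[simp] lemma T'_comp_i2 : (T' R A).comp (i2 R A) = θ R A := by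
  ext a; simp [T']

lemma T'_comp_T [Coalgebra.IsCocomm R A] : (T' R A).comp (T R A) = AlgHom.id R _ := by
  apply Algebra.TensorProduct.ext
  · rw [AlgHom.comp_assoc]
    change ((T' R A).comp ((T R A).comp (i1 R A))) = _
    rw [T_comp_i1, T'_comp_i1]
    rfl
  · change ((T' R A).comp (T R A)).comp (i2 R A) = (AlgHom.id R _).comp (i2 R A)
    rw [AlgHom.comp_assoc, T_comp_i2, AlgHom.id_comp]
    have h1 := congrArg (compHom (T' R A)) (comul_eq_mul (R := R) (A := A))
    rw [map_mul, compHom_apply, compHom_apply, compHom_apply, ofConv_toConv, ofConv_toConv,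
      ofConv_toConv, T'_comp_i1, T'_comp_i2] at h1
    have h2 := congrArg WithConv.ofConv h1
    rw [ofConv_toConv] at h2
    rw [h2, θ, toConv_ofConv, ← mul_assoc, mul_comp_antipode, one_mul, ofConv_toConv]

lemma T_comp_T' [Coalgebra.IsCocomm R A] : (T R A).comp (T' R A) = AlgHom.id R _ := by
  apply Algebra.TensorProduct.ext
  · rw [AlgHom.comp_assoc]
    change ((T R A).comp ((T' R A).comp (i1 R A))) = _
    rw [T'_comp_i1, T_comp_i1]
    rfl
  · change ((T R A).comp (T' R A)).comp (i2 R A) = (AlgHom.id R _).comp (i2 R A)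
    rw [AlgHom.comp_assoc, T'_comp_i2, AlgHom.id_comp]
    have h1 : toConv ((T R A).comp (θ R A)) = compHom (T R A) (toConv (θ R A)) := rfl
    have h2 := congrArg WithConv.ofConv h1
    rw [ofConv_toConv] at h2
    rw [h2, θ, toConv_ofConv, map_mul, compHom_apply, compHom_apply, ofConv_toConv, ofConv_toConv,
      ← AlgHom.comp_assoc, T_comp_i1, T_comp_i2, comul_eq_mul, ← mul_assoc,
      mul_comm (toConv ((i1 R A).comp (HopfAlgebra.antipodeAlgHom R A))), mul_comp_antipode,
      one_mul, ofConv_toConv]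

end Groth.Agent.Helper7.Deligne
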