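import Mathlib
import Groth.Agent.Helper7.Deligne1

set_option autoImplicit false
set_option linter.unusedSectionVars false
set_option linter.unusedSimpArgs false
universe u v w
open TensorProduct WithConv

namespace Groth.Agent.Helper7.Deligne

open Groth.Agent.Helper7.UnitComp

variable {R : Type u} [CommRing R] {A : Type v} [CommRing A] [HopfAlgebra R A]
  [Coalgebra.IsCocomm R A]

/-- Post-composition with an algebra map, as a ring hom of convolution rings. -/
noncomputable def postHom {B B' : Type*} [CommRing B] [Algebra R B] [CommRing B'] [Algebra R B']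
    (h : B →ₐ[R] B') : WithConv (A →ₗ[R] B) →+* WithConv (A →ₗ[R] B') where
  toFun f := toConv (h.toLinearMap ∘ₗ f.ofConv)
  map_one' := by
    apply WithConv.ofConv_injective
    ext a
    simp [LinearMap.convOne_def]
  map_mul' f g := by
    apply WithConv.ofConv_injective
    rw [ofConv_toConv, LinearMap.algHom_comp_convMul_distrib]
  map_zero' := by
    apply WithConv.ofConv_injective
    simp
  map_add' f g := by
    apply WithConv.ofConv_injective
    simp [LinearMap.comp_add]

@[simp] lemma postHom_apply {B B' : Type*} [CommRing B] [Algebra R B] [CommRing B'] [Algebra R B']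
    (h : B →ₐ[R] B') (f : WithConv (A →ₗ[R] B)) (a : A) : postHom h f a = h (f a) := rfl

variable (R A) in
/-- the convolution ring `End_R(A)` -/
abbrev C : Type v := WithConv (A →ₗ[R] A)
variable (R A) in
/-- the convolution ring `Hom_R(A, A ⊗ A)` -/
abbrev C₂ : Type v := WithConv (A →ₗ[R] A ⊗[R] A)

variable (R A) in
/-- `C₂` as a `C`-algebra, through the first inclusion. -/
@[instance_reducible]
noncomputable def algC : Algebra (C R A) (C₂ R A) := (postHom (i1 R A)).toAlgebra

attribute [local instance] algC

lemma algebraMap_C_apply (c : C R A) (a : A) :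
    algebraMap (C R A) (C₂ R A) c a = (c a) ⊗ₜ[R] (1 : A) := rfl

lemma smul_C₂_apply (c : C R A) (ψ : C₂ R A) :
    (c • ψ).ofConv = LinearMap.mul' R (A ⊗[R] A) ∘ₗ
      TensorProduct.map ((i1 R A).toLinearMap ∘ₗ c.ofConv) ψ.ofConv ∘ₗ Coalgebra.comul := by
  rw [Algebra.smul_def, LinearMap.convMul_def]
  rfl


section Basis

variable {ι : Type*} [Fintype ι] [DecidableEq ι] (b : Module.Basis ι R A)

/-- the `i`-th coordinate `A ⊗ A → A` with respect to the left `A`-basis `1 ⊗ b i`. -/
noncomputable def coordA (i : ι) : A ⊗[R] A →ₗ[A] A := (Algebra.TensorProduct.basis A b).coord i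

lemma coordA_tmul (i k : ι) (x : A) : coordA b i (x ⊗ₜ[R] b k) = if k = i then x else 0 := by
  simp [coordA, Finsupp.single_apply]

lemma sum_coordA (t : A ⊗[R] A) : ∑ i, (coordA b i t) ⊗ₜ[R] b i = t := by
  have := (Algebra.TensorProduct.basis A b).sum_repr t
  conv_rhs => rw [← this]
  apply Finset.sum_congr rfl
  intro i _
  rw [Algebra.TensorProduct.basis_repr_symm_apply']
  rfl

lemma coordA_mul (i : ι) (x : A) (t : A ⊗[R] A) :
    coordA b i ((x ⊗ₜ[R] (1 : A)) * t) = x * coordA b i t := by
  have : (x ⊗ₜ[R] (1 : A)) * t = x • t := by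
    rw [Algebra.smul_def]
    rfl
  rw [this, map_smul, smul_eq_mul]

/-- the coordinate equivalence `C₂ ≃ (ι → C)` over `C`. -/
noncomputable def eC : C₂ R A ≃ₗ[C R A] (ι → C R A) where
  toFun ψ i := toConv (((coordA b i).restrictScalars R) ∘ₗ ψ.ofConv)
  map_add' ψ ψ' := by
    funext i
    apply WithConv.ofConv_injective
    simp [LinearMap.comp_add]
  map_smul' c ψ := by
    funext i
    apply WithConv.ofConv_injective
    simp only [RingHom.id_apply, Pi.smul_apply, smul_eq_mul, ofConv_toConv]
    rw [smul_C₂_apply, LinearMap.convMul_def, ofConv_toConv, ofConv_toConv, ← LinearMap.comp_assoc,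
      ← LinearMap.comp_assoc, ← LinearMap.comp_assoc]
    congr 1
    apply TensorProduct.ext'
    intro x y
    simp only [LinearMap.coe_comp, Function.comp_apply, TensorProduct.map_tmul,
      LinearMap.mul'_apply, LinearMap.coe_restrictScalars, AlgHom.toLinearMap_apply,
      Algebra.TensorProduct.includeLeft_apply]
    rw [coordA_mul]
  invFun φ := toConv (∑ i, ((TensorProduct.mk R A A).flip (b i)) ∘ₗ (φ i).ofConv)
  left_inv ψ := by
    apply WithConv.ofConv_injective
    ext a
    simp only [ofConv_toConv, LinearMap.coe_sum, Finset.sum_apply, LinearMap.coe_comp,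
      Function.comp_apply, LinearMap.flip_apply, TensorProduct.mk_apply,
      LinearMap.coe_restrictScalars]
    exact sum_coordA b (ψ.ofConv a)
  right_inv φ := by
    funext i
    apply WithConv.ofConv_injective
    ext a
    simp only [ofConv_toConv, LinearMap.coe_comp, Function.comp_apply, LinearMap.coe_sum,
      Finset.sum_apply, LinearMap.flip_apply, TensorProduct.mk_apply, map_sum,
      LinearMap.coe_restrictScalars, coordA_tmul]
    rw [Finset.sum_ite_eq' Finset.univ i]
    simp

/-- `C₂` is free over `C` with a basis indexed by `ι`. -/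
noncomputable def basisC : Module.Basis ι (C R A) (C₂ R A) := Module.Basis.ofEquivFun (eC b)

end Basis


section Norm

lemma postHom_postHom {B B' B'' : Type*} [CommRing B] [Algebra R B] [CommRing B'] [Algebra R B']
    [CommRing B''] [Algebra R B''] (h : B →ₐ[R] B') (h' : B' →ₐ[R] B'') (f : WithConv (A →ₗ[R] B)) :
    postHom h' (postHom h f) = postHom (h'.comp h) f := rfl

lemma postHom_id {B : Type*} [CommRing B] [Algebra R B] (f : WithConv (A →ₗ[R] B)) :
    postHom (AlgHom.id R B) f = f := rfl

/-- post-composition with the universal translation, as a `C`-algebra automorphism of `C₂`. -/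
noncomputable def σ : C₂ R A ≃ₐ[C R A] C₂ R A :=
  AlgEquiv.ofAlgHom
    { postHom (T R A) with
      commutes' := fun c => by
        change postHom (T R A) (postHom (i1 R A) c) = postHom (i1 R A) c
        rw [postHom_postHom, T_comp_i1] }
    { postHom (T' R A) with
      commutes' := fun c => by
        change postHom (T' R A) (postHom (i1 R A) c) = postHom (i1 R A) c
        rw [postHom_postHom, T'_comp_i1] }
    (by
      ext ψ : 1
      change postHom (T R A) (postHom (T' R A) ψ) = ψ
      rw [postHom_postHom, T_comp_T', postHom_id])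
    (by
      ext ψ : 1
      change postHom (T' R A) (postHom (T R A) ψ) = ψ
      rw [postHom_postHom, T'_comp_T, postHom_id])

lemma σ_apply (ψ : C₂ R A) : σ ψ = postHom (T R A) ψ := rfl

variable {ι : Type*} [Fintype ι] [DecidableEq ι] (b : Module.Basis ι R A)

include b in
theorem pow_card_eq_one_lin :
    (toConv (LinearMap.id : A →ₗ[R] A) : C R A) ^ (Fintype.card ι) = 1 := by
  set x₂ : C₂ R A := toConv (i2 R A).toLinearMap with hx₂
  set x₁ : C R A := toConv (LinearMap.id : A →ₗ[R] A) with hx₁
  have h1 : σ x₂ = algebraMap (C R A) (C₂ R A) x₁ * x₂ := by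
    rw [σ_apply]
    have h := congrArg (fun f : WithConv (A →ₐ[R] A ⊗[R] A) => toConv f.ofConv.toLinearMap)
      (comul_eq_mul (R := R) (A := A))
    simp only [AlgHom.toLinearMap_convMul, ofConv_toConv] at h
    have h2 : postHom (T R A) x₂ = toConv (Bialgebra.comulAlgHom R A).toLinearMap := by
      apply WithConv.ofConv_injective
      ext a
      simp only [hx₂, T, postHom_apply, ofConv_toConv, AlgHom.toLinearMap_apply,
        Algebra.TensorProduct.includeRight_apply, Algebra.TensorProduct.lift_tmul, map_one, one_mul]
    rw [h2, h]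
    rfl
  have hunit : IsUnit x₂ := by
    have h := congrArg (fun f : WithConv (A →ₐ[R] A ⊗[R] A) => toConv f.ofConv.toLinearMap)
      (mul_comp_antipode (i2 R A))
    simp only [AlgHom.toLinearMap_convMul, ofConv_toConv, AlgHom.toLinearMap_convOne] at h
    exact IsUnit.of_mul_eq_one _ h
  have hN := Algebra.norm_eq_of_algEquiv (σ (R := R) (A := A)) x₂
  rw [h1, map_mul, Algebra.norm_algebraMap_of_basis (basisC b)] at hN
  have hNu : IsUnit (Algebra.norm (C R A) x₂) := hunit.map _
  have h3 : (x₁ ^ Fintype.card ι - 1) * Algebra.norm (C R A) x₂ = 0 := by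
    rw [sub_mul, one_mul, hN, sub_self]
  exact sub_eq_zero.1 (hNu.mul_left_eq_zero.1 h3)

include b in
theorem pow_card_eq_one :
    (toConv (AlgHom.id R A)) ^ (Fintype.card ι) = 1 := by
  apply WithConv.ofConv_injective
  apply AlgHom.toLinearMap_injective
  apply WithConv.toConv_injective
  rw [AlgHom.toLinearMap_convPow, AlgHom.toLinearMap_convOne]
  exact pow_card_eq_one_lin b

end Norm

end Groth.Agent.Helper7.Deligne
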