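import Mathlib
import Groth.Agent.Helper7.Deligne2

set_option autoImplicit false
set_option linter.unusedSectionVars false
set_option linter.unusedSimpArgs false
universe u v w
open TensorProduct WithConv

namespace Groth.Agent.Helper7.Deligne

variable {R : Type u} [CommRing R] {A : Type v} [CommRing A] [HopfAlgebra R A]

section BaseChange
variable (S : Type w) [CommRing S] [Algebra R S]

lemma baseChange_convOne :
    toConv ((1 : WithConv (A →ₗ[R] A)).ofConv.baseChange S) =
      (1 : WithConv (S ⊗[R] A →ₗ[S] S ⊗[R] A)) := by
  apply WithConv.ofConv_injective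
  ext a
  simp [LinearMap.convOne_def, Algebra.TensorProduct.algebraMap_apply, Algebra.algebraMap_eq_smul_one,
    TensorProduct.smul_tmul']
  rw [Algebra.TensorProduct.one_def, TensorProduct.smul_tmul']

lemma baseChange_aux (f g : A →ₗ[R] A) (t : A ⊗[R] A) :
    (1 : S) ⊗ₜ[R] (LinearMap.mul' R A (map f g t)) =
      LinearMap.mul' S (S ⊗[R] A) (map (f.baseChange S) (g.baseChange S)
        (AlgebraTensorModule.tensorTensorTensorComm R S R S S S A A ((1 ⊗ₜ[S] 1) ⊗ₜ[R] t))) := by
  induction t with
  | zero => simp
  | add x y hx hy => simp only [map_add, tmul_add, hx, hy]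
  | tmul x y => simp

lemma baseChange_convMul (f g : WithConv (A →ₗ[R] A)) :
    toConv ((f * g).ofConv.baseChange S) =
      (toConv (f.ofConv.baseChange S) * toConv (g.ofConv.baseChange S) :
        WithConv (S ⊗[R] A →ₗ[S] S ⊗[R] A)) := by
  apply WithConv.ofConv_injective
  ext a
  simp only [LinearMap.convMul_def, ofConv_toConv, TensorProduct.AlgebraTensorModule.curry_apply,
    LinearMap.restrictScalars_self, TensorProduct.curry_apply, LinearMap.baseChange_tmul,
    LinearMap.comp_apply, TensorProduct.comul_tmul, CommSemiring.comul_apply]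
  exact baseChange_aux S _ _ _

/-- base change as a monoid hom of convolution monoids. -/
noncomputable def bcHom : WithConv (A →ₗ[R] A) →* WithConv (S ⊗[R] A →ₗ[S] S ⊗[R] A) where
  toFun f := toConv (f.ofConv.baseChange S)
  map_one' := baseChange_convOne S
  map_mul' := baseChange_convMul S

lemma bcHom_id : bcHom S (toConv (LinearMap.id : A →ₗ[R] A)) = toConv LinearMap.id := by
  simp [bcHom]

end BaseChange

variable [Coalgebra.IsCocomm R A]

theorem pow_rank_eq_one_lin [Module.Finite R A] [Module.Projective R A] (n : ℕ)
    (hn : ∀ p : PrimeSpectrum R, Module.rankAtStalk (R := R) A p = n) :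
    (toConv (LinearMap.id : A →ₗ[R] A)) ^ n = 1 := by
  classical
  apply WithConv.ofConv_injective
  ext a
  refine Module.eq_of_localization_maximal (fun P _ => Localization.AtPrime P ⊗[R] A)
    (fun P _ => TensorProduct.mk R (Localization.AtPrime P) A 1) _ _ ?_
  intro P hP
  have h1 : bcHom (Localization.AtPrime P) ((toConv (LinearMap.id : A →ₗ[R] A)) ^ n) =
      bcHom (Localization.AtPrime P) 1 := by
    rw [map_pow, map_one, bcHom_id]
    have : Module.Free (Localization.AtPrime P) (Localization.AtPrime P ⊗[R] A) :=
      Module.free_of_flat_of_isLocalRing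
    have hfr : Module.finrank (Localization.AtPrime P) (Localization.AtPrime P ⊗[R] A) = n := by
      have := Module.rankAtStalk_eq_finrank_tensorProduct (M := A) ⟨P, inferInstance⟩
      rw [← this]; exact hn ⟨P, _⟩
    have := pow_card_eq_one_lin
      (Module.Free.chooseBasis (Localization.AtPrime P) (Localization.AtPrime P ⊗[R] A))
    rwa [← Module.finrank_eq_card_chooseBasisIndex, hfr] at this
  have := congrArg (fun f => f.ofConv (1 ⊗ₜ a)) h1
  simpa [bcHom] using this

theorem pow_rank_eq_one [Module.Finite R A] [Module.Projective R A] (n : ℕ)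
    (hn : ∀ p : PrimeSpectrum R, Module.rankAtStalk (R := R) A p = n) :
    (toConv (AlgHom.id R A)) ^ n = 1 := by
  apply WithConv.ofConv_injective
  apply AlgHom.toLinearMap_injective
  apply WithConv.toConv_injective
  rw [AlgHom.toLinearMap_convPow, AlgHom.toLinearMap_convOne]
  exact pow_rank_eq_one_lin n hn

end Groth.Agent.Helper7.Deligne
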