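import Mathlib

/-!
# Monomial independence from derivations

`k` a field, `R` a commutative `k`-algebra with an augmentation `ε : R →ₐ[k] k`, elements `x i`
of the augmentation ideal and `k`-derivations `D i` of `R` with `D i (x j) = δ_ij`.  If the integers
`1, …, N` are invertible in `k` then the monomials `x^s` with all exponents `≤ N` are linearly
independent: more precisely, if `f` has all partial degrees `≤ N` and `f(x) ∈ 𝔪^n` then all
coefficients of `f` of total degree `< n` vanish.
-/

namespace Groth.Agent.Helper7.FGK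

open MvPolynomial

universe u v w

section Deriv

variable {k : Type u} [CommRing k] {R : Type v} [CommRing R] [Algebra k R]

/-- derivations lower the `I`-adic filtration by at most one -/
lemma derivation_mem_pow (I : Ideal R) (D : Derivation k R R) (n : ℕ) :
    ∀ a ∈ I ^ (n + 1), D a ∈ I ^ n := by
  induction n with
  | zero => intro a _; simp
  | succ n ih =>
    intro a ha
    rw [pow_succ] at ha
    refine Submodule.mul_induction_on ha ?_ ?_
    · intro b hb c hc
      rw [Derivation.leibniz]
      refine Ideal.add_mem _ ?_ ?_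
      · rw [smul_eq_mul]
        exact Ideal.mul_mem_right _ _ hb
      · have h1 := Ideal.mul_mem_mul (ih b hb) hc
        rw [← pow_succ] at h1
        rwa [smul_eq_mul, mul_comm]
    · intro b c hb hc
      rw [map_add]
      exact Ideal.add_mem _ hb hc

variable {ι : Type w}

/-- chain rule for derivations and polynomial expressions -/
lemma derivation_aeval [Fintype ι] (D : Derivation k R R) (x : ι → R) (f : MvPolynomial ι k) :
    D (aeval x f) = ∑ j, aeval x (pderiv j f) * D (x j) := by
  classical
  induction f using MvPolynomial.induction_on with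
  | C a =>
    simp
  | add p q hp hq =>
    simp only [map_add, hp, hq, add_mul, Finset.sum_add_distrib]
  | mul_X p i hp =>
    have h1 : ∀ j, aeval x (pderiv j (p * X i)) * D (x j) =
        x i * (aeval x (pderiv j p) * D (x j)) +
          (if j = i then aeval x p * D (x i) else 0) := by
      intro j
      rw [pderiv_mul, pderiv_X, Pi.single_apply]
      by_cases hj : i = j
      · subst hj
        simp only [if_true, map_add, map_mul, aeval_X, mul_one]
        ring
      · rw [if_neg hj, if_neg (Ne.symm hj)]
        simp only [mul_zero, add_zero, map_mul, aeval_X]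
        ring
    rw [map_mul, aeval_X, Derivation.leibniz, hp]
    simp only [h1, Finset.sum_add_distrib, ← Finset.mul_sum, Finset.sum_ite_eq', Finset.mem_univ,
      if_true, smul_eq_mul]
    ring

end Deriv

section Main

variable {k : Type u} [Field k] {R : Type v} [CommRing R] [Algebra k R]
  {ι : Type w} [Fintype ι] [DecidableEq ι]

lemma pderiv_mem_restrictDegree (N : ℕ) (i : ι) (f : MvPolynomial ι k)
    (hf : f ∈ restrictDegree ι k N) : pderiv i f ∈ restrictDegree ι k N := by
  rw [mem_restrictDegree] at hf ⊢
  intro s hs j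
  rw [mem_support_iff, coeff_pderiv] at hs
  have h1 : coeff (s + Finsupp.single i 1) f ≠ 0 := by
    intro h0
    exact hs (by rw [h0, zero_mul])
  have h2 := hf _ (mem_support_iff.2 h1) j
  simp only [Finsupp.add_apply] at h2
  omega

/-- the key induction -/
theorem coeff_eq_zero_of_aeval_mem_pow (ε : R →ₐ[k] k) (x : ι → R) (D : ι → Derivation k R R)
    (hD : ∀ i j, D i (x j) = if i = j then 1 else 0) (hx : ∀ i, ε (x i) = 0)
    (N : ℕ) (hN : ∀ j : ℕ, 0 < j → j ≤ N → (j : k) ≠ 0) :
    ∀ (n : ℕ) (f : MvPolynomial ι k), f ∈ restrictDegree ι k N →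
      aeval x f ∈ (RingHom.ker (ε : R →+* k)) ^ n →
      ∀ s : ι →₀ ℕ, s.degree < n → coeff s f = 0 := by
  intro n
  induction n with
  | zero => intro f _ _ s hs; omega
  | succ n ih =>
    intro f hf hmem t ht
    have hchain : ∀ i, D i (aeval x f) = aeval x (pderiv i f) := by
      intro i
      rw [derivation_aeval, Finset.sum_eq_single i]
      · rw [hD, if_pos rfl, mul_one]
      · intro j _ hj
        rw [hD, if_neg hj.symm, mul_zero]
      · simp
    have hstep : ∀ i (s : ι →₀ ℕ), s.degree < n →
        coeff (s + Finsupp.single i 1) f * ((s i : k) + 1) = 0 := by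
      intro i s hs
      have h1 : aeval x (pderiv i f) ∈ (RingHom.ker (ε : R →+* k)) ^ n := by
        rw [← hchain]
        exact derivation_mem_pow _ (D i) n _ hmem
      have h2 := ih (pderiv i f) (pderiv_mem_restrictDegree N i f hf) h1 s hs
      rwa [coeff_pderiv] at h2
    by_cases h0 : t = 0
    · subst h0
      have h1 : aeval x f ∈ RingHom.ker (ε : R →+* k) :=
        Ideal.pow_le_self (Nat.succ_ne_zero n) hmem
      rw [RingHom.mem_ker] at h1
      have h2 : (ε : R →+* k) (aeval x f) = aeval (fun i => ε (x i)) f := by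
        change ε (aeval x f) = _
        rw [← AlgHom.comp_apply, comp_aeval]
      rw [h2] at h1
      have h3 : (fun i => ε (x i)) = (0 : ι → k) := by
        funext i
        exact hx i
      rw [h3, aeval_zero] at h1
      have h4 : constantCoeff f = 0 := by simpa using h1
      rwa [constantCoeff_eq] at h4
    · obtain ⟨i, hi⟩ : ∃ i, t i ≠ 0 := by
        by_contra hcon
        push Not at hcon
        exact h0 (Finsupp.ext hcon)
      set s : ι →₀ ℕ := t - Finsupp.single i 1 with hs
      have hts : s + Finsupp.single i 1 = t := by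
        ext j
        by_cases hj : j = i
        · subst hj
          simp [hs]
          omega
        · simp [hs, Ne.symm hj]
      have hdeg : s.degree < n := by
        have : t.degree = s.degree + 1 := by
          rw [← hts, map_add, Finsupp.degree_single]
        omega
      have h1 := hstep i s hdeg
      rw [hts] at h1
      have hsi : ((s i : k) + 1) = ((t i : ℕ) : k) := by
        have : t i = s i + 1 := by
          rw [← hts]
          simp
        rw [this]
        push_cast
        ring
      rw [hsi] at h1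
      by_cases hle : t i ≤ N
      · have := hN (t i) (Nat.pos_of_ne_zero hi) hle
        rcases mul_eq_zero.1 h1 with h | h
        · exact h
        · exact absurd h this
      · by_contra hne
        rw [mem_restrictDegree] at hf
        exact hle (hf t (mem_support_iff.2 hne) i)

/-- polynomials with partial degrees `≤ N` inject under `aeval x` -/
theorem eq_zero_of_aeval_eq_zero (ε : R →ₐ[k] k) (x : ι → R) (D : ι → Derivation k R R)
    (hD : ∀ i j, D i (x j) = if i = j then 1 else 0) (hx : ∀ i, ε (x i) = 0)
    (N : ℕ) (hN : ∀ j : ℕ, 0 < j → j ≤ N → (j : k) ≠ 0)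
    (f : MvPolynomial ι k) (hf : f ∈ restrictDegree ι k N) (h0 : aeval x f = 0) : f = 0 := by
  ext s
  rw [coeff_zero]
  refine coeff_eq_zero_of_aeval_mem_pow ε x D hD hx N hN (s.degree + 1) f hf ?_ s (Nat.lt_succ_self _)
  rw [h0]
  exact Ideal.zero_mem _

/-- normalise a family of derivations which is dual to `x` only modulo the augmentation ideal -/
theorem exists_derivation_dual (ε : R →ₐ[k] k) (hloc : ∀ r : R, ε r ≠ 0 → IsUnit r)
    (x : ι → R) (D : ι → Derivation k R R)
    (hD : ∀ i j, ε (D i (x j)) = if i = j then 1 else 0) :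
    ∃ D' : ι → Derivation k R R, ∀ i j, D' i (x j) = if i = j then 1 else 0 := by
  classical
  set M : Matrix ι ι R := Matrix.of fun i j => D i (x j) with hM
  have h1 : (ε : R →+* k).mapMatrix M = 1 := by
    ext i j
    simp only [RingHom.mapMatrix_apply, Matrix.map_apply, hM, Matrix.of_apply, Matrix.one_apply]
    exact hD i j
  have h2 : IsUnit M.det := by
    apply hloc
    have : (ε : R →+* k) M.det = 1 := by
      rw [RingHom.map_det, h1, Matrix.det_one]
    change (ε : R →+* k) M.det ≠ 0
    rw [this]
    exact one_ne_zero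
  have h3 : M⁻¹ * M = 1 := Matrix.nonsing_inv_mul M h2
  refine ⟨fun i => ∑ l, M⁻¹ i l • D l, fun i j => ?_⟩
  have h4 : ((∑ l, M⁻¹ i l • D l : Derivation k R R) : R → R) =
      ∑ l, ((M⁻¹ i l • D l : Derivation k R R) : R → R) :=
    map_sum Derivation.coeFnAddMonoidHom _ _
  have h5 : (∑ l, M⁻¹ i l • D l : Derivation k R R) (x j) = ∑ l, M⁻¹ i l * M l j := by
    rw [show (∑ l, M⁻¹ i l • D l : Derivation k R R) (x j) =
      ((∑ l, M⁻¹ i l • D l : Derivation k R R) : R → R) (x j) from rfl, h4, Finset.sum_apply]
    rfl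
  rw [h5, ← Matrix.mul_apply, h3, Matrix.one_apply]

theorem finrank_restrictDegree (N : ℕ) :
    Module.finrank k (restrictDegree ι k N) = (N + 1) ^ Fintype.card ι := by
  classical
  rw [show restrictDegree ι k N = restrictSupport k {n : ι →₀ ℕ | ∀ i, n i ≤ N} from rfl,
    Module.finrank_eq_nat_card_basis (basisRestrictSupport k _)]
  let e : {n : ι →₀ ℕ | ∀ i, n i ≤ N} ≃ (ι → Fin (N + 1)) :=
    { toFun := fun n i => ⟨n.1 i, Nat.lt_succ_of_le (n.2 i)⟩
      invFun := fun f => ⟨Finsupp.equivFunOnFinite.symm (fun i => (f i : ℕ)), fun i => by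
        simpa using Nat.le_of_lt_succ (f i).2⟩
      left_inv := fun n => by
        ext i
        simp
      right_inv := fun f => by
        funext i
        ext
        simp }
  rw [Nat.card_congr e, Nat.card_fun, Nat.card_eq_fintype_card, Nat.card_eq_fintype_card,
    Fintype.card_fin]

theorem pow_card_le_finrank [Module.Finite k R] (ε : R →ₐ[k] k)
    (hloc : ∀ r : R, ε r ≠ 0 → IsUnit r) (x : ι → R) (D : ι → Derivation k R R)
    (hD : ∀ i j, ε (D i (x j)) = if i = j then 1 else 0) (hx : ∀ i, ε (x i) = 0)
    (N : ℕ) (hN : ∀ j : ℕ, 0 < j → j ≤ N → (j : k) ≠ 0) :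
    (N + 1) ^ Fintype.card ι ≤ Module.finrank k R := by
  obtain ⟨D', hD'⟩ := exists_derivation_dual ε hloc x D hD
  rw [← finrank_restrictDegree (k := k) (ι := ι) N]
  refine LinearMap.finrank_le_finrank_of_injective
    (f := (aeval x : MvPolynomial ι k →ₐ[k] R).toLinearMap ∘ₗ (restrictDegree ι k N).subtype) ?_
  intro f g hfg
  have h1 : aeval x ((f : MvPolynomial ι k) - (g : MvPolynomial ι k)) = 0 := by
    rw [map_sub, sub_eq_zero]
    exact hfg
  have h2 := eq_zero_of_aeval_eq_zero ε x D' hD' hx N hN _
    (Submodule.sub_mem _ f.2 g.2) h1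
  exact Subtype.ext (sub_eq_zero.1 h2)

/-- if the augmentation ideal is nilpotent and generated by the `x i` then `k[x] = R` -/
theorem aeval_surjective (ε : R →ₐ[k] k) (x : ι → R) (hx : ∀ i, ε (x i) = 0)
    (hgen : RingHom.ker (ε : R →+* k) ≤ Ideal.span (Set.range x))
    (hnil : ∃ n, (RingHom.ker (ε : R →+* k)) ^ n = ⊥) :
    Function.Surjective (aeval x : MvPolynomial ι k →ₐ[k] R) := by
  classical
  have key : ∀ n : ℕ, ∀ r : R, ∃ f : MvPolynomial ι k,
      r - aeval x f ∈ (RingHom.ker (ε : R →+* k)) ^ n := by
    intro n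
    induction n with
    | zero => intro r; exact ⟨0, by simp⟩
    | succ n ih =>
      intro r
      have h1 : r - algebraMap k R (ε r) ∈ RingHom.ker (ε : R →+* k) := by
        rw [RingHom.mem_ker]
        change ε (r - algebraMap k R (ε r)) = 0
        rw [map_sub, AlgHom.commutes]
        simp
      obtain ⟨c, hc⟩ := (Ideal.mem_span_range_iff_exists_fun).1 (hgen h1)
      choose g hg using fun i => ih (c i)
      refine ⟨C (ε r) + ∑ i, g i * X i, ?_⟩
      have h2 : r - aeval x (C (ε r) + ∑ i, g i * X i) = ∑ i, (c i - aeval x (g i)) * x i := by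
        simp only [map_add, map_sum, map_mul, aeval_X, aeval_C, sub_mul, Finset.sum_sub_distrib, hc]
        ring
      rw [h2]
      refine Ideal.sum_mem _ fun i _ => ?_
      rw [pow_succ]
      refine Ideal.mul_mem_mul (hg i) ?_
      rw [RingHom.mem_ker]
      exact hx i
  obtain ⟨n, hn⟩ := hnil
  intro r
  obtain ⟨f, hf⟩ := key n r
  rw [hn, Ideal.mem_bot, sub_eq_zero] at hf
  exact ⟨f, hf.symm⟩

/-- truncation: if `x i ^ (N+1) = 0` every polynomial expression is one of partial degrees `≤ N` -/
theorem exists_restrictDegree_aeval_eq (x : ι → R) (N : ℕ) (hxN : ∀ i, x i ^ (N + 1) = 0)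
    (f : MvPolynomial ι k) : ∃ g ∈ restrictDegree ι k N, aeval x g = aeval x f := by
  classical
  induction f using MvPolynomial.induction_on' with
  | monomial s a =>
    by_cases hs : ∀ i, s i ≤ N
    · refine ⟨monomial s a, ?_, rfl⟩
      rw [restrictDegree, monomial_mem_restrictSupport]
      exact Or.inl hs
    · push Not at hs
      obtain ⟨i, hi⟩ := hs
      refine ⟨0, Submodule.zero_mem _, ?_⟩
      rw [map_zero, aeval_monomial]
      have h1 : (s.prod fun i e => x i ^ e) = 0 := by
        rw [Finsupp.prod]
        refine Finset.prod_eq_zero (i := i) ?_ ?_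
        · rw [Finsupp.mem_support_iff]
          omega
        · have : s i = (N + 1) + (s i - (N + 1)) := by omega
          rw [this, pow_add, hxN, zero_mul]
      rw [h1, mul_zero]
  | add p q hp hq =>
    obtain ⟨g1, hg1, h1⟩ := hp
    obtain ⟨g2, hg2, h2⟩ := hq
    exact ⟨g1 + g2, Submodule.add_mem _ hg1 hg2, by rw [map_add, map_add, h1, h2]⟩

/-- the dimension count -/
theorem finrank_eq_pow_card [Module.Finite k R] (ε : R →ₐ[k] k)
    (hloc : ∀ r : R, ε r ≠ 0 → IsUnit r) (x : ι → R) (D : ι → Derivation k R R)
    (hD : ∀ i j, ε (D i (x j)) = if i = j then 1 else 0) (hx : ∀ i, ε (x i) = 0)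
    (N : ℕ) (hN : ∀ j : ℕ, 0 < j → j ≤ N → (j : k) ≠ 0)
    (hgen : RingHom.ker (ε : R →+* k) ≤ Ideal.span (Set.range x))
    (hnil : ∃ n, (RingHom.ker (ε : R →+* k)) ^ n = ⊥)
    (hxN : ∀ i, x i ^ (N + 1) = 0) :
    Module.finrank k R = (N + 1) ^ Fintype.card ι := by
  refine le_antisymm ?_ (pow_card_le_finrank ε hloc x D hD hx N hN)
  rw [← finrank_restrictDegree (k := k) (ι := ι) N]
  refine LinearMap.finrank_le_finrank_of_surjective
    (f := (aeval x : MvPolynomial ι k →ₐ[k] R).toLinearMap ∘ₗ (restrictDegree ι k N).subtype) ?_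
  intro r
  obtain ⟨f, hf⟩ := aeval_surjective ε x hx hgen hnil r
  obtain ⟨g, hg, hgf⟩ := exists_restrictDegree_aeval_eq x N hxN f
  exact ⟨⟨g, hg⟩, hgf.trans hf⟩

end Main

end Groth.Agent.Helper7.FGK
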