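import Mathlib

/-!
# Hopf algebra structure on a sub-Hopf-algebra over a field

`ι : C →ₐ[k] H` an injective algebra map into a commutative Hopf algebra over a field such that
`Δ (ι C) ⊆ (ι ⊗ ι)(C ⊗ C)` and `S (ι C) ⊆ ι C`.  Then `C` carries a unique Hopf algebra structure
making `ι` a map of Hopf algebras.
-/

namespace Groth.Agent.Helper7.FGK

open TensorProduct

universe u v w

section Transfer

variable {k : Type u} [Field k] {H : Type v} [CommRing H] [HopfAlgebra k H]
  {C : Type w} [CommRing C] [Algebra k C] (ι : C →ₐ[k] H)

/-- the map `C ⊗ C → H ⊗ H` -/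
noncomputable abbrev jA : C ⊗[k] C →ₐ[k] H ⊗[k] H := Algebra.TensorProduct.map ι ι

/-- `ι` exhibits `C` as a sub-Hopf-algebra of `H` -/
structure IsSubHopf : Prop where
  inj : Function.Injective ι
  comul_mem : ∀ c, Coalgebra.comul (R := k) (ι c) ∈
    LinearMap.range (TensorProduct.map ι.toLinearMap ι.toLinearMap)
  antipode_mem : ∀ c, HopfAlgebra.antipode k (ι c) ∈ LinearMap.range ι.toLinearMap

variable {ι}

lemma jA_injective (h : IsSubHopf ι) : Function.Injective (jA ι) := by
  have := TensorProduct.map_injective_of_flat_flat ι.toLinearMap ι.toLinearMap h.inj h.inj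
  intro x y hxy
  exact this hxy

/-- the comultiplication of `C` as a linear map -/
noncomputable def subComulLin (h : IsSubHopf ι) : C →ₗ[k] C ⊗[k] C :=
  (LinearEquiv.ofInjective (TensorProduct.map ι.toLinearMap ι.toLinearMap)
    (TensorProduct.map_injective_of_flat_flat _ _ h.inj h.inj)).symm.toLinearMap ∘ₗ
  LinearMap.codRestrict _ (Coalgebra.comul (R := k) (A := H) ∘ₗ ι.toLinearMap) h.comul_mem

lemma jA_subComulLin (h : IsSubHopf ι) (c : C) :
    jA ι (subComulLin h c) = Coalgebra.comul (R := k) (ι c) := by
  have h1 := LinearEquiv.apply_symm_apply (LinearEquiv.ofInjective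
    (TensorProduct.map ι.toLinearMap ι.toLinearMap)
    (TensorProduct.map_injective_of_flat_flat _ _ h.inj h.inj))
    (LinearMap.codRestrict _ (Coalgebra.comul (R := k) (A := H) ∘ₗ ι.toLinearMap) h.comul_mem c)
  exact congrArg Subtype.val h1

/-- the comultiplication of `C` as an algebra map -/
noncomputable def subComul (h : IsSubHopf ι) : C →ₐ[k] C ⊗[k] C :=
  AlgHom.ofLinearMap (subComulLin h)
    (by
      apply jA_injective h
      rw [jA_subComulLin, map_one ι, Bialgebra.comul_one, map_one])
    (by
      intro x y
      apply jA_injective h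
      rw [jA_subComulLin, map_mul ι, Bialgebra.comul_mul, map_mul (jA ι), jA_subComulLin,
        jA_subComulLin])

lemma jA_subComul (h : IsSubHopf ι) (c : C) :
    jA ι (subComul h c) = Coalgebra.comul (R := k) (ι c) := jA_subComulLin h c

/-- the counit of `C` -/
noncomputable def subCounit (_h : IsSubHopf ι) : C →ₐ[k] k := (Bialgebra.counitAlgHom k H).comp ι

/-- the antipode of `C` -/
noncomputable def subAntipode (h : IsSubHopf ι) : C →ₗ[k] C :=
  (LinearEquiv.ofInjective ι.toLinearMap h.inj).symm.toLinearMap ∘ₗ
  LinearMap.codRestrict _ (HopfAlgebra.antipode k (A := H) ∘ₗ ι.toLinearMap) h.antipode_mem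

lemma ι_subAntipode (h : IsSubHopf ι) (c : C) :
    ι (subAntipode h c) = HopfAlgebra.antipode k (ι c) := by
  have h1 := LinearEquiv.apply_symm_apply (LinearEquiv.ofInjective ι.toLinearMap h.inj)
    (LinearMap.codRestrict _ (HopfAlgebra.antipode k (A := H) ∘ₗ ι.toLinearMap) h.antipode_mem c)
  exact congrArg Subtype.val h1

/-- the triple tensor map -/
noncomputable abbrev j3 : C ⊗[k] (C ⊗[k] C) →ₐ[k] H ⊗[k] (H ⊗[k] H) :=
  Algebra.TensorProduct.map ι (jA ι)

lemma j3_injective (h : IsSubHopf ι) : Function.Injective (j3 (ι := ι)) := by
  have := TensorProduct.map_injective_of_flat_flat ι.toLinearMap (jA ι).toLinearMap h.inj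
    (jA_injective h)
  intro x y hxy
  exact this hxy

lemma j3_assoc (w : C ⊗[k] C) (c : C) :
    j3 (ι := ι) (Algebra.TensorProduct.assoc k k k C C C (w ⊗ₜ c)) =
      Algebra.TensorProduct.assoc k k k H H H (jA ι w ⊗ₜ ι c) := by
  induction w using TensorProduct.induction_on with
  | zero => simp
  | tmul a b => simp
  | add x y hx hy => simp only [add_tmul, map_add, hx, hy]

lemma j3_left (h : IsSubHopf ι) (z : C ⊗[k] C) :
    j3 (ι := ι) (Algebra.TensorProduct.assoc k k k C C C
      (Algebra.TensorProduct.map (subComul h) (AlgHom.id k C) z)) =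
    Algebra.TensorProduct.assoc k k k H H H
      (Algebra.TensorProduct.map (Bialgebra.comulAlgHom k H) (AlgHom.id k H) (jA ι z)) := by
  induction z using TensorProduct.induction_on with
  | zero => simp
  | tmul a b =>
    rw [Algebra.TensorProduct.map_tmul, j3_assoc, jA_subComul]
    simp
  | add x y hx hy => simp only [map_add, hx, hy]

lemma j3_right (h : IsSubHopf ι) (z : C ⊗[k] C) :
    j3 (ι := ι) (Algebra.TensorProduct.map (AlgHom.id k C) (subComul h) z) =
      Algebra.TensorProduct.map (AlgHom.id k H) (Bialgebra.comulAlgHom k H) (jA ι z) := by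
  induction z using TensorProduct.induction_on with
  | zero => simp
  | tmul a b =>
    rw [Algebra.TensorProduct.map_tmul, Algebra.TensorProduct.map_tmul, jA_subComul]
    simp
  | add x y hx hy => simp only [map_add, hx, hy]

/-- the bialgebra structure -/
@[reducible] noncomputable def subBialgebra (h : IsSubHopf ι) : Bialgebra k C :=
  Bialgebra.ofAlgHom (subComul h) (subCounit h)
    (by
      ext c
      apply j3_injective h
      change j3 (ι := ι) (Algebra.TensorProduct.assoc k k k C C C
        (Algebra.TensorProduct.map (subComul h) (AlgHom.id k C) (subComul h c))) =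
        j3 (ι := ι) (Algebra.TensorProduct.map (AlgHom.id k C) (subComul h) (subComul h c))
      rw [j3_left, j3_right, jA_subComul]
      exact Coalgebra.coassoc_apply (R := k) (ι c))
    (by
      ext c
      have hinj : Function.Injective
          (Algebra.TensorProduct.map (AlgHom.id k k) ι : k ⊗[k] C →ₐ[k] k ⊗[k] H) := by
        have := TensorProduct.map_injective_of_flat_flat
          (AlgHom.id k k).toLinearMap ι.toLinearMap Function.injective_id h.inj
        intro x y hxy
        exact this hxy
      apply hinj
      have key : ∀ z : C ⊗[k] C,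
          Algebra.TensorProduct.map (AlgHom.id k k) ι
            (Algebra.TensorProduct.map (subCounit h) (AlgHom.id k C) z) =
          Algebra.TensorProduct.map (Bialgebra.counitAlgHom k H) (AlgHom.id k H) (jA ι z) := by
        intro z
        induction z using TensorProduct.induction_on with
        | zero => simp
        | tmul a b => simp [subCounit]
        | add x y hx hy => simp only [map_add, hx, hy]
      change Algebra.TensorProduct.map (AlgHom.id k k) ι
        (Algebra.TensorProduct.map (subCounit h) (AlgHom.id k C) (subComul h c)) =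
        Algebra.TensorProduct.map (AlgHom.id k k) ι ((Algebra.TensorProduct.lid k C).symm c)
      rw [key, jA_subComul]
      have := Coalgebra.rTensor_counit_comul (R := k) (ι c)
      exact this)
    (by
      ext c
      have hinj : Function.Injective
          (Algebra.TensorProduct.map ι (AlgHom.id k k) : C ⊗[k] k →ₐ[k] H ⊗[k] k) := by
        have := TensorProduct.map_injective_of_flat_flat
          ι.toLinearMap (AlgHom.id k k).toLinearMap h.inj Function.injective_id
        intro x y hxy
        exact this hxy
      apply hinj
      have key : ∀ z : C ⊗[k] C,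
          Algebra.TensorProduct.map ι (AlgHom.id k k)
            (Algebra.TensorProduct.map (AlgHom.id k C) (subCounit h) z) =
          Algebra.TensorProduct.map (AlgHom.id k H) (Bialgebra.counitAlgHom k H) (jA ι z) := by
        intro z
        induction z using TensorProduct.induction_on with
        | zero => simp
        | tmul a b => simp [subCounit]
        | add x y hx hy => simp only [map_add, hx, hy]
      change Algebra.TensorProduct.map ι (AlgHom.id k k)
        (Algebra.TensorProduct.map (AlgHom.id k C) (subCounit h) (subComul h c)) =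
        Algebra.TensorProduct.map ι (AlgHom.id k k) ((Algebra.TensorProduct.rid k k C).symm c)
      rw [key, jA_subComul]
      have := Coalgebra.lTensor_counit_comul (R := k) (ι c)
      exact this)

lemma ι_mul_antipode_r (h : IsSubHopf ι) (z : C ⊗[k] C) :
    ι (LinearMap.mul' k C ((subAntipode h).rTensor C z)) =
      LinearMap.mul' k H ((HopfAlgebra.antipode k).rTensor H (jA ι z)) := by
  induction z using TensorProduct.induction_on with
  | zero => simp
  | tmul a b => simp [ι_subAntipode]
  | add x y hx hy => simp only [map_add, hx, hy]

lemma ι_mul_antipode_l (h : IsSubHopf ι) (z : C ⊗[k] C) :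
    ι (LinearMap.mul' k C ((subAntipode h).lTensor C z)) =
      LinearMap.mul' k H ((HopfAlgebra.antipode k).lTensor H (jA ι z)) := by
  induction z using TensorProduct.induction_on with
  | zero => simp
  | tmul a b => simp [ι_subAntipode]
  | add x y hx hy => simp only [map_add, hx, hy]

/-- the Hopf algebra structure on a sub-Hopf-algebra -/
@[reducible] noncomputable def subHopf (h : IsSubHopf ι) : HopfAlgebra k C :=
  { toBialgebra := subBialgebra h
    antipode := subAntipode h
    mul_antipode_rTensor_comul := by
      letI := subBialgebra h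
      refine LinearMap.ext fun c => ?_
      apply h.inj
      change ι (LinearMap.mul' k C ((subAntipode h).rTensor C (subComul h c))) =
        ι (algebraMap k C (subCounit h c))
      rw [ι_mul_antipode_r, jA_subComul, HopfAlgebra.mul_antipode_rTensor_comul_apply]
      simp [subCounit]
    mul_antipode_lTensor_comul := by
      letI := subBialgebra h
      refine LinearMap.ext fun c => ?_
      apply h.inj
      change ι (LinearMap.mul' k C ((subAntipode h).lTensor C (subComul h c))) =
        ι (algebraMap k C (subCounit h c))
      rw [ι_mul_antipode_l, jA_subComul, HopfAlgebra.mul_antipode_lTensor_comul_apply]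
      simp [subCounit] }

lemma subHopf_comul (h : IsSubHopf ι) (c : C) :
    letI := subHopf h
    jA ι (Coalgebra.comul (R := k) c) = Coalgebra.comul (R := k) (ι c) := jA_subComul h c

lemma subHopf_counit (h : IsSubHopf ι) (c : C) :
    letI := subHopf h
    Coalgebra.counit (R := k) c = Coalgebra.counit (R := k) (ι c) := rfl

lemma subHopf_antipode (h : IsSubHopf ι) (c : C) :
    letI := subHopf h
    ι (HopfAlgebra.antipode k c) = HopfAlgebra.antipode k (ι c) := ι_subAntipode h c

/-- the algebra structure underlying `subHopf` is the given one -/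
example (h : IsSubHopf ι) : (subHopf h).toAlgebra = ‹Algebra k C› := rfl

end Transfer

end Groth.Agent.Helper7.FGK
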