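import Mathlib
import Groth.Agent.Helper7.FGK2
import Groth.Agent.Helper7.TakE

/-!
# The Frobenius sub-Hopf-algebra `k·A^p` and the index formula
-/

namespace Groth.Agent.Helper7.FGK

open TensorProduct

universe u v

section CharPLemmas

variable {k : Type u} [Field k] (p : ℕ) [Fact p.Prime] [CharP k p]

include k in
lemma add_pow_p {R : Type*} [CommRing R] [Algebra k R] (x y : R) :
    (x + y) ^ p = x ^ p + y ^ p := by
  rcases subsingleton_or_nontrivial R with h | h
  · exact Subsingleton.elim _ _
  · haveI : CharP R p := charP_of_injective_algebraMap (algebraMap k R).injective p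
    exact add_pow_char x y p

include k in
lemma sub_pow_p {R : Type*} [CommRing R] [Algebra k R] (x y : R) :
    (x - y) ^ p = x ^ p - y ^ p := by
  rcases subsingleton_or_nontrivial R with h | h
  · exact Subsingleton.elim _ _
  · haveI : CharP R p := charP_of_injective_algebraMap (algebraMap k R).injective p
    exact sub_pow_char x y

include k in
lemma natCast_p_eq_zero {R : Type*} [CommRing R] [Algebra k R] : (p : R) = 0 := by
  rw [← map_natCast (algebraMap k R), CharP.cast_eq_zero, map_zero]

end CharPLemmas

section Aug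

variable {k : Type u} [Field k] {R : Type v} [CommRing R] [Algebra k R]

lemma isUnit_of_aug_ne_zero (ε : R →ₐ[k] k) (hnil : ∀ x, ε x = 0 → IsNilpotent x)
    (a : R) (ha : ε a ≠ 0) : IsUnit a := by
  have h1 : ε (a - algebraMap k R (ε a)) = 0 := by
    rw [map_sub, AlgHom.commutes]
    simp
  have h2 := hnil _ h1
  have h3 : IsUnit (algebraMap k R (ε a)) := (IsUnit.mk0 _ ha).map (algebraMap k R)
  have h4 : a = algebraMap k R (ε a) + (a - algebraMap k R (ε a)) := by ring
  rw [h4]
  exact h2.isUnit_add_left_of_commute h3 (Commute.all _ _)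

lemma isLocalRing_of_aug (ε : R →ₐ[k] k) (hnil : ∀ x, ε x = 0 → IsNilpotent x) :
    IsLocalRing R := by
  haveI : Nontrivial R := by
    refine ⟨⟨0, 1, fun h => ?_⟩⟩
    have := congrArg ε h
    simp at this
  refine IsLocalRing.of_nonunits_add ?_
  intro a b ha hb
  have ha' : ε a = 0 := by
    by_contra h
    exact ha (isUnit_of_aug_ne_zero ε hnil a h)
  have hb' : ε b = 0 := by
    by_contra h
    exact hb (isUnit_of_aug_ne_zero ε hnil b h)
  have hab : ε (a + b) = 0 := by rw [map_add, ha', hb', add_zero]
  intro hu
  have := hnil _ hab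
  exact this.not_isUnit hu

/-- for a finite local algebra with residue field `k`, the augmentation ideal is nil -/
lemma isNilpotent_of_aug_eq_zero [IsLocalRing R] [Module.Finite k R] (ε : R →ₐ[k] k)
    (x : R) (hx : ε x = 0) : IsNilpotent x := by
  haveI : IsArtinianRing R := IsArtinianRing.of_finite k R
  have h1 : (RingHom.ker (ε : R →+* k)).IsMaximal :=
    RingHom.ker_isMaximal_of_surjective (ε : R →+* k) (fun c => ⟨algebraMap k R c, by simp⟩)
  have h2 : RingHom.ker (ε : R →+* k) = IsLocalRing.maximalIdeal R :=
    IsLocalRing.eq_maximalIdeal h1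
  have h3 : x ∈ IsLocalRing.maximalIdeal R := by
    rw [← h2, RingHom.mem_ker]
    exact hx
  rw [← IsLocalRing.jacobson_eq_maximalIdeal ⊥ bot_ne_top] at h3
  obtain ⟨n, hn⟩ := IsArtinianRing.isNilpotent_jacobson_bot (R := R)
  refine ⟨n, ?_⟩
  have := Ideal.pow_mem_pow h3 n
  rw [hn] at this
  exact this

end Aug

section FrobSub

variable (k : Type u) [Field k] (A : Type v) [CommRing A] [Algebra k A]
  (p : ℕ) [Fact p.Prime] [CharP k p]

/-- the `k`-span of the `p`-th powers, as a subalgebra -/
def frobSub : Subalgebra k A :=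
  (Submodule.span k (Set.range fun a : A => a ^ p)).toSubalgebra
    (Submodule.subset_span ⟨1, one_pow p⟩)
    (by
      intro x y hx hy
      have := Submodule.mul_mem_mul hx hy
      rw [Submodule.span_mul_span] at this
      refine Submodule.span_mono ?_ this
      rintro _ ⟨_, ⟨a, rfl⟩, _, ⟨b, rfl⟩, rfl⟩
      exact ⟨a * b, mul_pow a b p⟩)

variable {k A p}

lemma mem_frobSub {x : A} :
    x ∈ frobSub k A p ↔ x ∈ Submodule.span k (Set.range fun a : A => a ^ p) := Iff.rfl

lemma pow_mem_frobSub (a : A) : a ^ p ∈ frobSub k A p :=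
  Submodule.subset_span ⟨a, rfl⟩

/-- elements of the Frobenius subalgebra minus their augmentation are combinations of `p`-th powers
of elements of the augmentation ideal -/
lemma sub_aug_mem_span (ε : A →ₐ[k] k) (b : A) (hb : b ∈ frobSub k A p) :
    b - algebraMap k A (ε b) ∈
      Submodule.span k {y : A | ∃ a : A, ε a = 0 ∧ a ^ p = y} := by
  rw [mem_frobSub] at hb
  induction hb using Submodule.span_induction with
  | mem x hx =>
    obtain ⟨a, rfl⟩ := hx
    refine Submodule.subset_span ⟨a - algebraMap k A (ε a), ?_, ?_⟩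
    · rw [map_sub, AlgHom.commutes]
      simp
    · rw [sub_pow_p (k := k) p, map_pow, map_pow]
  | zero => simp
  | add x y _ _ hx hy =>
    have : x + y - algebraMap k A (ε (x + y)) =
        (x - algebraMap k A (ε x)) + (y - algebraMap k A (ε y)) := by
      rw [map_add, map_add]
      ring
    rw [this]
    exact Submodule.add_mem _ hx hy
  | smul c x _ hx =>
    have : c • x - algebraMap k A (ε (c • x)) = c • (x - algebraMap k A (ε x)) := by
      rw [map_smul, smul_sub, smul_eq_mul, map_mul, Algebra.smul_def c (algebraMap k A (ε x))]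
    rw [this]
    exact Submodule.smul_mem _ _ hx

end FrobSub

section FrobHopf

variable {k : Type u} [Field k] {A : Type v} [CommRing A] [HopfAlgebra k A]
  {p : ℕ} [Fact p.Prime] [CharP k p]

lemma pow_mem_range_map (z : A ⊗[k] A) :
    z ^ p ∈ LinearMap.range (TensorProduct.map (frobSub k A p).val.toLinearMap
      (frobSub k A p).val.toLinearMap) := by
  induction z using TensorProduct.induction_on with
  | zero =>
    rw [zero_pow (Fact.out : p.Prime).ne_zero]
    exact Submodule.zero_mem _
  | tmul x y =>
    rw [Algebra.TensorProduct.tmul_pow]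
    exact ⟨(⟨x ^ p, pow_mem_frobSub x⟩ : frobSub k A p) ⊗ₜ[k]
      (⟨y ^ p, pow_mem_frobSub y⟩ : frobSub k A p), rfl⟩
  | add x y hx hy =>
    rw [add_pow_p (k := k) p]
    exact Submodule.add_mem _ hx hy

lemma comul_mem_frobSub (b : A) (hb : b ∈ frobSub k A p) :
    Coalgebra.comul (R := k) b ∈ LinearMap.range
      (TensorProduct.map (frobSub k A p).val.toLinearMap (frobSub k A p).val.toLinearMap) := by
  rw [mem_frobSub] at hb
  induction hb using Submodule.span_induction with
  | mem x hx =>
    obtain ⟨a, rfl⟩ := hx
    have : Coalgebra.comul (R := k) (a ^ p) = (Coalgebra.comul (R := k) a) ^ p :=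
      map_pow (Bialgebra.comulAlgHom k A) a p
    rw [this]
    exact pow_mem_range_map _
  | zero => rw [map_zero]; exact Submodule.zero_mem _
  | add x y _ _ hx hy => rw [map_add]; exact Submodule.add_mem _ hx hy
  | smul c x _ hx => rw [map_smul]; exact Submodule.smul_mem _ _ hx

lemma antipode_mem_frobSub (b : A) (hb : b ∈ frobSub k A p) :
    HopfAlgebra.antipode k b ∈ frobSub k A p := by
  rw [mem_frobSub] at hb
  induction hb using Submodule.span_induction with
  | mem x hx =>
    obtain ⟨a, rfl⟩ := hx
    have : HopfAlgebra.antipode k (a ^ p) = (HopfAlgebra.antipode k a) ^ p :=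
      map_pow (HopfAlgebra.antipodeAlgHom k A) a p
    rw [this]
    exact pow_mem_frobSub _
  | zero => rw [map_zero]; exact Subalgebra.zero_mem _
  | add x y _ _ hx hy => rw [map_add]; exact Subalgebra.add_mem _ hx hy
  | smul c x _ hx => rw [map_smul]; exact Subalgebra.smul_mem _ hx c

theorem isSubHopf_frobSub : IsSubHopf (frobSub k A p).val where
  inj := Subtype.val_injective
  comul_mem := fun c => comul_mem_frobSub c.1 c.2
  antipode_mem := fun c => ⟨⟨_, antipode_mem_frobSub c.1 c.2⟩, rfl⟩

theorem faithfullyFlat_frobSub : Module.FaithfullyFlat ↥(frobSub k A p) A :=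
  Takeuchi.faithfullyFlat (frobSub k A p) (fun b hb => comul_mem_frobSub b hb)
    (fun b hb => antipode_mem_frobSub b hb)

end FrobHopf

section Index

variable {k : Type u} [Field k] {A : Type v} [CommRing A] [Algebra k A]

/-- the index formula for an algebra which is finite free over an augmented subalgebra -/
theorem finrank_eq_mul_of_free (B : Subalgebra k A) (ε : A →ₐ[k] k)
    [Module.Free B A] [Module.Finite B A] :
    Module.finrank k A = Module.finrank k B *
      Module.finrank k (A ⧸ Ideal.span {b : A | b ∈ B ∧ ε b = 0}) := by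
  classical
  haveI : Nontrivial A := by
    refine ⟨⟨0, 1, fun h => ?_⟩⟩
    have := congrArg ε h
    simp at this
  haveI : Nontrivial B := ⟨⟨0, 1, fun h => zero_ne_one (congrArg Subtype.val h)⟩⟩
  set J : Ideal A := Ideal.span {b : A | b ∈ B ∧ ε b = 0} with hJ
  let ι := Module.Free.ChooseBasisIndex B A
  let e : Module.Basis ι B A := Module.Free.chooseBasis B A
  have h1 : Module.finrank k A = Module.finrank k B * Module.finrank B A :=
    (Module.finrank_mul_finrank k B A).symm
  have h2 : Module.finrank B A = Fintype.card ι := Module.finrank_eq_card_chooseBasisIndex B A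
  let φ : A →ₗ[k] (ι → k) :=
    { toFun := fun a i => ε (e.repr a i : A)
      map_add' := fun a b => by
        funext i
        simp
      map_smul' := fun c a => by
        funext i
        have : c • a = (algebraMap k B c) • a := (algebraMap_smul B c a).symm
        rw [this, map_smul]
        simp [Algebra.smul_def] }
  have hφ : ∀ a i, φ a i = ε (e.repr a i : A) := fun _ _ => rfl
  -- the kernel
  have hK1 : ∀ a ∈ J, φ a = 0 := by
    intro a ha
    have key : ∀ a' : A, φ (a' * a) = 0 := by
      induction ha using Submodule.span_induction with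
      | mem s hs =>
        intro a'
        funext i
        have : a' * s = (⟨s, hs.1⟩ : B) • a' := by
          rw [mul_comm]
          rfl
        rw [hφ, this, map_smul]
        simp [hs.2]
      | zero => intro a'; simp
      | add x y _ _ hx hy =>
        intro a'
        rw [mul_add, map_add, hx, hy, add_zero]
      | smul c x _ hx =>
        intro a'
        rw [smul_eq_mul, ← mul_assoc]
        exact hx _
    simpa using key 1
  have hK2 : ∀ a, φ a = 0 → a ∈ J := by
    intro a ha
    rw [← e.sum_repr a]
    refine Ideal.sum_mem _ fun i _ => ?_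
    have : (e.repr a i) • e i = ((e.repr a i : B) : A) * e i := rfl
    rw [this]
    refine Ideal.mul_mem_right _ _ (Ideal.subset_span ⟨(e.repr a i).2, ?_⟩)
    have := congrFun ha i
    rwa [hφ] at this
  have hsurj : Function.Surjective φ := by
    intro v
    refine ⟨∑ i, (algebraMap k B (v i)) • e i, ?_⟩
    funext i
    rw [hφ, e.repr_sum_self]
    simp
  let ψ : (A ⧸ J) →ₗ[k] (ι → k) :=
    Submodule.liftQ (J.restrictScalars k) φ (fun a ha => by
      rw [LinearMap.mem_ker]
      exact hK1 a ha)
  have hψ : ∀ a : A, ψ (Ideal.Quotient.mk J a) = φ a := fun a => rfl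
  have hbij : Function.Bijective ψ := by
    constructor
    · rw [injective_iff_map_eq_zero]
      intro x hx
      obtain ⟨a, rfl⟩ := Ideal.Quotient.mk_surjective x
      rw [hψ] at hx
      exact Ideal.Quotient.eq_zero_iff_mem.2 (hK2 a hx)
    · intro v
      obtain ⟨a, ha⟩ := hsurj v
      exact ⟨Ideal.Quotient.mk J a, by rw [hψ, ha]⟩
  have h3 : Module.finrank k (A ⧸ J) = Fintype.card ι := by
    rw [(LinearEquiv.ofBijective ψ hbij).finrank_eq, Module.finrank_fintype_fun_eq_card]
  rw [h1, h2, h3]

end Index

end Groth.Agent.Helper7.FGK
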