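import Mathlib
import Groth.Agent.Helper7.FGK1
import Groth.Agent.Helper7.FGK3

/-!
# Invariant derivations of a commutative Hopf algebra and coordinates on a quotient
-/

namespace Groth.Agent.Helper7.FGK

open TensorProduct

universe u v

section InvDer

variable {k : Type u} [CommRing k] {A : Type v} [CommRing A] [Bialgebra k A]

/-- `a ⊗ b ↦ l b • a` -/
noncomputable def Tmap (l : A →ₗ[k] k) : A ⊗[k] A →ₗ[k] A :=
  (TensorProduct.rid k A).toLinearMap ∘ₗ LinearMap.lTensor A l

@[simp] lemma Tmap_tmul (l : A →ₗ[k] k) (a b : A) : Tmap l (a ⊗ₜ[k] b) = l b • a := by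
  simp [Tmap]

lemma Tmap_counit_comul (a : A) :
    Tmap (Coalgebra.counit (R := k) (A := A)) (Coalgebra.comul (R := k) a) = a := by
  rw [Tmap, LinearMap.comp_apply, Coalgebra.lTensor_counit_comul]
  simp

lemma Tmap_mul (l : A →ₗ[k] k)
    (hl : ∀ x y, l (x * y) = Coalgebra.counit (R := k) x * l y + Coalgebra.counit (R := k) y * l x)
    (z w : A ⊗[k] A) :
    Tmap l (z * w) = Tmap (Coalgebra.counit (R := k) (A := A)) z * Tmap l w +
      Tmap (Coalgebra.counit (R := k) (A := A)) w * Tmap l z := by
  induction z using TensorProduct.induction_on with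
  | zero => simp
  | add z1 z2 h1 h2 =>
    rw [add_mul, map_add, h1, h2, map_add, map_add]
    ring
  | tmul a b =>
    induction w using TensorProduct.induction_on with
    | zero => simp
    | add w1 w2 h1 h2 =>
      rw [mul_add, map_add, h1, h2, map_add, map_add]
      ring
    | tmul c d =>
      rw [Algebra.TensorProduct.tmul_mul_tmul, Tmap_tmul, Tmap_tmul, Tmap_tmul, Tmap_tmul,
        Tmap_tmul, hl]
      simp only [Algebra.smul_def, map_add, map_mul]
      ring

/-- the invariant derivation attached to an `ε`-derivation `l : A → k` -/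
noncomputable def invDer (l : A →ₗ[k] k)
    (hl : ∀ x y, l (x * y) = Coalgebra.counit (R := k) x * l y +
      Coalgebra.counit (R := k) y * l x) : Derivation k A A :=
  Derivation.mk' (Tmap l ∘ₗ Coalgebra.comul) (by
    intro a b
    rw [LinearMap.comp_apply, Bialgebra.comul_mul, Tmap_mul l hl, Tmap_counit_comul,
      Tmap_counit_comul]
    rfl)

lemma invDer_apply (l : A →ₗ[k] k) (hl) (a : A) :
    invDer l hl a = Tmap l (Coalgebra.comul (R := k) a) := rfl

lemma counit_Tmap (l : A →ₗ[k] k) (z : A ⊗[k] A) :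
    Coalgebra.counit (R := k) (Tmap l z) =
      l (TensorProduct.lid k A (LinearMap.rTensor A (Coalgebra.counit (R := k) (A := A)) z)) := by
  induction z using TensorProduct.induction_on with
  | zero => simp
  | add z1 z2 h1 h2 => simp only [map_add, h1, h2]
  | tmul a b => simp [mul_comm]

lemma counit_invDer (l : A →ₗ[k] k) (hl) (a : A) :
    Coalgebra.counit (R := k) (invDer l hl a) = l a := by
  rw [invDer_apply, counit_Tmap, Coalgebra.rTensor_counit_comul]
  simp

end InvDer

section Coords

variable {k : Type u} [Field k] {A : Type v} [CommRing A] [HopfAlgebra k A] [Module.Finite k A]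

/-- coordinates and dual derivations on a quotient `A ⧸ J` stable under all derivations -/
theorem exists_coords (J : Ideal A)
    (hJε : ∀ a ∈ J, Bialgebra.counitAlgHom k A a = 0)
    (hJD : ∀ D : Derivation k A A, ∀ a ∈ J, D a ∈ J)
    (hnil : ∀ x : A, Bialgebra.counitAlgHom k A x = 0 → IsNilpotent x) :
    ∃ (d : ℕ) (x : Fin d → A ⧸ J) (D : Fin d → Derivation k (A ⧸ J) (A ⧸ J)),
      (∀ i j, Ideal.Quotient.liftₐ J (Bialgebra.counitAlgHom k A) hJε (D i (x j)) =
        if i = j then 1 else 0) ∧
      (∀ i, Ideal.Quotient.liftₐ J (Bialgebra.counitAlgHom k A) hJε (x i) = 0) ∧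
      RingHom.ker (Ideal.Quotient.liftₐ J (Bialgebra.counitAlgHom k A) hJε : A ⧸ J →+* k) ≤
        Ideal.span (Set.range x) := by
  classical
  set ε : A →ₐ[k] k := Bialgebra.counitAlgHom k A with hε
  set Q := A ⧸ J with hQ
  set εQ : Q →ₐ[k] k := Ideal.Quotient.liftₐ J ε hJε with hεQ
  set π : A →ₐ[k] Q := Ideal.Quotient.mkₐ k J with hπ
  have hπs : Function.Surjective π := Ideal.Quotient.mkₐ_surjective k J
  have hεπ : ∀ a, εQ (π a) = ε a := fun a => rfl
  set 𝔪 : Ideal Q := RingHom.ker (εQ : Q →+* k) with h𝔪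
  -- the subspace `U = 𝔪² + k·1`
  set U : Submodule k Q := (𝔪 ^ 2).restrictScalars k ⊔ Submodule.span k {(1 : Q)} with hU
  let V := Q ⧸ U
  let bV := Module.finBasis k V
  set d := Module.finrank k V with hd
  -- lifts
  have hlift : ∀ i : Fin d, ∃ q : Q, U.mkQ q = bV i := fun i => U.mkQ_surjective (bV i)
  choose q hq using hlift
  let x : Fin d → Q := fun i => q i - algebraMap k Q (εQ (q i))
  have hxU : ∀ i, U.mkQ (x i) = bV i := by
    intro i
    rw [map_sub, hq, sub_eq_self, Submodule.mkQ_apply, Submodule.Quotient.mk_eq_zero]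
    refine Submodule.mem_sup_right ?_
    rw [Algebra.algebraMap_eq_smul_one]
    exact Submodule.smul_mem _ _ (Submodule.subset_span rfl)
  have hxε : ∀ i, εQ (x i) = 0 := by
    intro i
    rw [map_sub, AlgHom.commutes]
    simp
  -- functionals
  let lam : Fin d → Q →ₗ[k] k := fun i => (bV.coord i) ∘ₗ U.mkQ
  have hlam_x : ∀ i j, lam i (x j) = if i = j then 1 else 0 := by
    intro i j
    change bV.coord i (U.mkQ (x j)) = _
    rw [hxU, Module.Basis.coord_apply, Module.Basis.repr_self, Finsupp.single_apply]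
    by_cases h : i = j
    · rw [if_pos h, if_pos h.symm]
    · rw [if_neg h, if_neg (Ne.symm h)]
  have hlam_U : ∀ i, ∀ u ∈ U, lam i u = 0 := by
    intro i u hu
    change bV.coord i (U.mkQ u) = 0
    rw [Submodule.mkQ_apply, (Submodule.Quotient.mk_eq_zero U).2 hu, map_zero]
  have hlam_one : ∀ i, lam i 1 = 0 := fun i =>
    hlam_U i 1 (Submodule.mem_sup_right (Submodule.subset_span rfl))
  have hlam_sq : ∀ i, ∀ a b : Q, εQ a = 0 → εQ b = 0 → lam i (a * b) = 0 := by
    intro i a b ha hb
    refine hlam_U i _ (Submodule.mem_sup_left ?_)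
    change a * b ∈ 𝔪 ^ 2
    rw [pow_two]
    exact Ideal.mul_mem_mul ha hb
  have hlam_der : ∀ i, ∀ a b : Q, lam i (a * b) = εQ a * lam i b + εQ b * lam i a := by
    intro i a b
    have ha : εQ (a - algebraMap k Q (εQ a)) = 0 := by
      rw [map_sub, AlgHom.commutes]; simp
    have hb : εQ (b - algebraMap k Q (εQ b)) = 0 := by
      rw [map_sub, AlgHom.commutes]; simp
    have h1 := hlam_sq i _ _ ha hb
    have h2 : (a - algebraMap k Q (εQ a)) * (b - algebraMap k Q (εQ b)) =
        a * b - εQ a • b - εQ b • a + (εQ a * εQ b) • (1 : Q) := by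
      simp only [Algebra.smul_def, map_mul]
      ring
    rw [h2, map_add, map_sub, map_sub, map_smul, map_smul, map_smul, hlam_one] at h1
    simp only [smul_eq_mul, mul_zero, add_zero] at h1
    linear_combination h1
  -- derivations on `A`
  let l : Fin d → A →ₗ[k] k := fun i => lam i ∘ₗ π.toLinearMap
  have hl : ∀ i, ∀ a b : A, l i (a * b) =
      Coalgebra.counit (R := k) a * l i b + Coalgebra.counit (R := k) b * l i a := by
    intro i a b
    change lam i (π (a * b)) = ε a * lam i (π b) + ε b * lam i (π a)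
    rw [map_mul, hlam_der, hεπ, hεπ]
  let DA : Fin d → Derivation k A A := fun i => invDer (l i) (hl i)
  have hDA : ∀ i, ∀ a : A, π a = 0 → π (DA i a) = 0 := by
    intro i a ha
    have h1 : a ∈ J := Ideal.Quotient.eq_zero_iff_mem.1 ha
    exact Ideal.Quotient.eq_zero_iff_mem.2 (hJD (DA i) a h1)
  let D : Fin d → Derivation k Q Q := fun i => Derivation.liftOfSurjective hπs (hDA i)
  have hD : ∀ i (a : A), D i (π a) = π (DA i a) := fun i a =>
    Derivation.liftOfSurjective_apply hπs (hDA i) a
  refine ⟨d, x, D, ?_, hxε, ?_⟩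
  · intro i j
    obtain ⟨a, ha⟩ := hπs (x j)
    rw [← ha, hD]
    change εQ (π (DA i a)) = _
    rw [hεπ]
    change Coalgebra.counit (R := k) (invDer (l i) (hl i) a) = _
    rw [counit_invDer]
    change lam i (π a) = _
    rw [ha, hlam_x]
  · -- Nakayama
    haveI : IsNoetherianRing Q := by
      haveI : IsArtinianRing Q := IsArtinianRing.of_finite k Q
      infer_instance
    have hnilQ : ∀ y : Q, εQ y = 0 → IsNilpotent y := by
      intro y hy
      obtain ⟨a, rfl⟩ := hπs y
      rw [hεπ] at hy
      exact (hnil a hy).map π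
    have hjac : 𝔪 ≤ Ideal.jacobson ⊥ := by
      intro y hy
      rw [Ideal.mem_jacobson_bot]
      intro z
      exact (Commute.isNilpotent_mul_right (Commute.all y z) (hnilQ y hy)).isUnit_add_one
    refine Submodule.le_of_le_smul_of_le_jacobson_bot (IsNoetherian.noetherian 𝔪) hjac ?_
    intro m hm
    -- `m` modulo `U`
    have h1 : U.mkQ m = ∑ i, (bV.repr (U.mkQ m) i) • U.mkQ (x i) := by
      conv_lhs => rw [← bV.sum_repr (U.mkQ m)]
      refine Finset.sum_congr rfl fun i _ => ?_
      rw [hxU]
    have h2 : m - ∑ i, (bV.repr (U.mkQ m) i) • x i ∈ U := by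
      rw [← Submodule.Quotient.mk_eq_zero, ← Submodule.mkQ_apply, map_sub, map_sum]
      simp only [map_smul]
      rw [← h1, sub_self]
    obtain ⟨m2, hm2, w, hw, hmw⟩ := Submodule.mem_sup.1 h2
    obtain ⟨c, rfl⟩ := Submodule.mem_span_singleton.1 hw
    have hm2' : m2 ∈ 𝔪 ^ 2 := hm2
    have hc : c = 0 := by
      have h3 := congrArg εQ hmw
      have h4 : εQ m2 = 0 := by
        have : m2 ∈ 𝔪 := Ideal.pow_le_self (two_ne_zero) hm2'
        exact this
      have h5 : εQ m = 0 := hm
      rw [map_add, h4, map_smul, map_one, map_sub, h5, map_sum] at h3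
      simp only [map_smul, hxε, Finset.sum_const_zero, sub_zero, zero_add,
        smul_eq_mul, mul_one, mul_zero] at h3
      exact h3
    rw [hc, zero_smul, add_zero] at hmw
    have h6 : m = ∑ i, (bV.repr (U.mkQ m) i) • x i + m2 := by
      rw [hmw]; ring
    rw [h6]
    refine Submodule.add_mem _ (Submodule.mem_sup_left ?_) (Submodule.mem_sup_right ?_)
    · refine Submodule.sum_mem _ fun i _ => ?_
      rw [Algebra.smul_def]
      exact Ideal.mul_mem_left _ _ (Ideal.subset_span ⟨i, rfl⟩)
    · rw [smul_eq_mul, ← pow_two]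
      exact hm2'

end Coords

end Groth.Agent.Helper7.FGK
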