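import Mathlib
import Groth.Agent.Helper7.FGK4

/-!
# The order of a connected finite group scheme over a field is a power of the characteristic exponent
-/

namespace Groth.Agent.Helper7.FGK

open TensorProduct

universe u v

section

variable {k : Type u} [Field k] {A : Type v} [CommRing A] [HopfAlgebra k A] [Module.Finite k A]
  [IsLocalRing A]

/-- if the augmentation ideal is contained in an ideal contained in its square, `A = k` -/
lemma finrank_eq_one_of_ker_le (J : Ideal A)
    (hJ2 : J ≤ (RingHom.ker (Bialgebra.counitAlgHom k A : A →+* k)) ^ 2)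
    (hker : RingHom.ker (Bialgebra.counitAlgHom k A : A →+* k) ≤ J) :
    Module.finrank k A = 1 := by
  set ε : A →ₐ[k] k := Bialgebra.counitAlgHom k A with hε
  set 𝔪 := RingHom.ker (ε : A →+* k) with h𝔪
  haveI : IsArtinianRing A := IsArtinianRing.of_finite k A
  have hjac : 𝔪 ≤ Ideal.jacobson ⊥ := by
    intro y hy
    rw [Ideal.mem_jacobson_bot]
    intro z
    have hy' : ε y = 0 := hy
    exact (Commute.isNilpotent_mul_right (Commute.all y z)
      (isNilpotent_of_aug_eq_zero ε y hy')).isUnit_add_one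
  have h1 : 𝔪 ≤ 𝔪 • 𝔪 := by
    rw [smul_eq_mul, ← pow_two]
    exact hker.trans hJ2
  have h2 : 𝔪 = ⊥ :=
    Submodule.eq_bot_of_le_smul_of_le_jacobson_bot 𝔪 𝔪 (IsNoetherian.noetherian 𝔪) h1 hjac
  have hinj : Function.Injective ε.toLinearMap := by
    rw [← LinearMap.ker_eq_bot]
    ext y
    rw [LinearMap.mem_ker, Submodule.mem_bot]
    constructor
    · intro hy
      have : y ∈ 𝔪 := hy
      rw [h2] at this
      exact this
    · rintro rfl
      exact map_zero _
  have hsurj : Function.Surjective ε.toLinearMap := fun c => ⟨algebraMap k A c, by simp⟩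
  rw [(LinearEquiv.ofBijective ε.toLinearMap ⟨hinj, hsurj⟩).finrank_eq, Module.finrank_self]

variable (p : ℕ) [Fact p.Prime] [CharP k p]

theorem finrank_quot_charP :
    ∃ d : ℕ, Module.finrank k (A ⧸ Ideal.span
        {b : A | b ∈ frobSub k A p ∧ Bialgebra.counitAlgHom k A b = 0}) = p ^ d ∧
      (d = 0 → Module.finrank k A = 1) := by
  classical
  set ε : A →ₐ[k] k := Bialgebra.counitAlgHom k A with hε
  set J : Ideal A := Ideal.span {b : A | b ∈ frobSub k A p ∧ ε b = 0} with hJ
  have hnil : ∀ x : A, ε x = 0 → IsNilpotent x := isNilpotent_of_aug_eq_zero ε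
  have hJε : ∀ a ∈ J, ε a = 0 := by
    intro a ha
    have : J ≤ RingHom.ker (ε : A →+* k) := Ideal.span_le.2 fun b hb => hb.2
    exact this ha
  have hDB : ∀ D : Derivation k A A, ∀ b ∈ frobSub k A p, D b = 0 := by
    intro D b hb
    rw [mem_frobSub] at hb
    induction hb using Submodule.span_induction with
    | mem x hx =>
      obtain ⟨a, rfl⟩ := hx
      rw [Derivation.leibniz_pow, nsmul_eq_mul, natCast_p_eq_zero (k := k) p, zero_mul]
    | zero => exact map_zero _
    | add x y _ _ hx hy => rw [map_add, hx, hy, add_zero]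
    | smul c x _ hx => rw [Derivation.map_smul, hx, smul_zero]
  have hJD : ∀ D : Derivation k A A, ∀ a ∈ J, D a ∈ J := by
    intro D a ha
    induction ha using Submodule.span_induction with
    | mem s hs =>
      rw [hDB D s hs.1]
      exact Ideal.zero_mem _
    | zero => rw [map_zero]; exact Ideal.zero_mem _
    | add x y _ _ hx hy => rw [map_add]; exact Ideal.add_mem _ hx hy
    | smul c y hy hDy =>
      rw [smul_eq_mul, Derivation.leibniz]
      refine Ideal.add_mem _ ?_ ?_
      · rw [smul_eq_mul]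
        exact Ideal.mul_mem_left _ _ hDy
      · rw [smul_eq_mul]
        exact Ideal.mul_mem_right _ _ hy
  obtain ⟨d, x, D, hD, hx, hgen⟩ := exists_coords J hJε hJD hnil
  set εQ : (A ⧸ J) →ₐ[k] k := Ideal.Quotient.liftₐ J ε hJε with hεQ
  have hπs : Function.Surjective (Ideal.Quotient.mk J) := Ideal.Quotient.mk_surjective
  have hεπ : ∀ a, εQ (Ideal.Quotient.mk J a) = ε a := fun a => rfl
  have hnilQ : ∀ y : A ⧸ J, εQ y = 0 → IsNilpotent y := by
    intro y hy
    obtain ⟨a, rfl⟩ := hπs y
    rw [hεπ] at hy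
    exact (hnil a hy).map (Ideal.Quotient.mk J)
  have hloc := isUnit_of_aug_ne_zero εQ hnilQ
  have hnilpow : ∃ n, (RingHom.ker (εQ : A ⧸ J →+* k)) ^ n = ⊥ := by
    haveI : IsArtinianRing (A ⧸ J) := IsArtinianRing.of_finite k (A ⧸ J)
    obtain ⟨n, hn⟩ := IsArtinianRing.isNilpotent_jacobson_bot (R := A ⧸ J)
    refine ⟨n, ?_⟩
    rw [eq_bot_iff, ← Ideal.zero_eq_bot, ← hn]
    refine Ideal.pow_right_mono ?_ n
    intro y hy
    rw [Ideal.mem_jacobson_bot]
    intro z
    exact (Commute.isNilpotent_mul_right (Commute.all y z) (hnilQ y hy)).isUnit_add_one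
  have hp : p - 1 + 1 = p := Nat.sub_add_cancel (Fact.out : p.Prime).one_le
  have hxN : ∀ i, x i ^ (p - 1 + 1) = 0 := by
    intro i
    rw [hp]
    obtain ⟨a, ha⟩ := hπs (x i)
    have h1 : ε a = 0 := by rw [← hεπ, ha]; exact hx i
    rw [← ha, ← map_pow]
    refine Ideal.Quotient.eq_zero_iff_mem.2 (Ideal.subset_span ⟨pow_mem_frobSub a, ?_⟩)
    rw [map_pow, h1, zero_pow (Fact.out : p.Prime).ne_zero]
  have hN : ∀ j : ℕ, 0 < j → j ≤ p - 1 → (j : k) ≠ 0 := by
    intro j hj hjp h0
    rw [CharP.cast_eq_zero_iff k p] at h0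
    have := Nat.le_of_dvd hj h0
    have hp1 := (Fact.out : p.Prime).one_le
    omega
  have hfin := finrank_eq_pow_card εQ hloc x D hD hx (p - 1) hN hgen hnilpow hxN
  rw [hp, Fintype.card_fin] at hfin
  refine ⟨d, hfin, ?_⟩
  intro hd0
  subst hd0
  have h1 : RingHom.ker (εQ : A ⧸ J →+* k) = ⊥ := by
    rw [eq_bot_iff]
    refine hgen.trans ?_
    rw [Ideal.span_le]
    rintro _ ⟨i, -⟩
    exact i.elim0
  refine finrank_eq_one_of_ker_le J ?_ ?_
  · rw [hJ, Ideal.span_le]
    rintro b ⟨hb, hb0⟩
    have h2 := sub_aug_mem_span ε b hb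
    have hb0' : ε b = 0 := hb0
    rw [hb0', map_zero, sub_zero] at h2
    have h3 : Submodule.span k {y : A | ∃ a : A, ε a = 0 ∧ a ^ p = y} ≤
        ((RingHom.ker (ε : A →+* k)) ^ 2).restrictScalars k := by
      rw [Submodule.span_le]
      rintro _ ⟨a, ha, rfl⟩
      have h4 : a ^ p ∈ (RingHom.ker (ε : A →+* k)) ^ p := Ideal.pow_mem_pow ha p
      exact Ideal.pow_le_pow_right (Fact.out : p.Prime).two_le h4
    exact h3 h2
  · intro a ha
    have h2 : Ideal.Quotient.mk J a ∈ RingHom.ker (εQ : A ⧸ J →+* k) := by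
      rw [RingHom.mem_ker]
      exact ha
    rw [h1] at h2
    exact Ideal.Quotient.eq_zero_iff_mem.1 h2

end

section Induction

variable {k : Type u} [Field k] (p : ℕ) [Fact p.Prime] [CharP k p]

theorem finrank_eq_pow_charP : ∀ (n : ℕ) (A : Type v) [CommRing A] [HopfAlgebra k A]
    [Module.Finite k A] [IsLocalRing A], Module.finrank k A = n → ∃ m, n = p ^ m := by
  intro n
  induction n using Nat.strong_induction_on with
  | _ n ih =>
    intro A _ _ _ _ hA
    obtain ⟨d, hd, hd0⟩ := finrank_quot_charP (k := k) (A := A) p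
    set ε : A →ₐ[k] k := Bialgebra.counitAlgHom k A with hε
    set B := frobSub k A p with hB
    haveI : IsLocalRing B := by
      refine isLocalRing_of_aug (ε.comp B.val) ?_
      intro x hx
      obtain ⟨m, hm⟩ := isNilpotent_of_aug_eq_zero ε (x : A) hx
      refine ⟨m, Subtype.ext ?_⟩
      rw [Subalgebra.coe_pow, hm]
      rfl
    haveI : Module.Finite B A := Module.Finite.of_restrictScalars_finite k B A
    haveI : Module.FaithfullyFlat B A := faithfullyFlat_frobSub
    haveI : Module.Free B A := Module.free_of_flat_of_isLocalRing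
    have hmul := finrank_eq_mul_of_free B ε
    rw [hA, hd] at hmul
    by_cases hd0' : d = 0
    · refine ⟨0, ?_⟩
      rw [← hA, hd0 hd0', pow_zero]
    · have hnpos : 0 < n := by
        rw [← hA]
        exact Module.finrank_pos
      have hBpos : 0 < Module.finrank k B := by
        rcases Nat.eq_zero_or_pos (Module.finrank k B) with h | h
        · rw [h, zero_mul] at hmul
          omega
        · exact h
      have hpd : 2 ≤ p ^ d := by
        calc 2 ≤ p := (Fact.out : p.Prime).two_le
          _ = p ^ 1 := (pow_one p).symm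
          _ ≤ p ^ d := Nat.pow_le_pow_right (Fact.out : p.Prime).pos (Nat.pos_of_ne_zero hd0')
      have hlt : Module.finrank k B < n := by
        rw [hmul]
        nlinarith
      letI : HopfAlgebra k B := subHopf (isSubHopf_frobSub (k := k) (A := A) (p := p))
      obtain ⟨m', hm'⟩ := ih (Module.finrank k B) hlt B rfl
      refine ⟨m' + d, ?_⟩
      rw [hmul, hm', pow_add]

end Induction

/-- **Order of a connected finite group scheme** -/
theorem finrank_eq_pow_ringExpChar (k : Type u) (A : Type v) [Field k] [CommRing A]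
    [HopfAlgebra k A] [Module.Finite k A] [IsLocalRing A] :
    ∃ n : ℕ, Module.finrank k A = ringExpChar k ^ n := by
  classical
  obtain ⟨q, hq⟩ := CharP.exists k
  rcases CharP.char_is_prime_or_zero k q with hprime | hzero
  · haveI : Fact q.Prime := ⟨hprime⟩
    haveI : ExpChar k q := ExpChar.prime hprime
    rw [ringExpChar.eq k q]
    obtain ⟨m, hm⟩ := finrank_eq_pow_charP (k := k) q (Module.finrank k A) A rfl
    exact ⟨m, hm⟩
  · subst hzero
    haveI : CharZero k := CharP.charP_to_charZero k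
    rw [ringExpChar.eq_one k]
    refine ⟨0, ?_⟩
    rw [pow_zero]
    set ε : A →ₐ[k] k := Bialgebra.counitAlgHom k A with hε
    have hnil : ∀ x : A, ε x = 0 → IsNilpotent x := isNilpotent_of_aug_eq_zero ε
    have hJε : ∀ a ∈ (⊥ : Ideal A), ε a = 0 := by
      intro a ha
      rw [Ideal.mem_bot] at ha
      rw [ha, map_zero]
    have hJD : ∀ D : Derivation k A A, ∀ a ∈ (⊥ : Ideal A), D a ∈ (⊥ : Ideal A) := by
      intro D a ha
      rw [Ideal.mem_bot] at ha ⊢
      rw [ha, map_zero]
    obtain ⟨d, x, D, hD, hx, hgen⟩ := exists_coords (⊥ : Ideal A) hJε hJD hnil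
    set εQ : (A ⧸ (⊥ : Ideal A)) →ₐ[k] k := Ideal.Quotient.liftₐ ⊥ ε hJε with hεQ
    have hπs : Function.Surjective (Ideal.Quotient.mk (⊥ : Ideal A)) :=
      Ideal.Quotient.mk_surjective
    have hεπ : ∀ a, εQ (Ideal.Quotient.mk ⊥ a) = ε a := fun a => rfl
    have hnilQ : ∀ y : A ⧸ (⊥ : Ideal A), εQ y = 0 → IsNilpotent y := by
      intro y hy
      obtain ⟨a, rfl⟩ := hπs y
      rw [hεπ] at hy
      exact (hnil a hy).map (Ideal.Quotient.mk ⊥)
    have hloc := isUnit_of_aug_ne_zero εQ hnilQ
    set N := Module.finrank k A with hN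
    have hNk : ∀ j : ℕ, 0 < j → j ≤ N → (j : k) ≠ 0 := by
      intro j hj _
      exact Nat.cast_ne_zero.2 hj.ne'
    have h1 := pow_card_le_finrank εQ hloc x D hD hx N hNk
    rw [Fintype.card_fin] at h1
    have h2 : Module.finrank k (A ⧸ (⊥ : Ideal A)) ≤ N :=
      LinearMap.finrank_le_finrank_of_surjective
        (f := (Ideal.Quotient.mkₐ k (⊥ : Ideal A)).toLinearMap)
        (Ideal.Quotient.mkₐ_surjective k _)
    have hd0 : d = 0 := by
      by_contra hne
      have : N + 1 ≤ (N + 1) ^ d := by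
        calc N + 1 = (N + 1) ^ 1 := (pow_one _).symm
          _ ≤ (N + 1) ^ d := Nat.pow_le_pow_right (Nat.succ_pos N) (Nat.pos_of_ne_zero hne)
      omega
    subst hd0
    have h3 : RingHom.ker (εQ : A ⧸ (⊥ : Ideal A) →+* k) = ⊥ := by
      rw [eq_bot_iff]
      refine hgen.trans ?_
      rw [Ideal.span_le]
      rintro _ ⟨i, -⟩
      exact i.elim0
    refine finrank_eq_one_of_ker_le (⊥ : Ideal A) bot_le ?_
    intro a ha
    have h4 : Ideal.Quotient.mk ⊥ a ∈ RingHom.ker (εQ : A ⧸ (⊥ : Ideal A) →+* k) := by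
      rw [RingHom.mem_ker]
      exact ha
    rw [h3] at h4
    exact Ideal.Quotient.eq_zero_iff_mem.1 h4

end Groth.Agent.Helper7.FGK
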