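import Mathlib

/-!
# Unipotent points: if `φ : A → R` maps the augmentation ideal into a nilpotent ideal then
`φ` has `q`-power order in the convolution monoid (`q` the characteristic exponent).
-/

namespace Groth.Agent.Helper7.FGK

open TensorProduct WithConv

universe u v w

section

variable {k : Type u} [Field k] {A : Type v} [CommRing A] [Bialgebra k A]
  {R : Type w} [CommRing R] [Algebra k R]

/-- values of convolution powers of a map with values in an ideal -/
lemma convPow_mem (𝔫 : Ideal R) (X : WithConv (A →ₗ[k] R)) (hX : ∀ a, X a ∈ 𝔫) :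
    ∀ (n : ℕ) (a : A), (X ^ n) a ∈ 𝔫 ^ n := by
  intro n
  induction n with
  | zero => intro a; simp
  | succ n ih =>
    intro a
    rw [pow_succ X n, LinearMap.convMul_apply]
    generalize Coalgebra.comul (R := k) a = z
    induction z using TensorProduct.induction_on with
    | zero => simp
    | tmul x y =>
      simp only [TensorProduct.map_tmul, LinearMap.mul'_apply]
      rw [pow_succ]
      exact Ideal.mul_mem_mul (ih x) (hX y)
    | add z w hz hw =>
      rw [map_add, map_add]
      exact Ideal.add_mem _ hz hw

variable (q : ℕ) [ExpChar k q]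

include q in
theorem conv_pow_eq_one (φ : A →ₐ[k] R) (𝔫 : Ideal R)
    (h𝔫 : ∀ a, Coalgebra.counit (R := k) a = 0 → φ a ∈ 𝔫) (N f : ℕ) (hN : 𝔫 ^ N = ⊥)
    (hNf : N ≤ q ^ f) :
    (toConv φ) ^ (q ^ f) = 1 := by
  rcases subsingleton_or_nontrivial R with hR | hR
  · apply WithConv.ofConv_injective
    apply AlgHom.ext
    intro a
    exact Subsingleton.elim _ _
  · set C := WithConv (A →ₗ[k] R) with hC
    haveI : Nontrivial C := by
      refine ⟨⟨0, 1, fun h => ?_⟩⟩
      have h1 := congrArg (fun g : C => g (1 : A)) h
      simp at h1
    haveI : ExpChar C q := expChar_of_injective_algebraMap (algebraMap k C).injective q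
    set Φ : C := toConv φ.toLinearMap with hΦ
    set X : C := Φ - 1 with hXdef
    have hX : ∀ a, X a ∈ 𝔫 := by
      intro a
      have h1 : X a = φ (a - algebraMap k A (Coalgebra.counit (R := k) a)) := by
        rw [map_sub, AlgHom.commutes]
        rfl
      rw [h1]
      apply h𝔫
      rw [map_sub]
      simp
    have hXN : X ^ N = 0 := by
      apply WithConv.ofConv_injective
      ext a
      have := convPow_mem 𝔫 X hX N a
      rw [hN, Ideal.mem_bot] at this
      exact this
    have hXq : X ^ (q ^ f) = 0 := by
      rw [← Nat.sub_add_cancel hNf, pow_add, hXN, mul_zero]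
    have hΦ1 : Φ = X + 1 := by rw [hXdef]; abel
    have hpow : Φ ^ (q ^ f) = 1 := by
      rw [hΦ1, add_pow_expChar_pow_of_commute q f (Commute.one_right X), hXq, one_pow, zero_add]
    apply WithConv.ofConv_injective
    apply AlgHom.toLinearMap_injective
    apply WithConv.toConv_injective
    rw [AlgHom.toLinearMap_convPow, AlgHom.toLinearMap_convOne]
    exact hpow

end

end Groth.Agent.Helper7.FGK
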