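import Mathlib
import Groth.Agent.Helper7.FGK5
import Groth.Agent.Helper7.FGK6

/-!
# The identity component of a finite group scheme over a field: Hopf ideal, translations, counting
-/

namespace Groth.Agent.Helper7.FGK

open TensorProduct WithConv

universe u v

section HopfIdeal

variable {k : Type u} [Field k] {A : Type v} [CommRing A] [HopfAlgebra k A]

/-- `Δ(𝔪) ⊆ 𝔪 ⊗ A + A ⊗ 𝔪` -/
lemma comul_mem_sup (a : A) (ha : Coalgebra.counit (R := k) a = 0) :
    Coalgebra.comul (R := k) a ∈
      Ideal.map (Algebra.TensorProduct.includeLeft : A →ₐ[k] A ⊗[k] A)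
        (RingHom.ker (Bialgebra.counitAlgHom k A : A →+* k)) ⊔
      Ideal.map (Algebra.TensorProduct.includeRight : A →ₐ[k] A ⊗[k] A)
        (RingHom.ker (Bialgebra.counitAlgHom k A : A →+* k)) := by
  set ε : A →ₐ[k] k := Bialgebra.counitAlgHom k A with hε
  have hsurj : Function.Surjective ε := fun c => ⟨algebraMap k A c, by simp [hε]⟩
  have hker := Algebra.TensorProduct.map_ker ε ε hsurj hsurj
  have h0 : Algebra.TensorProduct.map ε ε (Coalgebra.comul (R := k) a) = 0 := by
    have h1 : Algebra.TensorProduct.map ε ε =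
        (Algebra.TensorProduct.map ε (AlgHom.id k k)).comp
          (Algebra.TensorProduct.map (AlgHom.id k A) ε) := by
      ext <;> simp
    have h2 : Algebra.TensorProduct.map (AlgHom.id k A) ε (Coalgebra.comul (R := k) a) =
        a ⊗ₜ[k] (1 : k) := Coalgebra.lTensor_counit_comul (R := k) a
    rw [h1, AlgHom.comp_apply, h2, Algebra.TensorProduct.map_tmul]
    have : ε a = 0 := ha
    rw [this, zero_tmul]
  have h3 : Coalgebra.comul (R := k) a ∈ RingHom.ker (Algebra.TensorProduct.map ε ε) := h0
  rw [hker] at h3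
  exact h3

theorem isHopfIdeal_pow (N : ℕ) (hN1 : 1 ≤ N)
    (hstab : (RingHom.ker (Bialgebra.counitAlgHom k A : A →+* k)) ^ (N + N) =
      (RingHom.ker (Bialgebra.counitAlgHom k A : A →+* k)) ^ N) :
    ((RingHom.ker (Bialgebra.counitAlgHom k A : A →+* k)) ^ N).IsHopfIdeal k := by
  set 𝔪 : Ideal A := RingHom.ker (Bialgebra.counitAlgHom k A : A →+* k) with h𝔪
  have hle : 𝔪 ^ N ≤ 𝔪 := Ideal.pow_le_self (by omega)
  have hco : ∀ x ∈ 𝔪 ^ N,
      (Algebra.TensorProduct.map (Ideal.Quotient.mkₐ k (𝔪 ^ N)) (Ideal.Quotient.mkₐ k (𝔪 ^ N)))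
        (Coalgebra.comul (R := k) x) = 0 := by
    intro x hx
    set π : A →ₐ[k] A ⧸ 𝔪 ^ N := Ideal.Quotient.mkₐ k (𝔪 ^ N) with hπ
    have hπs : Function.Surjective π := Ideal.Quotient.mkₐ_surjective k _
    have hker := Algebra.TensorProduct.map_ker π π hπs hπs
    have hkπ : RingHom.ker π = 𝔪 ^ N := Ideal.Quotient.mkₐ_ker k _
    rw [hkπ] at hker
    set Δ : A →+* A ⊗[k] A := (Bialgebra.comulAlgHom k A : A →+* A ⊗[k] A) with hΔ
    set iL : A →+* A ⊗[k] A :=
      ((Algebra.TensorProduct.includeLeft : A →ₐ[k] A ⊗[k] A) : A →+* A ⊗[k] A) with hiL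
    set iR : A →+* A ⊗[k] A :=
      ((Algebra.TensorProduct.includeRight : A →ₐ[k] A ⊗[k] A) : A →+* A ⊗[k] A) with hiR
    have h1 : Ideal.map Δ 𝔪 ≤ Ideal.map iL 𝔪 ⊔ Ideal.map iR 𝔪 := by
      rw [Ideal.map_le_iff_le_comap]
      intro a ha
      exact comul_mem_sup a ha
    have h2 : Ideal.map Δ (𝔪 ^ (N + N)) ≤ Ideal.map iL (𝔪 ^ N) ⊔ Ideal.map iR (𝔪 ^ N) := by
      rw [Ideal.map_pow, Ideal.map_pow, Ideal.map_pow]
      exact (Ideal.pow_right_mono h1 _).trans Ideal.sup_pow_add_le_pow_sup_pow
    have hx' : x ∈ 𝔪 ^ (N + N) := by rw [hstab]; exact hx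
    have h3 : Δ x ∈ RingHom.ker (Algebra.TensorProduct.map π π) := by
      rw [hker]
      exact h2 (Ideal.mem_map_of_mem Δ hx')
    exact h3
  haveI : (Submodule.restrictScalars k (𝔪 ^ N)).IsCoideal := by
    refine ⟨?_, ?_⟩
    · intro x hx
      exact hle hx
    · intro x hx
      exact hco x hx
  refine ⟨?_⟩
  intro x hx
  set S : A →+* A := (HopfAlgebra.antipodeAlgHom k A : A →+* A) with hS
  have h1 : Ideal.map S 𝔪 ≤ 𝔪 := by
    rw [Ideal.map_le_iff_le_comap]
    intro a ha
    change Coalgebra.counit (R := k) (HopfAlgebra.antipode k a) = 0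
    rw [HopfAlgebra.counit_antipode]
    exact ha
  have h2 : Ideal.map S (𝔪 ^ N) ≤ 𝔪 ^ N := by
    rw [Ideal.map_pow]
    exact Ideal.pow_right_mono h1 _
  exact h2 (Ideal.mem_map_of_mem S hx)

end HopfIdeal

section Chain

variable {k : Type u} [Field k] {R : Type v} [CommRing R] [Algebra k R] [Module.Finite k R]

/-- a nil ideal of a finite-dimensional algebra is killed by the dimension -/
theorem pow_finrank_eq_bot (I : Ideal R) (hI : I ≤ Ideal.jacobson ⊥) :
    I ^ Module.finrank k R = ⊥ := by
  haveI : IsNoetherianRing R := by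
    haveI : IsArtinianRing R := IsArtinianRing.of_finite k R
    infer_instance
  have key : ∀ j : ℕ, I ^ j = ⊥ ∨
      Module.finrank k ((I ^ j).restrictScalars k) + j ≤ Module.finrank k R := by
    intro j
    induction j with
    | zero =>
      right
      rw [pow_zero, Ideal.one_eq_top, add_zero]
      have : (⊤ : Ideal R).restrictScalars k = (⊤ : Submodule k R) := by
        ext; simp
      rw [this, finrank_top]
    | succ j ih =>
      rcases ih with h0 | hle
      · left
        rw [pow_succ, h0, Ideal.bot_mul]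
      · by_cases h0 : I ^ j = ⊥
        · left
          rw [pow_succ, h0, Ideal.bot_mul]
        · right
          have hlt : I ^ (j + 1) < I ^ j := by
            refine lt_of_le_of_ne (Ideal.pow_le_pow_right (Nat.le_succ j)) ?_
            intro heq
            apply h0
            refine Submodule.eq_bot_of_le_smul_of_le_jacobson_bot I (I ^ j)
              (IsNoetherian.noetherian _) ?_ hI
            rw [smul_eq_mul, mul_comm, ← pow_succ, heq]
          have hlt' : (I ^ (j + 1)).restrictScalars k < (I ^ j).restrictScalars k := hlt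
          have := Submodule.finrank_lt_finrank_of_lt hlt'
          omega
  rcases key (Module.finrank k R) with h | h
  · exact h
  · have h0 : Module.finrank k ((I ^ Module.finrank k R).restrictScalars k) = 0 := by omega
    rw [Submodule.finrank_eq_zero] at h0
    ext x
    constructor
    · intro hx
      have : x ∈ (I ^ Module.finrank k R).restrictScalars k := hx
      rw [h0] at this
      exact this
    · intro hx
      rw [Ideal.mem_bot] at hx
      rw [hx]
      exact Ideal.zero_mem _

end Chain

section Trans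

variable {k : Type u} [Field k] {A : Type v} [CommRing A] [HopfAlgebra k A]

/-- the constant map at a point, as an element of the convolution monoid of `A → A` -/
noncomputable def cst (γ : WithConv (A →ₐ[k] k)) : WithConv (A →ₐ[k] A) :=
  toConv ((Algebra.ofId k A).comp γ.ofConv)

lemma cst_mul (γ δ : WithConv (A →ₐ[k] k)) : cst (γ * δ) = cst γ * cst δ := by
  apply WithConv.ofConv_injective
  exact AlgHom.comp_convMul_distrib (Algebra.ofId k A) γ δ

lemma cst_one : cst (1 : WithConv (A →ₐ[k] k)) = 1 := by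
  apply WithConv.ofConv_injective
  apply AlgHom.ext
  intro a
  simp [cst, AlgHom.convOne_def]

/-- right translation by a point -/
noncomputable def trans (γ : WithConv (A →ₐ[k] k)) : A →ₐ[k] A :=
  (toConv (AlgHom.id k A) * cst γ).ofConv

lemma comp_ofId {B : Type*} [CommRing B] [Algebra k B] (f : A →ₐ[k] B) :
    f.comp (Algebra.ofId k A) = Algebra.ofId k B := by
  apply AlgHom.ext
  intro c
  simp [Algebra.ofId_apply]

lemma trans_comp (γ δ : WithConv (A →ₐ[k] k)) :
    (trans γ).comp (trans δ) = trans (γ * δ) := by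
  have h1 := AlgHom.comp_convMul_distrib (trans γ) (toConv (AlgHom.id k A)) (cst δ)
  have h2 : (trans γ).comp (cst δ).ofConv = (cst δ).ofConv := by
    change (trans γ).comp ((Algebra.ofId k A).comp δ.ofConv) = (Algebra.ofId k A).comp δ.ofConv
    rw [← AlgHom.comp_assoc, comp_ofId]
  change (trans γ).comp (toConv (AlgHom.id k A) * cst δ).ofConv = _
  rw [h1, h2]
  change (toConv (trans γ) * cst δ).ofConv = _
  have h3 : toConv (trans γ) = toConv (AlgHom.id k A) * cst γ := rfl
  rw [h3, mul_assoc, ← cst_mul]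
  rfl

lemma trans_one : trans (1 : WithConv (A →ₐ[k] k)) = AlgHom.id k A := by
  change (toConv (AlgHom.id k A) * cst 1).ofConv = _
  rw [cst_one, mul_one]

/-- evaluating a point on a translate -/
lemma point_trans (γ δ : WithConv (A →ₐ[k] k)) :
    γ.ofConv.comp (trans δ) = (γ * δ).ofConv := by
  have h1 := AlgHom.comp_convMul_distrib γ.ofConv (toConv (AlgHom.id k A)) (cst δ)
  change γ.ofConv.comp (toConv (AlgHom.id k A) * cst δ).ofConv = _
  rw [h1]
  have h2 : γ.ofConv.comp (cst δ).ofConv = δ.ofConv := by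
    change γ.ofConv.comp ((Algebra.ofId k A).comp δ.ofConv) = δ.ofConv
    rw [← AlgHom.comp_assoc, comp_ofId]
    apply AlgHom.ext
    intro a
    simp
  rw [h2]
  rfl

/-- translation as an automorphism -/
noncomputable def transEquiv (γ : WithConv (A →ₐ[k] k)) : A ≃ₐ[k] A :=
  AlgEquiv.ofAlgHom (trans γ) (trans γ⁻¹)
    (by rw [trans_comp, mul_inv_cancel, trans_one])
    (by rw [trans_comp, inv_mul_cancel, trans_one])

lemma counit_transEquiv (γ : WithConv (A →ₐ[k] k)) (a : A) :
    Coalgebra.counit (R := k) (transEquiv γ a) = γ.ofConv a := by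
  have h := point_trans (1 : WithConv (A →ₐ[k] k)) γ
  rw [one_mul] at h
  have := congrArg (fun f : A →ₐ[k] k => f a) h
  change Coalgebra.counit (R := k) (trans γ a) = _
  simpa [AlgHom.convOne_def] using this

lemma map_transEquiv_ker (γ : WithConv (A →ₐ[k] k)) :
    Ideal.map (transEquiv γ : A →+* A) (RingHom.ker (γ.ofConv : A →+* k)) =
      RingHom.ker (Bialgebra.counitAlgHom k A : A →+* k) := by
  apply le_antisymm
  · rw [Ideal.map_le_iff_le_comap]
    intro a ha
    change Coalgebra.counit (R := k) (transEquiv γ a) = 0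
    rw [counit_transEquiv]
    exact ha
  · intro y hy
    have h1 : (transEquiv γ).symm y ∈ RingHom.ker (γ.ofConv : A →+* k) := by
      change γ.ofConv ((transEquiv γ).symm y) = 0
      rw [← counit_transEquiv, AlgEquiv.apply_symm_apply]
      exact hy
    have h2 := Ideal.mem_map_of_mem (transEquiv γ : A →+* A) h1
    have h3 : (transEquiv γ : A →+* A) ((transEquiv γ).symm y) = y :=
      AlgEquiv.apply_symm_apply _ y
    rwa [h3] at h2

/-- the quotients by powers of the maximal ideals at all points have the same dimension -/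
lemma finrank_quot_pow_ker (γ : WithConv (A →ₐ[k] k)) (N : ℕ) :
    Module.finrank k (A ⧸ (RingHom.ker (γ.ofConv : A →+* k)) ^ N) =
      Module.finrank k (A ⧸ (RingHom.ker (Bialgebra.counitAlgHom k A : A →+* k)) ^ N) := by
  have h : (RingHom.ker (Bialgebra.counitAlgHom k A : A →+* k)) ^ N =
      Ideal.map (transEquiv γ : A →+* A) ((RingHom.ker (γ.ofConv : A →+* k)) ^ N) := by
    rw [Ideal.map_pow, map_transEquiv_ker]
  exact (Ideal.quotientEquivAlg _ _ (transEquiv γ) h).toLinearEquiv.finrank_eq

end Trans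

end Groth.Agent.Helper7.FGK
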