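import Mathlib
import Groth.Agent.Helper7.FGK7
import Groth.Agent.Helper7.Deligne3

/-!
# A finite group scheme over a field is killed by its order
-/

namespace Groth.Agent.Helper7.FGK

open TensorProduct WithConv

universe u v

section CompHom

variable {k : Type u} [Field k] {A : Type v} [CommRing A] [HopfAlgebra k A]

/-- postcomposition with an algebra map, as a monoid hom of convolution monoids -/
noncomputable def compHom {B B' : Type*} [CommRing B] [Algebra k B] [CommRing B'] [Algebra k B']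
    (h : B →ₐ[k] B') : WithConv (A →ₐ[k] B) →* WithConv (A →ₐ[k] B') where
  toFun f := toConv (h.comp f.ofConv)
  map_one' := by
    apply WithConv.ofConv_injective
    apply AlgHom.ext
    intro a
    simp [AlgHom.convOne_def]
  map_mul' f g := by
    apply WithConv.ofConv_injective
    exact AlgHom.comp_convMul_distrib h f g

end CompHom

section Points

variable {k : Type u} [Field k] [IsAlgClosed k] {A : Type v} [CommRing A] [HopfAlgebra k A]
  [Module.Finite k A]

/-- every maximal ideal is the kernel of a point -/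
lemma exists_point_ker (M : Ideal A) [hM : M.IsMaximal] :
    ∃ γ : A →ₐ[k] k, RingHom.ker (γ : A →+* k) = M := by
  letI := Ideal.Quotient.field M
  haveI : Algebra.IsIntegral k (A ⧸ M) := Algebra.IsIntegral.of_finite k (A ⧸ M)
  have hbij : Function.Bijective (algebraMap k (A ⧸ M)) :=
    IsAlgClosed.algebraMap_bijective_of_isIntegral
  let e : k ≃ₐ[k] (A ⧸ M) := AlgEquiv.ofBijective (Algebra.ofId k (A ⧸ M)) hbij
  refine ⟨(e.symm : (A ⧸ M) →ₐ[k] k).comp (Ideal.Quotient.mkₐ k M), ?_⟩
  ext a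
  rw [RingHom.mem_ker]
  change e.symm (Ideal.Quotient.mk M a) = 0 ↔ _
  rw [map_eq_zero_iff _ e.symm.injective, Ideal.Quotient.eq_zero_iff_mem]

lemma ker_point_isMaximal (γ : A →ₐ[k] k) : (RingHom.ker (γ : A →+* k)).IsMaximal :=
  RingHom.ker_isMaximal_of_surjective (γ : A →+* k) (fun c => ⟨algebraMap k A c, by simp⟩)

/-- points correspond to maximal ideals -/
noncomputable def pointsEquiv : WithConv (A →ₐ[k] k) ≃ MaximalSpectrum A :=
  Equiv.ofBijective
    (fun γ => ⟨RingHom.ker (γ.ofConv : A →+* k), ker_point_isMaximal γ.ofConv⟩)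
    ⟨by
      intro γ γ' h
      have hk : RingHom.ker (γ.ofConv : A →+* k) = RingHom.ker (γ'.ofConv : A →+* k) :=
        congrArg MaximalSpectrum.asIdeal h
      apply WithConv.ofConv_injective
      apply AlgHom.ext
      intro a
      have h1 : a - algebraMap k A (γ.ofConv a) ∈ RingHom.ker (γ.ofConv : A →+* k) := by
        rw [RingHom.mem_ker]
        change γ.ofConv (a - algebraMap k A (γ.ofConv a)) = 0
        rw [map_sub, AlgHom.commutes]
        simp
      rw [hk, RingHom.mem_ker] at h1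
      change γ'.ofConv (a - algebraMap k A (γ.ofConv a)) = 0 at h1
      rw [map_sub, AlgHom.commutes, sub_eq_zero] at h1
      simpa using h1.symm,
    by
      intro M
      haveI := M.isMaximal
      obtain ⟨γ, hγ⟩ := exists_point_ker (k := k) M.asIdeal
      exact ⟨toConv γ, MaximalSpectrum.ext hγ⟩⟩

lemma pointsEquiv_asIdeal (γ : WithConv (A →ₐ[k] k)) :
    (pointsEquiv γ).asIdeal = RingHom.ker (γ.ofConv : A →+* k) := rfl

instance : Finite (WithConv (A →ₐ[k] k)) := by
  haveI : IsArtinianRing A := IsArtinianRing.of_finite k A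
  exact Finite.of_equiv _ (pointsEquiv (k := k) (A := A)).symm

/-- the order is the number of points times the order of the identity component -/
theorem finrank_eq_card_mul (N : ℕ) (hN : nilradical A ^ N = ⊥) :
    Module.finrank k A = Nat.card (WithConv (A →ₐ[k] k)) *
      Module.finrank k (A ⧸ (RingHom.ker (Bialgebra.counitAlgHom k A : A →+* k)) ^ N) := by
  classical
  haveI : IsArtinianRing A := IsArtinianRing.of_finite k A
  haveI : Fintype (MaximalSpectrum A) := Fintype.ofFinite _
  set n₀ := Module.finrank k (A ⧸ (RingHom.ker (Bialgebra.counitAlgHom k A : A →+* k)) ^ N)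
    with hn₀
  have h1 : Module.finrank k (A ⧸ nilradical A ^ N) =
      Module.finrank k (∀ I : MaximalSpectrum A, A ⧸ I.asIdeal ^ N) :=
    ((IsArtinianRing.quotNilradicalPowEquivPi A N).toLinearEquiv.restrictScalars k).finrank_eq
  have h2 : Module.finrank k (A ⧸ nilradical A ^ N) = Module.finrank k A := by
    rw [hN]
    exact (AlgEquiv.quotientBot k A).toLinearEquiv.finrank_eq
  rw [Module.finrank_pi_fintype] at h1
  have h3 : ∀ I : MaximalSpectrum A, Module.finrank k (A ⧸ I.asIdeal ^ N) = n₀ := by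
    intro I
    obtain ⟨γ, rfl⟩ := (pointsEquiv (k := k) (A := A)).surjective I
    rw [pointsEquiv_asIdeal]
    exact finrank_quot_pow_ker γ N
  rw [← h2, h1, Finset.sum_congr rfl (fun I _ => h3 I), Finset.sum_const, Finset.card_univ,
    smul_eq_mul, Nat.card_congr (pointsEquiv (k := k) (A := A)), Nat.card_eq_fintype_card]

end Points

section Main

variable {k : Type u} [Field k] [IsAlgClosed k] {A : Type v} [CommRing A] [HopfAlgebra k A]
  [Module.Finite k A]

theorem pow_finrank_eq_one_algClosed :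
    (toConv (AlgHom.id k A)) ^ (Module.finrank k A) = 1 := by
  classical
  haveI : IsArtinianRing A := IsArtinianRing.of_finite k A
  set ε : A →ₐ[k] k := Bialgebra.counitAlgHom k A with hε
  set 𝔪 : Ideal A := RingHom.ker (ε : A →+* k) with h𝔪
  -- choice of `N`
  obtain ⟨N₀, hN₀⟩ : ∃ n, ∀ j, n ≤ j → 𝔪 ^ n = 𝔪 ^ j := by
    have := IsArtinian.monotone_stabilizes (R := A) (M := A)
      ⟨fun j => OrderDual.toDual (𝔪 ^ j), fun i j hij => Ideal.pow_le_pow_right hij⟩
    obtain ⟨n, hn⟩ := this
    exact ⟨n, fun j hj => congrArg OrderDual.ofDual (hn j hj)⟩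
  obtain ⟨N₂, hN₂⟩ := IsArtinianRing.isNilpotent_nilradical (R := A)
  set N := max (max N₀ N₂) 1 with hNdef
  have hN1 : 1 ≤ N := le_max_right _ _
  have hNN₀ : N₀ ≤ N := (le_max_left _ _).trans (le_max_left _ _)
  have hNN₂ : N₂ ≤ N := (le_max_right _ _).trans (le_max_left _ _)
  have hstab : 𝔪 ^ (N + N) = 𝔪 ^ N := by
    rw [← hN₀ N hNN₀, ← hN₀ (N + N) (by omega)]
  have hnil : nilradical A ^ N = ⊥ := by
    rw [← Nat.sub_add_cancel hNN₂, pow_add, hN₂, Ideal.zero_eq_bot, Ideal.mul_bot]
  haveI : (𝔪 ^ N).IsHopfIdeal k := isHopfIdeal_pow N hN1 hstab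
  -- the identity component
  have hle : 𝔪 ^ N ≤ 𝔪 := Ideal.pow_le_self (by omega)
  haveI : IsLocalRing (A ⧸ 𝔪 ^ N) := by
    refine isLocalRing_of_aug (Bialgebra.counitAlgHom k (A ⧸ 𝔪 ^ N)) ?_
    intro y hy
    obtain ⟨a, rfl⟩ := Ideal.Quotient.mk_surjective y
    have ha : a ∈ 𝔪 := by
      have : Coalgebra.counit (R := k) (Ideal.Quotient.mk (𝔪 ^ N) a) = 0 := hy
      rw [Bialgebra.Quotient.counit_mk] at this
      exact this
    refine ⟨N, ?_⟩
    rw [← map_pow]
    exact Ideal.Quotient.eq_zero_iff_mem.2 (Ideal.pow_mem_pow ha N)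
  obtain ⟨f, hf⟩ := finrank_eq_pow_ringExpChar k (A ⧸ 𝔪 ^ N)
  set n₀ := Module.finrank k (A ⧸ 𝔪 ^ N) with hn₀
  set q := ringExpChar k with hq
  have hcount := finrank_eq_card_mul (k := k) (A := A) N hnil
  set m := Nat.card (WithConv (A →ₐ[k] k)) with hm
  -- `g ↦ g ^ m`
  set φ : A →ₐ[k] A := ((toConv (AlgHom.id k A)) ^ m).ofConv with hφ
  -- points of `φ e`
  have hpt : ∀ (γ : A →ₐ[k] k) (a : A), γ (φ a) = ε a := by
    intro γ a
    have h1 : compHom (A := A) γ ((toConv (AlgHom.id k A)) ^ m) = 1 := by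
      rw [map_pow]
      have : compHom (A := A) γ (toConv (AlgHom.id k A)) = toConv γ := rfl
      rw [this, hm]
      exact pow_card_eq_one'
    have h2 := congrArg (fun g : WithConv (A →ₐ[k] k) => g.ofConv a) h1
    have h2' : γ (((toConv (AlgHom.id k A)) ^ m).ofConv a) = Coalgebra.counit (R := k) a := by
      simpa [compHom, AlgHom.convOne_def] using h2
    exact h2'
  -- Claim D
  have hD : ∀ x ∈ 𝔪 ^ N, φ x = 0 := by
    have hidem : IsIdempotentElem (𝔪 ^ N) := by
      change 𝔪 ^ N * 𝔪 ^ N = 𝔪 ^ N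
      rw [← pow_add, hstab]
    obtain ⟨e, he, heq⟩ := (Ideal.isIdempotentElem_iff_of_fg (𝔪 ^ N)
      (IsNoetherian.noetherian _)).1 hidem
    have heI : e ∈ 𝔪 ^ N := by
      rw [heq]
      exact Ideal.mem_span_singleton_self e
    have hεe : ε e = 0 := hle heI
    have hφe_idem : IsIdempotentElem (φ e) := by
      change φ e * φ e = φ e
      rw [← map_mul, he.eq]
    have hjac : φ e ∈ Ideal.jacobson (⊥ : Ideal A) := by
      rw [Ideal.jacobson, Ideal.mem_sInf]
      rintro M ⟨-, hM⟩
      haveI := hM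
      obtain ⟨γ, hγ⟩ := exists_point_ker (k := k) M
      rw [← hγ, RingHom.mem_ker]
      change γ (φ e) = 0
      rw [hpt, hεe]
    have hφe : φ e = 0 := by
      rw [Ideal.mem_jacobson_bot] at hjac
      have hu := hjac (-1)
      have h0 : φ e * (φ e * (-1) + 1) = 0 := by
        have := hφe_idem.eq
        linear_combination (-1 : A) * this
      exact (hu.mul_left_eq_zero).1 h0
    intro x hx
    rw [heq, Ideal.mem_span_singleton'] at hx
    obtain ⟨c, rfl⟩ := hx
    rw [map_mul, hφe, mul_zero]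
  -- Claim C
  have hC : 𝔪 ^ n₀ ≤ 𝔪 ^ N := by
    set 𝔪₀ : Ideal (A ⧸ 𝔪 ^ N) := Ideal.map (Ideal.Quotient.mk (𝔪 ^ N)) 𝔪 with h𝔪₀
    have hjac : 𝔪₀ ≤ Ideal.jacobson ⊥ := by
      rw [h𝔪₀, Ideal.map_le_iff_le_comap]
      intro a ha
      rw [Ideal.mem_comap, Ideal.mem_jacobson_bot]
      intro z
      have hnilp : IsNilpotent (Ideal.Quotient.mk (𝔪 ^ N) a) := by
        refine ⟨N, ?_⟩
        rw [← map_pow]
        exact Ideal.Quotient.eq_zero_iff_mem.2 (Ideal.pow_mem_pow ha N)
      exact (Commute.isNilpotent_mul_right (Commute.all _ z) hnilp).isUnit_add_one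
    have h1 := pow_finrank_eq_bot (k := k) 𝔪₀ hjac
    rw [h𝔪₀, ← Ideal.map_pow, Ideal.map_eq_bot_iff_le_ker, Ideal.mk_ker] at h1
    exact h1
  -- conclusion
  set 𝔫 : Ideal A := Ideal.map (φ : A →+* A) 𝔪 with h𝔫
  have h𝔫pow : 𝔫 ^ n₀ = ⊥ := by
    rw [h𝔫, ← Ideal.map_pow, Ideal.map_eq_bot_iff_le_ker]
    intro x hx
    rw [RingHom.mem_ker]
    exact hD x (hC hx)
  have h3 := conv_pow_eq_one (k := k) q φ 𝔫
    (fun a ha => Ideal.mem_map_of_mem (φ : A →+* A) (show a ∈ 𝔪 from ha)) n₀ f h𝔫pow hf.le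
  rw [hcount]
  change toConv (AlgHom.id k A) ^ (m * n₀) = 1
  rw [hf, pow_mul]
  exact h3

end Main

section Descent

/-- **A finite group scheme over a field is killed by its order.** -/
theorem pow_finrank_eq_one (k : Type u) [Field k] (A : Type v) [CommRing A] [HopfAlgebra k A]
    [Module.Finite k A] :
    (toConv (AlgHom.id k A)) ^ (Module.finrank k A) = 1 := by
  classical
  set K := AlgebraicClosure k with hK
  set n := Module.finrank k A with hn
  have hfr : Module.finrank K (K ⊗[k] A) = n := Module.finrank_baseChange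
  have h1 : (toConv (AlgHom.id K (K ⊗[k] A))) ^ n = 1 := by
    rw [← hfr]
    exact pow_finrank_eq_one_algClosed (k := K) (A := K ⊗[k] A)
  have h2 : (toConv (LinearMap.id : K ⊗[k] A →ₗ[K] K ⊗[k] A)) ^ n = 1 := by
    have := congrArg (fun g : WithConv (K ⊗[k] A →ₐ[K] K ⊗[k] A) => toConv g.ofConv.toLinearMap) h1
    simpa [AlgHom.toLinearMap_convPow] using this
  have h3 : Deligne.bcHom K ((toConv (LinearMap.id : A →ₗ[k] A)) ^ n) = Deligne.bcHom K 1 := by
    rw [map_pow, map_one, Deligne.bcHom_id]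
    exact h2
  have hinj : Function.Injective (Deligne.bcHom (R := k) (A := A) K) := by
    intro x y hxy
    apply WithConv.ofConv_injective
    have : x.ofConv.baseChange K = y.ofConv.baseChange K := congrArg WithConv.ofConv hxy
    exact LinearMap.baseChangeHom_injective (R := k) (S := K) (M := A) (N := A) this
  have h4 := hinj h3
  apply WithConv.ofConv_injective
  apply AlgHom.toLinearMap_injective
  apply WithConv.toConv_injective
  rw [AlgHom.toLinearMap_convPow, AlgHom.toLinearMap_convOne]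
  exact h4

end Descent

end Groth.Agent.Helper7.FGK
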