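import Mathlib
import Groth.Agent.Helper7.FGK8

/-!
# A finite group scheme of prime order over an algebraically closed field is commutative
-/

namespace Groth.Agent.Helper7.FGK

open TensorProduct WithConv

universe u v

section DualComm

variable {k : Type u} [Field k] {A : Type v} [CommRing A] [Bialgebra k A] [Module.Finite k A]

/-- if the dual algebra is commutative the coalgebra is cocommutative -/
theorem isCocomm_of_dual_comm (h : ∀ f g : WithConv (A →ₗ[k] k), f * g = g * f) :
    Coalgebra.IsCocomm k A := by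
  classical
  constructor
  ext a
  let b := Module.finBasis k A
  let B2 := b.tensorProduct b
  apply B2.repr.injective
  ext ⟨i, j⟩
  have key : ∀ z : A ⊗[k] A, B2.repr z (i, j) =
      LinearMap.mul' k k (TensorProduct.map (b.coord i) (b.coord j) z) := by
    intro z
    induction z using TensorProduct.induction_on with
    | zero => simp
    | tmul x y =>
      rw [Module.Basis.tensorProduct_repr_tmul_apply]
      simp [mul_comm]
    | add x y hx hy =>
      rw [map_add, Finsupp.add_apply, hx, hy, map_add, map_add]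
  have key2 : ∀ (f g : A →ₗ[k] k) (z : A ⊗[k] A),
      LinearMap.mul' k k (TensorProduct.map f g (TensorProduct.comm k A A z)) =
        LinearMap.mul' k k (TensorProduct.map g f z) := by
    intro f g z
    induction z using TensorProduct.induction_on with
    | zero => simp
    | tmul x y => simp [mul_comm]
    | add x y hx hy => simp only [map_add, hx, hy]
  change B2.repr ((TensorProduct.comm k A A) (Coalgebra.comul (R := k) a)) (i, j) =
    B2.repr (Coalgebra.comul (R := k) a) (i, j)
  rw [key, key, key2]
  exact congrArg (fun φ : WithConv (A →ₗ[k] k) => φ a) (h (toConv (b.coord j)) (toConv (b.coord i)))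

omit [Module.Finite k A] in
/-- an algebra spanned by pairwise commuting elements is commutative -/
theorem mul_comm_of_span {C : Type*} [Ring C] [Algebra k C] {ι : Type*} (v : ι → C)
    (hv : ∀ i j, v i * v j = v j * v i) (hspan : Submodule.span k (Set.range v) = ⊤) (f g : C) :
    f * g = g * f := by
  have h1 : ∀ j, ∀ f ∈ Submodule.span k (Set.range v), f * v j = v j * f := by
    intro j f hf
    induction hf using Submodule.span_induction with
    | mem x hx =>
      obtain ⟨i, rfl⟩ := hx
      exact hv i j
    | zero => simp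
    | add x y _ _ hx hy => rw [add_mul, mul_add, hx, hy]
    | smul c x _ hx => rw [smul_mul_assoc, mul_smul_comm, hx]
  have hf : f ∈ Submodule.span k (Set.range v) := by rw [hspan]; trivial
  have hg : g ∈ Submodule.span k (Set.range v) := by rw [hspan]; trivial
  induction hg using Submodule.span_induction with
  | mem x hx =>
    obtain ⟨j, rfl⟩ := hx
    exact h1 j f hf
  | zero => simp
  | add x y _ _ hx hy => rw [mul_add, add_mul, hx, hy]
  | smul c x _ hx => rw [mul_smul_comm, smul_mul_assoc, hx]

instance instFiniteDualConv : Module.Finite k (WithConv (A →ₗ[k] k)) :=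
  Module.Finite.equiv (WithConv.linearEquiv k (A →ₗ[k] k)).symm

lemma finrank_dual_conv : Module.finrank k (WithConv (A →ₗ[k] k)) = Module.finrank k A := by
  rw [(WithConv.linearEquiv k (A →ₗ[k] k)).finrank_eq]
  exact Subspace.dual_finrank_eq

end DualComm

section Etale

variable {k : Type u} [Field k] [IsAlgClosed k] {A : Type v} [CommRing A] [HopfAlgebra k A]
  [Module.Finite k A]

theorem isCocomm_of_card_points_eq
    (hcard : Nat.card (WithConv (A →ₐ[k] k)) = Module.finrank k A)
    (hcomm : ∀ γ δ : WithConv (A →ₐ[k] k), γ * δ = δ * γ) : Coalgebra.IsCocomm k A := by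
  classical
  haveI : Fintype (WithConv (A →ₐ[k] k)) := Fintype.ofFinite _
  apply isCocomm_of_dual_comm
  let v : WithConv (A →ₐ[k] k) → WithConv (A →ₗ[k] k) := fun γ => toConv γ.ofConv.toLinearMap
  have hli : LinearIndependent k v := by
    have h1 := linearIndependent_algHom_toLinearMap k A k
    have h2 : LinearIndependent k
        (fun γ : WithConv (A →ₐ[k] k) => (γ.ofConv.toLinearMap : A →ₗ[k] k)) :=
      h1.comp (fun γ : WithConv (A →ₐ[k] k) => γ.ofConv) WithConv.ofConv_injective
    exact h2.map' (WithConv.linearEquiv k (A →ₗ[k] k)).symm.toLinearMap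
      (LinearEquiv.ker _)
  have hspan : Submodule.span k (Set.range v) = ⊤ := by
    refine hli.span_eq_top_of_card_eq_finrank' ?_
    rw [finrank_dual_conv, ← hcard, Nat.card_eq_fintype_card]
  refine mul_comm_of_span v ?_ hspan
  intro γ δ
  change toConv γ.ofConv.toLinearMap * toConv δ.ofConv.toLinearMap =
    toConv δ.ofConv.toLinearMap * toConv γ.ofConv.toLinearMap
  rw [← AlgHom.toLinearMap_convMul, ← AlgHom.toLinearMap_convMul, hcomm]

end Etale

section Infinitesimal

variable {k : Type u} [Field k] {A : Type v} [CommRing A] [HopfAlgebra k A]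
  [Module.Finite k A] [IsLocalRing A]

lemma apply_Tmap (l g : A →ₗ[k] k) (z : A ⊗[k] A) :
    g (Tmap l z) = LinearMap.mul' k k (TensorProduct.map g l z) := by
  induction z using TensorProduct.induction_on with
  | zero => simp
  | tmul a b => simp [mul_comm]
  | add x y hx hy => simp only [map_add, hx, hy]

theorem isCocomm_of_local_prime (p : ℕ) [hp : Fact p.Prime] [CharP k p]
    (hA : Module.finrank k A = p) : Coalgebra.IsCocomm k A := by
  classical
  set ε : A →ₐ[k] k := Bialgebra.counitAlgHom k A with hε
  set 𝔪 : Ideal A := RingHom.ker (ε : A →+* k) with h𝔪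
  have hp2 : 2 ≤ p := hp.out.two_le
  -- an element of `𝔪 \ 𝔪²`
  have hnot : ¬ 𝔪 ≤ 𝔪 ^ 2 := by
    intro hle
    have := finrank_eq_one_of_ker_le (k := k) (A := A) (𝔪 ^ 2) le_rfl hle
    omega
  obtain ⟨x, hx𝔪, hx2⟩ := SetLike.not_le_iff_exists.1 hnot
  have hxε : ε x = 0 := hx𝔪
  set U : Submodule k A := (𝔪 ^ 2).restrictScalars k ⊔ Submodule.span k {(1 : A)} with hU
  have hxU : x ∉ U := by
    intro hx
    obtain ⟨m2, hm2, w, hw, hmw⟩ := Submodule.mem_sup.1 hx
    obtain ⟨c, rfl⟩ := Submodule.mem_span_singleton.1 hw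
    have hm2' : m2 ∈ 𝔪 ^ 2 := hm2
    have h1 : ε m2 = 0 := Ideal.pow_le_self two_ne_zero hm2'
    have h2 := congrArg ε hmw
    rw [map_add, h1, map_smul, map_one, hxε] at h2
    simp only [smul_eq_mul, mul_one, zero_add] at h2
    rw [h2, zero_smul, add_zero] at hmw
    exact hx2 (hmw ▸ hm2')
  obtain ⟨l₀, hl₀x, hl₀U⟩ := Submodule.exists_le_ker_of_notMem hxU
  set l : A →ₗ[k] k := (l₀ x)⁻¹ • l₀ with hl
  have hlx : l x = 1 := by
    rw [hl, LinearMap.smul_apply, smul_eq_mul, inv_mul_cancel₀ hl₀x]
  have hlU : ∀ u ∈ U, l u = 0 := by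
    intro u hu
    have : l₀ u = 0 := hl₀U hu
    rw [hl, LinearMap.smul_apply, this, smul_zero]
  have hl_one : l 1 = 0 := hlU 1 (Submodule.mem_sup_right (Submodule.subset_span rfl))
  have hl_sq : ∀ a b : A, ε a = 0 → ε b = 0 → l (a * b) = 0 := by
    intro a b ha hb
    refine hlU _ (Submodule.mem_sup_left ?_)
    change a * b ∈ 𝔪 ^ 2
    rw [pow_two]
    exact Ideal.mul_mem_mul ha hb
  have hl_der : ∀ a b : A, l (a * b) =
      Coalgebra.counit (R := k) a * l b + Coalgebra.counit (R := k) b * l a := by
    intro a b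
    have ha : ε (a - algebraMap k A (ε a)) = 0 := by
      rw [map_sub, AlgHom.commutes]; simp
    have hb : ε (b - algebraMap k A (ε b)) = 0 := by
      rw [map_sub, AlgHom.commutes]; simp
    have h1 := hl_sq _ _ ha hb
    have h2 : (a - algebraMap k A (ε a)) * (b - algebraMap k A (ε b)) =
        a * b - ε a • b - ε b • a + (ε a * ε b) • (1 : A) := by
      simp only [Algebra.smul_def, map_mul]
      ring
    rw [h2, map_add, map_sub, map_sub, map_smul, map_smul, map_smul, hl_one] at h1
    simp only [smul_eq_mul, mul_zero, add_zero] at h1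
    change l (a * b) = ε a * l b + ε b * l a
    linear_combination h1
  set D : Derivation k A A := invDer l hl_der with hD
  set DL : Module.End k A := (D : A →ₗ[k] A) with hDL
  have hεD : ∀ a, ε (D a) = l a := fun a => counit_invDer l hl_der a
  -- powers of `l` in the dual algebra
  have hμ : ∀ i : ℕ, (toConv l) ^ i = toConv (ε.toLinearMap ∘ₗ (DL ^ i)) := by
    intro i
    induction i with
    | zero =>
      apply WithConv.ofConv_injective
      ext a
      simp [LinearMap.convOne_def, hε]
    | succ i ih =>
      rw [pow_succ, ih]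
      apply WithConv.ofConv_injective
      ext a
      change LinearMap.mul' k k (TensorProduct.map (ε.toLinearMap ∘ₗ (DL ^ i)) l
        (Coalgebra.comul (R := k) a)) = ε ((DL ^ (i + 1)) a)
      rw [← apply_Tmap, pow_succ]
      rfl
  -- the filtration
  have hDpow : ∀ (i n : ℕ) (a : A), a ∈ 𝔪 ^ (n + i) → (DL ^ i) a ∈ 𝔪 ^ n := by
    intro i
    induction i with
    | zero => intro n a ha; simpa using ha
    | succ i ih =>
      intro n a ha
      rw [pow_succ]
      change (DL ^ i) (D a) ∈ 𝔪 ^ n
      refine ih n (D a) ?_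
      exact derivation_mem_pow 𝔪 D (n + i) a (by rwa [add_assoc])
  have hvanish : ∀ i j : ℕ, i < j → ε ((DL ^ i) (x ^ j)) = 0 := by
    intro i j hij
    have h1 : x ^ j ∈ 𝔪 ^ (1 + i) := by
      refine Ideal.pow_le_pow_right (by omega) (Ideal.pow_mem_pow hx𝔪 j)
    have h2 := hDpow i 1 _ h1
    rw [pow_one] at h2
    exact h2
  have hdiag : ∀ i : ℕ, ε ((DL ^ i) (x ^ i)) = (i.factorial : k) := by
    intro i
    induction i with
    | zero => simp [hε]
    | succ i ih =>
      rw [pow_succ DL]
      change ε ((DL ^ i) (D (x ^ (i + 1)))) = _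
      have hm : ε (D x - 1) = 0 := by rw [map_sub, hεD, hlx, map_one, sub_self]
      have h1 : D (x ^ (i + 1)) = ((i + 1 : ℕ) : k) • (x ^ i + x ^ i * (D x - 1)) := by
        rw [Derivation.leibniz_pow, Nat.add_sub_cancel, smul_eq_mul, ← Nat.cast_smul_eq_nsmul k]
        congr 1
        ring
      rw [h1, map_smul, map_smul, map_add, map_add, ih]
      have h2 : x ^ i * (D x - 1) ∈ 𝔪 ^ (1 + i) := by
        rw [add_comm, pow_succ]
        exact Ideal.mul_mem_mul (Ideal.pow_mem_pow hx𝔪 i) hm
      have h3 := hDpow i 1 _ h2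
      rw [pow_one] at h3
      have h3' : ε ((DL ^ i) (x ^ i * (D x - 1))) = 0 := h3
      rw [h3', add_zero, smul_eq_mul, Nat.factorial_succ]
      push_cast
      ring
  -- the family of powers
  let v : Fin p → WithConv (A →ₗ[k] k) := fun i => (toConv l) ^ (i : ℕ)
  have hli : LinearIndependent k v := by
    rw [Fintype.linearIndependent_iff]
    intro g hg
    let M : Matrix (Fin p) (Fin p) k := fun i j => ε ((DL ^ (i : ℕ)) (x ^ (j : ℕ)))
    have hM : M.BlockTriangular (OrderDual.toDual) := by
      intro i j hij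
      exact hvanish i j (by exact_mod_cast hij)
    have hdet : M.det ≠ 0 := by
      rw [Matrix.det_of_isLowerTriangular M hM, Finset.prod_ne_zero_iff]
      intro i _
      change ε ((DL ^ (i : ℕ)) (x ^ (i : ℕ))) ≠ 0
      rw [hdiag]
      intro h0
      rw [CharP.cast_eq_zero_iff k p, hp.out.dvd_factorial] at h0
      exact absurd i.2 (not_lt.2 h0)
    have hvec : Matrix.vecMul g M = 0 := by
      funext j
      have h1 := congrArg (fun φ : WithConv (A →ₗ[k] k) => φ (x ^ (j : ℕ))) hg
      simp only [v] at h1
      rw [Matrix.vecMul, dotProduct]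
      change (∑ i, g i • (toConv l) ^ (i : ℕ) : WithConv (A →ₗ[k] k)).ofConv (x ^ (j : ℕ)) = 0 at h1
      rw [WithConv.ofConv_sum, LinearMap.sum_apply] at h1
      rw [Pi.zero_apply, ← h1]
      refine Finset.sum_congr rfl fun i _ => ?_
      rw [hμ]
      rfl
    intro i
    exact congrFun (Matrix.eq_zero_of_vecMul_eq_zero hdet hvec) i
  have hspan : Submodule.span k (Set.range v) = ⊤ := by
    refine hli.span_eq_top_of_card_eq_finrank' ?_
    rw [finrank_dual_conv, Fintype.card_fin, hA]
  apply isCocomm_of_dual_comm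
  refine mul_comm_of_span v ?_ hspan
  intro i j
  exact pow_mul_comm (toConv l) _ _

end Infinitesimal

end Groth.Agent.Helper7.FGK
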