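import Mathlib
import Groth.Agent.Helper7.FGK11

namespace Groth.Agent.Helper7.FGK

open TensorProduct WithConv

universe u v

/-- **A finite group scheme of prime order over an algebraically closed field is commutative.** -/
theorem isCocomm_of_finrank_prime (k : Type u) (A : Type v) [Field k] [IsAlgClosed k] [CommRing A]
    [HopfAlgebra k A] [Module.Finite k A] (p : ℕ) (hp : p.Prime) (hA : Module.finrank k A = p) :
    Coalgebra.IsCocomm k A := by
  classical
  haveI : Fact p.Prime := ⟨hp⟩
  haveI : IsArtinianRing A := IsArtinianRing.of_finite k A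
  obtain ⟨N, hN⟩ := IsArtinianRing.isNilpotent_nilradical (R := A)
  have hcount := finrank_eq_card_mul (k := k) (A := A) N (by rw [hN]; rfl)
  set m := Nat.card (WithConv (A →ₐ[k] k)) with hm
  set ε : A →ₐ[k] k := Bialgebra.counitAlgHom k A with hε
  rw [hA] at hcount
  rcases (Nat.Prime.eq_one_or_self_of_dvd hp m ⟨_, hcount⟩) with h1 | hpm
  · -- one point: `A` is local
    have hsub : Subsingleton (WithConv (A →ₐ[k] k)) := (Nat.card_eq_one_iff_unique.1 h1).1
    have hnil : ∀ x : A, ε x = 0 → IsNilpotent x := by
      intro x hx
      have hjac : x ∈ Ideal.jacobson (⊥ : Ideal A) := by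
        rw [Ideal.jacobson, Ideal.mem_sInf]
        rintro M ⟨-, hM⟩
        haveI := hM
        obtain ⟨γ, hγ⟩ := exists_point_ker (k := k) M
        have h2 : toConv γ = (1 : WithConv (A →ₐ[k] k)) := Subsingleton.elim _ _
        rw [← hγ, RingHom.mem_ker]
        have h3 : γ x = (1 : WithConv (A →ₐ[k] k)).ofConv x := by rw [← h2]
        change γ x = 0
        rw [h3]
        change algebraMap k k (ε x) = 0
        rw [hx, map_zero]
      obtain ⟨n, hn⟩ := IsArtinianRing.isNilpotent_jacobson_bot (R := A)
      refine ⟨n, ?_⟩
      have := Ideal.pow_mem_pow hjac n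
      rw [hn] at this
      exact this
    haveI : IsLocalRing A := isLocalRing_of_aug ε hnil
    obtain ⟨c, hc⟩ := CharP.exists k
    obtain ⟨f, hf⟩ := finrank_eq_pow_ringExpChar k A
    rcases CharP.char_is_prime_or_zero k c with hprime | hzero
    · haveI : Fact c.Prime := ⟨hprime⟩
      haveI : ExpChar k c := ExpChar.prime hprime
      rw [ringExpChar.eq k c, hA] at hf
      have hcp : c = p := by
        rcases Nat.eq_zero_or_pos f with h0 | hpos
        · rw [h0, pow_zero] at hf
          exact absurd hf hp.ne_one
        · have hdvd : c ∣ p := hf ▸ dvd_pow_self c hpos.ne'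
          rcases (Nat.Prime.eq_one_or_self_of_dvd hp c hdvd) with h | h
          · exact absurd h hprime.ne_one
          · exact h
      subst hcp
      exact isCocomm_of_local_prime c hA
    · subst hzero
      haveI : CharZero k := CharP.charP_to_charZero k
      rw [ringExpChar.eq_one k, one_pow, hA] at hf
      exact absurd hf hp.ne_one
  · -- `p` points: étale
    have hcard : Nat.card (WithConv (A →ₐ[k] k)) = Module.finrank k A := by
      rw [hA]; exact hpm
    refine isCocomm_of_card_points_eq hcard ?_
    haveI : IsCyclic (WithConv (A →ₐ[k] k)) := isCyclic_of_prime_card hpm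
    letI := IsCyclic.commGroup (α := WithConv (A →ₐ[k] k))
    intro γ δ
    exact mul_comm γ δ

end Groth.Agent.Helper7.FGK
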