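import Mathlib
import Groth.Agent.Helper7.FGK12

/-!
# Dual convolution algebras with values in an algebra: base change and postcomposition
-/

namespace Groth.Agent.Helper7.FGK

open TensorProduct WithConv

universe u v w w'

section Rho

variable {R : Type u} [CommRing R] {A : Type v} [CommRing A] [Bialgebra R A]
variable (S : Type w) [CommRing S] [Algebra R S] (T : Type w') [CommRing T] [Algebra R T]
  [Algebra S T] [IsScalarTower R S T]

lemma rho_aux (φ ψ : S ⊗[R] A →ₗ[S] T) (t : A ⊗[R] A) :
    LinearMap.mul' S T (map φ ψ
      (AlgebraTensorModule.tensorTensorTensorComm R S R S S S A A ((1 ⊗ₜ[S] 1) ⊗ₜ[R] t))) =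
    LinearMap.mul' R T (map ((LinearMap.liftBaseChangeEquiv S).symm φ)
      ((LinearMap.liftBaseChangeEquiv S).symm ψ) t) := by
  induction t with
  | zero => simp
  | add x y hx hy => simp only [map_add, tmul_add, hx, hy]
  | tmul x y => simp

/-- restriction along `A → S ⊗ A`, as a ring isomorphism of dual convolution algebras -/
noncomputable def rho : WithConv (S ⊗[R] A →ₗ[S] T) ≃+* WithConv (A →ₗ[R] T) where
  toFun φ := toConv ((LinearMap.liftBaseChangeEquiv S).symm φ.ofConv)
  invFun φ := toConv (LinearMap.liftBaseChangeEquiv S φ.ofConv)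
  left_inv φ := by simp
  right_inv φ := by simp
  map_add' φ ψ := by
    apply WithConv.ofConv_injective
    simp
  map_mul' φ ψ := by
    apply WithConv.ofConv_injective
    ext a
    simp only [LinearMap.convMul_def, ofConv_toConv, LinearMap.liftBaseChangeEquiv_symm_apply,
      LinearMap.comp_apply, TensorProduct.comul_tmul, CommSemiring.comul_apply]
    exact rho_aux S T _ _ _

lemma rho_apply (φ : WithConv (S ⊗[R] A →ₗ[S] T)) (a : A) :
    (rho S T φ).ofConv a = φ.ofConv (1 ⊗ₜ a) := rfl

lemma rho_smul (t : T) (φ : WithConv (S ⊗[R] A →ₗ[S] T)) :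
    rho S T (t • φ) = t • rho S T φ := by
  apply WithConv.ofConv_injective
  ext a
  rfl

end Rho

section CompLin

variable {R : Type u} [CommRing R] {A : Type v} [CommRing A] [Bialgebra R A]
variable {S : Type w} [CommRing S] [Algebra R S] {T : Type w'} [CommRing T] [Algebra R T]

/-- postcomposition with an algebra map, as a ring hom of dual convolution algebras -/
noncomputable def compLin (h : S →ₐ[R] T) : WithConv (A →ₗ[R] S) →+* WithConv (A →ₗ[R] T) where
  toFun φ := toConv (h.toLinearMap ∘ₗ φ.ofConv)
  map_one' := by
    apply WithConv.ofConv_injective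
    ext a
    simp [LinearMap.convOne_def]
  map_mul' φ ψ := by
    apply WithConv.ofConv_injective
    exact LinearMap.algHom_comp_convMul_distrib h φ ψ
  map_zero' := by
    apply WithConv.ofConv_injective
    simp
  map_add' φ ψ := by
    apply WithConv.ofConv_injective
    simp [LinearMap.comp_add]

lemma compLin_apply (h : S →ₐ[R] T) (φ : WithConv (A →ₗ[R] S)) (a : A) :
    (compLin h φ).ofConv a = h (φ.ofConv a) := rfl

lemma compLin_injective (h : S →ₐ[R] T) (hh : Function.Injective h) :
    Function.Injective (compLin (A := A) h) := by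
  intro φ ψ hφψ
  apply WithConv.ofConv_injective
  ext a
  apply hh
  have := congrArg (fun f => f.ofConv a) hφψ
  exact this

end CompLin

end Groth.Agent.Helper7.FGK
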