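import Mathlib
import Groth.Agent.Helper7.FGK13

/-!
# Spanning the dual convolution algebra: Nakayama, Dedekind, and cocommutativity
-/

namespace Groth.Agent.Helper7.FGK

open TensorProduct WithConv

universe u v w w'

section MulComm

/-- an algebra over a commutative ring spanned by pairwise commuting elements is commutative -/
theorem mul_comm_of_span' {k : Type*} [CommRing k] {C : Type*} [Ring C] [Algebra k C] {ι : Type*}
    (v : ι → C) (hv : ∀ i j, v i * v j = v j * v i)
    (hspan : Submodule.span k (Set.range v) = ⊤) (f g : C) :
    f * g = g * f := by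
  have h1 : ∀ j, ∀ f ∈ Submodule.span k (Set.range v), f * v j = v j * f := by
    intro j f hf
    induction hf using Submodule.span_induction with
    | mem x hx =>
      obtain ⟨i, rfl⟩ := hx
      exact hv i j
    | zero => simp
    | add x y _ _ hx hy => rw [add_mul, mul_add, hx, hy]
    | smul c x _ hx => rw [smul_mul_assoc, mul_smul_comm, hx]
  have hf : f ∈ Submodule.span k (Set.range v) := by rw [hspan]; trivial
  have hg : g ∈ Submodule.span k (Set.range v) := by rw [hspan]; trivial
  induction hg using Submodule.span_induction with
  | mem x hx =>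
    obtain ⟨j, rfl⟩ := hx
    exact h1 j f hf
  | zero => simp
  | add x y _ _ hx hy => rw [mul_add, add_mul, hx, hy]
  | smul c x _ hx => rw [mul_smul_comm, smul_mul_assoc, hx]

end MulComm

section Span

variable {R : Type u} [CommRing R] {A : Type v} [CommRing A] [Bialgebra R A]
variable {S : Type w} [CommRing S] [Algebra R S] [IsLocalRing S]

/-- **Nakayama**: a family of `n = rank A` elements of `Hom_R(A, S)` (`S` local) whose reductions
to the residue field are linearly independent spans `Hom_R(A, S)` over `S`. -/
theorem span_eq_top_of_residue_linearIndependent {n : ℕ} (b : Module.Basis (Fin n) R A)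
    (v : Fin n → WithConv (A →ₗ[R] S))
    (hli : LinearIndependent (IsLocalRing.ResidueField S)
      (fun i => compLin (A := A) (IsScalarTower.toAlgHom R S (IsLocalRing.ResidueField S)) (v i))) :
    Submodule.span S (Set.range v) = ⊤ := by
  classical
  set κ := IsLocalRing.ResidueField S with hκ
  let M : Matrix (Fin n) (Fin n) S := fun i j => (v i).ofConv (b j)
  have hdet : IsUnit M.det := by
    rw [← IsLocalRing.residue_ne_zero_iff_isUnit]
    intro h0
    rw [RingHom.map_det] at h0
    obtain ⟨c, hc0, hc⟩ := Matrix.exists_vecMul_eq_zero_iff.2 h0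
    apply hc0
    rw [Fintype.linearIndependent_iff] at hli
    funext i
    refine hli c ?_ i
    apply WithConv.ofConv_injective
    apply b.ext
    intro j
    have h1 := congrFun hc j
    rw [Matrix.vecMul, dotProduct] at h1
    rw [WithConv.ofConv_sum, LinearMap.sum_apply]
    simp only [Pi.zero_apply] at h1
    rw [WithConv.ofConv_zero, LinearMap.zero_apply, ← h1]
    refine Finset.sum_congr rfl fun i _ => ?_
    rfl
  rw [eq_top_iff]
  intro φ _
  let wv : Fin n → S := fun j => φ.ofConv (b j)
  let c : Fin n → S := Matrix.vecMul wv M⁻¹
  have hc : Matrix.vecMul c M = wv := by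
    change Matrix.vecMul (Matrix.vecMul wv M⁻¹) M = wv
    rw [Matrix.vecMul_vecMul, Matrix.nonsing_inv_mul _ hdet, Matrix.vecMul_one]
  have hφ : φ = ∑ i, c i • v i := by
    apply WithConv.ofConv_injective
    apply b.ext
    intro j
    have h1 := congrFun hc j
    rw [Matrix.vecMul, dotProduct] at h1
    rw [WithConv.ofConv_sum, LinearMap.sum_apply]
    change _ = φ.ofConv (b j) at h1
    rw [← h1]
    refine Finset.sum_congr rfl fun i _ => ?_
    rfl
  rw [hφ]
  exact Submodule.sum_mem _ fun i _ => Submodule.smul_mem _ _ (Submodule.subset_span ⟨i, rfl⟩)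

end Span

section Dedekind

variable {R : Type u} [CommRing R] {A : Type v} [CommRing A] [Bialgebra R A]
variable {K : Type w} [Field K] [Algebra R K]

/-- **Dedekind**: distinct points with values in a field are linearly independent in the dual. -/
theorem linearIndependent_points {ι : Type*} (g : ι → (A →ₐ[R] K)) (hg : Function.Injective g) :
    LinearIndependent K (fun i => (toConv (g i).toLinearMap : WithConv (A →ₗ[R] K))) := by
  let F : WithConv (A →ₗ[R] K) →ₗ[K] (A → K) :=
    { toFun := fun φ => ⇑φ.ofConv
      map_add' := fun _ _ => rfl
      map_smul' := fun _ _ => rfl }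
  apply LinearIndependent.of_comp F
  have h1 := linearIndependent_monoidHom A K
  have h2 : Function.Injective (fun i => ((g i : A →+* K) : A →* K)) := by
    intro i j hij
    apply hg
    apply AlgHom.ext
    intro a
    exact DFunLike.congr_fun hij a
  exact h1.comp _ h2

end Dedekind

end Groth.Agent.Helper7.FGK
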