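import Mathlib
import Groth.Agent.Helper7.FGK8

/-!
# Finite locally free group schemes over a reduced base are killed by their order
-/

namespace Groth.Agent.Helper7.FGK

open TensorProduct WithConv

universe u v w

section Residue

variable {R₀ : Type u} [CommRing R₀] [IsReduced R₀] {M : Type v} [AddCommGroup M] [Module R₀ M]
  [Module.Projective R₀ M]

/-- over a reduced ring an element of a projective module vanishing in all residue fibres is zero -/
theorem eq_zero_of_forall_residue (x : M)
    (h : ∀ p : PrimeSpectrum R₀, (1 : p.asIdeal.ResidueField) ⊗ₜ[R₀] x = 0) : x = 0 := by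
  obtain ⟨s, hs⟩ := (Module.projective_def'.1 (inferInstance : Module.Projective R₀ M))
  have h0 : s x = 0 := by
    ext m
    rw [Finsupp.zero_apply]
    apply IsNilpotent.eq_zero
    rw [nilpotent_iff_mem_prime]
    intro J hJ
    let p : PrimeSpectrum R₀ := ⟨J, hJ⟩
    set κ := p.asIdeal.ResidueField with hκ
    let φ : M →ₗ[R₀] R₀ := Finsupp.lapply m ∘ₗ s
    let ψ : κ ⊗[R₀] M →ₗ[κ] κ := LinearMap.liftBaseChange κ ((Algebra.linearMap R₀ κ) ∘ₗ φ)
    have h1 : ψ ((1 : κ) ⊗ₜ[R₀] x) = algebraMap R₀ κ (s x m) := by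
      simp [ψ, φ]
    rw [h p, map_zero] at h1
    exact (Ideal.algebraMap_residueField_eq_zero).1 h1.symm
  have h1 := LinearMap.congr_fun hs x
  rw [LinearMap.comp_apply, h0, map_zero] at h1
  exact h1.symm

end Residue

section CompHomR

variable {R₀ : Type u} [CommRing R₀] {A : Type v} [CommRing A] [Bialgebra R₀ A]

/-- postcomposition with an algebra map, as a monoid hom of convolution monoids -/
noncomputable def compHomR {B B' : Type*} [CommRing B] [Algebra R₀ B] [CommRing B'] [Algebra R₀ B']
    (h : B →ₐ[R₀] B') : WithConv (A →ₐ[R₀] B) →* WithConv (A →ₐ[R₀] B') where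
  toFun f := toConv (h.comp f.ofConv)
  map_one' := by
    apply WithConv.ofConv_injective
    apply AlgHom.ext
    intro a
    simp [AlgHom.convOne_def]
  map_mul' f g := by
    apply WithConv.ofConv_injective
    exact AlgHom.comp_convMul_distrib h f g

end CompHomR

section Main

variable {R₀ : Type u} [CommRing R₀] [IsReduced R₀] {A : Type v} [CommRing A] [HopfAlgebra R₀ A]
  [Module.Finite R₀ A] [Module.Projective R₀ A]

theorem pow_rank_eq_one_lin_of_isReduced (n : ℕ)
    (hn : ∀ p : PrimeSpectrum R₀, Module.rankAtStalk (R := R₀) A p = n) :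
    (toConv (LinearMap.id : A →ₗ[R₀] A)) ^ n = 1 := by
  classical
  apply WithConv.ofConv_injective
  ext a
  refine sub_eq_zero.1 (eq_zero_of_forall_residue (R₀ := R₀) _ fun p => ?_)
  set κ := p.asIdeal.ResidueField with hκ
  have h1 : Deligne.bcHom κ ((toConv (LinearMap.id : A →ₗ[R₀] A)) ^ n) = Deligne.bcHom κ 1 := by
    rw [map_pow, map_one, Deligne.bcHom_id]
    have hfr : Module.finrank κ (κ ⊗[R₀] A) = n := by
      rw [← hn p, Module.rankAtStalk_eq]
    have h2 := pow_finrank_eq_one κ (κ ⊗[R₀] A)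
    rw [hfr] at h2
    have := congrArg
      (fun g : WithConv (κ ⊗[R₀] A →ₐ[κ] κ ⊗[R₀] A) => toConv g.ofConv.toLinearMap) h2
    simpa [AlgHom.toLinearMap_convPow] using this
  have h3 := congrArg (fun f => f.ofConv ((1 : κ) ⊗ₜ[R₀] a)) h1
  simp only [Deligne.bcHom, MonoidHom.coe_mk, OneHom.coe_mk, ofConv_toConv,
    LinearMap.baseChange_tmul] at h3
  rw [tmul_sub, h3, sub_self]

theorem pow_rank_eq_one_of_isReduced (n : ℕ)
    (hn : ∀ p : PrimeSpectrum R₀, Module.rankAtStalk (R := R₀) A p = n) :
    (toConv (AlgHom.id R₀ A)) ^ n = 1 := by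
  apply WithConv.ofConv_injective
  apply AlgHom.toLinearMap_injective
  apply WithConv.toConv_injective
  rw [AlgHom.toLinearMap_convPow, AlgHom.toLinearMap_convOne]
  exact pow_rank_eq_one_lin_of_isReduced n hn

theorem point_pow_rank_eq_one_of_isReduced (n : ℕ)
    (hn : ∀ p : PrimeSpectrum R₀, Module.rankAtStalk (R := R₀) A p = n)
    {R : Type w} [CommRing R] [Algebra R₀ R] (g : A →ₐ[R₀] R) :
    toConv g ^ n = 1 := by
  have h1 : toConv g = compHomR (A := A) g (toConv (AlgHom.id R₀ A)) := rfl
  rw [h1, ← map_pow, pow_rank_eq_one_of_isReduced n hn, map_one]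

end Main

end Groth.Agent.Helper7.FGK
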