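import Mathlib
import Groth.Agent.Helper7.FGK14
import Groth.Agent.Helper7.FGK9

/-!
# Monogenic duals: the infinitesimal case and points of finite order
-/

namespace Groth.Agent.Helper7.FGK

open TensorProduct WithConv

universe u v w w'

section Infinitesimal

variable {k : Type u} [Field k] {A : Type v} [CommRing A] [HopfAlgebra k A]
  [Module.Finite k A] [IsLocalRing A]

/-- for a local Hopf algebra of prime dimension `p` in characteristic `p` the dual is monogenic -/
theorem exists_pow_linearIndependent (p : ℕ) [hp : Fact p.Prime] [CharP k p]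
    (hA : Module.finrank k A = p) :
    ∃ l : WithConv (A →ₗ[k] k), LinearIndependent k (fun i : Fin p => l ^ (i : ℕ)) := by
  classical
  set ε : A →ₐ[k] k := Bialgebra.counitAlgHom k A with hε
  set 𝔪 : Ideal A := RingHom.ker (ε : A →+* k) with h𝔪
  have hp2 : 2 ≤ p := hp.out.two_le
  have hnot : ¬ 𝔪 ≤ 𝔪 ^ 2 := by
    intro hle
    have := finrank_eq_one_of_ker_le (k := k) (A := A) (𝔪 ^ 2) le_rfl hle
    omega
  obtain ⟨x, hx𝔪, hx2⟩ := SetLike.not_le_iff_exists.1 hnot
  have hxε : ε x = 0 := hx𝔪
  set U : Submodule k A := (𝔪 ^ 2).restrictScalars k ⊔ Submodule.span k {(1 : A)} with hU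
  have hxU : x ∉ U := by
    intro hx
    obtain ⟨m2, hm2, w, hw, hmw⟩ := Submodule.mem_sup.1 hx
    obtain ⟨c, rfl⟩ := Submodule.mem_span_singleton.1 hw
    have hm2' : m2 ∈ 𝔪 ^ 2 := hm2
    have h1 : ε m2 = 0 := Ideal.pow_le_self two_ne_zero hm2'
    have h2 := congrArg ε hmw
    rw [map_add, h1, map_smul, map_one, hxε] at h2
    simp only [smul_eq_mul, mul_one, zero_add] at h2
    rw [h2, zero_smul, add_zero] at hmw
    exact hx2 (hmw ▸ hm2')
  obtain ⟨l₀, hl₀x, hl₀U⟩ := Submodule.exists_le_ker_of_notMem hxU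
  set l : A →ₗ[k] k := (l₀ x)⁻¹ • l₀ with hl
  have hlx : l x = 1 := by
    rw [hl, LinearMap.smul_apply, smul_eq_mul, inv_mul_cancel₀ hl₀x]
  have hlU : ∀ u ∈ U, l u = 0 := by
    intro u hu
    have : l₀ u = 0 := hl₀U hu
    rw [hl, LinearMap.smul_apply, this, smul_zero]
  have hl_one : l 1 = 0 := hlU 1 (Submodule.mem_sup_right (Submodule.subset_span rfl))
  have hl_sq : ∀ a b : A, ε a = 0 → ε b = 0 → l (a * b) = 0 := by
    intro a b ha hb
    refine hlU _ (Submodule.mem_sup_left ?_)
    change a * b ∈ 𝔪 ^ 2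
    rw [pow_two]
    exact Ideal.mul_mem_mul ha hb
  have hl_der : ∀ a b : A, l (a * b) =
      Coalgebra.counit (R := k) a * l b + Coalgebra.counit (R := k) b * l a := by
    intro a b
    have ha : ε (a - algebraMap k A (ε a)) = 0 := by
      rw [map_sub, AlgHom.commutes]; simp
    have hb : ε (b - algebraMap k A (ε b)) = 0 := by
      rw [map_sub, AlgHom.commutes]; simp
    have h1 := hl_sq _ _ ha hb
    have h2 : (a - algebraMap k A (ε a)) * (b - algebraMap k A (ε b)) =
        a * b - ε a • b - ε b • a + (ε a * ε b) • (1 : A) := by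
      simp only [Algebra.smul_def, map_mul]
      ring
    rw [h2, map_add, map_sub, map_sub, map_smul, map_smul, map_smul, hl_one] at h1
    simp only [smul_eq_mul, mul_zero, add_zero] at h1
    change l (a * b) = ε a * l b + ε b * l a
    linear_combination h1
  set D : Derivation k A A := invDer l hl_der with hD
  set DL : Module.End k A := (D : A →ₗ[k] A) with hDL
  have hεD : ∀ a, ε (D a) = l a := fun a => counit_invDer l hl_der a
  have hμ : ∀ i : ℕ, (toConv l) ^ i = toConv (ε.toLinearMap ∘ₗ (DL ^ i)) := by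
    intro i
    induction i with
    | zero =>
      apply WithConv.ofConv_injective
      ext a
      simp [LinearMap.convOne_def, hε]
    | succ i ih =>
      rw [pow_succ, ih]
      apply WithConv.ofConv_injective
      ext a
      change LinearMap.mul' k k (TensorProduct.map (ε.toLinearMap ∘ₗ (DL ^ i)) l
        (Coalgebra.comul (R := k) a)) = ε ((DL ^ (i + 1)) a)
      rw [← apply_Tmap, pow_succ]
      rfl
  have hDpow : ∀ (i n : ℕ) (a : A), a ∈ 𝔪 ^ (n + i) → (DL ^ i) a ∈ 𝔪 ^ n := by
    intro i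
    induction i with
    | zero => intro n a ha; simpa using ha
    | succ i ih =>
      intro n a ha
      rw [pow_succ]
      change (DL ^ i) (D a) ∈ 𝔪 ^ n
      refine ih n (D a) ?_
      exact derivation_mem_pow 𝔪 D (n + i) a (by rwa [add_assoc])
  have hvanish : ∀ i j : ℕ, i < j → ε ((DL ^ i) (x ^ j)) = 0 := by
    intro i j hij
    have h1 : x ^ j ∈ 𝔪 ^ (1 + i) := by
      refine Ideal.pow_le_pow_right (by omega) (Ideal.pow_mem_pow hx𝔪 j)
    have h2 := hDpow i 1 _ h1
    rw [pow_one] at h2
    exact h2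
  have hdiag : ∀ i : ℕ, ε ((DL ^ i) (x ^ i)) = (i.factorial : k) := by
    intro i
    induction i with
    | zero => simp [hε]
    | succ i ih =>
      rw [pow_succ DL]
      change ε ((DL ^ i) (D (x ^ (i + 1)))) = _
      have hm : ε (D x - 1) = 0 := by rw [map_sub, hεD, hlx, map_one, sub_self]
      have h1 : D (x ^ (i + 1)) = ((i + 1 : ℕ) : k) • (x ^ i + x ^ i * (D x - 1)) := by
        rw [Derivation.leibniz_pow, Nat.add_sub_cancel, smul_eq_mul, ← Nat.cast_smul_eq_nsmul k]
        congr 1
        ring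
      rw [h1, map_smul, map_smul, map_add, map_add, ih]
      have h2 : x ^ i * (D x - 1) ∈ 𝔪 ^ (1 + i) := by
        rw [add_comm, pow_succ]
        exact Ideal.mul_mem_mul (Ideal.pow_mem_pow hx𝔪 i) hm
      have h3 := hDpow i 1 _ h2
      rw [pow_one] at h3
      have h3' : ε ((DL ^ i) (x ^ i * (D x - 1))) = 0 := h3
      rw [h3', add_zero, smul_eq_mul, Nat.factorial_succ]
      push_cast
      ring
  refine ⟨toConv l, ?_⟩
  rw [Fintype.linearIndependent_iff]
  intro g hg
  let M : Matrix (Fin p) (Fin p) k := fun i j => ε ((DL ^ (i : ℕ)) (x ^ (j : ℕ)))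
  have hM : M.BlockTriangular (OrderDual.toDual) := by
    intro i j hij
    exact hvanish i j (by exact_mod_cast hij)
  have hdet : M.det ≠ 0 := by
    rw [Matrix.det_of_isLowerTriangular M hM, Finset.prod_ne_zero_iff]
    intro i _
    change ε ((DL ^ (i : ℕ)) (x ^ (i : ℕ))) ≠ 0
    rw [hdiag]
    intro h0
    rw [CharP.cast_eq_zero_iff k p, hp.out.dvd_factorial] at h0
    exact absurd i.2 (not_lt.2 h0)
  have hvec : Matrix.vecMul g M = 0 := by
    funext j
    have h1 := congrArg (fun φ : WithConv (A →ₗ[k] k) => φ (x ^ (j : ℕ))) hg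
    rw [Matrix.vecMul, dotProduct]
    change (∑ i, g i • (toConv l) ^ (i : ℕ) : WithConv (A →ₗ[k] k)).ofConv (x ^ (j : ℕ)) = 0 at h1
    rw [WithConv.ofConv_sum, LinearMap.sum_apply] at h1
    rw [Pi.zero_apply, ← h1]
    refine Finset.sum_congr rfl fun i _ => ?_
    rw [hμ]
    rfl
  intro i
  exact congrFun (Matrix.eq_zero_of_vecMul_eq_zero hdet hvec) i

end Infinitesimal

section Points

variable {R : Type u} [CommRing R] {A : Type v} [CommRing A] [HopfAlgebra R A]
  [Module.Finite R A]
variable {K : Type w} [Field K] [Algebra R K]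

/-- points with values in a field are killed by the order of the fibre -/
theorem point_pow_eq_one (n : ℕ) (hn : Module.finrank K (K ⊗[R] A) = n) (g : A →ₐ[R] K) :
    toConv g ^ n = 1 := by
  let gt : K ⊗[R] A →ₐ[K] K :=
    Algebra.TensorProduct.lift (AlgHom.id K K) g (fun _ _ => Commute.all _ _)
  have h1 : toConv gt ^ n = 1 := by
    have h2 : toConv gt = compHomR (A := K ⊗[R] A) gt (toConv (AlgHom.id K (K ⊗[R] A))) := rfl
    rw [h2, ← map_pow, ← hn, pow_finrank_eq_one K (K ⊗[R] A), map_one]
  have h3 : (toConv gt.toLinearMap : WithConv (K ⊗[R] A →ₗ[K] K)) ^ n = 1 := by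
    have := congrArg (fun f : WithConv (K ⊗[R] A →ₐ[K] K) => toConv f.ofConv.toLinearMap) h1
    simpa [AlgHom.toLinearMap_convPow] using this
  have h4 : rho K K (toConv gt.toLinearMap) = (toConv g.toLinearMap : WithConv (A →ₗ[R] K)) := by
    apply WithConv.ofConv_injective
    ext a
    rw [rho_apply]
    simp [gt]
  have h5 : (toConv g.toLinearMap : WithConv (A →ₗ[R] K)) ^ n = 1 := by
    rw [← h4, ← map_pow, h3, map_one]
  apply WithConv.ofConv_injective
  apply AlgHom.toLinearMap_injective
  apply WithConv.toConv_injective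
  rw [AlgHom.toLinearMap_convPow, AlgHom.toLinearMap_convOne]
  exact h5

end Points

end Groth.Agent.Helper7.FGK
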