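import Mathlib
import Groth.Agent.Helper7.FGK15

/-!
# Finite free Hopf algebras of prime rank over a local ring have commutative dual
-/

namespace Groth.Agent.Helper7.FGK

open TensorProduct WithConv

universe u v w w'

variable {R : Type u} [CommRing R] [IsLocalRing R] {A : Type v} [CommRing A] [HopfAlgebra R A]

section Case2

/-- Case of a non-identity closed point: base change to the localisation of `A` at that point,
where the tautological point generates the dual. -/
theorem dual_comm_of_maximal {p : ℕ} [hp : Fact p.Prime] (b : Module.Basis (Fin p) R A)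
    (𝔫 : Ideal A) [h𝔫 : 𝔫.IsMaximal]
    (hε : ¬ RingHom.ker (Bialgebra.counitAlgHom R A : A →+* R) ≤ 𝔫) :
    ∀ f g : WithConv (A →ₗ[R] R), f * g = g * f := by
  classical
  haveI : Module.Finite R A := Module.Finite.of_basis b
  let g : A →ₐ[R] Localization.AtPrime 𝔫 := IsScalarTower.toAlgHom R A (Localization.AtPrime 𝔫)
  let res : Localization.AtPrime 𝔫 →ₐ[R] IsLocalRing.ResidueField (Localization.AtPrime 𝔫) :=
    IsScalarTower.toAlgHom R (Localization.AtPrime 𝔫) _
  let gb : A →ₐ[R] IsLocalRing.ResidueField (Localization.AtPrime 𝔫) := res.comp g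
  have hgb1 : toConv gb ≠ 1 := by
    intro h
    obtain ⟨a, haε, ha𝔫⟩ := SetLike.not_le_iff_exists.1 hε
    have h1 : gb a = 0 := by
      have := congrArg (fun f : WithConv (A →ₐ[R] _) => f.ofConv a) h
      simp only [ofConv_toConv] at this
      rw [this]
      change algebraMap R _ (Coalgebra.counit (R := R) a) = 0
      have h0 : Coalgebra.counit (R := R) a = 0 := haε
      rw [h0, map_zero]
    have h2 : algebraMap A (Localization.AtPrime 𝔫) a ∈
        IsLocalRing.maximalIdeal (Localization.AtPrime 𝔫) := by
      rw [← Ideal.Quotient.eq_zero_iff_mem]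
      exact h1
    exact ha𝔫 ((IsLocalization.AtPrime.to_map_mem_maximal_iff (Localization.AtPrime 𝔫) 𝔫 a).1 h2)
  have hfr : Module.finrank (IsLocalRing.ResidueField (Localization.AtPrime 𝔫))
      (IsLocalRing.ResidueField (Localization.AtPrime 𝔫) ⊗[R] A) = p := by
    rw [Module.finrank_eq_card_basis (b.baseChange _), Fintype.card_fin]
  have hgbp : toConv gb ^ p = 1 := point_pow_eq_one p hfr gb
  have hord : orderOf (toConv gb) = p := orderOf_eq_prime hgbp hgb1
  have hinj : Function.Injective (fun i : Fin p => ((toConv gb) ^ (i : ℕ)).ofConv) := by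
    intro i j hij
    have h1 : (toConv gb) ^ (i : ℕ) = (toConv gb) ^ (j : ℕ) := WithConv.ofConv_injective hij
    have := pow_injOn_Iio_orderOf (x := toConv gb) (by rw [hord]; exact i.2)
      (by rw [hord]; exact j.2) h1
    exact Fin.ext this
  have hli := linearIndependent_points (R := R) (A := A) _ hinj
  let x : WithConv (A →ₗ[R] Localization.AtPrime 𝔫) := toConv g.toLinearMap
  let v : Fin p → WithConv (A →ₗ[R] Localization.AtPrime 𝔫) := fun i => x ^ (i : ℕ)
  have hv : ∀ i, compLin res (v i) = toConv ((toConv gb) ^ (i : ℕ)).ofConv.toLinearMap := by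
    intro i
    change compLin res (x ^ (i : ℕ)) = _
    rw [map_pow, AlgHom.toLinearMap_convPow]
    rfl
  have hspan : Submodule.span (Localization.AtPrime 𝔫) (Set.range v) = ⊤ := by
    refine span_eq_top_of_residue_linearIndependent b v ?_
    have h3 : (fun i => compLin (A := A) (IsScalarTower.toAlgHom R (Localization.AtPrime 𝔫)
        (IsLocalRing.ResidueField (Localization.AtPrime 𝔫))) (v i)) =
        fun i : Fin p => toConv ((toConv gb) ^ (i : ℕ)).ofConv.toLinearMap := by
      funext i
      exact hv i
    rw [h3]
    exact hli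
  have hcommS : ∀ f g : WithConv (A →ₗ[R] Localization.AtPrime 𝔫), f * g = g * f :=
    mul_comm_of_span' (k := Localization.AtPrime 𝔫) v (fun i j => pow_mul_comm x _ _) hspan
  -- injectivity of `R → A_𝔫`
  have hcomap : 𝔫.comap (algebraMap R A) = IsLocalRing.maximalIdeal R := by
    haveI : Algebra.IsIntegral R A := Algebra.IsIntegral.of_finite R A
    haveI := Ideal.isMaximal_comap_of_isIntegral_of_isMaximal (R := R) 𝔫
    exact IsLocalRing.eq_maximalIdeal this
  have hRS : Function.Injective (algebraMap R (Localization.AtPrime 𝔫)) := by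
    rw [injective_iff_map_eq_zero]
    intro r hr
    rw [IsScalarTower.algebraMap_apply R A (Localization.AtPrime 𝔫),
      IsLocalization.map_eq_zero_iff 𝔫.primeCompl] at hr
    obtain ⟨⟨t, ht⟩, htr⟩ := hr
    have hcoord : ∀ j, b.repr t j * r = 0 := by
      intro j
      have h1 : r • t = 0 := by
        rw [Algebra.smul_def, mul_comm]; exact htr
      have h2 := congrArg (fun z => b.repr z j) h1
      simp only [map_smul, Finsupp.smul_apply, smul_eq_mul, map_zero, Finsupp.zero_apply] at h2
      rw [mul_comm]; exact h2
    by_contra hr0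
    apply ht
    rw [← b.sum_repr t]
    refine Ideal.sum_mem _ fun j _ => ?_
    rw [Algebra.smul_def]
    refine Ideal.mul_mem_right _ _ ?_
    change b.repr t j ∈ 𝔫.comap (algebraMap R A)
    rw [hcomap, IsLocalRing.mem_maximalIdeal, mem_nonunits_iff]
    intro hu
    exact hr0 (hu.mul_right_eq_zero.1 (hcoord j))
  intro f₁ f₂
  apply compLin_injective (A := A) (Algebra.ofId R (Localization.AtPrime 𝔫)) hRS
  rw [map_mul, map_mul]
  exact hcommS _ _

end Case2

section Case1

/-- Case of an infinitesimal special fibre. -/
theorem dual_comm_of_isLocalRing_fibre {p : ℕ} [hp : Fact p.Prime] (b : Module.Basis (Fin p) R A)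
    [IsLocalRing (IsLocalRing.ResidueField R ⊗[R] A)] :
    ∀ f g : WithConv (A →ₗ[R] R), f * g = g * f := by
  classical
  haveI : Module.Finite R A := Module.Finite.of_basis b
  have hfr : Module.finrank (IsLocalRing.ResidueField R) (IsLocalRing.ResidueField R ⊗[R] A) = p := by
    rw [Module.finrank_eq_card_basis (b.baseChange _), Fintype.card_fin]
  obtain ⟨f, hf⟩ := finrank_eq_pow_ringExpChar (IsLocalRing.ResidueField R)
    (IsLocalRing.ResidueField R ⊗[R] A)
  rw [hfr] at hf
  have hq : ringExpChar (IsLocalRing.ResidueField R) = p := by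
    have hf0 : f ≠ 0 := by
      rintro rfl
      rw [pow_zero] at hf
      exact hp.out.one_lt.ne' hf
    have h1 : ringExpChar (IsLocalRing.ResidueField R) ∣ p := by
      rw [hf]; exact dvd_pow_self _ hf0
    rcases (Nat.dvd_prime hp.out).1 h1 with h | h
    · rw [h, one_pow] at hf
      exact absurd hf hp.out.one_lt.ne'
    · exact h
  haveI hE : ExpChar (IsLocalRing.ResidueField R) p := ringExpChar.of_eq hq
  haveI : CharP (IsLocalRing.ResidueField R) p := by
    cases hE with
    | zero => exact absurd hp.out Nat.not_prime_one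
    | prime hq' => assumption
  obtain ⟨l, hl⟩ := exists_pow_linearIndependent (k := IsLocalRing.ResidueField R)
    (A := IsLocalRing.ResidueField R ⊗[R] A) p hfr
  let ρ := rho (R := R) (A := A) (IsLocalRing.ResidueField R) (IsLocalRing.ResidueField R)
  let l' : WithConv (A →ₗ[R] IsLocalRing.ResidueField R) := ρ l
  have hres : Function.Surjective (IsLocalRing.residue R) := IsLocalRing.residue_surjective
  let x : WithConv (A →ₗ[R] R) :=
    toConv (b.constr R (fun j => (hres (l'.ofConv (b j))).choose))
  let res : R →ₐ[R] IsLocalRing.ResidueField R := IsScalarTower.toAlgHom R R _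
  have hx : compLin res x = l' := by
    apply WithConv.ofConv_injective
    apply b.ext
    intro j
    rw [compLin_apply]
    simp only [x, ofConv_toConv, Module.Basis.constr_basis]
    exact (hres _).choose_spec
  let v : Fin p → WithConv (A →ₗ[R] R) := fun i => x ^ (i : ℕ)
  have hspan : Submodule.span R (Set.range v) = ⊤ := by
    refine span_eq_top_of_residue_linearIndependent (S := R) b v ?_
    have h3 : (fun i => compLin (A := A) (IsScalarTower.toAlgHom R R (IsLocalRing.ResidueField R))
        (v i)) = fun i : Fin p => ρ (l ^ (i : ℕ)) := by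
      funext i
      change compLin res (x ^ (i : ℕ)) = _
      rw [map_pow, hx, map_pow]
    rw [h3]
    let ρl : WithConv (IsLocalRing.ResidueField R ⊗[R] A →ₗ[IsLocalRing.ResidueField R]
        IsLocalRing.ResidueField R) →ₗ[IsLocalRing.ResidueField R]
        WithConv (A →ₗ[R] IsLocalRing.ResidueField R) :=
      { toFun := ρ
        map_add' := map_add ρ
        map_smul' := fun c φ => rho_smul _ _ c φ }
    exact hl.map' ρl (LinearMap.ker_eq_bot.2 ρ.injective)
  exact mul_comm_of_span' (k := R) v (fun i j => pow_mul_comm x _ _) hspan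

end Case1

end Groth.Agent.Helper7.FGK
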