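import Mathlib
import Groth.Agent.Helper7.FGK16

/-!
# A finite locally free group scheme of prime order is commutative
-/

namespace Groth.Agent.Helper7.FGK

open TensorProduct WithConv

universe u v w w'

section Local

variable {R : Type u} [CommRing R] [IsLocalRing R] {A : Type v} [CommRing A] [HopfAlgebra R A]

theorem dual_comm_of_finrank_prime [Module.Finite R A] [Module.Free R A] (p : ℕ)
    [hp : Fact p.Prime] (hA : Module.finrank R A = p) :
    ∀ f g : WithConv (A →ₗ[R] R), f * g = g * f := by
  classical
  let b : Module.Basis (Fin p) R A := Module.finBasisOfFinrankEq R A hA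
  by_cases hloc : IsLocalRing (IsLocalRing.ResidueField R ⊗[R] A)
  · exact dual_comm_of_isLocalRing_fibre b
  · let εκ : IsLocalRing.ResidueField R ⊗[R] A →ₐ[IsLocalRing.ResidueField R]
        IsLocalRing.ResidueField R := Bialgebra.counitAlgHom _ _
    have hεsurj : Function.Surjective (εκ : IsLocalRing.ResidueField R ⊗[R] A →+*
        IsLocalRing.ResidueField R) := by
      intro c
      refine ⟨algebraMap _ _ c, ?_⟩
      exact εκ.commutes c
    have hmax : (RingHom.ker (εκ : IsLocalRing.ResidueField R ⊗[R] A →+*
        IsLocalRing.ResidueField R)).IsMaximal := RingHom.ker_isMaximal_of_surjective _ hεsurj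
    have hex : ∃ M : Ideal (IsLocalRing.ResidueField R ⊗[R] A), M.IsMaximal ∧
        M ≠ RingHom.ker (εκ : IsLocalRing.ResidueField R ⊗[R] A →+*
          IsLocalRing.ResidueField R) := by
      by_contra hcon
      push Not at hcon
      exact hloc (IsLocalRing.of_unique_max_ideal ⟨_, hmax, fun M hM => hcon M hM⟩)
    obtain ⟨M, hM, hMne⟩ := hex
    have hnle : ¬ RingHom.ker (εκ : IsLocalRing.ResidueField R ⊗[R] A →+*
        IsLocalRing.ResidueField R) ≤ M := fun hle => hMne (hmax.eq_of_le hM.ne_top hle).symm
    let ι : A →ₐ[R] IsLocalRing.ResidueField R ⊗[R] A := Algebra.TensorProduct.includeRight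
    have hιsurj : Function.Surjective ι :=
      Algebra.TensorProduct.includeRight_surjective A IsLocalRing.residue_surjective
    haveI : (M.comap ι).IsMaximal := Ideal.comap_isMaximal_of_surjective ι hιsurj
    refine dual_comm_of_maximal b (M.comap ι) ?_
    intro hle
    apply hnle
    intro y hy
    obtain ⟨a, rfl⟩ := hιsurj y
    have h1 : IsLocalRing.residue R (Coalgebra.counit (R := R) a) = 0 := by
      have h0 : εκ (ι a) = 0 := hy
      have h0' : εκ (ι a) = IsLocalRing.residue R (Coalgebra.counit (R := R) a) := by
        simp [ι, εκ, Algebra.smul_def]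
      rw [← h0', h0]
    have h2 : a - algebraMap R A (Coalgebra.counit (R := R) a) ∈ M.comap ι := by
      apply hle
      rw [RingHom.mem_ker]
      change Coalgebra.counit (R := R) (a - algebraMap R A (Coalgebra.counit (R := R) a)) = 0
      rw [map_sub, Bialgebra.counit_algebraMap, sub_self]
    have h3 : ι (a - algebraMap R A (Coalgebra.counit (R := R) a)) ∈ M := h2
    rw [map_sub, AlgHom.commutes] at h3
    have h4 : algebraMap R (IsLocalRing.ResidueField R ⊗[R] A) (Coalgebra.counit (R := R) a) = 0 := by
      rw [IsScalarTower.algebraMap_apply R (IsLocalRing.ResidueField R)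
        (IsLocalRing.ResidueField R ⊗[R] A), IsLocalRing.ResidueField.algebraMap_eq, h1, map_zero]
    rwa [h4, sub_zero] at h3

end Local

section Global

variable {R : Type u} [CommRing R] {A : Type v} [CommRing A] [Bialgebra R A] [Module.Finite R A]
  [Module.Projective R A]

theorem isCocomm_of_forall_localization_dual_comm
    (h : ∀ (P : Ideal R) [P.IsMaximal],
      ∀ f g : WithConv (A →ₗ[R] Localization.AtPrime P), f * g = g * f) :
    Coalgebra.IsCocomm R A := by
  classical
  obtain ⟨s, hs⟩ := Module.projective_def'.1 (inferInstance : Module.Projective R A)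
  have key0 : ∀ z : A ⊗[R] A, (∀ x y : A, LinearMap.mul' R R
      (TensorProduct.map ((Finsupp.lapply x) ∘ₗ s) ((Finsupp.lapply y) ∘ₗ s) z) = 0) → z = 0 := by
    intro z hz
    have h1 : TensorProduct.map s s z = 0 := by
      apply (finsuppTensorFinsupp' R A A).injective
      rw [map_zero]
      ext ⟨x, y⟩
      rw [Finsupp.zero_apply, ← hz x y]
      clear hz
      induction z using TensorProduct.induction_on with
      | zero => simp
      | tmul a b => simp [finsuppTensorFinsupp'_apply_apply]
      | add z w hz hw => simp only [map_add, Finsupp.add_apply, hz, hw]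
    have h2 : TensorProduct.map (Finsupp.linearCombination R id) (Finsupp.linearCombination R id)
        (TensorProduct.map s s z) = z := by
      rw [← LinearMap.comp_apply, ← TensorProduct.map_comp, hs, TensorProduct.map_id,
        LinearMap.id_apply]
    rw [← h2, h1, map_zero]
  have key2 : ∀ (f g : A →ₗ[R] R) (z : A ⊗[R] A),
      LinearMap.mul' R R (TensorProduct.map f g (TensorProduct.comm R A A z)) =
        LinearMap.mul' R R (TensorProduct.map g f z) := by
    intro f g z
    induction z using TensorProduct.induction_on with
    | zero => simp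
    | tmul x y => simp [mul_comm]
    | add x y hx hy => simp only [map_add, hx, hy]
  constructor
  ext a
  change (TensorProduct.comm R A A) (Coalgebra.comul (R := R) a) = Coalgebra.comul (R := R) a
  rw [← sub_eq_zero]
  apply key0
  intro x y
  rw [map_sub, map_sub, key2]
  change ((toConv ((Finsupp.lapply y) ∘ₗ s) * toConv ((Finsupp.lapply x) ∘ₗ s) -
    toConv ((Finsupp.lapply x) ∘ₗ s) * toConv ((Finsupp.lapply y) ∘ₗ s) :
      WithConv (A →ₗ[R] R))).ofConv a = 0
  apply eq_zero_of_localization
  intro P hP
  have h3 := h P (compLin (Algebra.ofId R _) (toConv ((Finsupp.lapply y) ∘ₗ s)))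
    (compLin (Algebra.ofId R _) (toConv ((Finsupp.lapply x) ∘ₗ s)))
  rw [← map_mul, ← map_mul] at h3
  have h5 := congrArg (fun f => f.ofConv a) h3
  simp only [compLin_apply] at h5
  rw [WithConv.ofConv_sub, LinearMap.sub_apply, map_sub, sub_eq_zero]
  exact h5

end Global

/-- **A finite locally free group scheme of prime order is commutative.** -/
theorem isCocomm_of_rankAtStalk_eq_prime {R : Type u} [CommRing R] (p : ℕ) [Fact p.Prime]
    {A : Type v} [CommRing A] [HopfAlgebra R A] [Module.Finite R A] [Module.Projective R A]
    (hp : ∀ q : PrimeSpectrum R, Module.rankAtStalk A q = p) : Coalgebra.IsCocomm R A := by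
  apply isCocomm_of_forall_localization_dual_comm
  intro P hP f g
  haveI : Module.Free (Localization.AtPrime P) (Localization.AtPrime P ⊗[R] A) :=
    Module.free_of_flat_of_isLocalRing
  have hfr : Module.finrank (Localization.AtPrime P) (Localization.AtPrime P ⊗[R] A) = p := by
    have := Module.rankAtStalk_eq_finrank_tensorProduct (M := A) ⟨P, inferInstance⟩
    rw [← this]; exact hp ⟨P, _⟩
  have hcomm := dual_comm_of_finrank_prime (R := Localization.AtPrime P)
    (A := Localization.AtPrime P ⊗[R] A) p hfr
  let ρ := rho (R := R) (A := A) (Localization.AtPrime P) (Localization.AtPrime P)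
  obtain ⟨f', rfl⟩ := ρ.surjective f
  obtain ⟨g', rfl⟩ := ρ.surjective g
  rw [← map_mul, ← map_mul, hcomm]

end Groth.Agent.Helper7.FGK
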