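import Mathlib
import Groth.Agent.Helper7.FGK17

/-!
# ε-derivations (primitive elements of the dual) of a commutative Hopf algebra over a field
-/

namespace Groth.Agent.Helper7.FGK

open TensorProduct WithConv

universe u v

section Der

variable {k : Type u} [Field k] {A : Type v} [CommRing A] [HopfAlgebra k A]

/-- ε-derivations: primitive elements of the dual -/
def IsDer (l : A →ₗ[k] k) : Prop :=
  ∀ a b : A, l (a * b) = Coalgebra.counit (R := k) a * l b + Coalgebra.counit (R := k) b * l a

lemma IsDer.map_one {l : A →ₗ[k] k} (h : IsDer l) : l 1 = 0 := by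
  have := h 1 1
  simp only [mul_one, Bialgebra.counit_one, one_mul] at this
  linear_combination -this

lemma IsDer.map_mul_of_counit {l : A →ₗ[k] k} (h : IsDer l) {a b : A}
    (ha : Coalgebra.counit (R := k) a = 0) (hb : Coalgebra.counit (R := k) b = 0) :
    l (a * b) = 0 := by
  rw [h a b, ha, hb, zero_mul, zero_mul, add_zero]

lemma IsDer.smul {l : A →ₗ[k] k} (h : IsDer l) (c : k) : IsDer (c • l) := by
  intro a b
  simp only [LinearMap.smul_apply, smul_eq_mul, h a b]
  ring

lemma apply_Tmap' (l g : A →ₗ[k] k) (z : A ⊗[k] A) :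
    g (Tmap l z) = LinearMap.mul' k k (TensorProduct.map g l z) := by
  induction z using TensorProduct.induction_on with
  | zero => simp
  | tmul a b => simp [mul_comm]
  | add x y hx hy => simp only [map_add, hx, hy]

variable (l : A →ₗ[k] k) (hl : IsDer l)

theorem conv_pow_eq (i : ℕ) :
    (toConv l) ^ i = toConv ((Bialgebra.counitAlgHom k A).toLinearMap ∘ₗ
      ((invDer l hl : A →ₗ[k] A) ^ i : Module.End k A)) := by
  induction i with
  | zero =>
    apply WithConv.ofConv_injective
    ext a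
    simp [LinearMap.convOne_def]
  | succ i ih =>
    rw [pow_succ, ih]
    apply WithConv.ofConv_injective
    ext a
    change LinearMap.mul' k k (TensorProduct.map ((Bialgebra.counitAlgHom k A).toLinearMap ∘ₗ
      ((invDer l hl : A →ₗ[k] A) ^ i : Module.End k A)) l
      (Coalgebra.comul (R := k) a)) = Bialgebra.counitAlgHom k A
        ((((invDer l hl : A →ₗ[k] A) ^ (i + 1) : Module.End k A)) a)
    rw [← apply_Tmap', pow_succ]
    rfl

include hl in
theorem conv_pow_apply_pow_of_lt {x : A} (hx : Coalgebra.counit (R := k) x = 0) {i j : ℕ}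
    (hij : i < j) : ((toConv l) ^ i).ofConv (x ^ j) = 0 := by
  set ε : A →ₐ[k] k := Bialgebra.counitAlgHom k A with hε
  set 𝔪 : Ideal A := RingHom.ker (ε : A →+* k) with h𝔪
  set D : Derivation k A A := invDer l hl with hD
  set DL : Module.End k A := (D : A →ₗ[k] A) with hDL
  have hx𝔪 : x ∈ 𝔪 := hx
  have hDpow : ∀ (i n : ℕ) (a : A), a ∈ 𝔪 ^ (n + i) → (DL ^ i) a ∈ 𝔪 ^ n := by
    intro i
    induction i with
    | zero => intro n a ha; simpa using ha
    | succ i ih =>
      intro n a ha
      rw [pow_succ]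
      change (DL ^ i) (D a) ∈ 𝔪 ^ n
      refine ih n (D a) ?_
      exact derivation_mem_pow 𝔪 D (n + i) a (by rwa [add_assoc])
  rw [conv_pow_eq l hl]
  change ε ((DL ^ i) (x ^ j)) = 0
  have h1 : x ^ j ∈ 𝔪 ^ (1 + i) := by
    refine Ideal.pow_le_pow_right (by omega) (Ideal.pow_mem_pow hx𝔪 j)
  have h2 := hDpow i 1 _ h1
  rw [pow_one] at h2
  exact h2

include hl in
theorem conv_pow_apply_pow_self {x : A} (hx : Coalgebra.counit (R := k) x = 0) (i : ℕ) :
    ((toConv l) ^ i).ofConv (x ^ i) = (i.factorial : k) * (l x) ^ i := by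
  set ε : A →ₐ[k] k := Bialgebra.counitAlgHom k A with hε
  set 𝔪 : Ideal A := RingHom.ker (ε : A →+* k) with h𝔪
  set D : Derivation k A A := invDer l hl with hD
  set DL : Module.End k A := (D : A →ₗ[k] A) with hDL
  have hx𝔪 : x ∈ 𝔪 := hx
  have hεD : ∀ a, ε (D a) = l a := fun a => counit_invDer l hl a
  have hDpow : ∀ (i n : ℕ) (a : A), a ∈ 𝔪 ^ (n + i) → (DL ^ i) a ∈ 𝔪 ^ n := by
    intro i
    induction i with
    | zero => intro n a ha; simpa using ha
    | succ i ih =>
      intro n a ha
      rw [pow_succ]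
      change (DL ^ i) (D a) ∈ 𝔪 ^ n
      refine ih n (D a) ?_
      exact derivation_mem_pow 𝔪 D (n + i) a (by rwa [add_assoc])
  rw [conv_pow_eq l hl]
  change ε ((DL ^ i) (x ^ i)) = _
  induction i with
  | zero => simp [hε]
  | succ i ih =>
    rw [pow_succ DL]
    change ε ((DL ^ i) (D (x ^ (i + 1)))) = _
    have hm : ε (D x - algebraMap k A (l x)) = 0 := by
      rw [map_sub, hεD, AlgHom.commutes]; simp
    have h1 : D (x ^ (i + 1)) = ((i + 1 : ℕ) : k) •
        (l x • x ^ i + x ^ i * (D x - algebraMap k A (l x))) := by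
      rw [Derivation.leibniz_pow, Nat.add_sub_cancel, smul_eq_mul, ← Nat.cast_smul_eq_nsmul k]
      congr 1
      rw [Algebra.smul_def]
      ring
    rw [h1, map_smul, map_smul, map_add, map_add, map_smul, map_smul, ih]
    have h2 : x ^ i * (D x - algebraMap k A (l x)) ∈ 𝔪 ^ (1 + i) := by
      rw [add_comm, pow_succ]
      exact Ideal.mul_mem_mul (Ideal.pow_mem_pow hx𝔪 i) hm
    have h3 := hDpow i 1 _ h2
    rw [pow_one] at h3
    have h3' : ε ((DL ^ i) (x ^ i * (D x - algebraMap k A (l x)))) = 0 := h3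
    rw [h3', add_zero, smul_eq_mul, smul_eq_mul, Nat.factorial_succ]
    push_cast
    ring

section Indep

variable (p : ℕ) [hp : Fact p.Prime] [CharP k p]

include hl in
theorem det_conv_pow_ne_zero {x : A} (hx : Coalgebra.counit (R := k) x = 0) (hlx : l x ≠ 0) :
    (Matrix.of fun i j : Fin p => ((toConv l) ^ (i : ℕ)).ofConv (x ^ (j : ℕ))).det ≠ 0 := by
  classical
  set M : Matrix (Fin p) (Fin p) k :=
    Matrix.of fun i j : Fin p => ((toConv l) ^ (i : ℕ)).ofConv (x ^ (j : ℕ)) with hM'
  have hM : M.BlockTriangular (OrderDual.toDual) := by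
    intro i j hij
    exact conv_pow_apply_pow_of_lt l hl hx (by exact_mod_cast hij)
  rw [Matrix.det_of_isLowerTriangular M hM, Finset.prod_ne_zero_iff]
  intro i _
  change ((toConv l) ^ (i : ℕ)).ofConv (x ^ (i : ℕ)) ≠ 0
  rw [conv_pow_apply_pow_self l hl hx]
  refine mul_ne_zero ?_ (pow_ne_zero _ hlx)
  intro h0
  rw [CharP.cast_eq_zero_iff k p, hp.out.dvd_factorial] at h0
  exact absurd i.2 (not_lt.2 h0)

include hl in
theorem linearIndependent_conv_pow {x : A} (hx : Coalgebra.counit (R := k) x = 0) (hlx : l x ≠ 0) :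
    LinearIndependent k (fun i : Fin p => (toConv l) ^ (i : ℕ)) := by
  classical
  rw [Fintype.linearIndependent_iff]
  intro g hg
  have hdet := det_conv_pow_ne_zero l hl p hx hlx
  set M : Matrix (Fin p) (Fin p) k :=
    Matrix.of fun i j : Fin p => ((toConv l) ^ (i : ℕ)).ofConv (x ^ (j : ℕ)) with hM'
  have hvec : Matrix.vecMul g M = 0 := by
    funext j
    have h1 := congrArg (fun φ : WithConv (A →ₗ[k] k) => φ.ofConv (x ^ (j : ℕ))) hg
    rw [Matrix.vecMul, dotProduct]
    simp only [WithConv.ofConv_sum, LinearMap.sum_apply, WithConv.ofConv_zero,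
      LinearMap.zero_apply] at h1
    rw [Pi.zero_apply, ← h1]
    refine Finset.sum_congr rfl fun i _ => ?_
    rfl
  intro i
  exact congrFun (Matrix.eq_zero_of_vecMul_eq_zero hdet hvec) i

include hl in
theorem linearIndependent_pow_of_isDer {x : A} (hx : Coalgebra.counit (R := k) x = 0)
    (hlx : l x ≠ 0) : LinearIndependent k (fun j : Fin p => x ^ (j : ℕ)) := by
  classical
  rw [Fintype.linearIndependent_iff]
  intro g hg
  have hdet := det_conv_pow_ne_zero l hl p hx hlx
  set M : Matrix (Fin p) (Fin p) k :=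
    Matrix.of fun i j : Fin p => ((toConv l) ^ (i : ℕ)).ofConv (x ^ (j : ℕ)) with hM'
  have hvec : Matrix.mulVec M g = 0 := by
    funext i
    have h1 := congrArg (fun a : A => ((toConv l) ^ (i : ℕ)).ofConv a) hg
    simp only [map_sum, map_smul, map_zero] at h1
    rw [Matrix.mulVec, dotProduct, Pi.zero_apply, ← h1]
    refine Finset.sum_congr rfl fun j _ => ?_
    rw [smul_eq_mul, mul_comm]
    rfl
  intro i
  exact congrFun (Matrix.eq_zero_of_mulVec_eq_zero hdet hvec) i

end Indep

end Der

end Groth.Agent.Helper7.FGK
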