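import Mathlib
import Groth.Agent.Helper7.FGK18

/-!
# The `p`-th convolution power of an ε-derivation is an ε-derivation
-/

namespace Groth.Agent.Helper7.FGK

open TensorProduct WithConv

universe u v

section PPower

variable {k : Type u} [Field k] {A : Type v} [CommRing A] [HopfAlgebra k A]

/-- `φ ⊗ ψ` as a functional on `A ⊗ A` -/
noncomputable def tens (φ ψ : WithConv (A →ₗ[k] k)) : WithConv (A ⊗[k] A →ₗ[k] k) :=
  toConv ((Algebra.TensorProduct.lmul' k (S := k)).toLinearMap ∘ₗ
    TensorProduct.map φ.ofConv ψ.ofConv)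

@[simp] lemma tens_apply_tmul (φ ψ : WithConv (A →ₗ[k] k)) (a b : A) :
    (tens φ ψ).ofConv (a ⊗ₜ[k] b) = φ.ofConv a * ψ.ofConv b := by
  simp [tens]

lemma tens_mul (φ ψ φ' ψ' : WithConv (A →ₗ[k] k)) :
    tens φ ψ * tens φ' ψ' = tens (φ * φ') (ψ * ψ') := by
  apply WithConv.ofConv_injective
  have h1 := LinearMap.algHom_comp_convMul_distrib (Algebra.TensorProduct.lmul' k (S := k))
    (toConv (TensorProduct.map φ.ofConv ψ.ofConv) : WithConv (A ⊗[k] A →ₗ[k] k ⊗[k] k))
    (toConv (TensorProduct.map φ'.ofConv ψ'.ofConv))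
  rw [TensorProduct.map_convMul_map] at h1
  exact h1.symm

lemma tens_one_one : tens (1 : WithConv (A →ₗ[k] k)) 1 = 1 := by
  apply WithConv.ofConv_injective
  ext a b
  simp [LinearMap.convOne_def, mul_comm]

lemma tens_pow (φ ψ : WithConv (A →ₗ[k] k)) (n : ℕ) : (tens φ ψ) ^ n = tens (φ ^ n) (ψ ^ n) := by
  induction n with
  | zero => rw [pow_zero, pow_zero, pow_zero, tens_one_one]
  | succ n ih => rw [pow_succ, ih, tens_mul, pow_succ, pow_succ]

/-- pullback of functionals along the multiplication -/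
noncomputable def mulPull : WithConv (A →ₗ[k] k) →+* WithConv (A ⊗[k] A →ₗ[k] k) where
  toFun φ := toConv (φ.ofConv ∘ₗ LinearMap.mul' k A)
  map_one' := by
    apply WithConv.ofConv_injective
    ext a b
    simp [LinearMap.convOne_def, mul_comm]
  map_mul' φ ψ := by
    apply WithConv.ofConv_injective
    exact LinearMap.convMul_comp_coalgHom_distrib φ ψ (Bialgebra.mulCoalgHom k A)
  map_zero' := by
    apply WithConv.ofConv_injective
    simp
  map_add' φ ψ := by
    apply WithConv.ofConv_injective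
    simp [LinearMap.add_comp]

lemma mulPull_apply_tmul (φ : WithConv (A →ₗ[k] k)) (a b : A) :
    (mulPull φ).ofConv (a ⊗ₜ[k] b) = φ.ofConv (a * b) := rfl

lemma isDer_iff (l : A →ₗ[k] k) :
    IsDer l ↔ mulPull (toConv l) = tens 1 (toConv l) + tens (toConv l) 1 := by
  constructor
  · intro h
    apply WithConv.ofConv_injective
    ext a b
    simp only [TensorProduct.AlgebraTensorModule.curry_apply, LinearMap.restrictScalars_self,
      TensorProduct.curry_apply, mulPull_apply_tmul, ofConv_toConv, WithConv.ofConv_add,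
      LinearMap.add_apply, tens_apply_tmul, LinearMap.convOne_apply]
    rw [h a b]
    simp [mul_comm]
  · intro h a b
    have h1 := congrArg (fun φ : WithConv (A ⊗[k] A →ₗ[k] k) => φ.ofConv (a ⊗ₜ[k] b)) h
    simp only [mulPull_apply_tmul, ofConv_toConv, WithConv.ofConv_add,
      LinearMap.add_apply, tens_apply_tmul, LinearMap.convOne_apply] at h1
    rw [h1]
    simp [mul_comm]

variable (p : ℕ) [hp : Fact p.Prime] [CharP k p]

theorem isDer_conv_pow_p {l : A →ₗ[k] k} (hl : IsDer l) : IsDer ((toConv l) ^ p).ofConv := by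
  rw [isDer_iff] at hl ⊢
  rw [toConv_ofConv, map_pow, hl]
  have hcomm : Commute (tens (1 : WithConv (A →ₗ[k] k)) (toConv l)) (tens (toConv l) 1) := by
    change _ * _ = _ * _
    rw [tens_mul, tens_mul, one_mul, mul_one]
  obtain ⟨r, hr⟩ := hcomm.exists_add_pow_prime_eq hp.out
  have hp0 : ((p : ℕ) : WithConv (A ⊗[k] A →ₗ[k] k)) = 0 := by
    rw [← map_natCast (algebraMap k (WithConv (A ⊗[k] A →ₗ[k] k))) p, CharP.cast_eq_zero k p,
      map_zero]
  rw [hr, hp0, zero_mul, zero_mul, zero_mul, add_zero, tens_pow, tens_pow, one_pow]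

end PPower

end Groth.Agent.Helper7.FGK
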