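import Mathlib
import Groth.Agent.Helper7.FGK19

/-!
# Coordinates on a finite-dimensional Hopf algebra from a basis of the dual
-/

namespace Groth.Agent.Helper7.FGK

open TensorProduct WithConv

universe u v

section Coords

variable {k : Type u} [Field k] {A : Type v} [CommRing A] [HopfAlgebra k A] [Module.Finite k A]

variable {n : ℕ} (v : Fin n → WithConv (A →ₗ[k] k)) (hv : LinearIndependent k v)
  (hn : Module.finrank k A = n)

include hv hn in
lemma span_eq_top_of_dual_li : Submodule.span k (Set.range v) = ⊤ := by
  refine hv.span_eq_top_of_card_eq_finrank' ?_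
  rw [finrank_dual_conv, Fintype.card_fin, hn]

include hv hn in
/-- elements are determined by their coordinates -/
theorem eq_of_forall_dual_eq {a b : A} (h : ∀ i, (v i).ofConv a = (v i).ofConv b) : a = b := by
  have hspan := span_eq_top_of_dual_li v hv hn
  rw [← sub_eq_zero]
  rw [← Module.forall_dual_apply_eq_zero_iff k]
  intro φ
  have hφ : toConv φ ∈ Submodule.span k (Set.range v) := by rw [hspan]; trivial
  have key : ∀ ψ ∈ Submodule.span k (Set.range v), ψ.ofConv (a - b) = 0 := by
    intro ψ hψ
    induction hψ using Submodule.span_induction with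
    | mem x hx =>
      obtain ⟨i, rfl⟩ := hx
      rw [map_sub, h i, sub_self]
    | zero => simp
    | add x y _ _ hx hy => rw [WithConv.ofConv_add, LinearMap.add_apply, hx, hy, add_zero]
    | smul c x _ hx => rw [WithConv.ofConv_smul, LinearMap.smul_apply, hx, smul_zero]
  exact key _ hφ

include hv hn in
/-- every coordinate vector is realised -/
theorem exists_of_dual_coords (c : Fin n → k) : ∃ a : A, ∀ i, (v i).ofConv a = c i := by
  let Φ : A →ₗ[k] (Fin n → k) := LinearMap.pi fun i => (v i).ofConv
  have hinj : Function.Injective Φ := by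
    intro a b hab
    exact eq_of_forall_dual_eq v hv hn fun i => congrFun hab i
  have hfr : Module.finrank k A = Module.finrank k (Fin n → k) := by
    rw [hn, Module.finrank_fin_fun]
  have hsurj := (LinearMap.injective_iff_surjective_of_finrank_eq_finrank hfr).1 hinj
  obtain ⟨a, ha⟩ := hsurj c
  exact ⟨a, fun i => congrFun ha i⟩

include hv hn in
/-- elements of `A ⊗ A` are determined by their coordinates -/
theorem tmul_eq_of_forall_tens_eq {z w : A ⊗[k] A}
    (h : ∀ i j, (tens (v i) (v j)).ofConv z = (tens (v i) (v j)).ofConv w) : z = w := by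
  classical
  have hspan := span_eq_top_of_dual_li v hv hn
  -- a basis of `A` with coordinate functions in the span of `v`
  let b := Module.finBasis k A
  let B2 := b.tensorProduct b
  apply B2.repr.injective
  ext ⟨i, j⟩
  have key : ∀ z : A ⊗[k] A, B2.repr z (i, j) =
      (tens (toConv (b.coord i)) (toConv (b.coord j))).ofConv z := by
    intro z
    induction z using TensorProduct.induction_on with
    | zero => simp
    | tmul x y =>
      rw [Module.Basis.tensorProduct_repr_tmul_apply, tens_apply_tmul]
      simp [mul_comm]
    | add x y hx hy =>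
      rw [map_add, Finsupp.add_apply, hx, hy, map_add]
  rw [key, key]
  -- bilinearity in the two functionals
  have h1 : ∀ φ ∈ Submodule.span k (Set.range v), ∀ j',
      (tens φ (v j')).ofConv z = (tens φ (v j')).ofConv w := by
    intro φ hφ j'
    induction hφ using Submodule.span_induction with
    | mem x hx =>
      obtain ⟨i', rfl⟩ := hx
      exact h i' j'
    | zero => simp [tens]
    | add x y _ _ hx hy =>
      have : tens (x + y) (v j') = tens x (v j') + tens y (v j') := by
        apply WithConv.ofConv_injective
        ext a b
        simp [add_mul]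
      rw [this, WithConv.ofConv_add, LinearMap.add_apply, LinearMap.add_apply, hx, hy]
    | smul c x _ hx =>
      have : tens (c • x) (v j') = c • tens x (v j') := by
        apply WithConv.ofConv_injective
        ext a b
        simp [mul_assoc]
      rw [this, WithConv.ofConv_smul, LinearMap.smul_apply, LinearMap.smul_apply, hx]
  have h2 : ∀ φ ∈ Submodule.span k (Set.range v), ∀ ψ ∈ Submodule.span k (Set.range v),
      (tens φ ψ).ofConv z = (tens φ ψ).ofConv w := by
    intro φ hφ ψ hψ
    induction hψ using Submodule.span_induction with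
    | mem x hx =>
      obtain ⟨j', rfl⟩ := hx
      exact h1 φ hφ j'
    | zero => simp [tens]
    | add x y _ _ hx hy =>
      have : tens φ (x + y) = tens φ x + tens φ y := by
        apply WithConv.ofConv_injective
        ext a b
        simp [mul_add]
      rw [this, WithConv.ofConv_add, LinearMap.add_apply, LinearMap.add_apply, hx, hy]
    | smul c x _ hx =>
      have : tens φ (c • x) = c • tens φ x := by
        apply WithConv.ofConv_injective
        ext a b
        simp [mul_left_comm]
      rw [this, WithConv.ofConv_smul, LinearMap.smul_apply, LinearMap.smul_apply, hx]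
  exact h2 _ (by rw [hspan]; trivial) _ (by rw [hspan]; trivial)

omit [Module.Finite k A] in
lemma tens_apply_comul (φ ψ : WithConv (A →ₗ[k] k)) (a : A) :
    (tens φ ψ).ofConv (Coalgebra.comul (R := k) a) = (φ * ψ).ofConv a := rfl

end Coords

section Unique

variable {k : Type u} [Field k] {A : Type v} [CommRing A] [HopfAlgebra k A] [Module.Finite k A]
variable (p : ℕ) [hp : Fact p.Prime] [CharP k p]

/-- in dimension `p` with a coordinate `x`, an ε-derivation is determined by its value at `x` -/
theorem isDer_eq_smul (hA : Module.finrank k A = p) {l l' : A →ₗ[k] k} (hl : IsDer l)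
    (hl' : IsDer l') {x : A} (hx : Coalgebra.counit (R := k) x = 0) (hlx : l x = 1) :
    l' = l' x • l := by
  have hli := linearIndependent_pow_of_isDer l hl p hx (by rw [hlx]; exact one_ne_zero)
  let b := basisOfLinearIndependentOfCardEqFinrank hli (by rw [Fintype.card_fin, hA])
  apply b.ext
  intro j
  rw [coe_basisOfLinearIndependentOfCardEqFinrank]
  change l' (x ^ (j : ℕ)) = (l' x • l) (x ^ (j : ℕ))
  rw [LinearMap.smul_apply, smul_eq_mul]
  rcases Nat.lt_trichotomy (j : ℕ) 1 with h0 | h1 | h2
  · have : (j : ℕ) = 0 := by omega
    rw [this, pow_zero, hl.map_one, hl'.map_one, mul_zero]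
  · rw [h1, pow_one, hlx, mul_one]
  · obtain ⟨m, hm⟩ : ∃ m, (j : ℕ) = m + 2 := ⟨(j : ℕ) - 2, by omega⟩
    have hxm : Coalgebra.counit (R := k) (x ^ (m + 1)) = 0 := by
      change Bialgebra.counitAlgHom k A (x ^ (m + 1)) = 0
      rw [map_pow]
      change (Coalgebra.counit (R := k) x) ^ (m + 1) = 0
      rw [hx, zero_pow (by omega)]
    have hpow : x ^ (j : ℕ) = x ^ (m + 1) * x := by rw [hm, ← pow_succ]
    rw [hpow, hl.map_mul_of_counit hxm hx, hl'.map_mul_of_counit hxm hx, mul_zero]

end Unique

end Groth.Agent.Helper7.FGK
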