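import Mathlib
import Groth.Agent.Helper7.FGK20

/-!
# Hopf algebras of dimension `p` with `λ^p = λ`: the group algebra of `ℤ/p` (`μ_p`)
-/

namespace Groth.Agent.Helper7.FGK

open TensorProduct WithConv

universe u v

section MuP

variable {k : Type u} [Field k] {A : Type v} [CommRing A] [HopfAlgebra k A] [Module.Finite k A]
variable (p : ℕ) [hp : Fact p.Prime] [CharP k p]

theorem nonempty_bialgEquiv_monoidAlgebra (hA : Module.finrank k A = p) {l : A →ₗ[k] k}
    (hl : IsDer l) {x : A} (hx : Coalgebra.counit (R := k) x = 0) (hlx : l x = 1)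
    (hlp : (toConv l) ^ p = toConv l) :
    Nonempty (A ≃ₐc[k] MonoidAlgebra k (Multiplicative (ZMod p))) := by
  classical
  have hp2 : 2 ≤ p := hp.out.two_le
  let v : Fin p → WithConv (A →ₗ[k] k) := fun i => (toConv l) ^ (i : ℕ)
  have hv : LinearIndependent k v :=
    linearIndependent_conv_pow l hl p hx (by rw [hlx]; exact one_ne_zero)
  obtain ⟨u, hu⟩ := exists_of_dual_coords v hv hA (fun _ => 1)
  have hpow : ∀ n : ℕ, ((toConv l) ^ n).ofConv u = 1 := by
    intro n
    induction n using Nat.strong_induction_on with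
    | _ n ih =>
      by_cases hn : n < p
      · exact hu ⟨n, hn⟩
      · push Not at hn
        have h1 : (toConv l) ^ n = (toConv l) ^ (n - p + 1) := by
          have h2 : n = (n - p) + p := by omega
          conv_lhs => rw [h2, pow_add, hlp, ← pow_succ]
        rw [h1]
        exact ih _ (by omega)
  have hε : Coalgebra.counit (R := k) u = 1 := by
    have h0 := hpow 0
    rw [pow_zero] at h0
    exact h0
  have hΔ : Coalgebra.comul (R := k) u = u ⊗ₜ[k] u := by
    apply tmul_eq_of_forall_tens_eq v hv hA
    intro i j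
    rw [tens_apply_comul, tens_apply_tmul, hu, hu, mul_one]
    change ((toConv l) ^ (i : ℕ) * (toConv l) ^ (j : ℕ)).ofConv u = 1
    rw [← pow_add]
    exact hpow _
  have hgl : IsGroupLikeElem k u := ⟨hε, hΔ⟩
  have hglpow : ∀ (g : A), IsGroupLikeElem k g → ∀ n : ℕ,
      ((toConv l) ^ n).ofConv g = (l g) ^ n := by
    intro g hg n
    induction n with
    | zero =>
      rw [pow_zero, pow_zero]
      change algebraMap k k (Coalgebra.counit (R := k) g) = 1
      rw [hg.counit_eq_one]
      exact map_one _
    | succ n ih =>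
      rw [pow_succ, ← tens_apply_comul, hg.comul_eq_tmul_self, tens_apply_tmul, ih, pow_succ]
  have hlu : l u = 1 := by
    have h1 := hu ⟨1, by omega⟩
    simpa [v] using h1
  have hlupow : ∀ j : ℕ, l (u ^ j) = (j : k) := by
    intro j
    induction j with
    | zero => rw [pow_zero, hl.map_one, Nat.cast_zero]
    | succ j ih =>
      rw [pow_succ, hl (u ^ j) u, ih, hlu, hε, (hgl.pow (n := j)).counit_eq_one]
      push_cast
      ring
  have hup : u ^ p = 1 := by
    apply eq_of_forall_dual_eq v hv hA
    intro i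
    change ((toConv l) ^ (i : ℕ)).ofConv (u ^ p) = ((toConv l) ^ (i : ℕ)).ofConv 1
    rw [hglpow _ hgl.pow, hglpow _ IsGroupLikeElem.one, hlupow, hl.map_one, CharP.cast_eq_zero]
  have hmod : ∀ n : ℕ, u ^ (n % p) = u ^ n := by
    intro n
    conv_rhs => rw [← Nat.mod_add_div n p, pow_add, pow_mul, hup, one_pow, mul_one]
  let θ : Multiplicative (ZMod p) →* A :=
    { toFun := fun j => u ^ (Multiplicative.toAdd j).val
      map_one' := by simp
      map_mul' := fun a b => by
        change u ^ (Multiplicative.toAdd a + Multiplicative.toAdd b).val = _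
        rw [ZMod.val_add, hmod, pow_add] }
  let f : MonoidAlgebra k (Multiplicative (ZMod p)) →ₐ[k] A := MonoidAlgebra.lift k A _ θ
  have hf : ∀ g, f (MonoidAlgebra.single g 1) = u ^ (Multiplicative.toAdd g).val := by
    intro g
    simp [f, θ]
  have hc1 : (Bialgebra.counitAlgHom k A).comp f = Bialgebra.counitAlgHom k _ := by
    refine MonoidAlgebra.algHom_ext ?_ (Subsingleton.elim _ _)
    intro g
    rw [AlgHom.comp_apply, hf, Bialgebra.counitAlgHom_apply, Bialgebra.counitAlgHom_apply,
      (hgl.pow).counit_eq_one, (MonoidAlgebra.isGroupLikeElem_single_one g).counit_eq_one]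
  have hc2 : (Algebra.TensorProduct.map f f).comp (Bialgebra.comulAlgHom k _) =
      (Bialgebra.comulAlgHom k A).comp f := by
    refine MonoidAlgebra.algHom_ext ?_ (Subsingleton.elim _ _)
    intro g
    rw [AlgHom.comp_apply, AlgHom.comp_apply, hf, Bialgebra.comulAlgHom_apply,
      Bialgebra.comulAlgHom_apply, (hgl.pow).comul_eq_tmul_self,
      (MonoidAlgebra.isGroupLikeElem_single_one g).comul_eq_tmul_self,
      Algebra.TensorProduct.map_tmul, hf]
  let F : MonoidAlgebra k (Multiplicative (ZMod p)) →ₐc[k] A := BialgHom.ofAlgHom f hc1 hc2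
  -- bijectivity
  have hinjpow : Function.Injective (fun j : Fin p => u ^ (j : ℕ)) := by
    intro i j hij
    have h1 := congrArg l hij
    simp only [hlupow] at h1
    rw [CharP.natCast_eq_natCast k p] at h1
    exact Fin.ext (Nat.ModEq.eq_of_lt_of_lt h1 i.2 j.2)
  have hliu : LinearIndependent k (fun j : Fin p => u ^ (j : ℕ)) := by
    have h0 := linearIndepOn_isGroupLikeElem (R := k) (A := A)
    have h1 : LinearIndependent k (fun a : {a : A | IsGroupLikeElem k a} => (a : A)) := h0
    exact h1.comp (fun j : Fin p => ⟨u ^ (j : ℕ), hgl.pow⟩)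
      (fun i j hij => hinjpow (congrArg Subtype.val hij))
  have hspanu : Submodule.span k (Set.range (fun j : Fin p => u ^ (j : ℕ))) = ⊤ :=
    hliu.span_eq_top_of_card_eq_finrank' (by rw [Fintype.card_fin, hA])
  have hsurj : Function.Surjective F := by
    have hr : LinearMap.range f.toLinearMap = ⊤ := by
      rw [eq_top_iff, ← hspanu, Submodule.span_le]
      rintro _ ⟨j, rfl⟩
      refine ⟨MonoidAlgebra.single (Multiplicative.ofAdd (((j : ℕ) : ZMod p))) 1, ?_⟩
      change f _ = _
      rw [hf]
      simp [ZMod.val_natCast, Nat.mod_eq_of_lt j.2]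
    exact LinearMap.range_eq_top.1 hr
  have hfr : Module.finrank k (MonoidAlgebra k (Multiplicative (ZMod p))) =
      Module.finrank k A := by
    rw [hA, Module.finrank_eq_card_basis (MonoidAlgebra.basis (Multiplicative (ZMod p)) k)]
    simp [ZMod.card]
  have hinj : Function.Injective F :=
    (LinearMap.injective_iff_surjective_of_finrank_eq_finrank (f := f.toLinearMap) hfr).2 hsurj
  exact ⟨(BialgEquiv.ofBijective F ⟨hinj, hsurj⟩).symm⟩

end MuP

end Groth.Agent.Helper7.FGK
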