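import Mathlib
import Groth.Prelude.Def_AlphaP
import Groth.Agent.Helper7.FGK21

/-!
# Hopf algebras of dimension `p` with `λ^p = 0`: `α_p`
-/

namespace Groth.Agent.Helper7.FGK

open TensorProduct WithConv

universe u v

section GroupLike

variable {k : Type u} [Field k] {A : Type v} [CommRing A] [HopfAlgebra k A]

lemma conv_pow_apply_groupLike (l : A →ₗ[k] k) {g : A} (hg : IsGroupLikeElem k g) (n : ℕ) :
    ((toConv l) ^ n).ofConv g = (l g) ^ n := by
  induction n with
  | zero =>
    rw [pow_zero, pow_zero]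
    change algebraMap k k (Coalgebra.counit (R := k) g) = 1
    rw [hg.counit_eq_one]
    exact map_one _
  | succ n ih =>
    rw [pow_succ, ← tens_apply_comul, hg.comul_eq_tmul_self, tens_apply_tmul, ih, pow_succ]

end GroupLike

section AlphaP

variable {k : Type u} [Field k] {A : Type v} [CommRing A] [HopfAlgebra k A] [Module.Finite k A]
variable (p : ℕ) [hp : Fact p.Prime] [CharP k p]

theorem nonempty_bialgEquiv_alphaP (hA : Module.finrank k A = p) {l : A →ₗ[k] k}
    (hl : IsDer l) {x : A} (hx : Coalgebra.counit (R := k) x = 0) (hlx : l x = 1)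
    (hlp : (toConv l) ^ p = 0) :
    Nonempty (A ≃ₐc[k] AlphaP.A p k) := by
  classical
  have hp2 : 2 ≤ p := hp.out.two_le
  let v : Fin p → WithConv (A →ₗ[k] k) := fun i => (toConv l) ^ (i : ℕ)
  have hv : LinearIndependent k v :=
    linearIndependent_conv_pow l hl p hx (by rw [hlx]; exact one_ne_zero)
  obtain ⟨y, hy⟩ := exists_of_dual_coords v hv hA (fun i => if (i : ℕ) = 1 then 1 else 0)
  have hpow : ∀ n : ℕ, ((toConv l) ^ n).ofConv y = if n = 1 then 1 else 0 := by
    intro n
    by_cases hn : n < p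
    · exact hy ⟨n, hn⟩
    · push Not at hn
      have h0 : (toConv l) ^ n = 0 := by
        rw [← Nat.sub_add_cancel hn, pow_add, hlp, mul_zero]
      rw [h0, if_neg (by omega)]
      rfl
  have hε : Coalgebra.counit (R := k) y = 0 := by
    have h0 := hpow 0
    rw [pow_zero, if_neg (by omega)] at h0
    exact h0
  have hone : ∀ n : ℕ, ((toConv l) ^ n).ofConv (1 : A) = if n = 0 then 1 else 0 := by
    intro n
    rw [conv_pow_apply_groupLike l IsGroupLikeElem.one, hl.map_one]
    split_ifs with h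
    · rw [h, pow_zero]
    · exact zero_pow h
  have hΔ : Coalgebra.comul (R := k) y = y ⊗ₜ[k] 1 + 1 ⊗ₜ[k] y := by
    apply tmul_eq_of_forall_tens_eq v hv hA
    intro i j
    rw [tens_apply_comul, WithConv.ofConv, map_add]
    change ((toConv l) ^ (i : ℕ) * (toConv l) ^ (j : ℕ)).ofConv y =
      (tens (v i) (v j)).ofConv (y ⊗ₜ[k] 1) + (tens (v i) (v j)).ofConv (1 ⊗ₜ[k] y)
    rw [tens_apply_tmul, tens_apply_tmul]
    change _ = ((toConv l) ^ (i : ℕ)).ofConv y * ((toConv l) ^ (j : ℕ)).ofConv 1 +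
      ((toConv l) ^ (i : ℕ)).ofConv 1 * ((toConv l) ^ (j : ℕ)).ofConv y
    rw [← pow_add, hpow, hpow, hpow, hone, hone]
    split_ifs <;> first | omega | simp
  have hly : l y = 1 := by
    have h1 := hpow 1
    simpa using h1
  have hyp : y ^ p = 0 := by
    apply eq_of_forall_dual_eq v hv hA
    intro i
    change ((toConv l) ^ (i : ℕ)).ofConv (y ^ p) = ((toConv l) ^ (i : ℕ)).ofConv 0
    rw [conv_pow_apply_pow_of_lt l hl hε i.2, map_zero]
  let f : AlphaP.A p k →ₐ[k] A := AlphaP.lift p k y hyp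
  have hfx : f (AlphaP.x p k) = y := AlphaP.lift_x y hyp
  have hc1 : (Bialgebra.counitAlgHom k A).comp f = Bialgebra.counitAlgHom k _ := by
    apply AlphaP.algHom_ext
    rw [AlgHom.comp_apply, hfx, Bialgebra.counitAlgHom_apply, Bialgebra.counitAlgHom_apply, hε,
      AlphaP.counit_x]
  have hc2 : (Algebra.TensorProduct.map f f).comp (Bialgebra.comulAlgHom k _) =
      (Bialgebra.comulAlgHom k A).comp f := by
    apply AlphaP.algHom_ext
    rw [AlgHom.comp_apply, AlgHom.comp_apply, hfx, Bialgebra.comulAlgHom_apply,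
      Bialgebra.comulAlgHom_apply, AlphaP.comul_x, hΔ, map_add, Algebra.TensorProduct.map_tmul,
      Algebra.TensorProduct.map_tmul, hfx, map_one]
  let F : AlphaP.A p k →ₐc[k] A := BialgHom.ofAlgHom f hc1 hc2
  have hliy : LinearIndependent k (fun j : Fin p => y ^ (j : ℕ)) :=
    linearIndependent_pow_of_isDer l hl p hε (by rw [hly]; exact one_ne_zero)
  have hspany : Submodule.span k (Set.range (fun j : Fin p => y ^ (j : ℕ))) = ⊤ :=
    hliy.span_eq_top_of_card_eq_finrank' (by rw [Fintype.card_fin, hA])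
  have hsurj : Function.Surjective F := by
    have hr : LinearMap.range f.toLinearMap = ⊤ := by
      rw [eq_top_iff, ← hspany, Submodule.span_le]
      rintro _ ⟨j, rfl⟩
      refine ⟨AlphaP.x p k ^ (j : ℕ), ?_⟩
      change f (AlphaP.x p k ^ (j : ℕ)) = y ^ (j : ℕ)
      rw [map_pow, hfx]
    exact LinearMap.range_eq_top.1 hr
  have hfr : Module.finrank k (AlphaP.A p k) = Module.finrank k A := by
    rw [hA, AlphaP.finrank_eq]
  have hinj : Function.Injective F :=
    (LinearMap.injective_iff_surjective_of_finrank_eq_finrank (f := f.toLinearMap) hfr).2 hsurj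
  exact ⟨(BialgEquiv.ofBijective F ⟨hinj, hsurj⟩).symm⟩

end AlphaP

end Groth.Agent.Helper7.FGK
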