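import Mathlib
import Groth.Prelude.Def_ConstGrp
import Groth.Agent.Helper7.FGK22

/-!
# Étale group schemes of prime order over an algebraically closed field are constant
-/

namespace Groth.Agent.Helper7.FGK

open TensorProduct WithConv

universe u v

section Pair

variable (R : Type u) (G : Type v) [CommRing R] [Group G] [Fintype G] [DecidableEq G]

theorem constGrp_pair_injective : Function.Injective (ConstGrp.pair R G) := by
  intro z w hzw
  let B2 := (ConstGrp.basis R G).tensorProduct (ConstGrp.basis R G)
  apply B2.repr.injective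
  ext ⟨a, b⟩
  have key : ∀ z : ConstGrp.F R G ⊗[R] ConstGrp.F R G,
      B2.repr z (a, b) = ConstGrp.pair R G z (a, b) := by
    intro z
    induction z using TensorProduct.induction_on with
    | zero => simp
    | tmul x y =>
      rw [Module.Basis.tensorProduct_repr_tmul_apply, ConstGrp.pair_tmul]
      change ((Pi.basisFun R G).repr (y : G → R)) b • ((Pi.basisFun R G).repr (x : G → R)) a =
        x a * y b
      rw [Pi.basisFun_repr, Pi.basisFun_repr, smul_eq_mul, mul_comm]
    | add x y hx hy =>
      rw [map_add, Finsupp.add_apply, hx, hy, map_add, ConstGrp.add_apply]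
  rw [key, key, hzw]

end Pair

section Etale

variable {k : Type u} [Field k] [IsAlgClosed k] {A : Type v} [CommRing A] [HopfAlgebra k A]
  [Module.Finite k A]

theorem nonempty_bialgEquiv_constGrp (ℓ : ℕ) [hℓ : Fact ℓ.Prime]
    (hA : Module.finrank k A = ℓ) (hcard : Nat.card (WithConv (A →ₐ[k] k)) = ℓ) :
    Nonempty (A ≃ₐc[k] ConstGrp.F k (Multiplicative (ZMod ℓ))) := by
  classical
  subst hcard
  haveI : IsCyclic (WithConv (A →ₐ[k] k)) := isCyclic_of_prime_card rfl
  let θ : Multiplicative (ZMod (Nat.card (WithConv (A →ₐ[k] k)))) ≃* WithConv (A →ₐ[k] k) :=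
    zmodCyclicMulEquiv inferInstance
  let 𝒢 : A →ₐ[k] ConstGrp.F k (Multiplicative (ZMod (Nat.card (WithConv (A →ₐ[k] k))))) :=
    { toFun := fun a g => (θ g).ofConv a
      map_one' := by funext g; exact map_one _
      map_mul' := fun a b => by funext g; exact map_mul _ a b
      map_zero' := by funext g; exact map_zero _
      map_add' := fun a b => by funext g; exact map_add _ a b
      commutes' := fun r => by funext g; exact AlgHom.commutes _ r }
  have h𝒢 : ∀ a g, 𝒢 a g = (θ g).ofConv a := fun _ _ => rfl
  have hc1 : (Bialgebra.counitAlgHom k _).comp 𝒢 = Bialgebra.counitAlgHom k A := by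
    ext a
    rw [AlgHom.comp_apply, Bialgebra.counitAlgHom_apply, Bialgebra.counitAlgHom_apply,
      ConstGrp.counit_apply, h𝒢, map_one]
    rfl
  have hpair : ∀ (z : A ⊗[k] A) (g h : Multiplicative (ZMod (Nat.card (WithConv (A →ₐ[k] k))))),
      ConstGrp.pair k _ (Algebra.TensorProduct.map 𝒢 𝒢 z) (g, h) =
        LinearMap.mul' k k (TensorProduct.map (θ g).ofConv.toLinearMap (θ h).ofConv.toLinearMap
          z) := by
    intro z g h
    induction z using TensorProduct.induction_on with
    | zero => simp
    | tmul x y =>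
      rw [Algebra.TensorProduct.map_tmul, ConstGrp.pair_tmul, h𝒢, h𝒢]
      simp
    | add x y hx hy =>
      rw [map_add, map_add, ConstGrp.add_apply, hx, hy, map_add, map_add]
  have hc2 : (Algebra.TensorProduct.map 𝒢 𝒢).comp (Bialgebra.comulAlgHom k A) =
      (Bialgebra.comulAlgHom k _).comp 𝒢 := by
    ext a
    apply constGrp_pair_injective
    funext ⟨g, h⟩
    rw [AlgHom.comp_apply, AlgHom.comp_apply, Bialgebra.comulAlgHom_apply,
      Bialgebra.comulAlgHom_apply, hpair, ConstGrp.pair_comul, h𝒢, map_mul]
    have h1 := congrArg (fun φ : WithConv (A →ₗ[k] k) => φ.ofConv a)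
      (AlgHom.toLinearMap_convMul (θ g) (θ h))
    exact h1.symm
  let F : A →ₐc[k] ConstGrp.F k (Multiplicative (ZMod (Nat.card (WithConv (A →ₐ[k] k))))) :=
    BialgHom.ofAlgHom 𝒢 hc1 hc2
  -- injectivity: the points span the dual
  have hli : LinearIndependent k (fun γ : WithConv (A →ₐ[k] k) =>
      (toConv γ.ofConv.toLinearMap : WithConv (A →ₗ[k] k))) :=
    linearIndependent_points (R := k) (A := A) (fun γ : WithConv (A →ₐ[k] k) => γ.ofConv)
      WithConv.ofConv_injective
  haveI : Fintype (WithConv (A →ₐ[k] k)) := Fintype.ofFinite _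
  have hspan : Submodule.span k (Set.range (fun γ : WithConv (A →ₐ[k] k) =>
      (toConv γ.ofConv.toLinearMap : WithConv (A →ₗ[k] k)))) = ⊤ := by
    refine hli.span_eq_top_of_card_eq_finrank' ?_
    rw [finrank_dual_conv, hA, Nat.card_eq_fintype_card]
  have hinj : Function.Injective F := by
    rw [injective_iff_map_eq_zero]
    intro a ha
    rw [← Module.forall_dual_apply_eq_zero_iff k]
    intro φ
    have hφ : toConv φ ∈ Submodule.span k (Set.range (fun γ : WithConv (A →ₐ[k] k) =>
        (toConv γ.ofConv.toLinearMap : WithConv (A →ₗ[k] k)))) := by rw [hspan]; trivial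
    have key : ∀ ψ ∈ Submodule.span k (Set.range (fun γ : WithConv (A →ₐ[k] k) =>
        (toConv γ.ofConv.toLinearMap : WithConv (A →ₗ[k] k)))), ψ.ofConv a = 0 := by
      intro ψ hψ
      induction hψ using Submodule.span_induction with
      | mem x hx =>
        obtain ⟨γ, rfl⟩ := hx
        obtain ⟨g, rfl⟩ := θ.surjective γ
        have h1 : 𝒢 a g = 0 := by
          have h2 : 𝒢 a = 0 := ha
          rw [h2]; rfl
        exact h1
      | zero => simp
      | add x y _ _ hx hy => rw [WithConv.ofConv_add, LinearMap.add_apply, hx, hy, add_zero]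
      | smul c x _ hx => rw [WithConv.ofConv_smul, LinearMap.smul_apply, hx, smul_zero]
    exact key _ hφ
  have hfr : Module.finrank k A = Module.finrank k
      (ConstGrp.F k (Multiplicative (ZMod (Nat.card (WithConv (A →ₐ[k] k)))))) := by
    rw [hA, Module.finrank_eq_card_basis (ConstGrp.basis k _)]
    simp [ZMod.card]
  have hsurj : Function.Surjective F :=
    (LinearMap.injective_iff_surjective_of_finrank_eq_finrank (f := 𝒢.toLinearMap) hfr).1 hinj
  exact ⟨BialgEquiv.ofBijective F ⟨hinj, hsurj⟩⟩

end Etale

end Groth.Agent.Helper7.FGK
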