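import Mathlib
import Groth.Agent.Helper7.FGK23

/-!
# Classification of group schemes of prime order over an algebraically closed field
-/

namespace Groth.Agent.Helper7.FGK

open TensorProduct WithConv

universe u v

section LocalData

variable {k : Type u} [Field k] {A : Type v} [CommRing A] [HopfAlgebra k A]
  [Module.Finite k A] [IsLocalRing A]

/-- a coordinate and a dual derivation on a local Hopf algebra of dimension `≥ 2` -/
theorem exists_coord_isDer (hA : 2 ≤ Module.finrank k A) :
    ∃ (x : A) (l : A →ₗ[k] k), Coalgebra.counit (R := k) x = 0 ∧ IsDer l ∧ l x = 1 := by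
  classical
  set ε : A →ₐ[k] k := Bialgebra.counitAlgHom k A with hε
  set 𝔪 : Ideal A := RingHom.ker (ε : A →+* k) with h𝔪
  have hnot : ¬ 𝔪 ≤ 𝔪 ^ 2 := by
    intro hle
    have := finrank_eq_one_of_ker_le (k := k) (A := A) (𝔪 ^ 2) le_rfl hle
    omega
  obtain ⟨x, hx𝔪, hx2⟩ := SetLike.not_le_iff_exists.1 hnot
  have hxε : ε x = 0 := hx𝔪
  set U : Submodule k A := (𝔪 ^ 2).restrictScalars k ⊔ Submodule.span k {(1 : A)} with hU
  have hxU : x ∉ U := by
    intro hx
    obtain ⟨m2, hm2, w, hw, hmw⟩ := Submodule.mem_sup.1 hx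
    obtain ⟨c, rfl⟩ := Submodule.mem_span_singleton.1 hw
    have hm2' : m2 ∈ 𝔪 ^ 2 := hm2
    have h1 : ε m2 = 0 := Ideal.pow_le_self two_ne_zero hm2'
    have h2 := congrArg ε hmw
    rw [map_add, h1, map_smul, map_one, hxε] at h2
    simp only [smul_eq_mul, mul_one, zero_add] at h2
    rw [h2, zero_smul, add_zero] at hmw
    exact hx2 (hmw ▸ hm2')
  obtain ⟨l₀, hl₀x, hl₀U⟩ := Submodule.exists_le_ker_of_notMem hxU
  set l : A →ₗ[k] k := (l₀ x)⁻¹ • l₀ with hl
  have hlx : l x = 1 := by
    rw [hl, LinearMap.smul_apply, smul_eq_mul, inv_mul_cancel₀ hl₀x]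
  have hlU : ∀ u ∈ U, l u = 0 := by
    intro u hu
    have : l₀ u = 0 := hl₀U hu
    rw [hl, LinearMap.smul_apply, this, smul_zero]
  have hl_one : l 1 = 0 := hlU 1 (Submodule.mem_sup_right (Submodule.subset_span rfl))
  have hl_sq : ∀ a b : A, ε a = 0 → ε b = 0 → l (a * b) = 0 := by
    intro a b ha hb
    refine hlU _ (Submodule.mem_sup_left ?_)
    change a * b ∈ 𝔪 ^ 2
    rw [pow_two]
    exact Ideal.mul_mem_mul ha hb
  refine ⟨x, l, hxε, ?_, hlx⟩
  intro a b
  have ha : ε (a - algebraMap k A (ε a)) = 0 := by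
    rw [map_sub, AlgHom.commutes]; simp
  have hb : ε (b - algebraMap k A (ε b)) = 0 := by
    rw [map_sub, AlgHom.commutes]; simp
  have h1 := hl_sq _ _ ha hb
  have h2 : (a - algebraMap k A (ε a)) * (b - algebraMap k A (ε b)) =
      a * b - ε a • b - ε b • a + (ε a * ε b) • (1 : A) := by
    simp only [Algebra.smul_def, map_mul]
    ring
  rw [h2, map_add, map_sub, map_sub, map_smul, map_smul, map_smul, hl_one] at h1
  simp only [smul_eq_mul, mul_zero, add_zero] at h1
  change l (a * b) = ε a * l b + ε b * l a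
  linear_combination h1

end LocalData

section LocalCase

variable {k : Type u} [Field k] [IsAlgClosed k] {A : Type v} [CommRing A] [HopfAlgebra k A]
  [Module.Finite k A] [IsLocalRing A]
variable (p : ℕ) [hp : Fact p.Prime] [CharP k p]

/-- an infinitesimal group scheme of order `p` is `μ_p` or `α_p` -/
theorem nonempty_bialgEquiv_of_isLocalRing (hA : Module.finrank k A = p) :
    Nonempty (A ≃ₐc[k] MonoidAlgebra k (Multiplicative (ZMod p))) ∨
      Nonempty (A ≃ₐc[k] AlphaP.A p k) := by
  classical
  have hp2 : 2 ≤ p := hp.out.two_le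
  obtain ⟨x, l, hx, hl, hlx⟩ := exists_coord_isDer (k := k) (A := A) (by rw [hA]; exact hp2)
  have hder := isDer_conv_pow_p p hl
  have hsm := isDer_eq_smul p hA hl hder hx hlx
  set c : k := ((toConv l) ^ p).ofConv x with hc
  have hpow : (toConv l) ^ p = c • toConv l := by
    apply WithConv.ofConv_injective
    rw [hsm]
    rfl
  by_cases hc0 : c = 0
  · right
    rw [hc0, zero_smul] at hpow
    exact nonempty_bialgEquiv_alphaP p hA hl hx hlx hpow
  · left
    obtain ⟨a, ha⟩ := IsAlgClosed.exists_pow_nat_eq c⁻¹ (n := p - 1) (by omega)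
    have ha0 : a ≠ 0 := by
      rintro rfl
      rw [zero_pow (by omega)] at ha
      exact inv_ne_zero hc0 ha.symm
    have hl' : IsDer (a • l) := hl.smul a
    have hx' : Coalgebra.counit (R := k) (a⁻¹ • x) = 0 := by rw [map_smul, hx, smul_zero]
    have hlx' : (a • l) (a⁻¹ • x) = 1 := by
      rw [LinearMap.smul_apply, map_smul, hlx, smul_eq_mul, smul_eq_mul, mul_one,
        mul_inv_cancel₀ ha0]
    have hpow' : (toConv (a • l)) ^ p = toConv (a • l) := by
      have h1 : toConv (a • l) = a • toConv l := rfl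
      rw [h1, smul_pow, hpow, smul_smul]
      congr 1
      have h2 : a ^ p = a ^ (p - 1) * a := by
        rw [← pow_succ]; congr 1; omega
      rw [h2, ha, mul_assoc, mul_comm a c, ← mul_assoc, inv_mul_cancel₀ hc0, one_mul]
    exact nonempty_bialgEquiv_monoidAlgebra p hA hl' hx' hlx' hpow'

end LocalCase

section Main

variable (k : Type u) [Field k] [IsAlgClosed k] (A : Type v) [CommRing A] [HopfAlgebra k A]
  [Module.Finite k A]

/-- a group scheme of prime order is étale with `ℓ` points or infinitesimal in characteristic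
`ℓ` -/
theorem card_points_eq_or_isLocalRing (ℓ : ℕ) (hℓ : ℓ.Prime) (hA : Module.finrank k A = ℓ) :
    Nat.card (WithConv (A →ₐ[k] k)) = ℓ ∨ (IsLocalRing A ∧ CharP k ℓ) := by
  classical
  haveI : IsArtinianRing A := IsArtinianRing.of_finite k A
  obtain ⟨N, hN⟩ := IsArtinianRing.isNilpotent_nilradical (R := A)
  have hcount := finrank_eq_card_mul (k := k) (A := A) N (by rw [hN]; rfl)
  set m := Nat.card (WithConv (A →ₐ[k] k)) with hm
  set ε : A →ₐ[k] k := Bialgebra.counitAlgHom k A with hε
  rw [hA] at hcount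
  rcases (Nat.Prime.eq_one_or_self_of_dvd hℓ m ⟨_, hcount⟩) with h1 | hpm
  · right
    have hsub : Subsingleton (WithConv (A →ₐ[k] k)) := (Nat.card_eq_one_iff_unique.1 h1).1
    have hnil : ∀ x : A, ε x = 0 → IsNilpotent x := by
      intro x hx
      have hjac : x ∈ Ideal.jacobson (⊥ : Ideal A) := by
        rw [Ideal.jacobson, Ideal.mem_sInf]
        rintro M ⟨-, hM⟩
        haveI := hM
        obtain ⟨γ, hγ⟩ := exists_point_ker (k := k) M
        have h2 : toConv γ = (1 : WithConv (A →ₐ[k] k)) := Subsingleton.elim _ _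
        rw [← hγ, RingHom.mem_ker]
        have h3 : γ x = (1 : WithConv (A →ₐ[k] k)).ofConv x := by rw [← h2]
        change γ x = 0
        rw [h3]
        change algebraMap k k (ε x) = 0
        rw [hx, map_zero]
      obtain ⟨n, hn⟩ := IsArtinianRing.isNilpotent_jacobson_bot (R := A)
      refine ⟨n, ?_⟩
      have := Ideal.pow_mem_pow hjac n
      rw [hn] at this
      exact this
    haveI hloc : IsLocalRing A := isLocalRing_of_aug ε hnil
    refine ⟨hloc, ?_⟩
    obtain ⟨c, hc⟩ := CharP.exists k
    obtain ⟨f, hf⟩ := finrank_eq_pow_ringExpChar k A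
    rcases CharP.char_is_prime_or_zero k c with hprime | hzero
    · haveI : Fact c.Prime := ⟨hprime⟩
      haveI : ExpChar k c := ExpChar.prime hprime
      rw [ringExpChar.eq k c, hA] at hf
      have hcp : c = ℓ := by
        rcases Nat.eq_zero_or_pos f with h0 | hpos
        · rw [h0, pow_zero] at hf
          exact absurd hf hℓ.ne_one
        · have hdvd : c ∣ ℓ := hf ▸ dvd_pow_self c hpos.ne'
          rcases (Nat.Prime.eq_one_or_self_of_dvd hℓ c hdvd) with h | h
          · exact absurd h hprime.ne_one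
          · exact h
      subst hcp
      exact hc
    · subst hzero
      haveI : CharZero k := CharP.charP_to_charZero k
      rw [ringExpChar.eq_one k, one_pow, hA] at hf
      exact absurd hf hℓ.ne_one
  · left
    exact hpm

end Main

/-- **Classification of group schemes of prime order over an algebraically closed field of
characteristic `p`.** -/
theorem classification_prime_order (k : Type u) [Field k] [IsAlgClosed k]
    (p : ℕ) [Fact p.Prime] [CharP k p] (A : Type v) [CommRing A] [HopfAlgebra k A]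
    (ℓ : ℕ) [hℓ : Fact ℓ.Prime] (hA : Module.finrank k A = ℓ) :
    (ℓ ≠ p → Nonempty (A ≃ₐc[k] ConstGrp.F k (Multiplicative (ZMod ℓ)))) ∧
      (ℓ = p → Nonempty (A ≃ₐc[k] ConstGrp.F k (Multiplicative (ZMod p))) ∨
        Nonempty (A ≃ₐc[k] MonoidAlgebra k (Multiplicative (ZMod p))) ∨
        Nonempty (A ≃ₐc[k] AlphaP.A p k)) := by
  haveI : Module.Finite k A := Module.finite_of_finrank_pos (by rw [hA]; exact hℓ.out.pos)
  rcases card_points_eq_or_isLocalRing k A ℓ hℓ.out hA with hcard | ⟨hloc, hchar⟩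
  · refine ⟨fun _ => nonempty_bialgEquiv_constGrp ℓ hA hcard, ?_⟩
    intro hlp
    subst hlp
    exact Or.inl (nonempty_bialgEquiv_constGrp ℓ hA hcard)
  · have hlp : ℓ = p := CharP.eq k hchar ‹CharP k p›
    refine ⟨fun hne => absurd hlp hne, ?_⟩
    intro _
    subst hlp
    rcases nonempty_bialgEquiv_of_isLocalRing ℓ hA with h | h
    · exact Or.inr (Or.inl h)
    · exact Or.inr (Or.inr h)

end Groth.Agent.Helper7.FGK
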