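import Mathlib
import Groth.Agent.Helper7.ComodK

set_option autoImplicit false
set_option linter.unusedSectionVars false
universe u v w w'

namespace Groth.Agent.Helper7.Comodule

open TensorProduct HopfRep

section Slices2

variable {K : Type u} [Field K] {M : Type w} {C : Type v}
  [AddCommGroup M] [Module K M] [AddCommGroup C] [Module K C]

/-- an element all of whose right slices lie in `W₁` and left slices lie in `D` comes from
`W₁ ⊗ D` -/
lemma mem_range_map_of_slices (W₁ : Submodule K M) (D : Submodule K C) (x : M ⊗[K] C)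
    (h1 : ∀ g : C →ₗ[K] K, sliceR g x ∈ W₁) (h2 : ∀ l : M →ₗ[K] K, sliceL l x ∈ D) :
    x ∈ LinearMap.range (TensorProduct.map W₁.subtype D.subtype) := by
  obtain ⟨x', hx'⟩ := mem_range_rTensor_of_sliceR W₁ x h1
  have h3 : ∀ l' : W₁ →ₗ[K] K, sliceL l' x' ∈ D := by
    intro l'
    obtain ⟨l, hl⟩ := LinearMap.exists_extend l'
    rw [← hl, ← sliceL_rTensor, hx']
    exact h2 l
  obtain ⟨x'', hx''⟩ := mem_range_lTensor_of_sliceL D x' h3
  refine ⟨x'', ?_⟩
  rw [← hx', ← hx'', ← LinearMap.rTensor_comp_lTensor]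
  rfl

end Slices2

section Coinv

variable (k : Type u) [Field k]
    (A B : Type v) [CommRing A] [CommRing B] [Bialgebra k A] [Bialgebra k B] (π : A →ₐc[k] B)
    (W : Type w) [AddCommGroup W] [Module k W] [HopfRep.Comod k A W]

private lemma auxI (V : Submodule k W)
    (hfix : ∀ v ∈ V, (π.toLinearMap.lTensor W) (HopfRep.Comod.coact (k := k) (A := A) v) =
      v ⊗ₜ[k] (1 : B)) (a : A) (v' : V) :
    LinearMap.lTensor W (LinearMap.rTensor A π.toLinearMap)
      ((TensorProduct.assoc k W A A) (ρ k A W v'.1 ⊗ₜ[k] a)) =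
      v'.1 ⊗ₜ[k] ((1 : B) ⊗ₜ[k] a) := by
  have key : ∀ z : W ⊗[k] A, LinearMap.lTensor W (LinearMap.rTensor A π.toLinearMap)
      ((TensorProduct.assoc k W A A) (z ⊗ₜ[k] a)) =
      (TensorProduct.assoc k W B A) (LinearMap.lTensor W π.toLinearMap z ⊗ₜ[k] a) := by
    intro z
    induction z using TensorProduct.induction_on with
    | zero => simp
    | tmul w c => simp
    | add x y hx hy => simp only [TensorProduct.add_tmul, map_add, hx, hy]
  rw [key]
  have := hfix v'.1 v'.2
  change (π.toLinearMap.lTensor W) (ρ k A W v'.1) = _ at this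
  rw [this]
  simp

private lemma auxJ (V : Submodule k W)
    (hfix : ∀ v ∈ V, (π.toLinearMap.lTensor W) (HopfRep.Comod.coact (k := k) (A := A) v) =
      v ⊗ₜ[k] (1 : B)) (y : V ⊗[k] A) :
    LinearMap.lTensor W (LinearMap.rTensor A π.toLinearMap)
      ((TensorProduct.assoc k W A A) (LinearMap.rTensor A (ρ k A W)
        (LinearMap.rTensor A V.subtype y))) =
      LinearMap.lTensor W (TensorProduct.mk k B A 1) (LinearMap.rTensor A V.subtype y) := by
  induction y using TensorProduct.induction_on with
  | zero => simp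
  | tmul v' a =>
    rw [LinearMap.rTensor_tmul, LinearMap.rTensor_tmul, Submodule.subtype_apply,
      auxI k A B π W V hfix a v']
    simp
  | add x y hx hy => simp only [map_add, hx, hy]

/-- S15117 -/
theorem coact_mem_span_coinv
    (V : Submodule k W) (hV : HopfRep.IsSubcomod (k := k) (A := A) V)
    (hfix : ∀ v ∈ V, (π.toLinearMap.lTensor W) (HopfRep.Comod.coact (k := k) (A := A) v) =
      v ⊗ₜ[k] (1 : B))
    (v : W) (hv : v ∈ V) :
    HopfRep.Comod.coact (k := k) (A := A) v ∈
      Submodule.span k {x : W ⊗[k] A | ∃ w ∈ V, ∃ a : A,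
        (π.toLinearMap.rTensor A) (Coalgebra.comul (R := k) a) = (1 : B) ⊗ₜ[k] a ∧
          x = w ⊗ₜ[k] a} := by
  -- the coinvariant subspace of A
  let A' : Submodule k A :=
    LinearMap.ker (π.toLinearMap.rTensor A ∘ₗ Coalgebra.comul (R := k) (A := A) -
      TensorProduct.mk k B A 1)
  have hA' : ∀ a, a ∈ A' ↔
      (π.toLinearMap.rTensor A) (Coalgebra.comul (R := k) a) = (1 : B) ⊗ₜ[k] a := by
    intro a
    simp only [A', LinearMap.mem_ker, LinearMap.sub_apply, LinearMap.coe_comp,
      Function.comp_apply, TensorProduct.mk_apply, sub_eq_zero]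
  -- the twisted coaction identity
  have hid : LinearMap.lTensor W (π.toLinearMap.rTensor A ∘ₗ Coalgebra.comul (R := k) (A := A))
      (ρ k A W v) = LinearMap.lTensor W (TensorProduct.mk k B A 1) (ρ k A W v) := by
    obtain ⟨y, hy⟩ := hV v hv
    change LinearMap.rTensor A V.subtype y = ρ k A W v at hy
    rw [LinearMap.lTensor_comp, LinearMap.coe_comp, Function.comp_apply]
    have hco := coassoc_apply (R := k) (C := A) (V := W) v
    change _ = LinearMap.lTensor W (Coalgebra.comul (R := k) (A := A)) (ρ k A W v) at hco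
    rw [← hco, ← hy]
    exact auxJ k A B π W V hfix y
  have hmem : ρ k A W v ∈ LinearMap.range (TensorProduct.map V.subtype A'.subtype) := by
    apply mem_range_map_of_slices
    · intro g
      exact act_mem_of_isSubcomod hV g hv
    · intro l
      rw [hA', ← LinearMap.comp_apply, ← sliceL_lTensor, hid, sliceL_lTensor]
      rfl
  obtain ⟨z, hz⟩ := hmem
  change _ = ρ k A W v at hz
  change ρ k A W v ∈ _
  rw [← hz]
  clear hz
  induction z using TensorProduct.induction_on with
  | zero => simp
  | tmul w a =>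
    rw [TensorProduct.map_tmul]
    exact Submodule.subset_span ⟨w.1, w.2, a.1, (hA' a.1).1 a.2, rfl⟩
  | add x y hx hy =>
    rw [map_add]
    exact Submodule.add_mem _ hx hy

end Coinv

end Groth.Agent.Helper7.Comodule
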