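import Mathlib
import Groth.Agent.Helper7.ComodL

/-! Linear algebra for the coradical filtration: annihilators in tensor products. -/

set_option autoImplicit false
universe u v

open TensorProduct

namespace Groth.Agent.Helper7.UnipFilt

open Groth.Agent.Helper7.Comodule

section LinAlg

variable {k : Type u} [Field k] {A : Type v} [AddCommGroup A] [Module k A]

/-- annihilator in `A` of a space of functionals -/
abbrev perp (X : Submodule k (Module.Dual k A)) : Submodule k A := X.dualCoannihilator

lemma mem_perp {X : Submodule k (Module.Dual k A)} {a : A} :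
    a ∈ perp X ↔ ∀ f ∈ X, f a = 0 := Submodule.mem_dualCoannihilator _

lemma perp_anti {X Y : Submodule k (Module.Dual k A)} (h : X ≤ Y) : perp Y ≤ perp X :=
  fun _ ha => mem_perp.2 fun f hf => mem_perp.1 ha f (h hf)

lemma perp_top : perp (⊤ : Submodule k (Module.Dual k A)) = ⊥ := by
  rw [eq_bot_iff]
  intro a ha
  rw [Submodule.mem_bot]
  exact (Module.forall_dual_apply_eq_zero_iff k a).1 fun f => mem_perp.1 ha f trivial

/-- `(X ⊗ Y)^⊥ = X^⊥ ⊗ A + A ⊗ Y^⊥` -/
theorem mem_sup_of_forall_eq_zero (X Y : Submodule k (Module.Dual k A)) (t : A ⊗[k] A)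
    (h : ∀ f ∈ X, ∀ g ∈ Y, LinearMap.mul' k k (TensorProduct.map f g t) = 0) :
    t ∈ LinearMap.range ((perp X).subtype.rTensor A) ⊔
      LinearMap.range ((perp Y).subtype.lTensor A) := by
  have hker := TensorProduct.map_ker (LinearMap.exact_subtype_mkQ (perp X))
    (Submodule.mkQ_surjective (perp X)) (LinearMap.exact_subtype_mkQ (perp Y))
    (Submodule.mkQ_surjective (perp Y))
  rw [sup_comm, ← hker, LinearMap.mem_ker]
  set t' := TensorProduct.map (perp X).mkQ (perp Y).mkQ t with ht'
  -- functionals descend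
  have hX : ∀ f ∈ X, perp X ≤ LinearMap.ker f := fun f hf a ha => mem_perp.1 ha f hf
  have hY : ∀ g ∈ Y, perp Y ≤ LinearMap.ker g := fun g hg a ha => mem_perp.1 ha g hg
  -- step 1: left slices by `X` vanish
  have h1 : ∀ f (hf : f ∈ X), sliceL ((perp X).liftQ f (hX f hf)) t' = 0 := by
    intro f hf
    obtain ⟨b, hb⟩ := Submodule.mkQ_surjective (perp Y) (sliceL ((perp X).liftQ f (hX f hf)) t')
    have hbY : b ∈ perp Y := by
      rw [mem_perp]
      intro g hg
      have e1 : g b = ((perp Y).liftQ g (hY g hg)) ((perp Y).mkQ b) := by simp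
      rw [e1, hb, ht']
      have e2 : ∀ s : A ⊗[k] A, ((perp Y).liftQ g (hY g hg))
          (sliceL ((perp X).liftQ f (hX f hf)) (TensorProduct.map (perp X).mkQ (perp Y).mkQ s)) =
          LinearMap.mul' k k (TensorProduct.map f g s) := by
        intro s
        induction s using TensorProduct.induction_on with
        | zero => simp
        | tmul x y => simp
        | add x y hx hy => simp only [map_add, hx, hy]
      rw [e2]
      exact h f hf g hg
    rw [← hb]
    exact (Submodule.Quotient.mk_eq_zero _).2 hbY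
  -- step 2: right slices vanish
  apply eq_zero_of_sliceR
  intro ψ
  obtain ⟨a, ha⟩ := Submodule.mkQ_surjective (perp X) (sliceR ψ t')
  have haX : a ∈ perp X := by
    rw [mem_perp]
    intro f hf
    have e1 : f a = ((perp X).liftQ f (hX f hf)) ((perp X).mkQ a) := by simp
    rw [e1, ha]
    have e2 : ∀ s : (A ⧸ perp X) ⊗[k] (A ⧸ perp Y), ((perp X).liftQ f (hX f hf)) (sliceR ψ s) =
        ψ (sliceL ((perp X).liftQ f (hX f hf)) s) := by
      intro s
      induction s using TensorProduct.induction_on with
      | zero => simp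
      | tmul x y => simp [mul_comm]
      | add x y hx hy => simp only [map_add, hx, hy]
    rw [e2, h1 f hf, map_zero]
  rw [← ha]
  exact (Submodule.Quotient.mk_eq_zero _).2 haX

/-- `X ⊗ A ∩ A ⊗ Y = X ⊗ Y` -/
theorem mem_range_map_of_mem_inf (X Y : Submodule k A) (t : A ⊗[k] A)
    (h1 : t ∈ LinearMap.range (X.subtype.rTensor A)) (h2 : t ∈ LinearMap.range (Y.subtype.lTensor A)) :
    t ∈ LinearMap.range (TensorProduct.map X.subtype Y.subtype) := by
  apply mem_range_map_of_slices
  · intro g
    obtain ⟨s, rfl⟩ := h1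
    rw [sliceR_rTensor]
    exact Submodule.coe_mem _
  · intro l
    obtain ⟨s, rfl⟩ := h2
    rw [sliceL_lTensor]
    exact Submodule.coe_mem _

end LinAlg

end Groth.Agent.Helper7.UnipFilt
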