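import Mathlib
import Groth.Agent.Helper7.UF1

/-! Linear algebra for the coradical filtration: the chain lemma. -/

set_option autoImplicit false
universe u v

open TensorProduct

namespace Groth.Agent.Helper7.UnipFilt

section Chain

variable {k : Type u} [Field k] {A : Type v} [AddCommGroup A] [Module k A]

lemma range_rTensor_mono' {X X' : Submodule k A} (h : X ≤ X') :
    LinearMap.range (X.subtype.rTensor A) ≤ LinearMap.range (X'.subtype.rTensor A) := by
  rintro _ ⟨t, rfl⟩
  refine ⟨(Submodule.inclusion h).rTensor A t, ?_⟩
  rw [← LinearMap.comp_apply, ← LinearMap.rTensor_comp]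
  rfl

lemma range_lTensor_mono' {X X' : Submodule k A} (h : X ≤ X') :
    LinearMap.range (X.subtype.lTensor A) ≤ LinearMap.range (X'.subtype.lTensor A) := by
  rintro _ ⟨t, rfl⟩
  refine ⟨(Submodule.inclusion h).lTensor A t, ?_⟩
  rw [← LinearMap.comp_apply, ← LinearMap.lTensor_comp]
  rfl

lemma range_map_le_rTensor (X Y : Submodule k A) :
    LinearMap.range (TensorProduct.map X.subtype Y.subtype) ≤
      LinearMap.range (X.subtype.rTensor A) := by
  rintro _ ⟨t, rfl⟩
  refine ⟨Y.subtype.lTensor X t, ?_⟩
  rw [← LinearMap.comp_apply, LinearMap.rTensor_comp_lTensor]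

lemma range_rTensor_bot {X : Submodule k A} (h : X = ⊥) :
    LinearMap.range (X.subtype.rTensor A) = ⊥ := by
  subst h
  rw [eq_bot_iff]
  rintro _ ⟨t, rfl⟩
  rw [Submodule.mem_bot]
  induction t using TensorProduct.induction_on with
  | zero => simp
  | tmul x a =>
    have : (x : A) = 0 := (Submodule.mem_bot k).1 x.2
    simp [this]
  | add x y hx hy => rw [map_add, hx, hy, add_zero]

lemma range_lTensor_bot {X : Submodule k A} (h : X = ⊥) :
    LinearMap.range (X.subtype.lTensor A) = ⊥ := by
  subst h
  rw [eq_bot_iff]
  rintro _ ⟨t, rfl⟩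
  rw [Submodule.mem_bot]
  induction t using TensorProduct.induction_on with
  | zero => simp
  | tmul a x =>
    have : (x : A) = 0 := (Submodule.mem_bot k).1 x.2
    simp [this]
  | add x y hx hy => rw [map_add, hx, hy, add_zero]

theorem chain (P : ℕ → Submodule k A) (hmono : Monotone P) (h0 : P 0 = ⊥) (n : ℕ) (t : A ⊗[k] A)
    (h : ∀ i ≤ n, t ∈ LinearMap.range ((P i).subtype.rTensor A) ⊔
      LinearMap.range ((P (n - i)).subtype.lTensor A)) :
    t ∈ ⨆ i ∈ Finset.range n,
      LinearMap.range (TensorProduct.map (P (i + 1)).subtype (P (n - i)).subtype) := by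
  set R : ℕ → Submodule k (A ⊗[k] A) := fun i =>
    LinearMap.range (TensorProduct.map (P (i + 1)).subtype (P (n - i)).subtype) with hR
  have key : ∀ j ≤ n, t ∈ (⨆ i ∈ Finset.range j, R i) ⊔
      LinearMap.range ((P (n - j)).subtype.lTensor A) := by
    intro j
    induction j with
    | zero =>
      intro _
      have := h 0 (Nat.zero_le n)
      rw [range_rTensor_bot h0, bot_sup_eq] at this
      exact Submodule.mem_sup_right this
    | succ j ih =>
      intro hj
      obtain ⟨s, hs, u, hu, hsu⟩ := Submodule.mem_sup.1 (ih (Nat.le_of_succ_le hj))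
      obtain ⟨v, hv, w, hw, hvw⟩ := Submodule.mem_sup.1 (h (j + 1) hj)
      have hs' : s ∈ LinearMap.range ((P (j + 1)).subtype.rTensor A) := by
        have hle : (⨆ i ∈ Finset.range j, R i) ≤
            LinearMap.range ((P (j + 1)).subtype.rTensor A) := by
          refine iSup₂_le fun i hi => ?_
          refine le_trans (range_map_le_rTensor _ _) (range_rTensor_mono' (hmono ?_))
          have := Finset.mem_range.1 hi
          omega
        exact hle hs
      have hw' : w ∈ LinearMap.range ((P (n - j)).subtype.lTensor A) :=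
        range_lTensor_mono' (hmono (show n - (j + 1) ≤ n - j by omega)) hw
      have hd1 : u - w ∈ LinearMap.range ((P (n - j)).subtype.lTensor A) := sub_mem hu hw'
      have hd2 : u - w ∈ LinearMap.range ((P (j + 1)).subtype.rTensor A) := by
        have : u - w = v - s := by
          have e : s + u = v + w := hsu.trans hvw.symm
          have e2 : u = v + w - s := by rw [← e]; abel
          rw [e2]; abel
        rw [this]
        exact sub_mem hv hs'
      have hd : u - w ∈ R j := mem_range_map_of_mem_inf _ _ _ hd2 hd1
      have ht : t = (s + (u - w)) + w := by rw [← hsu]; abel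
      rw [ht]
      refine Submodule.add_mem_sup ?_ hw
      refine add_mem ?_ ?_
      · have hle : (⨆ i ∈ Finset.range j, R i) ≤ ⨆ i ∈ Finset.range (j + 1), R i :=
          biSup_mono fun i hi => Finset.mem_range.2
            (Nat.lt_succ_of_lt (Finset.mem_range.1 hi))
        exact hle hs
      · exact (le_iSup₂ (f := fun i (_ : i ∈ Finset.range (j + 1)) => R i) j
          (Finset.self_mem_range_succ j)) hd
  have := key n le_rfl
  rw [Nat.sub_self, range_lTensor_bot h0, sup_bot_eq] at this
  exact this

end Chain

end Groth.Agent.Helper7.UnipFilt
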