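import Mathlib
import Groth.Prelude.Def_HopfRep
import Groth.Agent.Helper2.SocleFilt
import Groth.Agent.Helper7.UF2

/-! The coradical-type filtration `P n = (J^n)^⊥` of a bialgebra over a field. -/

set_option autoImplicit false
universe u v

open TensorProduct

namespace Groth.Agent.Helper7.UnipFilt

open Groth.Agent.Helper7.Comodule Groth.Agent.Helper2.ComodGen Groth.Agent.Helper2.SocleFilt

section Conv

variable {k : Type u} [Field k] {A : Type v} [CommRing A] [Bialgebra k A]

lemma cv_eq (f g : A →ₗ[k] k) : cv f g = (Dual.of f * Dual.of g).fn := rfl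

lemma cv_assoc (f g h : A →ₗ[k] k) : cv (cv f g) h = cv f (cv g h) := by
  rw [cv_eq, cv_eq, cv_eq, cv_eq, Dual.of_fn, Dual.of_fn, mul_assoc]

lemma cv_add_left (f f' g : A →ₗ[k] k) : cv (f + f') g = cv f g + cv f' g := by
  simp only [cv, TensorProduct.map_add_left, LinearMap.add_comp, LinearMap.comp_add]

lemma cv_add_right (f g g' : A →ₗ[k] k) : cv f (g + g') = cv f g + cv f g' := by
  simp only [cv, TensorProduct.map_add_right, LinearMap.add_comp, LinearMap.comp_add]

lemma cv_smul_left (c : k) (f g : A →ₗ[k] k) : cv (c • f) g = c • cv f g := by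
  simp only [cv, TensorProduct.map_smul_left, LinearMap.smul_comp, LinearMap.comp_smul]

lemma cv_smul_right (c : k) (f g : A →ₗ[k] k) : cv f (c • g) = c • cv f g := by
  simp only [cv, TensorProduct.map_smul_right, LinearMap.smul_comp, LinearMap.comp_smul]

lemma cv_zero_left (g : A →ₗ[k] k) : cv (0 : A →ₗ[k] k) g = 0 := by
  have := cv_smul_left (0 : k) (0 : A →ₗ[k] k) g
  simpa using this

lemma cv_zero_right (f : A →ₗ[k] k) : cv f (0 : A →ₗ[k] k) = 0 := by
  have := cv_smul_right (0 : k) f (0 : A →ₗ[k] k)
  simpa using this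

lemma cv_apply (f g : A →ₗ[k] k) (a : A) :
    cv f g a = LinearMap.mul' k k (TensorProduct.map f g (CoalgebraStruct.comul (R := k) a)) := rfl

lemma cv_apply_one (f g : A →ₗ[k] k) : cv f g 1 = f 1 * g 1 := by
  rw [cv_apply, Bialgebra.comul_one, Algebra.TensorProduct.one_def, TensorProduct.map_tmul,
    LinearMap.mul'_apply]

lemma cv_counit_left (g : A →ₗ[k] k) : cv (CoalgebraStruct.counit (R := k) (A := A)) g = g := by
  have h : Dual.of (CoalgebraStruct.counit (R := k) (A := A)) = (1 : Dual k A) := by
    rw [← Dual.of_fn (1 : Dual k A), Dual.fn_one]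
  rw [cv_eq, h, one_mul, Dual.fn_of]

lemma cv_apply_eq_RopV (f g : A →ₗ[k] k) (a : A) : cv f g a = f (RopV (V := A) g a) := by
  have key : ∀ t : A ⊗[k] A, LinearMap.mul' k k (TensorProduct.map f g t) =
      f ((TensorProduct.rid k A) (g.lTensor A t)) := by
    intro t
    induction t using TensorProduct.induction_on with
    | zero => simp
    | tmul x y => simp [mul_comm]
    | add x y hx hy => simp only [map_add, hx, hy]
  rw [cv_apply, key]
  rfl

end Conv

end Groth.Agent.Helper7.UnipFilt
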