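import Mathlib
import Groth.Prelude.Def_HopfRep
import Groth.Agent.Helper2.SocleFilt
import Groth.Agent.Helper7.UF3

/-! The filtration `P n = (J^n)^⊥` of a bialgebra over a field and its properties. -/

set_option autoImplicit false
universe u v

open TensorProduct

namespace Groth.Agent.Helper7.UnipFilt

open Groth.Agent.Helper7.Comodule Groth.Agent.Helper2.ComodGen Groth.Agent.Helper2.SocleFilt

section Filt

variable (k : Type u) [Field k] (A : Type v) [CommRing A] [Bialgebra k A]

/-- augmentation ideal of the dual algebra -/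
def J : Submodule k (Module.Dual k A) where
  carrier := {f | f 1 = 0}
  add_mem' := by
    intro f g hf hg
    simp only [Set.mem_ofPred_eq] at hf hg ⊢
    rw [LinearMap.add_apply, hf, hg, add_zero]
  zero_mem' := rfl
  smul_mem' := by
    intro c f hf
    simp only [Set.mem_ofPred_eq] at hf ⊢
    rw [LinearMap.smul_apply, hf, smul_zero]

/-- powers of the augmentation ideal -/
noncomputable def JP : ℕ → Submodule k (Module.Dual k A)
  | 0 => ⊤
  | (n + 1) => Submodule.span k {h | ∃ f ∈ JP n, ∃ g ∈ J k A, h = cv f g}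

/-- the annihilator filtration -/
noncomputable def P (n : ℕ) : Submodule k A := perp (JP k A n)

variable {k A}

lemma mem_J {f : Module.Dual k A} : f ∈ J k A ↔ f 1 = 0 := Iff.rfl

lemma cv_mem_J_left {g : A →ₗ[k] k} (hg : g ∈ J k A) (h : A →ₗ[k] k) : cv g h ∈ J k A := by
  rw [mem_J, cv_apply_one, mem_J.1 hg, zero_mul]

lemma JP_cv_right (n : ℕ) {f : A →ₗ[k] k} (hf : f ∈ JP k A n) (g : A →ₗ[k] k) :
    cv f g ∈ JP k A n := by
  induction n generalizing f g with
  | zero => trivial
  | succ n ih =>
    revert g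
    refine Submodule.span_induction (p := fun f _ => ∀ g : A →ₗ[k] k, cv f g ∈ JP k A (n + 1))
      ?_ ?_ ?_ ?_ hf
    · rintro _ ⟨f', hf', g', hg', rfl⟩ g
      rw [cv_assoc]
      exact Submodule.subset_span ⟨f', hf', cv g' g, cv_mem_J_left hg' g, rfl⟩
    · intro g
      rw [cv_zero_left]
      exact zero_mem _
    · intro x y _ _ hx hy g
      rw [cv_add_left]
      exact add_mem (hx g) (hy g)
    · intro c x _ hx g
      rw [cv_smul_left]
      exact Submodule.smul_mem _ c (hx g)

lemma JP_succ_le (n : ℕ) : JP k A (n + 1) ≤ JP k A n := by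
  refine Submodule.span_le.2 ?_
  rintro _ ⟨f, hf, g, _, rfl⟩
  exact JP_cv_right n hf g

lemma JP_antitone : Antitone (JP k A) := antitone_nat_of_succ_le JP_succ_le

lemma JP_cv (i j : ℕ) {f g : A →ₗ[k] k} (hf : f ∈ JP k A i) (hg : g ∈ JP k A j) :
    cv f g ∈ JP k A (i + j) := by
  induction j generalizing g with
  | zero => exact JP_cv_right i hf g
  | succ j ih =>
    refine Submodule.span_induction (p := fun g _ => cv f g ∈ JP k A (i + (j + 1)))
      ?_ ?_ ?_ ?_ hg
    · rintro _ ⟨g', hg', g'', hg'', rfl⟩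
      rw [← cv_assoc]
      exact Submodule.subset_span ⟨cv f g', ih hg', g'', hg'', rfl⟩
    · rw [cv_zero_right]
      exact zero_mem _
    · intro x y _ _ hx hy
      rw [cv_add_right]
      exact add_mem hx hy
    · intro c x _ hx
      rw [cv_smul_right]
      exact Submodule.smul_mem _ c hx

lemma P_zero : P k A 0 = ⊥ := perp_top

lemma P_mono : Monotone (P k A) := fun _ _ h => perp_anti (JP_antitone h)

lemma one_mem_P_one : (1 : A) ∈ P k A 1 := by
  rw [P, mem_perp]
  intro h hh
  refine Submodule.span_induction (p := fun h _ => h (1 : A) = 0) ?_ ?_ ?_ ?_ hh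
  · rintro _ ⟨f, _, g, hg, rfl⟩
    rw [cv_apply_one, mem_J.1 hg, mul_zero]
  · rfl
  · intro x y _ _ hx hy
    rw [LinearMap.add_apply, hx, hy, add_zero]
  · intro c x _ hx
    rw [LinearMap.smul_apply, hx, smul_zero]

lemma P_one : P k A 1 = Submodule.span k {(1 : A)} := by
  apply le_antisymm
  · intro a ha
    rw [← Subspace.forall_mem_dualAnnihilator_apply_eq_zero_iff]
    intro φ hφ
    have h1 : φ 1 = 0 := (Submodule.mem_dualAnnihilator φ).1 hφ 1 (Submodule.mem_span_singleton_self 1)
    have h2 : φ ∈ JP k A 1 := by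
      refine Submodule.subset_span ⟨CoalgebraStruct.counit (R := k) (A := A), trivial, φ, h1, ?_⟩
      rw [cv_counit_left]
    exact mem_perp.1 ha φ h2
  · rw [Submodule.span_le, Set.singleton_subset_iff]
    exact one_mem_P_one

lemma Z_le_P (r : ℕ) : Z k A A r ≤ P k A r := by
  induction r with
  | zero => rw [Z_zero]; exact bot_le
  | succ r ih =>
    intro a ha
    rw [P, mem_perp]
    intro h hh
    refine Submodule.span_induction (p := fun h _ => h a = 0) ?_ ?_ ?_ ?_ hh
    · rintro _ ⟨f, hf, g, hg, rfl⟩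
      rw [cv_apply_eq_RopV]
      have h1 := (mem_Z_succ_iff r a).1 ha g
      rw [mem_J.1 hg, zero_smul, sub_zero] at h1
      exact mem_perp.1 (ih h1) f hf
    · rfl
    · intro x y _ _ hx hy
      rw [LinearMap.add_apply, hx, hy, add_zero]
    · intro c x _ hx
      rw [LinearMap.smul_apply, hx, smul_zero]

theorem comul_P (n : ℕ) (a : A) (ha : a ∈ P k A n) :
    CoalgebraStruct.comul (R := k) a ∈ ⨆ i ∈ Finset.range n,
      LinearMap.range (TensorProduct.map (P k A (i + 1)).subtype (P k A (n - i)).subtype) := by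
  refine chain (P k A) P_mono P_zero n _ ?_
  intro i hi
  refine mem_sup_of_forall_eq_zero (JP k A i) (JP k A (n - i)) _ ?_
  intro f hf g hg
  rw [← cv_apply]
  have h1 := JP_cv i (n - i) hf hg
  rw [Nat.add_sub_cancel' hi] at h1
  exact mem_perp.1 ha _ h1

end Filt

end Groth.Agent.Helper7.UnipFilt
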