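import Mathlib
import Groth.Prelude.Def_HopfRep
import Groth.Agent.Helper2.SocleFilt
import Groth.Agent.Helper7.UF4

/-! Unipotent iff coconnected filtration. -/

set_option autoImplicit false
universe u v

open TensorProduct

namespace Groth.Agent.Helper7.UnipFilt

open Groth.Agent.Helper7.Comodule Groth.Agent.Helper2.ComodGen Groth.Agent.Helper2.SocleFilt

section Conv

variable {k : Type u} [Field k] {A : Type v} [CommRing A] [Bialgebra k A]

/-- `x ⊗ y ↦ x ⊗ (y - ε(y) 1)` -/
noncomputable def Tmap : A ⊗[k] A →ₗ[k] A ⊗[k] A :=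
  (LinearMap.id - (Algebra.linearMap k A) ∘ₗ (CoalgebraStruct.counit (R := k) (A := A))).lTensor A

lemma Tmap_comul (a : A) :
    Tmap (CoalgebraStruct.comul (R := k) a) = redCoact k A A a := by
  rw [Tmap, LinearMap.lTensor_sub, LinearMap.sub_apply, LinearMap.lTensor_id, LinearMap.id_apply,
    LinearMap.lTensor_comp, LinearMap.comp_apply]
  have h := LinearMap.congr_fun (Coalgebra.lTensor_counit_comp_comul (R := k) (A := A)) a
  simp only [LinearMap.comp_apply, LinearMap.flip_apply, TensorProduct.mk_apply] at h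
  rw [h, LinearMap.lTensor_tmul, Algebra.linearMap_apply, map_one, redCoact_apply]
  rfl

lemma Tmap_mem (X Y : Submodule k A) (t : A ⊗[k] A)
    (ht : t ∈ LinearMap.range (TensorProduct.map X.subtype Y.subtype)) :
    Tmap t ∈ LinearMap.range (X.subtype.rTensor A) := by
  obtain ⟨s, rfl⟩ := ht
  refine ⟨((LinearMap.id - (Algebra.linearMap k A) ∘ₗ
    (CoalgebraStruct.counit (R := k) (A := A))) ∘ₗ Y.subtype).lTensor X s, ?_⟩
  induction s using TensorProduct.induction_on with
  | zero => simp
  | tmul x y => simp [Tmap, TensorProduct.tmul_sub]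
  | add x y hx hy => simp only [map_add, hx, hy]

lemma Tmap_eq_zero (X Y : Submodule k A) (hY : Y = Submodule.span k {(1 : A)}) (t : A ⊗[k] A)
    (ht : t ∈ LinearMap.range (TensorProduct.map X.subtype Y.subtype)) :
    Tmap t = 0 := by
  obtain ⟨s, rfl⟩ := ht
  induction s using TensorProduct.induction_on with
  | zero => simp
  | tmul x y =>
    have hy : (y : A) ∈ Submodule.span k {(1 : A)} := hY ▸ y.2
    obtain ⟨c, hc⟩ := Submodule.mem_span_singleton.1 hy
    have : (y : A) - algebraMap k A (CoalgebraStruct.counit (R := k) (A := A) (y : A)) = 0 := by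
      rw [← hc, map_smul, Bialgebra.counit_one, smul_eq_mul, mul_one, Algebra.algebraMap_eq_smul_one,
        sub_self]
    have e : Tmap (TensorProduct.map X.subtype Y.subtype (x ⊗ₜ[k] y)) =
        (x : A) ⊗ₜ[k] ((y : A) -
          algebraMap k A (CoalgebraStruct.counit (R := k) (A := A) (y : A))) := by
      simp [Tmap, TensorProduct.tmul_sub]
    rw [e, this, TensorProduct.tmul_zero]
  | add x y hx hy => simp only [map_add, hx, hy, add_zero]

theorem le_Z_of_filtration (C : ℕ → Submodule k A) (hmono : Monotone C)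
    (h0 : C 0 = Submodule.span k {(1 : A)})
    (hΔ : ∀ r, Submodule.map (CoalgebraStruct.comul (R := k) (A := A)) (C r) ≤
      ⨆ i ∈ Finset.range (r + 1), LinearMap.range (TensorProduct.mapIncl (C i) (C (r - i))))
    (r : ℕ) : C r ≤ Z k A A (r + 1) := by
  induction r with
  | zero =>
    rw [h0, Submodule.span_le, Set.singleton_subset_iff, SetLike.mem_coe, mem_Z_one]
    show CoalgebraStruct.comul (R := k) (1 : A) = (1 : A) ⊗ₜ[k] (1 : A)
    rw [Bialgebra.comul_one, Algebra.TensorProduct.one_def]
  | succ r ih =>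
    intro a ha
    rw [mem_Z_succ, ← Tmap_comul]
    have h1 := hΔ (r + 1) (Submodule.mem_map_of_mem ha)
    have hle : (⨆ i ∈ Finset.range (r + 1 + 1),
        LinearMap.range (TensorProduct.mapIncl (C i) (C (r + 1 - i)))) ≤
        (LinearMap.range ((Z k A A (r + 1)).subtype.rTensor A)).comap Tmap := by
      refine iSup₂_le fun i hi => ?_
      intro t ht
      rw [Submodule.mem_comap]
      have hi' := Finset.mem_range.1 hi
      by_cases hir : i = r + 1
      · have e : r + 1 - i = 0 := by omega
        rw [e] at ht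
        rw [Tmap_eq_zero (C i) (C 0) h0 t ht]
        exact zero_mem _
      · have h2 := Tmap_mem (C i) (C (r + 1 - i)) t ht
        have h3 : C i ≤ Z k A A (r + 1) := le_trans (hmono (by omega)) ih
        exact range_rTensor_mono' h3 h2
    exact hle h1

end Conv

theorem isUnipotent_iff_exists_filtration (k : Type u) [Field k] (A : Type v) [CommRing A]
    [HopfAlgebra k A] :
    HopfRep.IsUnipotent k A ↔
      ∃ C : ℕ → Submodule k A, Monotone C ∧ C 0 = Submodule.span k {(1 : A)} ∧ (⨆ r, C r) = ⊤ ∧
        ∀ r, Submodule.map (CoalgebraStruct.comul (R := k) (A := A)) (C r) ≤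
          ⨆ i ∈ Finset.range (r + 1),
            LinearMap.range (TensorProduct.mapIncl (C i) (C (r - i))) := by
  constructor
  · intro hU
    refine ⟨fun r => P k A (r + 1), fun a b hab => P_mono (Nat.succ_le_succ hab), P_one, ?_, ?_⟩
    · rw [eq_top_iff]
      intro a _
      obtain ⟨r, hr⟩ := exists_mem_Z_of_isUnipotent hU a
      exact Submodule.mem_iSup_of_mem r (P_mono (Nat.le_succ r) (Z_le_P r hr))
    · intro r
      rintro _ ⟨a, ha, rfl⟩
      have h1 := comul_P (r + 1) a ha
      have hle : (⨆ i ∈ Finset.range (r + 1), LinearMap.range (TensorProduct.map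
          (P k A (i + 1)).subtype (P k A (r + 1 - i)).subtype)) ≤
          ⨆ i ∈ Finset.range (r + 1), LinearMap.range (TensorProduct.mapIncl
            (P k A (i + 1)) (P k A (r - i + 1))) := by
        refine iSup₂_le fun i hi => ?_
        refine le_iSup₂_of_le i hi ?_
        have hi' := Finset.mem_range.1 hi
        have e : r + 1 - i = r - i + 1 := by omega
        rw [e]
        try exact le_rfl
      exact hle h1
  · rintro ⟨C, hmono, h0, htop, hΔ⟩
    apply isUnipotent_of_forall_mem_Z
    intro a
    have ha : a ∈ ⨆ r, C r := htop ▸ Submodule.mem_top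
    obtain ⟨r, hr⟩ := (Submodule.mem_iSup_of_directed C hmono.directed_le).1 ha
    exact ⟨r + 1, le_Z_of_filtration C hmono h0 hΔ r hr⟩

end Groth.Agent.Helper7.UnipFilt
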