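import Mathlib

namespace Groth.Agent.Helper7.LocFin

set_option linter.unusedSectionVars false

section core

variable {A : Type*} [CommRing A] [IsNoetherianRing A] (f : A)
  {P : Type*} [AddCommGroup P] [Module A P]

/-- the submodule of elements sent into `B` by `f ^ n` -/
def T (B : Submodule A P) (n : ℕ) : Submodule A P :=
  B.comap ((f ^ n) • (LinearMap.id : P →ₗ[A] P))

lemma mem_T (B : Submodule A P) (n : ℕ) (z : P) : z ∈ T f B n ↔ f ^ n • z ∈ B := Iff.rfl

lemma T_mono (B : Submodule A P) (n : ℕ) : T f B n ≤ T f B (n + 1) := by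
  intro z hz
  rw [mem_T] at hz ⊢
  rw [pow_succ', mul_smul]
  exact B.smul_mem _ hz

lemma T_fg (hf : Function.Injective (fun z : P => f • z)) (B : Submodule A P) (hB : B.FG) (n : ℕ) :
    (T f B n).FG := by
  have hinj : Function.Injective ((f ^ n) • (LinearMap.id : P →ₗ[A] P)) := by
    induction n with
    | zero => intro x y h; simpa using h
    | succ n ih =>
      intro x y h
      apply ih
      apply hf
      simp only [LinearMap.smul_apply, LinearMap.id_apply] at h ⊢
      rw [← mul_smul, ← mul_smul, ← pow_succ']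
      exact h
  apply Submodule.fg_of_fg_map_injective _ hinj
  apply Submodule.FG.of_le hB
  rintro _ ⟨z, hz, rfl⟩
  exact hz

theorem exists_pow_smul_mem (hf : Function.Injective (fun z : P => f • z))
    (B : Submodule A P) (hB : B.FG)
    (h1 : ∀ z : P, ∃ n : ℕ, f ^ n • z ∈ B)
    (h3 : ∀ m : Ideal A, m.IsMaximal → ∃ n : ℕ, ∀ x : P, ∃ s : A, s ∉ m ∧ s • f ^ n • x ∈ B) :
    ∃ N : ℕ, ∀ z : P, f ^ N • z ∈ B := by
  classical
  -- the ideals `I n = (T n : T (n+1))`
  let I : ℕ → Ideal A := fun n => (T f B n).colon (T f B (n + 1) : Set P)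
  have hI : ∀ n a, a ∈ I n ↔ ∀ z, f ^ (n + 1) • z ∈ B → f ^ n • a • z ∈ B := by
    intro n a
    simp only [I, Submodule.mem_colon, SetLike.mem_coe, mem_T]
  have hmono : Monotone I := by
    apply monotone_nat_of_le_succ
    intro n a ha
    rw [hI] at ha ⊢
    intro z hz
    have h2 := ha (f • z) (by rw [← mul_smul, ← pow_succ]; exact hz)
    rw [pow_succ, mul_smul, smul_comm f a z]
    exact h2
  obtain ⟨N, hN⟩ := monotone_stabilizes_iff_noetherian.2 inferInstance ⟨I, hmono⟩
  have hIN : ∀ n, N ≤ n → I n = I N := fun n hn => (hN n hn).symm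
  have htop : I N = ⊤ := by
    by_contra hne
    obtain ⟨m, hm, hle⟩ := Ideal.exists_le_maximal _ hne
    obtain ⟨n₀, hn₀⟩ := h3 m hm
    set n := max N n₀ with hn
    obtain ⟨S, hS⟩ := T_fg f hf B hB (n + 1)
    choose s hs1 hs2 using hn₀
    have hsn : ∀ z, s z • f ^ n • z ∈ B := by
      intro z
      have hle' : n₀ ≤ n := le_max_right _ _
      obtain ⟨d, hd⟩ := Nat.exists_eq_add_of_le hle'
      rw [hd, pow_add, mul_comm, mul_smul, smul_comm]
      exact B.smul_mem _ (hs2 z)
    have hprod : (∏ z ∈ S, s z) ∈ I n := by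
      rw [hI]
      intro z hz
      have hzT : z ∈ T f B (n + 1) := hz
      rw [← hS] at hzT
      have : ∀ z ∈ Submodule.span A (S : Set P), f ^ n • (∏ z ∈ S, s z) • z ∈ B := by
        intro z hz
        induction hz using Submodule.span_induction with
        | mem z hz =>
          obtain ⟨c, hc⟩ := Finset.dvd_prod_of_mem s hz
          rw [hc, smul_comm, mul_comm, mul_smul]
          exact B.smul_mem _ (hsn z)
        | zero => simp
        | add x y _ _ hx hy => rw [smul_add, smul_add]; exact B.add_mem hx hy
        | smul a x _ hx =>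
          rw [smul_comm _ a x, smul_comm _ a]
          exact B.smul_mem _ hx
      exact this z hzT
    rw [hIN n (le_max_left _ _)] at hprod
    have hmem := hle hprod
    have := hm.isPrime
    rw [Ideal.IsPrime.prod_mem_iff] at hmem
    obtain ⟨z, _, hz⟩ := hmem
    exact hs1 z hz
  have hstab : ∀ n, N ≤ n → T f B n = T f B N := by
    intro n hn
    induction n, hn using Nat.le_induction with
    | base => rfl
    | succ n hn ih =>
      rw [← ih]
      apply le_antisymm _ (T_mono f B n)
      intro z hz
      have h1 : (1 : A) ∈ I n := by rw [hIN n hn, htop]; trivial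
      rw [hI] at h1
      have := h1 z hz
      rwa [one_smul] at this
  refine ⟨N, fun z => ?_⟩
  obtain ⟨n, hn⟩ := h1 z
  have hz : z ∈ T f B (max n N) := by
    rw [mem_T]
    obtain ⟨d, hd⟩ := Nat.exists_eq_add_of_le (le_max_left n N)
    rw [hd, pow_add, mul_comm, mul_smul]
    exact B.smul_mem _ hn
  rw [hstab _ (le_max_right _ _)] at hz
  exact hz

theorem finite_of_local (hf : Function.Injective (fun z : P => f • z))
    (B : Submodule A P) (hB : B.FG)
    (h1 : ∀ z : P, ∃ n : ℕ, f ^ n • z ∈ B)
    (h3 : ∀ m : Ideal A, m.IsMaximal → ∃ n : ℕ, ∀ x : P, ∃ s : A, s ∉ m ∧ s • f ^ n • x ∈ B) :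
    Module.Finite A P := by
  obtain ⟨N, hN⟩ := exists_pow_smul_mem f hf B hB h1 h3
  have : T f B N = ⊤ := by
    rw [eq_top_iff]
    intro z _
    exact hN z
  rw [Module.finite_def, ← this]
  exact T_fg f hf B hB N

end core

section localized

variable {A : Type*} [CommRing A] (S : Submonoid A) {P : Type*} [AddCommGroup P] [Module A P]

theorem exists_finset_of_finite_localized
    (h : Module.Finite (Localization S) (LocalizedModule S P)) :
    ∃ G : Finset P, ∀ x : P, ∃ s ∈ S, s • x ∈ Submodule.span A (G : Set P) := by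
  classical
  obtain ⟨W, hW⟩ := h.fg_top
  have hnum : ∀ w : LocalizedModule S P, ∃ g : P, ∃ s : S, LocalizedModule.mk g s = w := by
    intro w
    induction w using LocalizedModule.induction_on with
    | h m s => exact ⟨m, s, rfl⟩
  choose g sden hg using hnum
  refine ⟨W.image g, fun x => ?_⟩
  have htop : Submodule.span (Localization S)
      ((LocalizedModule.mkLinearMap S P) '' (W.image g : Set P)) = ⊤ := by
    rw [eq_top_iff, ← hW, Submodule.span_le]
    intro w hw
    have h1 : w = (Localization.mk 1 (sden w)) • LocalizedModule.mkLinearMap S P (g w) := by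
      rw [LocalizedModule.mkLinearMap_apply, LocalizedModule.mk_smul_mk, one_smul, mul_one, hg]
    rw [h1]
    refine Submodule.smul_mem _ _ (Submodule.subset_span ⟨g w, ?_, rfl⟩)
    rw [Finset.coe_image]
    exact ⟨w, hw, rfl⟩
  rw [← Submodule.localized'_span (Localization S) S (LocalizedModule.mkLinearMap S P)] at htop
  have hx : LocalizedModule.mkLinearMap S P x ∈
      (Submodule.span A (↑(W.image g) : Set P)).localized' (Localization S) S
        (LocalizedModule.mkLinearMap S P) := by
    rw [htop]; trivial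
  rw [Submodule.mem_localized'] at hx
  obtain ⟨m, hm, s, hms⟩ := hx
  rw [IsLocalizedModule.mk'_eq_iff] at hms
  have h2 : LocalizedModule.mkLinearMap S P m = LocalizedModule.mkLinearMap S P ((s : A) • x) := by
    rw [hms, map_smul]; rfl
  obtain ⟨u, hu⟩ := (IsLocalizedModule.eq_iff_exists S (LocalizedModule.mkLinearMap S P)).1 h2
  refine ⟨u * s, mul_mem u.2 s.2, ?_⟩
  rw [mul_smul]
  have : (u : A) • (s : A) • x = (u : A) • m := hu.symm
  rw [this]
  exact Submodule.smul_mem _ _ hm

end localized

section main

variable {A : Type*} [CommRing A] [IsNoetherianRing A] (f : A)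
  {P : Type*} [AddCommGroup P] [Module A P]

/-- a module on which `f` is regular, finite after inverting `f` and finite at all maximal ideals,
is finite -/
theorem finite_of_localized (hf : Function.Injective (fun z : P => f • z))
    (h1 : Module.Finite (Localization.Away f) (LocalizedModule (Submonoid.powers f) P))
    (h3 : ∀ (m : Ideal A) [m.IsMaximal],
      Module.Finite (Localization.AtPrime m) (LocalizedModule m.primeCompl P)) :
    Module.Finite A P := by
  classical
  obtain ⟨G, hG⟩ := exists_finset_of_finite_localized (Submonoid.powers f) h1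
  set B := Submodule.span A (G : Set P) with hB
  have hpow : ∀ z : P, ∃ n : ℕ, f ^ n • z ∈ B := by
    intro z
    obtain ⟨s, ⟨n, rfl⟩, hs⟩ := hG z
    exact ⟨n, hs⟩
  refine finite_of_local f hf B ⟨G, rfl⟩ hpow ?_
  intro m hm
  obtain ⟨G', hG'⟩ := exists_finset_of_finite_localized m.primeCompl (h3 m)
  choose e he using hpow
  refine ⟨G'.sup e, fun x => ?_⟩
  obtain ⟨s, hs, hsx⟩ := hG' x
  refine ⟨s, hs, ?_⟩
  rw [smul_comm]
  have : ∀ y ∈ Submodule.span A (G' : Set P), f ^ (G'.sup e) • y ∈ B := by
    intro y hy
    induction hy using Submodule.span_induction with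
    | mem y hy =>
      obtain ⟨d, hd⟩ := Nat.exists_eq_add_of_le (Finset.le_sup (f := e) hy)
      rw [hd, pow_add, mul_comm, mul_smul]
      exact B.smul_mem _ (he y)
    | zero => simp
    | add x y _ _ hx hy => rw [smul_add]; exact B.add_mem hx hy
    | smul a x _ hx => rw [smul_comm]; exact B.smul_mem _ hx
  exact this _ hsx

end main

end Groth.Agent.Helper7.LocFin
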