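import Mathlib
import Groth.Prelude.Def_Found
import Groth.Agent.Helper7.LocFin

namespace Groth.Agent.Helper7.N1Loc

set_option linter.unusedSectionVars false

universe u

section transfer

theorem isN1_iff (D : Type u) [CommRing D] [IsDomain D] (K : Type*) [Field K] [Algebra D K]
    [IsFractionRing D K] : CAlg.IsN1 D ↔ Module.Finite D (integralClosure D K) := by
  unfold CAlg.IsN1
  let e : integralClosure D (FractionRing D) ≃ₐ[D] integralClosure D K :=
    (FractionRing.algEquiv D K).mapIntegralClosure
  exact ⟨fun h => Module.Finite.equiv e.toLinearEquiv, fun h => Module.Finite.equiv e.symm.toLinearEquiv⟩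

end transfer

section loc

variable {R : Type*} [CommRing R] [IsDomain R] [IsNoetherianRing R] (K : Type*) [Field K]
  [Algebra R K] [IsFractionRing R K]
  (S : Submonoid R) (RS : Type*) [CommRing RS] [Algebra R RS] [IsLocalization S RS] [Algebra RS K]
  [IsScalarTower R RS K]

lemma map_mk'_one_mul (s : S) :
    algebraMap RS K (IsLocalization.mk' RS 1 s) * algebraMap R K s = 1 := by
  rw [IsScalarTower.algebraMap_apply R RS K, ← map_mul, IsLocalization.mk'_spec, map_one, map_one]

include S in
/-- finiteness of the integral closure passes to localizations -/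
theorem finite_integralClosure_localization (h : Module.Finite R (integralClosure R K)) :
    Module.Finite RS (integralClosure RS K) := by
  classical
  have : IsNoetherianRing RS := IsLocalization.isNoetherianRing S RS inferInstance
  have hfg : (integralClosure R K).toSubmodule.FG := by
    rw [← Module.Finite.iff_fg]
    exact Module.Finite.equiv (Subalgebra.toSubmoduleEquiv _).symm
  obtain ⟨G, hG⟩ := hfg
  have hle : (integralClosure RS K).toSubmodule ≤ Submodule.span RS (G : Set K) := by
    intro x hx
    have hx' : IsIntegral RS x := hx
    obtain ⟨s, hs⟩ := IsIntegral.exists_multiple_integral_of_isLocalization S x hx'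
    have h1 : s • x ∈ Submodule.span R (G : Set K) := by
      rw [hG]; exact hs
    have h2 := Submodule.span_le_restrictScalars R RS (G : Set K) h1
    have h3 : x = (IsLocalization.mk' RS 1 s) • (s • x) := by
      rw [Algebra.smul_def, Submonoid.smul_def, Algebra.smul_def, ← mul_assoc,
        map_mk'_one_mul, one_mul]
    rw [h3]
    exact Submodule.smul_mem _ _ h2
  have hfg' : (integralClosure RS K).toSubmodule.FG :=
    Submodule.FG.of_le ⟨G, rfl⟩ hle
  rw [← Module.Finite.iff_fg] at hfg'
  exact Module.Finite.equiv (Subalgebra.toSubmoduleEquiv _)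

/-- uniform bound on the power of `f` from finiteness of the local integral closure -/
theorem exists_pow_of_finite_localization (f : R)
    (h1 : ∀ z : K, IsIntegral R z → ∃ (n : ℕ) (a : R), algebraMap R K f ^ n * z = algebraMap R K a)
    (hfin : Module.Finite RS (integralClosure RS K)) :
    ∃ n : ℕ, ∀ x : K, IsIntegral R x →
      ∃ s ∈ S, ∃ a : R, algebraMap R K s * (algebraMap R K f ^ n * x) = algebraMap R K a := by
  classical
  have hfg : (integralClosure RS K).toSubmodule.FG := by
    rw [← Module.Finite.iff_fg]
    exact Module.Finite.equiv (Subalgebra.toSubmoduleEquiv _).symm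
  obtain ⟨W, hW⟩ := hfg
  -- each integral element over `RS` is pushed into `RS` by a power of `f`
  have hstep : ∀ y : K, ∃ n : ℕ, IsIntegral RS y →
      algebraMap R K f ^ n * y ∈ (algebraMap RS K).range := by
    intro y
    by_cases hy : IsIntegral RS y
    · obtain ⟨s, hs⟩ := IsIntegral.exists_multiple_integral_of_isLocalization S y hy
      obtain ⟨n, a, hna⟩ := h1 _ hs
      refine ⟨n, fun _ => ⟨IsLocalization.mk' RS a s, ?_⟩⟩
      have h2 : algebraMap RS K (IsLocalization.mk' RS a s) * algebraMap R K s =
          algebraMap R K a := by
        rw [IsScalarTower.algebraMap_apply R RS K, ← map_mul, IsLocalization.mk'_spec,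
          ← IsScalarTower.algebraMap_apply]
      have hs0 : algebraMap R K s ≠ 0 := by
        intro h0
        have := map_mk'_one_mul K S RS s
        rw [h0, mul_zero] at this
        exact zero_ne_one this
      apply mul_right_cancel₀ hs0
      rw [h2, ← hna, Submonoid.smul_def, Algebra.smul_def]
      ring
    · exact ⟨0, fun h => absurd h hy⟩
  choose e he using hstep
  refine ⟨W.sup e, fun x hx => ?_⟩
  have hmem : ∀ y ∈ Submodule.span RS (W : Set K),
      algebraMap R K f ^ (W.sup e) * y ∈ (algebraMap RS K).range := by
    intro y hy
    induction hy using Submodule.span_induction with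
    | mem y hy =>
      have hyi : IsIntegral RS y := by
        have : y ∈ (integralClosure RS K).toSubmodule := by
          rw [← hW]; exact Submodule.subset_span hy
        exact this
      obtain ⟨d, hd⟩ := Nat.exists_eq_add_of_le (Finset.le_sup (f := e) hy)
      rw [hd, pow_add, mul_comm (_ ^ e y), mul_assoc]
      have h5 := he y hyi
      have h6 : algebraMap R K f ^ d ∈ (algebraMap RS K).range :=
        ⟨algebraMap R RS (f ^ d), by rw [← IsScalarTower.algebraMap_apply, map_pow]⟩
      exact mul_mem h6 h5
    | zero => rw [mul_zero]; exact zero_mem _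
    | add x y _ _ hx hy => rw [mul_add]; exact add_mem hx hy
    | smul a x _ hx =>
      rw [Algebra.smul_def, mul_left_comm]
      exact mul_mem ⟨a, rfl⟩ hx
  have hxi : x ∈ Submodule.span RS (W : Set K) := by
    rw [hW]
    exact (hx.tower_top : IsIntegral RS x)
  obtain ⟨c, hc⟩ := hmem x hxi
  obtain ⟨a, s, rfl⟩ := IsLocalization.exists_mk'_eq S c
  refine ⟨s, s.2, a, ?_⟩
  rw [← hc, mul_comm, IsScalarTower.algebraMap_apply R RS K, ← map_mul, IsLocalization.mk'_spec,
    ← IsScalarTower.algebraMap_apply]

end loc

end Groth.Agent.Helper7.N1Loc
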