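import Mathlib
import Groth.Prelude.Def_Found
import Groth.Agent.Helper7.N1Loc

namespace Groth.Agent.Helper7.N1Loc

set_option linter.unusedSectionVars false
set_option linter.style.haveILetI false
set_option warn.classDefReducibility false

universe u

section alg

variable {R : Type*} [CommRing R] [IsDomain R] (K : Type*) [Field K]
  [Algebra R K] [IsFractionRing R K]
  (S : Submonoid R) (hS : S ≤ nonZeroDivisors R) (RS : Type*) [CommRing RS] [Algebra R RS]
  [IsLocalization S RS]

include hS in
lemma isUnit_map (y : S) : IsUnit (algebraMap R K y) := by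
  apply IsUnit.mk0
  intro h0
  have hy : (y : R) ∈ nonZeroDivisors R := hS y.2
  exact nonZeroDivisors.ne_zero hy (IsFractionRing.injective R K (by rw [h0, map_zero]))

/-- the algebra structure of the fraction field over a localization -/
noncomputable def algLoc : Algebra RS K :=
  (IsLocalization.lift (M := S) (g := algebraMap R K) (isUnit_map K S hS)).toAlgebra

lemma algLoc_tower : @IsScalarTower R RS K _ (algLoc K S hS RS).toSMul _ := by
  letI := algLoc K S hS RS
  exact IsScalarTower.of_algebraMap_eq (fun x => (IsLocalization.lift_eq (isUnit_map K S hS) x).symm)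

end alg

theorem main (R : Type u) [CommRing R] [IsDomain R] [IsNoetherianRing R] :
    CAlg.IsN1 R ↔ ((∃ f : R, f ≠ 0 ∧ IsIntegrallyClosed (Localization.Away f)) ∧
      ∀ (m : Ideal R) [m.IsMaximal], CAlg.IsN1 (Localization.AtPrime m)) := by
  classical
  set K := FractionRing R with hK
  constructor
  · intro h
    rw [isN1_iff R K] at h
    constructor
    · have hfg : (integralClosure R K).toSubmodule.FG := by
        rw [← Module.Finite.iff_fg]
        exact Module.Finite.equiv (Subalgebra.toSubmoduleEquiv _).symm
      obtain ⟨G, hG⟩ := hfg
      obtain ⟨b, hb⟩ := IsLocalization.exist_integer_multiples_of_finset (nonZeroDivisors R) G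
      have hb0 : (b : R) ≠ 0 := nonZeroDivisors.ne_zero b.2
      refine ⟨b, hb0, ?_⟩
      have hS : Submonoid.powers (b : R) ≤ nonZeroDivisors R :=
        powers_le_nonZeroDivisors_of_noZeroDivisors hb0
      letI := algLoc K (Submonoid.powers (b : R)) hS (Localization.Away (b : R))
      haveI := algLoc_tower K (Submonoid.powers (b : R)) hS (Localization.Away (b : R))
      haveI : IsFractionRing (Localization.Away (b : R)) K :=
        IsFractionRing.isFractionRing_of_isDomain_of_isLocalization (Submonoid.powers (b : R)) _ K
      have hspan : ∀ y ∈ Submodule.span R (G : Set K), ∃ a : R,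
          algebraMap R K b * y = algebraMap R K a := by
        intro y hy
        induction hy using Submodule.span_induction with
        | mem y hy =>
          obtain ⟨a, ha⟩ := hb y hy
          exact ⟨a, by rw [ha, Algebra.smul_def]⟩
        | zero => exact ⟨0, by simp⟩
        | add x y _ _ hx hy =>
          obtain ⟨a, ha⟩ := hx
          obtain ⟨a', ha'⟩ := hy
          exact ⟨a + a', by rw [mul_add, ha, ha', map_add]⟩
        | smul c x _ hx =>
          obtain ⟨a, ha⟩ := hx
          exact ⟨c * a, by rw [Algebra.smul_def, mul_left_comm, ha, map_mul]⟩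
      rw [isIntegrallyClosed_iff K]
      intro x hx
      obtain ⟨⟨s, n, rfl⟩, hs⟩ :=
        IsIntegral.exists_multiple_integral_of_isLocalization (Submonoid.powers (b : R)) x hx
      have hmem : ((b : R) ^ n) • x ∈ Submodule.span R (G : Set K) := by
        rw [hG]; exact hs
      obtain ⟨a, ha⟩ := hspan _ hmem
      refine ⟨IsLocalization.mk' _ a (⟨(b : R) ^ (n + 1), n + 1, rfl⟩ : Submonoid.powers (b : R)), ?_⟩
      have h2 : algebraMap (Localization.Away (b : R)) K
          (IsLocalization.mk' _ a (⟨(b : R) ^ (n + 1), n + 1, rfl⟩ : Submonoid.powers (b : R))) *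
          algebraMap R K ((b : R) ^ (n + 1)) = algebraMap R K a := by
        rw [IsScalarTower.algebraMap_apply R (Localization.Away (b : R)) K, ← map_mul,
          IsLocalization.mk'_spec, ← IsScalarTower.algebraMap_apply]
      have h3 : algebraMap R K ((b : R) ^ (n + 1)) ≠ 0 := by
        intro h0
        exact pow_ne_zero _ hb0 (IsFractionRing.injective R K (by rw [h0, map_zero]))
      apply mul_right_cancel₀ h3
      rw [h2, ← ha, Algebra.smul_def, pow_succ, map_mul, map_pow]
      ring
    · intro m hm
      have hS : m.primeCompl ≤ nonZeroDivisors R := m.primeCompl_le_nonZeroDivisors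
      letI := algLoc K m.primeCompl hS (Localization.AtPrime m)
      haveI := algLoc_tower K m.primeCompl hS (Localization.AtPrime m)
      haveI : IsFractionRing (Localization.AtPrime m) K :=
        IsFractionRing.isFractionRing_of_isDomain_of_isLocalization m.primeCompl _ K
      rw [isN1_iff (Localization.AtPrime m) K]
      exact finite_integralClosure_localization K m.primeCompl _ h
  · rintro ⟨⟨f, hf0, hic⟩, hloc⟩
    rw [isN1_iff R K]
    have hS : Submonoid.powers f ≤ nonZeroDivisors R :=
      powers_le_nonZeroDivisors_of_noZeroDivisors hf0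
    have hfK : algebraMap R K f ≠ 0 := fun h0 =>
      hf0 (IsFractionRing.injective R K (by rw [h0, map_zero]))
    have h1 : ∀ z : K, IsIntegral R z →
        ∃ (n : ℕ) (a : R), algebraMap R K f ^ n * z = algebraMap R K a := by
      letI := algLoc K (Submonoid.powers f) hS (Localization.Away f)
      haveI := algLoc_tower K (Submonoid.powers f) hS (Localization.Away f)
      haveI : IsFractionRing (Localization.Away f) K :=
        IsFractionRing.isFractionRing_of_isDomain_of_isLocalization (Submonoid.powers f) _ K
      intro z hz
      have hz' : IsIntegral (Localization.Away f) z := hz.tower_top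
      obtain ⟨y, hy⟩ := (isIntegrallyClosed_iff K).1 hic hz'
      obtain ⟨a, ⟨s, n, rfl⟩, rfl⟩ := IsLocalization.exists_mk'_eq (Submonoid.powers f) y
      refine ⟨n, a, ?_⟩
      rw [← hy, mul_comm, ← map_pow, IsScalarTower.algebraMap_apply R (Localization.Away f) K,
        ← map_mul]
      have := IsLocalization.mk'_spec (Localization.Away f) a
        (⟨f ^ n, n, rfl⟩ : Submonoid.powers f)
      rw [this, ← IsScalarTower.algebraMap_apply]
    have hf : Function.Injective (fun z : integralClosure R K => f • z) := by
      intro z z' h
      have h2 : algebraMap R K f * (z : K) = algebraMap R K f * (z' : K) := by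
        have := congrArg Subtype.val h
        simpa [Algebra.smul_def] using this
      exact Subtype.ext (mul_left_cancel₀ hfK h2)
    refine LocFin.finite_of_local f hf (Submodule.span R {(1 : integralClosure R K)})
      ⟨{1}, by simp⟩ ?_ ?_
    · intro z
      obtain ⟨n, a, hna⟩ := h1 (z : K) z.2
      refine ⟨n, ?_⟩
      rw [Submodule.mem_span_singleton]
      refine ⟨a, Subtype.ext ?_⟩
      simp only [Subalgebra.coe_smul, Algebra.smul_def, OneMemClass.coe_one, mul_one, map_pow]
      exact hna.symm
    · intro m hm
      have hSm : m.primeCompl ≤ nonZeroDivisors R := m.primeCompl_le_nonZeroDivisors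
      letI := algLoc K m.primeCompl hSm (Localization.AtPrime m)
      haveI := algLoc_tower K m.primeCompl hSm (Localization.AtPrime m)
      haveI : IsFractionRing (Localization.AtPrime m) K :=
        IsFractionRing.isFractionRing_of_isDomain_of_isLocalization m.primeCompl _ K
      have hfin := (isN1_iff (Localization.AtPrime m) K).1 (hloc m)
      obtain ⟨n, hn⟩ := exists_pow_of_finite_localization K m.primeCompl (Localization.AtPrime m)
        f h1 hfin
      refine ⟨n, fun x => ?_⟩
      obtain ⟨s, hs, a, hsa⟩ := hn (x : K) x.2
      refine ⟨s, hs, ?_⟩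
      rw [Submodule.mem_span_singleton]
      refine ⟨a, Subtype.ext ?_⟩
      simp only [Subalgebra.coe_smul, Algebra.smul_def, OneMemClass.coe_one, mul_one, map_pow]
      exact hsa.symm

end Groth.Agent.Helper7.N1Loc
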