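import Mathlib
import Groth.Prelude.Def_EtMil

/-! Helper lemmas on fibre squares of rings (Milnor squares). -/

universe u

open TensorProduct

namespace Groth.Agent.Helper7.EtMilH

variable {B' B A' A : Type u} [CommRing B'] [CommRing B] [CommRing A'] [CommRing A]
  [Algebra B' B] [Algebra B' A'] [Algebra B A] [Algebra A' A] [Algebra B' A]
  [IsScalarTower B' B A] [IsScalarTower B' A' A]

theorem surjB (hsq : EtMil.IsFibreSquare B' B A' A) : Function.Surjective (algebraMap B' B) := by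
  intro b
  obtain ⟨a', ha'⟩ := hsq.1 (algebraMap B A b)
  obtain ⟨b', ⟨hb', _⟩, _⟩ := hsq.2 b a' ha'.symm
  exact ⟨b', hb'⟩

theorem ext_sq (hsq : EtMil.IsFibreSquare B' B A' A) {x y : B'}
    (h1 : algebraMap B' B x = algebraMap B' B y) (h2 : algebraMap B' A' x = algebraMap B' A' y) :
    x = y := by
  have hcomp : algebraMap B A (algebraMap B' B y) = algebraMap A' A (algebraMap B' A' y) := by
    rw [← IsScalarTower.algebraMap_apply, ← IsScalarTower.algebraMap_apply]
  obtain ⟨z, _, hz⟩ := hsq.2 (algebraMap B' B y) (algebraMap B' A' y) hcomp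
  rw [hz x ⟨h1, h2⟩, hz y ⟨rfl, rfl⟩]

/-- for `j` in the kernel of `B' → B` and `a' : A'`, the element of `B'` with components `(0, a' * j)` -/
theorem exists_mulJ (hsq : EtMil.IsFibreSquare B' B A' A) (j : B') (hj : algebraMap B' B j = 0)
    (a' : A') : ∃ c : B', algebraMap B' B c = 0 ∧ algebraMap B' A' c = a' * algebraMap B' A' j := by
  have h0 : algebraMap A' A (algebraMap B' A' j) = 0 := by
    rw [← IsScalarTower.algebraMap_apply, IsScalarTower.algebraMap_apply B' B A, hj, map_zero]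
  have : algebraMap B A 0 = algebraMap A' A (a' * algebraMap B' A' j) := by
    rw [map_zero, map_mul, h0, mul_zero]
  obtain ⟨c, ⟨hc1, hc2⟩, _⟩ := hsq.2 0 (a' * algebraMap B' A' j) this
  exact ⟨c, hc1, hc2⟩

noncomputable def mulJ (hsq : EtMil.IsFibreSquare B' B A' A) (j : B') (hj : algebraMap B' B j = 0)
    (a' : A') : B' := (exists_mulJ hsq j hj a').choose

theorem mulJ_spec (hsq : EtMil.IsFibreSquare B' B A' A) (j : B') (hj : algebraMap B' B j = 0)
    (a' : A') : algebraMap B' B (mulJ hsq j hj a') = 0 ∧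
      algebraMap B' A' (mulJ hsq j hj a') = a' * algebraMap B' A' j :=
  (exists_mulJ hsq j hj a').choose_spec

theorem mulJ_add (hsq : EtMil.IsFibreSquare B' B A' A) (j : B') (hj : algebraMap B' B j = 0)
    (x y : A') : mulJ hsq j hj (x + y) = mulJ hsq j hj x + mulJ hsq j hj y := by
  apply ext_sq hsq
  · rw [map_add, (mulJ_spec hsq j hj _).1, (mulJ_spec hsq j hj _).1, (mulJ_spec hsq j hj _).1, add_zero]
  · rw [map_add, (mulJ_spec hsq j hj _).2, (mulJ_spec hsq j hj _).2, (mulJ_spec hsq j hj _).2, add_mul]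

theorem mulJ_smul (hsq : EtMil.IsFibreSquare B' B A' A) (j : B') (hj : algebraMap B' B j = 0)
    (c : B') (x : A') : mulJ hsq j hj (c • x) = c * mulJ hsq j hj x := by
  apply ext_sq hsq
  · rw [map_mul, (mulJ_spec hsq j hj _).1, (mulJ_spec hsq j hj _).1, mul_zero]
  · rw [map_mul, (mulJ_spec hsq j hj _).2, (mulJ_spec hsq j hj _).2, Algebra.smul_def, mul_assoc]

theorem mulJ_one (hsq : EtMil.IsFibreSquare B' B A' A) (j : B') (hj : algebraMap B' B j = 0) :
    mulJ hsq j hj 1 = j := by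
  apply ext_sq hsq
  · rw [(mulJ_spec hsq j hj _).1, hj]
  · rw [(mulJ_spec hsq j hj _).2, one_mul]

variable (L' : Type u) [AddCommGroup L'] [Module B' L']

/-- the map `A' ⊗ L' → L'`, `a' ⊗ l ↦ (a' * j) • l` -/
noncomputable def muMap (hsq : EtMil.IsFibreSquare B' B A' A) (j : B') (hj : algebraMap B' B j = 0) :
    A' ⊗[B'] L' →ₗ[B'] L' :=
  TensorProduct.lift
    (LinearMap.mk₂ B' (fun (a' : A') (l : L') => mulJ hsq j hj a' • l)
      (fun x y l => by rw [mulJ_add, add_smul])
      (fun c x l => by rw [mulJ_smul, mul_smul])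
      (fun x l l' => by rw [smul_add])
      (fun c x l => by rw [smul_comm]))

theorem muMap_one_tmul (hsq : EtMil.IsFibreSquare B' B A' A) (j : B') (hj : algebraMap B' B j = 0)
    (l : L') : muMap L' hsq j hj ((1 : A') ⊗ₜ[B'] l) = j • l := by
  simp [muMap, mulJ_one]

theorem smul_eq_zero_of_tmul_eq_zero (hsq : EtMil.IsFibreSquare B' B A' A) (l : L')
    (h2 : ((1 : A') ⊗ₜ[B'] l : A' ⊗[B'] L') = 0) (j : B') (hj : algebraMap B' B j = 0) :
    j • l = 0 := by
  rw [← muMap_one_tmul L' hsq j hj l, h2, map_zero]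

/-- `1 ⊗ l = 0` in `B ⊗ L'` implies `l ∈ J L'` -/
theorem mem_smul_top_of_tmul_eq_zero (hsq : EtMil.IsFibreSquare B' B A' A) (l : L')
    (h1 : ((1 : B) ⊗ₜ[B'] l : B ⊗[B'] L') = 0) :
    l ∈ (RingHom.ker (algebraMap B' B)) • (⊤ : Submodule B' L') := by
  -- B ≃ B' ⧸ J
  let J := RingHom.ker (algebraMap B' B)
  have hsurj := surjB hsq
  let e : (B' ⧸ J) ≃ₐ[B'] B := Ideal.quotientKerAlgEquivOfSurjective (f := Algebra.ofId B' B) hsurj
  let ψ : B ⊗[B'] L' ≃ₗ[B'] L' ⧸ (J • (⊤ : Submodule B' L')) :=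
    (TensorProduct.congr e.toLinearEquiv.symm (LinearEquiv.refl B' L')) ≪≫ₗ
      (TensorProduct.quotTensorEquivQuotSMul L' J)
  have h3 : ψ ((1 : B) ⊗ₜ[B'] l) = Submodule.Quotient.mk l := by
    simp only [ψ, LinearEquiv.trans_apply, TensorProduct.congr_tmul, LinearEquiv.refl_apply]
    have : e.toLinearEquiv.symm (1 : B) = (1 : B' ⧸ J) := by
      change e.symm 1 = 1
      exact map_one e.symm
    rw [this]
    exact TensorProduct.quotTensorEquivQuotSMul_mk_one_tmul J l
  rw [h1, map_zero] at h3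
  exact (Submodule.Quotient.mk_eq_zero _).mp h3.symm

end Groth.Agent.Helper7.EtMilH

namespace Groth.Agent.Helper7.EtMilH

/-- If `S ⊗[R] M` is a finite `S`-module, finitely many elements `1 ⊗ m` generate it. -/
theorem exists_finset_span_one_tmul (R S M : Type*) [CommRing R] [CommRing S] [Algebra R S]
    [AddCommGroup M] [Module R M] [Module.Finite S (S ⊗[R] M)] :
    ∃ T : Finset M, Submodule.span S ((fun m : M => (1 : S) ⊗ₜ[R] m) '' (T : Set M)) = ⊤ := by
  classical
  have hall : ∀ x : S ⊗[R] M, x ∈ Submodule.span S (Set.range fun m : M => (1 : S) ⊗ₜ[R] m) := by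
    intro x
    induction x with
    | zero => exact Submodule.zero_mem _
    | add x y hx hy => exact Submodule.add_mem _ hx hy
    | tmul s m =>
      have : s ⊗ₜ[R] m = s • ((1 : S) ⊗ₜ[R] m) := by
        rw [TensorProduct.smul_tmul', smul_eq_mul, mul_one]
      rw [this]
      exact Submodule.smul_mem _ _ (Submodule.subset_span ⟨m, rfl⟩)
  obtain ⟨G, hG⟩ := (Module.Finite.fg_top : (⊤ : Submodule S (S ⊗[R] M)).FG)
  have hchoose : ∀ g : S ⊗[R] M, ∃ T : Finset M,
      g ∈ Submodule.span S ((fun m : M => (1 : S) ⊗ₜ[R] m) '' (T : Set M)) := by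
    intro g
    obtain ⟨F, hF, hgF⟩ := Submodule.mem_span_finite_of_mem_span (hall g)
    -- choose preimages
    have : ∀ y ∈ F, ∃ m : M, (1 : S) ⊗ₜ[R] m = y := fun y hy => hF hy
    choose! pre hpre using this
    refine ⟨F.image pre, ?_⟩
    refine Submodule.span_mono ?_ hgF
    intro y hy
    refine ⟨pre y, ?_, hpre y hy⟩
    simp only [Finset.coe_image, Set.mem_image, Finset.mem_coe]
    exact ⟨y, hy, rfl⟩
  choose Tg hTg using hchoose
  refine ⟨G.biUnion Tg, ?_⟩
  rw [eq_top_iff, ← hG, Submodule.span_le]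
  intro g hg
  refine Submodule.span_mono ?_ (hTg g)
  apply Set.image_mono
  intro m hm
  simp only [Finset.coe_biUnion, Set.mem_iUnion, Finset.mem_coe]
  exact ⟨g, hg, hm⟩

end Groth.Agent.Helper7.EtMilH
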