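import Mathlib
import Groth.Agent.Helper7.FlatAdic
import Groth.Prelude.Def_EtMil
set_option autoImplicit false
open TensorProduct LinearMap
universe u

namespace Groth.Agent.Helper7.FlatMilnor
open Groth.Agent.Helper7.FlatAdic

section Core
variable {R S₂ : Type u} [CommRing R] [CommRing S₂] [Algebra R S₂] (I : Ideal R)
  (h_inj : ∀ r ∈ I, algebraMap R S₂ r = 0 → r = 0)
  (h_ideal : ∀ (s : S₂) (i : R), i ∈ I → ∃ i' ∈ I, algebraMap R S₂ i' = s * algebraMap R S₂ i)

include h_ideal in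
/-- K1 -/
lemma key1 (J₀ : Ideal R) (x : S₂) (hx : x ∈ J₀.map (algebraMap R S₂)) :
    ∀ i ∈ I, ∃ z ∈ I * J₀, algebraMap R S₂ z = algebraMap R S₂ i * x := by
  unfold Ideal.map at hx
  induction hx using Submodule.span_induction with
  | mem x hx =>
    obtain ⟨j, hj, rfl⟩ := hx
    intro i hi
    exact ⟨i * j, Ideal.mul_mem_mul hi hj, by rw [map_mul]⟩
  | zero =>
    intro i hi
    exact ⟨0, Ideal.zero_mem _, by simp⟩
  | add x y _ _ hx hy =>
    intro i hi
    obtain ⟨z1, hz1, e1⟩ := hx i hi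
    obtain ⟨z2, hz2, e2⟩ := hy i hi
    exact ⟨z1 + z2, Ideal.add_mem _ hz1 hz2, by rw [map_add, e1, e2, mul_add]⟩
  | smul s x _ hx =>
    intro i hi
    obtain ⟨i', hi', e'⟩ := h_ideal s i hi
    obtain ⟨z, hz, e⟩ := hx i' hi'
    refine ⟨z, hz, ?_⟩
    rw [e, e', smul_eq_mul]; ring

include h_ideal in
/-- every element of `I • ⊤` inside `J̃` comes from `I * J₀` -/
lemma key2 (J₀ : Ideal R) (y : ↥(J₀.map (algebraMap R S₂)))
    (hy : y ∈ I • (⊤ : Submodule R ↥(J₀.map (algebraMap R S₂)))) :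
    ∃ z ∈ I * J₀, algebraMap R S₂ z = (y : S₂) := by
  refine Submodule.smul_induction_on hy ?_ ?_
  · intro i hi x _
    obtain ⟨z, hz, e⟩ := key1 I h_ideal J₀ x.1 x.2 i hi
    refine ⟨z, hz, ?_⟩
    rw [e]
    show _ = ((i • x : ↥(J₀.map (algebraMap R S₂))) : S₂)
    rw [Submodule.coe_smul_of_tower, Algebra.smul_def]
  · intro y1 y2 ⟨z1, hz1, e1⟩ ⟨z2, hz2, e2⟩
    exact ⟨z1 + z2, Ideal.add_mem _ hz1 hz2, by rw [map_add, e1, e2]; rfl⟩

include h_ideal in
lemma key3 (a : S₂) (ha : a ∈ I.map (algebraMap R S₂)) : ∃ i ∈ I, algebraMap R S₂ i = a := by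
  unfold Ideal.map at ha
  induction ha using Submodule.span_induction with
  | mem x hx =>
    obtain ⟨i, hi, rfl⟩ := hx
    exact ⟨i, hi, rfl⟩
  | zero => exact ⟨0, Ideal.zero_mem _, by simp⟩
  | add x y _ _ hx hy =>
    obtain ⟨z1, hz1, e1⟩ := hx
    obtain ⟨z2, hz2, e2⟩ := hy
    exact ⟨z1 + z2, Ideal.add_mem _ hz1 hz2, by rw [map_add, e1, e2]⟩
  | smul s x _ hx =>
    obtain ⟨i, hi, rfl⟩ := hx
    obtain ⟨i', hi', e'⟩ := h_ideal s i hi
    exact ⟨i', hi', by rw [e', smul_eq_mul]⟩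

include h_ideal in
lemma key4 (J₀ : Ideal R) (y : S₂) (hy : y ∈ I.map (algebraMap R S₂) * J₀.map (algebraMap R S₂)) :
    ∃ z ∈ I * J₀, algebraMap R S₂ z = y := by
  refine Submodule.mul_induction_on hy ?_ ?_
  · intro a ha x hx
    obtain ⟨i, hi, rfl⟩ := key3 I h_ideal a ha
    exact key1 I h_ideal J₀ x hx i hi
  · intro y1 y2 ⟨z1, hz1, e1⟩ ⟨z2, hz2, e2⟩
    exact ⟨z1 + z2, Ideal.add_mem _ hz1 hz2, by rw [map_add, e1, e2]⟩

variable (L : Type u) [AddCommGroup L] [Module R L]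
  [Module.Flat (R ⧸ I) ((R ⧸ I) ⊗[R] L)] [Module.Flat S₂ (S₂ ⊗[R] L)]

include h_inj h_ideal in
lemma stepC (J₀ : Ideal R) (hJ₀ : J₀ ≤ I) : Function.Injective (rTensor L J₀.subtype) := by
  rw [injective_iff_map_eq_zero]
  intro w hw
  set Jt : Ideal S₂ := J₀.map (algebraMap R S₂) with hJt
  let α : J₀ →ₗ[R] Jt := (Algebra.linearMap R S₂).restrict (p := J₀) (q := Jt.restrictScalars R)
      (fun z hz => Ideal.mem_map_of_mem _ hz)
  let ιt : Jt →ₗ[S₂] S₂ := Jt.subtype
  have hιt : Function.Injective (rTensor L (ιt.restrictScalars R)) :=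
    rTensor_injective_of_flat R S₂ L ιt Subtype.val_injective
  have hcomp : (ιt.restrictScalars R) ∘ₗ α = (Algebra.linearMap R S₂) ∘ₗ J₀.subtype := by
    ext z; rfl
  have hαw : rTensor L α w = 0 := by
    apply hιt
    rw [map_zero, ← LinearMap.comp_apply, ← LinearMap.rTensor_comp, hcomp, LinearMap.rTensor_comp,
      LinearMap.comp_apply, hw, map_zero]
  -- quotient maps
  set N₁ : Submodule R J₀ := I • ⊤ with hN₁
  set N₂ : Submodule R Jt := I • ⊤ with hN₂
  have hle : N₁ ≤ N₂.comap α := Submodule.smul_top_le_comap_smul_top I α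
  let αbarR : (J₀ ⧸ N₁) →ₗ[R] (Jt ⧸ N₂) := Submodule.mapQ N₁ N₂ α hle
  let αbar : (J₀ ⧸ N₁) →ₗ[R ⧸ I] (Jt ⧸ N₂) :=
    αbarR.extendScalarsOfSurjective Ideal.Quotient.mk_surjective
  have hαbar_inj : Function.Injective αbar := by
    rw [injective_iff_map_eq_zero]
    intro q hq
    obtain ⟨⟨z, hz⟩, rfl⟩ := N₁.mkQ_surjective q
    have h1 : α ⟨z, hz⟩ ∈ N₂ := by
      have : αbarR (N₁.mkQ ⟨z,hz⟩) = 0 := hq
      rw [Submodule.mkQ_apply, Submodule.mapQ_apply, Submodule.Quotient.mk_eq_zero] at this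
      exact this
    obtain ⟨z', hz', e⟩ := key2 I h_ideal J₀ _ h1
    have hzz' : z = z' := by
      have hz'I : z' ∈ I := (Ideal.mul_le_left (I := I) (J := J₀)) hz'
      have hd : z - z' ∈ I := Ideal.sub_mem I (hJ₀ hz) hz'I
      have e' : algebraMap R S₂ z' = algebraMap R S₂ z := e
      have := h_inj (z - z') hd (by rw [map_sub, e']; exact sub_self _)
      exact sub_eq_zero.1 this
    rw [Submodule.mkQ_apply, Submodule.Quotient.mk_eq_zero, hN₁, Submodule.mem_smul_top_iff]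
    show z ∈ I • J₀
    rw [hzz']; exact hz'
  have hαbar : Function.Injective (rTensor L (αbar.restrictScalars R)) :=
    rTensor_injective_of_flat R (R ⧸ I) L αbar hαbar_inj
  have hsq : (αbar.restrictScalars R) ∘ₗ N₁.mkQ = N₂.mkQ ∘ₗ α :=
    Submodule.mapQ_mkQ N₁ N₂ α (h := hle)
  have h1 : rTensor L N₁.mkQ w = 0 := by
    apply hαbar
    rw [map_zero, ← LinearMap.comp_apply, ← LinearMap.rTensor_comp, hsq, LinearMap.rTensor_comp,
      LinearMap.comp_apply, hαw, map_zero]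
  obtain ⟨v, rfl⟩ := (rTensor_exact L (LinearMap.exact_subtype_mkQ N₁) N₁.mkQ_surjective w).1 h1
  -- γ
  set P' : Ideal S₂ := (I.map (algebraMap R S₂)) * Jt with hP'
  have hP'le : P' ≤ Jt := Ideal.mul_le_right
  let incl : P' →ₗ[S₂] Jt := Submodule.inclusion hP'le
  have hincl : Function.Injective (rTensor L (incl.restrictScalars R)) :=
    rTensor_injective_of_flat R S₂ L incl (Submodule.inclusion_injective _)
  have hγmem : ∀ t : N₁, ((Algebra.linearMap R S₂) ∘ₗ J₀.subtype ∘ₗ N₁.subtype) t ∈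
      P'.restrictScalars R := by
    intro t
    have h1 : ((t : J₀) : R) ∈ I • J₀ := (Submodule.mem_smul_top_iff I J₀ t.1).1 t.2
    have h2 : algebraMap R S₂ ((t : J₀) : R) ∈ (I * J₀).map (algebraMap R S₂) :=
      Ideal.mem_map_of_mem _ h1
    rw [Ideal.map_mul] at h2
    exact h2
  let γ : N₁ →ₗ[R] P' :=
    ((Algebra.linearMap R S₂) ∘ₗ J₀.subtype ∘ₗ N₁.subtype).codRestrict (P'.restrictScalars R) hγmem
  have hγbij : Function.Bijective γ := by
    constructor
    · rw [injective_iff_map_eq_zero]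
      intro t ht
      have h0 : algebraMap R S₂ ((t : J₀) : R) = 0 := congrArg Subtype.val ht
      have := h_inj _ (hJ₀ t.1.2) h0
      exact Subtype.ext (Subtype.ext this)
    · rintro ⟨y, hy⟩
      obtain ⟨z, hz, e⟩ := key4 I h_ideal J₀ y hy
      have hzJ : z ∈ J₀ := Ideal.mul_le_right hz
      have hzN : (⟨z, hzJ⟩ : J₀) ∈ N₁ := by
        rw [hN₁, Submodule.mem_smul_top_iff]; exact hz
      exact ⟨⟨⟨z, hzJ⟩, hzN⟩, Subtype.ext e⟩
  have hsq2 : (incl.restrictScalars R) ∘ₗ γ = α ∘ₗ N₁.subtype := by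
    ext t; rfl
  have h2 : rTensor L γ v = 0 := by
    apply hincl
    rw [map_zero, ← LinearMap.comp_apply, ← LinearMap.rTensor_comp, hsq2, LinearMap.rTensor_comp,
      LinearMap.comp_apply]
    exact hαw
  have hγinj : Function.Injective (rTensor L γ) :=
    (LinearEquiv.rTensor L (LinearEquiv.ofBijective γ hγbij)).injective
  have hv : v = 0 := hγinj (by rw [h2, map_zero])
  rw [hv, map_zero]

include h_inj h_ideal in
theorem flat_core : Module.Flat R L := by
  rw [Module.Flat.iff_rTensor_injective']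
  intro J
  rw [injective_iff_map_eq_zero]
  intro x hx
  set Jq : Ideal (R ⧸ I) := J.map (Ideal.Quotient.mk I) with hJq
  let mk' : R →ₗ[R] (R ⧸ I) := Algebra.linearMap R (R ⧸ I)
  let π : J →ₗ[R] Jq := mk'.restrict (p := J) (q := Jq.restrictScalars R)
    (fun z hz => Ideal.mem_map_of_mem _ hz)
  let ι : Jq →ₗ[R ⧸ I] (R ⧸ I) := Jq.subtype
  have hπsurj : Function.Surjective π := by
    rintro ⟨y, hy⟩
    obtain ⟨z, hz, rfl⟩ := (Ideal.mem_map_iff_of_surjective _ Ideal.Quotient.mk_surjective).1 hy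
    exact ⟨⟨z, hz⟩, rfl⟩
  have hιinj : Function.Injective (rTensor L (ι.restrictScalars R)) :=
    rTensor_injective_of_flat R (R ⧸ I) L ι Subtype.val_injective
  have hcomp : (ι.restrictScalars R) ∘ₗ π = mk' ∘ₗ J.subtype := by
    ext z; rfl
  have h0 : rTensor L π x = 0 := by
    apply hιinj
    rw [map_zero, ← LinearMap.comp_apply, ← LinearMap.rTensor_comp, hcomp,
      LinearMap.rTensor_comp, LinearMap.comp_apply, hx, map_zero]
  obtain ⟨w, rfl⟩ := (rTensor_exact L (LinearMap.exact_subtype_ker_map π) hπsurj x).1 h0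
  set J₀ : Ideal R := J ⊓ I with hJ₀
  have hmem : ∀ t : LinearMap.ker π, (J.subtype ∘ₗ (LinearMap.ker π).subtype) t ∈ J₀ := by
    intro t
    refine ⟨t.1.2, ?_⟩
    have h1 : π t.1 = 0 := t.2
    have h2 : (Ideal.Quotient.mk I) (t.1 : R) = 0 := congrArg Subtype.val h1
    exact Ideal.Quotient.eq_zero_iff_mem.1 h2
  let θ : (LinearMap.ker π) →ₗ[R] J₀ :=
    LinearMap.codRestrict J₀ (J.subtype ∘ₗ (LinearMap.ker π).subtype) hmem
  let ρ : J₀ →ₗ[R] J := Submodule.inclusion inf_le_left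
  have hρθ : ρ ∘ₗ θ = (LinearMap.ker π).subtype := by ext; rfl
  have hJ₀θ : J₀.subtype ∘ₗ θ = J.subtype ∘ₗ (LinearMap.ker π).subtype := by ext; rfl
  have h1 : rTensor L J₀.subtype (rTensor L θ w) = 0 := by
    rw [← LinearMap.comp_apply, ← LinearMap.rTensor_comp, hJ₀θ, LinearMap.rTensor_comp,
      LinearMap.comp_apply]
    exact hx
  have h2 : rTensor L θ w = 0 :=
    stepC I h_inj h_ideal L J₀ inf_le_right (by rw [h1, map_zero])
  rw [← hρθ, LinearMap.rTensor_comp, LinearMap.comp_apply, h2, map_zero]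

end Core

section Milnor
variable (B' B A' A : Type u) [CommRing B'] [CommRing B] [CommRing A'] [CommRing A]
    [Algebra B' B] [Algebra B' A'] [Algebra B A] [Algebra A' A] [Algebra B' A] [IsScalarTower B' B A]
    [IsScalarTower B' A' A]

variable {B' B A' A} in
lemma surj_of_fibreSquare (hsq : EtMil.IsFibreSquare B' B A' A) :
    Function.Surjective (algebraMap B' B) := by
  intro b
  obtain ⟨a', ha'⟩ := hsq.1 (algebraMap B A b)
  obtain ⟨b', ⟨hb', -⟩, -⟩ := hsq.2 b a' ha'.symm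
  exact ⟨b', hb'⟩

variable {B' B A' A} in
lemma inj_of_fibreSquare (hsq : EtMil.IsFibreSquare B' B A' A) (r : B')
    (hr : r ∈ RingHom.ker (algebraMap B' B)) (h0 : algebraMap B' A' r = 0) : r = 0 := by
  obtain ⟨b', -, huniq⟩ := hsq.2 0 0 (by simp)
  have h1 := huniq r ⟨hr, h0⟩
  have h2 := huniq 0 ⟨by simp, by simp⟩
  rw [h1, h2]

variable {B' B A' A} in
lemma ideal_of_fibreSquare (hsq : EtMil.IsFibreSquare B' B A' A) (s : A') (i : B')
    (hi : i ∈ RingHom.ker (algebraMap B' B)) :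
    ∃ i' ∈ RingHom.ker (algebraMap B' B), algebraMap B' A' i' = s * algebraMap B' A' i := by
  have hcompat : algebraMap B A 0 = algebraMap A' A (s * algebraMap B' A' i) := by
    rw [map_zero, map_mul, ← IsScalarTower.algebraMap_apply B' A' A,
      IsScalarTower.algebraMap_apply B' B A, (RingHom.mem_ker).1 hi, map_zero, mul_zero]
  obtain ⟨b', ⟨hb1, hb2⟩, -⟩ := hsq.2 0 (s * algebraMap B' A' i) hcompat
  exact ⟨b', hb1, hb2⟩

theorem flat_of_fibreSquare (hsq : EtMil.IsFibreSquare B' B A' A)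
    (L' : Type u) [AddCommGroup L'] [Module B' L']
    [Module.Flat B (B ⊗[B'] L')] [Module.Flat A' (A' ⊗[B'] L')] : Module.Flat B' L' := by
  set I : Ideal B' := RingHom.ker (algebraMap B' B) with hI
  have hsurj := surj_of_fibreSquare hsq
  let e : B' ⧸ I ≃+* B := RingHom.quotientKerEquivOfSurjective hsurj
  letI : Algebra B (B' ⧸ I) := e.symm.toRingHom.toAlgebra
  have htower : IsScalarTower B' B (B' ⧸ I) := by
    refine IsScalarTower.of_algebraMap_eq (fun r => ?_)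
    show Ideal.Quotient.mk I r = e.symm (algebraMap B' B r)
    rw [RingEquiv.eq_symm_apply]
    rfl
  have hflat : Module.Flat (B' ⧸ I) ((B' ⧸ I) ⊗[B'] L') :=
    Module.Flat.of_linearEquiv
      (TensorProduct.AlgebraTensorModule.cancelBaseChange B' B (B' ⧸ I) (B' ⧸ I) L').symm
  exact flat_core I (fun r hr h0 => inj_of_fibreSquare hsq r hr h0)
    (fun s i hi => ideal_of_fibreSquare hsq s i hi) L'

end Milnor

end Groth.Agent.Helper7.FlatMilnor
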