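import Mathlib
import Groth.Agent.Helper7.FlatMilnor
set_option autoImplicit false
open TensorProduct LinearMap
universe u

namespace Groth.Agent.Helper7.FlatMilnor2
open Groth.Agent.Helper7.FlatMilnor Groth.Agent.Helper7.FlatAdic

lemma lTensor_injective_aux {R : Type*} [CommRing R] {K F L : Type*}
    [AddCommGroup K] [AddCommGroup F] [AddCommGroup L] [Module R K] [Module R F] [Module R L]
    [Module.Flat R L] (f : K →ₗ[R] F) (g : F →ₗ[R] L) (hf : Function.Injective f)
    (hg : Function.Surjective g) (hfg : Function.Exact f g)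
    {T G T₁ : Type*} [AddCommGroup T] [Module R T] [AddCommGroup G] [Module R G] [Module.Flat R G]
    [AddCommGroup T₁] [Module R T₁] (j : T₁ →ₗ[R] G) (p : G →ₗ[R] T) (hj : Function.Injective j)
    (hp : Function.Surjective p) (hjp : Function.Exact j p) :
    Function.Injective (lTensor T f) := by
  rw [injective_iff_map_eq_zero]
  intro x hx
  obtain ⟨y, rfl⟩ := LinearMap.rTensor_surjective K hp x
  have h2 : rTensor F p (lTensor G f y) = 0 := by
    rw [← LinearMap.comp_apply, LinearMap.rTensor_comp_lTensor, ← LinearMap.lTensor_comp_rTensor,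
      LinearMap.comp_apply, hx]
  obtain ⟨z, hz⟩ := (rTensor_exact F hjp hp _).1 h2
  have h4 : rTensor L j (lTensor T₁ g z) = 0 := by
    rw [← LinearMap.comp_apply, LinearMap.rTensor_comp_lTensor, ← LinearMap.lTensor_comp_rTensor,
      LinearMap.comp_apply, hz, ← LinearMap.comp_apply, ← LinearMap.lTensor_comp]
    have : g ∘ₗ f = 0 := by
      ext k; exact hfg.apply_apply_eq_zero k
    rw [this, LinearMap.lTensor_zero, LinearMap.zero_apply]
  have hjL : Function.Injective (rTensor L j) :=
    Module.Flat.rTensor_preserves_injective_linearMap j hj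
  have h4' : lTensor T₁ g z = 0 := hjL (by rw [h4, map_zero])
  obtain ⟨w, rfl⟩ := (lTensor_exact T₁ hfg hg z).1 h4'
  have h6 : lTensor G f (rTensor K j w) = lTensor G f y := by
    rw [← hz, ← LinearMap.comp_apply, LinearMap.lTensor_comp_rTensor,
      ← LinearMap.rTensor_comp_lTensor, LinearMap.comp_apply]
  have hGf : Function.Injective (lTensor G f) :=
    Module.Flat.lTensor_preserves_injective_linearMap f hf
  have h7 : rTensor K j w = y := hGf h6
  rw [← h7, ← LinearMap.comp_apply, ← LinearMap.rTensor_comp]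
  have : p ∘ₗ j = 0 := by
    ext k; exact hjp.apply_apply_eq_zero k
  rw [this, LinearMap.rTensor_zero, LinearMap.zero_apply]

/-- If `0 → K → F → L → 0` is exact with `L` flat then `T ⊗ K → T ⊗ F` is injective. -/
lemma lTensor_injective_of_flat_quotient {R : Type*} [CommRing R] {K F L : Type*}
    [AddCommGroup K] [AddCommGroup F] [AddCommGroup L] [Module R K] [Module R F] [Module R L]
    [Module.Flat R L] (f : K →ₗ[R] F) (g : F →ₗ[R] L) (hf : Function.Injective f)
    (hg : Function.Surjective g) (hfg : Function.Exact f g)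
    (T : Type*) [AddCommGroup T] [Module R T] : Function.Injective (lTensor T f) :=
  lTensor_injective_aux f g hf hg hfg (T := T) (G := T →₀ R)
    (T₁ := LinearMap.ker (Finsupp.linearCombination R (_root_.id : T → T)))
    (LinearMap.ker (Finsupp.linearCombination R (_root_.id : T → T))).subtype
    (Finsupp.linearCombination R (_root_.id : T → T)) Subtype.val_injective
    (Finsupp.linearCombination_id_surjective R T)
    (LinearMap.exact_subtype_ker_map (Finsupp.linearCombination R (_root_.id : T → T)))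

section Core
variable {R S₂ : Type u} [CommRing R] [CommRing S₂] [Algebra R S₂] (I : Ideal R)
  (h_inj : ∀ r ∈ I, algebraMap R S₂ r = 0 → r = 0)
  (h_ideal : ∀ (s : S₂) (i : R), i ∈ I → ∃ i' ∈ I, algebraMap R S₂ i' = s * algebraMap R S₂ i)

include h_inj h_ideal in
/-- M1: conservativity of the pair `(R ⧸ I, S₂)`. -/
lemma subsingleton_core (C : Type*) [AddCommGroup C] [Module R C]
    [Subsingleton ((R ⧸ I) ⊗[R] C)] [Subsingleton (S₂ ⊗[R] C)] : Subsingleton C := by
  -- step a
  have ha : (I • ⊤ : Submodule R C) = ⊤ := by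
    have : Subsingleton (C ⧸ (I • ⊤ : Submodule R C)) :=
      (TensorProduct.quotTensorEquivQuotSMul C I).symm.toEquiv.subsingleton
    exact Submodule.Quotient.subsingleton_iff.1 this
  -- step b
  set I₂ : Ideal S₂ := I.map (algebraMap R S₂) with hI₂
  let e₀ : I →ₗ[R] I₂ := (Algebra.linearMap R S₂).restrict (p := I) (q := I₂.restrictScalars R)
      (fun z hz => Ideal.mem_map_of_mem _ hz)
  have he₀ : Function.Bijective e₀ := by
    constructor
    · rw [injective_iff_map_eq_zero]
      intro i hi
      have : algebraMap R S₂ (i : R) = 0 := congrArg Subtype.val hi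
      exact Subtype.ext (h_inj _ i.2 this)
    · rintro ⟨a, ha'⟩
      obtain ⟨i, hi, rfl⟩ := key3 I h_ideal a ha'
      exact ⟨⟨i, hi⟩, rfl⟩
  let e : I ≃ₗ[R] I₂ := LinearEquiv.ofBijective e₀ he₀
  have hsub : Subsingleton (I₂ ⊗[R] C) :=
    (TensorProduct.AlgebraTensorModule.cancelBaseChange R S₂ S₂ I₂ C).symm.toEquiv.subsingleton
  let m : I₂ ⊗[R] C →ₗ[R] C :=
    TensorProduct.lift ((LinearMap.lsmul R C) ∘ₗ I.subtype ∘ₗ e.symm.toLinearMap)
  have hb : ∀ i ∈ I, ∀ c : C, i • c = 0 := by
    intro i hi c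
    have h1 : m ((e ⟨i, hi⟩) ⊗ₜ[R] c) = i • c := by
      simp only [m, TensorProduct.lift.tmul, LinearMap.comp_apply, LinearEquiv.coe_coe,
        LinearEquiv.symm_apply_apply, Submodule.subtype_apply, LinearMap.lsmul_apply]
    have h2 : ((e ⟨i, hi⟩) ⊗ₜ[R] c) = (0 : I₂ ⊗[R] C) := Subsingleton.elim _ _
    rw [← h1, h2, map_zero]
  have hbot : (I • ⊤ : Submodule R C) ≤ ⊥ := by
    rw [Submodule.smul_le]
    intro i hi c _
    rw [hb i hi c]; exact Submodule.zero_mem _
  rw [ha] at hbot
  refine ⟨fun a b => ?_⟩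
  have h1 : a ∈ (⊥ : Submodule R C) := hbot trivial
  have h2 : b ∈ (⊥ : Submodule R C) := hbot trivial
  rw [Submodule.mem_bot] at h1 h2
  rw [h1, h2]

/-- helper: a finite set of elements whose span has trivial quotient after base change -/
lemma exists_finset_subsingleton_quotient (T : Type*) [CommRing T] [Algebra R T]
    (L : Type*) [AddCommGroup L] [Module R L] [Module.Finite T (T ⊗[R] L)] :
    ∃ s : Finset L, ∀ N : Submodule R L, (↑s ⊆ (N : Set L)) → Subsingleton (T ⊗[R] (L ⧸ N)) := by
  classical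
  obtain ⟨n, g, hg⟩ := Module.Finite.exists_fin (R := T) (M := T ⊗[R] L)
  choose k a l h using fun i : Fin n => TensorProduct.exists_sum_tmul_eq (g i)
  refine ⟨Finset.univ.biUnion (fun i => Finset.univ.image (l i)), ?_⟩
  intro N hN
  have hker : LinearMap.ker (N.mkQ.baseChange T) = ⊤ := by
    rw [eq_top_iff, ← hg, Submodule.span_le]
    rintro _ ⟨i, rfl⟩
    rw [SetLike.mem_coe, LinearMap.mem_ker, h i, map_sum]
    refine Finset.sum_eq_zero ?_
    intro j _
    rw [LinearMap.baseChange_tmul]
    have : l i j ∈ N := by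
      apply hN
      simp only [Finset.coe_biUnion, Finset.coe_univ, Set.mem_univ, Finset.coe_image, Set.image_univ,
        Set.iUnion_true, Set.mem_iUnion, Set.mem_range]
      exact ⟨i, j, rfl⟩
    rw [Submodule.mkQ_apply, (Submodule.Quotient.mk_eq_zero N).2 this, TensorProduct.tmul_zero]
  have hsurj : Function.Surjective (N.mkQ.baseChange T) := by
    rw [LinearMap.baseChange_eq_ltensor]
    exact LinearMap.lTensor_surjective T N.mkQ_surjective
  refine ⟨fun x y => ?_⟩
  obtain ⟨x', rfl⟩ := hsurj x
  obtain ⟨y', rfl⟩ := hsurj y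
  have hx : x' ∈ LinearMap.ker (N.mkQ.baseChange T) := by rw [hker]; trivial
  have hy : y' ∈ LinearMap.ker (N.mkQ.baseChange T) := by rw [hker]; trivial
  rw [LinearMap.mem_ker.1 hx, LinearMap.mem_ker.1 hy]

include h_inj h_ideal in
/-- M2 -/
lemma finite_core (L : Type*) [AddCommGroup L] [Module R L]
    [Module.Finite (R ⧸ I) ((R ⧸ I) ⊗[R] L)] [Module.Finite S₂ (S₂ ⊗[R] L)] : Module.Finite R L := by
  classical
  obtain ⟨s₁, hs₁⟩ := exists_finset_subsingleton_quotient (R := R) (R ⧸ I) L
  obtain ⟨s₂, hs₂⟩ := exists_finset_subsingleton_quotient (R := R) S₂ L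
  set N : Submodule R L := Submodule.span R (↑(s₁ ∪ s₂) : Set L) with hN
  have h1 : Subsingleton ((R ⧸ I) ⊗[R] (L ⧸ N)) := hs₁ N (by
    intro x hx
    exact Submodule.subset_span (by simp only [Finset.coe_union]; exact Or.inl hx))
  have h2 : Subsingleton (S₂ ⊗[R] (L ⧸ N)) := hs₂ N (by
    intro x hx
    exact Submodule.subset_span (by simp only [Finset.coe_union]; exact Or.inr hx))
  have h3 := subsingleton_core I h_inj h_ideal (L ⧸ N)
  have h4 : N = ⊤ := Submodule.Quotient.subsingleton_iff.1 h3
  exact ⟨⟨s₁ ∪ s₂, h4⟩⟩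

end Core

lemma finite_tensor_ker {R : Type*} [CommRing R] (T : Type*) [CommRing T] [Algebra R T]
    (L : Type*) [AddCommGroup L] [Module R L] [Module.Flat R L]
    [Module.FinitePresentation T (T ⊗[R] L)] {n : ℕ} (f : (Fin n → R) →ₗ[R] L)
    (hf : Function.Surjective f) : Module.Finite T (T ⊗[R] LinearMap.ker f) := by
  set K := LinearMap.ker f with hK
  have hfS : Function.Surjective (f.baseChange T) := by
    rw [LinearMap.baseChange_eq_ltensor]
    exact LinearMap.lTensor_surjective T hf
  have hkerS : (LinearMap.ker (f.baseChange T)).FG :=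
    Module.FinitePresentation.fg_ker (f.baseChange T) hfS
  have hmem : ∀ t : T ⊗[R] K, (K.subtype.baseChange T) t ∈ LinearMap.ker (f.baseChange T) := by
    intro t
    rw [LinearMap.mem_ker, ← LinearMap.comp_apply, ← LinearMap.baseChange_comp]
    have : f ∘ₗ K.subtype = 0 := by
      ext x; exact x.2
    rw [this, LinearMap.baseChange_zero, LinearMap.zero_apply]
  let g : T ⊗[R] K →ₗ[T] LinearMap.ker (f.baseChange T) :=
    (K.subtype.baseChange T).codRestrict _ hmem
  have hginj : Function.Injective g := by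
    intro a b hab
    have h1 : (K.subtype.baseChange T) a = (K.subtype.baseChange T) b := congrArg Subtype.val hab
    have h2 : Function.Injective (K.subtype.baseChange T) := by
      rw [LinearMap.baseChange_eq_ltensor]
      exact lTensor_injective_of_flat_quotient K.subtype f Subtype.val_injective hf
        (LinearMap.exact_subtype_ker_map f) T
    exact h2 h1
  have hgsurj : Function.Surjective g := by
    rintro ⟨y, hy⟩
    have hex := lTensor_exact T (LinearMap.exact_subtype_ker_map f) hf
    have hy' : (lTensor T f) y = 0 := by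
      have := LinearMap.mem_ker.1 hy
      rwa [LinearMap.baseChange_eq_ltensor] at this
    obtain ⟨t, ht⟩ := (hex y).1 hy'
    exact ⟨t, Subtype.ext ht⟩
  haveI : Module.Finite T (LinearMap.ker (f.baseChange T)) := Module.Finite.of_fg hkerS
  exact Module.Finite.equiv (LinearEquiv.ofBijective g ⟨hginj, hgsurj⟩).symm

section Core2
variable {R S₂ : Type u} [CommRing R] [CommRing S₂] [Algebra R S₂] (I : Ideal R)
  (h_inj : ∀ r ∈ I, algebraMap R S₂ r = 0 → r = 0)
  (h_ideal : ∀ (s : S₂) (i : R), i ∈ I → ∃ i' ∈ I, algebraMap R S₂ i' = s * algebraMap R S₂ i)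

include h_inj h_ideal in
/-- M3 -/
lemma fp_core (L : Type u) [AddCommGroup L] [Module R L]
    [Module.Flat (R ⧸ I) ((R ⧸ I) ⊗[R] L)] [Module.Flat S₂ (S₂ ⊗[R] L)]
    [Module.FinitePresentation (R ⧸ I) ((R ⧸ I) ⊗[R] L)]
    [Module.FinitePresentation S₂ (S₂ ⊗[R] L)] : Module.FinitePresentation R L := by
  have hflat : Module.Flat R L := flat_core I h_inj h_ideal L
  have hfin : Module.Finite R L := finite_core I h_inj h_ideal L
  obtain ⟨n, f, hf⟩ := Module.Finite.exists_fin' R L
  refine Module.finitePresentation_of_free_of_surjective f hf ?_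
  have h1 : Module.Finite (R ⧸ I) ((R ⧸ I) ⊗[R] LinearMap.ker f) :=
    finite_tensor_ker (R ⧸ I) L f hf
  have h2 : Module.Finite S₂ (S₂ ⊗[R] LinearMap.ker f) := finite_tensor_ker S₂ L f hf
  have h3 : Module.Finite R (LinearMap.ker f) := finite_core I h_inj h_ideal (LinearMap.ker f)
  exact (Submodule.fg_top _).1 (Module.finite_def.1 h3)

end Core2

section Milnor
variable (B' B A' A : Type u) [CommRing B'] [CommRing B] [CommRing A'] [CommRing A]
    [Algebra B' B] [Algebra B' A'] [Algebra B A] [Algebra A' A] [Algebra B' A] [IsScalarTower B' B A]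
    [IsScalarTower B' A' A]

variable {B' B} in
lemma transfer (hsurj : Function.Surjective (algebraMap B' B))
    (L : Type u) [AddCommGroup L] [Module B' L] :
    (Module.Flat B (B ⊗[B'] L) → Module.Flat (B' ⧸ RingHom.ker (algebraMap B' B))
        ((B' ⧸ RingHom.ker (algebraMap B' B)) ⊗[B'] L)) ∧
    (Module.FinitePresentation B (B ⊗[B'] L) →
      Module.FinitePresentation (B' ⧸ RingHom.ker (algebraMap B' B))
        ((B' ⧸ RingHom.ker (algebraMap B' B)) ⊗[B'] L)) ∧
    (Subsingleton (B ⊗[B'] L) →
      Subsingleton ((B' ⧸ RingHom.ker (algebraMap B' B)) ⊗[B'] L)) := by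
  set I : Ideal B' := RingHom.ker (algebraMap B' B) with hI
  let e : B' ⧸ I ≃+* B := RingHom.quotientKerEquivOfSurjective hsurj
  letI : Algebra B (B' ⧸ I) := e.symm.toRingHom.toAlgebra
  have htower : IsScalarTower B' B (B' ⧸ I) := by
    refine IsScalarTower.of_algebraMap_eq (fun r => ?_)
    show Ideal.Quotient.mk I r = e.symm (algebraMap B' B r)
    rw [RingEquiv.eq_symm_apply]
    rfl
  refine ⟨fun h => ?_, fun h => ?_, fun h => ?_⟩
  · exact Module.Flat.of_linearEquiv
      (TensorProduct.AlgebraTensorModule.cancelBaseChange B' B (B' ⧸ I) (B' ⧸ I) L).symm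
  · exact Module.FinitePresentation.of_equiv
      (TensorProduct.AlgebraTensorModule.cancelBaseChange B' B (B' ⧸ I) (B' ⧸ I) L)
  · exact (TensorProduct.AlgebraTensorModule.cancelBaseChange B' B (B' ⧸ I) (B' ⧸ I)
      L).symm.toEquiv.subsingleton

theorem fp_of_fibreSquare (hsq : EtMil.IsFibreSquare B' B A' A)
    (L' : Type u) [AddCommGroup L'] [Module B' L']
    [Module.Flat B (B ⊗[B'] L')] [Module.FinitePresentation B (B ⊗[B'] L')]
    [Module.Flat A' (A' ⊗[B'] L')] [Module.FinitePresentation A' (A' ⊗[B'] L')] :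
    Module.FinitePresentation B' L' := by
  have hsurj := surj_of_fibreSquare hsq
  obtain ⟨h1, h2, -⟩ := transfer hsurj L'
  have := h1 inferInstance
  have := h2 inferInstance
  exact fp_core (RingHom.ker (algebraMap B' B)) (fun r hr h0 => inj_of_fibreSquare hsq r hr h0)
    (fun s i hi => ideal_of_fibreSquare hsq s i hi) L'

theorem subsingleton_of_fibreSquare (hsq : EtMil.IsFibreSquare B' B A' A)
    (C : Type u) [AddCommGroup C] [Module B' C]
    [Subsingleton (B ⊗[B'] C)] [Subsingleton (A' ⊗[B'] C)] : Subsingleton C := by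
  have hsurj := surj_of_fibreSquare hsq
  obtain ⟨-, -, h3⟩ := transfer hsurj C
  have := h3 inferInstance
  exact subsingleton_core (RingHom.ker (algebraMap B' B))
    (fun r hr h0 => inj_of_fibreSquare hsq r hr h0)
    (fun s i hi => ideal_of_fibreSquare hsq s i hi) C

end Milnor

end Groth.Agent.Helper7.FlatMilnor2
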