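import Mathlib
import Groth.Prelude.Def_EtMil
import Groth.Agent.Helper7.EtMil
import Groth.Agent.Helper7.FlatMilnor2

/-! Milnor squares of flat `R`-algebras: flatness of the corner, base change. -/

universe u

open TensorProduct

namespace Groth.Agent.Helper7.MilnorFlat

open Groth.Agent.Helper7.FlatMilnor2

/-- the kernel of a surjection of flat modules is flat -/
theorem flat_of_exact {R : Type*} [CommRing R] {K F L : Type*}
    [AddCommGroup K] [AddCommGroup F] [AddCommGroup L] [Module R K] [Module R F] [Module R L]
    [Module.Flat R F] [Module.Flat R L] (f : K →ₗ[R] F) (g : F →ₗ[R] L) (hf : Function.Injective f)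
    (hg : Function.Surjective g) (hfg : Function.Exact f g) : Module.Flat R K := by
  rw [Module.Flat.iff_rTensor_injective']
  intro I
  have h1 : Function.Injective (LinearMap.lTensor I f) :=
    lTensor_injective_of_flat_quotient f g hf hg hfg I
  have h2 : Function.Injective (LinearMap.rTensor F I.subtype) :=
    Module.Flat.rTensor_preserves_injective_linearMap _ Subtype.val_injective
  have h3 : (LinearMap.rTensor F I.subtype) ∘ₗ (LinearMap.lTensor I f) =
      (LinearMap.lTensor R f) ∘ₗ (LinearMap.rTensor K I.subtype) := by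
    rw [LinearMap.rTensor_comp_lTensor, LinearMap.lTensor_comp_rTensor]
  have h4 : Function.Injective ((LinearMap.lTensor R f) ∘ (LinearMap.rTensor K I.subtype)) := by
    rw [← LinearMap.coe_comp, ← h3, LinearMap.coe_comp]
    exact h2.comp h1
  exact Function.Injective.of_comp h4

/-- a product of flat modules is flat -/
theorem flat_prod {R : Type*} [CommRing R] {M N : Type*} [AddCommGroup M] [AddCommGroup N]
    [Module R M] [Module R N] [Module.Flat R M] [Module.Flat R N] : Module.Flat R (M × N) := by
  rw [Module.Flat.iff_rTensor_injective']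
  intro I
  rw [injective_iff_map_eq_zero]
  intro z hz
  have hM : Function.Injective (LinearMap.rTensor M I.subtype) :=
    Module.Flat.rTensor_preserves_injective_linearMap _ Subtype.val_injective
  have hN : Function.Injective (LinearMap.rTensor N I.subtype) :=
    Module.Flat.rTensor_preserves_injective_linearMap _ Subtype.val_injective
  have h1 : LinearMap.lTensor I (LinearMap.fst R M N) z = 0 := by
    apply hM
    rw [map_zero, ← LinearMap.comp_apply, LinearMap.rTensor_comp_lTensor,
      ← LinearMap.lTensor_comp_rTensor, LinearMap.comp_apply, hz, map_zero]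
  have h2 : LinearMap.lTensor I (LinearMap.snd R M N) z = 0 := by
    apply hN
    rw [map_zero, ← LinearMap.comp_apply, LinearMap.rTensor_comp_lTensor,
      ← LinearMap.lTensor_comp_rTensor, LinearMap.comp_apply, hz, map_zero]
  have h3 : z = LinearMap.lTensor I (LinearMap.inl R M N) (LinearMap.lTensor I (LinearMap.fst R M N) z) +
      LinearMap.lTensor I (LinearMap.inr R M N) (LinearMap.lTensor I (LinearMap.snd R M N) z) := by
    rw [← LinearMap.lTensor_comp_apply, ← LinearMap.lTensor_comp_apply, ← LinearMap.add_apply,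
      ← LinearMap.lTensor_add]
    have : (LinearMap.inl R M N) ∘ₗ (LinearMap.fst R M N) +
        (LinearMap.inr R M N) ∘ₗ (LinearMap.snd R M N) = LinearMap.id := by
      ext x <;> simp
    rw [this, LinearMap.lTensor_id, LinearMap.id_apply]
  rw [h3, h1, h2, map_zero, map_zero, add_zero]

lemma fst_dec {R : Type*} [CommRing R] {T M N : Type*} [AddCommGroup T] [AddCommGroup M]
    [AddCommGroup N] [Module R T] [Module R M] [Module R N] (p : T ⊗[R] M) (q : T ⊗[R] N) :
    LinearMap.lTensor T (LinearMap.fst R M N) (LinearMap.lTensor T (LinearMap.inl R M N) p +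
      LinearMap.lTensor T (LinearMap.inr R M N) q) = p := by
  rw [map_add, ← LinearMap.lTensor_comp_apply, ← LinearMap.lTensor_comp_apply,
    LinearMap.fst_comp_inl, LinearMap.fst_comp_inr, LinearMap.lTensor_id, LinearMap.lTensor_zero,
    LinearMap.id_apply, LinearMap.zero_apply, add_zero]

lemma snd_dec {R : Type*} [CommRing R] {T M N : Type*} [AddCommGroup T] [AddCommGroup M]
    [AddCommGroup N] [Module R T] [Module R M] [Module R N] (p : T ⊗[R] M) (q : T ⊗[R] N) :
    LinearMap.lTensor T (LinearMap.snd R M N) (LinearMap.lTensor T (LinearMap.inl R M N) p +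
      LinearMap.lTensor T (LinearMap.inr R M N) q) = q := by
  rw [map_add, ← LinearMap.lTensor_comp_apply, ← LinearMap.lTensor_comp_apply,
    LinearMap.snd_comp_inl, LinearMap.snd_comp_inr, LinearMap.lTensor_id, LinearMap.lTensor_zero,
    LinearMap.id_apply, LinearMap.zero_apply, zero_add]

section

variable (R : Type u) {B' B A' A : Type u} [CommRing R] [CommRing B'] [CommRing B] [CommRing A'] [CommRing A]
  [Algebra B' B] [Algebra B' A'] [Algebra B A] [Algebra A' A] [Algebra B' A]
  [IsScalarTower B' B A] [IsScalarTower B' A' A]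
  [Algebra R B'] [Algebra R B] [Algebra R A'] [Algebra R A]
  [IsScalarTower R B' B] [IsScalarTower R B' A'] [IsScalarTower R B' A] [IsScalarTower R B A] [IsScalarTower R A' A]

variable (B' B A') in
/-- the diagonal map `B' → B × A'`, `R`-linear -/
noncomputable def fR : B' →ₗ[R] B × A' :=
  LinearMap.prod (IsScalarTower.toAlgHom R B' B).toLinearMap (IsScalarTower.toAlgHom R B' A').toLinearMap

variable (B A' A) in
/-- the difference map `B × A' → A`, `R`-linear -/
noncomputable def gR : B × A' →ₗ[R] A :=
  LinearMap.coprod (IsScalarTower.toAlgHom R B A).toLinearMap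
    (-(IsScalarTower.toAlgHom R A' A).toLinearMap)

lemma fR_apply (b' : B') : fR R B' B A' b' = (algebraMap B' B b', algebraMap B' A' b') := rfl

lemma gR_apply (x : B × A') : gR R B A' A x = algebraMap B A x.1 - algebraMap A' A x.2 := by
  simp [gR, sub_eq_add_neg]

theorem fR_injective (hsq : EtMil.IsFibreSquare B' B A' A) :
    Function.Injective (fR R B' B A') := by
  intro x y h
  rw [fR_apply, fR_apply, Prod.ext_iff] at h
  exact EtMilH.ext_sq hsq h.1 h.2

theorem exact_fR_gR (hsq : EtMil.IsFibreSquare B' B A' A) :
    Function.Exact (fR R B' B A') (gR R B A' A) := by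
  intro x
  constructor
  · intro hx
    rw [gR_apply, sub_eq_zero] at hx
    obtain ⟨b', ⟨h1, h2⟩, _⟩ := hsq.2 x.1 x.2 hx
    exact ⟨b', by rw [fR_apply, h1, h2]⟩
  · rintro ⟨b', rfl⟩
    rw [gR_apply, fR_apply, sub_eq_zero, ← IsScalarTower.algebraMap_apply,
      ← IsScalarTower.algebraMap_apply]

theorem gR_surjective (hsq : EtMil.IsFibreSquare B' B A' A) :
    Function.Surjective (gR R B A' A) := by
  intro a
  obtain ⟨a', ha'⟩ := hsq.1 a
  refine ⟨(0, -a'), ?_⟩
  rw [gR_apply, map_zero, map_neg, ha', zero_sub, neg_neg]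

theorem flat_corner (hsq : EtMil.IsFibreSquare B' B A' A)
    [Module.Flat R B] [Module.Flat R A'] [Module.Flat R A] : Module.Flat R B' :=
  haveI : Module.Flat R (B × A') := flat_prod
  flat_of_exact (fR R B' B A') (gR R B A' A) (fR_injective R hsq) (gR_surjective R hsq)
    (exact_fR_gR R hsq)

lemma map_eq_lTensor {R' : Type u} [CommRing R'] [Algebra R R'] {X Y : Type u} [CommRing X]
    [CommRing Y] [Algebra R X] [Algebra R Y] (h : X →ₐ[R] Y) (z : R' ⊗[R] X) :
    Algebra.TensorProduct.map (AlgHom.id R R') h z = LinearMap.lTensor R' h.toLinearMap z := by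
  induction z with
  | zero => rw [map_zero, map_zero]
  | add x y hx hy => rw [map_add, map_add, hx, hy]
  | tmul r x => simp

theorem baseChange_square (hsq : EtMil.IsFibreSquare B' B A' A) [Module.Flat R A]
    (R' : Type u) [CommRing R'] [Algebra R R'] :
    Function.Surjective (Algebra.TensorProduct.map (AlgHom.id R R') (IsScalarTower.toAlgHom R A' A)) ∧
    ∀ (x : R' ⊗[R] B) (y : R' ⊗[R] A'),
      Algebra.TensorProduct.map (AlgHom.id R R') (IsScalarTower.toAlgHom R B A) x =
        Algebra.TensorProduct.map (AlgHom.id R R') (IsScalarTower.toAlgHom R A' A) y →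
      ∃! z : R' ⊗[R] B',
        Algebra.TensorProduct.map (AlgHom.id R R') (IsScalarTower.toAlgHom R B' B) z = x ∧
        Algebra.TensorProduct.map (AlgHom.id R R') (IsScalarTower.toAlgHom R B' A') z = y := by
  constructor
  · intro t
    obtain ⟨s, hs⟩ := LinearMap.lTensor_surjective R' (g := (IsScalarTower.toAlgHom R A' A).toLinearMap)
      hsq.1 t
    exact ⟨s, by rw [map_eq_lTensor, hs]⟩
  · intro x y hxy
    rw [map_eq_lTensor, map_eq_lTensor] at hxy
    have hinj : Function.Injective (LinearMap.lTensor R' (fR R B' B A')) :=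
      lTensor_injective_of_flat_quotient (fR R B' B A') (gR R B A' A) (fR_injective R hsq)
        (gR_surjective R hsq) (exact_fR_gR R hsq) R'
    have hex : Function.Exact (LinearMap.lTensor R' (fR R B' B A'))
        (LinearMap.lTensor R' (gR R B A' A)) :=
      lTensor_exact R' (exact_fR_gR R hsq) (gR_surjective R hsq)
    -- decomposition of `lTensor f`
    have hdec : ∀ z : R' ⊗[R] B', LinearMap.lTensor R' (fR R B' B A') z =
        LinearMap.lTensor R' (LinearMap.inl R B A')
          (LinearMap.lTensor R' (IsScalarTower.toAlgHom R B' B).toLinearMap z) +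
        LinearMap.lTensor R' (LinearMap.inr R B A')
          (LinearMap.lTensor R' (IsScalarTower.toAlgHom R B' A').toLinearMap z) := by
      intro z
      rw [← LinearMap.lTensor_comp_apply, ← LinearMap.lTensor_comp_apply, ← LinearMap.add_apply,
        ← LinearMap.lTensor_add]
      congr 2
      ext b'
      · simp [fR]
      · simp [fR]
    set w : R' ⊗[R] (B × A') := LinearMap.lTensor R' (LinearMap.inl R B A') x +
      LinearMap.lTensor R' (LinearMap.inr R B A') y with hw
    have hgw : LinearMap.lTensor R' (gR R B A' A) w = 0 := by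
      rw [hw, map_add, ← LinearMap.lTensor_comp_apply, ← LinearMap.lTensor_comp_apply]
      have e1 : (gR R B A' A) ∘ₗ (LinearMap.inl R B A') =
          (IsScalarTower.toAlgHom R B A).toLinearMap := by
        simp [gR]
      have e2 : (gR R B A' A) ∘ₗ (LinearMap.inr R B A') =
          -(IsScalarTower.toAlgHom R A' A).toLinearMap := by
        simp [gR]
      rw [e1, e2, hxy, LinearMap.lTensor_neg, LinearMap.neg_apply, add_neg_cancel]
    obtain ⟨z, hz⟩ := (hex w).1 hgw
    have hz2 := hz
    rw [hdec] at hz2
    have hfst := congrArg (LinearMap.lTensor R' (LinearMap.fst R B A')) hz2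
    have hsnd := congrArg (LinearMap.lTensor R' (LinearMap.snd R B A')) hz2
    rw [hw, fst_dec, fst_dec] at hfst
    rw [hw, snd_dec, snd_dec] at hsnd
    refine ⟨z, ⟨by rw [map_eq_lTensor, hfst], by rw [map_eq_lTensor, hsnd]⟩, ?_⟩
    rintro z' ⟨h1, h2⟩
    rw [map_eq_lTensor] at h1 h2
    apply hinj
    rw [hdec z', hdec z, h1, h2, hfst, hsnd]

end

end Groth.Agent.Helper7.MilnorFlat
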