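import Mathlib
import Groth.Prelude
import Groth.Agent.Helper2.NormalPt
import Groth.Agent.Helper2.RegCM
import Groth.Agent.Helper2.DepthCM
import Groth.Agent.Helper7.ZPure2

/-!
# Openness of the normal locus when the regular locus is open
-/

set_option autoImplicit false
set_option linter.style.haveILetI false
set_option linter.unusedSectionVars false

namespace Groth.Agent.Helper7.NorOpen

universe u

open Groth.Agent.Helper2 Groth.Agent.Helper2.NormalPt IsLocalRing
open scoped Pointwise

/-- In a Noetherian local ring of depth `≤ 1`, a regular element `x` of the maximal ideal admits a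
socle element modulo `x`. -/
theorem local_socle (R : Type u) [CommRing R] [IsLocalRing R] [IsNoetherianRing R] (x : R)
    (hx : x ∈ maximalIdeal R) (hreg : IsSMulRegular R x)
    (h : ¬ (2 : ℕ∞) ≤ LocCoh.depth R R) :
    ∃ y : R, ∀ r : R, (∃ z, r * y = x * z) ↔ r ∈ maximalIdeal R := by
  have hIM : maximalIdeal R • (⊤ : Submodule R R) ≠ ⊤ := Depth.smul_top_ne_top R R
  have hd := DepthCM.idealDepth_quotSMulTop (maximalIdeal R) R hIM x hx hreg
  have hnt : Nontrivial (QuotSMulTop x R) := by
    apply Submodule.Quotient.nontrivial_iff.2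
    intro htop
    have h1 : (1 : R) ∈ x • (⊤ : Submodule R R) := by rw [htop]; trivial
    rw [Submodule.mem_smul_pointwise_iff_exists] at h1
    obtain ⟨z, -, hz⟩ := h1
    rw [smul_eq_mul] at hz
    exact (IsLocalRing.mem_maximalIdeal x).1 hx (IsUnit.of_mul_eq_one z hz)
  have h0 : LocCoh.depth R (QuotSMulTop x R) = 0 := by
    by_contra h0
    apply h
    have h1 : (1 : ℕ∞) ≤ LocCoh.depth R (QuotSMulTop x R) := Order.one_le_iff_ne_zero.2 h0
    unfold LocCoh.depth at h1 ⊢
    rw [← hd]
    calc (2 : ℕ∞) = 1 + 1 := by norm_num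
      _ ≤ _ := add_le_add_left h1 1
  rw [Depth.depth_eq_zero_iff] at h0
  have hass := Ass.maximalIdeal_mem_ass_of_forall_not_regular R (QuotSMulTop x R) h0
  rw [AssociatedPrimes.mem_iff, isAssociatedPrime_iff] at hass
  obtain ⟨-, yb, hyb⟩ := hass
  obtain ⟨y, rfl⟩ := Submodule.Quotient.mk_surjective _ yb
  refine ⟨y, fun r => ?_⟩
  rw [hyb, Submodule.mem_colon_singleton, Submodule.mem_bot, ← Submodule.Quotient.mk_smul,
    Submodule.Quotient.mk_eq_zero, Submodule.mem_smul_pointwise_iff_exists]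
  constructor
  · rintro ⟨z, hz⟩
    exact ⟨z, trivial, by rw [smul_eq_mul, smul_eq_mul, hz]⟩
  · rintro ⟨z, -, hz⟩
    exact ⟨z, by rw [smul_eq_mul, smul_eq_mul] at hz; exact hz.symm⟩


variable {A : Type u} [CommRing A] [IsNoetherianRing A]

theorem exists_common (q : Ideal A) [hq : q.IsPrime] (g y : A)
    (h : ∀ r ∈ q, ∃ t ∉ q, ∃ a, t * (r * y) = g * a) :
    ∃ t ∉ q, ∀ r ∈ q, ∃ a, t * (r * y) = g * a := by
  classical
  obtain ⟨T, hT⟩ := (isNoetherianRing_iff_ideal_fg A).mp ‹_› q
  have key : ∀ S : Finset A, (∀ r ∈ S, r ∈ q) →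
      ∃ t ∉ q, ∀ r ∈ S, ∃ a, t * (r * y) = g * a := by
    intro S
    induction S using Finset.induction_on with
    | empty =>
      intro _
      exact ⟨1, fun h1 => (Ideal.ne_top_iff_one q).1 hq.ne_top h1, by simp⟩
    | insert r S hr ih =>
      intro hS
      obtain ⟨t, ht, hta⟩ := ih (fun r' hr' => hS r' (Finset.mem_insert_of_mem hr'))
      obtain ⟨t', ht', a', ha'⟩ := h r (hS r (Finset.mem_insert_self _ _))
      refine ⟨t * t', fun hm => (hq.mem_or_mem hm).elim ht ht', ?_⟩
      intro r' hr'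
      rcases Finset.mem_insert.1 hr' with rfl | hr'
      · exact ⟨t * a', by rw [mul_assoc, ha']; ring⟩
      · obtain ⟨a, ha⟩ := hta r' hr'
        exact ⟨t' * a, by rw [mul_comm t t', mul_assoc, ha]; ring⟩
  obtain ⟨t, ht, hta⟩ := key T (fun r hr => by rw [← hT]; exact Ideal.subset_span hr)
  refine ⟨t, ht, fun r hr => ?_⟩
  rw [← hT] at hr
  induction hr using Submodule.span_induction with
  | mem r hr => exact hta r hr
  | zero => exact ⟨0, by ring⟩
  | add r s _ _ hr hs =>
    obtain ⟨a, ha⟩ := hr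
    obtain ⟨b, hb⟩ := hs
    exact ⟨a + b, by rw [add_mul, mul_add, ha, hb]; ring⟩
  | smul c r _ hr =>
    obtain ⟨a, ha⟩ := hr
    exact ⟨c * a, by rw [smul_eq_mul, mul_assoc c r y, mul_left_comm t c, ha]; ring⟩

theorem mem_ass_quot (q : Ideal A) [hq : q.IsPrime] (g : A) (hg : g ∈ q)
    (hreg : IsSMulRegular (Localization.AtPrime q) (algebraMap A (Localization.AtPrime q) g))
    (h : ¬ (2 : ℕ∞) ≤ LocCoh.depth (Localization.AtPrime q) (Localization.AtPrime q)) :
    q ∈ associatedPrimes A (A ⧸ Ideal.span {g}) := by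
  have hcomap : (maximalIdeal (Localization.AtPrime q)).comap
      (algebraMap A (Localization.AtPrime q)) = q := Localization.AtPrime.under_maximalIdeal
  have hmem : ∀ r : A, algebraMap A (Localization.AtPrime q) r ∈
      maximalIdeal (Localization.AtPrime q) ↔ r ∈ q := by
    intro r
    rw [← Ideal.mem_comap, hcomap]
  obtain ⟨y', hy'⟩ := local_socle (Localization.AtPrime q) _ ((hmem g).2 hg) hreg h
  obtain ⟨y, s, rfl⟩ := IsLocalization.exists_mk'_eq q.primeCompl y'
  have hy : ∀ r : Localization.AtPrime q,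
      (∃ z, r * algebraMap A (Localization.AtPrime q) y =
        algebraMap A (Localization.AtPrime q) g * z) ↔
        r ∈ maximalIdeal (Localization.AtPrime q) := by
    intro r
    rw [← hy' r]
    constructor
    · rintro ⟨z, hz⟩
      refine ⟨z * IsLocalization.mk' (Localization.AtPrime q) 1 s, ?_⟩
      rw [IsLocalization.mk'_eq_mul_mk'_one y s, ← mul_assoc, hz, mul_assoc]
    · rintro ⟨z, hz⟩
      refine ⟨z * algebraMap A (Localization.AtPrime q) s, ?_⟩
      rw [← IsLocalization.mk'_spec (Localization.AtPrime q) y s, ← mul_assoc, hz, mul_assoc]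
  have h1 : ∀ r ∈ q, ∃ t ∉ q, ∃ a, t * (r * y) = g * a := by
    intro r hr
    obtain ⟨z, hz⟩ := (hy _).2 ((hmem r).2 hr)
    obtain ⟨a, t, rfl⟩ := IsLocalization.exists_mk'_eq q.primeCompl z
    have h2 : algebraMap A (Localization.AtPrime q) (r * y * t) =
        algebraMap A (Localization.AtPrime q) (g * a) := by
      rw [map_mul, map_mul, hz, mul_assoc, IsLocalization.mk'_spec, map_mul]
    obtain ⟨c, hc⟩ := (IsLocalization.eq_iff_exists q.primeCompl _).1 h2
    refine ⟨c * t, fun hm => (hq.mem_or_mem hm).elim c.2 t.2, c * a, ?_⟩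
    calc (c : A) * t * (r * y) = c * (r * y * t) := by ring
      _ = c * (g * a) := hc
      _ = g * (c * a) := by ring
  obtain ⟨t₀, ht₀, hta⟩ := exists_common q g y h1
  rw [AssociatedPrimes.mem_iff, isAssociatedPrime_iff]
  refine ⟨hq, Ideal.Quotient.mk _ (t₀ * y), ?_⟩
  ext r
  rw [Submodule.mem_colon_singleton, Submodule.mem_bot, Algebra.smul_def,
    Ideal.Quotient.algebraMap_eq, ← map_mul, Ideal.Quotient.eq_zero_iff_mem,
    Ideal.mem_span_singleton']
  constructor
  · intro hr
    obtain ⟨a, ha⟩ := hta r hr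
    exact ⟨a, by rw [mul_comm a g, ← ha]; ring⟩
  · rintro ⟨a, ha⟩
    have h3 : r * t₀ ∈ q := by
      rw [← hmem, ← hy]
      refine ⟨algebraMap A _ a, ?_⟩
      rw [← map_mul, ← map_mul]
      congr 1
      rw [mul_comm g a, ha]; ring
    exact (hq.mem_or_mem h3).resolve_right ht₀

theorem depth_eq_height_of_regular (q : Ideal A) [q.IsPrime]
    (h : IsRegularLocalRing (Localization.AtPrime q)) :
    LocCoh.depth (Localization.AtPrime q) (Localization.AtPrime q) = q.height := by
  have h1 := RegCM.cm_of_isRegularLocalRing (Localization.AtPrime q)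
  unfold LocCoh.IsCohenMacaulayModule at h1
  rw [Module.supportDim_self_eq_ringKrullDim,
    IsLocalization.AtPrime.ringKrullDim_eq_height q] at h1
  exact (WithBot.coe_injective h1).symm

theorem regular_loc_of_avoid (q : Ideal A) [q.IsPrime] (g : A)
    (h : ∀ P ∈ associatedPrimes A A, P ≤ q → g ∉ P) :
    IsSMulRegular (Localization.AtPrime q) (algebraMap A (Localization.AtPrime q) g) := by
  by_contra hcon
  rw [isSMulRegular_iff_right_eq_zero_of_smul] at hcon
  push Not at hcon
  obtain ⟨y, hy, hy0⟩ := hcon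
  have hmem : algebraMap A (Localization.AtPrime q) g ∈
      { r : Localization.AtPrime q | ∃ y : Localization.AtPrime q, y ≠ 0 ∧ r • y = 0 } :=
    ⟨y, hy0, hy⟩
  rw [← biUnion_associatedPrimes_eq_zero_divisors] at hmem
  obtain ⟨𝔓, h𝔓, hg𝔓⟩ := Set.mem_iUnion₂.mp hmem
  have h2 := Module.associatedPrimes.comap_mem_associatedPrimes_of_mem_associatedPrimes_of_isLocalizedModule_of_fg
    q.primeCompl (Algebra.linearMap A (Localization.AtPrime q)) 𝔓 h𝔓
    ((isNoetherianRing_iff_ideal_fg A).mp ‹_› _)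
  refine h _ h2 ?_ (Ideal.mem_comap.2 hg𝔓)
  have h3 : 𝔓 ≤ maximalIdeal (Localization.AtPrime q) :=
    IsLocalRing.le_maximalIdeal h𝔓.isPrime.ne_top
  calc 𝔓.comap (algebraMap A (Localization.AtPrime q))
      ≤ (maximalIdeal (Localization.AtPrime q)).comap (algebraMap A (Localization.AtPrime q)) :=
        Ideal.comap_mono h3
    _ = q := Localization.AtPrime.under_maximalIdeal


theorem exists_minimal (P : PrimeSpectrum A → Prop) (q : PrimeSpectrum A) (hq : P q) :
    ∃ q₀ : PrimeSpectrum A, q₀ ≤ q ∧ P q₀ ∧ ∀ q' : PrimeSpectrum A, q' < q₀ → ¬ P q' := by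
  have hfin : ∀ p : PrimeSpectrum A, ∃ n : ℕ, p.asIdeal.height = n := fun p =>
    ⟨p.asIdeal.height.toNat, (ENat.natCast_toNat (Ideal.height_ne_top p.2.ne_top)).symm⟩
  obtain ⟨n, hn⟩ := hfin q
  induction n using Nat.strong_induction_on generalizing q with
  | _ n ih =>
    by_cases h : ∀ q' < q, ¬ P q'
    · exact ⟨q, le_rfl, hq, h⟩
    · push Not at h
      obtain ⟨q', hlt, hq'⟩ := h
      have hh : q'.asIdeal.height < q.asIdeal.height :=
        Ideal.height_strict_mono_of_isPrime hlt
      obtain ⟨m, hm⟩ := hfin q'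
      have hmn : m < n := by
        rw [hm, hn] at hh
        exact_mod_cast hh
      obtain ⟨q₀, h1, h2, h3⟩ := ih m hmn q' hq' hm
      exact ⟨q₀, h1.trans hlt.le, h2, h3⟩

theorem key (J : Ideal A)
    (hZ : ∀ (P : Ideal A) [P.IsPrime], J ≤ P ↔ ¬ IsRegularLocalRing (Localization.AtPrime P))
    (g : A) (hgJ : g ∈ J)
    (hg : ∀ (P : Ideal A) (_ : P.IsPrime), P ∈ associatedPrimes A A →
      IsRegularLocalRing (Localization.AtPrime P) → g ∉ P)
    (Q : Ideal A) [hQ : Q.IsPrime]
    (hQn : ¬ (IsDomain (Localization.AtPrime Q) ∧ IsIntegrallyClosed (Localization.AtPrime Q)))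
    (hmin : ∀ (P : Ideal A) [P.IsPrime], P < Q →
      IsDomain (Localization.AtPrime P) ∧ IsIntegrallyClosed (Localization.AtPrime P)) :
    Q ∈ J.minimalPrimes ∨ Q ∈ associatedPrimes A A ∨
      Q ∈ associatedPrimes A (A ⧸ Ideal.span {g}) := by
  have hcond : ¬ Cond A Q := by
    intro hc
    apply hQn
    rw [normal_iff]
    intro q' _ hle
    rcases eq_or_lt_of_le hle with rfl | hlt
    · exact hc
    · exact (normal_iff A q').1 (hmin q' hlt) q' le_rfl
  unfold Cond at hcond
  rw [not_and_or] at hcond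
  rcases hcond with h1 | h2
  · push Not at h1
    obtain ⟨hht, hnreg⟩ := h1
    left
    have hJQ : J ≤ Q := (hZ Q).2 hnreg
    obtain ⟨P, hPmin, hPQ⟩ := Ideal.exists_minimalPrimes_le hJQ
    haveI hPp : P.IsPrime := hPmin.1.1
    have hPn : ¬ IsRegularLocalRing (Localization.AtPrime P) := (hZ P).1 hPmin.1.2
    rcases eq_or_lt_of_le hPQ with rfl | hlt
    · exact hPmin
    · exfalso
      have hc := (normal_iff A P).1 (hmin P hlt) P le_rfl
      exact hPn (hc.1 ((Ideal.height_mono hPQ).trans hht))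
  · right
    by_cases h1 : (1 : ℕ∞) ≤ LocCoh.depth (Localization.AtPrime Q) (Localization.AtPrime Q)
    · right
      have hQass : Q ∉ associatedPrimes A A := (ZPure.one_le_depth_iff (M := A) Q).1 h1
      have h2' : ¬ (2 : ℕ∞) ≤ LocCoh.depth (Localization.AtPrime Q) (Localization.AtPrime Q) :=
        fun h2' => h2 (le_trans (min_le_left _ _) h2')
      have hht : LocCoh.depth (Localization.AtPrime Q) (Localization.AtPrime Q) < Q.height := by
        by_contra hcon
        push Not at hcon
        exact h2 (le_trans (min_le_right _ _) hcon)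
      have hnreg : ¬ IsRegularLocalRing (Localization.AtPrime Q) := by
        intro hreg
        rw [depth_eq_height_of_regular Q hreg] at hht
        exact lt_irrefl _ hht
      have hgQ : g ∈ Q := (hZ Q).2 hnreg hgJ
      apply mem_ass_quot Q g hgQ _ h2'
      apply regular_loc_of_avoid
      intro P hP hPQ
      haveI hPp : P.IsPrime := hP.isPrime
      have hlt : P < Q := lt_of_le_of_ne hPQ (fun heq => hQass (heq ▸ hP))
      have hc := (normal_iff A P).1 (hmin P hlt) P le_rfl
      have hd0 : ¬ (1 : ℕ∞) ≤ LocCoh.depth (Localization.AtPrime P) (Localization.AtPrime P) :=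
        fun h => (ZPure.one_le_depth_iff (M := A) P).1 h hP
      have hht0 : P.height = 0 := by
        by_contra hne
        apply hd0
        refine le_trans ?_ hc.2
        rw [le_min_iff]
        exact ⟨by norm_num, Order.one_le_iff_ne_zero.2 hne⟩
      exact hg P hPp hP (hc.1 (by rw [hht0]; exact zero_le))
    · left
      by_contra hQass
      exact h1 ((ZPure.one_le_depth_iff (M := A) Q).2 hQass)

theorem main (h : IsOpen (EGA4.regLocus A)) : IsOpen (EGA4.norLocus A) := by
  classical
  rw [← isClosed_compl_iff]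
  set J := PrimeSpectrum.vanishingIdeal (EGA4.regLocus A)ᶜ with hJ
  have hZ0 : PrimeSpectrum.zeroLocus (J : Set A) = (EGA4.regLocus A)ᶜ := by
    rw [hJ, PrimeSpectrum.zeroLocus_vanishingIdeal_eq_closure,
      IsClosed.closure_eq (isClosed_compl_iff.2 h)]
  have hZ : ∀ (P : Ideal A) [P.IsPrime], J ≤ P ↔
      ¬ IsRegularLocalRing (Localization.AtPrime P) := by
    intro P hP
    have : (⟨P, hP⟩ : PrimeSpectrum A) ∈ PrimeSpectrum.zeroLocus (J : Set A) ↔
        (⟨P, hP⟩ : PrimeSpectrum A) ∈ (EGA4.regLocus A)ᶜ := by rw [hZ0]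
    rw [PrimeSpectrum.mem_zeroLocus, SetLike.coe_subset_coe] at this
    exact this
  set AR : Set (Ideal A) := {P | P ∈ associatedPrimes A A ∧
    ∃ hP : P.IsPrime, IsRegularLocalRing (Localization.AtPrime P)} with hAR
  have hARfin : AR.Finite := (associatedPrimes.finite A A).subset (fun P hP => hP.1)
  obtain ⟨g, hgJ, hg⟩ : ∃ g ∈ J, ∀ P ∈ AR, g ∉ P := by
    by_contra hcon
    push Not at hcon
    have hsub : (J : Set A) ⊆ ⋃ P ∈ AR, (id P : Ideal A) := by
      intro x hx
      obtain ⟨P, hP, hxP⟩ := hcon x hx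
      exact Set.mem_biUnion hP hxP
    obtain ⟨P, hP, hJP⟩ := (Ideal.subset_union_prime_finite hARfin (f := id) ⊥ ⊥
      (fun P hP _ _ => hP.1.isPrime)).mp hsub
    obtain ⟨hPass, hPprime, hPreg⟩ := hP
    exact (hZ P).1 hJP hPreg
  set F : Set (Ideal A) := J.minimalPrimes ∪ associatedPrimes A A ∪
    associatedPrimes A (A ⧸ Ideal.span {g}) with hF
  have hFfin : F.Finite :=
    ((Ideal.finite_minimalPrimes_of_isNoetherianRing A J).union
      (associatedPrimes.finite A A)).union (associatedPrimes.finite A _)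
  set G : Set (PrimeSpectrum A) := {p | p.asIdeal ∈ F ∧ p ∉ EGA4.norLocus A} with hG
  have hGfin : G.Finite := by
    apply Set.Finite.of_finite_image (f := PrimeSpectrum.asIdeal)
    · exact hFfin.subset (by rintro _ ⟨p, hp, rfl⟩; exact hp.1)
    · intro p _ p' _ hpp'
      exact PrimeSpectrum.ext hpp'
  have hN : (EGA4.norLocus A)ᶜ = ⋃ p ∈ G, PrimeSpectrum.zeroLocus (p.asIdeal : Set A) := by
    ext q
    constructor
    · intro hq
      obtain ⟨q₀, hle, hq₀, hmin⟩ := exists_minimal (fun p => p ∉ EGA4.norLocus A) q hq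
      have hkey := key J hZ g hgJ (fun P hP hPass hPreg => hg P ⟨hPass, hP, hPreg⟩) q₀.asIdeal
        hq₀ (fun P hP hlt => by
          have := hmin ⟨P, hP⟩ hlt
          rw [not_not] at this
          exact this)
      refine Set.mem_iUnion₂.2 ⟨q₀, ⟨?_, hq₀⟩, ?_⟩
      · rw [hF]
        rcases hkey with h1 | h1 | h1
        · exact Or.inl (Or.inl h1)
        · exact Or.inl (Or.inr h1)
        · exact Or.inr h1
      · rw [PrimeSpectrum.mem_zeroLocus, SetLike.coe_subset_coe]
        exact hle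
    · intro hq
      obtain ⟨p, ⟨-, hp⟩, hpq⟩ := Set.mem_iUnion₂.1 hq
      rw [PrimeSpectrum.mem_zeroLocus, SetLike.coe_subset_coe] at hpq
      intro hqn
      exact hp (normal_of_le A p.asIdeal q.asIdeal hpq hqn)
  rw [hN]
  exact hGfin.isClosed_biUnion (fun p _ => PrimeSpectrum.isClosed_zeroLocus _)

end Groth.Agent.Helper7.NorOpen
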