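import Mathlib
import Groth.Prelude
import Groth.Agent.Helper7.NorOpen

/-!
# Openness of the normal locus from an open subset containing the normal minimal primes
-/

set_option autoImplicit false
set_option linter.style.haveILetI false
set_option linter.unusedSectionVars false

namespace Groth.Agent.Helper7.NorOpen

universe u

open Groth.Agent.Helper2 Groth.Agent.Helper2.NormalPt IsLocalRing
open scoped Pointwise

variable {A : Type u} [CommRing A] [IsNoetherianRing A]

/-- If the minimal non-normal primes all lie in a finite set, the normal locus is open. -/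
theorem isOpen_of_finite (F : Set (Ideal A)) (hFfin : F.Finite)
    (hkey : ∀ (Q : Ideal A) [Q.IsPrime],
      ¬ (IsDomain (Localization.AtPrime Q) ∧ IsIntegrallyClosed (Localization.AtPrime Q)) →
      (∀ (P : Ideal A) [P.IsPrime], P < Q →
        IsDomain (Localization.AtPrime P) ∧ IsIntegrallyClosed (Localization.AtPrime P)) →
      Q ∈ F) : IsOpen (EGA4.norLocus A) := by
  classical
  rw [← isClosed_compl_iff]
  set G : Set (PrimeSpectrum A) := {p | p.asIdeal ∈ F ∧ p ∉ EGA4.norLocus A} with hG
  have hGfin : G.Finite := by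
    apply Set.Finite.of_finite_image (f := PrimeSpectrum.asIdeal)
    · exact hFfin.subset (by rintro _ ⟨p, hp, rfl⟩; exact hp.1)
    · intro p _ p' _ hpp'
      exact PrimeSpectrum.ext hpp'
  have hN : (EGA4.norLocus A)ᶜ = ⋃ p ∈ G, PrimeSpectrum.zeroLocus (p.asIdeal : Set A) := by
    ext q
    constructor
    · intro hq
      obtain ⟨q₀, hle, hq₀, hmin⟩ := exists_minimal (fun p => p ∉ EGA4.norLocus A) q hq
      have h1 := hkey q₀.asIdeal hq₀ (fun P hP hlt => by
          have := hmin ⟨P, hP⟩ hlt
          rw [not_not] at this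
          exact this)
      refine Set.mem_iUnion₂.2 ⟨q₀, ⟨h1, hq₀⟩, ?_⟩
      rw [PrimeSpectrum.mem_zeroLocus, SetLike.coe_subset_coe]
      exact hle
    · intro hq
      obtain ⟨p, ⟨-, hp⟩, hpq⟩ := Set.mem_iUnion₂.1 hq
      rw [PrimeSpectrum.mem_zeroLocus, SetLike.coe_subset_coe] at hpq
      intro hqn
      exact hp (normal_of_le A p.asIdeal q.asIdeal hpq hqn)
  rw [hN]
  exact hGfin.isClosed_biUnion (fun p _ => PrimeSpectrum.isClosed_zeroLocus _)

theorem key2 (J : Ideal A)
    (hJ : ∀ (Q : Ideal A) [Q.IsPrime],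
      ¬ (IsDomain (Localization.AtPrime Q) ∧ IsIntegrallyClosed (Localization.AtPrime Q)) → J ≤ Q)
    (hJmin : ∀ (p : Ideal A) [p.IsPrime], p ∈ minimalPrimes A →
      (IsDomain (Localization.AtPrime p) ∧ IsIntegrallyClosed (Localization.AtPrime p)) → ¬ J ≤ p)
    (g : A) (hgJ : g ∈ J)
    (hg : ∀ (p : Ideal A) [p.IsPrime], p ∈ minimalPrimes A →
      (IsDomain (Localization.AtPrime p) ∧ IsIntegrallyClosed (Localization.AtPrime p)) → g ∉ p)
    (Q : Ideal A) [hQ : Q.IsPrime]
    (hQn : ¬ (IsDomain (Localization.AtPrime Q) ∧ IsIntegrallyClosed (Localization.AtPrime Q)))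
    (hmin : ∀ (P : Ideal A) [P.IsPrime], P < Q →
      IsDomain (Localization.AtPrime P) ∧ IsIntegrallyClosed (Localization.AtPrime P)) :
    Q ∈ minimalPrimes A ∪ J.minimalPrimes ∪ associatedPrimes A A ∪
      associatedPrimes A (A ⧸ Ideal.span {g}) := by
  have hcond : ¬ Cond A Q := by
    intro hc
    apply hQn
    rw [normal_iff]
    intro q' _ hle
    rcases eq_or_lt_of_le hle with rfl | hlt
    · exact hc
    · exact (normal_iff A q').1 (hmin q' hlt) q' le_rfl
  unfold Cond at hcond
  rw [not_and_or] at hcond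
  rcases hcond with h1 | h2
  · push Not at h1
    obtain ⟨hht, hnreg⟩ := h1
    left; left
    by_cases h0 : Q.height = 0
    · left
      exact Ideal.height_eq_zero_iff.1 h0
    · right
      have hJQ : J ≤ Q := hJ Q hQn
      obtain ⟨P, hPmin, hPQ⟩ := Ideal.exists_minimalPrimes_le hJQ
      haveI hPp : P.IsPrime := hPmin.1.1
      rcases eq_or_lt_of_le hPQ with rfl | hlt
      · exact hPmin
      · exfalso
        have hh : P.height < Q.height := Ideal.height_strict_mono_of_isPrime hlt
        have hP0 : P.height = 0 := by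
          have : P.height < 1 := lt_of_lt_of_le hh hht
          exact Order.lt_one_iff.1 this
        exact hJmin P (Ideal.height_eq_zero_iff.1 hP0) (hmin P hlt) hPmin.1.2
  · by_cases h1 : (1 : ℕ∞) ≤ LocCoh.depth (Localization.AtPrime Q) (Localization.AtPrime Q)
    · right
      have hQass : Q ∉ associatedPrimes A A := (ZPure.one_le_depth_iff (M := A) Q).1 h1
      have h2' : ¬ (2 : ℕ∞) ≤ LocCoh.depth (Localization.AtPrime Q) (Localization.AtPrime Q) :=
        fun h2' => h2 (le_trans (min_le_left _ _) h2')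
      have hgQ : g ∈ Q := hJ Q hQn hgJ
      apply mem_ass_quot Q g hgQ _ h2'
      apply regular_loc_of_avoid
      intro P hP hPQ
      haveI hPp : P.IsPrime := hP.isPrime
      have hlt : P < Q := lt_of_le_of_ne hPQ (fun heq => hQass (heq ▸ hP))
      have hc := (normal_iff A P).1 (hmin P hlt) P le_rfl
      have hd0 : ¬ (1 : ℕ∞) ≤ LocCoh.depth (Localization.AtPrime P) (Localization.AtPrime P) :=
        fun h => (ZPure.one_le_depth_iff (M := A) P).1 h hP
      have hht0 : P.height = 0 := by
        by_contra hne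
        apply hd0
        refine le_trans ?_ hc.2
        rw [le_min_iff]
        exact ⟨by norm_num, Order.one_le_iff_ne_zero.2 hne⟩
      exact hg P (Ideal.height_eq_zero_iff.1 hht0) (hmin P hlt)
    · left; right
      by_contra hQass
      exact h1 ((ZPure.one_le_depth_iff (M := A) Q).2 hQass)

/-- If an open subset of the normal locus contains all the normal minimal primes, then the normal
locus is open. -/
theorem isOpen_of_open_subset (U : Set (PrimeSpectrum A)) (hU : IsOpen U)
    (hUN : U ⊆ EGA4.norLocus A)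
    (hmin : ∀ p : PrimeSpectrum A, p.asIdeal ∈ minimalPrimes A → p ∈ EGA4.norLocus A → p ∈ U) :
    IsOpen (EGA4.norLocus A) := by
  classical
  set J := PrimeSpectrum.vanishingIdeal Uᶜ with hJdef
  have hZ0 : PrimeSpectrum.zeroLocus (J : Set A) = Uᶜ := by
    rw [hJdef, PrimeSpectrum.zeroLocus_vanishingIdeal_eq_closure,
      IsClosed.closure_eq (isClosed_compl_iff.2 hU)]
  have hZ : ∀ (P : Ideal A) [hP : P.IsPrime], J ≤ P ↔ (⟨P, hP⟩ : PrimeSpectrum A) ∉ U := by
    intro P hP
    have : (⟨P, hP⟩ : PrimeSpectrum A) ∈ PrimeSpectrum.zeroLocus (J : Set A) ↔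
        (⟨P, hP⟩ : PrimeSpectrum A) ∈ Uᶜ := by rw [hZ0]
    rw [PrimeSpectrum.mem_zeroLocus, SetLike.coe_subset_coe] at this
    exact this
  have hJ : ∀ (Q : Ideal A) [Q.IsPrime],
      ¬ (IsDomain (Localization.AtPrime Q) ∧ IsIntegrallyClosed (Localization.AtPrime Q)) →
      J ≤ Q := by
    intro Q hQ hn
    rw [hZ Q]
    intro hQU
    exact hn (hUN hQU)
  have hJmin : ∀ (p : Ideal A) [p.IsPrime], p ∈ minimalPrimes A →
      (IsDomain (Localization.AtPrime p) ∧ IsIntegrallyClosed (Localization.AtPrime p)) →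
      ¬ J ≤ p := by
    intro p hp hpmin hn
    rw [hZ p, not_not]
    exact hmin ⟨p, hp⟩ hpmin hn
  set MN : Set (Ideal A) := {p | p ∈ minimalPrimes A ∧ ∃ hp : p.IsPrime,
    (IsDomain (Localization.AtPrime p) ∧ IsIntegrallyClosed (Localization.AtPrime p))} with hMN
  have hMNfin : MN.Finite :=
    (minimalPrimes.finite_of_isNoetherianRing A).subset (fun P hP => hP.1)
  obtain ⟨g, hgJ, hg⟩ : ∃ g ∈ J, ∀ P ∈ MN, g ∉ P := by
    by_contra hcon
    push Not at hcon
    have hsub : (J : Set A) ⊆ ⋃ P ∈ MN, (id P : Ideal A) := by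
      intro x hx
      obtain ⟨P, hP, hxP⟩ := hcon x hx
      exact Set.mem_biUnion hP hxP
    obtain ⟨P, hP, hJP⟩ := (Ideal.subset_union_prime_finite hMNfin (f := id) ⊥ ⊥
      (fun P hP _ _ => hP.2.1)).mp hsub
    obtain ⟨hPmin, hPprime, hPn⟩ := hP
    exact hJmin P hPmin hPn hJP
  apply isOpen_of_finite (minimalPrimes A ∪ J.minimalPrimes ∪ associatedPrimes A A ∪
      associatedPrimes A (A ⧸ Ideal.span {g}))
  · exact (((minimalPrimes.finite_of_isNoetherianRing A).union
      (Ideal.finite_minimalPrimes_of_isNoetherianRing A J)).union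
      (associatedPrimes.finite A A)).union (associatedPrimes.finite A _)
  · intro Q hQ hQn hQmin
    exact key2 J hJ hJmin g hgJ (fun p hp hpmin hn => hg p ⟨hpmin, hp, hn⟩) Q hQn hQmin

theorem isOpen_norLocus_iff :
    IsOpen (EGA4.norLocus A) ↔
      ∀ p : PrimeSpectrum A, p.asIdeal ∈ minimalPrimes A → p ∈ EGA4.norLocus A →
        ∃ U : Set (PrimeSpectrum A), IsOpen U ∧ p ∈ U ∧ U ⊆ EGA4.norLocus A := by
  constructor
  · intro h p _ hp
    exact ⟨_, h, hp, le_rfl⟩
  · intro h
    apply isOpen_of_open_subset (interior (EGA4.norLocus A)) isOpen_interior interior_subset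
    intro p hpmin hp
    obtain ⟨U, hU, hpU, hUN⟩ := h p hpmin hp
    exact interior_maximal hUN hU hpU

end Groth.Agent.Helper7.NorOpen
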