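import Mathlib
import Groth.Prelude
import Groth.Agent.Helper7.ZPure2

/-!
# `Z`-closed modules: extension of sections from a regular pair
-/

set_option autoImplicit false
set_option linter.style.haveILetI false
set_option linter.unusedSectionVars false

namespace Groth.Agent.Helper7.ZClosed

open AlgebraicGeometry CategoryTheory Opposite Groth.Agent.Helper7.ZSec

universe u
variable {A : Type u} [CommRing A] {M : Type u} [AddCommGroup M] [Module A M]

/-- a section over an open set containing `D(f)` is of the form `m / f ^ n` on `D(f)` -/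
theorem exists_pow_smul_eq (f : A) {U : (Spec (CommRingCat.of A)).Opens}
    (hfU : ∀ y : PrimeSpectrum A, f ∉ y.asIdeal → y ∈ U) (s : Sec A M U) :
    ∃ (n : ℕ) (m : M), ∀ (y : PrimeSpectrum A) (hy : f ∉ y.asIdeal),
      f ^ n • s.1 ⟨y, hfU y hy⟩ = LocalizedModule.mk m 1 := by
  have hle : PrimeSpectrum.basicOpen f ≤ U := fun y hy => hfU y hy
  let t : Sec A M (PrimeSpectrum.basicOpen f) := (EGA4.tildeOf A M).val.map (homOfLE hle).op s
  obtain ⟨⟨m, ⟨_, n, rfl⟩⟩, h⟩ := IsLocalizedModule.surj (Submonoid.powers f)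
    (StructureSheaf.toOpenₗ (CommRingCat.of A) (ModuleCat.of (CommRingCat.of A) M)
      (PrimeSpectrum.basicOpen f)) t
  refine ⟨n, m, fun y hy => ?_⟩
  have h1 := congrArg (fun u => u.1 ⟨y, hy⟩) h
  exact h1

/-- powers of a regular pair -/
theorem regpow {a b : A} (ha : IsSMulRegular M a)
    (hb : ∀ e : M, (∃ e', b • e = a • e') → ∃ e', e = a • e') (n k : ℕ) :
    ∀ e : M, (∃ e', b ^ k • e = a ^ n • e') → ∃ e', e = a ^ n • e' := by
  have h1 : ∀ n : ℕ, ∀ e : M, (∃ e', b • e = a ^ n • e') → ∃ e', e = a ^ n • e' := by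
    intro n
    induction n with
    | zero =>
      intro e _
      exact ⟨e, by rw [pow_zero, one_smul]⟩
    | succ n ih =>
      rintro e ⟨e', he'⟩
      obtain ⟨e₁, rfl⟩ := hb e ⟨a ^ n • e', by rw [he', pow_succ', mul_smul]⟩
      have h2 : b • e₁ = a ^ n • e' := by
        apply ha
        change a • b • e₁ = a • a ^ n • e'
        rw [smul_comm, he', pow_succ', mul_smul]
      obtain ⟨e₂, rfl⟩ := ih e₁ ⟨e', h2⟩
      exact ⟨e₂, by rw [pow_succ', mul_smul]⟩
  induction k with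
  | zero =>
    rintro e ⟨e', he'⟩
    exact ⟨e', by rwa [pow_zero, one_smul] at he'⟩
  | succ k ih =>
    rintro e ⟨e', he'⟩
    apply ih
    apply h1 n
    refine ⟨e', ?_⟩
    rw [← he', pow_succ', mul_smul]

theorem smul_inj_loc (y : PrimeSpectrum A) (r : A) (hr : r ∉ y.asIdeal)
    (u v : LocalizedModule y.asIdeal.primeCompl M) (h : r • u = r • v) : u = v :=
  IsLocalizedModule.smul_injective (LocalizedModule.mkLinearMap y.asIdeal.primeCompl M)
    (⟨r, hr⟩ : y.asIdeal.primeCompl) h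

theorem mk_eq_mk_one_iff (y : PrimeSpectrum A) (g : A) (hg : g ∉ y.asIdeal) (z m : M) :
    (LocalizedModule.mk z ⟨g, hg⟩ : LocalizedModule y.asIdeal.primeCompl M) =
      LocalizedModule.mk m 1 ↔ ∃ u ∉ y.asIdeal, u • (z - g • m) = 0 := by
  rw [LocalizedModule.mk_eq]
  constructor
  · rintro ⟨u, hu⟩
    refine ⟨u.1, u.2, ?_⟩
    rw [smul_sub, sub_eq_zero]
    rw [one_smul] at hu
    exact hu
  · rintro ⟨u, hu, h⟩
    refine ⟨⟨u, hu⟩, ?_⟩
    rw [one_smul]
    rw [smul_sub, sub_eq_zero] at h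
    exact h

/-- extension of sections from a regular pair in `J` -/
theorem surjective_of_regPair (J : Ideal A) (a b : A) (haJ : a ∈ J) (hbJ : b ∈ J)
    (ha : IsSMulRegular M a)
    (hb : ∀ e : M, (∃ e', b • e = a • e') → ∃ e', e = a • e') :
    Function.Surjective (EGA4.restrCompl A J M) := by
  refine (ZSec.surjective_iff J).2 ?_
  intro s
  have hU : ∀ f ∈ J, ∀ y : PrimeSpectrum A, f ∉ y.asIdeal → y ∈ EGA4.openCompl A J := by
    intro f hf y hy
    rw [mem_openCompl_iff]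
    intro hJy
    exact hy (hJy hf)
  obtain ⟨n₁, m₁, h₁⟩ := exists_pow_smul_eq a (hU a haJ) s
  obtain ⟨n₂, m₂, h₂⟩ := exists_pow_smul_eq b (hU b hbJ) s
  -- compare on `D(ab)`
  have h3 : ∃ N : ℕ, (a * b) ^ N • (b ^ n₂ • m₁ - a ^ n₁ • m₂) = 0 := by
    apply exists_pow_smul_eq_zero
    intro y hy
    have hya : a ∉ y.asIdeal := fun h => hy (Ideal.mul_mem_right _ _ h)
    have hyb : b ∉ y.asIdeal := fun h => hy (Ideal.mul_mem_left _ _ h)
    rw [← mk_one_eq_zero_iff]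
    have e1 := h₁ y hya
    have e2 := h₂ y hyb
    have e3 : (LocalizedModule.mk (b ^ n₂ • m₁) 1 : LocalizedModule y.asIdeal.primeCompl M) =
        LocalizedModule.mk (a ^ n₁ • m₂) 1 := by
      rw [← LocalizedModule.smul'_mk, ← LocalizedModule.smul'_mk, ← e1, ← e2, smul_comm]
    have h4 := (LocalizedModule.mkLinearMap y.asIdeal.primeCompl M).map_sub
      (b ^ n₂ • m₁) (a ^ n₁ • m₂)
    simp only [LocalizedModule.mkLinearMap_apply] at h4
    rw [h4, e3, sub_self]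
  obtain ⟨N, hN⟩ := h3
  have h5 : b ^ (N + n₂) • m₁ = a ^ n₁ • (b ^ N • m₂) := by
    apply ha.pow N
    change a ^ N • b ^ (N + n₂) • m₁ = a ^ N • a ^ n₁ • b ^ N • m₂
    rw [smul_sub, sub_eq_zero] at hN
    calc a ^ N • b ^ (N + n₂) • m₁ = (a * b) ^ N • b ^ n₂ • m₁ := by
          rw [mul_pow, pow_add, mul_smul, mul_smul]
      _ = (a * b) ^ N • a ^ n₁ • m₂ := hN
      _ = a ^ N • a ^ n₁ • b ^ N • m₂ := by
          rw [mul_pow, mul_smul, smul_comm (b ^ N) (a ^ n₁) m₂]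
  obtain ⟨m, rfl⟩ := regpow ha hb n₁ (N + n₂) m₁ ⟨_, h5⟩
  refine ⟨m, fun x => ?_⟩
  -- on `D(a)`
  have h6 : ∀ (y : PrimeSpectrum A) (hy : a ∉ y.asIdeal),
      s.1 ⟨y, hU a haJ y hy⟩ = LocalizedModule.mk m 1 := by
    intro y hy
    apply smul_inj_loc y (a ^ n₁) (fun h => hy (y.2.mem_of_pow_mem _ h))
    rw [h₁ y hy, LocalizedModule.smul'_mk]
  obtain ⟨g, hg, z, hgU, hz⟩ := exists_fraction s x.1 x.2
  have h7 : ∃ N : ℕ, (g * a) ^ N • (z - g • m) = 0 := by
    apply exists_pow_smul_eq_zero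
    intro y hy
    have hyg : g ∉ y.asIdeal := fun h => hy (Ideal.mul_mem_right _ _ h)
    have hya : a ∉ y.asIdeal := fun h => hy (Ideal.mul_mem_left _ _ h)
    rw [← mk_eq_mk_one_iff y g hyg, ← hz y hyg]
    exact h6 y hya
  obtain ⟨N', hN'⟩ := h7
  have h8 : g ^ N' • (z - g • m) = 0 := by
    apply ha.pow N'
    change a ^ N' • g ^ N' • (z - g • m) = a ^ N' • 0
    rw [smul_zero, ← mul_smul, ← mul_pow, mul_comm]
    exact hN'
  have h9 : s.1 x = LocalizedModule.mk z ⟨g, hg⟩ := hz x.1 hg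
  rw [h9, mk_eq_mk_one_iff]
  exact ⟨g ^ N', fun h => hg (x.1.2.mem_of_pow_mem _ h), h8⟩

end Groth.Agent.Helper7.ZClosed
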