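import Mathlib
import Groth.Prelude
import Groth.Agent.Helper7.ZClosed

/-!
# `Z`-closed modules and depth `≥ 2`
-/

set_option autoImplicit false
set_option linter.style.haveILetI false
set_option linter.unusedSectionVars false

namespace Groth.Agent.Helper7.ZClosed

open AlgebraicGeometry CategoryTheory Opposite Groth.Agent.Helper7.ZSec
open RingTheory.Sequence

universe u

section constr

variable {A : Type u} [CommRing A] {M : Type u} [AddCommGroup M] [Module A M]

/-- the section `m' / a` over the complement of `V(q)`, when `q m' ⊆ a M` -/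
theorem mem_smul_of_bijective (q : Ideal A) (a : A) (ha : IsSMulRegular M a) (m' : M)
    (hq : ∀ r ∈ q, ∃ g : M, r • m' = a • g)
    (hbij : Function.Bijective (EGA4.restrCompl A q M)) : ∃ m₀ : M, m' = a • m₀ := by
  classical
  have hex : ∀ x : EGA4.openCompl A q, ∃ f ∈ q, f ∉ x.1.asIdeal := fun x =>
    SetLike.not_le_iff_exists.1 ((mem_openCompl_iff q x.1).1 x.2)
  choose f hfq hfx using hex
  choose n hn using fun x : EGA4.openCompl A q => hq (f x) (hfq x)
  have hcomp : ∀ x y : EGA4.openCompl A q, f x • n y = f y • n x := by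
    intro x y
    apply ha
    change a • f x • n y = a • f y • n x
    rw [smul_comm a, ← hn y, smul_comm a, ← hn x, smul_comm]
  let s : Sec A M (EGA4.openCompl A q) := mkSec
    (fun x => LocalizedModule.mk (n x) ⟨f x, hfx x⟩) (by
      intro x
      refine ⟨f x, hfx x, n x, ?_⟩
      intro y hy
      rw [LocalizedModule.mk_eq]
      refine ⟨1, ?_⟩
      rw [one_smul, one_smul]
      exact hcomp x y)
  obtain ⟨m₀, hm₀⟩ := (ZSec.surjective_iff q).1 hbij.2 s
  refine ⟨m₀, ?_⟩
  have h0 : m' - a • m₀ = 0 := by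
    apply (ZSec.injective_iff q).1 hbij.1
    intro x hx
    have h1 := hm₀ ⟨x, (mem_openCompl_iff q x).2 hx⟩
    rw [mkSec_apply, mk_eq_mk_one_iff] at h1
    obtain ⟨u, hu, h2⟩ := h1
    set x' : EGA4.openCompl A q := ⟨x, (mem_openCompl_iff q x).2 hx⟩ with hx'
    refine ⟨u * f x', fun h => ?_, ?_⟩
    · rcases x.2.mem_or_mem h with h | h
      · exact hu h
      · exact hfx x' h
    · calc (u * f x') • (m' - a • m₀) = a • (u • (n x' - f x' • m₀)) := by
            rw [mul_smul, smul_sub, hn x', smul_comm (f x') a m₀, ← smul_sub, smul_comm]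
        _ = 0 := by rw [h2, smul_zero]
  exact sub_eq_zero.1 h0

end constr

section main

variable {A : Type u} [CommRing A] [IsNoetherianRing A] {M : Type u} [AddCommGroup M] [Module A M]
  [Module.Finite A M]

open Groth.Agent.Helper9

/-- a regular pair in `J` from `2 ≤ depth_J M` -/
theorem exists_regPair (J : Ideal A) (h : 2 ≤ LocCoh.idealDepth J M) :
    ∃ a b : A, a ∈ J ∧ b ∈ J ∧ IsSMulRegular M a ∧
      ∀ e : M, (∃ e', b • e = a • e') → ∃ e', e = a • e' := by
  by_cases hJ : J • (⊤ : Submodule A M) = ⊤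
  · obtain ⟨r, hr1, hr2⟩ := DepthKer.exists_killer (I := J) M hJ
    have h1 : ∀ m : M, (1 - r) • m = m := by
      intro m
      rw [sub_smul, one_smul, hr2, sub_zero]
    have h2 : 1 - r ∈ J := by
      have := J.neg_mem hr1
      rwa [neg_sub] at this
    refine ⟨1 - r, 1 - r, h2, h2, ?_, ?_⟩
    · intro x y hxy
      simpa only [h1] using hxy
    · intro e _
      exact ⟨e, (h1 e).symm⟩
  · obtain ⟨rs, hreg, hmem, hlen⟩ := DepthKer.exists_of_le_idealDepth J M 2
      (by norm_num) (by exact_mod_cast h) hJ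
    match rs, hreg, hmem, hlen with
    | a :: b :: rest, hreg, hmem, _ =>
      have hreg' := (isWeaklyRegular_cons_iff M a (b :: rest)).mp hreg
      have hb0 : IsSMulRegular (QuotSMulTop a M) b :=
        ((isWeaklyRegular_cons_iff _ b rest).mp hreg'.2).1
      exact ⟨a, b, hmem a List.mem_cons_self, hmem b (List.mem_cons_of_mem _ List.mem_cons_self),
        hreg'.1, (DepthKer.quot_regular_iff a b).mp hb0⟩

/-- if the depth at `p` is `< 2`, there is a relative socle element at a prime above `p` -/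
theorem exists_socle_rel (p : Ideal A) [p.IsPrime]
    (hnt : Nontrivial (LocalizedModule p.primeCompl M))
    (h : ¬ (2 : ℕ∞) ≤ LocCoh.depth (Localization.AtPrime p) (LocalizedModule p.primeCompl M))
    (a : A) (hap : a ∈ p) (ha : IsSMulRegular M a) :
    ∃ (q : Ideal A) (_ : q.IsPrime) (m' : M), p ≤ q ∧ ∀ r : A, (∃ g : M, r • m' = a • g) ↔ r ∈ q := by
  by_contra hcon
  apply h
  obtain ⟨b, hbp, hb⟩ : ∃ b ∈ p, IsSMulRegular (QuotSMulTop a M) b := by
    apply DepthKer.exists_regular_of_socle (QuotSMulTop a M)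
    intro zb hzb
    by_contra hz0
    obtain ⟨q, hqq, yb, hpq, hyb⟩ := DepthS2.exists_prime_ann p (QuotSMulTop a M) zb hz0 hzb
    obtain ⟨y, rfl⟩ := Submodule.Quotient.mk_surjective _ yb
    apply hcon
    refine ⟨q, hqq, y, hpq, ?_⟩
    intro r
    rw [← hyb r, ← Submodule.Quotient.mk_smul, Submodule.Quotient.mk_eq_zero,
      Submodule.mem_smul_pointwise_iff_exists]
    constructor
    · rintro ⟨g, hg⟩; exact ⟨g, trivial, hg.symm⟩
    · rintro ⟨g, -, hg⟩; exact ⟨g, hg.symm⟩
  have h2 := DepthKer.le_idealDepth_of p M [a, b]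
    ((isWeaklyRegular_cons_iff M a [b]).mpr ⟨ha,
      (isWeaklyRegular_cons_iff _ b []).mpr ⟨hb, IsWeaklyRegular.nil _ _⟩⟩)
    (by
      intro r hr
      simp only [List.mem_cons, List.not_mem_nil, or_false] at hr
      rcases hr with rfl | rfl
      · exact hap
      · exact hbp)
  have h3 := DepthS2.le_depth_loc p M 2 (by simpa using h2) p le_rfl hnt
  exact_mod_cast h3

theorem isClosedAlong_iff_depth (Z : Set (PrimeSpectrum A)) (hZ : StableUnderSpecialization Z) :
    EGA4.IsClosedAlong Z M ↔ ∀ p : PrimeSpectrum A, p ∈ Z →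
      (2 : ℕ∞) ≤ LocCoh.depth (Localization.AtPrime p.asIdeal)
        (LocalizedModule p.asIdeal.primeCompl M) := by
  constructor
  · intro hcl p hpZ
    have hpure : EGA4.IsPureAlong Z M := fun J hJ => (hcl J hJ).1
    have hd1 := (ZPure.isPureAlong_iff_depth Z hZ).1 hpure
    by_contra hcon
    have hnt : Nontrivial (LocalizedModule p.asIdeal.primeCompl M) := by
      by_contra hnt
      rw [not_nontrivial_iff_subsingleton] at hnt
      apply hcon
      rw [DepthS2.depth_eq_top_of_subsingleton]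
      exact le_top
    obtain ⟨a, hap, ha⟩ := DepthS2.exists_regular_of_local p.asIdeal M (by
      intro q hq hpq _
      apply hd1 ⟨q, hq⟩
      apply ZPure.zeroLocus_subset_of_mem hZ hpZ
      rw [PrimeSpectrum.mem_zeroLocus]
      exact hpq)
    obtain ⟨q, hqq, m', hpq, hm'⟩ := exists_socle_rel p.asIdeal hnt hcon a hap ha
    have hqZ : (⟨q, hqq⟩ : PrimeSpectrum A) ∈ Z := by
      apply ZPure.zeroLocus_subset_of_mem hZ hpZ
      rw [PrimeSpectrum.mem_zeroLocus]
      exact hpq
    have hbij := hcl q (ZPure.zeroLocus_subset_of_mem hZ hqZ)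
    obtain ⟨m₀, hm₀⟩ := mem_smul_of_bijective q a ha m' (fun r hr => (hm' r).2 hr) hbij
    have h1 : (1 : A) ∈ q := (hm' 1).1 ⟨m₀, by rw [one_smul, hm₀]⟩
    exact hqq.ne_top ((Ideal.eq_top_iff_one q).2 h1)
  · intro h J hJ
    have hd1 : ∀ p : PrimeSpectrum A, p ∈ Z →
        (1 : ℕ∞) ≤ LocCoh.depth (Localization.AtPrime p.asIdeal)
          (LocalizedModule p.asIdeal.primeCompl M) := fun p hp =>
      le_trans (by norm_num) (h p hp)
    have hpure := (ZPure.isPureAlong_iff_depth Z hZ).2 hd1
    refine ⟨hpure J hJ, ?_⟩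
    have h2 : 2 ≤ LocCoh.idealDepth J M := by
      apply DepthS2.two_le_idealDepth_of_local J M
      intro p hp hJp _
      apply h ⟨p, hp⟩
      apply hJ
      rw [PrimeSpectrum.mem_zeroLocus]
      exact hJp
    obtain ⟨a, b, haJ, hbJ, ha, hb⟩ := exists_regPair J h2
    exact surjective_of_regPair J a b haJ hbJ ha hb

end main

end Groth.Agent.Helper7.ZClosed
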