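import Mathlib
import Groth.Prelude
import Groth.Agent.Helper7.ZClosed2
import Groth.Agent.Helper7.CMRing

/-!
# `A^(1)` satisfies `(S₂)`
-/

set_option autoImplicit false
set_option linter.style.haveILetI false
set_option linter.unusedSectionVars false

namespace Groth.Agent.Helper7.HullS2

open IsLocalRing nonZeroDivisors

universe u

theorem height_le_comap {R S : Type*} [CommRing R] [CommRing S] [Algebra R S]
    [Algebra.IsIntegral R S] (q : Ideal S) [hq : q.IsPrime] :
    q.height ≤ (q.comap (algebraMap R S)).height := by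
  have hmono : StrictMono (fun x : PrimeSpectrum S => PrimeSpectrum.comap (algebraMap R S) x) := by
    intro x y hxy
    have h1 : x.asIdeal < y.asIdeal := hxy
    have h2 := Ideal.IsIntegral.comap_lt_comap (R := R) h1
    exact h2
  have h3 := Order.height_le_height_apply_of_strictMono _ hmono (⟨q, hq⟩ : PrimeSpectrum S)
  rw [← PrimeSpectrum.height_eq_orderHeight, ← PrimeSpectrum.height_eq_orderHeight] at h3
  exact h3

variable (A : Type u) [CommRing A] [IsDomain A] [IsNoetherianRing A]
  (B : Subalgebra A (FractionRing A))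
  (hB : (B : Set (FractionRing A)) = EGA4.heightOneHull A) [hfin : Module.Finite A B]

include hB in
theorem mem_B_iff (x : FractionRing A) : x ∈ B ↔ ∀ (P : Ideal A) [P.IsPrime], P.height = 1 →
    ∃ s : A, s ∉ P ∧ ∃ a : A, algebraMap A (FractionRing A) a =
      algebraMap A (FractionRing A) s * x := by
  have : x ∈ B ↔ x ∈ (B : Set (FractionRing A)) := Iff.rfl
  rw [this, hB]
  rfl

include hB hfin in
theorem two_le_depth (Q : Ideal B) [hQ : Q.IsPrime] (hht : (2 : ℕ∞) ≤ Q.height) :
    (2 : ℕ∞) ≤ LocCoh.depth (Localization.AtPrime Q) (LocalizedModule Q.primeCompl B) := by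
  haveI : IsNoetherianRing B := IsNoetherianRing.of_finite A B
  haveI : Algebra.IsIntegral A B := Algebra.IsIntegral.of_finite A B
  by_contra hcon
  have hQ0 : Q ≠ ⊥ := by
    rintro rfl
    rw [Ideal.height_bot] at hht
    simp at hht
  obtain ⟨b, hbQ, hb0⟩ := Submodule.exists_mem_ne_zero_of_ne_bot hQ0
  have hbreg : IsSMulRegular B b := by
    intro x y hxy
    exact mul_left_cancel₀ hb0 hxy
  have hnt : Nontrivial (LocalizedModule Q.primeCompl B) := by
    have : Nontrivial (Localization.AtPrime Q) := inferInstance
    exact this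
  obtain ⟨q, hqprime, x, hQq, hx⟩ := ZClosed.exists_socle_rel Q hnt hcon b hbQ hbreg
  -- the contraction of `q` is not contained in any height one prime
  have hq2 : (2 : ℕ∞) ≤ (q.comap (algebraMap A B)).height :=
    le_trans hht (le_trans (Ideal.height_mono hQq) (height_le_comap (R := A) q))
  -- `z = x / b` lies in `B`
  have hb0' : (b : FractionRing A) ≠ 0 := fun h => hb0 (Subtype.ext h)
  have hz : (x : FractionRing A) / (b : FractionRing A) ∈ B := by
    rw [mem_B_iff A B hB]
    intro P hPprime hP
    have hnle : ¬ q.comap (algebraMap A B) ≤ P := by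
      intro hle
      have := le_trans hq2 (Ideal.height_mono hle)
      rw [hP] at this
      norm_num at this
    obtain ⟨s₀, hs₀q, hs₀P⟩ := SetLike.not_le_iff_exists.1 hnle
    obtain ⟨g, hg⟩ := (hx (algebraMap A B s₀)).2 hs₀q
    have hgB : (g : FractionRing A) ∈ B := g.2
    rw [mem_B_iff A B hB] at hgB
    obtain ⟨s₁, hs₁, a, ha⟩ := hgB P hP
    refine ⟨s₁ * s₀, fun h => ?_, a, ?_⟩
    · rcases hPprime.mem_or_mem h with h | h
      · exact hs₁ h
      · exact hs₀P h
    · have hg' : algebraMap A (FractionRing A) s₀ * (x : FractionRing A) =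
          (b : FractionRing A) * (g : FractionRing A) := by
        have := congrArg (fun w : B => (w : FractionRing A)) hg
        simpa using this
      rw [ha, map_mul, mul_assoc, mul_div_assoc', hg', mul_div_cancel_left₀ _ hb0']
  have h1 : (1 : B) ∈ q := by
    rw [← hx 1]
    refine ⟨⟨_, hz⟩, ?_⟩
    apply Subtype.ext
    simp only [smul_eq_mul, one_mul, Subalgebra.coe_mul]
    rw [mul_div_cancel₀ _ hb0']
  exact hqprime.ne_top ((Ideal.eq_top_iff_one q).2 h1)


include hB hfin in
theorem hasSk2 : LocCoh.HasSk 2 B B := by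
  haveI : IsNoetherianRing B := IsNoetherianRing.of_finite A B
  intro Q hQ
  rw [CMRing.supportDim_loc]
  have h3 : ((2 : ℕ) : WithBot ℕ∞) = (((2 : ℕ∞)) : WithBot ℕ∞) := rfl
  rw [h3, ← WithBot.coe_min, WithBot.coe_le_coe]
  by_cases h2 : (2 : ℕ∞) ≤ Q.height
  · rw [min_eq_left h2]
    exact two_le_depth A B hB Q h2
  · by_cases h1 : (1 : ℕ∞) ≤ Q.height
    · push Not at h2
      rw [min_eq_right h2.le]
      have h4 : Q.height ≤ 1 := by
        have h5 : Q.height < 1 + 1 := by
          have : (2 : ℕ∞) = 1 + 1 := by norm_num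
          rwa [this] at h2
        exact Order.le_of_lt_add_one h5
      refine le_trans h4 ?_
      rw [ZPure.one_le_depth_iff]
      intro hass
      rw [AssociatedPrimes.mem_iff, isAssociatedPrime_iff] at hass
      obtain ⟨-, y, hy⟩ := hass
      have hQbot : Q = ⊥ := by
        rw [eq_bot_iff]
        intro r hr
        rw [hy, Submodule.mem_colon_singleton, Submodule.mem_bot] at hr
        have hy0 : y ≠ 0 := by
          rintro rfl
          apply hQ.ne_top
          rw [hy, Ideal.eq_top_iff_one, Submodule.mem_colon_singleton]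
          simp
        rcases mul_eq_zero.1 hr with h | h
        · exact h
        · exact absurd h hy0
      rw [hQbot, Ideal.height_bot] at h1
      simp at h1
    · have h0 : Q.height = 0 := by
        by_contra h0
        exact h1 (Order.one_le_iff_ne_zero.2 h0)
      rw [h0]
      simp

end Groth.Agent.Helper7.HullS2
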