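import Mathlib
import Groth.Prelude
import Groth.Agent.Helper7.HullS2
import Groth.Agent.Helper2.NorLift
import Groth.Agent.Helper5.DimFormula4

/-!
# Finiteness of `A^(1)` for universally catenary domains with finite normalization
-/

set_option autoImplicit false
set_option linter.style.haveILetI false
set_option linter.unusedSectionVars false

namespace Groth.Agent.Helper7.HullFin

open IsLocalRing nonZeroDivisors

universe u

section krull

variable (D : Type u) [CommRing D] [IsDomain D] [IsNoetherianRing D] [IsIntegrallyClosed D]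
  (K : Type u) [Field K] [Algebra D K] [IsFractionRing D K]

/-- a normal Noetherian domain is the intersection of its localizations at height one primes -/
theorem krull_normal (x : K)
    (h : ∀ (Q : Ideal D) [Q.IsPrime], Q.height = 1 →
      ∃ s : D, s ∉ Q ∧ ∃ a : D, algebraMap D K a = algebraMap D K s * x) :
    ∃ a : D, algebraMap D K a = x := by
  obtain ⟨a, b, hb, rfl⟩ := IsFractionRing.div_surjective (A := D) x
  have hb0 : b ≠ 0 := nonZeroDivisors.ne_zero hb
  have hb0' : algebraMap D K b ≠ 0 := by
    intro h0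
    exact hb0 (IsFractionRing.injective D K (by rw [h0, map_zero]))
  by_contra hcon
  have hnot : ¬ ∃ c : D, a = b * c := by
    rintro ⟨c, rfl⟩
    apply hcon
    refine ⟨c, ?_⟩
    rw [map_mul, mul_div_cancel_left₀ _ hb0']
  have hbreg : IsSMulRegular D b := by
    intro x y hxy
    exact mul_left_cancel₀ hb0 hxy
  -- the class of `a` in `D/bD`
  have hne : (Submodule.Quotient.mk a : QuotSMulTop b D) ≠ 0 := by
    intro h0
    rw [Submodule.Quotient.mk_eq_zero, Submodule.mem_smul_pointwise_iff_exists] at h0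
    obtain ⟨c, -, hc⟩ := h0
    exact hnot ⟨c, hc.symm⟩
  obtain ⟨Q, hQass, hle⟩ := exists_le_isAssociatedPrime_of_isNoetherianRing D _ hne
  have hQprime : Q.IsPrime := hQass.isPrime
  rw [isAssociatedPrime_iff] at hQass
  obtain ⟨-, yb, hyb⟩ := hQass
  obtain ⟨y, rfl⟩ := Submodule.Quotient.mk_surjective _ yb
  have hy : ∀ r : D, (∃ g : D, r • y = b • g) ↔ r ∈ Q := by
    intro r
    rw [hyb, Submodule.mem_colon_singleton, Submodule.mem_bot, ← Submodule.Quotient.mk_smul,
      Submodule.Quotient.mk_eq_zero, Submodule.mem_smul_pointwise_iff_exists]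
    constructor
    · rintro ⟨g, hg⟩; exact ⟨g, trivial, hg.symm⟩
    · rintro ⟨g, -, hg⟩; exact ⟨g, hg.symm⟩
  have hbQ : b ∈ Q := (hy b).1 ⟨y, rfl⟩
  -- `Q` has height one
  have hQ1 : Q.height = 1 := by
    have hQ0 : Q.height ≠ 0 := by
      intro h0
      rw [Ideal.height_eq_zero_iff, IsDomain.minimalPrimes_eq_singleton_bot] at h0
      have : Q = ⊥ := h0
      rw [this] at hbQ
      exact hb0 hbQ
    by_contra hQ1
    have h2 : (2 : ℕ∞) ≤ Q.height := by
      have h1 : (1 : ℕ∞) ≤ Q.height := Order.one_le_iff_ne_zero.2 hQ0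
      have h3 : (1 : ℕ∞) < Q.height := lt_of_le_of_ne h1 (Ne.symm hQ1)
      have : (2 : ℕ∞) = 1 + 1 := by norm_num
      rw [this]
      exact Order.add_one_le_of_lt h3
    obtain ⟨-, hS2⟩ := Groth.Agent.Helper2.NorLift.serre_of_normal D
    have h4 := hS2 Q
    rw [CMRing.supportDim_loc] at h4
    have h5 : ((2 : ℕ) : WithBot ℕ∞) = (((2 : ℕ∞)) : WithBot ℕ∞) := rfl
    rw [h5, ← WithBot.coe_min, WithBot.coe_le_coe, min_eq_left h2] at h4
    obtain ⟨hnot', hsoc⟩ := Groth.Agent.Helper9.DepthS2.loc_socle_rel Q b y hy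
    have hnt : Nontrivial (LocalizedModule Q.primeCompl D) := by
      by_contra hnt
      rw [not_nontrivial_iff_subsingleton] at hnt
      exact hnot' ⟨0, Subsingleton.elim _ _⟩
    obtain ⟨a', b', ha', hb', hareg, hbreg'⟩ :=
      Groth.Agent.Helper9.DepthS2.exists_regSeq_of_two_le_depth h4
    exact hnot' (Groth.Agent.Helper9.DepthKer.socle_quot_of_regSeq ha' hb' hareg hbreg'
      (Groth.Agent.Helper9.DepthS2.regular_loc D Q hbreg) _ hsoc)
  obtain ⟨s, hs, a', ha'⟩ := h Q hQ1
  apply hs
  apply hle
  rw [Submodule.mem_colon_singleton, Submodule.mem_bot, ← Submodule.Quotient.mk_smul,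
    Submodule.Quotient.mk_eq_zero, Submodule.mem_smul_pointwise_iff_exists]
  refine ⟨a', trivial, ?_⟩
  apply IsFractionRing.injective D K
  rw [smul_eq_mul, smul_eq_mul, map_mul, map_mul, ha']
  field_simp

end krull


section contraction

variable (A : Type u) [CommRing A] [IsDomain A] (hA : CAlg.IsUniversallyCatenary A)
  (A' : Type u) [CommRing A'] [IsDomain A'] [Algebra A A'] [FaithfulSMul A A'] [Module.Finite A A']

include hA in
theorem height_comap_eq (Q' : Ideal A') [Q'.IsPrime] :
    (Q'.comap (algebraMap A A')).height = Q'.height := by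
  haveI : Algebra.IsIntegral A A' := Algebra.IsIntegral.of_finite A A'
  haveI hlo : Q'.LiesOver (Q'.comap (algebraMap A A')) := ⟨rfl⟩
  have h := Groth.Agent.Helper5.DimFormula.dimension_equality A hA A'
    (Q'.comap (algebraMap A A')) Q'
  have h1 : Algebra.trdeg A A' = 0 := trdeg_eq_zero
  have h2 : Algebra.trdeg (A ⧸ Q'.comap (algebraMap A A')) (A' ⧸ Q') = 0 :=
    trdeg_eq_zero
  rw [h1, h2, add_zero, add_zero] at h
  exact (Cardinal.ofENat_inj.1 h).symm

end contraction


section hull

variable (A : Type u) [CommRing A] [IsDomain A]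

/-- `A^(1)` as a subalgebra of the fraction field -/
noncomputable def hullAlg : Subalgebra A (FractionRing A) where
  carrier := EGA4.heightOneHull A
  mul_mem' := by
    intro x y hx hy P hP hP1
    obtain ⟨s₁, hs₁, a₁, h₁⟩ := hx P hP1
    obtain ⟨s₂, hs₂, a₂, h₂⟩ := hy P hP1
    refine ⟨s₁ * s₂, fun h => ?_, a₁ * a₂, ?_⟩
    · rcases hP.mem_or_mem h with h | h
      · exact hs₁ h
      · exact hs₂ h
    · rw [map_mul, map_mul, h₁, h₂]
      ring
  one_mem' := by
    intro P hP hP1
    exact ⟨1, hP.one_notMem, 1, by simp⟩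
  add_mem' := by
    intro x y hx hy P hP hP1
    obtain ⟨s₁, hs₁, a₁, h₁⟩ := hx P hP1
    obtain ⟨s₂, hs₂, a₂, h₂⟩ := hy P hP1
    refine ⟨s₁ * s₂, fun h => ?_, s₂ * a₁ + s₁ * a₂, ?_⟩
    · rcases hP.mem_or_mem h with h | h
      · exact hs₁ h
      · exact hs₂ h
    · rw [map_add, map_mul, map_mul, map_mul, h₁, h₂]
      ring
  zero_mem' := by
    intro P hP hP1
    exact ⟨1, hP.one_notMem, 0, by simp⟩
  algebraMap_mem' := by
    intro r P hP hP1
    exact ⟨1, hP.one_notMem, r, by simp⟩

variable [IsNoetherianRing A]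

theorem hullAlg_le (hA : CAlg.IsUniversallyCatenary A)
    (hint : Module.Finite A (integralClosure A (FractionRing A))) :
    hullAlg A ≤ integralClosure A (FractionRing A) := by
  intro x hx
  haveI : IsNoetherianRing (integralClosure A (FractionRing A)) :=
    IsNoetherianRing.of_finite A _
  haveI : IsIntegrallyClosed (integralClosure A (FractionRing A)) :=
    integralClosure.isIntegrallyClosedOfFiniteExtension (FractionRing A)
  haveI : IsFractionRing (integralClosure A (FractionRing A)) (FractionRing A) :=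
    integralClosure.isFractionRing_of_finite_extension (FractionRing A) (FractionRing A)
  obtain ⟨a, ha⟩ := krull_normal (integralClosure A (FractionRing A)) (FractionRing A) x (by
    intro Q' hQ' hQ'1
    have h1 := height_comap_eq A hA (integralClosure A (FractionRing A)) Q'
    rw [hQ'1] at h1
    obtain ⟨s, hs, a, hsa⟩ := hx (Q'.comap (algebraMap A (integralClosure A (FractionRing A)))) h1
    refine ⟨algebraMap A _ s, hs, algebraMap A _ a, ?_⟩
    rw [← IsScalarTower.algebraMap_apply, ← IsScalarTower.algebraMap_apply]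
    exact hsa)
  rw [← ha]
  exact a.2

theorem heightOneHullFinite (hA : CAlg.IsUniversallyCatenary A)
    (hint : Module.Finite A (integralClosure A (FractionRing A))) :
    EGA4.HeightOneHullFinite A := by
  refine ⟨hullAlg A, rfl, ?_⟩
  haveI : IsNoetherian A (integralClosure A (FractionRing A)) :=
    isNoetherian_of_isNoetherianRing_of_finite A _
  exact Module.Finite.of_injective (Subalgebra.inclusion (hullAlg_le A hA hint)).toLinearMap
    (Subalgebra.inclusion_injective (hullAlg_le A hA hint))

end hull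

end Groth.Agent.Helper7.HullFin
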