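import Mathlib

/-!
# Spreading out formal smoothness from the generic point
-/

set_option autoImplicit false
set_option linter.style.haveILetI false
set_option linter.unusedSectionVars false
universe u v

namespace Groth.Agent.Helper7.GenSmooth

open TensorProduct

/-- generic smoothness: if the fraction field of a finitely presented domain `D` over `R` is formally
smooth over `R`, then some nonzero principal localization of `D` is formally smooth over `R`. -/
theorem exists_away (R : Type v) (D K : Type u) [CommRing R] [CommRing D] [IsDomain D] [Algebra R D]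
    [Algebra.FinitePresentation R D] [Field K] [Algebra D K] [IsFractionRing D K] [Algebra R K]
    [IsScalarTower R D K] [h3 : Algebra.FormallySmooth R K] :
    ∃ h : D, h ≠ 0 ∧ Algebra.FormallySmooth R (Localization.Away h) := by
  haveI hbot : (⊥ : Ideal D).IsPrime := Ideal.isPrime_bot
  have hcompl : (⊥ : Ideal D).primeCompl = nonZeroDivisors D := by
    ext x
    rw [mem_nonZeroDivisors_iff_ne_zero]
    exact Iff.rfl
  haveI hloc : IsLocalization (⊥ : Ideal D).primeCompl K := by
    rw [hcompl]
    infer_instance
  let e : K ≃ₐ[D] Localization.AtPrime (⊥ : Ideal D) :=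
    IsLocalization.algEquiv (⊥ : Ideal D).primeCompl _ _
  have h4 : Algebra.FormallySmooth R (Localization.AtPrime (⊥ : Ideal D)) :=
    Algebra.FormallySmooth.of_equiv (e.restrictScalars R)
  have hmem : (⟨⊥, hbot⟩ : PrimeSpectrum D) ∈ Algebra.smoothLocus R D := h4
  obtain ⟨_, ⟨_, ⟨h, rfl⟩, rfl⟩, hh, hsub⟩ := PrimeSpectrum.isBasis_basic_opens.exists_subset_of_mem_open
    hmem Algebra.isOpen_smoothLocus
  refine ⟨h, ?_, Algebra.basicOpen_subset_smoothLocus_iff.mp hsub⟩
  rintro rfl
  exact hh (zero_mem _)

/-- version for an arbitrary localization away from `h` -/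
theorem exists_away' (R : Type v) (D K : Type u) [CommRing R] [CommRing D] [IsDomain D] [Algebra R D]
    [Algebra.FinitePresentation R D] [Field K] [Algebra D K] [IsFractionRing D K] [Algebra R K]
    [IsScalarTower R D K] [h3 : Algebra.FormallySmooth R K] :
    ∃ h : D, h ≠ 0 ∧ ∀ (C : Type u) [CommRing C] [Algebra D C] [IsLocalization.Away h C]
      [Algebra R C] [IsScalarTower R D C], Algebra.Smooth R C := by
  obtain ⟨h, h0, hs⟩ := exists_away R D K
  refine ⟨h, h0, fun C _ _ _ _ _ => ?_⟩
  let e : Localization.Away h ≃ₐ[D] C := IsLocalization.algEquiv (Submonoid.powers h) _ _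
  haveI : Algebra.FormallySmooth R C := Algebra.FormallySmooth.of_equiv (e.restrictScalars R)
  haveI : Algebra.FinitePresentation D (Localization.Away h) :=
    IsLocalization.Away.finitePresentation h
  haveI : Algebra.FinitePresentation R (Localization.Away h) :=
    Algebra.FinitePresentation.trans R D _
  haveI : Algebra.FinitePresentation R C :=
    Algebra.FinitePresentation.equiv (e.restrictScalars R)
  exact ⟨inferInstance, inferInstance⟩

end Groth.Agent.Helper7.GenSmooth
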