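import Mathlib
import Groth.Agent.Helper2.RegComp
import Groth.Agent.Helper2.SepTensorReg
import Groth.Agent.Helper2.SepAlg
import Groth.Agent.Helper2.RegDescent

/-!
# J-2 rings: transport of regularity (smooth ascent, basic opens, finite free descent)
-/

set_option autoImplicit false
set_option linter.style.haveILetI false
set_option linter.unusedSectionVars false
universe u

namespace Groth.Agent.Helper7.J2

open TensorProduct

/-- a smooth algebra over a regular ring is regular -/
theorem isRegularRing_of_smooth (R S : Type u) [CommRing R] [CommRing S] [Algebra R S]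
    [IsRegularRing R] [Algebra.Smooth R S] : IsRegularRing S := by
  haveI : Algebra.FiniteType R S := inferInstance
  haveI : IsNoetherianRing S := Algebra.FiniteType.isNoetherianRing R S
  rw [isRegularRing_iff]
  intro r hr
  apply Groth.Agent.Helper2.RegComp.isRegularLocalRing_of_fiber R S r
  · infer_instance
  · set p := r.comap (algebraMap R S) with hp
    haveI : Algebra.FormallySmooth p.ResidueField (p.Fiber S) := by
      unfold Ideal.Fiber
      infer_instance
    haveI : Algebra.FiniteType p.ResidueField (p.Fiber S) := by
      unfold Ideal.Fiber
      infer_instance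
    exact Groth.Agent.Helper2.SepTensorReg.isRegularRing_of_formallySmooth p.ResidueField (p.Fiber S)

/-- regularity of the local rings on a basic open set, from regularity of the localization -/
theorem regular_of_away {R : Type u} [CommRing R] (f : R) [IsRegularRing (Localization.Away f)]
    (Q : Ideal R) [Q.IsPrime] (hf : f ∉ Q) : IsRegularLocalRing (Localization.AtPrime Q) := by
  have hdisj : Disjoint (Submonoid.powers f : Set R) (Q : Set R) := by
    rw [Set.disjoint_left]
    rintro _ ⟨n, rfl⟩ hQ
    exact hf (Ideal.IsPrime.mem_of_pow_mem inferInstance n hQ)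
  set Q' := Q.map (algebraMap R (Localization.Away f)) with hQ'
  haveI : Q'.IsPrime := IsLocalization.isPrime_of_isPrime_disjoint (Submonoid.powers f) _ Q inferInstance hdisj
  have hcomap : Q'.comap (algebraMap R (Localization.Away f)) = Q :=
    IsLocalization.under_map_of_isPrime_disjoint (Submonoid.powers f) _ inferInstance hdisj
  obtain ⟨e⟩ := Groth.Agent.Helper2.SepAlg.nonempty_locEquiv (Submonoid.powers f) (Localization.Away f) Q'
  have h1 : IsRegularLocalRing (Localization.AtPrime (Q'.comap (algebraMap R (Localization.Away f)))) :=
    IsRegularLocalRing.of_ringEquiv (R := Localization.AtPrime Q') e.symm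
  exact Groth.Agent.Helper2.RegHom.transport hcomap h1

/-- regularity of a localization from regularity of the local rings on the basic open set -/
theorem isRegularRing_away {R : Type u} [CommRing R] [IsNoetherianRing R] (M : Submonoid R)
    (S : Type u) [CommRing S] [Algebra R S] [IsLocalization M S]
    (h : ∀ (Q : Ideal R) [Q.IsPrime], Disjoint (M : Set R) (Q : Set R) →
      IsRegularLocalRing (Localization.AtPrime Q)) : IsRegularRing S := by
  haveI : IsNoetherianRing S := IsLocalization.isNoetherianRing M S inferInstance
  rw [isRegularRing_iff]
  intro Q' hQ'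
  obtain ⟨e⟩ := Groth.Agent.Helper2.SepAlg.nonempty_locEquiv M S Q'
  have hdisj : Disjoint (M : Set R) (Q'.comap (algebraMap R S) : Set R) :=
    ((IsLocalization.isPrime_iff_isPrime_disjoint M S Q').mp hQ').2
  haveI := h (Q'.comap (algebraMap R S)) hdisj
  exact IsRegularLocalRing.of_ringEquiv (R := Localization.AtPrime (Q'.comap (algebraMap R S))) e

end Groth.Agent.Helper7.J2
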