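import Mathlib
import Groth.Agent.Helper7.J2A

/-!
# J-2 rings: descent of generic regularity along a finite injective extension of domains
-/

set_option autoImplicit false
set_option linter.style.haveILetI false
set_option linter.unusedSectionVars false
universe u

namespace Groth.Agent.Helper7.J2

open TensorProduct

section Step1

variable (D B : Type u) [CommRing D] [CommRing B] [IsDomain D] [IsDomain B] [IsNoetherianRing D]
  [Algebra D B] [Module.Finite D B]

/-- generic freeness + faithfully flat descent: if `B` is regular, finite and injective over the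
Noetherian domain `D`, then some nonzero principal localization of `D` is regular. -/
theorem exists_regular_away (hinj : Function.Injective (algebraMap D B)) [IsRegularRing B] :
    ∃ g : D, g ≠ 0 ∧ IsRegularRing (Localization.Away g) := by
  haveI : Module.FinitePresentation D B := Module.finitePresentation_of_finite D B
  haveI : Module.Free (FractionRing D) (LocalizedModule (nonZeroDivisors D) B) :=
    Module.Free.of_divisionRing _ _
  obtain ⟨g, hgS, hfree, -⟩ := Module.FinitePresentation.exists_free_localizedModule_powers
    (nonZeroDivisors D) (LocalizedModule.mkLinearMap (nonZeroDivisors D) B) (FractionRing D)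
  have hg0 : g ≠ 0 := nonZeroDivisors.ne_zero hgS
  refine ⟨g, hg0, ?_⟩
  set M := Submonoid.powers g with hM
  set S' := Localization (Algebra.algebraMapSubmonoid B M) with hS'
  haveI : IsLocalizedModule M (IsScalarTower.toAlgHom D B S').toLinearMap :=
    (isLocalizedModule_iff_isLocalization).mpr inferInstance
  let e0 : LocalizedModule M B ≃ₗ[D] S' :=
    IsLocalizedModule.linearEquiv M (LocalizedModule.mkLinearMap M B)
      (IsScalarTower.toAlgHom D B S').toLinearMap
  let e1 : LocalizedModule M B ≃ₗ[Localization M] S' :=
    e0.extendScalarsOfIsLocalization M (Localization M)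
  haveI : Module.Free (Localization M) S' := Module.Free.of_equiv e1
  haveI : IsDomain S' := by
    apply IsLocalization.isDomain_localization (M := Algebra.algebraMapSubmonoid B M)
    rintro _ ⟨_, ⟨n, rfl⟩, rfl⟩
    rw [mem_nonZeroDivisors_iff_ne_zero]
    intro h0
    exact pow_ne_zero n hg0 (hinj (h0.trans (map_zero _).symm))
  haveI : Module.FaithfullyFlat (Localization M) S' := inferInstance
  haveI : IsRegularRing S' :=
    Groth.Agent.Helper2.SepAlg.isRegularRing_of_isLocalization (Algebra.algebraMapSubmonoid B M) S'
  exact Groth.Agent.Helper2.RegDescent.isRegularRing_of_faithfullyFlat (Localization M) S'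

/-- the same with regularity only on a nonempty basic open subset of `Spec B` -/
theorem exists_regular_basicOpen (hinj : Function.Injective (algebraMap D B)) (s : B) (hs : s ≠ 0)
    (hreg : ∀ (Q : Ideal B) [Q.IsPrime], s ∉ Q → IsRegularLocalRing (Localization.AtPrime Q)) :
    ∃ t : D, t ≠ 0 ∧ ∀ (q : Ideal D) [q.IsPrime], t ∉ q →
      IsRegularLocalRing (Localization.AtPrime q) := by
  haveI : IsNoetherianRing B := IsNoetherianRing.of_finite D B
  haveI : Algebra.IsIntegral D B := Algebra.IsIntegral.of_finite D B
  -- a nonzero element of `D` divisible by `s`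
  have hne : (Ideal.span {s}).comap (algebraMap D B) ≠ ⊥ :=
    Ideal.comap_ne_bot_of_integral_mem hs (Ideal.subset_span rfl) (Algebra.IsIntegral.isIntegral s)
  obtain ⟨c, hc, hc0⟩ := Submodule.exists_mem_ne_zero_of_ne_bot hne
  rw [Ideal.mem_comap, Ideal.mem_span_singleton] at hc
  set M := Submonoid.powers c with hM
  set D' := Localization.Away c with hD'
  set B' := Localization (Algebra.algebraMapSubmonoid B M) with hB'
  have hMle : M ≤ nonZeroDivisors D := powers_le_nonZeroDivisors_of_noZeroDivisors hc0
  have hMBle : Algebra.algebraMapSubmonoid B M ≤ nonZeroDivisors B := by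
    rintro _ ⟨_, ⟨n, rfl⟩, rfl⟩
    rw [mem_nonZeroDivisors_iff_ne_zero]
    intro h0
    exact pow_ne_zero n hc0 (hinj (h0.trans (map_zero _).symm))
  haveI : IsDomain D' := IsLocalization.isDomain_localization hMle
  haveI : IsDomain B' := IsLocalization.isDomain_localization hMBle
  haveI : IsNoetherianRing D' := IsLocalization.isNoetherianRing M D' inferInstance
  haveI : Module.Finite D' B' := Module.Finite.of_isLocalization D B M
  have hinj' : Function.Injective (algebraMap D' B') := by
    exact localizationAlgebra_injective D' B' hinj
  haveI : IsRegularRing B' := by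
    apply isRegularRing_away (Algebra.algebraMapSubmonoid B M) B'
    intro Q hQ hdisj
    apply hreg Q
    intro hsQ
    have hcQ : algebraMap D B c ∈ Q := by
      obtain ⟨y, hy⟩ := hc
      rw [hy]
      exact Q.mul_mem_right _ hsQ
    exact Set.disjoint_left.mp hdisj ⟨c, Submonoid.mem_powers c, rfl⟩ hcQ
  obtain ⟨g', hg'0, hg'reg⟩ := exists_regular_away D' B' hinj'
  obtain ⟨⟨g'', m⟩, hgm⟩ := IsLocalization.surj M g'
  refine ⟨c * g'', ?_, ?_⟩
  · refine mul_ne_zero hc0 ?_
    rintro rfl
    simp only [map_zero] at hgm
    have hm0 : algebraMap D D' (m : D) ≠ 0 := by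
      intro h0
      have := IsLocalization.injective D' hMle (h0.trans (map_zero _).symm)
      exact nonZeroDivisors.ne_zero (hMle m.2) this
    exact (mul_ne_zero hg'0 hm0) hgm
  · intro q hq htq
    have hcq : c ∉ q := fun h => htq (q.mul_mem_right _ h)
    have hgq : g'' ∉ q := fun h => htq (q.mul_mem_left _ h)
    have hdisj : Disjoint (M : Set D) (q : Set D) := by
      rw [Set.disjoint_left]
      rintro _ ⟨n, rfl⟩ hQ
      exact hcq (Ideal.IsPrime.mem_of_pow_mem inferInstance n hQ)
    set Q' := q.map (algebraMap D D') with hQ'
    haveI : Q'.IsPrime := IsLocalization.isPrime_of_isPrime_disjoint M _ q inferInstance hdisj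
    have hcomap : Q'.comap (algebraMap D D') = q :=
      IsLocalization.under_map_of_isPrime_disjoint M _ inferInstance hdisj
    have hg'Q : g' ∉ Q' := by
      intro h
      have h1 : algebraMap D D' g'' ∈ Q' := by
        rw [← hgm]
        exact Q'.mul_mem_right _ h
      have h2 : g'' ∈ Q'.comap (algebraMap D D') := h1
      rw [hcomap] at h2
      exact hgq h2
    haveI := hg'reg
    have h3 : IsRegularLocalRing (Localization.AtPrime Q') := regular_of_away g' Q' hg'Q
    obtain ⟨e⟩ := Groth.Agent.Helper2.SepAlg.nonempty_locEquiv M D' Q'
    have h4 : IsRegularLocalRing (Localization.AtPrime (Q'.comap (algebraMap D D'))) :=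
      IsRegularLocalRing.of_ringEquiv (R := Localization.AtPrime Q') e.symm
    exact Groth.Agent.Helper2.RegHom.transport hcomap h4

end Step1

end Groth.Agent.Helper7.J2
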