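import Mathlib

/-!
# J-2 rings: finite subalgebras with prescribed fraction field, composita inside a field
-/

set_option autoImplicit false
set_option linter.style.haveILetI false
set_option linter.unusedSectionVars false
universe u

namespace Groth.Agent.Helper7.J2

open TensorProduct

/-- a finite extension of the fraction field of a domain `A₀` is the fraction field of a subalgebra
finite over `A₀` -/
theorem exists_finite_subalgebra (A₀ K k₁ : Type u) [CommRing A₀] [IsDomain A₀] [Field K] [Field k₁]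
    [Algebra A₀ K] [IsFractionRing A₀ K] [Algebra K k₁] [Algebra A₀ k₁] [IsScalarTower A₀ K k₁]
    [FiniteDimensional K k₁] :
    ∃ A' : Subalgebra A₀ k₁, Module.Finite A₀ A' ∧ IsFractionRing A' k₁ := by
  classical
  obtain ⟨s, b, hb⟩ := FiniteDimensional.exists_is_basis_integral A₀ K k₁
  set A' := Algebra.adjoin A₀ (Set.range b) with hA'
  have hfg : A'.toSubmodule.FG := by
    apply fg_adjoin_of_finite (Set.finite_range b)
    rintro _ ⟨i, rfl⟩
    exact hb i
  refine ⟨A', Module.Finite.of_fg hfg, ?_⟩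
  apply IsFractionRing.of_field A' k₁
  intro z
  have hz : z ∈ Submodule.span K (Set.range b) := by
    rw [b.span_eq]
    trivial
  induction hz using Submodule.span_induction with
  | mem y hy =>
    exact ⟨⟨y, Algebra.subset_adjoin hy⟩, 1, by simp⟩
  | zero => exact ⟨0, 1, by simp⟩
  | add y z _ _ hy hz =>
    obtain ⟨x1, y1, rfl⟩ := hy
    obtain ⟨x2, y2, rfl⟩ := hz
    by_cases h1 : algebraMap A' k₁ y1 = 0
    · refine ⟨x2, y2, ?_⟩
      rw [h1, div_zero, zero_add]
    by_cases h2 : algebraMap A' k₁ y2 = 0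
    · refine ⟨x1, y1, ?_⟩
      rw [h2, div_zero, add_zero]
    refine ⟨x1 * y2 + x2 * y1, y1 * y2, ?_⟩
    rw [map_add, map_mul, map_mul, map_mul]
    field_simp
  | smul c y _ hy =>
    obtain ⟨x1, y1, rfl⟩ := hy
    obtain ⟨n, d, hd, rfl⟩ := IsFractionRing.div_surjective (A := A₀) c
    refine ⟨algebraMap A₀ A' n * x1, algebraMap A₀ A' d * y1, ?_⟩
    rw [map_mul, map_mul, ← IsScalarTower.algebraMap_apply, ← IsScalarTower.algebraMap_apply,
      Algebra.smul_def, map_div₀, ← IsScalarTower.algebraMap_apply, ← IsScalarTower.algebraMap_apply]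
    rw [div_mul_div_comm]

/-- the "compositum" of two algebras mapping to a field, as a quotient of their tensor product -/
theorem exists_compositum (A₀ D A' W : Type u) [CommRing A₀] [CommRing D] [CommRing A'] [Field W]
    [Algebra A₀ D] [Algebra A₀ A'] [Algebra A₀ W] [Algebra.FiniteType A₀ D] [Module.Finite A₀ A']
    (f : D →ₐ[A₀] W) (g : A' →ₐ[A₀] W) :
    ∃ (B : Type u) (_ : CommRing B) (_ : IsDomain B) (_ : Algebra D B) (_ : Algebra A' B)
      (ι : B →+* W), Module.Finite D B ∧ Algebra.FiniteType A' B ∧ Function.Injective ι ∧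
      (∀ d, ι (algebraMap D B d) = f d) ∧ (∀ a, ι (algebraMap A' B a) = g a) := by
  let T := D ⊗[A₀] A'
  let ψ : T →ₐ[A₀] W := Algebra.TensorProduct.lift f g (fun _ _ => Commute.all _ _)
  let P : Ideal T := RingHom.ker ψ.toRingHom
  haveI : P.IsPrime := RingHom.ker_isPrime ψ.toRingHom
  let φA : A' →+* T ⧸ P :=
    (Ideal.Quotient.mk P).comp (Algebra.TensorProduct.includeRight : A' →ₐ[A₀] T).toRingHom
  letI algA : Algebra A' (T ⧸ P) := φA.toAlgebra
  refine ⟨T ⧸ P, inferInstance, inferInstance, inferInstance, algA,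
    RingHom.kerLift ψ.toRingHom, inferInstance, ?_, RingHom.kerLift_injective ψ.toRingHom, ?_, ?_⟩
  · let σ₀ : A' ⊗[A₀] D →+* T ⧸ P :=
      (Ideal.Quotient.mk P).comp (Algebra.TensorProduct.comm A₀ A' D).toAlgHom.toRingHom
    let σ : A' ⊗[A₀] D →ₐ[A'] T ⧸ P :=
      { σ₀ with
        commutes' := fun a => by
          change σ₀ (a ⊗ₜ 1) = φA a
          simp [σ₀, φA] }
    apply Algebra.FiniteType.of_surjective σ
    intro x
    obtain ⟨t, rfl⟩ := Ideal.Quotient.mk_surjective x
    exact ⟨(Algebra.TensorProduct.comm A₀ A' D).symm t, by simp [σ, σ₀]⟩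
  · intro d
    change RingHom.kerLift ψ.toRingHom (Ideal.Quotient.mk P (d ⊗ₜ 1)) = f d
    rw [RingHom.kerLift_mk]
    change Algebra.TensorProduct.lift f g _ (d ⊗ₜ[A₀] 1) = f d
    rw [Algebra.TensorProduct.lift_tmul, map_one, mul_one]
  · intro a
    change RingHom.kerLift ψ.toRingHom (Ideal.Quotient.mk P (1 ⊗ₜ a)) = g a
    rw [RingHom.kerLift_mk]
    change Algebra.TensorProduct.lift f g _ (1 ⊗ₜ[A₀] a) = g a
    rw [Algebra.TensorProduct.lift_tmul, map_one, one_mul]

end Groth.Agent.Helper7.J2
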