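import Mathlib
import Groth.Agent.Helper7.J2B
import Groth.Agent.Helper7.J2C
import Groth.Agent.Helper7.GenSmooth
import Groth.Agent.Helper2.LemmaF
import Groth.Agent.Helper1.FieldSmooth7

/-!
# J-2 rings: generic regularity of finite type domains over a Noetherian domain
-/

set_option autoImplicit false
set_option linter.style.haveILetI false
set_option linter.unusedSectionVars false
universe u

namespace Groth.Agent.Helper7.J2

open TensorProduct

/-- pointwise version of `isRegularRing_of_smooth` -/
theorem regular_of_smooth_at (R S : Type u) [CommRing R] [CommRing S] [Algebra R S]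
    [IsNoetherianRing R] [Algebra.Smooth R S] (r : Ideal S) [r.IsPrime]
    (hp : IsRegularLocalRing (Localization.AtPrime (r.comap (algebraMap R S)))) :
    IsRegularLocalRing (Localization.AtPrime r) := by
  haveI : Algebra.FiniteType R S := inferInstance
  haveI : IsNoetherianRing S := Algebra.FiniteType.isNoetherianRing R S
  apply Groth.Agent.Helper2.RegComp.isRegularLocalRing_of_fiber R S r hp
  set p := r.comap (algebraMap R S) with hp
  haveI : Algebra.FormallySmooth p.ResidueField (p.Fiber S) := by
    unfold Ideal.Fiber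
    infer_instance
  haveI : Algebra.FiniteType p.ResidueField (p.Fiber S) := by
    unfold Ideal.Fiber
    infer_instance
  exact Groth.Agent.Helper2.SepTensorReg.isRegularRing_of_formallySmooth p.ResidueField (p.Fiber S)

set_option maxHeartbeats 1000000 in
/-- the core of the main lemma, with all the auxiliary fields and rings as variables -/
theorem main_aux (A₀ D K L k₁ W A' : Type u) [CommRing A₀] [CommRing D] [IsDomain A₀] [IsDomain D]
    [IsNoetherianRing A₀] [Algebra A₀ D] [Algebra.FiniteType A₀ D]
    [Field K] [Field L] [Field k₁] [Field W]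
    [Algebra A₀ K] [Algebra D L] [IsFractionRing D L] [Algebra K L] [Algebra A₀ L]
    [IsScalarTower A₀ D L] [IsScalarTower A₀ K L]
    [Algebra K k₁] [Algebra k₁ W] [Algebra K W] [Algebra L W] [IsScalarTower K k₁ W]
    [IsScalarTower K L W] [Algebra.FormallySmooth k₁ W]
    [CommRing A'] [IsDomain A'] [Algebra A₀ A'] [Module.Finite A₀ A'] [Algebra A' k₁]
    [IsFractionRing A' k₁] [Algebra A₀ k₁] [IsScalarTower A₀ A' k₁] [IsScalarTower A₀ K k₁]
    (a : A') (ha0 : a ≠ 0)
    (hareg : ∀ (Q : Ideal A') [Q.IsPrime], a ∉ Q → IsRegularLocalRing (Localization.AtPrime Q)) :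
    ∃ t : D, t ≠ 0 ∧ ∀ (q : Ideal D) [q.IsPrime], t ∉ q →
      IsRegularLocalRing (Localization.AtPrime q) := by
  haveI : IsNoetherianRing D := Algebra.FiniteType.isNoetherianRing A₀ D
  letI : Algebra A₀ W := ((algebraMap K W).comp (algebraMap A₀ K)).toAlgebra
  haveI : IsScalarTower A₀ K W := IsScalarTower.of_algebraMap_eq (fun _ => rfl)
  let f : D →ₐ[A₀] W :=
    { (algebraMap L W).comp (algebraMap D L) with
      commutes' := fun a => by
        change algebraMap L W (algebraMap D L (algebraMap A₀ D a)) =
          algebraMap K W (algebraMap A₀ K a)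
        rw [← IsScalarTower.algebraMap_apply A₀ D L, IsScalarTower.algebraMap_apply A₀ K L,
          ← IsScalarTower.algebraMap_apply K L W] }
  let g : A' →ₐ[A₀] W :=
    { (algebraMap k₁ W).comp (algebraMap A' k₁) with
      commutes' := fun a => by
        change algebraMap k₁ W (algebraMap A' k₁ (algebraMap A₀ A' a)) =
          algebraMap K W (algebraMap A₀ K a)
        rw [← IsScalarTower.algebraMap_apply A₀ A' k₁, IsScalarTower.algebraMap_apply A₀ K k₁,
          ← IsScalarTower.algebraMap_apply K k₁ W] }
  have hf : Function.Injective f :=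
    (algebraMap L W).injective.comp (IsFractionRing.injective D L)
  have hg : Function.Injective g :=
    (algebraMap k₁ W).injective.comp (IsFractionRing.injective A' k₁)
  obtain ⟨B, _, _, _, _, ι, hBfin, hBft, hι, hιD, hιA⟩ := exists_compositum A₀ D A' W f g
  have hDB : Function.Injective (algebraMap D B) := by
    intro x y hxy
    have := congrArg ι hxy
    rw [hιD, hιD] at this
    exact hf this
  have hAB : Function.Injective (algebraMap A' B) := by
    intro x y hxy
    have := congrArg ι hxy
    rw [hιA, hιA] at this
    exact hg this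
  let F := FractionRing B
  let ι' : F →+* W := IsFractionRing.lift hι
  have hAF : Function.Injective (algebraMap A' F) := by
    rw [IsScalarTower.algebraMap_eq A' B F]
    exact (IsFractionRing.injective B F).comp hAB
  letI : Algebra k₁ F := (IsFractionRing.lift (A := A') (K := k₁) hAF).toAlgebra
  haveI : IsScalarTower A' k₁ F := IsScalarTower.of_algebraMap_eq
    (fun a => (IsFractionRing.lift_algebraMap hAF a).symm)
  have hcomm : ι'.comp (algebraMap k₁ F) = algebraMap k₁ W := by
    apply IsLocalization.ringHom_ext (nonZeroDivisors A')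
    ext a
    change ι' (algebraMap k₁ F (algebraMap A' k₁ a)) = algebraMap k₁ W (algebraMap A' k₁ a)
    rw [← IsScalarTower.algebraMap_apply A' k₁ F, IsScalarTower.algebraMap_apply A' B F]
    change IsFractionRing.lift hι (algebraMap B F (algebraMap A' B a)) = _
    rw [IsFractionRing.lift_algebraMap, hιA]
    rfl
  let ι'' : F →ₐ[k₁] W :=
    { ι' with commutes' := fun c => RingHom.congr_fun hcomm c }
  haveI : Algebra.IsGeometricallyReduced k₁ W :=
    Groth.Agent.Helper1.FieldSmooth.formallySmooth_iff_isGeometricallyReduced.mp inferInstance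
  haveI : Algebra.IsGeometricallyReduced k₁ F :=
    Algebra.IsGeometricallyReduced.of_injective ι'' ι''.toRingHom.injective
  haveI : Algebra.FormallySmooth k₁ F :=
    Groth.Agent.Helper1.FieldSmooth.formallySmooth_iff_isGeometricallyReduced.mpr inferInstance
  haveI : Algebra.FormallySmooth A' k₁ := Algebra.FormallySmooth.of_isLocalization (nonZeroDivisors A')
  haveI : Algebra.FormallySmooth A' F := Algebra.FormallySmooth.comp A' k₁ F
  haveI : IsNoetherianRing A' := IsNoetherianRing.of_finite A₀ A'
  haveI : Algebra.FinitePresentation A' B := Algebra.FinitePresentation.of_finiteType.mp hBft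
  obtain ⟨h, h0, hsm'⟩ := Groth.Agent.Helper7.GenSmooth.exists_away A' B F
  refine exists_regular_basicOpen D B hDB (h * algebraMap A' B a)
    (mul_ne_zero h0 (fun h' => ha0 (hAB (h'.trans (map_zero _).symm)))) ?_
  intro Q hQ hsQ
  have hhQ : h ∉ Q := fun hh => hsQ (Q.mul_mem_right _ hh)
  have haQ : algebraMap A' B a ∉ Q := fun hh => hsQ (Q.mul_mem_left _ hh)
  set C := Localization.Away h with hC
  haveI : Algebra.FinitePresentation B C := IsLocalization.Away.finitePresentation h
  haveI : Algebra.FinitePresentation A' C := Algebra.FinitePresentation.trans A' B C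
  haveI : Algebra.Smooth A' C := ⟨hsm', inferInstance⟩
  have hdisj : Disjoint (Submonoid.powers h : Set B) (Q : Set B) := by
    rw [Set.disjoint_left]
    rintro _ ⟨n, rfl⟩ hQ'
    exact hhQ (Ideal.IsPrime.mem_of_pow_mem inferInstance n hQ')
  set r := Q.map (algebraMap B C) with hr
  haveI : r.IsPrime := IsLocalization.isPrime_of_isPrime_disjoint (Submonoid.powers h) _ Q inferInstance hdisj
  have hcomap : r.comap (algebraMap B C) = Q :=
    IsLocalization.under_map_of_isPrime_disjoint (Submonoid.powers h) _ inferInstance hdisj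
  have hcomapA : r.comap (algebraMap A' C) = Q.comap (algebraMap A' B) := by
    rw [IsScalarTower.algebraMap_eq A' B C, ← Ideal.comap_comap, hcomap]
  have hp : IsRegularLocalRing (Localization.AtPrime (r.comap (algebraMap A' C))) := by
    haveI : (Q.comap (algebraMap A' B)).IsPrime := Ideal.comap_isPrime _ _
    exact Groth.Agent.Helper2.RegHom.transport hcomapA.symm
      (hareg (Q.comap (algebraMap A' B)) haQ)
  have h3 : IsRegularLocalRing (Localization.AtPrime r) := regular_of_smooth_at A' C r hp
  obtain ⟨e⟩ := Groth.Agent.Helper2.SepAlg.nonempty_locEquiv (Submonoid.powers h) C r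
  have h4 : IsRegularLocalRing (Localization.AtPrime (r.comap (algebraMap B C))) :=
    IsRegularLocalRing.of_ringEquiv (R := Localization.AtPrime r) e.symm
  exact Groth.Agent.Helper2.RegHom.transport hcomap h4

/-- **Main lemma**: a finite type domain `D` over a Noetherian domain `A₀` (injectively) is
generically regular as soon as all domains finite over `A₀` are. -/
theorem main_lemma (A₀ D : Type u) [CommRing A₀] [CommRing D] [IsDomain A₀] [IsDomain D]
    [IsNoetherianRing A₀] [Algebra A₀ D] [Algebra.FiniteType A₀ D]
    (hinj : Function.Injective (algebraMap A₀ D))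
    (H : ∀ (A' : Type u) [CommRing A'] [IsDomain A'] [Algebra A₀ A'], Module.Finite A₀ A' →
      ∃ a : A', a ≠ 0 ∧ ∀ (Q : Ideal A') [Q.IsPrime], a ∉ Q →
        IsRegularLocalRing (Localization.AtPrime Q)) :
    ∃ t : D, t ≠ 0 ∧ ∀ (q : Ideal D) [q.IsPrime], t ∉ q →
      IsRegularLocalRing (Localization.AtPrime q) := by
  let K := FractionRing A₀
  let L := FractionRing D
  have hinjL : Function.Injective (algebraMap A₀ L) := by
    rw [IsScalarTower.algebraMap_eq A₀ D L]
    exact (IsFractionRing.injective D L).comp hinj
  haveI : FaithfulSMul A₀ L := (faithfulSMul_iff_algebraMap_injective A₀ L).mpr hinjL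
  letI : Algebra K L := FractionRing.liftAlgebra A₀ L
  haveI : IsScalarTower A₀ K L := FractionRing.isScalarTower_liftAlgebra A₀ L
  haveI : Algebra.EssFiniteType D L := Algebra.EssFiniteType.of_isLocalization L (nonZeroDivisors D)
  haveI : Algebra.EssFiniteType A₀ L := Algebra.EssFiniteType.comp A₀ D L
  haveI : Algebra.EssFiniteType K L := Algebra.EssFiniteType.of_comp A₀ K L
  obtain ⟨k₁, W, _, _, _, _, _, _, _, _, hfin, hpi, hess, hsm⟩ :=
    Groth.Agent.Helper2.LemmaF.exists_fields K L
  letI : Algebra A₀ k₁ := ((algebraMap K k₁).comp (algebraMap A₀ K)).toAlgebra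
  haveI : IsScalarTower A₀ K k₁ := IsScalarTower.of_algebraMap_eq (fun _ => rfl)
  obtain ⟨A', hA'fin, hA'frac⟩ := exists_finite_subalgebra A₀ K k₁
  obtain ⟨a, ha0, hareg⟩ := H A' hA'fin
  exact main_aux A₀ D K L k₁ W A' a ha0 hareg

end Groth.Agent.Helper7.J2
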