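import Mathlib
import Groth.Prelude
import Groth.Agent.Helper7.J2D
import Groth.Agent.Helper6.NagataCrit2

/-!
# J-2 rings: the criterion through finite domains (Matsumura 32.B Theorem 73), fields are J-2
-/

set_option autoImplicit false
set_option linter.style.haveILetI false
set_option linter.unusedSectionVars false
universe u

namespace Groth.Agent.Helper7.J2

open TensorProduct PrimeSpectrum

/-- in a domain the zero ideal is a regular point -/
theorem bot_mem_regLocus (D : Type u) [CommRing D] [IsDomain D] :
    (⟨⊥, Ideal.isPrime_bot⟩ : PrimeSpectrum D) ∈ EGA4.regLocus D := by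
  change IsRegularLocalRing (Localization.AtPrime (⊥ : Ideal D))
  have hcompl : (⊥ : Ideal D).primeCompl = nonZeroDivisors D := by
    ext x
    rw [mem_nonZeroDivisors_iff_ne_zero]
    exact Iff.rfl
  haveI : IsFractionRing D (Localization.AtPrime (⊥ : Ideal D)) := by
    change IsLocalization (nonZeroDivisors D) _
    rw [← hcompl]
    infer_instance
  letI : Field (Localization.AtPrime (⊥ : Ideal D)) :=
    IsFractionRing.toField D
  infer_instance

/-- an open nonempty subset of the regular locus of a domain contains a nonempty basic open -/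
theorem exists_basicOpen_of_open {D : Type u} [CommRing D] [IsDomain D]
    (U : Set (PrimeSpectrum D)) (hU : IsOpen U) (hne : U.Nonempty) (hsub : U ⊆ EGA4.regLocus D) :
    ∃ a : D, a ≠ 0 ∧ ∀ (Q : Ideal D) [Q.IsPrime], a ∉ Q →
      IsRegularLocalRing (Localization.AtPrime Q) := by
  obtain ⟨x, hx⟩ := hne
  obtain ⟨_, ⟨_, ⟨a, rfl⟩, rfl⟩, hax, hasub⟩ :=
    PrimeSpectrum.isBasis_basic_opens.exists_subset_of_mem_open hx hU
  refine ⟨a, ?_, ?_⟩
  · rintro rfl
    exact hax (zero_mem _)
  · intro Q hQ haQ
    exact hsub (hasub (show (⟨Q, hQ⟩ : PrimeSpectrum D) ∈ (basicOpen a : Set _) from haQ))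

/-- conversely a nonempty basic open in the regular locus -/
theorem exists_open_of_basicOpen {D : Type u} [CommRing D] [IsDomain D] (t : D) (ht : t ≠ 0)
    (h : ∀ (q : Ideal D) [q.IsPrime], t ∉ q → IsRegularLocalRing (Localization.AtPrime q)) :
    ∃ U : Set (PrimeSpectrum D), IsOpen U ∧ U.Nonempty ∧ U ⊆ EGA4.regLocus D := by
  refine ⟨(basicOpen t : Set _), (basicOpen t).isOpen, ⟨⟨⊥, Ideal.isPrime_bot⟩, ?_⟩, ?_⟩
  · change t ∉ (⊥ : Ideal D)
    simpa using ht
  · intro q hq
    exact h q.asIdeal hq

/-- the criterion: `A` is J-2 iff every domain finite over `A` has a nonempty open set of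
regular points -/
theorem s2617 (A : Type u) [CommRing A] [IsNoetherianRing A] :
    EGA4.IsJ2 A ↔
      ∀ (A' : Type u) [CommRing A'] [IsDomain A'] [Algebra A A'], Module.Finite A A' →
        ∃ U : Set (PrimeSpectrum A'), IsOpen U ∧ U.Nonempty ∧ U ⊆ EGA4.regLocus A' := by
  constructor
  · intro h A' _ _ _ hfin
    haveI := hfin
    refine ⟨EGA4.regLocus A', h A' inferInstance, ⟨_, bot_mem_regLocus A'⟩, subset_rfl⟩
  · intro H S _ _ hft
    haveI := hft
    haveI : IsNoetherianRing S := Algebra.FiniteType.isNoetherianRing A S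
    apply Groth.Agent.Helper6.NagataCrit.isOpen_regLocus_of
    intro p _
    set D := S ⧸ p.asIdeal with hD
    haveI : IsDomain D := Ideal.Quotient.isDomain p.asIdeal
    let φ : A →+* D := algebraMap A D
    set A₀ := A ⧸ RingHom.ker φ with hA₀
    haveI : (RingHom.ker φ).IsPrime := RingHom.ker_isPrime φ
    haveI : IsDomain A₀ := Ideal.Quotient.isDomain _
    letI : Algebra A₀ D := (RingHom.kerLift φ).toAlgebra
    haveI : IsScalarTower A A₀ D := IsScalarTower.of_algebraMap_eq (fun a => rfl)
    haveI : Algebra.FiniteType A D := inferInstance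
    haveI : Algebra.FiniteType A₀ D := Algebra.FiniteType.of_restrictScalars_finiteType A A₀ D
    have hinj : Function.Injective (algebraMap A₀ D) := RingHom.kerLift_injective φ
    obtain ⟨t, ht0, ht⟩ := main_lemma A₀ D hinj (by
      intro A'' _ _ _ hfin
      haveI := hfin
      letI : Algebra A A'' := ((algebraMap A₀ A'').comp (algebraMap A A₀)).toAlgebra
      haveI : IsScalarTower A A₀ A'' := IsScalarTower.of_algebraMap_eq (fun a => rfl)
      haveI : Module.Finite A A'' := Module.Finite.trans A₀ A''
      obtain ⟨U, hU, hne, hsub⟩ := H A'' inferInstance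
      exact exists_basicOpen_of_open U hU hne hsub)
    exact exists_open_of_basicOpen t ht0 ht

/-- fields are J-2 -/
theorem s2618 (k S : Type u) [Field k] [CommRing S] [Algebra k S] [Algebra.FiniteType k S] :
    IsOpen (EGA4.regLocus S) := by
  refine (s2617 k).mpr ?_ S inferInstance
  intro A' _ _ _ hfin
  haveI := hfin
  haveI : IsArtinianRing A' := IsArtinianRing.of_finite k A'
  letI : Field A' := (IsArtinianRing.isField_of_isDomain A').toField
  refine ⟨Set.univ, isOpen_univ, ⟨⟨⊥, Ideal.isPrime_bot⟩, trivial⟩, ?_⟩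
  intro q _
  change IsRegularLocalRing (Localization.AtPrime q.asIdeal)
  infer_instance

end Groth.Agent.Helper7.J2
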