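import Mathlib
import Groth.Prelude
import Groth.Agent.Helper7.NorOpen2
import Groth.Agent.Helper7.CMRing

/-!
# Openness of the normal locus of a reduced Noetherian ring with finite normalization
-/

set_option autoImplicit false
set_option linter.style.haveILetI false
set_option linter.unusedSectionVars false

namespace Groth.Agent.Helper7.NorFin

universe u

open Groth.Agent.Helper2 Groth.Agent.Helper2.NormalPt IsLocalRing Groth.Agent.Helper7.NorOpen
open scoped Pointwise

variable {A : Type u} [CommRing A] [IsNoetherianRing A]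

/-- In a reduced Noetherian ring the associated primes are minimal. -/
theorem ass_subset_minimal [IsReduced A] {P : Ideal A} (hP : P ∈ associatedPrimes A A) :
    P ∈ minimalPrimes A := by
  have hPp : P.IsPrime := hP.isPrime
  rw [AssociatedPrimes.mem_iff, isAssociatedPrime_iff] at hP
  obtain ⟨-, y, hy⟩ := hP
  have hy0 : y ≠ 0 := by
    rintro rfl
    apply hPp.ne_top
    rw [hy, eq_top_iff]
    intro r _
    rw [Submodule.mem_colon_singleton]
    simp
  have hrad : sInf (minimalPrimes A) = (⊥ : Ideal A) := by
    unfold minimalPrimes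
    rw [Ideal.sInf_minimalPrimes]
    exact Ideal.radical_bot_of_isReduced
  obtain ⟨p, hpmin, hyp⟩ : ∃ p ∈ minimalPrimes A, y ∉ p := by
    by_contra hcon
    push Not at hcon
    apply hy0
    have : y ∈ sInf (minimalPrimes A) := by
      rw [Ideal.mem_sInf]
      intro p hp
      exact hcon p hp
    rw [hrad] at this
    exact this
  have hpp : p.IsPrime := hpmin.1.1
  have hPle : P ≤ p := by
    intro r hr
    rw [hy, Submodule.mem_colon_singleton, Submodule.mem_bot, smul_eq_mul] at hr
    have : r * y ∈ p := by rw [hr]; exact p.zero_mem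
    exact (hpp.mem_or_mem this).resolve_right hyp
  have : p ≤ P := hpmin.2 ⟨hPp, bot_le⟩ hPle
  rw [le_antisymm hPle this]
  exact hpmin

/-- A prime of positive height in a reduced Noetherian ring contains a non-zero-divisor. -/
theorem exists_nzd_mem [IsReduced A] (Q : Ideal A) [hQ : Q.IsPrime] (h0 : Q.height ≠ 0) :
    ∃ a ∈ Q, a ∈ nonZeroDivisors A := by
  by_contra hcon
  push Not at hcon
  have hsub : (Q : Set A) ⊆ ⋃ P ∈ associatedPrimes A A, (id P : Ideal A) := by
    intro x hx
    have : x ∈ ((nonZeroDivisors A : Set A))ᶜ := hcon x hx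
    rw [← biUnion_associatedPrimes_eq_compl_nonZeroDivisors] at this
    exact this
  obtain ⟨P, hP, hQP⟩ := (Ideal.subset_union_prime_finite (associatedPrimes.finite A A) (f := id)
    ⊥ ⊥ (fun P hP _ _ => hP.isPrime)).mp hsub
  have hPmin := ass_subset_minimal hP
  have : P ≤ Q := hPmin.2 ⟨hQ, bot_le⟩ hQP
  apply h0
  rw [Ideal.height_eq_zero_iff, le_antisymm hQP this]
  exact hPmin

/-- A non-zero-divisor stays regular in any localization at a prime. -/
theorem regular_loc_of_nzd (Q : Ideal A) [Q.IsPrime] (a : A) (ha : a ∈ nonZeroDivisors A) :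
    IsSMulRegular (Localization.AtPrime Q) (algebraMap A (Localization.AtPrime Q) a) := by
  apply regular_loc_of_avoid
  intro P hP _ haP
  have : a ∈ ⋃ P ∈ associatedPrimes A A, (P : Set A) := Set.mem_biUnion hP haP
  rw [biUnion_associatedPrimes_eq_compl_nonZeroDivisors] at this
  exact this ha


theorem principal_of_socle (s : A)
    (hs : ∀ x : FractionRing A, IsIntegral A x →
      ∃ a : A, algebraMap A (FractionRing A) a = algebraMap A (FractionRing A) s * x)
    (Q : Ideal A) [hQ : Q.IsPrime] (hsQ : s ∉ Q) (a : A) (ha : a ∈ nonZeroDivisors A)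
    (haQ : a ∈ Q) (b : A) (hb : ∀ r : A, (∃ c, r * b = a * c) ↔ r ∈ Q) :
    ∃ r₀ ∈ Q, maximalIdeal (Localization.AtPrime Q) =
      Ideal.span {algebraMap A (Localization.AtPrime Q) r₀} := by
  by_cases hcase : ∀ r ∈ Q, ∀ c, r * b = a * c → c ∈ Q
  · exfalso
    set x : FractionRing A := IsLocalization.mk' (FractionRing A) b ⟨a, ha⟩ with hx
    have hxa : x * algebraMap A (FractionRing A) a = algebraMap A (FractionRing A) b :=
      IsLocalization.mk'_spec _ b ⟨a, ha⟩
    have hunit : IsUnit (algebraMap A (FractionRing A) a) :=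
      IsLocalization.map_units (FractionRing A) (⟨a, ha⟩ : nonZeroDivisors A)
    have hxr : ∀ r c, r * b = a * c →
        x * algebraMap A (FractionRing A) r = algebraMap A (FractionRing A) c := by
      intro r c hrc
      apply hunit.mul_left_cancel
      calc algebraMap A (FractionRing A) a * (x * algebraMap A (FractionRing A) r)
          = (x * algebraMap A (FractionRing A) a) * algebraMap A (FractionRing A) r := by ring
        _ = algebraMap A (FractionRing A) b * algebraMap A (FractionRing A) r := by rw [hxa]
        _ = algebraMap A (FractionRing A) (r * b) := by rw [map_mul]; ring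
        _ = algebraMap A (FractionRing A) (a * c) := by rw [hrc]
        _ = algebraMap A (FractionRing A) a * algebraMap A (FractionRing A) c := map_mul _ _ _
    set N : Submodule A (FractionRing A) :=
      Submodule.map (Algebra.linearMap A (FractionRing A)) Q with hN
    have hNfg : N.FG := Submodule.FG.map _ ((isNoetherianRing_iff_ideal_fg A).mp ‹_› Q)
    have hNnoeth : IsNoetherian A N := isNoetherian_of_fg_of_noetherian N hNfg
    let S : Subalgebra A (FractionRing A) :=
      { carrier := { y | ∀ n ∈ N, y * n ∈ N }
        mul_mem' := fun {y z} hy hz n hn => by rw [mul_assoc]; exact hy _ (hz _ hn)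
        one_mem' := fun n hn => by rw [one_mul]; exact hn
        add_mem' := fun {y z} hy hz n hn => by rw [add_mul]; exact N.add_mem (hy _ hn) (hz _ hn)
        zero_mem' := fun n _ => by rw [zero_mul]; exact N.zero_mem
        algebraMap_mem' := fun r n hn => by rw [← Algebra.smul_def]; exact N.smul_mem r hn }
    have hxS : x ∈ S := by
      intro n hn
      obtain ⟨r, hr, rfl⟩ := hn
      obtain ⟨c, hc⟩ := (hb r).2 hr
      refine ⟨c, hcase r hr c hc, ?_⟩
      rw [Algebra.linearMap_apply, Algebra.linearMap_apply, hxr r c hc]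
    have hSfg : S.toSubmodule.FG := by
      apply Submodule.fg_of_fg_map_injective
        (LinearMap.mulRight A (algebraMap A (FractionRing A) a))
      · intro y z hyz
        exact hunit.mul_right_cancel hyz
      · apply (isNoetherian_submodule.1 hNnoeth)
        rintro _ ⟨y, hy, rfl⟩
        exact hy _ ⟨a, haQ, rfl⟩
    have hint : IsIntegral A x := IsIntegral.of_mem_of_fg S hSfg x hxS
    obtain ⟨a', ha'⟩ := hs x hint
    have h1 : a' * a = s * b := by
      apply IsFractionRing.injective A (FractionRing A)
      rw [map_mul, map_mul, ha', mul_assoc, hxa]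
    exact hsQ ((hb s).1 ⟨a', by rw [← h1]; ring⟩)
  · push Not at hcase
    obtain ⟨r₀, hr₀, c₀, hrc₀, hc₀⟩ := hcase
    refine ⟨r₀, hr₀, ?_⟩
    have hregA := regular_loc_of_nzd Q a ha
    have hunit0 : IsUnit (algebraMap A (Localization.AtPrime Q) c₀) :=
      IsLocalization.map_units (Localization.AtPrime Q) (⟨c₀, hc₀⟩ : Q.primeCompl)
    have hregb : ∀ y z : Localization.AtPrime Q,
        algebraMap A (Localization.AtPrime Q) b * y = algebraMap A (Localization.AtPrime Q) b * z →
        y = z := by
      intro y z hyz
      apply hunit0.mul_left_cancel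
      apply hregA
      show algebraMap A (Localization.AtPrime Q) a * _ = algebraMap A (Localization.AtPrime Q) a * _
      have h2 : algebraMap A (Localization.AtPrime Q) a * algebraMap A (Localization.AtPrime Q) c₀ =
          algebraMap A (Localization.AtPrime Q) r₀ * algebraMap A (Localization.AtPrime Q) b := by
        rw [← map_mul, ← map_mul, hrc₀]
      rw [← mul_assoc, ← mul_assoc, h2, mul_assoc, mul_assoc, hyz]
    apply le_antisymm
    · intro z hz
      obtain ⟨r, t, rfl⟩ := IsLocalization.exists_mk'_eq Q.primeCompl z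
      have hrQ : r ∈ Q := (IsLocalization.AtPrime.mk'_mem_maximal_iff _ Q r t).1 hz
      obtain ⟨c, hc⟩ := (hb r).2 hrQ
      have h3 : algebraMap A (Localization.AtPrime Q) c₀ * algebraMap A (Localization.AtPrime Q) r =
          algebraMap A (Localization.AtPrime Q) r₀ * algebraMap A (Localization.AtPrime Q) c := by
        apply hregb
        rw [← map_mul, ← map_mul, ← map_mul, ← map_mul]
        congr 1
        calc b * (c₀ * r) = c₀ * (r * b) := by ring
          _ = c₀ * (a * c) := by rw [hc]
          _ = (a * c₀) * c := by ring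
          _ = (r₀ * b) * c := by rw [hrc₀]
          _ = b * (r₀ * c) := by ring
      rw [Ideal.mem_span_singleton']
      refine ⟨algebraMap A (Localization.AtPrime Q) c * ↑(hunit0.unit)⁻¹ *
        IsLocalization.mk' (Localization.AtPrime Q) 1 t, ?_⟩
      rw [IsLocalization.mk'_eq_mul_mk'_one r t]
      have h4 : algebraMap A (Localization.AtPrime Q) r =
          ↑(hunit0.unit)⁻¹ * (algebraMap A (Localization.AtPrime Q) r₀ *
            algebraMap A (Localization.AtPrime Q) c) := by
        rw [← h3, ← mul_assoc, IsUnit.val_inv_mul, one_mul]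
      rw [h4]
      ring
    · rw [Ideal.span_le, Set.singleton_subset_iff]
      exact (IsLocalization.AtPrime.to_map_mem_maximal_iff _ Q r₀).2 hr₀


theorem cond_of_conductor [IsReduced A] (s : A)
    (hs : ∀ x : FractionRing A, IsIntegral A x →
      ∃ a : A, algebraMap A (FractionRing A) a = algebraMap A (FractionRing A) s * x)
    (Q : Ideal A) [hQ : Q.IsPrime] (hsQ : s ∉ Q) : Cond A Q := by
  have hdimQ : ringKrullDim (Localization.AtPrime Q) = ((Q.height : ℕ∞) : WithBot ℕ∞) :=
    IsLocalization.AtPrime.ringKrullDim_eq_height Q (Localization.AtPrime Q)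
  by_cases h0 : Q.height = 0
  · have hdim : ringKrullDim (Localization.AtPrime Q) = 0 := by
      rw [hdimQ, h0]; rfl
    haveI : Ring.KrullDimLE 0 (Localization.AtPrime Q) := by
      rw [Ring.krullDimLE_iff, hdim]; rfl
    haveI : IsReduced (Localization.AtPrime Q) :=
      inferInstanceAs (IsReduced (Localization Q.primeCompl))
    have hfield : IsField (Localization.AtPrime Q) := Ring.KrullDimLE.isField_of_isReduced
    have hmax : maximalIdeal (Localization.AtPrime Q) = ⊥ :=
      (IsLocalRing.isField_iff_maximalIdeal_eq).1 hfield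
    refine ⟨fun _ => ?_, by rw [h0]; simp⟩
    apply IsRegularLocalRing.of_spanFinrank_maximalIdeal_le
    rw [hmax, hdim]
    have : (⊥ : Ideal (Localization.AtPrime Q)).spanFinrank = 0 :=
      (Submodule.spanFinrank_eq_zero_iff_eq_bot Submodule.fg_bot).mpr rfl
    rw [this]; rfl
  · have hQass : Q ∉ associatedPrimes A A :=
      fun h => h0 (Ideal.height_eq_zero_iff.2 (ass_subset_minimal h))
    have hd1 : (1 : ℕ∞) ≤ LocCoh.depth (Localization.AtPrime Q) (Localization.AtPrime Q) :=
      (ZPure.one_le_depth_iff (M := A) Q).2 hQass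
    by_cases hd : (2 : ℕ∞) ≤ LocCoh.depth (Localization.AtPrime Q) (Localization.AtPrime Q)
    · have hle : LocCoh.depth (Localization.AtPrime Q) (Localization.AtPrime Q) ≤ Q.height :=
        CMRing.depth_loc_le A Q
      refine ⟨fun h1 => ?_, le_trans (min_le_left _ _) hd⟩
      exfalso
      have : (2 : ℕ∞) ≤ 1 := (hd.trans hle).trans h1
      norm_num at this
    · obtain ⟨a, haQ, ha⟩ := exists_nzd_mem Q h0
      have hass := mem_ass_quot Q a haQ (regular_loc_of_nzd Q a ha) hd
      rw [AssociatedPrimes.mem_iff, isAssociatedPrime_iff] at hass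
      obtain ⟨-, bb, hbb⟩ := hass
      obtain ⟨b, rfl⟩ := Ideal.Quotient.mk_surjective bb
      have hb : ∀ r : A, (∃ c, r * b = a * c) ↔ r ∈ Q := by
        intro r
        rw [hbb, Submodule.mem_colon_singleton, Submodule.mem_bot, Algebra.smul_def,
          Ideal.Quotient.algebraMap_eq, ← map_mul, Ideal.Quotient.eq_zero_iff_mem,
          Ideal.mem_span_singleton']
        constructor
        · rintro ⟨c, hc⟩
          exact ⟨c, by rw [hc]; ring⟩
        · rintro ⟨c, hc⟩
          exact ⟨c, by rw [← hc]; ring⟩
      obtain ⟨r₀, hr₀, hmax⟩ := principal_of_socle s hs Q hsQ a ha haQ b hb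
      have hsf : (maximalIdeal (Localization.AtPrime Q)).spanFinrank ≤ 1 := by
        rw [hmax]
        exact le_trans (Submodule.spanFinrank_span_le_ncard_of_finite (Set.finite_singleton _))
          (by simp)
      have hht1 : Q.height ≤ 1 := by
        have h1 := ringKrullDim_le_spanFinrank_maximalIdeal (Localization.AtPrime Q)
        rw [hdimQ] at h1
        have h2 : (((maximalIdeal (Localization.AtPrime Q)).spanFinrank : ℕ) : WithBot ℕ∞) ≤
            ((1 : ℕ∞) : WithBot ℕ∞) := by
          exact_mod_cast hsf
        exact WithBot.coe_le_coe.1 (h1.trans h2)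
      have hht1' : (1 : ℕ∞) ≤ Q.height := Order.one_le_iff_ne_zero.2 h0
      have hreg : IsRegularLocalRing (Localization.AtPrime Q) := by
        apply IsRegularLocalRing.of_spanFinrank_maximalIdeal_le
        rw [hdimQ]
        have h2 : (((maximalIdeal (Localization.AtPrime Q)).spanFinrank : ℕ) : WithBot ℕ∞) ≤
            ((1 : ℕ∞) : WithBot ℕ∞) := by
          exact_mod_cast hsf
        exact h2.trans (WithBot.coe_le_coe.2 hht1')
      exact ⟨fun _ => hreg, ((min_le_right _ _).trans hht1).trans hd1⟩

theorem main [IsReduced A] (h : Module.Finite A (integralClosure A (FractionRing A))) :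
    IsOpen (EGA4.norLocus A) := by
  classical
  obtain ⟨s, hs0, hs⟩ : ∃ s ∈ nonZeroDivisors A, ∀ x : FractionRing A, IsIntegral A x →
      ∃ a : A, algebraMap A (FractionRing A) a = algebraMap A (FractionRing A) s * x := by
    obtain ⟨T, hT⟩ := h.fg_top
    obtain ⟨b, hb⟩ := IsLocalization.exist_integer_multiples_of_finset (nonZeroDivisors A)
      (T.image Subtype.val)
    refine ⟨b, b.2, fun x hx => ?_⟩
    have hxmem : (⟨x, hx⟩ : integralClosure A (FractionRing A)) ∈
        Submodule.span A (T : Set (integralClosure A (FractionRing A))) := by rw [hT]; trivial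
    have key : ∀ y ∈ Submodule.span A (T : Set (integralClosure A (FractionRing A))),
        ∃ a : A, algebraMap A (FractionRing A) a =
          algebraMap A (FractionRing A) b * (y : FractionRing A) := by
      intro y hy
      induction hy using Submodule.span_induction with
      | mem y hy =>
        obtain ⟨a, ha⟩ := hb y.1 (Finset.mem_image_of_mem _ hy)
        exact ⟨a, by rw [ha, Algebra.smul_def]⟩
      | zero => exact ⟨0, by simp⟩
      | add y z _ _ hy hz =>
        obtain ⟨a, ha⟩ := hy
        obtain ⟨c, hc⟩ := hz
        exact ⟨a + c, by rw [map_add, ha, hc]; push_cast; ring⟩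
      | smul r y _ hy =>
        obtain ⟨a, ha⟩ := hy
        refine ⟨r * a, ?_⟩
        rw [map_mul, ha]
        have : ((r • y : integralClosure A (FractionRing A)) : FractionRing A) =
            algebraMap A (FractionRing A) r * (y : FractionRing A) := by
          rw [← Algebra.smul_def]; rfl
        rw [this]; ring
    exact key _ hxmem
  apply isOpen_of_open_subset (PrimeSpectrum.basicOpen s : Set (PrimeSpectrum A))
    (PrimeSpectrum.basicOpen s).isOpen
  · intro q hq
    show IsDomain _ ∧ IsIntegrallyClosed _
    rw [normal_iff]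
    intro q' _ hle
    exact cond_of_conductor s hs q' (fun hsq' => hq (hle hsq'))
  · intro p hpmin _
    show s ∉ p.asIdeal
    intro hsp
    exact Set.disjoint_left.1 (Ideal.disjoint_nonZeroDivisors_of_mem_minimalPrimes hpmin) hsp hs0

end Groth.Agent.Helper7.NorFin
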