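import Mathlib
import Groth.Prelude
import Groth.Agent.Helper7.J2E
import Groth.Agent.Helper7.NorFin

/-!
# J-2 rings: dimension at most one (semilocal rings, Nagata rings, Dedekind domains)
-/

set_option autoImplicit false
set_option linter.style.haveILetI false
set_option linter.unusedSectionVars false
universe u

namespace Groth.Agent.Helper7.J2

open TensorProduct PrimeSpectrum

/-- a domain finite over a ring of dimension at most one has dimension at most one -/
theorem dimensionLEOne_of_finite (A A' : Type u) [CommRing A] [CommRing A'] [IsDomain A']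
    [Algebra A A'] [Module.Finite A A'] (hdim : ringKrullDim A ≤ 1) : Ring.DimensionLEOne A' := by
  let φ : A →+* A' := algebraMap A A'
  set A₀ := A ⧸ RingHom.ker φ with hA₀
  haveI : (RingHom.ker φ).IsPrime := RingHom.ker_isPrime φ
  haveI : IsDomain A₀ := Ideal.Quotient.isDomain _
  letI : Algebra A₀ A' := (RingHom.kerLift φ).toAlgebra
  haveI : IsScalarTower A A₀ A' := IsScalarTower.of_algebraMap_eq (fun a => rfl)
  haveI : Module.Finite A₀ A' := Module.Finite.of_restrictScalars_finite A A₀ A'
  haveI : Algebra.IsIntegral A₀ A' := Algebra.IsIntegral.of_finite A₀ A'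
  have h1 : ringKrullDim A₀ ≤ 1 := (ringKrullDim_quotient_le _).trans hdim
  haveI : Ring.KrullDimLE 1 A₀ := Ring.krullDimLE_iff.mpr (by exact_mod_cast h1)
  haveI : Ring.DimensionLEOne A₀ :=
    ⟨fun hp hp' => Ring.krullDimLE_one_iff_of_noZeroDivisors.mp inferInstance _ hp hp'⟩
  exact Ring.DimensionLEOne.of_isIntegral A₀ A'

/-- an N-1 Noetherian domain of dimension at most one has an open nonempty set of regular points -/
theorem exists_open_of_n1 (A' : Type u) [CommRing A'] [IsDomain A'] [IsNoetherianRing A']
    [Ring.DimensionLEOne A']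
    (h : Module.Finite A' (integralClosure A' (FractionRing A'))) :
    ∃ U : Set (PrimeSpectrum A'), IsOpen U ∧ U.Nonempty ∧ U ⊆ EGA4.regLocus A' := by
  refine ⟨EGA4.norLocus A', Groth.Agent.Helper7.NorFin.main h, ⟨⟨⊥, Ideal.isPrime_bot⟩, ?_⟩, ?_⟩
  · change IsDomain (Localization.AtPrime (⊥ : Ideal A')) ∧
      IsIntegrallyClosed (Localization.AtPrime (⊥ : Ideal A'))
    have hcompl : (⊥ : Ideal A').primeCompl = nonZeroDivisors A' := by
      ext x
      rw [mem_nonZeroDivisors_iff_ne_zero]
      exact Iff.rfl
    haveI : IsFractionRing A' (Localization.AtPrime (⊥ : Ideal A')) := by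
      change IsLocalization (nonZeroDivisors A') _
      rw [← hcompl]
      infer_instance
    letI : Field (Localization.AtPrime (⊥ : Ideal A')) := IsFractionRing.toField A'
    exact ⟨inferInstance, inferInstance⟩
  · rintro q ⟨hdom, hic⟩
    change IsRegularLocalRing (Localization.AtPrime q.asIdeal)
    haveI := hdom
    haveI := hic
    haveI : Ring.DimensionLEOne (Localization.AtPrime q.asIdeal) :=
      Ring.DimensionLEOne.localization _ q.asIdeal.primeCompl_le_nonZeroDivisors
    haveI : IsDedekindRing (Localization.AtPrime q.asIdeal) := {}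
    haveI : IsDedekindDomain (Localization.AtPrime q.asIdeal) := ⟨⟩
    haveI : IsRegularRing (Localization.AtPrime q.asIdeal) := inferInstance
    exact IsRegularLocalRing.of_isRegularRing_of_isLocalRing _

end Groth.Agent.Helper7.J2
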