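import Mathlib
import Groth.Prelude
import Groth.Agent.Helper7.J2F

/-!
# J-2 rings: semilocal rings of dimension at most one, Nagata rings of dimension one,
Dedekind domains of characteristic zero
-/

set_option autoImplicit false
set_option linter.style.haveILetI false
set_option linter.unusedSectionVars false
universe u

namespace Groth.Agent.Helper7.J2

open TensorProduct PrimeSpectrum

/-- transfer of finiteness of the integral closure along a finite extension -/
theorem n1_of_finite (R₀ A' : Type u) [CommRing R₀] [CommRing A'] [IsDomain A']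
    [Algebra R₀ A'] [Module.Finite R₀ A']
    (h : Module.Finite R₀ (integralClosure R₀ (FractionRing A'))) :
    Module.Finite A' (integralClosure A' (FractionRing A')) := by
  haveI : Algebra.IsIntegral R₀ A' := Algebra.IsIntegral.of_finite R₀ A'
  have hcar : ∀ x : FractionRing A', x ∈ integralClosure A' (FractionRing A') ↔
      x ∈ integralClosure R₀ (FractionRing A') := by
    intro x
    constructor
    · intro hx
      exact isIntegral_trans (R := R₀) (A := A') x hx
    · intro hx
      exact IsIntegral.tower_top (A := A') hx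
  have hfg : (integralClosure R₀ (FractionRing A')).toSubmodule.FG := Module.Finite.iff_fg.mp h
  obtain ⟨T, hT⟩ := hfg
  suffices hs : (integralClosure A' (FractionRing A')).toSubmodule.FG from
    Module.Finite.iff_fg.mpr hs
  refine ⟨T, le_antisymm ?_ ?_⟩
  · rw [Submodule.span_le]
    intro t ht
    have : t ∈ (integralClosure R₀ (FractionRing A')).toSubmodule := by
      rw [← hT]
      exact Submodule.subset_span ht
    exact (hcar t).mpr this
  · intro x hx
    have hx' : x ∈ (integralClosure R₀ (FractionRing A')).toSubmodule := (hcar x).mp hx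
    rw [← hT] at hx'
    exact Submodule.span_subset_span R₀ A' _ hx'

/-- a Noetherian semilocal ring of dimension at most one is J-2 -/
theorem s2620 (A : Type u) [CommRing A] [IsNoetherianRing A]
    (hsl : {I : Ideal A | I.IsMaximal}.Finite) (hdim : ringKrullDim A ≤ 1) : EGA4.IsJ2 A := by
  refine (s2617 A).mpr ?_
  intro A' _ _ _ hfin
  haveI := hfin
  haveI : Algebra.IsIntegral A A' := Algebra.IsIntegral.of_finite A A'
  haveI : Ring.DimensionLEOne A' := dimensionLEOne_of_finite A A' hdim
  have hmax : {Q : Ideal A' | Q.IsMaximal}.Finite := by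
    refine Set.Finite.subset (Set.Finite.biUnion hsl
      (fun m _ => Algebra.QuasiFinite.finite_primesOver (S := A') m)) ?_
    intro Q hQ
    have hQ' : Q.IsMaximal := hQ
    have hm : (Q.comap (algebraMap A A')).IsMaximal :=
      Ideal.isMaximal_comap_of_isIntegral_of_isMaximal Q
    exact Set.mem_biUnion (show Q.comap (algebraMap A A') ∈ {I : Ideal A | I.IsMaximal} from hm)
      ⟨hQ'.isPrime, ⟨rfl⟩⟩
  set Z : Set (PrimeSpectrum A') := {x | x.asIdeal ≠ ⊥} with hZ
  have hZmax : ∀ x ∈ Z, x.asIdeal.IsMaximal := fun x hx =>
    Ring.DimensionLEOne.maximalOfPrime hx x.isPrime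
  have hZfin : Z.Finite := by
    have h1 : (PrimeSpectrum.asIdeal ⁻¹' {Q : Ideal A' | Q.IsMaximal}).Finite :=
      Set.Finite.preimage (fun x _ y _ hxy => PrimeSpectrum.ext hxy) hmax
    exact h1.subset (fun x hx => hZmax x hx)
  have hZcl : IsClosed Z := by
    have : Z = ⋃ x ∈ Z, {x} := by simp
    rw [this]
    exact hZfin.isClosed_biUnion
      (fun x hx => (PrimeSpectrum.isClosed_singleton_iff_isMaximal x).mpr (hZmax x hx))
  refine ⟨Zᶜ, hZcl.isOpen_compl, ⟨⟨⊥, Ideal.isPrime_bot⟩, fun h => h rfl⟩, ?_⟩
  intro x hx
  have hx0 : x.asIdeal = ⊥ := by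
    by_contra h
    exact hx h
  have : x = ⟨⊥, Ideal.isPrime_bot⟩ := PrimeSpectrum.ext hx0
  rw [this]
  exact bot_mem_regLocus A'

attribute [local instance] FractionRing.liftAlgebra FractionRing.isScalarTower_liftAlgebra in
/-- a Nagata ring of dimension one is J-2 -/
theorem s9280 (R : Type u) [CommRing R] (hR : CAlg.IsNagata R)
    (hdim : ringKrullDim R = 1) : EGA4.IsJ2 R := by
  haveI : IsNoetherianRing R := hR.1
  refine (s2617 R).mpr ?_
  intro A' _ _ _ hfin
  haveI := hfin
  haveI : IsNoetherianRing A' := IsNoetherianRing.of_finite R A'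
  haveI : Ring.DimensionLEOne A' := dimensionLEOne_of_finite R A' hdim.le
  let φ : R →+* A' := algebraMap R A'
  set R₀ := R ⧸ RingHom.ker φ with hR₀
  haveI : (RingHom.ker φ).IsPrime := RingHom.ker_isPrime φ
  haveI : IsDomain R₀ := Ideal.Quotient.isDomain _
  letI : Algebra R₀ A' := (RingHom.kerLift φ).toAlgebra
  haveI : IsScalarTower R R₀ A' := IsScalarTower.of_algebraMap_eq (fun a => rfl)
  haveI : Module.Finite R₀ A' := Module.Finite.of_restrictScalars_finite R R₀ A'
  haveI : Algebra.IsIntegral R₀ A' := Algebra.IsIntegral.of_finite R₀ A'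
  have hinj : Function.Injective (algebraMap R₀ A') := RingHom.kerLift_injective φ
  haveI : FaithfulSMul R₀ A' := (faithfulSMul_iff_algebraMap_injective R₀ A').mpr hinj
  have hinjL : Function.Injective (algebraMap R₀ (FractionRing A')) := by
    rw [IsScalarTower.algebraMap_eq R₀ A' (FractionRing A')]
    exact (IsFractionRing.injective A' (FractionRing A')).comp hinj
  haveI : FaithfulSMul R₀ (FractionRing A') :=
    (faithfulSMul_iff_algebraMap_injective R₀ (FractionRing A')).mpr hinjL
  haveI : FiniteDimensional (FractionRing R₀) (FractionRing A') :=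
    Module.Finite.of_isLocalization R₀ A' (nonZeroDivisors R₀)
  have hN2 : CAlg.IsN2 R₀ := hR.2 (RingHom.ker φ)
  have h1 : Module.Finite R₀ (integralClosure R₀ (FractionRing A')) :=
    hN2 (FractionRing A') inferInstance
  exact exists_open_of_n1 A' (n1_of_finite R₀ A' h1)

attribute [local instance] FractionRing.liftAlgebra FractionRing.isScalarTower_liftAlgebra in
/-- a Dedekind domain of characteristic zero is J-2 -/
theorem s2619 (A : Type u) [CommRing A] [IsDedekindDomain A] [CharZero A] : EGA4.IsJ2 A := by
  refine (s2617 A).mpr ?_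
  intro A' _ _ _ hfin
  haveI := hfin
  haveI : IsNoetherianRing A' := IsNoetherianRing.of_finite A A'
  let φ : A →+* A' := algebraMap A A'
  haveI : (RingHom.ker φ).IsPrime := RingHom.ker_isPrime φ
  by_cases hker : RingHom.ker φ = ⊥
  · -- `A ⊆ A'`
    have hinj : Function.Injective (algebraMap A A') := (RingHom.injective_iff_ker_eq_bot φ).mpr hker
    have hdimA : ringKrullDim A ≤ 1 := by
      haveI : Ring.KrullDimLE 1 A := inferInstance
      exact_mod_cast Ring.krullDimLE_iff.mp this
    haveI : Ring.DimensionLEOne A' := dimensionLEOne_of_finite A A' hdimA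
    haveI : Algebra.IsIntegral A A' := Algebra.IsIntegral.of_finite A A'
    haveI : FaithfulSMul A A' := (faithfulSMul_iff_algebraMap_injective A A').mpr hinj
    have hinjL : Function.Injective (algebraMap A (FractionRing A')) := by
      rw [IsScalarTower.algebraMap_eq A A' (FractionRing A')]
      exact (IsFractionRing.injective A' (FractionRing A')).comp hinj
    haveI : FaithfulSMul A (FractionRing A') :=
      (faithfulSMul_iff_algebraMap_injective A (FractionRing A')).mpr hinjL
    haveI : FiniteDimensional (FractionRing A) (FractionRing A') :=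
      Module.Finite.of_isLocalization A A' (nonZeroDivisors A)
    haveI : CharZero (FractionRing A) :=
      charZero_of_injective_algebraMap (IsFractionRing.injective A (FractionRing A))
    haveI : Algebra.IsSeparable (FractionRing A) (FractionRing A') := inferInstance
    have h1 : Module.Finite A (integralClosure A (FractionRing A')) :=
      IsIntegralClosure.finite A (FractionRing A) (FractionRing A') _
    exact exists_open_of_n1 A' (n1_of_finite A A' h1)
  · -- `A'` is finite over the field `A / ker`
    haveI hmax : (RingHom.ker φ).IsMaximal :=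
      Ring.DimensionLEOne.maximalOfPrime hker inferInstance
    letI : Field (A ⧸ RingHom.ker φ) := Ideal.Quotient.field _
    letI : Algebra (A ⧸ RingHom.ker φ) A' := (RingHom.kerLift φ).toAlgebra
    haveI : IsScalarTower A (A ⧸ RingHom.ker φ) A' := IsScalarTower.of_algebraMap_eq (fun a => rfl)
    haveI : Module.Finite (A ⧸ RingHom.ker φ) A' :=
      Module.Finite.of_restrictScalars_finite A (A ⧸ RingHom.ker φ) A'
    haveI : IsArtinianRing A' := IsArtinianRing.of_finite (A ⧸ RingHom.ker φ) A'
    letI : Field A' := (IsArtinianRing.isField_of_isDomain A').toField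
    refine ⟨Set.univ, isOpen_univ, ⟨⟨⊥, Ideal.isPrime_bot⟩, trivial⟩, ?_⟩
    intro q _
    change IsRegularLocalRing (Localization.AtPrime q.asIdeal)
    infer_instance

end Groth.Agent.Helper7.J2
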