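import Mathlib
import Groth.Prelude
import Groth.Agent.Helper7.J2G
import Groth.Agent.Helper2.ComplReg
import Groth.Agent.Helper2.RegBC
import Groth.Agent.Helper6.ComplDim

/-!
# Dedekind domains of characteristic zero are excellent: the G-ring property
-/

set_option autoImplicit false
set_option linter.style.haveILetI false
set_option linter.unusedSectionVars false
universe u

namespace Groth.Agent.Helper7.DedExc

open TensorProduct IsLocalRing

section Closed

variable (V : Type u) [CommRing V] [IsLocalRing V] [IsNoetherianRing V]

/-- a field killed by the maximal ideal is unchanged by tensoring with the completion -/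
theorem bijective_includeLeft (k' : Type u) [Field k'] [Algebra V k']
    (hk : ∀ a ∈ maximalIdeal V, algebraMap V k' a = 0) :
    Function.Bijective
      (Algebra.TensorProduct.includeLeft :
        k' →ₐ[V] k' ⊗[V] AdicCompletion (maximalIdeal V) V) := by
  have hI : maximalIdeal V ≠ ⊤ := Ideal.IsPrime.ne_top inferInstance
  haveI := Groth.Agent.Helper6.ComplDim.isLocalRing_adicCompletion V (maximalIdeal V) hI
  haveI := Groth.Agent.Helper6.ComplDim.isLocalHom_algebraMap V (maximalIdeal V) hI
  haveI : Module.FaithfullyFlat V (AdicCompletion (maximalIdeal V) V) :=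
    Module.FaithfullyFlat.of_flat_of_isLocalHom
  constructor
  · haveI : Nontrivial (k' ⊗[V] AdicCompletion (maximalIdeal V) V) :=
      Module.FaithfullyFlat.rTensor_nontrivial V (AdicCompletion (maximalIdeal V) V) k'
    exact (Algebra.TensorProduct.includeLeft :
        k' →ₐ[V] k' ⊗[V] AdicCompletion (maximalIdeal V) V).toRingHom.injective
  · -- surjectivity
    have hker := AdicCompletion.ker_evalOneₐ_eq_map (maximalIdeal V)
      (maximalIdeal V).fg_of_isNoetherianRing
    have hzero : ∀ (x : k') (z : AdicCompletion (maximalIdeal V) V),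
        z ∈ (maximalIdeal V).map (algebraMap V (AdicCompletion (maximalIdeal V) V)) →
        x ⊗ₜ[V] z = 0 := by
      intro x z hz
      induction hz using Submodule.span_induction generalizing x with
      | mem z hz =>
        obtain ⟨a, ha, rfl⟩ := hz
        rw [Algebra.algebraMap_eq_smul_one, ← TensorProduct.smul_tmul, Algebra.smul_def, hk a ha,
          zero_mul, TensorProduct.zero_tmul]
      | zero => simp
      | add z w _ _ hz hw => rw [TensorProduct.tmul_add, hz, hw, add_zero]
      | smul w z _ hz =>
        have : x ⊗ₜ[V] (w • z) = ((1 : k') ⊗ₜ[V] w) * (x ⊗ₜ[V] z) := by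
          rw [Algebra.TensorProduct.tmul_mul_tmul, one_mul, smul_eq_mul]
        rw [this, hz, mul_zero]
    intro t
    induction t using TensorProduct.induction_on with
    | zero => exact ⟨0, map_zero _⟩
    | add a b ha hb =>
      obtain ⟨a', rfl⟩ := ha
      obtain ⟨b', rfl⟩ := hb
      exact ⟨a' + b', map_add _ _ _⟩
    | tmul x y =>
      obtain ⟨v, hv⟩ := Ideal.Quotient.mk_surjective (AdicCompletion.evalOneₐ (maximalIdeal V) y)
      have hmem : y - algebraMap V _ v ∈
          (maximalIdeal V).map (algebraMap V (AdicCompletion (maximalIdeal V) V)) := by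
        rw [← hker, RingHom.mem_ker]
        change AdicCompletion.evalOneₐ (maximalIdeal V) (y - algebraMap V _ v) = 0
        rw [map_sub, AlgHom.commutes, ← hv]
        simp
      refine ⟨v • x, ?_⟩
      have h1 := hzero x _ hmem
      rw [TensorProduct.tmul_sub, sub_eq_zero] at h1
      rw [h1, Algebra.TensorProduct.includeLeft_apply, Algebra.algebraMap_eq_smul_one,
        TensorProduct.smul_tmul]

/-- the closed fibre of the completion of a Noetherian local ring is geometrically regular -/
theorem closedFibre :
    CAlg.IsGeometricallyRegular (maximalIdeal V).ResidueField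
      ((maximalIdeal V).Fiber (AdicCompletion (maximalIdeal V) V)) := by
  intro k' _ _ hfin
  letI : Algebra V k' :=
    ((algebraMap (maximalIdeal V).ResidueField k').comp
      (algebraMap V (maximalIdeal V).ResidueField)).toAlgebra
  haveI : IsScalarTower V (maximalIdeal V).ResidueField k' :=
    IsScalarTower.of_algebraMap_eq (fun _ => rfl)
  have hk : ∀ a ∈ maximalIdeal V, algebraMap V k' a = 0 := by
    intro a ha
    rw [IsScalarTower.algebraMap_apply V (maximalIdeal V).ResidueField k',
      Ideal.algebraMap_residueField_eq_zero.mpr ha, map_zero]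
  let e1 : k' ⊗[(maximalIdeal V).ResidueField]
      ((maximalIdeal V).ResidueField ⊗[V] AdicCompletion (maximalIdeal V) V) ≃ₐ[k']
      k' ⊗[V] AdicCompletion (maximalIdeal V) V :=
    Algebra.TensorProduct.cancelBaseChange V (maximalIdeal V).ResidueField k' k'
      (AdicCompletion (maximalIdeal V) V)
  let e2 : k' ≃+* k' ⊗[V] AdicCompletion (maximalIdeal V) V :=
    RingEquiv.ofBijective (Algebra.TensorProduct.includeLeft :
        k' →ₐ[V] k' ⊗[V] AdicCompletion (maximalIdeal V) V).toRingHom
      (bijective_includeLeft V k' hk)
  exact IsRegularRing.of_ringEquiv (e2.trans e1.symm.toRingEquiv)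

end Closed

section Generic

variable (V : Type u) [CommRing V] [IsDomain V] [IsLocalRing V] [IsRegularRing V] [CharZero V]

attribute [local instance] Algebra.TensorProduct.rightAlgebra in
/-- the generic fibre of the completion of a regular local domain of characteristic zero is
geometrically regular -/
theorem genericFibre :
    CAlg.IsGeometricallyRegular (⊥ : Ideal V).ResidueField
      ((⊥ : Ideal V).Fiber (AdicCompletion (maximalIdeal V) V)) := by
  set κ := (⊥ : Ideal V).ResidueField with hκ
  set W := AdicCompletion (maximalIdeal V) V with hW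
  have hcompl : (⊥ : Ideal V).primeCompl = nonZeroDivisors V := by
    ext x
    rw [mem_nonZeroDivisors_iff_ne_zero]
    exact Iff.rfl
  haveI : IsFractionRing V (Localization.AtPrime (⊥ : Ideal V)) := by
    change IsLocalization (nonZeroDivisors V) _
    rw [← hcompl]
    infer_instance
  have hfield : IsField (Localization.AtPrime (⊥ : Ideal V)) :=
    @Field.toIsField _ (IsFractionRing.toField V)
  have hbij : Function.Bijective (IsLocalRing.residue (Localization.AtPrime (⊥ : Ideal V))) := by
    constructor
    · rw [RingHom.injective_iff_ker_eq_bot, IsLocalRing.ker_residue]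
      exact IsLocalRing.isField_iff_maximalIdeal_eq.mp hfield
    · exact IsLocalRing.residue_surjective
  let e : Localization.AtPrime (⊥ : Ideal V) ≃ₐ[V] κ :=
    AlgEquiv.ofBijective (IsScalarTower.toAlgHom V (Localization.AtPrime (⊥ : Ideal V)) κ) hbij
  haveI : IsLocalization (⊥ : Ideal V).primeCompl κ :=
    IsLocalization.isLocalization_of_algEquiv (⊥ : Ideal V).primeCompl e
  haveI : IsRegularRing W :=
    Groth.Agent.Helper2.ComplReg.isRegularRing_adicCompletion V (maximalIdeal V)
  haveI : IsLocalization (Algebra.algebraMapSubmonoid W (⊥ : Ideal V).primeCompl) (κ ⊗[V] W) :=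
    IsLocalization.tensorRight κ (⊥ : Ideal V).primeCompl
  haveI hreg : IsRegularRing (κ ⊗[V] W) :=
    Groth.Agent.Helper2.SepAlg.isRegularRing_of_isLocalization
      (Algebra.algebraMapSubmonoid W (⊥ : Ideal V).primeCompl) (κ ⊗[V] W)
  have hinj : Function.Injective (algebraMap V κ) := by
    rw [IsScalarTower.algebraMap_eq V (Localization.AtPrime (⊥ : Ideal V)) κ]
    exact hbij.1.comp (IsFractionRing.injective V (Localization.AtPrime (⊥ : Ideal V)))
  haveI : CharZero κ := charZero_of_injective_algebraMap hinj
  intro k' _ _ hfin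
  haveI := hfin
  haveI : Algebra.IsSeparable κ k' := inferInstance
  haveI : Algebra.FormallyEtale κ k' := Algebra.FormallyEtale.of_isSeparable κ k'
  haveI : Algebra.FinitePresentation κ k' := Algebra.FinitePresentation.of_finiteType.mp inferInstance
  haveI : Algebra.Smooth κ k' := ⟨inferInstance, inferInstance⟩
  haveI : Algebra.Smooth (κ ⊗[V] W) ((κ ⊗[V] W) ⊗[κ] k') := inferInstance
  haveI : IsRegularRing ((κ ⊗[V] W) ⊗[κ] k') :=
    Groth.Agent.Helper7.J2.isRegularRing_of_smooth (κ ⊗[V] W) _
  have e3 : ((κ ⊗[V] W) ⊗[κ] k') ≃+* (k' ⊗[κ] (κ ⊗[V] W)) :=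
    (Algebra.TensorProduct.comm κ (κ ⊗[V] W) k').toRingEquiv
  show IsRegularRing (k' ⊗[κ] (κ ⊗[V] W))
  exact IsRegularRing.of_ringEquiv (R := (κ ⊗[V] W) ⊗[κ] k') e3

end Generic

end Groth.Agent.Helper7.DedExc
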