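import Mathlib
import Groth.Prelude
import Groth.Agent.Helper7.DedExcA
import Groth.Agent.Lead.Catenary
import Groth.Agent.Helper6.CMCaten
import Groth.Agent.Helper5.UCat6
import Groth.Agent.Helper2.RegCM

/-!
# Dedekind domains of characteristic zero are excellent
-/

set_option autoImplicit false
set_option linter.style.haveILetI false
set_option linter.unusedSectionVars false
universe u

namespace Groth.Agent.Helper7.DedExc

open TensorProduct IsLocalRing

/-- a regular ring is catenary -/
theorem isCatenary_of_isRegularRing (R : Type u) [CommRing R] [IsRegularRing R] :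
    CAlg.IsCatenary R := by
  rw [Groth.Agent.Lead.Cat.isCatenary_iff_localization_maximal]
  intro m hm
  haveI : LocCoh.IsCohenMacaulayLocalRing (Localization.AtPrime m) :=
    { supportDim_eq_depth := Groth.Agent.Helper2.RegCM.cm_of_isRegularLocalRing _ }
  exact Groth.Agent.Helper6.CMCaten.isCatenary_of_cm _

/-- a regular ring is universally catenary -/
theorem isUniversallyCatenary_of_isRegularRing (R : Type u) [CommRing R] [IsRegularRing R] :
    CAlg.IsUniversallyCatenary R := by
  refine ⟨inferInstance, ?_⟩
  intro S _ _ hft
  obtain ⟨n, f, hf⟩ := Algebra.FiniteType.iff_quotient_mvPolynomial''.mp hft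
  haveI : Algebra.Smooth R (MvPolynomial (Fin n) R) := ⟨inferInstance, inferInstance⟩
  haveI : IsRegularRing (MvPolynomial (Fin n) R) :=
    Groth.Agent.Helper7.J2.isRegularRing_of_smooth R _
  exact Groth.Agent.Helper5.UCat.isCatenary_of_surjective f.toRingHom hf
    (isCatenary_of_isRegularRing _)

/-- the completion map of a local Dedekind domain of characteristic zero is regular -/
theorem isRegularHom_completion (V : Type u) [CommRing V] [IsLocalRing V]
    [IsDedekindDomain V] [CharZero V] :
    CAlg.IsRegularHom V (AdicCompletion (maximalIdeal V) V) := by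
  refine ⟨inferInstance, fun q hq =>
    ⟨Groth.Agent.Helper2.RegBC.isNoetherianRing_fiber V _ q, ?_⟩⟩
  by_cases h : q = maximalIdeal V
  · subst h
    exact closedFibre V
  · have hq0 : q = ⊥ := by
      by_contra hne
      exact h (eq_maximalIdeal (Ring.DimensionLEOne.maximalOfPrime hne hq))
    subst hq0
    exact genericFibre V

/-- a Dedekind domain of characteristic zero is a G-ring -/
theorem isGRing (A : Type u) [CommRing A] [IsDedekindDomain A] [CharZero A] : CAlg.IsGRing A := by
  refine ⟨inferInstance, fun p hp => ?_⟩
  haveI : IsDedekindDomain (Localization.AtPrime p) :=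
    IsLocalization.isDedekindDomain A p.primeCompl_le_nonZeroDivisors _
  haveI : CharZero (Localization.AtPrime p) :=
    charZero_of_injective_algebraMap
      (IsLocalization.injective (Localization.AtPrime p) p.primeCompl_le_nonZeroDivisors)
  exact isRegularHom_completion _

/-- a Dedekind domain of characteristic zero is excellent -/
theorem s2653 (A : Type u) [CommRing A] [IsDedekindDomain A] [CharZero A] : EGA4.IsExcellent A :=
  ⟨inferInstance, isUniversallyCatenary_of_isRegularRing A, isGRing A,
    Groth.Agent.Helper7.J2.s2619 A⟩

end Groth.Agent.Helper7.DedExc
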