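import Mathlib
import Groth.Agent.Helper2.PairHensDef
import Groth.Agent.Helper2.HensFib
set_option autoImplicit false
set_option linter.style.haveILetI false
set_option linter.unusedSectionVars false
set_option linter.unusedVariables false
open TensorProduct IsLocalRing
open Groth.Agent.Helper2.PairHens Groth.Agent.Helper2.HensFib
universe u
namespace Groth.Agent.Helper7.CKd

section pair
variable {R : Type u} [CommRing R] {I : Ideal R}

/-- every element of `k ⊗ Hens I` comes from a stage. -/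
theorem exists_lift_pair (k : Type u) [CommRing k] [Algebra R k] (x : k ⊗[R] Hens I) :
    ∃ (i : Idx R I) (x₀ : k ⊗[R] i.L),
      Algebra.TensorProduct.map (AlgHom.id k k) (Hens.ofAlg i) x₀ = x := by
  induction x using TensorProduct.induction_on with
  | zero => exact ⟨Classical.arbitrary _, 0, map_zero _⟩
  | tmul z h =>
    obtain ⟨i, y, rfl⟩ := Hens.exists_of h
    exact ⟨i, z ⊗ₜ y, by simp⟩
  | add x₁ x₂ h₁ h₂ =>
    obtain ⟨i₁, y₁, rfl⟩ := h₁
    obtain ⟨i₂, y₂, rfl⟩ := h₂
    obtain ⟨j, h1j, h2j⟩ := exists_ge_ge i₁ i₂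
    have e₁ : (Algebra.TensorProduct.map (AlgHom.id k k) (Hens.ofAlg j)).comp
        (Algebra.TensorProduct.map (AlgHom.id k k) (Idx.trans h1j)) =
        Algebra.TensorProduct.map (AlgHom.id k k) (Hens.ofAlg i₁) := by
      apply Algebra.TensorProduct.ext'
      intro a b
      simp only [AlgHom.comp_apply, Algebra.TensorProduct.map_tmul, AlgHom.id_apply,
        Hens.ofAlg_apply]
      rw [Hens.of_trans]
    have e₂ : (Algebra.TensorProduct.map (AlgHom.id k k) (Hens.ofAlg j)).comp
        (Algebra.TensorProduct.map (AlgHom.id k k) (Idx.trans h2j)) =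
        Algebra.TensorProduct.map (AlgHom.id k k) (Hens.ofAlg i₂) := by
      apply Algebra.TensorProduct.ext'
      intro a b
      simp only [AlgHom.comp_apply, Algebra.TensorProduct.map_tmul, AlgHom.id_apply,
        Hens.ofAlg_apply]
      rw [Hens.of_trans]
    refine ⟨j, Algebra.TensorProduct.map (AlgHom.id k k) (Idx.trans h1j) y₁ +
      Algebra.TensorProduct.map (AlgHom.id k k) (Idx.trans h2j) y₂, ?_⟩
    rw [map_add, ← AlgHom.comp_apply, ← AlgHom.comp_apply, e₁, e₂]

theorem isVNR_of_essEtale_field (K A : Type u) [Field K] [CommRing A] [Algebra K A]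
    [Algebra.EssFiniteType K A] [Algebra.FormallyEtale K A] : IsVNR A := by
  obtain ⟨J, _, Ai, _, _, e, _⟩ :=
    (Algebra.FormallyEtale.iff_exists_algEquiv_prod K A).mp inferInstance
  intro x
  refine ⟨e.symm (fun i => (e x i)⁻¹), ?_⟩
  apply e.injective
  ext i
  simp only [map_mul, e.apply_symm_apply, Pi.mul_apply]
  by_cases h : e x i = 0
  · simp [h]
  · rw [mul_assoc, mul_inv_cancel₀ h, mul_one]

theorem isVNR_fibre_pair (k : Type u) [Field k] [Algebra R k] : IsVNR (k ⊗[R] Hens I) := by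
  intro x
  obtain ⟨i, x₀, rfl⟩ := exists_lift_pair k x
  obtain ⟨y, hy⟩ := isVNR_of_essEtale_field k (k ⊗[R] i.L) x₀
  exact ⟨Algebra.TensorProduct.map (AlgHom.id k k) (Hens.ofAlg i) y,
    by rw [← map_mul, ← map_mul, hy]⟩

theorem isSeparable_quotient_pair (k : Type u) [Field k] [Algebra R k]
    (m : Ideal (k ⊗[R] Hens I)) [m.IsMaximal] :
    Algebra.IsSeparable k ((k ⊗[R] Hens I) ⧸ m) := by
  letI := Ideal.Quotient.field m
  refine ⟨fun z => ?_⟩
  obtain ⟨x, rfl⟩ := Ideal.Quotient.mk_surjective z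
  obtain ⟨i, x₀, rfl⟩ := exists_lift_pair k x
  let ψ : k ⊗[R] i.L →ₐ[k] (k ⊗[R] Hens I) ⧸ m :=
    (Ideal.Quotient.mkₐ k m).comp (Algebra.TensorProduct.map (AlgHom.id k k) (Hens.ofAlg i))
  haveI : (RingHom.ker ψ).IsPrime := RingHom.ker_isPrime ψ
  have h1 : IsSeparable k (Ideal.Quotient.mk (RingHom.ker ψ) x₀) :=
    Algebra.IsSeparable.isSeparable k _
  have h2 := h1.map (Ideal.kerLiftAlg ψ) (Ideal.kerLiftAlg_injective ψ)
  exact h2

end pair
end Groth.Agent.Helper7.CKd
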