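import Mathlib
import Groth.Prelude.Def_CAlg
import Groth.Prelude.Def_Hens2
import Groth.Agent.Helper2.PairHensProps
import Groth.Agent.Helper2.PairHensKer
import Groth.Agent.Helper2.HensNoeth2
import Groth.Agent.Helper2.HensGReg
import Groth.Agent.Helper2.AdicHom
import Groth.Agent.Helper2.RegLoc
import Groth.Agent.Helper2.ExcLoc
import Groth.Agent.Helper7.CKs1
import Groth.Agent.Helper7.CKu7
set_option autoImplicit false
set_option linter.style.haveILetI false
set_option linter.unusedSectionVars false
set_option linter.unusedVariables false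
open TensorProduct IsLocalRing
open Groth.Agent.Helper2.PairHens Groth.Agent.Helper2.HensFib Groth.Agent.Helper2.HensGReg
universe u
namespace Groth.Agent.Helper7.CKd

/-- the G-ring property is invariant under ring isomorphisms. -/
theorem isGRing_of_ringEquiv {R R' : Type u} [CommRing R] [CommRing R'] (e : R ≃+* R')
    (h : CAlg.IsGRing R) : CAlg.IsGRing R' := by
  letI : Algebra R R' := e.toRingHom.toAlgebra
  haveI : IsLocalization (⊥ : Submonoid R) R' :=
    IsLocalization.of_le_isUnit_of_bijective (by
      rintro _ ⟨x, hx, rfl⟩
      have hx1 : x = 1 := Submonoid.mem_bot.mp hx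
      subst hx1
      simp) e.bijective
  exact Groth.Agent.Helper2.ExcLoc.isGRing_of_isLocalization R ⊥ R' h

section main
variable (A : Type u) [CommRing A] [IsNoetherianRing A] (I : Ideal A)

theorem isGRing_hens_pair (hA : CAlg.IsGRing A) : CAlg.IsGRing (Hens I) := by
  haveI : IsNoetherianRing (Hens I) := Hens.isNoetherianRing A I
  haveI : Module.Flat A (Hens I) := inferInstance
  refine s2047.mpr ?_
  intro n hn
  have hIn : I.map (algebraMap A (Hens I)) ≤ n := by
    rw [← Hens.ker_γ_eq]
    refine le_trans Hens.ker_γ_le_jacobson ?_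
    exact sInf_le ⟨bot_le, hn⟩
  have hsub : ∀ h : Hens I, ∃ r : A, h - algebraMap A (Hens I) r ∈ n := fun h => by
    obtain ⟨r, hr⟩ := Hens.exists_sub_mem h
    exact ⟨r, hIn hr⟩
  have hIm : I ≤ n.comap (algebraMap A (Hens I)) := fun a ha =>
    hIn (Ideal.mem_map_of_mem _ ha)
  have hnm : n ≤ (n.comap (algebraMap A (Hens I))).map (algebraMap A (Hens I)) := by
    intro h hh
    obtain ⟨r, hr⟩ := Hens.exists_sub_mem h
    have h1 : algebraMap A (Hens I) r ∈ n := by
      have := n.sub_mem hh (hIn hr)
      rwa [sub_sub_cancel] at this
    have h2 : h = (h - algebraMap A (Hens I) r) + algebraMap A (Hens I) r := by ring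
    rw [h2]
    exact Ideal.add_mem _ (Ideal.map_mono hIm hr) (Ideal.mem_map_of_mem _ h1)
  letI alg : Algebra (Localization.AtPrime (n.comap (algebraMap A (Hens I))))
      (Localization.AtPrime n) :=
    (Localization.localRingHom (n.comap (algebraMap A (Hens I))) n
      (algebraMap A (Hens I)) rfl).toAlgebra
  haveI tow : IsScalarTower A (Localization.AtPrime (n.comap (algebraMap A (Hens I))))
      (Localization.AtPrime n) :=
    IsScalarTower.of_algebraMap_eq (fun a => by
      show algebraMap A (Localization.AtPrime n) a =
        Localization.localRingHom _ _ _ rfl (algebraMap A _ a)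
      rw [Localization.localRingHom_to_map, ← IsScalarTower.algebraMap_apply])
  haveI hloc : IsLocalHom (algebraMap (Localization.AtPrime (n.comap (algebraMap A (Hens I))))
      (Localization.AtPrime n)) :=
    Localization.isLocalHom_localRingHom _ _ _ rfl
  haveI : IsNoetherianRing (Localization.AtPrime (n.comap (algebraMap A (Hens I)))) :=
    IsLocalization.isNoetherianRing (n.comap (algebraMap A (Hens I))).primeCompl _ inferInstance
  haveI : IsNoetherianRing (Localization.AtPrime n) :=
    IsLocalization.isNoetherianRing n.primeCompl _ inferInstance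
  haveI : Module.Flat (Localization.AtPrime (n.comap (algebraMap A (Hens I))))
      (Localization.AtPrime n) := by
    rw [Module.flat_iff_of_isLocalization (Localization.AtPrime (n.comap (algebraMap A (Hens I))))
      (n.comap (algebraMap A (Hens I))).primeCompl]
    exact Module.Flat.trans A (Hens I) (Localization.AtPrime n)
  have hmax : (maximalIdeal (Localization.AtPrime (n.comap (algebraMap A (Hens I))))).map
      (algebraMap _ (Localization.AtPrime n)) = maximalIdeal (Localization.AtPrime n) := by
    apply le_antisymm
    · exact ((IsLocalRing.local_hom_TFAE _).out 0 2).mp hloc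
    · rw [← Localization.AtPrime.map_eq_maximalIdeal (I := n),
        ← Localization.AtPrime.map_eq_maximalIdeal (I := n.comap (algebraMap A (Hens I))),
        Ideal.map_map, ← IsScalarTower.algebraMap_eq,
        IsScalarTower.algebraMap_eq A (Hens I) (Localization.AtPrime n), ← Ideal.map_map]
      exact Ideal.map_mono hnm
  have hk : Function.Surjective (ResidueField.map
      (algebraMap (Localization.AtPrime (n.comap (algebraMap A (Hens I))))
        (Localization.AtPrime n))) := by
    intro z
    obtain ⟨x, rfl⟩ := residue_surjective z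
    obtain ⟨h, s, rfl⟩ := IsLocalization.exists_mk'_eq n.primeCompl x
    obtain ⟨s', j, hj, hsj⟩ := hn.exists_inv s.2
    obtain ⟨r, hr⟩ := hsub (h * s')
    refine ⟨residue _ (algebraMap A _ r), ?_⟩
    rw [ResidueField.map_residue, ← IsScalarTower.algebraMap_apply A
      (Localization.AtPrime (n.comap (algebraMap A (Hens I)))) (Localization.AtPrime n),
      IsScalarTower.algebraMap_apply A (Hens I) (Localization.AtPrime n)]
    rw [eq_comm, ← sub_eq_zero, ← map_sub, residue_eq_zero_iff]
    have hs1 : IsLocalization.mk' (Localization.AtPrime n) h s *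
        algebraMap (Hens I) (Localization.AtPrime n) (s : Hens I) =
        algebraMap (Hens I) (Localization.AtPrime n) h := IsLocalization.mk'_spec _ h s
    have h1 : IsLocalization.mk' (Localization.AtPrime n) h s -
        algebraMap (Hens I) (Localization.AtPrime n) (algebraMap A (Hens I) r) =
        IsLocalization.mk' (Localization.AtPrime n)
          (h - algebraMap A (Hens I) r * s) s := by
      rw [eq_comm, IsLocalization.mk'_eq_iff_eq_mul, map_sub, map_mul, ← hs1]
      ring
    rw [h1, IsLocalization.AtPrime.mk'_mem_maximal_iff (Localization.AtPrime n) n]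
    have h2 : h - algebraMap A (Hens I) r * s =
        h * j + (h * s' - algebraMap A (Hens I) r) * s := by
      have : h = h * (s' * s + j) := by rw [hsj, mul_one]
      nth_rewrite 1 [this]
      ring
    rw [h2]
    exact n.add_mem (n.mul_mem_left _ hj) (n.mul_mem_right _ hr)
  obtain ⟨e⟩ := Groth.Agent.Helper2.AdicHom.nonempty_cpl_algEquiv
    (Localization.AtPrime (n.comap (algebraMap A (Hens I)))) (Localization.AtPrime n) hmax hk
  have h1 := hA.2 (n.comap (algebraMap A (Hens I)))
  have h2 : CAlg.IsRegularHom (Localization.AtPrime (n.comap (algebraMap A (Hens I))))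
      (EGA4.Cpl (Localization.AtPrime n)) :=
    Groth.Agent.Helper2.RegBC2.isRegularHom_of_algEquiv _ _ _ e h1
  haveI : IsNoetherianRing (EGA4.Cpl (Localization.AtPrime n)) := Groth.Agent.S0543.result _ _
  haveI : IsScalarTower A (Localization.AtPrime (n.comap (algebraMap A (Hens I))))
      (EGA4.Cpl (Localization.AtPrime n)) :=
    IsScalarTower.of_algebraMap_eq (fun a => by
      rw [IsScalarTower.algebraMap_apply A (Localization.AtPrime n)
        (EGA4.Cpl (Localization.AtPrime n)),
        IsScalarTower.algebraMap_apply A (Localization.AtPrime (n.comap (algebraMap A (Hens I))))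
          (Localization.AtPrime n),
        ← IsScalarTower.algebraMap_apply (Localization.AtPrime (n.comap (algebraMap A (Hens I))))
          (Localization.AtPrime n) (EGA4.Cpl (Localization.AtPrime n))])
  have h3 : CAlg.IsRegularHom A (EGA4.Cpl (Localization.AtPrime n)) :=
    Groth.Agent.Helper2.RegComp.isRegularHom_comp A
      (Localization.AtPrime (n.comap (algebraMap A (Hens I)))) _
      (Groth.Agent.Helper2.LocHom.isRegularHom_localization_self A
        (n.comap (algebraMap A (Hens I))).primeCompl _) h2
      (fun p' _ => Groth.Agent.Helper2.RegBC.isNoetherianRing_fiber A _ p')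
  haveI : Module.Flat (Localization.AtPrime n) (EGA4.Cpl (Localization.AtPrime n)) :=
    AdicCompletion.flat_of_isNoetherian _
  haveI : Module.Flat (Hens I) (EGA4.Cpl (Localization.AtPrime n)) :=
    Module.Flat.trans (Hens I) (Localization.AtPrime n) _
  have h4 : CAlg.IsRegularHom (Hens I) (EGA4.Cpl (Localization.AtPrime n)) :=
    isRegularHom_cancel A (Hens I) (EGA4.Cpl (Localization.AtPrime n)) h3
      (fun p _ => isVNR_fibre_pair p.ResidueField)
      (fun Q _ => isSeparable_of_fibre Q (isVNR_fibre_pair _)
        (fun m _ => isSeparable_quotient_pair _ m))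
  haveI : IsLocalization (Algebra.algebraMapSubmonoid (EGA4.Cpl (Localization.AtPrime n))
      n.primeCompl) (EGA4.Cpl (Localization.AtPrime n)) := by
    apply IsLocalization.of_le_isUnit
    rintro _ ⟨s, hs, rfl⟩
    rw [IsScalarTower.algebraMap_apply (Hens I) (Localization.AtPrime n)
      (EGA4.Cpl (Localization.AtPrime n))]
    exact (IsLocalization.map_units _ (⟨s, hs⟩ : n.primeCompl)).map _
  exact Groth.Agent.Helper2.RegBC2.isRegularHom_localization (Hens I)
    (EGA4.Cpl (Localization.AtPrime n)) n.primeCompl (Localization.AtPrime n)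
    (EGA4.Cpl (Localization.AtPrime n)) h4

end main

theorem s9276 (A : Type u) [CommRing A] (hA : CAlg.IsGRing A) (I : Ideal A)
    (B : Type u) [CommRing B] [Algebra A B] (hB : Hens2.IsPairHenselization A I B) :
    CAlg.IsGRing B := by
  haveI := hA.1
  obtain ⟨e⟩ := exists_algEquiv hB
  exact isGRing_of_ringEquiv e.toRingEquiv (isGRing_hens_pair A I hA)

end Groth.Agent.Helper7.CKd
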