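import Mathlib

/-! Invariant integrals on Hopf algebras with values in an algebra: uniqueness, functoriality,
faithfully flat descent. -/

open TensorProduct

namespace Groth.Agent.Helper7.MTAvg

universe u

section defs

variable (R : Type*) [CommRing R] (A : Type*) [CommRing A] [Bialgebra R A]
variable (S : Type*) [CommRing S] [Algebra R S]

/-- `S`-valued normalized bi-invariant integral on `A`. -/
structure IsIntV (l : A →ₗ[R] S) : Prop where
  one : l 1 = 1
  left : ∀ a, l.rTensor A (Coalgebra.comul (R := R) a) = l a ⊗ₜ[R] 1
  right : ∀ a, l.lTensor A (Coalgebra.comul (R := R) a) = 1 ⊗ₜ[R] l a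

variable {R A S}

lemma IsIntV.unique {l₁ l₂ : A →ₗ[R] S} (h₁ : IsIntV R A S l₁) (h₂ : IsIntV R A S l₂) :
    l₁ = l₂ := by
  refine LinearMap.ext fun a => ?_
  have e1 : LinearMap.mul' R S (TensorProduct.map l₁ l₂ (Coalgebra.comul (R := R) a)) = l₁ a := by
    rw [← LinearMap.lTensor_comp_rTensor, LinearMap.comp_apply, h₁.left]
    simp [h₂.one]
  have e2 : LinearMap.mul' R S (TensorProduct.map l₁ l₂ (Coalgebra.comul (R := R) a)) = l₂ a := by
    rw [← LinearMap.rTensor_comp_lTensor, LinearMap.comp_apply, h₂.right]
    simp [h₁.one]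
  rw [← e1, e2]

lemma IsIntV.comp {S' : Type*} [CommRing S'] [Algebra R S'] {l : A →ₗ[R] S}
    (h : IsIntV R A S l) (g : S →ₐ[R] S') : IsIntV R A S' (g.toLinearMap ∘ₗ l) := by
  refine ⟨by simp [h.one], fun a => ?_, fun a => ?_⟩
  · rw [LinearMap.rTensor_comp, LinearMap.comp_apply, h.left]
    simp
  · rw [LinearMap.lTensor_comp, LinearMap.comp_apply, h.right]
    simp

end defs

section descent

variable {R : Type*} [CommRing R] {A : Type*} [CommRing A] [Bialgebra R A]
variable {R' : Type*} [CommRing R'] [Algebra R R'] [Module.FaithfullyFlat R R']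

theorem IsIntV.descent {l' : A →ₗ[R] R'} (h : IsIntV R A R' l') :
    ∃ l : A →ₗ[R] R, IsIntV R A R l ∧ ∀ a, algebraMap R R' (l a) = l' a := by
  have hinj : Function.Injective (algebraMap R R') :=
    FaithfulSMul.algebraMap_injective R R'
  have key : ∀ a, ∃ r : R, algebraMap R R' r = l' a := by
    intro a
    have h1 := h.comp (Algebra.TensorProduct.includeLeft : R' →ₐ[R] R' ⊗[R] R')
    have h2 := h.comp (Algebra.TensorProduct.includeRight : R' →ₐ[R] R' ⊗[R] R')
    have h12 := congrArg (fun f => f a) (h1.unique h2)
    simp only [LinearMap.comp_apply, AlgHom.toLinearMap_apply,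
      Algebra.TensorProduct.includeLeft_apply, Algebra.TensorProduct.includeRight_apply] at h12
    have heff := Algebra.IsEffective.of_faithfullyFlat R R'
    have := (heff (l' a)).mp (by
      rw [Algebra.TensorProduct.includeLeftSubRight_apply, h12, sub_self])
    obtain ⟨r, hr⟩ := this
    exact ⟨r, hr⟩
  choose f hf using key
  let l : A →ₗ[R] R :=
    { toFun := f
      map_add' := fun a b => hinj (by rw [map_add, hf, hf, hf, map_add])
      map_smul' := fun r a => hinj (by
        rw [hf, map_smul, RingHom.id_apply, smul_eq_mul, map_mul, hf, Algebra.smul_def]) }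
  have hl : ∀ a, algebraMap R R' (l a) = l' a := hf
  have hcomp : l' = (Algebra.linearMap R R') ∘ₗ l := by
    refine LinearMap.ext fun a => ?_
    simp [hl]
  have hmk : Function.Injective (TensorProduct.mk R R' A 1) :=
    Module.FaithfullyFlat.tensorProduct_mk_injective (A := R) (B := R') A
  have hmk' : Function.Injective ((TensorProduct.mk R A R').flip 1) := by
    have : ((TensorProduct.mk R A R').flip 1) =
        (TensorProduct.comm R R' A).toLinearMap ∘ₗ (TensorProduct.mk R R' A 1) := by
      refine LinearMap.ext fun a => ?_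
      simp
    rw [this]
    exact (TensorProduct.comm R R' A).injective.comp hmk
  have aux1 : ∀ y : R ⊗[R] A, (Algebra.linearMap R R').rTensor A y =
      (1 : R') ⊗ₜ[R] (TensorProduct.lid R A y) := by
    intro y
    induction y using TensorProduct.induction_on with
    | zero => simp
    | add x y hx hy => simp only [map_add, hx, hy, tmul_add]
    | tmul r a =>
      simp only [LinearMap.rTensor_tmul, Algebra.linearMap_apply, TensorProduct.lid_tmul]
      rw [Algebra.algebraMap_eq_smul_one, TensorProduct.smul_tmul]
  have aux2 : ∀ y : A ⊗[R] R, (Algebra.linearMap R R').lTensor A y =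
      (TensorProduct.rid R A y) ⊗ₜ[R] (1 : R') := by
    intro y
    induction y using TensorProduct.induction_on with
    | zero => simp
    | add x y hx hy => simp only [map_add, hx, hy, add_tmul]
    | tmul a r =>
      simp only [LinearMap.lTensor_tmul, Algebra.linearMap_apply, TensorProduct.rid_tmul]
      rw [Algebra.algebraMap_eq_smul_one, TensorProduct.tmul_smul, TensorProduct.smul_tmul']
  refine ⟨l, ⟨?_, ?_, ?_⟩, hl⟩
  · apply hinj
    rw [hl, h.one, map_one]
  · intro a
    apply (TensorProduct.lid R A).injective
    apply hmk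
    have h1 := h.left a
    rw [hcomp, LinearMap.rTensor_comp, LinearMap.comp_apply, aux1] at h1
    simp only [TensorProduct.mk_apply, TensorProduct.lid_tmul]
    rw [h1, LinearMap.comp_apply, Algebra.linearMap_apply, Algebra.algebraMap_eq_smul_one,
      TensorProduct.smul_tmul]
  · intro a
    apply (TensorProduct.rid R A).injective
    apply hmk'
    have h1 := h.right a
    rw [hcomp, LinearMap.lTensor_comp, LinearMap.comp_apply, aux2] at h1
    simp only [LinearMap.flip_apply, TensorProduct.mk_apply, TensorProduct.rid_tmul]
    rw [h1, LinearMap.comp_apply, Algebra.linearMap_apply, Algebra.algebraMap_eq_smul_one,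
      TensorProduct.tmul_smul, TensorProduct.smul_tmul']

end descent

end Groth.Agent.Helper7.MTAvg
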