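import Mathlib
import Groth.Prelude.Def_SGA3b
import Groth.Agent.Helper2.MultTypeSemi
import Groth.Agent.Helper2.MultTypeChart
import Groth.Agent.Helper7.MTAvgA

/-! The coefficient-at-one integral on a chart of a multiplicative type Hopf algebra. -/

open TensorProduct Groth.Agent.Helper2.MultTypeSemi Groth.Agent.Helper2.MultTypeChart

namespace Groth.Agent.Helper7.MTAvg

universe u

section grp
variable (R' : Type*) [CommRing R'] (M : Type*) [CommGroup M]

lemma cf_one_left (x : MonoidAlgebra R' M) :
    TensorProduct.lid R' _ ((cf (R' := R') (1 : M)).rTensor (MonoidAlgebra R' M)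
      (Coalgebra.comul (R := R') x)) = cf (1 : M) x • (1 : MonoidAlgebra R' M) := by
  classical
  induction x using MonoidAlgebra.induction_linear with
  | zero => simp
  | add x y hx hy => simp only [map_add, hx, hy, add_smul]
  | single g r =>
    simp only [MonoidAlgebra.comul_single, CommSemiring.comul_apply, TensorProduct.map_tmul,
      LinearMap.rTensor_tmul, TensorProduct.lid_tmul, MonoidAlgebra.lsingle_apply, cf_apply,
      MonoidAlgebra.coeff_single]
    by_cases hg : g = 1
    · subst hg
      simp [MonoidAlgebra.one_def]
    · simp [Finsupp.single_apply, hg]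

lemma cf_one_right (x : MonoidAlgebra R' M) :
    TensorProduct.rid R' _ ((cf (R' := R') (1 : M)).lTensor (MonoidAlgebra R' M)
      (Coalgebra.comul (R := R') x)) = cf (1 : M) x • (1 : MonoidAlgebra R' M) := by
  classical
  induction x using MonoidAlgebra.induction_linear with
  | zero => simp
  | add x y hx hy => simp only [map_add, hx, hy, add_smul]
  | single g r =>
    simp only [MonoidAlgebra.comul_single, CommSemiring.comul_apply, TensorProduct.map_tmul,
      LinearMap.lTensor_tmul, TensorProduct.rid_tmul, MonoidAlgebra.lsingle_apply, cf_apply,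
      MonoidAlgebra.coeff_single]
    by_cases hg : g = 1
    · subst hg
      simp [MonoidAlgebra.one_def]
    · simp [Finsupp.single_apply, hg]

end grp

section chart
variable (R : Type u) [CommRing R] (A : Type u) [CommRing A] [HopfAlgebra R A]
variable (L : Type u) [CommRing L] [Algebra R L]
variable (R' : Type u) [CommRing R'] [Algebra L R'] [Algebra R R'] [IsScalarTower R L R']
variable (M : Type u) [CommGroup M]
variable (e : R' ⊗[L] (L ⊗[R] A) ≃ₐc[R'] MonoidAlgebra R' M)

/-- the `R'`-linear isomorphism `R' ⊗[R] A ≃ R'[M]` -/
noncomputable def chartEquiv : R' ⊗[R] A ≃ₗ[R'] MonoidAlgebra R' M :=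
  (TensorProduct.AlgebraTensorModule.cancelBaseChange R L R' R' A).symm.trans
    (e : R' ⊗[L] (L ⊗[R] A) ≃ₗ[R'] MonoidAlgebra R' M)

lemma chartEquiv_tmul (r : R') (a : A) :
    chartEquiv R A L R' M e (r ⊗ₜ[R] a) = r • chart R A L R' M e a := by
  have : r ⊗ₜ[R] a = r • ((1 : R') ⊗ₜ[R] a) := by
    rw [TensorProduct.smul_tmul', smul_eq_mul, mul_one]
  rw [this, map_smul]
  congr 1

/-- the chart integral -/
noncomputable def chartInt : A →ₗ[R] R' :=
  ((cf (R' := R') (1 : M)).restrictScalars R) ∘ₗ (chart R A L R' M e).toLinearMap

lemma chartInt_apply (a : A) : chartInt R A L R' M e a = (chart R A L R' M e a).coeff 1 := rfl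

theorem chartInt_isIntV : IsIntV R A R' (chartInt R A L R' M e) := by
  classical
  have hθ := chart_isSemiCoalg R A L R' M e
  refine ⟨?_, fun a => ?_, fun a => ?_⟩
  · have h1 : chart R A L R' M e 1 = 1 := map_one _
    rw [chartInt_apply, h1, MonoidAlgebra.one_def]
    simp
  · apply (chartEquiv R A L R' M e).injective
    have aux : ∀ y : A ⊗[R] A, chartEquiv R A L R' M e ((chartInt R A L R' M e).rTensor A y) =
        TensorProduct.lid R' _ ((cf (R' := R') (1 : M)).rTensor (MonoidAlgebra R' M)
          (semiMap R R' (chart R A L R' M e).toLinearMap y)) := by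
      intro y
      induction y using TensorProduct.induction_on with
      | zero => simp
      | add x y hx hy => simp only [map_add, hx, hy]
      | tmul a b =>
        simp only [LinearMap.rTensor_tmul, chartEquiv_tmul, semiMap_tmul, AlgHom.toLinearMap_apply,
          TensorProduct.lid_tmul, chartInt_apply, cf_apply]
    rw [aux, ← hθ.comul, cf_one_left, chartEquiv_tmul, map_one, chartInt_apply, cf_apply]
  · have aux : ∀ y : A ⊗[R] A, chartEquiv R A L R' M e
        (TensorProduct.comm R A R' ((chartInt R A L R' M e).lTensor A y)) =
        TensorProduct.rid R' _ ((cf (R' := R') (1 : M)).lTensor (MonoidAlgebra R' M)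
          (semiMap R R' (chart R A L R' M e).toLinearMap y)) := by
      intro y
      induction y using TensorProduct.induction_on with
      | zero => simp
      | add x y hx hy => simp only [map_add, hx, hy]
      | tmul a b =>
        simp only [LinearMap.lTensor_tmul, TensorProduct.comm_tmul, chartEquiv_tmul, semiMap_tmul,
          AlgHom.toLinearMap_apply, TensorProduct.rid_tmul, chartInt_apply, cf_apply]
    apply (TensorProduct.comm R A R').injective
    apply (chartEquiv R A L R' M e).injective
    rw [aux, ← hθ.comul, cf_one_right, TensorProduct.comm_tmul, chartEquiv_tmul, map_one,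
      chartInt_apply, cf_apply]

end chart

end Groth.Agent.Helper7.MTAvg
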