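import Mathlib
import Groth.Prelude.Def_SGA3b
import Groth.Agent.Helper7.MTAvgB

/-! Existence of a normalized bi-invariant integral on a Hopf algebra of multiplicative type. -/

open TensorProduct

namespace Groth.Agent.Helper7.MTAvg

universe u

section pi

variable {R : Type*} [CommRing R] {A : Type*} [CommRing A] [Bialgebra R A]
variable {ι : Type*} [Fintype ι] [DecidableEq ι] (T : ι → Type*) [∀ i, CommRing (T i)]
  [∀ i, Algebra R (T i)]

lemma ext_pi_right (y y' : A ⊗[R] (∀ i, T i))
    (h : ∀ i, (LinearMap.proj (R := R) (φ := T) i).lTensor A y =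
      (LinearMap.proj (R := R) (φ := T) i).lTensor A y') : y = y' := by
  apply (TensorProduct.piRight R R A T).injective
  funext i
  have aux : ∀ z : A ⊗[R] (∀ i, T i), TensorProduct.piRight R R A T z i =
      (LinearMap.proj (R := R) (φ := T) i).lTensor A z := by
    intro z
    induction z using TensorProduct.induction_on with
    | zero => simp
    | add x y hx hy => simp only [map_add, Pi.add_apply, hx, hy]
    | tmul a g => simp
  rw [aux, aux, h]

lemma ext_pi_left (y y' : (∀ i, T i) ⊗[R] A)
    (h : ∀ i, (LinearMap.proj (R := R) (φ := T) i).rTensor A y =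
      (LinearMap.proj (R := R) (φ := T) i).rTensor A y') : y = y' := by
  apply (TensorProduct.comm R _ _).injective
  apply ext_pi_right T
  intro i
  have aux : ∀ z : (∀ i, T i) ⊗[R] A,
      (LinearMap.proj (R := R) (φ := T) i).lTensor A (TensorProduct.comm R _ _ z) =
        TensorProduct.comm R _ _ ((LinearMap.proj (R := R) (φ := T) i).rTensor A z) := by
    intro z
    induction z using TensorProduct.induction_on with
    | zero => simp
    | add x y hx hy => simp only [map_add, hx, hy]
    | tmul g a => simp
  rw [aux, aux, h]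

theorem isIntV_pi (l : ∀ i, A →ₗ[R] T i) (hl : ∀ i, IsIntV R A (T i) (l i)) :
    IsIntV R A (∀ i, T i) (LinearMap.pi l) := by
  refine ⟨?_, fun a => ?_, fun a => ?_⟩
  · funext i
    simp [(hl i).one]
  · apply ext_pi_left T
    intro i
    rw [← LinearMap.comp_apply, ← LinearMap.rTensor_comp, LinearMap.proj_pi, (hl i).left]
    simp
  · apply ext_pi_right T
    intro i
    rw [← LinearMap.comp_apply, ← LinearMap.lTensor_comp, LinearMap.proj_pi, (hl i).right]
    simp

end pi

section locdata

variable (R : Type u) [CommRing R] (A : Type u) [CommRing A] [HopfAlgebra R A]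

/-- local integral data over the basic open `D(f)` -/
structure LocData (f : R) where
  T : Type u
  [cr : CommRing T]
  [alg : Algebra R T]
  l : A →ₗ[R] T
  isInt : IsIntV R A T l
  flat : Module.Flat R T
  faithful : ∀ m : Ideal R, m.IsMaximal → f ∉ m → m • (⊤ : Submodule R T) ≠ ⊤

attribute [instance] LocData.cr LocData.alg

variable {R A}

theorem exists_locData {f : R}
    (h : SGA3b.IsMultTypeConst (Localization.Away f) (Localization.Away f ⊗[R] A)) :
    Nonempty (LocData R A f) := by
  obtain ⟨R', _, _, hff, M, _, ⟨e⟩⟩ := h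
  letI : Algebra R R' := ((algebraMap (Localization.Away f) R').comp
    (algebraMap R (Localization.Away f))).toAlgebra
  haveI : IsScalarTower R (Localization.Away f) R' := IsScalarTower.of_algebraMap_eq (fun _ => rfl)
  haveI : Module.Flat R (Localization.Away f) := IsLocalization.flat _ (Submonoid.powers f)
  refine ⟨{ T := R', l := chartInt R A (Localization.Away f) R' M e,
            isInt := chartInt_isIntV R A (Localization.Away f) R' M e,
            flat := Module.Flat.trans R (Localization.Away f) R',
            faithful := ?_ }⟩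
  intro m hm hfm
  rw [Ideal.smul_top_eq_map]
  intro htop
  have h1 : Ideal.map (algebraMap R R') m = ⊤ := by
    rw [Submodule.restrictScalars_eq_top_iff] at htop
    exact htop
  rw [IsScalarTower.algebraMap_eq R (Localization.Away f) R', ← Ideal.map_map] at h1
  have h2 := Ideal.comap_map_eq_self_of_faithfullyFlat (B := R')
    (Ideal.map (algebraMap R (Localization.Away f)) m)
  rw [h1, Ideal.comap_top] at h2
  have h3 := (IsLocalization.map_algebraMap_ne_top_iff_disjoint (Submonoid.powers f)
    (Localization.Away f) m).mpr (by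
      rw [Set.disjoint_left]
      rintro x ⟨n, rfl⟩ hx
      exact hfm (hm.isPrime.mem_of_pow_mem n hx))
  exact h3 h2.symm

theorem glue {ι : Type u} [Fintype ι] (f : ι → R) (hf : Ideal.span (Set.range f) = ⊤)
    (D : ∀ i, LocData R A (f i)) : ∃ l : A →ₗ[R] R, IsIntV R A R l := by
  classical
  haveI : ∀ i, Module.Flat R (D i).T := fun i => (D i).flat
  haveI hflat : Module.Flat R (∀ i, (D i).T) :=
    Module.Flat.of_linearEquiv (DFinsupp.linearEquivFunOnFintype (R := R)
      (M := fun i => (D i).T)).symm
  haveI : Module.FaithfullyFlat R (∀ i, (D i).T) := by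
    refine ⟨fun m hm htop => ?_⟩
    have : ∃ i, f i ∉ m := by
      by_contra hcon
      push Not at hcon
      have : Ideal.span (Set.range f) ≤ m := by
        rw [Ideal.span_le]
        rintro x ⟨i, rfl⟩
        exact hcon i
      rw [hf] at this
      exact hm.ne_top (top_le_iff.mp this)
    obtain ⟨i, hi⟩ := this
    apply (D i).faithful m hm hi
    rw [eq_top_iff]
    rintro x -
    have hx : (Pi.single i x : ∀ i, (D i).T) ∈ m • (⊤ : Submodule R (∀ i, (D i).T)) := by
      rw [htop]; exact Submodule.mem_top
    have := Submodule.mem_map_of_mem (f := LinearMap.proj (R := R) (φ := fun i => (D i).T) i) hx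
    rw [Submodule.map_smul''] at this
    simp only [LinearMap.proj_apply, Pi.single_eq_same] at this
    exact Submodule.smul_mono le_rfl le_top this
  obtain ⟨l, hl, -⟩ := (isIntV_pi (fun i => (D i).T) (fun i => (D i).l)
    (fun i => (D i).isInt)).descent
  exact ⟨l, hl⟩

theorem exists_integral (hH : SGA3b.IsMultType R A) : ∃ l : A →ₗ[R] R, IsIntV R A R l := by
  obtain ⟨s, hs, hf⟩ := hH
  obtain ⟨t, hts, ht⟩ := (Ideal.span_eq_top_iff_finite s).mp hs
  have hD : ∀ i : (t : Set R), Nonempty (LocData R A i.1) :=
    fun i => exists_locData (hf i.1 (hts i.2))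
  refine glue (ι := (t : Set R)) (fun i => i.1) ?_ (fun i => (hD i).some)
  rw [← ht]
  congr 1
  ext x
  simp

end locdata

end Groth.Agent.Helper7.MTAvg
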