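import Mathlib

/-! Convolution utilities: congruences modulo an ideal of the base ring, push-forwards. -/

open TensorProduct WithConv Coalgebra

namespace Groth.Agent.Helper7.MTAvg

section valin

variable {R : Type*} [CommRing R] {C : Type*} [AddCommGroup C] [Module R C] [Coalgebra R C]
variable {B : Type*} [CommRing B] [Algebra R B] {B' : Type*} [CommRing B'] [Algebra R B']

/-- the submodule `N • B` -/
abbrev nS (N : Ideal R) (B : Type*) [CommRing B] [Algebra R B] : Submodule R B :=
  N • (⊤ : Submodule R B)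

lemma nS_mul {K L : Ideal R} {x y : B} (hx : x ∈ nS K B) (hy : y ∈ nS L B) :
    x * y ∈ nS (K * L) B := by
  rw [nS, Ideal.smul_top_eq_map, Submodule.restrictScalars_mem] at hx hy ⊢
  rw [Ideal.map_mul]
  exact Ideal.mul_mem_mul hx hy

lemma nS_mul_left {K : Ideal R} {x : B} (hx : x ∈ nS K B) (y : B) : x * y ∈ nS K B := by
  rw [nS, Ideal.smul_top_eq_map, Submodule.restrictScalars_mem] at hx ⊢
  exact Ideal.mul_mem_right _ _ hx

lemma nS_mul_right {K : Ideal R} {x : B} (hx : x ∈ nS K B) (y : B) : y * x ∈ nS K B := by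
  rw [mul_comm]; exact nS_mul_left hx y

lemma nS_map {K : Ideal R} (g : B →ₗ[R] B') {x : B} (hx : x ∈ nS K B) : g x ∈ nS K B' := by
  have := Submodule.mem_map_of_mem (f := g) hx
  rw [Submodule.map_smul''] at this
  exact Submodule.smul_mono le_rfl le_top this

lemma nS_mono {K L : Ideal R} (h : K ≤ L) {x : B} (hx : x ∈ nS K B) : x ∈ nS L B :=
  Submodule.smul_mono h le_rfl hx

/-- a linear map with values in `N • B` -/
def ValIn (N : Ideal R) (f : WithConv (C →ₗ[R] B)) : Prop := ∀ c, f.ofConv c ∈ nS N B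

lemma valIn_zero (N : Ideal R) : ValIn N (0 : WithConv (C →ₗ[R] B)) := fun _ => by simp

lemma ValIn.add {N : Ideal R} {f g : WithConv (C →ₗ[R] B)} (hf : ValIn N f) (hg : ValIn N g) :
    ValIn N (f + g) := fun c => by
  simpa using Submodule.add_mem _ (hf c) (hg c)

lemma ValIn.sub {N : Ideal R} {f g : WithConv (C →ₗ[R] B)} (hf : ValIn N f) (hg : ValIn N g) :
    ValIn N (f - g) := fun c => by
  simpa using Submodule.sub_mem _ (hf c) (hg c)

lemma ValIn.neg {N : Ideal R} {f : WithConv (C →ₗ[R] B)} (hf : ValIn N f) :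
    ValIn N (-f) := fun c => by
  simpa using Submodule.neg_mem _ (hf c)

lemma ValIn.mono {K L : Ideal R} (h : K ≤ L) {f : WithConv (C →ₗ[R] B)} (hf : ValIn K f) :
    ValIn L f := fun c => nS_mono h (hf c)

lemma ValIn.mul {K L : Ideal R} {f g : WithConv (C →ₗ[R] B)} (hf : ValIn K f) (hg : ValIn L g) :
    ValIn (K * L) (f * g) := fun c => by
  show (f * g) c ∈ _
  rw [(ℛ R c).convMul_apply]
  exact Submodule.sum_mem _ fun i _ => nS_mul (hf _) (hg _)

lemma ValIn.mul_left {K : Ideal R} {f : WithConv (C →ₗ[R] B)} (hf : ValIn K f)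
    (g : WithConv (C →ₗ[R] B)) : ValIn K (f * g) := fun c => by
  show (f * g) c ∈ _
  rw [(ℛ R c).convMul_apply]
  exact Submodule.sum_mem _ fun i _ => nS_mul_left (hf _) _

lemma ValIn.mul_right {K : Ideal R} {f : WithConv (C →ₗ[R] B)} (hf : ValIn K f)
    (g : WithConv (C →ₗ[R] B)) : ValIn K (g * f) := fun c => by
  show (g * f) c ∈ _
  rw [(ℛ R c).convMul_apply]
  exact Submodule.sum_mem _ fun i _ => nS_mul_right (hf _) _

/-- push-forward of a linear map along a linear map -/
def pushL (g : B →ₗ[R] B') : WithConv (C →ₗ[R] B) →ₗ[R] WithConv (C →ₗ[R] B') where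
  toFun f := toConv (g ∘ₗ f.ofConv)
  map_add' f f' := by
    apply WithConv.ext
    simp [LinearMap.comp_add]
  map_smul' r f := by
    apply WithConv.ext
    simp [LinearMap.comp_smul]

@[simp] lemma pushL_apply (g : B →ₗ[R] B') (f : WithConv (C →ₗ[R] B)) (c : C) :
    (pushL g f).ofConv c = g (f.ofConv c) := rfl

lemma ValIn.pushL {N : Ideal R} {f : WithConv (C →ₗ[R] B)} (hf : ValIn N f) (g : B →ₗ[R] B') :
    ValIn N (pushL g f) := fun c => nS_map g (hf c)

lemma pushL_comp {B'' : Type*} [CommRing B''] [Algebra R B''] (g : B →ₗ[R] B')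
    (g' : B' →ₗ[R] B'') (f : WithConv (C →ₗ[R] B)) :
    pushL g' (pushL g f) = pushL (g' ∘ₗ g) f := rfl

lemma pushL_mul (h : B →ₐ[R] B') (f g : WithConv (C →ₗ[R] B)) :
    pushL h.toLinearMap (f * g) = pushL h.toLinearMap f * pushL h.toLinearMap g := by
  apply WithConv.ext
  exact LinearMap.algHom_comp_convMul_distrib h f g

end valin

section push

variable {R : Type*} [CommRing R] {C : Type*} [CommRing C] [HopfAlgebra R C]
variable {B : Type*} [CommRing B] [Algebra R B] {B' : Type*} [CommRing B'] [Algebra R B']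

/-- underlying linear map of an algebra map, in convolution form -/
def lin : WithConv (C →ₐ[R] B) →* WithConv (C →ₗ[R] B) where
  toFun f := toConv f.ofConv.toLinearMap
  map_one' := AlgHom.toLinearMap_convOne
  map_mul' f g := AlgHom.toLinearMap_convMul f g

@[simp] lemma lin_apply (f : WithConv (C →ₐ[R] B)) (c : C) : (lin f).ofConv c = f.ofConv c := rfl

/-- push-forward of points along an algebra map, as a group homomorphism -/
def push (h : B →ₐ[R] B') : WithConv (C →ₐ[R] B) →* WithConv (C →ₐ[R] B') where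
  toFun f := toConv (h.comp f.ofConv)
  map_one' := by
    apply WithConv.ext
    apply AlgHom.ext
    intro c
    simp [AlgHom.convOne_def]
  map_mul' f g := by
    apply WithConv.ext
    exact AlgHom.comp_convMul_distrib h f g

@[simp] lemma push_apply (h : B →ₐ[R] B') (f : WithConv (C →ₐ[R] B)) (c : C) :
    (push h f).ofConv c = h (f.ofConv c) := rfl

lemma lin_push (h : B →ₐ[R] B') (f : WithConv (C →ₐ[R] B)) :
    lin (push h f) = pushL h.toLinearMap (lin f) := rfl

lemma push_push {B'' : Type*} [CommRing B''] [Algebra R B''] (h : B →ₐ[R] B')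
    (h' : B' →ₐ[R] B'') (f : WithConv (C →ₐ[R] B)) :
    push h' (push h f) = push (h'.comp h) f := rfl

/-- inverse of a point: composition with the antipode -/
noncomputable def inv' (f : WithConv (C →ₐ[R] B)) : WithConv (C →ₐ[R] B) :=
  toConv (f.ofConv.comp (HopfAlgebra.antipodeAlgHom R C))

lemma push_inv' (h : B →ₐ[R] B') (f : WithConv (C →ₐ[R] B)) :
    push h (inv' f) = inv' (push h f) := rfl

lemma id_mul_antipode' :
    toConv (AlgHom.id R C) * toConv (HopfAlgebra.antipodeAlgHom R C) = 1 := by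
  apply WithConv.ofConv_injective
  apply AlgHom.toLinearMap_injective
  apply WithConv.toConv_injective
  rw [AlgHom.toLinearMap_convMul, AlgHom.toLinearMap_convOne]
  simp [LinearMap.id_mul_antipode]

lemma inv'_mul (f : WithConv (C →ₐ[R] B)) : inv' f * f = 1 := by
  have h1 : inv' f = push f.ofConv (toConv (HopfAlgebra.antipodeAlgHom R C)) := rfl
  have h2 : f = push f.ofConv (toConv (AlgHom.id R C)) := rfl
  rw [h1]
  nth_rw 2 [h2]
  rw [← map_mul, AlgHom.antipode_id_cancel, map_one]

lemma mul_inv' (f : WithConv (C →ₐ[R] B)) : f * inv' f = 1 := by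
  have h1 : inv' f = push f.ofConv (toConv (HopfAlgebra.antipodeAlgHom R C)) := rfl
  have h2 : f = push f.ofConv (toConv (AlgHom.id R C)) := rfl
  rw [h1]
  nth_rw 1 [h2]
  rw [← map_mul, id_mul_antipode', map_one]

end push

end Groth.Agent.Helper7.MTAvg
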