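import Mathlib
import Groth.Agent.Helper7.MTAvgA
import Groth.Agent.Helper7.MTAvgD

/-! The averaging operator `J_B = ∫ ⊗ id : A ⊗ B → B` attached to an invariant integral. -/

open TensorProduct WithConv Coalgebra

namespace Groth.Agent.Helper7.MTAvg

section J

variable {R : Type*} [CommRing R] {A : Type*} [CommRing A] [Bialgebra R A]
variable (l : A →ₗ[R] R)
variable (B : Type*) [CommRing B] [Algebra R B] {B' : Type*} [CommRing B'] [Algebra R B']

/-- the averaging operator -/
noncomputable def J : A ⊗[R] B →ₗ[R] B := (TensorProduct.lid R B).toLinearMap ∘ₗ l.rTensor B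

@[simp] lemma J_tmul (a : A) (b : B) : J l B (a ⊗ₜ[R] b) = l a • b := by
  simp [J]

variable {B}

lemma J_mul_right (x : A ⊗[R] B) (b : B) : J l B (x * ((1 : A) ⊗ₜ[R] b)) = J l B x * b := by
  induction x using TensorProduct.induction_on with
  | zero => simp
  | add x y hx hy => rw [add_mul, map_add, hx, hy, map_add, add_mul]
  | tmul a b' =>
    rw [Algebra.TensorProduct.tmul_mul_tmul, mul_one, J_tmul, J_tmul, smul_mul_assoc]

lemma J_mul_left (x : A ⊗[R] B) (b : B) : J l B (((1 : A) ⊗ₜ[R] b) * x) = b * J l B x := by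
  rw [mul_comm, J_mul_right, mul_comm]

lemma J_natural (g : B →ₗ[R] B') (x : A ⊗[R] B) : g (J l B x) = J l B' (g.lTensor A x) := by
  induction x using TensorProduct.induction_on with
  | zero => simp
  | add x y hx hy => simp only [map_add, hx, hy]
  | tmul a b => simp

variable {l}

lemma J_one_tmul (hl : IsIntV R A R l) (b : B) : J l B ((1 : A) ⊗ₜ[R] b) = b := by
  rw [J_tmul, hl.one, one_smul]

/-- invariance of the averaging operator -/
lemma J_invariant (hl : IsIntV R A R l) (x : A ⊗[R] B) :
    J l (A ⊗[R] B) (Algebra.TensorProduct.assoc R R R A A B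
      (Algebra.TensorProduct.map (Bialgebra.comulAlgHom R A) (AlgHom.id R B) x)) =
      (1 : A) ⊗ₜ[R] J l B x := by
  induction x using TensorProduct.induction_on with
  | zero => simp
  | add x y hx hy => simp only [map_add, hx, hy, tmul_add]
  | tmul a b =>
    have aux : ∀ y : A ⊗[R] A, J l (A ⊗[R] B) (Algebra.TensorProduct.assoc R R R A A B (y ⊗ₜ[R] b)) =
        (TensorProduct.lid R A (l.rTensor A y)) ⊗ₜ[R] b := by
      intro y
      induction y using TensorProduct.induction_on with
      | zero => simp
      | add x y hx hy => simp only [map_add, hx, hy, add_tmul]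
      | tmul a₁ a₂ => simp [TensorProduct.smul_tmul']
    rw [Algebra.TensorProduct.map_tmul, Bialgebra.comulAlgHom_apply, AlgHom.id_apply, aux, hl.left]
    simp [TensorProduct.smul_tmul']

end J

end Groth.Agent.Helper7.MTAvg
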