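import Mathlib
import Groth.Agent.Helper7.MTAvgA
import Groth.Agent.Helper7.MTAvgD
import Groth.Agent.Helper7.MTAvgE

/-! The averaging step: a scheme map `H → G` that is a homomorphism modulo `N` is congruent
modulo `N` to a linear map that is a homomorphism (and an algebra map) modulo `N²`. -/

open TensorProduct WithConv Coalgebra

namespace Groth.Agent.Helper7.MTAvg

section step

variable {R : Type*} [CommRing R] {A : Type*} [CommRing A] [HopfAlgebra R A]
variable {C : Type*} [CommRing C] [HopfAlgebra R C]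

local notation "ι₁" => (Algebra.TensorProduct.includeLeft : A →ₐ[R] A ⊗[R] A)
local notation "ι₂" => (Algebra.TensorProduct.includeRight : A →ₐ[R] A ⊗[R] A)
local notation "Δ" => (Bialgebra.comulAlgHom R A)

/-- the homomorphism defect `Δ ∘ v - (v ⊗ v) ∘ Δ` of a linear map `v : C → A` -/
noncomputable def defect (v : WithConv (C →ₗ[R] A)) : WithConv (C →ₗ[R] A ⊗[R] A) :=
  pushL (Δ).toLinearMap v - pushL (ι₁).toLinearMap v * pushL (ι₂).toLinearMap v

lemma defect_apply (v : WithConv (C →ₗ[R] A)) (c : C) :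
    (defect v).ofConv c = Coalgebra.comul (R := R) (v.ofConv c) -
      TensorProduct.map v.ofConv v.ofConv (Coalgebra.comul (R := R) c) := by
  have h2 : ∀ y : C ⊗[R] C, LinearMap.mul' R (A ⊗[R] A)
      (TensorProduct.map (pushL (ι₁).toLinearMap v).ofConv (pushL (ι₂).toLinearMap v).ofConv y) =
      TensorProduct.map v.ofConv v.ofConv y := by
    intro y
    induction y using TensorProduct.induction_on with
    | zero => simp
    | add x y hx hy => simp only [map_add, hx, hy]
    | tmul a b => simp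
  simp only [defect, ofConv_sub, LinearMap.sub_apply, pushL_apply, AlgHom.toLinearMap_apply,
    Bialgebra.comulAlgHom_apply]
  congr 1
  exact h2 _

variable (ψ : C →ₐ[R] A)

/-- the algebra map `C → A ⊗ A` corresponding to `(t, h) ↦ ψ(t)⁻¹ ψ(t h)` -/
noncomputable def X : WithConv (C →ₐ[R] A ⊗[R] A) :=
  inv' (push ι₁ (toConv ψ)) * push Δ (toConv ψ)

lemma defect_lin : defect (lin (toConv ψ)) =
    lin (push Δ (toConv ψ)) - lin (push ι₁ (toConv ψ)) * lin (push ι₂ (toConv ψ)) := rfl

lemma lin_X_sub : lin (X ψ) - lin (push ι₂ (toConv ψ)) =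
    lin (inv' (push ι₁ (toConv ψ))) * defect (lin (toConv ψ)) := by
  rw [defect_lin, mul_sub, ← mul_assoc, ← map_mul, ← map_mul, inv'_mul, map_one, one_mul]
  rfl

lemma valIn_lin_X_sub {N : Ideal R} (h : ValIn N (defect (lin (toConv ψ)))) :
    ValIn N (lin (X ψ) - lin (push ι₂ (toConv ψ))) := by
  rw [lin_X_sub]
  exact h.mul_right _

variable (l : A →ₗ[R] R)

/-- the averaged map -/
noncomputable def avg : WithConv (C →ₗ[R] A) := pushL (J l A) (lin (X ψ))

lemma avg_apply (c : C) : (avg ψ l).ofConv c = J l A ((X ψ).ofConv c) := rfl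

variable {l} (hl : IsIntV R A R l)
include hl

lemma avg_sub : avg ψ l - lin (toConv ψ) =
    pushL (J l A) (lin (X ψ) - lin (push ι₂ (toConv ψ))) := by
  rw [map_sub]
  congr 1
  apply WithConv.ext
  refine LinearMap.ext fun c => ?_
  simp [J_one_tmul hl]

lemma valIn_avg_sub {N : Ideal R} (h : ValIn N (defect (lin (toConv ψ)))) :
    ValIn N (avg ψ l - lin (toConv ψ)) := by
  rw [avg_sub ψ hl]
  exact (valIn_lin_X_sub ψ h).pushL _

lemma avg_one : (avg ψ l).ofConv 1 = 1 := by
  rw [avg_apply, map_one, Algebra.TensorProduct.one_def, J_one_tmul hl]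

lemma avg_mul {N : Ideal R} (h : ValIn N (defect (lin (toConv ψ)))) (c c' : C) :
    (avg ψ l).ofConv (c * c') - (avg ψ l).ofConv c * (avg ψ l).ofConv c' ∈ nS (N * N) A := by
  have hδ := valIn_lin_X_sub ψ h
  set d := (X ψ).ofConv c - (1 : A) ⊗ₜ[R] ψ c with hd
  set d' := (X ψ).ofConv c' - (1 : A) ⊗ₜ[R] ψ c' with hd'
  have hdN : d ∈ nS N (A ⊗[R] A) := hδ c
  have hdN' : d' ∈ nS N (A ⊗[R] A) := hδ c'
  have e1 : (X ψ).ofConv c = (1 : A) ⊗ₜ[R] ψ c + d := by rw [hd]; ring
  have e1' : (X ψ).ofConv c' = (1 : A) ⊗ₜ[R] ψ c' + d' := by rw [hd']; ring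
  have e2 : (avg ψ l).ofConv c = ψ c + J l A d := by
    rw [avg_apply, e1, map_add, J_one_tmul hl]
  have e2' : (avg ψ l).ofConv c' = ψ c' + J l A d' := by
    rw [avg_apply, e1', map_add, J_one_tmul hl]
  have e3 : (avg ψ l).ofConv (c * c') =
      ψ c * ψ c' + ψ c * J l A d' + J l A d * ψ c' + J l A (d * d') := by
    rw [avg_apply, map_mul, e1, e1', add_mul, mul_add, mul_add, map_add, map_add, map_add]
    simp only [J_mul_left, J_mul_right, J_one_tmul hl]
    ring
  have e4 : (avg ψ l).ofConv (c * c') - (avg ψ l).ofConv c * (avg ψ l).ofConv c' =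
      J l A (d * d') - J l A d * J l A d' := by
    rw [e3, e2, e2']; ring
  rw [e4]
  exact Submodule.sub_mem _ (nS_map _ (nS_mul hdN hdN'))
    (nS_mul (nS_map _ hdN) (nS_map _ hdN'))

end step

end Groth.Agent.Helper7.MTAvg
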