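import Mathlib
import Groth.Agent.Helper7.MTAvgF

/-! The cocycle identity and the homomorphism defect of the averaged map. -/

open TensorProduct WithConv Coalgebra

namespace Groth.Agent.Helper7.MTAvg

section cocycle

variable {R : Type*} [CommRing R] {A : Type*} [CommRing A] [HopfAlgebra R A]
variable {C : Type*} [CommRing C] [HopfAlgebra R C]

local notation "ι₁" => (Algebra.TensorProduct.includeLeft : A →ₐ[R] A ⊗[R] A)
local notation "ι₂" => (Algebra.TensorProduct.includeRight : A →ₐ[R] A ⊗[R] A)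
local notation "Δ" => (Bialgebra.comulAlgHom R A)

variable (R A) in
/-- `id ⊗ Δ` -/
noncomputable def h₁ : A ⊗[R] A →ₐ[R] A ⊗[R] (A ⊗[R] A) :=
  Algebra.TensorProduct.map (AlgHom.id R A) Δ

variable (R A) in
/-- `id ⊗ ι₁` -/
noncomputable def h₂ : A ⊗[R] A →ₐ[R] A ⊗[R] (A ⊗[R] A) :=
  Algebra.TensorProduct.map (AlgHom.id R A) ι₁

variable (R A) in
/-- `assoc ∘ (Δ ⊗ id)` -/
noncomputable def h₃ : A ⊗[R] A →ₐ[R] A ⊗[R] (A ⊗[R] A) :=
  (Algebra.TensorProduct.assoc R R R A A A).toAlgHom.comp
    (Algebra.TensorProduct.map Δ (AlgHom.id R A))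

lemma h₁_comp_ι₁ : (h₁ R A).comp ι₁ = (h₂ R A).comp ι₁ := by
  ext a
  simp [h₁, h₂, Algebra.TensorProduct.one_def]

lemma h₃_comp_ι₁ : (h₃ R A).comp ι₁ = (h₂ R A).comp Δ := by
  ext a
  have aux : ∀ y : A ⊗[R] A, Algebra.TensorProduct.assoc R R R A A A (y ⊗ₜ[R] (1 : A)) =
      h₂ R A y := by
    intro y
    induction y using TensorProduct.induction_on with
    | zero => simp
    | add x y hx hy => simp only [add_tmul, map_add, hx, hy]
    | tmul a b => simp [h₂]
  simp only [h₃, AlgHom.coe_comp, Function.comp_apply, Algebra.TensorProduct.includeLeft_apply,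
    Algebra.TensorProduct.map_tmul, map_one, AlgEquiv.toAlgHom_eq_coe, AlgHom.coe_coe]
  exact aux _

lemma h₃_comp_Δ : (h₃ R A).comp Δ = (h₁ R A).comp Δ := by
  ext a
  have aux1 : ∀ y : A ⊗[R] A, Algebra.TensorProduct.map Δ (AlgHom.id R A) y =
      (Coalgebra.comul (R := R) (A := A)).rTensor A y := by
    intro y
    induction y using TensorProduct.induction_on with
    | zero => simp
    | add x y hx hy => simp only [map_add, hx, hy]
    | tmul a b => simp
  have aux2 : ∀ y : A ⊗[R] A, h₁ R A y =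
      (Coalgebra.comul (R := R) (A := A)).lTensor A y := by
    intro y
    induction y using TensorProduct.induction_on with
    | zero => simp
    | add x y hx hy => simp only [map_add, hx, hy]
    | tmul a b => simp [h₁]
  simp only [h₃, AlgHom.coe_comp, Function.comp_apply, Bialgebra.comulAlgHom_apply,
    AlgEquiv.toAlgHom_eq_coe, AlgHom.coe_coe]
  rw [aux1, aux2]
  exact Coalgebra.coassoc_apply a

omit [HopfAlgebra R A] [HopfAlgebra R C] in
lemma monoid_cocycle {G : Type*} [Monoid G] (p q q' r : G) (h : q * q' = 1) :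
    p * r = (p * q) * (q' * r) := by
  rw [mul_assoc, ← mul_assoc q, h, one_mul]

variable (ψ : C →ₐ[R] A)

/-- the cocycle identity `Ξ(t, h h') = Ξ(t, h) Ξ(t h, h')` -/
theorem cocycle : push (h₁ R A) (X ψ) = push (h₂ R A) (X ψ) * push (h₃ R A) (X ψ) := by
  simp only [X, map_mul, push_inv', push_push]
  rw [h₁_comp_ι₁, h₃_comp_ι₁, h₃_comp_Δ]
  exact monoid_cocycle _ _ _ _ (mul_inv' _)

lemma h₁_apply (y : A ⊗[R] A) : h₁ R A y = (Δ).toLinearMap.lTensor A y := by
  induction y using TensorProduct.induction_on with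
  | zero => simp
  | add x y hx hy => simp only [map_add, hx, hy]
  | tmul a b => simp [h₁]

lemma h₂_apply (y : A ⊗[R] A) : h₂ R A y = (ι₁).toLinearMap.lTensor A y := by
  induction y using TensorProduct.induction_on with
  | zero => simp
  | add x y hx hy => simp only [map_add, hx, hy]
  | tmul a b => simp [h₂]

end cocycle

section Jconv

variable {R : Type*} [CommRing R] {A : Type*} [CommRing A] [Bialgebra R A]
variable {C : Type*} [AddCommGroup C] [Module R C] [Coalgebra R C]
variable (l : A →ₗ[R] R) {B : Type*} [CommRing B] [Algebra R B]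

lemma pushL_J_mul_right (F : WithConv (C →ₗ[R] A ⊗[R] B)) (r : WithConv (C →ₗ[R] B)) :
    pushL (J l B) (F * pushL
      (Algebra.TensorProduct.includeRight : B →ₐ[R] A ⊗[R] B).toLinearMap r) =
      pushL (J l B) F * r := by
  apply WithConv.ext
  refine LinearMap.ext fun c => ?_
  rw [pushL_apply]
  show J l B ((F * _) c) = (pushL (J l B) F * r) c
  rw [(ℛ R c).convMul_apply, (ℛ R c).convMul_apply, map_sum]
  refine Finset.sum_congr rfl fun i _ => ?_
  exact J_mul_right l _ _

lemma pushL_J_mul_left (F : WithConv (C →ₗ[R] A ⊗[R] B)) (r : WithConv (C →ₗ[R] B)) :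
    pushL (J l B) (pushL
      (Algebra.TensorProduct.includeRight : B →ₐ[R] A ⊗[R] B).toLinearMap r * F) =
      r * pushL (J l B) F := by
  apply WithConv.ext
  refine LinearMap.ext fun c => ?_
  rw [pushL_apply]
  show J l B ((_ * F) c) = (r * pushL (J l B) F) c
  rw [(ℛ R c).convMul_apply, (ℛ R c).convMul_apply, map_sum]
  refine Finset.sum_congr rfl fun i _ => ?_
  exact J_mul_left l _ _

variable {l}

lemma pushL_J_includeRight (hl : IsIntV R A R l) (r : WithConv (C →ₗ[R] B)) :
    pushL (J l B) (pushL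
      (Algebra.TensorProduct.includeRight : B →ₐ[R] A ⊗[R] B).toLinearMap r) = r := by
  apply WithConv.ext
  refine LinearMap.ext fun c => ?_
  simp [J_one_tmul hl]

end Jconv

end Groth.Agent.Helper7.MTAvg
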