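import Mathlib
import Groth.Agent.Helper7.MTAvgG

/-! The averaged map is a homomorphism modulo `N²`. -/

open TensorProduct WithConv Coalgebra

namespace Groth.Agent.Helper7.MTAvg

section main

variable {R : Type*} [CommRing R] {A : Type*} [CommRing A] [HopfAlgebra R A]
variable {C : Type*} [CommRing C] [HopfAlgebra R C]

local notation "ι₁" => (Algebra.TensorProduct.includeLeft : A →ₐ[R] A ⊗[R] A)
local notation "ι₂" => (Algebra.TensorProduct.includeRight : A →ₐ[R] A ⊗[R] A)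
local notation "Δ" => (Bialgebra.comulAlgHom R A)
local notation "ι₂'" => (Algebra.TensorProduct.includeRight : A ⊗[R] A →ₐ[R] A ⊗[R] (A ⊗[R] A))

omit [HopfAlgebra R A] [HopfAlgebra R C] in
lemma ring_id {M : Type*} [Ring M] (q₁ q₂ r₁ r₂ : M) :
    q₁ * q₂ = (q₁ - r₁) * (q₂ - r₂) + q₁ * r₂ + r₁ * q₂ - r₁ * r₂ := by
  noncomm_ring

omit [HopfAlgebra R A] [HopfAlgebra R C] in
lemma ring_id2 {M : Type*} [Ring M] (e U₁ U₂ Y₁ Y₂ : M) :
    e + U₁ * Y₂ + Y₁ * U₂ - Y₁ * Y₂ - U₁ * U₂ = e - (U₁ - Y₁) * (U₂ - Y₂) := by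
  noncomm_ring

variable (ψ : C →ₐ[R] A) {l : A →ₗ[R] R} (hl : IsIntV R A R l)
include hl

theorem valIn_defect_avg {N : Ideal R} (h : ValIn N (defect (lin (toConv ψ)))) :
    ValIn (N * N) (defect (avg ψ l)) := by
  have hδ := valIn_lin_X_sub ψ h
  set δ := lin (X ψ) - lin (push ι₂ (toConv ψ)) with hδdef
  set q₁ := lin (push (h₂ R A) (X ψ)) with hq₁
  set q₂ := lin (push (h₃ R A) (X ψ)) with hq₂
  set Y₁ := lin (push ι₁ (toConv ψ)) with hY₁
  set Y₂ := lin (push ι₂ (toConv ψ)) with hY₂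
  set r₁ := pushL (ι₂').toLinearMap Y₁ with hr₁
  set r₂ := pushL (ι₂').toLinearMap Y₂ with hr₂
  set U₁ := pushL (ι₁).toLinearMap (avg ψ l) with hU₁
  set U₂ := pushL (ι₂).toLinearMap (avg ψ l) with hU₂
  set J' := J l (A ⊗[R] A) with hJ'
  -- (a), (b)
  have ha : q₁ - r₁ = pushL (h₂ R A).toLinearMap δ := by
    rw [hδdef, map_sub]
    congr 1
  have hb : q₂ - r₂ = pushL (h₃ R A).toLinearMap δ := by
    rw [hδdef, map_sub]
    congr 1
    apply WithConv.ext
    refine LinearMap.ext fun c => ?_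
    simp [hr₂, hY₂, h₃, Algebra.TensorProduct.one_def]
  -- (c)
  have hc : lin (push (h₁ R A) (X ψ)) = q₁ * q₂ := by
    rw [cocycle, map_mul]
  -- (d)
  have hd : pushL (Δ).toLinearMap (avg ψ l) = pushL J' (lin (push (h₁ R A) (X ψ))) := by
    apply WithConv.ext
    refine LinearMap.ext fun c => ?_
    simp only [pushL_apply, avg_apply, lin_apply, push_apply]
    rw [h₁_apply]
    exact J_natural l _ _
  -- (e)
  have he : U₁ = pushL J' q₁ := by
    apply WithConv.ext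
    refine LinearMap.ext fun c => ?_
    simp only [hU₁, hq₁, pushL_apply, avg_apply, lin_apply, push_apply]
    rw [h₂_apply]
    exact J_natural l _ _
  -- (f)
  have hf : U₂ = pushL J' q₂ := by
    apply WithConv.ext
    refine LinearMap.ext fun c => ?_
    simp only [hU₂, hq₂, pushL_apply, avg_apply, lin_apply, push_apply]
    have := J_invariant hl ((X ψ).ofConv c)
    simp only [h₃, AlgHom.coe_comp, Function.comp_apply]
    erw [this]
    rfl
  -- (g), (h), (i)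
  have hg : pushL J' (q₁ * r₂) = U₁ * Y₂ := by
    rw [he]
    exact pushL_J_mul_right l q₁ Y₂
  have hh : pushL J' (r₁ * q₂) = Y₁ * U₂ := by
    rw [hf]
    exact pushL_J_mul_left l q₂ Y₁
  have hi : pushL J' (r₁ * r₂) = Y₁ * Y₂ := by
    rw [hr₁, hr₂, ← pushL_mul]
    exact pushL_J_includeRight hl _
  -- assemble
  have key : defect (avg ψ l) =
      pushL J' ((q₁ - r₁) * (q₂ - r₂)) - (U₁ - Y₁) * (U₂ - Y₂) := by
    have e1 : defect (avg ψ l) = pushL J' (q₁ * q₂) - U₁ * U₂ := by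
      rw [← hc, ← hd]
      rfl
    rw [e1, ring_id q₁ q₂ r₁ r₂, map_sub, map_add, map_add, hg, hh, hi]
    exact ring_id2 _ _ _ _ _
  rw [key]
  have hj := valIn_avg_sub ψ hl h
  have hU₁Y₁ : U₁ - Y₁ = pushL (ι₁).toLinearMap (avg ψ l - lin (toConv ψ)) := by
    rw [map_sub]; rfl
  have hU₂Y₂ : U₂ - Y₂ = pushL (ι₂).toLinearMap (avg ψ l - lin (toConv ψ)) := by
    rw [map_sub]; rfl
  refine ValIn.sub ?_ ?_
  · apply ValIn.pushL
    rw [ha, hb]
    exact (hδ.pushL _).mul (hδ.pushL _)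
  · rw [hU₁Y₁, hU₂Y₂]
    exact (hj.pushL _).mul (hj.pushL _)

end main

end Groth.Agent.Helper7.MTAvg
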