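import Mathlib
import Groth.Agent.Helper7.MTAvgH

/-! Lifting step, iteration, and passage to bialgebra maps. -/

open TensorProduct WithConv Coalgebra

namespace Groth.Agent.Helper7.MTAvg

section lift

variable {R : Type*} [CommRing R] {A : Type*} [CommRing A] [HopfAlgebra R A]
variable {C : Type*} [CommRing C] [HopfAlgebra R C]

local notation "ι₁" => (Algebra.TensorProduct.includeLeft : A →ₐ[R] A ⊗[R] A)
local notation "ι₂" => (Algebra.TensorProduct.includeRight : A →ₐ[R] A ⊗[R] A)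
local notation "Δ" => (Bialgebra.comulAlgHom R A)

omit [HopfAlgebra R A] [HopfAlgebra R C] in
lemma ring_id3 {M : Type*} [Ring M] (D P₁ P₂ P₁' P₂' D' : M) :
    D' - P₁' * P₂' = (D - P₁ * P₂) + ((D' - D) - (P₁' - P₁) * P₂' - P₁ * (P₂' - P₂)) := by
  noncomm_ring

lemma valIn_defect_of_sub {K : Ideal R} {v v' : WithConv (C →ₗ[R] A)}
    (hv : ValIn K (defect v)) (he : ValIn K (v' - v)) : ValIn K (defect v') := by
  have key : defect v' = defect v + ((pushL (Δ).toLinearMap (v' - v)) -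
      (pushL (ι₁).toLinearMap (v' - v)) * pushL (ι₂).toLinearMap v' -
      pushL (ι₁).toLinearMap v * (pushL (ι₂).toLinearMap (v' - v))) := by
    simp only [map_sub]
    exact ring_id3 _ _ _ _ _ _
  rw [key]
  exact hv.add (((he.pushL _).sub ((he.pushL _).mul_left _)).sub ((he.pushL _).mul_right _))

lemma mem_map_iff_mem_nS (K : Ideal R) (x : A) :
    x ∈ Ideal.map (algebraMap R A) K ↔ x ∈ nS K A := by
  rw [nS, Ideal.smul_top_eq_map, Submodule.restrictScalars_mem]

variable {l : A →ₗ[R] R} (hl : IsIntV R A R l)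
include hl

theorem step [Algebra.FormallySmooth R C] {N : Ideal R} (hN : IsNilpotent N) (ψ : C →ₐ[R] A)
    (h : ValIn N (defect (lin (toConv ψ)))) :
    ∃ ψ' : C →ₐ[R] A, ValIn (N * N) (defect (lin (toConv ψ'))) ∧ ∀ c, ψ' c - ψ c ∈ nS N A := by
  set K : Ideal A := Ideal.map (algebraMap R A) (N * N) with hK
  have hKnil : IsNilpotent K := by
    obtain ⟨n, hn⟩ := hN
    refine ⟨n, ?_⟩
    rw [hK, ← Ideal.map_pow, mul_pow, hn]
    simp
  let ubar : C →ₐ[R] A ⧸ K := AlgHom.ofLinearMap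
    ((Ideal.Quotient.mkₐ R K).toLinearMap ∘ₗ (avg ψ l).ofConv)
    (by simp [avg_one ψ hl])
    (fun c c' => by
      simp only [LinearMap.comp_apply, AlgHom.toLinearMap_apply, Ideal.Quotient.mkₐ_eq_mk]
      rw [← map_mul, Ideal.Quotient.eq, hK, mem_map_iff_mem_nS]
      exact avg_mul ψ hl h c c')
  let ψ' := Algebra.FormallySmooth.lift K hKnil ubar
  have hψ' : ∀ c, ψ' c - (avg ψ l).ofConv c ∈ nS (N * N) A := by
    intro c
    rw [← mem_map_iff_mem_nS, ← Ideal.Quotient.eq]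
    exact Algebra.FormallySmooth.mk_lift K hKnil ubar c
  have hsub : ValIn (N * N) (lin (toConv ψ') - avg ψ l) := fun c => hψ' c
  refine ⟨ψ', valIn_defect_of_sub (valIn_defect_avg ψ hl h) hsub, fun c => ?_⟩
  have h1 := nS_mono (B := A) (Ideal.mul_le_left (I := N) (J := N)) (hψ' c)
  have h2 := valIn_avg_sub ψ hl h c
  have : ψ' c - ψ c = (ψ' c - (avg ψ l).ofConv c) + ((avg ψ l).ofConv c - ψ c) := by ring
  rw [this]
  exact Submodule.add_mem _ h1 h2

theorem iterate [Algebra.FormallySmooth R C] {I : Ideal R} (hI : IsNilpotent I) (ψ₀ : C →ₐ[R] A)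
    (h₀ : ValIn I (defect (lin (toConv ψ₀)))) :
    ∃ ψ : C →ₐ[R] A, defect (lin (toConv ψ)) = 0 ∧ ∀ c, ψ c - ψ₀ c ∈ nS I A := by
  have hk : ∀ k : ℕ, ∃ ψ : C →ₐ[R] A, ValIn (I ^ (2 ^ k)) (defect (lin (toConv ψ))) ∧
      ∀ c, ψ c - ψ₀ c ∈ nS I A := by
    intro k
    induction k with
    | zero => exact ⟨ψ₀, by simpa using h₀, fun c => by simp⟩
    | succ k ih =>
      obtain ⟨ψ, hψ, hψ0⟩ := ih
      have hnil : IsNilpotent (I ^ (2 ^ k)) := by
        obtain ⟨n, hn⟩ := hI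
        refine ⟨n, ?_⟩
        rw [← pow_mul, mul_comm, pow_mul, hn, zero_pow (by positivity)]
      obtain ⟨ψ', hψ', hsub⟩ := step hl hnil ψ hψ
      refine ⟨ψ', ?_, fun c => ?_⟩
      · rw [pow_succ, pow_mul, sq]
        exact hψ'
      · have h1 := nS_mono (B := A) (Ideal.pow_le_self (I := I) (n := 2 ^ k) (by positivity))
          (hsub c)
        have : ψ' c - ψ₀ c = (ψ' c - ψ c) + (ψ c - ψ₀ c) := by ring
        rw [this]
        exact Submodule.add_mem _ h1 (hψ0 c)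
  obtain ⟨n, hn⟩ := hI
  obtain ⟨ψ, hψ, hψ0⟩ := hk n
  refine ⟨ψ, ?_, hψ0⟩
  have hbot : I ^ (2 ^ n) = ⊥ := by
    have := Ideal.pow_le_pow_right (I := I) (Nat.lt_two_pow_self (n := n)).le
    rw [hn] at this
    exact le_bot_iff.mp this
  apply WithConv.ext
  refine LinearMap.ext fun c => ?_
  have := hψ c
  rw [hbot, nS, Submodule.bot_smul] at this
  simpa using this

end lift

end Groth.Agent.Helper7.MTAvg
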