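import Mathlib
import Groth.Prelude.Def_SGA3b
import Groth.Agent.Helper2.MultTypeSemi
import Groth.Agent.Helper7.MTAvgC
import Groth.Agent.Helper7.MTAvgI

/-! Lifting homomorphisms from groups of multiplicative type to smooth affine groups modulo
a nilpotent ideal. -/

open TensorProduct WithConv Coalgebra Groth.Agent.Helper2.MultTypeSemi

namespace Groth.Agent.Helper7.MTAvg

universe u

section bialg

variable {R : Type*} [CommRing R] {A : Type*} [CommRing A] [HopfAlgebra R A]
variable {C : Type*} [CommRing C] [HopfAlgebra R C]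

lemma algMap_eq_linMap (ψ : C →ₐ[R] A) (y : C ⊗[R] C) :
    Algebra.TensorProduct.map ψ ψ y = TensorProduct.map ψ.toLinearMap ψ.toLinearMap y := by
  induction y using TensorProduct.induction_on with
  | zero => simp
  | add x y hx hy => simp only [map_add, hx, hy]
  | tmul a b => simp

omit [HopfAlgebra R C] [CommRing C] in
lemma counit_counit_comul {A : Type*} [AddCommGroup A] [Module R A] [Coalgebra R A] (a : A) :
    LinearMap.mul' R R (TensorProduct.map (Coalgebra.counit (R := R) (A := A))
      (Coalgebra.counit (R := R) (A := A)) (Coalgebra.comul (R := R) a)) =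
      Coalgebra.counit (R := R) a := by
  have : TensorProduct.map (Coalgebra.counit (R := R) (A := A))
      (Coalgebra.counit (R := R) (A := A)) =
      (Coalgebra.counit (R := R) (A := A)).lTensor R ∘ₗ
        (Coalgebra.counit (R := R) (A := A)).rTensor A := by
    rw [LinearMap.lTensor_comp_rTensor]
  rw [this, LinearMap.comp_apply, Coalgebra.rTensor_counit_comul]
  simp

theorem exists_bialgHom_of_defect_eq_zero (ψ : C →ₐ[R] A)
    (h : defect (lin (toConv ψ)) = 0) : ∃ φ : C →ₐc[R] A, ∀ c, φ c = ψ c := by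
  have hcomul : ∀ c, Coalgebra.comul (R := R) (ψ c) =
      TensorProduct.map ψ.toLinearMap ψ.toLinearMap (Coalgebra.comul (R := R) c) := by
    intro c
    have := congrArg (fun f => f.ofConv c) h
    simp only [defect_apply] at this
    exact sub_eq_zero.mp this
  have h1 : (Algebra.TensorProduct.map ψ ψ).comp (Bialgebra.comulAlgHom R C) =
      (Bialgebra.comulAlgHom R A).comp ψ := by
    ext c
    simp only [AlgHom.coe_comp, Function.comp_apply, Bialgebra.comulAlgHom_apply]
    rw [algMap_eq_linMap, hcomul]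
  -- counit compatibility via the group of points
  set χ : WithConv (C →ₐ[R] R) := toConv ((Bialgebra.counitAlgHom R A).comp ψ) with hχ
  have hχχ : χ * χ = χ := by
    apply WithConv.ext
    ext c
    rw [AlgHom.convMul_def]
    simp only [hχ, ofConv_toConv, AlgHom.coe_comp, Function.comp_apply,
      Bialgebra.comulAlgHom_apply]
    have e1 : ∀ y : C ⊗[R] C, Algebra.TensorProduct.lmul' R
        (Algebra.TensorProduct.map ((Bialgebra.counitAlgHom R A).comp ψ)
          ((Bialgebra.counitAlgHom R A).comp ψ) y) =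
        LinearMap.mul' R R (TensorProduct.map (Coalgebra.counit (R := R) (A := A))
          (Coalgebra.counit (R := R) (A := A))
          (TensorProduct.map ψ.toLinearMap ψ.toLinearMap y)) := by
      intro y
      induction y using TensorProduct.induction_on with
      | zero => simp
      | add x y hx hy => simp only [map_add, hx, hy]
      | tmul a b => simp
    rw [e1, ← hcomul, counit_counit_comul]
    rfl
  have hχ1 : χ = 1 := by
    have := congrArg (fun z => inv' χ * z) hχχ
    simp only [← mul_assoc, inv'_mul, one_mul] at this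
    exact this
  have h2 : (Bialgebra.counitAlgHom R A).comp ψ = Bialgebra.counitAlgHom R C := by
    have := congrArg WithConv.ofConv hχ1
    rw [hχ, ofConv_toConv, AlgHom.convOne_def, ofConv_toConv] at this
    rw [this]
    ext c
    simp
  exact ⟨BialgHom.ofAlgHom ψ h2 h1, fun c => rfl⟩

end bialg

section main

variable (R : Type u) [CommRing R] (I : Ideal R)

lemma tmul_eq_zero_iff {M : Type*} [AddCommGroup M] [Module R M] (x : M) :
    (1 : R ⧸ I) ⊗ₜ[R] x = 0 ↔ x ∈ I • (⊤ : Submodule R M) := by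
  rw [← (TensorProduct.quotTensorEquivQuotSMul M I).map_eq_zero_iff,
    TensorProduct.quotTensorEquivQuotSMul_mk_one_tmul, Submodule.Quotient.mk_eq_zero]

variable {R I}

theorem main (hI : IsNilpotent I)
    (A : Type u) [CommRing A] [HopfAlgebra R A] (hH : SGA3b.IsMultType R A)
    (C : Type u) [CommRing C] [HopfAlgebra R C] [Algebra.Smooth R C]
    (φ₀ : ((R ⧸ I) ⊗[R] C) →ₐc[R ⧸ I] ((R ⧸ I) ⊗[R] A)) :
    ∃ φ : C →ₐc[R] A, ∀ c : C, φ₀ ((1 : R ⧸ I) ⊗ₜ[R] c) = (1 : R ⧸ I) ⊗ₜ[R] (φ c) := by
  obtain ⟨l, hl⟩ := exists_integral hH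
  -- initial algebra lift
  let g : A →ₐ[R] (R ⧸ I) ⊗[R] A := Algebra.TensorProduct.includeRight
  let f : C →ₐ[R] (R ⧸ I) ⊗[R] A :=
    ((φ₀ : ((R ⧸ I) ⊗[R] C) →ₐ[R ⧸ I] ((R ⧸ I) ⊗[R] A)).restrictScalars R).comp
      Algebra.TensorProduct.includeRight
  have hg : Function.Surjective g := by
    intro z
    induction z using TensorProduct.induction_on with
    | zero => exact ⟨0, map_zero _⟩
    | add x y hx hy =>
      obtain ⟨a, rfl⟩ := hx
      obtain ⟨b, rfl⟩ := hy
      exact ⟨a + b, map_add _ _ _⟩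
    | tmul r a =>
      obtain ⟨r, rfl⟩ := Ideal.Quotient.mk_surjective r
      refine ⟨r • a, ?_⟩
      show (1 : R ⧸ I) ⊗ₜ[R] (r • a) = _
      rw [← TensorProduct.smul_tmul, ← Ideal.Quotient.algebraMap_eq, Algebra.smul_def, mul_one]
  have hker : IsNilpotent (RingHom.ker (g : A →+* (R ⧸ I) ⊗[R] A)) := by
    have hle : RingHom.ker (g : A →+* (R ⧸ I) ⊗[R] A) ≤ Ideal.map (algebraMap R A) I := by
      intro x hx
      rw [mem_map_iff_mem_nS]
      exact (tmul_eq_zero_iff R I x).mp hx
    obtain ⟨n, hn⟩ := hI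
    refine ⟨n, ?_⟩
    have := Ideal.pow_right_mono hle n
    rw [← Ideal.map_pow, hn] at this
    simpa using this
  let ψ₀ : C →ₐ[R] A := Algebra.FormallySmooth.liftOfSurjective f g hg hker
  have hψ₀ : ∀ c, (1 : R ⧸ I) ⊗ₜ[R] ψ₀ c = φ₀ ((1 : R ⧸ I) ⊗ₜ[R] c) := fun c =>
    Algebra.FormallySmooth.liftOfSurjective_apply f g hg hker c
  -- `ψ₀` is a homomorphism modulo `I`
  have h₀ : ValIn I (defect (lin (toConv ψ₀))) := by
    intro c
    rw [defect_apply]
    show _ ∈ I • (⊤ : Submodule R (A ⊗[R] A))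
    rw [← tmul_eq_zero_iff]
    apply (TensorProduct.AlgebraTensorModule.distribBaseChange R (R ⧸ I) A A).injective
    rw [map_zero]
    have hσ : ∀ y : A ⊗[R] A,
        TensorProduct.AlgebraTensorModule.distribBaseChange R (R ⧸ I) A A ((1 : R ⧸ I) ⊗ₜ[R] y) =
        semiMap R (R ⧸ I)
          (Algebra.TensorProduct.includeRight : A →ₐ[R] (R ⧸ I) ⊗[R] A).toLinearMap y := by
      intro y
      induction y using TensorProduct.induction_on with
      | zero => simp
      | add x y hx hy => simp only [tmul_add, map_add, hx, hy]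
      | tmul a b => simp
    rw [hσ, map_sub]
    have hA := isSemiCoalg_includeRight R (R ⧸ I) A
    have hC := isSemiCoalg_includeRight R (R ⧸ I) C
    rw [← hA.comul]
    simp only [lin_apply, ofConv_toConv, Algebra.TensorProduct.includeRight_apply]
    rw [hψ₀, ← CoalgHomClass.map_comp_comul_apply φ₀, ← Algebra.TensorProduct.includeRight_apply
      (R := R) (A := R ⧸ I) (B := C), hC.comul]
    have key : ∀ y : C ⊗[R] C,
        TensorProduct.map (φ₀ : ((R ⧸ I) ⊗[R] C) →ₗ[R ⧸ I] ((R ⧸ I) ⊗[R] A))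
          (φ₀ : ((R ⧸ I) ⊗[R] C) →ₗ[R ⧸ I] ((R ⧸ I) ⊗[R] A))
          (semiMap R (R ⧸ I)
            (Algebra.TensorProduct.includeRight : C →ₐ[R] (R ⧸ I) ⊗[R] C).toLinearMap y) =
        semiMap R (R ⧸ I)
          (Algebra.TensorProduct.includeRight : A →ₐ[R] (R ⧸ I) ⊗[R] A).toLinearMap
          (TensorProduct.map (lin (toConv ψ₀)).ofConv (lin (toConv ψ₀)).ofConv y) := by
      intro y
      induction y using TensorProduct.induction_on with
      | zero => simp
      | add x y hx hy => simp only [map_add, hx, hy]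
      | tmul a b => simp [hψ₀]
    rw [key, sub_self]
  obtain ⟨ψ, hψ, hψ0⟩ := iterate hl hI ψ₀ h₀
  obtain ⟨φ, hφ⟩ := exists_bialgHom_of_defect_eq_zero ψ hψ
  refine ⟨φ, fun c => ?_⟩
  rw [hφ, ← hψ₀]
  have := (tmul_eq_zero_iff R I (ψ c - ψ₀ c)).mpr (hψ0 c)
  rw [TensorProduct.tmul_sub, sub_eq_zero] at this
  exact this.symm

end main

end Groth.Agent.Helper7.MTAvg
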