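import Mathlib
import Groth.Agent.Helper7.MTAvgJ

/-! Generalities for the algebraization step: splitting of finite projective faithfully flat
algebras, limits along the `I`-adic tower, coefficients of tensors with a group algebra. -/

open TensorProduct

namespace Groth.Agent.Helper7.MTAvg

section split

variable {R : Type*} [CommRing R] {R' : Type*} [CommRing R'] [Algebra R R']

theorem exists_split [Module.Finite R R'] [Module.Projective R R'] [Module.FaithfullyFlat R R'] :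
    ∃ s : R' →ₗ[R] R, s 1 = 1 := by
  obtain ⟨n, f, g, hf, hg, hfg⟩ := Module.Finite.exists_comp_eq_id_of_projective R R'
  let I₁ : Ideal R := LinearMap.range (LinearMap.applyₗ (1 : R') : (R' →ₗ[R] R) →ₗ[R] R)
  have hmem : ∀ s : R' →ₗ[R] R, s 1 ∈ I₁ := fun s => ⟨s, rfl⟩
  have h1 : (1 : R') ∈ Ideal.map (algebraMap R R') I₁ := by
    have e : (1 : R') = ∑ i, (g 1 i) • f (Pi.single i 1) := by
      have h0 := congrArg (fun φ => φ 1) hfg
      simp only [LinearMap.comp_apply, LinearMap.id_apply] at h0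
      conv_lhs => rw [← h0, LinearMap.pi_apply_eq_sum_univ f (g 1)]
      refine Finset.sum_congr rfl fun i _ => ?_
      congr 2
      funext j
      simp [Pi.single_apply, eq_comm]
    rw [e]
    refine Ideal.sum_mem _ fun i _ => ?_
    rw [Algebra.smul_def]
    refine Ideal.mul_mem_right _ _ (Ideal.mem_map_of_mem _ ?_)
    exact hmem (LinearMap.proj i ∘ₗ g)
  have h2 : Ideal.map (algebraMap R R') I₁ = ⊤ := (Ideal.eq_top_iff_one _).mpr h1
  have h3 := Ideal.comap_map_eq_self_of_faithfullyFlat (B := R') I₁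
  rw [h2, Ideal.comap_top] at h3
  have : (1 : R) ∈ I₁ := by rw [← h3]; exact Submodule.mem_top
  obtain ⟨s, hs⟩ := this
  exact ⟨s, hs⟩

end split

section tower

variable {R : Type*} [CommRing R] (I : Ideal R)

/-- the transition map `R ⧸ I^(m+2) → R ⧸ I^(m+1)` -/
noncomputable def tr (m : ℕ) : (R ⧸ I ^ (m + 1 + 1)) →ₐ[R] (R ⧸ I ^ (m + 1)) :=
  Ideal.Quotient.factorₐ R (Ideal.pow_le_pow_right (Nat.le_succ (m + 1)))

lemma tr_mk (m : ℕ) (r : R) :
    tr I m (Ideal.Quotient.mk (I ^ (m + 1 + 1)) r) = Ideal.Quotient.mk (I ^ (m + 1)) r := rfl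

variable {N : Type*} [AddCommGroup N] [Module R N]

theorem exists_limit [IsAdicComplete I N] (x : ∀ m, (R ⧸ I ^ (m + 1)) ⊗[R] N)
    (hx : ∀ m, (tr I m).toLinearMap.rTensor N (x (m + 1)) = x m) :
    ∃ y : N, ∀ m, (1 : R ⧸ I ^ (m + 1)) ⊗ₜ[R] y = x m := by
  have hsurj : ∀ m (z : (R ⧸ I ^ (m + 1)) ⊗[R] N), ∃ y : N, (1 : R ⧸ I ^ (m + 1)) ⊗ₜ[R] y = z := by
    intro m z
    induction z using TensorProduct.induction_on with
    | zero => exact ⟨0, by simp⟩
    | add a b ha hb =>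
      obtain ⟨ya, rfl⟩ := ha
      obtain ⟨yb, rfl⟩ := hb
      exact ⟨ya + yb, by rw [tmul_add]⟩
    | tmul q n =>
      obtain ⟨r, rfl⟩ := Ideal.Quotient.mk_surjective q
      refine ⟨r • n, ?_⟩
      rw [← TensorProduct.smul_tmul, ← Ideal.Quotient.algebraMap_eq, Algebra.smul_def, mul_one]
  choose y hy using fun m => hsurj m (x m)
  -- consecutive compatibility
  have hstep : ∀ m, y (m + 1) - y m ∈ I ^ (m + 1) • (⊤ : Submodule R N) := by
    intro m
    rw [← tmul_eq_zero_iff R (I ^ (m + 1)), tmul_sub, sub_eq_zero, hy m, ← hx m, ← hy (m + 1)]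
    simp
  have hle : ∀ m k, y (m + k) - y m ∈ I ^ (m + 1) • (⊤ : Submodule R N) := by
    intro m k
    induction k with
    | zero => simp
    | succ k ih =>
      have h1 := hstep (m + k)
      have h2 : I ^ (m + k + 1) • (⊤ : Submodule R N) ≤ I ^ (m + 1) • ⊤ :=
        Submodule.smul_mono (Ideal.pow_le_pow_right (by omega)) le_rfl
      have : y (m + (k + 1)) - y m = (y (m + k + 1) - y (m + k)) + (y (m + k) - y m) := by
        rw [← add_assoc]; abel
      rw [this]
      exact Submodule.add_mem _ (h2 h1) ih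
  have hcauchy : ∀ {m n}, m ≤ n → y m ≡ y n [SMOD (I ^ m • ⊤ : Submodule R N)] := by
    intro m n hmn
    obtain ⟨k, rfl⟩ := Nat.exists_eq_add_of_le hmn
    rw [SModEq.sub_mem]
    have := hle m k
    have h2 : I ^ (m + 1) • (⊤ : Submodule R N) ≤ I ^ m • ⊤ :=
      Submodule.smul_mono (Ideal.pow_le_pow_right (by omega)) le_rfl
    have h3 := h2 this
    rw [← Submodule.neg_mem_iff] at h3
    simpa using h3
  obtain ⟨L, hL⟩ := IsPrecomplete.prec' (I := I) y hcauchy
  refine ⟨L, fun m => ?_⟩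
  rw [← hy m]
  have h1 := hL (m + 1)
  rw [SModEq.sub_mem] at h1
  have h2 := hstep m
  have h3 : y m - L ∈ I ^ (m + 1) • (⊤ : Submodule R N) := by
    have : y m - L = (y (m + 1) - L) - (y (m + 1) - y m) := by abel
    rw [this]
    exact Submodule.sub_mem _ h1 h2
  have h4 := (tmul_eq_zero_iff R (I ^ (m + 1)) (y m - L)).mpr h3
  rw [tmul_sub, sub_eq_zero] at h4
  exact h4.symm

theorem eq_of_forall_tmul_eq [IsHausdorff I N] (y y' : N)
    (h : ∀ m, (1 : R ⧸ I ^ (m + 1)) ⊗ₜ[R] y = (1 : R ⧸ I ^ (m + 1)) ⊗ₜ[R] y') : y = y' := by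
  rw [← sub_eq_zero]
  apply IsHausdorff.haus' (I := I)
  intro n
  rw [SModEq.zero]
  have h1 : (1 : R ⧸ I ^ (n + 1)) ⊗ₜ[R] (y - y') = 0 := by rw [tmul_sub, h n, sub_self]
  have h2 := (tmul_eq_zero_iff R (I ^ (n + 1)) (y - y')).mp h1
  exact Submodule.smul_mono (Ideal.pow_le_pow_right (Nat.le_succ n)) le_rfl h2

end tower

end Groth.Agent.Helper7.MTAvg
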