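import Mathlib
import Groth.Prelude.Def_HopfRep
import Groth.Agent.Helper2.ComodSerre

/-! Abstract algebraization: a family of orthogonal idempotent functionals on a flat coalgebra
over a Noetherian ring, almost all of which vanish modulo `I ⊆ rad`, has pointwise finite
support. -/

open TensorProduct WithConv Coalgebra

namespace Groth.Agent.Helper7.MTAvg

universe u

section ops

variable {R : Type*} [CommRing R] {C : Type*} [AddCommGroup C] [Module R C] [Coalgebra R C]
variable {R' : Type*} [CommRing R'] [Algebra R R']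

/-- right translation by a functional: `c ↦ ∑ f(c₂) ⊗ c₁` -/
noncomputable def P (f : C →ₗ[R] R') : C →ₗ[R] R' ⊗[R] C :=
  (TensorProduct.comm R C R').toLinearMap ∘ₗ f.lTensor C ∘ₗ Coalgebra.comul

/-- its `R'`-linear extension -/
noncomputable def T (f : C →ₗ[R] R') : R' ⊗[R] C →ₗ[R'] R' ⊗[R] C :=
  LinearMap.liftBaseChange R' (P f)

@[simp] lemma T_tmul (f : C →ₗ[R] R') (r : R') (c : C) : T f (r ⊗ₜ[R] c) = r • P f c := by
  simp [T]

/-- auxiliary map `a ⊗ (b₁ ⊗ b₂) ↦ (f b₁ * g b₂) ⊗ a` -/
noncomputable def Lam (f g : C →ₗ[R] R') : C ⊗[R] (C ⊗[R] C) →ₗ[R] R' ⊗[R] C :=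
  (TensorProduct.comm R C R').toLinearMap ∘ₗ
    (LinearMap.mul' R R' ∘ₗ TensorProduct.map f g).lTensor C

lemma P_mul (f g : C →ₗ[R] R') (c : C) :
    P (toConv f * toConv g).ofConv c =
      Lam f g ((Coalgebra.comul (R := R) (A := C)).lTensor C (Coalgebra.comul (R := R) c)) := by
  simp only [P, Lam, LinearMap.comp_apply, LinearMap.convMul_def, ofConv_toConv]
  congr 1
  rw [← LinearMap.lTensor_comp_apply]
  rfl

lemma T_P (f g : C →ₗ[R] R') (c : C) :
    T f (P g c) = P (toConv f * toConv g).ofConv c := by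
  rw [P_mul, ← Coalgebra.coassoc_apply]
  have aux2 : ∀ (z : C ⊗[R] C) (b : C), g b • (TensorProduct.comm R C R') (f.lTensor C z) =
      Lam f g (TensorProduct.assoc R C C C (z ⊗ₜ[R] b)) := by
    intro z b
    induction z using TensorProduct.induction_on with
    | zero => simp
    | add x y hx hy => simp only [map_add, smul_add, add_tmul, hx, hy]
    | tmul a₁ a₂ =>
      simp [Lam, TensorProduct.smul_tmul', mul_comm]
  have aux1 : ∀ y : C ⊗[R] C, T f ((TensorProduct.comm R C R') (g.lTensor C y)) =
      Lam f g (TensorProduct.assoc R C C C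
        ((Coalgebra.comul (R := R) (A := C)).rTensor C y)) := by
    intro y
    induction y using TensorProduct.induction_on with
    | zero => simp
    | add x y hx hy => simp only [map_add, hx, hy]
    | tmul a b =>
      simp only [LinearMap.lTensor_tmul, TensorProduct.comm_tmul, T_tmul, LinearMap.rTensor_tmul]
      rw [← aux2]
      rfl
  exact aux1 _

lemma T_comp (f g : C →ₗ[R] R') : T f ∘ₗ T g = T (toConv f * toConv g).ofConv := by
  apply TensorProduct.AlgebraTensorModule.curry_injective
  refine LinearMap.ext fun r => LinearMap.ext fun c => ?_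
  simp only [TensorProduct.AlgebraTensorModule.curry_apply, LinearMap.restrictScalars_comp,
    TensorProduct.curry_apply, LinearMap.coe_comp, LinearMap.coe_restrictScalars,
    Function.comp_apply, T_tmul, map_smul, T_P]

/-- the evaluation `r ⊗ c ↦ ε(c) r` -/
noncomputable def Ev : R' ⊗[R] C →ₗ[R'] R' :=
  (TensorProduct.AlgebraTensorModule.rid R R' R').toLinearMap ∘ₗ
    (Coalgebra.counit (R := R) (A := C)).baseChange R'

lemma Ev_P (f : C →ₗ[R] R') (c : C) : Ev (P f c) = f c := by
  have aux : ∀ y : C ⊗[R] C, Ev ((TensorProduct.comm R C R') (f.lTensor C y)) =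
      f (TensorProduct.lid R C ((Coalgebra.counit (R := R) (A := C)).rTensor C y)) := by
    intro y
    induction y using TensorProduct.induction_on with
    | zero => simp
    | add x y hx hy => simp only [map_add, hx, hy]
    | tmul a b => simp [Ev]
  simp only [P, LinearMap.comp_apply]
  erw [aux]
  rw [Coalgebra.rTensor_counit_comul]
  simp

lemma P_subtype (V : Submodule R C) (f : C →ₗ[R] R') (t : V ⊗[R] C) :
    (TensorProduct.comm R C R') (f.lTensor C (V.subtype.rTensor C t)) =
      V.subtype.lTensor R' ((TensorProduct.comm R V R') (f.lTensor V t)) := by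
  induction t using TensorProduct.induction_on with
  | zero => simp
  | add x y hx hy => simp only [map_add, hx, hy]
  | tmul a b => simp

lemma smul_lTensor {V : Type*} [AddCommGroup V] [Module R V] (g : V →ₗ[R] C) (r : R')
    (y : R' ⊗[R] V) : r • g.lTensor R' y = g.lTensor R' (r • y) := by
  induction y using TensorProduct.induction_on with
  | zero => simp
  | add x y hx hy => simp only [map_add, smul_add, hx, hy]
  | tmul a b => simp [TensorProduct.smul_tmul']

end ops

section main

variable {R : Type u} [CommRing R] [IsNoetherianRing R] {C : Type u} [AddCommGroup C]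
  [Module R C] [Coalgebra R C] [Module.Flat R C]
variable {R' : Type*} [CommRing R'] [Algebra R R'] [Module.Finite R R']

theorem finite_support {M : Type*} (I : Ideal R) (hI : I ≤ Ideal.jacobson ⊥)
    (e : M → (C →ₗ[R] R'))
    (hidem : ∀ μ, toConv (e μ) * toConv (e μ) = toConv (e μ))
    (hfin : ∀ c, {μ | e μ c ∉ I • (⊤ : Submodule R R')}.Finite) (c : C) :
    {μ | e μ c ≠ 0}.Finite := by
  classical
  obtain ⟨V, hVsub, hcV, hVfg⟩ := Groth.Agent.Helper2.ComodSerre.main (R := R) (C := C) (V := C)
    (Submodule.span R {c}) (Submodule.fg_span_singleton c)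
  have hc : c ∈ V := hcV (Submodule.mem_span_singleton_self c)
  haveI : Module.Finite R V := Module.Finite.iff_fg.2 hVfg
  obtain ⟨s, hs⟩ := hVfg
  have h1 : ∀ v : C, v ∈ V → ∃ t : V ⊗[R] C,
      V.subtype.rTensor C t = Coalgebra.comul (R := R) v := fun v hv => hVsub v hv
  have hbad : ∀ t : V ⊗[R] C, ∃ S : Finset M, ∀ μ, μ ∉ S →
      (TensorProduct.comm R V R') ((e μ).lTensor V t) ∈
        I • (⊤ : Submodule R (R' ⊗[R] V)) := by
    intro t
    induction t using TensorProduct.induction_on with
    | zero => exact ⟨∅, fun μ _ => by simp⟩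
    | tmul v c' =>
      refine ⟨(hfin c').toFinset, fun μ hμ => ?_⟩
      have h2 : e μ c' ∈ I • (⊤ : Submodule R R') := by simpa using hμ
      simp only [LinearMap.lTensor_tmul, TensorProduct.comm_tmul]
      have h3 := Submodule.mem_map_of_mem (f := (TensorProduct.mk R R' V).flip v) h2
      rw [Submodule.map_smul''] at h3
      exact Submodule.smul_mono le_rfl le_top h3
    | add x y hx hy =>
      obtain ⟨S1, h1⟩ := hx
      obtain ⟨S2, h2⟩ := hy
      refine ⟨S1 ∪ S2, fun μ hμ => ?_⟩
      simp only [Finset.mem_union, not_or] at hμ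
      simp only [map_add]
      exact Submodule.add_mem _ (h1 μ hμ.1) (h2 μ hμ.2)
  choose! t ht using h1
  choose S hS using hbad
  let S0 : Finset M := s.biUnion (fun v => S (t v))
  refine (S0.finite_toSet).subset ?_
  intro μ hμ
  by_contra hμS
  apply hμ
  have hμS' : ∀ v ∈ s, μ ∉ S (t v) := by
    intro v hv hmem
    exact hμS (Finset.mem_coe.2 (Finset.mem_biUnion.2 ⟨v, hv, hmem⟩))
  set V' : Submodule R (R' ⊗[R] C) := LinearMap.range (V.subtype.lTensor R') with hV'
  -- step A
  have hA : ∀ v ∈ V, P (e μ) v ∈ I • V' := by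
    have : V ≤ (I • V').comap (P (e μ)) := by
      rw [← hs]
      refine Submodule.span_le.2 fun v hv => ?_
      have hvV : v ∈ V := hs ▸ Submodule.subset_span hv
      show P (e μ) v ∈ I • V'
      have h4 : P (e μ) v = V.subtype.lTensor R'
          ((TensorProduct.comm R V R') ((e μ).lTensor V (t v))) := by
        rw [← P_subtype, ht v hvV]; rfl
      rw [h4]
      have h5 := Submodule.mem_map_of_mem (f := V.subtype.lTensor R') (hS (t v) μ (hμS' v hv))
      rwa [Submodule.map_smul'', Submodule.map_top] at h5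
    exact fun v hv => this hv
  -- V' is R'-stable
  have hstab : ∀ (r : R') (x : R' ⊗[R] C), x ∈ I • V' → r • x ∈ I • V' := by
    intro r x hx
    let mr : R' ⊗[R] C →ₗ[R] R' ⊗[R] C := (LinearMap.lsmul R' (R' ⊗[R] C) r).restrictScalars R
    have h6 : V'.map mr ≤ V' := by
      rintro _ ⟨_, ⟨y, rfl⟩, rfl⟩
      exact ⟨r • y, (smul_lTensor _ r y).symm⟩
    have h7 := Submodule.mem_map_of_mem (f := mr) hx
    rw [Submodule.map_smul''] at h7
    exact Submodule.smul_mono le_rfl h6 h7
  -- step B
  have hB : ∀ x ∈ V', T (e μ) x ∈ I • V' := by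
    rintro _ ⟨y, rfl⟩
    induction y using TensorProduct.induction_on with
    | zero => simp
    | add x y hx hy => simp only [map_add]; exact Submodule.add_mem _ hx hy
    | tmul r v =>
      simp only [LinearMap.lTensor_tmul, Submodule.subtype_apply, T_tmul]
      exact hstab r _ (hA v v.2)
  -- step C
  let Tμ : R' ⊗[R] C →ₗ[R] R' ⊗[R] C := (T (e μ)).restrictScalars R
  have hTT : ∀ x, T (e μ) (T (e μ) x) = T (e μ) x := by
    intro x
    have := T_comp (e μ) (e μ)
    rw [hidem μ, ofConv_toConv] at this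
    exact LinearMap.congr_fun this x
  set W : Submodule R (R' ⊗[R] C) := V'.map Tμ with hW
  have hWle : W ≤ I • W := by
    rintro _ ⟨y, hy, rfl⟩
    have h8 : Tμ y = Tμ (Tμ y) := (hTT y).symm
    rw [h8]
    have h9 := Submodule.mem_map_of_mem (f := Tμ) (hB y hy)
    rwa [Submodule.map_smul''] at h9
  have hV'fg : V'.FG := by
    rw [hV', LinearMap.range_eq_map]
    exact (Module.Finite.fg_top).map _
  have hWfg : W.FG := hV'fg.map _
  have hW0 : W = ⊥ := Submodule.eq_bot_of_le_smul_of_le_jacobson_bot I W hWfg hWle hI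
  have hcV' : (1 : R') ⊗ₜ[R] c ∈ V' := ⟨(1 : R') ⊗ₜ[R] (⟨c, hc⟩ : V), by simp⟩
  have h10 : T (e μ) ((1 : R') ⊗ₜ[R] c) ∈ W := Submodule.mem_map_of_mem (f := Tμ) hcV'
  rw [hW0, Submodule.mem_bot, T_tmul, one_smul] at h10
  rw [← Ev_P (e μ) c, h10, map_zero]

end main

end Groth.Agent.Helper7.MTAvg
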