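import Mathlib
import Groth.Prelude.Def_SGA3b
import Groth.Agent.Helper2.MultTypeSemi
import Groth.Agent.Helper7.MTAvgA
import Groth.Agent.Helper7.MTAvgB

/-! Direct chart of a Hopf algebra diagonalised by a single cover, and its integral. -/

open TensorProduct Groth.Agent.Helper2.MultTypeSemi

namespace Groth.Agent.Helper7.MTAvg

section dchart
variable (R : Type*) [CommRing R] (B : Type*) [CommRing B] [Bialgebra R B]
variable (R' : Type*) [CommRing R'] [Algebra R R'] (M : Type*) [CommGroup M]
variable (e : R' ⊗[R] B ≃ₐc[R'] MonoidAlgebra R' M)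

/-- the chart `B → R'[M]` -/
noncomputable def dchart : B →ₐ[R] MonoidAlgebra R' M :=
  ((e.toBialgHom : R' ⊗[R] B →ₐ[R'] MonoidAlgebra R' M).restrictScalars R).comp
    (Algebra.TensorProduct.includeRight : B →ₐ[R] R' ⊗[R] B)

lemma dchart_apply (b : B) : dchart R B R' M e b = e ((1 : R') ⊗ₜ[R] b) := rfl

lemma dchart_isSemiCoalg : IsSemiCoalg R R' (dchart R B R' M e) :=
  (isSemiCoalg_includeRight R R' B).comp R R' R' (isSemiCoalg_bialgHom R' e.toBialgHom)

lemma e_tmul (r : R') (b : B) : e (r ⊗ₜ[R] b) = r • dchart R B R' M e b := by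
  have : r ⊗ₜ[R] b = r • ((1 : R') ⊗ₜ[R] b) := by
    rw [TensorProduct.smul_tmul', smul_eq_mul, mul_one]
  rw [this, map_smul]
  rfl

lemma dchart_injective [Module.FaithfullyFlat R R'] :
    Function.Injective (dchart R B R' M e) := by
  intro x y h
  apply Module.FaithfullyFlat.tensorProduct_mk_injective (A := R) (B := R') B
  exact e.injective h

/-- the chart integral -/
noncomputable def dInt : B →ₗ[R] R' := cmp (dchart R B R' M e) 1

lemma dInt_apply (b : B) : dInt R B R' M e b = (dchart R B R' M e b).coeff 1 := rfl

theorem dInt_isIntV : IsIntV R B R' (dInt R B R' M e) := by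
  classical
  have hθ := dchart_isSemiCoalg R B R' M e
  let E : R' ⊗[R] B ≃ₗ[R'] MonoidAlgebra R' M := e.toLinearEquiv
  have hE : ∀ (r : R') (b : B), E (r ⊗ₜ[R] b) = r • dchart R B R' M e b := e_tmul R B R' M e
  refine ⟨?_, fun a => ?_, fun a => ?_⟩
  · have h1 : dchart R B R' M e 1 = 1 := map_one _
    rw [dInt_apply, h1, MonoidAlgebra.one_def]
    simp
  · apply E.injective
    have aux : ∀ y : B ⊗[R] B, E ((dInt R B R' M e).rTensor B y) =
        TensorProduct.lid R' _ ((cf (R' := R') (1 : M)).rTensor (MonoidAlgebra R' M)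
          (semiMap R R' (dchart R B R' M e).toLinearMap y)) := by
      intro y
      induction y using TensorProduct.induction_on with
      | zero => simp
      | add x y hx hy => simp only [map_add, hx, hy]
      | tmul a b =>
        simp only [LinearMap.rTensor_tmul, hE, semiMap_tmul, AlgHom.toLinearMap_apply,
          TensorProduct.lid_tmul, dInt_apply, cf_apply]
    rw [aux, ← hθ.comul, cf_one_left, hE, map_one, dInt_apply, cf_apply]
  · have aux : ∀ y : B ⊗[R] B, E
        (TensorProduct.comm R B R' ((dInt R B R' M e).lTensor B y)) =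
        TensorProduct.rid R' _ ((cf (R' := R') (1 : M)).lTensor (MonoidAlgebra R' M)
          (semiMap R R' (dchart R B R' M e).toLinearMap y)) := by
      intro y
      induction y using TensorProduct.induction_on with
      | zero => simp
      | add x y hx hy => simp only [map_add, hx, hy]
      | tmul a b =>
        simp only [LinearMap.lTensor_tmul, TensorProduct.comm_tmul, hE, semiMap_tmul,
          AlgHom.toLinearMap_apply, TensorProduct.rid_tmul, dInt_apply, cf_apply]
    apply (TensorProduct.comm R B R').injective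
    apply E.injective
    rw [aux, ← hθ.comul, cf_one_right, TensorProduct.comm_tmul, hE, map_one,
      dInt_apply, cf_apply]

include e in
theorem exists_integral_of_cover [Module.FaithfullyFlat R R'] :
    ∃ l : B →ₗ[R] R, IsIntV R B R l := by
  obtain ⟨l, hl, -⟩ := (dInt_isIntV R B R' M e).descent
  exact ⟨l, hl⟩

end dchart

end Groth.Agent.Helper7.MTAvg
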