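import Mathlib
import Groth.Prelude.Def_SGA3b
import Groth.Agent.Helper2.MultTypeSemi
import Groth.Agent.Helper7.MTAvgA
import Groth.Agent.Helper7.MTAvgB

open TensorProduct WithConv Groth.Agent.Helper2.MultTypeSemi

namespace Groth.Agent.Helper7.MTAvg

section semimul
variable {R : Type*} [CommRing R] (S : Type*) [CommRing S] [Algebra R S]
variable {B : Type*} [CommRing B] [Bialgebra R B] {C : Type*} [CommRing C] [Bialgebra R C]
variable {R' : Type*} [CommRing R'] [Algebra R R']

/-- pull back a functional on `B` along a map `C → S ⊗ B` -/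
noncomputable def pb (ψ : C →ₐ[R] S ⊗[R] B) (k : B →ₗ[R] R') : C →ₗ[R] S ⊗[R] R' :=
  k.lTensor S ∘ₗ ψ.toLinearMap

lemma pb_apply (ψ : C →ₐ[R] S ⊗[R] B) (k : B →ₗ[R] R') (c : C) :
    pb S ψ k c = k.lTensor S (ψ c) := rfl

lemma pb_mul {ψ : C →ₐ[R] S ⊗[R] B} (hψ : IsSemiCoalg R S ψ) (k₁ k₂ : B →ₗ[R] R') :
    toConv (pb S ψ k₁) * toConv (pb S ψ k₂) =
      toConv (pb S ψ (toConv k₁ * toConv k₂).ofConv) := by
  ext c
  rw [LinearMap.convMul_apply]
  let Φ : (S ⊗[R] B) ⊗[S] (S ⊗[R] B) →ₗ[S] S ⊗[R] R' :=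
    LinearMap.mul' S (S ⊗[R] R') ∘ₗ TensorProduct.map (k₁.baseChange S) (k₂.baseChange S)
  have h1 : ∀ t : C ⊗[R] C, LinearMap.mul' R (S ⊗[R] R')
      (TensorProduct.map (pb S ψ k₁) (pb S ψ k₂) t) = Φ (semiMap R S ψ.toLinearMap t) := by
    intro t
    induction t using TensorProduct.induction_on with
    | zero => simp
    | add x y hx hy => simp only [map_add, hx, hy]
    | tmul x y => rfl
  have h3 : ∀ t : B ⊗[R] B, Φ (semiMap R S
      (Algebra.TensorProduct.includeRight : B →ₐ[R] S ⊗[R] B).toLinearMap t) =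
      (1 : S) ⊗ₜ[R] LinearMap.mul' R R' (TensorProduct.map k₁ k₂ t) := by
    intro t
    induction t using TensorProduct.induction_on with
    | zero => simp
    | add x y hx hy => simp only [map_add, hx, hy, tmul_add]
    | tmul x y => simp [Φ]
  have h2 : ∀ y : S ⊗[R] B, Φ (Coalgebra.comul (R := S) y) =
      (toConv k₁ * toConv k₂).ofConv.lTensor S y := by
    intro y
    induction y using TensorProduct.induction_on with
    | zero => simp
    | add x y hx hy => simp only [map_add, hx, hy]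
    | tmul s b =>
      have hs : s ⊗ₜ[R] b = s • ((1 : S) ⊗ₜ[R] b) := by
        rw [TensorProduct.smul_tmul', smul_eq_mul, mul_one]
      have hB := (isSemiCoalg_includeRight R S B).comul b
      simp only [Algebra.TensorProduct.includeRight_apply] at hB
      rw [hs, map_smul, map_smul, hB, h3, ← hs, LinearMap.lTensor_tmul,
        LinearMap.convMul_apply, TensorProduct.smul_tmul', smul_eq_mul, mul_one]
  rw [h1, ← hψ.comul, h2]
  rfl

end semimul

end Groth.Agent.Helper7.MTAvg
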