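import Mathlib
import Groth.Prelude.Def_SGA3b
import Groth.Agent.Helper2.MultTypeSemi
import Groth.Agent.Helper7.MTAvgJ

/-! General form of the lifting theorem: a semi-coalgebra map `C → S̄ ⊗ A` lifts along a
surjection `R → S̄` with nilpotent kernel, given an invariant integral on `A`. -/

open TensorProduct WithConv Coalgebra Groth.Agent.Helper2.MultTypeSemi

namespace Groth.Agent.Helper7.MTAvg

section gen

variable {R : Type*} [CommRing R] (Sb : Type*) [CommRing Sb] [Algebra R Sb]

lemma tmul_eq_zero_iff' (hsurj : Function.Surjective (algebraMap R Sb))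
    {M : Type*} [AddCommGroup M] [Module R M] (x : M) :
    (1 : Sb) ⊗ₜ[R] x = 0 ↔ x ∈ RingHom.ker (algebraMap R Sb) • (⊤ : Submodule R M) := by
  set I := RingHom.ker (algebraMap R Sb) with hI
  let e : (R ⧸ I) ≃ₐ[R] Sb := Ideal.quotientKerAlgEquivOfSurjective (f := Algebra.ofId R Sb) hsurj
  let E : (R ⧸ I) ⊗[R] M ≃ₗ[R] Sb ⊗[R] M :=
    TensorProduct.congr e.toLinearEquiv (LinearEquiv.refl R M)
  have hE : E ((1 : R ⧸ I) ⊗ₜ[R] x) = (1 : Sb) ⊗ₜ[R] x := by
    simp [E]
  rw [← hE, E.map_eq_zero_iff]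
  exact tmul_eq_zero_iff R I x

variable {Sb}

theorem main_gen (hsurj : Function.Surjective (algebraMap R Sb))
    (hnil : IsNilpotent (RingHom.ker (algebraMap R Sb)))
    {A : Type*} [CommRing A] [HopfAlgebra R A] {l : A →ₗ[R] R} (hl : IsIntV R A R l)
    {C : Type*} [CommRing C] [HopfAlgebra R C] [Algebra.FormallySmooth R C]
    (ψb : C →ₐ[R] Sb ⊗[R] A) (hψb : IsSemiCoalg R Sb ψb) :
    ∃ φ : C →ₐc[R] A, ∀ c : C, ψb c = (1 : Sb) ⊗ₜ[R] (φ c) := by
  set I := RingHom.ker (algebraMap R Sb) with hI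
  let g : A →ₐ[R] Sb ⊗[R] A := Algebra.TensorProduct.includeRight
  have hg : Function.Surjective g := by
    intro z
    induction z using TensorProduct.induction_on with
    | zero => exact ⟨0, map_zero _⟩
    | add x y hx hy =>
      obtain ⟨a, rfl⟩ := hx
      obtain ⟨b, rfl⟩ := hy
      exact ⟨a + b, map_add _ _ _⟩
    | tmul r a =>
      obtain ⟨r, rfl⟩ := hsurj r
      refine ⟨r • a, ?_⟩
      show (1 : Sb) ⊗ₜ[R] (r • a) = _
      rw [← TensorProduct.smul_tmul, Algebra.smul_def, mul_one]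
  have hker : IsNilpotent (RingHom.ker (g : A →+* Sb ⊗[R] A)) := by
    have hle : RingHom.ker (g : A →+* Sb ⊗[R] A) ≤ Ideal.map (algebraMap R A) I := by
      intro x hx
      rw [mem_map_iff_mem_nS]
      exact (tmul_eq_zero_iff' Sb hsurj x).mp hx
    obtain ⟨n, hn⟩ := hnil
    refine ⟨n, ?_⟩
    have := Ideal.pow_right_mono hle n
    rw [← Ideal.map_pow, hn] at this
    simpa using this
  let ψ₀ : C →ₐ[R] A := Algebra.FormallySmooth.liftOfSurjective ψb g hg hker
  have hψ₀ : ∀ c, (1 : Sb) ⊗ₜ[R] ψ₀ c = ψb c := fun c =>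
    Algebra.FormallySmooth.liftOfSurjective_apply ψb g hg hker c
  have h₀ : ValIn I (defect (lin (toConv ψ₀))) := by
    intro c
    rw [defect_apply]
    show _ ∈ I • (⊤ : Submodule R (A ⊗[R] A))
    rw [← tmul_eq_zero_iff' Sb hsurj]
    apply (TensorProduct.AlgebraTensorModule.distribBaseChange R Sb A A).injective
    rw [map_zero]
    have hσ : ∀ y : A ⊗[R] A,
        TensorProduct.AlgebraTensorModule.distribBaseChange R Sb A A ((1 : Sb) ⊗ₜ[R] y) =
        semiMap R Sb
          (Algebra.TensorProduct.includeRight : A →ₐ[R] Sb ⊗[R] A).toLinearMap y := by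
      intro y
      induction y using TensorProduct.induction_on with
      | zero => simp
      | add x y hx hy => simp only [tmul_add, map_add, hx, hy]
      | tmul a b => simp
    rw [hσ, map_sub]
    have hA := isSemiCoalg_includeRight R Sb A
    rw [← hA.comul]
    simp only [lin_apply, Algebra.TensorProduct.includeRight_apply]
    rw [hψ₀, hψb.comul]
    have key : ∀ y : C ⊗[R] C,
        semiMap R Sb ψb.toLinearMap y =
        semiMap R Sb
          (Algebra.TensorProduct.includeRight : A →ₐ[R] Sb ⊗[R] A).toLinearMap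
          (TensorProduct.map (lin (toConv ψ₀)).ofConv (lin (toConv ψ₀)).ofConv y) := by
      intro y
      induction y using TensorProduct.induction_on with
      | zero => simp
      | add x y hx hy => simp only [map_add, hx, hy]
      | tmul a b => simp [hψ₀]
    rw [key, sub_self]
  obtain ⟨ψ, hψ, hψ0⟩ := iterate hl hnil ψ₀ h₀
  obtain ⟨φ, hφ⟩ := exists_bialgHom_of_defect_eq_zero ψ hψ
  refine ⟨φ, fun c => ?_⟩
  rw [hφ, ← hψ₀]
  have := (tmul_eq_zero_iff' Sb hsurj (ψ c - ψ₀ c)).mpr (hψ0 c)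
  rw [TensorProduct.tmul_sub, sub_eq_zero] at this
  exact this.symm

end gen

end Groth.Agent.Helper7.MTAvg
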