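import Mathlib
import Groth.Agent.Helper2.MultTypeSemi
import Groth.Agent.Helper7.MTAvgA

/-! Base change of an invariant integral. -/

open TensorProduct Groth.Agent.Helper2.MultTypeSemi

namespace Groth.Agent.Helper7.MTAvg

section bc

variable {R : Type*} [CommRing R] (S : Type*) [CommRing S] [Algebra R S]
variable {A : Type*} [CommRing A] [HopfAlgebra R A] (l : A →ₗ[R] R)

/-- base change of a functional `A → R` to `S ⊗ A → S` -/
noncomputable def lBC : S ⊗[R] A →ₗ[S] S :=
  (TensorProduct.AlgebraTensorModule.rid R S S).toLinearMap ∘ₗ l.baseChange S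

@[simp] lemma lBC_tmul (s : S) (a : A) : lBC S l (s ⊗ₜ[R] a) = l a • s := by
  simp [lBC]

variable {l}

theorem isIntV_lBC (hl : IsIntV R A R l) : IsIntV S (S ⊗[R] A) S (lBC S l) := by
  have hA := isSemiCoalg_includeRight R S A
  have hcomul : ∀ a : A, Coalgebra.comul (R := S) ((1 : S) ⊗ₜ[R] a) =
      semiMap R S (Algebra.TensorProduct.includeRight : A →ₐ[R] S ⊗[R] A).toLinearMap
        (Coalgebra.comul (R := R) a) := hA.comul
  refine ⟨?_, fun x => ?_, fun x => ?_⟩
  · rw [Algebra.TensorProduct.one_def, lBC_tmul, hl.one, one_smul]
  · apply (TensorProduct.lid S (S ⊗[R] A)).injective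
    induction x using TensorProduct.induction_on with
    | zero => simp
    | add x y hx hy => simp only [map_add, hx, hy, add_tmul]
    | tmul s a =>
      have hs : s ⊗ₜ[R] a = s • ((1 : S) ⊗ₜ[R] a) := by
        rw [TensorProduct.smul_tmul', smul_eq_mul, mul_one]
      have h2 : ∀ y : A ⊗[R] A, TensorProduct.lid S (S ⊗[R] A) ((lBC S l).rTensor (S ⊗[R] A)
          (semiMap R S (Algebra.TensorProduct.includeRight : A →ₐ[R] S ⊗[R] A).toLinearMap y)) =
          (1 : S) ⊗ₜ[R] (TensorProduct.lid R A (l.rTensor A y)) := by
        intro y
        induction y using TensorProduct.induction_on with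
        | zero => simp
        | add x y hx hy => simp only [map_add, hx, hy, tmul_add]
        | tmul a₁ a₂ =>
          simp only [semiMap_tmul, AlgHom.toLinearMap_apply,
            Algebra.TensorProduct.includeRight_apply, LinearMap.rTensor_tmul, lBC_tmul,
            TensorProduct.lid_tmul]
          rw [TensorProduct.smul_tmul', TensorProduct.tmul_smul, smul_assoc, one_smul,
            TensorProduct.smul_tmul']
      rw [hs, map_smul, map_smul, map_smul, hcomul, h2, hl.left, map_smul, TensorProduct.lid_tmul,
        smul_eq_mul, TensorProduct.smul_tmul', TensorProduct.lid_tmul]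
      simp only [lBC_tmul, smul_eq_mul, mul_one, TensorProduct.tmul_smul,
        Algebra.TensorProduct.one_def, TensorProduct.smul_tmul']
      congr 1
      rw [Algebra.smul_def, Algebra.smul_def, mul_one, mul_comm]
  · apply (TensorProduct.rid S (S ⊗[R] A)).injective
    induction x using TensorProduct.induction_on with
    | zero => simp
    | add x y hx hy => simp only [map_add, hx, hy, tmul_add]
    | tmul s a =>
      have hs : s ⊗ₜ[R] a = s • ((1 : S) ⊗ₜ[R] a) := by
        rw [TensorProduct.smul_tmul', smul_eq_mul, mul_one]
      have h2 : ∀ y : A ⊗[R] A, TensorProduct.rid S (S ⊗[R] A) ((lBC S l).lTensor (S ⊗[R] A)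
          (semiMap R S (Algebra.TensorProduct.includeRight : A →ₐ[R] S ⊗[R] A).toLinearMap y)) =
          (1 : S) ⊗ₜ[R] (TensorProduct.rid R A (l.lTensor A y)) := by
        intro y
        induction y using TensorProduct.induction_on with
        | zero => simp
        | add x y hx hy => simp only [map_add, hx, hy, tmul_add]
        | tmul a₁ a₂ =>
          simp only [semiMap_tmul, AlgHom.toLinearMap_apply,
            Algebra.TensorProduct.includeRight_apply, LinearMap.lTensor_tmul, lBC_tmul,
            TensorProduct.rid_tmul]
          rw [TensorProduct.smul_tmul', TensorProduct.tmul_smul, smul_assoc, one_smul,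
            TensorProduct.smul_tmul']
      rw [hs, map_smul, map_smul, map_smul, hcomul, h2, hl.right, map_smul, TensorProduct.rid_tmul,
        smul_eq_mul, TensorProduct.tmul_smul, TensorProduct.rid_tmul]
      simp only [lBC_tmul, smul_eq_mul, mul_one, TensorProduct.tmul_smul,
        Algebra.TensorProduct.one_def, TensorProduct.smul_tmul', smul_assoc, one_smul]

end bc

end Groth.Agent.Helper7.MTAvg
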