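import Mathlib
import Groth.Agent.Helper2.MultTypeSemi
import Groth.Agent.Helper7.MTAvgN
import Groth.Agent.Helper7.MTAvgO

/-! Lifting semi-coalgebra maps one step up a tower `S → S̄` of base changes. -/

open TensorProduct Groth.Agent.Helper2.MultTypeSemi

namespace Groth.Agent.Helper7.MTAvg

section restrict

variable (R S T : Type*) [CommRing R] [CommRing S] [CommRing T] [Algebra R S] [Algebra S T]
  [Algebra R T] [IsScalarTower R S T]
variable {C : Type*} [CommRing C] [Bialgebra R C]
variable {D : Type*} [CommRing D] [Bialgebra T D] [Algebra S D] [IsScalarTower S T D]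
  [Algebra R D] [IsScalarTower R T D] [IsScalarTower R S D]

lemma semiCoalg_of_restrict (Ψ : S ⊗[R] C →ₐ[S] D)
    (h : IsSemiCoalg R T ((Ψ.restrictScalars R).comp
      (Algebra.TensorProduct.includeRight : C →ₐ[R] S ⊗[R] C))) :
    IsSemiCoalg S T Ψ := by
  have hC := isSemiCoalg_includeRight R S C
  have hs : ∀ (s : S) (c : C), s ⊗ₜ[R] c = s • ((1 : S) ⊗ₜ[R] c) := by
    intro s c
    rw [TensorProduct.smul_tmul', smul_eq_mul, mul_one]
  constructor
  · intro x
    induction x using TensorProduct.induction_on with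
    | zero => simp
    | add x y hx hy => simp only [map_add, hx, hy]
    | tmul s c =>
      have h1 := h.counit c
      simp only [AlgHom.coe_comp, AlgHom.coe_restrictScalars', Function.comp_apply,
        Algebra.TensorProduct.includeRight_apply] at h1
      have e1 : Coalgebra.counit (R := T) (Ψ (s ⊗ₜ[R] c)) =
          algebraMap S T s * Coalgebra.counit (R := T) (Ψ ((1 : S) ⊗ₜ[R] c)) := by
        rw [hs, map_smul, ← algebraMap_smul T s (Ψ ((1 : S) ⊗ₜ[R] c)), map_smul, smul_eq_mul]
      have e2 : Coalgebra.counit (R := S) (s ⊗ₜ[R] c) =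
          s * algebraMap R S (Coalgebra.counit (R := R) c) := by
        rw [hs, map_smul, smul_eq_mul]
        congr 1
        exact hC.counit c
      rw [e1, e2, h1, map_mul, ← IsScalarTower.algebraMap_apply]
  · intro x
    induction x using TensorProduct.induction_on with
    | zero => simp
    | add x y hx hy => simp only [map_add, hx, hy]
    | tmul s c =>
      have h1 := h.comul c
      simp only [AlgHom.coe_comp, AlgHom.coe_restrictScalars', Function.comp_apply,
        Algebra.TensorProduct.includeRight_apply] at h1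
      have h2 : ∀ y : C ⊗[R] C, semiMap S T Ψ.toLinearMap
          (semiMap R S (Algebra.TensorProduct.includeRight : C →ₐ[R] S ⊗[R] C).toLinearMap y) =
          semiMap R T ((Ψ.restrictScalars R).comp
            (Algebra.TensorProduct.includeRight : C →ₐ[R] S ⊗[R] C)).toLinearMap y := by
        intro y
        induction y using TensorProduct.induction_on with
        | zero => simp
        | add x y hx hy => simp only [map_add, hx, hy]
        | tmul a b => simp
      have h3 : Coalgebra.comul (R := S) ((1 : S) ⊗ₜ[R] c) =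
          semiMap R S (Algebra.TensorProduct.includeRight : C →ₐ[R] S ⊗[R] C).toLinearMap
            (Coalgebra.comul (R := R) c) := hC.comul c
      have e1 : Coalgebra.comul (R := T) (Ψ (s ⊗ₜ[R] c)) =
          algebraMap S T s • Coalgebra.comul (R := T) (Ψ ((1 : S) ⊗ₜ[R] c)) := by
        rw [hs, map_smul, ← algebraMap_smul T s (Ψ ((1 : S) ⊗ₜ[R] c)), map_smul]
      have e2 : semiMap S T Ψ.toLinearMap (Coalgebra.comul (R := S) (s ⊗ₜ[R] c)) =
          algebraMap S T s • semiMap S T Ψ.toLinearMap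
            (Coalgebra.comul (R := S) ((1 : S) ⊗ₜ[R] c)) := by
        rw [hs, map_smul, map_smul, algebraMap_smul]
      rw [e1, e2, h3, h2, ← h1]

end restrict

section tower

variable {R : Type*} [CommRing R] (S Sb : Type*) [CommRing S] [CommRing Sb] [Algebra R S]
  [Algebra R Sb] [Algebra S Sb] [IsScalarTower R S Sb]

theorem tower_step (hsurj : Function.Surjective (algebraMap S Sb))
    (hnil : IsNilpotent (RingHom.ker (algebraMap S Sb)))
    {A : Type*} [CommRing A] [HopfAlgebra R A] {l : A →ₗ[R] R} (hl : IsIntV R A R l)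
    {C : Type*} [CommRing C] [HopfAlgebra R C] [Algebra.FormallySmooth R C]
    (ψb : C →ₐ[R] Sb ⊗[R] A) (hψb : IsSemiCoalg R Sb ψb) :
    ∃ ψ : C →ₐ[R] S ⊗[R] A, IsSemiCoalg R S ψ ∧
      ∀ c, Algebra.TensorProduct.map (IsScalarTower.toAlgHom R S Sb) (AlgHom.id R A) (ψ c) =
        ψb c := by
  let θ : Sb ⊗[R] A ≃ₐ[Sb] Sb ⊗[S] (S ⊗[R] A) :=
    (Algebra.TensorProduct.cancelBaseChange R S Sb Sb A).symm
  have hθ : IsSemiCoalg Sb Sb (θ : Sb ⊗[R] A →ₐ[Sb] Sb ⊗[S] (S ⊗[R] A)) := by
    apply semiCoalg_of_restrict R Sb Sb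
    have h1 := isSemiCoalg_includeRight R S A
    have h2 := isSemiCoalg_includeRight S Sb (S ⊗[R] A)
    have h12 := h1.comp R S Sb h2
    convert h12 using 1
    ext a
    simp [θ]
  let Ψ₀ : S ⊗[R] C →ₐ[S] Sb ⊗[R] A :=
    Algebra.TensorProduct.lift (Algebra.ofId S (Sb ⊗[R] A)) ψb (fun _ _ => Commute.all _ _)
  let Ψb : S ⊗[R] C →ₐ[S] Sb ⊗[S] (S ⊗[R] A) :=
    ((θ : Sb ⊗[R] A →ₐ[Sb] Sb ⊗[S] (S ⊗[R] A)).restrictScalars S).comp Ψ₀
  have hΨb1 : ∀ c, Ψb ((1 : S) ⊗ₜ[R] c) = θ (ψb c) := by
    intro c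
    simp [Ψb, Ψ₀, ← Algebra.TensorProduct.one_def]
  have hΨb : IsSemiCoalg S Sb Ψb := by
    apply semiCoalg_of_restrict R S Sb
    have h12 := hψb.comp R Sb Sb hθ
    convert h12 using 1
    ext c
    simp [hΨb1]
  obtain ⟨Φ, hΦ⟩ := main_gen (R := S) (Sb := Sb) hsurj hnil (isIntV_lBC S hl) Ψb hΨb
  let ψ : C →ₐ[R] S ⊗[R] A :=
    ((Φ : S ⊗[R] C →ₐ[S] S ⊗[R] A).restrictScalars R).comp
      (Algebra.TensorProduct.includeRight : C →ₐ[R] S ⊗[R] C)
  refine ⟨ψ, ?_, fun c => ?_⟩
  · exact (isSemiCoalg_includeRight R S C).comp R S S (isSemiCoalg_bialgHom S Φ)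
  · have h1 : θ (ψb c) = (1 : Sb) ⊗ₜ[S] ψ c := by
      rw [← hΨb1, hΦ]
      rfl
    have h2 : ∀ z : S ⊗[R] A, Algebra.TensorProduct.cancelBaseChange R S Sb Sb A
        ((1 : Sb) ⊗ₜ[S] z) =
        Algebra.TensorProduct.map (IsScalarTower.toAlgHom R S Sb) (AlgHom.id R A) z := by
      intro z
      induction z using TensorProduct.induction_on with
      | zero => simp
      | add x y hx hy => simp only [tmul_add, map_add, hx, hy]
      | tmul s a => simp [Algebra.smul_def]
    rw [← h2, ← h1]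
    simp [θ]

end tower

end Groth.Agent.Helper7.MTAvg
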