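import Mathlib
import Groth.Prelude.Def_SGA3b
import Groth.Agent.Helper2.MultTypeSemi
import Groth.Agent.Helper7.MTAvgP
import Groth.Agent.Helper7.MTAvgQ

open TensorProduct WithConv Groth.Agent.Helper2.MultTypeSemi

namespace Groth.Agent.Helper7.MTAvg

section limmap
variable {R : Type*} [CommRing R] (I : Ideal R)
variable {C : Type*} [AddCommGroup C] [Module R C] {N : Type*} [AddCommGroup N] [Module R N]

theorem exists_limit_map [IsAdicComplete I N]
    (f : ∀ m, C →ₗ[R] (R ⧸ I ^ (m + 1)) ⊗[R] N)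
    (hf : ∀ m c, (tr I m).toLinearMap.rTensor N (f (m + 1) c) = f m c) :
    ∃ g : C →ₗ[R] N, ∀ m c, (1 : R ⧸ I ^ (m + 1)) ⊗ₜ[R] g c = f m c := by
  choose g hg using fun c => exists_limit I (fun m => f m c) (fun m => hf m c)
  refine ⟨{ toFun := g, map_add' := ?_, map_smul' := ?_ }, fun m c => hg c m⟩
  · intro a b
    apply eq_of_forall_tmul_eq I
    intro m
    rw [tmul_add, hg, hg, hg, map_add]
  · intro r a
    apply eq_of_forall_tmul_eq I
    intro m
    rw [RingHom.id_apply, tmul_smul, hg, hg, map_smul]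

theorem isHausdorff_of_injective_finsupp {ι R' : Type*} [AddCommGroup R'] [Module R R']
    [IsHausdorff I R'] (E : N →ₗ[R] (ι →₀ R')) (hE : Function.Injective E) :
    IsHausdorff I N := by
  refine ⟨fun x hx => ?_⟩
  apply hE
  rw [map_zero]
  ext i
  apply IsHausdorff.haus' (I := I)
  intro n
  have h1 := hx n
  rw [SModEq.zero] at h1 ⊢
  have := Submodule.mem_map_of_mem (f := Finsupp.lapply i ∘ₗ E) h1
  rw [Submodule.map_smul''] at this
  exact Submodule.smul_mono le_rfl le_top this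

end limmap

section coeff
variable {R : Type*} [CommRing R] (Q : Type*) [AddCommGroup Q] [Module R Q]
variable {R' : Type*} [CommRing R'] [Algebra R R'] {M : Type*} [CommMonoid M]

lemma coeff_injective (y : Q ⊗[R] MonoidAlgebra R' M)
    (h : ∀ μ, ((cf (R' := R') μ).restrictScalars R).lTensor Q y = 0) : y = 0 := by
  classical
  let L : MonoidAlgebra R' M ≃ₗ[R] (M →₀ R') := MonoidAlgebra.coeffLinearEquiv R
  let F : Q ⊗[R] MonoidAlgebra R' M ≃ₗ[R] (M →₀ Q ⊗[R] R') :=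
    (LinearEquiv.lTensor Q L).trans (TensorProduct.finsuppRight R R Q R' M)
  apply F.injective
  rw [map_zero]
  ext μ
  have h1 : F y μ = (Finsupp.lapply (R := R) μ ∘ₗ L.toLinearMap).lTensor Q y := by
    simp only [F, LinearEquiv.trans_apply]
    rw [TensorProduct.finsuppRight_apply, LinearMap.lTensor_comp]
    rfl
  have h2 : (Finsupp.lapply (R := R) μ ∘ₗ L.toLinearMap) =
      (cf (R' := R') μ).restrictScalars R := LinearMap.ext fun x => rfl
  rw [h1, h2, h μ]
  rfl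

end coeff

section depchoice

theorem exists_dep_seq {X : ℕ → Type*} (P : ∀ m, X m → X (m + 1) → Prop) (x0 : X 0)
    (h : ∀ m x, ∃ y, P m x y) : ∃ f : ∀ m, X m, f 0 = x0 ∧ ∀ m, P m (f m) (f (m + 1)) :=
  ⟨fun m => Nat.rec x0 (fun m x => Classical.choose (h m x)) m, rfl,
    fun m => Classical.choose_spec (h m _)⟩

end depchoice

section towergen

variable {R : Type*} [CommRing R]

theorem tower_gen (J K : Ideal R) (hJK : J ≤ K) (hnil : ∃ n, K ^ n ≤ J)
    {A : Type*} [CommRing A] [HopfAlgebra R A] {l : A →ₗ[R] R} (hl : IsIntV R A R l)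
    {C : Type*} [CommRing C] [HopfAlgebra R C] [Algebra.FormallySmooth R C]
    (ψb : C →ₐ[R] (R ⧸ K) ⊗[R] A) (hψb : IsSemiCoalg R (R ⧸ K) ψb) :
    ∃ ψ : C →ₐ[R] (R ⧸ J) ⊗[R] A, IsSemiCoalg R (R ⧸ J) ψ ∧
      ∀ c, (Ideal.Quotient.factorₐ R hJK).toLinearMap.rTensor A (ψ c) = ψb c := by
  letI : Algebra (R ⧸ J) (R ⧸ K) := (Ideal.Quotient.factor hJK).toAlgebra
  haveI : IsScalarTower R (R ⧸ J) (R ⧸ K) := IsScalarTower.of_algebraMap_eq (fun r => rfl)
  have hsurj : Function.Surjective (algebraMap (R ⧸ J) (R ⧸ K)) :=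
    Ideal.Quotient.factor_surjective hJK
  have hnil' : IsNilpotent (RingHom.ker (algebraMap (R ⧸ J) (R ⧸ K))) := by
    obtain ⟨n, hn⟩ := hnil
    refine ⟨n, ?_⟩
    have hker : RingHom.ker (algebraMap (R ⧸ J) (R ⧸ K)) = K.map (Ideal.Quotient.mk J) :=
      Ideal.Quotient.factor_ker hJK
    rw [hker, ← Ideal.map_pow, Ideal.zero_eq_bot, Ideal.map_eq_bot_iff_le_ker, Ideal.mk_ker]
    exact hn
  obtain ⟨ψ, hψ, hc⟩ := tower_step (R ⧸ J) (R ⧸ K) hsurj hnil' hl ψb hψb
  refine ⟨ψ, hψ, fun c => ?_⟩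
  rw [← hc c]
  rfl

end towergen

end Groth.Agent.Helper7.MTAvg
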