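import Mathlib
import Groth.Prelude.Def_SGA3b
import Groth.Agent.Helper2.MultTypeSemi
import Groth.Agent.Helper7.MTAvgJ
import Groth.Agent.Helper7.MTAvgQ
import Groth.Agent.Helper7.MTAvgR
import Groth.Agent.Helper7.MTAvgS
import Groth.Agent.Helper7.MTAvgT
import Groth.Agent.Helper7.MTAvgU

/-! Algebraization of a compatible tower of semi-coalgebra maps into an isotrivial Hopf algebra
over a complete Noetherian base. -/

open TensorProduct WithConv Groth.Agent.Helper2.MultTypeSemi

namespace Groth.Agent.Helper7.MTAvg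

universe u

section levels
variable {R : Type*} [CommRing R] (I : Ideal R)
variable {C : Type*} [AddCommGroup C] [Module R C] {N : Type*} [AddCommGroup N] [Module R N]

/-- a finite module over a Noetherian adically complete ring is adically complete -/
theorem isAdicComplete_of_finite'' (N : Type*) [AddCommGroup N] [Module R N]
    [IsNoetherianRing R] [IsAdicComplete I R] [Module.Finite R N] :
    IsAdicComplete I N := by
  haveI : IsHausdorff I N := IsHausdorff.of_le_jacobson I N (IsAdicComplete.le_jacobson_bot I)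
  rw [isAdicComplete_iff]
  refine ⟨inferInstance, ?_⟩
  rw [← AdicCompletion.of_surjective_iff]
  intro y
  obtain ⟨t, rfl⟩ := AdicCompletion.ofTensorProduct_surjective_of_finite I N y
  induction t using TensorProduct.induction_on with
  | zero => exact ⟨0, by simp⟩
  | tmul r x =>
    obtain ⟨a, rfl⟩ := AdicCompletion.of_surjective I R r
    refine ⟨a • x, ?_⟩
    rw [AdicCompletion.ofTensorProduct_tmul]
    ext n
    rw [AdicCompletion.smul_eval]
    rfl
  | add s t hs ht =>
    obtain ⟨a, ha⟩ := hs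
    obtain ⟨b, hb⟩ := ht
    exact ⟨a + b, by rw [map_add, map_add, ha, hb]⟩

theorem linear_of_levels [IsHausdorff I N]
    (f : ∀ m, C →ₗ[R] (R ⧸ I ^ (m + 1)) ⊗[R] N) (g : C → N)
    (hg : ∀ m c, (1 : R ⧸ I ^ (m + 1)) ⊗ₜ[R] g c = f m c) :
    ∃ g' : C →ₗ[R] N, ∀ c, g' c = g c := by
  refine ⟨{ toFun := g, map_add' := ?_, map_smul' := ?_ }, fun c => rfl⟩
  · intro a b
    apply eq_of_forall_tmul_eq I
    intro m
    rw [tmul_add, hg, hg, hg, map_add]
  · intro r a
    apply eq_of_forall_tmul_eq I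
    intro m
    rw [RingHom.id_apply, tmul_smul, hg, hg, map_smul]

end levels

section comul
variable {R : Type*} [CommRing R] (Sb : Type*) [CommRing Sb] [Algebra R Sb]
variable {A : Type*} [CommRing A] [Bialgebra R A] {C : Type*} [CommRing C] [Bialgebra R C]

lemma tmul_comul_eq (φ : C →ₗ[R] A) (ψb : C →ₐ[R] Sb ⊗[R] A) (hψb : IsSemiCoalg R Sb ψb)
    (h : ∀ c, (1 : Sb) ⊗ₜ[R] φ c = ψb c) (c : C) :
    (1 : Sb) ⊗ₜ[R] Coalgebra.comul (R := R) (φ c) =
      (1 : Sb) ⊗ₜ[R] TensorProduct.map φ φ (Coalgebra.comul (R := R) c) := by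
  apply (TensorProduct.AlgebraTensorModule.distribBaseChange R Sb A A).injective
  have hσ : ∀ y : A ⊗[R] A,
      TensorProduct.AlgebraTensorModule.distribBaseChange R Sb A A ((1 : Sb) ⊗ₜ[R] y) =
      semiMap R Sb
        (Algebra.TensorProduct.includeRight : A →ₐ[R] Sb ⊗[R] A).toLinearMap y := by
    intro y
    induction y using TensorProduct.induction_on with
    | zero => simp
    | add x y hx hy => simp only [tmul_add, map_add, hx, hy]
    | tmul a b => simp
  rw [hσ, hσ]
  have hA := isSemiCoalg_includeRight R Sb A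
  rw [← hA.comul]
  simp only [Algebra.TensorProduct.includeRight_apply]
  rw [h, hψb.comul]
  have key : ∀ y : C ⊗[R] C,
      semiMap R Sb ψb.toLinearMap y =
      semiMap R Sb
        (Algebra.TensorProduct.includeRight : A →ₐ[R] Sb ⊗[R] A).toLinearMap
        (TensorProduct.map φ φ y) := by
    intro y
    induction y using TensorProduct.induction_on with
    | zero => simp
    | add x y hx hy => simp only [map_add, hx, hy]
    | tmul a b => simp [h]
  rw [key]

end comul

section main
variable (R : Type u) [CommRing R] [IsNoetherianRing R] (I : Ideal R) [IsAdicComplete I R]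
variable (B : Type u) [CommRing B] [HopfAlgebra R B]
variable (R' : Type u) [CommRing R'] [Algebra R R'] [Module.Finite R R']
  [Module.FaithfullyFlat R R']
variable (M : Type u) [CommGroup M] (e : R' ⊗[R] B ≃ₐc[R'] MonoidAlgebra R' M)
variable (C : Type u) [CommRing C] [HopfAlgebra R C] [Module.Flat R C]

include e in
theorem algebraize
    (ψ : ∀ m, C →ₐ[R] (R ⧸ I ^ (m + 1)) ⊗[R] B)
    (hψ : ∀ m, IsSemiCoalg R (R ⧸ I ^ (m + 1)) (ψ m))
    (hcompat : ∀ m c, (tr I m).toLinearMap.rTensor B (ψ (m + 1) c) = ψ m c) :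
    ∃ φ : C →ₐc[R] B, ∀ m c, (1 : R ⧸ I ^ (m + 1)) ⊗ₜ[R] φ c = ψ m c := by
  classical
  haveI hcompl : IsAdicComplete I R' := isAdicComplete_of_finite'' I R'
  set θ : B →ₐ[R] MonoidAlgebra R' M := dchart R B R' M e with hθdef
  have hθ : IsSemiCoalg R R' θ := dchart_isSemiCoalg R B R' M e
  let k : M → (B →ₗ[R] R') := fun μ => cmp θ μ
  have hk : ∀ μ, toConv (k μ) * toConv (k μ) = toConv (k μ) := fun μ => by
    simpa using cmp_mul hθ μ μ
  let a : M → ∀ m, C →ₗ[R] (R ⧸ I ^ (m + 1)) ⊗[R] R' :=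
    fun μ m => pb (R ⧸ I ^ (m + 1)) (ψ m) (k μ)
  have ha : ∀ μ m c, (tr I m).toLinearMap.rTensor R' (a μ (m + 1) c) = a μ m c := by
    intro μ m c
    simp only [a, pb_apply]
    rw [← hcompat m c, ← LinearMap.comp_apply, ← LinearMap.comp_apply,
      LinearMap.rTensor_comp_lTensor, LinearMap.lTensor_comp_rTensor]
  choose ε hε using fun μ => exists_limit_map I (a μ) (ha μ)
  have hidem : ∀ μ, toConv (ε μ) * toConv (ε μ) = toConv (ε μ) := by
    intro μ
    ext c
    rw [LinearMap.convMul_apply]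
    apply eq_of_forall_tmul_eq I
    intro m
    have h1 : ∀ t : C ⊗[R] C, (1 : R ⧸ I ^ (m + 1)) ⊗ₜ[R]
        LinearMap.mul' R R' (TensorProduct.map (ε μ) (ε μ) t) =
        LinearMap.mul' R _ (TensorProduct.map (a μ m) (a μ m) t) := by
      intro t
      induction t using TensorProduct.induction_on with
      | zero => simp
      | add x y hx hy => simp only [map_add, tmul_add, hx, hy]
      | tmul x y =>
        simp only [TensorProduct.map_tmul, LinearMap.mul'_apply, ← hε]
        rw [Algebra.TensorProduct.tmul_mul_tmul, one_mul]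
    rw [h1]
    have h2 := pb_mul (R ⧸ I ^ (m + 1)) (hψ m) (k μ) (k μ)
    rw [hk μ] at h2
    have h3 := congrArg (fun f => f.ofConv c) h2
    simp only [LinearMap.convMul_apply] at h3
    rw [hε]
    exact h3
  have hfin : ∀ c, {μ | ε μ c ∉ I • (⊤ : Submodule R R')}.Finite := by
    intro c
    have h1 : ∀ y : (R ⧸ I ^ (0 + 1)) ⊗[R] B,
        {μ | (k μ).lTensor (R ⧸ I ^ (0 + 1)) y ≠ 0}.Finite := by
      intro y
      induction y using TensorProduct.induction_on with
      | zero => simp
      | tmul q b =>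
        refine ((θ b).coeff.support.finite_toSet).subset ?_
        intro μ hμ
        simp only [Finset.mem_coe, Finsupp.mem_support_iff]
        intro h0
        apply hμ
        rw [LinearMap.lTensor_tmul]
        show q ⊗ₜ[R] (θ b).coeff μ = 0
        rw [h0, tmul_zero]
      | add x y hx hy =>
        refine (hx.union hy).subset ?_
        intro μ hμ
        by_contra hcon
        simp only [Set.mem_union, Set.mem_ofPred_eq, not_or, not_not] at hcon
        apply hμ
        rw [map_add, hcon.1, hcon.2, add_zero]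
    refine (h1 (ψ 0 c)).subset ?_
    intro μ hμ h0
    apply hμ
    have h2 := hε μ 0 c
    have h3 : a μ 0 c = 0 := h0
    rw [h3] at h2
    have h4 := (tmul_eq_zero_iff R (I ^ (0 + 1)) (ε μ c)).mp h2
    simpa using h4
  have hsupp : ∀ c, {μ | ε μ c ≠ 0}.Finite :=
    finite_support I (IsAdicComplete.le_jacobson_bot I) ε hidem hfin
  -- the algebraic element of the group algebra
  let X : C → MonoidAlgebra R' M := fun c =>
    (MonoidAlgebra.coeffLinearEquiv R').symm (Finsupp.ofSupportFinite (fun μ => ε μ c) (hsupp c))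
  have hX : ∀ c μ, (X c).coeff μ = ε μ c := by
    intro c μ
    simp [X, Finsupp.ofSupportFinite_coe]
  -- a retraction of `R → R'`
  haveI : Module.FinitePresentation R R' := Module.finitePresentation_of_finite R R'
  haveI : Module.Projective R R' := Module.Flat.projective_of_finitePresentation
  obtain ⟨s, hs⟩ := exists_split (R := R) (R' := R')
  let G : MonoidAlgebra R' M →ₗ[R] B :=
    (TensorProduct.lid R B).toLinearMap ∘ₗ s.rTensor B ∘ₗ
      ((e.symm.toLinearEquiv : MonoidAlgebra R' M ≃ₗ[R'] R' ⊗[R] B).restrictScalars R).toLinearMap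
  have hGθ : ∀ b, G (θ b) = b := by
    intro b
    simp only [G, LinearMap.comp_apply]
    have : ((e.symm.toLinearEquiv : MonoidAlgebra R' M ≃ₗ[R'] R' ⊗[R] B).restrictScalars
        R).toLinearMap (θ b) = (1 : R') ⊗ₜ[R] b := by
      show e.symm (e ((1 : R') ⊗ₜ[R] b)) = _
      exact e.symm_apply_apply _
    rw [this]
    simp [hs]
  have hlevel : ∀ m c, (1 : R ⧸ I ^ (m + 1)) ⊗ₜ[R] G (X c) = ψ m c := by
    intro m c
    have hA : (1 : R ⧸ I ^ (m + 1)) ⊗ₜ[R] X c =
        θ.toLinearMap.lTensor (R ⧸ I ^ (m + 1)) (ψ m c) := by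
      rw [← sub_eq_zero]
      apply coeff_injective
      intro μ
      rw [map_sub, sub_eq_zero, LinearMap.lTensor_tmul, ← LinearMap.comp_apply,
        ← LinearMap.lTensor_comp]
      show (1 : R ⧸ I ^ (m + 1)) ⊗ₜ[R] (X c).coeff μ = a μ m c
      rw [hX, hε]
    have hB := congrArg (G.lTensor (R ⧸ I ^ (m + 1))) hA
    rw [LinearMap.lTensor_tmul, ← LinearMap.comp_apply, ← LinearMap.lTensor_comp] at hB
    rw [hB]
    have : G ∘ₗ θ.toLinearMap = LinearMap.id := LinearMap.ext hGθ
    rw [this, LinearMap.lTensor_id, LinearMap.id_apply]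
  -- Hausdorffness of `B` and `B ⊗ B`
  haveI hHB : IsHausdorff I B := by
    let EB : B →ₗ[R] (M →₀ R') :=
      (MonoidAlgebra.coeffLinearEquiv R (S := R') (M := M)).toLinearMap ∘ₗ θ.toLinearMap
    refine isHausdorff_of_injective_finsupp I EB ?_
    exact (MonoidAlgebra.coeffLinearEquiv R (S := R') (M := M)).injective.comp
      (dchart_injective R B R' M e)
  haveI hHBB : IsHausdorff I (B ⊗[R] B) := by
    let i1 : B ⊗[R] B →ₗ[R] R' ⊗[R] (B ⊗[R] B) := TensorProduct.mk R R' (B ⊗[R] B) 1
    have hi1 : Function.Injective i1 :=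
      Module.FaithfullyFlat.tensorProduct_mk_injective (A := R) (B := R') (B ⊗[R] B)
    let d : R' ⊗[R] (B ⊗[R] B) ≃ₗ[R'] (R' ⊗[R] B) ⊗[R'] (R' ⊗[R] B) :=
      TensorProduct.AlgebraTensorModule.distribBaseChange R R' B B
    let eL : R' ⊗[R] B ≃ₗ[R'] (M →₀ R') :=
      (e.toLinearEquiv : R' ⊗[R] B ≃ₗ[R'] MonoidAlgebra R' M).trans
        (MonoidAlgebra.coeffLinearEquiv R')
    let c2 : (R' ⊗[R] B) ⊗[R'] (R' ⊗[R] B) ≃ₗ[R'] (M →₀ R') ⊗[R'] (M →₀ R') :=
      TensorProduct.congr eL eL
    let c4 : (M →₀ R') ⊗[R'] (M →₀ R') ≃ₗ[R'] (M × M →₀ R') := finsuppTensorFinsupp' R' M M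
    let EBB : B ⊗[R] B →ₗ[R] (M × M →₀ R') :=
      (((d.trans c2).trans c4).restrictScalars R).toLinearMap ∘ₗ i1
    refine isHausdorff_of_injective_finsupp I EBB ?_
    exact (((d.trans c2).trans c4).restrictScalars R).injective.comp hi1
  -- the linear map
  obtain ⟨φl, hφl⟩ := linear_of_levels I (fun m => (ψ m).toLinearMap) (fun c => G (X c)) hlevel
  have hφlev : ∀ m c, (1 : R ⧸ I ^ (m + 1)) ⊗ₜ[R] φl c = ψ m c := by
    intro m c
    rw [hφl]
    exact hlevel m c
  have hone : φl 1 = 1 := by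
    apply eq_of_forall_tmul_eq I
    intro m
    rw [hφlev, map_one, Algebra.TensorProduct.one_def]
  have hmul : ∀ x y, φl (x * y) = φl x * φl y := by
    intro x y
    apply eq_of_forall_tmul_eq I
    intro m
    rw [hφlev, map_mul, ← hφlev, ← hφlev, Algebra.TensorProduct.tmul_mul_tmul, one_mul]
  let φa : C →ₐ[R] B := AlgHom.ofLinearMap φl hone hmul
  have hφa : ∀ c, φa c = φl c := fun c => rfl
  have hcomul : ∀ c, Coalgebra.comul (R := R) (φa c) =
      TensorProduct.map φa.toLinearMap φa.toLinearMap (Coalgebra.comul (R := R) c) := by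
    intro c
    apply eq_of_forall_tmul_eq I
    intro m
    exact tmul_comul_eq (R ⧸ I ^ (m + 1)) φa.toLinearMap (ψ m) (hψ m) (fun c => hφlev m c) c
  have hdef : defect (lin (toConv φa)) = 0 := by
    ext c
    rw [defect_apply]
    show _ - _ = (0 : B ⊗[R] B)
    rw [sub_eq_zero]
    exact hcomul c
  obtain ⟨φ, hφ⟩ := exists_bialgHom_of_defect_eq_zero φa hdef
  exact ⟨φ, fun m c => by rw [hφ, hφa, hφlev]⟩

end main

end Groth.Agent.Helper7.MTAvg
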