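import Mathlib
import Groth.Prelude.Def_SGA3b
import Groth.Agent.Helper2.MultTypeSemi
import Groth.Agent.Helper7.MTAvgS
import Groth.Agent.Helper7.MTAvgU
import Groth.Agent.Helper7.MTAvgV

/-! Homomorphisms from an isotrivial group of multiplicative type to a smooth affine group lift
from `A/I` to `A` for `A` Noetherian and `I`-adically complete. -/

open TensorProduct WithConv Groth.Agent.Helper2.MultTypeSemi

namespace Groth.Agent.Helper7.MTAvg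

universe u

theorem main_complete (R : Type u) [CommRing R] [IsNoetherianRing R] (I : Ideal R)
    [IsAdicComplete I R]
    (B : Type u) [CommRing B] [HopfAlgebra R B] (hH : SGA3b.IsIsotrivial R B)
    (C : Type u) [CommRing C] [HopfAlgebra R C] [Algebra.Smooth R C]
    (φ₀ : ((R ⧸ I) ⊗[R] C) →ₐc[R ⧸ I] ((R ⧸ I) ⊗[R] B)) :
    ∃ φ : C →ₐc[R] B, ∀ c : C, φ₀ ((1 : R ⧸ I) ⊗ₜ[R] c) = (1 : R ⧸ I) ⊗ₜ[R] (φ c) := by
  obtain ⟨R', _, _, het, hfin, hff, M, _, ⟨e⟩⟩ := hH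
  haveI := hfin
  haveI := hff
  obtain ⟨l, hl⟩ := exists_integral_of_cover R B R' M e
  let ψb0 : C →ₐ[R] (R ⧸ I) ⊗[R] B :=
    ((φ₀ : (R ⧸ I) ⊗[R] C →ₐ[R ⧸ I] (R ⧸ I) ⊗[R] B).restrictScalars R).comp
      (Algebra.TensorProduct.includeRight : C →ₐ[R] (R ⧸ I) ⊗[R] C)
  have hψb0 : IsSemiCoalg R (R ⧸ I) ψb0 :=
    (isSemiCoalg_includeRight R (R ⧸ I) C).comp R (R ⧸ I) (R ⧸ I)
      (isSemiCoalg_bialgHom (R ⧸ I) φ₀)
  obtain ⟨ψ0, hψ0, hc0⟩ := tower_gen (I ^ (0 + 1)) I (by simp) ⟨1, by simp⟩ hl ψb0 hψb0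
  let X : ℕ → Type u := fun m =>
    {ψ : C →ₐ[R] (R ⧸ I ^ (m + 1)) ⊗[R] B // IsSemiCoalg R (R ⧸ I ^ (m + 1)) ψ}
  obtain ⟨f, hf0, hf⟩ := exists_dep_seq (X := X)
    (fun m x y => ∀ c, (tr I m).toLinearMap.rTensor B (y.1 c) = x.1 c) ⟨ψ0, hψ0⟩ (by
      intro m x
      obtain ⟨ψ', hψ', hc'⟩ := tower_gen (I ^ (m + 1 + 1)) (I ^ (m + 1))
        (Ideal.pow_le_pow_right (Nat.le_succ (m + 1)))
        ⟨2, by rw [← pow_mul]; exact Ideal.pow_le_pow_right (by omega)⟩ hl x.1 x.2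
      exact ⟨⟨ψ', hψ'⟩, hc'⟩)
  obtain ⟨φ, hφ⟩ := algebraize R I B R' M e C (fun m => (f m).1) (fun m => (f m).2)
    (fun m c => hf m c)
  refine ⟨φ, fun c => ?_⟩
  have h1 := hφ 0 c
  rw [hf0] at h1
  have h2 := hc0 c
  rw [← h1] at h2
  simpa [ψb0] using h2.symm

end Groth.Agent.Helper7.MTAvg
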