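import Mathlib
import Groth.Prelude.Def_EtMil
import Groth.Agent.Helper7.EtMil

/-! Milnor patching: base changes of the glued module. -/

universe u

open TensorProduct

namespace Groth.Agent.Helper7.MilnorGlue

/-- generic: for a surjective algebra map `R → S`, `1 ⊗ m = 0` in `S ⊗[R] M` implies `m ∈ ker • ⊤`. -/
theorem mem_ker_smul_top_of_one_tmul_eq_zero {R S : Type*} [CommRing R] [CommRing S] [Algebra R S]
    (hsurj : Function.Surjective (algebraMap R S)) {M : Type*} [AddCommGroup M] [Module R M] (m : M)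
    (h1 : ((1 : S) ⊗ₜ[R] m : S ⊗[R] M) = 0) :
    m ∈ (RingHom.ker (algebraMap R S)) • (⊤ : Submodule R M) := by
  let J := RingHom.ker (algebraMap R S)
  let e : (R ⧸ J) ≃ₐ[R] S := Ideal.quotientKerAlgEquivOfSurjective (f := Algebra.ofId R S) hsurj
  let ψ : S ⊗[R] M ≃ₗ[R] M ⧸ (J • (⊤ : Submodule R M)) :=
    (TensorProduct.congr e.toLinearEquiv.symm (LinearEquiv.refl R M)) ≪≫ₗ
      (TensorProduct.quotTensorEquivQuotSMul M J)
  have h3 : ψ ((1 : S) ⊗ₜ[R] m) = Submodule.Quotient.mk m := by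
    simp only [ψ, LinearEquiv.trans_apply, TensorProduct.congr_tmul, LinearEquiv.refl_apply]
    have : e.toLinearEquiv.symm (1 : S) = (1 : R ⧸ J) := by
      change e.symm 1 = 1
      exact map_one e.symm
    rw [this]
    exact TensorProduct.quotTensorEquivQuotSMul_mk_one_tmul J m
  rw [h1, map_zero] at h3
  exact (Submodule.Quotient.mk_eq_zero _).mp h3.symm

/-- generic: for `m ∈ ker • ⊤`, `1 ⊗ m = 0`. -/
theorem one_tmul_eq_zero_of_mem_ker_smul_top {R S : Type*} [CommRing R] [CommRing S] [Algebra R S]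
    {M : Type*} [AddCommGroup M] [Module R M] (m : M)
    (hm : m ∈ (RingHom.ker (algebraMap R S)) • (⊤ : Submodule R M)) :
    ((1 : S) ⊗ₜ[R] m : S ⊗[R] M) = 0 := by
  refine Submodule.smul_induction_on hm ?_ ?_
  · intro r hr n _
    rw [← TensorProduct.smul_tmul, Algebra.smul_def, mul_one, (RingHom.mem_ker).1 hr,
      TensorProduct.zero_tmul]
  · intro x y hx hy
    rw [TensorProduct.tmul_add, hx, hy, add_zero]

/-- generic: for a surjective algebra map, every element of `S ⊗[R] M` is `1 ⊗ m`. -/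
theorem exists_one_tmul {R S : Type*} [CommRing R] [CommRing S] [Algebra R S]
    (hsurj : Function.Surjective (algebraMap R S)) {M : Type*} [AddCommGroup M] [Module R M]
    (x : S ⊗[R] M) : ∃ m : M, x = (1 : S) ⊗ₜ[R] m := by
  induction x with
  | zero => exact ⟨0, (TensorProduct.tmul_zero _ _).symm⟩
  | tmul s m =>
    obtain ⟨r, rfl⟩ := hsurj s
    refine ⟨r • m, ?_⟩
    rw [← TensorProduct.smul_tmul, Algebra.smul_def, mul_one]
  | add x y hx hy =>
    obtain ⟨m, rfl⟩ := hx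
    obtain ⟨n, rfl⟩ := hy
    exact ⟨m + n, (TensorProduct.tmul_add _ _ _).symm⟩

section

variable {B' B A' A : Type u} [CommRing B'] [CommRing B] [CommRing A'] [CommRing A]
  [Algebra B' B] [Algebra B' A'] [Algebra B A] [Algebra A' A] [Algebra B' A]
  [IsScalarTower B' B A] [IsScalarTower B' A' A]
variable {N M' : Type u} [AddCommGroup N] [Module B N] [Module B' N] [IsScalarTower B' B N]
  [AddCommGroup M'] [Module A' M'] [Module B' M'] [IsScalarTower B' A' M']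

/-- for `c` in the kernel of `A' → A`, the element of `B'` with components `(0, c)` -/
theorem exists_beta (hsq : EtMil.IsFibreSquare B' B A' A) (c : A')
    (hc : c ∈ RingHom.ker (algebraMap A' A)) :
    ∃ β : B', algebraMap B' B β = 0 ∧ algebraMap B' A' β = c := by
  have : algebraMap B A 0 = algebraMap A' A c := by rw [map_zero, (RingHom.mem_ker).1 hc]
  obtain ⟨β, ⟨h1, h2⟩, _⟩ := hsq.2 0 c this
  exact ⟨β, h1, h2⟩

variable (B') (φ : A ⊗[B] N ≃ₗ[A] A ⊗[A'] M')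

/-- the second comparison map -/
noncomputable abbrev rho : A' ⊗[B'] (EtMil.glue B' φ) →ₗ[A'] M' :=
  LinearMap.liftBaseChange A' (EtMil.glueSnd B' φ)

/-- the first comparison map -/
noncomputable abbrev rho1 : B ⊗[B'] (EtMil.glue B' φ) →ₗ[B] N :=
  LinearMap.liftBaseChange B (EtMil.glueFst B' φ)

lemma mem_glue_iff (x : N × M') :
    x ∈ EtMil.glue B' φ ↔ φ ((1 : A) ⊗ₜ[B] x.1) = (1 : A) ⊗ₜ[A'] x.2 := Iff.rfl

/-- every `n` is the first component of an element of the glued module -/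
theorem exists_glue_fst (hsq : EtMil.IsFibreSquare B' B A' A) (n : N) :
    ∃ g : EtMil.glue B' φ, g.1.1 = n := by
  obtain ⟨m', hm'⟩ := exists_one_tmul hsq.1 (φ ((1 : A) ⊗ₜ[B] n))
  exact ⟨⟨(n, m'), hm'⟩, rfl⟩

/-- the property of elements of `I' • T` -/
def P (t : A' ⊗[B'] (EtMil.glue B' φ)) : Prop :=
  ∃ g : EtMil.glue B' φ, g.1.1 = 0 ∧ g.1.2 = rho B' φ t ∧ t = (1 : A') ⊗ₜ[B'] g ∧
    ((1 : B) ⊗ₜ[B'] g : B ⊗[B'] (EtMil.glue B' φ)) = 0

lemma P_zero : P B' φ (0 : A' ⊗[B'] (EtMil.glue B' φ)) :=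
  ⟨0, rfl, by simp, by simp, by simp⟩

lemma P_add {t₁ t₂ : A' ⊗[B'] (EtMil.glue B' φ)} (h₁ : P B' φ t₁) (h₂ : P B' φ t₂) : P B' φ (t₁ + t₂) := by
  obtain ⟨g₁, ha₁, hb₁, hc₁, hd₁⟩ := h₁
  obtain ⟨g₂, ha₂, hb₂, hc₂, hd₂⟩ := h₂
  refine ⟨g₁ + g₂, ?_, ?_, ?_, ?_⟩
  · show g₁.1.1 + g₂.1.1 = 0
    rw [ha₁, ha₂, add_zero]
  · show g₁.1.2 + g₂.1.2 = _
    rw [hb₁, hb₂, map_add]
  · rw [TensorProduct.tmul_add, ← hc₁, ← hc₂]
  · rw [TensorProduct.tmul_add, hd₁, hd₂, add_zero]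

lemma P_smul_tmul (hsq : EtMil.IsFibreSquare B' B A' A) (i : A')
    (hi : i ∈ RingHom.ker (algebraMap A' A)) (a' : A') (g : EtMil.glue B' φ) :
    P B' φ (i • (a' ⊗ₜ[B'] g)) := by
  have hc : i * a' ∈ RingHom.ker (algebraMap A' A) := Ideal.mul_mem_right _ _ hi
  obtain ⟨β, hβ1, hβ2⟩ := exists_beta hsq (i * a') hc
  have e1 : i • (a' ⊗ₜ[B'] g) = (1 : A') ⊗ₜ[B'] (β • g) := by
    rw [TensorProduct.smul_tmul', smul_eq_mul, ← TensorProduct.smul_tmul, Algebra.smul_def, hβ2,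
      mul_one]
  refine ⟨β • g, ?_, ?_, e1, ?_⟩
  · show β • g.1.1 = 0
    rw [← IsScalarTower.algebraMap_smul B β g.1.1, hβ1, zero_smul]
  · show β • g.1.2 = _
    rw [e1, LinearMap.liftBaseChange_tmul, one_smul]
    rfl
  · rw [← TensorProduct.smul_tmul, Algebra.smul_def, hβ1, zero_mul, TensorProduct.zero_tmul]

lemma P_smul (hsq : EtMil.IsFibreSquare B' B A' A) (i : A')
    (hi : i ∈ RingHom.ker (algebraMap A' A)) (s : A' ⊗[B'] (EtMil.glue B' φ)) :
    P B' φ (i • s) := by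
  induction s with
  | zero => rw [smul_zero]; exact P_zero B' φ
  | tmul a' g => exact P_smul_tmul B' φ hsq i hi a' g
  | add x y hx hy => rw [smul_add]; exact P_add B' φ hx hy

theorem P_of_mem (hsq : EtMil.IsFibreSquare B' B A' A) (t : A' ⊗[B'] (EtMil.glue B' φ))
    (ht : t ∈ (RingHom.ker (algebraMap A' A)) • (⊤ : Submodule A' (A' ⊗[B'] (EtMil.glue B' φ)))) :
    P B' φ t := by
  refine Submodule.smul_induction_on ht ?_ ?_
  · intro i hi s _
    exact P_smul B' φ hsq i hi s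
  · intro x y hx hy
    exact P_add B' φ hx hy

/-- `φ w` is `1 ⊗ ρ s` for some `s`. -/
theorem exists_rho_eq (hsq : EtMil.IsFibreSquare B' B A' A) (w : A ⊗[B] N) :
    ∃ s : A' ⊗[B'] (EtMil.glue B' φ), φ w = (1 : A) ⊗ₜ[A'] (rho B' φ s) := by
  induction w with
  | zero => exact ⟨0, by simp⟩
  | tmul a n =>
    obtain ⟨a', rfl⟩ := hsq.1 a
    obtain ⟨g, rfl⟩ := exists_glue_fst B' φ hsq n
    refine ⟨a' ⊗ₜ[B'] g, ?_⟩
    have hg : φ ((1 : A) ⊗ₜ[B] g.1.1) = (1 : A) ⊗ₜ[A'] g.1.2 := g.2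
    have e1 : (algebraMap A' A a') ⊗ₜ[B] g.1.1 = (algebraMap A' A a') • ((1 : A) ⊗ₜ[B] g.1.1) := by
      rw [TensorProduct.smul_tmul', smul_eq_mul, mul_one]
    rw [e1, map_smul, hg, LinearMap.liftBaseChange_tmul, TensorProduct.smul_tmul', smul_eq_mul,
      mul_one]
    show _ = (1 : A) ⊗ₜ[A'] (a' • g.1.2)
    rw [← TensorProduct.smul_tmul, Algebra.smul_def, mul_one]
  | add x y hx hy =>
    obtain ⟨s, hs⟩ := hx
    obtain ⟨t, ht⟩ := hy
    exact ⟨s + t, by rw [map_add, map_add, hs, ht, TensorProduct.tmul_add]⟩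

theorem rho_surjective (hsq : EtMil.IsFibreSquare B' B A' A) : Function.Surjective (rho B' φ) := by
  intro m
  obtain ⟨s, hs⟩ := exists_rho_eq B' φ hsq (φ.symm ((1 : A) ⊗ₜ[A'] m))
  rw [LinearEquiv.apply_symm_apply] at hs
  have h0 : ((1 : A) ⊗ₜ[A'] (m - rho B' φ s) : A ⊗[A'] M') = 0 := by
    rw [TensorProduct.tmul_sub, hs, sub_self]
  have hmem : ((0 : N), m - rho B' φ s) ∈ EtMil.glue B' φ := by
    rw [mem_glue_iff]
    simp only [TensorProduct.tmul_zero, map_zero]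
    exact h0.symm
  refine ⟨s + (1 : A') ⊗ₜ[B'] (⟨_, hmem⟩ : EtMil.glue B' φ), ?_⟩
  rw [map_add, LinearMap.liftBaseChange_tmul, one_smul]
  show rho B' φ s + (m - rho B' φ s) = m
  abel

theorem exists_of_mem_smul_top (hsq : EtMil.IsFibreSquare B' B A' A) (y : M')
    (hy : y ∈ (RingHom.ker (algebraMap A' A)) • (⊤ : Submodule A' M')) :
    ∃ g : EtMil.glue B' φ, g.1.1 = 0 ∧ g.1.2 = y ∧
      ((1 : B) ⊗ₜ[B'] g : B ⊗[B'] (EtMil.glue B' φ)) = 0 := by
  refine Submodule.smul_induction_on hy ?_ ?_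
  · intro i hi m _
    obtain ⟨s, rfl⟩ := rho_surjective B' φ hsq m
    obtain ⟨g, h1, h2, _, h4⟩ := P_smul B' φ hsq i hi s
    exact ⟨g, h1, by rw [h2, map_smul], h4⟩
  · intro x y hx hy
    obtain ⟨g₁, ha₁, hb₁, hd₁⟩ := hx
    obtain ⟨g₂, ha₂, hb₂, hd₂⟩ := hy
    refine ⟨g₁ + g₂, ?_, ?_, ?_⟩
    · show g₁.1.1 + g₂.1.1 = 0
      rw [ha₁, ha₂, add_zero]
    · show g₁.1.2 + g₂.1.2 = _
      rw [hb₁, hb₂]
    · rw [TensorProduct.tmul_add, hd₁, hd₂, add_zero]

theorem rho1_bijective (hsq : EtMil.IsFibreSquare B' B A' A) : Function.Bijective (rho1 B' φ) := by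
  constructor
  · rw [injective_iff_map_eq_zero]
    intro z hz
    obtain ⟨g, rfl⟩ := exists_one_tmul (EtMilH.surjB hsq) z
    rw [LinearMap.liftBaseChange_tmul, one_smul] at hz
    have hz' : g.1.1 = 0 := hz
    have hg : φ ((1 : A) ⊗ₜ[B] g.1.1) = (1 : A) ⊗ₜ[A'] g.1.2 := g.2
    rw [hz', TensorProduct.tmul_zero, map_zero] at hg
    have hmem := mem_ker_smul_top_of_one_tmul_eq_zero hsq.1 g.1.2 hg.symm
    obtain ⟨g', h1, h2, h3⟩ := exists_of_mem_smul_top B' φ hsq g.1.2 hmem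
    have : g = g' := Subtype.ext (Prod.ext (by rw [hz', h1]) h2.symm)
    rw [this, h3]
  · intro n
    obtain ⟨g, rfl⟩ := exists_glue_fst B' φ hsq n
    exact ⟨(1 : B) ⊗ₜ[B'] g, by rw [LinearMap.liftBaseChange_tmul, one_smul]; rfl⟩

end

end Groth.Agent.Helper7.MilnorGlue

namespace Groth.Agent.Helper7.MilnorGlue

section

variable {B' B A' A : Type u} [CommRing B'] [CommRing B] [CommRing A'] [CommRing A]
  [Algebra B' B] [Algebra B' A'] [Algebra B A] [Algebra A' A] [Algebra B' A]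
  [IsScalarTower B' B A] [IsScalarTower B' A' A]
variable {N M' : Type u} [AddCommGroup N] [Module B N] [Module B' N] [IsScalarTower B' B N]
  [AddCommGroup M'] [Module A' M'] [Module B' M'] [IsScalarTower B' A' M']
variable (B') (φ : A ⊗[B] N ≃ₗ[A] A ⊗[A'] M')

/-- the comparison isomorphism `A ⊗[A'] (A' ⊗[B'] G) ≃ A ⊗[A'] M'` -/
noncomputable def Psi (hsq : EtMil.IsFibreSquare B' B A' A) :
    A ⊗[A'] (A' ⊗[B'] (EtMil.glue B' φ)) ≃ₗ[A] A ⊗[A'] M' :=
  (TensorProduct.AlgebraTensorModule.cancelBaseChange B' A' A A (EtMil.glue B' φ)) ≪≫ₗ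
    (TensorProduct.AlgebraTensorModule.cancelBaseChange B' B A A (EtMil.glue B' φ)).symm ≪≫ₗ
    (TensorProduct.AlgebraTensorModule.congr (LinearEquiv.refl A A)
      (LinearEquiv.ofBijective (rho1 B' φ) (rho1_bijective B' φ hsq))) ≪≫ₗ φ

theorem Psi_apply (hsq : EtMil.IsFibreSquare B' B A' A)
    (x : A ⊗[A'] (A' ⊗[B'] (EtMil.glue B' φ))) :
    Psi B' φ hsq x = LinearMap.baseChange A (rho B' φ) x := by
  induction x with
  | zero => rw [map_zero, map_zero]
  | add x y hx hy => rw [map_add, map_add, hx, hy]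
  | tmul a t =>
    induction t with
    | zero => rw [TensorProduct.tmul_zero, map_zero, map_zero]
    | add x y hx hy => rw [TensorProduct.tmul_add, map_add, map_add, hx, hy]
    | tmul a' g =>
      have hg : φ ((1 : A) ⊗ₜ[B] g.1.1) = (1 : A) ⊗ₜ[A'] g.1.2 := g.2
      simp only [Psi, LinearEquiv.trans_apply,
        TensorProduct.AlgebraTensorModule.cancelBaseChange_tmul,
        TensorProduct.AlgebraTensorModule.cancelBaseChange_symm_tmul,
        TensorProduct.AlgebraTensorModule.congr_tmul, LinearEquiv.refl_apply,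
        LinearEquiv.ofBijective_apply, LinearMap.baseChange_tmul, LinearMap.liftBaseChange_tmul,
        one_smul]
      have e1 : (a' • a) ⊗ₜ[B] (EtMil.glueFst B' φ g) = (a' • a) • ((1 : A) ⊗ₜ[B] g.1.1) := by
        rw [TensorProduct.smul_tmul', smul_eq_mul, mul_one]
        rfl
      rw [e1, map_smul, hg, TensorProduct.smul_tmul', smul_eq_mul, mul_one,
        TensorProduct.smul_tmul]
      rfl

theorem rho_bijective (hsq : EtMil.IsFibreSquare B' B A' A) : Function.Bijective (rho B' φ) := by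
  refine ⟨?_, rho_surjective B' φ hsq⟩
  rw [injective_iff_map_eq_zero]
  intro z hz
  have h1 : ((1 : A) ⊗ₜ[A'] z : A ⊗[A'] (A' ⊗[B'] (EtMil.glue B' φ))) = 0 := by
    apply (Psi B' φ hsq).injective
    rw [Psi_apply, LinearMap.baseChange_tmul, hz, TensorProduct.tmul_zero, map_zero]
  have hmem := mem_ker_smul_top_of_one_tmul_eq_zero hsq.1 z h1
  obtain ⟨g, ha, hb, hc, _⟩ := P_of_mem B' φ hsq z hmem
  rw [hz] at hb
  have : g = 0 := Subtype.ext (Prod.ext ha hb)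
  rw [hc, this, TensorProduct.tmul_zero]

end

theorem milnor_glue_baseChange (B' B A' A : Type u) [CommRing B'] [CommRing B] [CommRing A'] [CommRing A]
    [Algebra B' B] [Algebra B' A'] [Algebra B A] [Algebra A' A] [Algebra B' A] [IsScalarTower B' B A] [IsScalarTower B' A' A]
    (hsq : EtMil.IsFibreSquare B' B A' A)
    (N M' : Type u) [AddCommGroup N] [Module B N] [Module B' N] [IsScalarTower B' B N]
    [AddCommGroup M'] [Module A' M'] [Module B' M'] [IsScalarTower B' A' M'] (φ : A ⊗[B] N ≃ₗ[A] A ⊗[A'] M') :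
    Function.Bijective (LinearMap.liftBaseChange B (EtMil.glueFst B' φ)) ∧
    Function.Bijective (LinearMap.liftBaseChange A' (EtMil.glueSnd B' φ)) :=
  ⟨rho1_bijective B' φ hsq, rho_bijective B' φ hsq⟩

end Groth.Agent.Helper7.MilnorGlue
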