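import Mathlib
import Groth.Prelude.Def_EtMil
import Groth.Agent.Helper7.EtMil
import Groth.Agent.Helper7.MilnorGlue
import Groth.Agent.Helper7.FlatMilnor

/-! Milnor patching: flatness of the glued module, and flat modules as fibre products. -/

universe u

open TensorProduct

namespace Groth.Agent.Helper7.MilnorGlue

section

variable {B' B A' A : Type u} [CommRing B'] [CommRing B] [CommRing A'] [CommRing A]
  [Algebra B' B] [Algebra B' A'] [Algebra B A] [Algebra A' A] [Algebra B' A]
  [IsScalarTower B' B A] [IsScalarTower B' A' A]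

theorem glue_flat (hsq : EtMil.IsFibreSquare B' B A' A)
    (N M' : Type u) [AddCommGroup N] [Module B N] [Module B' N] [IsScalarTower B' B N]
    [AddCommGroup M'] [Module A' M'] [Module B' M'] [IsScalarTower B' A' M']
    (φ : A ⊗[B] N ≃ₗ[A] A ⊗[A'] M') (hN : Module.Flat B N) (hM : Module.Flat A' M') :
    Module.Flat B' ↥(EtMil.glue B' φ) := by
  haveI : Module.Flat B (B ⊗[B'] (EtMil.glue B' φ)) :=
    Module.Flat.of_linearEquiv (LinearEquiv.ofBijective (rho1 B' φ) (rho1_bijective B' φ hsq))
  haveI : Module.Flat A' (A' ⊗[B'] (EtMil.glue B' φ)) :=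
    Module.Flat.of_linearEquiv (LinearEquiv.ofBijective (rho B' φ) (rho_bijective B' φ hsq))
  exact Groth.Agent.Helper7.FlatMilnor.flat_of_fibreSquare B' B A' A hsq _

variable (B' B A' A)

/-- the diagonal map `B' → B × A'` -/
noncomputable def fMap : B' →ₗ[B'] B × A' :=
  LinearMap.prod (Algebra.linearMap B' B) (Algebra.linearMap B' A')

/-- the difference map `B × A' → A` -/
noncomputable def gMap : B × A' →ₗ[B'] A :=
  LinearMap.coprod (IsScalarTower.toAlgHom B' B A).toLinearMap
    (-(IsScalarTower.toAlgHom B' A' A).toLinearMap)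

variable {B' B A' A}

lemma fMap_apply (b' : B') : fMap B' B A' b' = (algebraMap B' B b', algebraMap B' A' b') := rfl

lemma gMap_apply (x : B × A') : gMap B' B A' A x = algebraMap B A x.1 - algebraMap A' A x.2 := by
  simp [gMap, sub_eq_add_neg]

theorem fMap_injective (hsq : EtMil.IsFibreSquare B' B A' A) :
    Function.Injective (fMap B' B A') := by
  intro x y h
  rw [fMap_apply, fMap_apply, Prod.ext_iff] at h
  exact EtMilH.ext_sq hsq h.1 h.2

theorem exact_fMap_gMap (hsq : EtMil.IsFibreSquare B' B A' A) :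
    Function.Exact (fMap B' B A') (gMap B' B A' A) := by
  intro x
  constructor
  · intro hx
    rw [gMap_apply, sub_eq_zero] at hx
    obtain ⟨b', ⟨h1, h2⟩, _⟩ := hsq.2 x.1 x.2 hx
    exact ⟨b', by rw [fMap_apply, h1, h2]⟩
  · rintro ⟨b', rfl⟩
    rw [gMap_apply, fMap_apply, sub_eq_zero, ← IsScalarTower.algebraMap_apply,
      ← IsScalarTower.algebraMap_apply]

theorem flat_fibre (hsq : EtMil.IsFibreSquare B' B A' A)
    (L' : Type u) [AddCommGroup L'] [Module B' L'] (hL : Module.Flat B' L') :
    Function.Injective (fun l : L' => (((1 : B) ⊗ₜ[B'] l : B ⊗[B'] L'), ((1 : A') ⊗ₜ[B'] l : A' ⊗[B'] L'))) ∧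
      ∀ (x : B ⊗[B'] L') (y : A' ⊗[B'] L'),
        (IsScalarTower.toAlgHom B' B A).toLinearMap.rTensor L' x = (IsScalarTower.toAlgHom B' A' A).toLinearMap.rTensor L' y →
          ∃ l : L', (1 : B) ⊗ₜ[B'] l = x ∧ (1 : A') ⊗ₜ[B'] l = y := by
  have hinj : Function.Injective ((fMap B' B A').rTensor L') :=
    Module.Flat.rTensor_preserves_injective_linearMap _ (fMap_injective hsq)
  have hex : Function.Exact ((fMap B' B A').rTensor L') ((gMap B' B A' A).rTensor L') :=
    Module.Flat.rTensor_exact L' (exact_fMap_gMap hsq)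
  have hf1 : ∀ l : L', (fMap B' B A').rTensor L' ((1 : B') ⊗ₜ[B'] l) =
      (LinearMap.inl B' B A').rTensor L' ((1 : B) ⊗ₜ[B'] l) +
        (LinearMap.inr B' B A').rTensor L' ((1 : A') ⊗ₜ[B'] l) := by
    intro l
    rw [LinearMap.rTensor_tmul, LinearMap.rTensor_tmul, LinearMap.rTensor_tmul,
      ← TensorProduct.add_tmul, fMap_apply, map_one, map_one]
    congr 1
    simp
  constructor
  · intro l l' h
    simp only [Prod.mk.injEq] at h
    have h1 : ((1 : B) ⊗ₜ[B'] (l - l') : B ⊗[B'] L') = 0 := by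
      rw [TensorProduct.tmul_sub, h.1, sub_self]
    have h2 : ((1 : A') ⊗ₜ[B'] (l - l') : A' ⊗[B'] L') = 0 := by
      rw [TensorProduct.tmul_sub, h.2, sub_self]
    have h3 : (fMap B' B A').rTensor L' ((1 : B') ⊗ₜ[B'] (l - l')) = 0 := by
      rw [hf1, h1, h2, map_zero, map_zero, add_zero]
    have h4 : ((1 : B') ⊗ₜ[B'] (l - l') : B' ⊗[B'] L') = 0 := hinj (by rw [h3, map_zero])
    have h5 := congrArg (TensorProduct.lid B' L') h4
    rw [TensorProduct.lid_tmul, one_smul, map_zero] at h5
    exact sub_eq_zero.mp h5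
  · intro x y hxy
    set w : (B × A') ⊗[B'] L' := (LinearMap.inl B' B A').rTensor L' x +
      (LinearMap.inr B' B A').rTensor L' y with hw
    have hgw : (gMap B' B A' A).rTensor L' w = 0 := by
      rw [hw, map_add, ← LinearMap.rTensor_comp_apply, ← LinearMap.rTensor_comp_apply]
      have e1 : (gMap B' B A' A) ∘ₗ (LinearMap.inl B' B A') =
          (IsScalarTower.toAlgHom B' B A).toLinearMap := by
        simp [gMap]
      have e2 : (gMap B' B A' A) ∘ₗ (LinearMap.inr B' B A') =
          -(IsScalarTower.toAlgHom B' A' A).toLinearMap := by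
        simp [gMap]
      rw [e1, e2, hxy, LinearMap.rTensor_neg, LinearMap.neg_apply, add_neg_cancel]
    obtain ⟨t, ht⟩ := (hex w).1 hgw
    refine ⟨TensorProduct.lid B' L' t, ?_⟩
    have ht' : t = (1 : B') ⊗ₜ[B'] (TensorProduct.lid B' L' t) := by
      apply (TensorProduct.lid B' L').injective
      rw [TensorProduct.lid_tmul, one_smul]
    rw [ht', hf1] at ht
    have hfst := congrArg ((LinearMap.fst B' B A').rTensor L') ht
    have hsnd := congrArg ((LinearMap.snd B' B A').rTensor L') ht
    rw [hw, map_add, map_add, ← LinearMap.rTensor_comp_apply, ← LinearMap.rTensor_comp_apply,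
      ← LinearMap.rTensor_comp_apply, ← LinearMap.rTensor_comp_apply, LinearMap.fst_comp_inl,
      LinearMap.fst_comp_inr, LinearMap.rTensor_id_apply, LinearMap.rTensor_zero,
      LinearMap.zero_apply, LinearMap.zero_apply, LinearMap.rTensor_id_apply, add_zero, add_zero]
      at hfst
    rw [hw, map_add, map_add, ← LinearMap.rTensor_comp_apply, ← LinearMap.rTensor_comp_apply,
      ← LinearMap.rTensor_comp_apply, ← LinearMap.rTensor_comp_apply, LinearMap.snd_comp_inl,
      LinearMap.snd_comp_inr, LinearMap.rTensor_id_apply, LinearMap.rTensor_zero,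
      LinearMap.zero_apply, LinearMap.zero_apply, LinearMap.rTensor_id_apply, zero_add, zero_add]
      at hsnd
    exact ⟨hfst, hsnd⟩

end

end Groth.Agent.Helper7.MilnorGlue
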