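import Mathlib
import Groth.Prelude.Def_EtMil
import Groth.Agent.Helper7.MilnorGlue2
import Groth.Agent.Helper7.FlatMilnor2
import Groth.Agent.S14953

/-! Milnor patching: finiteness and projectivity of the glued module. -/

universe u

open TensorProduct

namespace Groth.Agent.Helper7.MilnorGlue

section

variable {B' B A' A : Type u} [CommRing B'] [CommRing B] [CommRing A'] [CommRing A]
  [Algebra B' B] [Algebra B' A'] [Algebra B A] [Algebra A' A] [Algebra B' A]
  [IsScalarTower B' B A] [IsScalarTower B' A' A]

theorem glue_finite (hsq : EtMil.IsFibreSquare B' B A' A)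
    (N M' : Type u) [AddCommGroup N] [Module B N] [Module B' N] [IsScalarTower B' B N]
    [AddCommGroup M'] [Module A' M'] [Module B' M'] [IsScalarTower B' A' M']
    (φ : A ⊗[B] N ≃ₗ[A] A ⊗[A'] M') (hN : Module.Finite B N) (hM : Module.Finite A' M') :
    Module.Finite B' ↥(EtMil.glue B' φ) := by
  haveI : Module.Finite B (B ⊗[B'] (EtMil.glue B' φ)) :=
    Module.Finite.equiv (LinearEquiv.ofBijective (rho1 B' φ) (rho1_bijective B' φ hsq)).symm
  haveI : Module.Finite A' (A' ⊗[B'] (EtMil.glue B' φ)) :=
    Module.Finite.equiv (LinearEquiv.ofBijective (rho B' φ) (rho_bijective B' φ hsq)).symm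
  exact Groth.Agent.S14953.result B' B A' A hsq _

theorem glue_projective (hsq : EtMil.IsFibreSquare B' B A' A)
    (N M' : Type u) [AddCommGroup N] [Module B N] [Module B' N] [IsScalarTower B' B N]
    [AddCommGroup M'] [Module A' M'] [Module B' M'] [IsScalarTower B' A' M']
    (φ : A ⊗[B] N ≃ₗ[A] A ⊗[A'] M') (hN : Module.Finite B N) (hN' : Module.Projective B N)
    (hM : Module.Finite A' M') (hM' : Module.Projective A' M') :
    Module.Projective B' ↥(EtMil.glue B' φ) := by
  haveI : Module.Flat B' ↥(EtMil.glue B' φ) := glue_flat hsq N M' φ inferInstance inferInstance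
  haveI : Module.FinitePresentation B N := Module.finitePresentation_of_projective B N
  haveI : Module.FinitePresentation A' M' := Module.finitePresentation_of_projective A' M'
  haveI : Module.Flat B (B ⊗[B'] (EtMil.glue B' φ)) :=
    Module.Flat.of_linearEquiv (LinearEquiv.ofBijective (rho1 B' φ) (rho1_bijective B' φ hsq))
  haveI : Module.Flat A' (A' ⊗[B'] (EtMil.glue B' φ)) :=
    Module.Flat.of_linearEquiv (LinearEquiv.ofBijective (rho B' φ) (rho_bijective B' φ hsq))
  haveI : Module.FinitePresentation B (B ⊗[B'] (EtMil.glue B' φ)) :=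
    Module.FinitePresentation.of_equiv
      (LinearEquiv.ofBijective (rho1 B' φ) (rho1_bijective B' φ hsq)).symm
  haveI : Module.FinitePresentation A' (A' ⊗[B'] (EtMil.glue B' φ)) :=
    Module.FinitePresentation.of_equiv
      (LinearEquiv.ofBijective (rho B' φ) (rho_bijective B' φ hsq)).symm
  haveI : Module.FinitePresentation B' ↥(EtMil.glue B' φ) :=
    Groth.Agent.Helper7.FlatMilnor2.fp_of_fibreSquare B' B A' A hsq _
  exact Module.Flat.projective_of_finitePresentation

end

end Groth.Agent.Helper7.MilnorGlue
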