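import Mathlib
import Groth.Prelude.Def_EtMil
import Groth.Agent.Helper7.EtMil
import Groth.Agent.Helper7.MilnorGlue

/-! Milnor squares: the relative ideal. -/

universe u

open TensorProduct

namespace Groth.Agent.Helper7.MilnorIdeal

open Groth.Agent.Helper7.MilnorGlue

variable {B' B A' A : Type u} [CommRing B'] [CommRing B] [CommRing A'] [CommRing A]
  [Algebra B' B] [Algebra B' A'] [Algebra B A] [Algebra A' A] [Algebra B' A]
  [IsScalarTower B' B A] [IsScalarTower B' A' A]

theorem relative_ideal_map_eq (hsq : EtMil.IsFibreSquare B' B A' A)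
    (D' C' : Type u) [CommRing D'] [CommRing C'] [Algebra B' D'] [Algebra A' C']
    [Algebra D' C'] [Algebra B' C'] [IsScalarTower B' A' C'] [IsScalarTower B' D' C'] [Algebra.IsPushout B' A' D' C'] :
    (algebraMap D' C') '' ((RingHom.ker (algebraMap B' B)).map (algebraMap B' D') : Set D') =
      ((RingHom.ker (algebraMap A' A)).map (algebraMap A' C') : Set C') := by
  set J := RingHom.ker (algebraMap B' B) with hJ
  set I := RingHom.ker (algebraMap A' A) with hI
  have hJI : ∀ j ∈ J, algebraMap B' A' j ∈ I := by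
    intro j hj
    rw [hI, RingHom.mem_ker, ← IsScalarTower.algebraMap_apply, IsScalarTower.algebraMap_apply B' B A,
      (RingHom.mem_ker).1 hj, map_zero]
  have hcomp : ∀ b' : B', algebraMap D' C' (algebraMap B' D' b') =
      algebraMap A' C' (algebraMap B' A' b') := by
    intro b'
    rw [← IsScalarTower.algebraMap_apply, ← IsScalarTower.algebraMap_apply]
  -- multiplication by an element of `A'` preserves the image of `J D'`
  have step : ∀ (a' : A') (x : D'), x ∈ J.map (algebraMap B' D') →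
      ∃ x' ∈ J.map (algebraMap B' D'), algebraMap D' C' x' = algebraMap A' C' a' * algebraMap D' C' x := by
    intro a' x hx
    rw [Ideal.map] at hx
    refine Submodule.span_induction (p := fun x _ => ∃ x' ∈ J.map (algebraMap B' D'),
      algebraMap D' C' x' = algebraMap A' C' a' * algebraMap D' C' x) ?_ ?_ ?_ ?_ hx
    · rintro _ ⟨j, hj, rfl⟩
      have hc : a' * algebraMap B' A' j ∈ I := Ideal.mul_mem_left _ _ (hJI j hj)
      obtain ⟨β, hβ1, hβ2⟩ := exists_beta hsq _ hc
      refine ⟨algebraMap B' D' β, Ideal.mem_map_of_mem _ ((RingHom.mem_ker).2 hβ1), ?_⟩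
      rw [hcomp, hβ2, map_mul, hcomp]
    · exact ⟨0, Submodule.zero_mem _, by simp⟩
    · rintro x y _ _ ⟨x', hx', ex⟩ ⟨y', hy', ey⟩
      exact ⟨x' + y', Submodule.add_mem _ hx' hy', by rw [map_add, map_add, ex, ey, mul_add]⟩
    · rintro d x _ ⟨x', hx', ex⟩
      refine ⟨d * x', Ideal.mul_mem_left _ _ hx', ?_⟩
      rw [smul_eq_mul, map_mul, map_mul, ex]
      ring
  have hbc : IsBaseChange A' (IsScalarTower.toAlgHom B' D' C').toLinearMap :=
    Algebra.IsPushout.out
  -- multiplication by an element of `C'` preserves the image of `J D'`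
  have step2 : ∀ (c : C') (y : C'), (∃ x ∈ J.map (algebraMap B' D'), algebraMap D' C' x = y) →
      ∃ x ∈ J.map (algebraMap B' D'), algebraMap D' C' x = c * y := by
    intro c
    refine hbc.inductionOn c (fun c => ∀ (y : C'),
      (∃ x ∈ J.map (algebraMap B' D'), algebraMap D' C' x = y) →
      ∃ x ∈ J.map (algebraMap B' D'), algebraMap D' C' x = c * y) ?_ ?_ ?_ ?_
    · intro y _
      exact ⟨0, Submodule.zero_mem _, by simp⟩
    · rintro d y ⟨x, hx, rfl⟩
      refine ⟨d * x, Ideal.mul_mem_left _ _ hx, ?_⟩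
      rw [map_mul]
      rfl
    · rintro a' c ih y hy
      obtain ⟨x, hx, ex⟩ := ih y hy
      obtain ⟨x', hx', ex'⟩ := step a' x hx
      refine ⟨x', hx', ?_⟩
      rw [ex', ex, Algebra.smul_def, mul_assoc]
    · rintro c₁ c₂ ih₁ ih₂ y hy
      obtain ⟨x₁, hx₁, e₁⟩ := ih₁ y hy
      obtain ⟨x₂, hx₂, e₂⟩ := ih₂ y hy
      exact ⟨x₁ + x₂, Submodule.add_mem _ hx₁ hx₂, by rw [map_add, e₁, e₂, add_mul]⟩
  apply Set.eq_of_subset_of_subset
  · rintro _ ⟨x, hx, rfl⟩
    have h1 : algebraMap D' C' x ∈ (J.map (algebraMap B' D')).map (algebraMap D' C') :=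
      Ideal.mem_map_of_mem _ hx
    rw [Ideal.map_map] at h1
    have h2 : (algebraMap D' C').comp (algebraMap B' D') =
        (algebraMap A' C').comp (algebraMap B' A') := by
      ext b'; exact hcomp b'
    rw [h2, ← Ideal.map_map] at h1
    have h3 : J.map (algebraMap B' A') ≤ I := by
      rw [Ideal.map_le_iff_le_comap]
      intro j hj
      exact hJI j hj
    exact Ideal.map_mono h3 h1
  · intro y hy
    have hy' : y ∈ I.map (algebraMap A' C') := hy
    rw [Ideal.map] at hy'
    refine Submodule.span_induction (p := fun y _ => ∃ x ∈ J.map (algebraMap B' D'),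
      algebraMap D' C' x = y) ?_ ?_ ?_ ?_ hy'
    · rintro _ ⟨i, hi, rfl⟩
      obtain ⟨β, hβ1, hβ2⟩ := exists_beta hsq i hi
      refine ⟨algebraMap B' D' β, Ideal.mem_map_of_mem _ ((RingHom.mem_ker).2 hβ1), ?_⟩
      rw [hcomp, hβ2]
    · exact ⟨0, Submodule.zero_mem _, by simp⟩
    · rintro x y _ _ ⟨x', hx', ex⟩ ⟨y', hy', ey⟩
      exact ⟨x' + y', Submodule.add_mem _ hx' hy', by rw [map_add, ex, ey]⟩
    · rintro c y _ hy
      exact step2 c y hy

end Groth.Agent.Helper7.MilnorIdeal
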