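import Mathlib
import Groth.Prelude
import Groth.Agent.Helper2.Miracle
import Groth.Agent.Helper4.RegNormal

/-!
# A finite Cohen–Macaulay domain over a regular local ring is flat
-/

set_option autoImplicit false
set_option linter.style.haveILetI false
set_option linter.unusedSectionVars false
universe u

namespace Groth.Agent.Helper7.FinCMFlat

open IsLocalRing

theorem main (R S : Type u) [CommRing R] [CommRing S]
    [IsRegularLocalRing R] [IsDomain S] [Algebra R S] [Module.Finite R S]
    (hinj : Function.Injective (algebraMap R S))
    (hCM : ∀ (q : Ideal S) [q.IsMaximal],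
      LocCoh.IsCohenMacaulayLocalRing (Localization.AtPrime q)) :
    Module.Flat R S := by
  have hRdom : IsDomain R := Groth.Agent.Lead.RegLocal.isDomain_of_isRegularLocalRing R
  have hRic : IsIntegrallyClosed R :=
    Groth.Agent.Helper4.RegNormal.isIntegrallyClosed_of_isRegularLocalRing R
  have hfaith : FaithfulSMul R S := (faithfulSMul_iff_algebraMap_injective R S).2 hinj
  have hint : Algebra.IsIntegral R S := inferInstance
  have hGD : Algebra.HasGoingDown R S := inferInstance
  have hSnoeth : IsNoetherianRing S := IsNoetherianRing.of_finite R S
  apply Module.flat_of_isLocalized_maximal S S (fun P _ => Localization.AtPrime P)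
    (fun P _ => Algebra.linearMap S _)
  intro q hq
  have hcm := hCM q
  have hqm : q.comap (algebraMap R S) = maximalIdeal R :=
    IsLocalRing.eq_maximalIdeal (Ideal.isMaximal_comap_of_isIntegral_of_isMaximal q)
  have hcomp : ∀ x : R, algebraMap R (Localization.AtPrime q) x =
      algebraMap S (Localization.AtPrime q) (algebraMap R S x) := fun x =>
    IsScalarTower.algebraMap_apply R S (Localization.AtPrime q) x
  have hmem : ∀ x : R, algebraMap R (Localization.AtPrime q) x ∈
      maximalIdeal (Localization.AtPrime q) ↔ x ∈ maximalIdeal R := by
    intro x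
    rw [hcomp, IsLocalization.AtPrime.to_map_mem_maximal_iff (Localization.AtPrime q) q, ← hqm,
      Ideal.mem_comap]
  have hloc : IsLocalHom (algebraMap R (Localization.AtPrime q)) := by
    constructor
    intro x hx
    by_contra hnu
    have hxm : x ∈ maximalIdeal R := hnu
    exact ((hmem x).2 hxm) hx
  have hGD2 : Algebra.HasGoingDown S (Localization.AtPrime q) := inferInstance
  have hGD3 : Algebra.HasGoingDown R (Localization.AtPrime q) := Algebra.HasGoingDown.trans (R := R) (S := S) (Localization.AtPrime q)
  have hlies : (maximalIdeal (Localization.AtPrime q)).LiesOver (maximalIdeal R) := by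
    constructor
    ext x
    rw [Ideal.under_def, Ideal.mem_comap, hmem]
  have hSqn : IsNoetherianRing (Localization.AtPrime q) := inferInstance
  have hh := Ideal.height_eq_height_add_of_liesOver_of_hasGoingDown (maximalIdeal R)
    (maximalIdeal (Localization.AtPrime q))
  apply Groth.Agent.Helper2.Miracle.flat_of_cm_ring
  have hne : (maximalIdeal R).map (algebraMap R (Localization.AtPrime q)) ≠ ⊤ := by
    intro htop
    have hle : (maximalIdeal R).map (algebraMap R (Localization.AtPrime q)) ≤
        maximalIdeal (Localization.AtPrime q) := by
      rw [Ideal.map_le_iff_le_comap]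
      intro x hx
      exact (hmem x).2 hx
    rw [htop, top_le_iff] at hle
    exact (IsLocalRing.maximalIdeal.isMaximal _).ne_top hle
  have hnt : Nontrivial (Localization.AtPrime q ⧸
      (maximalIdeal R).map (algebraMap R (Localization.AtPrime q))) :=
    Ideal.Quotient.nontrivial_iff.2 hne
  have hmaxmap : (maximalIdeal (Localization.AtPrime q)).map
      (Ideal.Quotient.mk ((maximalIdeal R).map (algebraMap R (Localization.AtPrime q)))) =
      maximalIdeal _ := by
    apply IsLocalRing.eq_maximalIdeal
    apply Ideal.IsMaximal.map_of_surjective_of_ker_le Ideal.Quotient.mk_surjective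
    rw [Ideal.mk_ker, Ideal.map_le_iff_le_comap]
    intro x hx
    exact (hmem x).2 hx
  rw [← maximalIdeal_height_eq_ringKrullDim, ← maximalIdeal_height_eq_ringKrullDim,
    ← maximalIdeal_height_eq_ringKrullDim, hh, hmaxmap]
  push_cast
  rfl

end Groth.Agent.Helper7.FinCMFlat
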