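import Mathlib

set_option autoImplicit false
universe u v w

/-!
# Zariski–Nagata purity, part A: algebras étale over the punctured spectrum of a local ring
-/

namespace Groth.Agent.Helper7.ZNPur

open IsLocalRing TensorProduct

/-- `T` is étale over the punctured spectrum of the local ring `R`, prime form. -/
def EtPunct (R : Type u) (T : Type v) [CommRing R] [IsLocalRing R] [CommRing T] [Algebra R T] :
    Prop :=
  ∀ (q : Ideal T) [q.IsPrime], q.comap (algebraMap R T) ≠ maximalIdeal R → Algebra.IsEtaleAt R q

/-- `T` is étale over the punctured spectrum of the local ring `R`, localization form. -/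
def EtAway (R : Type u) (T : Type v) [CommRing R] [IsLocalRing R] [CommRing T] [Algebra R T] :
    Prop :=
  ∀ f ∈ maximalIdeal R, Algebra.Etale R (Localization.Away (algebraMap R T f))

section
variable {R : Type u} {T : Type v} [CommRing R] [IsLocalRing R] [CommRing T] [Algebra R T]

theorem EtPunct.etAway [Algebra.FinitePresentation R T] (h : EtPunct R T) : EtAway R T := by
  intro f hf
  rw [← Algebra.basicOpen_subset_etaleLocus_iff_etale]
  intro q hq
  rw [Algebra.mem_etaleLocus_iff]
  apply h
  intro hc
  have : f ∈ q.asIdeal.comap (algebraMap R T) := hc ▸ hf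
  exact hq this

theorem EtAway.etPunct (h : EtAway R T) : EtPunct R T := by
  intro q _ hq
  have hle : q.comap (algebraMap R T) ≤ maximalIdeal R :=
    IsLocalRing.le_maximalIdeal (Ideal.comap_ne_top _ (Ideal.IsPrime.ne_top'))
  obtain ⟨f, hfm, hfq⟩ : ∃ f ∈ maximalIdeal R, f ∉ q.comap (algebraMap R T) := by
    by_contra hcon
    push Not at hcon
    exact hq (le_antisymm hle hcon)
  have h1 := (Algebra.basicOpen_subset_etaleLocus_iff (R := R) (f := algebraMap R T f)).mpr
    (h f hfm).1
  exact h1 (show (⟨q, ‹_›⟩ : PrimeSpectrum T) ∈ PrimeSpectrum.basicOpen _ from hfq)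

/-- étale algebras over an algebra which is étale over the punctured spectrum -/
theorem EtPunct.comp {T' : Type w} [CommRing T'] [Algebra T T'] [Algebra R T']
    [IsScalarTower R T T'] (h : EtPunct R T) [Algebra.FormallyEtale T T'] : EtPunct R T' := by
  intro q' _ hq'
  haveI : (q'.comap (algebraMap T T')).IsPrime := Ideal.comap_isPrime _ _
  haveI : q'.LiesOver (q'.comap (algebraMap T T')) := ⟨rfl⟩
  haveI : Algebra.IsEtaleAt R (q'.comap (algebraMap T T')) := by
    apply h
    rwa [Ideal.comap_comap, ← IsScalarTower.algebraMap_eq]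
  haveI : Algebra.IsEtaleAt T q' := by
    have : Algebra.etaleLocus T T' = Set.univ := Algebra.etaleLocus_eq_univ_iff.mpr inferInstance
    have h2 : (⟨q', ‹_›⟩ : PrimeSpectrum T') ∈ Algebra.etaleLocus T T' := by rw [this]; trivial
    exact h2
  exact Algebra.IsEtaleAt.comp (q'.comap (algebraMap T T')) q'

end

section BaseChange
variable {R : Type u} {T : Type u} [CommRing R] [IsLocalRing R] [CommRing T] [Algebra R T]

/-- base change to a quotient of the base -/
theorem EtAway.baseChange_quotient (h : EtAway R T) (I : Ideal R) [IsLocalRing (R ⧸ I)] :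
    EtAway (R ⧸ I) ((R ⧸ I) ⊗[R] T) := by
  intro fbar hfbar
  obtain ⟨f, rfl⟩ := Ideal.Quotient.mk_surjective fbar
  have hf : f ∈ maximalIdeal R := by
    rw [mem_maximalIdeal, mem_nonunits_iff] at hfbar ⊢
    intro hu
    exact hfbar (hu.map (Ideal.Quotient.mk I))
  haveI := h f hf
  have hel : algebraMap (R ⧸ I) ((R ⧸ I) ⊗[R] T) (Ideal.Quotient.mk I f) =
      (1 : R ⧸ I) ⊗ₜ[R] (algebraMap R T f) := by
    rw [Algebra.TensorProduct.algebraMap_apply, Algebra.algebraMap_self, RingHom.id_apply,
      ← Ideal.Quotient.algebraMap_eq, Algebra.algebraMap_eq_smul_one, Algebra.algebraMap_eq_smul_one,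
      TensorProduct.smul_tmul]
  rw [hel]
  exact Algebra.Etale.of_equiv
    (IsLocalization.Away.tensorProductEquivTMulRight R (R ⧸ I) (algebraMap R T f)
      (Localization.Away (algebraMap R T f)))

end BaseChange

end Groth.Agent.Helper7.ZNPur
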