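import Mathlib
import Groth.Agent.Helper3.Pur2B
import Groth.Agent.Helper7.ZNPurA

set_option autoImplicit false
universe u v

/-!
# Zariski–Nagata purity, part C: flat + étale over the punctured spectrum ⇒ étale
-/

namespace Groth.Agent.Helper7.ZNPur

open IsLocalRing

/-- in a Noetherian local ring of dimension `≥ 2`, every non-unit lies in a non-maximal prime -/
theorem exists_prime_ne_maximalIdeal {R : Type u} [CommRing R] [IsNoetherianRing R] [IsLocalRing R]
    (hdim : (2 : WithBot ℕ∞) ≤ ringKrullDim R) (d : R) (hd : d ∈ maximalIdeal R) :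
    ∃ 𝔭 : Ideal R, 𝔭.IsPrime ∧ 𝔭 ≠ maximalIdeal R ∧ d ∈ 𝔭 := by
  have hle : Ideal.span {d} ≤ maximalIdeal R := (Ideal.span_singleton_le_iff_mem _).mpr hd
  obtain ⟨𝔭, h𝔭, -⟩ := Ideal.exists_minimalPrimes_le hle
  refine ⟨𝔭, h𝔭.1.1, ?_, h𝔭.1.2 (Ideal.subset_span rfl)⟩
  intro heq
  have h1 : 𝔭.height ≤ 1 :=
    Ideal.height_le_one_of_isPrincipal_of_mem_minimalPrimes (Ideal.span {d}) 𝔭 h𝔭
  have h2 : ((maximalIdeal R).height : WithBot ℕ∞) = ringKrullDim R :=
    IsLocalRing.maximalIdeal_height_eq_ringKrullDim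
  rw [← h2, ← heq] at hdim
  have h3 : ((2 : ℕ∞) : WithBot ℕ∞) ≤ (𝔭.height : WithBot ℕ∞) := hdim
  have := (WithBot.coe_le_coe.mp h3).trans h1
  norm_num at this

theorem etale_of_flat_of_etPunct (R : Type u) (T : Type v) [CommRing R] [IsNoetherianRing R]
    [IsLocalRing R] (hdim : (2 : WithBot ℕ∞) ≤ ringKrullDim R) [CommRing T] [Algebra R T]
    [Module.Finite R T] [Module.Flat R T] (h : EtPunct R T) : Algebra.Etale R T := by
  haveI : Module.Free R T := Module.free_of_flat_of_isLocalRing
  apply Groth.Agent.Helper3.Pur2.etale_of_free R T (exists_prime_ne_maximalIdeal hdim)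
  intro 𝔭 _ h𝔭
  set T' := Localization (Algebra.algebraMapSubmonoid T 𝔭.primeCompl) with hT'
  have hfe : Algebra.FormallyEtale R T' := by
    rw [← Algebra.etaleLocus_eq_univ_iff, Set.eq_univ_iff_forall]
    rintro ⟨Q, hQ⟩
    rw [Algebra.mem_etaleLocus_iff]
    haveI := hQ
    set q := Q.comap (algebraMap T T') with hq
    haveI : q.IsPrime := Ideal.comap_isPrime _ _
    have hdisj : Disjoint (Algebra.algebraMapSubmonoid T 𝔭.primeCompl : Set T) (q : Set T) :=
      (IsLocalization.isPrime_iff_isPrime_disjoint (Algebra.algebraMapSubmonoid T 𝔭.primeCompl) T' Q).mp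
        hQ |>.2
    have hqne : q.comap (algebraMap R T) ≠ maximalIdeal R := by
      intro heq
      apply h𝔭
      symm
      apply (IsLocalRing.maximalIdeal.isMaximal R).eq_of_le Ideal.IsPrime.ne_top'
      intro a ha
      by_contra ha𝔭
      have h1 : algebraMap R T a ∈ (Algebra.algebraMapSubmonoid T 𝔭.primeCompl : Set T) :=
        ⟨a, ha𝔭, rfl⟩
      have h2 : algebraMap R T a ∈ (q : Set T) := by
        have : a ∈ q.comap (algebraMap R T) := heq ▸ ha
        exact this
      exact Set.disjoint_left.mp hdisj h1 h2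
    haveI : Algebra.IsEtaleAt R q := h q hqne
    haveI : IsLocalization.AtPrime (Localization.AtPrime Q) q :=
      IsLocalization.isLocalization_isLocalization_atPrime_isLocalization
        (Algebra.algebraMapSubmonoid T 𝔭.primeCompl) (Localization.AtPrime Q) Q
    let e : Localization.AtPrime q ≃ₐ[T] Localization.AtPrime Q :=
      IsLocalization.algEquiv q.primeCompl _ _
    exact Algebra.FormallyEtale.of_equiv (e.restrictScalars R)
  haveI : Algebra.FormallyEtale (Localization.AtPrime 𝔭) T' :=
    Algebra.FormallyEtale.of_restrictScalars (R := R)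
  haveI : Module.Finite (Localization.AtPrime 𝔭) T' := inferInstance
  haveI : IsNoetherianRing (Localization.AtPrime 𝔭) := inferInstance
  haveI : Algebra.FinitePresentation (Localization.AtPrime 𝔭) T' :=
    Algebra.FinitePresentation.of_finiteType.mp inferInstance
  exact ⟨inferInstance, inferInstance⟩

end Groth.Agent.Helper7.ZNPur
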