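import Mathlib
import Groth.Agent.Helper3.FinComp1

set_option autoImplicit false
universe u

/-!
# Zariski–Nagata purity, part G: the local factor of a finite algebra over a complete local ring
at one of its maximal ideals
-/

namespace Groth.Agent.Helper7.ZNPur

open IsLocalRing

section LocFactor

variable (R : Type u) [CommRing R] [IsLocalRing R] [IsNoetherianRing R]
  [IsAdicComplete (maximalIdeal R) R]
  (C : Type u) [CommRing C] [Algebra R C] [Module.Finite R C]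

/-- the idempotent cutting out the maximal ideal `𝔫` -/
noncomputable def locIdem (𝔫 : Ideal C) [𝔫.IsMaximal] : C :=
  (Groth.Agent.Helper3.FinComp1.exists_idempotent R C 𝔫).choose

theorem locIdem_isIdempotentElem (𝔫 : Ideal C) [𝔫.IsMaximal] :
    IsIdempotentElem (locIdem R C 𝔫) :=
  (Groth.Agent.Helper3.FinComp1.exists_idempotent R C 𝔫).choose_spec.1

theorem locIdem_notMem (𝔫 : Ideal C) [𝔫.IsMaximal] : locIdem R C 𝔫 ∉ 𝔫 :=
  (Groth.Agent.Helper3.FinComp1.exists_idempotent R C 𝔫).choose_spec.2.1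

theorem locIdem_mem (𝔫 : Ideal C) [𝔫.IsMaximal] (𝔫' : Ideal C) (h' : 𝔫'.IsMaximal)
    (hne : 𝔫' ≠ 𝔫) : locIdem R C 𝔫 ∈ 𝔫' :=
  (Groth.Agent.Helper3.FinComp1.exists_idempotent R C 𝔫).choose_spec.2.2 𝔫' h' hne

/-- the local factor of `C` at `𝔫` -/
abbrev LocFactor (𝔫 : Ideal C) [𝔫.IsMaximal] : Type u :=
  C ⧸ Ideal.span {1 - locIdem R C 𝔫}

instance isLocalRing_locFactor (𝔫 : Ideal C) [𝔫.IsMaximal] : IsLocalRing (LocFactor R C 𝔫) :=
  Groth.Agent.Helper3.FinComp1.isLocalRing_quot (locIdem R C 𝔫) (locIdem_isIdempotentElem R C 𝔫) 𝔫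
    (locIdem_notMem R C 𝔫) (locIdem_mem R C 𝔫)

instance isLocalization_away_locFactor (𝔫 : Ideal C) [𝔫.IsMaximal] :
    IsLocalization.Away (locIdem R C 𝔫) (LocFactor R C 𝔫) :=
  IsLocalization.Away.quotient_of_isIdempotentElem (locIdem_isIdempotentElem R C 𝔫)

instance etale_locFactor (𝔫 : Ideal C) [𝔫.IsMaximal] : Algebra.Etale C (LocFactor R C 𝔫) :=
  Algebra.Etale.of_isLocalizationAway (locIdem R C 𝔫)

theorem span_le (𝔫 : Ideal C) [h𝔫 : 𝔫.IsMaximal] : Ideal.span {1 - locIdem R C 𝔫} ≤ 𝔫 := by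
  rw [Ideal.span_le, Set.singleton_subset_iff]
  have h0 : locIdem R C 𝔫 * (1 - locIdem R C 𝔫) ∈ 𝔫 := by
    have : locIdem R C 𝔫 * (1 - locIdem R C 𝔫) = 0 := by
      rw [mul_sub, mul_one, (locIdem_isIdempotentElem R C 𝔫).eq, sub_self]
    rw [this]; exact 𝔫.zero_mem
  exact (h𝔫.isPrime.mem_or_mem h0).resolve_left (locIdem_notMem R C 𝔫)

/-- the maximal ideal of the local factor pulls back to `𝔫` -/
theorem comap_maximalIdeal_locFactor (𝔫 : Ideal C) [h𝔫 : 𝔫.IsMaximal] :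
    (maximalIdeal (LocFactor R C 𝔫)).comap (Ideal.Quotient.mk _) = 𝔫 := by
  set J : Ideal C := Ideal.span {1 - locIdem R C 𝔫} with hJ
  have hsurj : Function.Surjective (Ideal.Quotient.mk J) := Ideal.Quotient.mk_surjective
  haveI hM' : ((maximalIdeal (LocFactor R C 𝔫)).comap (Ideal.Quotient.mk J)).IsMaximal :=
    Ideal.comap_isMaximal_of_surjective _ hsurj
  by_contra hne
  have hmem := locIdem_mem R C 𝔫 _ hM' hne
  have hJM : J ≤ (maximalIdeal (LocFactor R C 𝔫)).comap (Ideal.Quotient.mk J) := by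
    intro x hx
    rw [Ideal.mem_comap, Ideal.Quotient.eq_zero_iff_mem.mpr hx]
    exact Ideal.zero_mem _
  have h1e : 1 - locIdem R C 𝔫 ∈ (maximalIdeal (LocFactor R C 𝔫)).comap (Ideal.Quotient.mk J) :=
    hJM (Ideal.subset_span rfl)
  have : (1 : C) ∈ (maximalIdeal (LocFactor R C 𝔫)).comap (Ideal.Quotient.mk J) := by
    have := Ideal.add_mem _ hmem h1e
    simpa using this
  exact hM'.ne_top ((Ideal.eq_top_iff_one _).mpr this)

/-- the local factor is the localization of `C` at `𝔫` -/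
instance isLocalization_atPrime_locFactor (𝔫 : Ideal C) [h𝔫 : 𝔫.IsMaximal] :
    IsLocalization.AtPrime (LocFactor R C 𝔫) 𝔫 := by
  set J : Ideal C := Ideal.span {1 - locIdem R C 𝔫} with hJ
  rw [IsLocalization.AtPrime, isLocalization_iff]
  refine ⟨?_, ?_, ?_⟩
  · rintro ⟨s, hs⟩
    change IsUnit (Ideal.Quotient.mk J s)
    by_contra hu
    have : Ideal.Quotient.mk J s ∈ maximalIdeal (LocFactor R C 𝔫) := hu
    have h2 : s ∈ (maximalIdeal (LocFactor R C 𝔫)).comap (Ideal.Quotient.mk J) := this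
    rw [comap_maximalIdeal_locFactor] at h2
    exact hs h2
  · intro z
    obtain ⟨c, rfl⟩ := Ideal.Quotient.mk_surjective z
    exact ⟨⟨c, 1⟩, by simp⟩
  · intro x y hxy
    have h1 : x - y ∈ J := by
      rw [← Ideal.Quotient.eq]
      exact hxy
    rw [hJ, Ideal.mem_span_singleton'] at h1
    obtain ⟨a, ha⟩ := h1
    refine ⟨⟨locIdem R C 𝔫, locIdem_notMem R C 𝔫⟩, ?_⟩
    have h0 : locIdem R C 𝔫 * (1 - locIdem R C 𝔫) = 0 := by
      rw [mul_sub, mul_one, (locIdem_isIdempotentElem R C 𝔫).eq, sub_self]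
    have : locIdem R C 𝔫 * (x - y) = 0 := by
      rw [← ha, mul_comm a, ← mul_assoc, h0, zero_mul]
    change locIdem R C 𝔫 * x = locIdem R C 𝔫 * y
    rw [← sub_eq_zero, ← mul_sub]
    exact this

/-- a map from `C` to a domain whose kernel lies in `𝔫` factors through the local factor at `𝔫` -/
theorem map_locIdem_eq_one {D : Type*} [CommRing D] [IsDomain D] (μ : C →+* D) (𝔫 : Ideal C)
    [𝔫.IsMaximal] (hker : RingHom.ker μ ≤ 𝔫) : μ (locIdem R C 𝔫) = 1 := by
  have hid : μ (locIdem R C 𝔫) * μ (locIdem R C 𝔫) = μ (locIdem R C 𝔫) := by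
    rw [← map_mul, (locIdem_isIdempotentElem R C 𝔫).eq]
  have h0 : μ (locIdem R C 𝔫) * (μ (locIdem R C 𝔫) - 1) = 0 := by
    rw [mul_sub, hid, mul_one, sub_self]
  rcases mul_eq_zero.mp h0 with h | h
  · exact absurd (hker ((RingHom.mem_ker).mpr h)) (locIdem_notMem R C 𝔫)
  · exact sub_eq_zero.mp h

theorem map_eq_zero_of_mem_span {D : Type*} [CommRing D] [IsDomain D] (μ : C →+* D) (𝔫 : Ideal C)
    [𝔫.IsMaximal] (hker : RingHom.ker μ ≤ 𝔫) :
    ∀ a ∈ Ideal.span {1 - locIdem R C 𝔫}, μ a = 0 := by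
  intro a ha
  rw [Ideal.mem_span_singleton'] at ha
  obtain ⟨b, rfl⟩ := ha
  rw [map_mul, map_sub, map_one, map_locIdem_eq_one R C μ 𝔫 hker, sub_self, mul_zero]

end LocFactor

end Groth.Agent.Helper7.ZNPur
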