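import Mathlib

set_option autoImplicit false

namespace Groth.Agent.Helper7.WqKer

open Polynomial PiTensorProduct
open scoped TensorProduct

section FreeCI

variable {R : Type*} [CommRing R] {J : Type*} [Fintype J] [DecidableEq J]
variable (g : J → R[X])

/-- the ideal generated by the one-variable polynomials `g j (X j)` -/
noncomputable def ciIdeal : Ideal (MvPolynomial J R) :=
  Ideal.span (Set.range fun j => Polynomial.aeval (MvPolynomial.X j : MvPolynomial J R) (g j))

/-- the tensor product of the `AdjoinRoot`s -/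
abbrev TT : Type _ := ⨂[R] j, AdjoinRoot (g j)

/-- `MvPolynomial J R → ⨂ AdjoinRoot` -/
noncomputable def toT : MvPolynomial J R →ₐ[R] TT g :=
  MvPolynomial.aeval (fun j => singleAlgHom (R := R) (A := fun j => AdjoinRoot (g j)) j
    (AdjoinRoot.root (g j)))

theorem toT_X (j : J) : toT g (MvPolynomial.X j) =
    singleAlgHom (R := R) (A := fun j => AdjoinRoot (g j)) j (AdjoinRoot.root (g j)) := by
  simp [toT]

theorem toT_gen (j : J) :
    toT g (Polynomial.aeval (MvPolynomial.X j : MvPolynomial J R) (g j)) = 0 := by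
  rw [← Polynomial.aeval_algHom_apply, toT_X, Polynomial.aeval_algHom_apply,
    AdjoinRoot.aeval_eq, AdjoinRoot.mk_self, map_zero]

theorem ciIdeal_le_ker : ciIdeal g ≤ RingHom.ker (toT g : MvPolynomial J R →+* TT g) := by
  unfold ciIdeal
  rw [Ideal.span_le]
  rintro _ ⟨j, rfl⟩
  exact toT_gen g j

/-- the induced map on the quotient -/
noncomputable def quotToT : (MvPolynomial J R ⧸ ciIdeal g) →ₐ[R] TT g :=
  Ideal.Quotient.liftₐ (ciIdeal g) (toT g) (fun x hx => ciIdeal_le_ker g hx)

theorem quotToT_mk (f : MvPolynomial J R) :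
    quotToT g (Ideal.Quotient.mk (ciIdeal g) f) = toT g f := rfl

/-- the component maps `AdjoinRoot (g j) → Q` -/
noncomputable def compHom (j : J) : AdjoinRoot (g j) →ₐ[R] (MvPolynomial J R ⧸ ciIdeal g) :=
  AdjoinRoot.liftAlgHom (g j) (Algebra.ofId R _) (Ideal.Quotient.mk (ciIdeal g) (MvPolynomial.X j))
    (by
      have h1 : Polynomial.aeval (MvPolynomial.X j : MvPolynomial J R) (g j) ∈ ciIdeal g :=
        Ideal.subset_span ⟨j, rfl⟩
      have h2 := Ideal.Quotient.eq_zero_iff_mem.mpr h1
      rw [← Ideal.Quotient.mkₐ_eq_mk R, ← Polynomial.aeval_algHom_apply] at h2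
      exact h2)

theorem compHom_root (j : J) :
    compHom g j (AdjoinRoot.root (g j)) = Ideal.Quotient.mk (ciIdeal g) (MvPolynomial.X j) := by
  simp [compHom]

/-- `⨂ AdjoinRoot → Q` -/
noncomputable def fromT : TT g →ₐ[R] (MvPolynomial J R ⧸ ciIdeal g) :=
  PiTensorProduct.liftAlgHom
    ((MultilinearMap.mkPiAlgebra R J (MvPolynomial J R ⧸ ciIdeal g)).compLinearMap
      (fun j => (compHom g j).toLinearMap))
    (by simp)
    (by
      intro x y
      simp [Finset.prod_mul_distrib])

theorem fromT_single (j : J) (a : AdjoinRoot (g j)) :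
    fromT g (singleAlgHom (R := R) (A := fun j => AdjoinRoot (g j)) j a) = compHom g j a := by
  unfold fromT
  rw [singleAlgHom_apply, liftAlgHom_apply, PiTensorProduct.lift.tprod]
  simp only [MultilinearMap.compLinearMap_apply, MultilinearMap.mkPiAlgebra_apply,
    AlgHom.toLinearMap_apply]
  rw [Finset.prod_eq_single j]
  · simp
  · intro i _ hij
    simp [hij]
  · intro h
    exact absurd (Finset.mem_univ j) h

theorem fromT_quotToT (q : MvPolynomial J R ⧸ ciIdeal g) : fromT g (quotToT g q) = q := by
  obtain ⟨f, rfl⟩ := Ideal.Quotient.mk_surjective q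
  rw [quotToT_mk]
  have : ((fromT g).comp (toT g)) = Ideal.Quotient.mkₐ R (ciIdeal g) := by
    apply MvPolynomial.algHom_ext
    intro j
    rw [AlgHom.comp_apply, toT_X, fromT_single, compHom_root]
    rfl
  exact congrArg (fun h : MvPolynomial J R →ₐ[R] _ => h f) this

theorem quotToT_fromT (t : TT g) : quotToT g (fromT g t) = t := by
  have : (quotToT g).comp (fromT g) = AlgHom.id R (TT g) := by
    apply PiTensorProduct.algHom_ext
    intro j
    apply AdjoinRoot.algHom_ext
    rw [AlgHom.comp_apply, AlgHom.comp_apply, fromT_single, compHom_root, quotToT_mk, toT_X]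
    rfl
  exact congrArg (fun h : TT g →ₐ[R] TT g => h t) this

/-- the quotient is isomorphic to the tensor product of the `AdjoinRoot`s -/
noncomputable def quotEquiv : (MvPolynomial J R ⧸ ciIdeal g) ≃ₐ[R] TT g :=
  AlgEquiv.ofAlgHom (quotToT g) (fromT g)
    (AlgHom.ext (quotToT_fromT g)) (AlgHom.ext (fromT_quotToT g))

theorem free_quot (hg : ∀ j, (g j).Monic) : Module.Free R (MvPolynomial J R ⧸ ciIdeal g) := by
  have hT : Module.Free R (TT g) :=
    Module.Free.of_basis (Basis.piTensorProduct fun j => (AdjoinRoot.powerBasis' (hg j)).basis)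
  exact Module.Free.of_equiv (quotEquiv g).symm.toLinearEquiv

theorem finrank_quot [Nontrivial R] (hg : ∀ j, (g j).Monic) :
    Module.finrank R (MvPolynomial J R ⧸ ciIdeal g) = ∏ j, (g j).natDegree := by
  rw [(quotEquiv g).toLinearEquiv.finrank_eq,
    Module.finrank_eq_card_basis
      (Basis.piTensorProduct fun j => (AdjoinRoot.powerBasis' (hg j)).basis)]
  simp

end FreeCI

end Groth.Agent.Helper7.WqKer
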