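import Mathlib
import Groth.Agent.Helper7.WqKerA

set_option autoImplicit false

namespace Groth.Agent.Helper7.WqReg

open Polynomial Groth.Agent.Helper7.WqKer

section Basic

variable {R : Type*} [CommRing R] (p : ℕ) {n : ℕ} (c x : Fin n → R)

/-- the defining relations `u_i^p - c_i u_i - x_i` -/
noncomputable def relC (i : Fin n) : MvPolynomial (Fin n) R :=
  MvPolynomial.X i ^ p - MvPolynomial.C (c i) * MvPolynomial.X i - MvPolynomial.C (x i)

/-- the ideal of relations -/
noncomputable def IC : Ideal (MvPolynomial (Fin n) R) := Ideal.span (Set.range (relC p c x))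

/-- the one-variable polynomials -/
noncomputable def gC (i : Fin n) : R[X] := X ^ p - (C (c i) * X + C (x i))

theorem gC_monic (hp2 : 2 ≤ p) (i : Fin n) : (gC p c x i).Monic := by
  apply monic_X_pow_sub
  refine lt_of_le_of_lt degree_linear_le ?_
  exact_mod_cast (by omega : 1 < p)

theorem gC_natDegree [Nontrivial R] (hp2 : 2 ≤ p) (i : Fin n) : (gC p c x i).natDegree = p := by
  unfold gC
  rw [natDegree_sub_eq_left_of_natDegree_lt, natDegree_X_pow]
  rw [natDegree_X_pow]
  exact lt_of_le_of_lt natDegree_linear_le (by omega)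

theorem aeval_gC (i : Fin n) :
    Polynomial.aeval (MvPolynomial.X i : MvPolynomial (Fin n) R) (gC p c x i) = relC p c x i := by
  unfold gC relC
  rw [map_sub, map_add, map_mul, map_pow, aeval_X, aeval_C, aeval_C]
  show _ - (MvPolynomial.C _ * _ + MvPolynomial.C _) = _
  ring

theorem IC_eq : IC p c x = ciIdeal (gC p c x) := by
  unfold IC ciIdeal
  congr 2
  funext i
  exact (aeval_gC p c x i).symm

/-- the ring `A` -/
abbrev AC : Type _ := MvPolynomial (Fin n) R ⧸ IC p c x

theorem free_AC (hp2 : 2 ≤ p) : Module.Free R (AC p c x) := by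
  unfold AC
  rw [IC_eq]
  exact free_quot (gC p c x) (gC_monic p c x hp2)

theorem finite_AC (hp2 : 2 ≤ p) : Module.Finite R (AC p c x) := by
  unfold AC
  rw [IC_eq]
  have hT : Module.Finite R (TT (gC p c x)) :=
    Module.Finite.of_basis (Basis.piTensorProduct fun j =>
      (AdjoinRoot.powerBasis' (gC_monic p c x hp2 j)).basis)
  exact Module.Finite.equiv (quotEquiv (gC p c x)).symm.toLinearEquiv

theorem finrank_AC [Nontrivial R] (hp2 : 2 ≤ p) : Module.finrank R (AC p c x) = p ^ n := by
  unfold AC
  rw [IC_eq, finrank_quot (gC p c x) (gC_monic p c x hp2)]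
  simp [gC_natDegree p c x hp2]

/-- the generators -/
noncomputable def uC (i : Fin n) : AC p c x := Ideal.Quotient.mk (IC p c x) (MvPolynomial.X i)

theorem uC_rel (i : Fin n) :
    uC p c x i ^ p = algebraMap R (AC p c x) (c i) * uC p c x i + algebraMap R (AC p c x) (x i) := by
  have hmem : relC p c x i ∈ IC p c x := Ideal.subset_span ⟨i, rfl⟩
  have h1 := Ideal.Quotient.eq_zero_iff_mem.mpr hmem
  unfold relC at h1
  rw [map_sub, map_sub, map_mul, map_pow] at h1
  have h2 : uC p c x i ^ p - algebraMap R (AC p c x) (c i) * uC p c x i -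
      algebraMap R (AC p c x) (x i) = 0 := h1
  linear_combination h2

theorem adjoin_uC : Algebra.adjoin R (Set.range (uC p c x)) = ⊤ := by
  have h1 : Algebra.adjoin R (Set.range (MvPolynomial.X : Fin n → MvPolynomial (Fin n) R)) = ⊤ :=
    MvPolynomial.adjoin_range_X
  have h2 := congrArg (Subalgebra.map (Ideal.Quotient.mkₐ R (IC p c x))) h1
  rw [AlgHom.map_adjoin, Algebra.map_top, ← Set.range_comp,
    (AlgHom.range_eq_top _).mpr (Ideal.Quotient.mkₐ_surjective R (IC p c x))] at h2
  exact h2

/-- the ideal generated by the `u_i` -/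
noncomputable def nC : Ideal (AC p c x) :=
  Ideal.map (Ideal.Quotient.mk (IC p c x))
    (Ideal.span (Set.range (MvPolynomial.X : Fin n → MvPolynomial (Fin n) R)))

theorem nC_eq_span : nC p c x = Ideal.span (Set.range (uC p c x)) := by
  unfold nC
  rw [Ideal.map_span, ← Set.range_comp]
  rfl

end Basic

end Groth.Agent.Helper7.WqReg
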