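import Mathlib
import Groth.Agent.Helper7.WqRegA
import Groth.Agent.Helper5.IntegralDim

set_option autoImplicit false

namespace Groth.Agent.Helper7.WqReg

open Polynomial Groth.Agent.Helper7.WqKer

section Local

variable {R : Type*} [CommRing R] [IsLocalRing R] (p : ℕ) {n : ℕ} (c x : Fin n → R)
variable (hp2 : 2 ≤ p) (hc : ∀ i, c i ∈ IsLocalRing.maximalIdeal R)
  (hx : IsLocalRing.maximalIdeal R = Ideal.span (Set.range x))

/-- the augmentation on the polynomial ring -/
noncomputable def eps' : MvPolynomial (Fin n) R →+* IsLocalRing.ResidueField R :=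
  MvPolynomial.eval₂Hom (IsLocalRing.residue R) (fun _ => 0)

include hp2 hx in
theorem eps'_rel (i : Fin n) : eps' (R := R) (relC p c x i) = 0 := by
  unfold eps' relC
  have hxi : IsLocalRing.residue R (x i) = 0 := by
    rw [IsLocalRing.residue_eq_zero_iff, hx]
    exact Ideal.subset_span ⟨i, rfl⟩
  simp only [map_sub, map_mul, map_pow, MvPolynomial.eval₂Hom_X', MvPolynomial.eval₂Hom_C, hxi]
  rw [zero_pow (by omega)]
  ring

/-- the augmentation `A → k` -/
noncomputable def eps : AC p c x →+* IsLocalRing.ResidueField R :=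
  Ideal.Quotient.lift (IC p c x) eps' (by
    intro f hf
    unfold IC at hf
    induction hf using Submodule.span_induction with
    | mem y hy =>
      obtain ⟨i, rfl⟩ := hy
      exact eps'_rel p c x hp2 hx i
    | zero => exact map_zero _
    | add y z _ _ hy hz => rw [map_add, hy, hz, add_zero]
    | smul c y _ hy => rw [smul_eq_mul, map_mul, hy, mul_zero])

theorem eps_algebraMap (r : R) :
    eps p c x hp2 hx (algebraMap R (AC p c x) r) = IsLocalRing.residue R r := by
  show eps p c x hp2 hx (Ideal.Quotient.mk _ (MvPolynomial.C r)) = _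
  unfold eps
  rw [Ideal.Quotient.lift_mk]
  simp [eps']

theorem eps_uC (i : Fin n) : eps p c x hp2 hx (uC p c x i) = 0 := by
  unfold eps uC
  rw [Ideal.Quotient.lift_mk]
  simp [eps']

theorem eps_surjective : Function.Surjective (eps p c x hp2 hx) := by
  intro y
  obtain ⟨r, rfl⟩ := IsLocalRing.residue_surjective y
  exact ⟨algebraMap R (AC p c x) r, eps_algebraMap p c x hp2 hx r⟩

theorem uC_mem_nC (i : Fin n) : uC p c x i ∈ nC p c x := by
  rw [nC_eq_span]
  exact Ideal.subset_span ⟨i, rfl⟩

include hp2 in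
theorem algebraMap_x_mem_nC (i : Fin n) : algebraMap R (AC p c x) (x i) ∈ nC p c x := by
  have h := uC_rel p c x i
  have h2 : algebraMap R (AC p c x) (x i) =
      uC p c x i ^ p - algebraMap R (AC p c x) (c i) * uC p c x i := by
    rw [h]; ring
  rw [h2]
  refine Ideal.sub_mem _ (Ideal.pow_mem_of_mem _ (uC_mem_nC p c x i) p (by omega)) ?_
  exact Ideal.mul_mem_left _ _ (uC_mem_nC p c x i)

include hp2 hx in
theorem algebraMap_mem_nC (r : R) (hr : r ∈ IsLocalRing.maximalIdeal R) :
    algebraMap R (AC p c x) r ∈ nC p c x := by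
  rw [hx] at hr
  have hle : Ideal.span (Set.range x) ≤ Ideal.comap (algebraMap R (AC p c x)) (nC p c x) := by
    rw [Ideal.span_le]
    rintro _ ⟨i, rfl⟩
    exact algebraMap_x_mem_nC p c x hp2 i
  exact hle hr

theorem mk_sub_const_mem (f : MvPolynomial (Fin n) R) :
    Ideal.Quotient.mk (IC p c x) f - algebraMap R (AC p c x) (MvPolynomial.constantCoeff f) ∈
      nC p c x := by
  induction f using MvPolynomial.induction_on with
  | C r =>
    rw [MvPolynomial.constantCoeff_C]
    show Ideal.Quotient.mk _ (MvPolynomial.C r) - Ideal.Quotient.mk _ (MvPolynomial.C r) ∈ _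
    rw [sub_self]
    exact zero_mem _
  | add f g hf hg =>
    have : Ideal.Quotient.mk (IC p c x) (f + g) -
        algebraMap R (AC p c x) (MvPolynomial.constantCoeff (f + g)) =
        (Ideal.Quotient.mk (IC p c x) f - algebraMap R (AC p c x) (MvPolynomial.constantCoeff f)) +
        (Ideal.Quotient.mk (IC p c x) g - algebraMap R (AC p c x) (MvPolynomial.constantCoeff g)) := by
      rw [map_add, map_add, map_add]; ring
    rw [this]
    exact Ideal.add_mem _ hf hg
  | mul_X f i _ =>
    rw [map_mul, map_mul, MvPolynomial.constantCoeff_X, mul_zero, map_zero, sub_zero]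
    exact Ideal.mul_mem_left _ _ (uC_mem_nC p c x i)

include hp2 hx in
theorem ker_eps : RingHom.ker (eps p c x hp2 hx) = nC p c x := by
  apply le_antisymm
  · intro y hy
    rw [RingHom.mem_ker] at hy
    obtain ⟨f, rfl⟩ := Ideal.Quotient.mk_surjective y
    have h1 := mk_sub_const_mem p c x f
    have hn : nC p c x ≤ RingHom.ker (eps p c x hp2 hx) := by
      rw [nC_eq_span, Ideal.span_le]
      rintro _ ⟨i, rfl⟩
      exact eps_uC p c x hp2 hx i
    have h2 := hn h1
    rw [RingHom.mem_ker, map_sub, hy, zero_sub, neg_eq_zero, eps_algebraMap,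
      IsLocalRing.residue_eq_zero_iff] at h2
    have h3 := algebraMap_mem_nC p c x hp2 hx _ h2
    have := Ideal.add_mem _ h1 h3
    rwa [sub_add_cancel] at this
  · rw [nC_eq_span, Ideal.span_le]
    rintro _ ⟨i, rfl⟩
    exact eps_uC p c x hp2 hx i

include hp2 hx in
theorem nC_isMaximal : (nC p c x).IsMaximal := by
  rw [← ker_eps p c x hp2 hx]
  exact RingHom.ker_isMaximal_of_surjective _ (eps_surjective p c x hp2 hx)

include hp2 hc hx in
theorem eq_nC_of_isMaximal (m : Ideal (AC p c x)) (hm : m.IsMaximal) : m = nC p c x := by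
  haveI := finite_AC p c x hp2
  haveI : Algebra.IsIntegral R (AC p c x) := Algebra.IsIntegral.of_finite R (AC p c x)
  have h1 : (Ideal.comap (algebraMap R (AC p c x)) m).IsMaximal :=
    Ideal.isMaximal_comap_of_isIntegral_of_isMaximal m
  have h2 := IsLocalRing.eq_maximalIdeal h1
  have hmem : ∀ r ∈ IsLocalRing.maximalIdeal R, algebraMap R (AC p c x) r ∈ m := by
    intro r hr
    rw [← h2] at hr
    exact hr
  have hu : ∀ i, uC p c x i ∈ m := by
    intro i
    apply hm.isPrime.mem_of_pow_mem p
    rw [uC_rel]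
    refine Ideal.add_mem _ (Ideal.mul_mem_right _ _ (hmem _ (hc i))) (hmem _ ?_)
    rw [hx]
    exact Ideal.subset_span ⟨i, rfl⟩
  have hle : nC p c x ≤ m := by
    rw [nC_eq_span, Ideal.span_le]
    rintro _ ⟨i, rfl⟩
    exact hu i
  exact ((nC_isMaximal p c x hp2 hx).eq_of_le hm.ne_top hle).symm

include hp2 hc hx in
theorem isLocalRing_AC : IsLocalRing (AC p c x) :=
  IsLocalRing.of_unique_max_ideal ⟨nC p c x, nC_isMaximal p c x hp2 hx,
    fun m hm => eq_nC_of_isMaximal p c x hp2 hc hx m hm⟩

include hp2 hc hx in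
theorem maximalIdeal_AC :
    @IsLocalRing.maximalIdeal (AC p c x) _ (isLocalRing_AC p c x hp2 hc hx) = nC p c x := by
  letI := isLocalRing_AC p c x hp2 hc hx
  exact eq_nC_of_isMaximal p c x hp2 hc hx _ (IsLocalRing.maximalIdeal.isMaximal _)

end Local

end Groth.Agent.Helper7.WqReg
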