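import Mathlib
import Groth.Agent.Helper7.WqRegB
import Groth.Agent.Helper3.PosA

set_option autoImplicit false

universe u

namespace Groth.Agent.Helper7.WqFix

open Groth.Agent.Helper7.WqReg

section Gen

/-- length of `M / I M` for a finite free module -/
theorem length_quot_smul_top {R : Type*} [CommRing R] (M : Type*) [AddCommGroup M] [Module R M]
    (I : Ideal R) {m : ℕ} (b : Module.Basis (Fin m) R M) :
    Module.length R (M ⧸ (I • (⊤ : Submodule R M))) = (m : ℕ∞) * Module.length R (R ⧸ I) := by
  rw [← (TensorProduct.quotTensorEquivQuotSMul M I).length_eq]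
  rw [(LinearEquiv.lTensor (R ⧸ I) b.repr).length_eq]
  rw [(TensorProduct.finsuppScalarRight R R (R ⧸ I) (Fin m)).length_eq]
  rw [Module.length_finsupp]
  simp

theorem length_quot_map {R : Type*} [CommRing R] (A : Type*) [CommRing A] [Algebra R A]
    (I : Ideal R) {m : ℕ} (b : Module.Basis (Fin m) R A) :
    Module.length R (A ⧸ Ideal.map (algebraMap R A) I) = (m : ℕ∞) * Module.length R (R ⧸ I) := by
  rw [← length_quot_smul_top A I b]
  rw [← (Submodule.Quotient.restrictScalarsEquiv R (Ideal.map (algebraMap R A) I)).length_eq]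
  exact (Submodule.quotEquivOfEq _ _ (Ideal.smul_top_eq_map I).symm).length_eq

end Gen

section Fix

variable {R : Type u} [CommRing R] [IsLocalRing R] (p : ℕ) {n : ℕ} (c x a : Fin n → R)
variable (hp2 : 2 ≤ p) (hc : ∀ i, c i ∈ IsLocalRing.maximalIdeal R)
  (hx : IsLocalRing.maximalIdeal R = Ideal.span (Set.range x))
  (ha : ∀ i, a i ∈ IsLocalRing.maximalIdeal R)
  (σ : AC p c x ≃ₐ[R] AC p c x)
  (hσ : ∀ i, σ (uC p c x i) = uC p c x i + algebraMap R (AC p c x) (a i))

include hσ in
theorem fixIdeal_eq :
    Ideal.span (Set.range fun t : AC p c x => σ t - t) =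
      Ideal.map (algebraMap R (AC p c x)) (Ideal.span (Set.range a)) := by
  apply le_antisymm
  · rw [Ideal.span_le]
    rintro _ ⟨t, rfl⟩
    let J : Ideal (AC p c x) := Ideal.map (algebraMap R (AC p c x)) (Ideal.span (Set.range a))
    let S : Subalgebra R (AC p c x) :=
      { carrier := {t | σ t - t ∈ J}
        mul_mem' := by
          intro s t hs ht
          show σ (s * t) - s * t ∈ J
          have : σ (s * t) - s * t = σ s * (σ t - t) + (σ s - s) * t := by
            rw [map_mul]; ring
          rw [this]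
          exact Ideal.add_mem _ (Ideal.mul_mem_left _ _ ht) (Ideal.mul_mem_right _ _ hs)
        add_mem' := by
          intro s t hs ht
          show σ (s + t) - (s + t) ∈ J
          have : σ (s + t) - (s + t) = (σ s - s) + (σ t - t) := by
            rw [map_add]; ring
          rw [this]
          exact Ideal.add_mem _ hs ht
        algebraMap_mem' := by
          intro r
          show σ (algebraMap R _ r) - algebraMap R _ r ∈ J
          rw [AlgEquiv.commutes, sub_self]
          exact zero_mem _ }
    have hS : S = ⊤ := by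
      rw [eq_top_iff, ← adjoin_uC p c x, Algebra.adjoin_le_iff]
      rintro _ ⟨i, rfl⟩
      show σ (uC p c x i) - uC p c x i ∈ J
      rw [hσ i, add_sub_cancel_left]
      exact Ideal.mem_map_of_mem _ (Ideal.subset_span ⟨i, rfl⟩)
    have ht : t ∈ S := by rw [hS]; exact Algebra.mem_top
    exact ht
  · rw [Ideal.map_span, Ideal.span_le]
    rintro _ ⟨_, ⟨i, rfl⟩, rfl⟩
    have : algebraMap R (AC p c x) (a i) = σ (uC p c x i) - uC p c x i := by
      rw [hσ i, add_sub_cancel_left]
    rw [this]
    exact Ideal.subset_span ⟨_, rfl⟩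

include hp2 hc hx in
theorem map_max_le_pow :
    Ideal.map (algebraMap R (AC p c x)) (IsLocalRing.maximalIdeal R) ≤ nC p c x ^ p := by
  letI := isLocalRing_AC p c x hp2 hc hx
  have hmax := maximalIdeal_AC p c x hp2 hc hx
  have hM : Ideal.map (algebraMap R (AC p c x)) (IsLocalRing.maximalIdeal R) =
      Ideal.span (algebraMap R (AC p c x) '' Set.range x) := by
    rw [hx, Ideal.map_span]
  apply Submodule.le_of_le_smul_of_le_jacobson_bot (I := nC p c x)
  · rw [hM]
    exact Submodule.fg_span ((Set.finite_range x).image _)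
  · rw [← hmax]
    exact IsLocalRing.maximalIdeal_le_jacobson ⊥
  · rw [hM, Ideal.span_le]
    rintro _ ⟨_, ⟨j, rfl⟩, rfl⟩
    have h := uC_rel p c x j
    have h2 : algebraMap R (AC p c x) (x j) =
        uC p c x j ^ p - uC p c x j • algebraMap R (AC p c x) (c j) := by
      rw [h, smul_eq_mul]; ring
    show algebraMap R (AC p c x) (x j) ∈ _
    rw [h2]
    refine Submodule.sub_mem _ (Submodule.mem_sup_left ?_) (Submodule.mem_sup_right ?_)
    · exact Ideal.pow_mem_pow (uC_mem_nC p c x j) p
    · refine Submodule.smul_mem_smul (uC_mem_nC p c x j) ?_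
      rw [← hM]
      exact Ideal.mem_map_of_mem _ (hc j)

include hp2 hc hx ha hσ in
theorem fix_le_pow :
    Ideal.span (Set.range fun t : AC p c x => σ t - t) ≤
      Ideal.span (Set.range (uC p c x)) ^ p := by
  rw [fixIdeal_eq p c x a σ hσ, ← nC_eq_span]
  refine le_trans (Ideal.map_mono ?_) (map_max_le_pow p c x hp2 hc hx)
  rw [Ideal.span_le]
  rintro _ ⟨i, rfl⟩
  exact ha i

include hp2 hc hx in
theorem length_map_eq (I : Ideal R) :
    letI := isLocalRing_AC p c x hp2 hc hx
    Module.length (AC p c x) (AC p c x ⧸ Ideal.map (algebraMap R (AC p c x)) I) =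
      (p ^ n : ℕ∞) * Module.length R (R ⧸ I) := by
  letI := isLocalRing_AC p c x hp2 hc hx
  have hmax := maximalIdeal_AC p c x hp2 hc hx
  have hres : ∀ b : AC p c x, ∃ r : R, b - algebraMap R (AC p c x) r ∈
      IsLocalRing.maximalIdeal (AC p c x) := by
    intro b
    obtain ⟨f, rfl⟩ := Ideal.Quotient.mk_surjective b
    refine ⟨MvPolynomial.constantCoeff f, ?_⟩
    rw [hmax]
    exact mk_sub_const_mem p c x f
  rw [← Groth.Agent.Helper3.PosA.length_restrict hres]
  haveI := free_AC p c x hp2
  haveI := finite_AC p c x hp2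
  have hfr := finrank_AC p c x hp2
  have b : Module.Basis (Fin (p ^ n)) R (AC p c x) := Module.finBasisOfFinrankEq R _ hfr
  rw [length_quot_map (AC p c x) I b]
  simp

include hp2 hc hx hσ in
theorem length_fix :
    Module.length (AC p c x) (AC p c x ⧸ Ideal.span (Set.range fun t : AC p c x => σ t - t)) =
      (p ^ n : ℕ∞) * Module.length R (R ⧸ Ideal.span (Set.range a)) := by
  rw [fixIdeal_eq p c x a σ hσ]
  exact length_map_eq p c x hp2 hc hx _

end Fix

end Groth.Agent.Helper7.WqFix
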