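import Mathlib
import Groth.Agent.Helper7.SopFreeA
import Groth.Agent.Helper7.WqFixA
import Groth.Agent.Helper7.FinLenK
import Groth.Agent.Helper5.MvPSDim
import Groth.Agent.Helper2.DepthCM2
import Groth.Agent.Helper2.RegCM

set_option autoImplicit false

universe u v

namespace Groth.Agent.Helper7.SopFree

open RingTheory.Sequence IsLocalRing

section Main

variable {A : Type u} [CommRing A] [IsRegularLocalRing A] [IsAdicComplete (maximalIdeal A) A]
  {k : Type v} [Field k] [Algebra k A] {n : ℕ} [Algebra (MvPowerSeries (Fin n) k) A]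
  [IsScalarTower k (MvPowerSeries (Fin n) k) A]
  (hn : ringKrullDim A = n)
  (hk : Function.Surjective (IsLocalRing.residue A ∘ algebraMap k A))
  (x : Fin n → A) (hx : (Ideal.span (Set.range x)).radical = maximalIdeal A)
  (hφ : ∀ i, algebraMap (MvPowerSeries (Fin n) k) A (MvPowerSeries.X i) = x i)

lemma ofList_ofFn' {R : Type*} [CommRing R] {m : ℕ} (g : Fin m → R) :
    Ideal.ofList (List.ofFn g) = Ideal.span (Set.range g) := by
  unfold Ideal.ofList
  congr 1
  ext y
  simp [List.mem_ofFn]

include hφ in
lemma map_max_eq : Ideal.map (algebraMap (MvPowerSeries (Fin n) k) A)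
    (maximalIdeal (MvPowerSeries (Fin n) k)) = Ideal.span (Set.range x) := by
  rw [Groth.Agent.Helper5.MvPSDim.maximalIdeal_eq k n, Ideal.map_span, ← Set.range_comp]
  congr 2
  funext i
  exact hφ i

include hx in
lemma span_le_max : Ideal.span (Set.range x) ≤ maximalIdeal A := by
  rw [← hx]
  exact Ideal.le_radical

include hx in
lemma max_mem_minimalPrimes : maximalIdeal A ∈ (Ideal.span (Set.range x)).minimalPrimes := by
  refine ⟨⟨inferInstance, span_le_max x hx⟩, ?_⟩
  rintro q ⟨hq, hJq⟩ _
  rw [← hx]
  exact hq.radical_le_iff.mpr hJq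

include hk in
lemma hres_P : ∀ b : A, ∃ r : MvPowerSeries (Fin n) k,
    b - algebraMap (MvPowerSeries (Fin n) k) A r ∈ maximalIdeal A := by
  intro b
  obtain ⟨c, hc⟩ := hk (IsLocalRing.residue A b)
  refine ⟨algebraMap k (MvPowerSeries (Fin n) k) c, ?_⟩
  rw [← IsScalarTower.algebraMap_apply k (MvPowerSeries (Fin n) k) A,
    ← IsLocalRing.residue_eq_zero_iff, map_sub, sub_eq_zero]
  exact hc.symm

include hk hx hφ in
theorem finite_P : Module.Finite (MvPowerSeries (Fin n) k) A := by
  classical
  set J : Ideal A := Ideal.span (Set.range x) with hJ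
  have hJle : J ≤ maximalIdeal A := span_le_max x hx
  have hJmin := max_mem_minimalPrimes x hx
  let P := MvPowerSeries (Fin n) k
  let IP : Ideal P := maximalIdeal P
  have hmap : IP.map (algebraMap P A) = J := map_max_eq x hφ
  have hsmul : ∀ m : ℕ, ((IP ^ m) • (⊤ : Submodule P A)) = (J ^ m).restrictScalars P := by
    intro m
    rw [Ideal.smul_top_eq_map, Ideal.map_pow, hmap]
  haveI : IsHausdorff IP A := ⟨fun a ha => by
    have hmem : ∀ m, a ∈ maximalIdeal A ^ m := fun m => by
      have h1 := ha m
      rw [SModEq.zero, hsmul m, Submodule.restrictScalars_mem] at h1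
      exact Ideal.pow_right_mono hJle m h1
    have hh : IsHausdorff (maximalIdeal A) A := inferInstance
    exact hh.haus' a (fun m => by
      rw [SModEq.zero, smul_eq_mul, Ideal.mul_top]; exact hmem m)⟩
  -- finiteness of A/J over k
  haveI hκ0 : Module.Finite k (A ⧸ maximalIdeal A) := by
    refine Module.Finite.of_surjective (Algebra.linearMap k (A ⧸ maximalIdeal A)) ?_
    intro y
    obtain ⟨c, hc⟩ := hk y
    exact ⟨c, hc⟩
  have hκ : Module.Finite (algebraMap k A).range (A ⧸ maximalIdeal A) :=
    Groth.Agent.Helper7.FinLenK.finite_range (A := A) (k₀ := k) (M := A ⧸ maximalIdeal A)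
  have hfl := Groth.Agent.Helper7.FinLenK.isFiniteLength_quotient J hJmin
  have hfin' : Module.Finite (algebraMap k A).range (A ⧸ J) :=
    Groth.Agent.Helper7.FinLenK.finite_of_isFiniteLength _ hκ hfl
  have hfin0 : Module.Finite k (A ⧸ J) := by
    let σ : k →+* (algebraMap k A).range := (algebraMap k A).rangeRestrict
    haveI : RingHomSurjective σ := ⟨(algebraMap k A).rangeRestrict_surjective⟩
    let f : (A ⧸ J) →ₛₗ[σ] (A ⧸ J) :=
      { toFun := id
        map_add' := fun _ _ => rfl
        map_smul' := fun c x => by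
          show c • x = (σ c) • x
          rw [← algebraMap_smul A c x]
          rfl }
    exact (LinearMap.finite_iff_of_bijective f Function.bijective_id).mpr hfin'
  haveI hfin1 : Module.Finite k (A ⧸ J.restrictScalars k) :=
    Module.Finite.equiv (Submodule.Quotient.restrictScalarsEquiv k J).symm
  -- the semilinear surjection onto A / IP A
  let g : A →ₛₗ[(algebraMap k P)] (A ⧸ (IP • ⊤ : Submodule P A)) :=
    { toFun := fun a => Submodule.Quotient.mk a
      map_add' := fun _ _ => rfl
      map_smul' := fun c a => by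
        show Submodule.Quotient.mk (c • a) = (algebraMap k P c) • Submodule.Quotient.mk a
        rw [← Submodule.Quotient.mk_smul, algebraMap_smul] }
  have hker : J.restrictScalars k ≤ LinearMap.ker g := by
    intro a ha
    rw [LinearMap.mem_ker]
    show Submodule.Quotient.mk a = 0
    rw [Submodule.Quotient.mk_eq_zero]
    have := hsmul 1
    rw [pow_one, pow_one] at this
    rw [this]
    exact ha
  have hfinQ : Module.Finite P (A ⧸ (IP • ⊤ : Submodule P A)) := by
    refine Module.Finite.of_surjective ((J.restrictScalars k).liftQ g hker) ?_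
    intro y
    obtain ⟨a, rfl⟩ := Submodule.Quotient.mk_surjective _ y
    exact ⟨Submodule.Quotient.mk a, rfl⟩
  haveI : IsAdicComplete IP P := by
    show IsAdicComplete (maximalIdeal (MvPowerSeries (Fin n) k)) _
    rw [Groth.Agent.Helper5.MvPSDim.maximalIdeal_eq k n]
    infer_instance
  exact finite_of_adic P IP A hfinQ

include hn hx hφ in
theorem weaklyRegular_P :
    IsWeaklyRegular A (List.ofFn (fun i : Fin n =>
      (MvPowerSeries.X i : MvPowerSeries (Fin n) k))) := by
  haveI hCM : LocCoh.IsCohenMacaulayLocalRing A :=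
    { supportDim_eq_depth := Groth.Agent.Helper2.RegCM.cm_of_isRegularLocalRing A }
  have h1 : IsWeaklyRegular A (List.ofFn x) := by
    apply Groth.Agent.Helper2.DepthCM2.weaklyRegular_of_dim_drop (List.ofFn x) A
      hCM.supportDim_eq_depth
    · intro y hy
      rw [List.mem_ofFn] at hy
      obtain ⟨i, rfl⟩ := hy
      exact span_le_max x hx (Ideal.subset_span ⟨i, rfl⟩)
    · have e1 : Ideal.ofList (List.ofFn x) =
          Ideal.ofList (List.ofFn x) • (⊤ : Submodule A A) := by simp
      rw [Module.supportDim_self_eq_ringKrullDim,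
        ← Module.supportDim_eq_of_equiv (Submodule.quotEquivOfEq _ _ e1),
        Module.supportDim_quotient_eq_ringKrullDim, hn, List.length_ofFn, ofList_ofFn']
      haveI : IsArtinianRing (A ⧸ Ideal.span (Set.range x)) :=
        IsLocalRing.quotient_artinian_of_mem_minimalPrimes_of_isLocalRing _
          (max_mem_minimalPrimes x hx)
      haveI : Nontrivial (A ⧸ Ideal.span (Set.range x)) := by
        apply Ideal.Quotient.nontrivial_iff.mpr
        intro h
        have := span_le_max x hx
        rw [h, top_le_iff] at this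
        exact (IsLocalRing.maximalIdeal.isMaximal A).ne_top this
      have h0 : ringKrullDim (A ⧸ Ideal.span (Set.range x)) = 0 :=
        ringKrullDimZero_iff_ringKrullDim_eq_zero.mp inferInstance
      rw [h0, zero_add]
  rw [← isWeaklyRegular_map_algebraMap_iff A A, List.map_ofFn]
  have : (⇑(algebraMap (MvPowerSeries (Fin n) k) A) ∘ fun i : Fin n =>
      (MvPowerSeries.X i : MvPowerSeries (Fin n) k)) = x := by
    funext i
    exact hφ i
  rw [this]
  exact h1

include hn hk hx hφ in
theorem free_P : Module.Free (MvPowerSeries (Fin n) k) A := by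
  haveI := finite_P hk x hx hφ
  haveI : IsRegularLocalRing (MvPowerSeries (Fin n) k) := Groth.Agent.Helper5.MvPSDim.isRegular k n
  refine free_of_regular n (MvPowerSeries (Fin n) k) A
    (List.ofFn (fun i : Fin n => (MvPowerSeries.X i : MvPowerSeries (Fin n) k)))
    (List.length_ofFn) (weaklyRegular_P hn x hx hφ) ?_
  rw [ofList_ofFn', Groth.Agent.Helper5.MvPSDim.maximalIdeal_eq k n]

include hn hk hx hφ in
theorem main : ∃ (d : ℕ) (b : Fin d → A),
    (d : ℕ∞) = Module.length A (A ⧸ Ideal.span (Set.range x)) ∧
    Function.Bijective (fun r : Fin d → MvPowerSeries (Fin n) k =>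
      ∑ i, algebraMap (MvPowerSeries (Fin n) k) A (r i) * b i) := by
  haveI := finite_P hk x hx hφ
  haveI := free_P hn hk x hx hφ
  let P := MvPowerSeries (Fin n) k
  let b : Module.Basis (Fin (Module.finrank P A)) P A := Module.finBasis P A
  refine ⟨Module.finrank P A, fun i => b i, ?_, ?_⟩
  · rw [← map_max_eq x hφ]
    rw [← length_restrict (A := P) (B := A) (hres_P hk)]
    rw [Groth.Agent.Helper7.WqFix.length_quot_map A (maximalIdeal P) b]
    haveI : IsSimpleModule P (P ⧸ maximalIdeal P) :=
      isSimpleModule_iff_quot_maximal.mpr ⟨maximalIdeal P, inferInstance, ⟨LinearEquiv.refl _ _⟩⟩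
    rw [Module.length_eq_one, mul_one]
  · have : (fun r : Fin (Module.finrank P A) → P => ∑ i, algebraMap P A (r i) * b i) =
        fun r => b.equivFun.symm r := by
      funext r
      rw [Module.Basis.equivFun_symm_apply]
      refine Finset.sum_congr rfl fun i _ => ?_
      rw [Algebra.smul_def]
    rw [this]
    exact b.equivFun.symm.bijective

end Main

end Groth.Agent.Helper7.SopFree
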