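import Mathlib

set_option autoImplicit false

namespace Groth.Agent.Helper7.WqNrm

open Polynomial

section Sub

/-- a subring `B ⊆ A` of an integrally closed domain with `B = A ∩ Frac B` is integrally closed -/
theorem isIntegrallyClosed_of_sub {B A : Type*} [CommRing B] [IsDomain B] [CommRing A] [IsDomain A]
    [IsIntegrallyClosed A] (ι : B →+* A) (hι : Function.Injective ι)
    (H : ∀ (t : A) (β1 β2 : B), β2 ≠ 0 → t * ι β2 = ι β1 → ∃ β, ι β = t) :
    IsIntegrallyClosed B := by
  let K := FractionRing B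
  let L := FractionRing A
  have hg : Function.Injective ((algebraMap A L).comp ι) :=
    (IsFractionRing.injective A L).comp hι
  let φ : K →+* L := IsFractionRing.lift hg
  have hφ : ∀ b : B, φ (algebraMap B K b) = algebraMap A L (ι b) := fun b =>
    IsFractionRing.lift_algebraMap hg b
  rw [isIntegrallyClosed_iff K]
  intro y hy
  obtain ⟨β1, β2, hβ2, rfl⟩ := IsFractionRing.div_surjective (A := B) y
  have hβ2' : β2 ≠ 0 := nonZeroDivisors.ne_zero hβ2
  -- φ y is integral over A
  obtain ⟨P, hPm, hP⟩ := hy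
  have hint : IsIntegral A (φ (algebraMap B K β1 / algebraMap B K β2)) := by
    refine ⟨P.map ι, hPm.map ι, ?_⟩
    rw [eval₂_map]
    have := congrArg φ hP
    rw [hom_eval₂, map_zero] at this
    have hcomp : φ.comp (algebraMap B K) = (algebraMap A L).comp ι := by
      ext b
      exact hφ b
    rw [hcomp] at this
    exact this
  obtain ⟨t, ht⟩ := IsIntegrallyClosed.algebraMap_eq_of_integral hint
  have hK2 : algebraMap B K β2 ≠ 0 := by
    rwa [Ne, map_eq_zero_iff _ (IsFractionRing.injective B K)]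
  have h1 : t * ι β2 = ι β1 := by
    apply IsFractionRing.injective A L
    rw [map_mul, ht, ← hφ, ← hφ, ← map_mul, div_mul_cancel₀ _ hK2]
  obtain ⟨β, hβ⟩ := H t β1 β2 hβ2' h1
  refine ⟨β, ?_⟩
  rw [eq_div_iff hK2, ← map_mul]
  congr 1
  apply hι
  rw [map_mul, hβ, h1]

end Sub

section Away

variable {R : Type*} [CommRing R] {B : Type*} [CommRing B] [IsDomain B] [Algebra R B]
  {A : Type*} [CommRing A] [IsDomain A] [IsIntegrallyClosed A] [Algebra R A]

theorem isIntegrallyClosed_away (j : B →ₐ[R] A) (hj : Function.Injective j)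
    (σ : A ≃ₐ[R] A) (hσ : ∀ b, σ (j b) = j b) (f : R) (hf : algebraMap R B f ≠ 0)
    (P : ∀ t : A, σ t = t → ∃ (N : ℕ) (b : B), algebraMap R A f ^ N * t = j b) :
    IsIntegrallyClosed (Localization.Away (algebraMap R B f)) := by
  set fB : B := algebraMap R B f with hfB
  let jr : B →+* A := (j : B →+* A)
  have hjr : ∀ b, jr b = j b := fun _ => rfl
  have hjf : jr fB = algebraMap R A f := by rw [hjr, hfB, AlgHom.commutes]
  have hfA : jr fB ≠ 0 := by
    rw [hjr]
    intro h
    exact hf (hj (h.trans (map_zero j).symm))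
  let B' := Localization.Away fB
  let A' := Localization.Away (jr fB)
  haveI : IsDomain A' := Localization.Away.isDomain hfA
  haveI : IsDomain B' := Localization.Away.isDomain hf
  haveI : IsIntegrallyClosed A' :=
    isIntegrallyClosed_of_isLocalization A' (Submonoid.powers (jr fB))
      (powers_le_nonZeroDivisors_of_noZeroDivisors hfA)
  let ι' : B' →+* A' := IsLocalization.Away.map B' A' jr fB
  have hι'alg : ∀ b : B, ι' (algebraMap B B' b) = algebraMap A A' (jr b) := fun b =>
    IsLocalization.map_eq _ b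
  have hι'inj : Function.Injective ι' := by
    rw [IsLocalization.Away.map_injective_iff]
    intro b hb
    refine ⟨0, ?_⟩
    rw [pow_zero, one_mul]
    exact hj (hb.trans (map_zero j).symm)
  have hAinj : Function.Injective (algebraMap A A') :=
    IsLocalization.injective A' (powers_le_nonZeroDivisors_of_noZeroDivisors hfA)
  have hBinj : Function.Injective (algebraMap B B') :=
    IsLocalization.injective B' (powers_le_nonZeroDivisors_of_noZeroDivisors hf)
  -- the unit F
  set F : A' := algebraMap A A' (jr fB) with hF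
  have hFunit : IsUnit F := IsLocalization.Away.algebraMap_isUnit (jr fB)
  have hFι : ι' (algebraMap B B' fB) = F := hι'alg fB
  apply isIntegrallyClosed_of_sub ι' hι'inj
  intro t β1 β2 hβ2 hrel
  obtain ⟨m, a0, ha0⟩ := IsLocalization.Away.surj (jr fB) t
  obtain ⟨m1, b1, hb1⟩ := IsLocalization.Away.surj fB β1
  obtain ⟨m2, b2, hb2⟩ := IsLocalization.Away.surj fB β2
  have hb2ne : b2 ≠ 0 := by
    intro h0
    rw [h0, map_zero] at hb2
    have hu : IsUnit (algebraMap B B' fB ^ m2) :=
      (IsLocalization.Away.algebraMap_isUnit fB).pow m2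
    exact hβ2 ((hu.mul_left_eq_zero).mp hb2)
  -- transport the relations to A'
  have h1 : ι' β1 * F ^ m1 = algebraMap A A' (jr b1) := by
    rw [← hι'alg, ← hb1, map_mul, map_pow, hFι]
  have h2 : ι' β2 * F ^ m2 = algebraMap A A' (jr b2) := by
    rw [← hι'alg, ← hb2, map_mul, map_pow, hFι]
  have hE1' : algebraMap A A' (a0 * jr b2 * jr fB ^ m1) =
      algebraMap A A' (jr b1 * jr fB ^ (m + m2)) := by
    rw [map_mul, map_mul, map_mul, map_pow, map_pow, ← hF, ← ha0, ← h1, ← h2, ← hrel]
    ring
  have hE1 := hAinj hE1'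
  -- σ a0 = a0
  have hσa0 : σ a0 = a0 := by
    have h3 := congrArg σ hE1
    rw [map_mul, map_mul, map_mul, map_pow, map_pow, hjr, hjr, hjr, hσ, hσ, hσ, ← hjr b2,
      ← hjr fB, ← hjr b1] at h3
    have h4 : (σ a0 - a0) * (jr b2 * jr fB ^ m1) = 0 := by
      rw [sub_mul, ← mul_assoc, ← mul_assoc, h3, hE1, sub_self]
    have hne : jr b2 * jr fB ^ m1 ≠ 0 := by
      refine mul_ne_zero ?_ (pow_ne_zero _ hfA)
      intro h
      exact hb2ne (hj (h.trans (map_zero j).symm))
    exact sub_eq_zero.mp ((mul_eq_zero.mp h4).resolve_right hne)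
  obtain ⟨N, b0, hb0⟩ := P a0 hσa0
  rw [← hjf] at hb0
  -- the element β
  let u : B' := IsLocalization.Away.invSelf fB
  have hu : algebraMap B B' fB * u = 1 := IsLocalization.Away.mul_invSelf fB
  refine ⟨algebraMap B B' b0 * u ^ (m + N), ?_⟩
  have hιu : F * ι' u = 1 := by
    rw [← hFι, ← map_mul, hu, map_one]
  have hcancel : ι' (algebraMap B B' b0 * u ^ (m + N)) * F ^ (m + N) = t * F ^ (m + N) := by
    rw [map_mul, map_pow, hι'alg, mul_assoc, ← mul_pow, mul_comm (ι' u), hιu, one_pow, mul_one,
      hjr b0, ← hb0, map_mul, map_pow, ← hF, ← ha0]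
    ring
  exact (hFunit.pow (m + N)).mul_left_injective hcancel

end Away

end Groth.Agent.Helper7.WqNrm
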