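import Mathlib
import Groth.Agent.Helper7.PSSmooth
import Groth.Agent.Helper7.WqNrmA

set_option autoImplicit false
set_option linter.style.haveILetI false
set_option linter.unusedSectionVars false

/-! Generic lemmas for invariant rings of finite groups acting on complete local rings. -/

namespace Groth.Agent.Helper7.WqInv

open IsLocalRing

section cmp

variable {R : Type*} [CommRing R] (I J : Ideal R) (M : Type*) [AddCommGroup M] [Module R M]

/-- adic completeness only depends on the ideal up to comparable powers -/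
theorem isAdicComplete_of_le_of_pow_le (hIJ : I ≤ J) (N : ℕ) (hN : J ^ N ≤ I)
    [hc : IsAdicComplete I M] : IsAdicComplete J M := by
  have hN1 : J ^ (N + 1) ≤ I := (Ideal.pow_le_pow_right (Nat.le_succ N)).trans hN
  have hpow : ∀ n : ℕ, J ^ ((N + 1) * n) ≤ I ^ n := fun n => by
    rw [pow_mul]; exact Ideal.pow_right_mono hN1 n
  have hle : ∀ n : ℕ, (J ^ ((N + 1) * n) • ⊤ : Submodule R M) ≤ I ^ n • ⊤ :=
    fun n => Submodule.smul_mono_left (hpow n)
  have hle' : ∀ n : ℕ, (I ^ n • ⊤ : Submodule R M) ≤ J ^ n • ⊤ :=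
    fun n => Submodule.smul_mono_left (Ideal.pow_right_mono hIJ n)
  have hidx : ∀ n : ℕ, n ≤ (N + 1) * n := fun n => Nat.le_mul_of_pos_left n (Nat.succ_pos N)
  haveI : IsHausdorff J M :=
    ⟨fun x hx => IsHausdorff.haus hc.toIsHausdorff x (fun n => (hx ((N + 1) * n)).mono (hle n))⟩
  haveI : IsPrecomplete J M := by
    refine ⟨fun f hf => ?_⟩
    obtain ⟨L, hL⟩ := IsPrecomplete.prec hc.toIsPrecomplete (f := fun n => f ((N + 1) * n))
      (fun {m n} hmn => (hf (Nat.mul_le_mul_left (N + 1) hmn)).mono (hle m))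
    exact ⟨L, fun n => ((hf (hidx n)).trans ((hL n).mono (hle' n)))⟩
  exact { }

end cmp

section ext

open MvPowerSeries

variable {k : Type*} [CommRing k] {n : ℕ} {A : Type*} [CommRing A] [Algebra k A]

/-- algebra homomorphisms from a power series ring to a separated ring, sending the variables
into the ideal, are determined by the images of the variables -/
theorem algHom_ext_of_isHausdorff (I : Ideal A) [hI : IsHausdorff I A]
    (u v : MvPowerSeries (Fin n) k →ₐ[k] A) (huv : ∀ i, u (X i) = v (X i))
    (hu : ∀ i, u (X i) ∈ I) : u = v := by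
  have hpoly : u.comp (MvPolynomial.coeToMvPowerSeries.algHom k) =
      v.comp (MvPolynomial.coeToMvPowerSeries.algHom k) := by
    apply MvPolynomial.algHom_ext
    intro i
    simp only [AlgHom.comp_apply, MvPolynomial.coeToMvPowerSeries.algHom_apply,
      MvPolynomial.coe_X, Algebra.algebraMap_self, map_id]
    exact huv i
  have key : ∀ (w : MvPowerSeries (Fin n) k →ₐ[k] A), (∀ i, w (X i) ∈ I) → ∀ (N : ℕ)
      (q : MvPowerSeries (Fin n) k),
      q ∈ Ideal.span (Set.range (X : Fin n → MvPowerSeries (Fin n) k)) ^ N → w q ∈ I ^ N := by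
    intro w hw N q hq
    have h1 : w q ∈ (Ideal.span (Set.range (X : Fin n → MvPowerSeries (Fin n) k)) ^ N).map
        w.toRingHom := Ideal.mem_map_of_mem _ hq
    rw [Ideal.map_pow, Ideal.map_span] at h1
    refine Ideal.pow_right_mono ?_ N h1
    rw [Ideal.span_le]
    rintro _ ⟨_, ⟨i, rfl⟩, rfl⟩
    exact hw i
  ext f
  rw [← sub_eq_zero]
  refine IsHausdorff.haus hI _ (fun N => ?_)
  rw [SModEq.zero, smul_eq_mul, Ideal.mul_top]
  have hmem := Groth.Agent.Helper7.PSSmooth.sub_truncTotal_mem N f
  have e3 := AlgHom.congr_fun hpoly (truncTotal N f)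
  simp only [AlgHom.comp_apply, MvPolynomial.coeToMvPowerSeries.algHom_apply,
    Algebra.algebraMap_self, map_id] at e3
  have e4 : u f - v f = u (f - ((truncTotal N f : MvPolynomial (Fin n) k) :
      MvPowerSeries (Fin n) k)) - v (f - ((truncTotal N f : MvPolynomial (Fin n) k) :
      MvPowerSeries (Fin n) k)) := by
    have e3' : u ((truncTotal N f : MvPolynomial (Fin n) k) : MvPowerSeries (Fin n) k) =
        v ((truncTotal N f : MvPolynomial (Fin n) k) : MvPowerSeries (Fin n) k) := e3
    rw [map_sub, map_sub, e3']; ring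
  rw [e4]
  exact (I ^ N).sub_mem (key u hu N _ hmem) (key v (fun i => huv i ▸ hu i) N _ hmem)

end ext

end Groth.Agent.Helper7.WqInv
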