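import Mathlib
import Groth.Agent.Helper7.WqInvA
import Groth.Agent.Helper7.SopFreeB
import Groth.Agent.Helper7.PSEval
import Groth.Agent.Helper4.RegNormal
import Groth.Agent.S15792
import Groth.Agent.S15790
import Groth.Agent.S15794
import Groth.Agent.S2082

set_option autoImplicit false
set_option linter.style.haveILetI false
set_option linter.unusedSectionVars false
set_option linter.unusedVariables false

/-! The invariant ring of a wild `ℤ/p`-action ramified precisely at the origin. -/

namespace Groth.Agent.Helper7.WqInv

open IsLocalRing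

universe u v w

section setup

variable {A : Type u} [CommRing A] [IsLocalRing A]
  {G : Type w} [Group G] [MulSemiringAction G A]

theorem smul_mem_maximalIdeal (σ : G) {a : A} (ha : a ∈ maximalIdeal A) :
    σ • a ∈ maximalIdeal A := by
  rw [mem_maximalIdeal, mem_nonunits_iff] at ha ⊢
  intro h
  apply ha
  have := h.map (MulSemiringAction.toRingHom G A σ⁻¹)
  simpa using this

theorem smul_sub_mem {k : Type v} [Field k] [Algebra k A]
    (hk : Function.Surjective (IsLocalRing.residue A ∘ algebraMap k A))
    (hGk : ∀ (σ : G) (c : k), σ • algebraMap k A c = algebraMap k A c) (σ : G) (a : A) :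
    σ • a - a ∈ maximalIdeal A := by
  obtain ⟨c, hc⟩ := hk (IsLocalRing.residue A a)
  have h1 : a - algebraMap k A c ∈ maximalIdeal A := by
    rw [← IsLocalRing.residue_eq_zero_iff, map_sub, sub_eq_zero]
    exact hc.symm
  have h2 : σ • a - a = σ • (a - algebraMap k A c) - (a - algebraMap k A c) := by
    rw [smul_sub, hGk]; ring
  rw [h2]
  exact (maximalIdeal A).sub_mem (smul_mem_maximalIdeal σ h1) h1

theorem smul_prod_eq [Fintype G] (τ : G) (a : A) : τ • (∏ σ : G, σ • a) = ∏ σ : G, σ • a := by
  rw [Finset.smul_prod']
  simp_rw [← mul_smul]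
  exact Function.Bijective.prod_comp (Group.mulLeft_bijective τ) (fun σ => σ • a)

end setup

end Groth.Agent.Helper7.WqInv

namespace Groth.Agent.Helper7.WqInv

open IsLocalRing

universe u v w

section dim
variable {R S : Type*} [CommRing R] [CommRing S] [Algebra R S] [Algebra.IsIntegral R S]

theorem ringKrullDim_le_of_isIntegral'' : ringKrullDim S ≤ ringKrullDim R := by
  apply Order.krullDim_le_of_strictMono (PrimeSpectrum.comap (algebraMap R S))
  intro P Q hPQ
  have h : P.asIdeal < Q.asIdeal := hPQ
  have := Ideal.IsIntegral.comap_lt_comap (R := R) h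
  exact this

theorem ringKrullDim_eq_of_isIntegral_of_injective''
    (hinj : Function.Injective (algebraMap R S)) : ringKrullDim S = ringKrullDim R := by
  refine le_antisymm ringKrullDim_le_of_isIntegral'' ?_
  have : FaithfulSMul R S := (faithfulSMul_iff_algebraMap_injective R S).mpr hinj
  apply iSup_le
  intro l
  obtain ⟨⟨P, hP, hPover⟩⟩ := Ideal.nonempty_primesOver (S := S) l.head.asIdeal
  obtain ⟨L, hlen, -, -⟩ := Ideal.exists_ltSeries_of_hasGoingUp l P
  rw [← hlen]
  exact Order.LTSeries.length_le_krullDim L

end dim

section fin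

variable {R : Type*} [CommRing R] (I : Ideal R) (N : Type*) [AddCommGroup N] [Module R N]

/-- a finite module over a Noetherian adically complete ring is adically complete -/
theorem isAdicComplete_of_finite''' [IsNoetherianRing R] [IsAdicComplete I R] [Module.Finite R N] :
    IsAdicComplete I N := by
  haveI : IsHausdorff I N := IsHausdorff.of_le_jacobson I N (IsAdicComplete.le_jacobson_bot I)
  rw [isAdicComplete_iff]
  refine ⟨inferInstance, ?_⟩
  rw [← AdicCompletion.of_surjective_iff]
  intro y
  obtain ⟨t, rfl⟩ := AdicCompletion.ofTensorProduct_surjective_of_finite I N y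
  induction t using TensorProduct.induction_on with
  | zero => exact ⟨0, by simp⟩
  | tmul r x =>
    obtain ⟨a, rfl⟩ := AdicCompletion.of_surjective I R r
    refine ⟨a • x, ?_⟩
    rw [AdicCompletion.ofTensorProduct_tmul]
    ext n
    rw [AdicCompletion.smul_eval]
    rfl
  | add s t hs ht =>
    obtain ⟨a, ha⟩ := hs
    obtain ⟨b, hb⟩ := ht
    exact ⟨a + b, by rw [map_add, map_add, ha, hb]⟩

end fin

end Groth.Agent.Helper7.WqInv
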