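import Mathlib

set_option autoImplicit false
universe u v

/-!
# Zariski–Nagata purity, part B: normal local domains of dimension ≥ 2 have depth ≥ 2 (elementwise)
-/

namespace Groth.Agent.Helper7.ZNPur

open IsLocalRing

/-- In a Noetherian normal local domain whose maximal ideal is not principal, an element `t` with
`𝔫 t ⊆ (x)` (with `x ≠ 0`) lies in `(x)`. -/
theorem mem_span_of_maximalIdeal_mul {T : Type u} [CommRing T] [IsDomain T] [IsNoetherianRing T]
    [IsLocalRing T] [IsIntegrallyClosed T] (hnp : ¬ (maximalIdeal T).IsPrincipal) (x t : T)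
    (hx : x ≠ 0) (h : ∀ y ∈ maximalIdeal T, y * t ∈ Ideal.span {x}) : t ∈ Ideal.span {x} := by
  classical
  have hc : ∀ y : maximalIdeal T, ∃ c : T, (y : T) * t = c * x := by
    intro y
    have := h y y.2
    rw [Ideal.mem_span_singleton'] at this
    obtain ⟨c, hc⟩ := this
    exact ⟨c, hc.symm⟩
  choose c hc using hc
  by_cases hall : ∀ y : maximalIdeal T, c y ∈ maximalIdeal T
  · -- `t / x` is integral
    let K := FractionRing T
    have hxK : algebraMap T K x ≠ 0 := by
      simpa using (IsFractionRing.to_map_ne_zero_of_mem_nonZeroDivisors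
        (mem_nonZeroDivisors_of_ne_zero hx) : algebraMap T K x ≠ 0)
    set z : K := algebraMap T K t / algebraMap T K x with hz
    let N : Submodule T K := Submodule.map (Algebra.linearMap T K) (maximalIdeal T)
    have hN0 : N ≠ ⊥ := by
      intro h0
      apply hnp
      have : maximalIdeal T = ⊥ := by
        rw [eq_bot_iff]
        intro y hy
        have hy' : algebraMap T K y ∈ N := ⟨y, hy, rfl⟩
        rw [h0, Submodule.mem_bot] at hy'
        have := (IsFractionRing.injective T K) (hy'.trans (map_zero _).symm)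
        simpa using this
      rw [this]
      exact bot_isPrincipal
    have hNfg : N.FG := (IsNoetherian.noetherian (maximalIdeal T)).map _
    have hzN : ∀ n ∈ N, z • n ∈ N := by
      rintro _ ⟨y, hy, rfl⟩
      refine ⟨c ⟨y, hy⟩, hall ⟨y, hy⟩, ?_⟩
      have h1 := hc ⟨y, hy⟩
      simp only [Algebra.linearMap_apply, smul_eq_mul, hz]
      rw [div_mul_eq_mul_div, eq_div_iff hxK, ← map_mul, ← map_mul, mul_comm t y]
      exact congrArg _ h1.symm
    have hint : IsIntegral T z := isIntegral_of_smul_mem_submodule N hN0 hNfg z hzN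
    obtain ⟨w, hw⟩ := IsIntegrallyClosed.isIntegral_iff.mp hint
    rw [Ideal.mem_span_singleton']
    refine ⟨w, ?_⟩
    apply IsFractionRing.injective T K
    rw [map_mul, hw, hz, div_mul_cancel₀ _ hxK]
  · -- the maximal ideal is principal
    exfalso
    push Not at hall
    obtain ⟨y, hy⟩ := hall
    have hu : IsUnit (c y) := by
      by_contra hnu
      exact hy ((mem_maximalIdeal _).mpr hnu)
    apply hnp
    refine ⟨⟨(y : T), ?_⟩⟩
    apply le_antisymm
    · intro w hw
      have h1 := hc ⟨w, hw⟩
      have h2 := hc y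
      -- w * t = c_w * x, y * t = c_y * x
      have h3 : c ⟨w, hw⟩ * (y : T) = c y * w := by
        apply mul_left_cancel₀ hx
        calc x * (c ⟨w, hw⟩ * (y : T)) = (c ⟨w, hw⟩ * x) * y := by ring
          _ = (w * t) * y := by rw [← h1]
          _ = w * ((y : T) * t) := by ring
          _ = w * (c y * x) := by rw [h2]
          _ = x * (c y * w) := by ring
      obtain ⟨u, hu'⟩ := hu
      have : w = (↑u⁻¹ * c ⟨w, hw⟩) * (y : T) := by
        rw [mul_assoc, h3, ← hu', ← mul_assoc, Units.inv_mul, one_mul]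
      rw [Submodule.mem_span_singleton]
      exact ⟨↑u⁻¹ * c ⟨w, hw⟩, this.symm⟩
    · rw [Submodule.span_singleton_le_iff_mem]
      exact y.2

/-- a Noetherian local domain of dimension `≥ 2` does not have principal maximal ideal -/
theorem not_isPrincipal_maximalIdeal {T : Type u} [CommRing T] [IsNoetherianRing T]
    [IsLocalRing T] (hdim : (2 : WithBot ℕ∞) ≤ ringKrullDim T) :
    ¬ (maximalIdeal T).IsPrincipal := by
  intro hp
  have h1 : (maximalIdeal T).height ≤ 1 :=
    Ideal.height_le_one_of_isPrincipal_of_mem_minimalPrimes (maximalIdeal T) (maximalIdeal T)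
      (by rw [Ideal.minimalPrimes_eq_subsingleton_self]; exact Set.mem_singleton _)
  have h2 : ((maximalIdeal T).height : WithBot ℕ∞) = ringKrullDim T :=
    IsLocalRing.maximalIdeal_height_eq_ringKrullDim
  rw [← h2] at hdim
  have : (2 : ℕ∞) ≤ (maximalIdeal T).height := by
    have h3 : ((2 : ℕ∞) : WithBot ℕ∞) ≤ ((maximalIdeal T).height : WithBot ℕ∞) := hdim
    exact WithBot.coe_le_coe.mp h3
  have := this.trans h1
  norm_num at this

/-- In a Noetherian normal local domain of dimension `≥ 2`, `T/(x)` has no `𝔫`-power torsion. -/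
theorem mem_span_of_pow_mul {T : Type u} [CommRing T] [IsDomain T] [IsNoetherianRing T]
    [IsLocalRing T] [IsIntegrallyClosed T] (hdim : (2 : WithBot ℕ∞) ≤ ringKrullDim T) (x : T)
    (hx : x ≠ 0) : ∀ (k : ℕ) (t : T), (∀ y ∈ maximalIdeal T ^ k, y * t ∈ Ideal.span {x}) →
      t ∈ Ideal.span {x} := by
  have hnp := not_isPrincipal_maximalIdeal hdim
  intro k
  induction k with
  | zero =>
    intro t h
    simpa using h 1 (by simp)
  | succ k ih =>
    intro t h
    apply mem_span_of_maximalIdeal_mul hnp x t hx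
    intro y hy
    apply ih
    intro w hw
    have : w * y ∈ maximalIdeal T ^ (k + 1) := by
      rw [pow_succ]
      exact Ideal.mul_mem_mul hw hy
    have := h _ this
    rwa [mul_assoc] at this

/-- for a finite (integral) local extension, a power of `𝔫_T` lies in `𝔪_R T` -/
theorem exists_maximalIdeal_pow_le_map {R : Type v} {T : Type u} [CommRing R] [IsLocalRing R]
    [CommRing T] [IsLocalRing T] [IsNoetherianRing T] [Algebra R T] [Algebra.IsIntegral R T] :
    ∃ N : ℕ, maximalIdeal T ^ N ≤ (maximalIdeal R).map (algebraMap R T) := by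
  apply Ideal.exists_pow_le_of_le_radical_of_fg _ (IsNoetherian.noetherian _)
  rw [Ideal.radical_eq_sInf]
  apply le_sInf
  rintro q ⟨hq, hqp⟩
  haveI := hqp
  have hcomap : q.comap (algebraMap R T) = maximalIdeal R := by
    symm
    apply (IsLocalRing.maximalIdeal.isMaximal R).eq_of_le (Ideal.comap_ne_top _ hqp.ne_top)
    exact Ideal.map_le_iff_le_comap.mp hq
  have : q.IsMaximal := Ideal.isMaximal_of_isIntegral_of_isMaximal_comap q
    (hcomap ▸ IsLocalRing.maximalIdeal.isMaximal R)
  exact (IsLocalRing.eq_maximalIdeal this).ge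

/-- `T/(x)` has no `𝔪_R`-power torsion, for `T` a normal local domain of dimension `≥ 2`,
integral over the local ring `R`. -/
theorem mem_span_of_base_pow_smul {R : Type v} {T : Type u} [CommRing R] [IsLocalRing R]
    [CommRing T] [IsDomain T] [IsNoetherianRing T] [IsLocalRing T] [IsIntegrallyClosed T]
    [Algebra R T] [Algebra.IsIntegral R T] (hdim : (2 : WithBot ℕ∞) ≤ ringKrullDim T) (x : T)
    (hx : x ≠ 0) (k : ℕ) (t : T)
    (h : ∀ a ∈ maximalIdeal R ^ k, a • t ∈ Ideal.span {x}) : t ∈ Ideal.span {x} := by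
  obtain ⟨N, hN⟩ := exists_maximalIdeal_pow_le_map (R := R) (T := T)
  apply mem_span_of_pow_mul hdim x hx (N * k) t
  intro y hy
  have h1 : maximalIdeal T ^ (N * k) ≤ (maximalIdeal R ^ k).map (algebraMap R T) := by
    rw [pow_mul, Ideal.map_pow]
    exact Ideal.pow_right_mono hN k
  have h2 := h1 hy
  rw [Ideal.map] at h2
  refine Submodule.span_induction (p := fun y _ => y * t ∈ Ideal.span {x}) ?_ ?_ ?_ ?_ h2
  · rintro _ ⟨a, ha, rfl⟩
    have := h a ha
    rwa [Algebra.smul_def] at this
  · simp
  · intro a b _ _ ha hb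
    rw [add_mul]
    exact Ideal.add_mem _ ha hb
  · intro s a _ ha
    rw [smul_eq_mul, mul_assoc]
    exact Ideal.mul_mem_left _ _ ha

end Groth.Agent.Helper7.ZNPur
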