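import Mathlib

set_option autoImplicit false
universe u

/-!
# Zariski–Nagata purity, part D: a reduced local ring with connected, locally irreducible punctured
spectrum is a domain
-/

namespace Groth.Agent.Helper7.ZNPur

open IsLocalRing

theorem isDomain_of_punctured_connected (B : Type u) [CommRing B] [IsNoetherianRing B]
    [IsLocalRing B] [IsReduced B]
    (hconn : IsPreconnected {q : PrimeSpectrum B | q.asIdeal ≠ maximalIdeal B})
    (hloc : ∀ (q : Ideal B) [q.IsPrime], q ≠ maximalIdeal B → ∀ p₁ ∈ minimalPrimes B,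
      ∀ p₂ ∈ minimalPrimes B, p₁ ≤ q → p₂ ≤ q → p₁ = p₂)
    (hnm : maximalIdeal B ∉ minimalPrimes B) : IsDomain B := by
  classical
  have hfin : (minimalPrimes B).Finite := minimalPrimes.finite_of_isNoetherianRing B
  obtain ⟨p₁, hp₁, -⟩ := Ideal.exists_minimalPrimes_le (bot_le : (⊥ : Ideal B) ≤ maximalIdeal B)
  have hp₁' : p₁ ∈ minimalPrimes B := hp₁
  haveI hp₁prime : p₁.IsPrime := hp₁.1.1
  have hsInf : sInf (minimalPrimes B) = (⊥ : Ideal B) := by
    have := Ideal.sInf_minimalPrimes (I := (⊥ : Ideal B))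
    rw [show (⊥ : Ideal B).minimalPrimes = minimalPrimes B from rfl] at this
    rw [this]
    exact nilradical_eq_zero B
  have hall : ∀ p ∈ minimalPrimes B, p = p₁ := by
    intro p₂ hp₂
    by_contra hne
    set Q : Set (Ideal B) := minimalPrimes B \ {p₁} with hQ
    have hQfin : Q.Finite := hfin.subset Set.sdiff_subset
    set J : Ideal B := sInf Q with hJ
    have hp₂Q : p₂ ∈ Q := ⟨hp₂, hne⟩
    haveI hp₂prime : p₂.IsPrime := hp₂.1.1
    have hinf : p₁ ⊓ J = ⊥ := by
      rw [hJ, ← sInf_insert, hQ, Set.insert_sdiff_singleton, Set.insert_eq_of_mem hp₁', hsInf]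
    have hcover : {q : PrimeSpectrum B | q.asIdeal ≠ maximalIdeal B} ⊆
        PrimeSpectrum.zeroLocus (p₁ : Set B) ∪ PrimeSpectrum.zeroLocus (J : Set B) := by
      intro q _
      have : p₁ ⊓ J ≤ q.asIdeal := by rw [hinf]; exact bot_le
      rcases (Ideal.IsPrime.inf_le q.2).mp this with h | h
      · exact Or.inl h
      · exact Or.inr h
    have hne1 : ({q : PrimeSpectrum B | q.asIdeal ≠ maximalIdeal B} ∩
        PrimeSpectrum.zeroLocus (p₁ : Set B)).Nonempty := by
      refine ⟨⟨p₁, hp₁prime⟩, ?_, ?_⟩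
      · intro h
        exact hnm (h ▸ hp₁')
      · exact le_refl p₁
    have hne2 : ({q : PrimeSpectrum B | q.asIdeal ≠ maximalIdeal B} ∩
        PrimeSpectrum.zeroLocus (J : Set B)).Nonempty := by
      refine ⟨⟨p₂, hp₂prime⟩, ?_, ?_⟩
      · intro h
        exact hnm (h ▸ hp₂)
      · exact (sInf_le hp₂Q : J ≤ p₂)
    obtain ⟨q, hqU, hq1, hq2⟩ := (isPreconnected_closed_iff.mp hconn) _ _
      (PrimeSpectrum.isClosed_zeroLocus _) (PrimeSpectrum.isClosed_zeroLocus _) hcover hne1 hne2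
    have hq1' : p₁ ≤ q.asIdeal := hq1
    have hq2' : J ≤ q.asIdeal := hq2
    have hJfin : J = hQfin.toFinset.inf id := by
      rw [Finset.inf_id_eq_sInf, hJ]
      congr 1
      exact (Set.Finite.coe_toFinset hQfin).symm
    rw [hJfin] at hq2'
    obtain ⟨pj, hpj, hpjq⟩ := (Ideal.IsPrime.inf_le' q.2).mp hq2'
    rw [Set.Finite.mem_toFinset] at hpj
    haveI := q.2
    have := hloc q.asIdeal hqU p₁ hp₁' pj hpj.1 hq1' hpjq
    exact hpj.2 this.symm
  have hsingle : minimalPrimes B = {p₁} := by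
    ext p
    constructor
    · intro hp; exact hall p hp
    · rintro rfl; exact hp₁'
  have hbot : p₁ = ⊥ := by
    rw [hsingle, sInf_singleton] at hsInf
    exact hsInf
  have : (⊥ : Ideal B).IsPrime := hbot ▸ hp₁prime
  exact IsDomain.of_bot_isPrime B

end Groth.Agent.Helper7.ZNPur
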