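import Mathlib
import Groth.Agent.S0815
import Groth.Agent.S0326

set_option autoImplicit false
universe u

/-!
# Zariski–Nagata purity, part F: Faltings connectedness for a hypersurface section of a complete
local domain of dimension ≥ 3
-/

namespace Groth.Agent.Helper7.ZNPur

open IsLocalRing

/-- In a complete Noetherian local domain of dimension `≥ 3`, the punctured spectrum of `A/(x)` is
connected. -/
theorem isConnected_zeroLocus_diff (A : Type u) [CommRing A] [IsDomain A] [IsNoetherianRing A]
    [IsLocalRing A] [IsAdicComplete (maximalIdeal A) A] (hdim : (3 : WithBot ℕ∞) ≤ ringKrullDim A)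
    (x : A) (hx : x ∈ maximalIdeal A) :
    IsConnected (PrimeSpectrum.zeroLocus ((Ideal.span {x} : Ideal A) : Set A) \
      PrimeSpectrum.zeroLocus ((maximalIdeal A : Ideal A) : Set A)) := by
  classical
  have hI : (Ideal.span {x} : Ideal A) ≠ ⊤ := by
    intro h
    have : Ideal.span {x} ≤ maximalIdeal A := (Ideal.span_singleton_le_iff_mem _).mpr hx
    rw [h] at this
    exact (maximalIdeal.isMaximal A).ne_top (top_le_iff.mp this)
  have he : LocCoh.CdLE A (Ideal.span {x}) 1 := by
    have := Groth.Agent.S0326.result A ({x} : Finset A)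
    simpa using this
  have hZdim : topologicalKrullDim
      ↥(PrimeSpectrum.zeroLocus ((maximalIdeal A : Ideal A) : Set A)) = 0 := by
    rw [Groth.Agent.Helper5.NormLocus.topologicalKrullDim_zeroLocus]
    letI : Field (A ⧸ maximalIdeal A) := Ideal.Quotient.field _
    exact ringKrullDim_eq_zero_of_field _
  have hbot : ringKrullDim (A ⧸ (⊥ : Ideal A)) = ringKrullDim A :=
    ringKrullDim_eq_of_ringEquiv (RingEquiv.quotientBot A)
  refine Groth.Agent.S0815.result A (Ideal.span {x}) hI 1 he _
    (PrimeSpectrum.isClosed_zeroLocus _) ?_ ?_ ?_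
  · apply PrimeSpectrum.zeroLocus_anti_mono
    intro y hy
    exact ((Ideal.span_singleton_le_iff_mem _).mpr hx) hy
  · intro p hp
    rw [IsDomain.minimalPrimes_eq_singleton_bot, Set.mem_singleton_iff] at hp
    subst hp
    rw [hZdim, hbot, zero_add]
    refine lt_of_lt_of_le ?_ hdim
    norm_num
  · intro Z' hZ' hcon
    rw [hZdim, zero_add]
    have hempty : Z'ᶜ = ∅ := by
      by_contra hne
      apply hcon
      have hne' : (Z'ᶜ).Nonempty := Set.nonempty_iff_ne_empty.mpr hne
      have hirr : IsIrreducible (Set.univ : Set (PrimeSpectrum A)) :=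
        (IrreducibleSpace.isIrreducible_univ _)
      have : IsPreirreducible (Z'ᶜ) :=
        (hirr.isPreirreducible).open_subset hZ'.isOpen_compl (Set.subset_univ _)
      exact ⟨hne', this.isPreconnected⟩
    have hZu : Z' = Set.univ := by
      rw [← compl_compl Z', hempty, Set.compl_empty]
    have h1 : topologicalKrullDim ↥Z' = ringKrullDim A := by
      have h2 : Z' = PrimeSpectrum.zeroLocus (((⊥ : Ideal A) : Ideal A) : Set A) := by
        rw [hZu]; simp
      rw [h2, Groth.Agent.Helper5.NormLocus.topologicalKrullDim_zeroLocus, hbot]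
    rw [h1]
    refine lt_of_lt_of_le ?_ hdim
    norm_num

end Groth.Agent.Helper7.ZNPur
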