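import Mathlib
import Groth.Agent.Helper7.ZNPurA
import Groth.Agent.Helper7.ZNPurB
import Groth.Agent.Helper7.ZNPurD
import Groth.Agent.Helper7.ZNPurF
import Groth.Agent.Helper2.NagataCompl2
import Groth.Agent.Helper1.EtRed
import Groth.Agent.Helper5.SmNorm5
import Groth.Agent.Helper4.RegNormal
import Groth.Agent.Lead.RegLocal
import Groth.Agent.Helper7.WqInvB

set_option autoImplicit false
universe u

/-!
# Zariski–Nagata purity, part E: the hyperplane section of a complete normal local domain, étale over
the punctured spectrum of a complete regular local ring of dimension ≥ 3, is a domain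
-/

namespace Groth.Agent.Helper7.ZNPur

open IsLocalRing TensorProduct

section TensorQuot
variable {R : Type u} [CommRing R] (I : Ideal R) (A : Type u) [CommRing A] [Algebra R A]

/-- the canonical surjection `A → (R/I) ⊗ A` -/
noncomputable abbrev piQ : A →ₐ[R] (R ⧸ I) ⊗[R] A := Algebra.TensorProduct.includeRight

theorem piQ_apply (z : A) : piQ I A z = (1 : R ⧸ I) ⊗ₜ[R] z := rfl

theorem piQ_surjective : Function.Surjective (piQ I A) := by
  intro b
  obtain ⟨z, hz⟩ := Submodule.Quotient.mk_surjective _ (TensorProduct.quotTensorEquivQuotSMul A I b)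
  refine ⟨z, ?_⟩
  apply (TensorProduct.quotTensorEquivQuotSMul A I).injective
  rw [← hz, piQ_apply, TensorProduct.quotTensorEquivQuotSMul_mk_one_tmul]

theorem piQ_eq_zero_iff (z : A) : piQ I A z = 0 ↔ z ∈ I.map (algebraMap R A) := by
  rw [← (TensorProduct.quotTensorEquivQuotSMul A I).map_eq_zero_iff, piQ_apply,
    TensorProduct.quotTensorEquivQuotSMul_mk_one_tmul, Submodule.Quotient.mk_eq_zero,
    Ideal.smul_top_eq_map]
  rfl

theorem ker_piQ : RingHom.ker (piQ I A) = I.map (algebraMap R A) := by
  ext z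
  rw [RingHom.mem_ker]
  exact piQ_eq_zero_iff I A z

theorem algebraMap_quot_tensor (r : R) :
    algebraMap (R ⧸ I) ((R ⧸ I) ⊗[R] A) (Ideal.Quotient.mk I r) = piQ I A (algebraMap R A r) := by
  rw [piQ_apply, Algebra.TensorProduct.algebraMap_apply, Algebra.algebraMap_self, RingHom.id_apply,
    ← Ideal.Quotient.algebraMap_eq, Algebra.algebraMap_eq_smul_one, Algebra.algebraMap_eq_smul_one,
    TensorProduct.smul_tmul]

end TensorQuot

/-- a normal domain is a normal ring -/
theorem isNormalRing_of_isIntegrallyClosed (R : Type u) [CommRing R] [IsDomain R]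
    [IsIntegrallyClosed R] : EGA4.IsNormalRing R := by
  intro p hp
  refine ⟨inferInstance, ?_⟩
  exact isIntegrallyClosed_of_isLocalization (Localization.AtPrime p) p.primeCompl
    p.primeCompl_le_nonZeroDivisors

/-- in a normal ring, two minimal primes contained in a common prime coincide -/
theorem minimalPrimes_eq_of_le_of_isNormalRing {B : Type u} [CommRing B] (f : B)
    (hN : EGA4.IsNormalRing (Localization.Away f)) (q : Ideal B) [q.IsPrime] (hfq : f ∉ q)
    (p₁ : Ideal B) (hp₁ : p₁ ∈ minimalPrimes B) (p₂ : Ideal B) (hp₂ : p₂ ∈ minimalPrimes B)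
    (h₁ : p₁ ≤ q) (h₂ : p₂ ≤ q) : p₁ = p₂ := by
  set Bf := Localization.Away f
  have hdisj : Disjoint (Submonoid.powers f : Set B) (q : Set B) := by
    rw [Set.disjoint_left]
    rintro _ ⟨n, rfl⟩ hn
    exact hfq (Ideal.IsPrime.mem_of_pow_mem inferInstance n hn)
  set P : Ideal Bf := q.map (algebraMap B Bf) with hP
  haveI hPprime : P.IsPrime :=
    IsLocalization.isPrime_of_isPrime_disjoint (Submonoid.powers f) Bf q inferInstance hdisj
  have hcomap : P.comap (algebraMap B Bf) = q :=
    IsLocalization.under_map_of_isPrime_disjoint (Submonoid.powers f) Bf inferInstance hdisj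
  obtain ⟨hdom, -⟩ := hN P
  set C := Localization.AtPrime P
  haveI : IsLocalization.AtPrime C (P.comap (algebraMap B Bf)) :=
    IsLocalization.isLocalization_isLocalization_atPrime_isLocalization
      (Submonoid.powers f) C P
  haveI hloc : IsLocalization q.primeCompl C := by
    have h2 := this
    have hpc : (P.comap (algebraMap B Bf)).primeCompl = q.primeCompl := by
      ext z
      simp only [Ideal.mem_primeCompl_iff]
      rw [hcomap]
    change IsLocalization (P.comap (algebraMap B Bf)).primeCompl C at h2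
    rwa [hpc] at h2
  set k : Ideal B := RingHom.ker (algebraMap B C) with hk
  haveI : k.IsPrime := RingHom.ker_isPrime _
  have hkle : ∀ p : Ideal B, p.IsPrime → p ≤ q → k ≤ p := by
    intro p hp hpq b hb
    rw [hk, RingHom.mem_ker, IsLocalization.map_eq_zero_iff q.primeCompl] at hb
    obtain ⟨⟨s, hs⟩, hsb⟩ := hb
    have : s * b ∈ p := by rw [hsb]; exact p.zero_mem
    rcases hp.mem_or_mem this with h | h
    · exact absurd (hpq h) hs
    · exact h
  have e₁ : p₁ = k := le_antisymm (hp₁.2 ⟨inferInstance, bot_le⟩ (hkle p₁ hp₁.1.1 h₁))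
    (hkle p₁ hp₁.1.1 h₁)
  have e₂ : p₂ = k := le_antisymm (hp₂.2 ⟨inferInstance, bot_le⟩ (hkle p₂ hp₂.1.1 h₂))
    (hkle p₂ hp₂.1.1 h₂)
  rw [e₁, e₂]

/-- a local normal ring is a domain -/
theorem isDomain_of_isNormalRing_of_isLocalRing (R : Type u) [CommRing R] [IsLocalRing R]
    (hN : EGA4.IsNormalRing R) : IsDomain R := by
  obtain ⟨hd, -⟩ := hN (maximalIdeal R)
  have hle : (maximalIdeal R).primeCompl ≤ IsUnit.submonoid R := by
    intro z hz
    rw [Ideal.mem_primeCompl_iff, mem_maximalIdeal, mem_nonunits_iff, not_not] at hz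
    exact hz
  let e : R ≃ₐ[R] Localization.AtPrime (maximalIdeal R) :=
    IsLocalization.atUnits R (maximalIdeal R).primeCompl hle
  exact e.toMulEquiv.isDomain (Localization.AtPrime (maximalIdeal R))

section Main

variable (R : Type u) [CommRing R] [IsNoetherianRing R] [IsLocalRing R]
  (A : Type u) [CommRing A] [Algebra R A] [Module.Finite R A]

/-- nilpotents of the hyperplane section die: `(R/x) ⊗ A` is reduced -/
theorem isReduced_tensor_quotient [IsDomain A] [IsIntegrallyClosed A] [IsLocalRing A]
    [IsNoetherianRing A]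
    (hdimA : (2 : WithBot ℕ∞) ≤ ringKrullDim A)
    (x : R) (hx0 : algebraMap R A x ≠ 0) [IsLocalRing (R ⧸ Ideal.span {x})]
    [IsReduced (R ⧸ Ideal.span {x})] (h : EtAway R A) :
    IsReduced ((R ⧸ Ideal.span {x}) ⊗[R] A) := by
  set I : Ideal R := Ideal.span {x} with hI
  set a : A := algebraMap R A x with ha
  have hmap : I.map (algebraMap R A) = Ideal.span {a} := by
    rw [hI, Ideal.map_span, Set.image_singleton]
  have hEtB : EtAway (R ⧸ I) ((R ⧸ I) ⊗[R] A) := h.baseChange_quotient I
  constructor
  intro b hb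
  obtain ⟨t, rfl⟩ := piQ_surjective I A b
  rw [piQ_eq_zero_iff, hmap]
  -- the colon ideal
  let J : Ideal R := Submodule.comap (LinearMap.toSpanSingleton R A t)
    ((Ideal.span {a}).restrictScalars R)
  have hJ : ∀ r : R, r ∈ J ↔ r • t ∈ Ideal.span {a} := by
    intro r
    change LinearMap.toSpanSingleton R A t r ∈ ((Ideal.span {a}).restrictScalars R) ↔ _
    rw [LinearMap.toSpanSingleton_apply, Submodule.restrictScalars_mem]
  have hrad : maximalIdeal R ≤ J.radical := by
    intro f hf
    have hfbar : Ideal.Quotient.mk I f ∈ maximalIdeal (R ⧸ I) := by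
      rw [mem_maximalIdeal, mem_nonunits_iff] at hf ⊢
      intro hu
      apply hf
      have hloc : IsLocalHom (Ideal.Quotient.mk I) :=
        IsLocalHom.of_surjective _ Ideal.Quotient.mk_surjective
      exact hloc.map_nonunit f hu
    haveI := hEtB _ hfbar
    set g := algebraMap (R ⧸ I) ((R ⧸ I) ⊗[R] A) (Ideal.Quotient.mk I f) with hg
    haveI : IsReduced (Localization.Away g) :=
      Groth.Agent.Helper1.EtRed.isReduced_of_smooth (R ⧸ I) (Localization.Away g)
    have hnil : IsNilpotent (algebraMap _ (Localization.Away g) (piQ I A t)) := hb.map _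
    have hz : algebraMap _ (Localization.Away g) (piQ I A t) = 0 := hnil.eq_zero
    rw [IsLocalization.map_eq_zero_iff (Submonoid.powers g)] at hz
    obtain ⟨⟨_, m, rfl⟩, hm⟩ := hz
    refine ⟨m, ?_⟩
    rw [hJ, ← hmap, ← piQ_eq_zero_iff]
    rw [hg, algebraMap_quot_tensor] at hm
    rw [Algebra.smul_def, map_mul, map_pow, map_pow]
    exact hm
  obtain ⟨k, hk⟩ := Ideal.exists_pow_le_of_le_radical_of_fg hrad
    (IsNoetherian.noetherian (maximalIdeal R))
  exact mem_span_of_base_pow_smul hdimA a hx0 k t (fun r hr => (hJ r).mp (hk hr))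

/-- **Hyperplane sections stay irreducible.**  Let `R` be a complete Noetherian local ring of
dimension `≥ 3`, `x ∈ 𝔪` nonzero with `R/x` normal, and `A` a normal domain, finite and injective over
`R` and étale over the punctured spectrum of `R`.  Then `(R/x) ⊗ A = A/xA` is a domain. -/
theorem isDomain_tensor_quotient [IsAdicComplete (maximalIdeal R) R]
    (hdim : (3 : WithBot ℕ∞) ≤ ringKrullDim R)
    (x : R) (hx : x ∈ maximalIdeal R) (hx0 : x ≠ 0)
    (hN : EGA4.IsNormalRing (R ⧸ Ideal.span {x}))
    [IsDomain A] [IsIntegrallyClosed A]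
    (hinj : Function.Injective (algebraMap R A)) (h : EtAway R A) :
    IsDomain ((R ⧸ Ideal.span {x}) ⊗[R] A) := by
  classical
  obtain ⟨hAloc, hAcomp⟩ := Groth.Agent.Helper2.NagataCompl2.local_complete_of_finite R A
  haveI : IsNoetherianRing A := IsNoetherianRing.of_finite R A
  haveI : Algebra.IsIntegral R A := Algebra.IsIntegral.of_finite R A
  have hdimA : ringKrullDim A = ringKrullDim R :=
    Groth.Agent.Helper7.WqInv.ringKrullDim_eq_of_isIntegral_of_injective'' hinj
  set I : Ideal R := Ideal.span {x} with hI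
  set a : A := algebraMap R A x with ha
  have ha0 : a ≠ 0 := by
    intro h0
    apply hx0
    apply hinj
    rw [map_zero]
    exact h0
  have haA : a ∈ maximalIdeal A :=
    Groth.Agent.Helper3.FinComp1.map_le_of_isMaximal R A (maximalIdeal A)
      (Ideal.mem_map_of_mem _ hx)
  have hmap : I.map (algebraMap R A) = Ideal.span {a} := by
    rw [hI, Ideal.map_span, Set.image_singleton]
  have hIne : I ≠ ⊤ := by
    intro htop
    have : I ≤ maximalIdeal R := (Ideal.span_singleton_le_iff_mem _).mpr hx
    rw [htop] at this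
    exact (maximalIdeal.isMaximal R).ne_top (top_le_iff.mp this)
  haveI : Nontrivial (R ⧸ I) := Ideal.Quotient.nontrivial_iff.mpr hIne
  haveI : IsLocalRing (R ⧸ I) :=
    IsLocalRing.of_surjective' (Ideal.Quotient.mk I) Ideal.Quotient.mk_surjective
  haveI : IsDomain (R ⧸ I) := isDomain_of_isNormalRing_of_isLocalRing (R ⧸ I) hN
  set B := (R ⧸ I) ⊗[R] A with hB
  set π : A →ₐ[R] B := piQ I A with hπ
  have hπs : Function.Surjective π := piQ_surjective I A
  have hker : RingHom.ker π = Ideal.span {a} := by rw [hπ, ker_piQ, hmap]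
  have hker' : RingHom.ker π.toRingHom = Ideal.span {a} := hker
  haveI : Nontrivial B := by
    refine ⟨⟨1, 0, ?_⟩⟩
    intro h10
    have h1 : (1 : A) ∈ RingHom.ker π := by rw [RingHom.mem_ker, map_one]; exact h10
    rw [hker] at h1
    have : Ideal.span {a} ≤ maximalIdeal A := (Ideal.span_singleton_le_iff_mem _).mpr haA
    exact (maximalIdeal.isMaximal A).ne_top ((Ideal.eq_top_iff_one _).mpr (this h1))
  haveI : IsLocalRing B := IsLocalRing.of_surjective' π.toRingHom hπs
  haveI : IsNoetherianRing B := isNoetherianRing_of_surjective A B π.toRingHom hπs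
  have hEtB : EtAway (R ⧸ I) B := h.baseChange_quotient I
  have hdimA2 : (2 : WithBot ℕ∞) ≤ ringKrullDim A := by
    rw [hdimA]
    exact le_trans (by norm_num) hdim
  have hdimA3 : (3 : WithBot ℕ∞) ≤ ringKrullDim A := by
    rw [hdimA]
    exact hdim
  haveI : IsReduced B := isReduced_tensor_quotient R A hdimA2 x ha0 h
  -- nonunits of `B` lift to nonunits of `A`
  have hcomapMax : (maximalIdeal B).comap π.toRingHom = maximalIdeal A := by
    haveI : ((maximalIdeal B).comap π.toRingHom).IsMaximal :=
      Ideal.comap_isMaximal_of_surjective π.toRingHom hπs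
    exact IsLocalRing.eq_maximalIdeal this
  -- Faltings' connectedness
  have hF := isConnected_zeroLocus_diff A hdimA3 a haA
  -- transport along the closed embedding `Spec B → Spec A`
  have hemb := PrimeSpectrum.isClosedEmbedding_comap_of_surjective B π.toRingHom hπs
  have hne : ∀ q : PrimeSpectrum B, q.asIdeal ≠ maximalIdeal B →
      PrimeSpectrum.comap π.toRingHom q ∉
        PrimeSpectrum.zeroLocus ((maximalIdeal A : Ideal A) : Set A) := by
    intro q hq hmem
    apply hq
    rw [PrimeSpectrum.mem_zeroLocus, SetLike.coe_subset_coe] at hmem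
    have hle : q.asIdeal ≤ maximalIdeal B := IsLocalRing.le_maximalIdeal q.2.ne_top
    refine le_antisymm hle ?_
    intro b hb
    obtain ⟨t, rfl⟩ := hπs b
    have ht : t ∈ maximalIdeal A := by
      rw [← hcomapMax]
      exact hb
    exact hmem ht
  have himage : PrimeSpectrum.comap π.toRingHom '' {q : PrimeSpectrum B | q.asIdeal ≠ maximalIdeal B}
      = PrimeSpectrum.zeroLocus ((Ideal.span {a} : Ideal A) : Set A) \
        PrimeSpectrum.zeroLocus ((maximalIdeal A : Ideal A) : Set A) := by
    ext p
    constructor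
    · rintro ⟨q, hq, rfl⟩
      refine ⟨?_, hne q hq⟩
      rw [← hker']
      rw [← _root_.range_comap_of_surjective B π.toRingHom hπs]
      exact Set.mem_range_self q
    · rintro ⟨hp1, hp2⟩
      rw [← hker', ← _root_.range_comap_of_surjective B π.toRingHom hπs] at hp1
      obtain ⟨q, rfl⟩ := hp1
      refine ⟨q, ?_, rfl⟩
      intro hq
      apply hp2
      rw [PrimeSpectrum.mem_zeroLocus, SetLike.coe_subset_coe]
      change maximalIdeal A ≤ q.asIdeal.comap π.toRingHom
      rw [hq, hcomapMax]
  have hconn : IsPreconnected {q : PrimeSpectrum B | q.asIdeal ≠ maximalIdeal B} := by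
    rw [← hemb.isInducing.isPreconnected_image, himage]
    exact hF.isPreconnected
  have hnm : maximalIdeal B ∉ minimalPrimes B := by
    intro hmin
    obtain ⟨p, hp⟩ := hF.nonempty
    rw [← himage] at hp
    obtain ⟨q, hq, -⟩ := hp
    have hle : q.asIdeal ≤ maximalIdeal B := IsLocalRing.le_maximalIdeal q.2.ne_top
    exact hq (le_antisymm hle (hmin.2 ⟨q.2, bot_le⟩ hle))
  haveI : Module.Finite (R ⧸ I) B := inferInstance
  haveI : Algebra.IsIntegral (R ⧸ I) B := Algebra.IsIntegral.of_finite (R ⧸ I) B
  have hloc : ∀ (q : Ideal B) [q.IsPrime], q ≠ maximalIdeal B → ∀ p₁ ∈ minimalPrimes B,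
      ∀ p₂ ∈ minimalPrimes B, p₁ ≤ q → p₂ ≤ q → p₁ = p₂ := by
    intro q _ hq p₁ hp₁ p₂ hp₂ h₁ h₂
    have hcq : q.comap (algebraMap (R ⧸ I) B) ≠ maximalIdeal (R ⧸ I) := by
      intro hc
      apply hq
      haveI : (q.comap (algebraMap (R ⧸ I) B)).IsMaximal := by
        rw [hc]; exact maximalIdeal.isMaximal _
      haveI : q.IsMaximal := Ideal.isMaximal_of_isIntegral_of_isMaximal_comap q this
      exact IsLocalRing.eq_maximalIdeal this
    have hle : q.comap (algebraMap (R ⧸ I) B) ≤ maximalIdeal (R ⧸ I) :=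
      IsLocalRing.le_maximalIdeal (Ideal.comap_ne_top _ (Ideal.IsPrime.ne_top'))
    obtain ⟨f, hfm, hfq⟩ : ∃ f ∈ maximalIdeal (R ⧸ I), f ∉ q.comap (algebraMap (R ⧸ I) B) := by
      by_contra hcon
      push Not at hcon
      exact hcq (le_antisymm hle hcon)
    haveI := hEtB f hfm
    have hNf : EGA4.IsNormalRing (Localization.Away (algebraMap (R ⧸ I) B f)) :=
      (Groth.Agent.Helper5.SmNorm.s1182 (R ⧸ I) _).1 hN
    exact minimalPrimes_eq_of_le_of_isNormalRing (algebraMap (R ⧸ I) B f) hNf q hfq p₁ hp₁ p₂ hp₂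
      h₁ h₂
  exact isDomain_of_punctured_connected B hconn hloc hnm

end Main

end Groth.Agent.Helper7.ZNPur
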