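import Mathlib
import Groth.Agent.Helper7.ZNPurA
import Groth.Agent.Helper7.ZNPurE

set_option autoImplicit false
universe u

/-!
# Zariski–Nagata purity, part H: hyperplane sections are injective over the base; the normalization of
the hyperplane section is again étale over the punctured spectrum
-/

namespace Groth.Agent.Helper7.ZNPur

open IsLocalRing TensorProduct

section H1

variable {R : Type u} {T : Type u} [CommRing R] [IsDomain R] [IsIntegrallyClosed R] [CommRing T]
  [IsDomain T] [Algebra R T] [Algebra.IsIntegral R T]

/-- division in an integral extension of a normal domain stays in the base -/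
theorem exists_eq_algebraMap_of_mul_eq (hinj : Function.Injective (algebraMap R T)) (r x : R)
    (hx : x ≠ 0) (t : T) (h : algebraMap R T r = algebraMap R T x * t) :
    ∃ r' : R, r = x * r' := by
  haveI : FaithfulSMul R T := (faithfulSMul_iff_algebraMap_injective R T).mpr hinj
  set K := FractionRing R
  set L := FractionRing T
  haveI : FaithfulSMul R L := by
    rw [faithfulSMul_iff_algebraMap_injective, IsScalarTower.algebraMap_eq R T L]
    exact (IsFractionRing.injective T L).comp hinj
  letI : Algebra K L := FractionRing.liftAlgebra R L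
  haveI : IsScalarTower R K L := FractionRing.isScalarTower_liftAlgebra R L
  have hxK : algebraMap R K x ≠ 0 := by
    intro h0
    exact hx ((IsFractionRing.injective R K) (by rw [h0, map_zero]))
  set k : K := algebraMap R K r / algebraMap R K x with hk
  have hkL : algebraMap K L k = algebraMap T L t := by
    have hxL : algebraMap K L (algebraMap R K x) ≠ 0 := by
      intro h0
      exact hxK ((algebraMap K L).injective (by rw [h0, map_zero]))
    rw [hk, map_div₀, div_eq_iff hxL, ← IsScalarTower.algebraMap_apply R K L,
      ← IsScalarTower.algebraMap_apply R K L, IsScalarTower.algebraMap_apply R T L r,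
      IsScalarTower.algebraMap_apply R T L x, h, map_mul, mul_comm]
  have hint : IsIntegral R (algebraMap K L k) := by
    rw [hkL]
    exact (Algebra.IsIntegral.isIntegral (R := R) t).algebraMap
  have hintk : IsIntegral R k :=
    (isIntegral_algebraMap_iff (algebraMap K L).injective).mp hint
  obtain ⟨r', hr'⟩ := IsIntegrallyClosed.isIntegral_iff.mp hintk
  refine ⟨r', ?_⟩
  apply IsFractionRing.injective R K
  rw [map_mul, hr', hk, mul_div_cancel₀ _ hxK]

end H1

section H2

variable (R : Type u) [CommRing R] [IsDomain R] [IsIntegrallyClosed R] (T : Type u) [CommRing T]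
  [IsDomain T] [Algebra R T] [Algebra.IsIntegral R T]

/-- the hyperplane section of an integral extension of a normal domain is injective over the
hyperplane section of the base -/
theorem algebraMap_quot_tensor_injective (hinj : Function.Injective (algebraMap R T)) (x : R)
    (hx : x ≠ 0) :
    Function.Injective (algebraMap (R ⧸ Ideal.span {x}) ((R ⧸ Ideal.span {x}) ⊗[R] T)) := by
  rw [injective_iff_map_eq_zero]
  intro rbar hr
  obtain ⟨r, rfl⟩ := Ideal.Quotient.mk_surjective rbar
  rw [algebraMap_quot_tensor, piQ_eq_zero_iff, Ideal.map_span, Set.image_singleton,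
    Ideal.mem_span_singleton'] at hr
  obtain ⟨t, ht⟩ := hr
  obtain ⟨r', hr'⟩ := exists_eq_algebraMap_of_mul_eq hinj r x hx t (by rw [← ht, mul_comm])
  rw [Ideal.Quotient.eq_zero_iff_mem, hr']
  exact Ideal.mul_mem_right _ _ (Ideal.subset_span rfl)

end H2

section H3

variable {T₁ : Type u} [CommRing T₁] [IsDomain T₁] (K : Type u) [Field K] [Algebra T₁ K]
  [IsFractionRing T₁ K]

/-- if `T₁[1/g]` is normal, every element of the normalization of `T₁` is carried into `T₁` by a
power of `g` -/
theorem exists_pow_mul_eq_algebraMap (g : T₁) (hN : EGA4.IsNormalRing (Localization.Away g))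
    (d : integralClosure T₁ K) :
    ∃ (k : ℕ) (t : T₁), (algebraMap T₁ (integralClosure T₁ K) g) ^ k * d =
      algebraMap T₁ (integralClosure T₁ K) t := by
  by_cases hg : g = 0
  · refine ⟨1, 0, ?_⟩
    rw [hg, map_zero, pow_one, zero_mul]
  set Tg := Localization.Away g
  have hle : Submonoid.powers g ≤ nonZeroDivisors T₁ :=
    powers_le_nonZeroDivisors_of_noZeroDivisors hg
  haveI : IsDomain Tg := IsLocalization.isDomain_localization hle
  haveI : IsIntegrallyClosed Tg :=
    IsIntegrallyClosed.of_localization_maximal (fun p _ _ => (hN p).2)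
  have hunits : ∀ y : Submonoid.powers g, IsUnit (algebraMap T₁ K y) := by
    rintro ⟨y, hy⟩
    have : y ≠ 0 := nonZeroDivisors.ne_zero (hle hy)
    exact IsUnit.mk0 _ ((map_ne_zero_iff _ (IsFractionRing.injective T₁ K)).mpr this)
  letI : Algebra Tg K := (IsLocalization.lift hunits).toAlgebra
  haveI : IsScalarTower T₁ Tg K := IsScalarTower.of_algebraMap_eq (fun x => by
    rw [RingHom.algebraMap_toAlgebra, IsLocalization.lift_eq])
  haveI : IsFractionRing Tg K :=
    IsFractionRing.isFractionRing_of_isDomain_of_isLocalization (Submonoid.powers g) Tg K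
  have hint : IsIntegral Tg (d : K) := IsIntegral.tower_top (R := T₁) d.2
  obtain ⟨z, hz⟩ := IsIntegrallyClosed.isIntegral_iff.mp hint
  obtain ⟨⟨t, ⟨_, k, rfl⟩⟩, hts⟩ := IsLocalization.surj (Submonoid.powers g) z
  refine ⟨k, t, ?_⟩
  apply Subtype.ext
  have h2 : algebraMap Tg K (z * algebraMap T₁ Tg (g ^ k)) = algebraMap Tg K (algebraMap T₁ Tg t) :=
    congrArg _ hts
  rw [map_mul, hz, ← IsScalarTower.algebraMap_apply, ← IsScalarTower.algebraMap_apply] at h2
  change ((algebraMap T₁ (integralClosure T₁ K) g) ^ k * d : integralClosure T₁ K).1 =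
    (algebraMap T₁ (integralClosure T₁ K) t).1
  rw [MulMemClass.coe_mul, SubmonoidClass.coe_pow]
  change (algebraMap T₁ K g) ^ k * (d : K) = algebraMap T₁ K t
  rw [← h2, map_pow, mul_comm]

variable {R₁ : Type u} [CommRing R₁] [IsLocalRing R₁] [Algebra R₁ T₁] [Algebra R₁ K]
  [IsScalarTower R₁ T₁ K]

/-- the normalization of `T₁` is étale over the punctured spectrum of the normal local ring `R₁` as
soon as `T₁` is -/
theorem etAway_integralClosure (hN₁ : EGA4.IsNormalRing R₁) (h : EtAway R₁ T₁) :
    EtAway R₁ (integralClosure T₁ K) := by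
  intro f hf
  have hgD : algebraMap R₁ (integralClosure T₁ K) f =
      algebraMap T₁ (integralClosure T₁ K) (algebraMap R₁ T₁ f) := by
    rw [← IsScalarTower.algebraMap_apply]
  haveI := h f hf
  have hNg : EGA4.IsNormalRing (Localization.Away (algebraMap R₁ T₁ f)) :=
    (Groth.Agent.Helper5.SmNorm.s1182 R₁ (Localization.Away (algebraMap R₁ T₁ f))).1 hN₁
  rw [hgD]
  generalize algebraMap R₁ T₁ f = g at *
  have hinjD : Function.Injective (algebraMap T₁ (integralClosure T₁ K)) := by
    intro a b hab
    apply IsFractionRing.injective T₁ K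
    have := congrArg (algebraMap (integralClosure T₁ K) K) hab
    rwa [← IsScalarTower.algebraMap_apply, ← IsScalarTower.algebraMap_apply] at this
  haveI : IsLocalization.Away g
      (Localization.Away (algebraMap T₁ (integralClosure T₁ K) g)) := by
    rw [IsLocalization.Away, isLocalization_iff]
    refine ⟨?_, ?_, ?_⟩
    · rintro ⟨_, n, rfl⟩
      rw [IsScalarTower.algebraMap_apply T₁ (integralClosure T₁ K)
        (Localization.Away (algebraMap T₁ (integralClosure T₁ K) g)), map_pow, map_pow]
      exact (IsLocalization.Away.algebraMap_isUnit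
        (S := Localization.Away (algebraMap T₁ (integralClosure T₁ K) g))
        (algebraMap T₁ (integralClosure T₁ K) g)).pow n
    · intro z
      obtain ⟨⟨d, ⟨_, n, rfl⟩⟩, hz⟩ := IsLocalization.surj
        (Submonoid.powers (algebraMap T₁ (integralClosure T₁ K) g)) z
      obtain ⟨k, t, hkt⟩ := exists_pow_mul_eq_algebraMap K g hNg d
      refine ⟨⟨t, ⟨g ^ (n + k), n + k, rfl⟩⟩, ?_⟩
      have hz' : z * algebraMap (integralClosure T₁ K) _
          ((algebraMap T₁ (integralClosure T₁ K) g) ^ n) =
          algebraMap (integralClosure T₁ K) _ d := hz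
      change z * algebraMap T₁ (Localization.Away (algebraMap T₁ (integralClosure T₁ K) g))
        (g ^ (n + k)) = algebraMap T₁ _ t
      rw [IsScalarTower.algebraMap_apply T₁ (integralClosure T₁ K)
          (Localization.Away (algebraMap T₁ (integralClosure T₁ K) g)),
        IsScalarTower.algebraMap_apply T₁ (integralClosure T₁ K)
          (Localization.Away (algebraMap T₁ (integralClosure T₁ K) g)) t, ← hkt, map_pow, pow_add,
        map_mul, map_mul, ← mul_assoc, hz', mul_comm]
    · intro a b hab
      rw [IsScalarTower.algebraMap_apply T₁ (integralClosure T₁ K)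
          (Localization.Away (algebraMap T₁ (integralClosure T₁ K) g)),
        IsScalarTower.algebraMap_apply T₁ (integralClosure T₁ K)
          (Localization.Away (algebraMap T₁ (integralClosure T₁ K) g)) b] at hab
      obtain ⟨⟨_, n, rfl⟩, hn⟩ := (IsLocalization.eq_iff_exists
        (Submonoid.powers (algebraMap T₁ (integralClosure T₁ K) g)) _).mp hab
      refine ⟨⟨g ^ n, n, rfl⟩, ?_⟩
      apply hinjD
      change (algebraMap T₁ (integralClosure T₁ K) g) ^ n * algebraMap T₁ _ a =
        (algebraMap T₁ (integralClosure T₁ K) g) ^ n * algebraMap T₁ _ b at hn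
      change algebraMap T₁ (integralClosure T₁ K) (g ^ n * a) =
        algebraMap T₁ (integralClosure T₁ K) (g ^ n * b)
      rw [map_mul, map_mul, map_pow]
      exact hn
  let e : Localization.Away g ≃ₐ[T₁]
      Localization.Away (algebraMap T₁ (integralClosure T₁ K) g) :=
    IsLocalization.algEquiv (Submonoid.powers g) _ _
  exact Algebra.Etale.of_equiv (e.restrictScalars R₁)

end H3

end Groth.Agent.Helper7.ZNPur
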