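import Mathlib
import Groth.Agent.Helper7.ZNPurA
import Groth.Agent.Helper7.ZNPurE
import Groth.Agent.Helper7.ZNPurG

set_option autoImplicit false
universe u

/-!
# Zariski–Nagata purity, part I: the key step.  If the normalization `D` of the hyperplane section of
`T` lifts to a finite étale algebra over the complete base, then the hyperplane section of `T` is
already normal.
-/

namespace Groth.Agent.Helper7.ZNPur

open IsLocalRing TensorProduct

/-- a local normal ring is integrally closed -/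
theorem isIntegrallyClosed_of_isNormalRing_of_isLocalRing (R : Type u) [CommRing R] [IsLocalRing R]
    (hN : EGA4.IsNormalRing R) : IsIntegrallyClosed R := by
  obtain ⟨hd, hic⟩ := hN (maximalIdeal R)
  have hle : (maximalIdeal R).primeCompl ≤ IsUnit.submonoid R := by
    intro z hz
    rw [Ideal.mem_primeCompl_iff, mem_maximalIdeal, mem_nonunits_iff, not_not] at hz
    exact hz
  let e : R ≃ₐ[R] Localization.AtPrime (maximalIdeal R) :=
    IsLocalization.atUnits R (maximalIdeal R).primeCompl hle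
  exact IsIntegrallyClosed.of_equiv e.symm.toRingEquiv

section Key

variable (R : Type u) [CommRing R] [IsNoetherianRing R] [IsLocalRing R]
  [IsAdicComplete (maximalIdeal R) R]

theorem algHom_surjective_of_lift
    (hdim : (3 : WithBot ℕ∞) ≤ ringKrullDim R) (x : R) (hx : x ∈ maximalIdeal R) (hx0 : x ≠ 0)
    (hN : EGA4.IsNormalRing (R ⧸ Ideal.span {x}))
    (T : Type u) [CommRing T] [IsDomain T] [IsIntegrallyClosed T] [Algebra R T] [Module.Finite R T]
    (hinj : Function.Injective (algebraMap R T)) (hT : EtAway R T)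
    (D : Type u) [CommRing D] [IsDomain D] [Algebra R D]
    (ι : T →ₐ[R] D) (hker : RingHom.ker ι = Ideal.span {algebraMap R T x})
    (hbir : ∀ d : D, ∃ a b : T, ι b ≠ 0 ∧ ι b * d = ι a)
    (S : Type u) [CommRing S] [Algebra R S] [Module.Finite R S] [Algebra.Etale R S]
    (θ : S →ₐ[R] D) (hθ : Function.Surjective θ) : Function.Surjective ι := by
  classical
  obtain ⟨hTloc, hTcomp⟩ := Groth.Agent.Helper2.NagataCompl2.local_complete_of_finite R T
  haveI : IsNoetherianRing T := IsNoetherianRing.of_finite R T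
  haveI : Algebra.IsIntegral R T := Algebra.IsIntegral.of_finite R T
  -- the finite étale `T`-algebra `W = T ⊗ S` with its map to `D`
  let μ : T ⊗[R] S →ₐ[R] D := Algebra.TensorProduct.productMap ι θ
  have hμT : ∀ t : T, μ (algebraMap T (T ⊗[R] S) t) = ι t := by
    intro t
    rw [Algebra.TensorProduct.algebraMap_apply, Algebra.algebraMap_self, RingHom.id_apply]
    simp [μ]
  have hμS : ∀ s : S, μ (1 ⊗ₜ[R] s) = θ s := by
    intro s
    simp [μ]
  have hμne : RingHom.ker μ.toRingHom ≠ ⊤ := RingHom.ker_ne_top _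
  obtain ⟨𝔫₀, h𝔫₀, hle⟩ := Ideal.exists_le_maximal _ hμne
  haveI := h𝔫₀
  -- the local factor
  haveI : Module.Finite R (T ⊗[R] S) := Module.Finite.trans T (T ⊗[R] S)
  haveI hfinTW₀ : Module.Finite T (LocFactor T (T ⊗[R] S) 𝔫₀) :=
    Module.Finite.of_surjective (Ideal.Quotient.mkₐ T _).toLinearMap
      (Ideal.Quotient.mkₐ_surjective T _)
  haveI hfinRW₀ : Module.Finite R (LocFactor T (T ⊗[R] S) 𝔫₀) :=
    Module.Finite.trans T (LocFactor T (T ⊗[R] S) 𝔫₀)
  haveI hetTW₀ : Algebra.Etale T (LocFactor T (T ⊗[R] S) 𝔫₀) :=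
    Algebra.Etale.comp T (T ⊗[R] S) (LocFactor T (T ⊗[R] S) 𝔫₀)
  let μ₀ : LocFactor T (T ⊗[R] S) 𝔫₀ →ₐ[R] D :=
    Ideal.Quotient.liftₐ _ μ (map_eq_zero_of_mem_span T (T ⊗[R] S) μ.toRingHom 𝔫₀ hle)
  have hμ₀ : ∀ w : T ⊗[R] S, μ₀ (Ideal.Quotient.mk _ w) = μ w := fun w => rfl
  have hμ₀T : ∀ t : T, μ₀ (algebraMap T (LocFactor T (T ⊗[R] S) 𝔫₀) t) = ι t := by
    intro t
    rw [← hμT t]
    rfl
  -- `W₀` is a normal local domain
  have hNW₀ : EGA4.IsNormalRing (LocFactor T (T ⊗[R] S) 𝔫₀) :=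
    (Groth.Agent.Helper5.SmNorm.s1182 T (LocFactor T (T ⊗[R] S) 𝔫₀)).1
      (isNormalRing_of_isIntegrallyClosed T)
  haveI : IsDomain (LocFactor T (T ⊗[R] S) 𝔫₀) :=
    isDomain_of_isNormalRing_of_isLocalRing _ hNW₀
  haveI : IsIntegrallyClosed (LocFactor T (T ⊗[R] S) 𝔫₀) :=
    isIntegrallyClosed_of_isNormalRing_of_isLocalRing _ hNW₀
  haveI : Algebra.IsIntegral T (LocFactor T (T ⊗[R] S) 𝔫₀) := Algebra.IsIntegral.of_finite T _
  haveI : Module.Flat T (LocFactor T (T ⊗[R] S) 𝔫₀) := inferInstance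
  haveI hloc : IsLocalHom (algebraMap T (LocFactor T (T ⊗[R] S) 𝔫₀)) := by
    apply ((IsLocalRing.local_hom_TFAE (algebraMap T (LocFactor T (T ⊗[R] S) 𝔫₀))).out 0 4).mpr
    haveI : ((maximalIdeal (LocFactor T (T ⊗[R] S) 𝔫₀)).comap
        (algebraMap T (LocFactor T (T ⊗[R] S) 𝔫₀))).IsMaximal :=
      Ideal.isMaximal_comap_of_isIntegral_of_isMaximal _
    exact IsLocalRing.eq_maximalIdeal this
  haveI : Module.FaithfullyFlat T (LocFactor T (T ⊗[R] S) 𝔫₀) :=
    Module.FaithfullyFlat.of_flat_of_isLocalHom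
  have hinjTW₀ : Function.Injective (algebraMap T (LocFactor T (T ⊗[R] S) 𝔫₀)) :=
    FaithfulSMul.algebraMap_injective T _
  have hinjRW₀ : Function.Injective (algebraMap R (LocFactor T (T ⊗[R] S) 𝔫₀)) := by
    rw [IsScalarTower.algebraMap_eq R T (LocFactor T (T ⊗[R] S) 𝔫₀)]
    exact hinjTW₀.comp hinj
  -- étale over the punctured spectrum
  haveI : Algebra.FinitePresentation R T :=
    Algebra.FinitePresentation.of_finiteType.mp inferInstance
  haveI : Algebra.FinitePresentation R (LocFactor T (T ⊗[R] S) 𝔫₀) :=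
    Algebra.FinitePresentation.of_finiteType.mp inferInstance
  have hEtW₀ : EtAway R (LocFactor T (T ⊗[R] S) 𝔫₀) :=
    (hT.etPunct.comp (T' := LocFactor T (T ⊗[R] S) 𝔫₀)).etAway
  -- the hyperplane section of `W₀` is a domain
  haveI hdomW : IsDomain ((R ⧸ Ideal.span {x}) ⊗[R] LocFactor T (T ⊗[R] S) 𝔫₀) :=
    isDomain_tensor_quotient R _ hdim x hx hx0 hN hinjRW₀ hEtW₀
  have hprime : (Ideal.span {algebraMap R (LocFactor T (T ⊗[R] S) 𝔫₀) x}).IsPrime := by
    have h1 := ker_piQ (Ideal.span {x}) (LocFactor T (T ⊗[R] S) 𝔫₀)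
    rw [Ideal.map_span, Set.image_singleton] at h1
    rw [← h1]
    exact RingHom.ker_isPrime _
  -- the kernel of `μ₀` is generated by `x`
  have hxD : algebraMap R D x = 0 := by
    have h1 : algebraMap R T x ∈ RingHom.ker ι := by
      rw [hker]; exact Ideal.subset_span rfl
    rw [RingHom.mem_ker] at h1
    rw [← h1, AlgHom.commutes]
  have hkerμ₀ : RingHom.ker μ₀ = Ideal.span {algebraMap R (LocFactor T (T ⊗[R] S) 𝔫₀) x} := by
    have hle' : Ideal.span {algebraMap R (LocFactor T (T ⊗[R] S) 𝔫₀) x} ≤ RingHom.ker μ₀ := by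
      rw [Ideal.span_le, Set.singleton_subset_iff]
      change _ ∈ RingHom.ker μ₀
      rw [RingHom.mem_ker, AlgHom.commutes, hxD]
    by_contra hne
    have hlt : Ideal.span {algebraMap R (LocFactor T (T ⊗[R] S) 𝔫₀) x} < RingHom.ker μ₀ :=
      lt_of_le_of_ne hle' (Ne.symm hne)
    have hlt' := Ideal.IsIntegral.comap_lt_comap (R := T) hlt
    have hc2 : (RingHom.ker μ₀).comap (algebraMap T (LocFactor T (T ⊗[R] S) 𝔫₀)) =
        Ideal.span {algebraMap R T x} := by
      rw [← hker]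
      ext t
      rw [Ideal.mem_comap, RingHom.mem_ker, RingHom.mem_ker, hμ₀T]
    have hc1 : Ideal.span {algebraMap R T x} ≤
        (Ideal.span {algebraMap R (LocFactor T (T ⊗[R] S) 𝔫₀) x}).comap
          (algebraMap T (LocFactor T (T ⊗[R] S) 𝔫₀)) := by
      rw [Ideal.span_le, Set.singleton_subset_iff]
      change _ ∈ Ideal.span _
      rw [← IsScalarTower.algebraMap_apply]
      exact Ideal.subset_span rfl
    rw [hc2] at hlt'
    exact absurd (lt_of_le_of_lt hc1 hlt') (lt_irrefl _)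
  -- now the faithfully flat descent
  intro d
  obtain ⟨a, b, hb, hab⟩ := hbir d
  obtain ⟨s, hs⟩ := hθ d
  set w : LocFactor T (T ⊗[R] S) 𝔫₀ := Ideal.Quotient.mk _ (1 ⊗ₜ[R] s) with hw
  have hμw : μ₀ w = d := by rw [hw, hμ₀, hμS, hs]
  have hz : algebraMap T (LocFactor T (T ⊗[R] S) 𝔫₀) b * w -
      algebraMap T (LocFactor T (T ⊗[R] S) 𝔫₀) a ∈ RingHom.ker μ₀ := by
    rw [RingHom.mem_ker, map_sub, map_mul, hμ₀T, hμ₀T, hμw, hab, sub_self]
  rw [hkerμ₀, Ideal.mem_span_singleton'] at hz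
  obtain ⟨c, hc⟩ := hz
  have hmem : algebraMap T (LocFactor T (T ⊗[R] S) 𝔫₀) a ∈
      (Ideal.span {b, algebraMap R T x}).map (algebraMap T (LocFactor T (T ⊗[R] S) 𝔫₀)) := by
    have : algebraMap T (LocFactor T (T ⊗[R] S) 𝔫₀) a =
        w * algebraMap T (LocFactor T (T ⊗[R] S) 𝔫₀) b -
        c * algebraMap T (LocFactor T (T ⊗[R] S) 𝔫₀) (algebraMap R T x) := by
      rw [← IsScalarTower.algebraMap_apply, hc]
      ring
    rw [this]
    apply Ideal.sub_mem
    · exact Ideal.mul_mem_left _ _ (Ideal.mem_map_of_mem _ (Ideal.subset_span (by simp)))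
    · exact Ideal.mul_mem_left _ _ (Ideal.mem_map_of_mem _ (Ideal.subset_span (by simp)))
  have hmem' : a ∈ Ideal.span {b, algebraMap R T x} := by
    rw [← Ideal.comap_map_eq_self_of_faithfullyFlat (B := LocFactor T (T ⊗[R] S) 𝔫₀)
      (Ideal.span {b, algebraMap R T x})]
    exact hmem
  rw [Ideal.mem_span_pair] at hmem'
  obtain ⟨c₁, c₂, hc12⟩ := hmem'
  refine ⟨c₁, ?_⟩
  have hιx : ι (algebraMap R T x) = 0 := by rw [AlgHom.commutes, hxD]
  have h3 : ι b * (d - ι c₁) = 0 := by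
    rw [mul_sub, hab, ← hc12, map_add, map_mul, map_mul, hιx, mul_zero, add_zero, mul_comm,
      sub_self]
  rcases mul_eq_zero.mp h3 with h | h
  · exact absurd h hb
  · exact (sub_eq_zero.mp h).symm

end Key

end Groth.Agent.Helper7.ZNPur
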