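import Mathlib
import Groth.Agent.Helper7.ZNPurA
import Groth.Agent.Helper7.ZNPurC
import Groth.Agent.Helper7.ZNPurE
import Groth.Agent.Helper7.ZNPurH
import Groth.Agent.Helper7.ZNPurI
import Groth.Agent.Helper2.RegFlat2
import Groth.Agent.Helper2.NagataCompl
import Groth.Agent.Helper3.FinPart
import Groth.Agent.Helper3.HensProj
import Groth.Agent.Helper3.Pur2A

set_option autoImplicit false
universe u

/-!
# Zariski–Nagata purity, part J: the induction on the dimension (complete regular base)
-/

namespace Groth.Agent.Helper7.ZNPur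

open IsLocalRing TensorProduct

section Hyper

variable (R : Type u) [CommRing R] [IsDomain R] [IsLocalRing R] (T : Type u) [CommRing T] [IsDomain T]
  [Algebra R T]

/-- flatness from the flatness of a hyperplane section and of its complement -/
theorem flat_of_flat_hyperplane (hinj : Function.Injective (algebraMap R T)) (hT : EtAway R T)
    (x : R) (hx : x ∈ maximalIdeal R) (hx0 : x ≠ 0)
    [Module.Flat (R ⧸ Ideal.span {x}) ((R ⧸ Ideal.span {x}) ⊗[R] T)] : Module.Flat R T := by
  haveI := hT x hx
  have hreg : IsSMulRegular T x := by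
    intro t t' htt
    change x • t = x • t' at htt
    rw [Algebra.smul_def, Algebra.smul_def] at htt
    have hne : algebraMap R T x ≠ 0 := fun h0 => hx0 (hinj (by rw [h0, map_zero]))
    exact mul_left_cancel₀ hne htt
  haveI : IsLocalization (Algebra.algebraMapSubmonoid T (Submonoid.powers x))
      (Localization.Away (algebraMap R T x)) := by
    have : Algebra.algebraMapSubmonoid T (Submonoid.powers x) =
        Submonoid.powers (algebraMap R T x) := by
      rw [Algebra.algebraMapSubmonoid, Submonoid.map_powers]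
    rw [this]
    infer_instance
  haveI : IsLocalizedModule (Submonoid.powers x)
      (IsScalarTower.toAlgHom R T (Localization.Away (algebraMap R T x))).toLinearMap :=
    isLocalizedModule_iff_isLocalization.mpr inferInstance
  haveI : Module.Flat R (Localization.Away (algebraMap R T x)) := inferInstance
  exact Groth.Agent.Helper2.RegFlat2.flat_of_flat_away_mod x
    (mem_nonZeroDivisors_of_ne_zero hx0) hreg
    (IsScalarTower.toAlgHom R T (Localization.Away (algebraMap R T x))).toLinearMap

end Hyper

/-- the purity statement in dimension `d`, in its flatness form -/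
def PurityFlat (d : ℕ) : Prop :=
  ∀ (R : Type u) [CommRing R] [IsRegularLocalRing R] [IsAdicComplete (maximalIdeal R) R],
    ringKrullDim R = d → ∀ (T : Type u) [CommRing T] [IsDomain T] [IsIntegrallyClosed T]
      [Algebra R T] [Module.Finite R T], Function.Injective (algebraMap R T) → EtAway R T →
      Module.Flat R T

theorem purityFlat_two : PurityFlat.{u} 2 := by
  intro R _ _ _ hdim T _ _ _ _ _ hinj _
  haveI : Algebra.IsIntegral R T := Algebra.IsIntegral.of_finite R T
  apply Groth.Agent.Helper3.Pur2.flat_of_normal_dim_two' R T hinj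
  rw [Groth.Agent.Helper7.WqInv.ringKrullDim_eq_of_isIntegral_of_injective'' hinj, hdim]
  rfl

section Step

variable (R : Type u) [CommRing R] [IsRegularLocalRing R] [IsAdicComplete (maximalIdeal R) R]

/-- a quotient of a complete Noetherian local ring is complete -/
theorem isAdicComplete_quotient (I : Ideal R) [IsLocalRing (R ⧸ I)] :
    IsAdicComplete (maximalIdeal (R ⧸ I)) (R ⧸ I) := by
  have h1 := Groth.Agent.Helper3.FinComp1.isAdicComplete_map R (R ⧸ I)
  have h2 : (maximalIdeal R).map (algebraMap R (R ⧸ I)) = maximalIdeal (R ⧸ I) := by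
    have hI : I ≠ ⊤ := by
      intro h
      have : Subsingleton (R ⧸ I) := by
        rw [h]; exact Ideal.Quotient.subsingleton_iff.mpr rfl
      exact not_subsingleton (R ⧸ I) this
    obtain ⟨hl, hm⟩ := Groth.Agent.Lead.RegLocal.quotient_local hI
    exact hm
  rwa [h2] at h1

end Step

theorem purityFlat_succ (d : ℕ) (hd : 2 ≤ d) (IH : PurityFlat.{u} d) : PurityFlat.{u} (d + 1) := by
  intro R _ _ _ hdim T _ _ _ _ _ hinj hT
  classical
  haveI : IsDomain R := Groth.Agent.Lead.RegLocal.isDomain_of_isRegularLocalRing R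
  haveI : IsIntegrallyClosed R :=
    Groth.Agent.Helper4.RegNormal.isIntegrallyClosed_of_isRegularLocalRing R
  haveI : Algebra.IsIntegral R T := Algebra.IsIntegral.of_finite R T
  have hdim3 : (3 : WithBot ℕ∞) ≤ ringKrullDim R := by
    rw [hdim]
    have : (3 : ℕ) ≤ d + 1 := by omega
    exact_mod_cast this
  have hnot0 : ¬ ringKrullDim R ≤ 0 := by
    rw [hdim]
    intro h
    have : ((d + 1 : ℕ) : WithBot ℕ∞) ≤ ((0 : ℕ) : WithBot ℕ∞) := by exact_mod_cast h
    have h2 : (d + 1 : ℕ) ≤ 0 := by exact_mod_cast this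
    omega
  obtain ⟨x, hx, hx2, -⟩ := Groth.Agent.Lead.RegLocal.exists_mem_notMem_sq_minimalPrimes hnot0
  have hx0 : x ≠ 0 := by
    intro h0
    exact hx2 (h0 ▸ Ideal.zero_mem _)
  obtain ⟨hreg₁, hdim₁, -⟩ := Groth.Agent.Lead.RegLocal.quotient_isRegularLocalRing hx hx2
  haveI := hreg₁
  have hdimR₁ : ringKrullDim (R ⧸ Ideal.span {x}) = d := by
    rw [hdim] at hdim₁
    have hsp := IsRegularLocalRing.spanFinrank_maximalIdeal (R := R ⧸ Ideal.span {x})
    rw [← hsp] at hdim₁ ⊢
    have h1 : (maximalIdeal (R ⧸ Ideal.span {x})).spanFinrank + 1 = d + 1 := by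
      exact_mod_cast hdim₁
    have h2 : (maximalIdeal (R ⧸ Ideal.span {x})).spanFinrank = d := by omega
    rw [h2]
  haveI : IsAdicComplete (maximalIdeal (R ⧸ Ideal.span {x})) (R ⧸ Ideal.span {x}) :=
    isAdicComplete_quotient R _
  haveI : IsDomain (R ⧸ Ideal.span {x}) :=
    Groth.Agent.Lead.RegLocal.isDomain_of_isRegularLocalRing _
  haveI : IsIntegrallyClosed (R ⧸ Ideal.span {x}) :=
    Groth.Agent.Helper4.RegNormal.isIntegrallyClosed_of_isRegularLocalRing _
  have hN : EGA4.IsNormalRing (R ⧸ Ideal.span {x}) := isNormalRing_of_isIntegrallyClosed _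
  -- the hyperplane section
  haveI hT₁dom : IsDomain ((R ⧸ Ideal.span {x}) ⊗[R] T) :=
    isDomain_tensor_quotient R T hdim3 x hx hx0 hN hinj hT
  have hinj₁ := algebraMap_quot_tensor_injective R T hinj x hx0
  have hT₁ : EtAway (R ⧸ Ideal.span {x}) ((R ⧸ Ideal.span {x}) ⊗[R] T) :=
    hT.baseChange_quotient _
  suffices hflat : Module.Flat (R ⧸ Ideal.span {x}) ((R ⧸ Ideal.span {x}) ⊗[R] T) from
    flat_of_flat_hyperplane R T hinj hT x hx hx0
  have hdim₁2 : (2 : WithBot ℕ∞) ≤ ringKrullDim (R ⧸ Ideal.span {x}) := by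
    rw [hdimR₁]
    exact_mod_cast hd
  -- `T₁` is a complete local domain
  set R₁ := R ⧸ Ideal.span {x} with hR₁
  set T₁ := R₁ ⊗[R] T with hT₁def
  obtain ⟨hT₁loc, hT₁comp⟩ := Groth.Agent.Helper2.NagataCompl2.local_complete_of_finite R₁ T₁
  haveI : IsNoetherianRing T₁ := IsNoetherianRing.of_finite R₁ T₁
  -- the normalization `D`
  set K := FractionRing T₁ with hK
  haveI hfinT₁D : Module.Finite T₁ (integralClosure T₁ K) :=
    Groth.Agent.Helper2.NagataCompl.isN2_of_complete T₁ K inferInstance
  haveI : Module.Finite R₁ (integralClosure T₁ K) := Module.Finite.trans T₁ _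
  haveI : IsIntegrallyClosed (integralClosure T₁ K) :=
    integralClosure.isIntegrallyClosedOfFiniteExtension K
  have hinjT₁D : Function.Injective (algebraMap T₁ (integralClosure T₁ K)) := by
    intro a b hab
    apply IsFractionRing.injective T₁ K
    have := congrArg (algebraMap (integralClosure T₁ K) K) hab
    rwa [← IsScalarTower.algebraMap_apply, ← IsScalarTower.algebraMap_apply] at this
  have hinjD : Function.Injective (algebraMap R₁ (integralClosure T₁ K)) := by
    rw [IsScalarTower.algebraMap_eq R₁ T₁ (integralClosure T₁ K)]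
    exact hinjT₁D.comp hinj₁
  have hD : EtAway R₁ (integralClosure T₁ K) := etAway_integralClosure K hN hT₁
  haveI hflatD : Module.Flat R₁ (integralClosure T₁ K) :=
    IH R₁ hdimR₁ (integralClosure T₁ K) hinjD hD
  haveI hetD : Algebra.Etale R₁ (integralClosure T₁ K) :=
    etale_of_flat_of_etPunct R₁ (integralClosure T₁ K) hdim₁2 hD.etPunct
  -- lift `D` to a finite étale `R`-algebra `S`
  haveI : HenselianRing R (maximalIdeal R) := inferInstance
  haveI : HenselianRing R (Ideal.span {x}) :=
    Groth.Agent.Helper3.HensProj.hens_of_le (maximalIdeal R) (Ideal.span {x})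
      ((Ideal.span_singleton_le_iff_mem _).mpr hx)
  obtain ⟨S, _, _, hSfin, hSet, ⟨e⟩⟩ :=
    Groth.Agent.Helper3.FinPart.exists_finite_etale_lift R (Ideal.span {x}) (integralClosure T₁ K)
  haveI := hSfin
  haveI := hSet
  haveI : IsScalarTower R R₁ (integralClosure T₁ K) := by
    apply IsScalarTower.of_algebraMap_eq
    intro r
    apply Subtype.ext
    rfl
  let θ : S →ₐ[R] integralClosure T₁ K :=
    ((e.restrictScalars R).toAlgHom).comp (piQ (Ideal.span {x}) S)
  have hθ : Function.Surjective θ := by
    intro dd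
    obtain ⟨z, hz⟩ := e.surjective dd
    obtain ⟨s, hs⟩ := piQ_surjective (Ideal.span {x}) S z
    exact ⟨s, by rw [← hz, ← hs]; rfl⟩
  let ι : T →ₐ[R] integralClosure T₁ K :=
    (IsScalarTower.toAlgHom R T₁ (integralClosure T₁ K)).comp (piQ (Ideal.span {x}) T)
  have hι : ∀ t : T, ι t = algebraMap T₁ (integralClosure T₁ K) (piQ (Ideal.span {x}) T t) :=
    fun t => rfl
  have hker : RingHom.ker ι = Ideal.span {algebraMap R T x} := by
    have h1 := ker_piQ (Ideal.span {x}) T
    rw [Ideal.map_span, Set.image_singleton] at h1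
    rw [← h1]
    ext t
    rw [RingHom.mem_ker, RingHom.mem_ker, hι, map_eq_zero_iff _ hinjT₁D]
  have hbir : ∀ dd : integralClosure T₁ K, ∃ a b : T, ι b ≠ 0 ∧ ι b * dd = ι a := by
    intro dd
    obtain ⟨a₁, b₁, hb₁, hab⟩ := IsFractionRing.div_surjective (A := T₁) (dd : K)
    obtain ⟨a, ha⟩ := piQ_surjective (Ideal.span {x}) T a₁
    obtain ⟨b, hb⟩ := piQ_surjective (Ideal.span {x}) T b₁
    refine ⟨a, b, ?_, ?_⟩
    · rw [hι, hb]
      intro h0
      have : b₁ = 0 := hinjT₁D (by rw [h0, map_zero])
      exact nonZeroDivisors.ne_zero hb₁ this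
    · rw [hι, hι, ha, hb]
      apply Subtype.ext
      have hb₁K : algebraMap T₁ K b₁ ≠ 0 := by
        intro h0
        exact nonZeroDivisors.ne_zero hb₁ (IsFractionRing.injective T₁ K (by rw [h0, map_zero]))
      change algebraMap T₁ K b₁ * (dd : K) = algebraMap T₁ K a₁
      rw [← hab, mul_div_cancel₀ _ hb₁K]
  have hsurj := algHom_surjective_of_lift R hdim3 x hx hx0 hN T hinj hT (integralClosure T₁ K) ι
    hker hbir S θ hθ
  have hbij : Function.Bijective (algebraMap T₁ (integralClosure T₁ K)) := by
    refine ⟨hinjT₁D, ?_⟩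
    intro dd
    obtain ⟨t, ht⟩ := hsurj dd
    exact ⟨piQ (Ideal.span {x}) T t, by rw [← ht, hι]⟩
  let eq : T₁ ≃ₗ[R₁] integralClosure T₁ K :=
    LinearEquiv.ofBijective (IsScalarTower.toAlgHom R₁ T₁ (integralClosure T₁ K)).toLinearMap hbij
  exact Module.Flat.of_linearEquiv eq

theorem purityFlat (d : ℕ) (hd : 2 ≤ d) : PurityFlat.{u} d := by
  induction d, hd using Nat.le_induction with
  | base => exact purityFlat_two
  | succ d hd ih => exact purityFlat_succ d hd ih

/-- **Zariski–Nagata purity, complete case.**  A normal domain, finite and injective over a complete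
regular local ring of dimension `≥ 2` and étale over its punctured spectrum, is flat. -/
theorem flat_of_complete (R : Type u) [CommRing R] [IsRegularLocalRing R]
    [IsAdicComplete (maximalIdeal R) R] (hdim : (2 : WithBot ℕ∞) ≤ ringKrullDim R)
    (T : Type u) [CommRing T] [IsDomain T] [IsIntegrallyClosed T] [Algebra R T] [Module.Finite R T]
    (hinj : Function.Injective (algebraMap R T)) (hT : EtAway R T) : Module.Flat R T := by
  have hsp := IsRegularLocalRing.spanFinrank_maximalIdeal (R := R)
  rw [← hsp] at hdim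
  have hd : 2 ≤ (maximalIdeal R).spanFinrank := by exact_mod_cast hdim
  exact purityFlat _ hd R hsp.symm T hinj hT

end Groth.Agent.Helper7.ZNPur
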