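import Mathlib
import Groth.Agent.Helper7.ZNPurD
import Groth.Agent.Helper7.ZNPurE
import Groth.Agent.Helper7.ZNPurH
import Groth.Agent.Helper2.Hart
import Groth.Agent.S0335

set_option autoImplicit false
universe u

/-!
# Zariski–Nagata purity, part K: a Noetherian local ring of depth `≥ 2` which is normal on its
punctured spectrum is a normal domain
-/

namespace Groth.Agent.Helper7.ZNPur

open IsLocalRing

/-- a normal ring is reduced -/
theorem isReduced_of_isNormalRing (R : Type u) [CommRing R] (hN : EGA4.IsNormalRing R) :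
    IsReduced R := by
  apply isReduced_ofLocalizationMaximal
  intro J hJ
  haveI := (hN J).1
  infer_instance

section LemmaN

variable (C : Type u) [CommRing C] [IsNoetherianRing C] [IsLocalRing C]

theorem isDomain_of_depth_two (hdepth : (2 : ℕ∞) ≤ LocCoh.depth C C)
    (hpn : ∀ f ∈ maximalIdeal C, EGA4.IsNormalRing (Localization.Away f)) : IsDomain C := by
  classical
  have hd0 : LocCoh.depth C C ≠ 0 := by
    intro h
    rw [h] at hdepth
    exact absurd hdepth (by decide)
  have h1 := (Groth.Agent.Helper2.Depth.depth_eq_zero_iff C C).not.mp hd0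
  push Not at h1
  obtain ⟨x, hxm, hxreg⟩ := h1
  -- reduced
  haveI : IsReduced C := by
    constructor
    intro c hc
    haveI : IsReduced (Localization.Away x) := isReduced_of_isNormalRing _ (hpn x hxm)
    have hnil : IsNilpotent (algebraMap C (Localization.Away x) c) := hc.map _
    have hz : algebraMap C (Localization.Away x) c = 0 := hnil.eq_zero
    rw [IsLocalization.map_eq_zero_iff (Submonoid.powers x)] at hz
    obtain ⟨⟨_, m, rfl⟩, hm⟩ := hz
    have hreg : IsSMulRegular C (x ^ m) := hxreg.pow m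
    apply hreg
    change x ^ m • c = x ^ m • 0
    rw [smul_zero, smul_eq_mul]
    exact hm
  have hS := Groth.Agent.S0335.result C hdepth
  have hconn : IsPreconnected {q : PrimeSpectrum C | q.asIdeal ≠ maximalIdeal C} :=
    hS.isPreconnected
  have hnm : maximalIdeal C ∉ minimalPrimes C := by
    intro hmin
    obtain ⟨q, hq⟩ := hS.nonempty
    have hle : q.asIdeal ≤ maximalIdeal C := IsLocalRing.le_maximalIdeal q.2.ne_top
    exact hq (le_antisymm hle (hmin.2 ⟨q.2, bot_le⟩ hle))
  have hloc : ∀ (q : Ideal C) [q.IsPrime], q ≠ maximalIdeal C → ∀ p₁ ∈ minimalPrimes C,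
      ∀ p₂ ∈ minimalPrimes C, p₁ ≤ q → p₂ ≤ q → p₁ = p₂ := by
    intro q _ hq p₁ hp₁ p₂ hp₂ h₁ h₂
    have hle : q ≤ maximalIdeal C := IsLocalRing.le_maximalIdeal (Ideal.IsPrime.ne_top')
    obtain ⟨f, hfm, hfq⟩ : ∃ f ∈ maximalIdeal C, f ∉ q := by
      by_contra hcon
      push Not at hcon
      exact hq (le_antisymm hle hcon)
    exact minimalPrimes_eq_of_le_of_isNormalRing f (hpn f hfm) q hfq p₁ hp₁ p₂ hp₂ h₁ h₂
  exact isDomain_of_punctured_connected C hconn hloc hnm

theorem isIntegrallyClosed_of_depth_two [IsDomain C] (hdepth : (2 : ℕ∞) ≤ LocCoh.depth C C)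
    (hpn : ∀ f ∈ maximalIdeal C, EGA4.IsNormalRing (Localization.Away f)) :
    IsIntegrallyClosed C := by
  classical
  set K := FractionRing C
  rw [isIntegrallyClosed_iff K]
  intro z hz
  -- the ideal of denominators of `z`
  let Dz : Ideal C :=
    { carrier := {c | ∃ c' : C, algebraMap C K c * z = algebraMap C K c'}
      add_mem' := by
        rintro a b ⟨a', ha⟩ ⟨b', hb⟩
        exact ⟨a' + b', by rw [map_add, add_mul, ha, hb, map_add]⟩
      zero_mem' := ⟨0, by rw [map_zero, zero_mul]⟩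
      smul_mem' := by
        rintro r a ⟨a', ha⟩
        exact ⟨r * a', by rw [smul_eq_mul, map_mul, mul_assoc, ha, map_mul]⟩ }
  have hDz : ∀ c : C, c ∈ Dz ↔ ∃ c' : C, algebraMap C K c * z = algebraMap C K c' := fun c => Iff.rfl
  suffices h1 : (1 : C) ∈ Dz by
    obtain ⟨c', hc'⟩ := (hDz 1).mp h1
    exact ⟨c', by rw [← hc', map_one, one_mul]⟩
  by_contra h1
  have hne : Dz ≠ ⊤ := fun h => h1 (h ▸ Submodule.mem_top)
  have hKm : Dz ≤ maximalIdeal C := IsLocalRing.le_maximalIdeal hne
  have hK : ∀ P : Ideal C, P.IsPrime → Dz ≤ P → P = maximalIdeal C := by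
    intro P hP hle
    by_contra hPne
    have hPle : P ≤ maximalIdeal C := IsLocalRing.le_maximalIdeal hP.ne_top
    obtain ⟨f, hfm, hfP⟩ : ∃ f ∈ maximalIdeal C, f ∉ P := by
      by_contra hcon
      push Not at hcon
      exact hPne (le_antisymm hPle hcon)
    obtain ⟨k, t, hkt⟩ := exists_pow_mul_eq_algebraMap K f (hpn f hfm) ⟨z, hz⟩
    have hmem : f ^ k ∈ Dz := by
      refine ⟨t, ?_⟩
      have := congrArg (algebraMap (integralClosure C K) K) hkt
      rw [map_mul, map_pow, ← IsScalarTower.algebraMap_apply, ← IsScalarTower.algebraMap_apply]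
        at this
      rw [map_pow]
      exact this
    exact hfP (hP.mem_of_pow_mem k (hle hmem))
  obtain ⟨x, hxD, y, hyD, hxreg, hy⟩ :=
    Groth.Agent.Helper2.Hart.exists_regular_pair hdepth Dz hKm hK
  obtain ⟨c₁, hc₁⟩ := (hDz x).mp hxD
  obtain ⟨c₂, hc₂⟩ := (hDz y).mp hyD
  have hinj := IsFractionRing.injective C K
  have h2 : y * c₁ = x * c₂ := by
    apply hinj
    rw [map_mul, map_mul, ← hc₁, ← hc₂]
    ring
  have h3 : c₁ ∈ Ideal.span {x} := by
    apply hy
    rw [h2]
    exact Ideal.mul_mem_right _ _ (Ideal.subset_span rfl)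
  rw [Ideal.mem_span_singleton'] at h3
  obtain ⟨c, hc⟩ := h3
  have hx0 : x ≠ 0 := by
    rintro rfl
    have := hxreg (show (0 : C) • (1 : C) = (0 : C) • (0 : C) by simp)
    exact one_ne_zero this
  have hxK : algebraMap C K x ≠ 0 := fun h0 => hx0 (hinj (by rw [h0, map_zero]))
  apply h1
  refine ⟨c, ?_⟩
  rw [map_one, one_mul]
  apply mul_left_cancel₀ hxK
  rw [hc₁, ← hc, map_mul, mul_comm]

end LemmaN

end Groth.Agent.Helper7.ZNPur
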