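import Mathlib
import Groth.Agent.Helper5.NormDepth1
import Groth.Agent.Helper2.Depth

set_option autoImplicit false
universe u

/-!
# Zariski–Nagata purity, part L: normal local domains of dimension `≥ 2` have depth `≥ 2`; maximal
ideals of a finite normal extension of a normal local domain have full height
-/

namespace Groth.Agent.Helper7.ZNPur

open IsLocalRing

/-- a normal Noetherian local domain of dimension `≥ 2` has depth `≥ 2` -/
theorem two_le_depth_of_normal (A : Type u) [CommRing A] [IsDomain A] [IsNoetherianRing A]
    [IsLocalRing A] [IsIntegrallyClosed A] (hdim : (2 : WithBot ℕ∞) ≤ ringKrullDim A) :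
    (2 : ℕ∞) ≤ LocCoh.depth A A := by
  have h0 : LocCoh.depth A A ≠ 0 := by
    intro h
    rw [Groth.Agent.Helper2.Depth.depth_eq_zero_iff] at h
    have hbot : maximalIdeal A = ⊥ := by
      rw [eq_bot_iff]
      intro x hx
      by_contra hx0
      have hx0' : x ≠ 0 := hx0
      apply h x hx
      intro a b hab
      exact mul_left_cancel₀ hx0' hab
    have hf : IsField A := IsLocalRing.isField_iff_maximalIdeal_eq.mpr hbot
    have := ringKrullDim_eq_zero_of_isField hf
    rw [this] at hdim
    exact absurd hdim (by decide)
  have h1 : LocCoh.depth A A ≠ 1 := by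
    intro h
    haveI := Groth.Agent.Helper5.NormDepth.isDiscreteValuationRing_of_depth_one A h
    have := IsDiscreteValuationRing.ringKrullDim_eq_one A
    rw [this] at hdim
    exact absurd hdim (by decide)
  generalize LocCoh.depth A A = n at h0 h1
  match n with
  | ⊤ => exact le_top
  | (k : ℕ) =>
    have h0' : k ≠ 0 := by exact_mod_cast h0
    have h1' : k ≠ 1 := by exact_mod_cast h1
    have : 2 ≤ k := by omega
    exact_mod_cast this

section Height

variable (A : Type u) [CommRing A] [IsDomain A] [IsIntegrallyClosed A] [IsLocalRing A]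
  (B : Type u) [CommRing B] [IsDomain B] [Algebra A B] [Module.Finite A B]

/-- the local rings of a finite extension domain of a normal local domain at its maximal ideals
have the same dimension as the base -/
theorem le_ringKrullDim_localization_of_isMaximal [IsNoetherianRing A]
    (hinj : Function.Injective (algebraMap A B)) (𝔫 : Ideal B) [h𝔫 : 𝔫.IsMaximal] :
    ringKrullDim A ≤ ringKrullDim (Localization.AtPrime 𝔫) := by
  haveI : FaithfulSMul A B := (faithfulSMul_iff_algebraMap_injective A B).2 hinj
  haveI : Algebra.IsIntegral A B := Algebra.IsIntegral.of_finite A B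
  haveI : IsNoetherianRing B := IsNoetherianRing.of_finite A B
  haveI hGD : Algebra.HasGoingDown A B := inferInstance
  have hqm : 𝔫.comap (algebraMap A B) = maximalIdeal A :=
    IsLocalRing.eq_maximalIdeal (Ideal.isMaximal_comap_of_isIntegral_of_isMaximal 𝔫)
  haveI : 𝔫.LiesOver (maximalIdeal A) := ⟨hqm.symm⟩
  have hh := Ideal.height_eq_height_add_of_liesOver_of_hasGoingDown (maximalIdeal A) 𝔫
  rw [IsLocalization.AtPrime.ringKrullDim_eq_height 𝔫 (Localization.AtPrime 𝔫), ← maximalIdeal_height_eq_ringKrullDim, hh]
  exact_mod_cast le_self_add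

end Height

end Groth.Agent.Helper7.ZNPur
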