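import Mathlib
import Groth.Agent.Helper7.ZNPurA
import Groth.Agent.Helper7.ZNPurG
import Groth.Agent.Helper1.FlatDepth

set_option autoImplicit false
universe u

/-!
# Zariski–Nagata purity, part M: base change along a flat local map `A → A'` with `𝔪_A A' = 𝔪_{A'}`
and trivial residue field extension (e.g. the completion)
-/

namespace Groth.Agent.Helper7.ZNPur

open IsLocalRing TensorProduct

section BC

variable (A : Type u) [CommRing A] [IsLocalRing A]
  (A' : Type u) [CommRing A'] [IsLocalRing A'] [Algebra A A']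
  (B : Type u) [CommRing B] [Algebra A B]

theorem algebraMap_algebraMap_tensor (f : A) :
    algebraMap A' (A' ⊗[A] B) (algebraMap A A' f) = (1 : A') ⊗ₜ[A] (algebraMap A B f) := by
  rw [Algebra.TensorProduct.algebraMap_apply, Algebra.algebraMap_self, RingHom.id_apply,
    Algebra.algebraMap_eq_smul_one, Algebra.algebraMap_eq_smul_one, TensorProduct.smul_tmul]

/-- étaleness over the punctured spectrum passes to the base change -/
theorem EtAway.etPunct_baseChange [IsNoetherianRing A'] [Module.Finite A B]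
    (hm : (maximalIdeal A).map (algebraMap A A') = maximalIdeal A') (h : EtAway A B) :
    EtPunct A' (A' ⊗[A] B) := by
  intro q' _ hq'
  haveI : Algebra.FinitePresentation A' (A' ⊗[A] B) :=
    Algebra.FinitePresentation.of_finiteType.mp inferInstance
  obtain ⟨f, hf, hfq⟩ : ∃ f ∈ maximalIdeal A,
      algebraMap A' (A' ⊗[A] B) (algebraMap A A' f) ∉ q' := by
    by_contra hcon
    push Not at hcon
    apply hq'
    have hle : maximalIdeal A' ≤ q'.comap (algebraMap A' (A' ⊗[A] B)) := by
      rw [← hm, Ideal.map_le_iff_le_comap]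
      intro f hf
      exact hcon f hf
    exact ((maximalIdeal.isMaximal A').eq_of_le (Ideal.comap_ne_top _ Ideal.IsPrime.ne_top')
      hle).symm
  haveI := h f hf
  have het : Algebra.Etale A' (Localization.Away ((1 : A') ⊗ₜ[A] (algebraMap A B f))) :=
    Algebra.Etale.of_equiv
      (IsLocalization.Away.tensorProductEquivTMulRight A A' (algebraMap A B f)
        (Localization.Away (algebraMap A B f)))
  rw [← algebraMap_algebraMap_tensor] at het
  have hsub := Algebra.basicOpen_subset_etaleLocus_iff_etale.mpr het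
  exact hsub (show (⟨q', inferInstance⟩ : PrimeSpectrum (A' ⊗[A] B)) ∈
    (PrimeSpectrum.basicOpen (algebraMap A' (A' ⊗[A] B) (algebraMap A A' f)) :
      Set (PrimeSpectrum (A' ⊗[A] B))) from hfq)

/-- modulo `𝔪_{A'}`, every element of `A' ⊗ B` comes from `B` -/
theorem exists_sub_mem_map (hres : ∀ a' : A', ∃ a : A, a' - algebraMap A A' a ∈ maximalIdeal A')
    (c : A' ⊗[A] B) :
    ∃ b : B, c - (1 : A') ⊗ₜ[A] b ∈ (maximalIdeal A').map (algebraMap A' (A' ⊗[A] B)) := by
  induction c using TensorProduct.induction_on with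
  | zero => exact ⟨0, by rw [TensorProduct.tmul_zero, sub_zero]; exact Ideal.zero_mem _⟩
  | tmul a' b₀ =>
    obtain ⟨a, ha⟩ := hres a'
    refine ⟨a • b₀, ?_⟩
    have : a' ⊗ₜ[A] b₀ - (1 : A') ⊗ₜ[A] (a • b₀) =
        algebraMap A' (A' ⊗[A] B) (a' - algebraMap A A' a) * ((1 : A') ⊗ₜ[A] b₀) := by
      rw [Algebra.TensorProduct.algebraMap_apply, Algebra.algebraMap_self, RingHom.id_apply,
        Algebra.TensorProduct.tmul_mul_tmul, mul_one, one_mul, TensorProduct.sub_tmul,
        ← TensorProduct.smul_tmul, Algebra.algebraMap_eq_smul_one]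
    rw [this]
    exact Ideal.mul_mem_right _ _ (Ideal.mem_map_of_mem _ ha)
  | add x y hx hy =>
    obtain ⟨b₁, h₁⟩ := hx
    obtain ⟨b₂, h₂⟩ := hy
    refine ⟨b₁ + b₂, ?_⟩
    have : x + y - (1 : A') ⊗ₜ[A] (b₁ + b₂) = (x - (1 : A') ⊗ₜ[A] b₁) + (y - (1 : A') ⊗ₜ[A] b₂) := by
      rw [TensorProduct.tmul_add]; ring
    rw [this]
    exact Ideal.add_mem _ h₁ h₂

end BC

section DepthBC

variable (A : Type u) [CommRing A] [IsLocalRing A] [IsNoetherianRing A]
  (A' : Type u) [CommRing A'] [IsLocalRing A'] [IsNoetherianRing A'] [Algebra A A']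
  [Module.Flat A A'] [IsAdicComplete (maximalIdeal A') A']
  (B : Type u) [CommRing B] [Algebra A B] [Module.Finite A B]
  (𝔫' : Ideal (A' ⊗[A] B)) [𝔫'.IsMaximal]

/-- the map `B → Q` to the local factor of `A' ⊗ B` at `𝔫'` -/
noncomputable def toLocFactor : B →+* LocFactor A' (A' ⊗[A] B) 𝔫' :=
  (Ideal.Quotient.mk _).comp
    (Algebra.TensorProduct.includeRight (R := A) (A := A') (B := B)).toRingHom

theorem toLocFactor_apply (b : B) :
    toLocFactor A A' B 𝔫' b = Ideal.Quotient.mk _ ((1 : A') ⊗ₜ[A] b) := rfl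

/-- the contraction of `𝔫'` to `B` -/
noncomputable def contr : Ideal B :=
  𝔫'.comap (Algebra.TensorProduct.includeRight (R := A) (A := A') (B := B)).toRingHom

theorem mem_contr (b : B) : b ∈ contr A A' B 𝔫' ↔ (1 : A') ⊗ₜ[A] b ∈ 𝔫' := Iff.rfl

theorem comap_maximalIdeal_toLocFactor :
    (maximalIdeal (LocFactor A' (A' ⊗[A] B) 𝔫')).comap (toLocFactor A A' B 𝔫') =
      contr A A' B 𝔫' := by
  rw [toLocFactor, ← Ideal.comap_comap, comap_maximalIdeal_locFactor]
  rfl

theorem contr_isMaximal
    (hm : (maximalIdeal A).map (algebraMap A A') = maximalIdeal A') :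
    (contr A A' B 𝔫').IsMaximal := by
  haveI : Algebra.IsIntegral A B := Algebra.IsIntegral.of_finite A B
  haveI : Algebra.IsIntegral A' (A' ⊗[A] B) := Algebra.IsIntegral.of_finite A' _
  haveI : (contr A A' B 𝔫').IsPrime := Ideal.comap_isPrime _ _
  have h1 : (𝔫'.comap (algebraMap A' (A' ⊗[A] B))) = maximalIdeal A' :=
    IsLocalRing.eq_maximalIdeal (Ideal.isMaximal_comap_of_isIntegral_of_isMaximal 𝔫')
  have h2 : (contr A A' B 𝔫').comap (algebraMap A B) = maximalIdeal A := by
    have hle : maximalIdeal A ≤ (contr A A' B 𝔫').comap (algebraMap A B) := by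
      intro a ha
      rw [Ideal.mem_comap, mem_contr, ← algebraMap_algebraMap_tensor]
      have : algebraMap A A' a ∈ maximalIdeal A' := by
        rw [← hm]; exact Ideal.mem_map_of_mem _ ha
      rw [← h1] at this
      exact this
    exact ((maximalIdeal.isMaximal A).eq_of_le (Ideal.comap_ne_top _ Ideal.IsPrime.ne_top')
      hle).symm
  apply Ideal.isMaximal_of_isIntegral_of_isMaximal_comap (R := A)
  rw [h2]
  exact maximalIdeal.isMaximal A

/-- elements of `𝔪_A` act regularly on the local factor as soon as they do on `B` -/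
theorem isSMulRegular_locFactor (f : A) (hf : IsSMulRegular B f) :
    IsSMulRegular (LocFactor A' (A' ⊗[A] B) 𝔫')
      (algebraMap (A' ⊗[A] B) (LocFactor A' (A' ⊗[A] B) 𝔫')
        (algebraMap A' (A' ⊗[A] B) (algebraMap A A' f))) := by
  have h1 : IsSMulRegular (A' ⊗[A] B) (algebraMap A' (A' ⊗[A] B) (algebraMap A A' f)) := by
    have hinj : Function.Injective (LinearMap.lTensor A' (LinearMap.lsmul A B f)) :=
      Module.Flat.lTensor_preserves_injective_linearMap _ hf
    intro c₁ c₂ hc
    apply hinj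
    have key : ∀ c : A' ⊗[A] B, LinearMap.lTensor A' (LinearMap.lsmul A B f) c =
        algebraMap A' (A' ⊗[A] B) (algebraMap A A' f) • c := by
      intro c
      induction c using TensorProduct.induction_on with
      | zero => simp
      | tmul a' b =>
        rw [LinearMap.lTensor_tmul, algebraMap_algebraMap_tensor, smul_eq_mul,
          Algebra.TensorProduct.tmul_mul_tmul, one_mul, LinearMap.lsmul_apply, Algebra.smul_def]
      | add x y hx hy => rw [map_add, hx, hy, smul_add]
    rw [key, key]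
    exact hc
  exact IsSMulRegular.of_flat h1

/-- the depth of the local factor at `𝔫'` is the depth of `B` at the contraction of `𝔫'` -/
theorem depth_locFactor_eq
    (hm : (maximalIdeal A).map (algebraMap A A') = maximalIdeal A')
    (hres : ∀ a' : A', ∃ a : A, a' - algebraMap A A' a ∈ maximalIdeal A') :
    haveI := contr_isMaximal A A' B 𝔫' hm
    haveI : IsNoetherianRing B := IsNoetherianRing.of_finite A B
    haveI : IsNoetherianRing (A' ⊗[A] B) := IsNoetherianRing.of_finite A' _
    haveI : IsNoetherianRing (LocFactor A' (A' ⊗[A] B) 𝔫') :=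
      isNoetherianRing_of_surjective _ _ (Ideal.Quotient.mk _) Ideal.Quotient.mk_surjective
    LocCoh.depth (LocFactor A' (A' ⊗[A] B) 𝔫') (LocFactor A' (A' ⊗[A] B) 𝔫') =
      LocCoh.depth (Localization.AtPrime (contr A A' B 𝔫'))
        (Localization.AtPrime (contr A A' B 𝔫')) := by
  haveI h𝔫 := contr_isMaximal A A' B 𝔫' hm
  haveI : IsNoetherianRing B := IsNoetherianRing.of_finite A B
  haveI : IsNoetherianRing (A' ⊗[A] B) := IsNoetherianRing.of_finite A' _
  haveI : IsNoetherianRing (LocFactor A' (A' ⊗[A] B) 𝔫') :=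
    isNoetherianRing_of_surjective _ _ (Ideal.Quotient.mk _) Ideal.Quotient.mk_surjective
  set Q := LocFactor A' (A' ⊗[A] B) 𝔫' with hQ
  set 𝔫 := contr A A' B 𝔫' with h𝔫def
  set ψ := toLocFactor A A' B 𝔫' with hψ
  -- algebra structures
  letI algBC : Algebra B (A' ⊗[A] B) := Algebra.TensorProduct.rightAlgebra
  letI algBQ : Algebra B Q := ψ.toAlgebra
  haveI : IsScalarTower B (A' ⊗[A] B) Q := IsScalarTower.of_algebraMap_eq (fun b => rfl)
  haveI hflatBC : Module.Flat B (A' ⊗[A] B) :=
    Module.Flat.of_linearEquiv (Algebra.TensorProduct.commRight A B A').symm.toLinearEquiv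
  haveI hflatBQ : Module.Flat B Q := Module.Flat.trans B (A' ⊗[A] B) Q
  have hunits : ∀ y : 𝔫.primeCompl, IsUnit (algebraMap B Q y) := by
    rintro ⟨y, hy⟩
    by_contra hu
    have h1 : ψ y ∈ maximalIdeal Q := hu
    have h2 : y ∈ (maximalIdeal Q).comap ψ := h1
    rw [comap_maximalIdeal_toLocFactor] at h2
    exact hy h2
  letI algLQ : Algebra (Localization.AtPrime 𝔫) Q := (IsLocalization.lift hunits).toAlgebra
  haveI : IsScalarTower B (Localization.AtPrime 𝔫) Q := IsScalarTower.of_algebraMap_eq (fun b => by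
    rw [RingHom.algebraMap_toAlgebra (IsLocalization.lift hunits), IsLocalization.lift_eq])
  haveI : Module.Flat (Localization.AtPrime 𝔫) Q :=
    (Module.flat_iff_of_isLocalization (Localization.AtPrime 𝔫) 𝔫.primeCompl Q).mpr hflatBQ
  have hmapLoc : (maximalIdeal (Localization.AtPrime 𝔫)).map
      (algebraMap (Localization.AtPrime 𝔫) Q) = 𝔫.map ψ := by
    have hcomp : (algebraMap (Localization.AtPrime 𝔫) Q).comp
        (algebraMap B (Localization.AtPrime 𝔫)) = ψ := by
      rw [RingHom.algebraMap_toAlgebra (IsLocalization.lift hunits), IsLocalization.lift_comp,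
        RingHom.algebraMap_toAlgebra ψ]
    rw [← Localization.AtPrime.map_eq_maximalIdeal, Ideal.map_map, hcomp]
  have hle1 : 𝔫.map ψ ≤ maximalIdeal Q := by
    rw [Ideal.map_le_iff_le_comap, comap_maximalIdeal_toLocFactor]
  have hle2 : maximalIdeal Q ≤ 𝔫.map ψ := by
    intro q hq
    obtain ⟨c, rfl⟩ := Ideal.Quotient.mk_surjective q
    have hc : c ∈ 𝔫' := by
      rw [← comap_maximalIdeal_locFactor A' (A' ⊗[A] B) 𝔫']
      exact hq
    obtain ⟨b, hb⟩ := exists_sub_mem_map A A' B hres c
    have hmle : (maximalIdeal A').map (algebraMap A' (A' ⊗[A] B)) ≤ 𝔫' :=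
      Groth.Agent.Helper3.FinComp1.map_le_of_isMaximal A' (A' ⊗[A] B) 𝔫'
    have hb𝔫 : b ∈ 𝔫 := by
      rw [h𝔫def, mem_contr]
      have := Ideal.sub_mem _ hc (hmle hb)
      rwa [sub_sub_cancel] at this
    have hsplit : (Ideal.Quotient.mk _ c : Q) = ψ b +
        Ideal.Quotient.mk _ (c - (1 : A') ⊗ₜ[A] b) := by
      rw [hψ, toLocFactor_apply, ← map_add, add_sub_cancel]
    rw [hsplit]
    apply Ideal.add_mem
    · exact Ideal.mem_map_of_mem _ hb𝔫
    · -- the image of `𝔪_{A'} C`
      have hgen : (maximalIdeal A').map (algebraMap A' (A' ⊗[A] B)) ≤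
          (𝔫.map ψ).comap (Ideal.Quotient.mk _) := by
        rw [← hm, Ideal.map_map, Ideal.map_le_iff_le_comap]
        intro a ha
        rw [Ideal.mem_comap, Ideal.mem_comap, RingHom.comp_apply, algebraMap_algebraMap_tensor]
        change ψ (algebraMap A B a) ∈ _
        apply Ideal.mem_map_of_mem
        rw [h𝔫def, mem_contr, ← algebraMap_algebraMap_tensor]
        apply hmle
        apply Ideal.mem_map_of_mem
        rw [← hm]
        exact Ideal.mem_map_of_mem _ ha
      exact hgen hb
  have hmapeq : (maximalIdeal (Localization.AtPrime 𝔫)).map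
      (algebraMap (Localization.AtPrime 𝔫) Q) = maximalIdeal Q := by
    rw [hmapLoc]
    exact le_antisymm hle1 hle2
  haveI : IsLocalHom (algebraMap (Localization.AtPrime 𝔫) Q) := by
    apply ((IsLocalRing.local_hom_TFAE (algebraMap (Localization.AtPrime 𝔫) Q)).out 0 2).mpr
    rw [hmapeq]
  exact Groth.Agent.Helper1.FlatDepth.depth_eq hmapeq

end DepthBC

end Groth.Agent.Helper7.ZNPur
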