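import Mathlib
import Groth.Agent.Helper7.ZNPurA
import Groth.Agent.Helper7.ZNPurC
import Groth.Agent.Helper7.ZNPurG
import Groth.Agent.Helper7.ZNPurJ
import Groth.Agent.Helper7.ZNPurK
import Groth.Agent.Helper7.ZNPurL
import Groth.Agent.Helper7.ZNPurM

set_option autoImplicit false
universe u

/-!
# Zariski–Nagata purity, part N: reduction to the complete case
-/

namespace Groth.Agent.Helper7.ZNPur

open IsLocalRing TensorProduct

section LocalFactor

variable (A' : Type u) [CommRing A'] [IsRegularLocalRing A'] [IsAdicComplete (maximalIdeal A') A']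
  (Q : Type u) [CommRing Q] [IsLocalRing Q] [Algebra A' Q] [Module.Finite A' Q]

/-- localizations of `Q` away from non-units are étale over `A'` -/
theorem etale_away_of_etPunct (h : EtPunct A' Q) (f : Q) (hf : f ∈ maximalIdeal Q) :
    Algebra.Etale A' (Localization.Away f) := by
  haveI : Algebra.FinitePresentation A' Q :=
    Algebra.FinitePresentation.of_finiteType.mp inferInstance
  haveI : Algebra.IsIntegral A' Q := Algebra.IsIntegral.of_finite A' Q
  rw [← Algebra.basicOpen_subset_etaleLocus_iff_etale]
  intro q hq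
  rw [Algebra.mem_etaleLocus_iff]
  apply h
  intro hc
  have hfq : f ∉ q.asIdeal := hq
  haveI : (q.asIdeal.comap (algebraMap A' Q)).IsMaximal := by
    rw [hc]; exact maximalIdeal.isMaximal _
  haveI : q.asIdeal.IsMaximal :=
    Ideal.isMaximal_of_isIntegral_of_isMaximal_comap (R := A') q.asIdeal inferInstance
  have : q.asIdeal = maximalIdeal Q := IsLocalRing.eq_maximalIdeal inferInstance
  rw [this] at hfq
  exact hfq hf

/-- a local, finite `A'`-algebra of depth `≥ 2`, étale over the punctured spectrum, on which some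
element of `𝔪_{A'}` is regular, is flat over `A'` -/
theorem flat_of_depth_two (hdim : (2 : WithBot ℕ∞) ≤ ringKrullDim A') (h : EtPunct A' Q)
    [IsNoetherianRing Q] (hdepth : (2 : ℕ∞) ≤ LocCoh.depth Q Q)
    (g : A') (hg : g ∈ maximalIdeal A') (hgreg : IsSMulRegular Q (algebraMap A' Q g)) :
    Module.Flat A' Q := by
  haveI : IsDomain A' := Groth.Agent.Lead.RegLocal.isDomain_of_isRegularLocalRing A'
  haveI : IsIntegrallyClosed A' :=
    Groth.Agent.Helper4.RegNormal.isIntegrallyClosed_of_isRegularLocalRing A'
  have hNA' : EGA4.IsNormalRing A' := isNormalRing_of_isIntegrallyClosed A'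
  haveI : Algebra.IsIntegral A' Q := Algebra.IsIntegral.of_finite A' Q
  have hpn : ∀ f ∈ maximalIdeal Q, EGA4.IsNormalRing (Localization.Away f) := by
    intro f hf
    haveI := etale_away_of_etPunct A' Q h f hf
    exact (Groth.Agent.Helper5.SmNorm.s1182 A' (Localization.Away f)).1 hNA'
  haveI : IsDomain Q := isDomain_of_depth_two Q hdepth hpn
  haveI : IsIntegrallyClosed Q := isIntegrallyClosed_of_depth_two Q hdepth hpn
  -- injectivity
  have hgQ : algebraMap A' Q g ∈ maximalIdeal Q := by
    have hcomap : (maximalIdeal Q).comap (algebraMap A' Q) = maximalIdeal A' :=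
      IsLocalRing.eq_maximalIdeal (Ideal.isMaximal_comap_of_isIntegral_of_isMaximal _)
    have : g ∈ (maximalIdeal Q).comap (algebraMap A' Q) := by rw [hcomap]; exact hg
    exact this
  haveI := etale_away_of_etPunct A' Q h _ hgQ
  have hinj : Function.Injective (algebraMap A' Q) := by
    rw [injective_iff_map_eq_zero]
    intro a' ha'
    by_contra hne
    have hreg : IsSMulRegular (Localization.Away (algebraMap A' Q g)) a' :=
      Module.Flat.isSMulRegular_of_nonZeroDivisors (mem_nonZeroDivisors_of_ne_zero hne)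
    have h0 : a' • (1 : Localization.Away (algebraMap A' Q g)) = a' • 0 := by
      rw [smul_zero, Algebra.smul_def, mul_one,
        IsScalarTower.algebraMap_apply A' Q (Localization.Away (algebraMap A' Q g)), ha', map_zero]
    have h10 : (1 : Localization.Away (algebraMap A' Q g)) = 0 := hreg h0
    have hle : Submonoid.powers (algebraMap A' Q g) ≤ nonZeroDivisors Q := by
      rintro _ ⟨n, rfl⟩
      have h2 : IsSMulRegular Q ((algebraMap A' Q g) ^ n) := hgreg.pow n
      rw [mem_nonZeroDivisors_iff_right]
      intro z hz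
      apply h2
      change (algebraMap A' Q g) ^ n * z = (algebraMap A' Q g) ^ n * 0
      rw [mul_zero, mul_comm, hz]
    have hinjL := IsLocalization.injective (Localization.Away (algebraMap A' Q g)) hle
    have : (1 : Q) = 0 := hinjL (by rw [map_one, map_zero, h10])
    exact one_ne_zero this
  haveI : Algebra.FinitePresentation A' Q :=
    Algebra.FinitePresentation.of_finiteType.mp inferInstance
  exact flat_of_complete A' hdim Q hinj h.etAway

end LocalFactor

section Reduction

variable (A : Type u) [CommRing A] [IsRegularLocalRing A]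
  (A' : Type u) [CommRing A'] [IsRegularLocalRing A'] [IsAdicComplete (maximalIdeal A') A']
  [Algebra A A'] [Module.Flat A A']
  (B : Type u) [CommRing B] [IsDomain B] [IsIntegrallyClosed B] [Algebra A B] [Module.Finite A B]

/-- **Reduction to the complete case.** -/
theorem flat_of_baseChange
    (hm : (maximalIdeal A).map (algebraMap A A') = maximalIdeal A')
    (hres : ∀ a' : A', ∃ a : A, a' - algebraMap A A' a ∈ maximalIdeal A')
    (hdimA : (2 : WithBot ℕ∞) ≤ ringKrullDim A) (hdimA' : (2 : WithBot ℕ∞) ≤ ringKrullDim A')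
    (hinj : Function.Injective (algebraMap A B)) (h : EtPunct A B) : Module.Flat A B := by
  classical
  haveI : IsDomain A := Groth.Agent.Lead.RegLocal.isDomain_of_isRegularLocalRing A
  haveI : IsIntegrallyClosed A :=
    Groth.Agent.Helper4.RegNormal.isIntegrallyClosed_of_isRegularLocalRing A
  haveI : IsNoetherianRing B := IsNoetherianRing.of_finite A B
  haveI : IsLocalHom (algebraMap A A') := by
    apply ((IsLocalRing.local_hom_TFAE (algebraMap A A')).out 0 2).mpr
    rw [hm]
  haveI : Module.FaithfullyFlat A A' := Module.FaithfullyFlat.of_flat_of_isLocalHom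
  haveI : Algebra.FinitePresentation A B :=
    Algebra.FinitePresentation.of_finiteType.mp inferInstance
  have hAway : EtAway A B := h.etAway
  have hC : EtPunct A' (A' ⊗[A] B) := hAway.etPunct_baseChange A A' B hm
  haveI : IsNoetherianRing (A' ⊗[A] B) := IsNoetherianRing.of_finite A' _
  -- a nonzero element of `𝔪_A`
  obtain ⟨f, hf, hf0⟩ : ∃ f ∈ maximalIdeal A, f ≠ 0 := by
    by_contra hcon
    push Not at hcon
    have hbot : maximalIdeal A = ⊥ := by
      rw [eq_bot_iff]
      intro x hx
      exact hcon x hx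
    have hfield : IsField A := IsLocalRing.isField_iff_maximalIdeal_eq.mpr hbot
    have := ringKrullDim_eq_zero_of_isField hfield
    rw [this] at hdimA
    exact absurd hdimA (by decide)
  have hfreg : IsSMulRegular B f := by
    intro t t' htt
    change f • t = f • t' at htt
    rw [Algebra.smul_def, Algebra.smul_def] at htt
    have hne : algebraMap A B f ≠ 0 := fun h0 => hf0 (hinj (by rw [h0, map_zero]))
    exact mul_left_cancel₀ hne htt
  suffices hflat : Module.Flat A' (A' ⊗[A] B) from Module.Flat.of_flat_tensorProduct A B A'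
  apply Module.flat_of_isLocalized_maximal (A' ⊗[A] B) (A' ⊗[A] B)
    (fun P _ => LocFactor A' (A' ⊗[A] B) P) (fun P _ => Algebra.linearMap (A' ⊗[A] B) _)
  intro 𝔫' h𝔫'
  haveI : Module.Finite A' (LocFactor A' (A' ⊗[A] B) 𝔫') :=
    Module.Finite.of_surjective (Ideal.Quotient.mkₐ A' _).toLinearMap
      (Ideal.Quotient.mkₐ_surjective A' _)
  haveI : IsNoetherianRing (LocFactor A' (A' ⊗[A] B) 𝔫') :=
    isNoetherianRing_of_surjective _ _ (Ideal.Quotient.mk _) Ideal.Quotient.mk_surjective
  have hEtQ : EtPunct A' (LocFactor A' (A' ⊗[A] B) 𝔫') := hC.comp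
  -- depth
  haveI h𝔫 := contr_isMaximal A A' B 𝔫' hm
  haveI : IsIntegrallyClosed (Localization.AtPrime (contr A A' B 𝔫')) :=
    isIntegrallyClosed_of_isLocalization (Localization.AtPrime (contr A A' B 𝔫'))
      (contr A A' B 𝔫').primeCompl (contr A A' B 𝔫').primeCompl_le_nonZeroDivisors
  have hdimL : (2 : WithBot ℕ∞) ≤ ringKrullDim (Localization.AtPrime (contr A A' B 𝔫')) :=
    hdimA.trans (le_ringKrullDim_localization_of_isMaximal A B hinj (contr A A' B 𝔫'))
  have hdepthL := two_le_depth_of_normal (Localization.AtPrime (contr A A' B 𝔫')) hdimL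
  have hdepthQ : (2 : ℕ∞) ≤ LocCoh.depth (LocFactor A' (A' ⊗[A] B) 𝔫')
      (LocFactor A' (A' ⊗[A] B) 𝔫') := by
    rw [depth_locFactor_eq A A' B 𝔫' hm hres]
    exact hdepthL
  have hgreg := isSMulRegular_locFactor A A' B 𝔫' f hfreg
  have hfA' : algebraMap A A' f ∈ maximalIdeal A' := by
    rw [← hm]; exact Ideal.mem_map_of_mem _ hf
  exact flat_of_depth_two A' (LocFactor A' (A' ⊗[A] B) 𝔫') hdimA' hEtQ hdepthQ
    (algebraMap A A' f) hfA' hgreg

end Reduction

end Groth.Agent.Helper7.ZNPur
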