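import Mathlib
import Groth.Agent.Helper7.ZNPurN
import Groth.Agent.Helper6.ComplDim

set_option autoImplicit false
universe u

/-!
# Zariski–Nagata purity (regular local base, finite normal domain)
-/

namespace Groth.Agent.Helper7.ZNPur

open IsLocalRing TensorProduct

theorem exists_sub_mem_maximalIdeal_adicCompletion (A : Type u) [CommRing A] [IsLocalRing A]
    [IsNoetherianRing A] (a' : AdicCompletion (maximalIdeal A) A) :
    ∃ a : A, a' - algebraMap A (AdicCompletion (maximalIdeal A) A) a ∈
      maximalIdeal (AdicCompletion (maximalIdeal A) A) := by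
  obtain ⟨a, ha⟩ := Submodule.Quotient.mk_surjective _ (a'.1 1)
  refine ⟨a, ?_⟩
  rw [AdicCompletion.mem_maximalIdeal_iff_eval_one_eq_zero]
  change a'.1 1 - (algebraMap A (AdicCompletion (maximalIdeal A) A) a).1 1 = 0
  rw [← ha, sub_eq_zero]
  rfl

/-- **Zariski–Nagata purity.**  A normal domain, finite and injective over a regular local ring of
dimension `≥ 2` and étale over its punctured spectrum, is étale. -/
theorem etale_of_etPunct (A B : Type u) [CommRing A] [IsRegularLocalRing A]
    (hA : (2 : WithBot ℕ∞) ≤ ringKrullDim A) [CommRing B] [IsDomain B] [IsIntegrallyClosed B]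
    [Algebra A B] [Module.Finite A B] (hinj : Function.Injective (algebraMap A B))
    (h : EtPunct A B) : Algebra.Etale A B := by
  have hne : maximalIdeal A ≠ ⊤ := Ideal.IsPrime.ne_top'
  obtain ⟨hdim, hreg⟩ := Groth.Agent.Helper6.ComplDim.main_S19474 A (maximalIdeal A) hne
  haveI : IsRegularLocalRing (AdicCompletion (maximalIdeal A) A) := hreg.mp inferInstance
  have hm : (maximalIdeal A).map (algebraMap A (AdicCompletion (maximalIdeal A) A)) =
      maximalIdeal (AdicCompletion (maximalIdeal A) A) :=
    (AdicCompletion.maximalIdeal_eq_map (R := A)).symm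
  have hdim' : (2 : WithBot ℕ∞) ≤ ringKrullDim (AdicCompletion (maximalIdeal A) A) := by
    rw [hdim]; exact hA
  haveI : Module.Flat A B :=
    flat_of_baseChange A (AdicCompletion (maximalIdeal A) A) B hm
      (exists_sub_mem_maximalIdeal_adicCompletion A) hA hdim' hinj h
  exact etale_of_flat_of_etPunct A B hA h

end Groth.Agent.Helper7.ZNPur
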