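import Mathlib
import Groth.Agent.Helper7.ZNPurO
import Groth.Agent.Helper3.Pur2A

set_option autoImplicit false
universe u v

/-!
# Zariski–Nagata purity, universe-polymorphic form
-/

namespace Groth.Agent.Helper7.ZNPur

open IsLocalRing

/-- transport of étaleness over the punctured spectrum along ring isomorphisms -/
theorem EtPunct.of_ringEquiv {R R' : Type*} {A A' : Type*} [CommRing R] [CommRing R'] [CommRing A]
    [CommRing A'] [IsLocalRing R] [IsLocalRing R'] [Algebra R A] [Algebra R' A']
    (eR : R' ≃+* R) (eA : A' ≃+* A)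
    (hcomp : ∀ r', eA (algebraMap R' A' r') = algebraMap R A (eR r')) (h : EtPunct R A) :
    EtPunct R' A' := by
  intro q' _ hq'
  set q : Ideal A := q'.comap eA.symm.toRingHom with hq
  haveI : q.IsPrime := Ideal.comap_isPrime _ _
  have hmemq : ∀ a' : A', eA a' ∈ q ↔ a' ∈ q' := by
    intro a'
    rw [hq, Ideal.mem_comap]
    change eA.symm (eA a') ∈ q' ↔ _
    rw [RingEquiv.symm_apply_apply]
  have hqne : q.comap (algebraMap R A) ≠ maximalIdeal R := by
    intro heq
    apply hq'
    ext r'
    rw [Ideal.mem_comap, ← hmemq, hcomp, ← Ideal.mem_comap, heq, mem_maximalIdeal,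
      mem_maximalIdeal, mem_nonunits_iff, mem_nonunits_iff]
    exact not_congr ⟨fun hu => by simpa using hu.map eR.symm, fun hu => hu.map eR⟩
  haveI hfe : Algebra.FormallyEtale R (Localization.AtPrime q) := h q hqne
  -- view everything over `R'`
  letI algR'R : Algebra R' R := eR.toRingHom.toAlgebra
  letI algR'L : Algebra R' (Localization.AtPrime q) :=
    ((algebraMap R (Localization.AtPrime q)).comp eR.toRingHom).toAlgebra
  haveI : IsScalarTower R' R (Localization.AtPrime q) := IsScalarTower.of_algebraMap_eq (fun _ => rfl)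
  haveI : Algebra.FormallyEtale R' R :=
    Algebra.FormallyEtale.of_equiv (AlgEquiv.ofRingEquiv (f := eR) (fun _ => rfl) : R' ≃ₐ[R'] R)
  haveI : Algebra.FormallyEtale R' (Localization.AtPrime q) :=
    Algebra.FormallyEtale.comp R' R (Localization.AtPrime q)
  have hmap : q'.primeCompl.map eA.toMonoidHom = q.primeCompl := by
    ext a
    constructor
    · rintro ⟨a', ha', rfl⟩
      intro hmem
      exact ha' ((hmemq a').mp hmem)
    · intro ha
      refine ⟨eA.symm a, ?_, by simp⟩
      intro hmem
      apply ha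
      have h2 := (hmemq (eA.symm a)).mpr hmem
      rwa [RingEquiv.apply_symm_apply] at h2
  let φ : Localization.AtPrime q' ≃+* Localization.AtPrime q :=
    IsLocalization.ringEquivOfRingEquiv (Localization.AtPrime q') (Localization.AtPrime q) eA hmap
  have hφ : ∀ a' : A', φ (algebraMap A' (Localization.AtPrime q') a') =
      algebraMap A (Localization.AtPrime q) (eA a') := by
    intro a'
    exact IsLocalization.ringEquivOfRingEquiv_eq _ _
  let ψ : Localization.AtPrime q' ≃ₐ[R'] Localization.AtPrime q :=
    AlgEquiv.ofRingEquiv (f := φ) (by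
      intro r'
      rw [IsScalarTower.algebraMap_apply R' A' (Localization.AtPrime q'), hφ, hcomp,
        ← IsScalarTower.algebraMap_apply R A (Localization.AtPrime q)]
      rfl)
  exact Algebra.FormallyEtale.of_equiv ψ.symm

/-- **Zariski–Nagata purity**, universe-polymorphic flatness form. -/
theorem flat_of_etPunct (R : Type u) (A : Type v) [CommRing R] [IsRegularLocalRing R]
    (hR : (2 : WithBot ℕ∞) ≤ ringKrullDim R)
    [CommRing A] [IsDomain A] [IsIntegrallyClosed A] [Algebra R A] [Module.Finite R A]
    (hinj : Function.Injective (algebraMap R A)) (h : EtPunct R A) : Module.Flat R A := by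
  let eR : ULift.{v} R ≃+* R := ULift.ringEquiv
  let eA : ULift.{u} A ≃+* A := ULift.ringEquiv
  let alg : Algebra (ULift.{v} R) (ULift.{u} A) :=
    (eA.symm.toRingHom.comp ((algebraMap R A).comp eR.toRingHom)).toAlgebra
  haveI : IsRegularLocalRing (ULift.{v} R) := IsRegularLocalRing.of_ringEquiv eR.symm
  haveI : IsDomain (ULift.{u} A) := eA.toMulEquiv.isDomain
  haveI : IsIntegrallyClosed (ULift.{u} A) := IsIntegrallyClosed.of_equiv eA.symm
  have hfin : @Module.Finite (ULift.{v} R) (ULift.{u} A) _ _ alg.toModule :=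
    @Module.Finite.of_equiv_equiv R A (ULift.{v} R) (ULift.{u} A) _ _ _ _ _ alg eR.symm eA.symm
      (by ext; rfl) _
  have hinj' : Function.Injective (@algebraMap (ULift.{v} R) (ULift.{u} A) _ _ alg) := by
    intro x y hxy
    have h1 : eA.symm (algebraMap R A (eR x)) = eA.symm (algebraMap R A (eR y)) := hxy
    exact eR.injective (hinj (eA.symm.injective h1))
  have hdim' : (2 : WithBot ℕ∞) ≤ ringKrullDim (ULift.{v} R) := by
    rw [ringKrullDim_eq_of_ringEquiv eR]; exact hR
  have hpunct : @EtPunct (ULift.{v} R) (ULift.{u} A) _ _ _ alg :=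
    @EtPunct.of_ringEquiv R (ULift.{v} R) A (ULift.{u} A) _ _ _ _ _ _ _ alg eR eA
      (fun _ => rfl) h
  have het' : @Algebra.Etale (ULift.{v} R) (ULift.{u} A) _ _ alg :=
    @etale_of_etPunct (ULift.{v} R) (ULift.{u} A) _ _ hdim' _ _ _ alg hfin hinj' hpunct
  have hflat' : @Module.Flat (ULift.{v} R) (ULift.{u} A) _ _ alg.toModule := inferInstance
  exact @Groth.Agent.Helper3.Pur2.flat_transport R (ULift.{v} R) A (ULift.{u} A) _ _ _ _ _ alg eR eA
    (by ext; rfl) hflat'

/-- **Zariski–Nagata purity**, universe-polymorphic form. -/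
theorem etale_of_etPunct_univ (R : Type u) (A : Type v) [CommRing R] [IsRegularLocalRing R]
    (hR : (2 : WithBot ℕ∞) ≤ ringKrullDim R)
    [CommRing A] [IsDomain A] [IsIntegrallyClosed A] [Algebra R A] [Module.Finite R A]
    (hinj : Function.Injective (algebraMap R A)) (h : EtPunct R A) : Algebra.Etale R A := by
  haveI := flat_of_etPunct R A hR hinj h
  exact etale_of_flat_of_etPunct R A hR h

end Groth.Agent.Helper7.ZNPur
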