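import Mathlib
import Groth.Agent.Helper7.ZNPurP
import Groth.Agent.Helper2.SerreLoc

set_option autoImplicit false
universe u v

/-!
# Purity of the branch locus in its codimension-one form: a finite normal domain over a regular local
ring which is étale at the primes lying over primes of height `≤ 1` is étale everywhere
-/

namespace Groth.Agent.Helper7.ZNPur

open IsLocalRing

section CodimOne

variable (R : Type u) (B : Type v) [CommRing R] [IsRegularLocalRing R] [CommRing B] [IsDomain B]
  [IsIntegrallyClosed B] [Algebra R B] [Module.Finite R B]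

/-- the inductive step: purity at the primes over `𝔭`, knowing it at the primes over smaller
primes -/
theorem isEtaleAt_of_forall_lt (hinj : Function.Injective (algebraMap R B))
    (𝔭 : Ideal R) [𝔭.IsPrime] (h𝔭 : 2 ≤ 𝔭.height)
    (ih : ∀ (q' : Ideal B) [q'.IsPrime], q'.comap (algebraMap R B) < 𝔭 → Algebra.IsEtaleAt R q')
    (q : Ideal B) [q.IsPrime] (hq : q.comap (algebraMap R B) = 𝔭) : Algebra.IsEtaleAt R q := by
  classical
  haveI : IsDomain R := Groth.Agent.Lead.RegLocal.isDomain_of_isRegularLocalRing R
  haveI : IsNoetherianRing B := IsNoetherianRing.of_finite R B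
  set M := Algebra.algebraMapSubmonoid B 𝔭.primeCompl with hM
  have hMle : M ≤ nonZeroDivisors B := by
    rintro _ ⟨r, hr, rfl⟩
    apply mem_nonZeroDivisors_of_ne_zero
    intro h0
    have : r = 0 := hinj (by rw [h0, map_zero])
    exact hr (this ▸ 𝔭.zero_mem)
  haveI : IsRegularLocalRing (Localization.AtPrime 𝔭) :=
    Groth.Agent.Helper2.SerreLoc.isRegularLocalRing_localization R 𝔭
  haveI : IsDomain (Localization M) := IsLocalization.isDomain_localization hMle
  haveI : IsIntegrallyClosed (Localization M) :=
    isIntegrallyClosed_of_isLocalization (Localization M) M hMle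
  haveI : Module.Finite (Localization.AtPrime 𝔭) (Localization M) := inferInstance
  have hinj' : Function.Injective (algebraMap (Localization.AtPrime 𝔭) (Localization M)) :=
    localizationAlgebra_injective (Rₘ := Localization.AtPrime 𝔭)
      (Sₘ := Localization M) (M := 𝔭.primeCompl) hinj
  have hdim : (2 : WithBot ℕ∞) ≤ ringKrullDim (Localization.AtPrime 𝔭) := by
    rw [IsLocalization.AtPrime.ringKrullDim_eq_height 𝔭 (Localization.AtPrime 𝔭)]
    exact WithBot.coe_le_coe.mpr h𝔭
  -- étale over the punctured spectrum of `R_𝔭`
  have hpunct : EtPunct (Localization.AtPrime 𝔭) (Localization M) := by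
    intro Q hQ hQne
    set q' := Q.comap (algebraMap B (Localization M)) with hq'
    haveI : q'.IsPrime := Ideal.comap_isPrime _ _
    have hdisj : Disjoint (M : Set B) (q' : Set B) :=
      (IsLocalization.isPrime_iff_isPrime_disjoint M (Localization M) Q).mp hQ |>.2
    have hle : q'.comap (algebraMap R B) ≤ 𝔭 := by
      intro a ha
      by_contra ha𝔭
      have h1 : algebraMap R B a ∈ (M : Set B) := ⟨a, ha𝔭, rfl⟩
      exact Set.disjoint_left.mp hdisj h1 ha
    have hne : q'.comap (algebraMap R B) ≠ 𝔭 := by
      intro heq
      apply hQne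
      symm
      apply (maximalIdeal.isMaximal (Localization.AtPrime 𝔭)).eq_of_le
        (Ideal.comap_ne_top _ Ideal.IsPrime.ne_top')
      rw [← Localization.AtPrime.map_eq_maximalIdeal, Ideal.map_le_iff_le_comap]
      intro a ha
      rw [Ideal.mem_comap, Ideal.mem_comap, ← IsScalarTower.algebraMap_apply,
        IsScalarTower.algebraMap_apply R B (Localization M)]
      have : a ∈ q'.comap (algebraMap R B) := heq ▸ ha
      exact this
    haveI : Algebra.IsEtaleAt R q' := ih q' (lt_of_le_of_ne hle hne)
    haveI : IsLocalization.AtPrime (Localization.AtPrime Q) q' :=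
      IsLocalization.isLocalization_isLocalization_atPrime_isLocalization M
        (Localization.AtPrime Q) Q
    let e : Localization.AtPrime q' ≃ₐ[B] Localization.AtPrime Q :=
      IsLocalization.algEquiv q'.primeCompl _ _
    haveI : Algebra.FormallyEtale R (Localization.AtPrime Q) :=
      Algebra.FormallyEtale.of_equiv (e.restrictScalars R)
    exact Algebra.FormallyEtale.of_restrictScalars (R := R)
  haveI het : Algebra.Etale (Localization.AtPrime 𝔭) (Localization M) :=
    etale_of_etPunct_univ _ _ hdim hinj' hpunct
  -- back to `q`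
  have hdisjq : Disjoint (M : Set B) (q : Set B) := by
    rw [Set.disjoint_left]
    rintro _ ⟨r, hr, rfl⟩ hmem
    apply hr
    rw [← hq]
    exact hmem
  set Q₀ := q.map (algebraMap B (Localization M)) with hQ₀
  haveI hQ₀prime : Q₀.IsPrime :=
    IsLocalization.isPrime_of_isPrime_disjoint M (Localization M) q inferInstance hdisjq
  have hcomapQ₀ : Q₀.comap (algebraMap B (Localization M)) = q :=
    IsLocalization.under_map_of_isPrime_disjoint M (Localization M) inferInstance hdisjq
  have hetQ₀ : Algebra.IsEtaleAt (Localization.AtPrime 𝔭) Q₀ := by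
    have h2 : Algebra.etaleLocus (Localization.AtPrime 𝔭) (Localization M) = Set.univ :=
      Algebra.etaleLocus_eq_univ_iff.mpr inferInstance
    have h3 : (⟨Q₀, hQ₀prime⟩ : PrimeSpectrum (Localization M)) ∈
        Algebra.etaleLocus (Localization.AtPrime 𝔭) (Localization M) := by rw [h2]; trivial
    exact h3
  haveI : Algebra.FormallyEtale R (Localization.AtPrime Q₀) :=
    Algebra.FormallyEtale.comp R (Localization.AtPrime 𝔭) (Localization.AtPrime Q₀)
  haveI hloc1 : IsLocalization.AtPrime (Localization.AtPrime Q₀)
      (Q₀.comap (algebraMap B (Localization M))) :=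
    IsLocalization.isLocalization_isLocalization_atPrime_isLocalization M
      (Localization.AtPrime Q₀) Q₀
  haveI hloc2 : IsLocalization q.primeCompl (Localization.AtPrime Q₀) := by
    have hpc : (Q₀.comap (algebraMap B (Localization M))).primeCompl = q.primeCompl := by
      ext z
      simp only [Ideal.mem_primeCompl_iff]
      rw [hcomapQ₀]
    have h2 := hloc1
    change IsLocalization (Q₀.comap (algebraMap B (Localization M))).primeCompl _ at h2
    rwa [hpc] at h2
  let e : Localization.AtPrime Q₀ ≃ₐ[B] Localization.AtPrime q :=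
    IsLocalization.algEquiv q.primeCompl _ _
  exact Algebra.FormallyEtale.of_equiv (e.restrictScalars R)

theorem isEtaleAt_of_codim_one (hinj : Function.Injective (algebraMap R B))
    (h1 : ∀ (q : Ideal B) [q.IsPrime], (q.comap (algebraMap R B)).height ≤ 1 →
      Algebra.IsEtaleAt R q) :
    ∀ (q : Ideal B) [q.IsPrime], Algebra.IsEtaleAt R q := by
  classical
  suffices H : ∀ n : ℕ, ∀ (q : Ideal B) [q.IsPrime],
      (q.comap (algebraMap R B)).height = n → Algebra.IsEtaleAt R q by
    intro q _
    haveI : (q.comap (algebraMap R B)).IsPrime := Ideal.comap_isPrime _ _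
    obtain ⟨n, hn⟩ := ENat.ne_top_iff_exists.mp
      ((q.comap (algebraMap R B)).height_ne_top Ideal.IsPrime.ne_top')
    exact H n q hn.symm
  intro n
  induction n using Nat.strong_induction_on with
  | _ n ih =>
    intro q _ hn
    haveI : (q.comap (algebraMap R B)).IsPrime := Ideal.comap_isPrime _ _
    by_cases hle : n ≤ 1
    · exact h1 q (by rw [hn]; exact_mod_cast hle)
    · push Not at hle
      apply isEtaleAt_of_forall_lt R B hinj (q.comap (algebraMap R B)) ?_ ?_ q rfl
      · rw [hn]
        exact_mod_cast hle
      · intro q' _ hlt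
        haveI : (q'.comap (algebraMap R B)).IsPrime := Ideal.comap_isPrime _ _
        have hlt' := Ideal.height_strict_mono_of_isPrime_of_isPrime hlt
        obtain ⟨m, hm⟩ := ENat.ne_top_iff_exists.mp
          ((q'.comap (algebraMap R B)).height_ne_top Ideal.IsPrime.ne_top')
        rw [hn, ← hm] at hlt'
        exact ih m (by exact_mod_cast hlt') q' hm.symm

end CodimOne

end Groth.Agent.Helper7.ZNPur
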