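import Mathlib
import Groth.Agent.Helper7.ZNPurQ
import Groth.Agent.Helper3.CHR5

set_option autoImplicit false
universe u v w

/-!
# Purity for group actions: a finite group acting faithfully on a normal local domain, finite over
the regular local ring of invariants with the same residue field, and with trivial inertia at the
height-one primes, is trivial
-/

namespace Groth.Agent.Helper7.ZNPur

open IsLocalRing Groth.Agent.Helper3.CHR
open scoped Pointwise

/-- height does not increase along an integral extension -/
theorem height_le_height_comap_of_isIntegral {R S : Type*} [CommRing R] [CommRing S] [Algebra R S]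
    [Algebra.IsIntegral R S] (q : Ideal S) [hq : q.IsPrime] :
    q.height ≤ (q.comap (algebraMap R S)).height := by
  have hmono : StrictMono (fun x : PrimeSpectrum S => PrimeSpectrum.comap (algebraMap R S) x) := by
    intro x y hxy
    have h1 : x.asIdeal < y.asIdeal := hxy
    have h2 := Ideal.IsIntegral.comap_lt_comap (R := R) h1
    exact h2
  have h3 := Order.height_le_height_apply_of_strictMono _ hmono (⟨q, hq⟩ : PrimeSpectrum S)
  rw [← PrimeSpectrum.height_eq_orderHeight, ← PrimeSpectrum.height_eq_orderHeight] at h3
  exact h3

/-- a prime of a domain lying over a height-one prime along an injective integral map has height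
one -/
theorem height_eq_one_of_comap_of_isIntegral {R S : Type*} [CommRing R] [CommRing S] [IsDomain S]
    [Algebra R S] [Algebra.IsIntegral R S] (hinj : Function.Injective (algebraMap R S))
    (q : Ideal S) [q.IsPrime] (h : (q.comap (algebraMap R S)).height = 1) : q.height = 1 := by
  refine le_antisymm (h ▸ height_le_height_comap_of_isIntegral q) ?_
  rw [Order.one_le_iff_pos, pos_iff_ne_zero]
  intro h0
  rw [Ideal.height_eq_zero_iff_eq_bot] at h0
  subst h0
  have h1 : (⊥ : Ideal S).comap (algebraMap R S) = ⊥ := by
    rw [← RingHom.ker_eq_comap_bot]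
    exact (RingHom.injective_iff_ker_eq_bot _).1 hinj
  rw [h1] at h
  haveI : IsDomain R := hinj.isDomain _
  rw [Ideal.height_bot] at h
  exact zero_ne_one h

/-- Purity for group actions. -/
theorem trivial_of_codim_one_free (R : Type u) [CommRing R] [IsRegularLocalRing R]
    (A : Type v) [CommRing A] [IsDomain A] [IsIntegrallyClosed A] [IsLocalRing A]
    [Algebra R A] [Module.Finite R A] (hinj : Function.Injective (algebraMap R A))
    (hres : Function.Surjective (IsLocalRing.residue A ∘ algebraMap R A))
    (H : Type w) [Group H] [Finite H] [MulSemiringAction H A] [SMulCommClass H R A]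
    [FaithfulSMul H A]
    (hfix : ∀ a : A, (∀ h : H, h • a = a) → a ∈ Set.range (algebraMap R A))
    (htriv : ∀ P : Ideal A, P.IsPrime → P.height = 1 → P.inertia H = ⊥) :
    ∀ h : H, h = 1 := by
  haveI : Algebra.IsInvariant R A H := ⟨fun a ha => hfix a ha⟩
  haveI : IsNoetherianRing A := IsNoetherianRing.of_finite R A
  haveI : Algebra.IsIntegral R A := Algebra.IsIntegral.of_finite R A
  have hall : ∀ (q : Ideal A) [q.IsPrime], Algebra.IsEtaleAt R q := by
    apply isEtaleAt_of_codim_one R A hinj
    intro q _ hq
    apply formallyEtale_atPrime R A H hinj q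
    intro σ hσ
    by_contra hcon
    push Not at hcon
    have hmem : σ ∈ q.inertia H := hcon
    have hht : q.height ≤ 1 := (height_le_height_comap_of_isIntegral (R := R) q).trans hq
    by_cases h0 : q.height = 0
    · rw [Ideal.height_eq_zero_iff_eq_bot] at h0
      subst h0
      apply hσ
      apply FaithfulSMul.eq_of_smul_eq_smul (α := A)
      intro a
      have h1 := hmem a
      rw [one_smul]
      exact sub_eq_zero.mp (by simpa using h1)
    · have h1 : q.height = 1 :=
        le_antisymm hht (Order.one_le_iff_pos.mpr (pos_iff_ne_zero.mpr h0))
      have h2 := htriv q inferInstance h1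
      rw [h2, Subgroup.mem_bot] at hmem
      exact hσ hmem
  haveI := hall (maximalIdeal A)
  haveI : Algebra.FormallyUnramified R (Localization.AtPrime (maximalIdeal A)) := inferInstance
  have hstab := stabilizer_eq_bot_of_unramified R A H (maximalIdeal A) (by
    intro r
    obtain ⟨x, hx⟩ := hres (IsLocalRing.residue A r)
    refine ⟨algebraMap R A x, fun σ => smul_algebraMap σ x, ?_⟩
    rw [← Ideal.Quotient.eq_zero_iff_mem (I := maximalIdeal A)]
    have hx' : IsLocalRing.residue A (algebraMap R A x) = IsLocalRing.residue A r := hx
    change IsLocalRing.residue A (r - algebraMap R A x) = 0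
    rw [map_sub, hx', sub_self])
  intro h
  have hmem : h ∈ MulAction.stabilizer H (maximalIdeal A) := by
    rw [MulAction.mem_stabilizer_iff]
    have : (h • maximalIdeal A).IsMaximal := by
      rw [Ideal.pointwise_smul_eq_comap]
      exact Ideal.comap_isMaximal_of_surjective _ (MulSemiringAction.toRingEquiv H A h⁻¹).surjective
    exact IsLocalRing.eq_maximalIdeal this
  rw [hstab, Subgroup.mem_bot] at hmem
  exact hmem

end Groth.Agent.Helper7.ZNPur
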