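import Mathlib
import Groth.Prelude.Def_CAlgX
import Groth.Prelude.Def_CAlg
import Groth.Agent.Helper7.CKr5
set_option autoImplicit false
set_option linter.style.haveILetI false
set_option linter.unusedSectionVars false
set_option linter.unusedVariables false
open TensorProduct IsLocalRing
universe u
namespace Groth.Agent.Helper7.CKd

/-- a formally smooth (discrete topologies) homomorphism of noetherian rings is regular. -/
theorem s19379 (A B : Type u) [CommRing A] [CommRing B] [Algebra A B]
    [IsNoetherianRing A] [IsNoetherianRing B] [Algebra.FormallySmooth A B] :
    CAlg.IsRegularHom A B := by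
  refine (s19864 A B).mpr ?_
  intro q hq
  letI := (Localization.localRingHom (Ideal.comap (algebraMap A B) q) q (algebraMap A B) rfl).toAlgebra
  haveI : IsScalarTower A (Localization.AtPrime (q.comap (algebraMap A B)))
      (Localization.AtPrime q) :=
    IsScalarTower.of_algebraMap_eq (fun a => by
      show algebraMap A (Localization.AtPrime q) a =
        Localization.localRingHom _ _ _ rfl (algebraMap A _ a)
      rw [Localization.localRingHom_to_map, ← IsScalarTower.algebraMap_apply])
  haveI : Algebra.FormallySmooth (Localization.AtPrime (q.comap (algebraMap A B)))
      (Localization.AtPrime q) :=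
    Algebra.FormallySmooth.localization_base (q.comap (algebraMap A B)).primeCompl
  intro C _ _ J hJ ψ _
  exact Algebra.FormallySmooth.comp_surjective _ _ J hJ ψ

end Groth.Agent.Helper7.CKd
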