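import Mathlib
import Groth.Prelude.Def_CAlg
import Groth.Agent.Helper2.DepthCM
set_option autoImplicit false
open RingTheory.Sequence IsLocalRing Pointwise
universe u

namespace Groth.Agent.Helper7.DepthFin

/-- If no element of `a` is regular on a nonzero finite module `N`, some nonzero element is killed by `a`. -/
lemma exists_killed {A : Type*} [CommRing A] [IsNoetherianRing A] (N : Type*)
    [AddCommGroup N] [Module A N] [Module.Finite A N] [Nontrivial N] (a : Ideal A)
    (h : ∀ x ∈ a, ¬ IsSMulRegular N x) : ∃ y : N, y ≠ 0 ∧ ∀ x ∈ a, x • y = 0 := by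
  rcases Groth.Agent.Helper2.Ass.exists_le_assPrime_or_le A N a ⊥ (fun x hx _ => h x hx)
    with h1 | ⟨p, hp, hap⟩
  · obtain ⟨y, hy⟩ := exists_ne (0 : N)
    refine ⟨y, hy, fun x hx => ?_⟩
    have : x = 0 := by simpa using h1 hx
    rw [this, zero_smul]
  · obtain ⟨hpp, y, hy⟩ := (isAssociatedPrime_iff).1 hp
    refine ⟨y, ?_, fun x hx => ?_⟩
    · rintro rfl
      apply hpp.ne_top
      rw [hy, eq_top_iff]
      intro r _
      rw [Submodule.mem_colon_singleton, smul_zero]
      exact Submodule.zero_mem _
    · have : x ∈ p := hap hx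
      rw [hy, Submodule.mem_colon_singleton] at this
      simpa using this

theorem idealDepth_map_eq {A B : Type u} [CommRing A] [IsNoetherianRing A]
    [CommRing B] [Algebra A B] [Module.Finite A B] (a : Ideal A)
    (M : Type u) [AddCommGroup M] [Module B M] [Module A M] [IsScalarTower A B M] [Module.Finite B M] :
    LocCoh.idealDepth a M = LocCoh.idealDepth (a.map (algebraMap A B)) M := by
  have : Module.Finite A M := Module.Finite.trans B M
  have : IsNoetherianRing B := IsNoetherianRing.of_finite A B
  have key : ∀ I : Ideal A, ((I.map (algebraMap A B)) • (⊤ : Submodule B M)).restrictScalars A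
      = I • (⊤ : Submodule A M) := by
    intro I
    rw [Ideal.smul_restrictScalars]; rfl
  have keymem : ∀ (I : Ideal A) (m : M), m ∈ (I.map (algebraMap A B)) • (⊤ : Submodule B M) ↔
      m ∈ I • (⊤ : Submodule A M) := by
    intro I m
    rw [← key I]; rfl
  have keytop : ∀ I : Ideal A, (I.map (algebraMap A B)) • (⊤ : Submodule B M) = ⊤ ↔
      I • (⊤ : Submodule A M) = ⊤ := by
    intro I
    rw [Submodule.eq_top_iff', Submodule.eq_top_iff']
    exact forall_congr' (fun m => keymem I m)
  by_cases hIM : a • (⊤ : Submodule A M) = ⊤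
  · have hb := (keytop a).2 hIM
    rw [LocCoh.idealDepth, if_pos hIM, LocCoh.idealDepth, if_pos hb]
  · have hb : (a.map (algebraMap A B)) • (⊤ : Submodule B M) ≠ ⊤ := fun h => hIM ((keytop a).1 h)
    obtain ⟨rs, hreg, hmem, hmax, hlen⟩ :=
      Groth.Agent.Helper2.DepthCM.exists_length_eq_idealDepth a M hIM
    rw [← hlen]
    have hreg' : IsWeaklyRegular M (rs.map (algebraMap A B)) :=
      (isWeaklyRegular_map_algebraMap_iff B M rs).2 hreg
    have hmem' : ∀ r ∈ rs.map (algebraMap A B), r ∈ a.map (algebraMap A B) := by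
      intro r hr
      obtain ⟨x, hx, rfl⟩ := List.mem_map.1 hr
      exact Ideal.mem_map_of_mem _ (hmem x hx)
    -- the submodules
    have hSle : Ideal.ofList rs ≤ a := Groth.Agent.Helper2.DepthCM.ofList_le rs hmem
    have hSne : Ideal.ofList rs • (⊤ : Submodule A M) ≠ ⊤ := by
      intro h
      apply hIM
      exact top_le_iff.1 (le_trans (le_of_eq h.symm) (Submodule.smul_mono_left hSle))
    -- find z
    have hz : ∃ z : M, z ∉ Ideal.ofList rs • (⊤ : Submodule A M) ∧
        ∀ x ∈ a, x • z ∈ Ideal.ofList rs • (⊤ : Submodule A M) := by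
      have hnr : ∀ x ∈ a,
          ¬ IsSMulRegular (M ⧸ Ideal.ofList rs • (⊤ : Submodule A M)) x := by
        intro x hx hxr
        apply hmax x hx
        rw [isWeaklyRegular_append_iff]
        exact ⟨hreg, (isWeaklyRegular_singleton_iff _ x).2 hxr⟩
      have : Nontrivial (M ⧸ Ideal.ofList rs • (⊤ : Submodule A M)) :=
        Submodule.Quotient.nontrivial_iff.2 hSne
      obtain ⟨y, hy0, hy⟩ := exists_killed (M ⧸ Ideal.ofList rs • (⊤ : Submodule A M)) a hnr
      obtain ⟨z, rfl⟩ := Submodule.Quotient.mk_surjective _ y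
      refine ⟨z, fun hz => hy0 ((Submodule.Quotient.mk_eq_zero _).2 hz), fun x hx => ?_⟩
      have := hy x hx
      rwa [← Submodule.Quotient.mk_smul, Submodule.Quotient.mk_eq_zero] at this
    obtain ⟨z, hzS, hza⟩ := hz
    have hmax' : ∀ r ∈ a.map (algebraMap A B),
        ¬ IsWeaklyRegular M (rs.map (algebraMap A B) ++ [r]) := by
      intro r hr hcon
      rw [isWeaklyRegular_append_iff] at hcon
      have hrr := (isWeaklyRegular_singleton_iff _ r).1 hcon.2
      have hle : a.map (algebraMap A B) ≤
          (Ideal.ofList (rs.map (algebraMap A B)) • (⊤ : Submodule B M)).colon {z} := by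
        rw [Ideal.map_le_iff_le_comap]
        intro x hx
        rw [Ideal.mem_comap, Submodule.mem_colon_singleton, algebraMap_smul,
          ← Ideal.map_ofList, keymem]
        exact hza x hx
      have h1 := hle hr
      rw [Submodule.mem_colon_singleton] at h1
      have h2 : r • (Submodule.Quotient.mk z :
          M ⧸ Ideal.ofList (rs.map (algebraMap A B)) • (⊤ : Submodule B M)) = r • 0 := by
        rw [smul_zero, ← Submodule.Quotient.mk_smul, Submodule.Quotient.mk_eq_zero]
        exact h1
      have h3 := hrr h2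
      rw [Submodule.Quotient.mk_eq_zero, ← Ideal.map_ofList, keymem] at h3
      exact hzS h3
    have := Groth.Agent.Helper2.DepthRees.length_eq_idealDepth_of_maximal
      (a.map (algebraMap A B)) M hb (rs.map (algebraMap A B)) hreg' hmem' hmax'
    rw [← this, List.length_map]

end Groth.Agent.Helper7.DepthFin
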