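import Mathlib
import Groth.Prelude.Def_CAlg
import Groth.Prelude.Def_EGA4b
import Groth.Agent.Helper7.TorusI
import Groth.Agent.Helper2.DepthCM4

/-!
# Cohen–Macaulay modules: localisation at a smaller prime, and at a prime from its homogeneous core (helper7)
-/

set_option autoImplicit false
set_option linter.unusedSectionVars false
set_option linter.style.haveILetI false
universe u

namespace Groth.Agent.Helper7.GrCM

open DirectSum TensorProduct IsLocalRing RingTheory.Sequence Groth.Agent.Helper2
  Groth.Agent.Helper7.Torus

section Local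

variable {A : Type u} [CommRing A] [IsLocalRing A] [IsNoetherianRing A]

/-- the localisation of a Cohen–Macaulay module over a Noetherian local ring at a prime of its support
is Cohen–Macaulay -/
theorem cm_localizedModule (M : Type u) [AddCommGroup M] [Module A M] [Module.Finite A M]
    (hM : LocCoh.IsCohenMacaulayModule A M) (p : PrimeSpectrum A) (hp : p ∈ Module.support A M) :
    LocCoh.IsCohenMacaulayModule (Localization.AtPrime p.asIdeal)
      (LocalizedModule p.asIdeal.primeCompl M) := by
  have hnt := DepthCM2.cm_nontrivial hM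
  have hpm : p.asIdeal ≤ maximalIdeal A := IsLocalRing.le_maximalIdeal p.2.ne_top
  have hIM : p.asIdeal • (⊤ : Submodule A M) ≠ ⊤ := by
    intro h
    apply Depth.smul_top_ne_top A M
    exact eq_top_iff.2 (h.symm.le.trans (Submodule.smul_mono_left hpm))
  obtain ⟨xs, h1, h2, h3, -⟩ := DepthCM.exists_length_eq_idealDepth p.asIdeal M hIM
  obtain ⟨l1, l2⟩ := DepthCM4.cm_localized M hM p hp xs h2 h1 h3
  have hntp : Nontrivial (LocalizedModule p.asIdeal.primeCompl M) := Module.mem_support_iff.1 hp
  have hle := DepthCM4.depth_le_supportDim (A := Localization.AtPrime p.asIdeal)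
    (LocalizedModule p.asIdeal.primeCompl M)
  have hmem : ∀ y ∈ xs.map (algebraMap A (Localization.AtPrime p.asIdeal)),
      y ∈ maximalIdeal (Localization.AtPrime p.asIdeal) := by
    intro y hy
    obtain ⟨x, hx, rfl⟩ := List.mem_map.1 hy
    rw [IsLocalization.AtPrime.to_map_mem_maximal_iff (Localization.AtPrime p.asIdeal) p.asIdeal]
    exact h2 x hx
  have hge := DepthCM3.length_le_idealDepth
    (I := maximalIdeal (Localization.AtPrime p.asIdeal))
    (M := LocalizedModule p.asIdeal.primeCompl M) _ l1.1 hmem
  rw [List.length_map] at hge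
  unfold LocCoh.IsCohenMacaulayModule
  apply le_antisymm
  · rw [l2]
    exact_mod_cast hge
  · exact hle

end Local

section Smaller

variable {A : Type u} [CommRing A] [IsNoetherianRing A] (m : Ideal A) [m.IsPrime]
  (M : Type u) [AddCommGroup M] [Module A M] [Module.Finite A M]

/-- if `M_m` is Cohen–Macaulay then so is `M_q` for every prime `q ≤ m` of the support -/
theorem cm_of_le
    (hCM : LocCoh.IsCohenMacaulayModule (Localization.AtPrime m) (LocalizedModule m.primeCompl M))
    (q : Ideal A) [hq : q.IsPrime] (hqm : q ≤ m)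
    [hnt : Nontrivial (LocalizedModule q.primeCompl M)] :
    LocCoh.IsCohenMacaulayModule (Localization.AtPrime q) (LocalizedModule q.primeCompl M) := by
  have hdisj : Disjoint (m.primeCompl : Set A) (q : Set A) := by
    rw [Set.disjoint_left]
    intro x hx hxq
    exact hx (hqm hxq)
  haveI hq' : (q.map (algebraMap A (Localization.AtPrime m))).IsPrime :=
    IsLocalization.isPrime_of_isPrime_disjoint m.primeCompl (Localization.AtPrime m) q hq hdisj
  have hcomap : (q.map (algebraMap A (Localization.AtPrime m))).comap
      (algebraMap A (Localization.AtPrime m)) = q :=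
    IsLocalization.comap_map_of_isPrime_disjoint m.primeCompl (Localization.AtPrime m) hq hdisj
  let e : (Localization.AtPrime m) ⊗[A] M ≃ₗ[Localization.AtPrime m]
      LocalizedModule m.primeCompl M :=
    (IsLocalizedModule.isBaseChange m.primeCompl (Localization.AtPrime m)
      (LocalizedModule.mkLinearMap m.primeCompl M)).equiv
  have hCM' : LocCoh.IsCohenMacaulayModule (Localization.AtPrime m)
      ((Localization.AtPrime m) ⊗[A] M) := by
    unfold LocCoh.IsCohenMacaulayModule LocCoh.depth at hCM ⊢
    rw [Module.supportDim_eq_of_equiv e, DepthCM.idealDepth_congr _ e]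
    exact hCM
  haveI hnt' : Nontrivial (LocalizedModule (q.map (algebraMap A (Localization.AtPrime m))).primeCompl
      ((Localization.AtPrime m) ⊗[A] M)) :=
    (nontrivial_localized_tensor_iff' A (Localization.AtPrime m)
      (q.map (algebraMap A (Localization.AtPrime m))) M q hcomap).2 hnt
  have h1 := cm_localizedModule ((Localization.AtPrime m) ⊗[A] M) hCM'
    ⟨q.map (algebraMap A (Localization.AtPrime m)), hq'⟩ (Module.mem_support_iff.2 hnt')
  have hfield := fibLocRing_isField A (Localization.AtPrime m)
    (q.map (algebraMap A (Localization.AtPrime m))) (by rw [hcomap])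
  have hF1 := depth_eq_zero_of_isField _ hfield
  have hF2 : ringKrullDim (EGA4.FibLocRing A (Localization.AtPrime m)
      (q.map (algebraMap A (Localization.AtPrime m)))) = 0 := by
    letI := hfield.toField
    exact ringKrullDim_eq_zero_of_field _
  unfold LocCoh.IsCohenMacaulayModule at h1 ⊢
  have h2 := depth_localized_tensor' A (Localization.AtPrime m)
    (q.map (algebraMap A (Localization.AtPrime m))) M q hcomap
  have h3 := supportDim_localized_tensor' A (Localization.AtPrime m)
    (q.map (algebraMap A (Localization.AtPrime m))) M q hcomap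
  rw [hF1, add_zero] at h2
  rw [hF2, add_zero] at h3
  change Module.supportDim (Localization.AtPrime (q.map (algebraMap A (Localization.AtPrime m))))
    (LocalizedModule (q.map (algebraMap A (Localization.AtPrime m))).primeCompl
      ((Localization.AtPrime m) ⊗[A] M)) = _ at h1
  rw [h3] at h1
  rw [h1]
  congr 2

end Smaller

section Core

variable {R : Type u} [CommRing R] [IsNoetherianRing R] (𝒜 : ℤ → AddSubgroup R) [GradedRing 𝒜]
  (M : Type u) [AddCommGroup M] [Module R M] (ℳ : ℤ → AddSubgroup M)
  [DirectSum.Decomposition ℳ] [SetLike.GradedSMul 𝒜 ℳ] [Module.Finite R M]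
  (p : Ideal R) [p.IsPrime]

include ℳ in
/-- a graded module is Cohen–Macaulay at a prime if it is Cohen–Macaulay at its homogeneous core -/
theorem cm_of_cm_core [hc : (Ideal.homogeneousCore 𝒜 p).toIdeal.IsPrime]
    [hnt : Nontrivial (LocalizedModule p.primeCompl M)]
    (h : LocCoh.IsCohenMacaulayModule (Localization.AtPrime (Ideal.homogeneousCore 𝒜 p).toIdeal)
      (LocalizedModule (Ideal.homogeneousCore 𝒜 p).toIdeal.primeCompl M)) :
    LocCoh.IsCohenMacaulayModule (Localization.AtPrime p) (LocalizedModule p.primeCompl M) := by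
  haveI : (p.map (Ideal.Quotient.mk (Ideal.homogeneousCore 𝒜 p).toIdeal)).IsPrime := by
    apply Ideal.map_isPrime_of_surjective Ideal.Quotient.mk_surjective
    rw [Ideal.mk_ker]
    exact Ideal.toIdeal_homogeneousCore_le 𝒜 p
  obtain ⟨d, hd⟩ := ENat.ne_top_iff_exists.mp (Ideal.height_ne_top_of_isPrime
    (I := p.map (Ideal.Quotient.mk (Ideal.homogeneousCore 𝒜 p).toIdeal)))
  have h1 := depth_localization_eq 𝒜 p M ℳ d hd.symm
  have h2 := supportDim_localization_eq 𝒜 p M ℳ d hd.symm hnt
  unfold LocCoh.IsCohenMacaulayModule at h ⊢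
  rw [h2, h1, h]
  push_cast
  rfl

end Core

end Groth.Agent.Helper7.GrCM
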