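import Mathlib
import Groth.Agent.Helper7.Fitt8

set_option linter.style.haveILetI false
set_option linter.unusedSectionVars false

namespace Groth.Agent.Helper7.FittLib

open Matrix

universe u v
variable {R : Type u} [CommRing R]

/-- Minors indexed by an arbitrary finite type. -/
lemma det_mem_minors' {ι : Type*} {κ : Type*} [Fintype κ] [DecidableEq κ] {Z : Set (ι → R)}
    (z : κ → (ι → R)) (e : κ → ι) (hz : ∀ a, z a ∈ Z) :
    (Matrix.of fun a b => z a (e b)).det ∈ minors Z (Fintype.card κ) := by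
  let ε := Fintype.equivFin κ
  have h := det_mem_minors (Z := Z) (z ∘ ε.symm) (e ∘ ε.symm) (fun a => hz _)
  have h2 : (Matrix.of fun a b => (z ∘ ε.symm) a ((e ∘ ε.symm) b)) =
      (Matrix.of fun a b => z a (e b)).submatrix ε.symm ε.symm := by
    ext a b; rfl
  rwa [h2, det_submatrix_equiv_self] at h

/-- The relations of a direct sum. -/
def sumRel {ι ι' : Type*} (Z : Set (ι → R)) (Z' : Set (ι' → R)) : Set (ι ⊕ ι' → R) :=
  (fun z => Sum.elim z 0) '' Z ∪ (fun z' => Sum.elim 0 z') '' Z'

theorem minors_mul_le {ι ι' : Type*} (Z : Set (ι → R)) (Z' : Set (ι' → R)) (p p' : ℕ) :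
    minors Z p * minors Z' p' ≤ minors (sumRel Z Z') (p + p') := by
  classical
  rw [Ideal.mul_le]
  intro d hd d' hd'
  unfold minors at hd hd'
  induction hd using Submodule.span_induction with
  | mem d hd =>
    obtain ⟨z, e, hz, rfl⟩ := hd
    induction hd' using Submodule.span_induction with
    | mem d' hd' =>
      obtain ⟨z', e', hz', rfl⟩ := hd'
      let zz : Fin p ⊕ Fin p' → (ι ⊕ ι' → R) :=
        Sum.elim (fun a => Sum.elim (z a) 0) (fun a => Sum.elim 0 (z' a))
      let ee : Fin p ⊕ Fin p' → ι ⊕ ι' := Sum.elim (Sum.inl ∘ e) (Sum.inr ∘ e')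
      have hzz : ∀ a, zz a ∈ sumRel Z Z' := by
        rintro (a | a)
        · exact Or.inl ⟨z a, hz a, rfl⟩
        · exact Or.inr ⟨z' a, hz' a, rfl⟩
      have h := det_mem_minors' zz ee hzz
      have h2 : (Matrix.of fun a b => zz a (ee b)) =
          Matrix.fromBlocks (Matrix.of fun a b => z a (e b)) 0 0
            (Matrix.of fun a b => z' a (e' b)) := by
        ext (a | a) (b | b) <;> simp [zz, ee]
      rw [h2, det_fromBlocks_zero₂₁] at h
      simpa using h
    | zero => simp
    | add d1 d2 _ _ h1 h2 => rw [mul_add]; exact Ideal.add_mem _ h1 h2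
    | smul c d1 _ h1 =>
      rw [smul_eq_mul, mul_left_comm]; exact Ideal.mul_mem_left _ _ h1
  | zero => simp
  | add d1 d2 _ _ h1 h2 => rw [add_mul]; exact Ideal.add_mem _ h1 h2
  | smul c d1 _ h1 =>
    rw [smul_eq_mul, mul_assoc]; exact Ideal.mul_mem_left _ _ h1


/-- A determinant with complementary zero blocks of the wrong shape vanishes. -/
lemma det_eq_zero_of_blocks {q : ℕ} (N : Matrix (Fin q) (Fin q) R) (A B : Fin q → Prop)
    [DecidablePred A] [DecidablePred B]
    (h1 : ∀ a b, A a → ¬ B b → N a b = 0) (h2 : ∀ a b, ¬ A a → B b → N a b = 0)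
    (hcard : Fintype.card {a // A a} ≠ Fintype.card {b // B b}) : N.det = 0 := by
  rw [det_apply']
  refine Finset.sum_eq_zero (fun σ _ => ?_)
  have : ∃ i, N (σ i) i = 0 := by
    by_contra hcon
    push Not at hcon
    apply hcard
    refine (Fintype.card_congr (σ.subtypeEquiv (fun i => ?_))).symm
    constructor
    · intro hi
      by_contra hA
      exact hcon i (h2 _ _ hA hi)
    · intro hA
      by_contra hi
      exact hcon i (h1 _ _ hA hi)
  obtain ⟨i, hi⟩ := this
  have hprod : ∏ i, N (σ i) i = 0 := Finset.prod_eq_zero (Finset.mem_univ i) hi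
  rw [hprod, mul_zero]

theorem minors_sumRel_le {ι ι' : Type*} (Z : Set (ι → R)) (Z' : Set (ι' → R)) (q : ℕ)
    (I : Ideal R) (h : ∀ p p', p + p' = q → minors Z p * minors Z' p' ≤ I) :
    minors (sumRel Z Z') q ≤ I := by
  classical
  rw [minors_le_iff]
  intro w ee hw
  let A : Fin q → Prop := fun a => ∃ z ∈ Z, Sum.elim z (0 : ι' → R) = w a
  let B : Fin q → Prop := fun b => (ee b).isLeft = true
  have hA' : ∀ a, ¬ A a → ∃ z' ∈ Z', Sum.elim (0 : ι → R) z' = w a := by
    intro a ha
    rcases hw a with ⟨z, hz, hzw⟩ | ⟨z', hz', hzw⟩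
    · exact absurd ⟨z, hz, hzw⟩ ha
    · exact ⟨z', hz', hzw⟩
  let zf : {a // A a} → (ι → R) := fun a => Classical.choose a.2
  have hzf : ∀ a : {a // A a}, zf a ∈ Z ∧ Sum.elim (zf a) (0 : ι' → R) = w a.1 :=
    fun a => Classical.choose_spec a.2
  let zf' : {a // ¬ A a} → (ι' → R) := fun a => Classical.choose (hA' a.1 a.2)
  have hzf' : ∀ a : {a // ¬ A a}, zf' a ∈ Z' ∧ Sum.elim (0 : ι → R) (zf' a) = w a.1 :=
    fun a => Classical.choose_spec (hA' a.1 a.2)
  let e₁ : {b // B b} → ι := fun b => (ee b.1).getLeft b.2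
  have he₁ : ∀ b : {b // B b}, ee b.1 = Sum.inl (e₁ b) := fun b => (Sum.inl_getLeft _ _).symm
  have hB' : ∀ b, ¬ B b → (ee b).isRight = true := by
    intro b hb
    simpa [B] using hb
  let e₂ : {b // ¬ B b} → ι' := fun b => (ee b.1).getRight (hB' b.1 b.2)
  have he₂ : ∀ b : {b // ¬ B b}, ee b.1 = Sum.inr (e₂ b) := fun b => (Sum.inr_getRight _ _).symm
  set N : Matrix (Fin q) (Fin q) R := Matrix.of fun a b => w a (ee b) with hN
  have h1 : ∀ a b, A a → ¬ B b → N a b = 0 := by
    intro a b ha hb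
    have := (hzf ⟨a, ha⟩).2
    simp only [hN, Matrix.of_apply, ← this, he₂ ⟨b, hb⟩, Sum.elim_inr, Pi.zero_apply]
  have h2 : ∀ a b, ¬ A a → B b → N a b = 0 := by
    intro a b ha hb
    have := (hzf' ⟨a, ha⟩).2
    simp only [hN, Matrix.of_apply, ← this, he₁ ⟨b, hb⟩, Sum.elim_inl, Pi.zero_apply]
  by_cases hcard : Fintype.card {a // A a} = Fintype.card {b // B b}
  · have hcard' : Fintype.card {a // ¬ A a} = Fintype.card {b // ¬ B b} := by
      rw [Fintype.card_subtype_compl, Fintype.card_subtype_compl, hcard]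
    let α : {a // A a} ≃ {b // B b} := Fintype.equivOfCardEq hcard
    let α' : {a // ¬ A a} ≃ {b // ¬ B b} := Fintype.equivOfCardEq hcard'
    let r : {a // A a} ⊕ {a // ¬ A a} ≃ Fin q := Equiv.sumCompl A
    let c : {a // A a} ⊕ {a // ¬ A a} ≃ Fin q := (α.sumCongr α').trans (Equiv.sumCompl B)
    have hblocks : N.submatrix r c = Matrix.fromBlocks
        (Matrix.of fun a b => zf a ((e₁ ∘ α) b)) 0 0
        (Matrix.of fun a b => zf' a ((e₂ ∘ α') b)) := by
      ext (a | a) (b | b)
      · have := (hzf a).2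
        simp [r, c, hN, ← this, he₁ (α b)]
      · exact h1 _ _ a.2 (α' b).2
      · exact h2 _ _ a.2 (α b).2
      · have := (hzf' a).2
        simp [r, c, hN, ← this, he₂ (α' b)]
    have hmem : (N.submatrix r c).det ∈ I := by
      rw [hblocks, det_fromBlocks_zero₂₁]
      refine h (Fintype.card {a // A a}) (Fintype.card {a // ¬ A a}) ?_ (Ideal.mul_mem_mul ?_ ?_)
      · rw [Fintype.card_subtype_compl, Fintype.card_fin]
        have := Fintype.card_subtype_le A
        simp only [Fintype.card_fin] at this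
        omega
      · exact det_mem_minors' zf (e₁ ∘ α) (fun a => (hzf a).1)
      · exact det_mem_minors' zf' (e₂ ∘ α') (fun a => (hzf' a).1)
    let σ : Equiv.Perm ({a // A a} ⊕ {a // ¬ A a}) := c.trans r.symm
    have hsub : N.submatrix r c = (N.submatrix r r).submatrix id σ := by
      ext a b
      simp [σ]
    rw [hsub, det_permute', det_submatrix_equiv_self] at hmem
    rcases Int.units_eq_one_or (Equiv.Perm.sign σ) with hs | hs
    · rw [hs] at hmem
      simpa using hmem
    · rw [hs] at hmem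
      simpa using hmem
  · rw [det_eq_zero_of_blocks N A B h1 h2 hcard]
    exact Ideal.zero_mem _

end Groth.Agent.Helper7.FittLib
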