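import Mathlib
import Groth.Agent.Helper7.Fitt17

set_option linter.style.haveILetI false
set_option linter.unusedSectionVars false

namespace Groth.Agent.Helper7.FittLib

open Matrix

universe u v
variable {R : Type u} [CommRing R]

lemma rel_sum {M M' : Type*} [AddCommGroup M] [Module R M] [AddCommGroup M'] [Module R M']
    {n n' : ℕ} (x : Fin n → M) (x' : Fin n' → M') (c : Fin n ⊕ Fin n' → R) :
    c ∈ rel R (Sum.elim (fun i => ((x i, 0) : M × M')) (fun i => ((0, x' i) : M × M'))) ↔
      (c ∘ Sum.inl ∈ rel R x ∧ c ∘ Sum.inr ∈ rel R x') := by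
  simp only [mem_rel, Fintype.sum_sum_type, Sum.elim_inl, Sum.elim_inr, Function.comp_apply,
    Prod.smul_mk, smul_zero, Prod.ext_iff, Prod.fst_add, Prod.snd_add, Prod.fst_sum, Prod.snd_sum,
    Finset.sum_const_zero, add_zero, zero_add, Prod.fst_zero, Prod.snd_zero]

theorem fitt_prod (M M' : Type v) [AddCommGroup M] [Module R M]
    [AddCommGroup M'] [Module R M'] [Module.Finite R M] [Module.Finite R M'] (l : ℕ) :
    Fitt.ideal R (M × M') l =
      ∑ k ∈ Finset.range (l + 1), Fitt.ideal R M k * Fitt.ideal R M' (l - k) := by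
  classical
  obtain ⟨n, x, hx⟩ := Module.Finite.exists_fin (R := R) (M := M)
  obtain ⟨n', x', hx'⟩ := Module.Finite.exists_fin (R := R) (M := M')
  set y : Fin n ⊕ Fin n' → M × M' :=
    Sum.elim (fun i => ((x i, 0) : M × M')) (fun i => ((0, x' i) : M × M')) with hy
  have hyspan : Submodule.span R (Set.range y) = ⊤ := by
    rw [eq_top_iff]
    rintro ⟨m, m'⟩ -
    have h1 : (m, (0 : M')) ∈ Submodule.span R (Set.range y) := by
      have hm : m ∈ Submodule.span R (Set.range x) := by rw [hx]; trivial
      obtain ⟨c, rfl⟩ := (Submodule.mem_span_range_iff_exists_fun R).mp hm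
      have : ((∑ i, c i • x i, (0 : M')) : M × M') = ∑ i, c i • y (Sum.inl i) := by
        simp [hy, Prod.ext_iff, Prod.fst_sum, Prod.snd_sum]
      rw [this]
      exact Submodule.sum_mem _ (fun i _ => Submodule.smul_mem _ _ (Submodule.subset_span ⟨_, rfl⟩))
    have h2 : ((0 : M), m') ∈ Submodule.span R (Set.range y) := by
      have hm : m' ∈ Submodule.span R (Set.range x') := by rw [hx']; trivial
      obtain ⟨c, rfl⟩ := (Submodule.mem_span_range_iff_exists_fun R).mp hm
      have : (((0 : M), ∑ i, c i • x' i) : M × M') = ∑ i, c i • y (Sum.inr i) := by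
        simp [hy, Prod.ext_iff, Prod.fst_sum, Prod.snd_sum]
      rw [this]
      exact Submodule.sum_mem _ (fun i _ => Submodule.smul_mem _ _ (Submodule.subset_span ⟨_, rfl⟩))
    have : ((m, m') : M × M') = (m, 0) + (0, m') := by simp
    rw [this]
    exact Submodule.add_mem _ h1 h2
  have hrel : Submodule.span R (sumRel (rel R x : Set (Fin n → R)) (rel R x' : Set (Fin n' → R))) =
      rel R y := by
    apply le_antisymm
    · rw [Submodule.span_le]
      rintro c (⟨z, hz, rfl⟩ | ⟨z', hz', rfl⟩)
      · rw [SetLike.mem_coe, hy, rel_sum]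
        refine ⟨by simpa using hz, ?_⟩
        have : (Sum.elim z (0 : Fin n' → R)) ∘ Sum.inr = 0 := by funext i; simp
        rw [this]; exact Submodule.zero_mem _
      · rw [SetLike.mem_coe, hy, rel_sum]
        refine ⟨?_, by simpa using hz'⟩
        have : (Sum.elim (0 : Fin n → R) z') ∘ Sum.inl = 0 := by funext i; simp
        rw [this]; exact Submodule.zero_mem _
    · intro c hc
      rw [hy, rel_sum] at hc
      have : c = Sum.elim (c ∘ Sum.inl) (0 : Fin n' → R) +
          Sum.elim (0 : Fin n → R) (c ∘ Sum.inr) := by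
        funext j
        rcases j with j | j <;> simp
      rw [this]
      exact Submodule.add_mem _ (Submodule.subset_span (Or.inl ⟨_, hc.1, rfl⟩))
        (Submodule.subset_span (Or.inr ⟨_, hc.2, rfl⟩))
  have hFM : ∀ k, Fitt.ideal R M k = minors (rel R x : Set (Fin n → R)) (n - k) :=
    fun k => fitt_eq_minors_fin x hx _ (Submodule.span_eq _) k
  have hFM' : ∀ k, Fitt.ideal R M' k = minors (rel R x' : Set (Fin n' → R)) (n' - k) :=
    fun k => fitt_eq_minors_fin x' hx' _ (Submodule.span_eq _) k
  rw [fitt_eq_minors y hyspan _ hrel l, Fintype.card_sum, Fintype.card_fin, Fintype.card_fin]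
  apply le_antisymm
  · apply minors_sumRel_le
    intro p p' hpp
    by_cases hp : n < p
    · rw [minors_eq_bot_of_card_lt _ (by simpa using hp)]
      simp
    by_cases hp' : n' < p'
    · rw [minors_eq_bot_of_card_lt (ι := Fin n') _ (by simpa using hp')]
      simp
    have hk : n - p ∈ Finset.range (l + 1) := by
      rw [Finset.mem_range]; omega
    refine le_trans ?_ (Finset.single_le_sum (f := fun k => Fitt.ideal R M k * Fitt.ideal R M' (l - k))
      (fun i _ => bot_le) hk)
    rw [hFM, hFM']
    refine Ideal.mul_mono ?_ ?_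
    · have : n - (n - p) = p := by omega
      rw [this]
    · exact minors_anti _ (by omega)
  · rw [Ideal.sum_eq_sup]
    apply Finset.sup_le
    intro k hk
    rw [Finset.mem_range] at hk
    rw [hFM, hFM']
    refine le_trans (minors_mul_le _ _ _ _) (minors_anti _ (by omega))

end Groth.Agent.Helper7.FittLib
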