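import Mathlib
import Groth.Agent.Helper7.Fitt18
import Groth.Agent.Helper3.Fitt0

set_option linter.style.haveILetI false
set_option linter.unusedSectionVars false

namespace Groth.Agent.Helper7.FittLib

open TensorProduct

universe u v

variable {R : Type u} [CommRing R]

theorem fitt_zero_prod (M M' : Type v) [AddCommGroup M] [Module R M]
    [AddCommGroup M'] [Module R M'] [Module.Finite R M] [Module.Finite R M'] :
    Fitt.ideal R (M × M') 0 = Fitt.ideal R M 0 * Fitt.ideal R M' 0 := by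
  rw [fitt_prod M M' 0]
  simp

section Idem

variable {T : Type v} [CommRing T] [Algebra R T]

/-- Splitting of a quotient along an idempotent, as a linear equivalence over the base ring. -/
noncomputable def quotIdemEquiv (L : Ideal T) (e : T) (he : IsIdempotentElem e) :
    (T ⧸ L) ≃ₗ[R] (T ⧸ (L ⊔ Ideal.span {e})) × (T ⧸ (L ⊔ Ideal.span {1 - e})) := by
  refine LinearEquiv.ofBijective
    (LinearMap.prod (Ideal.Quotient.factorₐ R (le_sup_left : L ≤ L ⊔ Ideal.span {e})).toLinearMap
      (Ideal.Quotient.factorₐ R (le_sup_left : L ≤ L ⊔ Ideal.span {1 - e})).toLinearMap) ⟨?_, ?_⟩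
  · rw [← LinearMap.ker_eq_bot, LinearMap.ker_eq_bot']
    intro x hx
    obtain ⟨t, rfl⟩ := Ideal.Quotient.mk_surjective x
    have h1' : t ∈ L ⊔ Ideal.span {e} := by
      rw [← Ideal.Quotient.eq_zero_iff_mem]; exact congrArg Prod.fst hx
    have h2' : t ∈ L ⊔ Ideal.span {1 - e} := by
      rw [← Ideal.Quotient.eq_zero_iff_mem]; exact congrArg Prod.snd hx
    rw [Ideal.Quotient.eq_zero_iff_mem]
    obtain ⟨l1, hl1, y1, hy1, rfl⟩ := Submodule.mem_sup.mp h1'
    obtain ⟨l2, hl2, y2, hy2, e2⟩ := Submodule.mem_sup.mp h2'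
    obtain ⟨a, rfl⟩ := Ideal.mem_span_singleton'.mp hy1
    obtain ⟨b, rfl⟩ := Ideal.mem_span_singleton'.mp hy2
    have hee : e * e = e := he
    have k1 : (1 - e) * (l1 + a * e) = (1 - e) * l1 := by
      linear_combination (-a) * hee + a * hee - a * hee
    have k2 : e * (l1 + a * e) = e * l2 := by
      rw [← e2]; linear_combination (-b) * hee
    have : l1 + a * e = (1 - e) * l1 + e * l2 := by
      rw [← k1, ← k2]; ring
    rw [this]
    exact L.add_mem (L.mul_mem_left _ hl1) (L.mul_mem_left _ hl2)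
  · rintro ⟨x, y⟩
    obtain ⟨a, rfl⟩ := Ideal.Quotient.mk_surjective x
    obtain ⟨b, rfl⟩ := Ideal.Quotient.mk_surjective y
    refine ⟨Ideal.Quotient.mk L ((1 - e) * a + e * b), ?_⟩
    refine Prod.ext ?_ ?_
    · change Ideal.Quotient.mk _ ((1 - e) * a + e * b) = Ideal.Quotient.mk _ a
      rw [Ideal.Quotient.eq]
      refine Ideal.mem_sup_right (Ideal.mem_span_singleton'.mpr ⟨b - a, ?_⟩)
      ring
    · change Ideal.Quotient.mk _ ((1 - e) * a + e * b) = Ideal.Quotient.mk _ b
      rw [Ideal.Quotient.eq]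
      refine Ideal.mem_sup_right (Ideal.mem_span_singleton'.mpr ⟨a - b, ?_⟩)
      ring

theorem finite_quot [Module.Finite R T] (P : Ideal T) : Module.Finite R (T ⧸ P) :=
  Module.Finite.of_surjective (Ideal.Quotient.mkₐ R P).toLinearMap (Ideal.Quotient.mkₐ_surjective R P)

/-- If `μ : T → R` is an `R`-algebra retraction whose kernel is generated by an idempotent `e`,
then `Fit₀(T/L) = μ(L) · Fit₀(T/(L + (1-e)))`. -/
theorem fitt_zero_quot_idem [Module.Finite R T] (μ : T →ₐ[R] R) (e : T) (he : IsIdempotentElem e)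
    (hker : RingHom.ker μ = Ideal.span {e}) (L : Ideal T) :
    Fitt.ideal R (T ⧸ L) 0 = L.map μ * Fitt.ideal R (T ⧸ (L ⊔ Ideal.span {1 - e})) 0 := by
  haveI := finite_quot (R := R) (L ⊔ Ideal.span {e})
  haveI := finite_quot (R := R) (L ⊔ Ideal.span {1 - e})
  rw [fitt_congr (quotIdemEquiv (R := R) L e he) 0, fitt_zero_prod]
  congr 1
  have hμ : Function.Surjective μ := fun r => ⟨algebraMap R T r, by simp⟩
  have hP : L ⊔ Ideal.span {e} = (L.map μ).comap μ := by
    rw [Ideal.comap_map_of_surjective μ hμ L, ← hker]; rfl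
  set f : R →ₐ[R] T ⧸ (L ⊔ Ideal.span {e}) := Algebra.ofId R _ with hf
  have hfs : Function.Surjective f := by
    intro x
    obtain ⟨t, rfl⟩ := Ideal.Quotient.mk_surjective x
    refine ⟨μ t, ?_⟩
    change Ideal.Quotient.mk _ (algebraMap R T (μ t)) = Ideal.Quotient.mk _ t
    rw [Ideal.Quotient.eq]
    refine Ideal.mem_sup_right ?_
    rw [← hker, RingHom.mem_ker]
    simp
  have hfk : RingHom.ker f = L.map μ := by
    ext x
    rw [RingHom.mem_ker]
    change Ideal.Quotient.mk _ (algebraMap R T x) = 0 ↔ _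
    rw [Ideal.Quotient.eq_zero_iff_mem, hP, Ideal.mem_comap]
    simp
  rw [← fitt_congr (Ideal.quotientKerAlgEquivOfSurjective hfs).toLinearEquiv 0,
    Groth.Agent.Helper3.FittLib.ideal_zero_quotient, hfk]

end Idem

end Groth.Agent.Helper7.FittLib
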