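import Mathlib
import Groth.Agent.Helper7.FittIdem
import Groth.Prelude.Def_FlatCA

set_option linter.style.haveILetI false
set_option linter.unusedSectionVars false

namespace Groth.Agent.Helper7.FittLib

open TensorProduct

universe u

section Et

variable {A C : Type u} [CommRing A] [CommRing C] [Algebra A C] (h : C)

/-- multiplication `C_h ⊗_A C → C_h`. -/
noncomputable def muMap : Localization.Away h ⊗[A] C →ₐ[Localization.Away h] Localization.Away h :=
  Algebra.TensorProduct.productLeftAlgHom (AlgHom.id _ _) (IsScalarTower.toAlgHom A C (Localization.Away h))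

@[simp] theorem muMap_tmul (x : Localization.Away h) (c : C) :
    muMap (A := A) h (x ⊗ₜ c) = x * algebraMap C _ c := by
  simp [muMap]

/-- `C_h ⊗_A C → C_h ⊗_A C_h`. -/
noncomputable def phiMap : Localization.Away h ⊗[A] C →ₐ[Localization.Away h]
    Localization.Away h ⊗[A] Localization.Away h :=
  Algebra.TensorProduct.map (AlgHom.id _ _) (IsScalarTower.toAlgHom A C (Localization.Away h))

@[simp] theorem phiMap_tmul (x : Localization.Away h) (c : C) :
    phiMap (A := A) h (x ⊗ₜ c) = x ⊗ₜ algebraMap C _ c := by
  simp [phiMap]

theorem lmul_phiMap (t : Localization.Away h ⊗[A] C) :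
    Algebra.TensorProduct.lmul' A (S := Localization.Away h) (phiMap h t) = muMap h t := by
  induction t using TensorProduct.induction_on with
  | zero => simp
  | tmul x c => simp
  | add x y hx hy => simp only [map_add, hx, hy]

theorem isLocalization_phiMap :
    letI : Algebra (Localization.Away h ⊗[A] C) (Localization.Away h ⊗[A] Localization.Away h) :=
      (phiMap (A := A) h).toRingHom.toAlgebra
    IsLocalization ((Submonoid.powers h).map
      (Algebra.TensorProduct.includeRight (R := A) (A := Localization.Away h)))
      (Localization.Away h ⊗[A] Localization.Away h) := by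
  letI : Algebra (Localization.Away h ⊗[A] C) (Localization.Away h ⊗[A] Localization.Away h) :=
      (phiMap (A := A) h).toRingHom.toAlgebra
  haveI : IsScalarTower (Localization.Away h) (Localization.Away h ⊗[A] C)
      (Localization.Away h ⊗[A] Localization.Away h) :=
    IsScalarTower.of_algebraMap_eq' (phiMap (A := A) h).comp_algebraMap.symm
  refine IsLocalization.tensorProduct_tensorProduct_right A (Localization.Away h)
    (Submonoid.powers h) (Localization.Away h) ?_
  ext c
  change phiMap (A := A) h (1 ⊗ₜ c) = _
  simp

theorem muMap_surjective : Function.Surjective (muMap (A := A) h) :=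
  fun r => ⟨algebraMap _ _ r, by simp⟩

theorem ker_muMap_fg [Module.Finite A C] : (RingHom.ker (muMap (A := A) h)).FG := by
  have h1 := Module.FinitePresentation.fg_ker (muMap (A := A) h).toLinearMap (muMap_surjective h)
  exact Submodule.FG.of_restrictScalars (Localization.Away h) h1

theorem ker_muMap_isIdempotentElem [Algebra.FormallyUnramified A (Localization.Away h)] :
    IsIdempotentElem (RingHom.ker (muMap (A := A) h)) := by
  letI : Algebra (Localization.Away h ⊗[A] C) (Localization.Away h ⊗[A] Localization.Away h) :=
      (phiMap (A := A) h).toRingHom.toAlgebra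
  haveI loc := isLocalization_phiMap (A := A) h
  set K := RingHom.ker (muMap (A := A) h) with hK
  set I := KaehlerDifferential.ideal A (Localization.Away h) with hI
  have hII : IsIdempotentElem I := by
    rw [← Ideal.cotangent_subsingleton_iff]
    exact Algebra.FormallyUnramified.subsingleton_kaehlerDifferential
  have hKI : K = I.comap (algebraMap (Localization.Away h ⊗[A] C)
      (Localization.Away h ⊗[A] Localization.Away h)) := by
    ext t
    rw [Ideal.mem_comap, hK, RingHom.mem_ker, hI, KaehlerDifferential.ideal, RingHom.mem_ker,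
      ← lmul_phiMap]
    rfl
  have hIK : I = K.map (algebraMap (Localization.Away h ⊗[A] C)
      (Localization.Away h ⊗[A] Localization.Away h)) := by
    rw [hKI]
    exact (IsLocalization.map_under ((Submonoid.powers h).map
      (Algebra.TensorProduct.includeRight (R := A) (A := Localization.Away h))) _ I).symm
  apply le_antisymm
  · exact Ideal.mul_le_left
  · intro k hk
    have h1 : algebraMap (Localization.Away h ⊗[A] C)
      (Localization.Away h ⊗[A] Localization.Away h) k ∈ (K * K).map (algebraMap _ _) := by
      rw [Ideal.map_mul, ← hIK, hII.eq, hIK]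
      exact Ideal.mem_map_of_mem _ hk
    rw [← IsLocalization.mk'_one (M := (Submonoid.powers h).map
      (Algebra.TensorProduct.includeRight (R := A) (A := Localization.Away h))),
      IsLocalization.mk'_mem_map_algebraMap_iff] at h1
    obtain ⟨s, hs, hsk⟩ := h1
    obtain ⟨_, ⟨n, rfl⟩, rfl⟩ := hs
    -- unit trick
    have hu : IsUnit (algebraMap C (Localization.Away h) (h ^ n)) := by
      rw [map_pow]; exact (IsLocalization.Away.algebraMap_isUnit h).pow n
    obtain ⟨u, hu'⟩ := hu
    have h2 : (1 : Localization.Away h ⊗[A] C) -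
        algebraMap _ _ (↑u⁻¹ : Localization.Away h) * (1 ⊗ₜ (h ^ n)) ∈ K := by
      rw [hK, RingHom.mem_ker, map_sub, map_one, map_mul, AlgHom.commutes, muMap_tmul, one_mul,
        ← hu']
      simp
    have h3 : k = (1 - algebraMap _ _ (↑u⁻¹ : Localization.Away h) * (1 ⊗ₜ (h ^ n))) * k +
        algebraMap _ _ (↑u⁻¹ : Localization.Away h) *
        (Algebra.TensorProduct.includeRight (R := A) (A := Localization.Away h) (h ^ n) * k) := by
      rw [Algebra.TensorProduct.includeRight_apply]; ring
    rw [h3]
    exact Ideal.add_mem _ (Ideal.mul_mem_mul h2 hk) (Ideal.mul_mem_left _ _ hsk)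

theorem ker_muMap_idem [Module.Finite A C] [Algebra.FormallyUnramified A (Localization.Away h)] :
    ∃ e : Localization.Away h ⊗[A] C, IsIdempotentElem e ∧
      RingHom.ker (muMap (A := A) h) = Ideal.span {e} :=
  (Ideal.isIdempotentElem_iff_of_fg _ (ker_muMap_fg h)).mp (ker_muMap_isIdempotentElem h)

theorem finitePresentation_quot {R : Type*} {T : Type*} [CommRing R] [CommRing T] [Algebra R T]
    [Module.FinitePresentation R T] (P : Ideal T) (hP : P.FG) :
    Module.FinitePresentation R (T ⧸ P) := by
  haveI : Module.Finite R T := inferInstance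
  refine Module.finitePresentation_of_surjective (Ideal.Quotient.mkₐ R P).toLinearMap
    (Ideal.Quotient.mkₐ_surjective R P) ?_
  have : LinearMap.ker (Ideal.Quotient.mkₐ R P).toLinearMap = P.restrictScalars R := by
    ext x
    rw [LinearMap.mem_ker, Submodule.restrictScalars_mem]
    exact Ideal.Quotient.eq_zero_iff_mem
  rw [this]
  exact Submodule.FG.restrictScalars hP

theorem fitt_zero_etale_quot [Module.Finite A C] [Algebra.FormallyUnramified A (Localization.Away h)]
    (J : Ideal C) :
    ∃ J' : Ideal (Localization.Away h),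
      (Fitt.ideal A (C ⧸ J) 0).map (algebraMap A (Localization.Away h)) =
        J.map (algebraMap C (Localization.Away h)) * J' ∧
      (J.FG → Module.FinitePresentation A C → J'.FG) := by
  obtain ⟨e, he, hKe⟩ := ker_muMap_idem (A := A) h
  set ψ : Localization.Away h ⊗[A] C →ₐ[Localization.Away h] Localization.Away h ⊗[A] (C ⧸ J) :=
    Algebra.TensorProduct.map (AlgHom.id _ _) (Ideal.Quotient.mkₐ A J) with hψ
  have hψs : Function.Surjective ψ :=
    Algebra.TensorProduct.map_surjective _ _ Function.surjective_id (Ideal.Quotient.mkₐ_surjective A J)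
  have hψk : RingHom.ker ψ = J.map (Algebra.TensorProduct.includeRight : C →ₐ[A] _) := by
    have h1 := Algebra.TensorProduct.lTensor_ker (R := A) (A := Localization.Away h)
      (Ideal.Quotient.mkₐ A J) (Ideal.Quotient.mkₐ_surjective A J)
    have hk : RingHom.ker (Ideal.Quotient.mkₐ A J) = J := by
      ext x
      rw [RingHom.mem_ker]
      exact Ideal.Quotient.eq_zero_iff_mem
    rw [hk] at h1
    rw [← h1]
    ext t
    rw [RingHom.mem_ker, RingHom.mem_ker]
    rfl
  haveI : Module.Finite A (C ⧸ J) := finite_quot (R := A) J
  refine ⟨Fitt.ideal (Localization.Away h)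
    ((Localization.Away h ⊗[A] C) ⧸ (RingHom.ker ψ ⊔ Ideal.span {1 - e})) 0, ?_, ?_⟩
  · have s1 : (Fitt.ideal A (C ⧸ J) 0).map (algebraMap A (Localization.Away h)) =
        Fitt.ideal (Localization.Away h) (Localization.Away h ⊗[A] (C ⧸ J)) 0 :=
      (fitt_baseChange (R := A) (R' := Localization.Away h) (M := C ⧸ J) 0).symm
    have s2 : Fitt.ideal (Localization.Away h) (Localization.Away h ⊗[A] (C ⧸ J)) 0 =
        Fitt.ideal (Localization.Away h) ((Localization.Away h ⊗[A] C) ⧸ RingHom.ker ψ) 0 :=
      (fitt_congr (Ideal.quotientKerAlgEquivOfSurjective hψs).toLinearEquiv 0).symm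
    have s3 := fitt_zero_quot_idem (muMap (A := A) h) e he hKe (RingHom.ker ψ)
    rw [s1, s2, s3]
    congr 1
    rw [hψk]
    rw [← Ideal.map_coe (muMap (A := A) h),
      ← Ideal.map_coe (Algebra.TensorProduct.includeRight : C →ₐ[A] Localization.Away h ⊗[A] C),
      Ideal.map_map]
    congr 1
    ext c
    simp
  · intro hJ hC
    haveI : Module.FinitePresentation (Localization.Away h) (Localization.Away h ⊗[A] C) :=
      inferInstance
    haveI := finitePresentation_quot (R := Localization.Away h)
      (RingHom.ker ψ ⊔ Ideal.span {1 - e}) (by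
        rw [hψk]
        exact Submodule.FG.sup (hJ.map _) ⟨{1 - e}, by simp⟩)
    exact fitt_fg 0

end Et

theorem fittingZero_eq (R : Type u) [CommRing R] (M : Type u) [AddCommGroup M] [Module R M] :
    FlatCA.fittingZero R M = Fitt.ideal R M 0 := by
  unfold FlatCA.fittingZero Fitt.ideal
  congr 1
  ext d
  constructor
  · rintro ⟨n, x, a, hx, ha, rfl⟩
    exact ⟨n, x, a, hx, fun i _ => ha i, rfl⟩
  · rintro ⟨n, x, a, hx, ha, rfl⟩
    exact ⟨n, x, a, hx, fun i => ha i (by simp), rfl⟩

end Groth.Agent.Helper7.FittLib
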