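import Mathlib
import Groth.Agent.Helper7.FittEt

set_option linter.style.haveILetI false
set_option linter.unusedSectionVars false

namespace Groth.Agent.Helper7.FittLib

open TensorProduct

universe u

/-- General version of `fitt_zero_etale_quot` for an arbitrary model of the localization. -/
theorem fitt_zero_etale_quot' {A C : Type u} [CommRing A] [CommRing C] [Algebra A C] (h : C)
    (Ch : Type u) [CommRing Ch] [Algebra A Ch] [Algebra C Ch] [IsScalarTower A C Ch]
    [IsLocalization.Away h Ch]
    [Module.Finite A C] [Algebra.FormallyUnramified A Ch] (J : Ideal C) :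
    ∃ J' : Ideal Ch,
      (Fitt.ideal A (C ⧸ J) 0).map (algebraMap A Ch) = J.map (algebraMap C Ch) * J' ∧
      (J.FG → Module.FinitePresentation A C → J'.FG) := by
  let ε : Localization.Away h ≃ₐ[C] Ch := IsLocalization.algEquiv (Submonoid.powers h) _ _
  let εA : Localization.Away h ≃ₐ[A] Ch := ε.restrictScalars A
  haveI : Algebra.FormallyUnramified A (Localization.Away h) :=
    Algebra.FormallyUnramified.of_equiv εA.symm
  obtain ⟨J₂, h1, h2⟩ := fitt_zero_etale_quot (A := A) h J
  refine ⟨J₂.map εA, ?_, fun hJ hC => (h2 hJ hC).map _⟩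
  have e1 : (Fitt.ideal A (C ⧸ J) 0).map (algebraMap A Ch) =
      ((Fitt.ideal A (C ⧸ J) 0).map (algebraMap A (Localization.Away h))).map εA := by
    rw [← Ideal.map_coe εA, Ideal.map_map]
    congr 1
    ext x
    simp
  have e2 : J.map (algebraMap C Ch) = (J.map (algebraMap C (Localization.Away h))).map εA := by
    rw [← Ideal.map_coe εA, Ideal.map_map]
    congr 1
    ext x
    exact (ε.commutes x).symm
  rw [e1, e2, h1, Ideal.map_mul]

theorem pow_mem_fitt_zero {R : Type u} [CommRing R] {M : Type u} [AddCommGroup M] [Module R M]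
    {n : ℕ} (x : Fin n → M) (hx : Submodule.span R (Set.range x) = ⊤) (r : R)
    (hr : r ∈ Module.annihilator R M) : r ^ n ∈ Fitt.ideal R M 0 := by
  classical
  have hmem : (Matrix.diagonal fun _ : Fin n => r).det ∈ Fitt.ideal R M 0 := by
    refine Groth.Agent.Helper3.FittLib.det_mem_ideal x hx 0 _ ?_
    intro i _
    simp only [Matrix.diagonal_apply, ite_smul, zero_smul, Finset.sum_ite_eq, Finset.mem_univ,
      if_true]
    exact Module.mem_annihilator.mp hr _
  rw [Matrix.det_diagonal, Finset.prod_const] at hmem
  simpa using hmem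

theorem annihilator_le_radical_fitt_zero {R : Type u} [CommRing R] {M : Type u} [AddCommGroup M]
    [Module R M] [Module.Finite R M] :
    Module.annihilator R M ≤ (Fitt.ideal R M 0).radical := by
  intro r hr
  obtain ⟨n, x, hx⟩ := Module.Finite.exists_fin (R := R) (M := M)
  exact ⟨n, pow_mem_fitt_zero x hx r hr⟩

end Groth.Agent.Helper7.FittLib
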