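import Mathlib
import Groth.Prelude.Def_QFDual
import Groth.Agent.Helper7.Fitt5
import Groth.Agent.Helper7.FittEt2
import Groth.Agent.Helper3.Fitt0

set_option linter.style.haveILetI false
set_option linter.unusedSectionVars false

namespace Groth.Agent.Helper7.DiffBC

open TensorProduct

universe u

section Abstract

variable {R R' : Type u} [CommRing R] [CommRing R'] [Algebra R R']
  {M M' : Type u} [AddCommGroup M] [Module R M] [AddCommGroup M'] [Module R M'] [Module R' M']
  [IsScalarTower R R' M']

/-- Base change of a quotient. -/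
theorem isBaseChange_liftQ (f : M →ₗ[R] M') (hf : IsBaseChange R' f) (N : Submodule R M)
    (N' : Submodule R' M') (hN : N' = Submodule.span R' (f '' (N : Set M)))
    (h : N ≤ LinearMap.ker ((N'.mkQ.restrictScalars R).comp f)) :
    IsBaseChange R' (N.liftQ ((N'.mkQ.restrictScalars R).comp f) h) := by
  apply IsBaseChange.of_lift_unique
  intro P _ _ _ _ g
  letI : AddCommGroup P := Module.addCommMonoidToAddCommGroup R'
  let g0 : M →ₗ[R] P := g.comp N.mkQ
  let g0' : M' →ₗ[R'] P := hf.lift g0
  have hker : N' ≤ LinearMap.ker g0' := by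
    rw [hN, Submodule.span_le]
    rintro _ ⟨n, hn, rfl⟩
    rw [SetLike.mem_coe, LinearMap.mem_ker, hf.lift_eq]
    change g (N.mkQ n) = 0
    rw [Submodule.mkQ_apply, (Submodule.Quotient.mk_eq_zero N).mpr hn, map_zero]
  refine ⟨N'.liftQ g0' hker, ?_, ?_⟩
  · apply LinearMap.ext
    intro q
    obtain ⟨m, rfl⟩ := N.mkQ_surjective q
    change N'.liftQ g0' hker (N'.mkQ (f m)) = g (N.mkQ m)
    rw [Submodule.mkQ_apply, Submodule.liftQ_apply, hf.lift_eq]
    rfl
  · intro g'' hg''
    apply Submodule.linearMap_qext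
    apply hf.algHom_ext'
    apply LinearMap.ext
    intro m
    have := LinearMap.congr_fun hg'' (N.mkQ m)
    change g'' (N'.mkQ (f m)) = g (N.mkQ m) at this
    change g'' (N'.mkQ (f m)) = N'.liftQ g0' hker (N'.mkQ (f m))
    rw [this, Submodule.mkQ_apply (p := N'), Submodule.liftQ_apply, hf.lift_eq]
    rfl

theorem different_eq_annihilator (τ : M) :
    QFDual.different R τ = Module.annihilator R (M ⧸ (R ∙ τ)) := by
  ext r
  rw [QFDual.mem_different_iff, Module.mem_annihilator]
  constructor
  · intro h q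
    obtain ⟨m, rfl⟩ := (R ∙ τ).mkQ_surjective q
    obtain ⟨c, hc⟩ := h m
    rw [← map_smul, ← hc, Submodule.mkQ_apply, Submodule.Quotient.mk_eq_zero]
    exact Submodule.smul_mem _ _ (Submodule.mem_span_singleton_self τ)
  · intro h m
    have := h ((R ∙ τ).mkQ m)
    rw [← map_smul, Submodule.mkQ_apply, Submodule.Quotient.mk_eq_zero,
      Submodule.mem_span_singleton] at this
    exact this

variable (f : M →ₗ[R] M') (hf : IsBaseChange R' f) (τ : M)

include hf in
theorem map_different_le :
    (QFDual.different R τ).map (algebraMap R R') ≤ QFDual.different R' (f τ) := by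
  rw [Ideal.map_le_iff_le_comap]
  intro r hr
  rw [Ideal.mem_comap, QFDual.mem_different_iff]
  rw [QFDual.mem_different_iff] at hr
  intro m'
  induction m' using hf.inductionOn with
  | zero => exact ⟨0, by simp⟩
  | tmul m =>
    obtain ⟨c, hc⟩ := hr m
    refine ⟨algebraMap R R' c, ?_⟩
    rw [algebraMap_smul, algebraMap_smul, ← map_smul, ← map_smul, hc]
  | smul a m' ih =>
    obtain ⟨c, hc⟩ := ih
    refine ⟨a * c, ?_⟩
    rw [mul_smul, hc, smul_comm]
  | add x y hx hy =>
    obtain ⟨c, hc⟩ := hx
    obtain ⟨d, hd⟩ := hy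
    exact ⟨c + d, by rw [add_smul, hc, hd, smul_add]⟩

include hf in
/-- The quotient map `M/Rτ → M'/R'τ'` is a base change. -/
theorem isBaseChange_quot :
    ∃ (g : (M ⧸ (R ∙ τ)) →ₗ[R] (M' ⧸ (R' ∙ f τ))), IsBaseChange R' g := by
  have h : (R ∙ τ) ≤ LinearMap.ker (((R' ∙ f τ).mkQ.restrictScalars R).comp f) := by
    rw [Submodule.span_le]
    intro x hx
    rw [Set.mem_singleton_iff] at hx
    rw [hx, SetLike.mem_coe, LinearMap.mem_ker]
    change (R' ∙ f τ).mkQ (f τ) = 0
    rw [Submodule.mkQ_apply, Submodule.Quotient.mk_eq_zero]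
    exact Submodule.mem_span_singleton_self _
  refine ⟨Submodule.liftQ _ _ h, isBaseChange_liftQ f hf _ _ ?_ h⟩
  apply le_antisymm
  · rw [Submodule.span_le]
    intro x hx
    rw [Set.mem_singleton_iff] at hx
    rw [hx]
    exact Submodule.subset_span ⟨τ, Submodule.mem_span_singleton_self τ, rfl⟩
  · rw [Submodule.span_le]
    rintro _ ⟨n, hn, rfl⟩
    obtain ⟨c, rfl⟩ := Submodule.mem_span_singleton.mp hn
    rw [map_smul, ← algebraMap_smul R' c (f τ)]
    exact Submodule.smul_mem _ _ (Submodule.mem_span_singleton_self _)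

include hf in
theorem radical_different_eq [Module.Finite R M] :
    (QFDual.different R' (f τ)).radical =
      ((QFDual.different R τ).map (algebraMap R R')).radical := by
  apply le_antisymm
  · rw [Ideal.radical_le_radical_iff]
    obtain ⟨g, hg⟩ := isBaseChange_quot f hf τ
    haveI : Module.Finite R' M' := Module.Finite.equiv hf.equiv
    rw [different_eq_annihilator, different_eq_annihilator]
    refine (Groth.Agent.Helper7.FittLib.annihilator_le_radical_fitt_zero).trans ?_
    rw [Groth.Agent.Helper7.FittLib.fitt_isBaseChange R' g hg 0]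
    apply Ideal.radical_mono
    apply Ideal.map_mono
    exact Groth.Agent.Helper3.FittLib.ideal_zero_le_annihilator
  · exact Ideal.radical_mono (map_different_le f hf τ)

end Abstract

end Groth.Agent.Helper7.DiffBC
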