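import Mathlib
import Groth.Prelude.Def_QFDual
import Groth.Agent.Helper7.DiffBC1

set_option linter.style.haveILetI false
set_option linter.unusedSectionVars false

namespace Groth.Agent.Helper7.DiffBC

open TensorProduct

universe u

section Abstract2

variable {R R' : Type u} [CommRing R] [CommRing R'] [Algebra R R']
  {M M' : Type u} [AddCommGroup M] [Module R M] [AddCommGroup M'] [Module R M'] [Module R' M']
  [IsScalarTower R R' M']

/-- symmetric identity in an invertible module -/
theorem invertible_symm [Module.Invertible R M] (φ : Module.Dual R M) (x y : M) :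
    φ x • y = φ y • x := by
  have h := congrArg (TensorProduct.lift ((LinearMap.lsmul R M).comp φ))
    (Module.Invertible.tmul_comm (R := R) (m₁ := x) (m₂ := y))
  simpa using h

variable (f : M →ₗ[R] M') (hf : IsBaseChange R' f) (τ : M)

include hf in
theorem different_eq_of_invertible [Module.Invertible R M] :
    QFDual.different R' (f τ) = (QFDual.different R τ).map (algebraMap R R') := by
  apply le_antisymm _ (map_different_le f hf τ)
  intro r' hr'
  rw [QFDual.mem_different_iff] at hr'
  obtain ⟨u, hu⟩ := (Module.Invertible.bijective (R := R) (M := M)).2 1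
  -- key: for every tensor `u`, `r' * algebraMap (contractLeft u)` lies in the extended ideal
  suffices key : ∀ u : Module.Dual R M ⊗[R] M,
      r' * algebraMap R R' (contractLeft R M u) ∈ (QFDual.different R τ).map (algebraMap R R') by
    have := key u
    rwa [hu, map_one, mul_one] at this
  intro u
  induction u using TensorProduct.induction_on with
  | zero => simp
  | tmul φ m =>
    rw [contractLeft_apply]
    obtain ⟨c', hc'⟩ := hr' (f m)
    let φ' : M' →ₗ[R'] R' := hf.lift ((Algebra.linearMap R R').comp φ)
    have h1 : φ' (f m) = algebraMap R R' (φ m) := hf.lift_eq _ m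
    have h2 : φ' (f τ) = algebraMap R R' (φ τ) := hf.lift_eq _ τ
    have h3 : r' * algebraMap R R' (φ m) = c' * algebraMap R R' (φ τ) := by
      rw [← h1, ← h2, ← smul_eq_mul, ← smul_eq_mul, ← φ'.map_smul, ← φ'.map_smul, hc']
    rw [h3]
    apply Ideal.mul_mem_left
    apply Ideal.mem_map_of_mem
    rw [QFDual.mem_different_iff]
    intro m₂
    exact ⟨φ m₂, invertible_symm φ m₂ τ⟩
  | add x y hx hy =>
    rw [map_add, map_add, mul_add]
    exact Ideal.add_mem _ hx hy

end Abstract2

section Abstract3

variable {R R' : Type u} [CommRing R] [CommRing R'] [Algebra R R']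

/-- annihilators of finite modules commute with flat base change -/
theorem annihilator_of_flat [Module.Flat R R'] {Q Q' : Type u} [AddCommGroup Q] [Module R Q]
    [AddCommGroup Q'] [Module R Q'] [Module R' Q'] [IsScalarTower R R' Q'] [Module.Finite R Q]
    (g : Q →ₗ[R] Q') (hg : IsBaseChange R' g) :
    Module.annihilator R' Q' = (Module.annihilator R Q).map (algebraMap R R') := by
  classical
  apply le_antisymm
  · intro r' hr'
    obtain ⟨n, q, hq⟩ := Module.Finite.exists_fin (R := R) (M := Q)
    set F : R →ₗ[R] (Fin n → Q) :=
      LinearMap.pi (fun i => LinearMap.toSpanSingleton R Q (q i)) with hF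
    have hkerF : ∀ k ∈ LinearMap.ker F, k ∈ Module.annihilator R Q := by
      intro k hk
      rw [Module.mem_annihilator]
      intro x
      have hx : x ∈ Submodule.span R (Set.range q) := by rw [hq]; trivial
      induction hx using Submodule.span_induction with
      | mem x hx =>
        obtain ⟨i, rfl⟩ := hx
        have := congrFun (LinearMap.mem_ker.mp hk) i
        simpa [hF] using this
      | zero => simp
      | add x y _ _ hx hy => rw [smul_add, hx, hy, add_zero]
      | smul a x _ hx => rw [smul_comm, hx, smul_zero]
    set y : R' ⊗[R] R := r' ⊗ₜ[R] (1 : R) with hy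
    have h0 : TensorProduct.AlgebraTensorModule.lTensor R' R' F y = 0 := by
      apply (TensorProduct.piRight R R' R' (fun _ : Fin n => Q)).injective
      rw [map_zero]
      funext i
      rw [hy, TensorProduct.AlgebraTensorModule.lTensor_tmul, TensorProduct.piRight_apply,
        TensorProduct.piRightHom_tmul, Pi.zero_apply]
      apply hg.equiv.injective
      rw [map_zero, hg.equiv_tmul]
      have : F 1 i = q i := by simp [hF]
      rw [this]
      exact Module.mem_annihilator.mp hr' _
    have hy' : y ∈ LinearMap.ker (TensorProduct.AlgebraTensorModule.lTensor R' R' F) := h0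
    rw [Module.Flat.ker_lTensor_eq] at hy'
    obtain ⟨w, hw⟩ := hy'
    have key : ∀ w : R' ⊗[R] (LinearMap.ker F),
        TensorProduct.AlgebraTensorModule.rid R R' R'
          (TensorProduct.AlgebraTensorModule.lTensor R' R' (LinearMap.ker F).subtype w) ∈
        (Module.annihilator R Q).map (algebraMap R R') := by
      intro w
      induction w using TensorProduct.induction_on with
      | zero => simp
      | tmul a k =>
        rw [TensorProduct.AlgebraTensorModule.lTensor_tmul, TensorProduct.AlgebraTensorModule.rid_tmul,
          Submodule.coe_subtype, Algebra.smul_def, mul_comm]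
        apply Ideal.mul_mem_left
        exact Ideal.mem_map_of_mem _ (hkerF _ k.2)
      | add x y hx hy =>
        rw [map_add, map_add]
        exact Ideal.add_mem _ hx hy
    have := key w
    rw [hw, hy, TensorProduct.AlgebraTensorModule.rid_tmul, one_smul] at this
    exact this
  · rw [Ideal.map_le_iff_le_comap]
    intro r hr
    rw [Ideal.mem_comap, Module.mem_annihilator]
    intro x
    induction x using hg.inductionOn with
    | zero => simp
    | tmul m =>
      rw [algebraMap_smul, ← map_smul, Module.mem_annihilator.mp hr, map_zero]
    | smul a m' ih => rw [smul_comm, ih, smul_zero]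
    | add x y hx hy => rw [smul_add, hx, hy, add_zero]

variable {M M' : Type u} [AddCommGroup M] [Module R M] [AddCommGroup M'] [Module R M'] [Module R' M']
  [IsScalarTower R R' M']

variable (f : M →ₗ[R] M') (hf : IsBaseChange R' f) (τ : M)

include hf in
theorem different_eq_of_flat [Module.Flat R R'] [Module.Finite R M] :
    QFDual.different R' (f τ) = (QFDual.different R τ).map (algebraMap R R') := by
  obtain ⟨g, hg⟩ := isBaseChange_quot f hf τ
  rw [different_eq_annihilator, different_eq_annihilator]
  exact annihilator_of_flat g hg

end Abstract3

end Groth.Agent.Helper7.DiffBC
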