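import Mathlib
import Groth.Prelude.Def_QFDual
import Groth.Agent.Helper7.DiffBC2

set_option linter.style.haveILetI false
set_option linter.unusedSectionVars false

namespace Groth.Agent.Helper7.DiffBC

open TensorProduct

universe u

section Pushout

variable {A A' B B' : Type u} [CommRing A] [CommRing A'] [CommRing B] [CommRing B']
  [Algebra A A'] [Algebra A B] [Algebra A' B'] [Algebra B B'] [Algebra A B']
  [IsScalarTower A A' B'] [IsScalarTower A B B']
  {M M' : Type u} [AddCommGroup M] [Module A M] [Module B M] [IsScalarTower A B M]
  [AddCommGroup M'] [Module A M'] [Module A' M'] [Module B M'] [Module B' M']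
  [IsScalarTower A A' M'] [IsScalarTower A B M'] [IsScalarTower A' B' M'] [IsScalarTower B B' M']

/-- In a pushout square `B' = A' ⊗_A B`: a `B`-linear map which is an `A'`-base change is a
`B'`-base change. -/
theorem isBaseChange_of_isPushout (hB : Algebra.IsPushout A A' B B')
    (f : M →ₗ[B] M') (hf : IsBaseChange A' (f.restrictScalars A)) : IsBaseChange B' f := by
  apply IsBaseChange.of_lift_unique
  intro P _ _ _ _ g
  letI : Module A' P := Module.compHom P (algebraMap A' B')
  letI : Module A P := Module.compHom P (algebraMap A B)
  haveI : IsScalarTower A' B' P := IsScalarTower.of_algebraMap_smul (fun _ _ => rfl)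
  haveI : IsScalarTower A B P := IsScalarTower.of_algebraMap_smul (fun _ _ => rfl)
  haveI : IsScalarTower A A' P := IsScalarTower.of_algebraMap_smul (fun a p => by
    change algebraMap A' B' (algebraMap A A' a) • p = algebraMap A B a • p
    rw [← IsScalarTower.algebraMap_apply A A' B', IsScalarTower.algebraMap_apply A B B',
      algebraMap_smul])
  let g0 : M' →ₗ[A'] P := hf.lift (g.restrictScalars A)
  have hg0 : ∀ m, g0 (f m) = g m := fun m => hf.lift_eq (g.restrictScalars A) m
  have hlin : ∀ (b' : B') (m' : M'), g0 (b' • m') = b' • g0 m' := by
    intro b'
    induction b' using hB.out.inductionOn with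
    | zero => intro m'; simp
    | tmul b =>
      intro m'
      change g0 (algebraMap B B' b • m') = algebraMap B B' b • g0 m'
      induction m' using hf.inductionOn with
      | zero => simp
      | tmul m =>
        change g0 (algebraMap B B' b • f m) = algebraMap B B' b • g0 (f m)
        rw [algebraMap_smul, ← map_smul, hg0, hg0, map_smul, algebraMap_smul]
      | smul a' m'' ih =>
        rw [smul_comm, map_smul, ih, smul_comm, map_smul]
      | add x y hx hy => rw [smul_add, map_add, hx, hy, map_add, smul_add]
    | smul a' b'' ih =>
      intro m'
      rw [smul_assoc, map_smul, ih, smul_assoc]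
    | add x y hx hy =>
      intro m'
      rw [add_smul, map_add, hx, hy, add_smul]
  let g' : M' →ₗ[B'] P :=
    { toFun := g0
      map_add' := g0.map_add
      map_smul' := hlin }
  refine ⟨g', ?_, ?_⟩
  · apply LinearMap.ext
    intro m
    exact hg0 m
  · intro g'' hg''
    have : (g''.restrictScalars A') = g0 := by
      apply hf.algHom_ext'
      apply LinearMap.ext
      intro m
      have := LinearMap.congr_fun hg'' m
      change g'' (f m) = g m at this
      change g'' (f m) = g0 (f m)
      rw [this, hg0]
    apply LinearMap.ext
    intro x
    exact LinearMap.congr_fun this x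

end Pushout

end Groth.Agent.Helper7.DiffBC
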