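import Mathlib
import Groth.Prelude.Def_Disc

set_option linter.style.haveILetI false
set_option linter.unusedSectionVars false

namespace Groth.Agent.Helper7.OpenImm

open TensorProduct AlgebraicGeometry CategoryTheory

universe u

/-- An open immersion of affine schemes comes from a flat ring map. -/
theorem flat_of_isOpenImmersion {B' B : Type u} [CommRing B'] [CommRing B] [Algebra B' B]
    (h : IsOpenImmersion (Spec.map (CommRingCat.ofHom (algebraMap B' B)))) :
    Module.Flat B' B := by
  have h1 : Flat (Spec.map (CommRingCat.ofHom (algebraMap B' B))) := inferInstance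
  rw [Flat.SpecMap_iff] at h1
  exact (RingHom.flat_algebraMap_iff).mp h1

/-- An open immersion of affine schemes comes from an epimorphism of rings. -/
theorem epi_of_isOpenImmersion {B' B : Type u} [CommRing B'] [CommRing B] [Algebra B' B]
    (h : IsOpenImmersion (Spec.map (CommRingCat.ofHom (algebraMap B' B)))) :
    Epi (CommRingCat.ofHom (algebraMap B' B)) := by
  constructor
  intro Z g k hgk
  have h1 : Spec.map g ≫ Spec.map (CommRingCat.ofHom (algebraMap B' B)) =
      Spec.map k ≫ Spec.map (CommRingCat.ofHom (algebraMap B' B)) := by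
    rw [← Spec.map_comp, ← Spec.map_comp, hgk]
  have h2 : Spec.map g = Spec.map k := (cancel_mono _).mp h1
  exact Spec.map_injective h2

/-- ring-hom form of the epimorphism property. -/
theorem ringHom_ext_of_isOpenImmersion {B' B : Type u} [CommRing B'] [CommRing B] [Algebra B' B]
    (h : IsOpenImmersion (Spec.map (CommRingCat.ofHom (algebraMap B' B))))
    {Q : Type u} [CommRing Q] (f g : B →+* Q)
    (hfg : ∀ b', f (algebraMap B' B b') = g (algebraMap B' B b')) : f = g := by
  haveI := epi_of_isOpenImmersion h
  have h1 : CommRingCat.ofHom (algebraMap B' B) ≫ CommRingCat.ofHom f =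
      CommRingCat.ofHom (algebraMap B' B) ≫ CommRingCat.ofHom g := by
    ext b'
    exact hfg b'
  have h2 := (cancel_epi _).mp h1
  exact congrArg CommRingCat.Hom.hom h2

/-- annihilators of finitely generated ideals commute with flat base change -/
theorem annihilator_map_of_flat {R R' : Type u} [CommRing R] [CommRing R'] [Algebra R R']
    [Module.Flat R R'] (I : Ideal R) (hI : I.FG) :
    Submodule.annihilator (I.map (algebraMap R R')) =
      (Submodule.annihilator I).map (algebraMap R R') := by
  classical
  obtain ⟨s, hs⟩ := hI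
  apply le_antisymm
  · intro r' hr'
    set F : R →ₗ[R] (s → R) := LinearMap.pi (fun g => LinearMap.mulRight R (g : R)) with hF
    have hkerF : ∀ k ∈ LinearMap.ker F, k ∈ Submodule.annihilator I := by
      intro k hk
      rw [← hs, Ideal.span, Submodule.mem_annihilator_span]
      rintro ⟨g, hg⟩
      have := congrFun (LinearMap.mem_ker.mp hk) ⟨g, hg⟩
      simpa [hF] using this
    set y : R' ⊗[R] R := r' ⊗ₜ[R] (1 : R) with hy
    have h0 : TensorProduct.AlgebraTensorModule.lTensor R' R' F y = 0 := by
      apply (TensorProduct.piRight R R' R' (fun _ : s => R)).injective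
      rw [map_zero]
      funext i
      rw [hy, TensorProduct.AlgebraTensorModule.lTensor_tmul, TensorProduct.piRight_apply,
        TensorProduct.piRightHom_tmul, Pi.zero_apply]
      apply (TensorProduct.AlgebraTensorModule.rid R R' R').injective
      rw [map_zero, TensorProduct.AlgebraTensorModule.rid_tmul]
      have : F 1 i = (i : R) := by simp [hF]
      rw [this, Algebra.smul_def, mul_comm]
      have hmem : algebraMap R R' (i : R) ∈ I.map (algebraMap R R') :=
        Ideal.mem_map_of_mem _ (by rw [← hs]; exact Ideal.subset_span i.2)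
      have := Submodule.mem_annihilator.mp hr' _ hmem
      rwa [smul_eq_mul] at this
    have hy' : y ∈ LinearMap.ker (TensorProduct.AlgebraTensorModule.lTensor R' R' F) := h0
    rw [Module.Flat.ker_lTensor_eq] at hy'
    obtain ⟨w, hw⟩ := hy'
    have key : ∀ w : R' ⊗[R] (LinearMap.ker F),
        TensorProduct.AlgebraTensorModule.rid R R' R'
          (TensorProduct.AlgebraTensorModule.lTensor R' R' (LinearMap.ker F).subtype w) ∈
        (Submodule.annihilator I).map (algebraMap R R') := by
      intro w
      induction w using TensorProduct.induction_on with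
      | zero => simp
      | tmul a k =>
        rw [TensorProduct.AlgebraTensorModule.lTensor_tmul, TensorProduct.AlgebraTensorModule.rid_tmul,
          Submodule.coe_subtype, Algebra.smul_def, mul_comm]
        apply Ideal.mul_mem_left
        exact Ideal.mem_map_of_mem _ (hkerF _ k.2)
      | add x y hx hy =>
        rw [map_add, map_add]
        exact Ideal.add_mem _ hx hy
    have := key w
    rw [hw, hy, TensorProduct.AlgebraTensorModule.rid_tmul, one_smul] at this
    exact this
  · rw [Ideal.map_le_iff_le_comap]
    intro r hr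
    rw [Ideal.mem_comap, Ideal.map, Ideal.span, Submodule.mem_annihilator_span]
    rintro ⟨_, i, hi, rfl⟩
    change algebraMap R R' r • algebraMap R R' i = 0
    rw [smul_eq_mul, ← map_mul]
    have := Submodule.mem_annihilator.mp hr i hi
    rw [smul_eq_mul] at this
    rw [this, map_zero]

/-- The Noether different is compatible with flat epimorphisms `B' → B`. -/
theorem noetherDifferent_of_flat_epi {A B' B : Type u} [CommRing A] [CommRing B'] [CommRing B]
    [Algebra A B'] [Algebra A B] [Algebra B' B] [IsScalarTower A B' B] [Algebra.FiniteType A B']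
    [Module.Flat B' B]
    (hepi : ∀ {Q : Type u} [CommRing Q] (f g : B →+* Q),
      (∀ b', f (algebraMap B' B b') = g (algebraMap B' B b')) → f = g) :
    Disc.noetherDifferent A B = (Disc.noetherDifferent A B').map (algebraMap B' B) := by
  let φ : B' →ₐ[A] B := IsScalarTower.toAlgHom A B' B
  have hφ : (φ : B' →+* B).Flat := by
    change (algebraMap B' B).Flat
    rw [RingHom.flat_algebraMap_iff]
    infer_instance
  let θ : B' ⊗[A] B' →ₐ[A] B ⊗[A] B := Algebra.TensorProduct.map φ φ
  have hθflat : (θ : B' ⊗[A] B' →+* B ⊗[A] B).Flat :=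
    RingHom.Flat.tensorProductMap (R := A) (S := A) hφ hφ
  letI : Algebra (B' ⊗[A] B') (B ⊗[A] B) := (θ : B' ⊗[A] B' →+* B ⊗[A] B).toAlgebra
  haveI : Module.Flat (B' ⊗[A] B') (B ⊗[A] B) := hθflat
  have halg : ∀ t, algebraMap (B' ⊗[A] B') (B ⊗[A] B) t = θ t := fun _ => rfl
  have hμθ : ∀ t, Algebra.TensorProduct.lmul' (S := B) A (θ t) =
      φ (Algebra.TensorProduct.lmul' (S := B') A t) := by
    intro t
    induction t using TensorProduct.induction_on with
    | zero => simp
    | tmul x y => simp [θ]
    | add x y hx hy => simp only [map_add, hx, hy]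
  have hI : KaehlerDifferential.ideal A B =
      (KaehlerDifferential.ideal A B').map (algebraMap (B' ⊗[A] B') (B ⊗[A] B)) := by
    apply le_antisymm
    · rw [← KaehlerDifferential.span_range_eq_ideal, Ideal.span_le]
      rintro _ ⟨b, rfl⟩
      set K := (KaehlerDifferential.ideal A B').map (algebraMap (B' ⊗[A] B') (B ⊗[A] B)) with hK
      let ι₁ : B →+* (B ⊗[A] B) ⧸ K :=
        (Ideal.Quotient.mk K).comp (Algebra.TensorProduct.includeLeftRingHom)
      let ι₂ : B →+* (B ⊗[A] B) ⧸ K :=
        (Ideal.Quotient.mk K).comp (Algebra.TensorProduct.includeRight (R := A) (A := B)).toRingHom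
      have h12 : ι₁ = ι₂ := by
        apply hepi
        intro b'
        change Ideal.Quotient.mk K (algebraMap B' B b' ⊗ₜ[A] 1) =
          Ideal.Quotient.mk K (1 ⊗ₜ[A] algebraMap B' B b')
        rw [Ideal.Quotient.eq]
        have h3 : (b' ⊗ₜ[A] (1 : B') - 1 ⊗ₜ[A] b' : B' ⊗[A] B') ∈ KaehlerDifferential.ideal A B' := by
          change _ ∈ RingHom.ker _
          rw [RingHom.mem_ker]
          simp
        have h4 := Ideal.mem_map_of_mem (algebraMap (B' ⊗[A] B') (B ⊗[A] B)) h3
        rw [halg, map_sub] at h4
        simpa [θ, φ] using h4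
      have h5 := RingHom.congr_fun h12 b
      change Ideal.Quotient.mk K (b ⊗ₜ[A] 1) = Ideal.Quotient.mk K (1 ⊗ₜ[A] b) at h5
      rw [SetLike.mem_coe, ← Ideal.Quotient.eq]
      exact h5.symm
    · rw [Ideal.map_le_iff_le_comap]
      intro t ht
      rw [Ideal.mem_comap, halg]
      change _ ∈ RingHom.ker _
      rw [RingHom.mem_ker, hμθ]
      have : Algebra.TensorProduct.lmul' (S := B') A t = 0 := ht
      rw [this, map_zero]
  unfold Disc.noetherDifferent
  have h1 : RingHom.ker (Algebra.TensorProduct.lmul' (S := B') A) = KaehlerDifferential.ideal A B' :=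
    rfl
  have h2 : RingHom.ker (Algebra.TensorProduct.lmul' (S := B) A) = KaehlerDifferential.ideal A B :=
    rfl
  rw [h1, h2, hI, annihilator_map_of_flat _ (KaehlerDifferential.ideal_fg A B'),
    ← Ideal.map_coe (Algebra.TensorProduct.lmul' (S := B') A),
    ← Ideal.map_coe (Algebra.TensorProduct.lmul' (S := B) A), Ideal.map_map, Ideal.map_map]
  congr 1
  refine RingHom.ext fun t => ?_
  simp only [RingHom.comp_apply, RingHom.coe_coe]
  rw [halg, hμθ]
  rfl

end Groth.Agent.Helper7.OpenImm
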