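import Mathlib

/-!
# A dimension argument: a parameter element lies outside some prime of the support contained in
the unique minimal prime of the quotient
-/

set_option autoImplicit false
set_option linter.unusedSectionVars false
set_option linter.style.haveILetI false

namespace Groth.Agent.Helper7.IntMod

open IsLocalRing Order

universe u v

theorem exists_ltSeries_subtype {α : Type*} [Preorder α] {X Y : Set α} (l : LTSeries ↥X)
    (h : ∀ i, (l i).1 ∈ Y) :
    ∃ l' : LTSeries ↥Y, l'.length = l.length ∧ (l'.head : α) = (l.head : α) :=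
  ⟨LTSeries.mk l.length (fun i => ⟨(l i).1, h i⟩) (fun _ _ hij => l.strictMono hij), rfl, rfl⟩

variable {A : Type u} [CommRing A] [IsNoetherianRing A] [IsLocalRing A]
  {M : Type v} [AddCommGroup M] [Module A M] [Module.Finite A M]

theorem supportDim_ne_top (X : Type*) [AddCommGroup X] [Module A X] :
    Module.supportDim A X ≠ ⊤ :=
  ne_top_of_le_ne_top ringKrullDim_ne_top (Module.supportDim_le_ringKrullDim A X)

theorem exists_nat_supportDim (X : Type*) [AddCommGroup X] [Module A X] [Nontrivial X] :
    ∃ n : ℕ, Module.supportDim A X = n := by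
  have h1 := Module.supportDim_ne_bot_of_nontrivial A X
  have h2 := supportDim_ne_top (A := A) X
  obtain ⟨e, he⟩ := WithBot.ne_bot_iff_exists.1 h1
  have h3 : e ≠ ⊤ := by
    rintro rfl
    exact h2 he.symm
  obtain ⟨n, hn⟩ := ENat.ne_top_iff_exists.1 h3
  exact ⟨n, by rw [← he, ← hn]; rfl⟩

theorem exists_witness_of_dim (x : A) (hx : x ∈ maximalIdeal A) [Nontrivial M]
    [Nontrivial (QuotSMulTop x M)] (q : PrimeSpectrum A)
    (hq : q ∈ Module.support A (QuotSMulTop x M))
    (hqmin : ∀ Q ∈ Module.support A (QuotSMulTop x M), q ≤ Q)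
    (hdim : Module.supportDim A (QuotSMulTop x M) + 1 = Module.supportDim A M) :
    ∃ P₀ : PrimeSpectrum A, P₀ ∈ Module.support A M ∧ P₀ ≤ q ∧ x ∉ P₀.asIdeal := by
  obtain ⟨n, hn⟩ := exists_nat_supportDim (A := A) M
  obtain ⟨k, hk⟩ := exists_nat_supportDim (A := A) (QuotSMulTop x M)
  have hnk : n = k + 1 := by
    rw [hn, hk] at hdim
    exact_mod_cast hdim.symm
  -- a maximal chain in the support of `M`
  obtain ⟨l, hl⟩ := le_krullDim_iff.1 (le_of_eq hn.symm : (n : WithBot ℕ∞) ≤ krullDim _)
  have hsuppN : Module.support A (QuotSMulTop x M) =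
      Module.support A M ∩ PrimeSpectrum.zeroLocus {x} := Module.support_quotSMulTop x
  have hup : ∀ P Q : PrimeSpectrum A, P ∈ Module.support A M → P ≤ Q → Q ∈ Module.support A M := by
    intro P Q hP hPQ
    rw [Module.mem_support_iff_of_finite] at hP ⊢
    exact hP.trans hPQ
  have hkY : ∀ l' : LTSeries ↥(Module.support A (QuotSMulTop x M)), l'.length ≤ k := by
    intro l'
    have := l'.length_le_krullDim
    rw [← Module.supportDim, hk] at this
    exact_mod_cast this
  refine ⟨l.head.1, l.head.2, ?_, ?_⟩
  swap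
  · -- `x ∉ P₀`
    intro hxP
    obtain ⟨l', hl', -⟩ := exists_ltSeries_subtype (Y := Module.support A (QuotSMulTop x M)) l
      (fun i => by
        rw [hsuppN]
        refine ⟨(l i).2, ?_⟩
        rw [PrimeSpectrum.mem_zeroLocus, Set.singleton_subset_iff]
        exact (l.head_le i : l.head ≤ l i) hxP)
    have := hkY l'
    omega
  · -- `P₀ ≤ q`
    have hsuppM' : Module.support A (A ⧸ l.head.1.asIdeal) =
        PrimeSpectrum.zeroLocus (l.head.1.asIdeal : Set A) := by
      rw [Module.support_eq_zeroLocus, Ideal.annihilator_quotient]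
    have hnM' : (n : WithBot ℕ∞) ≤ Module.supportDim A (A ⧸ l.head.1.asIdeal) := by
      obtain ⟨l', hl', -⟩ := exists_ltSeries_subtype
        (Y := Module.support A (A ⧸ l.head.1.asIdeal)) l
        (fun i => by
          rw [hsuppM', PrimeSpectrum.mem_zeroLocus]
          exact (l.head_le i : l.head ≤ l i))
      rw [Module.supportDim, le_krullDim_iff]
      exact ⟨l', hl'.trans hl⟩
    have h1 := Module.supportDim_le_supportDim_quotSMulTop_succ
      (M := A ⧸ l.head.1.asIdeal) hx
    have h2 : (k : WithBot ℕ∞) ≤ Module.supportDim A (QuotSMulTop x (A ⧸ l.head.1.asIdeal)) := by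
      have h3 := hnM'.trans h1
      rw [hnk] at h3
      generalize Module.supportDim A (QuotSMulTop x (A ⧸ l.head.1.asIdeal)) = D at h3 ⊢
      induction D using WithBot.recBotCoe with
      | bot => simp at h3
      | coe D =>
        induction D using ENat.recTopCoe with
        | top => exact le_top
        | coe D =>
          have : k + 1 ≤ D + 1 := by exact_mod_cast h3
          exact_mod_cast Nat.le_of_succ_le_succ this
    obtain ⟨l₂, hl₂⟩ := le_krullDim_iff.1 h2
    have hsupp₂ : Module.support A (QuotSMulTop x (A ⧸ l.head.1.asIdeal)) =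
        PrimeSpectrum.zeroLocus (l.head.1.asIdeal : Set A) ∩ PrimeSpectrum.zeroLocus {x} := by
      rw [Module.support_quotSMulTop, hsuppM']
    obtain ⟨l₃, hl₃, hhead⟩ := exists_ltSeries_subtype
      (Y := Module.support A (QuotSMulTop x M)) l₂
      (fun i => by
        have := (Set.ext_iff.1 hsupp₂ _).1 (l₂ i).2
        rw [hsuppN]
        refine ⟨hup l.head.1 _ l.head.2 ?_, this.2⟩
        exact (PrimeSpectrum.mem_zeroLocus _ _).1 this.1)
    have hqQ : q ≤ l₃.head.1 := hqmin _ l₃.head.2
    have hQP : l.head.1 ≤ l₃.head.1 := by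
      rw [hhead]
      have := (Set.ext_iff.1 hsupp₂ _).1 l₂.head.2
      exact (PrimeSpectrum.mem_zeroLocus _ _).1 this.1
    rcases eq_or_lt_of_le hqQ with h | h
    · rw [h]
      exact hQP
    · exfalso
      have hlt : (⟨q, hq⟩ : ↥(Module.support A (QuotSMulTop x M))) < l₃.head := h
      have := hkY (l₃.cons ⟨q, hq⟩ hlt)
      rw [RelSeries.cons_length] at this
      omega

end Groth.Agent.Helper7.IntMod
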