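import Mathlib
import Groth.Prelude
import Groth.Agent.Helper6.ComplQuot
import Groth.Agent.S0548

/-!
# Quotients of regular local rings by regular sequences are complete intersections
-/

set_option autoImplicit false
set_option linter.style.haveILetI false
set_option linter.unusedSectionVars false

namespace Groth.Agent.Helper7.CIQuot

open IsLocalRing RingTheory.Sequence

universe u

/-- A regular local ring modulo a regular sequence is a complete intersection. -/
theorem isCompleteIntersection_quot (S : Type u) [CommRing S] [IsRegularLocalRing S] (rs : List S)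
    (hreg : IsRegular S rs) (hmem : ∀ r ∈ rs, r ∈ maximalIdeal S) (K : Ideal S)
    (hK : K = Ideal.ofList rs) [IsLocalRing (S ⧸ K)] :
    Pi1.IsCompleteIntersection (S ⧸ K) := by
  set B := AdicCompletion (maximalIdeal S) S with hB
  haveI : IsRegularLocalRing B := (Groth.Agent.S0548.result S).1 inferInstance
  set rs'' : List B := rs.map (algebraMap S B) with hrs''
  have hmem'' : ∀ r ∈ rs'', r ∈ maximalIdeal B := by
    intro r hr
    obtain ⟨a, ha, rfl⟩ := List.mem_map.1 hr
    rw [AdicCompletion.maximalIdeal_eq_map]
    exact Ideal.mem_map_of_mem _ (hmem a ha)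
  have hreg'' : IsRegular B rs'' :=
    (IsLocalRing.isRegular_iff_isWeaklyRegular_of_subset_maximalIdeal hmem'').2
      (hreg.1.of_flat)
  have hs : Function.Surjective (algebraMap S (S ⧸ K)) := Ideal.Quotient.mk_surjective
  refine ⟨B, inferInstance, inferInstance, rs'', hmem'', hreg'', ⟨?_⟩⟩
  have hker : (RingHom.ker (algebraMap S (S ⧸ K))).map (algebraMap S B) =
      Ideal.span {r | r ∈ rs''} := by
    rw [Ideal.Quotient.algebraMap_eq, Ideal.mk_ker, hK, Ideal.map_ofList]
  exact (Groth.Agent.Helper6.ComplQuot.quotEquiv hs).symm.trans (Ideal.quotEquivOfEq hker)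

end Groth.Agent.Helper7.CIQuot
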