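import Groth.Agent.Helper7.CKO6
import Groth.Agent.Helper2.CIConormal
import Groth.Agent.Helper2.CotTSmooth
set_option linter.style.haveILetI false
set_option linter.unusedSectionVars false
set_option linter.unusedVariables false
set_option autoImplicit false
open IsLocalRing RingTheory.Sequence
universe u
namespace Groth.Agent.Helper7.CKd
open Groth.Agent.Helper5.CIP

section WR

/-- elementwise characterization of weak regularity in a ring -/
theorem isWeaklyRegular_ring_iff {R : Type u} [CommRing R] (rs : List R) :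
    IsWeaklyRegular R rs ↔ ∀ i (h : i < rs.length), ∀ y : R,
      rs[i] * y ∈ Ideal.ofList (rs.take i) → y ∈ Ideal.ofList (rs.take i) := by
  have key : ∀ (I : Ideal R) (x : R),
      IsSMulRegular (R ⧸ (I • ⊤ : Submodule R R)) x ↔ ∀ y : R, x * y ∈ I → y ∈ I := by
    intro I x
    rw [isSMulRegular_quotient_iff_mem_of_smul_mem]
    have : (I • ⊤ : Submodule R R) = I := by rw [smul_eq_mul, Ideal.mul_top]
    rw [this]
    rfl
  constructor
  · intro h i hi
    exact (key _ _).mp (h.regular_mod_prev i hi)
  · intro h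
    exact ⟨fun i hi => (key _ _).mpr (h i hi)⟩

/-- weak regularity of a mapped list, elementwise. -/
theorem isWeaklyRegular_map_iff {B R : Type u} [CommRing B] [CommRing R] (φ : B →+* R)
    (rs : List B) :
    IsWeaklyRegular R (rs.map φ) ↔ ∀ i (h : i < rs.length), ∀ y : R,
      φ rs[i] * y ∈ (Ideal.ofList (rs.take i)).map φ →
        y ∈ (Ideal.ofList (rs.take i)).map φ := by
  rw [isWeaklyRegular_ring_iff]
  constructor
  · intro h i hi y hy
    have h1 := h i (by rw [List.length_map]; exact hi) y
    rw [List.getElem_map, ← List.map_take, ← Ideal.map_ofList] at h1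
    exact h1 hy
  · intro h i hi y hy
    have hi' : i < rs.length := by rw [List.length_map] at hi; exact hi
    rw [List.getElem_map, ← List.map_take, ← Ideal.map_ofList] at hy
    rw [← List.map_take, ← Ideal.map_ofList]
    exact h i hi' y hy

/-- list version of `isRegular_ofFn_of_dim`. -/
theorem isRegular_of_dim {R : Type u} [CommRing R] [IsRegularLocalRing R] (rs : List R)
    (hm : ∀ r ∈ rs, r ∈ maximalIdeal R)
    (hdim : ringKrullDim (R ⧸ Ideal.ofList rs) + rs.length = ringKrullDim R) :
    IsRegular R rs := by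
  have h1 := Groth.Agent.Helper2.CIConormal.isRegular_ofFn_of_dim (R := R) rs.get
    (fun i => hm _ (List.get_mem rs i))
    (by rw [Set.range_list_get]; exact hdim)
  rwa [List.ofFn_get] at h1

end WR

section spread

variable {B : Type u} [CommRing B]

/-- spreading out a colon condition from one prime to a basic open neighbourhood. -/
theorem colon_spread [IsNoetherianRing B] (J : Ideal B) (a : B) (Q : Ideal B) [Q.IsPrime]
    (h : ∀ y : Localization.AtPrime Q,
      algebraMap B (Localization.AtPrime Q) a * y ∈ J.map (algebraMap B (Localization.AtPrime Q)) →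
        y ∈ J.map (algebraMap B (Localization.AtPrime Q))) :
    ∃ f : B, f ∉ Q ∧ ∀ (Q' : Ideal B) [Q'.IsPrime], f ∉ Q' →
      ∀ y : Localization.AtPrime Q',
        algebraMap B (Localization.AtPrime Q') a * y ∈
            J.map (algebraMap B (Localization.AtPrime Q')) →
          y ∈ J.map (algebraMap B (Localization.AtPrime Q')) := by
  classical
  -- the colon ideal
  let C : Ideal B := Submodule.comap (LinearMap.lsmul B B a) J
  have hC : ∀ c, c ∈ C ↔ a * c ∈ J := fun c => Iff.rfl
  -- pointwise
  have h1 : ∀ c ∈ C, ∃ t : B, t ∉ Q ∧ t * c ∈ J := by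
    intro c hc
    have h2 : algebraMap B (Localization.AtPrime Q) c ∈
        J.map (algebraMap B (Localization.AtPrime Q)) := by
      apply h
      rw [← map_mul]
      exact Ideal.mem_map_of_mem _ ((hC c).mp hc)
    obtain ⟨m, hm, hmc⟩ := (IsLocalization.algebraMap_mem_map_algebraMap_iff Q.primeCompl
      (Localization.AtPrime Q) J c).mp h2
    exact ⟨m, hm, hmc⟩
  have key : ∀ s : Finset B, (∀ c ∈ s, c ∈ C) →
      ∃ f : B, f ∉ Q ∧ ∀ c ∈ Ideal.span (s : Set B), f * c ∈ J := by
    intro s
    induction s using Finset.induction_on with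
    | empty =>
      intro _
      refine ⟨1, fun h1 => Ideal.IsPrime.ne_top' ((Ideal.eq_top_iff_one Q).mpr h1), ?_⟩
      intro c hc
      rw [Finset.coe_empty, Ideal.span_empty, Ideal.mem_bot] at hc
      rw [hc, mul_zero]
      exact J.zero_mem
    | insert c₀ s hc₀ ih =>
      intro hs
      obtain ⟨f, hf, hfs⟩ := ih (fun c hc => hs c (Finset.mem_insert_of_mem hc))
      obtain ⟨t, ht, htc⟩ := h1 c₀ (hs c₀ (Finset.mem_insert_self _ _))
      refine ⟨t * f, fun h2 => ?_, ?_⟩
      · rcases Ideal.IsPrime.mem_or_mem inferInstance h2 with h3 | h3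
        · exact ht h3
        · exact hf h3
      · intro c hc
        rw [Finset.coe_insert, Ideal.mem_span_insert] at hc
        obtain ⟨x, z, hz, rfl⟩ := hc
        have e1 : t * f * (x * c₀ + z) = (f * x) * (t * c₀) + t * (f * z) := by ring
        rw [e1]
        exact J.add_mem (J.mul_mem_left _ htc) (J.mul_mem_left _ (hfs z hz))
  obtain ⟨s, hs⟩ := (isNoetherianRing_iff_ideal_fg B).mp inferInstance C
  obtain ⟨f, hf, hfs⟩ := key s (fun c hc => by
    rw [← hs]; exact Ideal.subset_span hc)
  rw [hs] at hfs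
  refine ⟨f, hf, ?_⟩
  intro Q' _ hfQ' y hy
  obtain ⟨⟨x, t⟩, hxt⟩ := IsLocalization.surj Q'.primeCompl y
  simp only at hxt
  have hu : IsUnit (algebraMap B (Localization.AtPrime Q') t) :=
    IsLocalization.map_units _ t
  have h3 : algebraMap B (Localization.AtPrime Q') (a * x) ∈
      J.map (algebraMap B (Localization.AtPrime Q')) := by
    rw [map_mul, ← hxt, ← mul_assoc]
    exact Ideal.mul_mem_right _ _ hy
  obtain ⟨m, hm, hmc⟩ := (IsLocalization.algebraMap_mem_map_algebraMap_iff Q'.primeCompl
    (Localization.AtPrime Q') J (a * x)).mp h3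
  have h4 : m * x ∈ C := by
    rw [hC]
    have : a * (m * x) = m * (a * x) := by ring
    rw [this]
    exact hmc
  have h5 : f * (m * x) ∈ J := hfs _ h4
  have h6 : algebraMap B (Localization.AtPrime Q') x ∈
      J.map (algebraMap B (Localization.AtPrime Q')) := by
    rw [IsLocalization.algebraMap_mem_map_algebraMap_iff Q'.primeCompl]
    refine ⟨f * m, ?_, by rw [mul_assoc]; exact h5⟩
    exact Q'.primeCompl.mul_mem hfQ' hm
  rw [← hxt] at h6
  exact (Ideal.mul_unit_mem_iff_mem _ hu).mp h6

end spread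

section spread2

variable {B : Type u} [CommRing B]

/-- uniform denominators for a finitely generated ideal. -/
theorem fin_spread [IsNoetherianRing B] (C J : Ideal B) (Q : Ideal B) [Q.IsPrime]
    (h1 : ∀ c ∈ C, ∃ t : B, t ∉ Q ∧ t * c ∈ J) :
    ∃ f : B, f ∉ Q ∧ ∀ c ∈ C, f * c ∈ J := by
  classical
  have key : ∀ s : Finset B, (∀ c ∈ s, c ∈ C) →
      ∃ f : B, f ∉ Q ∧ ∀ c ∈ Ideal.span (s : Set B), f * c ∈ J := by
    intro s
    induction s using Finset.induction_on with
    | empty =>
      intro _
      refine ⟨1, fun h1 => Ideal.IsPrime.ne_top' ((Ideal.eq_top_iff_one Q).mpr h1), ?_⟩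
      intro c hc
      rw [Finset.coe_empty, Ideal.span_empty, Ideal.mem_bot] at hc
      rw [hc, mul_zero]
      exact J.zero_mem
    | insert c₀ s hc₀ ih =>
      intro hs
      obtain ⟨f, hf, hfs⟩ := ih (fun c hc => hs c (Finset.mem_insert_of_mem hc))
      obtain ⟨t, ht, htc⟩ := h1 c₀ (hs c₀ (Finset.mem_insert_self _ _))
      refine ⟨t * f, fun h2 => ?_, ?_⟩
      · rcases Ideal.IsPrime.mem_or_mem inferInstance h2 with h3 | h3
        · exact ht h3
        · exact hf h3
      · intro c hc
        rw [Finset.coe_insert, Ideal.mem_span_insert] at hc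
        obtain ⟨x, z, hz, rfl⟩ := hc
        have e1 : t * f * (x * c₀ + z) = (f * x) * (t * c₀) + t * (f * z) := by ring
        rw [e1]
        exact J.add_mem (J.mul_mem_left _ htc) (J.mul_mem_left _ (hfs z hz))
  obtain ⟨s, hs⟩ := (isNoetherianRing_iff_ideal_fg B).mp inferInstance C
  obtain ⟨f, hf, hfs⟩ := key s (fun c hc => by
    rw [← hs]; exact Ideal.subset_span hc)
  rw [hs] at hfs
  exact ⟨f, hf, hfs⟩

/-- lifting a list of elements of an extended ideal, up to units. -/
theorem exists_lift_list (I : Ideal B) (Q : Ideal B) [Q.IsPrime]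
    (rs' : List (Localization.AtPrime Q))
    (h : ∀ r ∈ rs', r ∈ I.map (algebraMap B (Localization.AtPrime Q))) :
    ∃ rs : List B, (∀ a ∈ rs, a ∈ I) ∧ rs.length = rs'.length ∧
      Ideal.ofList (rs.map (algebraMap B (Localization.AtPrime Q))) = Ideal.ofList rs' := by
  induction rs' with
  | nil => exact ⟨[], by simp, rfl, by simp⟩
  | cons r t ih =>
    obtain ⟨rs, h1, h2, h3⟩ := ih (fun r' hr' => h r' (List.mem_cons_of_mem _ hr'))
    obtain ⟨⟨⟨a, ha⟩, s⟩, has⟩ := (IsLocalization.mem_map_algebraMap_iff Q.primeCompl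
      (Localization.AtPrime Q)).mp (h r List.mem_cons_self)
    simp only at has
    have hu : IsUnit (algebraMap B (Localization.AtPrime Q) s) := IsLocalization.map_units _ s
    refine ⟨a :: rs, ?_, by simp [h2], ?_⟩
    · intro x hx
      rcases List.mem_cons.mp hx with rfl | hx
      · exact ha
      · exact h1 x hx
    · rw [List.map_cons, Ideal.ofList_cons, Ideal.ofList_cons, h3, ← has]
      congr 1
      exact Ideal.span_singleton_mul_right_unit hu r

/-- spreading out weak regularity of a list. -/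
theorem list_spread [IsNoetherianRing B] (rs : List B) (Q : Ideal B) [Q.IsPrime]
    (h : IsWeaklyRegular (Localization.AtPrime Q)
      (rs.map (algebraMap B (Localization.AtPrime Q)))) :
    ∃ f : B, f ∉ Q ∧ ∀ (Q' : Ideal B) [Q'.IsPrime], f ∉ Q' →
      IsWeaklyRegular (Localization.AtPrime Q')
        (rs.map (algebraMap B (Localization.AtPrime Q'))) := by
  classical
  rw [isWeaklyRegular_map_iff] at h
  have h1 : ∀ i : Fin rs.length, ∃ f : B, f ∉ Q ∧ ∀ (Q' : Ideal B) [Q'.IsPrime], f ∉ Q' →
      ∀ y : Localization.AtPrime Q',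
        algebraMap B (Localization.AtPrime Q') rs[i] * y ∈
            (Ideal.ofList (rs.take i)).map (algebraMap B (Localization.AtPrime Q')) →
          y ∈ (Ideal.ofList (rs.take i)).map (algebraMap B (Localization.AtPrime Q')) :=
    fun i => colon_spread _ _ Q (h i i.2)
  choose f hf hf' using h1
  refine ⟨∏ i, f i, ?_, ?_⟩
  · intro hmem
    obtain ⟨i, _, hi⟩ := (Ideal.IsPrime.prod_mem_iff (hp := inferInstance)).mp hmem
    exact hf i hi
  · intro Q' _ hQ'
    rw [isWeaklyRegular_map_iff]
    intro i hi y hy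
    refine hf' ⟨i, hi⟩ Q' ?_ y hy
    intro hmem
    exact hQ' (Ideal.mem_of_dvd _ (Finset.dvd_prod_of_mem f (Finset.mem_univ _)) hmem)

end spread2

section spread3

variable {B : Type u} [CommRing B]

theorem map_le_maximalIdeal_of_le (I : Ideal B) (Q : Ideal B) [Q.IsPrime] (hIQ : I ≤ Q) :
    I.map (algebraMap B (Localization.AtPrime Q)) ≤ maximalIdeal (Localization.AtPrime Q) := by
  rw [Ideal.map_le_iff_le_comap]
  intro a ha
  rw [Ideal.mem_comap]
  exact (IsLocalization.AtPrime.to_map_mem_maximal_iff (Localization.AtPrime Q) Q a).2 (hIQ ha)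

/-- the locus where an ideal of a regular ring is generated by a regular sequence is open. -/
theorem genReg_spread [IsRegularRing B] (I : Ideal B) (Q : Ideal B) [Q.IsPrime] (hIQ : I ≤ Q)
    (h : GenReg (I.map (algebraMap B (Localization.AtPrime Q)))) :
    ∃ f : B, f ∉ Q ∧ ∀ (Q' : Ideal B) [Q'.IsPrime], I ≤ Q' → f ∉ Q' →
      GenReg (I.map (algebraMap B (Localization.AtPrime Q'))) := by
  obtain ⟨rs', hrs', hreg'⟩ := h
  have hdim := ringKrullDim_add_length_eq_ringKrullDim_of_isRegular rs' hreg'
  obtain ⟨rs, hrsI, hlen, hof⟩ := exists_lift_list I Q rs' (fun r hr => by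
    rw [← hrs']; exact Ideal.subset_span hr)
  have hmax := map_le_maximalIdeal_of_le I Q hIQ
  -- regularity of the lifted list at `Q`
  have hreg : IsRegular (Localization.AtPrime Q)
      (rs.map (algebraMap B (Localization.AtPrime Q))) := by
    apply isRegular_of_dim
    · intro r hr
      obtain ⟨a, ha, rfl⟩ := List.mem_map.1 hr
      exact hmax (Ideal.mem_map_of_mem _ (hrsI a ha))
    · rw [List.length_map, hlen, ← hdim]
      congr 1
      exact ringKrullDim_eq_of_ringEquiv (Ideal.quotEquivOfEq hof)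
  obtain ⟨f₂, hf₂, hf₂'⟩ := list_spread rs Q hreg.toIsWeaklyRegular
  -- generation spreads
  have hle : Ideal.ofList rs ≤ I := Ideal.span_le.mpr (fun a ha => hrsI a ha)
  have hmapQ : (Ideal.ofList rs).map (algebraMap B (Localization.AtPrime Q)) =
      I.map (algebraMap B (Localization.AtPrime Q)) := by
    rw [Ideal.map_ofList, hof, hrs']
  obtain ⟨f₁, hf₁, hf₁'⟩ := fin_spread I (Ideal.ofList rs) Q (by
    intro c hc
    have h2 : algebraMap B (Localization.AtPrime Q) c ∈
        (Ideal.ofList rs).map (algebraMap B (Localization.AtPrime Q)) := by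
      rw [hmapQ]; exact Ideal.mem_map_of_mem _ hc
    obtain ⟨m, hm, hmc⟩ := (IsLocalization.algebraMap_mem_map_algebraMap_iff Q.primeCompl
      (Localization.AtPrime Q) _ c).mp h2
    exact ⟨m, hm, hmc⟩)
  refine ⟨f₁ * f₂, fun h2 => ?_, ?_⟩
  · rcases Ideal.IsPrime.mem_or_mem inferInstance h2 with h3 | h3
    · exact hf₁ h3
    · exact hf₂ h3
  intro Q' _ hIQ' hfQ'
  have hf₁Q' : f₁ ∉ Q' := fun h3 => hfQ' (Q'.mul_mem_right _ h3)
  have hf₂Q' : f₂ ∉ Q' := fun h3 => hfQ' (Q'.mul_mem_left _ h3)
  have hmapQ' : (Ideal.ofList rs).map (algebraMap B (Localization.AtPrime Q')) =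
      I.map (algebraMap B (Localization.AtPrime Q')) := by
    refine le_antisymm (Ideal.map_mono hle) ?_
    rw [Ideal.map_le_iff_le_comap]
    intro g hg
    rw [Ideal.mem_comap, IsLocalization.algebraMap_mem_map_algebraMap_iff Q'.primeCompl]
    exact ⟨f₁, hf₁Q', hf₁' g hg⟩
  have hmax' := map_le_maximalIdeal_of_le I Q' hIQ'
  refine ⟨rs.map (algebraMap B (Localization.AtPrime Q')), ?_, ?_⟩
  · rw [← Ideal.map_ofList, hmapQ']
  · apply IsRegular.of_isWeaklyRegular_of_mem_maximalIdeal
    · intro r hr
      obtain ⟨a, ha, rfl⟩ := List.mem_map.1 hr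
      exact hmax' (Ideal.mem_map_of_mem _ (hrsI a ha))
    · exact hf₂' Q' hf₂Q'

end spread3

section CIinv

/-- being a complete intersection is invariant under ring isomorphisms. -/
theorem isCI_of_ringEquiv {A A' : Type u} [CommRing A] [CommRing A'] [IsLocalRing A]
    [IsLocalRing A'] [IsNoetherianRing A] [IsNoetherianRing A'] (e : A ≃+* A')
    (h : Pi1.IsCompleteIntersection A) : Pi1.IsCompleteIntersection A' := by
  obtain ⟨B, _, _, rs, hm, hreg, ⟨ε⟩⟩ := h
  obtain ⟨πh, hsurj, hker⟩ := exists_cpl_surj e.toRingHom e.surjective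
  have hk : RingHom.ker e.toRingHom = ⊥ := (RingHom.injective_iff_ker_eq_bot _).mp e.injective
  rw [hk, Ideal.map_bot] at hker
  have hinj : Function.Injective πh := (RingHom.injective_iff_ker_eq_bot _).mpr hker
  let E : AdicCompletion (maximalIdeal A) A ≃+* AdicCompletion (maximalIdeal A') A' :=
    RingEquiv.ofBijective πh ⟨hinj, hsurj⟩
  exact ⟨B, inferInstance, inferInstance, rs, hm, hreg, ⟨E.symm.trans ε⟩⟩

/-- regular local rings are complete intersections. -/
theorem isCI_of_regular (A : Type u) [CommRing A] [IsRegularLocalRing A] :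
    Pi1.IsCompleteIntersection A := by
  haveI := isRegularLocalRing_cpl A
  refine ⟨AdicCompletion (maximalIdeal A) A, inferInstance, inferInstance, [], by simp,
    IsRegular.nil _ _, ⟨?_⟩⟩
  have h0 : Ideal.span {r : AdicCompletion (maximalIdeal A) A | r ∈ ([] : List _)} = ⊥ := by
    simp
  exact (RingEquiv.quotientBot _).symm.trans (Ideal.quotEquivOfEq h0.symm)

end CIinv

section locus

variable {B : Type u} [CommRing B]

/-- complete intersection at a prime of `B/I` in terms of the ideal `I B_Q`. -/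
theorem isCI_localization_quot_iff [IsRegularRing B] (I : Ideal B) (q : Ideal (B ⧸ I)) [q.IsPrime]
    (Q : Ideal B) [Q.IsPrime] (hQ : Q = q.comap (algebraMap B (B ⧸ I))) :
    Pi1.IsCompleteIntersection (Localization.AtPrime q) ↔
      GenReg (I.map (algebraMap B (Localization.AtPrime Q))) := by
  obtain ⟨e⟩ := Groth.Agent.Helper2.CotTSmooth.exists_ringEquiv' (R := B) (B := B ⧸ I)
    Ideal.Quotient.mk_surjective Q q hQ
  have hker : RingHom.ker (algebraMap B (B ⧸ I)) = I := by
    rw [Ideal.Quotient.algebraMap_eq, Ideal.mk_ker]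
  rw [hker] at e
  have hIQ : I ≤ Q := by
    intro x hx
    rw [hQ, Ideal.mem_comap, Ideal.Quotient.algebraMap_eq, Ideal.Quotient.eq_zero_iff_mem.2 hx]
    exact Ideal.zero_mem _
  have hne : I.map (algebraMap B (Localization.AtPrime Q)) ≠ ⊤ := by
    intro htop
    have := map_le_maximalIdeal_of_le I Q hIQ
    rw [htop] at this
    exact (maximalIdeal.isMaximal _).ne_top (top_le_iff.1 this)
  haveI : IsLocalRing (Localization.AtPrime Q ⧸ I.map (algebraMap B (Localization.AtPrime Q))) :=
    e.symm.isLocalRing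
  haveI : IsNoetherianRing (Localization.AtPrime q) :=
    IsLocalization.isNoetherianRing q.primeCompl _ inferInstance
  refine Iff.trans ?_ (s2166 _ hne)
  exact ⟨isCI_of_ringEquiv e.symm, isCI_of_ringEquiv e⟩

end locus

end Groth.Agent.Helper7.CKd
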