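import Mathlib
import Groth.Prelude
import Groth.Agent.Helper7.CKO7
import Groth.Agent.Helper2.FlatFibre
set_option linter.style.haveILetI false
set_option linter.unusedSectionVars false
set_option linter.unusedVariables false
set_option autoImplicit false
open IsLocalRing TensorProduct Function RingTheory.Sequence
universe u
namespace Groth.Agent.Helper7.CKd

section transReg

/-- injectivity modulo an ideal of an injective map with flat cokernel. -/
theorem mem_smul_top_of_flat_coker' {R M N P : Type u} [CommRing R] [AddCommGroup M] [Module R M]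
    [AddCommGroup N] [Module R N] [AddCommGroup P] [Module R P] (I : Ideal R)
    (u : M →ₗ[R] N) (π : N →ₗ[R] P)
    (hu : Injective u) (hπ : Surjective π) (hex : Function.Exact u π) [Module.Flat R P]
    (m : M) (hm : u m ∈ I • (⊤ : Submodule R N)) : m ∈ I • (⊤ : Submodule R M) := by
  have hinj := LinearMap.lTensor_injective_of_exact_of_flat π hπ u hu hex (R ⧸ I)
  have key : ∀ (X : Type u) [AddCommGroup X] [Module R X] (x : X),
      x ∈ I • (⊤ : Submodule R X) ↔ (1 : R ⧸ I) ⊗ₜ[R] x = 0 := by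
    intro X _ _ x
    rw [← (TensorProduct.quotTensorEquivQuotSMul X I).map_eq_zero_iff,
      ← map_one (Ideal.Quotient.mk I), TensorProduct.quotTensorEquivQuotSMul_mk_tmul, one_smul,
      Submodule.Quotient.mk_eq_zero]
  rw [key] at hm ⊢
  apply hinj
  rw [LinearMap.lTensor_tmul, hm, map_zero]

variable {A C : Type u} [CommRing A] [CommRing C] [Algebra A C]

theorem mk_mem_smul_top_iff (𝔞 : Ideal A) (I : Ideal C) (c : C) :
    (Ideal.Quotient.mk I c) ∈ (𝔞 • ⊤ : Submodule A (C ⧸ I)) ↔
      c ∈ I ⊔ 𝔞.map (algebraMap A C) := by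
  have hsurj : Function.Surjective (Ideal.Quotient.mkₐ A I).toLinearMap :=
    Ideal.Quotient.mk_surjective
  have h1 : (𝔞 • ⊤ : Submodule A (C ⧸ I)) =
      Submodule.map (Ideal.Quotient.mkₐ A I).toLinearMap (𝔞 • ⊤ : Submodule A C) := by
    rw [Submodule.map_smul'', Submodule.map_top, LinearMap.range_eq_top.mpr hsurj]
  rw [h1, Ideal.smul_top_eq_map, Submodule.mem_map]
  constructor
  · rintro ⟨c', hc', h⟩
    have hc'' : c' ∈ 𝔞.map (algebraMap A C) := hc'
    have h2 : c - c' ∈ I := by
      rw [← Ideal.Quotient.eq]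
      exact h.symm
    have : c = (c - c') + c' := by ring
    rw [this]
    exact Submodule.add_mem_sup h2 hc''
  · intro hc
    obtain ⟨i, hi, y, hy, rfl⟩ := Submodule.mem_sup.mp hc
    refine ⟨y, hy, ?_⟩
    show Ideal.Quotient.mk I y = Ideal.Quotient.mk I (i + y)
    rw [map_add, Ideal.Quotient.eq_zero_iff_mem.mpr hi, zero_add]

theorem mk_mem_ideal_smul_top_iff (K I : Ideal C) (c : C) :
    (Ideal.Quotient.mk I c) ∈ (K • ⊤ : Submodule C (C ⧸ I)) ↔ c ∈ I ⊔ K := by
  have := mk_mem_smul_top_iff (A := C) K I c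
  rwa [Algebra.algebraMap_self, Ideal.map_id] at this

/-- Lemma A: regularity on the fibres from flatness of the quotient. -/
theorem fibre_regular_of_flat (𝔞 : Ideal A) (I : Ideal C) (r : C) (hr : ∀ c, r * c ∈ I → c ∈ I)
    [Module.Flat A (C ⧸ (I ⊔ Ideal.span {r}))] :
    ∀ c, r * c ∈ I ⊔ 𝔞.map (algebraMap A C) → c ∈ I ⊔ 𝔞.map (algebraMap A C) := by
  intro c hc
  let u : (C ⧸ I) →ₗ[A] (C ⧸ I) := (LinearMap.lsmul C (C ⧸ I) r).restrictScalars A
  let π : (C ⧸ I) →ₗ[A] (C ⧸ (I ⊔ Ideal.span {r})) :=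
    (Ideal.Quotient.factorₐ A (le_sup_left : I ≤ I ⊔ Ideal.span {r})).toLinearMap
  have hu_apply : ∀ x : C, u (Ideal.Quotient.mk I x) = Ideal.Quotient.mk I (r * x) := fun x => rfl
  have hu : Injective u := by
    rw [← LinearMap.ker_eq_bot, eq_bot_iff]
    intro x hx
    obtain ⟨x, rfl⟩ := Ideal.Quotient.mk_surjective x
    rw [LinearMap.mem_ker, hu_apply, Ideal.Quotient.eq_zero_iff_mem] at hx
    rw [Submodule.mem_bot, Ideal.Quotient.eq_zero_iff_mem]
    exact hr x hx
  have hπ : Surjective π :=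
      Ideal.Quotient.factor_surjective (le_sup_left : I ≤ I ⊔ Ideal.span {r})
  have hex : Function.Exact u π := by
    intro z
    obtain ⟨z, rfl⟩ := Ideal.Quotient.mk_surjective z
    have hπz : π (Ideal.Quotient.mk I z) = Ideal.Quotient.mk _ z := rfl
    rw [hπz, Ideal.Quotient.eq_zero_iff_mem]
    constructor
    · intro hz
      obtain ⟨i, hi, y, hy, rfl⟩ := Submodule.mem_sup.mp hz
      obtain ⟨w, rfl⟩ := Ideal.mem_span_singleton'.mp hy
      refine ⟨Ideal.Quotient.mk I w, ?_⟩
      rw [hu_apply, map_add, Ideal.Quotient.eq_zero_iff_mem.mpr hi, zero_add, mul_comm]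
    · rintro ⟨w, hw⟩
      obtain ⟨w, rfl⟩ := Ideal.Quotient.mk_surjective w
      rw [hu_apply, Ideal.Quotient.eq] at hw
      have : z = r * w - (r * w - z) := by ring
      rw [this]
      exact Ideal.sub_mem _ (Ideal.mem_sup_right (Ideal.mul_mem_right _ _
        (Ideal.mem_span_singleton_self r))) (Ideal.mem_sup_left hw)
  have := mem_smul_top_of_flat_coker' 𝔞 u π hu hπ hex (Ideal.Quotient.mk I c) (by
    rw [hu_apply, mk_mem_smul_top_iff]; exact hc)
  exact (mk_mem_smul_top_iff 𝔞 I c).mp this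

/-- Lemma B: lifting regularity and flatness from the closed fibre. -/
theorem regular_and_flat_of_fibre_regular [IsLocalRing A] [IsLocalRing C] [IsNoetherianRing A]
    [IsNoetherianRing C] [IsLocalHom (algebraMap A C)] (I : Ideal C) [Module.Flat A (C ⧸ I)]
    (r : C)
    (hr : ∀ c, r * c ∈ I ⊔ (maximalIdeal A).map (algebraMap A C) →
      c ∈ I ⊔ (maximalIdeal A).map (algebraMap A C)) :
    (∀ c, r * c ∈ I → c ∈ I) ∧ Module.Flat A (C ⧸ (I ⊔ Ideal.span {r})) := by
  have hf : ∀ z : C ⧸ I,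
      r • z ∈ ((maximalIdeal A).map (algebraMap A C) • ⊤ : Submodule C (C ⧸ I)) →
      z ∈ ((maximalIdeal A).map (algebraMap A C) • ⊤ : Submodule C (C ⧸ I)) := by
    intro z hz
    obtain ⟨c, rfl⟩ := Ideal.Quotient.mk_surjective z
    rw [mk_mem_ideal_smul_top_iff]
    apply hr
    rw [← mk_mem_ideal_smul_top_iff]
    exact hz
  constructor
  · have hreg := Groth.Agent.Helper2.FlatFibre.regular (A := A) (N := C ⧸ I) r hf
    intro c hc
    rw [← Ideal.Quotient.eq_zero_iff_mem] at hc ⊢
    apply hreg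
    show r • (Ideal.Quotient.mk I c) = r • (0 : C ⧸ I)
    rw [smul_zero]
    exact hc
  · let π : (C ⧸ I) →ₗ[C] (C ⧸ (I ⊔ Ideal.span {r})) :=
      (Ideal.Quotient.factorₐ C (le_sup_left : I ≤ I ⊔ Ideal.span {r})).toLinearMap
    have hπ : Surjective π :=
      Ideal.Quotient.factor_surjective (le_sup_left : I ≤ I ⊔ Ideal.span {r})
    have hex : Function.Exact (LinearMap.lsmul C (C ⧸ I) r) π := by
      intro z
      obtain ⟨z, rfl⟩ := Ideal.Quotient.mk_surjective z
      have hπz : π (Ideal.Quotient.mk I z) = Ideal.Quotient.mk _ z := rfl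
      rw [hπz, Ideal.Quotient.eq_zero_iff_mem]
      constructor
      · intro hz
        obtain ⟨i, hi, y, hy, rfl⟩ := Submodule.mem_sup.mp hz
        obtain ⟨w, rfl⟩ := Ideal.mem_span_singleton'.mp hy
        refine ⟨Ideal.Quotient.mk I w, ?_⟩
        show Ideal.Quotient.mk I (r * w) = _
        rw [map_add, Ideal.Quotient.eq_zero_iff_mem.mpr hi, zero_add, mul_comm]
      · rintro ⟨w, hw⟩
        obtain ⟨w, rfl⟩ := Ideal.Quotient.mk_surjective w
        have hw' : Ideal.Quotient.mk I (r * w) = Ideal.Quotient.mk I z := hw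
        rw [Ideal.Quotient.eq] at hw'
        have : z = r * w - (r * w - z) := by ring
        rw [this]
        exact Ideal.sub_mem _ (Ideal.mem_sup_right (Ideal.mul_mem_right _ _
          (Ideal.mem_span_singleton_self r))) (Ideal.mem_sup_left hw')
    exact Groth.Agent.Helper2.FlatFibre.flat_quot (A := A) (N := C ⧸ I) r hf π hπ hex

end transReg

section transRegList

variable {A C : Type u} [CommRing A] [CommRing C] [Algebra A C]

theorem ofList_take_succ (rs : List C) (i : ℕ) (h : i < rs.length) :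
    Ideal.ofList (rs.take (i + 1)) = Ideal.ofList (rs.take i) ⊔ Ideal.span {rs[i]} := by
  rw [List.take_succ_eq_append_getElem h, Ideal.ofList_append, Ideal.ofList_singleton]

theorem flat_quot_of_eq (I K : Ideal C) (h : K = I) [Module.Flat A (C ⧸ I)] :
    Module.Flat A (C ⧸ K) := by
  subst h; infer_instance

/-- Lemma D. -/
theorem fibre_regular_of_transReg (𝔞 : Ideal A) (rs : List C) (hw : IsWeaklyRegular C rs)
    (hflat : ∀ j : ℕ, j ≤ rs.length → Module.Flat A (C ⧸ Ideal.ofList (rs.take j))) :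
    ∀ i (h : i < rs.length), ∀ c : C,
      rs[i] * c ∈ Ideal.ofList (rs.take i) ⊔ 𝔞.map (algebraMap A C) →
        c ∈ Ideal.ofList (rs.take i) ⊔ 𝔞.map (algebraMap A C) := by
  intro i h
  rw [isWeaklyRegular_ring_iff] at hw
  haveI : Module.Flat A (C ⧸ (Ideal.ofList (rs.take i) ⊔ Ideal.span {rs[i]})) := by
    haveI := hflat (i + 1) h
    exact flat_quot_of_eq _ _ (ofList_take_succ rs i h).symm
  exact fibre_regular_of_flat 𝔞 _ rs[i] (hw i h)

/-- Lemma C. -/
theorem transReg_of_fibre_regular [IsLocalRing A] [IsLocalRing C] [IsNoetherianRing A]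
    [IsNoetherianRing C] [IsLocalHom (algebraMap A C)] [Module.Flat A C] (rs : List C)
    (h : ∀ i (h : i < rs.length), ∀ c : C,
      rs[i] * c ∈ Ideal.ofList (rs.take i) ⊔ (maximalIdeal A).map (algebraMap A C) →
        c ∈ Ideal.ofList (rs.take i) ⊔ (maximalIdeal A).map (algebraMap A C)) :
    IsWeaklyRegular C rs ∧
      ∀ j : ℕ, j ≤ rs.length → Module.Flat A (C ⧸ Ideal.ofList (rs.take j)) := by
  have hflat : ∀ j : ℕ, j ≤ rs.length → Module.Flat A (C ⧸ Ideal.ofList (rs.take j)) := by
    intro j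
    induction j with
    | zero =>
      intro _
      have h0 : Ideal.ofList (rs.take 0) = ⊥ := by simp
      exact Module.Flat.of_linearEquiv
        ((Submodule.quotEquivOfEqBot _ h0).restrictScalars A)
    | succ j ih =>
      intro hj
      haveI := ih (Nat.le_of_succ_le hj)
      have hj' : j < rs.length := hj
      have := (regular_and_flat_of_fibre_regular (A := A) _ rs[j] (h j hj')).2
      exact flat_quot_of_eq _ _ (ofList_take_succ rs j hj')
  refine ⟨?_, hflat⟩
  rw [isWeaklyRegular_ring_iff]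
  intro i hi
  haveI := hflat i hi.le
  exact (regular_and_flat_of_fibre_regular (A := A) _ rs[i] (h i hi)).1

/-- flatness of `C/J` gives `𝔞C ∩ J = 𝔞J`. -/
theorem mem_map_mul_of_flat (𝔞 : Ideal A) (J : Ideal C) [Module.Flat A (C ⧸ J)] (y : C)
    (hyJ : y ∈ J) (hy : y ∈ 𝔞.map (algebraMap A C)) : y ∈ 𝔞.map (algebraMap A C) * J := by
  let u : ↥J →ₗ[A] C := J.subtype.restrictScalars A
  let π : C →ₗ[A] C ⧸ J := (Ideal.Quotient.mkₐ A J).toLinearMap
  have hu : Injective u := Subtype.val_injective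
  have hπ : Surjective π := Ideal.Quotient.mk_surjective
  have hex : Function.Exact u π := by
    intro c
    show Ideal.Quotient.mk J c = 0 ↔ _
    rw [Ideal.Quotient.eq_zero_iff_mem]
    constructor
    · intro hc; exact ⟨⟨c, hc⟩, rfl⟩
    · rintro ⟨⟨c', hc'⟩, rfl⟩; exact hc'
  have hm : u ⟨y, hyJ⟩ ∈ 𝔞 • (⊤ : Submodule A C) := by
    rw [Ideal.smul_top_eq_map]; exact hy
  have := mem_smul_top_of_flat_coker' 𝔞 u π hu hπ hex ⟨y, hyJ⟩ hm
  have key : ∀ m : ↥J, m ∈ 𝔞 • (⊤ : Submodule A ↥J) →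
      (m : C) ∈ 𝔞.map (algebraMap A C) * J := by
    intro m hm
    refine Submodule.smul_induction_on hm ?_ ?_
    · intro a ha n _
      have : ((a • n : ↥J) : C) = algebraMap A C a * (n : C) := by
        rw [Submodule.coe_smul_of_tower, Algebra.smul_def]
      rw [this]
      exact Ideal.mul_mem_mul (Ideal.mem_map_of_mem _ ha) n.2
    · intro x z hx hz
      rw [Submodule.coe_add]
      exact Ideal.add_mem _ hx hz
  exact key _ this

theorem exists_lift_list_of_mem_map {R S : Type u} [CommRing R] [CommRing S] (φ : R →+* S)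
    (hφ : Surjective φ) (J : Ideal R) (rs' : List S) (h : ∀ r ∈ rs', r ∈ J.map φ) :
    ∃ rs : List R, (∀ r ∈ rs, r ∈ J) ∧ rs.map φ = rs' := by
  induction rs' with
  | nil => exact ⟨[], by simp, rfl⟩
  | cons r t ih =>
    obtain ⟨rs, h1, h2⟩ := ih (fun x hx => h x (List.mem_cons_of_mem _ hx))
    obtain ⟨a, ha, rfl⟩ := (Ideal.mem_map_iff_of_surjective φ hφ).mp (h r List.mem_cons_self)
    refine ⟨a :: rs, ?_, by rw [List.map_cons, h2]⟩
    intro x hx
    rcases List.mem_cons.mp hx with rfl | hx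
    · exact ha
    · exact h1 x hx

end transRegList

section transRegMain

theorem s5068 (A C B : Type u) [CommRing A] [IsLocalRing A]
    [IsNoetherianRing A] [CommRing C] [IsLocalRing C] [IsNoetherianRing C] [Algebra A C]
    [IsLocalHom (algebraMap A C)]
    [Module.Flat A C] (hreg : IsRegularLocalRing (EGA4.FibRing A C))
    [CommRing B] [IsLocalRing B] [Algebra C B] [Algebra A B] [IsScalarTower A C B]
    [IsLocalHom (algebraMap A B)]
    (hsurj : Function.Surjective (algebraMap C B)) :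
    (∃ rs : List C, Ideal.ofList rs = RingHom.ker (algebraMap C B) ∧
        RegImm.IsTransRegularSeq A C rs) ↔
      (Module.Flat A B ∧ Pi1.IsCompleteIntersection (EGA4.FibRing A B)) := by
  haveI := hreg
  set J : Ideal C := RingHom.ker (algebraMap C B) with hJ
  set mC : Ideal C := (maximalIdeal A).map (algebraMap A C) with hmC
  let φ : C →+* EGA4.FibRing A C := Ideal.Quotient.mk mC
  have hφ : Surjective φ := Ideal.Quotient.mk_surjective
  set Jb : Ideal (EGA4.FibRing A C) := J.map φ with hJb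
  haveI : IsNoetherianRing B := isNoetherianRing_of_surjective C B (algebraMap C B) hsurj
  have hmBB : EGA4.mB A B = mC.map (algebraMap C B) := by
    rw [hmC, Ideal.map_map, ← IsScalarTower.algebraMap_eq]
  let ψ : C →+* EGA4.FibRing A B := (Ideal.Quotient.mk (EGA4.mB A B)).comp (algebraMap C B)
  have hψ : Surjective ψ := Ideal.Quotient.mk_surjective.comp hsurj
  have hkerψ : RingHom.ker ψ = mC ⊔ J := by
    ext x
    rw [RingHom.mem_ker, RingHom.comp_apply, Ideal.Quotient.eq_zero_iff_mem, hmBB,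
      ← Ideal.mem_comap, Ideal.comap_map_of_surjective _ hsurj, ← RingHom.ker_eq_comap_bot]
  let eR : (EGA4.FibRing A C ⧸ Jb) ≃+* EGA4.FibRing A B :=
    (DoubleQuot.quotQuotEquivQuotSup mC J).trans
      ((Ideal.quotEquivOfEq hkerψ.symm).trans (RingHom.quotientKerEquivOfSurjective hψ))
  haveI : IsLocalRing (EGA4.FibRing A B) :=
    IsLocalRing.of_surjective' (Ideal.Quotient.mk _) Ideal.Quotient.mk_surjective
  haveI : Nontrivial (EGA4.FibRing A C ⧸ Jb) := eR.toEquiv.nontrivial
  haveI : IsLocalRing (EGA4.FibRing A C ⧸ Jb) :=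
    IsLocalRing.of_surjective' (Ideal.Quotient.mk _) Ideal.Quotient.mk_surjective
  have hJbne : Jb ≠ ⊤ := Ideal.Quotient.nontrivial_iff.mp inferInstance
  let eA : (C ⧸ J) ≃ₗ[A] B :=
    (Ideal.quotientKerAlgEquivOfSurjective (f := IsScalarTower.toAlgHom A C B) hsurj).toLinearEquiv
  constructor
  · rintro ⟨rs, hrs, hw, hflat⟩
    haveI hflatJ : Module.Flat A (C ⧸ J) := by
      haveI := hflat rs.length le_rfl
      exact flat_quot_of_eq (Ideal.ofList (rs.take rs.length)) J (by
        rw [List.take_length]; exact hrs.symm)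
    refine ⟨Module.Flat.of_linearEquiv eA.symm, ?_⟩
    have hfib := fibre_regular_of_transReg (maximalIdeal A) rs hw hflat
    have hwreg : IsWeaklyRegular (EGA4.FibRing A C) (rs.map φ) := by
      rw [isWeaklyRegular_map_iff]
      intro i hi y hy
      obtain ⟨c, rfl⟩ := hφ y
      rw [← map_mul, Ideal.mem_quotient_iff_mem_sup] at hy
      rw [Ideal.mem_quotient_iff_mem_sup]
      exact hfib i hi c hy
    have hof : Ideal.ofList (rs.map φ) = Jb := by rw [← Ideal.map_ofList, hrs]
    have hregular : IsRegular (EGA4.FibRing A C) (rs.map φ) := ⟨hwreg, by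
      rw [hof, smul_eq_mul, Ideal.mul_top]; exact hJbne.symm⟩
    have hci := (s2166 Jb hJbne).mpr ⟨rs.map φ, hof, hregular⟩
    exact isCI_of_ringEquiv eR hci
  · rintro ⟨hfl, hci⟩
    haveI := hfl
    haveI hflatJ : Module.Flat A (C ⧸ J) := Module.Flat.of_linearEquiv eA
    have hci' : Pi1.IsCompleteIntersection (EGA4.FibRing A C ⧸ Jb) :=
      isCI_of_ringEquiv eR.symm hci
    obtain ⟨rs', hrs', hreg'⟩ := (s2166 Jb hJbne).mp hci'
    obtain ⟨rs, hrsJ, hmap⟩ := exists_lift_list_of_mem_map φ hφ J rs' (fun r hr => by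
      rw [← hJb, ← hrs']; exact Ideal.subset_span hr)
    subst hmap
    have hw' := (isWeaklyRegular_map_iff φ rs).mp hreg'.1
    have hfib : ∀ i (h : i < rs.length), ∀ c : C,
        rs[i] * c ∈ Ideal.ofList (rs.take i) ⊔ mC → c ∈ Ideal.ofList (rs.take i) ⊔ mC := by
      intro i hi c hc
      have := hw' i hi (φ c) (by
        rw [← map_mul, Ideal.mem_quotient_iff_mem_sup]; exact hc)
      rwa [Ideal.mem_quotient_iff_mem_sup] at this
    obtain ⟨hw, hflat⟩ := transReg_of_fibre_regular (A := A) rs hfib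
    refine ⟨rs, ?_, hw, hflat⟩
    have hIJ : Ideal.ofList rs ≤ J := Ideal.span_le.mpr hrsJ
    apply le_antisymm hIJ
    have hJle : J ≤ Ideal.ofList rs ⊔ maximalIdeal C • J := by
      intro x hx
      have h1 : φ x ∈ Jb := Ideal.mem_map_of_mem φ hx
      rw [← hrs', ← Ideal.map_ofList, Ideal.mem_quotient_iff_mem_sup] at h1
      obtain ⟨i, hi, y, hy, rfl⟩ := Submodule.mem_sup.mp h1
      have hyJ : y ∈ J := by
        have := J.sub_mem hx (hIJ hi)
        simpa using this
      have := mem_map_mul_of_flat (maximalIdeal A) J y hyJ hy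
      refine Submodule.add_mem_sup hi ?_
      rw [smul_eq_mul]
      exact Ideal.mul_mono_left (IsLocalRing.map_maximalIdeal_le (algebraMap A C)) this
    exact Submodule.le_of_le_smul_of_le_jacobson_bot (IsNoetherian.noetherian J)
      (by rw [IsLocalRing.jacobson_eq_maximalIdeal ⊥ bot_ne_top]) hJle

end transRegMain

end Groth.Agent.Helper7.CKd
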