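import Groth.Agent.Helper7.CKO8
set_option linter.style.haveILetI false
set_option linter.unusedSectionVars false
set_option linter.unusedVariables false
set_option autoImplicit false
open IsLocalRing RingTheory.Sequence
universe u
namespace Groth.Agent.Helper7.CKd
open Groth.Agent.Helper5.CIP

section muflat

variable (R S : Type u) [CommRing R] [CommRing S] [IsLocalRing R]
    [IsNoetherianRing R] [IsLocalRing S] [IsNoetherianRing S] [Algebra R S]

/-- a member of a minimal generating set has only non-unit coefficients in relations. -/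
theorem coeff_mem_maximalIdeal_of_min (K : Ideal R) (t : Finset R)
    (hcard : t.card = K.spanFinrank) (hspan : Ideal.span (t : Set R) = K)
    (c : t → R) (hrel : ∑ i : t, (i : R) * c i = 0) (i₀ : t) : c i₀ ∈ maximalIdeal R := by
  classical
  by_contra hnm
  have hu : IsUnit (c i₀) := by
    by_contra h
    exact hnm ((mem_maximalIdeal _).mpr h)
  obtain ⟨u, hu⟩ := hu
  -- `i₀` is in the span of the others
  have h1 : (i₀ : R) ∈ Ideal.span ((t.erase i₀ : Finset R) : Set R) := by
    obtain ⟨T, hT⟩ : ∃ T : Ideal R, T = Ideal.span ((t.erase i₀ : Finset R) : Set R) := ⟨_, rfl⟩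
    rw [← hT]
    have h2 : (i₀ : R) * c i₀ = - ∑ i ∈ Finset.univ.erase i₀, (i : R) * c i := by
      rw [← Finset.add_sum_erase _ _ (Finset.mem_univ i₀)] at hrel
      exact eq_neg_of_add_eq_zero_left hrel
    have h3 : (i₀ : R) = (↑u⁻¹ : R) * ((i₀ : R) * c i₀) := by
      rw [← hu, mul_comm (i₀ : R), ← mul_assoc, Units.inv_mul, one_mul]
    rw [h3, h2]
    refine Ideal.mul_mem_left _ _ (Ideal.neg_mem_iff _ |>.mpr ?_)
    refine Ideal.sum_mem _ (fun i hi => Ideal.mul_mem_right _ _ ?_)
    rw [hT]
    refine Ideal.subset_span ?_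
    rw [Finset.mem_coe, Finset.mem_erase]
    refine ⟨fun h => ?_, i.2⟩
    exact (Finset.mem_erase.mp hi).1 (Subtype.ext h)
  have h4 : Ideal.span ((t.erase i₀ : Finset R) : Set R) = K := by
    apply le_antisymm
    · rw [← hspan]
      exact Ideal.span_mono (by rw [Finset.coe_subset]; exact Finset.erase_subset _ _)
    · rw [← hspan, Ideal.span_le]
      intro x hx
      by_cases hxi : x = i₀
      · rw [hxi]; exact h1
      · exact Ideal.subset_span (by rw [Finset.mem_coe, Finset.mem_erase]; exact ⟨hxi, hx⟩)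
  have h5 : K.spanFinrank ≤ (t.erase i₀).card := by
    rw [← h4]
    have := Submodule.spanFinrank_span_le_ncard_of_finite (R := R)
      (Finset.finite_toSet (t.erase (i₀ : R)))
    rwa [Set.ncard_coe_finset] at this
  rw [Finset.card_erase_of_mem i₀.2, ← hcard] at h5
  have : 0 < t.card := Finset.card_pos.mpr ⟨i₀, i₀.2⟩
  omega

end muflat

section muflat2

variable (R S : Type u) [CommRing R] [CommRing S] [IsLocalRing R]
    [IsNoetherianRing R] [IsLocalRing S] [IsNoetherianRing S] [Algebra R S]

/-- the minimal number of generators does not drop along a flat local homomorphism. -/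
theorem spanFinrank_le_map_of_flat [Module.Flat R S] [IsLocalHom (algebraMap R S)] (K : Ideal R) :
    K.spanFinrank ≤ (K.map (algebraMap R S)).spanFinrank := by
  classical
  obtain ⟨t, hcard, hspan⟩ :=
    Submodule.FG.exists_span_finset_card_eq_spanFinrank K.fg_of_isNoetherianRing
  have hspan' : Ideal.span (t : Set R) = K := hspan
  obtain ⟨J, hJ⟩ : ∃ J : Ideal S, J = K.map (algebraMap R S) := ⟨_, rfl⟩
  rw [← hJ]
  have hJspan : J = Submodule.span S (Set.range (fun i : t => algebraMap R S i)) := by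
    rw [hJ, ← hspan', Ideal.map_span]
    congr 1
    ext x
    simp
  have hmemJ : ∀ i : t, algebraMap R S i ∈ J := fun i => by
    rw [hJ]; exact Ideal.mem_map_of_mem _ (by rw [← hspan']; exact Ideal.subset_span i.2)
  rw [IsLocalRing.spanFinrank_eq_finrank_quotient J J.fg_of_isNoetherianRing, ← hcard]
  let v : t → (J ⧸ (maximalIdeal S) • (⊤ : Submodule S J)) :=
    fun i => Submodule.Quotient.mk ⟨algebraMap R S i, hmemJ i⟩
  haveI : Module.Finite S (J ⧸ (maximalIdeal S) • (⊤ : Submodule S J)) := inferInstance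
  haveI : Module.Finite (S ⧸ maximalIdeal S) (J ⧸ (maximalIdeal S) • (⊤ : Submodule S J)) :=
    Module.Finite.of_restrictScalars_finite S _ _
  suffices hli : LinearIndependent (S ⧸ maximalIdeal S) v by
    have := hli.fintype_card_le_finrank
    simpa using this
  rw [Fintype.linearIndependent_iff]
  intro g hg i₀
  choose s hs using fun i => Ideal.Quotient.mk_surjective (g i)
  -- the relation in `S`
  have h1 : (∑ i, s i • (⟨algebraMap R S i, hmemJ i⟩ : J)) ∈
      (maximalIdeal S) • (⊤ : Submodule S J) := by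
    rw [← Submodule.Quotient.mk_eq_zero, ← hg, ← Submodule.mkQ_apply, map_sum]
    refine Finset.sum_congr rfl fun i _ => ?_
    rw [← hs i]
    rfl
  have e1 : ((∑ i, s i • (⟨algebraMap R S i, hmemJ i⟩ : J) : J) : S) =
      ∑ i : t, s i * algebraMap R S i := by
    rw [Submodule.coe_sum]
    rfl
  rw [Submodule.mem_smul_top_iff, e1] at h1
  rw [hJspan, Submodule.mem_ideal_smul_span_iff_exists_sum] at h1
  obtain ⟨a, ha, hsum⟩ := h1
  have h3 : ∑ i : t, (i : R) • (s i - a i) = 0 := by
    rw [Finsupp.sum_fintype _ _ (fun i => by simp)] at hsum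
    simp only [smul_eq_mul] at hsum
    calc ∑ i : t, (i : R) • (s i - a i) = ∑ i : t, s i * algebraMap R S i -
          ∑ i : t, a i * algebraMap R S i := by
          rw [← Finset.sum_sub_distrib]
          refine Finset.sum_congr rfl fun i _ => ?_
          rw [Algebra.smul_def]; ring
      _ = 0 := by rw [hsum, sub_self]
  obtain ⟨m, c, y, hy1, hy2⟩ := Module.Flat.isTrivialRelation_of_sum_smul_eq_zero (R := R)
    (M := S) (f := fun i : t => (i : R)) (x := fun i => s i - a i) h3
  have hc : ∀ i j, c i j ∈ maximalIdeal R := fun i j =>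
    coeff_mem_maximalIdeal_of_min R K t hcard hspan' (fun i => c i j) (hy2 j) i
  rw [← hs i₀, Ideal.Quotient.eq_zero_iff_mem]
  have e3 : s i₀ = (s i₀ - a i₀) + a i₀ := by ring
  rw [e3]
  refine add_mem ?_ (ha i₀)
  have := hy1 i₀
  simp only at this
  rw [this]
  refine Submodule.sum_mem _ fun j _ => ?_
  rw [Algebra.smul_def]
  refine Ideal.mul_mem_right _ _ ?_
  have hcomap : (maximalIdeal S).comap (algebraMap R S) = maximalIdeal R :=
    ((local_hom_TFAE (algebraMap R S)).out 0 4).mp ‹_›
  rw [← hcomap] at hc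
  exact hc i₀ j

end muflat2

section dimflat

theorem exists_nat_dim (R : Type u) [CommRing R] [IsLocalRing R] [IsNoetherianRing R] :
    ∃ d : ℕ, ringKrullDim R = d := by
  have hne_bot : ringKrullDim R ≠ ⊥ := ringKrullDim_ne_bot
  have hne_top : ringKrullDim R ≠ ⊤ := ringKrullDim_ne_top
  obtain ⟨x, hx⟩ := WithBot.ne_bot_iff_exists.mp hne_bot
  have hx' : x ≠ ⊤ := by
    rintro rfl
    exact hne_top hx.symm
  obtain ⟨d, rfl⟩ := ENat.ne_top_iff_exists.mp hx'
  exact ⟨d, hx.symm⟩

variable (R S : Type u) [CommRing R] [CommRing S] [IsLocalRing R]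
    [IsNoetherianRing R] [IsLocalRing S] [IsNoetherianRing S] [Algebra R S]
    [Module.Flat R S] [IsLocalHom (algebraMap R S)]

theorem comap_maximalIdeal_eq'' : (maximalIdeal S).comap (algebraMap R S) = maximalIdeal R :=
  ((local_hom_TFAE (algebraMap R S)).out 0 4).mp ‹_›

theorem map_le_maximalIdeal'' (p : Ideal R) (hp : p ≠ ⊤) :
    p.map (algebraMap R S) ≤ maximalIdeal S := by
  rw [Ideal.map_le_iff_le_comap, comap_maximalIdeal_eq'' R S]
  exact le_maximalIdeal hp

theorem map_ne_top'' (p : Ideal R) (hp : p ≠ ⊤) : p.map (algebraMap R S) ≠ ⊤ := fun h => by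
  have := map_le_maximalIdeal'' R S p hp
  rw [h] at this
  exact (maximalIdeal.isMaximal S).ne_top (top_le_iff.mp this)

/-- dimension formula for a flat local homomorphism. -/
theorem dim_flat_local [IsLocalRing (S ⧸ (maximalIdeal R).map (algebraMap R S))] :
    ringKrullDim S = ringKrullDim R +
      ringKrullDim (S ⧸ (maximalIdeal R).map (algebraMap R S)) := by
  haveI : (maximalIdeal S).LiesOver (maximalIdeal R) := ⟨(comap_maximalIdeal_eq'' R S).symm⟩
  have hht := Ideal.height_eq_height_add_of_liesOver_of_hasGoingDown (maximalIdeal R)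
    (maximalIdeal S)
  have hmax : (maximalIdeal S).map (Ideal.Quotient.mk ((maximalIdeal R).map (algebraMap R S))) =
      maximalIdeal (S ⧸ (maximalIdeal R).map (algebraMap R S)) :=
    IsLocalRing.map_maximalIdeal_of_surjective _ Ideal.Quotient.mk_surjective
  rw [hmax] at hht
  rw [← IsLocalRing.maximalIdeal_height_eq_ringKrullDim,
    ← IsLocalRing.maximalIdeal_height_eq_ringKrullDim,
    ← IsLocalRing.maximalIdeal_height_eq_ringKrullDim, hht]
  rfl

end dimflat

section dimflat2

variable (R S : Type u) [CommRing R] [CommRing S] [IsLocalRing R]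
    [IsNoetherianRing R] [IsLocalRing S] [IsNoetherianRing S] [Algebra R S]
    [Module.Flat R S] [IsLocalHom (algebraMap R S)]

theorem flat_quot_map'' (p : Ideal R) : Module.Flat (R ⧸ p) (S ⧸ p.map (algebraMap R S)) :=
  Module.Flat.of_linearEquiv
    (Algebra.TensorProduct.quotIdealMapEquivQuotTensor S p).toLinearEquiv

theorem isLocalHom_quot_map'' (p : Ideal R) [Nontrivial (S ⧸ p.map (algebraMap R S))] :
    IsLocalHom (algebraMap (R ⧸ p) (S ⧸ p.map (algebraMap R S))) := by
  constructor
  intro x hx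
  obtain ⟨a, rfl⟩ := Ideal.Quotient.mk_surjective x
  have h1 : algebraMap (R ⧸ p) (S ⧸ p.map (algebraMap R S)) (Ideal.Quotient.mk p a) =
      Ideal.Quotient.mk _ (algebraMap R S a) := rfl
  rw [h1] at hx
  haveI : IsLocalHom (Ideal.Quotient.mk (p.map (algebraMap R S))) :=
    IsLocalHom.of_surjective _ Ideal.Quotient.mk_surjective
  have h2 : IsUnit (algebraMap R S a) := isUnit_of_map_unit (Ideal.Quotient.mk _) _ hx
  have h3 : IsUnit a := isUnit_of_map_unit (algebraMap R S) _ h2
  exact h3.map _

/-- dimension of the quotient along a flat local homomorphism. -/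
theorem dim_quot_flat_local (K : Ideal R) (hK : K ≠ ⊤) :
    ringKrullDim (S ⧸ K.map (algebraMap R S)) = ringKrullDim (R ⧸ K) +
      ringKrullDim (S ⧸ (maximalIdeal R).map (algebraMap R S)) := by
  have hKS := map_ne_top'' R S K hK
  haveI : Nontrivial (R ⧸ K) := Ideal.Quotient.nontrivial_iff.mpr hK
  haveI : Nontrivial (S ⧸ K.map (algebraMap R S)) := Ideal.Quotient.nontrivial_iff.mpr hKS
  haveI : IsLocalRing (R ⧸ K) :=
    IsLocalRing.of_surjective' (Ideal.Quotient.mk K) Ideal.Quotient.mk_surjective
  haveI : IsLocalRing (S ⧸ K.map (algebraMap R S)) :=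
    IsLocalRing.of_surjective' (Ideal.Quotient.mk _) Ideal.Quotient.mk_surjective
  haveI := flat_quot_map'' R S K
  haveI := isLocalHom_quot_map'' R S K
  -- the closed fibre of the quotient map
  have hmap : (maximalIdeal (R ⧸ K)).map
      (algebraMap (R ⧸ K) (S ⧸ K.map (algebraMap R S))) =
      ((maximalIdeal R).map (algebraMap R S)).map (Ideal.Quotient.mk (K.map (algebraMap R S))) := by
    rw [← IsLocalRing.map_maximalIdeal_of_surjective (Ideal.Quotient.mk K)
      Ideal.Quotient.mk_surjective, Ideal.map_map, Ideal.map_map]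
    rfl
  have hsup : K.map (algebraMap R S) ⊔ (maximalIdeal R).map (algebraMap R S) =
      (maximalIdeal R).map (algebraMap R S) :=
    sup_eq_right.mpr (Ideal.map_mono (le_maximalIdeal hK))
  let e : ((S ⧸ K.map (algebraMap R S)) ⧸ (maximalIdeal (R ⧸ K)).map
      (algebraMap (R ⧸ K) (S ⧸ K.map (algebraMap R S)))) ≃+*
      S ⧸ (maximalIdeal R).map (algebraMap R S) :=
    (Ideal.quotEquivOfEq hmap).trans
      ((DoubleQuot.quotQuotEquivQuotSup _ _).trans (Ideal.quotEquivOfEq hsup))
  haveI : IsLocalRing ((S ⧸ K.map (algebraMap R S)) ⧸ (maximalIdeal (R ⧸ K)).map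
      (algebraMap (R ⧸ K) (S ⧸ K.map (algebraMap R S)))) := by
    haveI : Nontrivial ((S ⧸ K.map (algebraMap R S)) ⧸ (maximalIdeal (R ⧸ K)).map
        (algebraMap (R ⧸ K) (S ⧸ K.map (algebraMap R S)))) :=
      Ideal.Quotient.nontrivial_iff.mpr
        (map_ne_top'' (R ⧸ K) (S ⧸ K.map (algebraMap R S)) _ (maximalIdeal.isMaximal _).ne_top)
    exact IsLocalRing.of_surjective' (Ideal.Quotient.mk _) Ideal.Quotient.mk_surjective
  rw [dim_flat_local (R ⧸ K) (S ⧸ K.map (algebraMap R S)), ringKrullDim_eq_of_ringEquiv e]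

/-- `(★)`: along a flat local homomorphism of regular local rings, an ideal is generated by a
regular sequence iff its extension is. -/
theorem genReg_map_iff_of_flat (R S : Type u) [CommRing R] [CommRing S] [IsRegularLocalRing R]
    [IsRegularLocalRing S] [Algebra R S] [Module.Flat R S] [IsLocalHom (algebraMap R S)]
    (K : Ideal R) (hK : K ≠ ⊤) :
    GenReg K ↔ GenReg (K.map (algebraMap R S)) := by
  have hKS := map_ne_top'' R S K hK
  have hμ : (K.map (algebraMap R S)).spanFinrank = K.spanFinrank :=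
    le_antisymm (Ideal.spanFinrank_map_le_of_fg _ K.fg_of_isNoetherianRing)
      (spanFinrank_le_map_of_flat R S K)
  haveI : Nontrivial (S ⧸ (maximalIdeal R).map (algebraMap R S)) :=
    Ideal.Quotient.nontrivial_iff.mpr (map_ne_top'' R S _ (maximalIdeal.isMaximal _).ne_top)
  haveI : IsLocalRing (S ⧸ (maximalIdeal R).map (algebraMap R S)) :=
    IsLocalRing.of_surjective' (Ideal.Quotient.mk _) Ideal.Quotient.mk_surjective
  haveI : Nontrivial (R ⧸ K) := Ideal.Quotient.nontrivial_iff.mpr hK
  haveI : IsLocalRing (R ⧸ K) :=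
    IsLocalRing.of_surjective' (Ideal.Quotient.mk K) Ideal.Quotient.mk_surjective
  rw [genReg_iff_dim K hK, genReg_iff_dim _ hKS, hμ, dim_quot_flat_local R S K hK,
    dim_flat_local R S]
  obtain ⟨dR, hdR⟩ := exists_nat_dim R
  obtain ⟨dK, hdK⟩ := exists_nat_dim (R ⧸ K)
  obtain ⟨dF, hdF⟩ := exists_nat_dim (S ⧸ (maximalIdeal R).map (algebraMap R S))
  rw [hdR, hdK, hdF]
  constructor
  · intro h
    have h' : dK + K.spanFinrank ≤ dR := by exact_mod_cast h
    have : dK + dF + K.spanFinrank ≤ dR + dF := by omega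
    exact_mod_cast this
  · intro h
    have h' : dK + dF + K.spanFinrank ≤ dR + dF := by exact_mod_cast h
    have : dK + K.spanFinrank ≤ dR := by omega
    exact_mod_cast this

end dimflat2

end Groth.Agent.Helper7.CKd
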