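import Mathlib
import Groth.Prelude.Def_CAlg
import Groth.Prelude.Def_Coh
import Groth.Prelude.Def_CohB1
import Groth.Prelude.Def_FlatMod2
import Groth.Agent.Helper5.StalkDict
import Groth.Agent.Helper4.FinLocFree2
import Groth.Agent.Helper7.AusBuchD
import Groth.Agent.Helper1.RegAB
import Groth.Agent.Helper2.RegCM
import Groth.Agent.Helper2.DepthCM2
import Groth.Agent.Lead.RegLocal

/-!
# Rectified depth on a regular biequidimensional scheme
-/

set_option autoImplicit false
set_option linter.unusedSectionVars false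
set_option linter.unusedVariables false
set_option linter.style.haveILetI false

open CategoryTheory AlgebraicGeometry
universe u

namespace Groth.Agent.Helper7.RectDepth

open Groth.Agent.Helper5.StalkDict

section Alg

/-- Auslander–Buchsbaum over a regular local ring, in `WithBot ℕ∞` -/
theorem depth_add_pd (R : Type u) [CommRing R] [IsRegularLocalRing R] (M : Type u)
    [AddCommGroup M] [Module R M] [Module.Finite R M] [Nontrivial M] :
    ((LocCoh.depth R M : ℕ∞) : WithBot ℕ∞) + projectiveDimension (ModuleCat.of R M) =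
      ringKrullDim R := by
  have hcm : LocCoh.IsCohenMacaulayModule R R :=
    Groth.Agent.Helper2.RegCM.cm_of_isRegularLocalRing R
  obtain ⟨d, hd1, hd2⟩ := Groth.Agent.Helper2.DepthCM2.cm_exists_nat hcm
  rw [Module.supportDim_self_eq_ringKrullDim] at hd2
  have h1 := Groth.Agent.Helper1.RegAB.pd_le_dim d hd2 M
  obtain ⟨e, he, h2, h3, h4⟩ := Groth.Agent.Helper7.AusBuch.exists_le M d h1
  have hpd : projectiveDimension (ModuleCat.of R M) = (e : WithBot ℕ∞) := by
    apply le_antisymm
    · rw [projectiveDimension_le_iff]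
      exact h2
    · by_contra hlt
      push Not at hlt
      rw [projectiveDimension_lt_iff] at hlt
      exact h3 hlt
  rw [hd1] at h4
  rw [hpd, hd2]
  have h5 : ((d : ℕ∞) : WithBot ℕ∞) = (((e : ℕ∞) + LocCoh.depth R M : ℕ∞) : WithBot ℕ∞) := by
    rw [h4]
  rw [show ((d : ℕ) : WithBot ℕ∞) = ((d : ℕ∞) : WithBot ℕ∞) from rfl, h5, WithBot.coe_add,
    add_comm]
  rfl

end Alg

section Top

theorem exists_component (X : Scheme.{u}) (x : X) [IsDomain (X.presheaf.stalk x)] :
    ∃ T : Set X, IsClosed T ∧ IsIrreducible T ∧ x ∈ T ∧ T ∈ irreducibleComponents X ∧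
      {t : X | t ∈ T ∧ t ⤳ x} = Set.range (X.fromSpecStalk x) := by
  obtain ⟨η, hη⟩ : ∃ η : ↥(Spec (X.presheaf.stalk x)), η.asIdeal = ⊥ :=
    ⟨⟨⊥, Ideal.isPrime_bot⟩, rfl⟩
  refine ⟨closure {X.fromSpecStalk x η}, isClosed_closure, isIrreducible_singleton.closure,
    ?_, ?_, ?_⟩
  · exact (fromSpecStalk_specializes x η).mem_closure
  · refine ⟨isIrreducible_singleton.closure, fun S hS hTS => ?_⟩
    have hScl : IsIrreducible (closure S) := hS.closure
    obtain ⟨s, hs⟩ := QuasiSober.sober hScl isClosed_closure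
    have h1 : X.fromSpecStalk x η ∈ closure S :=
      subset_closure (hTS (subset_closure rfl))
    have h2 : s ⤳ X.fromSpecStalk x η := by
      rw [specializes_iff_mem_closure, hs.def]; exact h1
    have h3 : s ⤳ x := h2.trans (fromSpecStalk_specializes x η)
    obtain ⟨q, rfl⟩ := exists_prime_of_specializes x s h3
    have h4 : q.asIdeal ≤ η.asIdeal := (fromSpecStalk_specializes_iff x q η).1 h2
    have h5 : q = η := by
      apply PrimeSpectrum.ext
      rw [hη] at h4 ⊢
      exact le_bot_iff.mp h4
    intro y hy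
    have h6 : y ∈ closure S := subset_closure hy
    rw [← hs.def, h5] at h6
    exact h6
  · ext t
    constructor
    · rintro ⟨-, ht⟩
      rw [Scheme.range_fromSpecStalk]; exact ht
    · intro ht
      rw [Scheme.range_fromSpecStalk] at ht
      refine ⟨?_, ht⟩
      obtain ⟨q, rfl⟩ := exists_prime_of_specializes x t ht
      have h7 : X.fromSpecStalk x η ⤳ X.fromSpecStalk x q :=
        (fromSpecStalk_specializes_iff x η q).2 (by rw [hη]; exact bot_le)
      exact h7.mem_closure

theorem dim_generizations (X : Scheme.{u}) (x : X) :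
    topologicalKrullDim ↥(Set.range (X.fromSpecStalk x)) =
      ringKrullDim (X.presheaf.stalk x) := by
  have hemb := (X.fromSpecStalk x).isEmbedding
  rw [← PrimeSpectrum.topologicalKrullDim_eq_ringKrullDim]
  exact (IsHomeomorph.topologicalKrullDim_eq _ hemb.toHomeomorph.isHomeomorph).symm

end Top

section Main

theorem main (X : Scheme.{u}) [IsNoetherian X]
    (hreg : ∀ x : X, IsRegularLocalRing ↑(X.presheaf.stalk x))
    (hfin : topologicalKrullDim X < ⊤)
    (hcomp : ∀ C ∈ irreducibleComponents (X : Type u),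
      topologicalKrullDim ↥C = topologicalKrullDim X)
    (hchain : ∀ (y : X) (T : Set X), IsClosed T → IsIrreducible T → y ∈ T →
      topologicalKrullDim ↥T = topologicalKrullDim ↥(closure ({y} : Set X)) +
        topologicalKrullDim ↥{t : X | t ∈ T ∧ t ⤳ y})
    (F : X.Modules) (hF : Coh.IsCoh F) (x : X) (hx : x ∈ CohB1.support F) :
    ((LocCoh.depth ↑(X.presheaf.stalk x) ↑(F.presheaf.stalk x) : ℕ∞) : WithBot ℕ∞) +
        topologicalKrullDim ↥(closure ({x} : Set X)) +
        projectiveDimension (ModuleCat.of ↑(X.presheaf.stalk x) ↑(F.presheaf.stalk x)) =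
      topologicalKrullDim X := by
  haveI := hreg x
  haveI : IsDomain (X.presheaf.stalk x) :=
    Groth.Agent.Lead.RegLocal.isDomain_of_isRegularLocalRing _
  obtain ⟨T, hTc, hTi, hxT, hTcomp, hTg⟩ := exists_component X x
  have h1 := hchain x T hTc hTi hxT
  rw [hTg, dim_generizations, hcomp T hTcomp] at h1
  haveI : F.IsQuasicoherent := hF.1
  haveI : Module.Finite (X.presheaf.stalk x) (F.presheaf.stalk x) :=
    Groth.Agent.Helper4.FinLocFree2.finite_stalk F hF.2 x
  haveI : Nontrivial (F.presheaf.stalk x) := not_subsingleton_iff_nontrivial.mp hx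
  have h2 := depth_add_pd (X.presheaf.stalk x) (F.presheaf.stalk x)
  rw [h1, ← h2]
  abel

end Main

end Groth.Agent.Helper7.RectDepth
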