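import Mathlib
import Groth.Prelude.Def_CAlg
import Groth.Prelude.Def_Coh
import Groth.Prelude.Def_CohB1
import Groth.Prelude.Def_FlatMod2
import Groth.Agent.Helper7.RectDepth
import Groth.Agent.Helper1.Syzygy
import Groth.Agent.S0020

/-!
# Openness of the projective-dimension loci of a coherent module, and semicontinuity of the
rectified depth on a regular biequidimensional scheme
-/

set_option autoImplicit false
set_option linter.unusedSectionVars false
set_option linter.unusedVariables false
set_option linter.style.haveILetI false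

open CategoryTheory AlgebraicGeometry
universe u

namespace Groth.Agent.Helper7.RectDepthB

section Alg

attribute [local instance] RingHomInvPair.of_ringEquiv in
/-- projective dimension of any model of the localization -/
theorem pd_eq_of_isLocalizedModule {A : Type u} [CommRing A] (S : Submonoid A) (R' : Type u)
    [CommRing R'] [Algebra A R']
    [IsLocalization S R'] {M N : Type u} [AddCommGroup M] [Module A M] [AddCommGroup N] [Module A N]
    [Module R' N] [IsScalarTower A R' N] (f : M →ₗ[A] N) [IsLocalizedModule S f] :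
    projectiveDimension (ModuleCat.of (Localization S) (LocalizedModule S M)) =
      projectiveDimension (ModuleCat.of R' N) := by
  let e : Localization S ≃ₐ[A] R' := IsLocalization.algEquiv S (Localization S) R'
  letI modR1 : Module (Localization S) N := Module.compHom N (e : Localization S →+* R')
  haveI t3 : IsScalarTower A (Localization S) N := IsScalarTower.of_algebraMap_smul fun b y => by
    show e (algebraMap A (Localization S) b) • y = b • y
    rw [e.commutes, algebraMap_smul]
  let ψ : LocalizedModule S M ≃ₗ[A] N := IsLocalizedModule.iso S f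
  let ψ' : LocalizedModule S M ≃ₗ[Localization S] N :=
    LinearEquiv.extendScalarsOfIsLocalization S (Localization S) ψ
  let e' : (ModuleCat.of (Localization S) (LocalizedModule S M)) ≃ₛₗ[RingHomClass.toRingHom
      (e : Localization S ≃+* R')] (ModuleCat.of R' N) :=
    { ψ'.toAddEquiv with
      map_smul' := fun r x => by
        show ψ' (r • x) = e r • ψ' x
        rw [map_smul]
        rfl }
  exact ModuleCat.projectiveDimension_eq_of_semiLinearEquiv (e : Localization S ≃+* R') e'

end Alg

section Sch

open Groth.Agent.Helper4.StalkDict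

variable {X : Scheme.{u}}

/-- pointwise dictionary for the projective dimension of a stalk -/
theorem pd_stalk_eq {U : X.Opens} (hU : IsAffineOpen U) (F : X.Modules) [F.IsQuasicoherent]
    (x : X) (hx : x ∈ U) :
    projectiveDimension (ModuleCat.of (X.presheaf.stalk x) (F.presheaf.stalk x)) =
      projectiveDimension
        (ModuleCat.of (Localization (hU.primeIdealOf ⟨x, hx⟩).asIdeal.primeCompl)
          (LocalizedModule (hU.primeIdealOf ⟨x, hx⟩).asIdeal.primeCompl Γ(F, U))) := by
  letI := sectionModStalk F x hx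
  letI := X.presheaf.algebra_section_stalk ⟨x, hx⟩
  haveI := hU.isLocalization_stalk ⟨x, hx⟩
  haveI := isLocalizedModule_germ hU F x hx
  haveI : IsScalarTower Γ(X, U) (X.presheaf.stalk x) (F.presheaf.stalk x) :=
    IsScalarTower.of_algebraMap_smul (fun r m => rfl)
  exact (pd_eq_of_isLocalizedModule (hU.primeIdealOf ⟨x, hx⟩).asIdeal.primeCompl
    (X.presheaf.stalk x) (germLin F x hx)).symm

/-- the locus where the stalk of a coherent module has projective dimension `≤ k` is open -/
theorem isOpen_pd_le [IsLocallyNoetherian X] (F : X.Modules) (hF : Coh.IsCoh F) (k : ℕ) :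
    IsOpen {x : X | projectiveDimension
      (ModuleCat.of (X.presheaf.stalk x) (F.presheaf.stalk x)) ≤ (k : WithBot ℕ∞)} := by
  haveI : F.IsQuasicoherent := hF.1
  rw [isOpen_iff_forall_mem_open]
  intro x hx
  obtain ⟨U, hU, hxU⟩ := Groth.Agent.Helper4.QcohLimits.exists_affine_nhd x
  haveI : IsNoetherianRing Γ(X, U) := IsLocallyNoetherian.component_noetherian ⟨U, hU⟩
  haveI : Module.Finite Γ(X, U) Γ(F, U) :=
    Groth.Agent.Helper4.SecDict.finite_sections hU F inferInstance hF.2
  have hopen := Groth.Agent.Helper1.RegBound.isOpen_pdLocus k (ModuleCat.of Γ(X, U) Γ(F, U))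
  let g : ↥U → PrimeSpectrum Γ(X, U) := fun y => hU.primeIdealOf y
  have hg : Continuous g := hU.isoSpec.hom.continuous
  refine ⟨Subtype.val '' (g ⁻¹' (Groth.Agent.Helper1.RegBound.pdLocus
    (ModuleCat.of Γ(X, U) Γ(F, U)) k)), ?_, ?_, ?_⟩
  · rintro _ ⟨⟨y, hy⟩, hy2, rfl⟩
    show projectiveDimension _ ≤ _
    rw [pd_stalk_eq hU F y hy, ← Groth.Agent.Helper1.Syzygy.hasPdLE_loc_iff]
    exact hy2
  · exact U.isOpen.isOpenMap_subtype_val _ (hopen.preimage hg)
  · refine ⟨⟨x, hxU⟩, ?_, rfl⟩
    show HasProjectiveDimensionLE _ k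
    rw [Groth.Agent.Helper1.Syzygy.hasPdLE_loc_iff, ← pd_stalk_eq hU F x hxU]
    exact hx

theorem topDim_ne_bot (Y : Type*) [TopologicalSpace Y] [Nonempty Y] :
    topologicalKrullDim Y ≠ ⊥ := by
  unfold topologicalKrullDim
  rw [Ne, Order.krullDim_eq_bot_iff, not_isEmpty_iff]
  obtain ⟨y⟩ := ‹Nonempty Y›
  exact ⟨⟨closure {y}, isIrreducible_singleton.closure, isClosed_closure⟩⟩

theorem arith1 (v p : WithBot ℕ∞) (d n : ℕ) (h : v + p = (d : WithBot ℕ∞)) :
    ((n : WithBot ℕ∞) ≤ v ↔ p + (n : WithBot ℕ∞) ≤ (d : WithBot ℕ∞)) := by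
  induction v using WithBot.recBotCoe with
  | bot => simp at h
  | coe a =>
    induction p using WithBot.recBotCoe with
    | bot => simp at h
    | coe e =>
      induction a using ENat.recTopCoe with
      | top =>
        exfalso
        rw [← WithBot.coe_add, top_add] at h
        have : ((⊤ : ℕ∞) : WithBot ℕ∞) = ((d : ℕ∞) : WithBot ℕ∞) := h
        exact ENat.top_ne_natCast d (WithBot.coe_injective this)
      | coe a =>
        induction e using ENat.recTopCoe with
        | top =>
          exfalso
          rw [← WithBot.coe_add, add_top] at h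
          have : ((⊤ : ℕ∞) : WithBot ℕ∞) = ((d : ℕ∞) : WithBot ℕ∞) := h
          exact ENat.top_ne_natCast d (WithBot.coe_injective this)
        | coe e =>
          have h' : a + e = d := by exact_mod_cast h
          constructor
          · intro h1
            have : n ≤ a := by exact_mod_cast h1
            have : e + n ≤ d := by omega
            exact_mod_cast this
          · intro h1
            have : e + n ≤ d := by exact_mod_cast h1
            have : n ≤ a := by omega
            exact_mod_cast this

theorem arith2 (p : WithBot ℕ∞) (d n : ℕ) (h : n ≤ d) :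
    (p + (n : WithBot ℕ∞) ≤ (d : WithBot ℕ∞) ↔ p ≤ ((d - n : ℕ) : WithBot ℕ∞)) := by
  induction p using WithBot.recBotCoe with
  | bot => simp
  | coe e =>
    induction e using ENat.recTopCoe with
    | top =>
      constructor
      · intro h1
        exfalso
        rw [show ((n : ℕ) : WithBot ℕ∞) = ((n : ℕ∞) : WithBot ℕ∞) from rfl,
          show ((d : ℕ) : WithBot ℕ∞) = ((d : ℕ∞) : WithBot ℕ∞) from rfl,
          ← WithBot.coe_add, top_add, WithBot.coe_le_coe] at h1
        exact ENat.top_ne_natCast d (top_le_iff.mp h1).symm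
      · intro h1
        exfalso
        rw [show (((d - n : ℕ)) : WithBot ℕ∞) = (((d - n : ℕ) : ℕ∞) : WithBot ℕ∞) from rfl,
          WithBot.coe_le_coe] at h1
        exact ENat.top_ne_natCast _ (top_le_iff.mp h1).symm
    | coe e =>
      have key : ((e : ℕ) : WithBot ℕ∞) ≤ (((d - n : ℕ)) : WithBot ℕ∞) ↔ e ≤ d - n := by
        rw [show ((e : ℕ) : WithBot ℕ∞) = ((e : ℕ∞) : WithBot ℕ∞) from rfl,
          show (((d - n : ℕ)) : WithBot ℕ∞) = (((d - n : ℕ) : ℕ∞) : WithBot ℕ∞) from rfl,
          WithBot.coe_le_coe, Nat.cast_le]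
      constructor
      · intro h1
        have : e + n ≤ d := by exact_mod_cast h1
        have : e ≤ d - n := by omega
        exact key.mpr this
      · intro h1
        have : e ≤ d - n := key.mp h1
        have : e + n ≤ d := by omega
        exact_mod_cast this

theorem arith3 (p : WithBot ℕ∞) (d n : ℕ) (h : d < n) :
    (p + (n : WithBot ℕ∞) ≤ (d : WithBot ℕ∞) ↔ p = ⊥) := by
  induction p using WithBot.recBotCoe with
  | bot => simp
  | coe e =>
    induction e using ENat.recTopCoe with
    | top =>
      constructor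
      · intro h1
        exfalso
        rw [show ((n : ℕ) : WithBot ℕ∞) = ((n : ℕ∞) : WithBot ℕ∞) from rfl,
          show ((d : ℕ) : WithBot ℕ∞) = ((d : ℕ∞) : WithBot ℕ∞) from rfl,
          ← WithBot.coe_add, top_add, WithBot.coe_le_coe] at h1
        exact ENat.top_ne_natCast d (top_le_iff.mp h1).symm
      · intro h1
        exact absurd h1 WithBot.coe_ne_bot
    | coe e =>
      constructor
      · intro h1
        exfalso
        have : e + n ≤ d := by exact_mod_cast h1
        omega
      · intro h1
        exact absurd h1 WithBot.coe_ne_bot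

/-- the locus `pd F_x + n ≤ d` is open -/
theorem isOpen_pd_add_le [IsLocallyNoetherian X] (F : X.Modules) (hF : Coh.IsCoh F) (n d : ℕ) :
    IsOpen {x : X | projectiveDimension
      (ModuleCat.of (X.presheaf.stalk x) (F.presheaf.stalk x)) + (n : WithBot ℕ∞) ≤
        (d : WithBot ℕ∞)} := by
  rcases le_or_gt n d with h | h
  · have : {x : X | projectiveDimension
        (ModuleCat.of (X.presheaf.stalk x) (F.presheaf.stalk x)) + (n : WithBot ℕ∞) ≤
          (d : WithBot ℕ∞)} = {x : X | projectiveDimension
        (ModuleCat.of (X.presheaf.stalk x) (F.presheaf.stalk x)) ≤ ((d - n : ℕ) : WithBot ℕ∞)} := by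
      ext x
      exact arith2 _ d n h
    rw [this]
    exact isOpen_pd_le F hF _
  · have : {x : X | projectiveDimension
        (ModuleCat.of (X.presheaf.stalk x) (F.presheaf.stalk x)) + (n : WithBot ℕ∞) ≤
          (d : WithBot ℕ∞)} = (CohB1.support F)ᶜ := by
      ext x
      show _ ↔ ¬ ¬ Subsingleton (F.presheaf.stalk x)
      rw [not_not]
      refine (arith3 _ d n h).trans ?_
      rw [projectiveDimension_eq_bot_iff, ModuleCat.isZero_iff_subsingleton]
    rw [this]
    exact (Groth.Agent.S0020.result X F hF.2).isOpen_compl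

end Sch

section Main

theorem main (X : Scheme.{u}) [IsNoetherian X]
    (hreg : ∀ x : X, IsRegularLocalRing ↑(X.presheaf.stalk x))
    (hfin : topologicalKrullDim X < ⊤)
    (hcomp : ∀ C ∈ irreducibleComponents (X : Type u),
      topologicalKrullDim ↥C = topologicalKrullDim X)
    (hchain : ∀ (y : X) (T : Set X), IsClosed T → IsIrreducible T → y ∈ T →
      topologicalKrullDim ↥T = topologicalKrullDim ↥(closure ({y} : Set X)) +
        topologicalKrullDim ↥{t : X | t ∈ T ∧ t ⤳ y})
    (F : X.Modules) (hF : Coh.IsCoh F) (n : ℕ) :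
    IsOpen {x : X | (n : WithBot ℕ∞) ≤
      ((LocCoh.depth ↑(X.presheaf.stalk x) ↑(F.presheaf.stalk x) : ℕ∞) : WithBot ℕ∞) +
        topologicalKrullDim ↥(closure ({x} : Set X))} := by
  rcases isEmpty_or_nonempty X with hX | hX
  · rw [Set.eq_empty_of_isEmpty {x : X | _}]
    exact isOpen_empty
  have h0 : topologicalKrullDim X ≠ ⊥ := topDim_ne_bot X
  obtain ⟨d, hd⟩ : ∃ d : ℕ, topologicalKrullDim X = (d : WithBot ℕ∞) := by
    obtain ⟨a, ha⟩ := WithBot.ne_bot_iff_exists.mp h0
    rw [← ha] at hfin
    have : a ≠ ⊤ := by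
      rintro rfl
      exact lt_irrefl _ hfin
    obtain ⟨d, hd⟩ := ENat.ne_top_iff_exists.mp this
    exact ⟨d, by rw [← ha, ← hd]; rfl⟩
  have : {x : X | (n : WithBot ℕ∞) ≤
      ((LocCoh.depth ↑(X.presheaf.stalk x) ↑(F.presheaf.stalk x) : ℕ∞) : WithBot ℕ∞) +
        topologicalKrullDim ↥(closure ({x} : Set X))} =
      {x : X | projectiveDimension
      (ModuleCat.of (X.presheaf.stalk x) (F.presheaf.stalk x)) + (n : WithBot ℕ∞) ≤
        (d : WithBot ℕ∞)} := by
    ext x
    by_cases hx : x ∈ CohB1.support F
    · have h1 := Groth.Agent.Helper7.RectDepth.main X hreg hfin hcomp hchain F hF x hx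
      rw [hd] at h1
      exact arith1 _ _ d n h1
    · have hx' : Subsingleton (F.presheaf.stalk x) := not_not.mp hx
      have hp : projectiveDimension
          (ModuleCat.of (X.presheaf.stalk x) (F.presheaf.stalk x)) = ⊥ := by
        rw [projectiveDimension_eq_bot_iff, ModuleCat.isZero_iff_subsingleton]
        exact hx'
      have hdepth : LocCoh.depth ↑(X.presheaf.stalk x) ↑(F.presheaf.stalk x) = ⊤ := by
        unfold LocCoh.depth LocCoh.idealDepth
        rw [if_pos (Subsingleton.elim _ _)]
      have hne : topologicalKrullDim ↥(closure ({x} : Set X)) ≠ ⊥ := by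
        haveI : Nonempty ↥(closure ({x} : Set X)) := ⟨⟨x, subset_closure rfl⟩⟩
        exact topDim_ne_bot _
      simp only [Set.mem_ofPred_eq]
      rw [hp, hdepth]
      obtain ⟨a, ha⟩ := WithBot.ne_bot_iff_exists.mp hne
      rw [← ha, ← WithBot.coe_add, top_add]
      simp
  rw [this]
  exact isOpen_pd_add_le F hF n d

end Main

end Groth.Agent.Helper7.RectDepthB
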