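import Mathlib
import Groth.Prelude.Def_CAlg
import Groth.Prelude.Def_Coh
import Groth.Prelude.Def_CohB1
import Groth.Prelude.Def_Flat
import Groth.Agent.Helper5.LocDim4
import Groth.Agent.Helper5.EquiDim5
import Groth.Agent.Helper5.UCat4
import Groth.Agent.Helper4.SuppDict
import Groth.Agent.Helper4.FinLocFree2
import Groth.Agent.Helper5.StalkDict
import Groth.Agent.S0020

/-!
# Equicodimensionality for schemes locally of finite type over a Jacobson base
-/

set_option autoImplicit false
set_option linter.unusedSectionVars false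
set_option linter.unusedVariables false
set_option linter.style.haveILetI false

open CategoryTheory AlgebraicGeometry
universe u

namespace Groth.Agent.Helper7.RectDepthC

open Groth.Agent.Helper5.LocDim Groth.Agent.Helper5.EquiDim Groth.Agent.Helper5.UCat

/-- a scheme locally of finite type over an equicodimensional Jacobson base with universally
catenary local rings is equicodimensional -/
theorem equiCodim_lft {X S : Scheme.{u}} [IsLocallyNoetherian S] [JacobsonSpace S]
    (h2 : ∀ s : S, CAlg.IsUniversallyCatenary (S.presheaf.stalk s)) (hE : EquiCodim S)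
    (g : X ⟶ S) [LocallyOfFiniteType g] : EquiCodim X := by
  intro ζ s1 s2 hs1 hs2 hsp1 hsp2
  obtain ⟨a1, c1, n1, e1, ha1, hc1, hn1, he1, h1⟩ := scheme_dimension_equality g h2 s1 ζ hsp1
  obtain ⟨a2, c2, n2, e2, ha2, hc2, hn2, he2, h2'⟩ := scheme_dimension_equality g h2 s2 ζ hsp2
  have hn1' : n1 = 0 := by
    have := trdeg_eq_zero_of_isClosed g s1 hs1
    rw [hn1] at this
    exact_mod_cast this
  have hn2' : n2 = 0 := by
    have := trdeg_eq_zero_of_isClosed g s2 hs2
    rw [hn2] at this
    exact_mod_cast this
  have he : e1 = e2 := by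
    have := he1.symm.trans he2
    exact_mod_cast this
  have hcl1 : IsClosed ({g s1} : Set S) :=
    g.closePoints_subset_preimage_closedPoints hs1
  have hcl2 : IsClosed ({g s2} : Set S) :=
    g.closePoints_subset_preimage_closedPoints hs2
  have hc := hE (g ζ) (g s1) (g s2) hcl1 hcl2 (hsp1.map g.continuous) (hsp2.map g.continuous)
  rw [hc1, hc2] at hc
  have hc' : c1 = c2 := by exact_mod_cast hc
  rw [ha1, ha2]
  have : a1 = a2 := by omega
  rw [this]

section Alg

/-- support of a localized module -/
theorem mem_support_localized {A : Type*} [CommRing A] (S : Submonoid A) (R' : Type*)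
    [CommRing R'] [Algebra A R'] [IsLocalization S R'] {M N : Type*} [AddCommGroup M] [Module A M]
    [AddCommGroup N] [Module A N] [Module R' N] [IsScalarTower A R' N] (f : M →ₗ[A] N)
    [IsLocalizedModule S f] (p : PrimeSpectrum R') :
    p ∈ Module.support R' N ↔ PrimeSpectrum.comap (algebraMap A R') p ∈ Module.support A M := by
  have hunit : ∀ s : S, algebraMap A R' s ∉ p.asIdeal := fun s hs =>
    p.2.ne_top (Ideal.eq_top_of_isUnit_mem _ hs (IsLocalization.map_units R' s))
  rw [Module.mem_support_iff', Module.mem_support_iff']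
  constructor
  · rintro ⟨n, hn⟩
    obtain ⟨⟨m, s⟩, hms⟩ := IsLocalizedModule.surj S f n
    refine ⟨m, fun a ha h0 => ?_⟩
    have h1 : algebraMap A R' (a * s) • n = 0 := by
      rw [algebraMap_smul, mul_smul]
      have : (s : A) • n = f m := hms
      rw [this, ← map_smul, h0, map_zero]
    have h2 : algebraMap A R' (a * s) ∈ p.asIdeal := by
      by_contra hc
      exact hn _ hc h1
    rw [map_mul] at h2
    rcases p.2.mem_or_mem h2 with h3 | h3
    · exact ha h3
    · exact hunit s h3
  · rintro ⟨m, hm⟩
    refine ⟨f m, fun r hr h0 => ?_⟩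
    obtain ⟨⟨a, s'⟩, has⟩ := IsLocalization.surj S r
    have h1 : f (a • m) = 0 := by
      rw [map_smul, ← algebraMap_smul R' a (f m), ← has, mul_comm, mul_smul, h0, smul_zero]
    obtain ⟨u, hu⟩ := (IsLocalizedModule.eq_zero_iff S f).mp h1
    have h2 : (u : A) * a ∈ (PrimeSpectrum.comap (algebraMap A R') p).asIdeal := by
      by_contra hc
      exact hm _ hc (by rw [mul_smul]; exact hu)
    have h3 : algebraMap A R' ((u : A) * a) ∈ p.asIdeal := h2
    rw [map_mul] at h3
    rcases p.2.mem_or_mem h3 with h4 | h4
    · exact hunit u h4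
    · rw [← has] at h4
      rcases p.2.mem_or_mem h4 with h5 | h5
      · exact hr h5
      · exact hunit s' h5

/-- the support of a finite module, as a topological space, has the dimension of the module -/
theorem topDim_support {R : Type*} [CommRing R] (M : Type*) [AddCommGroup M] [Module R M]
    [Module.Finite R M] :
    topologicalKrullDim ↥(Module.support R M) = Module.supportDim R M := by
  rw [Module.supportDim_eq_ringKrullDim_quotient_annihilator,
    ← PrimeSpectrum.topologicalKrullDim_eq_ringKrullDim]
  have hemb := PrimeSpectrum.isClosedEmbedding_comap_of_surjective (R ⧸ Module.annihilator R M)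
    (Ideal.Quotient.mk (Module.annihilator R M)) Ideal.Quotient.mk_surjective
  have hr : Set.range (PrimeSpectrum.comap (Ideal.Quotient.mk (Module.annihilator R M))) =
      Module.support R M := by
    rw [_root_.range_comap_of_surjective _ _ Ideal.Quotient.mk_surjective,
      Ideal.mk_ker, Module.support_eq_zeroLocus]
  rw [← hr]
  exact (IsHomeomorph.topologicalKrullDim_eq _
    hemb.isEmbedding.toHomeomorph.isHomeomorph).symm

theorem topDim_image {Y X : Type*} [TopologicalSpace Y] [TopologicalSpace X] (φ : Y → X)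
    (hφ : Topology.IsEmbedding φ) (Z : Set Y) :
    topologicalKrullDim ↥(φ '' Z) = topologicalKrullDim ↥Z := by
  let e := hφ.homeomorphImage Z
  exact (IsHomeomorph.topologicalKrullDim_eq e e.isHomeomorph).symm

end Alg

section Sch

open Groth.Agent.Helper4.StalkDict Groth.Agent.Helper5.StalkDict

variable {X : Scheme.{u}}

/-- the prime of `Γ(X, U)` of the generisation given by a prime of the local ring
(copied from `Helper3.TransA.comap_germ` to keep the import closure small) -/
theorem comap_germ (U : X.Opens) (hU : IsAffineOpen U) (x : X) (hxU : x ∈ U)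
    (p : ↥(Spec (X.presheaf.stalk x))) :
    ∃ htU : X.fromSpecStalk x p ∈ U,
      (hU.primeIdealOf ⟨X.fromSpecStalk x p, htU⟩).asIdeal =
        p.asIdeal.comap (X.presheaf.germ U x hxU).hom := by
  have htU : X.fromSpecStalk x p ∈ U :=
    (fromSpecStalk_specializes x p).mem_open U.2 hxU
  refine ⟨htU, ?_⟩
  have h1 : X.fromSpecStalk x p = hU.fromSpec (Spec.map (X.presheaf.germ U x hxU) p) := by
    rw [← hU.fromSpecStalk_eq_fromSpecStalk hxU, IsAffineOpen.fromSpecStalk, Scheme.Hom.comp_apply]
  have h2 : hU.fromSpec (hU.primeIdealOf ⟨X.fromSpecStalk x p, htU⟩) =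
      hU.fromSpec (Spec.map (X.presheaf.germ U x hxU) p) := by
    rw [hU.fromSpec_primeIdealOf]; exact h1
  have h3 := hU.fromSpec.isOpenEmbedding.injective h2
  rw [h3]
  rfl

/-- support of the stalk versus support of the sheaf -/
theorem mem_support_stalk_iff (F : X.Modules) [F.IsQuasicoherent] (x : X)
    (p : ↥(Spec (X.presheaf.stalk x))) :
    p ∈ Module.support (X.presheaf.stalk x) (F.presheaf.stalk x) ↔
      X.fromSpecStalk x p ∈ CohB1.support F := by
  obtain ⟨U, hU, hx⟩ := Groth.Agent.Helper4.QcohLimits.exists_affine_nhd x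
  obtain ⟨htU, hcomap⟩ := comap_germ U hU x hx p
  rw [← Groth.Agent.Helper4.SuppDict.mem_support_iff hU F _ htU]
  letI := sectionModStalk F x hx
  letI := X.presheaf.algebra_section_stalk ⟨x, hx⟩
  haveI := hU.isLocalization_stalk ⟨x, hx⟩
  haveI := isLocalizedModule_germ hU F x hx
  haveI : IsScalarTower Γ(X, U) (X.presheaf.stalk x) (F.presheaf.stalk x) :=
    IsScalarTower.of_algebraMap_smul (fun r m => rfl)
  have key := mem_support_localized (hU.primeIdealOf ⟨x, hx⟩).asIdeal.primeCompl
    (X.presheaf.stalk x) (germLin F x hx) p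
  have heq : PrimeSpectrum.comap (algebraMap Γ(X, U) (X.presheaf.stalk x)) p =
      hU.primeIdealOf ⟨X.fromSpecStalk x p, htU⟩ := by
    apply PrimeSpectrum.ext
    rw [hcomap]
    rfl
  rw [← heq]
  exact key

theorem supportDim_stalk (F : X.Modules) (hF : Coh.IsCoh F) (x : X) :
    Module.supportDim (X.presheaf.stalk x) (F.presheaf.stalk x) =
      topologicalKrullDim ↥{t : X | t ∈ CohB1.support F ∧ t ⤳ x} := by
  haveI : F.IsQuasicoherent := hF.1
  haveI : Module.Finite (X.presheaf.stalk x) (F.presheaf.stalk x) :=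
    Groth.Agent.Helper4.FinLocFree2.finite_stalk F hF.2 x
  have h1 := topDim_image (X.fromSpecStalk x) (X.fromSpecStalk x).isEmbedding
    (Module.support (X.presheaf.stalk x) (F.presheaf.stalk x))
  have hset : (X.fromSpecStalk x) '' Module.support (X.presheaf.stalk x) (F.presheaf.stalk x) =
      {t : X | t ∈ CohB1.support F ∧ t ⤳ x} := ?_
  · rw [← topDim_support, ← hset]
    exact h1.symm
  ext t
  constructor
  · rintro ⟨p, hp, rfl⟩
    exact ⟨(mem_support_stalk_iff F x p).mp hp, fromSpecStalk_specializes x p⟩
  · rintro ⟨ht1, ht2⟩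
    obtain ⟨q, rfl⟩ := exists_prime_of_specializes x t ht2
    exact ⟨q, (mem_support_stalk_iff F x q).mpr ht1, rfl⟩

end Sch

section Main

/-- S4889 -/
theorem s4889 {X S : Scheme.{u}} [IsLocallyNoetherian S] [JacobsonSpace S]
    (h2 : ∀ s : S, CAlg.IsUniversallyCatenary (S.presheaf.stalk s))
    (h3 : ∀ S' ∈ irreducibleComponents (S : Type u), ∀ s ∈ S', IsClosed ({s} : Set S) →
      topologicalKrullDim (↥S' : Type u) = topologicalKrullDim ↥{t : S | t ∈ S' ∧ t ⤳ s})
    (g : X ⟶ S) [LocallyOfFiniteType g] (F : X.Modules) (hF : Coh.IsCoh F) (x : X)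
    (hx : x ∈ CohB1.support F) :
    topologicalKrullDim ↥(closure ({x} : Set X)) +
        Module.supportDim ↑(X.presheaf.stalk x) ↑(F.presheaf.stalk x) =
      FlatMor.localDim ↥(CohB1.support F) ⟨x, hx⟩ := by
  haveI : IsLocallyNoetherian X := LocallyOfFiniteType.isLocallyNoetherian g
  haveI : JacobsonSpace X := LocallyOfFiniteType.jacobsonSpace g
  have h2X := stalk_isUniversallyCatenary g h2
  have hEX := equiCodim_lft h2 (equiCodim_of_components h2 h3) g
  have key := localDim_closed hEX (fun a b c hab hbc => krullDim_Icc_add h2X a b c hab hbc) ?_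
    (CohB1.support F) (Groth.Agent.S0020.result X F hF.2) x hx
  · rw [key.1, supportDim_stalk F hF x]
  · intro a c hac
    obtain ⟨n, -, -, -, hn, -, -, -, -⟩ := scheme_dimension_equality (𝟙 X) h2X a c hac
    exact ⟨n, hn⟩

end Main

end Groth.Agent.Helper7.RectDepthC
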