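import Mathlib
import Groth.Prelude.Def_CAlg
import Groth.Prelude.Def_Coh
import Groth.Prelude.Def_CohB1
import Groth.Prelude.Def_Flat
import Groth.Agent.Helper7.RectDepthB
import Groth.Agent.Helper7.RectDepthC
import Groth.Agent.Helper7.DedExcB
import Groth.Agent.Helper9.CU1

/-!
# Rectified depth over a regular Jacobson base: local structure
-/

set_option autoImplicit false
set_option linter.unusedSectionVars false
set_option linter.unusedVariables false
set_option linter.style.haveILetI false

open CategoryTheory AlgebraicGeometry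
universe u

namespace Groth.Agent.Helper7.RectDepthD

open Groth.Agent.Helper5.LocDim Groth.Agent.Helper5.EquiDim Groth.Agent.Helper5.UCat
open Groth.Agent.Helper7.RectDepth Groth.Agent.Helper7.RectDepthC

section LemmaD

/-- at a point with integral local ring of an equicodimensional catenary Jacobson scheme, the
irreducible component through the point has dimension `dim cl{x} + dim O_x` -/
theorem exists_component_dim {P : Scheme.{u}} [JacobsonSpace P] (hE : EquiCodim P)
    (hadd : ∀ x y z : P, y ⤳ x → z ⤳ y → Order.krullDim ↥(Set.Icc x z) =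
      Order.krullDim ↥(Set.Icc x y) + Order.krullDim ↥(Set.Icc y z))
    (x : P) [IsDomain (P.presheaf.stalk x)] :
    ∃ T : Set P, T ∈ irreducibleComponents P ∧ x ∈ T ∧
      topologicalKrullDim ↥T =
        topologicalKrullDim ↥(closure ({x} : Set P)) + ringKrullDim (P.presheaf.stalk x) ∧
      ∀ T' ∈ irreducibleComponents P, x ∈ T' → T' = T := by
  obtain ⟨T, hTc, hTi, hxT, hTcomp, hTg⟩ := exists_component P x
  obtain ⟨ξ, hξ⟩ := QuasiSober.sober hTi hTc
  have hξcl : closure ({ξ} : Set P) = T := hξ.def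
  have hsp : ξ ⤳ x := by
    rw [specializes_iff_mem_closure, hξcl]; exact hxT
  have h := dim_closure_add hE hadd x ξ hsp
  have hset : {t : P | t ∈ T ∧ t ⤳ x} = Set.Icc x ξ := by
    ext t
    simp only [Set.mem_ofPred_eq, Set.mem_Icc]
    rw [← hξcl, ← specializes_iff_mem_closure, Scheme.le_iff_specializes,
      Scheme.le_iff_specializes]
    exact and_comm
  refine ⟨T, hTcomp, hxT, ?_, ?_⟩
  · rw [← hξcl, h, ← topologicalKrullDim_Icc_eq, ← hset, hTg, dim_generizations]
  · intro T' hT' hxT'
    have hT'cl : IsClosed T' := isClosed_of_mem_irreducibleComponents T' hT'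
    obtain ⟨ξ', hξ'⟩ := QuasiSober.sober hT'.1 hT'cl
    have hsp' : ξ' ⤳ x := by
      rw [specializes_iff_mem_closure, hξ'.def]; exact hxT'
    have hmem : ξ' ∈ {t : P | t ∈ T ∧ t ⤳ x} := by
      rw [hTg, Scheme.range_fromSpecStalk]; exact hsp'
    have hsub : T' ⊆ T := by
      rw [← hξ'.def]
      exact hTc.closure_subset_iff.mpr (Set.singleton_subset_iff.mpr hmem.1)
    exact le_antisymm hsub (hT'.2 hTi hsub)

end LemmaD

section PSetup

variable {S : Scheme.{u}} [IsLocallyNoetherian S]

/-- sections over an affine open of a scheme with regular local rings form a regular ring -/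
theorem isRegularRing_of_isAffineOpen (hreg : ∀ s : S, IsRegularLocalRing (S.presheaf.stalk s))
    (U : S.Opens) (hU : IsAffineOpen U) : IsRegularRing Γ(S, U) := by
  haveI hN : IsNoetherianRing Γ(S, U) := IsLocallyNoetherian.component_noetherian ⟨U, hU⟩
  rw [isRegularRing_iff]
  intro p hp
  let y : PrimeSpectrum Γ(S, U) := ⟨p, hp⟩
  have hs : hU.fromSpec y ∈ U := by
    have : hU.fromSpec y ∈ Set.range hU.fromSpec := Set.mem_range_self _
    rw [hU.range_fromSpec] at this
    exact this
  let _ : Algebra Γ(S, U) (S.presheaf.stalk (hU.fromSpec y)) :=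
    TopCat.Presheaf.algebra_section_stalk S.presheaf (⟨hU.fromSpec y, hs⟩ : U)
  have hloc : IsLocalization.AtPrime (S.presheaf.stalk (hU.fromSpec y)) p :=
    hU.isLocalization_stalk' y hs
  let e := IsLocalization.algEquiv p.primeCompl (S.presheaf.stalk (hU.fromSpec y))
    (Localization.AtPrime p)
  haveI := hreg (hU.fromSpec y)
  exact IsRegularLocalRing.of_ringEquiv e.toRingEquiv

/-- regular local rings of a locally Noetherian scheme are universally catenary -/
theorem uc_stalk_of_regular (hreg : ∀ s : S, IsRegularLocalRing (S.presheaf.stalk s)) (s : S) :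
    CAlg.IsUniversallyCatenary (S.presheaf.stalk s) := by
  obtain ⟨U, hU, hsU⟩ := Groth.Agent.Helper4.QcohLimits.exists_affine_nhd s
  haveI := isRegularRing_of_isAffineOpen hreg U hU
  have hA := Groth.Agent.Helper7.DedExc.isUniversallyCatenary_of_isRegularRing Γ(S, U)
  letI := S.presheaf.algebra_section_stalk ⟨s, hsU⟩
  haveI := hU.isLocalization_stalk ⟨s, hsU⟩
  exact isUniversallyCatenary_of_isLocalization (hU.primeIdealOf ⟨s, hsU⟩).asIdeal.primeCompl hA

variable [JacobsonSpace S]

/-- dimension theory of a polynomial ring over the sections of an affine open of a regular,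
Jacobson, equicodimensional scheme -/
theorem poly_dim (hreg : ∀ s : S, IsRegularLocalRing (S.presheaf.stalk s))
    (h3 : ∀ S' ∈ irreducibleComponents (S : Type u), ∀ s ∈ S', IsClosed ({s} : Set S) →
      topologicalKrullDim (↥S' : Type u) = topologicalKrullDim ↥{t : S | t ∈ S' ∧ t ⤳ s})
    (U : S.Opens) (hU : IsAffineOpen U) (m : ℕ)
    (Q : PrimeSpectrum (MvPolynomial (Fin m) Γ(S, U))) :
    ∃ T ∈ irreducibleComponents (PrimeSpectrum (MvPolynomial (Fin m) Γ(S, U))), Q ∈ T ∧
      (∀ T' ∈ irreducibleComponents (PrimeSpectrum (MvPolynomial (Fin m) Γ(S, U))), Q ∈ T' → T' = T) ∧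
      ∃ d : ℕ, topologicalKrullDim ↥T = (d : WithBot ℕ∞) ∧
        topologicalKrullDim ↥(closure ({Q} : Set (PrimeSpectrum (MvPolynomial (Fin m) Γ(S, U))))) +
          ringKrullDim (Localization.AtPrime Q.asIdeal) = (d : WithBot ℕ∞) := by
  let R := MvPolynomial (Fin m) Γ(S, U)
  haveI := isRegularRing_of_isAffineOpen hreg U hU
  haveI : IsRegularRing R := inferInstance
  let P : Scheme.{u} := Spec (CommRingCat.of R)
  let p : P ⟶ S := Spec.map (CommRingCat.ofHom (algebraMap Γ(S, U) R)) ≫ hU.fromSpec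
  haveI : LocallyOfFiniteType (Spec.map (CommRingCat.ofHom (algebraMap Γ(S, U) R))) := by
    rw [HasRingHomProperty.Spec_iff (P := @LocallyOfFiniteType)]
    exact RingHom.finiteType_algebraMap.mpr inferInstance
  haveI : LocallyOfFiniteType p := inferInstance
  have h2 := uc_stalk_of_regular hreg
  haveI : IsLocallyNoetherian P := LocallyOfFiniteType.isLocallyNoetherian p
  haveI : JacobsonSpace P := LocallyOfFiniteType.jacobsonSpace p
  have h2P := stalk_isUniversallyCatenary p h2
  have hEP := equiCodim_lft h2 (equiCodim_of_components h2 h3) p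
  have haddP := fun a b c hab hbc => krullDim_Icc_add h2P a b c hab hbc
  let Q' : P := Q
  letI k : Algebra R (P.presheaf.stalk Q') := StructureSheaf.stalkAlgebra R Q
  haveI : IsLocalization.AtPrime (P.presheaf.stalk Q') Q.asIdeal :=
    StructureSheaf.IsLocalization.to_stalk R Q
  let e := IsLocalization.algEquiv Q.asIdeal.primeCompl (Localization.AtPrime Q.asIdeal)
    (P.presheaf.stalk Q')
  haveI : IsRegularLocalRing (P.presheaf.stalk Q') :=
    IsRegularLocalRing.of_ringEquiv e.toRingEquiv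
  haveI : IsDomain (P.presheaf.stalk Q') :=
    Groth.Agent.Lead.RegLocal.isDomain_of_isRegularLocalRing _
  obtain ⟨T, hT, hQT, hdim, huniq⟩ := exists_component_dim hEP haddP Q'
  have hrk : ringKrullDim (P.presheaf.stalk Q') = ringKrullDim (Localization.AtPrime Q.asIdeal) :=
    (ringKrullDim_eq_of_ringEquiv e.toRingEquiv).symm
  obtain ⟨ξ, hξ⟩ := QuasiSober.sober hT.1 (isClosed_of_mem_irreducibleComponents T hT)
  obtain ⟨s, hs, hsp, -⟩ := exists_closed_specialization Set.univ isOpen_univ ξ trivial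
  have h5 := dim_closure_eq hEP ξ s hs hsp
  obtain ⟨d, -, -, -, hd, -, -, -, -⟩ := scheme_dimension_equality (𝟙 P) h2P s ξ hsp
  have hTd : topologicalKrullDim ↥T = (d : WithBot ℕ∞) := by
    rw [← hξ.def, h5]; exact hd
  refine ⟨T, hT, hQT, huniq, d, hTd, ?_⟩
  rw [← hrk, ← hTd]
  exact hdim.symm

end PSetup

section DepthTransfer

/-- depth of any model of a localization at a prime -/
theorem depth_eq_of_isLocalizedModule {A : Type u} [CommRing A] [IsNoetherianRing A] (q : Ideal A)
    [q.IsPrime] (R' : Type u) [CommRing R'] [IsLocalRing R'] [Algebra A R']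
    [IsLocalization.AtPrime R' q] {M N : Type u} [AddCommGroup M] [Module A M] [Module.Finite A M]
    [AddCommGroup N] [Module A N] [Module R' N] [IsScalarTower A R' N] (f : M →ₗ[A] N)
    [IsLocalizedModule q.primeCompl f] :
    LocCoh.depth (Localization.AtPrime q) (LocalizedModule q.primeCompl M) = LocCoh.depth R' N := by
  let e : Localization.AtPrime q ≃ₐ[A] R' :=
    IsLocalization.algEquiv q.primeCompl (Localization.AtPrime q) R'
  letI modR1 : Module (Localization.AtPrime q) N :=
    Module.compHom N (e : Localization.AtPrime q →+* R')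
  haveI t3 : IsScalarTower A (Localization.AtPrime q) N :=
    IsScalarTower.of_algebraMap_smul fun b y => by
      show e (algebraMap A (Localization.AtPrime q) b) • y = b • y
      rw [e.commutes, algebraMap_smul]
  let ψ : LocalizedModule q.primeCompl M ≃ₗ[A] N := IsLocalizedModule.iso q.primeCompl f
  let ψ' : LocalizedModule q.primeCompl M ≃ₗ[Localization.AtPrime q] N :=
    LinearEquiv.extendScalarsOfIsLocalization q.primeCompl (Localization.AtPrime q) ψ
  haveI : IsNoetherianRing (Localization.AtPrime q) :=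
    IsLocalization.isNoetherianRing q.primeCompl _ inferInstance
  haveI : Module.Finite R' N := Module.Finite.of_isLocalizedModule q.primeCompl f
  exact Groth.Agent.Helper9.CU1.depth_eq_of_semilinear (e : Localization.AtPrime q ≃+* R')
    ψ'.toAddEquiv (fun r x => by
      show ψ' (r • x) = e r • ψ' x
      rw [map_smul]
      rfl)

/-- depth along a surjection of rings -/
theorem depth_surj {R B : Type u} [CommRing R] [CommRing B] [Algebra R B] [IsNoetherianRing R]
    (hsurj : Function.Surjective (algebraMap R B)) (M : Type u) [AddCommGroup M] [Module B M]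
    [Module R M] [IsScalarTower R B M] [Module.Finite B M] (q : Ideal B) [q.IsPrime] :
    LocCoh.depth (Localization.AtPrime (q.comap (algebraMap R B)))
        (LocalizedModule (q.comap (algebraMap R B)).primeCompl M) =
      LocCoh.depth (Localization.AtPrime q) (LocalizedModule q.primeCompl M) := by
  haveI : Module.Finite R B := Module.Finite.of_surjective (Algebra.linearMap R B) hsurj
  rw [Groth.Agent.Helper9.CU1.depth_eq_iInf_of_finite (A := R) (B := B) M (q.comap (algebraMap R B))]
  apply le_antisymm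
  · exact iInf_le_of_le ⟨q, inferInstance⟩ (iInf_le _ rfl)
  · refine le_iInf fun p' => le_iInf fun h => ?_
    have : p'.asIdeal = q := Ideal.comap_injective_of_surjective _ hsurj h
    have hp' : p' = ⟨q, inferInstance⟩ := PrimeSpectrum.ext this
    subst hp'
    exact le_refl _

/-- support along a surjection of rings -/
theorem mem_support_surj {R B : Type*} [CommRing R] [CommRing B] [Algebra R B]
    (hsurj : Function.Surjective (algebraMap R B)) (M : Type*) [AddCommGroup M] [Module B M]
    [Module R M] [IsScalarTower R B M] (q : PrimeSpectrum B) :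
    PrimeSpectrum.comap (algebraMap R B) q ∈ Module.support R M ↔ q ∈ Module.support B M := by
  rw [Module.mem_support_iff', Module.mem_support_iff']
  constructor
  · rintro ⟨m, hm⟩
    refine ⟨m, fun b hb h0 => ?_⟩
    obtain ⟨r, rfl⟩ := hsurj b
    exact hm r hb (by rw [← algebraMap_smul B r m]; exact h0)
  · rintro ⟨m, hm⟩
    refine ⟨m, fun r hr h0 => ?_⟩
    exact hm (algebraMap R B r) hr (by rw [algebraMap_smul]; exact h0)

end DepthTransfer

section ClosureDim

theorem dim_closure_transfer {X : Scheme.{u}} [JacobsonSpace X] (hE : EquiCodim X) (W : X.Opens)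
    {Y : Type*} [TopologicalSpace Y] (ψ : ↥W → Y) (hψ : Topology.IsClosedEmbedding ψ) (y : X)
    (hy : y ∈ W) :
    topologicalKrullDim ↥(closure ({y} : Set X)) =
      topologicalKrullDim ↥(closure ({ψ ⟨y, hy⟩} : Set Y)) := by
  have h1 := dim_open_inter_closure hE y (W : Set X) W.isOpen hy
  have h2 : (W : Set X) ∩ closure ({y} : Set X) =
      Subtype.val '' (closure ({⟨y, hy⟩} : Set ↥W)) := by
    ext t
    constructor
    · rintro ⟨htW, ht⟩
      refine ⟨⟨t, htW⟩, ?_, rfl⟩
      rw [closure_subtype]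
      simpa using ht
    · rintro ⟨⟨t, htW⟩, ht, rfl⟩
      refine ⟨htW, ?_⟩
      rw [closure_subtype] at ht
      simpa using ht
  have h3 : ψ '' closure ({⟨y, hy⟩} : Set ↥W) = closure ({ψ ⟨y, hy⟩} : Set Y) := by
    rw [← hψ.closure_image_eq, Set.image_singleton]
  rw [← h1, h2, topDim_image Subtype.val Topology.IsEmbedding.subtypeVal, ← h3,
    topDim_image ψ hψ.isEmbedding]

end ClosureDim

section PdAlg

open Groth.Agent.Helper7.RectDepthB

/-- the locus `pd M_Q + n ≤ d` is open -/
theorem isOpen_pd_add_le_alg {R : Type u} [CommRing R] [IsNoetherianRing R] (M : Type u)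
    [AddCommGroup M] [Module R M] [Module.Finite R M] (n d : ℕ) :
    IsOpen {Q : PrimeSpectrum R | projectiveDimension
      (ModuleCat.of (Localization.AtPrime Q.asIdeal) (LocalizedModule Q.asIdeal.primeCompl M)) +
        (n : WithBot ℕ∞) ≤ (d : WithBot ℕ∞)} := by
  rcases le_or_gt n d with h | h
  · have : {Q : PrimeSpectrum R | projectiveDimension
        (ModuleCat.of (Localization.AtPrime Q.asIdeal) (LocalizedModule Q.asIdeal.primeCompl M)) +
          (n : WithBot ℕ∞) ≤ (d : WithBot ℕ∞)} =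
        Groth.Agent.Helper1.RegBound.pdLocus (ModuleCat.of R M) (d - n) := by
      ext Q
      refine (arith2 _ d n h).trans ?_
      exact (Groth.Agent.Helper1.Syzygy.hasPdLE_loc_iff M Q.asIdeal.primeCompl (d - n)).symm
    rw [this]
    exact Groth.Agent.Helper1.RegBound.isOpen_pdLocus _ _
  · have : {Q : PrimeSpectrum R | projectiveDimension
        (ModuleCat.of (Localization.AtPrime Q.asIdeal) (LocalizedModule Q.asIdeal.primeCompl M)) +
          (n : WithBot ℕ∞) ≤ (d : WithBot ℕ∞)} = (Module.support R M)ᶜ := by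
      ext Q
      refine (arith3 _ d n h).trans ?_
      rw [projectiveDimension_eq_bot_iff, ModuleCat.isZero_iff_subsingleton, Set.mem_compl_iff,
        Module.notMem_support_iff]
    rw [this]
    exact Module.isClosed_support.isOpen_compl

end PdAlg

section LS

open Groth.Agent.Helper4.StalkDict

variable {X S : Scheme.{u}} [IsLocallyNoetherian S] [JacobsonSpace S]

/-- **Local structure of the rectified depth**: near every point of a scheme locally of finite type
over a regular, Jacobson, equicodimensional base, the rectified depth of a coherent module is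
`d - pd_{R_Q} M_Q` for a finite module `M` over a regular ring `R` and a continuous map to
`Spec R`. -/
theorem local_structure
    (hreg : ∀ s : S, IsRegularLocalRing ↑(S.presheaf.stalk s))
    (h3 : ∀ S' ∈ irreducibleComponents (S : Type u), ∀ s ∈ S', IsClosed ({s} : Set S) →
      topologicalKrullDim (↥S' : Type u) = topologicalKrullDim ↥{t : S | t ∈ S' ∧ t ⤳ s})
    (g : X ⟶ S) [LocallyOfFiniteType g] (F : X.Modules) (hF : Coh.IsCoh F) (x0 : X) :
    ∃ (W : X.Opens) (hx0 : x0 ∈ W) (R : Type u) (_ : CommRing R) (_ : IsNoetherianRing R)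
      (M : Type u) (_ : AddCommGroup M) (_ : Module R M) (_ : Module.Finite R M)
      (ψ : ↥W → PrimeSpectrum R) (N : Set (PrimeSpectrum R)) (d : ℕ),
      Continuous ψ ∧ IsOpen N ∧ ψ ⟨x0, hx0⟩ ∈ N ∧
      ∀ (y : X) (hy : y ∈ W), ψ ⟨y, hy⟩ ∈ N →
        (Subsingleton (F.presheaf.stalk y) ↔ ψ ⟨y, hy⟩ ∉ Module.support R M) ∧
        (¬ Subsingleton (F.presheaf.stalk y) →
          ((LocCoh.depth (X.presheaf.stalk y) (F.presheaf.stalk y) : ℕ∞) : WithBot ℕ∞) +
            topologicalKrullDim ↥(closure ({y} : Set X)) +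
            projectiveDimension (ModuleCat.of (Localization.AtPrime (ψ ⟨y, hy⟩).asIdeal)
              (LocalizedModule (ψ ⟨y, hy⟩).asIdeal.primeCompl M)) = (d : WithBot ℕ∞)) := by
  haveI : F.IsQuasicoherent := hF.1
  haveI : IsLocallyNoetherian X := LocallyOfFiniteType.isLocallyNoetherian g
  haveI : JacobsonSpace X := LocallyOfFiniteType.jacobsonSpace g
  have h2 := uc_stalk_of_regular hreg
  have hEX := equiCodim_lft h2 (equiCodim_of_components h2 h3) g
  obtain ⟨U, hU, hfxU⟩ := Groth.Agent.Helper4.QcohLimits.exists_affine_nhd (g x0)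
  obtain ⟨W, hW, hx0, e⟩ : ∃ W : X.Opens, IsAffineOpen W ∧ x0 ∈ W ∧ W ≤ g ⁻¹ᵁ U := by
    obtain ⟨_, ⟨W, hW, rfl⟩, hxW, hsub⟩ :=
      (X.isBasis_affineOpens).exists_subset_of_mem_open
        (show x0 ∈ ((g ⁻¹ᵁ U : X.Opens) : Set X) from hfxU) (g ⁻¹ᵁ U).isOpen
    exact ⟨W, hW, hxW, hsub⟩
  letI algAB : Algebra Γ(S, U) Γ(X, W) := (g.appLE U W e).hom.toAlgebra
  have hft : Algebra.FiniteType Γ(S, U) Γ(X, W) := g.finiteType_appLE hU hW e
  obtain ⟨m, π, hπ⟩ := Algebra.FiniteType.iff_quotient_mvPolynomial''.mp hft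
  haveI hNA : IsNoetherianRing Γ(S, U) := IsLocallyNoetherian.component_noetherian ⟨U, hU⟩
  haveI hNB : IsNoetherianRing Γ(X, W) := IsLocallyNoetherian.component_noetherian ⟨W, hW⟩
  haveI : IsRegularRing Γ(S, U) := isRegularRing_of_isAffineOpen hreg U hU
  haveI : IsRegularRing (MvPolynomial (Fin m) Γ(S, U)) := inferInstance
  letI algRB : Algebra (MvPolynomial (Fin m) Γ(S, U)) Γ(X, W) := π.toRingHom.toAlgebra
  have hsurj : Function.Surjective (algebraMap (MvPolynomial (Fin m) Γ(S, U)) Γ(X, W)) := hπ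
  haveI : Module.Finite Γ(X, W) Γ(F, W) :=
    Groth.Agent.Helper4.SecDict.finite_sections hW F inferInstance hF.2
  letI modRM : Module (MvPolynomial (Fin m) Γ(S, U)) Γ(F, W) :=
    Module.compHom Γ(F, W) (algebraMap (MvPolynomial (Fin m) Γ(S, U)) Γ(X, W))
  haveI : IsScalarTower (MvPolynomial (Fin m) Γ(S, U)) Γ(X, W) Γ(F, W) :=
    IsScalarTower.of_algebraMap_smul fun _ _ => rfl
  haveI : Module.Finite (MvPolynomial (Fin m) Γ(S, U)) Γ(X, W) :=
    Module.Finite.of_surjective (Algebra.linearMap (MvPolynomial (Fin m) Γ(S, U)) Γ(X, W)) hsurj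
  haveI : Module.Finite (MvPolynomial (Fin m) Γ(S, U)) Γ(F, W) :=
    Module.Finite.trans Γ(X, W) Γ(F, W)
  let ψ : ↥W → PrimeSpectrum (MvPolynomial (Fin m) Γ(S, U)) := fun y =>
    PrimeSpectrum.comap (algebraMap (MvPolynomial (Fin m) Γ(S, U)) Γ(X, W)) (hW.primeIdealOf y)
  have hψ : Topology.IsClosedEmbedding ψ :=
    (PrimeSpectrum.isClosedEmbedding_comap_of_surjective _ _ hsurj).comp
      (Scheme.homeoOfIso hW.isoSpec).isClosedEmbedding
  obtain ⟨T0, hT0, hQ0T0, huniq0, d, hT0d, hform0⟩ := poly_dim hreg h3 U hU m (ψ ⟨x0, hx0⟩)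
  let N : Set (PrimeSpectrum (MvPolynomial (Fin m) Γ(S, U))) :=
    {Q | ∀ T' ∈ irreducibleComponents (PrimeSpectrum (MvPolynomial (Fin m) Γ(S, U))),
      Q ∈ T' → T' = T0}
  have hN : IsOpen N := by
    have hNeq : N = (⋃₀ (irreducibleComponents (PrimeSpectrum (MvPolynomial (Fin m) Γ(S, U))) \
        {T0}))ᶜ := by
      ext Q
      simp only [N, Set.mem_ofPred_eq, Set.mem_compl_iff, Set.mem_sUnion, Set.mem_sdiff,
        Set.mem_singleton_iff, not_exists, not_and]
      constructor
      · intro h T' hT' hQ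
        exact hT'.2 (h T' hT'.1 hQ)
      · intro h T' hT' hQ
        by_contra hne
        exact h T' ⟨hT', hne⟩ hQ
    rw [hNeq, isOpen_compl_iff]
    have hfin : (irreducibleComponents (PrimeSpectrum (MvPolynomial (Fin m) Γ(S, U))) \
        {T0}).Finite :=
      (TopologicalSpace.NoetherianSpace.finite_irreducibleComponents).subset Set.sdiff_subset
    rw [Set.sUnion_eq_biUnion]
    exact hfin.isClosed_biUnion
      (fun T' hT' => isClosed_of_mem_irreducibleComponents T' hT'.1)
  refine ⟨W, hx0, MvPolynomial (Fin m) Γ(S, U), inferInstance, inferInstance, Γ(F, W),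
    inferInstance, modRM, inferInstance, ψ, N, d, hψ.continuous, hN, huniq0, ?_⟩
  intro y hy hyN
  letI := sectionModStalk F y hy
  letI := X.presheaf.algebra_section_stalk ⟨y, hy⟩
  haveI := hW.isLocalization_stalk ⟨y, hy⟩
  haveI := isLocalizedModule_germ hW F y hy
  haveI : IsScalarTower Γ(X, W) (X.presheaf.stalk y) (F.presheaf.stalk y) :=
    IsScalarTower.of_algebraMap_smul (fun r m => rfl)
  have ha : Subsingleton (F.presheaf.stalk y) ↔
      ψ ⟨y, hy⟩ ∉ Module.support (MvPolynomial (Fin m) Γ(S, U)) Γ(F, W) := by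
    rw [mem_support_surj hsurj Γ(F, W) (hW.primeIdealOf ⟨y, hy⟩),
      Groth.Agent.Helper4.SuppDict.mem_support_iff hW F y hy]
    show _ ↔ ¬ ¬ Subsingleton (F.presheaf.stalk y)
    rw [not_not]
  refine ⟨ha, fun hne => ?_⟩
  have hd1 : LocCoh.depth (X.presheaf.stalk y) (F.presheaf.stalk y) =
      LocCoh.depth (Localization.AtPrime (ψ ⟨y, hy⟩).asIdeal)
        (LocalizedModule (ψ ⟨y, hy⟩).asIdeal.primeCompl Γ(F, W)) := by
    rw [← depth_eq_of_isLocalizedModule (hW.primeIdealOf ⟨y, hy⟩).asIdeal (X.presheaf.stalk y)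
      (germLin F y hy)]
    exact (depth_surj hsurj Γ(F, W) (hW.primeIdealOf ⟨y, hy⟩).asIdeal).symm
  have hd2 := dim_closure_transfer hEX W ψ hψ y hy
  obtain ⟨T, hT, hQT, -, d', hTd', hform⟩ := poly_dim hreg h3 U hU m (ψ ⟨y, hy⟩)
  have hTT0 : T = T0 := hyN T hT hQT
  have hdd : d' = d := by
    subst hTT0
    exact_mod_cast hTd'.symm.trans hT0d
  haveI : Nontrivial (LocalizedModule (ψ ⟨y, hy⟩).asIdeal.primeCompl Γ(F, W)) :=
    Module.mem_support_iff.mp (by_contra fun h => hne (ha.mpr h))
  have hAB := depth_add_pd (Localization.AtPrime (ψ ⟨y, hy⟩).asIdeal)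
    (LocalizedModule (ψ ⟨y, hy⟩).asIdeal.primeCompl Γ(F, W))
  rw [hd1, hd2, ← hdd, ← hform, ← hAB]
  abel

/-- off the support the rectified depth is infinite -/
theorem rect_eq_top_of_subsingleton (F : X.Modules) (y : X)
    (hsub : Subsingleton (F.presheaf.stalk y)) :
    ((LocCoh.depth (X.presheaf.stalk y) (F.presheaf.stalk y) : ℕ∞) : WithBot ℕ∞) +
      topologicalKrullDim ↥(closure ({y} : Set X)) = ⊤ := by
  have hdepth : LocCoh.depth ↑(X.presheaf.stalk y) ↑(F.presheaf.stalk y) = ⊤ := by
    unfold LocCoh.depth LocCoh.idealDepth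
    rw [if_pos (Subsingleton.elim _ _)]
  have hne : topologicalKrullDim ↥(closure ({y} : Set X)) ≠ ⊥ := by
    haveI : Nonempty ↥(closure ({y} : Set X)) := ⟨⟨y, subset_closure rfl⟩⟩
    exact Groth.Agent.Helper7.RectDepthB.topDim_ne_bot _
  rw [hdepth]
  obtain ⟨a, ha⟩ := WithBot.ne_bot_iff_exists.mp hne
  rw [← ha, ← WithBot.coe_add, top_add]
  rfl

open Groth.Agent.Helper7.RectDepthB in
/-- S4895 -/
theorem s4895
    (hreg : ∀ s : S, IsRegularLocalRing ↑(S.presheaf.stalk s))
    (h3 : ∀ S' ∈ irreducibleComponents (S : Type u), ∀ s ∈ S', IsClosed ({s} : Set S) →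
      topologicalKrullDim (↥S' : Type u) = topologicalKrullDim ↥{t : S | t ∈ S' ∧ t ⤳ s})
    (g : X ⟶ S) [LocallyOfFiniteType g] (F : X.Modules) (hF : Coh.IsCoh F) (n : ℕ) :
    IsOpen {x : X | (n : WithBot ℕ∞) ≤
      ((LocCoh.depth ↑(X.presheaf.stalk x) ↑(F.presheaf.stalk x) : ℕ∞) : WithBot ℕ∞) +
        topologicalKrullDim ↥(closure ({x} : Set X))} := by
  rw [isOpen_iff_forall_mem_open]
  intro x0 hx0S
  obtain ⟨W, hx0, R, _, _, M, _, _, _, ψ, N, d, hψ, hN, hx0N, hkey⟩ :=
    local_structure hreg h3 g F hF x0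
  have hO := isOpen_pd_add_le_alg (R := R) M n d
  have hiff : ∀ (y : X) (hy : y ∈ W), ψ ⟨y, hy⟩ ∈ N →
      ((n : WithBot ℕ∞) ≤
        ((LocCoh.depth ↑(X.presheaf.stalk y) ↑(F.presheaf.stalk y) : ℕ∞) : WithBot ℕ∞) +
          topologicalKrullDim ↥(closure ({y} : Set X)) ↔
        projectiveDimension (ModuleCat.of (Localization.AtPrime (ψ ⟨y, hy⟩).asIdeal)
          (LocalizedModule (ψ ⟨y, hy⟩).asIdeal.primeCompl M)) + (n : WithBot ℕ∞) ≤
            (d : WithBot ℕ∞)) := by
    intro y hy hyN
    obtain ⟨ha, hb⟩ := hkey y hy hyN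
    by_cases hsub : Subsingleton (F.presheaf.stalk y)
    · have hns := ha.mp hsub
      have hp : projectiveDimension (ModuleCat.of (Localization.AtPrime (ψ ⟨y, hy⟩).asIdeal)
          (LocalizedModule (ψ ⟨y, hy⟩).asIdeal.primeCompl M)) = ⊥ := by
        rw [projectiveDimension_eq_bot_iff, ModuleCat.isZero_iff_subsingleton]
        exact Module.notMem_support_iff.mp hns
      rw [hp, rect_eq_top_of_subsingleton F y hsub]
      simp
    · exact arith1 _ _ d n (hb hsub)
  refine ⟨Subtype.val '' (ψ ⁻¹' (N ∩ {Q : PrimeSpectrum R | projectiveDimension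
      (ModuleCat.of (Localization.AtPrime Q.asIdeal) (LocalizedModule Q.asIdeal.primeCompl M)) +
        (n : WithBot ℕ∞) ≤ (d : WithBot ℕ∞)})), ?_, ?_, ?_⟩
  · rintro _ ⟨⟨y, hy⟩, ⟨hyN, hyO⟩, rfl⟩
    exact (hiff y hy hyN).mpr hyO
  · exact W.isOpen.isOpenMap_subtype_val _ ((hN.inter hO).preimage hψ)
  · exact ⟨⟨x0, hx0⟩, ⟨hx0N, (hiff x0 hx0 hx0N).mp hx0S⟩, rfl⟩

end LS

end Groth.Agent.Helper7.RectDepthD
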