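import Mathlib
import Groth.Prelude
import Groth.Agent.Helper7.CMOpenC
import Groth.Agent.Helper7.RectDepthD
import Groth.Agent.Helper5.RSD3

/-!
# Openness of the codepth loci of a finite module over a quotient of a regular ring
-/

set_option autoImplicit false
set_option linter.style.haveILetI false
set_option linter.unusedSectionVars false
set_option linter.unusedVariables false
universe u

namespace Groth.Agent.Helper7.Codepth

open CategoryTheory IsLocalRing
open Groth.Agent.Helper2 Groth.Agent.Helper1 Groth.Agent.Helper7.CMOpen

section Local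

variable {B : Type u} [CommRing B] [IsRegularLocalRing B]
variable (N : Type u) [AddCommGroup N] [Module B N] [Module.Finite B N] [Nontrivial N]

/-- over a regular local ring: codepth at most `n` iff the projective dimension is at most `j + n`
for some `j` bounded by the height of every prime of the support -/
theorem codepth_iff (n : ℕ) :
    Module.supportDim B N ≤ ((LocCoh.depth B N : ℕ∞) : WithBot ℕ∞) + (n : WithBot ℕ∞) ↔
    ∃ j : ℕ, HasProjectiveDimensionLE (ModuleCat.of B N) (j + n) ∧
      ∀ 𝔭 ∈ Module.support B N, (j : ℕ∞) ≤ 𝔭.asIdeal.height := by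
  obtain ⟨d, hd⟩ := exists_dim (B := B)
  obtain ⟨e, δ, he1, he2, hδ, hdeδ⟩ := ab N d hd
  obtain ⟨m, hm⟩ := exists_supportDim N d hd
  have hmd : m ≤ d := by
    have h1 : Module.supportDim B N ≤ ringKrullDim B := Module.supportDim_le_ringKrullDim B N
    rw [hm, hd] at h1
    exact_mod_cast h1
  have hiff : Module.supportDim B N ≤ ((LocCoh.depth B N : ℕ∞) : WithBot ℕ∞) + (n : WithBot ℕ∞) ↔
      m ≤ δ + n := by
    rw [hm, hδ]
    constructor
    · intro h; exact_mod_cast h
    · intro h; exact_mod_cast h
  rw [hiff]
  constructor
  · intro hle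
    refine ⟨d - m, ?_, fun 𝔭 h𝔭 => ?_⟩
    · exact hasProjectiveDimensionLT_of_ge _ (e + 1) (d - m + n + 1) (by omega)
    · obtain ⟨c, h, hc, hh, hdch⟩ := dim_formula d hd 𝔭
      have hcm : c ≤ m := by
        have := LocCohTopMod.ringKrullDim_quotient_le_supportDim (M := N) 𝔭 h𝔭
        rw [hc, hm] at this
        exact_mod_cast this
      rw [hh]
      have : d - m ≤ h := by omega
      exact_mod_cast this
  · rintro ⟨j, hj, hsupp⟩
    have hej : e ≤ j + n := by
      by_contra hlt
      exact he2 (hasProjectiveDimensionLT_of_ge _ (j + n + 1) e (by omega))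
    obtain ⟨𝔭, h𝔭, h𝔭dim⟩ := LocCohTopMod.exists_mem_support_dim_eq (M := N) m hm
    obtain ⟨c, h, hc, hh, hdch⟩ := dim_formula d hd 𝔭
    have hcm : c = m := by
      rw [hc] at h𝔭dim
      exact_mod_cast h𝔭dim
    have hjh : j ≤ h := by
      have := hsupp 𝔭 h𝔭
      rw [hh] at this
      exact_mod_cast this
    omega

end Local

section Global

variable {P : Type u} [CommRing P] [IsRegularRing P]
variable (M : Type u) [AddCommGroup M] [Module P M] [Module.Finite P M]

/-- the open set cut out by the projective dimension and the heights -/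
def Tn (P : Type u) [CommRing P] (M : Type u) [AddCommGroup M] [Module P M] (n : ℕ) :
    Set (PrimeSpectrum P) := ⋃ j : ℕ, RegBound.pdLocus (ModuleCat.of P M) (j + n) ∩ U P M j

lemma isOpen_Tn (n : ℕ) : IsOpen (Tn P M n) :=
  isOpen_iUnion fun j =>
    (RegBound.isOpen_pdLocus (j + n) (ModuleCat.of P M)).inter (isOpen_U (P := P) M j)

theorem codepth_localized_iff (n : ℕ) (Q : PrimeSpectrum P) (hQ : Q ∈ Module.support P M) :
    Module.supportDim (Localization.AtPrime Q.asIdeal) (LocalizedModule Q.asIdeal.primeCompl M) ≤
      ((LocCoh.depth (Localization.AtPrime Q.asIdeal)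
        (LocalizedModule Q.asIdeal.primeCompl M) : ℕ∞) : WithBot ℕ∞) + (n : WithBot ℕ∞) ↔
      Q ∈ Tn P M n := by
  haveI : Nontrivial (LocalizedModule Q.asIdeal.primeCompl M) := Module.mem_support_iff.1 hQ
  rw [codepth_iff, Tn, Set.mem_iUnion]
  apply exists_congr
  intro j
  rw [Set.mem_inter_iff]
  apply and_congr
  · have h1 := Syzygy.hasPdLE_loc_iff M Q.asIdeal.primeCompl (j + n)
    rw [projectiveDimension_le_iff] at h1
    exact h1.symm
  · constructor
    · intro h p hp hpQ
      haveI := p.2
      have hdisj : Disjoint (Q.asIdeal.primeCompl : Set P) (p.asIdeal : Set P) := by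
        rw [Set.disjoint_left]
        intro x hx hxp
        exact hx (hpQ hxp)
      have hprime := IsLocalization.isPrime_of_isPrime_disjoint Q.asIdeal.primeCompl
        (Localization.AtPrime Q.asIdeal) p.asIdeal p.2 hdisj
      have hcomap := IsLocalization.under_map_of_isPrime_disjoint Q.asIdeal.primeCompl
        (Localization.AtPrime Q.asIdeal) p.2 hdisj
      have hmem := LocSupp.mem_support_localized Q.asIdeal M p hpQ hp
        ⟨p.asIdeal.map (algebraMap P (Localization.AtPrime Q.asIdeal)), hprime⟩ hcomap
      have := h _ hmem
      rwa [IsLocalization.height_map_of_disjoint Q.asIdeal.primeCompl p.asIdeal hdisj] at this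
    · intro h 𝔭 h𝔭
      have hmem := DepthCM4.comap_mem_support Q.asIdeal M 𝔭 h𝔭
      have hle : (PrimeSpectrum.comap (algebraMap P (Localization.AtPrime Q.asIdeal)) 𝔭) ≤ Q := by
        have h1 : 𝔭.asIdeal ≤ maximalIdeal (Localization.AtPrime Q.asIdeal) :=
          IsLocalRing.le_maximalIdeal 𝔭.2.ne_top
        have h2 := Ideal.comap_mono (f := algebraMap P (Localization.AtPrime Q.asIdeal)) h1
        have h3 : Ideal.comap (algebraMap P (Localization.AtPrime Q.asIdeal))
            (maximalIdeal (Localization.AtPrime Q.asIdeal)) = Q.asIdeal :=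
          IsLocalization.AtPrime.under_maximalIdeal _ Q.asIdeal
        rw [h3] at h2
        exact h2
      have := h _ hmem hle
      have hht := IsLocalization.height_under Q.asIdeal.primeCompl 𝔭.asIdeal
      rw [← hht]
      exact this

end Global

section Surj

open Groth.Agent.Helper7.RectDepthD

variable (R A : Type u) [CommRing R] [CommRing A] [IsRegularRing R] [Algebra R A]
  (M : Type u) [AddCommGroup M] [Module A M] [Module R M] [IsScalarTower R A M] [Module.Finite A M]

/-- support dimension along a surjection -/
theorem supportDim_surj (hs : Function.Surjective (algebraMap R A)) (p : PrimeSpectrum A)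
    (hp : p ∈ Module.support A M) :
    Module.supportDim (Localization.AtPrime (p.asIdeal.comap (algebraMap R A)))
        (LocalizedModule (p.asIdeal.comap (algebraMap R A)).primeCompl M) =
      Module.supportDim (Localization.AtPrime p.asIdeal)
        (LocalizedModule p.asIdeal.primeCompl M) := by
  haveI : Module.Finite R A := Module.Finite.of_surjective (Algebra.linearMap R A) hs
  haveI : Module.Finite R M := Module.Finite.trans A M
  rw [Groth.Agent.Helper5.RSD.supportDim_eq_iSup (A := R) (B := A) M
    (p.asIdeal.comap (algebraMap R A))]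
  apply le_antisymm
  · refine iSup₂_le fun q hq => ?_
    have h1 : q.asIdeal = p.asIdeal := Ideal.comap_injective_of_surjective _ hs hq.1
    have h2 : q = p := PrimeSpectrum.ext h1
    rw [h2]
  · exact le_iSup₂ (f := fun (q : PrimeSpectrum A)
      (_ : q ∈ {q : PrimeSpectrum A | q.asIdeal.comap (algebraMap R A) =
        p.asIdeal.comap (algebraMap R A) ∧ q ∈ Module.support A M}) =>
        Module.supportDim (Localization.AtPrime q.asIdeal)
          (LocalizedModule q.asIdeal.primeCompl M)) p ⟨rfl, hp⟩

/-- the codepth loci of a finite module over a quotient of a regular ring are open -/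
theorem isOpen_codepth_le (hs : Function.Surjective (algebraMap R A)) (n : ℕ) :
    IsOpen {p : PrimeSpectrum A |
      Module.supportDim (Localization.AtPrime p.asIdeal) (LocalizedModule p.asIdeal.primeCompl M) ≤
        ((LocCoh.depth (Localization.AtPrime p.asIdeal)
          (LocalizedModule p.asIdeal.primeCompl M) : ℕ∞) : WithBot ℕ∞) + n} := by
  haveI : Module.Finite R A := Module.Finite.of_surjective (Algebra.linearMap R A) hs
  haveI : Module.Finite R M := Module.Finite.trans A M
  haveI : IsNoetherianRing A := isNoetherianRing_of_surjective R A (algebraMap R A) hs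
  have hEq : {p : PrimeSpectrum A |
      Module.supportDim (Localization.AtPrime p.asIdeal) (LocalizedModule p.asIdeal.primeCompl M) ≤
        ((LocCoh.depth (Localization.AtPrime p.asIdeal)
          (LocalizedModule p.asIdeal.primeCompl M) : ℕ∞) : WithBot ℕ∞) + n} =
      (Module.support A M)ᶜ ∪ (PrimeSpectrum.comap (algebraMap R A)) ⁻¹' Tn R M n := by
    ext p
    by_cases hp : p ∈ Module.support A M
    · have hQ : PrimeSpectrum.comap (algebraMap R A) p ∈ Module.support R M :=
        (mem_support_surj hs M p).mpr hp
      have h1 := codepth_localized_iff M n _ hQ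
      have h2 := supportDim_surj R A M hs p hp
      have h3 := depth_surj hs M p.asIdeal
      simp only [Set.mem_ofPred_eq, Set.mem_union, Set.mem_compl_iff, hp, not_true_eq_false,
        false_or, Set.mem_preimage]
      rw [← h1]
      show _ ↔ Module.supportDim (Localization.AtPrime (p.asIdeal.comap (algebraMap R A)))
        (LocalizedModule (p.asIdeal.comap (algebraMap R A)).primeCompl M) ≤
        ((LocCoh.depth (Localization.AtPrime (p.asIdeal.comap (algebraMap R A)))
          (LocalizedModule (p.asIdeal.comap (algebraMap R A)).primeCompl M) : ℕ∞) : WithBot ℕ∞) + n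
      rw [h2, h3]
    · have hsub : Subsingleton (LocalizedModule p.asIdeal.primeCompl M) :=
        Module.notMem_support_iff.mp hp
      simp only [Set.mem_ofPred_eq, Set.mem_union, Set.mem_compl_iff, hp, not_false_eq_true,
        true_or, iff_true]
      rw [Module.supportDim_eq_bot_of_subsingleton]
      exact bot_le
  rw [hEq]
  exact (Module.isClosed_support.isOpen_compl).union
    ((isOpen_Tn (P := R) M n).preimage (PrimeSpectrum.continuous_comap (algebraMap R A)))

end Surj

end Groth.Agent.Helper7.Codepth
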