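import Mathlib
import Groth.Prelude
import Groth.Agent.Helper7.CodepthA
import Groth.Agent.Helper2.SkEmb2

/-!
# Openness of the `(S_n)` loci of a finite module over a quotient of a regular ring
-/

set_option autoImplicit false
set_option linter.style.haveILetI false
set_option linter.unusedSectionVars false
set_option linter.unusedVariables false
universe u

namespace Groth.Agent.Helper7.Codepth

open CategoryTheory IsLocalRing
open Groth.Agent.Helper2 Groth.Agent.Helper1 Groth.Agent.Helper7.CMOpen

section General

variable {A : Type u} [CommRing A] [IsNoetherianRing A]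
  (M : Type u) [AddCommGroup M] [Module A M] [Module.Finite A M]

/-- the `(S_n)` inequality at a prime -/
def Good (n : ℕ) (q : PrimeSpectrum A) : Prop :=
  min (n : WithBot ℕ∞)
      (Module.supportDim (Localization.AtPrime q.asIdeal) (LocalizedModule q.asIdeal.primeCompl M)) ≤
    ((LocCoh.depth (Localization.AtPrime q.asIdeal)
      (LocalizedModule q.asIdeal.primeCompl M) : ℕ∞) : WithBot ℕ∞)

/-- codepth at most `k` at a prime -/
def CodepthLE (k : ℕ) (q : PrimeSpectrum A) : Prop :=
  Module.supportDim (Localization.AtPrime q.asIdeal) (LocalizedModule q.asIdeal.primeCompl M) ≤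
    ((LocCoh.depth (Localization.AtPrime q.asIdeal)
      (LocalizedModule q.asIdeal.primeCompl M) : ℕ∞) : WithBot ℕ∞) + (k : WithBot ℕ∞)

theorem hasSkAt_iff (n : ℕ) (p : PrimeSpectrum A) :
    EGA4.HasSkAt n A M p.asIdeal ↔ ∀ q : PrimeSpectrum A, q ≤ p → Good M n q := by
  unfold EGA4.HasSkAt LocCoh.HasSk
  have hdisj : ∀ q : PrimeSpectrum A, q ≤ p →
      Disjoint (p.asIdeal.primeCompl : Set A) (q.asIdeal : Set A) := by
    intro q hqp
    rw [Set.disjoint_left]
    intro x hx hxq
    exact hx (hqp hxq)
  constructor
  · intro h q hqp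
    have hprime := IsLocalization.isPrime_of_isPrime_disjoint p.asIdeal.primeCompl
      (Localization.AtPrime p.asIdeal) q.asIdeal q.2 (hdisj q hqp)
    have hh := @h (q.asIdeal.map (algebraMap A (Localization.AtPrime p.asIdeal))) hprime
    haveI := q.2
    exact (@SkEmb.sk_at_localized_iff A _ _ p.asIdeal.primeCompl M _ _ _ n q.asIdeal q.2
      (q.asIdeal.map (algebraMap A (Localization.AtPrime p.asIdeal))) hprime rfl
      (hdisj q hqp)).mp hh
  · intro h P hP
    have hq : (P.comap (algebraMap A (Localization.AtPrime p.asIdeal))).IsPrime :=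
      Ideal.comap_isPrime _ P
    have hPp : P = (P.comap (algebraMap A (Localization.AtPrime p.asIdeal))).map
        (algebraMap A (Localization.AtPrime p.asIdeal)) :=
      (IsLocalization.map_under p.asIdeal.primeCompl (Localization.AtPrime p.asIdeal) P).symm
    have hd : Disjoint (p.asIdeal.primeCompl : Set A)
        (P.comap (algebraMap A (Localization.AtPrime p.asIdeal)) : Set A) :=
      ((IsLocalization.isPrime_iff_isPrime_disjoint p.asIdeal.primeCompl
        (Localization.AtPrime p.asIdeal) P).mp hP).2
    have hle : (⟨P.comap (algebraMap A (Localization.AtPrime p.asIdeal)), hq⟩ : PrimeSpectrum A) ≤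
        p := by
      intro x hx
      by_contra hxp
      exact Set.disjoint_left.mp hd hxp hx
    rw [SkEmb.sk_at_localized_iff p.asIdeal.primeCompl M n
      (P.comap (algebraMap A (Localization.AtPrime p.asIdeal))) P hPp hd]
    exact h ⟨_, hq⟩ hle

/-- support dimension is monotone under specialization -/
theorem supportDim_mono {z q : PrimeSpectrum A} (hzq : z ≤ q) :
    Module.supportDim (Localization.AtPrime z.asIdeal) (LocalizedModule z.asIdeal.primeCompl M) ≤
      Module.supportDim (Localization.AtPrime q.asIdeal)
        (LocalizedModule q.asIdeal.primeCompl M) := by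
  by_cases hz : z ∈ Module.support A M
  · have hq : q ∈ Module.support A M := Module.mem_support_mono hzq hz
    rw [Groth.Agent.Helper5.RSD.supportDim_localized_eq_height M z.asIdeal hz,
      Groth.Agent.Helper5.RSD.supportDim_localized_eq_height M q.asIdeal hq]
    have : Order.height (⟨z, hz⟩ : Module.support A M) ≤
        Order.height (⟨q, hq⟩ : Module.support A M) := Order.height_mono hzq
    exact_mod_cast this
  · rw [Groth.Agent.Helper5.RSD.supportDim_localized_eq_bot M z.asIdeal hz]
    exact bot_le

/-- failure of the `(S_n)` inequality in terms of the codepth -/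
theorem not_good_iff (n : ℕ) (q : PrimeSpectrum A) :
    ¬ Good M n q ↔ ∃ k : ℕ, ¬ CodepthLE M k q ∧
      Module.supportDim (Localization.AtPrime q.asIdeal)
        (LocalizedModule q.asIdeal.primeCompl M) ≤ ((n + k : ℕ) : WithBot ℕ∞) := by
  unfold Good CodepthLE
  have hm_top : Module.supportDim (Localization.AtPrime q.asIdeal)
      (LocalizedModule q.asIdeal.primeCompl M) ≠ ⊤ := by
    intro h
    have h1 := Module.supportDim_le_ringKrullDim (Localization.AtPrime q.asIdeal)
      (LocalizedModule q.asIdeal.primeCompl M)
    rw [h, top_le_iff] at h1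
    exact ringKrullDim_ne_top h1
  generalize Module.supportDim (Localization.AtPrime q.asIdeal)
    (LocalizedModule q.asIdeal.primeCompl M) = m at hm_top ⊢
  generalize LocCoh.depth (Localization.AtPrime q.asIdeal)
    (LocalizedModule q.asIdeal.primeCompl M) = δ
  induction m using WithBot.recBotCoe with
  | bot => simp
  | coe m =>
    induction δ using ENat.recTopCoe with
    | top =>
      constructor
      · intro h
        exfalso
        apply h
        exact le_top
      · rintro ⟨k, hk, -⟩
        exfalso
        apply hk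
        have e0 : ((⊤ : ℕ∞) : WithBot ℕ∞) + ((k : ℕ) : WithBot ℕ∞) =
            (((⊤ : ℕ∞) + (k : ℕ∞) : ℕ∞) : WithBot ℕ∞) := rfl
        rw [e0, top_add]
        exact WithBot.coe_le_coe.mpr le_top
    | coe δ =>
      induction m using ENat.recTopCoe with
      | top => exact absurd rfl hm_top
      | coe m =>
        have e1 : (min (n : WithBot ℕ∞) (((m : ℕ) : ℕ∞) : WithBot ℕ∞) ≤
            (((δ : ℕ) : ℕ∞) : WithBot ℕ∞)) ↔ min n m ≤ δ := by
          constructor
          · intro h
            rcases le_total n m with hnm | hnm
            · rw [min_eq_left (by exact_mod_cast hnm)] at h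
              rw [min_eq_left hnm]; exact_mod_cast h
            · rw [min_eq_right (by exact_mod_cast hnm)] at h
              rw [min_eq_right hnm]; exact_mod_cast h
          · intro h
            rcases le_total n m with hnm | hnm
            · rw [min_eq_left (by exact_mod_cast hnm)]
              rw [min_eq_left hnm] at h; exact_mod_cast h
            · rw [min_eq_right (by exact_mod_cast hnm)]
              rw [min_eq_right hnm] at h; exact_mod_cast h
        have e2 : ∀ k : ℕ, ((((m : ℕ) : ℕ∞) : WithBot ℕ∞) ≤
            (((δ : ℕ) : ℕ∞) : WithBot ℕ∞) + (k : WithBot ℕ∞)) ↔ m ≤ δ + k := by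
          intro k
          constructor
          · intro h; exact_mod_cast h
          · intro h; exact_mod_cast h
        have e3 : ∀ k : ℕ, ((((m : ℕ) : ℕ∞) : WithBot ℕ∞) ≤ ((n + k : ℕ) : WithBot ℕ∞)) ↔
            m ≤ n + k := by
          intro k
          constructor
          · intro h; exact_mod_cast h
          · intro h; exact_mod_cast h
        rw [e1]
        simp only [e2, e3]
        constructor
        · intro h
          have h1 : δ < n := by
            by_contra hc
            apply h
            exact le_trans (min_le_left _ _) (not_lt.mp hc)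
          have h2 : δ < m := by
            by_contra hc
            apply h
            exact le_trans (min_le_right _ _) (not_lt.mp hc)
          exact ⟨m - δ - 1, by omega, by omega⟩
        · rintro ⟨k, hk1, hk2⟩ h
          rcases le_total n m with hnm | hnm
          · rw [min_eq_left hnm] at h; omega
          · rw [min_eq_right hnm] at h; omega

theorem codepthLE_mono {k l : ℕ} (hkl : k ≤ l) (q : PrimeSpectrum A) (h : CodepthLE M k q) :
    CodepthLE M l q := by
  unfold CodepthLE at h ⊢
  refine h.trans ?_
  gcongr

/-- if all codepth loci are open and the codepth is bounded, the `(S_n)` loci are open -/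
theorem isOpen_hasSkAt_of_codepth (hopen : ∀ k : ℕ, IsOpen {q : PrimeSpectrum A | CodepthLE M k q})
    (N0 : ℕ) (hbd : ∀ q : PrimeSpectrum A, CodepthLE M N0 q) (n : ℕ) :
    IsOpen {p : PrimeSpectrum A | EGA4.HasSkAt n A M p.asIdeal} := by
  rw [← isClosed_compl_iff]
  have hZcl : ∀ k : ℕ, IsClosed {q : PrimeSpectrum A | ¬ CodepthLE M k q} := fun k =>
    isClosed_compl_iff.mpr (hopen k)
  have hZ : ∀ k : ℕ, PrimeSpectrum.zeroLocus
      ((PrimeSpectrum.vanishingIdeal {q : PrimeSpectrum A | ¬ CodepthLE M k q} : Ideal A) : Set A) =
      {q : PrimeSpectrum A | ¬ CodepthLE M k q} := fun k => by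
    rw [PrimeSpectrum.zeroLocus_vanishingIdeal_eq_closure, (hZcl k).closure_eq]
  have hEq : {p : PrimeSpectrum A | EGA4.HasSkAt n A M p.asIdeal}ᶜ =
      ⋃ k ∈ Finset.range N0, ⋃ z ∈ {z : Ideal A |
        z ∈ (PrimeSpectrum.vanishingIdeal {q : PrimeSpectrum A | ¬ CodepthLE M k q}).minimalPrimes ∧
        ∃ hz : z.IsPrime, Module.supportDim (Localization.AtPrime z)
          (LocalizedModule z.primeCompl M) ≤ ((n + k : ℕ) : WithBot ℕ∞)},
        PrimeSpectrum.zeroLocus (z : Set A) := by
    ext p
    simp only [Set.mem_compl_iff, Set.mem_ofPred_eq, Set.mem_iUnion, Finset.mem_range,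
      PrimeSpectrum.mem_zeroLocus, SetLike.coe_subset_coe, exists_prop]
    rw [hasSkAt_iff]
    push Not
    constructor
    · rintro ⟨q, hqp, hq⟩
      obtain ⟨k, hk1, hk2⟩ := (not_good_iff M n q).mp hq
      have hkN : k < N0 := by
        by_contra hc
        exact hk1 (codepthLE_mono M (not_lt.mp hc) q (hbd q))
      have hqZ : q ∈ PrimeSpectrum.zeroLocus
          ((PrimeSpectrum.vanishingIdeal {q : PrimeSpectrum A | ¬ CodepthLE M k q} : Ideal A) :
            Set A) := by
        rw [hZ k]; exact hk1
      rw [PrimeSpectrum.mem_zeroLocus, SetLike.coe_subset_coe] at hqZ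
      haveI := q.2
      obtain ⟨z, hz, hzq⟩ := Ideal.exists_minimalPrimes_le hqZ
      have hzprime : z.IsPrime := hz.1.1
      refine ⟨k, hkN, z, ⟨hz, hzprime, ?_⟩, hzq.trans hqp⟩
      exact (supportDim_mono M (z := ⟨z, hzprime⟩) (q := q) hzq).trans hk2
    · rintro ⟨k, hkN, z, ⟨hz, hzprime, hdim⟩, hzp⟩
      refine ⟨⟨z, hzprime⟩, hzp, ?_⟩
      rw [not_good_iff]
      refine ⟨k, ?_, hdim⟩
      have hzZ : (⟨z, hzprime⟩ : PrimeSpectrum A) ∈ PrimeSpectrum.zeroLocus
          ((PrimeSpectrum.vanishingIdeal {q : PrimeSpectrum A | ¬ CodepthLE M k q} : Ideal A) :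
            Set A) := by
        rw [PrimeSpectrum.mem_zeroLocus, SetLike.coe_subset_coe]
        exact hz.1.2
      rw [hZ k] at hzZ
      exact hzZ
  rw [hEq]
  refine isClosed_biUnion_finset fun k _ => ?_
  refine Set.Finite.isClosed_biUnion ?_ (fun z _ => PrimeSpectrum.isClosed_zeroLocus _)
  exact (Ideal.finite_minimalPrimes_of_isNoetherianRing A _).subset (fun z hz => hz.1)

end General

section Surj

open Groth.Agent.Helper7.RectDepthD

variable (R A : Type u) [CommRing R] [CommRing A] [IsRegularRing R] [Algebra R A]
  (M : Type u) [AddCommGroup M] [Module A M] [Module R M] [IsScalarTower R A M] [Module.Finite A M]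

/-- the codepth of a finite module over a quotient of a regular ring is bounded -/
theorem exists_codepth_bound (hs : Function.Surjective (algebraMap R A)) :
    ∃ N0 : ℕ, ∀ p : PrimeSpectrum A,
      Module.supportDim (Localization.AtPrime p.asIdeal) (LocalizedModule p.asIdeal.primeCompl M) ≤
        ((LocCoh.depth (Localization.AtPrime p.asIdeal)
          (LocalizedModule p.asIdeal.primeCompl M) : ℕ∞) : WithBot ℕ∞) + (N0 : WithBot ℕ∞) := by
  haveI : Module.Finite R A := Module.Finite.of_surjective (Algebra.linearMap R A) hs
  haveI : Module.Finite R M := Module.Finite.trans A M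
  obtain ⟨N0, hN0⟩ := RegBound.exists_hasProjectiveDimensionLE (ModuleCat.of R M)
  refine ⟨N0, fun p => ?_⟩
  by_cases hp : p ∈ Module.support A M
  · have hQ : PrimeSpectrum.comap (algebraMap R A) p ∈ Module.support R M :=
      (mem_support_surj hs M p).mpr hp
    have h1 := codepth_localized_iff M N0 _ hQ
    have h2 := supportDim_surj R A M hs p hp
    have h3 := depth_surj hs M p.asIdeal
    have hmem : PrimeSpectrum.comap (algebraMap R A) p ∈ Tn R M N0 := by
      rw [Tn, Set.mem_iUnion]
      refine ⟨0, ?_, ?_⟩
      · show HasProjectiveDimensionLE _ (0 + N0)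
        rw [zero_add]
        haveI := hN0
        exact (ModuleCat.of R M).localizedModule_hasProjectiveDimensionLE N0 _
      · intro q _ _
        simp
    have h4 := h1.mpr hmem
    have h5 : Module.supportDim (Localization.AtPrime (p.asIdeal.comap (algebraMap R A)))
        (LocalizedModule (p.asIdeal.comap (algebraMap R A)).primeCompl M) ≤
        ((LocCoh.depth (Localization.AtPrime (p.asIdeal.comap (algebraMap R A)))
          (LocalizedModule (p.asIdeal.comap (algebraMap R A)).primeCompl M) : ℕ∞) : WithBot ℕ∞) +
            (N0 : WithBot ℕ∞) := h4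
    rw [h2, h3] at h5
    exact h5
  · have hsub : Subsingleton (LocalizedModule p.asIdeal.primeCompl M) :=
      Module.notMem_support_iff.mp hp
    rw [Module.supportDim_eq_bot_of_subsingleton]
    exact bot_le

/-- the `(S_n)` loci of a finite module over a quotient of a regular ring are open -/
theorem isOpen_hasSkAt (hs : Function.Surjective (algebraMap R A)) (n : ℕ) :
    IsOpen {p : PrimeSpectrum A | EGA4.HasSkAt n A M p.asIdeal} := by
  haveI : IsNoetherianRing A := isNoetherianRing_of_surjective R A (algebraMap R A) hs
  obtain ⟨N0, hN0⟩ := exists_codepth_bound R A M hs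
  exact isOpen_hasSkAt_of_codepth M (fun k => isOpen_codepth_le R A M hs k) N0 hN0 n

end Surj

end Groth.Agent.Helper7.Codepth
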