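import Mathlib
import Groth.Prelude.Def_RegImm
import Groth.Agent.Helper5.FtDim

set_option autoImplicit false
set_option linter.style.haveILetI false
set_option linter.unusedSectionVars false

universe u

namespace Groth.Agent.Helper7.SmoothLCI

/-- In a quasi-finite algebra the image of a prime in the fibre ring has height zero. -/
theorem height_fibre_eq_zero {R S : Type*} [CommRing R] [CommRing S] [Algebra R S]
    [Algebra.QuasiFinite R S] (p : Ideal R) [p.IsPrime] (P : Ideal S) [P.IsPrime]
    [hlies : P.LiesOver p] :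
    (P.map (Ideal.Quotient.mk (p.map (algebraMap R S)))).height = 0 := by
  set I : Ideal S := p.map (algebraMap R S) with hI
  have hIP : I ≤ P := by
    rw [hI, Ideal.map_le_iff_le_comap, hlies.over]
  have hprime : (P.map (Ideal.Quotient.mk I)).IsPrime :=
    Ideal.isPrime_map_quotientMk_of_isPrime hIP
  have h0 : (P.map (Ideal.Quotient.mk I)).height ≤ (0 : ℕ) := by
    rw [Ideal.height_le_iff]
    intro Q' hQ' hlt
    exfalso
    set Q : Ideal S := Q'.comap (Ideal.Quotient.mk I) with hQ
    have hQprime : Q.IsPrime := Ideal.comap_isPrime _ _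
    have hcomapP : (P.map (Ideal.Quotient.mk I)).comap (Ideal.Quotient.mk I) = P := by
      rw [Ideal.comap_map_of_surjective _ Ideal.Quotient.mk_surjective]
      have : Ideal.comap (Ideal.Quotient.mk I) ⊥ = I := by
        rw [← RingHom.ker_eq_comap_bot, Ideal.mk_ker]
      rw [this]
      exact sup_eq_left.2 hIP
    have hQP : Q ≤ P := by
      rw [← hcomapP]
      exact Ideal.comap_mono hlt.le
    have hIQ : I ≤ Q := by
      intro x hx
      rw [hQ, Ideal.mem_comap]
      have : Ideal.Quotient.mk I x = 0 := Ideal.Quotient.eq_zero_iff_mem.2 hx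
      rw [this]
      exact Q'.zero_mem
    have hunder : Q.under R = P.under R := by
      apply le_antisymm
      · exact Ideal.comap_mono hQP
      · rw [← hlies.over]
        rw [Ideal.under_def, ← Ideal.map_le_iff_le_comap]
        exact hIQ
    have hEq : Q = P := Algebra.QuasiFinite.eq_of_le_of_under_eq (R := R) Q P hQP hunder
    have : Q' = P.map (Ideal.Quotient.mk I) := by
      rw [← hEq, hQ, Ideal.map_comap_of_surjective _ Ideal.Quotient.mk_surjective]
    exact hlt.ne this
  simpa using h0

/-- A nonzero étale algebra over a polynomial ring in `d` variables over a field has Krull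
dimension `d`; indeed all its maximal ideals have height `d`. -/
theorem height_of_isMaximal_of_etale (k : Type u) [Field k] (d : ℕ) (T : Type u) [CommRing T]
    [Algebra (MvPolynomial (Fin d) k) T] [Algebra.Etale (MvPolynomial (Fin d) k) T]
    (m : Ideal T) [hm : m.IsMaximal] : m.height = d := by
  classical
  haveI : IsNoetherianRing T := Algebra.FiniteType.isNoetherianRing (MvPolynomial (Fin d) k) T
  set p : Ideal (MvPolynomial (Fin d) k) := m.under (MvPolynomial (Fin d) k) with hp
  have hpmax : p.IsMaximal := by
    letI := Ideal.Quotient.field m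
    haveI : Module.Finite (MvPolynomial (Fin d) k) (T ⧸ m) :=
      finite_of_finite_type_of_isJacobsonRing (MvPolynomial (Fin d) k) (T ⧸ m)
    haveI : Algebra.IsIntegral (MvPolynomial (Fin d) k) (T ⧸ m) := inferInstance
    have h1 : ((⊥ : Ideal (T ⧸ m)).comap (algebraMap (MvPolynomial (Fin d) k) (T ⧸ m))).IsMaximal :=
      Ideal.isMaximal_comap_of_isIntegral_of_isMaximal (R := MvPolynomial (Fin d) k) ⊥
    have h2 : (⊥ : Ideal (T ⧸ m)).comap (algebraMap (MvPolynomial (Fin d) k) (T ⧸ m)) = p := by
      ext x
      rw [Ideal.mem_comap, hp, Ideal.under_def, Ideal.mem_comap, Ideal.mem_bot,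
        IsScalarTower.algebraMap_apply (MvPolynomial (Fin d) k) T (T ⧸ m),
        Ideal.Quotient.algebraMap_eq, Ideal.Quotient.eq_zero_iff_mem]
    rwa [h2] at h1
  haveI : p.IsPrime := hpmax.isPrime
  haveI : m.LiesOver p := ⟨rfl⟩
  rw [Ideal.height_eq_height_add_of_liesOver_of_hasGoingDown p m,
    height_fibre_eq_zero p m, add_zero,
    Groth.Agent.Helper5.FtDim.height_of_isMaximal_mvPolynomial k d p hpmax]

theorem ringKrullDim_of_etale (k : Type u) [Field k] (d : ℕ) (T : Type u) [CommRing T]
    [Nontrivial T]
    [Algebra (MvPolynomial (Fin d) k) T] [Algebra.Etale (MvPolynomial (Fin d) k) T] :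
    ringKrullDim T = ((d : ℕ) : WithBot ℕ∞) := by
  rw [← Ideal.sup_isMaximal_height_eq_ringKrullDim]
  congr 1
  apply le_antisymm
  · refine iSup₂_le fun m hm => ?_
    haveI := hm
    rw [height_of_isMaximal_of_etale k d T m]
  · obtain ⟨m, hm⟩ := Ideal.exists_maximal T
    refine le_iSup₂_of_le m hm ?_
    haveI := hm
    rw [height_of_isMaximal_of_etale k d T m]

end Groth.Agent.Helper7.SmoothLCI
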