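import Mathlib
import Groth.Agent.Helper7.SmoothLCI
import Groth.Agent.Helper2.Miracle
import Groth.Agent.Helper2.RegCM

set_option autoImplicit false
set_option linter.style.haveILetI false
set_option linter.unusedSectionVars false

universe u

namespace Groth.Agent.Helper7.EtPoly

open IsLocalRing TensorProduct

section ab

variable (k : Type u) [Field k] (n : ℕ)
  (A : Type u) [CommRing A] [Algebra k A] [Algebra (MvPolynomial (Fin n) k) A]
  [IsScalarTower k (MvPolynomial (Fin n) k) A]

/-- the span of the `d a_i` -/
noncomputable def N : Submodule A (Ω[A⁄k]) :=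
  Submodule.span A (Set.range fun i : Fin n =>
    KaehlerDifferential.D k A (algebraMap (MvPolynomial (Fin n) k) A (MvPolynomial.X i)))

theorem map_mem_N (ω : Ω[MvPolynomial (Fin n) k⁄k]) :
    KaehlerDifferential.map k k (MvPolynomial (Fin n) k) A ω ∈ N k n A := by
  have hspan : ω ∈ Submodule.span (MvPolynomial (Fin n) k)
      (Set.range (KaehlerDifferential.mvPolynomialBasis k (Fin n))) := by
    rw [(KaehlerDifferential.mvPolynomialBasis k (Fin n)).span_eq]
    exact Submodule.mem_top
  induction hspan using Submodule.span_induction with
  | mem x hx =>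
    obtain ⟨i, rfl⟩ := hx
    rw [KaehlerDifferential.mvPolynomialBasis_apply, KaehlerDifferential.map_D]
    exact Submodule.subset_span ⟨i, rfl⟩
  | zero => rw [map_zero]; exact Submodule.zero_mem _
  | add x y _ _ hx hy => rw [map_add]; exact Submodule.add_mem _ hx hy
  | smul a x _ hx =>
    rw [map_smul, ← algebraMap_smul A a]
    exact Submodule.smul_mem _ _ hx

theorem range_mapBaseChange_le :
    LinearMap.range (KaehlerDifferential.mapBaseChange k (MvPolynomial (Fin n) k) A) ≤ N k n A := by
  rintro _ ⟨t, rfl⟩
  induction t using TensorProduct.induction_on with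
  | zero => rw [map_zero]; exact Submodule.zero_mem _
  | tmul a ω =>
    rw [KaehlerDifferential.mapBaseChange_tmul]
    exact Submodule.smul_mem _ _ (map_mem_N k n A ω)
  | add x y hx hy => rw [map_add]; exact Submodule.add_mem _ hx hy

/-- unramified over the polynomial ring iff the `d a_i` span. -/
theorem span_eq_top_iff :
    N k n A = ⊤ ↔ Algebra.FormallyUnramified (MvPolynomial (Fin n) k) A := by
  constructor
  · intro h
    refine ⟨⟨fun x y => ?_⟩⟩
    have hzero : ∀ z : Ω[A⁄MvPolynomial (Fin n) k], z = 0 := by
      intro z
      obtain ⟨w, rfl⟩ := KaehlerDifferential.map_surjective k (MvPolynomial (Fin n) k) A z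
      have hw : w ∈ N k n A := by rw [h]; exact Submodule.mem_top
      induction hw using Submodule.span_induction with
      | mem x hx =>
        obtain ⟨i, rfl⟩ := hx
        rw [KaehlerDifferential.map_D, Algebra.algebraMap_self_apply, Derivation.map_algebraMap]
      | zero => rw [map_zero]
      | add x y _ _ hx hy => rw [map_add, hx, hy, add_zero]
      | smul a x _ hx => rw [map_smul, hx, smul_zero]
    rw [hzero x, hzero y]
  · intro h
    rw [eq_top_iff]
    refine le_trans ?_ (range_mapBaseChange_le k n A)
    rw [KaehlerDifferential.range_mapBaseChange]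
    intro x _
    rw [LinearMap.mem_ker]
    exact Subsingleton.elim _ _

end ab

end Groth.Agent.Helper7.EtPoly
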