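import Mathlib
import Groth.Agent.Helper7.SmoothLCI
import Groth.Agent.Helper7.EtPoly
import Groth.Agent.Helper2.Miracle
import Groth.Agent.Helper2.RegCM

set_option autoImplicit false
set_option linter.style.haveILetI false
set_option linter.unusedSectionVars false

universe u

namespace Groth.Agent.Helper7.EtPoly

open IsLocalRing TensorProduct

theorem isMaximal_under_of_finiteType {R A : Type*} [CommRing R] [CommRing A] [Algebra R A]
    [IsJacobsonRing R] [Algebra.FiniteType R A] (m : Ideal A) [hm : m.IsMaximal] :
    (m.under R).IsMaximal := by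
  letI := Ideal.Quotient.field m
  haveI : Module.Finite R (A ⧸ m) := finite_of_finite_type_of_isJacobsonRing R (A ⧸ m)
  haveI : Algebra.IsIntegral R (A ⧸ m) := inferInstance
  have h1 : ((⊥ : Ideal (A ⧸ m)).comap (algebraMap R (A ⧸ m))).IsMaximal :=
    Ideal.isMaximal_comap_of_isIntegral_of_isMaximal (R := R) ⊥
  have h2 : (⊥ : Ideal (A ⧸ m)).comap (algebraMap R (A ⧸ m)) = m.under R := by
    ext x
    rw [Ideal.mem_comap, Ideal.under_def, Ideal.mem_comap, Ideal.mem_bot,
      IsScalarTower.algebraMap_apply R A (A ⧸ m),
      Ideal.Quotient.algebraMap_eq, Ideal.Quotient.eq_zero_iff_mem]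
  rwa [h2] at h1

section flat

variable (k : Type u) [Field k] (n : ℕ)
  (A : Type u) [CommRing A] [Algebra (MvPolynomial (Fin n) k) A]
  [Algebra.FiniteType (MvPolynomial (Fin n) k) A]

theorem flat_atPrime [Algebra.FormallyUnramified (MvPolynomial (Fin n) k) A]
    (m : Ideal A) [hm : m.IsMaximal]
    (hdim : ringKrullDim (Localization.AtPrime m) = n) :
    Module.Flat (MvPolynomial (Fin n) k) (Localization.AtPrime m) := by
  have hpmax : (m.under (MvPolynomial (Fin n) k)).IsMaximal := isMaximal_under_of_finiteType m
  haveI : (m.under (MvPolynomial (Fin n) k)).IsPrime := hpmax.isPrime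
  haveI : m.LiesOver (m.under (MvPolynomial (Fin n) k)) := ⟨rfl⟩
  letI := Localization.AtPrime.algebraOfLiesOver (m.under (MvPolynomial (Fin n) k)) m
  haveI : IsRegularRing (MvPolynomial (Fin n) k) := inferInstance
  haveI hregR : IsRegularLocalRing (Localization.AtPrime (m.under (MvPolynomial (Fin n) k))) :=
    IsRegularRing.isRegularLocalRing_localization _
  have hdimR : ringKrullDim (Localization.AtPrime (m.under (MvPolynomial (Fin n) k))) = n := by
    rw [IsLocalization.AtPrime.ringKrullDim_eq_height (m.under (MvPolynomial (Fin n) k)),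
      Groth.Agent.Helper5.FtDim.height_of_isMaximal_mvPolynomial k n _ hpmax]
    rfl
  haveI : IsNoetherianRing A := Algebra.FiniteType.isNoetherianRing (MvPolynomial (Fin n) k) A
  haveI : IsNoetherianRing (Localization.AtPrime m) :=
    IsLocalization.isNoetherianRing m.primeCompl _ inferInstance
  haveI : IsLocalHom (algebraMap (Localization.AtPrime (m.under (MvPolynomial (Fin n) k)))
      (Localization.AtPrime m)) :=
    Localization.isLocalHom_localRingHom _ _ _ _
  haveI : Algebra.IsUnramifiedAt (MvPolynomial (Fin n) k) m :=
    Algebra.FormallyUnramified.comp (MvPolynomial (Fin n) k) A (Localization.AtPrime m)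
  have hmap : (m.under (MvPolynomial (Fin n) k)).map
      (algebraMap (MvPolynomial (Fin n) k) (Localization.AtPrime m)) = maximalIdeal _ :=
    ((Algebra.isUnramifiedAt_iff_map_eq (MvPolynomial (Fin n) k)
      (m.under (MvPolynomial (Fin n) k)) m).1 inferInstance).2
  have hmap' : (maximalIdeal (Localization.AtPrime (m.under (MvPolynomial (Fin n) k)))).map
      (algebraMap (Localization.AtPrime (m.under (MvPolynomial (Fin n) k)))
        (Localization.AtPrime m)) = maximalIdeal (Localization.AtPrime m) := by
    rw [← Localization.AtPrime.map_eq_maximalIdeal, Ideal.map_map, ← IsScalarTower.algebraMap_eq,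
      hmap]
  haveI hreg : IsRegularLocalRing (Localization.AtPrime m) := by
    apply IsRegularLocalRing.of_spanFinrank_maximalIdeal_le
    rw [hdim, ← hmap']
    have h1 := Ideal.spanFinrank_map_le_of_fg
      (algebraMap (Localization.AtPrime (m.under (MvPolynomial (Fin n) k)))
        (Localization.AtPrime m))
      (maximalIdeal (Localization.AtPrime (m.under (MvPolynomial (Fin n) k)))).fg_of_isNoetherianRing
    have h2 : (maximalIdeal (Localization.AtPrime (m.under (MvPolynomial (Fin n) k)))).spanFinrank
        = n := by
      have := hregR.spanFinrank_maximalIdeal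
      rw [hdimR] at this
      exact_mod_cast this
    rw [h2] at h1
    exact_mod_cast h1
  haveI : LocCoh.IsCohenMacaulayLocalRing (Localization.AtPrime m) :=
    ⟨Groth.Agent.Helper2.RegCM.cm_of_isRegularLocalRing _⟩
  have hflat : Module.Flat (Localization.AtPrime (m.under (MvPolynomial (Fin n) k)))
      (Localization.AtPrime m) := by
    apply Groth.Agent.Helper2.Miracle.flat_of_cm_ring
    rw [hdim, hdimR, hmap']
    letI := Ideal.Quotient.field (maximalIdeal (Localization.AtPrime m))
    rw [ringKrullDim_eq_zero_of_field, add_zero]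
  exact Module.Flat.trans (MvPolynomial (Fin n) k)
    (Localization.AtPrime (m.under (MvPolynomial (Fin n) k))) (Localization.AtPrime m)

theorem flat_of_unramified [Algebra.FormallyUnramified (MvPolynomial (Fin n) k) A]
    (hdim : ∀ (m : Ideal A) [m.IsMaximal], ringKrullDim (Localization.AtPrime m) = n) :
    Module.Flat (MvPolynomial (Fin n) k) A := by
  apply Module.flat_of_isLocalized_maximal A A (fun m _ => Localization.AtPrime m)
    (fun m _ => Algebra.linearMap A _)
  intro m hm
  exact flat_atPrime k n A m (hdim m)

end flat

section main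

variable (k : Type u) [Field k] (n : ℕ)
  (A : Type u) [CommRing A] [Algebra k A] [Algebra (MvPolynomial (Fin n) k) A]
  [IsScalarTower k (MvPolynomial (Fin n) k) A] [Algebra.FiniteType (MvPolynomial (Fin n) k) A]

theorem s9448 :
    Algebra.Etale (MvPolynomial (Fin n) k) A ↔
      (∀ (m : Ideal A) [m.IsMaximal], ringKrullDim (Localization.AtPrime m) = n) ∧
        Submodule.span A (Set.range fun i : Fin n =>
          KaehlerDifferential.D k A (algebraMap (MvPolynomial (Fin n) k) A (MvPolynomial.X i))) = ⊤ := by
  constructor
  · intro h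
    refine ⟨fun m hm => ?_, ?_⟩
    · rw [IsLocalization.AtPrime.ringKrullDim_eq_height m,
        Groth.Agent.Helper7.SmoothLCI.height_of_isMaximal_of_etale k n A m]
      rfl
    · exact (span_eq_top_iff k n A).2 inferInstance
  · rintro ⟨h1, h2⟩
    haveI : Algebra.FormallyUnramified (MvPolynomial (Fin n) k) A := (span_eq_top_iff k n A).1 h2
    haveI : Module.Flat (MvPolynomial (Fin n) k) A := flat_of_unramified k n A h1
    haveI : Algebra.FinitePresentation (MvPolynomial (Fin n) k) A :=
      Algebra.FinitePresentation.of_finiteType.1 inferInstance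
    exact Algebra.Etale.of_formallyUnramified_of_flat

end main

end Groth.Agent.Helper7.EtPoly
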