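import Mathlib

set_option autoImplicit false
set_option linter.unusedSectionVars false

namespace Groth.Agent.Helper7.RkTower

open TensorProduct

/-- rank at a maximal ideal computed via the quotient field (universe polymorphic) -/
theorem finrank_quotient_eq_rankAtStalk {R : Type*} [CommRing R] (M : Type*) [AddCommGroup M]
    [Module R M] [Module.Finite R M] [Module.Flat R M] (m : Ideal R) [hm : m.IsMaximal] :
    Module.finrank (R ⧸ m) ((R ⧸ m) ⊗[R] M) =
      Module.rankAtStalk M ⟨m, hm.isPrime⟩ := by
  letI : Field (R ⧸ m) := Ideal.Quotient.field m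
  rw [Module.rankAtStalk_eq]
  let κ := m.ResidueField
  let e : κ ⊗[R ⧸ m] ((R ⧸ m) ⊗[R] M) ≃ₗ[κ] κ ⊗[R] M :=
    AlgebraTensorModule.cancelBaseChange R (R ⧸ m) κ κ M
  have h1 : Module.finrank κ (κ ⊗[R ⧸ m] ((R ⧸ m) ⊗[R] M)) =
      Module.finrank (R ⧸ m) ((R ⧸ m) ⊗[R] M) := Module.finrank_baseChange
  rw [← h1]
  exact e.finrank_eq

attribute [local instance] Algebra.TensorProduct.rightAlgebra

/-- tower formula for ranks: if `S` is finite projective over `R` and `M` is a finite projective
`S`-module whose rank is `r` at all primes of `S` over `q`, then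
`rank_R M (q) = r * rank_R S (q)`. -/
theorem rankAtStalk_tower {R : Type*} [CommRing R] {S : Type*} [CommRing S] [Algebra R S]
    (M : Type*) [AddCommGroup M] [Module R M] [Module S M] [IsScalarTower R S M]
    [Module.Finite R S] [Module.Flat R S] [Module.Finite S M] [Module.Flat S M]
    [Module.Finite R M] [Module.Flat R M]
    (q : PrimeSpectrum R) (r : ℕ)
    (hr : ∀ P : PrimeSpectrum S, P.comap (algebraMap R S) = q →
      Module.rankAtStalk (R := S) M P = r) :
    Module.rankAtStalk (R := R) M q = r * Module.rankAtStalk (R := R) S q := by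
  classical
  let κ := q.asIdeal.ResidueField
  let S' := κ ⊗[R] S
  let M' := S' ⊗[S] M
  let e : M' ≃ₗ[κ] κ ⊗[R] M := Algebra.IsPushout.cancelBaseChange R κ S S' M
  rw [Module.rankAtStalk_eq, Module.rankAtStalk_eq]
  change Module.finrank κ (κ ⊗[R] M) = r * Module.finrank κ S'
  rw [← e.finrank_eq]
  rcases subsingleton_or_nontrivial S' with hS | hS
  · haveI : Subsingleton M' := Module.subsingleton S' M'
    rw [Module.finrank_zero_of_subsingleton, Module.finrank_zero_of_subsingleton, mul_zero]
  haveI : IsArtinianRing S' := IsArtinianRing.of_finite κ S'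
  have rk : ∀ P : MaximalSpectrum S',
      Module.finrank (S' ⧸ P.1) ((S' ⧸ P.1) ⊗[S'] M') = r := by
    intro P
    haveI := P.isMaximal
    rw [finrank_quotient_eq_rankAtStalk M' P.1]
    rw [Module.rankAtStalk_baseChange]
    apply hr
    have h1 : ∀ x : R, algebraMap S S' (algebraMap R S x) = algebraMap κ S' (algebraMap R κ x) := by
      intro x
      rw [← IsScalarTower.algebraMap_apply, ← IsScalarTower.algebraMap_apply]
    have hbot : P.1.comap (algebraMap κ S') = ⊥ := by
      have hne : P.1.comap (algebraMap κ S') ≠ ⊤ := (Ideal.comap_isPrime _ P.1).ne_top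
      rcases Ideal.eq_bot_or_top (P.1.comap (algebraMap κ S')) with h | h
      · exact h
      · exact absurd h hne
    apply PrimeSpectrum.ext
    ext x
    change algebraMap S S' (algebraMap R S x) ∈ P.1 ↔ x ∈ q.asIdeal
    rw [h1, ← Ideal.mem_comap, hbot, Ideal.mem_bot, Ideal.algebraMap_residueField_eq_zero]
  obtain ⟨b⟩ := Module.nonempty_basis_of_flat_of_finrank_eq S' M' r rk
  haveI : Module.Free S' M' := Module.Free.of_basis b
  have h2 : Module.finrank S' M' = r := by
    rw [Module.finrank_eq_card_basis b, Fintype.card_fin]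
  rw [← Module.finrank_mul_finrank κ S' M', h2, mul_comm]

/-- if `A` is finite projective and integral over `C` with `C → A` injective, then the unit
`C → A` has a `C`-linear retraction. -/
theorem exists_retraction {C A : Type*} [CommRing C] [CommRing A] [Algebra C A]
    [Module.Finite C A] [Module.Projective C A] [Algebra.IsIntegral C A]
    (hinj : Function.Injective (algebraMap C A)) :
    ∃ f : A →ₗ[C] C, f 1 = 1 := by
  classical
  obtain ⟨n, s, i, -, -, hsi⟩ := Module.Finite.exists_comp_eq_id_of_projective C A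
  set J : Ideal C := Ideal.span (Set.range fun j : Fin n => i 1 j) with hJdef
  have hJ : J = ⊤ := by
    by_contra hne
    obtain ⟨P, hPmax, hJP⟩ := Ideal.exists_le_maximal J hne
    haveI := hPmax.isPrime
    obtain ⟨Q, -, hQ, hQP⟩ := Ideal.exists_ideal_over_prime_of_isIntegral P (⊥ : Ideal A) (by
      intro c hc
      have h0 : algebraMap C A c = 0 := hc
      have : c = 0 := hinj (by rw [h0, map_zero])
      rw [this]
      exact P.zero_mem)
    have h1 : (1 : A) ∈ Q := by
      have h2 : (1 : A) = s (i 1) := (LinearMap.congr_fun hsi 1).symm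
      have h3 : i 1 = ∑ j, (i 1 j) • (Pi.single j (1 : C) : Fin n → C) := by
        ext k
        simp [Finset.sum_apply, Pi.single_apply]
      rw [h2, h3, map_sum]
      refine Q.sum_mem fun j _ => ?_
      rw [map_smul, Algebra.smul_def]
      refine Q.mul_mem_right _ ?_
      have : i 1 j ∈ P := hJP (Ideal.subset_span ⟨j, rfl⟩)
      rw [← hQP] at this
      exact this
    exact hQ.ne_top ((Ideal.eq_top_iff_one Q).mpr h1)
  have h1 : (1 : C) ∈ J := by rw [hJ]; trivial
  rw [hJdef, Ideal.mem_span_range_iff_exists_fun] at h1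
  obtain ⟨c, hc⟩ := h1
  refine ⟨∑ j, c j • ((LinearMap.proj j : (Fin n → C) →ₗ[C] C) ∘ₗ i), ?_⟩
  rw [LinearMap.sum_apply, ← hc]
  refine Finset.sum_congr rfl fun j _ => ?_
  simp

end Groth.Agent.Helper7.RkTower
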