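import Mathlib

set_option linter.style.haveILetI false
set_option linter.unusedSectionVars false
set_option autoImplicit false

namespace Groth.Agent.Helper7.UnitSm

open TensorProduct KaehlerDifferential

section der

variable {R : Type*} {A : Type*} [CommRing R] [CommRing A] [Algebra R A] (ε : A →ₐ[R] R)

/-- the augmentation ideal -/
abbrev I : Ideal A := RingHom.ker ε

theorem sub_mem_I (a : A) : a - algebraMap R A (ε a) ∈ I ε := by
  rw [RingHom.mem_ker, map_sub, AlgHom.commutes, Algebra.algebraMap_self_apply, sub_self]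

/-- `a ↦ [a - ε a]` -/
noncomputable def derFun (a : A) : (I ε).Cotangent :=
  (I ε).toCotangent ⟨a - algebraMap R A (ε a), sub_mem_I ε a⟩

/-- the derivation `A → I/I²` -/
noncomputable def der : Derivation R A (I ε).Cotangent where
  toFun := derFun ε
  map_add' a b := by
    unfold derFun
    rw [← map_add]
    congr 1
    apply Subtype.ext
    simp only [map_add, Submodule.coe_add]
    ring
  map_smul' c a := by
    unfold derFun
    rw [RingHom.id_apply, ← algebraMap_smul A c ((I ε).toCotangent _), ← map_smul]
    congr 1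
    apply Subtype.ext
    simp only [SetLike.val_smul, smul_eq_mul, Algebra.smul_def, map_mul]
    rw [AlgHom.commutes, Algebra.algebraMap_self_apply, mul_sub]
  map_one_eq_zero' := by
    change derFun ε 1 = 0
    unfold derFun
    rw [Ideal.toCotangent_eq_zero]
    simp
  leibniz' a b := by
    change derFun ε (a * b) = a • derFun ε b + b • derFun ε a
    unfold derFun
    rw [← map_smul, ← map_smul, ← map_add, ← sub_eq_zero, ← map_sub, Ideal.toCotangent_eq_zero]
    have h : ((⟨a * b - algebraMap R A (ε (a * b)), sub_mem_I ε (a * b)⟩ : I ε) -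
        (a • ⟨b - algebraMap R A (ε b), sub_mem_I ε b⟩ +
          b • ⟨a - algebraMap R A (ε a), sub_mem_I ε a⟩) : I ε).1 =
        -((a - algebraMap R A (ε a)) * (b - algebraMap R A (ε b))) := by
      simp only [map_mul, Submodule.coe_sub, Submodule.coe_add, SetLike.val_smul, smul_eq_mul]
      ring
    rw [h, pow_two]
    exact Ideal.neg_mem_iff _ |>.mpr (Ideal.mul_mem_mul (sub_mem_I ε a) (sub_mem_I ε b))

theorem der_apply_of_mem (a : A) (ha : a ∈ I ε) : der ε a = (I ε).toCotangent ⟨a, ha⟩ := by
  change derFun ε a = _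
  unfold derFun
  congr 1
  apply Subtype.ext
  have : ε a = 0 := ha
  simp [this]

theorem smul_cotangent_eq_zero' (i : A) (hi : i ∈ I ε) (y : (I ε).Cotangent) : i • y = 0 := by
  obtain ⟨x, rfl⟩ := Ideal.toCotangent_surjective _ y
  rw [← map_smul, Ideal.toCotangent_eq_zero, pow_two]
  exact Ideal.mul_mem_mul hi x.2

theorem smul_eq_eps_smul' (a : A) (y : (I ε).Cotangent) : a • y = ε a • y := by
  have h := smul_cotangent_eq_zero' ε _ (sub_mem_I ε a) y
  rw [sub_smul, sub_eq_zero, algebraMap_smul] at h
  exact h

end der

end Groth.Agent.Helper7.UnitSm
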