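import Mathlib
import Groth.Agent.Helper7.AugDer

/-!
# Cartier's theorem, algebraic core

An augmented Noetherian local algebra `(A, ε)` over a field of characteristic zero, all of whose
point derivations at `ε` extend to truncated derivations `A → A ⧸ 𝔞^N`, is reduced.
-/

set_option linter.style.haveILetI false
set_option linter.unusedSectionVars false
set_option autoImplicit false

universe u v

namespace Groth.Agent.Helper7.CartierAlg

open Groth.Agent.Helper7.UnitSm

section general

variable {k : Type u} {A : Type v} [CommRing k] [CommRing A] [Algebra k A]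

theorem smul_quot (J : Ideal A) (a : A) (q : A ⧸ J) : a • q = Ideal.Quotient.mk J a * q := by
  rw [Algebra.smul_def]; rfl

theorem deriv_pow_mem (J : Ideal A) (D : Derivation k A (A ⧸ J)) (𝔞 : Ideal A) (m : ℕ) (a : A)
    (ha : a ∈ 𝔞 ^ (m + 1)) : D a ∈ (𝔞 ^ m).map (Ideal.Quotient.mk J) := by
  induction m generalizing a with
  | zero =>
    rw [pow_zero, Ideal.one_eq_top, Ideal.map_top]; trivial
  | succ m ih =>
    rw [pow_succ'] at ha
    refine Submodule.mul_induction_on ha ?_ ?_
    · intro b hb c hc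
      rw [Derivation.leibniz, smul_quot, smul_quot, pow_succ', Ideal.map_mul]
      refine Ideal.add_mem _ (Ideal.mul_mem_mul (Ideal.mem_map_of_mem _ hb) (ih c hc)) ?_
      rw [← Ideal.map_mul, ← pow_succ']
      exact Ideal.mul_mem_right _ _ (Ideal.mem_map_of_mem _ hc)
    · intro x y hx hy
      rw [map_add]
      exact Ideal.add_mem _ hx hy

theorem chain_rule {M : Type*} [AddCommGroup M] [Module A M] [Module k M] [IsScalarTower k A M]
    {r : ℕ} (D : Derivation k A M) (x : Fin r → A) (f : MvPolynomial (Fin r) k) :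
    D (MvPolynomial.aeval x f) =
      ∑ j, MvPolynomial.aeval x (MvPolynomial.pderiv j f) • D (x j) := by
  induction f using MvPolynomial.induction_on with
  | C c =>
    simp
  | add f g hf hg =>
    simp only [map_add, hf, hg, add_smul, Finset.sum_add_distrib]
  | mul_X f l hf =>
    classical
    rw [map_mul, MvPolynomial.aeval_X, Derivation.leibniz, hf]
    have h1 : ∀ j : Fin r, MvPolynomial.aeval x (MvPolynomial.pderiv j (f * MvPolynomial.X l)) =
        MvPolynomial.aeval x f * (if l = j then 1 else 0) +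
          x l * MvPolynomial.aeval x (MvPolynomial.pderiv j f) := by
      intro j
      rw [Derivation.leibniz, MvPolynomial.pderiv_X, smul_eq_mul, smul_eq_mul, map_add, map_mul,
        map_mul, MvPolynomial.aeval_X]
      congr 2
      rw [Pi.single_apply]
      split_ifs with h <;> simp
    simp only [h1, add_smul, Finset.sum_add_distrib, Finset.smul_sum]
    congr 1
    · rw [Finset.sum_eq_single l]
      · simp
      · intro j _ hj
        rw [if_neg (Ne.symm hj)]
        simp
      · intro h; exact absurd (Finset.mem_univ l) h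
    · refine Finset.sum_congr rfl fun j _ => ?_
      rw [mul_smul]

theorem aeval_mem_pow {r : ℕ} (x : Fin r → A) (𝔞 : Ideal A) (hx : ∀ i, x i ∈ 𝔞) (m : ℕ)
    (f : MvPolynomial (Fin r) k) (hf : f.IsHomogeneous m) : MvPolynomial.aeval x f ∈ 𝔞 ^ m := by
  have h1 : MvPolynomial.aeval x f =
      MvPolynomial.eval x (MvPolynomial.map (algebraMap k A) f) := by
    rw [MvPolynomial.aeval_def, MvPolynomial.eval₂_eq_eval_map]
  have h2 : MvPolynomial.aeval x f ∈ Ideal.span (Set.range x) ^ m := by
    rw [Ideal.mem_span_pow_iff_exists_isHomogeneous]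
    exact ⟨MvPolynomial.map (algebraMap k A) f, hf.map _, h1.symm⟩
  refine Ideal.pow_right_mono ?_ m h2
  rw [Ideal.span_le]
  rintro _ ⟨i, rfl⟩
  exact hx i

end general

section main

variable {k : Type u} {A : Type v} [Field k] [CommRing A] [Algebra k A] (ε : A →ₐ[k] k)

/-- an `ε`-derivation: a functional with `∂(ab) = ε(a)∂(b) + ε(b)∂(a)` -/
def IsEpsDer (d : A →ₗ[k] k) : Prop :=
  ∀ a b : A, d (a * b) = ε a * d b + ε b * d a

/-- every point derivation at `ε` extends to a truncated derivation -/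
def HasTruncDer : Prop :=
  ∀ (N : ℕ) (d : A →ₗ[k] k), IsEpsDer ε d →
    ∃ D : Derivation k A (A ⧸ I ε ^ (N + 1)), ∀ a, ∃ c ∈ I ε,
      D a = Ideal.Quotient.mk _ (algebraMap k A (d a) + c)

variable {r : ℕ} (b : Module.Basis (Fin r) k (I ε).Cotangent) (x : Fin r → A)
  (hxI : ∀ i, x i ∈ I ε) (hxb : ∀ i, (I ε).toCotangent ⟨x i, hxI i⟩ = b i)

/-- the coordinate functionals -/
noncomputable def dd (i : Fin r) : A →ₗ[k] k :=
  (b.coord i) ∘ₗ (der ε).toLinearMap

theorem dd_isEpsDer (i : Fin r) : IsEpsDer ε (dd ε b i) := by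
  intro a c
  unfold dd
  simp only [LinearMap.comp_apply, Derivation.coeFn_coe, Derivation.leibniz]
  rw [smul_eq_eps_smul', smul_eq_eps_smul' _ c, map_add, map_smul, map_smul, smul_eq_mul,
    smul_eq_mul]

include hxb in
theorem dd_x (i j : Fin r) : dd ε b i (x j) = if i = j then 1 else 0 := by
  unfold dd
  rw [LinearMap.comp_apply]
  change b.coord i (der ε (x j)) = _
  rw [der_apply_of_mem _ _ (hxI j), hxb, Module.Basis.coord_apply, Module.Basis.repr_self,
    Finsupp.single_apply]
  simp only [eq_comm]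

include hxb in
theorem eq_zero_of_aeval_mem (hH : HasTruncDer ε) (m : ℕ) (hm : (m.factorial : k) ≠ 0)
    (f : MvPolynomial (Fin r) k) (hf : f.IsHomogeneous m)
    (hmem : MvPolynomial.aeval x f ∈ I ε ^ (m + 1)) : f = 0 := by
  induction m generalizing f with
  | zero =>
    have hC : f = MvPolynomial.C (MvPolynomial.coeff 0 f) := by
      rw [← MvPolynomial.totalDegree_eq_zero_iff_eq_C]
      exact Nat.le_zero.mp hf.totalDegree_le
    rw [hC, MvPolynomial.aeval_C, zero_add, pow_one, RingHom.mem_ker] at hmem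
    have h0 : MvPolynomial.coeff 0 f = 0 := by
      have := hmem
      change ε (algebraMap k A (MvPolynomial.coeff 0 f)) = 0 at this
      rwa [AlgHom.commutes, Algebra.algebraMap_self_apply] at this
    rw [hC, h0, map_zero]
  | succ m ih =>
    have hm1 : ((m + 1 : ℕ) : k) ≠ 0 := by
      intro h
      apply hm
      rw [Nat.factorial_succ, Nat.cast_mul, h, zero_mul]
    have hm' : (m.factorial : k) ≠ 0 := by
      intro h
      apply hm
      rw [Nat.factorial_succ, Nat.cast_mul, h, mul_zero]
    have hpd : ∀ i, MvPolynomial.pderiv i f = 0 := by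
      intro i
      apply ih hm' _ (hf.pderiv)
      obtain ⟨D, hD⟩ := hH m (dd ε b i) (dd_isEpsDer ε b i)
      have h1 := deriv_pow_mem _ D (I ε) (m + 1) _ hmem
      rw [Ideal.map_quotient_self, Ideal.mem_bot, chain_rule] at h1
      choose c hc hDc using fun j => hD (x j)
      have h2 : ∑ j, MvPolynomial.aeval x (MvPolynomial.pderiv j f) • D (x j) =
          Ideal.Quotient.mk (I ε ^ (m + 1)) (MvPolynomial.aeval x (MvPolynomial.pderiv i f) +
          ∑ j, MvPolynomial.aeval x (MvPolynomial.pderiv j f) * c j) := by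
        rw [map_add, map_sum]
        have h3 : ∀ j, MvPolynomial.aeval x (MvPolynomial.pderiv j f) • D (x j) =
            Ideal.Quotient.mk (I ε ^ (m + 1))
              (MvPolynomial.aeval x (MvPolynomial.pderiv j f) * (if i = j then 1 else 0)) +
            Ideal.Quotient.mk (I ε ^ (m + 1))
              (MvPolynomial.aeval x (MvPolynomial.pderiv j f) * c j) := by
          intro j
          rw [smul_quot, hDc j, dd_x ε b x hxI hxb, ← map_mul, ← map_add, ← mul_add]
          congr 2
          split_ifs <;> simp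
        rw [Finset.sum_congr rfl fun j _ => h3 j, Finset.sum_add_distrib]
        congr 1
        rw [← map_sum]
        congr 1
        simp
      rw [h2, Ideal.Quotient.eq_zero_iff_mem] at h1
      have h3 : ∑ j, MvPolynomial.aeval x (MvPolynomial.pderiv j f) * c j ∈ I ε ^ (m + 1) := by
        refine Ideal.sum_mem _ fun j _ => ?_
        rw [pow_succ]
        exact Ideal.mul_mem_mul (aeval_mem_pow x _ hxI m _ hf.pderiv) (hc j)
      exact (Ideal.add_mem_iff_left _ h3).mp h1
    have heuler := hf.sum_X_mul_pderiv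
    simp only [hpd, mul_zero, Finset.sum_const_zero] at heuler
    have : ((m + 1 : ℕ) : k) • f = 0 := by
      rw [Nat.cast_smul_eq_nsmul]; exact heuler.symm
    exact (smul_eq_zero.mp this).resolve_left hm1

end main

section span

variable {k : Type u} {A : Type v} [Field k] [CommRing A] [Algebra k A] (ε : A →ₐ[k] k) {r : ℕ}
  (b : Module.Basis (Fin r) k (I ε).Cotangent) (x : Fin r → A)
  (hxI : ∀ i, x i ∈ I ε) (hxb : ∀ i, (I ε).toCotangent ⟨x i, hxI i⟩ = b i)

include hxb in
theorem I_le_sup : I ε ≤ Ideal.span (Set.range x) ⊔ I ε ^ 2 := by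
  intro y hy
  have h1 := b.sum_repr ((I ε).toCotangent ⟨y, hy⟩)
  have h2 : ∑ i, b.repr ((I ε).toCotangent ⟨y, hy⟩) i • b i =
      (I ε).toCotangent (∑ i, b.repr ((I ε).toCotangent ⟨y, hy⟩) i • ⟨x i, hxI i⟩) := by
    rw [map_sum]
    refine Finset.sum_congr rfl fun i _ => ?_
    rw [← hxb, ← algebraMap_smul A, ← map_smul, algebraMap_smul]
  rw [h2, Ideal.toCotangent_eq] at h1
  have h3 : y = ((∑ i, b.repr ((I ε).toCotangent ⟨y, hy⟩) i •
      (⟨x i, hxI i⟩ : I ε) : I ε) : A) +
      -((((∑ i, b.repr ((I ε).toCotangent ⟨y, hy⟩) i •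
      (⟨x i, hxI i⟩ : I ε) : I ε) : A)) - y) := by
    ring
  rw [h3]
  refine Submodule.add_mem _ (Submodule.mem_sup_left ?_)
    (Submodule.mem_sup_right (Ideal.neg_mem_iff _ |>.mpr h1))
  rw [AddSubmonoidClass.coe_finsetSum]
  refine Ideal.sum_mem _ fun i _ => ?_
  have : ((b.repr ((I ε).toCotangent ⟨y, hy⟩) i •
      (⟨x i, hxI i⟩ : I ε) : I ε) : A) =
      algebraMap k A (b.repr ((I ε).toCotangent ⟨y, hy⟩) i) * x i := by
    change b.repr ((I ε).toCotangent ⟨y, hy⟩) i • x i = _
    rw [Algebra.smul_def]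
  rw [this]
  exact Ideal.mul_mem_left _ _ (Ideal.subset_span ⟨i, rfl⟩)

include hxb in
theorem pow_le_sup (n : ℕ) : I ε ^ n ≤ Ideal.span (Set.range x) ^ n ⊔ I ε ^ (n + 1) := by
  have hX : Ideal.span (Set.range x) ≤ I ε := by
    rw [Ideal.span_le]; rintro _ ⟨i, rfl⟩; exact hxI i
  induction n with
  | zero => rw [pow_zero, pow_zero]; exact le_sup_left
  | succ n ih =>
    calc I ε ^ (n + 1)
        = I ε * I ε ^ n := pow_succ' _ _
      _ ≤ (Ideal.span (Set.range x) ⊔ I ε ^ 2) *
            (Ideal.span (Set.range x) ^ n ⊔ I ε ^ (n + 1)) :=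
          Ideal.mul_mono (I_le_sup ε b x hxI hxb) ih
      _ ≤ Ideal.span (Set.range x) ^ (n + 1) ⊔ I ε ^ (n + 1 + 1) := by
          rw [Ideal.sup_mul, Ideal.mul_sup, Ideal.mul_sup]
          refine sup_le (sup_le ?_ ?_) (sup_le ?_ ?_)
          · rw [← pow_succ']; exact le_sup_left
          · refine le_trans (Ideal.mul_mono_left hX) ?_
            rw [← pow_succ']; exact le_sup_right
          · refine le_trans (Ideal.mul_mono_right (Ideal.pow_right_mono hX n)) ?_
            rw [← pow_add]
            have : 2 + n = n + 1 + 1 := by ring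
            rw [this]; exact le_sup_right
          · rw [← pow_add]
            exact le_trans (Ideal.pow_le_pow_right (by omega)) le_sup_right

include hxb in
theorem exists_poly (n : ℕ) (y : A) (hy : y ∈ I ε ^ n) :
    ∃ f : MvPolynomial (Fin r) k, f.IsHomogeneous n ∧
      y - MvPolynomial.aeval x f ∈ I ε ^ (n + 1) := by
  obtain ⟨y₁, hy₁, y₂, hy₂, rfl⟩ := Submodule.mem_sup.mp (pow_le_sup ε b x hxI hxb n hy)
  rw [Ideal.mem_span_pow_iff_exists_isHomogeneous] at hy₁
  obtain ⟨p, hp, rfl⟩ := hy₁
  refine ⟨MvPolynomial.map (ε : A →+* k) p, hp.map _, ?_⟩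
  have h1 : MvPolynomial.aeval x (MvPolynomial.map (ε : A →+* k) p) =
      MvPolynomial.eval₂ ((algebraMap k A).comp (ε : A →+* k)) x p := by
    rw [MvPolynomial.aeval_def, MvPolynomial.eval₂_map]
  have h2 : MvPolynomial.eval x p - MvPolynomial.eval₂
      ((algebraMap k A).comp (ε : A →+* k)) x p ∈ I ε ^ (n + 1) := by
    rw [MvPolynomial.eval_eq, MvPolynomial.eval₂_eq, ← Finset.sum_sub_distrib]
    refine Ideal.sum_mem _ fun d hd => ?_
    rw [← sub_mul, pow_succ']
    refine Ideal.mul_mem_mul ?_ ?_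
    · exact sub_mem_I ε _
    · have hd' := hp (MvPolynomial.mem_support_iff.mp hd)
      have hmono : (MvPolynomial.monomial d (1 : k)).IsHomogeneous n :=
        MvPolynomial.isWeightedHomogeneous_monomial 1 d 1 hd'
      have := aeval_mem_pow x _ hxI n _ hmono
      rwa [MvPolynomial.aeval_monomial, map_one, one_mul, Finsupp.prod] at this
  rw [h1, add_sub_right_comm]
  exact Ideal.add_mem _ h2 hy₂

end span

section final

variable {k : Type u} {A : Type v} [Field k] [CommRing A] [Algebra k A] (ε : A →ₐ[k] k)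

theorem finite_cotangent [IsNoetherianRing A] : Module.Finite k (I ε).Cotangent := by
  haveI : IsNoetherian A (I ε) := isNoetherian_submodule' _
  haveI : Module.Finite A (I ε) := Module.IsNoetherian.finite _ _
  haveI : Module.Finite A (I ε).Cotangent :=
    Module.Finite.of_surjective (I ε).toCotangent (Ideal.toCotangent_surjective _)
  obtain ⟨s, hs⟩ := (Module.Finite.fg_top : (⊤ : Submodule A (I ε).Cotangent).FG)
  refine ⟨⟨s, ?_⟩⟩
  rw [eq_top_iff]
  intro m _
  have hm : m ∈ Submodule.span A (s : Set (I ε).Cotangent) := by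
    rw [hs]; trivial
  refine Submodule.span_induction ?_ ?_ ?_ ?_ hm
  · intro x hx; exact Submodule.subset_span hx
  · exact Submodule.zero_mem _
  · intro x y _ _ hx hy; exact Submodule.add_mem _ hx hy
  · intro a x _ hx
    rw [smul_eq_eps_smul']
    exact Submodule.smul_mem _ _ hx

/-- **Cartier's theorem, local algebraic form.** -/
theorem isReduced [CharZero k] [IsNoetherianRing A] [IsLocalRing A] (hH : HasTruncDer ε) :
    IsReduced A := by
  haveI := finite_cotangent ε
  let b := Module.finBasis k (I ε).Cotangent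
  have hsurj := Ideal.toCotangent_surjective (I ε)
  choose y hy using fun i => hsurj (b i)
  set x : Fin (Module.finrank k (I ε).Cotangent) → A := fun i => (y i : A) with hx
  have hxI : ∀ i, x i ∈ I ε := fun i => (y i).2
  have hxb : ∀ i, (I ε).toCotangent ⟨x i, hxI i⟩ = b i := fun i => hy i
  have hne : I ε ≠ ⊤ := by
    intro h
    have h1 : (1 : A) ∈ I ε := h ▸ Submodule.mem_top
    rw [RingHom.mem_ker, map_one] at h1
    exact one_ne_zero h1
  have hkrull : ⨅ n, I ε ^ n = ⊥ := Ideal.iInf_pow_eq_bot_of_isLocalRing _ hne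
  rw [← nilradical_eq_bot_iff, eq_bot_iff]
  intro z hz
  rw [Ideal.mem_bot]
  by_contra hz0
  -- find the order of `z`
  have hex : ∃ n, z ∉ I ε ^ n := by
    by_contra hall
    have : z ∈ ⨅ n, I ε ^ n := by
      rw [Ideal.mem_iInf]
      intro n
      by_contra hn
      exact hall ⟨n, hn⟩
    rw [hkrull, Ideal.mem_bot] at this
    exact hz0 this
  classical
  set n := Nat.find hex with hn
  have hn1 : z ∉ I ε ^ n := Nat.find_spec hex
  have hnpos : n ≠ 0 := by
    intro h0
    rw [h0, pow_zero, Ideal.one_eq_top] at hn1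
    exact hn1 Submodule.mem_top
  obtain ⟨j, hj⟩ := Nat.exists_eq_succ_of_ne_zero hnpos
  have hzj : z ∈ I ε ^ j := by
    by_contra hcon
    have := Nat.find_min' hex hcon
    omega
  rw [hj] at hn1
  obtain ⟨f, hf, hfz⟩ := exists_poly ε b x hxI hxb j z hzj
  have hf0 : f ≠ 0 := by
    rintro rfl
    rw [map_zero, sub_zero] at hfz
    exact hn1 hfz
  obtain ⟨M, hM⟩ := mem_nilradical.mp hz
  -- `(aeval x f)^M ∈ 𝔞^(jM+1)`
  have hpow : MvPolynomial.aeval x (f ^ M) ∈ I ε ^ (j * M + 1) := by
    rw [map_pow]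
    have hgeom := geom_sum₂_mul (MvPolynomial.aeval x f) z M
    rw [hM, sub_zero] at hgeom
    rw [← hgeom]
    have h1 : MvPolynomial.aeval x f ∈ I ε ^ j := aeval_mem_pow x _ hxI j f hf
    have h2 : MvPolynomial.aeval x f - z ∈ I ε ^ (j + 1) := by
      rw [← Ideal.neg_mem_iff, neg_sub]; exact hfz
    rcases Nat.eq_zero_or_pos M with hM0 | hMpos
    · subst hM0
      simp
    have h3 : ∑ i ∈ Finset.range M, MvPolynomial.aeval x f ^ i * z ^ (M - 1 - i) ∈
        I ε ^ (j * (M - 1)) := by
      refine Ideal.sum_mem _ fun i hi => ?_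
      have hi' : i < M := Finset.mem_range.mp hi
      have : j * (M - 1) = j * i + j * (M - 1 - i) := by
        rw [← Nat.mul_add]; congr 1; omega
      rw [this, pow_add, pow_mul, pow_mul]
      exact Ideal.mul_mem_mul (Ideal.pow_mem_pow h1 i) (Ideal.pow_mem_pow hzj _)
    have h4 : j * M + 1 = j * (M - 1) + (j + 1) := by
      have : M = (M - 1) + 1 := by omega
      conv_lhs => rw [this]
      ring
    rw [h4, pow_add]
    exact Ideal.mul_mem_mul h3 h2
  have hfM : f ^ M = 0 :=
    eq_zero_of_aeval_mem ε b x hxI hxb hH (j * M) (Nat.cast_ne_zero.mpr (Nat.factorial_ne_zero _))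
      (f ^ M) (hf.pow M) hpow
  exact hf0 (pow_eq_zero_iff (by
    rintro rfl
    rw [pow_zero] at hfM
    exact one_ne_zero hfM) |>.mp hfM)

end final

end Groth.Agent.Helper7.CartierAlg
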