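import Mathlib
import Groth.Agent.Helper7.CartierAlg

/-!
# From a formal multiplication on points to truncated derivations
-/

set_option linter.style.haveILetI false
set_option linter.unusedSectionVars false
set_option autoImplicit false

universe u

namespace Groth.Agent.Helper7.CartierDual

open Groth.Agent.Helper7.UnitSm Groth.Agent.Helper7.CartierAlg TrivSqZeroExt

theorem isLocalRing_tsze (Q : Type u) [CommRing Q] [IsLocalRing Q] :
    IsLocalRing (TrivSqZeroExt Q Q) := by
  apply IsLocalRing.of_nonunits_add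
  intro a b ha hb
  rw [mem_nonunits_iff, isUnit_iff_isUnit_fst] at ha hb ⊢
  rw [fst_add]
  exact IsLocalRing.nonunits_add ha hb

section

variable {K : Type u} {A : Type u} [Field K] [CommRing A] [Algebra K A] (ε : A →ₐ[K] K)

/-- a natural unital multiplication on the `R`-points of `A`, for augmented local `K`-algebras `R` -/
def HasFormalMul : Prop :=
  ∃ m : ∀ (R : Type u) [CommRing R] [Algebra K R] [IsLocalRing R],
      (R →ₐ[K] K) → (A →ₐ[K] R) → (A →ₐ[K] R) → (A →ₐ[K] R),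
    (∀ (R R' : Type u) [CommRing R] [Algebra K R] [IsLocalRing R] [CommRing R'] [Algebra K R']
      [IsLocalRing R'] (ρ : R →ₐ[K] K) (ρ' : R' →ₐ[K] K) (g : R →ₐ[K] R') (φ₁ φ₂ : A →ₐ[K] R),
      g.comp (m R ρ φ₁ φ₂) = m R' ρ' (g.comp φ₁) (g.comp φ₂)) ∧
    (∀ (R : Type u) [CommRing R] [Algebra K R] [IsLocalRing R] (ρ : R →ₐ[K] K) (φ : A →ₐ[K] R),
      m R ρ φ ((Algebra.ofId K R).comp ε) = φ) ∧
    (∀ (R : Type u) [CommRing R] [Algebra K R] [IsLocalRing R] (ρ : R →ₐ[K] K) (φ : A →ₐ[K] R),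
      m R ρ ((Algebra.ofId K R).comp ε) φ = φ)

/-- the underlying function of `dualHom` -/
noncomputable def dualFun (Q : Type u) [CommRing Q] [Algebra K Q] (d : A →ₗ[K] K) (a : A) :
    TrivSqZeroExt Q Q :=
  inl (algebraMap K Q (ε a)) + inr (algebraMap K Q (d a))

theorem dualFun_fst (Q : Type u) [CommRing Q] [Algebra K Q] (d : A →ₗ[K] K) (a : A) :
    (dualFun ε Q d a).fst = algebraMap K Q (ε a) := by
  rw [dualFun, fst_add, fst_inl, fst_inr, add_zero]

theorem dualFun_snd (Q : Type u) [CommRing Q] [Algebra K Q] (d : A →ₗ[K] K) (a : A) :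
    (dualFun ε Q d a).snd = algebraMap K Q (d a) := by
  rw [dualFun, snd_add, snd_inl, snd_inr, zero_add]

theorem isEpsDer_one (d : A →ₗ[K] K) (hd : IsEpsDer ε d) : d 1 = 0 := by
  have := hd 1 1
  rw [mul_one, map_one ε, one_mul] at this
  linear_combination -this

/-- the algebra map to the dual numbers attached to a point derivation -/
noncomputable def dualHom (Q : Type u) [CommRing Q] [Algebra K Q] (d : A →ₗ[K] K)
    (hd : IsEpsDer ε d) : A →ₐ[K] TrivSqZeroExt Q Q where
  toFun := dualFun ε Q d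
  map_one' := by
    apply TrivSqZeroExt.ext
    · rw [dualFun_fst, map_one, map_one, fst_one]
    · rw [dualFun_snd, isEpsDer_one ε d hd, map_zero, snd_one]
  map_mul' a b := by
    apply TrivSqZeroExt.ext
    · rw [fst_mul, dualFun_fst, dualFun_fst, dualFun_fst, map_mul, map_mul]
    · rw [snd_mul, dualFun_fst, dualFun_fst, dualFun_snd, dualFun_snd, dualFun_snd, hd a b,
        map_add, map_mul, map_mul, smul_eq_mul, MulOpposite.smul_eq_mul_unop,
        MulOpposite.unop_op]
      ring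
  map_zero' := by
    apply TrivSqZeroExt.ext
    · rw [dualFun_fst, map_zero, map_zero, fst_zero]
    · rw [dualFun_snd, map_zero, map_zero, snd_zero]
  map_add' a b := by
    apply TrivSqZeroExt.ext
    · rw [fst_add, dualFun_fst, dualFun_fst, dualFun_fst, map_add, map_add]
    · rw [snd_add, dualFun_snd, dualFun_snd, dualFun_snd, map_add, map_add]
  commutes' c := by
    apply TrivSqZeroExt.ext
    · rw [dualFun_fst, AlgHom.commutes, Algebra.algebraMap_self_apply, algebraMap_eq_inl', fst_inl]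
    · rw [dualFun_snd, algebraMap_eq_inl', snd_inl]
      have : d (algebraMap K A c) = 0 := by
        rw [Algebra.algebraMap_eq_smul_one, map_smul, isEpsDer_one ε d hd, smul_zero]
      rw [this, map_zero]

theorem dualHom_fst (Q : Type u) [CommRing Q] [Algebra K Q] (d : A →ₗ[K] K)
    (hd : IsEpsDer ε d) (a : A) : (dualHom ε Q d hd a).fst = algebraMap K Q (ε a) :=
  dualFun_fst ε Q d a

theorem dualHom_snd (Q : Type u) [CommRing Q] [Algebra K Q] (d : A →ₗ[K] K)
    (hd : IsEpsDer ε d) (a : A) : (dualHom ε Q d hd a).snd = algebraMap K Q (d a) :=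
  dualFun_snd ε Q d a

/-- reduction of dual numbers along an augmentation -/
noncomputable def theta (Q : Type u) [CommRing Q] [Algebra K Q] (ρQ : Q →ₐ[K] K) :
    TrivSqZeroExt Q Q →ₐ[K] TrivSqZeroExt K K :=
  TrivSqZeroExt.lift ((inlAlgHom K K K).comp ρQ) ((inrHom K K) ∘ₗ ρQ.toLinearMap)
    (fun x y => by
      simp only [LinearMap.comp_apply, inrHom_apply]
      exact inr_mul_inr K _ _)
    (fun r x => by
      simp only [LinearMap.comp_apply, inrHom_apply, AlgHom.toLinearMap_apply, AlgHom.comp_apply,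
        inlAlgHom_apply, smul_eq_mul, map_mul]
      rw [inl_mul_inr, smul_eq_mul])
    (fun r x => by
      simp only [LinearMap.comp_apply, inrHom_apply, AlgHom.toLinearMap_apply, AlgHom.comp_apply,
        inlAlgHom_apply, MulOpposite.smul_eq_mul_unop, MulOpposite.unop_op, map_mul]
      rw [inr_mul_inl, MulOpposite.smul_eq_mul_unop, MulOpposite.unop_op])

theorem theta_apply (Q : Type u) [CommRing Q] [Algebra K Q] (ρQ : Q →ₐ[K] K)
    (z : TrivSqZeroExt Q Q) : theta Q ρQ z = inl (ρQ z.fst) + inr (ρQ z.snd) := rfl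

variable [IsLocalRing A]

theorem hasTruncDer_of_hasFormalMul (hm : HasFormalMul ε) : HasTruncDer ε := by
  obtain ⟨m, hnat, hmul1, h1mul⟩ := hm
  intro N d hd
  have hJ : I ε ^ (N + 1) ≤ I ε := Ideal.pow_le_self (Nat.succ_ne_zero N)
  have hne : I ε ≠ ⊤ := by
    intro h
    have h1 : (1 : A) ∈ I ε := h ▸ Submodule.mem_top
    rw [RingHom.mem_ker, map_one] at h1
    exact one_ne_zero h1
  have hJne : I ε ^ (N + 1) ≠ ⊤ := fun h => hne (top_le_iff.mp (h ▸ hJ))
  haveI : Nontrivial (A ⧸ I ε ^ (N + 1)) := Ideal.Quotient.nontrivial_iff.mpr hJne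
  haveI : IsLocalRing (A ⧸ I ε ^ (N + 1)) :=
    IsLocalRing.of_surjective' (Ideal.Quotient.mk (I ε ^ (N + 1))) Ideal.Quotient.mk_surjective
  haveI : IsLocalRing (TrivSqZeroExt (A ⧸ I ε ^ (N + 1)) (A ⧸ I ε ^ (N + 1))) :=
    isLocalRing_tsze _
  haveI : IsLocalRing (TrivSqZeroExt K K) := isLocalRing_tsze K
  let ρQ : A ⧸ I ε ^ (N + 1) →ₐ[K] K := Ideal.Quotient.liftₐ (I ε ^ (N + 1)) ε (fun a ha => hJ ha)
  have hρQ : ∀ a, ρQ (Ideal.Quotient.mk _ a) = ε a := fun a => rfl
  let ρR : TrivSqZeroExt (A ⧸ I ε ^ (N + 1)) (A ⧸ I ε ^ (N + 1)) →ₐ[K] K :=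
    ρQ.comp (fstHom K _ _)
  let ρK : TrivSqZeroExt K K →ₐ[K] K := fstHom K K K
  let π : A →ₐ[K] A ⧸ I ε ^ (N + 1) := Ideal.Quotient.mkₐ K (I ε ^ (N + 1))
  let p₁ : A →ₐ[K] TrivSqZeroExt (A ⧸ I ε ^ (N + 1)) (A ⧸ I ε ^ (N + 1)) :=
    (inlAlgHom K _ _).comp π
  let p₂ := dualHom ε (A ⧸ I ε ^ (N + 1)) d hd
  set Δ := m _ ρR p₁ p₂ with hΔ
  have hfst : (fstHom K (A ⧸ I ε ^ (N + 1)) (A ⧸ I ε ^ (N + 1))).comp Δ = π := by
    rw [hΔ, hnat _ _ ρR ρQ (fstHom K _ _) p₁ p₂]
    have e1 : (fstHom K (A ⧸ I ε ^ (N + 1)) (A ⧸ I ε ^ (N + 1))).comp p₁ = π := by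
      ext a; rfl
    have e2 : (fstHom K (A ⧸ I ε ^ (N + 1)) (A ⧸ I ε ^ (N + 1))).comp p₂ =
        (Algebra.ofId K _).comp ε := by
      ext a
      exact dualHom_fst ε _ d hd a
    rw [e1, e2, hmul1]
  have hθ : (theta _ ρQ).comp Δ = dualHom ε K d hd := by
    rw [hΔ, hnat _ _ ρR ρK (theta _ ρQ) p₁ p₂]
    have e1 : (theta _ ρQ).comp p₁ = (Algebra.ofId K _).comp ε := by
      ext a
      · change (theta _ ρQ (inl (Ideal.Quotient.mk _ a))).fst = _
        rw [theta_apply, fst_inl, snd_inl, map_zero, inr_zero, add_zero, fst_inl, hρQ]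
        rfl
      · change (theta _ ρQ (inl (Ideal.Quotient.mk _ a))).snd = _
        rw [theta_apply, fst_inl, snd_inl, map_zero, inr_zero, add_zero, snd_inl]
        rfl
    have e2 : (theta _ ρQ).comp p₂ = dualHom ε K d hd := by
      ext a
      · change (theta _ ρQ (dualHom ε _ d hd a)).fst = _
        rw [theta_apply, dualHom_fst, dualHom_snd, fst_add, fst_inl, fst_inr, add_zero,
          AlgHom.commutes, dualHom_fst]
      · change (theta _ ρQ (dualHom ε _ d hd a)).snd = _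
        rw [theta_apply, dualHom_fst, dualHom_snd, snd_add, snd_inl, snd_inr, zero_add,
          AlgHom.commutes, dualHom_snd]
    rw [e1, e2, h1mul]
  have hfst' : ∀ a, (Δ a).fst = Ideal.Quotient.mk _ a := fun a =>
    congrArg (fun f => f a) hfst
  have hsnd : ∀ a, ρQ (Δ a).snd = d a := by
    intro a
    have h1 := congrArg (fun f => (f a).snd) hθ
    change (theta _ ρQ (Δ a)).snd = (dualHom ε K d hd a).snd at h1
    rw [theta_apply, snd_add, snd_inl, snd_inr, zero_add, dualHom_snd] at h1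
    exact h1
  let L : A →ₗ[K] A ⧸ I ε ^ (N + 1) :=
    { toFun := fun a => (Δ a).snd
      map_add' := fun a b => by rw [map_add, snd_add]
      map_smul' := fun c a => by rw [map_smul, snd_smul, RingHom.id_apply] }
  let D : Derivation K A (A ⧸ I ε ^ (N + 1)) := Derivation.mk' L (fun a b => by
    change (Δ (a * b)).snd = a • (Δ b).snd + b • (Δ a).snd
    rw [map_mul, snd_mul, hfst', hfst', smul_quot, smul_quot, smul_eq_mul,
      MulOpposite.smul_eq_mul_unop, MulOpposite.unop_op]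
    ring)
  refine ⟨D, fun a => ?_⟩
  obtain ⟨b, hb⟩ := Ideal.Quotient.mk_surjective (D a)
  refine ⟨b - algebraMap K A (d a), ?_, ?_⟩
  · rw [RingHom.mem_ker, map_sub, AlgHom.commutes, Algebra.algebraMap_self_apply, sub_eq_zero]
    have := hsnd a
    change ρQ (D a) = d a at this
    rw [← hb, hρQ] at this
    exact this
  · rw [← hb]
    congr 1
    ring

end

end Groth.Agent.Helper7.CartierDual
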