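import Mathlib
import Groth.Prelude.Def_EtRam

/-!
# DomValA: a valuation subring of a finite separable extension dominating a DVR is a DVR
-/

set_option autoImplicit false
universe u

namespace Groth.Agent.Helper7.DomVal

open IsLocalRing

section Basic

variable {A : Type u} [CommRing A] [IsLocalRing A] {L : Type u} [Field L]

/-- domination gives a local homomorphism `A → V` -/
theorem isLocalHom_codRestrict (g : A →+* L) (V : ValuationSubring L) (hV : EtRam.Dominates A g V) :
    IsLocalHom (RingHom.codRestrict g V hV.1) := by
  constructor
  intro a ha
  by_contra hna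
  have hmem : a ∈ maximalIdeal A := hna
  have h1 := hV.2 a hmem
  have h2 : V.valuation ((RingHom.codRestrict g V hV.1 a : V) : L) = 1 :=
    (V.valuation_eq_one_iff _).1 ha
  rw [RingHom.codRestrict_apply] at h2
  exact absurd h2 (ne_of_lt h1)

theorem mem_maximalIdeal_iff (V : ValuationSubring L) (x : V) :
    x ∈ maximalIdeal V ↔ V.valuation (x : L) < 1 := V.valuation_lt_one_iff x

end Basic

section DVR

variable {A K L : Type u} [CommRing A] [IsDomain A] [IsDiscreteValuationRing A] [Field K]
  [Algebra A K] [IsFractionRing A K] [Field L] [Algebra K L] [Algebra A L] [IsScalarTower A K L]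
  [FiniteDimensional K L] [Algebra.IsSeparable K L]

include K in
theorem isDVR_of_dominates (V : ValuationSubring L)
    (hV : EtRam.Dominates A (algebraMap A L) V) : IsDiscreteValuationRing V := by
  classical
  letI algAV : Algebra A V := (RingHom.codRestrict (algebraMap A L) V hV.1).toAlgebra
  haveI : IsScalarTower A V L := IsScalarTower.of_algebraMap_eq' rfl
  -- the integral closure lies in `V`
  have hCV : ∀ x : L, x ∈ integralClosure A L → x ∈ V := by
    intro x hx
    have hx' : IsIntegral V x := IsIntegral.tower_top (A := V) hx
    obtain ⟨y, rfl⟩ := IsIntegrallyClosed.isIntegral_iff.mp hx'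
    exact y.2
  haveI : IsDedekindDomain (integralClosure A L) := integralClosure.isDedekindDomain A K L
  haveI : IsFractionRing (integralClosure A L) L :=
    integralClosure.isFractionRing_of_finite_extension K L
  let f : integralClosure A L →+* V :=
    RingHom.codRestrict (algebraMap (integralClosure A L) L) V (fun x => hCV _ x.2)
  letI algCV : Algebra (integralClosure A L) V := f.toAlgebra
  haveI : IsScalarTower (integralClosure A L) V L := IsScalarTower.of_algebraMap_eq' rfl
  have hfinj : Function.Injective (algebraMap (integralClosure A L) V) := by
    intro x y hxy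
    have := congrArg (algebraMap V L) hxy
    rw [← IsScalarTower.algebraMap_apply, ← IsScalarTower.algebraMap_apply] at this
    exact IsFractionRing.injective (integralClosure A L) L this
  let q : Ideal (integralClosure A L) := (maximalIdeal V).comap (algebraMap (integralClosure A L) V)
  haveI hqp : q.IsPrime := Ideal.comap_isPrime _ _
  -- `q ≠ ⊥`
  obtain ⟨ϖ, hϖ⟩ := IsDiscreteValuationRing.exists_irreducible A
  have hq0 : q ≠ ⊥ := by
    intro hq
    have hmem : algebraMap A (integralClosure A L) ϖ ∈ q := by
      change algebraMap (integralClosure A L) V (algebraMap A (integralClosure A L) ϖ) ∈ maximalIdeal V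
      rw [mem_maximalIdeal_iff]
      have := hV.2 ϖ ((Irreducible.maximalIdeal_eq hϖ).symm ▸ Ideal.mem_span_singleton_self ϖ)
      exact this
    rw [hq, Ideal.mem_bot] at hmem
    have h2 := congrArg (algebraMap (integralClosure A L) L) hmem
    rw [← IsScalarTower.algebraMap_apply, map_zero, IsScalarTower.algebraMap_apply A K L,
      map_eq_zero, IsFractionRing.to_map_eq_zero_iff] at h2
    exact hϖ.ne_zero h2
  -- the DVR `D = C_q`
  let D := Localization.AtPrime q
  haveI : IsDiscreteValuationRing D :=
    IsLocalization.AtPrime.isDiscreteValuationRing_of_dedekind_domain (integralClosure A L) hq0 D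
  have hunit : ∀ s : q.primeCompl, IsUnit (algebraMap (integralClosure A L) V s) := by
    intro s
    by_contra hs
    exact s.2 hs
  haveI : IsLocalization.AtPrime V q := by
    refine ⟨hunit, ?_, ?_⟩
    · -- surjectivity
      intro x
      by_cases hx0 : x = 0
      · exact ⟨⟨0, 1⟩, by simp [hx0]⟩
      letI algDL : Algebra D L :=
        (IsLocalization.lift (M := q.primeCompl) (S := D)
          (g := algebraMap (integralClosure A L) L) (fun s => by
            rw [IsScalarTower.algebraMap_apply (integralClosure A L) V L]
            exact (hunit s).map _)).toAlgebra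
      haveI : IsScalarTower (integralClosure A L) D L :=
        IsScalarTower.of_algebraMap_eq' (by
          rw [RingHom.algebraMap_toAlgebra, IsLocalization.lift_comp])
      haveI : IsFractionRing D L :=
        IsFractionRing.isFractionRing_of_isDomain_of_isLocalization q.primeCompl D L
      have key : ∀ d : D, ∃ (c : integralClosure A L) (s : q.primeCompl),
          algebraMap D L d * algebraMap (integralClosure A L) L s =
            algebraMap (integralClosure A L) L c := by
        intro d
        obtain ⟨⟨c, s⟩, hcs⟩ := IsLocalization.surj q.primeCompl d
        refine ⟨c, s, ?_⟩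
        have := congrArg (algebraMap D L) hcs
        rw [map_mul, ← IsScalarTower.algebraMap_apply, ← IsScalarTower.algebraMap_apply] at this
        exact this
      rcases ValuationRing.isInteger_or_isInteger D ((x : V) : L) with ⟨d, hd⟩ | ⟨d, hd⟩
      · obtain ⟨c, s, hcs⟩ := key d
        refine ⟨⟨c, s⟩, ?_⟩
        apply Subtype.ext
        rw [hd] at hcs
        exact hcs
      · -- `x⁻¹ ∈ D`
        by_cases hdu : IsUnit d
        · obtain ⟨d', hd'⟩ := hdu.exists_left_inv
          obtain ⟨c, s, hcs⟩ := key d'
          refine ⟨⟨c, s⟩, ?_⟩
          apply Subtype.ext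
          have hx : ((x : V) : L) = algebraMap D L d' := by
            have h1 := congrArg (algebraMap D L) hd'
            rw [map_mul, map_one, hd] at h1
            have hxne : ((x : V) : L) ≠ 0 := fun h => hx0 (Subtype.ext h)
            field_simp at h1
            exact h1.symm
          change ((x : V) : L) * algebraMap (integralClosure A L) L s = _
          rw [hx]
          exact hcs
        · exfalso
          have hdm : d ∈ maximalIdeal D := hdu
          rw [← IsLocalization.AtPrime.map_eq_maximalIdeal q D] at hdm
          obtain ⟨⟨⟨c, hc⟩, s⟩, hcs⟩ := (IsLocalization.mem_map_algebraMap_iff q.primeCompl D).1 hdm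
          simp only at hcs
          have h1 := congrArg (algebraMap D L) hcs
          rw [map_mul, ← IsScalarTower.algebraMap_apply, ← IsScalarTower.algebraMap_apply, hd] at h1
          -- `x⁻¹ * s = c`, with `c ∈ m_V`, `s` unit
          have hxne : ((x : V) : L) ≠ 0 := fun h => hx0 (Subtype.ext h)
          have h2 : algebraMap (integralClosure A L) V s =
              x * algebraMap (integralClosure A L) V c := by
            apply Subtype.ext
            change algebraMap (integralClosure A L) L s = (x : L) * algebraMap (integralClosure A L) L c
            rw [← h1]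
            field_simp
          have h3 : algebraMap (integralClosure A L) V s ∈ maximalIdeal V := by
            rw [h2]
            exact Ideal.mul_mem_left _ _ hc
          exact h3 (hunit s)
    · intro x y hxy
      exact ⟨1, by rw [hfinj hxy]⟩
  exact IsLocalization.AtPrime.isDiscreteValuationRing_of_dedekind_domain
    (integralClosure A L) hq0 V

end DVR

end Groth.Agent.Helper7.DomVal
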