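import Mathlib
import Groth.Prelude.Def_EtRam
import Groth.Agent.Helper7.DomValA

/-!
# DomValB: towers of local rings: tame / unramified conditions compose and descend
-/

set_option autoImplicit false
universe u

namespace Groth.Agent.Helper7.DomVal

open IsLocalRing

section Abstract

variable {A V W : Type u} [CommRing A] [CommRing V] [CommRing W] [IsLocalRing A] [IsLocalRing V]
  [IsLocalRing W] [Algebra A V] [Algebra V W] [Algebra A W] [IsScalarTower A V W]
  [IsLocalHom (algebraMap A V)] [IsLocalHom (algebraMap V W)] [IsLocalHom (algebraMap A W)]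

/-- the tame condition at one place -/
def TameAt (A V : Type u) [CommRing A] [CommRing V] [IsLocalRing A] [IsLocalRing V] [Algebra A V]
    [IsLocalHom (algebraMap A V)] : Prop :=
  Algebra.IsSeparable (ResidueField A) (ResidueField V) ∧
    ∀ p : ℕ, p.Prime → CharP (ResidueField A) p →
      ¬ p ∣ Ideal.ramificationIdx' (maximalIdeal A) (maximalIdeal V)

/-- the unramified condition at one place -/
def UnramAt (A V : Type u) [CommRing A] [CommRing V] [IsLocalRing A] [IsLocalRing V] [Algebra A V]
    [IsLocalHom (algebraMap A V)] : Prop :=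
  EtRam.IsWeaklyUnramified A V ∧ Algebra.IsSeparable (ResidueField A) (ResidueField V)

theorem unramAt_comp (h1 : UnramAt A V) (h2 : UnramAt V W) : UnramAt A W := by
  obtain ⟨h1a, h1b⟩ := h1
  obtain ⟨h2a, h2b⟩ := h2
  refine ⟨?_, ?_⟩
  · unfold EtRam.IsWeaklyUnramified at *
    rw [IsScalarTower.algebraMap_eq A V W, ← Ideal.map_map, h1a, h2a]
  · exact Algebra.IsSeparable.trans (ResidueField A) (ResidueField V) (ResidueField W)

theorem ramificationIdx'_tower [IsDomain V] [IsDomain W] [IsDiscreteValuationRing V]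
    [IsDiscreteValuationRing W] (hVW : Function.Injective (algebraMap V W))
    (hAW : (maximalIdeal A).map (algebraMap A W) ≠ ⊥) :
    Ideal.ramificationIdx' (maximalIdeal A) (maximalIdeal W) =
      Ideal.ramificationIdx' (maximalIdeal A) (maximalIdeal V) *
        Ideal.ramificationIdx' (maximalIdeal V) (maximalIdeal W) := by
  refine Ideal.ramificationIdx'_algebra_tower ?_ hAW ?_
  · rw [Ne, Ideal.map_eq_bot_iff_of_injective hVW]
    exact IsDiscreteValuationRing.not_a_field V
  · have hl : IsLocalHom (algebraMap V W) := inferInstance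
    exact ((local_hom_TFAE (algebraMap V W)).out 0 2).1 hl

theorem tameAt_comp [IsDomain V] [IsDomain W] [IsDiscreteValuationRing V]
    [IsDiscreteValuationRing W] (hVW : Function.Injective (algebraMap V W))
    (hAW : (maximalIdeal A).map (algebraMap A W) ≠ ⊥)
    (h1 : TameAt A V) (h2 : TameAt V W) : TameAt A W := by
  obtain ⟨h1a, h1b⟩ := h1
  obtain ⟨h2a, h2b⟩ := h2
  refine ⟨Algebra.IsSeparable.trans (ResidueField A) (ResidueField V) (ResidueField W), ?_⟩
  intro p hp hcp hdvd
  rw [ramificationIdx'_tower hVW hAW] at hdvd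
  rcases (Nat.Prime.dvd_mul hp).1 hdvd with h | h
  · exact h1b p hp hcp h
  · haveI := hcp
    have : CharP (ResidueField V) p :=
      charP_of_injective_algebraMap (algebraMap (ResidueField A) (ResidueField V)).injective p
    exact h2b p hp this h

theorem tameAt_bot [IsDomain V] [IsDomain W] [IsDiscreteValuationRing V]
    [IsDiscreteValuationRing W] (hVW : Function.Injective (algebraMap V W))
    (hAW : (maximalIdeal A).map (algebraMap A W) ≠ ⊥)
    (h : TameAt A W) : TameAt A V := by
  obtain ⟨ha, hb⟩ := h
  refine ⟨Algebra.isSeparable_tower_bot_of_isSeparable (ResidueField A) (ResidueField V)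
    (ResidueField W), ?_⟩
  intro p hp hcp hdvd
  apply hb p hp hcp
  rw [ramificationIdx'_tower hVW hAW]
  exact Dvd.dvd.mul_right hdvd _

theorem unramAt_bot [IsDomain V] [IsDomain W] [IsDiscreteValuationRing V]
    [IsDiscreteValuationRing W] (hAW : (maximalIdeal A).map (algebraMap A W) ≠ ⊥)
    (h : UnramAt A W) : UnramAt A V := by
  obtain ⟨ha, hb⟩ := h
  refine ⟨?_, Algebra.isSeparable_tower_bot_of_isSeparable (ResidueField A) (ResidueField V)
    (ResidueField W)⟩
  unfold EtRam.IsWeaklyUnramified at *
  obtain ⟨ϖ, hϖ⟩ := IsDiscreteValuationRing.exists_irreducible V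
  have hne : (maximalIdeal A).map (algebraMap A V) ≠ ⊥ := by
    intro h0
    apply hAW
    rw [IsScalarTower.algebraMap_eq A V W, ← Ideal.map_map, h0, Ideal.map_bot]
  obtain ⟨n, hn⟩ := IsDiscreteValuationRing.ideal_eq_span_pow_irreducible hne hϖ
  have hmV : maximalIdeal V = Ideal.span {ϖ} := Irreducible.maximalIdeal_eq hϖ
  rw [← Ideal.span_singleton_pow, ← hmV] at hn
  have hl : IsLocalHom (algebraMap A V) := inferInstance
  have hle : (maximalIdeal A).map (algebraMap A V) ≤ maximalIdeal V :=
    ((local_hom_TFAE (algebraMap A V)).out 0 2).1 hl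
  have hl' : IsLocalHom (algebraMap V W) := inferInstance
  have hle' : (maximalIdeal V).map (algebraMap V W) ≤ maximalIdeal W :=
    ((local_hom_TFAE (algebraMap V W)).out 0 2).1 hl'
  have hW : maximalIdeal W ≤ maximalIdeal W ^ n := by
    calc maximalIdeal W = ((maximalIdeal A).map (algebraMap A V)).map (algebraMap V W) := by
          rw [Ideal.map_map, ← IsScalarTower.algebraMap_eq, ha]
      _ = ((maximalIdeal V).map (algebraMap V W)) ^ n := by rw [hn, Ideal.map_pow]
      _ ≤ maximalIdeal W ^ n := Ideal.pow_right_mono hle' n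
  have hmW0 : maximalIdeal W ≠ ⊥ := IsDiscreteValuationRing.not_a_field W
  have hmW1 : maximalIdeal W ≠ ⊤ := Ideal.IsPrime.ne_top'
  rcases Nat.lt_or_ge n 2 with hn2 | hn2
  · interval_cases n
    · rw [pow_zero, Ideal.one_eq_top] at hn
      rw [hn] at hle
      exact absurd (top_le_iff.1 hle) Ideal.IsPrime.ne_top'
    · rw [hn, pow_one]
  · exact absurd hW (not_le_of_gt (Ideal.pow_lt_self _ hmW0 hmW1 n hn2))

end Abstract

end Groth.Agent.Helper7.DomVal
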