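import Mathlib
import Groth.Prelude.Def_EtRam
import Groth.Agent.Helper7.DomValB

/-!
# DomValC: valuation subrings in towers of fields
-/

set_option autoImplicit false
universe u

namespace Groth.Agent.Helper7.DomVal

open IsLocalRing

section Comap

variable {A : Type u} [CommRing A] [IsLocalRing A] {L M : Type u} [Field L] [Field M]

theorem valuation_comap_lt_one_iff (φ : L →+* M) (W : ValuationSubring M) (x : L) :
    (W.comap φ).valuation x < 1 ↔ W.valuation (φ x) < 1 := by
  rw [← ValuationSubring.mem_nonunits_iff, ← ValuationSubring.mem_nonunits_iff,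
    ValuationSubring.mem_nonunits_iff_or, ValuationSubring.mem_nonunits_iff_or,
    ValuationSubring.mem_comap, map_inv₀, map_eq_zero]

theorem dominates_comap (gL : A →+* L) (φ : L →+* M) (W : ValuationSubring M)
    (hW : EtRam.Dominates A (φ.comp gL) W) : EtRam.Dominates A gL (W.comap φ) := by
  refine ⟨fun a => hW.1 a, fun a ha => ?_⟩
  rw [valuation_comap_lt_one_iff]
  exact hW.2 a ha

theorem dominates_over (φ : L →+* M) (W : ValuationSubring M) :
    EtRam.Dominates (W.comap φ) (φ.comp (W.comap φ).subtype) W := by
  refine ⟨fun x => x.2, fun x hx => ?_⟩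
  rw [mem_maximalIdeal_iff, valuation_comap_lt_one_iff] at hx
  exact hx

/-- every valuation subring extends along a field homomorphism -/
theorem exists_extension (φ : L →+* M) (V : ValuationSubring L) :
    ∃ W : ValuationSubring M, W.comap φ = V := by
  obtain ⟨W, h, hloc⟩ := IsLocalRing.exists_factor_valuationRing (φ.comp V.subtype)
  refine ⟨W, ?_⟩
  apply le_antisymm
  · intro x hx
    rw [ValuationSubring.mem_comap] at hx
    by_contra hxV
    have hx0 : x ≠ 0 := fun h0 => hxV (h0 ▸ V.zero_mem)
    have hinv : x⁻¹ ∈ V := (V.mem_or_inv_mem x).resolve_left hxV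
    have hu : IsUnit ((φ.comp V.subtype).codRestrict W.toSubring h ⟨x⁻¹, hinv⟩) := by
      refine IsUnit.of_mul_eq_one ⟨φ x, hx⟩ ?_
      apply Subtype.ext
      change φ x⁻¹ * φ x = 1
      rw [← map_mul, inv_mul_cancel₀ hx0, map_one]
    have hu' : IsUnit (⟨x⁻¹, hinv⟩ : V) := hloc.map_nonunit _ hu
    obtain ⟨y, hy⟩ := hu'.exists_right_inv
    have hy' : x⁻¹ * (y : L) = 1 := congrArg Subtype.val hy
    have : (y : L) = x := by
      field_simp at hy'
      exact hy'
    exact hxV (this ▸ y.2)
  · intro x hx
    exact h ⟨x, hx⟩

end Comap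

section Tower

variable {A K : Type u} [CommRing A] [IsDomain A] [IsDiscreteValuationRing A] [Field K]
  [Algebra A K] [IsFractionRing A K] {L M : Type u} [Field L] [Field M]
  [Algebra K L] [Algebra K M] [Algebra L M] [IsScalarTower K L M] [FiniteDimensional K M]
  [Algebra.IsSeparable K M]

/-- Package: for `W` dominating `A` in `M`, with `V = W ∩ L`: the tower `A → V → W` of DVRs. -/
theorem tower_package (W : ValuationSubring M)
    (hW : EtRam.Dominates A ((algebraMap K M).comp (algebraMap A K)) W) :
    ∃ (hV : EtRam.Dominates A ((algebraMap K L).comp (algebraMap A K))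
        (W.comap (algebraMap L M))),
      letI : Algebra A (W.comap (algebraMap L M)) :=
        (RingHom.codRestrict ((algebraMap K L).comp (algebraMap A K)) (W.comap (algebraMap L M))
          hV.1).toAlgebra
      letI : Algebra (W.comap (algebraMap L M)) W :=
        (RingHom.codRestrict ((algebraMap L M).comp (W.comap (algebraMap L M)).subtype) W
          (dominates_over (algebraMap L M) W).1).toAlgebra
      letI : Algebra A W :=
        (RingHom.codRestrict ((algebraMap K M).comp (algebraMap A K)) W hW.1).toAlgebra
      IsScalarTower A (W.comap (algebraMap L M)) W ∧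
      IsLocalHom (algebraMap A (W.comap (algebraMap L M))) ∧
      IsLocalHom (algebraMap (W.comap (algebraMap L M)) W) ∧
      IsLocalHom (algebraMap A W) ∧
      IsDiscreteValuationRing (W.comap (algebraMap L M)) ∧
      IsDiscreteValuationRing W ∧
      Function.Injective (algebraMap (W.comap (algebraMap L M)) W) ∧
      (maximalIdeal A).map (algebraMap A W) ≠ ⊥ := by
  have hcomp : (algebraMap K M).comp (algebraMap A K) =
      (algebraMap L M).comp ((algebraMap K L).comp (algebraMap A K)) := by
    rw [← RingHom.comp_assoc, ← IsScalarTower.algebraMap_eq K L M]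
  have hV : EtRam.Dominates A ((algebraMap K L).comp (algebraMap A K))
      (W.comap (algebraMap L M)) := dominates_comap _ _ W (hcomp ▸ hW)
  refine ⟨hV, ?_⟩
  letI algAV : Algebra A (W.comap (algebraMap L M)) :=
    (RingHom.codRestrict ((algebraMap K L).comp (algebraMap A K)) (W.comap (algebraMap L M))
      hV.1).toAlgebra
  letI algVW : Algebra (W.comap (algebraMap L M)) W :=
    (RingHom.codRestrict ((algebraMap L M).comp (W.comap (algebraMap L M)).subtype) W
      (dominates_over (algebraMap L M) W).1).toAlgebra
  letI algAW : Algebra A W :=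
    (RingHom.codRestrict ((algebraMap K M).comp (algebraMap A K)) W hW.1).toAlgebra
  have hinjAM : Function.Injective ((algebraMap K M).comp (algebraMap A K)) :=
    (algebraMap K M).injective.comp (IsFractionRing.injective A K)
  refine ⟨?_, ?_, ?_, ?_, ?_, ?_, ?_, ?_⟩
  · refine IsScalarTower.of_algebraMap_eq' ?_
    ext a
    change (algebraMap K M) (algebraMap A K a) = algebraMap L M (algebraMap K L (algebraMap A K a))
    rw [← IsScalarTower.algebraMap_apply K L M]
  · exact isLocalHom_codRestrict _ _ hV
  · exact isLocalHom_codRestrict _ _ (dominates_over (algebraMap L M) W)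
  · exact isLocalHom_codRestrict _ _ hW
  · letI : Algebra A L := ((algebraMap K L).comp (algebraMap A K)).toAlgebra
    haveI : IsScalarTower A K L := IsScalarTower.of_algebraMap_eq' rfl
    haveI : FiniteDimensional K L := FiniteDimensional.left K L M
    haveI : Algebra.IsSeparable K L := Algebra.isSeparable_tower_bot_of_isSeparable K L M
    exact isDVR_of_dominates (K := K) _ hV
  · letI : Algebra A M := ((algebraMap K M).comp (algebraMap A K)).toAlgebra
    haveI : IsScalarTower A K M := IsScalarTower.of_algebraMap_eq' rfl
    exact isDVR_of_dominates (K := K) _ hW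
  · intro x y hxy
    have := congrArg Subtype.val hxy
    exact Subtype.ext ((algebraMap L M).injective this)
  · rw [Ne, Ideal.map_eq_bot_iff_of_injective]
    · exact IsDiscreteValuationRing.not_a_field A
    · intro x y hxy
      exact hinjAM (congrArg Subtype.val hxy)

end Tower

end Groth.Agent.Helper7.DomVal
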