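import Mathlib
import Groth.Prelude.Def_EtRam
import Groth.Agent.Helper7.DomValC

/-!
# DomValD: weak unramifiedness of `W ∩ K₁ → W` in valuation terms, and descent along field maps
-/

set_option autoImplicit false
universe u

namespace Groth.Agent.Helper7.DomVal

open IsLocalRing

section Crit

variable {K₁ M : Type u} [Field K₁] [Field M]

/-- the weak-unramifiedness condition of `Def_EtRam` for `W ∩ K₁ → W` -/
def WU (W : ValuationSubring M) (f : K₁ →+* M) : Prop :=
  letI : Algebra (W.comap f) W := (EtRam.inclOfComap W f).toAlgebra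
  EtRam.IsWeaklyUnramified (W.comap f) W

/-- the valuation-theoretic form -/
def WU' (W : ValuationSubring M) (f : K₁ →+* M) : Prop :=
  ∀ x : M, x ∈ W.nonunits → ∃ a : K₁, f a ∈ W.nonunits ∧ ∃ w ∈ W, x = f a * w

theorem mem_maximalIdeal_comap_iff (W : ValuationSubring M) (f : K₁ →+* M) (a : W.comap f) :
    a ∈ maximalIdeal (W.comap f) ↔ f (a : K₁) ∈ W.nonunits := by
  rw [mem_maximalIdeal_iff, valuation_comap_lt_one_iff, ValuationSubring.mem_nonunits_iff]

theorem wu_iff (W : ValuationSubring M) (f : K₁ →+* M) : WU W f ↔ WU' W f := by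
  unfold WU WU' EtRam.IsWeaklyUnramified
  letI : Algebra (W.comap f) W := (EtRam.inclOfComap W f).toAlgebra
  constructor
  · intro h x hx
    obtain ⟨hxW, hxm⟩ := ValuationSubring.mem_nonunits_iff_exists_mem_maximalIdeal.1 hx
    rw [← h] at hxm
    -- the ideal of multiples of images of elements of the maximal ideal
    let S : Ideal W :=
      { carrier := {y | ∃ a : W.comap f, a ∈ maximalIdeal (W.comap f) ∧
          ∃ w : W, y = algebraMap (W.comap f) W a * w}
        zero_mem' := ⟨0, Ideal.zero_mem _, 0, by simp⟩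
        add_mem' := by
          rintro y y' ⟨a, ha, w, rfl⟩ ⟨a', ha', w', rfl⟩
          obtain ⟨c, hc | hc⟩ := ValuationRing.cond a a'
          · refine ⟨a, ha, w + algebraMap (W.comap f) W c * w', ?_⟩
            rw [← hc, map_mul]
            ring
          · refine ⟨a', ha', algebraMap (W.comap f) W c * w + w', ?_⟩
            rw [← hc, map_mul]
            ring
        smul_mem' := by
          rintro c y ⟨a, ha, w, rfl⟩
          exact ⟨a, ha, c * w, by rw [smul_eq_mul]; ring⟩ }
    have hle : (maximalIdeal (W.comap f)).map (algebraMap (W.comap f) W) ≤ S := by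
      rw [Ideal.map_le_iff_le_comap]
      intro a ha
      exact ⟨a, ha, 1, by simp⟩
    obtain ⟨a, ha, w, hw⟩ := hle hxm
    refine ⟨(a : K₁), (mem_maximalIdeal_comap_iff W f a).1 ha, (w : M), w.2, ?_⟩
    exact congrArg Subtype.val hw
  · intro h
    apply le_antisymm
    · have hl : IsLocalHom (algebraMap (W.comap f) W) := EtRam.isLocalHom_inclOfComap W f
      exact ((local_hom_TFAE (algebraMap (W.comap f) W)).out 0 2).1 hl
    · intro x hx
      have hx' : (x : M) ∈ W.nonunits := ValuationSubring.coe_mem_nonunits_iff.2 hx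
      obtain ⟨a, ha, w, hw, hxw⟩ := h _ hx'
      have haW : a ∈ W.comap f := by
        rw [ValuationSubring.mem_comap]
        exact ValuationSubring.nonunits_subset ha
      have ham : (⟨a, haW⟩ : W.comap f) ∈ maximalIdeal (W.comap f) :=
        (mem_maximalIdeal_comap_iff W f ⟨a, haW⟩).2 ha
      have : x = algebraMap (W.comap f) W ⟨a, haW⟩ * ⟨w, hw⟩ := Subtype.ext hxw
      rw [this]
      exact Ideal.mul_mem_right _ _ (Ideal.mem_map_of_mem _ ham)

end Crit

section Descent

variable {K₁ M M' : Type u} [Field K₁] [Field M] [Field M']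

theorem wu'_descend (ι : M →+* M') (f : K₁ →+* M) (W' : ValuationSubring M')
    (h : WU' W' (ι.comp f)) : WU' (W'.comap ι) f := by
  intro x hx
  have hx' : ι x ∈ W'.nonunits := (valuation_comap_lt_one_iff ι W' x).1 hx
  obtain ⟨a, ha, w', hw', hxw⟩ := h _ hx'
  refine ⟨a, (valuation_comap_lt_one_iff ι W' (f a)).2 ha, ?_⟩
  by_cases hfa : f a = 0
  · refine ⟨0, zero_mem _, ?_⟩
    rw [RingHom.comp_apply, hfa, map_zero, zero_mul, map_eq_zero] at hxw
    rw [hxw, mul_zero]
  · refine ⟨x / f a, ?_, by field_simp⟩
    rw [ValuationSubring.mem_comap, map_div₀]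
    have hne : ι (f a) ≠ 0 := (map_ne_zero ι).2 hfa
    have : ι x / ι (f a) = w' := by
      rw [hxw, RingHom.comp_apply]
      field_simp
    rw [this]
    exact hw'

theorem wu_descend (ι : M →+* M') (f : K₁ →+* M) (W' : ValuationSubring M')
    (h : WU W' (ι.comp f)) : WU (W'.comap ι) f :=
  (wu_iff _ _).2 (wu'_descend ι f W' ((wu_iff _ _).1 h))

/-- the geometric-reducedness condition of `Def_EtRam` for `W ∩ K₁ → W` -/
def GR (W : ValuationSubring M) (f : K₁ →+* M) : Prop :=
  @Algebra.IsGeometricallyReduced (ResidueField (W.comap f)) (ResidueField W) _ _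
    (ResidueField.map (EtRam.inclOfComap W f)).toAlgebra

theorem gr_descend (ι : M →+* M') (f : K₁ →+* M) (W' : ValuationSubring M')
    (h : GR W' (ι.comp f)) : GR (W'.comap ι) f := by
  unfold GR at *
  letI a1 : Algebra (ResidueField ((W'.comap ι).comap f)) (ResidueField (W'.comap ι)) :=
    (ResidueField.map (EtRam.inclOfComap (W'.comap ι) f)).toAlgebra
  letI a2 : Algebra (ResidueField ((W'.comap ι).comap f)) (ResidueField W') :=
    (ResidueField.map (EtRam.inclOfComap W' (ι.comp f))).toAlgebra
  haveI : Algebra.IsGeometricallyReduced (ResidueField ((W'.comap ι).comap f))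
    (ResidueField W') := h
  let g : ResidueField (W'.comap ι) →ₐ[ResidueField ((W'.comap ι).comap f)] ResidueField W' :=
    { toRingHom := ResidueField.map (EtRam.inclOfComap W' ι)
      commutes' := by
        intro x
        obtain ⟨x, rfl⟩ := IsLocalRing.residue_surjective x
        rfl }
  exact Algebra.IsGeometricallyReduced.of_injective g g.toRingHom.injective

end Descent

end Groth.Agent.Helper7.DomVal
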