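import Mathlib
import Groth.Prelude

/-!
# Differentials at a rational point: the fibre of `Ω` is the cotangent space
-/

set_option autoImplicit false
set_option linter.style.haveILetI false
set_option linter.unusedSectionVars false
universe u

namespace Groth.Agent.Helper7.SmVar

open TensorProduct IsLocalRing

section Local

variable (k : Type u) [Field k] (R : Type u) [CommRing R] [IsLocalRing R] [Algebra k R]

/-- for a surjection `R → B` of `k`-algebras with `k → B` bijective, the conormal map is
bijective -/
theorem bijective_kerCotangentToTensor (B : Type u) [CommRing B] [Algebra R B] [Algebra k B]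
    [IsScalarTower k R B] (hsurj : Function.Surjective (algebraMap R B))
    (hbij : Function.Bijective (algebraMap k B)) :
    Function.Bijective (KaehlerDifferential.kerCotangentToTensor k R B) := by
  constructor
  · -- a retraction from an algebra section
    let e : k ≃ₐ[k] B := AlgEquiv.ofBijective (Algebra.ofId k B) hbij
    let g : B →ₐ[k] R ⧸ (RingHom.ker (IsScalarTower.toAlgHom k R B).toRingHom) ^ 2 :=
      (Algebra.ofId k _).comp e.symm.toAlgHom
    have hg : (IsScalarTower.toAlgHom k R B).kerSquareLift.comp g = AlgHom.id k B := by
      apply AlgHom.ext
      intro x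
      obtain ⟨c, rfl⟩ := e.surjective x
      change (IsScalarTower.toAlgHom k R B).kerSquareLift (g (e c)) = e c
      have h1 : g (e c) = algebraMap k _ c := by
        change (Algebra.ofId k _) (e.symm (e c)) = _
        rw [AlgEquiv.symm_apply_apply]
        rfl
      rw [h1, AlgHom.commutes]
      rfl
    obtain ⟨l, hl⟩ := (retractionKerCotangentToTensorEquivSection (R := k) hsurj).symm ⟨g, hg⟩
    intro x y hxy
    have := congrArg l hxy
    rwa [← LinearMap.comp_apply, ← LinearMap.comp_apply, hl] at this
  · intro y
    haveI : Subsingleton (Ω[B⁄k]) := KaehlerDifferential.subsingleton_of_surjective k B hbij.2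
    have hex := KaehlerDifferential.exact_kerCotangentToTensor_mapBaseChange k R B hsurj
    exact (hex y).mp (Subsingleton.elim _ _)

/-- transport of the conormal isomorphism to a given ideal equal to the kernel -/
theorem nonempty_cotangent_equiv (B : Type u) [CommRing B] [Algebra R B] [Algebra k B]
    [IsScalarTower k R B] (hsurj : Function.Surjective (algebraMap R B))
    (hbij : Function.Bijective (algebraMap k B)) (I : Ideal R)
    (hI : RingHom.ker (algebraMap R B) = I) :
    Nonempty (I.Cotangent ≃ₗ[R] B ⊗[R] Ω[R⁄k]) := by
  subst hI
  exact ⟨LinearEquiv.ofBijective _ (bijective_kerCotangentToTensor k R B hsurj hbij)⟩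

/-- the fibre of the differentials at the closed point of a local algebra with residue field
`k` has the dimension of the cotangent space -/
theorem finrank_residueField_tensor_kaehler
    (hbij : Function.Bijective (algebraMap k (ResidueField R))) :
    Module.finrank (ResidueField R) (ResidueField R ⊗[R] Ω[R⁄k]) =
      Module.finrank (ResidueField R) (CotangentSpace R) := by
  obtain ⟨e⟩ := nonempty_cotangent_equiv k R (ResidueField R) IsLocalRing.residue_surjective hbij
    (maximalIdeal R) IsLocalRing.ker_residue
  have e' : CotangentSpace R ≃ₗ[ResidueField R] ResidueField R ⊗[R] Ω[R⁄k] :=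
    e.extendScalarsOfSurjective IsLocalRing.residue_surjective
  exact e'.finrank_eq.symm

end Local

end Groth.Agent.Helper7.SmVar
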