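import Mathlib
import Groth.Prelude.Def_CAlg
import Groth.Agent.Helper2.DepthCM2
import Groth.Agent.Helper5.FtDim4

/-!
# Equidimensionality of Cohen–Macaulay finite type algebras all of whose minimal primes
lie in one maximal ideal
-/

set_option autoImplicit false

namespace Groth.Agent.Helper7.Liais2

universe u

/-- dimension of the localization of a quotient -/
theorem ringKrullDim_loc_quotient {A : Type u} [CommRing A] (q : Ideal A) [q.IsPrime] (I : Ideal A)
    (P : Ideal (A ⧸ I)) [P.IsPrime] (hP : P.comap (Ideal.Quotient.mk I) = q) :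
    ringKrullDim (Localization.AtPrime P) =
      ringKrullDim (Localization.AtPrime q ⧸ I.map (algebraMap A (Localization.AtPrime q))) := by
  have : P.LiesOver q := ⟨hP.symm⟩
  have hsub : Algebra.algebraMapSubmonoid (A ⧸ I) q.primeCompl = P.primeCompl :=
    Ideal.algebraMapSubmonoid_primeCompl_of_liesOver_surjective P q
      Ideal.Quotient.mk_surjective
  have : IsLocalization.AtPrime (Localization.AtPrime q ⧸
      I.map (algebraMap A (Localization.AtPrime q))) P := by
    have : IsLocalization (Algebra.algebraMapSubmonoid (A ⧸ I) q.primeCompl)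
      (Localization.AtPrime q ⧸ I.map (algebraMap A (Localization.AtPrime q))) := inferInstance
    rwa [hsub] at this
  let e : (Localization.AtPrime q ⧸ I.map (algebraMap A (Localization.AtPrime q))) ≃+*
      Localization.AtPrime P :=
    (IsLocalization.algEquiv P.primeCompl _ _).toRingEquiv
  exact (ringKrullDim_eq_of_ringEquiv e).symm


/-- **Key lemma.** In a Cohen–Macaulay algebra of finite type over a field, if a maximal ideal `m`
contains the minimal prime `P`, then `dim A/P = dim A_m`. -/
theorem ringKrullDim_quotient_minimalPrime (K : Type u) [Field K] (A : Type u) [CommRing A]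
    [Algebra K A] [Algebra.FiniteType K A] [LocCoh.IsCohenMacaulayRing A]
    (m : Ideal A) [hm : m.IsMaximal] (P : Ideal A) (hP : P ∈ minimalPrimes A) (hPm : P ≤ m) :
    ringKrullDim (A ⧸ P) = ringKrullDim (Localization.AtPrime m) := by
  have hN : IsNoetherianRing A := Algebra.FiniteType.isNoetherianRing K A
  have hPp : P.IsPrime := hP.1.1
  have hCM : LocCoh.IsCohenMacaulayLocalRing (Localization.AtPrime m) :=
    LocCoh.IsCohenMacaulayRing.isCohenMacaulayLocalRing_localization m
  set B := Localization.AtPrime m
  set p : Ideal B := P.map (algebraMap A B) with hp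
  have hdisj : Disjoint (m.primeCompl : Set A) (P : Set A) := by
    rw [Set.disjoint_left]
    intro a ha haP
    exact ha (hPm haP)
  have hpp : p.IsPrime := IsLocalization.isPrime_of_isPrime_disjoint m.primeCompl B P hPp hdisj
  have hunder : p.under A = P := IsLocalization.under_map_of_isPrime_disjoint m.primeCompl B hPp hdisj
  -- `p` is a minimal prime of `B`
  have hpmin : p ∈ minimalPrimes B := by
    have h1 := IsLocalization.minimalPrimes_map m.primeCompl B (⊥ : Ideal A)
    rw [Ideal.map_bot] at h1
    change p ∈ (⊥ : Ideal B).minimalPrimes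
    rw [h1, Set.mem_preimage, hunder]
    exact hP
  -- hence associated
  have hpass : p ∈ associatedPrimes B B := by
    apply Module.associatedPrimes.minimalPrimes_annihilator_subset_associatedPrimes B B
    have : Module.annihilator B B = ⊥ := by
      rw [Module.annihilator_eq_bot]  
      infer_instance
    rw [this]
    exact hpmin
  have hCMmod : LocCoh.IsCohenMacaulayModule B B :=
    LocCoh.IsCohenMacaulayLocalRing.supportDim_eq_depth
  have h2 := Groth.Agent.Helper2.DepthCM2.cm_dim_quot_ass B hCMmod p hpass
  rw [Module.supportDim_self_eq_ringKrullDim] at h2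
  rw [← h2]
  -- `B ⧸ p` is the localization of `A ⧸ P` at the image of `m`
  set m'' : Ideal (A ⧸ P) := m.map (Ideal.Quotient.mk P) with hm''
  have hker : RingHom.ker (Ideal.Quotient.mk P) ≤ m := by rw [Ideal.mk_ker]; exact hPm
  have hm''max : m''.IsMaximal :=
    Ideal.IsMaximal.map_of_surjective_of_ker_le Ideal.Quotient.mk_surjective hker
  have hm''p : m''.IsPrime := hm''max.isPrime
  have hcomap : m''.comap (Ideal.Quotient.mk P) = m := by
    rw [hm'', Ideal.comap_map_of_surjective _ Ideal.Quotient.mk_surjective,
      ← RingHom.ker_eq_comap_bot]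
    exact sup_eq_left.2 hker
  have h3 := ringKrullDim_loc_quotient m P m'' hcomap
  rw [← h3]
  have hdom : IsDomain (A ⧸ P) := Ideal.Quotient.isDomain P
  rw [IsLocalization.AtPrime.ringKrullDim_eq_height m'' (Localization.AtPrime m''),
    Groth.Agent.Helper5.FtDim.height_of_isMaximal K (A ⧸ P) m'']

end Groth.Agent.Helper7.Liais2
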