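import Mathlib
import Groth.Prelude.Def_GrSyz
import Groth.Agent.Helper7.Liais2

/-!
# Homogeneous ideals of a polynomial ring with Cohen–Macaulay quotient are unmixed
-/

set_option autoImplicit false
set_option linter.unusedSectionVars false

namespace Groth.Agent.Helper7.Liais3

open MvPolynomial

universe u

variable (K : Type u) [Field K] (σ : Type) [Fintype σ] [DecidableEq σ]

/-- the irrelevant maximal ideal -/
noncomputable def irr : Ideal (MvPolynomial σ K) :=
  RingHom.ker (constantCoeff : MvPolynomial σ K →+* K)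

instance irr_isMaximal : (irr K σ).IsMaximal :=
  RingHom.ker_isMaximal_of_surjective _ (fun c => ⟨C c, constantCoeff_C _ c⟩)

variable {K σ}

theorem weight_one_eq_zero_iff (d : σ →₀ ℕ) :
    Finsupp.weight (fun _ : σ => (1 : ℤ)) d = 0 ↔ d = 0 := by
  constructor
  · intro h
    rw [Finsupp.weight_apply, Finsupp.sum] at h
    ext i
    by_contra hi
    have hi' : i ∈ d.support := Finsupp.mem_support_iff.2 hi
    have hnonneg : ∀ j ∈ d.support, (0 : ℤ) ≤ d j • (1 : ℤ) := fun j _ => by positivity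
    have h1 := (Finset.sum_eq_zero_iff_of_nonneg hnonneg).1 h i hi'
    simp at h1
    exact hi h1
  · rintro rfl
    simp

/-- a proper homogeneous ideal lies in the irrelevant ideal -/
theorem le_irr_of_isHomogeneous (P : Ideal (MvPolynomial σ K))
    (hP : P.IsHomogeneous (GrSyz.stdGr K σ)) (hne : P ≠ ⊤) : P ≤ irr K σ := by
  classical
  intro f hf
  rw [irr, RingHom.mem_ker]
  by_contra hc
  apply hne
  have h1 : weightedHomogeneousComponent (fun _ : σ => (1 : ℤ)) 0 f ∈ P :=
    MvPolynomial.weightedHomogeneousComponent_mem_of_mem K (fun _ : σ => (1 : ℤ)) hP hf 0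
  have h2 : weightedHomogeneousComponent (fun _ : σ => (1 : ℤ)) 0 f = C (constantCoeff f) := by
    ext d
    rw [coeff_weightedHomogeneousComponent, coeff_C]
    by_cases hd : d = 0
    · subst hd
      simp [constantCoeff_eq]
    · have : ¬ Finsupp.weight (fun _ : σ => (1 : ℤ)) d = 0 := fun h =>
        hd ((weight_one_eq_zero_iff d).1 h)
      rw [if_neg this, if_neg (Ne.symm hd)]
  rw [h2] at h1
  apply Ideal.eq_top_of_isUnit_mem _ h1
  exact (isUnit_iff_ne_zero.2 hc).map C

/-- minimal primes over a homogeneous ideal are homogeneous -/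
theorem isHomogeneous_of_mem_minimalPrimes (𝔞 P : Ideal (MvPolynomial σ K))
    (h𝔞 : 𝔞.IsHomogeneous (GrSyz.stdGr K σ)) (hP : P ∈ 𝔞.minimalPrimes) :
    P.IsHomogeneous (GrSyz.stdGr K σ) := by
  have hPp : P.IsPrime := hP.1.1
  have h1 : (P.homogeneousCore (GrSyz.stdGr K σ)).toIdeal.IsPrime :=
    Ideal.IsPrime.homogeneousCore hPp
  have h2 : 𝔞 ≤ (P.homogeneousCore (GrSyz.stdGr K σ)).toIdeal := by
    have := Ideal.homogeneousCore_mono (GrSyz.stdGr K σ) hP.1.2
    rw [← h𝔞.toIdeal_homogeneousCore_eq_self]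
    exact this
  have h3 : (P.homogeneousCore (GrSyz.stdGr K σ)).toIdeal ≤ P :=
    Ideal.toIdeal_homogeneousCore_le _ _
  have h4 : P ≤ (P.homogeneousCore (GrSyz.stdGr K σ)).toIdeal := hP.2 ⟨h1, h2⟩ h3
  have h5 : (P.homogeneousCore (GrSyz.stdGr K σ)).toIdeal = P := le_antisymm h3 h4
  rw [← h5]
  exact (P.homogeneousCore (GrSyz.stdGr K σ)).isHomogeneous

end Groth.Agent.Helper7.Liais3
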