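import Mathlib
import Groth.Agent.Helper7.Liais3

/-!
# Homogeneous ideals of a polynomial ring with Cohen–Macaulay quotient: all minimal primes have
the same height
-/

set_option autoImplicit false
set_option linter.unusedSectionVars false

namespace Groth.Agent.Helper7.Liais4

open MvPolynomial Groth.Agent.Helper7.Liais3

universe u

variable {K : Type u} [Field K] {σ : Type} [Fintype σ] [DecidableEq σ]

/-- For a homogeneous ideal `𝔞` with Cohen–Macaulay quotient, `dim R/P` is the same for all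
minimal primes `P` of `𝔞`. -/
theorem exists_dim (𝔞 : Ideal (MvPolynomial σ K))
    (h𝔞 : 𝔞.IsHomogeneous (GrSyz.stdGr K σ))
    [LocCoh.IsCohenMacaulayRing (MvPolynomial σ K ⧸ 𝔞)] :
    ∃ D : WithBot ℕ∞, ∀ P ∈ 𝔞.minimalPrimes, ringKrullDim (MvPolynomial σ K ⧸ P) = D := by
  by_cases htop : 𝔞 = ⊤
  · subst htop
    exact ⟨0, fun P hP => by simp [Ideal.minimalPrimes_top] at hP⟩
  have hle : 𝔞 ≤ irr K σ := le_irr_of_isHomogeneous 𝔞 h𝔞 htop
  have hker : RingHom.ker (Ideal.Quotient.mk 𝔞) ≤ irr K σ := by rw [Ideal.mk_ker]; exact hle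
  have hm' : ((irr K σ).map (Ideal.Quotient.mk 𝔞)).IsMaximal :=
    Ideal.IsMaximal.map_of_surjective_of_ker_le Ideal.Quotient.mk_surjective hker
  refine ⟨ringKrullDim (Localization.AtPrime ((irr K σ).map (Ideal.Quotient.mk 𝔞))),
    fun P hP => ?_⟩
  have hPhom := isHomogeneous_of_mem_minimalPrimes 𝔞 P h𝔞 hP
  have hPp : P.IsPrime := hP.1.1
  have hPm : P ≤ irr K σ := le_irr_of_isHomogeneous P hPhom hPp.ne_top
  have hP'min : P.map (Ideal.Quotient.mk 𝔞) ∈ minimalPrimes (MvPolynomial σ K ⧸ 𝔞) := by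
    have h1 := Ideal.minimalPrimes_map_of_surjective
      (f := Ideal.Quotient.mk 𝔞) Ideal.Quotient.mk_surjective 𝔞
    rw [Ideal.map_quotient_self, Ideal.mk_ker, sup_idem] at h1
    change P.map (Ideal.Quotient.mk 𝔞) ∈ (⊥ : Ideal (MvPolynomial σ K ⧸ 𝔞)).minimalPrimes
    rw [h1]
    exact ⟨P, hP, rfl⟩
  have hP'm' : P.map (Ideal.Quotient.mk 𝔞) ≤ (irr K σ).map (Ideal.Quotient.mk 𝔞) :=
    Ideal.map_mono hPm
  have h1 := Groth.Agent.Helper7.Liais2.ringKrullDim_quotient_minimalPrime K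
    (MvPolynomial σ K ⧸ 𝔞) ((irr K σ).map (Ideal.Quotient.mk 𝔞))
    (P.map (Ideal.Quotient.mk 𝔞)) hP'min hP'm'
  rw [← h1]
  exact ringKrullDim_eq_of_ringEquiv (DoubleQuot.quotQuotEquivQuotOfLE hP.1.2).symm

/-- all minimal primes have the same height -/
theorem height_eq_of_mem_minimalPrimes (𝔞 : Ideal (MvPolynomial σ K))
    (h𝔞 : 𝔞.IsHomogeneous (GrSyz.stdGr K σ))
    [LocCoh.IsCohenMacaulayRing (MvPolynomial σ K ⧸ 𝔞)]
    (P Q : Ideal (MvPolynomial σ K)) (hP : P ∈ 𝔞.minimalPrimes) (hQ : Q ∈ 𝔞.minimalPrimes) :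
    P.height = Q.height := by
  obtain ⟨D, hD⟩ := exists_dim 𝔞 h𝔞
  have hPp : P.IsPrime := hP.1.1
  have hQp : Q.IsPrime := hQ.1.1
  have h1 := Groth.Agent.Helper5.FtDim.height_add_dim_quotient K (MvPolynomial σ K) P
  have h2 := Groth.Agent.Helper5.FtDim.height_add_dim_quotient K (MvPolynomial σ K) Q
  rw [hD P hP] at h1
  rw [hD Q hQ] at h2
  -- `D` is a natural number
  have hR : ringKrullDim (MvPolynomial σ K) = (Fintype.card σ : ℕ) := by
    rw [MvPolynomial.ringKrullDim_of_isNoetherianRing, ringKrullDim_eq_zero_of_field,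
      Nat.card_eq_fintype_card, zero_add]
  rw [hR] at h1 h2
  -- case analysis on D
  induction D using WithBot.recBotCoe with
  | bot => simp at h1
  | coe y =>
    have e1 : ((P.height + y : ℕ∞) : WithBot ℕ∞) = ((Fintype.card σ : ℕ∞) : WithBot ℕ∞) := by
      rw [WithBot.coe_add]; exact h1
    have e2 : ((Q.height + y : ℕ∞) : WithBot ℕ∞) = ((Fintype.card σ : ℕ∞) : WithBot ℕ∞) := by
      rw [WithBot.coe_add]; exact h2
    rw [WithBot.coe_inj] at e1 e2
    have hy : y ≠ ⊤ := by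
      intro hy
      rw [hy, add_top] at e1
      exact ENat.top_ne_natCast _ e1
    exact (ENat.add_left_injective_of_ne_top hy) (e1.trans e2.symm)

/-- every minimal prime has the height of the ideal -/
theorem height_of_mem_minimalPrimes (𝔞 : Ideal (MvPolynomial σ K))
    (h𝔞 : 𝔞.IsHomogeneous (GrSyz.stdGr K σ))
    [LocCoh.IsCohenMacaulayRing (MvPolynomial σ K ⧸ 𝔞)]
    (P : Ideal (MvPolynomial σ K)) (hP : P ∈ 𝔞.minimalPrimes) :
    P.height = 𝔞.height := by
  rw [Ideal.height_eq_inf_minimalPrimes 𝔞]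
  apply le_antisymm
  · refine le_iInf₂ fun Q hQ => ?_
    rw [height_eq_of_mem_minimalPrimes 𝔞 h𝔞 P Q hP hQ]
  · exact iInf₂_le P hP

end Groth.Agent.Helper7.Liais4
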