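import Mathlib
import Groth.Agent.Helper7.Liais4
import Groth.Agent.Helper2.Link

/-!
# Liaison: `𝔠 : I` is unmixed of the height of `𝔠`
-/

set_option autoImplicit false
set_option linter.unusedSectionVars false

namespace Groth.Agent.Helper7.Liais5

open MvPolynomial Groth.Agent.Helper7.Liais3 Groth.Agent.Helper7.Liais4

universe u

section General

variable {R : Type u} [CommRing R] [IsNoetherianRing R]

/-- An associated prime of `R/(𝔠 : I)` is of the form `(𝔠 : z)`. -/
theorem exists_colon_of_mem_associatedPrimes (𝔠 I : Ideal R) (P : Ideal R)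
    (hP : P ∈ associatedPrimes R (R ⧸ 𝔠.colon (I : Set R))) :
    ∃ z : R, ∀ r : R, r * z ∈ 𝔠 ↔ r ∈ P := by
  classical
  rw [AssociatedPrimes.mem_iff, isAssociatedPrime_iff] at hP
  obtain ⟨hPp, y, hy⟩ := hP
  obtain ⟨a, rfl⟩ := Ideal.Quotient.mk_surjective y
  obtain ⟨s, hs⟩ := (isNoetherianRing_iff_ideal_fg R).1 inferInstance I
  have hmem : ∀ r : R, r ∈ P ↔ ∀ i ∈ s, r * (a * i) ∈ 𝔠 := by
    intro r
    rw [hy, Submodule.mem_colon_singleton, Submodule.mem_bot]
    have e : r • (Ideal.Quotient.mk (𝔠.colon (I : Set R))) a =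
        Ideal.Quotient.mk (𝔠.colon (I : Set R)) (r * a) := by
      rw [map_mul]; rfl
    rw [e, Ideal.Quotient.eq_zero_iff_mem, ← hs, Ideal.colon_span, Submodule.mem_colon]
    constructor
    · intro h i hi
      have := h i hi
      rwa [smul_eq_mul, mul_assoc] at this
    · intro h i hi
      have := h i hi
      rwa [smul_eq_mul, mul_assoc]
  set f : R → Ideal R := fun i => 𝔠.colon {a * i} with hf
  have hPinf : P = s.inf f := by
    ext r
    rw [hmem, Finset.inf_eq_iInf, Submodule.mem_iInf]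
    simp only [Submodule.mem_iInf, hf, Submodule.mem_colon_singleton, smul_eq_mul]
  obtain ⟨i, his, hi⟩ := (Ideal.IsPrime.inf_le' hPp).1 (le_of_eq hPinf.symm)
  have hPi : P = f i := le_antisymm (hPinf ▸ Finset.inf_le his) hi
  refine ⟨a * i, fun r => ?_⟩
  rw [hPi, hf, Submodule.mem_colon_singleton, smul_eq_mul]

end General

variable {K : Type u} [Field K] {σ : Type} [Fintype σ] [DecidableEq σ]

theorem main (c : ℕ) (𝔠 I : Ideal (MvPolynomial σ K))
    (h𝔠 : 𝔠.IsHomogeneous (GrSyz.stdGr K σ))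
    [hG : LocCoh.IsGorensteinRing (MvPolynomial σ K ⧸ 𝔠)] (h𝔠c : 𝔠.height = c) (hI𝔠 : ¬ I ≤ 𝔠) :
    (𝔠.colon (I : Set (MvPolynomial σ K))).height = c ∧
      ∀ p ∈ associatedPrimes (MvPolynomial σ K) (MvPolynomial σ K ⧸ 𝔠.colon (I : Set (MvPolynomial σ K))),
        p.height = c := by
  have hCM : LocCoh.IsCohenMacaulayRing (MvPolynomial σ K ⧸ 𝔠) :=
    { isCohenMacaulayLocalRing_localization := fun p _ => by
        have := LocCoh.IsGorensteinRing.isGorensteinLocalRing_localization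
          (A := MvPolynomial σ K ⧸ 𝔠) p
        exact Groth.Agent.Helper6.Bass.cm_of_gorenstein }
  have hass : ∀ p ∈ associatedPrimes (MvPolynomial σ K)
      (MvPolynomial σ K ⧸ 𝔠.colon (I : Set (MvPolynomial σ K))), p.height = c := by
    intro p hp
    have hpp : p.IsPrime := hp.isPrime
    obtain ⟨z, hz⟩ := exists_colon_of_mem_associatedPrimes 𝔠 I p hp
    have hmin := Groth.Agent.Helper2.Link.mem_minimalPrimes_of_colon 𝔠 p z hz
    rw [height_of_mem_minimalPrimes 𝔠 h𝔠 p hmin, h𝔠c]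
  refine ⟨?_, hass⟩
  have hne : 𝔠.colon (I : Set (MvPolynomial σ K)) ≠ ⊤ := by
    intro h
    rw [Submodule.colon_eq_top_iff_subset] at h
    exact hI𝔠 h
  rw [Ideal.height_eq_inf_minimalPrimes]
  have hall : ∀ Q ∈ (𝔠.colon (I : Set (MvPolynomial σ K))).minimalPrimes, Q.height = c := by
    intro Q hQ
    apply hass
    apply Module.associatedPrimes.minimalPrimes_annihilator_subset_associatedPrimes
    rwa [Ideal.annihilator_quotient]
  apply le_antisymm
  · obtain ⟨⟨Q, hQ⟩⟩ := Ideal.nonempty_minimalPrimes hne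
    exact (iInf₂_le Q hQ).trans (le_of_eq (hall Q hQ))
  · exact le_iInf₂ fun Q hQ => le_of_eq (hall Q hQ).symm

end Groth.Agent.Helper7.Liais5
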