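import Mathlib
import Groth.Agent.Helper7.Liais11
import Groth.Agent.Helper7.Liais5

/-!
# Liaison: `𝔠 : (𝔠 : I) = I` for unmixed `I` of the height of the Gorenstein ideal `𝔠`
-/

set_option autoImplicit false
set_option linter.unusedSectionVars false

namespace Groth.Agent.Helper7.Liais12

open Groth.Agent.Helper7.Liais11

universe u

section L1

variable {R : Type u} [CommRing R] [IsNoetherianRing R]

/-- membership in an ideal can be tested at the associated primes of the quotient -/
theorem mem_of_forall_ass (I : Ideal R) (x : R)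
    (h : ∀ p ∈ associatedPrimes R (R ⧸ I), ∃ s, s ∉ p ∧ s * x ∈ I) : x ∈ I := by
  by_contra hx
  set C : Ideal R := I.colon {x} with hC
  have hCmem : ∀ r : R, r ∈ C ↔ r * x ∈ I := by
    intro r
    rw [hC, Submodule.mem_colon_singleton, smul_eq_mul]
  have hne : C ≠ ⊤ := by
    intro htop
    have : (1 : R) ∈ C := by rw [htop]; trivial
    rw [hCmem, one_mul] at this
    exact hx this
  have : Nontrivial (R ⧸ C) := Ideal.Quotient.nontrivial_iff.2 hne
  obtain ⟨p, hp⟩ := associatedPrimes.nonempty R (R ⧸ C)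
  let φ : (R ⧸ C) →ₗ[R] (R ⧸ I) := Submodule.mapQ C I (LinearMap.toSpanSingleton R R x) (by
    intro r hr
    rw [Submodule.mem_comap, LinearMap.toSpanSingleton_apply, smul_eq_mul]
    exact (hCmem r).1 hr)
  have hφ : Function.Injective φ := by
    rw [← LinearMap.ker_eq_bot, LinearMap.ker_eq_bot']
    intro y hy
    obtain ⟨r, rfl⟩ := Submodule.Quotient.mk_surjective _ y
    have h1 : φ (Submodule.Quotient.mk r) = Submodule.Quotient.mk (r * x) := rfl
    rw [h1, Submodule.Quotient.mk_eq_zero] at hy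
    rw [Submodule.Quotient.mk_eq_zero]
    exact (hCmem r).2 hy
  have hp' := associatedPrimes.subset_of_injective hφ hp
  obtain ⟨s, hsp, hsx⟩ := h p hp'
  apply hsp
  rw [AssociatedPrimes.mem_iff, isAssociatedPrime_iff] at hp
  obtain ⟨-, y, hy⟩ := hp
  obtain ⟨r, rfl⟩ := Ideal.Quotient.mk_surjective y
  rw [hy, Submodule.mem_colon_singleton, Submodule.mem_bot]
  have e : s • (Ideal.Quotient.mk C) r = Ideal.Quotient.mk C (s * r) := by
    rw [map_mul]; rfl
  rw [e, Ideal.Quotient.eq_zero_iff_mem]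
  exact C.mul_mem_right r ((hCmem s).2 hsx)

end L1

section loc

variable {A : Type u} [CommRing A] [hG : LocCoh.IsGorensteinRing A]

/-- clearing denominators for an annihilator -/
theorem exists_clear (q : Ideal A) [q.IsPrime] (y : A) (a : Ideal A) (ha : a.FG) :
    (∀ z ∈ a, algebraMap A (Localization.AtPrime q) (y * z) = 0) →
      ∃ T, T ∉ q ∧ ∀ z ∈ a, T * (y * z) = 0 := by
  refine Submodule.fg_induction (R := A) (M := A)
    (motive := fun (a : Ideal A) _ => (∀ z ∈ a, algebraMap A (Localization.AtPrime q) (y * z) = 0) →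
      ∃ T, T ∉ q ∧ ∀ z ∈ a, T * (y * z) = 0) ?_ ?_ a ha
  · intro z₀ h
    have h1 := h z₀ (Submodule.mem_span_singleton_self z₀)
    rw [IsLocalization.map_eq_zero_iff q.primeCompl] at h1
    obtain ⟨T, hT⟩ := h1
    refine ⟨T.1, T.2, fun z hz => ?_⟩
    obtain ⟨c, rfl⟩ := Submodule.mem_span_singleton.1 hz
    rw [smul_eq_mul]
    calc T.1 * (y * (c * z₀)) = c * (T.1 * (y * z₀)) := by ring
      _ = 0 := by rw [hT, mul_zero]
  · intro a b _ _ iha ihb h
    obtain ⟨T1, hT1, h1⟩ := iha (fun z hz => h z (Submodule.mem_sup_left hz))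
    obtain ⟨T2, hT2, h2⟩ := ihb (fun z hz => h z (Submodule.mem_sup_right hz))
    refine ⟨T1 * T2, ?_, fun z hz => ?_⟩
    · intro hmem
      rcases (Ideal.IsPrime.mem_or_mem inferInstance hmem) with h' | h'
      · exact hT1 h'
      · exact hT2 h'
    · obtain ⟨z1, hz1, z2, hz2, rfl⟩ := Submodule.mem_sup.1 hz
      calc T1 * T2 * (y * (z1 + z2)) = T2 * (T1 * (y * z1)) + T1 * (T2 * (y * z2)) := by ring
        _ = 0 := by rw [h1 z1 hz1, h2 z2 hz2, mul_zero, mul_zero, add_zero]

/-- local form of the double annihilator property at a minimal prime of a Gorenstein ring -/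
theorem exists_smul_mem (q : Ideal A) (hq : q ∈ minimalPrimes A) (a : Ideal A) (x : A)
    (hx : ∀ y : A, (∀ z ∈ a, y * z = 0) → x * y = 0) : ∃ s, s ∉ q ∧ s * x ∈ a := by
  have hN : IsNoetherianRing A := hG.toIsNoetherian
  have hqp : q.IsPrime := hq.1.1
  set B := Localization.AtPrime q with hB
  have hGB : LocCoh.IsGorensteinLocalRing B := hG.isGorensteinLocalRing_localization q
  have hdim : ringKrullDim B = 0 := by
    rw [IsLocalization.AtPrime.ringKrullDim_eq_height q B, Ideal.height_eq_zero_iff.2 hq]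
    rfl
  have hinj : Module.Injective B B := injective_of_gorenstein_dim_zero B hdim
  have hfgB : (a.map (algebraMap A B)).FG := (isNoetherianRing_iff_ideal_fg B).1 inferInstance _
  have hann := ann_ann_of_fg (a.map (algebraMap A B)) hfgB
  have hmem : algebraMap A B x ∈ ann (ann (a.map (algebraMap A B))) := by
    intro y hy
    obtain ⟨y', t, rfl⟩ := IsLocalization.exists_mk'_eq q.primeCompl y
    -- `y'` kills `a` locally
    have h1 : ∀ z ∈ a, algebraMap A B (y' * z) = 0 := by
      intro z hz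
      have h2 := hy _ (Ideal.mem_map_of_mem (algebraMap A B) hz)
      have h3 : IsLocalization.mk' B y' t * algebraMap A B z = IsLocalization.mk' B (y' * z) t := by
        rw [IsLocalization.mk'_eq_mul_mk'_one (M := q.primeCompl) (y' * z),
          IsLocalization.mk'_eq_mul_mk'_one (M := q.primeCompl) y', map_mul]
        ring
      rw [h3, IsLocalization.mk'_eq_zero_iff] at h2
      obtain ⟨m, hm⟩ := h2
      rw [IsLocalization.map_eq_zero_iff q.primeCompl]
      exact ⟨m, hm⟩
    obtain ⟨T, hT, hTz⟩ := exists_clear q y' a ((isNoetherianRing_iff_ideal_fg A).1 hN a) h1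
    have h4 : x * (T * y') = 0 := by
      apply hx
      intro z hz
      rw [mul_assoc]
      exact hTz z hz
    have h5 : algebraMap A B x * IsLocalization.mk' B y' t =
        IsLocalization.mk' B (x * y') t := by
      rw [IsLocalization.mk'_eq_mul_mk'_one (M := q.primeCompl) (x * y'),
        IsLocalization.mk'_eq_mul_mk'_one (M := q.primeCompl) y', map_mul]
      ring
    rw [h5, IsLocalization.mk'_eq_zero_iff]
    refine ⟨⟨T, hT⟩, ?_⟩
    show T * (x * y') = 0
    rw [← h4]; ring
  rw [hann, IsLocalization.mem_map_algebraMap_iff q.primeCompl] at hmem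
  obtain ⟨⟨⟨i, hi⟩, t⟩, hit⟩ := hmem
  simp only at hit
  rw [← map_mul, IsLocalization.eq_iff_exists q.primeCompl] at hit
  obtain ⟨t', ht'⟩ := hit
  refine ⟨t'.1 * t.1, ?_, ?_⟩
  · intro hmem
    rcases (Ideal.IsPrime.mem_or_mem hqp hmem) with h' | h'
    · exact t'.2 h'
    · exact t.2 h'
  · have : t'.1 * t.1 * x = t'.1 * i := by rw [← ht']; ring
    rw [this]
    exact a.mul_mem_left _ hi

end loc

section main

variable {R : Type u} [CommRing R] [IsNoetherianRing R]

theorem colon_colon_eq (𝔠 I : Ideal R) [hG : LocCoh.IsGorensteinRing (R ⧸ 𝔠)] (h𝔠I : 𝔠 ≤ I)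
    (hass : ∀ p ∈ associatedPrimes R (R ⧸ I), p ∈ 𝔠.minimalPrimes) :
    𝔠.colon ((𝔠.colon (I : Set R) : Ideal R) : Set R) = I := by
  apply le_antisymm
  · intro x hx
    rw [Submodule.mem_colon] at hx
    apply mem_of_forall_ass I x
    intro p hp
    have hpmin := hass p hp
    have hpp : p.IsPrime := hpmin.1.1
    have h𝔠p : 𝔠 ≤ p := hpmin.1.2
    have hq : p.map (Ideal.Quotient.mk 𝔠) ∈ minimalPrimes (R ⧸ 𝔠) := by
      have h1 := Ideal.minimalPrimes_map_of_surjective
        (f := Ideal.Quotient.mk 𝔠) Ideal.Quotient.mk_surjective 𝔠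
      rw [Ideal.map_quotient_self, Ideal.mk_ker, sup_idem] at h1
      change p.map (Ideal.Quotient.mk 𝔠) ∈ (⊥ : Ideal (R ⧸ 𝔠)).minimalPrimes
      rw [h1]
      exact ⟨p, hpmin, rfl⟩
    have hxx : ∀ y : R ⧸ 𝔠, (∀ z ∈ I.map (Ideal.Quotient.mk 𝔠), y * z = 0) →
        Ideal.Quotient.mk 𝔠 x * y = 0 := by
      intro y hy
      obtain ⟨y, rfl⟩ := Ideal.Quotient.mk_surjective y
      have hyc : y ∈ 𝔠.colon (I : Set R) := by
        rw [Submodule.mem_colon]
        intro i hi
        have := hy _ (Ideal.mem_map_of_mem _ hi)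
        rw [← map_mul, Ideal.Quotient.eq_zero_iff_mem] at this
        exact this
      have := hx y hyc
      rw [← map_mul, Ideal.Quotient.eq_zero_iff_mem]
      exact this
    obtain ⟨s, hs, hsx⟩ := exists_smul_mem (p.map (Ideal.Quotient.mk 𝔠)) hq
      (I.map (Ideal.Quotient.mk 𝔠)) (Ideal.Quotient.mk 𝔠 x) hxx
    obtain ⟨s, rfl⟩ := Ideal.Quotient.mk_surjective s
    refine ⟨s, fun hsp => hs (Ideal.mem_map_of_mem _ hsp), ?_⟩
    rw [← map_mul] at hsx
    have h2 : s * x ∈ (I.map (Ideal.Quotient.mk 𝔠)).comap (Ideal.Quotient.mk 𝔠) := hsx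
    rw [Ideal.comap_map_of_surjective _ Ideal.Quotient.mk_surjective, ← RingHom.ker_eq_comap_bot,
      Ideal.mk_ker, sup_eq_left.2 h𝔠I] at h2
    exact h2
  · intro x hx
    rw [Submodule.mem_colon]
    intro y hy
    have hy' : y ∈ 𝔠.colon (I : Set R) := hy
    rw [Submodule.mem_colon] at hy'
    have := hy' x hx
    rwa [smul_eq_mul, mul_comm] at this

end main

section poly

open MvPolynomial Groth.Agent.Helper7.Liais3 Groth.Agent.Helper7.Liais4

variable {K : Type u} [Field K] {σ : Type} [Fintype σ] [DecidableEq σ]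

theorem main (c : ℕ) (𝔠 I : Ideal (MvPolynomial σ K))
    (h𝔠 : 𝔠.IsHomogeneous (GrSyz.stdGr K σ))
    [hG : LocCoh.IsGorensteinRing (MvPolynomial σ K ⧸ 𝔠)] (h𝔠c : 𝔠.height = c)
    (hIu : ∀ p ∈ associatedPrimes (MvPolynomial σ K) (MvPolynomial σ K ⧸ I), p.height = c)
    (hle : 𝔠 ≤ I) :
    𝔠.colon ((𝔠.colon (I : Set (MvPolynomial σ K)) : Ideal (MvPolynomial σ K)) :
      Set (MvPolynomial σ K)) = I := by
  have hCM : LocCoh.IsCohenMacaulayRing (MvPolynomial σ K ⧸ 𝔠) :=
    { isCohenMacaulayLocalRing_localization := fun p _ => by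
        have := LocCoh.IsGorensteinRing.isGorensteinLocalRing_localization
          (A := MvPolynomial σ K ⧸ 𝔠) p
        exact Groth.Agent.Helper6.Bass.cm_of_gorenstein }
  apply colon_colon_eq 𝔠 I hle
  intro p hp
  have hpp : p.IsPrime := hp.isPrime
  have hIp : I ≤ p := by
    have := IsAssociatedPrime.annihilator_le ((AssociatedPrimes.mem_iff).1 hp)
    rwa [Submodule.annihilator_top, Ideal.annihilator_quotient] at this
  obtain ⟨Q, hQ, hQp⟩ := Ideal.exists_minimalPrimes_le (hle.trans hIp)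
  have hQp' : Q.IsPrime := hQ.1.1
  have hQh : Q.height = c := by rw [height_of_mem_minimalPrimes 𝔠 h𝔠 Q hQ, h𝔠c]
  have hph := hIu p hp
  rcases eq_or_lt_of_le hQp with heq | hlt
  · rw [← heq]; exact hQ
  · exfalso
    have h1 := Ideal.height_add_one_le_of_lt_of_isPrime hlt
    rw [hQh, hph] at h1
    have : (c : ℕ∞) + 1 ≤ c := h1
    have h2 : (c + 1 : ℕ) ≤ c := by exact_mod_cast this
    omega

end poly

end Groth.Agent.Helper7.Liais12
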