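import Mathlib
import Groth.Prelude.Def_CAlg
import Groth.Agent.Helper7.LinkCM1
import Groth.Agent.Helper7.Liais12
import Groth.Agent.Helper7.GorQuot1

/-!
# Cohen–Macaulayness is preserved by direct linkage: global form (helper7)
-/

set_option autoImplicit false
set_option linter.unusedSectionVars false
set_option linter.style.haveILetI false

namespace Groth.Agent.Helper7.LinkCM

open IsLocalRing

universe u

/-- Cohen–Macaulay rings are stable under ring isomorphisms -/
theorem cmRing_of_ringEquiv {S T : Type u} [CommRing S] [CommRing T] (e : S ≃+* T)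
    [hS : LocCoh.IsCohenMacaulayRing S] : LocCoh.IsCohenMacaulayRing T :=
  { toIsNoetherian := isNoetherianRing_of_ringEquiv S e
    isCohenMacaulayLocalRing_localization := fun p _ =>
      Groth.Agent.Helper8.GrLG.cmLocal_comap e p
        (hS.isCohenMacaulayLocalRing_localization (p.comap (e : S →+* T))) }

section loc

variable (B : Type u) [CommRing B] [hG : LocCoh.IsGorensteinRing B]

/-- annihilators of ideals commute with localization at a prime -/
theorem ann_map_localization (q : Ideal B) [q.IsPrime] (a : Ideal B) :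
    Submodule.annihilator (a.map (algebraMap B (Localization.AtPrime q))) =
      (Submodule.annihilator a).map (algebraMap B (Localization.AtPrime q)) := by
  haveI : IsNoetherianRing B := hG.toIsNoetherian
  set A := Localization.AtPrime q with hA
  apply le_antisymm
  · intro y hy
    obtain ⟨y', t, rfl⟩ := IsLocalization.exists_mk'_eq q.primeCompl y
    rw [Submodule.mem_annihilator] at hy
    have h1 : ∀ z ∈ a, algebraMap B A (y' * z) = 0 := by
      intro z hz
      have h2 := hy _ (Ideal.mem_map_of_mem (algebraMap B A) hz)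
      have h3 : IsLocalization.mk' A y' t • algebraMap B A z = IsLocalization.mk' A (y' * z) t := by
        rw [smul_eq_mul, IsLocalization.mk'_eq_mul_mk'_one (M := q.primeCompl) (y' * z),
          IsLocalization.mk'_eq_mul_mk'_one (M := q.primeCompl) y', map_mul]
        ring
      rw [h3, IsLocalization.mk'_eq_zero_iff] at h2
      obtain ⟨m, hm⟩ := h2
      rw [IsLocalization.map_eq_zero_iff q.primeCompl]
      exact ⟨m, hm⟩
    obtain ⟨T, hT, hTz⟩ := Groth.Agent.Helper7.Liais12.exists_clear q y' a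
      ((isNoetherianRing_iff_ideal_fg B).1 inferInstance a) h1
    have h4 : T * y' ∈ Submodule.annihilator a := by
      rw [Submodule.mem_annihilator]
      intro z hz
      rw [smul_eq_mul, mul_assoc]
      exact hTz z hz
    have h5 : IsLocalization.mk' A y' t =
        IsLocalization.mk' A (T * y') (⟨T, hT⟩ * t) := by
      rw [IsLocalization.mk'_eq_iff_eq]
      simp only [Submonoid.coe_mul]
      congr 1
      ring
    rw [h5, IsLocalization.mk'_eq_mul_mk'_one (M := q.primeCompl) (T * y')]
    exact Ideal.mul_mem_right _ _ (Ideal.mem_map_of_mem _ h4)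
  · rw [Ideal.map_le_iff_le_comap]
    intro y hy
    rw [Ideal.mem_comap, Submodule.mem_annihilator]
    intro z hz
    rw [smul_eq_mul]
    refine Submodule.span_induction ?_ ?_ ?_ ?_ hz
    · rintro _ ⟨z', hz', rfl⟩
      rw [← map_mul]
      have := (Submodule.mem_annihilator.1 hy) z' hz'
      rw [smul_eq_mul] at this
      rw [this, map_zero]
    · rw [mul_zero]
    · intro u v _ _ hu hv
      rw [mul_add, hu, hv, add_zero]
    · intro c u _ hu
      rw [smul_eq_mul, mul_left_comm, hu, mul_zero]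

/-- **Cohen–Macaulayness passes to the linked ideal** (global form): in a Gorenstein ring, if `I`
and `J` are annihilators of each other and `B/I` is Cohen–Macaulay then so is `B/J`. -/
theorem cm_of_link (I J : Ideal B) (hJ : Submodule.annihilator I = J)
    (hI : Submodule.annihilator J = I) [hCMI : LocCoh.IsCohenMacaulayRing (B ⧸ I)] :
    LocCoh.IsCohenMacaulayRing (B ⧸ J) := by
  haveI : IsNoetherianRing B := hG.toIsNoetherian
  refine { toIsNoetherian := inferInstance, isCohenMacaulayLocalRing_localization := ?_ }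
  intro Q hQ
  set q : Ideal B := Q.comap (Ideal.Quotient.mk J) with hq
  haveI hqp : q.IsPrime := Ideal.comap_isPrime _ _
  set A := Localization.AtPrime q with hA
  haveI hGA : LocCoh.IsGorensteinLocalRing A := hG.isGorensteinLocalRing_localization q
  haveI : IsNoetherianRing A := hGA.toIsNoetherian
  obtain ⟨e⟩ := Groth.Agent.Helper7.GorQuot.nonempty_locQuot_equiv J q Q rfl
  refine Groth.Agent.Helper8.GrLG.cmLocal_of_ringEquiv e ?_
  have hJq : J ≤ q := by
    intro x hx
    rw [hq, Ideal.mem_comap, Ideal.Quotient.eq_zero_iff_mem.2 hx]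
    exact zero_mem _
  have hJA : J.map (algebraMap B A) ≠ ⊤ := by
    intro h
    have h1 : J.map (algebraMap B A) ≤ maximalIdeal A := by
      rw [← IsLocalization.AtPrime.map_eq_maximalIdeal q A]
      exact Ideal.map_mono hJq
    rw [h] at h1
    exact (IsLocalRing.maximalIdeal.isMaximal A).ne_top (top_le_iff.1 h1)
  have hannI : Submodule.annihilator (I.map (algebraMap B A)) = J.map (algebraMap B A) := by
    rw [ann_map_localization, hJ]
  have hannJ : Submodule.annihilator (J.map (algebraMap B A)) = I.map (algebraMap B A) := by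
    rw [ann_map_localization, hI]
  by_cases hIq : I ≤ q
  · -- the prime of `B/I`
    have hker : RingHom.ker (Ideal.Quotient.mk I) ≤ q := by rw [Ideal.mk_ker]; exact hIq
    haveI hQ'p : (q.map (Ideal.Quotient.mk I)).IsPrime :=
      Ideal.map_isPrime_of_surjective Ideal.Quotient.mk_surjective hker
    have hQ'c : (q.map (Ideal.Quotient.mk I)).comap (Ideal.Quotient.mk I) = q := by
      rw [Ideal.comap_map_of_surjective _ Ideal.Quotient.mk_surjective,
        ← RingHom.ker_eq_comap_bot, sup_eq_left.2 hker]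
    obtain ⟨e'⟩ := Groth.Agent.Helper7.GorQuot.nonempty_locQuot_equiv I q
      (q.map (Ideal.Quotient.mk I)) hQ'c
    haveI hCM' : LocCoh.IsCohenMacaulayLocalRing (A ⧸ I.map (algebraMap B A)) :=
      Groth.Agent.Helper8.GrLG.cmLocal_of_ringEquiv e'.symm
        (hCMI.isCohenMacaulayLocalRing_localization (q.map (Ideal.Quotient.mk I)))
    have hIA : I.map (algebraMap B A) ≠ ⊤ := by
      intro h
      have h1 : I.map (algebraMap B A) ≤ maximalIdeal A := by
        rw [← IsLocalization.AtPrime.map_eq_maximalIdeal q A]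
        exact Ideal.map_mono hIq
      rw [h] at h1
      exact (IsLocalRing.maximalIdeal.isMaximal A).ne_top (top_le_iff.1 h1)
    exact cm_of_link_local A _ _ hannI hannJ hIA hJA
  · -- `I A = A`, so `J A = 0`
    have hIA : I.map (algebraMap B A) = ⊤ := by
      obtain ⟨x, hxI, hxq⟩ := Set.not_subset.1 hIq
      rw [Ideal.eq_top_iff_one]
      have hu : IsUnit (algebraMap B A x) :=
        IsLocalization.map_units A (⟨x, hxq⟩ : q.primeCompl)
      have := Ideal.mul_mem_left (I.map (algebraMap B A)) (↑hu.unit⁻¹ : A)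
        (Ideal.mem_map_of_mem (algebraMap B A) hxI)
      rwa [IsUnit.val_inv_mul] at this
    have hJA0 : J.map (algebraMap B A) = ⊥ := by
      rw [← hannI, hIA, eq_bot_iff]
      intro y hy
      have := (Submodule.mem_annihilator.1 hy) 1 trivial
      rw [smul_eq_mul, mul_one] at this
      rw [this]
      exact zero_mem _
    have hCMA : LocCoh.IsCohenMacaulayLocalRing A := Groth.Agent.Helper6.Bass.cm_of_gorenstein
    have e0 : A ≃+* (A ⧸ J.map (algebraMap B A)) :=
      (RingEquiv.quotientBot A).symm.trans (Ideal.quotEquivOfEq hJA0.symm)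
    exact Groth.Agent.Helper8.GrLG.cmLocal_of_ringEquiv e0 hCMA

end loc

section colon

variable {R : Type u} [CommRing R]

theorem le_colon (𝔠 : Ideal R) (S : Set R) : 𝔠 ≤ 𝔠.colon S := by
  intro x hx
  rw [Submodule.mem_colon]
  intro s _
  rw [smul_eq_mul]
  exact 𝔠.mul_mem_right _ hx

theorem ann_map_mk (𝔠 I J : Ideal R) (hIJ : 𝔠.colon (I : Set R) = J) :
    Submodule.annihilator (I.map (Ideal.Quotient.mk 𝔠)) = J.map (Ideal.Quotient.mk 𝔠) := by
  have h𝔠J : 𝔠 ≤ J := hIJ ▸ le_colon 𝔠 _
  ext y
  obtain ⟨y, rfl⟩ := Ideal.Quotient.mk_surjective y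
  have h1 : Ideal.Quotient.mk 𝔠 y ∈ J.map (Ideal.Quotient.mk 𝔠) ↔ y ∈ J := by
    constructor
    · intro h
      have h2 : y ∈ (J.map (Ideal.Quotient.mk 𝔠)).comap (Ideal.Quotient.mk 𝔠) := h
      rwa [Ideal.comap_map_of_surjective _ Ideal.Quotient.mk_surjective,
        ← RingHom.ker_eq_comap_bot, Ideal.mk_ker, sup_eq_left.2 h𝔠J] at h2
    · exact fun h => Ideal.mem_map_of_mem _ h
  rw [h1, ← hIJ, Submodule.mem_colon, Submodule.mem_annihilator]
  constructor
  · intro h i hi
    have := h _ (Ideal.mem_map_of_mem (Ideal.Quotient.mk 𝔠) hi)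
    rw [smul_eq_mul, ← map_mul, Ideal.Quotient.eq_zero_iff_mem] at this
    exact this
  · intro h z hz
    rw [smul_eq_mul]
    refine Submodule.span_induction ?_ ?_ ?_ ?_ hz
    · rintro _ ⟨i, hi, rfl⟩
      rw [← map_mul, Ideal.Quotient.eq_zero_iff_mem]
      exact h i hi
    · rw [mul_zero]
    · intro u v _ _ hu hv
      rw [mul_add, hu, hv, add_zero]
    · intro c u _ hu
      rw [smul_eq_mul, mul_left_comm, hu, mul_zero]

/-- **Cohen–Macaulayness passes to the linked ideal**: colon form. -/
theorem cm_of_colon (𝔠 I J : Ideal R) [hG : LocCoh.IsGorensteinRing (R ⧸ 𝔠)]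
    (hIJ : 𝔠.colon (I : Set R) = J) (hJI : 𝔠.colon (J : Set R) = I)
    [hCM : LocCoh.IsCohenMacaulayRing (R ⧸ I)] : LocCoh.IsCohenMacaulayRing (R ⧸ J) := by
  have h𝔠J : 𝔠 ≤ J := hIJ ▸ le_colon 𝔠 _
  have h𝔠I : 𝔠 ≤ I := hJI ▸ le_colon 𝔠 _
  have eI : ((R ⧸ 𝔠) ⧸ I.map (Ideal.Quotient.mk 𝔠)) ≃+* (R ⧸ I) :=
    DoubleQuot.quotQuotEquivQuotOfLE h𝔠I
  have eJ : ((R ⧸ 𝔠) ⧸ J.map (Ideal.Quotient.mk 𝔠)) ≃+* (R ⧸ J) :=
    DoubleQuot.quotQuotEquivQuotOfLE h𝔠J
  haveI : LocCoh.IsCohenMacaulayRing ((R ⧸ 𝔠) ⧸ I.map (Ideal.Quotient.mk 𝔠)) :=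
    cmRing_of_ringEquiv eI.symm
  haveI : LocCoh.IsCohenMacaulayRing ((R ⧸ 𝔠) ⧸ J.map (Ideal.Quotient.mk 𝔠)) :=
    cm_of_link (R ⧸ 𝔠) _ _ (ann_map_mk 𝔠 I J hIJ) (ann_map_mk 𝔠 J I hJI)
  exact cmRing_of_ringEquiv eJ

end colon

end Groth.Agent.Helper7.LinkCM
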