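import Mathlib
import Groth.Prelude.Def_CAlg
import Groth.Agent.Helper7.GorAnn1
import Groth.Agent.Helper7.LinkCM2

/-!
# `B/Ann(f)` is a Gorenstein ring when `B` is Gorenstein and `B/(f)` is Cohen–Macaulay (helper7)
-/

set_option autoImplicit false
set_option linter.unusedSectionVars false
set_option linter.style.haveILetI false

namespace Groth.Agent.Helper7.GorAnn

open IsLocalRing Groth.Agent.Helper7.GorLink Groth.Agent.Helper7.LinkCM

universe u

/-- Gorenstein rings are stable under ring isomorphisms -/
theorem gorRing_of_ringEquiv {R R' : Type u} [CommRing R] [CommRing R'] (e : R ≃+* R')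
    [hR : LocCoh.IsGorensteinRing R] : LocCoh.IsGorensteinRing R' := by
  haveI : IsNoetherianRing R := hR.toIsNoetherian
  refine { toIsNoetherian := isNoetherianRing_of_ringEquiv R e,
           isGorensteinLocalRing_localization := fun q _ => ?_ }
  have H : (q.comap (e : R →+* R')).primeCompl.map e.toMonoidHom = q.primeCompl := by
    ext x
    constructor
    · rintro ⟨y, hy, rfl⟩
      exact hy
    · intro hx
      refine ⟨e.symm x, ?_, e.apply_symm_apply x⟩
      show e.symm x ∉ q.comap (e : R →+* R')
      rw [Ideal.mem_comap]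
      show ¬ e (e.symm x) ∈ q
      rw [e.apply_symm_apply]
      exact hx
  exact Groth.Agent.Helper7.SegGor.gorLocal_of_ringEquiv
    (IsLocalization.ringEquivOfRingEquiv (Localization.AtPrime (q.comap (e : R →+* R')))
      (Localization.AtPrime q) e H)
    (hR.isGorensteinLocalRing_localization (q.comap (e : R →+* R')))

section glob

variable (B : Type u) [CommRing B] [hG : LocCoh.IsGorensteinRing B]

/-- **`B/Ann(f)` is Gorenstein** if `B` is a Gorenstein ring and `B/(f)` is a Cohen–Macaulay
ring. -/
theorem gor_quot_ann (f : B) [hCM : LocCoh.IsCohenMacaulayRing (B ⧸ Ideal.span {f})] :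
    LocCoh.IsGorensteinRing (B ⧸ Submodule.annihilator (Ideal.span {f})) := by
  haveI : IsNoetherianRing B := hG.toIsNoetherian
  set I : Ideal B := Ideal.span {f} with hI
  set K : Ideal B := Submodule.annihilator I with hK
  refine { toIsNoetherian := inferInstance, isGorensteinLocalRing_localization := ?_ }
  intro Q hQ
  set q : Ideal B := Q.comap (Ideal.Quotient.mk K) with hq
  haveI hqp : q.IsPrime := Ideal.comap_isPrime _ _
  set A := Localization.AtPrime q with hA
  haveI hGA : LocCoh.IsGorensteinLocalRing A := hG.isGorensteinLocalRing_localization q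
  haveI : IsNoetherianRing A := hGA.toIsNoetherian
  have hCMA : LocCoh.IsCohenMacaulayLocalRing A := Groth.Agent.Helper6.Bass.cm_of_gorenstein
  obtain ⟨e⟩ := Groth.Agent.Helper7.GorQuot.nonempty_locQuot_equiv K q Q rfl
  refine Groth.Agent.Helper7.SegGor.gorLocal_of_ringEquiv e ?_
  set x : A := algebraMap B A f with hx
  have hImap : I.map (algebraMap B A) = Ideal.span {x} := by
    rw [hI, Ideal.map_span, Set.image_singleton]
  have hKmap : K.map (algebraMap B A) = Submodule.annihilator (Ideal.span {x}) := by
    rw [hK, ← ann_map_localization, hImap]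
  rw [hKmap]
  have hKq : K ≤ q := by
    intro y hy
    rw [hq, Ideal.mem_comap, Ideal.Quotient.eq_zero_iff_mem.2 hy]
    exact zero_mem _
  have hne : Submodule.annihilator (Ideal.span {x}) ≠ ⊤ := by
    rw [← hKmap]
    intro h
    have h1 : K.map (algebraMap B A) ≤ maximalIdeal A := by
      rw [← IsLocalization.AtPrime.map_eq_maximalIdeal q A]
      exact Ideal.map_mono hKq
    rw [h] at h1
    exact (IsLocalRing.maximalIdeal.isMaximal A).ne_top (top_le_iff.1 h1)
  by_cases hreg : IsSMulRegular A x
  · -- `Ann x = 0`
    have h0 : Submodule.annihilator (Ideal.span {x}) = ⊥ := by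
      rw [eq_bot_iff]
      intro r hr
      rw [Submodule.mem_annihilator_span_singleton, smul_eq_mul, mul_comm] at hr
      have := hreg (show x • r = x • 0 by rw [smul_eq_mul, smul_eq_mul, hr, mul_zero])
      rw [this]
      exact zero_mem _
    have e0 : A ≃+* (A ⧸ Submodule.annihilator (Ideal.span {x})) :=
      (RingEquiv.quotientBot A).symm.trans (Ideal.quotEquivOfEq h0.symm)
    exact Groth.Agent.Helper7.SegGor.gorLocal_of_ringEquiv e0 hGA
  · -- `x` lies in an associated prime `P` of `A`
    have hx1 : x ∈ ({r : A | IsSMulRegular A r}ᶜ : Set A) := hreg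
    rw [← biUnion_associatedPrimes_eq_compl_regular A A] at hx1
    obtain ⟨P, hP, hxP⟩ := Set.mem_iUnion₂.mp hx1
    have hPp : P.IsPrime := hP.isPrime
    have hxm : x ∈ maximalIdeal A := IsLocalRing.le_maximalIdeal hPp.ne_top hxP
    have hfq : f ∈ q := (IsLocalization.AtPrime.to_map_mem_maximal_iff A q f).1 hxm
    have hIq : I ≤ q := (Ideal.span_singleton_le_iff_mem _).mpr hfq
    -- `A/(x)` is Cohen–Macaulay
    have hker : RingHom.ker (Ideal.Quotient.mk I) ≤ q := by rw [Ideal.mk_ker]; exact hIq
    haveI hQ'p : (q.map (Ideal.Quotient.mk I)).IsPrime :=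
      Ideal.map_isPrime_of_surjective Ideal.Quotient.mk_surjective hker
    have hQ'c : (q.map (Ideal.Quotient.mk I)).comap (Ideal.Quotient.mk I) = q := by
      rw [Ideal.comap_map_of_surjective _ Ideal.Quotient.mk_surjective,
        ← RingHom.ker_eq_comap_bot, sup_eq_left.2 hker]
    obtain ⟨e'⟩ := Groth.Agent.Helper7.GorQuot.nonempty_locQuot_equiv I q
      (q.map (Ideal.Quotient.mk I)) hQ'c
    have hCM' : LocCoh.IsCohenMacaulayLocalRing (A ⧸ Ideal.span {x}) := by
      rw [← hImap]
      exact Groth.Agent.Helper8.GrLG.cmLocal_of_ringEquiv e'.symm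
        (hCM.isCohenMacaulayLocalRing_localization (q.map (Ideal.Quotient.mk I)))
    -- `dim A/(x) = dim A`
    have hdimx : ringKrullDim (A ⧸ Ideal.span {x}) = ringKrullDim A := by
      apply le_antisymm (ringKrullDim_le_of_surjective _ Ideal.Quotient.mk_surjective)
      have h3 := Groth.Agent.Helper2.DepthCM.depth_le_dim_quotient_of_mem_ass A P hP
      have h4 := hCMA.supportDim_eq_depth
      rw [Module.supportDim_self_eq_ringKrullDim] at h4
      rw [h4]
      refine h3.trans ?_
      have hle : Ideal.span {x} ≤ P := (Ideal.span_singleton_le_iff_mem _).mpr hxP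
      exact ringKrullDim_le_of_surjective (Ideal.Quotient.factor hle)
        (Ideal.Quotient.factor_surjective hle)
    have hL : LinkData A (Ideal.span {x}) := ⟨hGA, hCM', hdimx⟩
    -- the dimension is a natural number
    have hfin : (maximalIdeal A).height ≠ ⊤ :=
      Ideal.height_ne_top (Ideal.IsPrime.ne_top inferInstance)
    obtain ⟨d, hd⟩ := ENat.ne_top_iff_exists.mp hfin
    have hdim : ringKrullDim A = (d : WithBot ℕ∞) := by
      rw [← IsLocalRing.maximalIdeal_height_eq_ringKrullDim, ← hd]
      rfl
    exact gor_quot_ann_local d A x hL hdim hne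

end glob

end Groth.Agent.Helper7.GorAnn
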