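import Mathlib
import Groth.Prelude.Def_GrLC
import Groth.Agent.Helper7.GrDel6
import Groth.Agent.Helper7.GrFinC
import Groth.Agent.Helper6.GrLCIrr
import Groth.Agent.Helper6.GrExist

/-!
# Weak regularity passes to the quotient by a quasi-regular homogeneous element (subgroup-graded form)
-/

set_option autoImplicit false
set_option linter.unusedSectionVars false

namespace Groth.Agent.Helper7.GrWkReg

open DirectSum Groth.Agent.Helper6.GrMod Groth.Agent.Helper6.GrCon Groth.Agent.Helper6.GrShift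
  Groth.Agent.Helper7.GrDel

universe u

variable {R : Type u} [CommRing R] [IsNoetherianRing R] (𝒜 : ℤ → AddSubgroup R) [GradedRing 𝒜]
  (a : HomogeneousIdeal 𝒜)
  (ha : a.toIdeal = Ideal.span (⋃ n ∈ Set.Ioi (0 : ℤ), (𝒜 n : Set R)))
  {M : Type u} [AddCommGroup M] [Module R M] {ℳ : ℤ → AddSubgroup M} [Decomposition ℳ]
  [SetLike.GradedSMul 𝒜 ℳ]
  {N : Type u} [AddCommGroup N] [Module R N] {𝒩 : ℤ → AddSubgroup N} [Decomposition 𝒩]
  [SetLike.GradedSMul 𝒜 𝒩]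

theorem ker_smul_isHomogeneous (X : GrLC.GMod.{u} 𝒜) {d : ℤ} {x : R} (hx : x ∈ 𝒜 d) :
    (LinearMap.ker (x • LinearMap.id : X.carrier →ₗ[R] X.carrier)).IsHomogeneous X.gr := by
  intro i m hm
  rw [LinearMap.mem_ker] at hm ⊢
  have h := decompose_smul_homog 𝒜 X.gr hx m i
  have hm' : x • m = 0 := hm
  rw [hm', decompose_zero, DirectSum.zero_apply, ZeroMemClass.coe_zero] at h
  exact h.symm

/-- if every class of degree `g` of `E''` is the image under `Hphi` of a class, it is the image of a class of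
degree `g` -/
theorem exists_gr_preimage {M' : Type u} [AddCommGroup M'] [Module R M'] {ℳ' : ℤ → AddSubgroup M'}
    [Decomposition ℳ'] [SetLike.GradedSMul 𝒜 ℳ'] (E : GrLC.StarInjRes 𝒜 ℳ)
    (E' : GrLC.StarInjRes 𝒜 ℳ') (v : M →ₗ[R] M') (hv : GrLC.IsGrHom ℳ ℳ' v) (i : ℕ) (g : ℤ)
    (y : E.H a i) (hy : Hphi E E' v hv a i y ∈ E'.Hgr a i g) :
    ∃ y' ∈ E.Hgr a i g, Hphi E E' v hv a i y' = Hphi E E' v hv a i y :=
  exists_mem_of_gr (Groth.Agent.Helper6.GrH.Hgr_isInternal 𝒜 ℳ a E i)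
    (Groth.Agent.Helper6.GrH.Hgr_isInternal 𝒜 ℳ' a E' i) (Hphi E E' v hv a i)
    (Hphi_gr hv a i) g y hy

include ha in
/-- The key step: the quotient by a quasi-regular homogeneous element of degree `t`. -/
theorem hgr_quot_eq_bot (x : R) (t : ℤ) (hx : x ∈ 𝒜 t)
    (hK : ∃ D : ℤ, ∀ d, D ≤ d → ∀ m ∈ ℳ d, x • m = 0 → m = 0)
    (π : M →ₗ[R] N) (hπ : Function.Surjective π) (hπg : GrLC.IsGrHom ℳ 𝒩 π)
    (hker : ∀ m, π m = 0 ↔ ∃ m', x • m' = m)
    (E : GrLC.StarInjRes 𝒜 ℳ) (E' : GrLC.StarInjRes 𝒜 𝒩) (i : ℕ) (j : ℤ)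
    (h1 : E.Hgr a i j = ⊥) (h2 : E.Hgr a (i + 1) (j - t) = ⊥) : E'.Hgr a i j = ⊥ := by
  let X : GrLC.GMod.{u} 𝒜 := GrLC.GMod.of 𝒜 M ℳ
  let μ : X.carrier →ₗ[R] X.carrier := x • LinearMap.id
  have hKh : (LinearMap.ker μ).IsHomogeneous X.gr := ker_smul_isHomogeneous 𝒜 X hx
  have hIh : (LinearMap.range μ).IsHomogeneous X.gr :=
    Groth.Agent.Helper7.GrFinC.range_smul_isHomogeneous X hx
  let XK : GrLC.GMod.{u} 𝒜 := subGMod 𝒜 X.gr (LinearMap.ker μ) hKh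
  let XI : GrLC.GMod.{u} 𝒜 := subGMod 𝒜 X.gr (LinearMap.range μ) hIh
  let XKs : GrLC.GMod.{u} 𝒜 := shiftGMod 𝒜 XK (-t)
  let XMs : GrLC.GMod.{u} 𝒜 := shiftGMod 𝒜 X (-t)
  obtain ⟨EKs⟩ := Groth.Agent.Helper6.GrExist.nonempty_starInjRes 𝒜 XKs.gr
  obtain ⟨EI⟩ := Groth.Agent.Helper6.GrExist.nonempty_starInjRes 𝒜 XI.gr
  let EMs : GrLC.StarInjRes 𝒜 XMs.gr := shiftRes E (-t)
  -- K is torsion
  have htors : ∀ y : XKs.carrier, y ∈ GrLC.gam a.toIdeal XKs.carrier := by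
    obtain ⟨D, hD⟩ := hK
    let _ : Decomposition (subFam ℳ (LinearMap.ker μ)) := XK.dec
    let _ : SetLike.GradedSMul 𝒜 (subFam ℳ (LinearMap.ker μ)) := XK.gsmul
    refine Groth.Agent.Helper6.GrLCIrr.torsion_of_bounded_above 𝒜
      (subFam ℳ (LinearMap.ker μ)) a ha D ?_
    intro n hn
    rw [eq_bot_iff]
    intro z hz
    rw [AddSubgroup.mem_bot]
    apply Subtype.ext
    exact hD n hn (z : M) hz z.2
  -- second sequence: 0 → K(-t) → M(-t) → xM → 0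
  have hEI : EI.Hgr a (i + 1) j = ⊥ := by
    let u₂ : XKs.carrier →ₗ[R] XMs.carrier := (LinearMap.ker μ).subtype
    let v₂ : XMs.carrier →ₗ[R] XI.carrier := μ.rangeRestrict
    have hu₂ : GrLC.IsGrHom XKs.gr XMs.gr u₂ := fun g z hz => hz
    have hv₂ : GrLC.IsGrHom XMs.gr XI.gr v₂ := by
      intro g z hz
      exact smul_mem_gr X hx g z hz
    obtain ⟨δ, -, -, -, e2, -⟩ := exists_les EKs EMs EI u₂ v₂ hu₂ hv₂
      Subtype.val_injective μ.surjective_rangeRestrict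
      (fun m hm => ⟨⟨m, by
        have := congrArg Subtype.val hm
        exact this⟩, rfl⟩)
      (fun m' => Subtype.ext m'.2) a
    have hss : Subsingleton (EKs.H a (i + 1 + 1)) :=
      Groth.Agent.Helper7.GrFinC.H_subsingleton_of_torsion a htors EKs (i + 1 + 1) (by omega)
    rw [eq_bot_iff]
    intro w hw
    rw [AddSubgroup.mem_bot]
    obtain ⟨y, rfl⟩ := (e2 (i + 1) w).mp (Subsingleton.elim _ _)
    obtain ⟨y', hy', hyy⟩ := exists_gr_preimage 𝒜 a EMs EI v₂ hv₂ (i + 1) j y hw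
    have hy0 : y' = 0 := by
      have : y' ∈ E.Hgr a (i + 1) (j - t) := by
        rw [sub_eq_add_neg]
        exact hy'
      rw [h2] at this
      exact AddSubgroup.mem_bot.mp this
    rw [← hyy, hy0, map_zero]
  -- first sequence: 0 → xM → M → N → 0
  let u₁ : XI.carrier →ₗ[R] M := (LinearMap.range μ).subtype
  have hu₁ : GrLC.IsGrHom XI.gr ℳ u₁ := fun g z hz => hz
  obtain ⟨δ, hδ, -, -, e2, -⟩ := exists_les EI E E' u₁ π hu₁ hπg
    Subtype.val_injective hπ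
    (fun m hm => by
      obtain ⟨m', hm'⟩ := (hker m).mp hm
      exact ⟨⟨m, ⟨m', hm'⟩⟩, rfl⟩)
    (fun m' => by
      obtain ⟨m'', hm''⟩ := m'.2
      exact (hker _).mpr ⟨m'', hm''⟩) a
  rw [eq_bot_iff]
  intro w hw
  rw [AddSubgroup.mem_bot]
  have hδw : δ i w = 0 := by
    have := hδ i j w hw
    rw [hEI] at this
    exact AddSubgroup.mem_bot.mp this
  obtain ⟨y, rfl⟩ := (e2 i w).mp hδw
  obtain ⟨y', hy', hyy⟩ := exists_gr_preimage 𝒜 a E E' π hπg i j y hw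
  rw [h1] at hy'
  rw [← hyy, AddSubgroup.mem_bot.mp hy', map_zero]

end Groth.Agent.Helper7.GrWkReg
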