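import Mathlib
import Groth.Prelude.Def_GrLC
import Groth.Agent.Helper7.GrDel6
import Groth.Agent.Helper7.GrFinC
import Groth.Agent.Helper7.GrWkReg1
import Groth.Agent.Helper6.GrLCIrr
import Groth.Agent.Helper6.GrExist
import Groth.Agent.Helper1.LocCohVanish

/-!
# Graded right exactness of the top local cohomology, and `H^r(R)_{j+1} = R_1 · H^r(R)_j`
-/

set_option autoImplicit false
set_option linter.unusedSectionVars false

namespace Groth.Agent.Helper7.GrTopRE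

open DirectSum Groth.Agent.Helper6.GrMod Groth.Agent.Helper6.GrCon Groth.Agent.Helper6.GrShift
  Groth.Agent.Helper7.GrDel Groth.Agent.Helper7.GrWkReg

universe u

variable {R : Type u} [CommRing R] [IsNoetherianRing R] (𝒜 : ℤ → AddSubgroup R) [GradedRing 𝒜]
  (a : HomogeneousIdeal 𝒜)

/-- the local cohomology in degree `r + 1` vanishes on every graded module -/
def TopVan (r : ℕ) : Prop :=
  ∀ (Y : GrLC.GMod.{u} 𝒜) (EY : GrLC.StarInjRes 𝒜 Y.gr), Subsingleton (EY.H a (r + 1))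

/-- Grothendieck vanishing gives `TopVan` for `r = dim R` -/
theorem topVan_of_dim (r : ℕ) (hr : ringKrullDim R = r) : TopVan 𝒜 a r := by
  intro Y EY
  obtain ⟨e⟩ := Groth.Agent.Helper7.GrFinC.nonempty_H_equiv a EY (r + 1)
  have hlt : Module.supportDim R Y.carrier < ((r + 1 : ℕ) : WithBot ℕ∞) := by
    refine lt_of_le_of_lt (Module.supportDim_le_ringKrullDim (R := R) (M := Y.carrier)) ?_
    rw [hr]
    exact_mod_cast Nat.lt_succ_self r
  have hz := Groth.Agent.Helper1.LocCohVanish.isZero_lc_of_supportDim_lt a.toIdeal Y.carrier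
    (r + 1) hlt
  have : Subsingleton (LocCoh.H a.toIdeal (r + 1) Y.carrier) :=
    ModuleCat.subsingleton_of_isZero hz
  exact e.toEquiv.subsingleton

variable {M : Type u} [AddCommGroup M] [Module R M] {ℳ : ℤ → AddSubgroup M} [Decomposition ℳ]
  [SetLike.GradedSMul 𝒜 ℳ]
  {N : Type u} [AddCommGroup N] [Module R N] {𝒩 : ℤ → AddSubgroup N} [Decomposition 𝒩]
  [SetLike.GradedSMul 𝒜 𝒩]

/-- graded right exactness of `H^r` for the quotient by a homogeneous element -/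
theorem top_quot (r : ℕ) (hvan : TopVan 𝒜 a r) (x : R) (t : ℤ) (hx : x ∈ 𝒜 t)
    (π : M →ₗ[R] N) (hπ : Function.Surjective π) (hπg : GrLC.IsGrHom ℳ 𝒩 π)
    (hker : ∀ m, π m = 0 ↔ ∃ m', x • m' = m)
    (E : GrLC.StarInjRes 𝒜 ℳ) (E' : GrLC.StarInjRes 𝒜 𝒩) (j : ℤ) :
    (∀ w ∈ E'.Hgr a r j, ∃ y ∈ E.Hgr a r j, Hphi E E' π hπg a r y = w) ∧
    (∀ y ∈ E.Hgr a r j, Hphi E E' π hπg a r y = 0 → ∃ y' ∈ E.Hgr a r (j - t), x • y' = y) := by
  let X : GrLC.GMod.{u} 𝒜 := GrLC.GMod.of 𝒜 M ℳ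
  let μ : X.carrier →ₗ[R] X.carrier := x • LinearMap.id
  have hKh : (LinearMap.ker μ).IsHomogeneous X.gr := ker_smul_isHomogeneous 𝒜 X hx
  have hIh : (LinearMap.range μ).IsHomogeneous X.gr :=
    Groth.Agent.Helper7.GrFinC.range_smul_isHomogeneous X hx
  let XK : GrLC.GMod.{u} 𝒜 := subGMod 𝒜 X.gr (LinearMap.ker μ) hKh
  let XI : GrLC.GMod.{u} 𝒜 := subGMod 𝒜 X.gr (LinearMap.range μ) hIh
  let XKs : GrLC.GMod.{u} 𝒜 := shiftGMod 𝒜 XK (-t)
  let XMs : GrLC.GMod.{u} 𝒜 := shiftGMod 𝒜 X (-t)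
  obtain ⟨EKs⟩ := Groth.Agent.Helper6.GrExist.nonempty_starInjRes 𝒜 XKs.gr
  obtain ⟨EI⟩ := Groth.Agent.Helper6.GrExist.nonempty_starInjRes 𝒜 XI.gr
  let EMs : GrLC.StarInjRes 𝒜 XMs.gr := shiftRes E (-t)
  let u₂ : XKs.carrier →ₗ[R] XMs.carrier := (LinearMap.ker μ).subtype
  let v₂ : XMs.carrier →ₗ[R] XI.carrier := μ.rangeRestrict
  have hu₂ : GrLC.IsGrHom XKs.gr XMs.gr u₂ := fun g z hz => hz
  have hv₂ : GrLC.IsGrHom XMs.gr XI.gr v₂ := by
    intro g z hz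
    exact smul_mem_gr X hx g z hz
  obtain ⟨δ₂, -, -, -, e22, -⟩ := exists_les EKs EMs EI u₂ v₂ hu₂ hv₂
    Subtype.val_injective μ.surjective_rangeRestrict
    (fun m hm => ⟨⟨m, by
      have := congrArg Subtype.val hm
      exact this⟩, rfl⟩)
    (fun m' => Subtype.ext m'.2) a
  let u₁ : XI.carrier →ₗ[R] M := (LinearMap.range μ).subtype
  have hu₁ : GrLC.IsGrHom XI.gr ℳ u₁ := fun g z hz => hz
  obtain ⟨δ₁, -, -, e11, e12, -⟩ := exists_les EI E E' u₁ π hu₁ hπg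
    Subtype.val_injective hπ
    (fun m hm => by
      obtain ⟨m', hm'⟩ := (hker m).mp hm
      exact ⟨⟨m, ⟨m', hm'⟩⟩, rfl⟩)
    (fun m' => by
      obtain ⟨m'', hm''⟩ := m'.2
      exact (hker _).mpr ⟨m'', hm''⟩) a
  have hssK : Subsingleton (EKs.H a (r + 1)) := hvan XKs EKs
  have hssI : Subsingleton (EI.H a (r + 1)) := hvan XI EI
  constructor
  · intro w hw
    obtain ⟨y, rfl⟩ := (e12 r w).mp (Subsingleton.elim _ _)
    obtain ⟨y', hy', hyy⟩ := exists_gr_preimage 𝒜 a E E' π hπg r j y hw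
    exact ⟨y', hy', hyy⟩
  · intro y hy hy0
    obtain ⟨u₀, hu₀⟩ := (e11 r y).mp hy0
    obtain ⟨u₀', hu₀', huu⟩ := exists_gr_preimage 𝒜 a EI E u₁ hu₁ r j u₀ (by rw [hu₀]; exact hy)
    obtain ⟨y₂, hy₂⟩ := (e22 r u₀').mp (Subsingleton.elim _ _)
    obtain ⟨y₂', hy₂', hyy⟩ := exists_gr_preimage 𝒜 a EMs EI v₂ hv₂ r j y₂
      (by rw [hy₂]; exact hu₀')
    refine ⟨y₂', by rw [sub_eq_add_neg]; exact hy₂', ?_⟩
    have hμg : GrLC.IsGrHom XMs.gr ℳ (x • (LinearMap.id : M →ₗ[R] M)) :=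
      fun g z hz => smul_mem_gr X hx g z hz
    have h1 := Hphi_comp (E := EMs) (F := EI) (G := E) (φ := v₂) (ψ := u₁) hv₂ hu₁ a r
    have h2 := Hphi_congr EMs E (φ := u₁ ∘ₗ v₂) (φ' := x • (LinearMap.id : M →ₗ[R] M)) rfl
      (fun g m hm => hu₁ g _ (hv₂ g m hm)) hμg a r
    have h3 : Hphi EMs E (x • (LinearMap.id : M →ₗ[R] M)) hμg a r y₂' =
        (x • (y₂' : E.H a r) : E.H a r) := by
      rw [Hphi_eq (mulHom E t x hx)]
      exact Hmap_mulHom E t x hx a r y₂'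
    have h4 : Hphi EI E u₁ hu₁ a r (Hphi EMs EI v₂ hv₂ a r y₂') = y := by
      rw [hyy, hy₂, huu, hu₀]
    have h5 : Hphi EMs E (x • (LinearMap.id : M →ₗ[R] M)) hμg a r y₂' = y := by
      rw [← h2, ← h1]
      exact h4
    exact h3.symm.trans h5

end Groth.Agent.Helper7.GrTopRE
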