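import Mathlib
import Groth.Prelude.Def_GrLC
import Groth.Agent.Helper7.GrTopRE1

/-!
# `H^r(X)_j = 0 ⇒ H^r(X)_{j+1} = 0` for the top local cohomology with respect to an ideal generated in
degree one
-/

set_option autoImplicit false
set_option linter.unusedSectionVars false

namespace Groth.Agent.Helper7.GrTopRE

open DirectSum Groth.Agent.Helper6.GrMod Groth.Agent.Helper6.GrCon Groth.Agent.Helper6.GrShift
  Groth.Agent.Helper7.GrDel Groth.Agent.Helper7.GrWkReg

universe u

variable {R : Type u} [CommRing R] [IsNoetherianRing R] (𝒜 : ℤ → AddSubgroup R) [GradedRing 𝒜]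
  (a : HomogeneousIdeal 𝒜)

theorem step_all (r : ℕ) (hr : 1 ≤ r) (hvan : TopVan 𝒜 a r) (L : List R) :
    (∀ x ∈ L, x ∈ 𝒜 1) → ∀ (X : GrLC.GMod.{u} 𝒜),
      (∀ z : X.carrier, ∃ n : ℕ, ∀ c ∈ a.toIdeal ^ n,
        c • z ∈ Ideal.span {x | x ∈ L} • (⊤ : Submodule R X.carrier)) →
      ∀ (E : GrLC.StarInjRes 𝒜 X.gr) (j : ℤ), E.Hgr a r j = ⊥ → E.Hgr a r (j + 1) = ⊥ := by
  induction L with
  | nil =>
    intro _ X hX E j _
    have htors : ∀ y : X.carrier, y ∈ GrLC.gam a.toIdeal X.carrier := by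
      intro z
      obtain ⟨n, hn⟩ := hX z
      refine ⟨n, fun c hc => ?_⟩
      have h := hn c hc
      have he : {x : R | x ∈ ([] : List R)} = ∅ := by
        ext x
        simp
      rw [he, Ideal.span_empty, Submodule.bot_smul, Submodule.mem_bot] at h
      exact h
    have hss : Subsingleton (E.H a r) :=
      Groth.Agent.Helper7.GrFinC.H_subsingleton_of_torsion a htors E r hr
    rw [eq_bot_iff]
    intro w _
    rw [AddSubgroup.mem_bot]
    exact Subsingleton.elim _ _
  | cons x L ih =>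
    intro hL X hX E j hj
    have hx : x ∈ 𝒜 1 := hL x (List.mem_cons_self)
    let μ : X.carrier →ₗ[R] X.carrier := x • LinearMap.id
    have hP : (LinearMap.range μ).IsHomogeneous X.gr :=
      Groth.Agent.Helper7.GrFinC.range_smul_isHomogeneous X hx
    let XN : GrLC.GMod.{u} 𝒜 := quotGMod 𝒜 X.gr (LinearMap.range μ) hP
    let π : X.carrier →ₗ[R] XN.carrier := (LinearMap.range μ).mkQ
    have hπg : GrLC.IsGrHom X.gr XN.gr π := fun g z hz => mkQ_mem_quotFam X.gr _ hz
    have hπs : Function.Surjective π := (LinearMap.range μ).mkQ_surjective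
    have hker : ∀ m, π m = 0 ↔ ∃ m', x • m' = m := fun m =>
      ⟨fun h => (Submodule.Quotient.mk_eq_zero _).mp h,
        fun h => (Submodule.Quotient.mk_eq_zero _).mpr h⟩
    obtain ⟨EN⟩ := Groth.Agent.Helper6.GrExist.nonempty_starInjRes 𝒜 XN.gr
    have hXN : ∀ z : XN.carrier, ∃ n : ℕ, ∀ c ∈ a.toIdeal ^ n,
        c • z ∈ Ideal.span {x | x ∈ L} • (⊤ : Submodule R XN.carrier) := by
      intro z'
      obtain ⟨z, rfl⟩ := hπs z'
      obtain ⟨n, hn⟩ := hX z
      refine ⟨n, fun c hc => ?_⟩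
      have h := hn c hc
      rw [← map_smul]
      have key : ∀ w ∈ Ideal.span {y | y ∈ x :: L} • (⊤ : Submodule R X.carrier),
          π w ∈ Ideal.span {x | x ∈ L} • (⊤ : Submodule R XN.carrier) := by
        intro w hw
        induction hw using Submodule.smul_induction_on' with
        | smul s hs m _ =>
          have he : {y : R | y ∈ x :: L} = insert x {y | y ∈ L} := by
            ext y
            simp
          rw [he, Ideal.mem_span_insert] at hs
          obtain ⟨b, s', hs', rfl⟩ := hs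
          rw [add_smul, map_add, mul_smul, map_smul]
          have h0 : π (x • m) = 0 := (hker _).mpr ⟨m, rfl⟩
          rw [h0, smul_zero, zero_add, map_smul]
          exact Submodule.smul_mem_smul hs' trivial
        | add w₁ _ w₂ _ h₁ h₂ =>
          rw [map_add]
          exact add_mem h₁ h₂
      exact key _ h
    have hENj : EN.Hgr a r j = ⊥ := by
      rw [eq_bot_iff]
      intro w hw
      obtain ⟨y, hy, rfl⟩ := (top_quot 𝒜 a r hvan x 1 hx π hπs hπg hker E EN j).1 w hw
      rw [hj, AddSubgroup.mem_bot] at hy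
      rw [hy, map_zero]
      exact zero_mem _
    have hENj1 := ih (fun y hy => hL y (List.mem_cons_of_mem _ hy)) XN hXN EN j hENj
    rw [eq_bot_iff]
    intro y hy
    rw [AddSubgroup.mem_bot]
    have h1 : Hphi E EN π hπg a r y ∈ EN.Hgr a r (j + 1) := Hphi_gr hπg a r (j + 1) y hy
    rw [hENj1, AddSubgroup.mem_bot] at h1
    obtain ⟨y', hy', rfl⟩ := (top_quot 𝒜 a r hvan x 1 hx π hπs hπg hker E EN (j + 1)).2 y hy h1
    rw [add_sub_cancel_right, hj, AddSubgroup.mem_bot] at hy'
    rw [hy', smul_zero]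

/-- For a Noetherian `ℤ`-graded ring whose ideal `a` is generated by elements of degree one, with
`r = dim R ≥ 1`: if `H^r_a(R)_j = 0` then `H^r_a(R)_{j+1} = 0`. -/
theorem hgr_succ_eq_bot (r : ℕ) (hr : 1 ≤ r) (hdim : ringKrullDim R = r)
    (hstd : a.toIdeal = Ideal.span ((𝒜 1 : AddSubgroup R) : Set R))
    (I : GrLC.StarInjRes 𝒜 𝒜) (j : ℤ) (hj : I.Hgr a r j = ⊥) : I.Hgr a r (j + 1) = ⊥ := by
  classical
  have hfg : (Ideal.span ((𝒜 1 : AddSubgroup R) : Set R)).FG :=
    (isNoetherianRing_iff_ideal_fg R).mp inferInstance _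
  obtain ⟨s, hs, hspan⟩ := (Submodule.fg_span_iff_fg_span_finset_subset _).mp hfg
  let X : GrLC.GMod.{u} 𝒜 := GrLC.GMod.of 𝒜 R 𝒜
  refine step_all 𝒜 a r hr (topVan_of_dim 𝒜 a r hdim) s.toList
    (fun x hx => hs (Finset.mem_toList.mp hx)) X ?_ I j hj
  intro z
  refine ⟨1, fun c hc => ?_⟩
  rw [pow_one, hstd] at hc
  have he : {x : R | x ∈ s.toList} = (s : Set R) := by
    ext x
    simp
  rw [he]
  have hc' : c ∈ Ideal.span (s : Set R) := by
    have : Ideal.span ((𝒜 1 : AddSubgroup R) : Set R) = Ideal.span (s : Set R) := hspan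
    rw [← this]
    exact hc
  exact Submodule.smul_mem_smul hc' trivial

end Groth.Agent.Helper7.GrTopRE
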