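import Mathlib
import Groth.Prelude.Def_GrLC
import Groth.Agent.Helper7.GrTopRE2

/-!
# Non-vanishing of the top local cohomology in all degrees below the `a`-invariant
-/

set_option autoImplicit false
set_option linter.unusedSectionVars false

namespace Groth.Agent.Helper7.GrTopRE

universe u

section End

variable {H : Type u} [AddCommGroup H] (ℋ : ℤ → AddSubgroup H)

/-- if the end of a graded object is the integer `a`, the piece of degree `a` is nonzero -/
theorem ne_bot_of_endDeg_eq (a : ℤ)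
    (ha : GrLC.endDeg ℋ = ((a : WithTop ℤ) : WithBot (WithTop ℤ))) : ℋ a ≠ ⊥ := by
  intro hbot
  have hle : GrLC.endDeg ℋ ≤ (((a - 1 : ℤ) : WithTop ℤ) : WithBot (WithTop ℤ)) := by
    unfold GrLC.endDeg
    refine iSup₂_le fun n hn => ?_
    have h1 : ((n : WithTop ℤ) : WithBot (WithTop ℤ)) ≤ GrLC.endDeg ℋ :=
      le_iSup₂ (f := fun (n : ℤ) (_ : ℋ n ≠ ⊥) => ((n : WithTop ℤ) : WithBot (WithTop ℤ))) n hn
    rw [ha, WithBot.coe_le_coe, WithTop.coe_le_coe] at h1
    rw [WithBot.coe_le_coe, WithTop.coe_le_coe]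
    have hna : n ≠ a := fun h => hn (h ▸ hbot)
    omega
  rw [ha, WithBot.coe_le_coe, WithTop.coe_le_coe] at hle
  omega

end End

variable {R : Type u} [CommRing R] [IsNoetherianRing R] (𝒜 : ℤ → AddSubgroup R) [GradedRing 𝒜]
  (m : HomogeneousIdeal 𝒜)

theorem hcomp_ne_bot_of_le (r : ℕ) (hr : 1 ≤ r) (hdim : ringKrullDim R = r)
    (hstd : m.toIdeal = Ideal.span ((𝒜 1 : AddSubgroup R) : Set R))
    (I : GrLC.StarInjRes 𝒜 𝒜) (a : ℤ)
    (ha : GrLC.endDeg (I.Hgr m r) = ((a : WithTop ℤ) : WithBot (WithTop ℤ))) (n : ℤ)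
    (hn : n ≤ a) : I.Hcomp m r n ≠ ⊥ := by
  intro hbot
  have h0 : I.Hgr m r n = ⊥ := by
    rw [eq_bot_iff]
    intro x hx
    have hx' : x ∈ I.Hcomp m r n := hx
    rw [hbot, Submodule.mem_bot] at hx'
    rw [AddSubgroup.mem_bot]
    exact hx'
  have hk : ∀ k : ℕ, I.Hgr m r (n + k) = ⊥ := by
    intro k
    induction k with
    | zero => rw [Nat.cast_zero, add_zero]; exact h0
    | succ k ih =>
      have := hgr_succ_eq_bot 𝒜 m r hr hdim hstd I (n + k) ih
      rw [Nat.cast_succ, ← add_assoc]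
      exact this
  have hfin := hk (a - n).toNat
  have e : n + ((a - n).toNat : ℤ) = a := by
    rw [Int.toNat_of_nonneg (by omega)]
    ring
  rw [e] at hfin
  exact ne_bot_of_endDeg_eq (I.Hgr m r) a ha hfin

end Groth.Agent.Helper7.GrTopRE
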