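import Mathlib
import Groth.Prelude.Def_GrSyz
import Groth.Prelude.Def_GrLC

/-!
# `H^0` of the graded local cohomology computed from a *injective resolution
-/

set_option autoImplicit false
set_option linter.unusedSectionVars false
set_option linter.style.haveILetI false

open DirectSum

namespace Groth.Agent.Helper7.GrH0

universe u

section Gen

variable {R : Type*} [Semiring R] {M₁ M₂ : Type*} [AddCommGroup M₁] [Module R M₁]
  [AddCommGroup M₂] [Module R M₂] {τ₁ τ₂ : Type*} [SetLike τ₁ M₁] [AddSubgroupClass τ₁ M₁]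
  [SetLike τ₂ M₂] [AddSubgroupClass τ₂ M₂]
  (ℳ₁ : ℤ → τ₁) [DirectSum.Decomposition ℳ₁] (ℳ₂ : ℤ → τ₂) [DirectSum.Decomposition ℳ₂]

theorem decompose_map (f : M₁ →ₗ[R] M₂) (hf : ∀ (g : ℤ) (m : M₁), m ∈ ℳ₁ g → f m ∈ ℳ₂ g)
    (x : M₁) (e : ℤ) : (decompose ℳ₂ (f x) e : M₂) = f (decompose ℳ₁ x e : M₁) := by
  classical
  refine DirectSum.Decomposition.inductionOn ℳ₁ (motive := fun x =>
    (decompose ℳ₂ (f x) e : M₂) = f (decompose ℳ₁ x e : M₁)) ?_ ?_ ?_ x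
  · simp
  · intro i a
    have h1 : f (a : M₁) ∈ ℳ₂ i := hf i _ a.2
    by_cases h : i = e
    · subst h
      rw [decompose_of_mem_same ℳ₂ h1, decompose_of_mem_same ℳ₁ a.2]
    · rw [decompose_of_mem_ne ℳ₂ h1 h, decompose_of_mem_ne ℳ₁ a.2 h, map_zero]
  · intro a b ha hb
    simp only [map_add, decompose_add, DirectSum.add_apply, AddMemClass.coe_add, ha, hb]

/-- an injective homogeneous map is strict. -/
theorem mem_of_map_mem (f : M₁ →ₗ[R] M₂) (hf : ∀ (g : ℤ) (m : M₁), m ∈ ℳ₁ g → f m ∈ ℳ₂ g)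
    (hinj : Function.Injective f) (u : M₁) (n : ℤ) (h : f u ∈ ℳ₂ n) : u ∈ ℳ₁ n := by
  classical
  have key : ∀ i, i ≠ n → (decompose ℳ₁ u i : M₁) = 0 := by
    intro i hi
    apply hinj
    rw [← decompose_map ℳ₁ ℳ₂ f hf, map_zero, decompose_of_mem_ne ℳ₂ h (Ne.symm hi)]
  have hu : u = (decompose ℳ₁ u n : M₁) := by
    apply (decompose ℳ₁).injective
    refine DFinsupp.ext fun i => Subtype.ext ?_
    by_cases hi : i = n
    · subst hi
      rw [decompose_of_mem_same ℳ₁ (SetLike.coe_mem _)]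
    · rw [decompose_of_mem_ne ℳ₁ (SetLike.coe_mem _) (Ne.symm hi), key i hi]
  rw [hu]
  exact SetLike.coe_mem _

end Gen


section H0

variable {R : Type u} [CommRing R] {σ : Type u} [SetLike σ R] [AddSubgroupClass σ R]
  {𝒜 : ℤ → σ} [GradedRing 𝒜]
  {M : Type u} [AddCommGroup M] [Module R M] {τ : Type u} [SetLike τ M] [AddSubgroupClass τ M]
  {ℳ : ℤ → τ} [DirectSum.Decomposition ℳ] [SetLike.GradedSMul 𝒜 ℳ]
  (E : GrLC.StarInjRes 𝒜 ℳ) (a : HomogeneousIdeal 𝒜)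

theorem hgr_zero_ne_bot_iff (n : ℤ) :
    E.Hgr a 0 n ≠ ⊥ ↔ ∃ u ∈ ℳ n, u ≠ 0 ∧ u ∈ GrLC.gam a.toIdeal M := by
  rw [Ne, AddSubgroup.eq_bot_iff_forall]
  push Not
  constructor
  · rintro ⟨x, ⟨z, hz, rfl⟩, hx⟩
    have hz2 : (z : (E.X 0).carrier) ∈ LinearMap.ker (E.d 0) := z.2.2
    rw [E.exact_zero] at hz2
    obtain ⟨u, hu⟩ := hz2
    refine ⟨u, ?_, ?_, ?_⟩
    · apply mem_of_map_mem ℳ (E.X 0).gr E.ε E.ε_grHom E.ε_injective
      rw [hu]
      exact hz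
    · rintro rfl
      apply hx
      have : z = 0 := Subtype.ext (by rw [← hu, map_zero]; rfl)
      rw [this, map_zero]
    · obtain ⟨N, hN⟩ := z.2.1
      refine ⟨N, fun s hs => ?_⟩
      apply E.ε_injective
      rw [map_smul, hu, map_zero]
      exact hN s hs
  · rintro ⟨u, hu, hu0, N, hN⟩
    have hz : E.ε u ∈ E.cocyc a 0 := by
      refine ⟨⟨N, fun s hs => ?_⟩, ?_⟩
      · rw [← map_smul, hN s hs, map_zero]
      · show E.ε u ∈ LinearMap.ker (E.d 0)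
        rw [E.exact_zero]
        exact ⟨u, rfl⟩
    refine ⟨E.toH a 0 ⟨E.ε u, hz⟩, ⟨⟨E.ε u, hz⟩, E.ε_grHom n u hu, rfl⟩, ?_⟩
    intro h0
    rw [Submodule.mkQ_apply, Submodule.Quotient.mk_eq_zero, Submodule.mem_comap] at h0
    have h1 : E.ε u ∈ (⊥ : Submodule R (E.X 0).carrier) := h0
    rw [Submodule.mem_bot] at h1
    exact hu0 (E.ε_injective (by rw [h1, map_zero]))

theorem endDeg_le_iff (ρ : ℤ) :
    GrLC.endDeg (E.Hgr a 0) ≤ ((ρ : WithTop ℤ) : WithBot (WithTop ℤ)) ↔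
      ∀ n : ℤ, ρ < n → ∀ u ∈ ℳ n, u ∈ GrLC.gam a.toIdeal M → u = 0 := by
  unfold GrLC.endDeg
  rw [iSup₂_le_iff]
  constructor
  · intro h n hn u hu hgam
    by_contra hu0
    have := h n ((hgr_zero_ne_bot_iff E a n).2 ⟨u, hu, hu0, hgam⟩)
    rw [WithBot.coe_le_coe, WithTop.coe_le_coe] at this
    omega
  · intro h n hn
    rw [WithBot.coe_le_coe, WithTop.coe_le_coe]
    by_contra hcon
    push Not at hcon
    obtain ⟨u, hu, hu0, hgam⟩ := (hgr_zero_ne_bot_iff E a n).1 hn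
    exact hu0 (h n hcon u hu hgam)

end H0

end Groth.Agent.Helper7.GrH0
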