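import Mathlib
import Groth.Prelude.Def_GrLC
import Groth.Agent.Helper7.GrFinC
import Groth.Agent.Helper7.GrH0

/-!
# Vanishing in high degrees and finiteness of the graded pieces of `H^i_{R₊}(M)`
-/

namespace Groth.Agent.Helper7.GrFinD

open DirectSum Groth.Agent.Helper6.GrMod Groth.Agent.Helper6.GrCon Groth.Agent.Helper7.GrDel
  Groth.Agent.Helper7.GrFinC

universe u

theorem fg_of_le {A : Type*} [CommRing A] [IsNoetherianRing A] {V : Type*} [AddCommGroup V]
    [Module A V] {P P' : Submodule A V} (h : P ≤ P') (hP' : P'.FG) : P.FG := by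
  haveI := isNoetherian_of_fg_of_noetherian P' hP'
  have h1 : (Submodule.comap P'.subtype P).FG := IsNoetherian.noetherian _
  have h2 := h1.map P'.subtype
  rw [Submodule.map_comap_subtype, inf_eq_right.mpr h] at h2
  exact h2

variable {R : Type u} [CommRing R] [IsNoetherianRing R] (𝒜 : ℤ → AddSubgroup R) [GradedRing 𝒜]
  (hpos : ∀ n : ℤ, n < 0 → 𝒜 n = ⊥) (a : HomogeneousIdeal 𝒜)
  (ha : a.toIdeal = Ideal.span (⋃ n ∈ Set.Ioi (0 : ℤ), (𝒜 n : Set R)))

include hpos ha in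
theorem finite_deg0_gam (X : GrLC.GMod.{u} 𝒜) [Module.Finite R X.carrier] :
    Module.Finite (GrLC.deg0 𝒜) ↥(GrLC.gam a.toIdeal X.carrier) :=
  Groth.Agent.Helper7.GrFinA.finite_deg0_of_torsion 𝒜 hpos a ha _
    (fun z => gam_sub_torsion a.toIdeal z)

include hpos ha in
theorem vanish_zero (X : GrLC.GMod.{u} 𝒜) [Module.Finite R X.carrier]
    (E : GrLC.StarInjRes 𝒜 X.gr) : ∃ r : ℤ, ∀ n, r ≤ n → E.Hgr a 0 n = ⊥ := by
  have hΓ := Groth.Agent.Helper6.GrH.gam_isHomogeneous 𝒜 X.gr a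
  let XΓ : GrLC.GMod.{u} 𝒜 := subGMod 𝒜 X.gr (GrLC.gam a.toIdeal X.carrier) hΓ
  haveI : Module.Finite (GrLC.deg0 𝒜) XΓ.carrier := finite_deg0_gam 𝒜 hpos a ha X
  obtain ⟨n₀, hn₀⟩ := Groth.Agent.Helper7.GrFinA.bounded_above_of_finite_deg0 𝒜 XΓ.gr
  refine ⟨n₀, fun n hn => ?_⟩
  by_contra hne
  obtain ⟨u, hu, hu0, hgam⟩ := (Groth.Agent.Helper7.GrH0.hgr_zero_ne_bot_iff E a n).mp hne
  let ιΓ : XΓ.carrier →ₗ[R] X.carrier := (GrLC.gam a.toIdeal X.carrier).subtype
  let z : XΓ.carrier := (⟨u, hgam⟩ : ↥(GrLC.gam a.toIdeal X.carrier))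
  have h1 : z ∈ XΓ.gr n := hu
  have h2 : z ∈ (⊥ : AddSubgroup XΓ.carrier) := (hn₀ n hn) ▸ h1
  have h3 : z = 0 := (AddSubgroup.mem_bot).mp h2
  exact hu0 ((congrArg ιΓ h3).trans (map_zero ιΓ))

include hpos ha in
/-- `H^i_{R₊}(M)_n = 0` for `n ≫ 0` -/
theorem vanish (i : ℕ) : ∀ (X : GrLC.GMod.{u} 𝒜) [Module.Finite R X.carrier]
    (E : GrLC.StarInjRes 𝒜 X.gr), ∃ r : ℤ, ∀ n, r ≤ n → E.Hgr a i n = ⊥ := by
  induction i with
  | zero => exact fun X _ E => vanish_zero 𝒜 hpos a ha X E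
  | succ i ih =>
    intro X _ E
    obtain ⟨Xq, XN, d, x, hfq, hfN, hd, hx, hemb, hles⟩ := exists_struct 𝒜 hpos a ha X
    obtain ⟨Eq⟩ := Groth.Agent.Helper6.GrExist.nonempty_starInjRes 𝒜 Xq.gr
    obtain ⟨EN⟩ := Groth.Agent.Helper6.GrExist.nonempty_starInjRes 𝒜 XN.gr
    obtain ⟨L⟩ := hles Eq EN
    obtain ⟨rN, hrN⟩ := ih XN EN
    have hxa : x ∈ a.toIdeal := Groth.Agent.Helper7.GrFinB.mem_a_of_pos 𝒜 a ha hd hx
    have key : ∀ (k : ℕ) (j : ℤ), rN - d ≤ j → ∀ h ∈ Eq.Hgr a (i + 1) j, x ^ k • h = 0 → h = 0 := by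
      intro k
      induction k with
      | zero =>
        intro j _ h _ h0
        rwa [pow_zero, one_smul] at h0
      | succ k ihk =>
        intro j hj h hh h0
        rw [pow_succ, mul_smul] at h0
        have h1 : x • h = 0 := ihk (j + d) (by omega) (x • h) (smul_mem_Hgr hx (i + 1) j h hh) h0
        obtain ⟨w, hw, rfl⟩ := L.exact3_gr i j h hh h1
        rw [hrN (j + d) (by omega), AddSubgroup.mem_bot] at hw
        rw [hw, map_zero]
    have hq : ∀ j, rN - d ≤ j → Eq.Hgr a (i + 1) j = ⊥ := by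
      intro j hj
      rw [AddSubgroup.eq_bot_iff_forall]
      intro h hh
      obtain ⟨k, hk⟩ := H_torsion a Eq (i + 1) h
      exact key k j hj h hh (hk _ (Ideal.pow_mem_pow hxa k))
    obtain ⟨f, hf, hfinj⟩ := hemb E Eq (i + 1) (by omega)
    refine ⟨rN - d, fun n hn => ?_⟩
    rw [AddSubgroup.eq_bot_iff_forall]
    intro h hh
    have h1 := hf n h hh
    rw [hq n hn, AddSubgroup.mem_bot] at h1
    exact hfinj (h1.trans (map_zero f).symm)

include hpos ha in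
theorem finite_zero (X : GrLC.GMod.{u} 𝒜) [Module.Finite R X.carrier]
    (E : GrLC.StarInjRes 𝒜 X.gr) (n : ℤ) : (E.Hcomp a 0 n).FG := by
  have hΓ := Groth.Agent.Helper6.GrH.gam_isHomogeneous 𝒜 X.gr a
  let XΓ : GrLC.GMod.{u} 𝒜 := subGMod 𝒜 X.gr (GrLC.gam a.toIdeal X.carrier) hΓ
  haveI : Module.Finite (GrLC.deg0 𝒜) XΓ.carrier := finite_deg0_gam 𝒜 hpos a ha X
  have hfg := Groth.Agent.Helper7.GrFinA.comp_fg_of_finite_deg0 𝒜 XΓ.gr n
  have hcoc : ∀ z : ↥(GrLC.gam a.toIdeal X.carrier),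
      (E.ε ∘ₗ (GrLC.gam a.toIdeal X.carrier).subtype) z ∈ E.cocyc a 0 := by
    intro z
    refine ⟨map_mem_gam a.toIdeal E.ε z.2, ?_⟩
    rw [SetLike.mem_coe, LinearMap.mem_ker]
    exact d_ε E _
  let θ₀ : ↥(GrLC.gam a.toIdeal X.carrier) →ₗ[R] E.H a 0 :=
    (E.toH a 0) ∘ₗ ((E.ε ∘ₗ (GrLC.gam a.toIdeal X.carrier).subtype).codRestrict (E.cocyc a 0) hcoc)
  let θ : XΓ.carrier →ₗ[R] E.H a 0 := θ₀
  have heq : E.Hcomp a 0 n = (GrLC.comp 𝒜 XΓ.gr n).map (θ.restrictScalars (GrLC.deg0 𝒜)) := by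
    ext y
    constructor
    · rintro ⟨c, hc, rfl⟩
      obtain ⟨u, hu⟩ := exists_of_d_zero E (c : (E.X 0).carrier) c.2.2
      have hun : u ∈ X.gr n := by
        apply Groth.Agent.Helper7.GrH0.mem_of_map_mem X.gr (E.X 0).gr E.ε E.ε_grHom E.ε_injective
        rw [hu]
        exact hc
      have hug : u ∈ GrLC.gam a.toIdeal X.carrier := by
        obtain ⟨k, hk⟩ := c.2.1
        refine ⟨k, fun r hr => E.ε_injective ?_⟩
        rw [map_smul, hu, map_zero]
        exact hk r hr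
      let z : XΓ.carrier := (⟨u, hug⟩ : ↥(GrLC.gam a.toIdeal X.carrier))
      refine ⟨z, hun, ?_⟩
      show E.toH a 0 _ = E.toH a 0 c
      congr 1
      exact Subtype.ext hu
    · rintro ⟨z, hz, rfl⟩
      exact ⟨⟨_, hcoc z⟩, E.ε_grHom n _ hz, rfl⟩
  rw [heq]
  exact hfg.map _

include hpos ha in
/-- the graded pieces `H^i_{R₊}(M)_n` are finitely generated over `R₀` -/
theorem finite (i : ℕ) : ∀ (X : GrLC.GMod.{u} 𝒜) [Module.Finite R X.carrier]
    (E : GrLC.StarInjRes 𝒜 X.gr) (n : ℤ), (E.Hcomp a i n).FG := by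
  induction i with
  | zero => exact fun X _ E n => finite_zero 𝒜 hpos a ha X E n
  | succ i ih =>
    intro X _ E n
    obtain ⟨Xq, XN, d, x, hfq, hfN, hd, hx, hemb, hles⟩ := exists_struct 𝒜 hpos a ha X
    obtain ⟨Eq⟩ := Groth.Agent.Helper6.GrExist.nonempty_starInjRes 𝒜 Xq.gr
    obtain ⟨EN⟩ := Groth.Agent.Helper6.GrExist.nonempty_starInjRes 𝒜 XN.gr
    obtain ⟨L⟩ := hles Eq EN
    obtain ⟨r, hr⟩ := vanish 𝒜 hpos a ha (i + 1) Xq Eq
    -- finiteness for Xq
    let μ : Eq.H a (i + 1) →ₗ[GrLC.deg0 𝒜] Eq.H a (i + 1) :=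
      (LinearMap.lsmul R (Eq.H a (i + 1)) x).restrictScalars (GrLC.deg0 𝒜)
    let δ₀ : EN.H a i →ₗ[GrLC.deg0 𝒜] Eq.H a (i + 1) := (L.δ i).restrictScalars (GrLC.deg0 𝒜)
    have key : ∀ (k : ℕ) (j : ℤ), r - k ≤ j → (Eq.Hcomp a (i + 1) j).FG := by
      intro k
      induction k with
      | zero =>
        intro j hj
        have : Eq.Hcomp a (i + 1) j = ⊥ := by
          rw [eq_bot_iff]
          intro h hh
          have h1 : h ∈ Eq.Hgr a (i + 1) j := hh
          rw [hr j (by simpa using hj), AddSubgroup.mem_bot] at h1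
          rw [h1]; exact zero_mem _
        rw [this]
        exact Submodule.fg_bot
      | succ k ihk =>
        intro j hj
        have hP' : (Eq.Hcomp a (i + 1) (j + d)).FG := ihk (j + d) (by push_cast at hj ⊢; omega)
        apply Submodule.fg_of_fg_map_of_fg_inf_ker μ
        · refine fg_of_le ?_ hP'
          rintro _ ⟨h, hh, rfl⟩
          exact smul_mem_Hgr hx (i + 1) j h hh
        · have : Eq.Hcomp a (i + 1) j ⊓ LinearMap.ker μ = (EN.Hcomp a i (j + d)).map δ₀ := by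
            ext h
            constructor
            · rintro ⟨hh, h0⟩
              obtain ⟨w, hw, e⟩ := L.exact3_gr i j h hh h0
              exact ⟨w, hw, e⟩
            · rintro ⟨w, hw, rfl⟩
              refine ⟨?_, ?_⟩
              · have := L.δ_gr i (j + d) w hw
                rw [add_sub_cancel_right] at this
                exact this
              · exact (L.exact3 i _).mpr ⟨w, rfl⟩
          rw [this]
          exact (ih XN EN (j + d)).map _
    have hq : (Eq.Hcomp a (i + 1) n).FG := by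
      by_cases hn : r ≤ n
      · exact key 0 n (by simpa using hn)
      · have : r - ((r - n).toNat : ℤ) ≤ n := by
          have := Int.toNat_of_nonneg (show 0 ≤ r - n by omega)
          omega
        exact key _ n this
    obtain ⟨f, hf, hfinj⟩ := hemb E Eq (i + 1) (by omega)
    apply Submodule.fg_of_fg_map_of_fg_inf_ker (f.restrictScalars (GrLC.deg0 𝒜))
    · refine fg_of_le ?_ hq
      rintro _ ⟨h, hh, rfl⟩
      exact hf n h hh
    · have : LinearMap.ker (f.restrictScalars (GrLC.deg0 𝒜)) = ⊥ := by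
        rw [LinearMap.ker_eq_bot]
        exact hfinj
      rw [this, inf_bot_eq]
      exact Submodule.fg_bot

end Groth.Agent.Helper7.GrFinD
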