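import Mathlib
import Groth.Prelude.Def_GrLC
import Groth.Agent.Helper7.GrDel5
import Groth.Agent.Helper6.GrH

/-!
# Graded local cohomology from graded acyclic resolutions, part 1

Raw graded complexes `(X, d)`, the cohomology `HH a X d i` of `Γ_a(X^•)` with its grading, and the
identification of `HH a X d 0` with `Γ_a(M)` for a graded left-exact augmentation `ε : M → X 0`.
-/

namespace Groth.Agent.Helper7.GrAcy

open DirectSum Groth.Agent.Helper6.GrMod Groth.Agent.Helper6.GrCon Groth.Agent.Helper6.GrInj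
  Groth.Agent.Helper6.GrH Groth.Agent.Helper7.GrDel

universe u

section Defs

variable {ι : Type} [AddCommGroup ι] [DecidableEq ι] {R : Type u} [CommRing R]
  {𝒜 : ι → AddSubgroup R} [GradedRing 𝒜] (a : HomogeneousIdeal 𝒜)
  (X : ℕ → GrLC.GMod.{u} 𝒜) (d : ∀ n, (X n).carrier →ₗ[R] (X (n + 1)).carrier)

/-- cocycles of `Γ_a(X^•)` -/
def cocyc (i : ℕ) : Submodule R (X i).carrier :=
  GrLC.gam a.toIdeal (X i).carrier ⊓ LinearMap.ker (d i)

/-- coboundaries of `Γ_a(X^•)` -/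
def cobdy : (i : ℕ) → Submodule R (X i).carrier
  | 0 => ⊥
  | n + 1 => (GrLC.gam a.toIdeal (X n).carrier).map (d n)

/-- cohomology of `Γ_a(X^•)` -/
abbrev HH (i : ℕ) : Type u := ↥(cocyc a X d i) ⧸ (cobdy a X d i).comap (cocyc a X d i).subtype

/-- the class map -/
abbrev toHH (i : ℕ) : ↥(cocyc a X d i) →ₗ[R] HH a X d i :=
  ((cobdy a X d i).comap (cocyc a X d i).subtype).mkQ

/-- graded pieces of `HH` -/
def HHcomp (i : ℕ) (g : ι) : Submodule (GrLC.deg0 𝒜) (HH a X d i) where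
  carrier := {x | ∃ z : ↥(cocyc a X d i), (z : (X i).carrier) ∈ (X i).gr g ∧ toHH a X d i z = x}
  zero_mem' := ⟨0, zero_mem _, map_zero _⟩
  add_mem' := by
    rintro x y ⟨z, hz, rfl⟩ ⟨w, hw, rfl⟩
    exact ⟨z + w, add_mem hz hw, map_add _ _ _⟩
  smul_mem' := by
    rintro r x ⟨z, hz, rfl⟩
    refine ⟨r • z, ?_, LinearMap.map_smul_of_tower _ _ _⟩
    have h := SetLike.GradedSMul.smul_mem (A := 𝒜) (B := (X i).gr) (show (r : R) ∈ 𝒜 0 from r.2) hz
    rw [vadd_eq_add, zero_add] at h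
    rw [Submodule.coe_smul_of_tower]
    exact h

/-- graded pieces of `HH` as additive subgroups -/
def HHgr (i : ℕ) : ι → AddSubgroup (HH a X d i) := fun g => (HHcomp a X d i g).toAddSubgroup

theorem mem_HHgr {i : ℕ} {g : ι} {x : HH a X d i} :
    x ∈ HHgr a X d i g ↔
      ∃ z : ↥(cocyc a X d i), (z : (X i).carrier) ∈ (X i).gr g ∧ toHH a X d i z = x := Iff.rfl

variable {X d}

theorem cocyc_isHomogeneous (hd : ∀ n, GrLC.IsGrHom (X n).gr (X (n + 1)).gr (d n)) (i : ℕ) :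
    (cocyc a X d i).IsHomogeneous (X i).gr :=
  inf_isHomogeneous (gam_isHomogeneous 𝒜 (X i).gr a) (ker_isHomogeneous (hd i))

theorem cobdy_isHomogeneous (hd : ∀ n, GrLC.IsGrHom (X n).gr (X (n + 1)).gr (d n)) (i : ℕ) :
    (cobdy a X d i).IsHomogeneous (X i).gr := by
  cases i with
  | zero => exact bot_isHomogeneous
  | succ n => exact map_isHomogeneous (hd n) (gam_isHomogeneous 𝒜 (X n).gr a)

theorem HHgr_isInternal (hd : ∀ n, GrLC.IsGrHom (X n).gr (X (n + 1)).gr (d n)) (i : ℕ) :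
    DirectSum.IsInternal (HHgr a X d i) := by
  have hC := cocyc_isHomogeneous a hd i
  letI decC : Decomposition (subFam (X i).gr (cocyc a X d i)) :=
    (isInternal_subFam (X i).gr (cocyc a X d i) hC).chooseDecomposition
  have hsub : GrLC.IsGrHom (subFam (X i).gr (cocyc a X d i)) (X i).gr (cocyc a X d i).subtype :=
    fun g z hz => hz
  have hB : ((cobdy a X d i).comap (cocyc a X d i).subtype).IsHomogeneous
      (subFam (X i).gr (cocyc a X d i)) :=
    comap_isHomogeneous hsub (cobdy_isHomogeneous a hd i)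
  have key := isInternal_quotFam (subFam (X i).gr (cocyc a X d i)) _ hB
  have heq : HHgr a X d i = quotFam (subFam (X i).gr (cocyc a X d i))
      ((cobdy a X d i).comap (cocyc a X d i).subtype) := by
    funext g
    ext x
    constructor
    · rintro ⟨z, hz, rfl⟩
      exact ⟨z, hz, rfl⟩
    · rintro ⟨z, hz, rfl⟩
      exact ⟨z, hz, rfl⟩
  rw [heq]
  exact key

end Defs

section Star

variable {ι : Type} [AddCommGroup ι] [DecidableEq ι] {R : Type u} [CommRing R]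
  {𝒜 : ι → AddSubgroup R} [GradedRing 𝒜] (a : HomogeneousIdeal 𝒜)
  {M : Type u} [AddCommGroup M] [Module R M] {ℳ : ι → AddSubgroup M} [Decomposition ℳ]
  [SetLike.GradedSMul 𝒜 ℳ]

theorem star_cocyc (E : GrLC.StarInjRes 𝒜 ℳ) (i : ℕ) : E.cocyc a i = cocyc a E.X E.d i := rfl
theorem star_cobdy (E : GrLC.StarInjRes 𝒜 ℳ) (i : ℕ) : E.cobdy a i = cobdy a E.X E.d i := rfl
theorem star_H (E : GrLC.StarInjRes 𝒜 ℳ) (i : ℕ) : E.H a i = HH a E.X E.d i := rfl
theorem star_Hgr (E : GrLC.StarInjRes 𝒜 ℳ) (i : ℕ) : E.Hgr a i = HHgr a E.X E.d i := rfl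

end Star

section SymmGr

variable {ι : Type} [AddCommGroup ι] [DecidableEq ι] {R : Type u} [CommRing R]
  {A B : Type u} [AddCommGroup A] [Module R A] [AddCommGroup B] [Module R B]
  {𝒜A : ι → AddSubgroup A} {ℬ : ι → AddSubgroup B}

/-- the inverse of a homogeneous linear equivalence is homogeneous -/
theorem symm_gr (hA : DirectSum.IsInternal 𝒜A) (hB : DirectSum.IsInternal ℬ) (ψ : A ≃ₗ[R] B)
    (hψ : GrLC.IsGrHom 𝒜A ℬ ψ.toLinearMap) : GrLC.IsGrHom ℬ 𝒜A ψ.symm.toLinearMap := by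
  intro g b hb
  have hb' : ψ.toLinearMap (ψ.symm b) ∈ ℬ g := by
    show ψ (ψ.symm b) ∈ ℬ g
    rw [LinearEquiv.apply_symm_apply]
    exact hb
  obtain ⟨x', hx', hx'e⟩ := exists_mem_of_gr hA hB ψ.toLinearMap hψ g (ψ.symm b) hb'
  have : x' = ψ.symm b := ψ.injective hx'e
  show ψ.symm b ∈ 𝒜A g
  rw [← this]
  exact hx'

end SymmGr

section Zero

variable {ι : Type} [AddCommGroup ι] [DecidableEq ι] {R : Type u} [CommRing R]
  {𝒜 : ι → AddSubgroup R} [GradedRing 𝒜] (a : HomogeneousIdeal 𝒜)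
  {X : ℕ → GrLC.GMod.{u} 𝒜} {d : ∀ n, (X n).carrier →ₗ[R] (X (n + 1)).carrier}
  {M : Type u} [AddCommGroup M] [Module R M] {ℳ : ι → AddSubgroup M} [Decomposition ℳ]
  [SetLike.GradedSMul 𝒜 ℳ]
  (ε : M →ₗ[R] (X 0).carrier) (hε : GrLC.IsGrHom ℳ (X 0).gr ε) (hinj : Function.Injective ε)
  (h0 : LinearMap.ker (d 0) = LinearMap.range ε)

/-- `Γ_a(M) → Z⁰(Γ_a(X^•))` -/
def zeroMap : ↥(GrLC.gam a.toIdeal M) →ₗ[R] ↥(cocyc a X d 0) :=
  (ε.comp (GrLC.gam a.toIdeal M).subtype).codRestrict (cocyc a X d 0) (fun x => by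
    refine ⟨map_mem_gam _ ε x.2, ?_⟩
    show ε x.1 ∈ LinearMap.ker (d 0)
    rw [h0]; exact ⟨x.1, rfl⟩)

include hinj in
theorem zeroMap_bijective : Function.Bijective (zeroMap a ε h0) := by
  constructor
  · intro x y hxy
    apply Subtype.ext
    apply hinj
    exact congrArg Subtype.val hxy
  · rintro ⟨y, hy1, hy2⟩
    have hy2' : y ∈ LinearMap.ker (d 0) := hy2
    rw [h0] at hy2'
    obtain ⟨x, rfl⟩ := hy2'
    obtain ⟨n, hn⟩ := hy1
    refine ⟨⟨x, n, fun r hr => ?_⟩, rfl⟩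
    apply hinj
    rw [map_smul, map_zero]
    exact hn r hr

theorem cobdy_zero_comap : (cobdy a X d 0).comap (cocyc a X d 0).subtype = ⊥ := by
  show (⊥ : Submodule R (X 0).carrier).comap (cocyc a X d 0).subtype = ⊥
  rw [Submodule.comap_bot]
  exact Submodule.ker_subtype _

/-- `Γ_a(M) ≃ H⁰(Γ_a(X^•))` -/
noncomputable def zeroEquiv : ↥(GrLC.gam a.toIdeal M) ≃ₗ[R] HH a X d 0 :=
  (LinearEquiv.ofBijective (zeroMap a ε h0) (zeroMap_bijective a ε hinj h0)).trans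
    (Submodule.quotEquivOfEqBot _ (cobdy_zero_comap a)).symm

theorem zeroEquiv_apply (x : ↥(GrLC.gam a.toIdeal M)) :
    zeroEquiv a ε hinj h0 x = toHH a X d 0 (zeroMap a ε h0 x) := rfl

include hε in
theorem zeroEquiv_mem (g : ι) (x : ↥(GrLC.gam a.toIdeal M)) (hx : (x : M) ∈ ℳ g) :
    zeroEquiv a ε hinj h0 x ∈ HHgr a X d 0 g :=
  ⟨zeroMap a ε h0 x, hε g _ hx, rfl⟩

include hε in
theorem zeroEquiv_symm_mem (g : ι) (y : HH a X d 0) (hy : y ∈ HHgr a X d 0 g) :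
    (((zeroEquiv a ε hinj h0).symm y : ↥(GrLC.gam a.toIdeal M)) : M) ∈ ℳ g := by
  obtain ⟨z, hz, rfl⟩ := hy
  set x := (zeroEquiv a ε hinj h0).symm (toHH a X d 0 z) with hx
  have h1 : zeroEquiv a ε hinj h0 x = toHH a X d 0 z := by
    rw [hx, LinearEquiv.apply_symm_apply]
  rw [zeroEquiv_apply] at h1
  have h2 : zeroMap a ε h0 x - z ∈ (cobdy a X d 0).comap (cocyc a X d 0).subtype :=
    (Submodule.Quotient.eq _).mp h1
  rw [cobdy_zero_comap, Submodule.mem_bot, sub_eq_zero] at h2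
  have h3 : ε (x : M) = (z : (X 0).carrier) := congrArg Subtype.val h2
  apply mem_of_map_mem hε hinj
  rw [h3]
  exact hz

end Zero

end Groth.Agent.Helper7.GrAcy
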