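import Mathlib
import Groth.Prelude.Def_GrLC
import Groth.Agent.Helper7.GrAcy1
import Groth.Agent.Helper6.GrExist

/-!
# Graded local cohomology from graded acyclic resolutions, part 2: the dimension-shifting steps
-/

namespace Groth.Agent.Helper7.GrAcy

open DirectSum Groth.Agent.Helper6.GrMod Groth.Agent.Helper6.GrCon Groth.Agent.Helper6.GrInj
  Groth.Agent.Helper6.GrH Groth.Agent.Helper7.GrDel

universe u

section Nat0

variable {ι : Type} [AddCommGroup ι] [DecidableEq ι] {R : Type u} [CommRing R]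
  {𝒜 : ι → AddSubgroup R} [GradedRing 𝒜] (a : HomogeneousIdeal 𝒜)
  {M : Type u} [AddCommGroup M] [Module R M] {ℳ : ι → AddSubgroup M} [Decomposition ℳ]
  [SetLike.GradedSMul 𝒜 ℳ]
  {N : Type u} [AddCommGroup N] [Module R N] {𝒩 : ι → AddSubgroup N} [Decomposition 𝒩]
  [SetLike.GradedSMul 𝒜 𝒩]

/-- `Γ_a(M) ≃ H⁰` for a *injective resolution -/
noncomputable def starZero (E : GrLC.StarInjRes 𝒜 ℳ) : ↥(GrLC.gam a.toIdeal M) ≃ₗ[R] E.H a 0 :=
  zeroEquiv a E.ε E.ε_injective E.exact_zero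

theorem starZero_mem (E : GrLC.StarInjRes 𝒜 ℳ) (g : ι) (x : ↥(GrLC.gam a.toIdeal M))
    (hx : (x : M) ∈ ℳ g) : starZero a E x ∈ E.Hgr a 0 g :=
  zeroEquiv_mem a E.ε E.ε_grHom E.ε_injective E.exact_zero g x hx

theorem starZero_symm_mem (E : GrLC.StarInjRes 𝒜 ℳ) (g : ι) (y : E.H a 0)
    (hy : y ∈ E.Hgr a 0 g) : (((starZero a E).symm y : ↥(GrLC.gam a.toIdeal M)) : M) ∈ ℳ g :=
  zeroEquiv_symm_mem a E.ε E.ε_grHom E.ε_injective E.exact_zero g y hy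

theorem Hphi_starZero (E : GrLC.StarInjRes 𝒜 ℳ) (F : GrLC.StarInjRes 𝒜 𝒩) (φ : M →ₗ[R] N)
    (hφ : GrLC.IsGrHom ℳ 𝒩 φ) (x : ↥(GrLC.gam a.toIdeal M)) :
    Hphi E F φ hφ a 0 (starZero a E x) =
      starZero a F ⟨φ x, map_mem_gam _ φ x.2⟩ := by
  obtain ⟨f⟩ := nonempty_resHom E F φ hφ
  rw [Hphi_eq f]
  show Hmap f a 0 (E.toH a 0 (zeroMap a E.ε E.exact_zero x)) = _
  rw [Hmap_mk]
  show F.toH a 0 _ = F.toH a 0 (zeroMap a F.ε F.exact_zero ⟨φ x, map_mem_gam _ φ x.2⟩)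
  congr 1
  apply Subtype.ext
  exact f.comm_ε x

end Nat0

section Steps

variable {ι : Type} [AddCommGroup ι] [DecidableEq ι] {R : Type u} [CommRing R]
  {𝒜 : ι → AddSubgroup R} [GradedRing 𝒜] (a : HomogeneousIdeal 𝒜)
  {X : ℕ → GrLC.GMod.{u} 𝒜} {d : ∀ n, (X n).carrier →ₗ[R] (X (n + 1)).carrier}
  (hd : ∀ n, GrLC.IsGrHom (X n).gr (X (n + 1)).gr (d n))
  {M : Type u} [AddCommGroup M] [Module R M] {ℳ : ι → AddSubgroup M} [Decomposition ℳ]
  [SetLike.GradedSMul 𝒜 ℳ]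
  (ε : M →ₗ[R] (X 0).carrier) (hε : GrLC.IsGrHom ℳ (X 0).gr ε) (hinj : Function.Injective ε)
  (h0 : LinearMap.ker (d 0) = LinearMap.range ε)
  (h1 : LinearMap.ker (d 1) = LinearMap.range (d 0))

/-- the graded module of `1`-cocycles -/
noncomputable def Zmod : GrLC.GMod.{u} 𝒜 :=
  subGMod 𝒜 (X 1).gr (LinearMap.ker (d 1)) (ker_isHomogeneous (hd 1))

/-- `X⁰ → Z¹` -/
def vmap : (X 0).carrier →ₗ[R] (Zmod hd).carrier :=
  (d 0).codRestrict (LinearMap.ker (d 1)) (fun x => by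
    show d 0 x ∈ LinearMap.ker (d 1)
    rw [h1]; exact ⟨x, rfl⟩)

theorem vmap_gr : GrLC.IsGrHom (X 0).gr (Zmod hd).gr (vmap hd h1) :=
  fun g x hx => hd 0 g x hx

theorem vmap_surjective : Function.Surjective (vmap hd h1) := by
  rintro ⟨z, hz⟩
  have hz' : z ∈ LinearMap.range (d 0) := by rw [← h1]; exact hz
  obtain ⟨x, rfl⟩ := hz'
  exact ⟨x, rfl⟩

include h0 in
theorem vmap_exact (x : (X 0).carrier) (hx : vmap hd h1 x = 0) : ∃ m, ε m = x := by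
  have hx' : x ∈ LinearMap.ker (d 0) := congrArg Subtype.val hx
  rw [h0] at hx'
  exact hx'

include h0 in
theorem vmap_ε (m : M) : vmap hd h1 (ε m) = 0 := by
  apply Subtype.ext
  have : ε m ∈ LinearMap.ker (d 0) := by rw [h0]; exact ⟨m, rfl⟩
  exact this

theorem Zsub_gr : GrLC.IsGrHom (Zmod hd).gr (X 1).gr (LinearMap.ker (d 1)).subtype :=
  fun _ _ hx => hx

variable (E : GrLC.StarInjRes 𝒜 ℳ) (J0 : GrLC.StarInjRes 𝒜 (X 0).gr)
  (JZ : GrLC.StarInjRes 𝒜 (Zmod hd).gr)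

include hε hinj h0 h1 in
/-- dimension shifting in positive degrees -/
theorem step_succ (k : ℕ) (hac1 : Subsingleton (J0.H a (k + 1)))
    (hac2 : Subsingleton (J0.H a (k + 2))) :
    ∃ ψ : JZ.H a (k + 1) ≃ₗ[R] E.H a (k + 2),
      GrLC.IsGrHom (JZ.Hgr a (k + 1)) (E.Hgr a (k + 2)) ψ.toLinearMap ∧
      GrLC.IsGrHom (E.Hgr a (k + 2)) (JZ.Hgr a (k + 1)) ψ.symm.toLinearMap := by
  obtain ⟨δ, hδgr, -, -, hex2, hex3⟩ := exists_les E J0 JZ ε (vmap hd h1) hε (vmap_gr hd h1)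
    hinj (vmap_surjective hd h1) (vmap_exact hd ε h0 h1) (vmap_ε hd ε h0 h1) a
  have hbij : Function.Bijective (δ (k + 1)) := by
    constructor
    · rw [injective_iff_map_eq_zero]
      intro w hw
      obtain ⟨y, rfl⟩ := (hex2 (k + 1) w).mp hw
      rw [Subsingleton.elim y 0, map_zero]
    · intro x
      exact (hex3 (k + 1) x).mp (Subsingleton.elim _ _)
  refine ⟨LinearEquiv.ofBijective (δ (k + 1)) hbij, hδgr (k + 1), ?_⟩
  exact symm_gr (Hgr_isInternal 𝒜 _ a JZ (k + 1)) (Hgr_isInternal 𝒜 ℳ a E (k + 2))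
    (LinearEquiv.ofBijective (δ (k + 1)) hbij) (hδgr (k + 1))

/-- `Z¹(Γ_a X^•) → Γ_a(Z¹)` -/
def cocycToGam : ↥(cocyc a X d 1) →ₗ[R] ↥(GrLC.gam a.toIdeal (Zmod hd).carrier) where
  toFun z := ⟨⟨z.1, z.2.2⟩, by
    obtain ⟨n, hn⟩ := z.2.1
    exact ⟨n, fun r hr => Subtype.ext (hn r hr)⟩⟩
  map_add' _ _ := rfl
  map_smul' _ _ := rfl

theorem cocycToGam_surjective : Function.Surjective (cocycToGam a hd) := by
  rintro ⟨⟨y, hy2⟩, n, hn⟩
  exact ⟨⟨y, ⟨n, fun r hr => congrArg Subtype.val (hn r hr)⟩, hy2⟩, rfl⟩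

include hd hε hinj h0 h1 JZ in
/-- the first step -/
theorem step_one (hac : Subsingleton (J0.H a 1)) :
    ∃ ψ : HH a X d 1 ≃ₗ[R] E.H a 1,
      GrLC.IsGrHom (HHgr a X d 1) (E.Hgr a 1) ψ.toLinearMap ∧
      GrLC.IsGrHom (E.Hgr a 1) (HHgr a X d 1) ψ.symm.toLinearMap := by
  obtain ⟨δ, hδgr, -, -, hex2, hex3⟩ := exists_les E J0 JZ ε (vmap hd h1) hε (vmap_gr hd h1)
    hinj (vmap_surjective hd h1) (vmap_exact hd ε h0 h1) (vmap_ε hd ε h0 h1) a
  let Φ : ↥(cocyc a X d 1) →ₗ[R] E.H a 1 :=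
    (δ 0) ∘ₗ (starZero a JZ).toLinearMap ∘ₗ cocycToGam a hd
  have hΦsurj : Function.Surjective Φ := by
    intro x
    obtain ⟨w, rfl⟩ := (hex3 0 x).mp (Subsingleton.elim _ _)
    obtain ⟨t, rfl⟩ := (starZero a JZ).surjective w
    obtain ⟨z, rfl⟩ := cocycToGam_surjective a hd t
    exact ⟨z, rfl⟩
  have hker : LinearMap.ker Φ = (cobdy a X d 1).comap (cocyc a X d 1).subtype := by
    ext z
    rw [LinearMap.mem_ker, Submodule.mem_comap]
    show δ 0 (starZero a JZ (cocycToGam a hd z)) = 0 ↔ _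
    rw [hex2 0]
    constructor
    · rintro ⟨y, hy⟩
      obtain ⟨c, rfl⟩ := (starZero a J0).surjective y
      rw [Hphi_starZero] at hy
      have h2 := (starZero a JZ).injective hy
      refine ⟨c.1, c.2, ?_⟩
      have h3 := congrArg (fun t : ↥(GrLC.gam a.toIdeal (Zmod hd).carrier) =>
        (LinearMap.ker (d 1)).subtype (t : (Zmod hd).carrier)) h2
      exact h3
    · rintro ⟨c, hc, hcz⟩
      refine ⟨starZero a J0 ⟨c, hc⟩, ?_⟩
      rw [Hphi_starZero]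
      congr 1
      apply Subtype.ext
      apply Subtype.ext
      exact hcz
  let ψ : HH a X d 1 ≃ₗ[R] E.H a 1 :=
    (Submodule.quotEquivOfEq _ _ hker.symm).trans (Φ.quotKerEquivOfSurjective hΦsurj)
  have hψ : GrLC.IsGrHom (HHgr a X d 1) (E.Hgr a 1) ψ.toLinearMap := by
    rintro g y ⟨z, hz, rfl⟩
    show δ 0 (starZero a JZ (cocycToGam a hd z)) ∈ E.Hgr a 1 g
    apply hδgr 0 g
    apply starZero_mem
    exact hz
  exact ⟨ψ, hψ, symm_gr (HHgr_isInternal a hd 1) (Hgr_isInternal 𝒜 ℳ a E 1) ψ hψ⟩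

end Steps

section Main

variable {ι : Type} [AddCommGroup ι] [DecidableEq ι] {R : Type u} [CommRing R]
  {𝒜 : ι → AddSubgroup R} [GradedRing 𝒜] (a : HomogeneousIdeal 𝒜)

/-- graded `Γ_a`-acyclicity: the graded local cohomology (computed from any *injective
resolution) vanishes in positive degrees -/
def GAcyc (Y : GrLC.GMod.{u} 𝒜) : Prop :=
  ∀ (J : GrLC.StarInjRes 𝒜 Y.gr) (k : ℕ), Subsingleton (J.H a (k + 1))

/-- Graded local cohomology is computed, as a graded module, by any graded resolution with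
graded-acyclic terms (bundled form). -/
theorem main' (i : ℕ) : ∀ (X : ℕ → GrLC.GMod.{u} 𝒜)
    (d : ∀ n, (X n).carrier →ₗ[R] (X (n + 1)).carrier)
    (_ : ∀ n, GrLC.IsGrHom (X n).gr (X (n + 1)).gr (d n))
    (Y : GrLC.GMod.{u} 𝒜)
    (ε : Y.carrier →ₗ[R] (X 0).carrier) (_ : GrLC.IsGrHom Y.gr (X 0).gr ε)
    (_ : Function.Injective ε)
    (_ : LinearMap.ker (d 0) = LinearMap.range ε)
    (_ : ∀ n, LinearMap.ker (d (n + 1)) = LinearMap.range (d n))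
    (_ : ∀ n, GAcyc a (X n)) (E : GrLC.StarInjRes 𝒜 Y.gr),
    ∃ ψ : E.H a i ≃ₗ[R] HH a X d i,
      GrLC.IsGrHom (E.Hgr a i) (HHgr a X d i) ψ.toLinearMap ∧
      GrLC.IsGrHom (HHgr a X d i) (E.Hgr a i) ψ.symm.toLinearMap := by
  induction i with
  | zero =>
    intro X d hd Y ε hε hinj h0 hs hac E
    refine ⟨(starZero a E).symm.trans (zeroEquiv a ε hinj h0), ?_, ?_⟩
    · intro g x hx
      exact zeroEquiv_mem a ε hε hinj h0 g _ (starZero_symm_mem a E g x hx)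
    · intro g y hy
      exact starZero_mem a E g _ (zeroEquiv_symm_mem a ε hε hinj h0 g y hy)
  | succ k ih =>
    intro X d hd Y ε hε hinj h0 hs hac E
    obtain ⟨J0⟩ := Groth.Agent.Helper6.GrExist.nonempty_starInjRes 𝒜 (X 0).gr
    obtain ⟨JZ⟩ := Groth.Agent.Helper6.GrExist.nonempty_starInjRes 𝒜 (Zmod hd).gr
    cases k with
    | zero =>
      obtain ⟨ψ, h1, h2⟩ := step_one a hd ε hε hinj h0 (hs 0) E J0 JZ (hac 0 J0 0)
      exact ⟨ψ.symm, h2, h1⟩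
    | succ k =>
      obtain ⟨ψ1, h1, h2⟩ := step_succ a hd ε hε hinj h0 (hs 0) E J0 JZ k (hac 0 J0 k)
        (hac 0 J0 (k + 1))
      obtain ⟨ψ2, h3, h4⟩ := ih (fun n => X (n + 1)) (fun n => d (n + 1)) (fun n => hd (n + 1))
        (Zmod hd) (LinearMap.ker (d 1)).subtype (Zsub_gr hd)
        Subtype.val_injective (Submodule.range_subtype _).symm (fun n => hs (n + 1))
        (fun n => hac (n + 1)) JZ
      refine ⟨ψ1.symm.trans ψ2, ?_, ?_⟩
      · intro g x hx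
        exact h3 g _ (h2 g x hx)
      · intro g y hy
        exact h1 g _ (h4 g y hy)

/-- Graded local cohomology is computed, as a graded module, by any graded resolution with
graded-acyclic terms. -/
theorem main (i : ℕ) (X : ℕ → GrLC.GMod.{u} 𝒜)
    (d : ∀ n, (X n).carrier →ₗ[R] (X (n + 1)).carrier)
    (hd : ∀ n, GrLC.IsGrHom (X n).gr (X (n + 1)).gr (d n))
    {M : Type u} [AddCommGroup M] [Module R M] {ℳ : ι → AddSubgroup M} [Decomposition ℳ]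
    [SetLike.GradedSMul 𝒜 ℳ]
    (ε : M →ₗ[R] (X 0).carrier) (hε : GrLC.IsGrHom ℳ (X 0).gr ε) (hinj : Function.Injective ε)
    (h0 : LinearMap.ker (d 0) = LinearMap.range ε)
    (hs : ∀ n, LinearMap.ker (d (n + 1)) = LinearMap.range (d n))
    (hac : ∀ n, GAcyc a (X n)) (E : GrLC.StarInjRes 𝒜 ℳ) :
    ∃ ψ : E.H a i ≃ₗ[R] HH a X d i,
      GrLC.IsGrHom (E.Hgr a i) (HHgr a X d i) ψ.toLinearMap ∧
      GrLC.IsGrHom (HHgr a X d i) (E.Hgr a i) ψ.symm.toLinearMap :=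
  main' a i X d hd (GrLC.GMod.of 𝒜 M ℳ) ε hε hinj h0 hs hac E

end Main

end Groth.Agent.Helper7.GrAcy
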