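import Mathlib
import Groth.Prelude.Def_GrLC
import Groth.Prelude.Def_Wider
import Groth.Agent.Helper7.GrAcy2
import Groth.Agent.Helper6.LCAcycRes
import Groth.Agent.Helper6.GrLCAcyc

/-!
# Graded local cohomology from graded acyclic resolutions, part 3: ungraded vanishing gives graded
acyclicity; piecewise form of the main theorem.
-/

namespace Groth.Agent.Helper7.GrAcy

open DirectSum Groth.Agent.Helper7.GrDel

universe u

section Link

variable {ι : Type} [AddCommGroup ι] [DecidableEq ι] {R : Type u} [CommRing R]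
  [IsNoetherianRing R] {𝒜 : ι → AddSubgroup R} [GradedRing 𝒜] (a : HomogeneousIdeal 𝒜)
  {M : Type u} [AddCommGroup M] [Module R M] {ℳ : ι → AddSubgroup M} [Decomposition ℳ]
  [SetLike.GradedSMul 𝒜 ℳ]

/-- graded local cohomology, with the grading forgotten, is local cohomology -/
theorem nonempty_H_equiv (E : GrLC.StarInjRes 𝒜 ℳ) (i : ℕ) :
    Nonempty (E.H a i ≃ₗ[R] LocCoh.H a.toIdeal i M) := by
  obtain ⟨e⟩ := Groth.Agent.Helper6.LCAcycRes.main a.toIdeal i
    (fun n => ModuleCat.of R (E.X n).carrier) E.d M E.ε E.ε_injective E.exact_zero E.exact_succ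
    (fun n k => Groth.Agent.Helper6.GrLCAcyc.main 𝒜 a (E.X n).gr (E.starInj n) (k + 1) (by omega))
  have hc : E.cobdy a i = Groth.Agent.Helper6.LCAcycRes.cobdy a.toIdeal
      (fun n => ModuleCat.of R (E.X n).carrier) E.d i := by
    cases i <;> rfl
  have hq : (E.cobdy a i).comap (E.cocyc a i).subtype =
      (Groth.Agent.Helper6.LCAcycRes.cobdy a.toIdeal
        (fun n => ModuleCat.of R (E.X n).carrier) E.d i).comap (E.cocyc a i).subtype := by
    rw [hc]
  exact ⟨(Submodule.quotEquivOfEq _ _ hq).trans e⟩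

/-- ungraded `Γ_a`-acyclicity implies graded `Γ_a`-acyclicity -/
theorem gacyc_of_subsingleton (Y : GrLC.GMod.{u} 𝒜)
    (h : ∀ k, Subsingleton (LocCoh.H a.toIdeal (k + 1) Y.carrier)) : GAcyc a Y := by
  intro J k
  obtain ⟨e⟩ := nonempty_H_equiv a J (k + 1)
  haveI := h k
  exact e.toEquiv.subsingleton

/-- *injective graded modules are graded-acyclic -/
theorem gacyc_of_starInj (Y : GrLC.GMod.{u} 𝒜) (hY : GrLC.IsStarInj 𝒜 Y.gr) : GAcyc a Y :=
  gacyc_of_subsingleton a Y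
    (fun k => Groth.Agent.Helper6.GrLCAcyc.main 𝒜 a Y.gr hY (k + 1) (by omega))

end Link

section Pieces

variable {ι : Type} [AddCommGroup ι] [DecidableEq ι] {R : Type u} [CommRing R]
  {𝒜 : ι → AddSubgroup R} [GradedRing 𝒜] (a : HomogeneousIdeal 𝒜)

/-- piecewise form of the main theorem -/
theorem main_comp (i : ℕ) (X : ℕ → GrLC.GMod.{u} 𝒜)
    (d : ∀ n, (X n).carrier →ₗ[R] (X (n + 1)).carrier)
    (hd : ∀ n, GrLC.IsGrHom (X n).gr (X (n + 1)).gr (d n))
    {M : Type u} [AddCommGroup M] [Module R M] {ℳ : ι → AddSubgroup M} [Decomposition ℳ]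
    [SetLike.GradedSMul 𝒜 ℳ]
    (ε : M →ₗ[R] (X 0).carrier) (hε : GrLC.IsGrHom ℳ (X 0).gr ε) (hinj : Function.Injective ε)
    (h0 : LinearMap.ker (d 0) = LinearMap.range ε)
    (hs : ∀ n, LinearMap.ker (d (n + 1)) = LinearMap.range (d n))
    (hac : ∀ n, GAcyc a (X n)) (E : GrLC.StarInjRes 𝒜 ℳ) (g : ι) :
    Nonempty (E.Hcomp a i g ≃ₗ[GrLC.deg0 𝒜] HHcomp a X d i g) := by
  obtain ⟨ψ, h1, h2⟩ := main a i X d hd ε hε hinj h0 hs hac E
  refine ⟨(ψ.restrictScalars (GrLC.deg0 𝒜)).ofSubmodules _ _ ?_⟩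
  apply le_antisymm
  · rintro _ ⟨x, hx, rfl⟩
    exact h1 g x hx
  · intro y hy
    refine ⟨ψ.symm y, h2 g y hy, ?_⟩
    show ψ (ψ.symm y) = y
    exact ψ.apply_symm_apply y

end Pieces

end Groth.Agent.Helper7.GrAcy
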