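import Mathlib
import Groth.Prelude.Def_GrLC
import Groth.Agent.Helper6.GrCon

/-!
# Künneth project, part A: retyping a grading by `k`-submodules as a grading by additive subgroups.
-/

set_option autoImplicit false
set_option linter.unusedSectionVars false

namespace Groth.Agent.Helper7.Kun

open DirectSum

universe u

section Plus

variable {ι : Type} [AddCommGroup ι] [DecidableEq ι] {k R : Type u} [CommRing k] [CommRing R]
  [Algebra k R] (𝒜 : ι → Submodule k R)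

/-- the same grading, with pieces regarded as additive subgroups -/
def plus : ι → AddSubgroup R := fun i => (𝒜 i).toAddSubgroup

theorem mem_plus {i : ι} {x : R} : x ∈ plus 𝒜 i ↔ x ∈ 𝒜 i := Iff.rfl

variable [GradedAlgebra 𝒜]

instance plusGradedMonoid : SetLike.GradedMonoid (plus 𝒜) where
  one_mem := SetLike.GradedOne.one_mem (A := 𝒜)
  mul_mem := fun _ _ _ _ ha hb => SetLike.GradedMul.mul_mem (A := 𝒜) ha hb

theorem isInternal_plus : DirectSum.IsInternal (plus 𝒜) := by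
  classical
  refine Groth.Agent.Helper6.GrCon.isInternal_of_proj (plus 𝒜)
    (fun i x => (decompose 𝒜 x i : R)) ?_ ?_ ?_ ?_ ?_
  · intro i x
    exact (decompose 𝒜 x i).2
  · intro i x hx
    exact decompose_of_mem_same 𝒜 hx
  · intro i j x hx hij
    exact decompose_of_mem_ne 𝒜 hx hij
  · intro j x y
    rw [decompose_add, DirectSum.add_apply, Submodule.coe_add]
  · intro x
    refine ⟨(decompose 𝒜 x).support, ?_⟩
    exact DirectSum.sum_support_decompose 𝒜 x

noncomputable instance plusDecomposition : DirectSum.Decomposition (plus 𝒜) :=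
  (isInternal_plus 𝒜).chooseDecomposition

noncomputable instance plusGradedRing : GradedRing (plus 𝒜) :=
  { plusGradedMonoid 𝒜, plusDecomposition 𝒜 with }

theorem decompose_plus (x : R) (i : ι) :
    (decompose (plus 𝒜) x i : R) = (decompose 𝒜 x i : R) := by
  induction x using DirectSum.Decomposition.inductionOn 𝒜 with
  | zero => simp
  | homogeneous x =>
    rename_i j
    by_cases h : j = i
    · subst h
      rw [decompose_of_mem_same 𝒜 x.2, decompose_of_mem_same (plus 𝒜) (show (x : R) ∈ plus 𝒜 j from x.2)]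
    · rw [decompose_of_mem_ne 𝒜 x.2 h, decompose_of_mem_ne (plus 𝒜) (show (x : R) ∈ plus 𝒜 j from x.2) h]
  | add x y hx hy =>
    rw [decompose_add, decompose_add, DirectSum.add_apply, DirectSum.add_apply, AddSubgroup.coe_add,
      Submodule.coe_add, hx, hy]

theorem isHomogeneous_plus_iff (I : Ideal R) : I.IsHomogeneous (plus 𝒜) ↔ I.IsHomogeneous 𝒜 := by
  constructor
  · intro h i r hr
    have := h i hr
    rwa [decompose_plus] at this
  · intro h i r hr
    have := h i hr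
    rwa [← decompose_plus] at this

/-- a homogeneous ideal, retyped -/
noncomputable def idealPlus (a : HomogeneousIdeal 𝒜) : HomogeneousIdeal (plus 𝒜) :=
  ⟨a.toIdeal, (isHomogeneous_plus_iff 𝒜 a.toIdeal).mpr a.isHomogeneous⟩

@[simp] theorem idealPlus_toIdeal (a : HomogeneousIdeal 𝒜) : (idealPlus 𝒜 a).toIdeal = a.toIdeal := rfl

/-- a homogeneous ideal, retyped back -/
noncomputable def idealOfPlus (a : HomogeneousIdeal (plus 𝒜)) : HomogeneousIdeal 𝒜 :=
  ⟨a.toIdeal, (isHomogeneous_plus_iff 𝒜 a.toIdeal).mp a.isHomogeneous⟩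

theorem deg0_plus_carrier (x : R) : x ∈ GrLC.deg0 (plus 𝒜) ↔ x ∈ GrLC.deg0 𝒜 := Iff.rfl

/-- the degree-zero subrings agree -/
noncomputable def deg0Equiv : GrLC.deg0 𝒜 ≃+* GrLC.deg0 (plus 𝒜) where
  toFun x := ⟨x.1, x.2⟩
  invFun x := ⟨x.1, x.2⟩
  left_inv _ := rfl
  right_inv _ := rfl
  map_mul' _ _ := rfl
  map_add' _ _ := rfl

end Plus

section Mod

variable {ι : Type} [AddCommGroup ι] [DecidableEq ι] {k R : Type u} [CommRing k] [CommRing R]
  [Algebra k R] (𝒜 : ι → Submodule k R) [GradedAlgebra 𝒜]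

/-- graded scalar multiplication, retyped -/
theorem gradedSMul_plus {M : Type u} [AddCommGroup M] [Module R M] (ℳ : ι → AddSubgroup M)
    [h : SetLike.GradedSMul 𝒜 ℳ] : SetLike.GradedSMul (plus 𝒜) ℳ :=
  ⟨fun _ _ _ _ hr hm => h.smul_mem hr hm⟩

theorem gradedSMul_ofPlus {M : Type u} [AddCommGroup M] [Module R M] (ℳ : ι → AddSubgroup M)
    [h : SetLike.GradedSMul (plus 𝒜) ℳ] : SetLike.GradedSMul 𝒜 ℳ :=
  ⟨fun _ _ _ _ hr hm => h.smul_mem hr hm⟩

/-- a bundled graded module, retyped -/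
noncomputable def gmodPlus (X : GrLC.GMod.{u} 𝒜) : GrLC.GMod.{u} (plus 𝒜) :=
  letI := gradedSMul_plus 𝒜 X.gr
  { carrier := X.carrier, gr := X.gr }

/-- a bundled graded module, retyped back -/
noncomputable def gmodOfPlus (X : GrLC.GMod.{u} (plus 𝒜)) : GrLC.GMod.{u} 𝒜 :=
  letI := gradedSMul_ofPlus 𝒜 X.gr
  { carrier := X.carrier, gr := X.gr }

theorem isStarInj_plus {M : Type u} [AddCommGroup M] [Module R M] (ℳ : ι → AddSubgroup M)
    [DirectSum.Decomposition ℳ] [SetLike.GradedSMul 𝒜 ℳ] [SetLike.GradedSMul (plus 𝒜) ℳ]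
    (h : GrLC.IsStarInj 𝒜 ℳ) : GrLC.IsStarInj (plus 𝒜) ℳ := by
  intro A B f hf hinj g hg
  exact h (gmodOfPlus 𝒜 A) (gmodOfPlus 𝒜 B) f hf hinj g hg

theorem isStarInj_gmodPlus (X : GrLC.GMod.{u} 𝒜) (h : GrLC.IsStarInj 𝒜 X.gr) :
    GrLC.IsStarInj (plus 𝒜) (gmodPlus 𝒜 X).gr := by
  intro A B f hf hinj g hg
  exact h (gmodOfPlus 𝒜 A) (gmodOfPlus 𝒜 B) f hf hinj g hg

theorem isStarInj_ofPlus {M : Type u} [AddCommGroup M] [Module R M] (ℳ : ι → AddSubgroup M)
    [DirectSum.Decomposition ℳ] [SetLike.GradedSMul 𝒜 ℳ] [SetLike.GradedSMul (plus 𝒜) ℳ]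
    (h : GrLC.IsStarInj (plus 𝒜) ℳ) : GrLC.IsStarInj 𝒜 ℳ := by
  intro A B f hf hinj g hg
  exact h (gmodPlus 𝒜 A) (gmodPlus 𝒜 B) f hf hinj g hg

variable {M : Type u} [AddCommGroup M] [Module R M] {ℳ : ι → AddSubgroup M}
  [DirectSum.Decomposition ℳ] [SetLike.GradedSMul 𝒜 ℳ] [SetLike.GradedSMul (plus 𝒜) ℳ]

/-- a *injective resolution, retyped -/
noncomputable def resPlus (E : GrLC.StarInjRes 𝒜 ℳ) : GrLC.StarInjRes (plus 𝒜) ℳ where
  X n := gmodPlus 𝒜 (E.X n)
  d := E.d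
  ε := E.ε
  d_grHom := E.d_grHom
  ε_grHom := E.ε_grHom
  ε_injective := E.ε_injective
  exact_zero := E.exact_zero
  exact_succ := E.exact_succ
  starInj n := isStarInj_gmodPlus 𝒜 (E.X n) (E.starInj n)

theorem resPlus_H (E : GrLC.StarInjRes 𝒜 ℳ) (a : HomogeneousIdeal 𝒜) (i : ℕ) :
    (resPlus 𝒜 E).H (idealPlus 𝒜 a) i = E.H a i := rfl

theorem resPlus_Hgr (E : GrLC.StarInjRes 𝒜 ℳ) (a : HomogeneousIdeal 𝒜) (i : ℕ) (g : ι)
    (x : E.H a i) : x ∈ (resPlus 𝒜 E).Hgr (idealPlus 𝒜 a) i g ↔ x ∈ E.Hgr a i g := Iff.rfl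

end Mod

end Groth.Agent.Helper7.Kun
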