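import Mathlib
import Groth.Prelude.Def_GrLC
import Groth.Agent.Helper6.GrMod
import Groth.Agent.Helper6.GrCon

/-!
# Veronese functor, part 1: the projection of a graded module onto the sum of the pieces whose
degrees lie in a subgroup `S` of the grading group.
-/

namespace Groth.Agent.Helper7.GrVer

open DirectSum Groth.Agent.Helper6.GrMod Groth.Agent.Helper6.GrCon

universe u

section Proj

variable {ι : Type} [AddCommGroup ι] [DecidableEq ι] (S : AddSubgroup ι)
  {M : Type u} [AddCommGroup M] (ℳ : ι → AddSubgroup M) [Decomposition ℳ]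

open Classical in
/-- the projection onto `⨁_{i ∈ S} ℳ i` -/
noncomputable def vproj : M →+ M :=
  (decomposeAddEquiv ℳ).symm.toAddMonoidHom.comp
    ((DFinsupp.filterAddMonoidHom (fun i => ↥(ℳ i)) (fun i : ι => i ∈ S)).comp
      (decomposeAddEquiv ℳ).toAddMonoidHom)

open Classical in
theorem decompose_vproj (x : M) (n : ι) :
    (decompose ℳ (vproj S ℳ x) n : M) = if n ∈ S then (decompose ℳ x n : M) else 0 := by
  have h : decompose ℳ (vproj S ℳ x) = (decompose ℳ x).filter (fun i : ι => i ∈ S) := by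
    show decompose ℳ ((decompose ℳ).symm ((decompose ℳ x).filter (fun i : ι => i ∈ S))) = _
    exact (decompose ℳ).apply_symm_apply _
  rw [h, DFinsupp.filter_apply]
  split_ifs <;> rfl

theorem vproj_of_mem_pos {x : M} {n : ι} (hx : x ∈ ℳ n) (hn : n ∈ S) : vproj S ℳ x = x := by
  apply (decompose ℳ).injective
  apply DFinsupp.ext
  intro i
  apply Subtype.ext
  rw [decompose_vproj]
  split_ifs with hi
  · rfl
  · have : i ≠ n := fun h => hi (h ▸ hn)
    rw [decompose_of_mem_ne ℳ hx (Ne.symm this)]

theorem vproj_of_mem_neg {x : M} {n : ι} (hx : x ∈ ℳ n) (hn : n ∉ S) : vproj S ℳ x = 0 := by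
  apply (decompose ℳ).injective
  apply DFinsupp.ext
  intro i
  apply Subtype.ext
  rw [decompose_vproj, decompose_zero, DirectSum.zero_apply, ZeroMemClass.coe_zero]
  split_ifs with hi
  · have : i ≠ n := fun h => hn (h ▸ hi)
    rw [decompose_of_mem_ne ℳ hx (Ne.symm this)]
  · rfl

theorem vproj_vproj (x : M) : vproj S ℳ (vproj S ℳ x) = vproj S ℳ x := by
  apply (decompose ℳ).injective
  apply DFinsupp.ext
  intro i
  apply Subtype.ext
  rw [decompose_vproj, decompose_vproj]
  split_ifs <;> rfl

/-- components of a fixed point outside `S` vanish -/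
theorem decompose_eq_zero_of_fixed {x : M} (hx : vproj S ℳ x = x) {n : ι} (hn : n ∉ S) :
    (decompose ℳ x n : M) = 0 := by
  rw [← hx, decompose_vproj, if_neg hn]

theorem fixed_of_decompose {x : M} (hx : ∀ n, n ∉ S → (decompose ℳ x n : M) = 0) :
    vproj S ℳ x = x := by
  apply (decompose ℳ).injective
  apply DFinsupp.ext
  intro i
  apply Subtype.ext
  rw [decompose_vproj]
  split_ifs with hi
  · rfl
  · exact (hx i hi).symm

/-- the components of the projection lie in any homogeneous subgroup containing the element -/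
theorem decompose_vproj_mem (P : AddSubgroup M) (hP : ∀ (x : M) (n : ι), x ∈ P → (decompose ℳ x n : M) ∈ P)
    {x : M} (hx : x ∈ P) : vproj S ℳ x ∈ P := by
  classical
  rw [← DirectSum.sum_support_decompose ℳ (vproj S ℳ x)]
  apply sum_mem
  intro n _
  rw [decompose_vproj]
  split_ifs
  · exact hP x n hx
  · exact zero_mem _

end Proj

section Smul

variable {ι : Type} [AddCommGroup ι] [DecidableEq ι] (S : AddSubgroup ι)
  {R : Type u} [CommRing R] (𝒜 : ι → AddSubgroup R) [GradedRing 𝒜]
  {M : Type u} [AddCommGroup M] [Module R M] (ℳ : ι → AddSubgroup M) [Decomposition ℳ]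
  [SetLike.GradedSMul 𝒜 ℳ]

theorem vproj_smul_homog {c : R} {i : ι} (hc : c ∈ 𝒜 i) (hi : i ∈ S) (x : M) :
    vproj S ℳ (c • x) = c • vproj S ℳ x := by
  classical
  apply (decompose ℳ).injective
  apply DFinsupp.ext
  intro n
  apply Subtype.ext
  have hn : n = i + (n - i) := by abel
  rw [decompose_vproj]
  rw [hn, decompose_smul_homog 𝒜 ℳ hc, decompose_smul_homog 𝒜 ℳ hc, decompose_vproj]
  have hiff : i + (n - i) ∈ S ↔ n - i ∈ S := by
    constructor
    · intro h
      have := S.sub_mem h hi
      rwa [add_sub_cancel_left] at this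
    · intro h
      exact S.add_mem hi h
  by_cases h : n - i ∈ S
  · rw [if_pos (hiff.mpr h), if_pos h]
  · rw [if_neg (fun h' => h (hiff.mp h')), if_neg h, smul_zero]

theorem vproj_smul {c : R} (hc : vproj S 𝒜 c = c) (x : M) :
    vproj S ℳ (c • x) = c • vproj S ℳ x := by
  classical
  rw [← DirectSum.sum_support_decompose 𝒜 c, Finset.sum_smul, map_sum, Finset.sum_smul]
  apply Finset.sum_congr rfl
  intro i _
  by_cases hi : i ∈ S
  · exact vproj_smul_homog S 𝒜 ℳ (decompose 𝒜 c i).2 hi x
  · rw [decompose_eq_zero_of_fixed S 𝒜 hc hi, zero_smul, zero_smul, map_zero]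

end Smul

section Map

variable {ι : Type} [AddCommGroup ι] [DecidableEq ι] (S : AddSubgroup ι)
  {R : Type u} [CommRing R]
  {M : Type u} [AddCommGroup M] [Module R M] {ℳ : ι → AddSubgroup M} [Decomposition ℳ]
  {N : Type u} [AddCommGroup N] [Module R N] {𝒩 : ι → AddSubgroup N} [Decomposition 𝒩]

theorem vproj_map {f : M →ₗ[R] N} (hf : GrLC.IsGrHom ℳ 𝒩 f) (x : M) :
    f (vproj S ℳ x) = vproj S 𝒩 (f x) := by
  classical
  apply (decompose 𝒩).injective
  apply DFinsupp.ext
  intro n
  apply Subtype.ext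
  rw [decompose_vproj, decompose_map hf, decompose_map hf, decompose_vproj]
  split_ifs
  · rfl
  · exact map_zero f

theorem vproj_mem_submodule (P : Submodule R M) (hP : P.IsHomogeneous ℳ) {x : M} (hx : x ∈ P) :
    vproj S ℳ x ∈ P :=
  decompose_vproj_mem S ℳ P.toAddSubgroup (fun y n hy => hP n hy) hx

end Map

end Groth.Agent.Helper7.GrVer
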