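import Mathlib
import Groth.Prelude.Def_GrLC
import Groth.Agent.Helper7.GrVer1

/-!
# Veronese functor, part 2: the Veronese module `V(X)` of a graded `R`-module as a graded module
over an abstractly presented Veronese subring `φ : R' → R`.
-/

namespace Groth.Agent.Helper7.GrVer

open DirectSum Groth.Agent.Helper6.GrMod Groth.Agent.Helper6.GrCon

universe u

/-- restriction of scalars along `φ`, as a type synonym -/
def Res {R' R : Type u} [CommRing R'] [CommRing R] (_φ : R' →+* R) (Y : Type u) : Type u := Y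

section ResInst

variable {R' R : Type u} [CommRing R'] [CommRing R] (φ : R' →+* R) (Y : Type u)

instance instAddCommGroupRes [AddCommGroup Y] : AddCommGroup (Res φ Y) :=
  inferInstanceAs (AddCommGroup Y)

instance instModuleRes' [AddCommGroup Y] [Module R Y] : Module R' (Res φ Y) :=
  Module.compHom Y φ

instance instModuleRes [AddCommGroup Y] [Module R Y] : Module R (Res φ Y) :=
  inferInstanceAs (Module R Y)

theorem Res.smul_def [AddCommGroup Y] [Module R Y] (r' : R') (y : Res φ Y) :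
    r' • y = (φ r' • (y : Y) : Y) := rfl

end ResInst

/-- the data presenting `R'` as the `q`-th Veronese subring of `R` -/
structure VData {R R' : Type u} [CommRing R] [CommRing R'] (𝒜 : ℤ → AddSubgroup R)
    (𝒜' : ℤ → AddSubgroup R') where
  φ : R' →+* R
  q : ℕ
  hq : 0 < q
  inj : Function.Injective φ
  map_mem : ∀ (j : ℤ) (r' : R'), r' ∈ 𝒜' j → φ r' ∈ 𝒜 (j * q)
  exists_mem : ∀ (j : ℤ) (r : R), r ∈ 𝒜 (j * q) → ∃ r' ∈ 𝒜' j, φ r' = r

section Basic

variable {R R' : Type u} [CommRing R] [CommRing R'] {𝒜 : ℤ → AddSubgroup R} [GradedRing 𝒜]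
  {𝒜' : ℤ → AddSubgroup R'} [GradedRing 𝒜'] (D : VData 𝒜 𝒜')

/-- the subgroup of degrees divisible by `q` -/
def VData.S : AddSubgroup ℤ := AddSubgroup.zmultiples (D.q : ℤ)

theorem VData.mem_S {n : ℤ} : n ∈ D.S ↔ (D.q : ℤ) ∣ n := Int.mem_zmultiples_iff

theorem VData.mul_mem_S (j : ℤ) : j * (D.q : ℤ) ∈ D.S := D.mem_S.mpr (Dvd.intro_left j rfl)

theorem VData.exists_of_mem_S {n : ℤ} (hn : n ∈ D.S) : ∃ j : ℤ, n = j * (D.q : ℤ) := by
  obtain ⟨k, hk⟩ := D.mem_S.mp hn
  exact ⟨k, by rw [hk, mul_comm]⟩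

theorem VData.qpos : (0 : ℤ) < (D.q : ℤ) := by exact_mod_cast D.hq

theorem VData.mul_inj {i j : ℤ} (h : i * (D.q : ℤ) = j * (D.q : ℤ)) : i = j :=
  mul_right_cancel₀ (ne_of_gt D.qpos) h

theorem VData.fixed_φ (r' : R') : vproj D.S 𝒜 (D.φ r') = D.φ r' := by
  induction r' using Decomposition.inductionOn 𝒜' with
  | zero => rw [map_zero, map_zero]
  | @homogeneous j m => exact vproj_of_mem_pos D.S 𝒜 (D.map_mem j m m.2) (D.mul_mem_S j)
  | add m m' h h' => rw [map_add, map_add, h, h']

theorem VData.exists_of_fixed {r : R} (h : vproj D.S 𝒜 r = r) : ∃ r', D.φ r' = r := by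
  classical
  have key : ∀ n : ℤ, ∃ s : R', D.φ s = (decompose 𝒜 r n : R) := by
    intro n
    by_cases hn : n ∈ D.S
    · obtain ⟨j, rfl⟩ := D.exists_of_mem_S hn
      obtain ⟨s, -, hs⟩ := D.exists_mem j _ (decompose 𝒜 r (j * (D.q : ℤ))).2
      exact ⟨s, hs⟩
    · exact ⟨0, by rw [map_zero, decompose_eq_zero_of_fixed D.S 𝒜 h hn]⟩
  choose s hs using key
  refine ⟨∑ n ∈ (decompose 𝒜 r).support, s n, ?_⟩
  rw [map_sum]
  conv_rhs => rw [← DirectSum.sum_support_decompose 𝒜 r]
  exact Finset.sum_congr rfl (fun n _ => hs n)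

end Basic

section VMod

variable {R R' : Type u} [CommRing R] [CommRing R'] {𝒜 : ℤ → AddSubgroup R} [GradedRing 𝒜]
  {𝒜' : ℤ → AddSubgroup R'} [GradedRing 𝒜'] (D : VData 𝒜 𝒜') (X : GrLC.GMod.{u} 𝒜)

theorem fixed_smul (c : R') (y : X.carrier) (hy : vproj D.S X.gr y = y) :
    vproj D.S X.gr (D.φ c • y) = D.φ c • y := by
  rw [vproj_smul D.S 𝒜 X.gr (D.fixed_φ c), hy]

/-- the Veronese submodule `⨁_j X_{jq}` as an `R'`-submodule of the restriction of scalars -/
def Vsub : Submodule R' (Res D.φ X.carrier) where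
  carrier := {x | vproj D.S X.gr x = x}
  add_mem' := by
    intro a b ha hb
    exact (map_add (vproj D.S X.gr) a b).trans (congrArg₂ (· + ·) ha hb)
  zero_mem' := map_zero (vproj D.S X.gr)
  smul_mem' := fun c x hx => fixed_smul D X c x hx

/-- the underlying element of `X` -/
def Vval : ↥(Vsub D X) →+ X.carrier where
  toFun x := x.1
  map_zero' := rfl
  map_add' _ _ := rfl

theorem Vval_smul (c : R') (x : ↥(Vsub D X)) : Vval D X (c • x) = D.φ c • Vval D X x := rfl

theorem Vval_injective : Function.Injective (Vval D X) := fun _ _ h => Subtype.ext h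

theorem Vval_fixed (x : ↥(Vsub D X)) : vproj D.S X.gr (Vval D X x) = Vval D X x := x.2

/-- constructor -/
def Vmk (y : X.carrier) (hy : vproj D.S X.gr y = y) : ↥(Vsub D X) := ⟨y, hy⟩

theorem Vval_Vmk (y : X.carrier) (hy : vproj D.S X.gr y = y) : Vval D X (Vmk D X y hy) = y := rfl

theorem Vmk_Vval (x : ↥(Vsub D X)) : Vmk D X (Vval D X x) (Vval_fixed D X x) = x := rfl

/-- the pieces of the Veronese module -/
def Vgr (j : ℤ) : AddSubgroup ↥(Vsub D X) :=
  (X.gr (j * (D.q : ℤ))).comap (Vval D X)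

theorem mem_Vgr {j : ℤ} {x : ↥(Vsub D X)} :
    x ∈ Vgr D X j ↔ Vval D X x ∈ X.gr (j * (D.q : ℤ)) := Iff.rfl

theorem fixed_of_homog {j : ℤ} {y : X.carrier} (hy : y ∈ X.gr (j * (D.q : ℤ))) :
    vproj D.S X.gr y = y :=
  vproj_of_mem_pos D.S X.gr hy (D.mul_mem_S j)

theorem isInternal_Vgr : DirectSum.IsInternal (Vgr D X) := by
  classical
  apply isInternal_of_proj (Vgr D X)
    (fun j x => Vmk D X (decompose X.gr (Vval D X x) (j * (D.q : ℤ)) : X.carrier)
      (fixed_of_homog D X (decompose X.gr (Vval D X x) (j * (D.q : ℤ))).2))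
  · intro j x
    exact (decompose X.gr (Vval D X x) (j * (D.q : ℤ))).2
  · intro j x hx
    apply Vval_injective
    exact decompose_of_mem_same X.gr hx
  · intro i j x hx hij
    apply Vval_injective
    exact decompose_of_mem_ne X.gr hx (fun h => hij (D.mul_inj h))
  · intro j x y
    apply Vval_injective
    show (decompose X.gr (Vval D X (x + y)) (j * (D.q : ℤ)) : X.carrier) =
      (decompose X.gr (Vval D X x) (j * (D.q : ℤ)) : X.carrier) +
        (decompose X.gr (Vval D X y) (j * (D.q : ℤ)) : X.carrier)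
    rw [map_add, decompose_add, DirectSum.add_apply, AddSubgroup.coe_add]
  · intro x
    have hinj : Set.InjOn (fun j : ℤ => j * (D.q : ℤ))
        ((fun j : ℤ => j * (D.q : ℤ)) ⁻¹' ↑(decompose X.gr (Vval D X x)).support) :=
      fun i _ j _ h => D.mul_inj h
    refine ⟨(decompose X.gr (Vval D X x)).support.preimage _ hinj, ?_⟩
    apply Vval_injective
    rw [map_sum]
    show ∑ j ∈ (decompose X.gr (Vval D X x)).support.preimage _ hinj,
      (decompose X.gr (Vval D X x) (j * (D.q : ℤ)) : X.carrier) = Vval D X x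
    rw [Finset.sum_preimage (fun j : ℤ => j * (D.q : ℤ)) _ hinj
      (fun n => (decompose X.gr (Vval D X x) n : X.carrier))]
    · exact DirectSum.sum_support_decompose X.gr (Vval D X x)
    · intro n _ hn
      apply decompose_eq_zero_of_fixed D.S X.gr (Vval_fixed D X x)
      intro hS
      obtain ⟨j, rfl⟩ := D.exists_of_mem_S hS
      exact hn ⟨j, rfl⟩

theorem gradedSMul_Vgr : SetLike.GradedSMul 𝒜' (Vgr D X) where
  smul_mem := by
    intro i j r x hr hx
    show Vval D X (r • x) ∈ X.gr ((i + j) * (D.q : ℤ))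
    rw [add_mul, Vval_smul]
    exact smul_mem' 𝒜 X.gr (D.map_mem i r hr) hx

/-- the Veronese module as a bundled graded `R'`-module -/
noncomputable def Vmod : GrLC.GMod.{u} 𝒜' :=
  letI := (isInternal_Vgr D X).chooseDecomposition
  letI := gradedSMul_Vgr D X
  { carrier := ↥(Vsub D X), gr := Vgr D X }

end VMod

end Groth.Agent.Helper7.GrVer
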