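import Mathlib
import Groth.Prelude.Def_GrLC
import Groth.Agent.Helper7.GrVer2

/-!
# Veronese functor, part 3: maps, exactness, the retraction, and the comparison `M' ≃ V(M)`.
-/

namespace Groth.Agent.Helper7.GrVer

open DirectSum Groth.Agent.Helper6.GrMod Groth.Agent.Helper6.GrCon

universe u

section Maps

variable {R R' : Type u} [CommRing R] [CommRing R'] {𝒜 : ℤ → AddSubgroup R} [GradedRing 𝒜]
  {𝒜' : ℤ → AddSubgroup R'} [GradedRing 𝒜'] (D : VData 𝒜 𝒜')
  {X Y Z : GrLC.GMod.{u} 𝒜}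

/-- the Veronese functor on homogeneous maps -/
def Vmap {f : X.carrier →ₗ[R] Y.carrier} (hf : GrLC.IsGrHom X.gr Y.gr f) :
    ↥(Vsub D X) →ₗ[R'] ↥(Vsub D Y) where
  toFun x := Vmk D Y (f (Vval D X x)) (by rw [← vproj_map D.S hf, Vval_fixed])
  map_add' x y := by
    apply Vval_injective
    show f (Vval D X (x + y)) = f (Vval D X x) + f (Vval D X y)
    rw [map_add, map_add]
  map_smul' c x := by
    apply Vval_injective
    show f (Vval D X (c • x)) = D.φ c • f (Vval D X x)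
    rw [Vval_smul, map_smul]

theorem Vval_Vmap {f : X.carrier →ₗ[R] Y.carrier} (hf : GrLC.IsGrHom X.gr Y.gr f)
    (x : ↥(Vsub D X)) : Vval D Y (Vmap D hf x) = f (Vval D X x) := rfl

theorem Vmap_gr {f : X.carrier →ₗ[R] Y.carrier} (hf : GrLC.IsGrHom X.gr Y.gr f) :
    GrLC.IsGrHom (Vgr D X) (Vgr D Y) (Vmap D hf) :=
  fun j x hx => hf (j * (D.q : ℤ)) _ hx

theorem Vmap_injective {f : X.carrier →ₗ[R] Y.carrier} (hf : GrLC.IsGrHom X.gr Y.gr f)
    (hinj : Function.Injective f) : Function.Injective (Vmap D hf) := by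
  intro x y hxy
  apply Vval_injective
  apply hinj
  rw [← Vval_Vmap D hf, ← Vval_Vmap D hf, hxy]

theorem Vmap_exact {f : X.carrier →ₗ[R] Y.carrier} (hf : GrLC.IsGrHom X.gr Y.gr f)
    {g : Y.carrier →ₗ[R] Z.carrier} (hg : GrLC.IsGrHom Y.gr Z.gr g)
    (h : LinearMap.ker g = LinearMap.range f) :
    LinearMap.ker (Vmap D hg) = LinearMap.range (Vmap D hf) := by
  ext y
  rw [LinearMap.mem_ker, LinearMap.mem_range]
  constructor
  · intro hy
    have h1 : g (Vval D Y y) = 0 := by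
      rw [← Vval_Vmap D hg, hy, map_zero]
    have h2 : Vval D Y y ∈ LinearMap.range f := by
      rw [← h]; exact h1
    obtain ⟨x, hx⟩ := h2
    refine ⟨Vmk D X (vproj D.S X.gr x) (vproj_vproj D.S X.gr x), ?_⟩
    apply Vval_injective
    rw [Vval_Vmap, Vval_Vmk, vproj_map D.S hf, hx, Vval_fixed]
  · rintro ⟨x, rfl⟩
    apply Vval_injective
    rw [Vval_Vmap, Vval_Vmap, map_zero]
    have : f (Vval D X x) ∈ LinearMap.ker g := by
      rw [h]; exact ⟨_, rfl⟩
    exact this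

variable (X) in
/-- the retraction of the restriction of scalars onto the Veronese submodule -/
noncomputable def Vret : Res D.φ X.carrier →ₗ[R'] ↥(Vsub D X) where
  toFun x := Vmk D X (vproj D.S X.gr x) (vproj_vproj D.S X.gr x)
  map_add' x y := by
    apply Vval_injective
    exact map_add (vproj D.S X.gr) x y
  map_smul' c x := by
    apply Vval_injective
    exact vproj_smul D.S 𝒜 X.gr (D.fixed_φ c) x

variable (X) in
theorem Vret_subtype (x : ↥(Vsub D X)) : Vret D X ((Vsub D X).subtype x) = x := by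
  apply Vval_injective
  exact Vval_fixed D X x

end Maps

section Comparison

variable {R R' : Type u} [CommRing R] [CommRing R'] {𝒜 : ℤ → AddSubgroup R} [GradedRing 𝒜]
  {𝒜' : ℤ → AddSubgroup R'} [GradedRing 𝒜'] (D : VData 𝒜 𝒜')
  {M : Type u} [AddCommGroup M] [Module R M] (ℳ : ℤ → AddSubgroup M) [Decomposition ℳ]
  [SetLike.GradedSMul 𝒜 ℳ]
  {M' : Type u} [AddCommGroup M'] [Module R' M'] (ℳ' : ℤ → AddSubgroup M') [Decomposition ℳ']
  [SetLike.GradedSMul 𝒜' ℳ']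
  (g : M' →ₛₗ[D.φ] M) (hg1 : ∀ (j : ℤ) (m' : M'), m' ∈ ℳ' j → g m' ∈ ℳ (j * (D.q : ℤ)))

include hg1 in
theorem fixed_g (m' : M') : vproj D.S ℳ (g m') = g m' := by
  induction m' using Decomposition.inductionOn ℳ' with
  | zero => rw [map_zero, map_zero]
  | @homogeneous j m => exact vproj_of_mem_pos D.S ℳ (hg1 j m m.2) (D.mul_mem_S j)
  | add m m' h h' => rw [map_add, map_add, h, h']

/-- `M' → V(M)` -/
def gV : M' →ₗ[R'] ↥(Vsub D (GrLC.GMod.of 𝒜 M ℳ)) where
  toFun m' := Vmk D (GrLC.GMod.of 𝒜 M ℳ) (g m') (fixed_g D ℳ ℳ' g hg1 m')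
  map_add' x y := by
    apply Vval_injective
    show g (x + y) = g x + g y
    rw [map_add]
  map_smul' c x := by
    apply Vval_injective
    show g (c • x) = D.φ c • g x
    rw [map_smulₛₗ]

theorem Vval_gV (m' : M') :
    Vval D (GrLC.GMod.of 𝒜 M ℳ) (gV D ℳ ℳ' g hg1 m') = g m' := rfl

theorem gV_gr : GrLC.IsGrHom ℳ' (Vgr D (GrLC.GMod.of 𝒜 M ℳ)) (gV D ℳ ℳ' g hg1) :=
  fun j m' hm' => hg1 j m' hm'

theorem gV_injective (hg : Function.Injective g) : Function.Injective (gV D ℳ ℳ' g hg1) := by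
  intro x y hxy
  apply hg
  rw [← Vval_gV D ℳ ℳ' g hg1, ← Vval_gV D ℳ ℳ' g hg1, hxy]

theorem gV_surjective (hg2 : ∀ (j : ℤ) (m : M), m ∈ ℳ (j * (D.q : ℤ)) → ∃ m' ∈ ℳ' j, g m' = m) :
    Function.Surjective (gV D ℳ ℳ' g hg1) := by
  classical
  intro y
  set r : M := Vval D (GrLC.GMod.of 𝒜 M ℳ) y with hr
  have h : vproj D.S ℳ r = r := Vval_fixed D (GrLC.GMod.of 𝒜 M ℳ) y
  have key : ∀ n : ℤ, ∃ s : M', g s = (decompose ℳ r n : M) := by
    intro n
    by_cases hn : n ∈ D.S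
    · obtain ⟨j, rfl⟩ := D.exists_of_mem_S hn
      obtain ⟨s, -, hs⟩ := hg2 j _ (decompose ℳ r (j * (D.q : ℤ))).2
      exact ⟨s, hs⟩
    · exact ⟨0, by rw [map_zero, decompose_eq_zero_of_fixed D.S ℳ h hn]⟩
  choose s hs using key
  refine ⟨∑ n ∈ (decompose ℳ r).support, s n, ?_⟩
  apply Vval_injective
  rw [Vval_gV, map_sum, ← hr]
  conv_rhs => rw [← DirectSum.sum_support_decompose ℳ r]
  exact Finset.sum_congr rfl (fun n _ => hs n)

end Comparison

end Groth.Agent.Helper7.GrVer
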