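import Mathlib
import Groth.Prelude.Def_GrLC
import Groth.Agent.Helper7.GrVer3

/-!
# Veronese functor, part 4: the Veronese subring of a Noetherian ring is Noetherian; torsion
functors along the Veronese embedding.
-/

namespace Groth.Agent.Helper7.GrVer

open DirectSum Groth.Agent.Helper6.GrMod Groth.Agent.Helper6.GrCon

universe u

section Noeth

variable {R R' : Type u} [CommRing R] [CommRing R'] {𝒜 : ℤ → AddSubgroup R} [GradedRing 𝒜]
  {𝒜' : ℤ → AddSubgroup R'} [GradedRing 𝒜'] (D : VData 𝒜 𝒜')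

theorem exists_mem_span_of_mem_span (T : Set R') :
    ∀ y ∈ Ideal.span (D.φ '' T), ∀ s : R, ∃ x' ∈ Ideal.span T, D.φ x' = vproj D.S 𝒜 (s * y) := by
  intro y hy
  induction hy using Submodule.span_induction with
  | mem y hy =>
    obtain ⟨t, ht, rfl⟩ := hy
    intro s
    obtain ⟨u, hu⟩ := D.exists_of_fixed (vproj_vproj D.S 𝒜 s)
    refine ⟨t * u, Ideal.mul_mem_right _ _ (Ideal.subset_span ht), ?_⟩
    have h1 : s * D.φ t = D.φ t • s := by rw [smul_eq_mul, mul_comm]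
    rw [h1, vproj_smul D.S 𝒜 𝒜 (D.fixed_φ t), smul_eq_mul, map_mul, hu]
  | zero =>
    intro s
    exact ⟨0, zero_mem _, by rw [mul_zero, map_zero, map_zero]⟩
  | add y z _ _ hy hz =>
    intro s
    obtain ⟨a, ha, hay⟩ := hy s
    obtain ⟨b, hb, hbz⟩ := hz s
    exact ⟨a + b, add_mem ha hb, by rw [map_add, hay, hbz, mul_add, map_add]⟩
  | smul c y _ hy =>
    intro s
    obtain ⟨a, ha, hay⟩ := hy (s * c)
    exact ⟨a, ha, by rw [hay, smul_eq_mul, mul_assoc]⟩

include D in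
theorem isNoetherianRing_of_vdata [IsNoetherianRing R] : IsNoetherianRing R' := by
  classical
  rw [isNoetherianRing_iff_ideal_fg]
  intro I
  have hfg : (Ideal.span (D.φ '' (I : Set R'))).FG := IsNoetherian.noetherian _
  obtain ⟨T, hT1, hT2⟩ := (Submodule.fg_span_iff_fg_span_finset_subset _).mp hfg
  obtain ⟨T', hT'1, hT'2⟩ := Finset.subset_set_image_iff.mp hT1
  refine ⟨T', le_antisymm (Ideal.span_le.mpr hT'1) ?_⟩
  intro x hx
  have h1 : D.φ x ∈ Ideal.span (D.φ '' (↑T' : Set R')) := by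
    have h2 : D.φ x ∈ Ideal.span (D.φ '' (I : Set R')) := Ideal.subset_span ⟨x, hx, rfl⟩
    have h3 : (D.φ '' (↑T' : Set R')) = ↑T := by
      rw [← hT'2, Finset.coe_image]
    rw [h3]
    have h4 : D.φ x ∈ Submodule.span R (↑T : Set R) := by
      rw [← hT2]; exact h2
    exact h4
  obtain ⟨x', hx', hx'e⟩ := exists_mem_span_of_mem_span D (↑T' : Set R') _ h1 1
  rw [one_mul, D.fixed_φ] at hx'e
  rw [← D.inj hx'e]
  exact hx'

end Noeth

section Gam

variable {R R' : Type u} [CommRing R] [CommRing R'] (φ : R' →+* R)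
  {Y : Type u} [AddCommGroup Y] [Module R Y]

/-- torsion over `R'` is torsion for the extended ideal -/
theorem mem_gam_res_iff (I : Ideal R') (y : Y) :
    (y : Res φ Y) ∈ GrLC.gam I (Res φ Y) ↔ y ∈ GrLC.gam (I.map φ) Y := by
  constructor
  · rintro ⟨n, hn⟩
    refine ⟨n, ?_⟩
    let J : Ideal R := LinearMap.ker (LinearMap.toSpanSingleton R Y y)
    have hJ : ∀ r, r ∈ J ↔ r • y = 0 := fun r => by
      show LinearMap.toSpanSingleton R Y y r = 0 ↔ _
      rw [LinearMap.toSpanSingleton_apply]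
    have hle : (I.map φ) ^ n ≤ J := by
      rw [← Ideal.map_pow]
      apply Ideal.span_le.mpr
      rintro _ ⟨r', hr', rfl⟩
      exact (hJ _).mpr (hn r' hr')
    intro r hr
    exact (hJ r).mp (hle hr)
  · rintro ⟨n, hn⟩
    refine ⟨n, fun r' hr' => ?_⟩
    show φ r' • y = 0
    apply hn
    rw [← Ideal.map_pow]
    exact Ideal.mem_map_of_mem φ hr'

omit [CommRing R'] in
theorem gam_eq_of_le_of_pow_le {a b : Ideal R} (hba : b ≤ a) {k : ℕ} (hk : a ^ k ≤ b) :
    GrLC.gam a Y = GrLC.gam b Y := by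
  ext y
  constructor
  · rintro ⟨n, hn⟩
    exact ⟨n, fun r hr => hn r (Ideal.pow_right_mono hba n hr)⟩
  · rintro ⟨n, hn⟩
    refine ⟨k * n, fun r hr => hn r ?_⟩
    rw [pow_mul] at hr
    exact Ideal.pow_right_mono hk n hr

end Gam

section Irrelevant

variable {R R' : Type u} [CommRing R] [CommRing R'] {𝒜 : ℤ → AddSubgroup R} [GradedRing 𝒜]
  {𝒜' : ℤ → AddSubgroup R'} [GradedRing 𝒜'] (D : VData 𝒜 𝒜')
  (m : Ideal R) (hm : m = Ideal.span (⋃ n ∈ Set.Ioi (0 : ℤ), (𝒜 n : Set R)))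
  (m' : Ideal R') (hm' : m' = Ideal.span (⋃ j ∈ Set.Ioi (0 : ℤ), (𝒜' j : Set R')))

include hm hm' in
theorem map_irrelevant_le : m'.map D.φ ≤ m := by
  rw [Ideal.map_le_iff_le_comap, hm']
  apply Ideal.span_le.mpr
  intro r' hr'
  simp only [Set.mem_iUnion, Set.mem_Ioi, SetLike.mem_coe, exists_prop] at hr'
  obtain ⟨j, hj, hr'j⟩ := hr'
  show D.φ r' ∈ m
  rw [hm]
  apply Ideal.subset_span
  simp only [Set.mem_iUnion, Set.mem_Ioi, SetLike.mem_coe, exists_prop]
  exact ⟨j * (D.q : ℤ), mul_pos hj D.qpos, D.map_mem j r' hr'j⟩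

include hm hm' in
theorem irrelevant_le_radical : m ≤ (m'.map D.φ).radical := by
  rw [hm]
  apply Ideal.span_le.mpr
  intro r hr
  simp only [Set.mem_iUnion, Set.mem_Ioi, SetLike.mem_coe, exists_prop] at hr
  obtain ⟨n, hn, hrn⟩ := hr
  refine ⟨D.q, ?_⟩
  have h1 : r ^ D.q ∈ 𝒜 (D.q • n) := SetLike.pow_mem_graded D.q hrn
  have h2 : D.q • n = n * (D.q : ℤ) := by rw [nsmul_eq_mul, mul_comm]
  rw [h2] at h1
  obtain ⟨r', hr', hr'e⟩ := D.exists_mem n _ h1
  rw [← hr'e]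
  apply Ideal.mem_map_of_mem
  rw [hm']
  apply Ideal.subset_span
  simp only [Set.mem_iUnion, Set.mem_Ioi, SetLike.mem_coe, exists_prop]
  exact ⟨n, hn, hr'⟩

include hm hm' in
theorem gam_irrelevant_eq [IsNoetherianRing R] (Y : Type u) [AddCommGroup Y] [Module R Y] :
    GrLC.gam m Y = GrLC.gam (m'.map D.φ) Y := by
  obtain ⟨k, hk⟩ := Ideal.exists_pow_le_of_le_radical_of_fg
    (irrelevant_le_radical D m hm m' hm') (IsNoetherian.noetherian m)
  exact gam_eq_of_le_of_pow_le (map_irrelevant_le D m hm m' hm') hk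

end Irrelevant

end Groth.Agent.Helper7.GrVer
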