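import Mathlib
import Groth.Prelude.Def_GrLC
import Groth.Prelude.Def_Wider
import Groth.Agent.Helper6.GrExt
import Groth.Agent.Helper6.GrCon
import Groth.Agent.Helper6.ExtBridge
import Groth.Agent.Helper6.GrLCAcyc

/-!
# Künneth project, part B: modules with the extension property against finitely generated graded
modules (`FgExt`); they are `Γ_a`-acyclic for every homogeneous ideal `a`, and the class is closed
under arbitrary direct sums.
-/

set_option autoImplicit false
set_option linter.unusedSectionVars false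
set_option linter.style.haveILetI false

namespace Groth.Agent.Helper7.Kun

open DirectSum CategoryTheory Limits Opposite Groth.Agent.Helper6.GrCon Abelian

universe u

section Def

variable {ι : Type} [AddCommGroup ι] [DecidableEq ι] {R : Type u} [CommRing R]
  (𝒜 : ι → AddSubgroup R) [GradedRing 𝒜]

/-- every linear map from a finitely generated graded module into `I` extends along graded
injections -/
def FgExt (I : Type u) [AddCommGroup I] [Module R I] : Prop :=
  ∀ (A B : GrLC.GMod.{u} 𝒜) (f : A.carrier →ₗ[R] B.carrier), GrLC.IsGrHom A.gr B.gr f →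
    Function.Injective f → Module.Finite R A.carrier →
    ∀ φ : A.carrier →ₗ[R] I, ∃ ψ : B.carrier →ₗ[R] I, ψ ∘ₗ f = φ

theorem fgExt_of_isStarInj {I : Type u} [AddCommGroup I] [Module R I] (ℐ : ι → AddSubgroup I)
    [Decomposition ℐ] [SetLike.GradedSMul 𝒜 ℐ] (hI : GrLC.IsStarInj 𝒜 ℐ) : FgExt 𝒜 I := by
  intro A B f hf hinj hfin φ
  exact Groth.Agent.Helper6.GrExt.exists_extension 𝒜 ℐ hI A B f hf hinj φ

variable {𝒜}

theorem FgExt.of_linearEquiv {I I' : Type u} [AddCommGroup I] [Module R I] [AddCommGroup I']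
    [Module R I'] (h : FgExt 𝒜 I) (e : I ≃ₗ[R] I') : FgExt 𝒜 I' := by
  intro A B f hf hinj hfin φ
  obtain ⟨ψ, hψ⟩ := h A B f hf hinj hfin (e.symm.toLinearMap ∘ₗ φ)
  refine ⟨e.toLinearMap ∘ₗ ψ, ?_⟩
  rw [LinearMap.comp_assoc, hψ]
  ext x
  simp

/-- direct sums of copies -/
theorem FgExt.finsupp {I : Type u} [AddCommGroup I] [Module R I] (h : FgExt 𝒜 I) (B₀ : Type u) :
    FgExt 𝒜 (B₀ →₀ I) := by
  classical
  intro A B f hf hinj hfin φ
  obtain ⟨s, hs⟩ := (Module.finite_def.mp hfin)
  -- the finite set of indices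
  let T : Finset B₀ := s.biUnion (fun a => (φ a).support)
  have hT : ∀ x : A.carrier, (φ x).support ⊆ T := by
    intro x
    have hx : x ∈ Submodule.span R (s : Set A.carrier) := by rw [hs]; trivial
    induction hx using Submodule.span_induction with
    | mem x hx =>
      intro b hb
      exact Finset.mem_biUnion.mpr ⟨x, hx, hb⟩
    | zero => simp
    | add x y _ _ hx hy =>
      rw [map_add]
      exact (Finsupp.support_add).trans (Finset.union_subset hx hy)
    | smul r x _ hx =>
      rw [map_smul]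
      exact (Finsupp.support_smul).trans hx
  have hext : ∀ b : B₀, ∃ ψ : B.carrier →ₗ[R] I, ψ ∘ₗ f = (Finsupp.lapply b) ∘ₗ φ :=
    fun b => h A B f hf hinj hfin _
  choose ψ hψ using hext
  refine ⟨∑ b ∈ T, (Finsupp.lsingle b) ∘ₗ ψ b, ?_⟩
  apply LinearMap.ext
  intro x
  rw [LinearMap.comp_apply, LinearMap.sum_apply]
  have h1 : ∀ b ∈ T, ((Finsupp.lsingle b) ∘ₗ ψ b) (f x) = Finsupp.single b (φ x b) := by
    intro b _
    rw [LinearMap.comp_apply, ← LinearMap.comp_apply (ψ b) f, hψ b]
    rfl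
  rw [Finset.sum_congr rfl h1]
  ext c
  rw [Finsupp.finsetSum_apply]
  by_cases hc : c ∈ T
  · rw [Finset.sum_eq_single c]
    · rw [Finsupp.single_eq_same]
    · intro b _ hbc
      rw [Finsupp.single_eq_of_ne (Ne.symm hbc)]
    · intro h; exact absurd hc h
  · have : φ x c = 0 := by
      by_contra h0
      exact hc (hT x (Finsupp.mem_support_iff.mpr h0))
    rw [this]
    apply Finset.sum_eq_zero
    intro b hb
    have hbc : b ≠ c := fun e => hc (e ▸ hb)
    rw [Finsupp.single_eq_of_ne (Ne.symm hbc)]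

end Def

section Vanish

variable {ι : Type} [AddCommGroup ι] [DecidableEq ι] {R : Type u} [CommRing R]
  [IsNoetherianRing R] {𝒜 : ι → AddSubgroup R} [GradedRing 𝒜]
  {I : Type u} [AddCommGroup I] [Module R I]

theorem FgExt.ext_subsingleton (hI : FgExt 𝒜 I) (n : ℕ) :
    ∀ (A : GrLC.GMod.{u} 𝒜) [Module.Finite R A.carrier],
      Subsingleton (Ext.{u} (ModuleCat.of R A.carrier) (ModuleCat.of R I) (n + 1)) := by
  induction n with
  | zero =>
    intro A _
    obtain ⟨K, F, f, π, hKfin, hFproj, hfg, hfinj, hπs, hex⟩ :=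
      Groth.Agent.Helper6.GrExt.exists_presentation 𝒜 A
    let S : ShortComplex (ModuleCat.{u} R) :=
      ShortComplex.mk (ModuleCat.ofHom f) (ModuleCat.ofHom π) (by
        ext x
        exact hex.apply_apply_eq_zero x)
    have hS : S.ShortExact := ModuleCat.shortComplex_shortExact S hex hfinj hπs
    haveI : Module.Projective R (ModuleCat.of R F.carrier) := hFproj
    haveI : Projective S.X₂ := ModuleCat.projective_of_categoryTheory_projective _
    refine subsingleton_of_forall_eq 0 (fun x₃ => ?_)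
    have h0 : (Ext.mk₀ S.g).comp x₃ (zero_add 1) = 0 := Ext.eq_zero_of_projective _
    obtain ⟨x₁, hx₁⟩ := Ext.contravariant_sequence_exact₃ hS _ x₃ h0 (n₀ := 0) rfl
    obtain ⟨φ', rfl⟩ := (Ext.mk₀_bijective _ _).2 x₁
    obtain ⟨ψ, hψ⟩ := hI K F f hfg hfinj hKfin φ'.hom
    have hφ' : φ' = S.f ≫ ModuleCat.ofHom ψ := by
      apply ModuleCat.hom_ext
      exact hψ.symm
    rw [← hx₁, hφ', ← Ext.mk₀_comp_mk₀]
    exact hS.extClass_comp_assoc _
  | succ n ih =>
    intro A _
    obtain ⟨K, F, f, π, hKfin, hFproj, hfg, hfinj, hπs, hex⟩ :=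
      Groth.Agent.Helper6.GrExt.exists_presentation 𝒜 A
    let S : ShortComplex (ModuleCat.{u} R) :=
      ShortComplex.mk (ModuleCat.ofHom f) (ModuleCat.ofHom π) (by
        ext x
        exact hex.apply_apply_eq_zero x)
    have hS : S.ShortExact := ModuleCat.shortComplex_shortExact S hex hfinj hπs
    haveI : Module.Projective R (ModuleCat.of R F.carrier) := hFproj
    haveI : Projective S.X₂ := ModuleCat.projective_of_categoryTheory_projective _
    refine subsingleton_of_forall_eq 0 (fun x₃ => ?_)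
    have h0 : (Ext.mk₀ S.g).comp x₃ (zero_add (n + 1 + 1)) = 0 := Ext.eq_zero_of_projective _
    obtain ⟨x₁, hx₁⟩ := Ext.contravariant_sequence_exact₃ hS _ x₃ h0 (n₀ := n + 1)
      (add_comm 1 (n + 1))
    haveI := hKfin
    have hx0 : x₁ = 0 := (ih K).elim _ _
    rw [← hx₁, hx0, Ext.comp_zero]

theorem FgExt.ext_quot_subsingleton (hI : FgExt 𝒜 I) (a : HomogeneousIdeal 𝒜) (t n : ℕ) :
    Subsingleton (Abelian.Ext.{u} (ModuleCat.of R (R ⧸ a.toIdeal ^ t)) (ModuleCat.of R I) (n + 1)) := by
  have hP : ((a.toIdeal ^ t : Ideal R) : Submodule R R).IsHomogeneous 𝒜 :=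
    Groth.Agent.Helper6.GrLCAcyc.pow_isHomogeneous 𝒜 a t
  let A : GrLC.GMod.{u} 𝒜 := quotGMod 𝒜 𝒜 ((a.toIdeal ^ t : Ideal R) : Submodule R R) hP
  haveI : Module.Finite R A.carrier :=
    (inferInstance : Module.Finite R (R ⧸ ((a.toIdeal ^ t : Ideal R) : Submodule R R)))
  exact hI.ext_subsingleton n A

/-- `FgExt` modules are `Γ_a`-acyclic for homogeneous `a` -/
theorem FgExt.locCoh_subsingleton (hI : FgExt 𝒜 I) (a : HomogeneousIdeal 𝒜) (i : ℕ) (hi : 1 ≤ i) :
    Subsingleton (LocCoh.H a.toIdeal i I) := by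
  obtain ⟨n, rfl⟩ : ∃ n, i = n + 1 := ⟨i - 1, by omega⟩
  have hz : IsZero ((localCohomology a.toIdeal (n + 1)).obj (ModuleCat.of R I)) := by
    unfold localCohomology localCohomology.ofDiagram
    refine IsZero.of_iso ?_ (colimitObjIsoColimitCompEvaluation _ _)
    apply Groth.Agent.Helper6.ExtBridge.isZero_colimit_of_isZero
    intro j
    exact Groth.Agent.Helper6.ExtBridge.isZero_oldExt _ _ n
      (hI.ext_quot_subsingleton a (unop (unop j)) n)
  exact ModuleCat.subsingleton_of_isZero hz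

end Vanish

end Groth.Agent.Helper7.Kun
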