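import Mathlib
import Groth.Prelude.Def_GrLC
import Groth.Prelude.Def_Wider
import Groth.Agent.Helper7.KunB
import Groth.Agent.Helper7.GrAcy3
import Groth.Agent.Helper6.GrExist

/-!
# Künneth project, part C: a Mayer–Vietoris vanishing statement for local cohomology.
-/

set_option autoImplicit false
set_option linter.unusedSectionVars false
set_option linter.style.haveILetI false

namespace Groth.Agent.Helper7.Kun

open DirectSum Groth.Agent.Helper6.GrCon

universe u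

section Gam

variable {R : Type u} [CommRing R] (Y : Type u) [AddCommGroup Y] [Module R Y]

theorem gam_mono {a b : Ideal R} (h : a ≤ b) : GrLC.gam b Y ≤ GrLC.gam a Y := by
  rintro y ⟨n, hn⟩
  exact ⟨n, fun r hr => hn r (Ideal.pow_right_mono h n hr)⟩

theorem gam_sup (a b : Ideal R) : GrLC.gam (a ⊔ b) Y = GrLC.gam a Y ⊓ GrLC.gam b Y := by
  apply le_antisymm
  · exact le_inf (gam_mono Y le_sup_left) (gam_mono Y le_sup_right)
  · rintro y ⟨⟨n, hn⟩, ⟨m, hm⟩⟩
    refine ⟨n + m, fun r hr => ?_⟩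
    have h1 := Ideal.sup_pow_add_le_pow_sup_pow (I := a) (J := b) (n := n) (m := m) hr
    obtain ⟨s, hs, t, ht, rfl⟩ := Submodule.mem_sup.mp h1
    rw [add_smul, hn s hs, hm t ht, add_zero]

end Gam

section Split

variable {ι : Type} [AddCommGroup ι] [DecidableEq ι] {R : Type u} [CommRing R]
  [IsNoetherianRing R] {𝒜 : ι → AddSubgroup R} [GradedRing 𝒜]

theorem pow_inf_pow_le (a b : Ideal R) (N : ℕ) : ∃ n : ℕ, a ^ n ⊓ b ^ n ≤ (a ⊓ b) ^ N := by
  obtain ⟨k, hk⟩ := Ideal.exists_pow_inf_eq_pow_smul a ((b ^ N : Ideal R) : Submodule R R)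
  refine ⟨N + k, ?_⟩
  have h1 := hk (N + k) (by omega)
  rw [Nat.add_sub_cancel] at h1
  have h2 : a ^ (N + k) ⊓ b ^ N ≤ a ^ N * b ^ N := by
    intro x hx
    have hx' : x ∈ a ^ (N + k) • (⊤ : Submodule R R) ⊓ ((b ^ N : Ideal R) : Submodule R R) := by
      refine ⟨?_, hx.2⟩
      rw [Ideal.smul_top_eq_map]
      simpa using hx.1
    rw [h1] at hx'
    have h3 : a ^ N • (a ^ k • (⊤ : Submodule R R) ⊓ ((b ^ N : Ideal R) : Submodule R R)) ≤
        a ^ N • ((b ^ N : Ideal R) : Submodule R R) := Submodule.smul_mono le_rfl inf_le_right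
    exact h3 hx'
  calc a ^ (N + k) ⊓ b ^ (N + k) ≤ a ^ (N + k) ⊓ b ^ N :=
        inf_le_inf_left _ (Ideal.pow_le_pow_right (by omega))
    _ ≤ a ^ N * b ^ N := h2
    _ = (a * b) ^ N := (mul_pow a b N).symm
    _ ≤ (a ⊓ b) ^ N := Ideal.pow_right_mono Ideal.mul_le_inf N

/-- the Mayer–Vietoris splitting of torsion elements -/
theorem gam_inf_le {Y : Type u} [AddCommGroup Y] [Module R Y] (hY : FgExt 𝒜 Y)
    (a b : HomogeneousIdeal 𝒜) :
    GrLC.gam (a.toIdeal ⊓ b.toIdeal) Y ≤ GrLC.gam a.toIdeal Y ⊔ GrLC.gam b.toIdeal Y := by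
  rintro z ⟨N, hN⟩
  obtain ⟨n, hn⟩ := pow_inf_pow_le a.toIdeal b.toIdeal N
  have ha : ((a.toIdeal ^ n : Ideal R) : Submodule R R).IsHomogeneous 𝒜 :=
    Groth.Agent.Helper6.GrLCAcyc.pow_isHomogeneous 𝒜 a n
  have hb : ((b.toIdeal ^ n : Ideal R) : Submodule R R).IsHomogeneous 𝒜 :=
    Groth.Agent.Helper6.GrLCAcyc.pow_isHomogeneous 𝒜 b n
  set J : Ideal R := a.toIdeal ^ n ⊓ b.toIdeal ^ n with hJ
  have hJh : (J : Submodule R R).IsHomogeneous 𝒜 := Ideal.IsHomogeneous.inf ha hb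
  let Q : GrLC.GMod.{u} 𝒜 := quotGMod 𝒜 𝒜 (J : Submodule R R) hJh
  let P₁ : GrLC.GMod.{u} 𝒜 := quotGMod 𝒜 𝒜 ((a.toIdeal ^ n : Ideal R) : Submodule R R) ha
  let P₂ : GrLC.GMod.{u} 𝒜 := quotGMod 𝒜 𝒜 ((b.toIdeal ^ n : Ideal R) : Submodule R R) hb
  let B : GrLC.GMod.{u} 𝒜 := prodGMod 𝒜 P₁.gr P₂.gr
  let f₁ : (R ⧸ (J : Submodule R R)) →ₗ[R] (R ⧸ ((a.toIdeal ^ n : Ideal R) : Submodule R R)) :=
    Submodule.mapQ _ _ LinearMap.id (by
      intro x hx
      exact hx.1)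
  let f₂ : (R ⧸ (J : Submodule R R)) →ₗ[R] (R ⧸ ((b.toIdeal ^ n : Ideal R) : Submodule R R)) :=
    Submodule.mapQ _ _ LinearMap.id (by
      intro x hx
      exact hx.2)
  let f : Q.carrier →ₗ[R] B.carrier := f₁.prod f₂
  have hf : GrLC.IsGrHom Q.gr B.gr f := by
    intro i q hq
    obtain ⟨m, hm, rfl⟩ := (mem_quotFam 𝒜 (J : Submodule R R)).mp hq
    exact ⟨(mem_quotFam 𝒜 _).mpr ⟨m, hm, rfl⟩, (mem_quotFam 𝒜 _).mpr ⟨m, hm, rfl⟩⟩
  have hinj : Function.Injective f := by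
    rw [injective_iff_map_eq_zero]
    intro q hq
    obtain ⟨r, rfl⟩ := Submodule.mkQ_surjective _ q
    have h1 : f₁ ((J : Submodule R R).mkQ r) = 0 := congrArg Prod.fst hq
    have h2 : f₂ ((J : Submodule R R).mkQ r) = 0 := congrArg Prod.snd hq
    rw [Submodule.mkQ_apply, Submodule.mapQ_apply, LinearMap.id_apply,
      Submodule.Quotient.mk_eq_zero] at h1 h2
    show (Submodule.Quotient.mk r : R ⧸ (J : Submodule R R)) = 0
    rw [Submodule.Quotient.mk_eq_zero]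
    exact ⟨h1, h2⟩
  have hfin : Module.Finite R Q.carrier :=
    (inferInstance : Module.Finite R (R ⧸ (J : Submodule R R)))
  let φ : Q.carrier →ₗ[R] Y := Submodule.liftQ (J : Submodule R R)
    (LinearMap.toSpanSingleton R Y z) (by
      intro r hr
      rw [LinearMap.mem_ker, LinearMap.toSpanSingleton_apply]
      exact hN r (hn hr))
  obtain ⟨ψ, hψ⟩ := hY Q B f hf hinj hfin φ
  have hz : z = ψ ((Submodule.mkQ _ (1 : R) : P₁.carrier), (0 : P₂.carrier)) +
      ψ ((0 : P₁.carrier), (Submodule.mkQ _ (1 : R) : P₂.carrier)) := by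
    have h1 : φ ((J : Submodule R R).mkQ 1) = z := by
      show Submodule.liftQ _ _ _ (Submodule.Quotient.mk 1) = z
      rw [Submodule.liftQ_apply, LinearMap.toSpanSingleton_apply, one_smul]
    rw [← h1, ← hψ, LinearMap.comp_apply, ← map_add]
    congr 1
    apply Prod.ext
    · show f₁ ((J : Submodule R R).mkQ 1) =
        (Submodule.mkQ _ (1 : R) : R ⧸ ((a.toIdeal ^ n : Ideal R) : Submodule R R)) + 0
      rw [add_zero]
      rfl
    · show f₂ ((J : Submodule R R).mkQ 1) =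
        0 + (Submodule.mkQ _ (1 : R) : R ⧸ ((b.toIdeal ^ n : Ideal R) : Submodule R R))
      rw [zero_add]
      rfl
  rw [hz]
  refine Submodule.add_mem_sup ⟨n, fun r hr => ?_⟩ ⟨n, fun r hr => ?_⟩
  · rw [← map_smul]
    have : r • ((Submodule.mkQ _ (1 : R) : P₁.carrier), (0 : P₂.carrier)) = 0 := by
      apply Prod.ext
      · show r • (Submodule.mkQ _ (1 : R) : R ⧸ ((a.toIdeal ^ n : Ideal R) : Submodule R R)) = 0
        rw [← map_smul, smul_eq_mul, mul_one, Submodule.mkQ_apply, Submodule.Quotient.mk_eq_zero]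
        exact hr
      · exact smul_zero r
    exact (congrArg ψ this).trans (map_zero ψ)
  · rw [← map_smul]
    have : r • ((0 : P₁.carrier), (Submodule.mkQ _ (1 : R) : P₂.carrier)) = 0 := by
      apply Prod.ext
      · exact smul_zero r
      · show r • (Submodule.mkQ _ (1 : R) : R ⧸ ((b.toIdeal ^ n : Ideal R) : Submodule R R)) = 0
        rw [← map_smul, smul_eq_mul, mul_one, Submodule.mkQ_apply, Submodule.Quotient.mk_eq_zero]
        exact hr
    exact (congrArg ψ this).trans (map_zero ψ)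

end Split

end Groth.Agent.Helper7.Kun
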