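import Mathlib
import Groth.Prelude.Def_GrLC
import Groth.Prelude.Def_Wider
import Groth.Agent.Helper7.KunC
import Groth.Agent.Helper7.GrVer4

/-!
# Künneth project, part C2: Mayer–Vietoris vanishing, graded and ungraded forms.
-/

set_option autoImplicit false
set_option linter.unusedSectionVars false
set_option linter.style.haveILetI false

namespace Groth.Agent.Helper7.Kun

open DirectSum Groth.Agent.Helper6.GrCon Groth.Agent.Helper7.GrDel

universe u

section MV

variable {ι : Type} [AddCommGroup ι] [DecidableEq ι] {R : Type u} [CommRing R]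
  {𝒜 : ι → AddSubgroup R} [GradedRing 𝒜]
  {M : Type u} [AddCommGroup M] [Module R M] {ℳ : ι → AddSubgroup M} [Decomposition ℳ]
  [SetLike.GradedSMul 𝒜 ℳ]

theorem subsingleton_H_iff (E : GrLC.StarInjRes 𝒜 ℳ) (a : HomogeneousIdeal 𝒜) (i : ℕ) :
    Subsingleton (E.H a i) ↔ E.cocyc a i ≤ E.cobdy a i := by
  constructor
  · intro h x hx
    have h0 : E.toH a i ⟨x, hx⟩ = 0 := Subsingleton.elim _ _
    exact (toH_eq_zero_iff a E i ⟨x, hx⟩).mp h0
  · intro h
    refine ⟨fun x y => ?_⟩
    have h0 : ∀ w : E.H a i, w = 0 := by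
      intro w
      obtain ⟨z, rfl⟩ := Submodule.mkQ_surjective _ w
      exact (toH_eq_zero_iff a E i z).mpr (h z.2)
    rw [h0 x, h0 y]

variable [IsNoetherianRing R]

/-- Mayer–Vietoris vanishing for graded local cohomology -/
theorem mv_vanish (E : GrLC.StarInjRes 𝒜 ℳ) (a b : HomogeneousIdeal 𝒜) (i : ℕ)
    (ha : Subsingleton (E.H a (i + 1))) (hb : Subsingleton (E.H b (i + 1)))
    (hab : Subsingleton (E.H (a ⊔ b) (i + 2))) : Subsingleton (E.H (a ⊓ b) (i + 1)) := by
  rw [subsingleton_H_iff] at ha hb hab ⊢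
  intro z hz
  have hz1 : z ∈ GrLC.gam (a.toIdeal ⊓ b.toIdeal) (E.X (i + 1)).carrier := hz.1
  have hz2 : E.d (i + 1) z = 0 := hz.2
  obtain ⟨u, hu, v, hv, huv⟩ := Submodule.mem_sup.mp
    (gam_inf_le (fgExt_of_isStarInj 𝒜 (E.X (i + 1)).gr (E.starInj (i + 1))) a b hz1)
  set w := E.d (i + 1) u with hw
  have hdv : E.d (i + 1) v = -w := by
    have : E.d (i + 1) u + E.d (i + 1) v = 0 := by rw [← map_add, huv, hz2]
    rw [hw]
    exact eq_neg_of_add_eq_zero_right this
  have hwa : w ∈ GrLC.gam a.toIdeal (E.X (i + 2)).carrier := map_mem_gam _ _ hu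
  have hwb : w ∈ GrLC.gam b.toIdeal (E.X (i + 2)).carrier := by
    have := map_mem_gam b.toIdeal (E.d (i + 1)) hv
    rw [hdv] at this
    simpa using (Submodule.neg_mem _ this)
  have hwab : w ∈ E.cocyc (a ⊔ b) (i + 2) := by
    refine ⟨?_, d_d E (i + 1) u⟩
    show w ∈ GrLC.gam (a.toIdeal ⊔ b.toIdeal) _
    rw [gam_sup]
    exact ⟨hwa, hwb⟩
  obtain ⟨t, ht, htw⟩ := hab hwab
  have ht' : t ∈ GrLC.gam (a.toIdeal ⊔ b.toIdeal) (E.X (i + 1)).carrier := ht
  rw [gam_sup] at ht'
  have hu' : u - t ∈ E.cocyc a (i + 1) := by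
    refine ⟨Submodule.sub_mem _ hu ht'.1, ?_⟩
    show E.d (i + 1) (u - t) = 0
    rw [map_sub, htw, sub_self]
  have hv' : v + t ∈ E.cocyc b (i + 1) := by
    refine ⟨Submodule.add_mem _ hv ht'.2, ?_⟩
    show E.d (i + 1) (v + t) = 0
    rw [map_add, htw, hdv, neg_add_cancel]
  obtain ⟨u'', hu'', hdu''⟩ := ha hu'
  obtain ⟨v'', hv'', hdv''⟩ := hb hv'
  refine ⟨u'' + v'', ?_, ?_⟩
  · show u'' + v'' ∈ GrLC.gam (a.toIdeal ⊓ b.toIdeal) _
    exact Submodule.add_mem _ (gam_mono _ inf_le_left hu'') (gam_mono _ inf_le_right hv'')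
  · rw [map_add, hdu'', hdv'', ← huv]
    abel

end MV

section Triv

variable (A : Type u) [CommRing A]

/-- the trivial grading -/
def triv : Unit → AddSubgroup A := fun _ => ⊤

instance trivGradedMonoid : SetLike.GradedMonoid (triv A) where
  one_mem := trivial
  mul_mem := fun _ _ _ _ _ _ => trivial

theorem isInternal_top {X : Type u} [AddCommGroup X] :
    DirectSum.IsInternal (fun _ : Unit => (⊤ : AddSubgroup X)) := by
  refine isInternal_of_proj _ (fun _ x => x) ?_ ?_ ?_ ?_ ?_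
  · intro _ _; trivial
  · intro _ _ _; rfl
  · intro i j _ _ hij; exact absurd (Subsingleton.elim i j) hij
  · intro _ _ _; rfl
  · intro x; exact ⟨{()}, by simp⟩

noncomputable instance trivDecomposition : DirectSum.Decomposition (triv A) :=
  (isInternal_top (X := A)).chooseDecomposition

noncomputable instance trivGradedRing : GradedRing (triv A) :=
  { trivGradedMonoid A, trivDecomposition A with }

/-- every ideal is homogeneous for the trivial grading -/
noncomputable def trivIdeal (I : Ideal A) : HomogeneousIdeal (triv A) :=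
  ⟨I, fun i r hr => by
    rw [decompose_of_mem_same (triv A) (show r ∈ triv A i from trivial)]
    exact hr⟩

@[simp] theorem trivIdeal_toIdeal (I : Ideal A) : (trivIdeal A I).toIdeal = I := rfl

variable (X : Type u) [AddCommGroup X] [Module A X]

/-- the trivial grading of a module -/
def trivFam : Unit → AddSubgroup X := fun _ => ⊤

noncomputable instance trivFamDecomposition : DirectSum.Decomposition (trivFam X) :=
  (isInternal_top (X := X)).chooseDecomposition

instance trivFamGradedSMul : SetLike.GradedSMul (triv A) (trivFam X) where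
  smul_mem := fun _ _ _ _ _ _ => trivial

variable [IsNoetherianRing A]

/-- Mayer–Vietoris vanishing for local cohomology -/
theorem mv_locCoh (a b c : Ideal A) (hc : c ≤ a ⊓ b) (K : ℕ) (hK : (a ⊓ b) ^ K ≤ c) (i : ℕ)
    (ha : Subsingleton (LocCoh.H a (i + 1) X)) (hb : Subsingleton (LocCoh.H b (i + 1) X))
    (hab : Subsingleton (LocCoh.H (a ⊔ b) (i + 2) X)) : Subsingleton (LocCoh.H c (i + 1) X) := by
  obtain ⟨G⟩ := Groth.Agent.Helper6.GrExist.nonempty_starInjRes (triv A) (trivFam X)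
  obtain ⟨ea⟩ := Groth.Agent.Helper7.GrAcy.nonempty_H_equiv (trivIdeal A a) G (i + 1)
  obtain ⟨eb⟩ := Groth.Agent.Helper7.GrAcy.nonempty_H_equiv (trivIdeal A b) G (i + 1)
  obtain ⟨eab⟩ := Groth.Agent.Helper7.GrAcy.nonempty_H_equiv (trivIdeal A a ⊔ trivIdeal A b) G (i + 2)
  obtain ⟨ec⟩ := Groth.Agent.Helper7.GrAcy.nonempty_H_equiv (trivIdeal A c) G (i + 1)
  have h1 : Subsingleton (G.H (trivIdeal A a) (i + 1)) := by
    have : Subsingleton (LocCoh.H (trivIdeal A a).toIdeal (i + 1) X) := ha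
    exact ea.toEquiv.subsingleton
  have h2 : Subsingleton (G.H (trivIdeal A b) (i + 1)) := by
    have : Subsingleton (LocCoh.H (trivIdeal A b).toIdeal (i + 1) X) := hb
    exact eb.toEquiv.subsingleton
  have h3 : Subsingleton (G.H (trivIdeal A a ⊔ trivIdeal A b) (i + 2)) := by
    have : Subsingleton (LocCoh.H (trivIdeal A a ⊔ trivIdeal A b).toIdeal (i + 2) X) := hab
    exact eab.toEquiv.subsingleton
  have h4 := mv_vanish G (trivIdeal A a) (trivIdeal A b) i h1 h2 h3
  have h5 : Subsingleton (G.H (trivIdeal A c) (i + 1)) := by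
    rw [subsingleton_H_iff] at h4 ⊢
    have hg : ∀ (Y : Type u) [AddCommGroup Y] [Module A Y], GrLC.gam (a ⊓ b) Y = GrLC.gam c Y :=
      fun Y _ _ => Groth.Agent.Helper7.GrVer.gam_eq_of_le_of_pow_le (Y := Y) hc hK
    intro z hz
    have hz' : z ∈ G.cocyc (trivIdeal A a ⊓ trivIdeal A b) (i + 1) := by
      refine ⟨?_, hz.2⟩
      show z ∈ GrLC.gam (a ⊓ b) _
      rw [hg]
      exact hz.1
    obtain ⟨t, ht, htz⟩ := h4 hz'
    refine ⟨t, ?_, htz⟩
    show t ∈ GrLC.gam c _
    rw [← hg]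
    exact ht
  exact ec.symm.toEquiv.subsingleton

end Triv

end Groth.Agent.Helper7.Kun
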