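import Mathlib
import Groth.Prelude.Def_GrLC
import Groth.Prelude.Def_Wider
import Groth.Prelude.Def_GrSeg
import Groth.Agent.Helper7.KunA
import Groth.Agent.Helper7.KunC2
import Groth.Agent.Helper9.SegreMod
import Groth.Agent.Helper1.LocCohBase
import Groth.Agent.Helper6.LCBij

/-!
# Künneth project, part D: local cohomology of `E ⊗ N` over `R ⊗ S`.
-/

set_option autoImplicit false
set_option linter.unusedSectionVars false
set_option linter.style.haveILetI false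

namespace Groth.Agent.Helper7.Kun

open TensorProduct Groth.Agent.Helper9.SegreMod

universe u

attribute [local instance] Groth.Agent.Helper9.SegreMod.tensorModule

section Tower

variable {k : Type u} [Field k] {R S : Type u} [CommRing R] [Algebra k R] [CommRing S] [Algebra k S]
  {E : Type u} [AddCommGroup E] [Module R E] [Module k E] [IsScalarTower k R E]
  {N : Type u} [AddCommGroup N] [Module S N] [Module k N] [IsScalarTower k S N]

theorem act_left (r : R) (v : E ⊗[k] N) : GrSeg.act k R S E N (r ⊗ₜ[k] (1 : S)) v = r • v := by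
  induction v using TensorProduct.induction_on with
  | zero => simp
  | tmul m n => rw [GrSeg.act_tmul, one_smul, TensorProduct.smul_tmul']
  | add v w hv hw => rw [map_add, hv, hw, smul_add]

instance towerLeft : IsScalarTower R (R ⊗[k] S) (E ⊗[k] N) := ⟨fun r τ v => by
  rw [Algebra.smul_def, mul_smul]
  show GrSeg.act k R S E N (algebraMap R (R ⊗[k] S) r) (τ • v) = r • (τ • v)
  rw [Algebra.TensorProduct.algebraMap_apply, Algebra.algebraMap_self, RingHom.id_apply, act_left]⟩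

/-- `E ⊗ N` is a direct sum of copies of `E` as an `R`-module -/
noncomputable def tensorEquivFinsupp :
    E ⊗[k] N ≃ₗ[R] (Module.Free.ChooseBasisIndex k N →₀ E) := by
  classical
  exact (TensorProduct.AlgebraTensorModule.congr (LinearEquiv.refl R E)
    (Module.Free.chooseBasis k N).repr).trans
    (TensorProduct.finsuppScalarRight k R E (Module.Free.ChooseBasisIndex k N))

end Tower

section Vanish

variable {k : Type u} [Field k] {R S : Type u} [CommRing R] [Algebra k R] [CommRing S] [Algebra k S]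
  (𝒜 : ℤ → Submodule k R) [GradedAlgebra 𝒜] (ℬ : ℤ → Submodule k S) [GradedAlgebra ℬ]
  {E : Type u} [AddCommGroup E] [Module R E] [Module k E] [IsScalarTower k R E]
  {N : Type u} [AddCommGroup N] [Module S N] [Module k N] [IsScalarTower k S N]

theorem locCoh_left [IsNoetherianRing R] [IsNoetherianRing (R ⊗[k] S)]
    (hE : FgExt (plus 𝒜) E) (m : HomogeneousIdeal (plus 𝒜)) (i : ℕ) (hi : 1 ≤ i) :
    Subsingleton (LocCoh.H (m.toIdeal.map (algebraMap R (R ⊗[k] S))) i (E ⊗[k] N)) := by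
  have h1 : FgExt (plus 𝒜) (E ⊗[k] N) :=
    (hE.finsupp _).of_linearEquiv (tensorEquivFinsupp (k := k) (R := R) (E := E) (N := N)).symm
  have h2 := h1.locCoh_subsingleton m i hi
  obtain ⟨φ, -⟩ := Groth.Agent.Helper1.LocCohBase.exists_addEquiv (R := R) (R' := R ⊗[k] S)
    m.toIdeal (E ⊗[k] N) i
  haveI : Subsingleton ((localCohomology m.toIdeal i).obj (ModuleCat.of R (E ⊗[k] N))) := h2
  exact φ.toEquiv.subsingleton

theorem smul_one_tmul_bijective (y : S) (hy : Function.Bijective (fun n : N => y • n)) :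
    Function.Bijective (fun v : E ⊗[k] N => ((1 : R) ⊗ₜ[k] y) • v) := by
  let ey : N ≃ₗ[k] N := LinearEquiv.ofBijective (Algebra.lsmul k k N y) hy
  have h : (fun v : E ⊗[k] N => ((1 : R) ⊗ₜ[k] y) • v) =
      ⇑(TensorProduct.congr (LinearEquiv.refl k E) ey) := by
    funext v
    show GrSeg.act k R S E N ((1 : R) ⊗ₜ[k] y) v = _
    induction v using TensorProduct.induction_on with
    | zero => simp
    | tmul m n =>
      rw [GrSeg.act_tmul, one_smul, TensorProduct.congr_tmul]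
      rfl
    | add v w hv hw => rw [map_add, hv, hw, map_add]
  rw [h]
  exact (TensorProduct.congr (LinearEquiv.refl k E) ey).bijective

theorem locCoh_of_bijective (y : S) (hy : Function.Bijective (fun n : N => y • n))
    (J : Ideal (R ⊗[k] S)) (hJ : (1 : R) ⊗ₜ[k] y ∈ J) (q : ℕ) :
    Subsingleton (LocCoh.H J q (E ⊗[k] N)) :=
  Groth.Agent.Helper6.LCBij.subsingleton_of_bijective J (E ⊗[k] N) _ hJ
    (smul_one_tmul_bijective (R := R) (E := E) y hy) q

end Vanish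

section Ideals

variable {k : Type u} [Field k] {R S T : Type u} [CommRing R] [Algebra k R] [CommRing S] [Algebra k S]
  [CommRing T] [Algebra k T]
  (𝒜 : ℤ → Submodule k R) [GradedAlgebra 𝒜] (ℬ : ℤ → Submodule k S) [GradedAlgebra ℬ]
  (𝒯 : ℤ → Submodule k T) [GradedAlgebra 𝒯] (ψ : T →ₐ[k] R ⊗[k] S)
  (hT : GrSeg.IsSegreRing 𝒜 ℬ 𝒯 ψ)
  (mR : Ideal R) (hmR : mR = Ideal.span (⋃ n ∈ Set.Ioi (0 : ℤ), (𝒜 n : Set R)))
  (mS : Ideal S) (hmS : mS = Ideal.span (⋃ n ∈ Set.Ioi (0 : ℤ), (ℬ n : Set S)))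
  (mT : Ideal T) (hmT : mT = Ideal.span (⋃ n ∈ Set.Ioi (0 : ℤ), (𝒯 n : Set T)))

/-- `m (R ⊗ S)` -/
def idA : Ideal (R ⊗[k] S) := mR.map (algebraMap R (R ⊗[k] S))

/-- `n (R ⊗ S)` -/
def idB : Ideal (R ⊗[k] S) :=
  mS.map (Algebra.TensorProduct.includeRight : S →ₐ[k] R ⊗[k] S).toRingHom

/-- `T_+ (R ⊗ S)` -/
def idC : Ideal (R ⊗[k] S) := mT.map ψ.toRingHom

include hmR in
theorem tmul_one_mem_idA {n : ℤ} (hn : 0 < n) {a : R} (ha : a ∈ 𝒜 n) (τ : R ⊗[k] S) :
    (a ⊗ₜ[k] (1 : S)) * τ ∈ idA (S := S) mR := by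
  apply Ideal.mul_mem_right
  have : a ∈ mR := by
    rw [hmR]
    apply Ideal.subset_span
    simp only [Set.mem_iUnion, Set.mem_Ioi, SetLike.mem_coe, exists_prop]
    exact ⟨n, hn, ha⟩
  exact Ideal.mem_map_of_mem _ this

include hmS in
theorem one_tmul_mem_idB {n : ℤ} (hn : 0 < n) {b : S} (hb : b ∈ ℬ n) (τ : R ⊗[k] S) :
    τ * ((1 : R) ⊗ₜ[k] b) ∈ idB (R := R) mS := by
  apply Ideal.mul_mem_left
  have : b ∈ mS := by
    rw [hmS]
    apply Ideal.subset_span
    simp only [Set.mem_iUnion, Set.mem_Ioi, SetLike.mem_coe, exists_prop]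
    exact ⟨n, hn, hb⟩
  exact Ideal.mem_map_of_mem _ this

include hT hmR hmS hmT in
theorem idC_le : idC ψ mT ≤ idA (S := S) mR ⊓ idB (R := R) mS := by
  unfold idC
  rw [hmT, Ideal.map_span, Ideal.span_le]
  rintro _ ⟨t, ht, rfl⟩
  simp only [Set.mem_iUnion, Set.mem_Ioi, SetLike.mem_coe, exists_prop] at ht
  obtain ⟨n, hn, htn⟩ := ht
  have h1 : ψ.toLinearMap t ∈ (𝒯 n).map ψ.toLinearMap := Submodule.mem_map_of_mem htn
  rw [hT.2 n] at h1
  show ψ t ∈ _
  have h2 : ψ.toLinearMap t = ψ t := rfl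
  rw [h2] at h1
  unfold GrSeg.segrePiece at h1
  generalize ψ t = z at h1 ⊢
  induction h1 using Submodule.span_induction with
  | mem x hx =>
    obtain ⟨a, ha, b, hb, rfl⟩ := hx
    constructor
    · have := tmul_one_mem_idA (S := S) 𝒜 mR hmR hn ha ((1 : R) ⊗ₜ[k] b)
      rwa [Algebra.TensorProduct.tmul_mul_tmul, mul_one, one_mul] at this
    · have := one_tmul_mem_idB (R := R) ℬ mS hmS hn hb (a ⊗ₜ[k] (1 : S))
      rwa [Algebra.TensorProduct.tmul_mul_tmul, mul_one, one_mul] at this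
  | zero => exact Submodule.zero_mem _
  | add x y _ _ hx hy => exact Submodule.add_mem _ hx hy
  | smul c x _ hx =>
    rw [Algebra.smul_def]
    exact Ideal.mul_mem_left _ _ hx

include hT hmT in
theorem tmul_mem_radical_idC {i j : ℤ} (hi : 0 < i) (hj : 0 < j) {a : R} (ha : a ∈ 𝒜 i) {b : S}
    (hb : b ∈ ℬ j) : a ⊗ₜ[k] b ∈ (idC ψ mT).radical := by
  obtain ⟨p, rfl⟩ := Int.eq_ofNat_of_zero_le hi.le
  obtain ⟨q, rfl⟩ := Int.eq_ofNat_of_zero_le hj.le
  have hp : 0 < p := by exact_mod_cast hi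
  have hq : 0 < q := by exact_mod_cast hj
  refine ⟨p + q, ?_⟩
  have h1 : a ^ q ∈ 𝒜 ((p : ℤ) * (q : ℤ)) := by
    have := SetLike.pow_mem_graded q ha
    rwa [nsmul_eq_mul, mul_comm] at this
  have h2 : b ^ p ∈ ℬ ((p : ℤ) * (q : ℤ)) := by
    have := SetLike.pow_mem_graded p hb
    rwa [nsmul_eq_mul] at this
  have h3 : (a ^ q) ⊗ₜ[k] (b ^ p) ∈ (𝒯 ((p : ℤ) * (q : ℤ))).map ψ.toLinearMap := by
    rw [hT.2]
    exact Submodule.subset_span ⟨_, h1, _, h2, rfl⟩
  obtain ⟨t, ht, hte⟩ := h3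
  have htm : t ∈ mT := by
    rw [hmT]
    apply Ideal.subset_span
    simp only [Set.mem_iUnion, Set.mem_Ioi, SetLike.mem_coe, exists_prop]
    exact ⟨_, mul_pos hi hj, ht⟩
  have h4 : (a ⊗ₜ[k] b) ^ (p + q) = ψ t * ((a ^ p) ⊗ₜ[k] (b ^ q)) := by
    have : ψ t = (a ^ q) ⊗ₜ[k] (b ^ p) := hte
    rw [this, Algebra.TensorProduct.tmul_pow, Algebra.TensorProduct.tmul_mul_tmul, ← pow_add,
      ← pow_add, add_comm q p]
  rw [h4]
  apply Ideal.mul_mem_right
  exact Ideal.mem_map_of_mem _ htm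

include hT hmR hmS hmT in
theorem exists_pow_le [IsNoetherianRing (R ⊗[k] S)] :
    ∃ K : ℕ, (idA (S := S) mR ⊓ idB (R := R) mS) ^ K ≤ idC ψ mT := by
  have h1 : idA (S := S) mR * idB (R := R) mS ≤ (idC ψ mT).radical := by
    unfold idA idB
    rw [hmR, hmS, Ideal.map_span, Ideal.map_span, Ideal.span_mul_span', Ideal.span_le]
    rintro _ ⟨_, ⟨a, ha, rfl⟩, _, ⟨b, hb, rfl⟩, rfl⟩
    simp only [Set.mem_iUnion, Set.mem_Ioi, SetLike.mem_coe, exists_prop] at ha hb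
    obtain ⟨i, hi, hai⟩ := ha
    obtain ⟨j, hj, hbj⟩ := hb
    have := tmul_mem_radical_idC 𝒜 ℬ 𝒯 ψ hT mT hmT hi hj hai hbj
    show (algebraMap R (R ⊗[k] S) a) * ((1 : R) ⊗ₜ[k] b) ∈ _
    rw [Algebra.TensorProduct.algebraMap_apply, Algebra.algebraMap_self, RingHom.id_apply,
      Algebra.TensorProduct.tmul_mul_tmul, mul_one, one_mul]
    exact this
  obtain ⟨K, hK⟩ := Ideal.exists_pow_le_of_le_radical_of_fg h1
    ((isNoetherianRing_iff_ideal_fg _).mp inferInstance _)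
  refine ⟨2 * K, ?_⟩
  rw [pow_mul]
  refine le_trans (Ideal.pow_right_mono ?_ K) hK
  rw [pow_two]
  exact Ideal.mul_mono inf_le_left inf_le_right

end Ideals

section Main

variable {k : Type u} [Field k] {R S T : Type u} [CommRing R] [Algebra k R] [CommRing S] [Algebra k S]
  [CommRing T] [Algebra k T]
  (𝒜 : ℤ → Submodule k R) [GradedAlgebra 𝒜] (ℬ : ℤ → Submodule k S) [GradedAlgebra ℬ]
  (𝒯 : ℤ → Submodule k T) [GradedAlgebra 𝒯] (ψ : T →ₐ[k] R ⊗[k] S)
  (hT : GrSeg.IsSegreRing 𝒜 ℬ 𝒯 ψ)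
  (mR : HomogeneousIdeal (plus 𝒜))
  (hmR : mR.toIdeal = Ideal.span (⋃ n ∈ Set.Ioi (0 : ℤ), (𝒜 n : Set R)))
  (mS : Ideal S) (hmS : mS = Ideal.span (⋃ n ∈ Set.Ioi (0 : ℤ), (ℬ n : Set S)))
  (mT : Ideal T) (hmT : mT = Ideal.span (⋃ n ∈ Set.Ioi (0 : ℤ), (𝒯 n : Set T)))
  (E : Type u) [AddCommGroup E] [Module R E] [Module k E] [IsScalarTower k R E]
  (N : Type u) [AddCommGroup N] [Module S N] [Module k N] [IsScalarTower k S N]
  [IsNoetherianRing R] [IsNoetherianRing (R ⊗[k] S)]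

include hT hmR hmS hmT in
/-- `E ⊗ N` is acyclic for `T_+ (R ⊗ S)` when `E` has the extension property and a homogeneous
element of positive degree of `S` acts bijectively on `N`. -/
theorem locCoh_idC_vanish (hE : FgExt (plus 𝒜) E) (e : ℤ) (he : 0 < e) (y : S) (hy : y ∈ ℬ e)
    (hyN : Function.Bijective (fun n : N => y • n)) (i : ℕ) :
    Subsingleton (LocCoh.H (idC ψ mT) (i + 1) (E ⊗[k] N)) := by
  obtain ⟨K, hK⟩ := exists_pow_le 𝒜 ℬ 𝒯 ψ hT mR.toIdeal hmR mS hmS mT hmT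
  have hmem : (1 : R) ⊗ₜ[k] y ∈ idB (R := R) mS := by
    have := one_tmul_mem_idB (R := R) ℬ mS hmS he hy 1
    rwa [one_mul] at this
  exact mv_locCoh (R ⊗[k] S) (E ⊗[k] N) (idA (S := S) mR.toIdeal) (idB (R := R) mS) (idC ψ mT)
    (idC_le 𝒜 ℬ 𝒯 ψ hT mR.toIdeal hmR mS hmS mT hmT) K hK i
    (locCoh_left 𝒜 hE mR (i + 1) (by omega))
    (locCoh_of_bijective y hyN _ hmem (i + 1))
    (locCoh_of_bijective y hyN _ (Ideal.mem_sup_right hmem) (i + 2))

end Main

end Groth.Agent.Helper7.Kun
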