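import Mathlib
import Groth.Prelude.Def_GrLC
import Groth.Prelude.Def_Wider
import Groth.Prelude.Def_GrSeg
import Groth.Agent.Helper7.KunD
import Groth.Agent.Helper7.SegModB

/-!
# Künneth project, part E: `E ⊗ N` as a `T`-module through `ψ : T → R ⊗ S`, functorially in `E`.
-/

set_option autoImplicit false
set_option linter.unusedSectionVars false
set_option linter.style.haveILetI false

namespace Groth.Agent.Helper7.Kun

open TensorProduct Groth.Agent.Helper9.SegreMod Groth.Agent.Helper9.Segre Groth.Agent.Helper7.SegMod

universe u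

section XT

variable {k : Type u} [Field k] {R S T : Type u} [CommRing R] [Algebra k R] [CommRing S] [Algebra k S]
  [CommRing T] [Algebra k T]

/-- `E ⊗ N` as a `T`-module through `ψ` -/
def XT (_ψ : T →ₐ[k] R ⊗[k] S) (E N : Type u) [AddCommGroup E] [Module R E] [Module k E]
    [AddCommGroup N] [Module S N] [Module k N] : Type u := E ⊗[k] N

variable (ψ : T →ₐ[k] R ⊗[k] S)
  (E : Type u) [AddCommGroup E] [Module R E] [Module k E] [IsScalarTower k R E]
  (E' : Type u) [AddCommGroup E'] [Module R E'] [Module k E'] [IsScalarTower k R E']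
  (E'' : Type u) [AddCommGroup E''] [Module R E''] [Module k E''] [IsScalarTower k R E'']
  (N : Type u) [AddCommGroup N] [Module S N] [Module k N] [IsScalarTower k S N]

instance instAddCommGroupXT : AddCommGroup (XT ψ E N) := inferInstanceAs (AddCommGroup (E ⊗[k] N))

instance instModuleKXT : Module k (XT ψ E N) := inferInstanceAs (Module k (E ⊗[k] N))

noncomputable instance instModuleTXT : Module T (XT ψ E N) :=
  Module.compHom (E ⊗[k] N)
    ((actRingHom (k := k) (R := R) (S := S) (M := E) (N := N)).comp ψ.toRingHom)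

variable {ψ E E' E'' N}

theorem XT.smul_def (t : T) (v : XT ψ E N) :
    t • v = (GrSeg.act k R S E N (ψ t) (show E ⊗[k] N from v) : E ⊗[k] N) := rfl

instance instTowerXT : IsScalarTower k T (XT ψ E N) := ⟨fun c t v => by
  rw [XT.smul_def, XT.smul_def, map_smul, map_smul, LinearMap.smul_apply]
  rfl⟩

/-- `act` commutes with `f ⊗ id` for `R`-linear `f` -/
theorem act_map (f : E →ₗ[R] E') (τ : R ⊗[k] S) (v : E ⊗[k] N) :
    TensorProduct.map (f.restrictScalars k) (LinearMap.id : N →ₗ[k] N) (GrSeg.act k R S E N τ v) =
      GrSeg.act k R S E' N τ (TensorProduct.map (f.restrictScalars k) LinearMap.id v) := by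
  induction τ using TensorProduct.induction_on with
  | zero => simp
  | add τ τ' h1 h2 => simp only [map_add, LinearMap.add_apply, h1, h2]
  | tmul a b =>
    induction v using TensorProduct.induction_on with
    | zero => simp
    | add v w hv hw => simp only [map_add, hv, hw]
    | tmul m n =>
      rw [GrSeg.act_tmul, TensorProduct.map_tmul, TensorProduct.map_tmul, GrSeg.act_tmul]
      simp

variable (ψ N) in
/-- functoriality of `XT` in the first variable -/
noncomputable def XTmap (f : E →ₗ[R] E') : XT ψ E N →ₗ[T] XT ψ E' N where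
  toFun v := (TensorProduct.map (f.restrictScalars k) (LinearMap.id : N →ₗ[k] N)
    (show E ⊗[k] N from v) : E' ⊗[k] N)
  map_add' v w := map_add _ _ _
  map_smul' t v := by
    rw [RingHom.id_apply, XT.smul_def, XT.smul_def]
    exact act_map f (ψ t) v

theorem XTmap_apply (f : E →ₗ[R] E') (v : XT ψ E N) :
    XTmap ψ N f v = (TensorProduct.map (f.restrictScalars k) (LinearMap.id : N →ₗ[k] N)
      (show E ⊗[k] N from v) : E' ⊗[k] N) := rfl

/-- pure tensors in `XT` -/
def XT.tmul (ψ : T →ₐ[k] R ⊗[k] S) (x : E) (y : N) : XT ψ E N := (x ⊗ₜ[k] y : E ⊗[k] N)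

theorem XTmap_tmul (f : E →ₗ[R] E') (x : E) (y : N) :
    XTmap ψ N f (XT.tmul ψ x y) = XT.tmul ψ (f x) y := by
  rw [XTmap_apply]
  exact TensorProduct.map_tmul _ _ _ _

theorem XT.induction_on {motive : XT ψ E N → Prop} (v : XT ψ E N) (zero : motive 0)
    (tmul : ∀ x y, motive (XT.tmul ψ x y)) (add : ∀ v w, motive v → motive w → motive (v + w)) :
    motive v :=
  TensorProduct.induction_on (motive := fun v : E ⊗[k] N => motive v) v zero tmul add

theorem XTmap_comp (f : E →ₗ[R] E') (g : E' →ₗ[R] E'') (v : XT ψ E N) :
    XTmap ψ N (g ∘ₗ f) v = XTmap ψ N g (XTmap ψ N f v) := by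
  induction v using XT.induction_on with
  | zero => simp
  | tmul x y => rw [XTmap_tmul, XTmap_tmul, XTmap_tmul, LinearMap.comp_apply]
  | add v w hv hw => rw [map_add, hv, hw, map_add, map_add]

theorem XTmap_id (v : XT ψ E N) : XTmap ψ N (LinearMap.id : E →ₗ[R] E) v = v := by
  induction v using XT.induction_on with
  | zero => simp
  | tmul x y => rw [XTmap_tmul, LinearMap.id_apply]
  | add v w hv hw => rw [map_add, hv, hw]

theorem XTmap_injective (f : E →ₗ[R] E') (hf : Function.Injective f) :
    Function.Injective (XTmap ψ N f) := by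
  have h : Function.Injective (LinearMap.rTensor N (f.restrictScalars k)) :=
    Module.Flat.rTensor_preserves_injective_linearMap _ hf
  exact h

theorem XTmap_surjective (f : E →ₗ[R] E') (hf : Function.Surjective f) :
    Function.Surjective (XTmap ψ N f) := by
  have h : Function.Surjective (LinearMap.rTensor N (f.restrictScalars k)) :=
    LinearMap.rTensor_surjective _ hf
  exact h

theorem XTmap_exact (f : E →ₗ[R] E') (g : E' →ₗ[R] E'') (h : Function.Exact f g) :
    Function.Exact (XTmap ψ N f) (XTmap ψ N g) := by
  have h' : Function.Exact (LinearMap.rTensor N (f.restrictScalars k))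
      (LinearMap.rTensor N (g.restrictScalars k)) :=
    Module.Flat.rTensor_exact N (f := f.restrictScalars k) (g := g.restrictScalars k) h
  exact h'

end XT

end Groth.Agent.Helper7.Kun
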