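import Mathlib
import Groth.Prelude.Def_GrLC
import Groth.Prelude.Def_Wider
import Groth.Prelude.Def_GrSeg
import Groth.Agent.Helper7.KunE
import Groth.Agent.Helper6.GrCon

/-!
# Künneth project, part F: the Segre product `E # N` as a graded `T`-module, a direct summand of
`E ⊗ N`.
-/

set_option autoImplicit false
set_option linter.unusedSectionVars false
set_option linter.style.haveILetI false

namespace Groth.Agent.Helper7.Kun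

open TensorProduct Groth.Agent.Helper9.SegreMod Groth.Agent.Helper9.Segre Groth.Agent.Helper7.SegMod

universe u

section Act

variable {k : Type u} [Field k] {R S : Type u} [CommRing R] [Algebra k R] [CommRing S] [Algebra k S]
  (𝒜 : ℤ → Submodule k R) [GradedAlgebra 𝒜] (ℬ : ℤ → Submodule k S) [GradedAlgebra ℬ]
  {E : Type u} [AddCommGroup E] [Module R E] [Module k E] [IsScalarTower k R E]
  (ℰ : ℤ → AddSubgroup E) [DirectSum.Decomposition ℰ] [SetLike.GradedSMul 𝒜 ℰ]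
  {N : Type u} [AddCommGroup N] [Module S N] [Module k N] [IsScalarTower k S N]
  (𝒩 : ℤ → AddSubgroup N) [DirectSum.Decomposition 𝒩] [SetLike.GradedSMul ℬ 𝒩]

theorem act_segrePiece {j n : ℤ} {τ : R ⊗[k] S} (hτ : τ ∈ GrSeg.segrePiece k 𝒜 ℬ j)
    {v : E ⊗[k] N} (hv : v ∈ GrSeg.segrePiece k ℰ 𝒩 n) :
    GrSeg.act k R S E N τ v ∈ GrSeg.segrePiece k ℰ 𝒩 (j + n) := by
  unfold GrSeg.segrePiece at hτ
  induction hτ using Submodule.span_induction with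
  | mem τ hτ =>
    obtain ⟨a, ha, b, hb, rfl⟩ := hτ
    unfold GrSeg.segrePiece at hv
    induction hv using Submodule.span_induction with
    | mem v hv =>
      obtain ⟨x, hx, y, hy, rfl⟩ := hv
      rw [GrSeg.act_tmul]
      exact Submodule.subset_span ⟨_, SetLike.GradedSMul.smul_mem ha hx, _,
        SetLike.GradedSMul.smul_mem hb hy, rfl⟩
    | zero => rw [map_zero]; exact Submodule.zero_mem _
    | add v w _ _ hv hw => rw [map_add]; exact Submodule.add_mem _ hv hw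
    | smul c v _ hv => rw [map_smul]; exact Submodule.smul_mem _ _ hv
  | zero => rw [map_zero, LinearMap.zero_apply]; exact Submodule.zero_mem _
  | add τ σ _ _ h1 h2 => rw [map_add, LinearMap.add_apply]; exact Submodule.add_mem _ h1 h2
  | smul c τ _ h1 => rw [map_smul, LinearMap.smul_apply]; exact Submodule.smul_mem _ _ h1

theorem segrePiece_le_diagM (n : ℤ) : GrSeg.segrePiece k ℰ 𝒩 n ≤ diagM ℰ 𝒩 := by
  unfold GrSeg.segrePiece diagM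
  apply Submodule.span_mono
  rintro v ⟨x, hx, y, hy, rfl⟩
  exact ⟨n, x, y, hx, hy, rfl⟩

theorem segrePiece_le_diagSet (n : ℤ) :
    GrSeg.segrePiece k 𝒜 ℬ n ≤ Submodule.span k (diagSet 𝒜 ℬ) := by
  unfold GrSeg.segrePiece
  apply Submodule.span_mono
  rintro v ⟨x, hx, y, hy, rfl⟩
  exact ⟨n, x, y, hx, hy, rfl⟩

theorem act_diagM {τ : R ⊗[k] S} (hτ : τ ∈ Submodule.span k (diagSet 𝒜 ℬ))
    {v : E ⊗[k] N} (hv : v ∈ diagM ℰ 𝒩) : GrSeg.act k R S E N τ v ∈ diagM ℰ 𝒩 := by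
  induction hτ using Submodule.span_induction with
  | mem τ hτ =>
    obtain ⟨j, a, b, ha, hb, rfl⟩ := hτ
    unfold diagM at hv
    induction hv using Submodule.span_induction with
    | mem v hv =>
      obtain ⟨n, x, y, hx, hy, rfl⟩ := hv
      rw [GrSeg.act_tmul]
      exact Submodule.subset_span ⟨j + n, _, _, SetLike.GradedSMul.smul_mem ha hx,
        SetLike.GradedSMul.smul_mem hb hy, rfl⟩
    | zero => rw [map_zero]; exact Submodule.zero_mem _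
    | add v w _ _ hv hw => rw [map_add]; exact Submodule.add_mem _ hv hw
    | smul c v _ hv => rw [map_smul]; exact Submodule.smul_mem _ _ hv
  | zero => rw [map_zero, LinearMap.zero_apply]; exact Submodule.zero_mem _
  | add τ σ _ _ h1 h2 => rw [map_add, LinearMap.add_apply]; exact Submodule.add_mem _ h1 h2
  | smul c τ _ h1 => rw [map_smul, LinearMap.smul_apply]; exact Submodule.smul_mem _ _ h1

/-- the diagonal projection commutes with the action of diagonal elements -/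
theorem D_act_diag {τ : R ⊗[k] S} (hτ : τ ∈ Submodule.span k (diagSet 𝒜 ℬ)) (v : E ⊗[k] N) :
    D 𝒜 ℬ ℰ 𝒩 (GrSeg.act k R S E N τ v) = GrSeg.act k R S E N τ (D 𝒜 ℬ ℰ 𝒩 v) := by
  induction hτ using Submodule.span_induction with
  | mem τ hτ =>
    obtain ⟨j, a, b, ha, hb, rfl⟩ := hτ
    have hv : v ∈ Submodule.span k {v : E ⊗[k] N | ∃ (i j : ℤ) (x : E) (y : N),
        x ∈ ℰ i ∧ y ∈ 𝒩 j ∧ v = x ⊗ₜ y} := by
      rw [Groth.Agent.Helper9.SegreMod.span_homog]; trivial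
    induction hv using Submodule.span_induction with
    | mem v hv =>
      obtain ⟨p, q, x, y, hx, hy, rfl⟩ := hv
      have hax : a • x ∈ ℰ (j + p) := SetLike.GradedSMul.smul_mem ha hx
      have hby : b • y ∈ 𝒩 (j + q) := SetLike.GradedSMul.smul_mem hb hy
      rw [GrSeg.act_tmul, D_homog 𝒜 ℬ ℰ 𝒩 hax hby, D_homog 𝒜 ℬ ℰ 𝒩 hx hy]
      by_cases h : p = q
      · subst h
        rw [if_pos rfl, if_pos rfl, GrSeg.act_tmul]
      · have : ¬ (j + p = j + q) := fun h' => h (add_left_cancel h')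
        rw [if_neg h, if_neg this, map_zero]
    | zero => simp
    | add v w _ _ hv hw => simp only [map_add, hv, hw]
    | smul c v _ hv => simp only [map_smul, hv]
  | zero => simp
  | add τ σ _ _ h1 h2 => simp only [map_add, LinearMap.add_apply, h1, h2]
  | smul c τ _ h1 => simp only [map_smul, LinearMap.smul_apply, h1]

theorem D_mem_diagM (v : E ⊗[k] N) : D 𝒜 ℬ ℰ 𝒩 v ∈ diagM ℰ 𝒩 := by
  have hv : v ∈ Submodule.span k {v : E ⊗[k] N | ∃ (i j : ℤ) (x : E) (y : N),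
      x ∈ ℰ i ∧ y ∈ 𝒩 j ∧ v = x ⊗ₜ y} := by
    rw [Groth.Agent.Helper9.SegreMod.span_homog]; trivial
  induction hv using Submodule.span_induction with
  | mem v hv =>
    obtain ⟨p, q, x, y, hx, hy, rfl⟩ := hv
    rw [D_homog 𝒜 ℬ ℰ 𝒩 hx hy]
    split_ifs with h
    · subst h
      exact Submodule.subset_span ⟨p, x, y, hx, hy, rfl⟩
    · exact Submodule.zero_mem _
  | zero => rw [map_zero]; exact Submodule.zero_mem _
  | add v w _ _ hv hw => rw [map_add]; exact Submodule.add_mem _ hv hw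
  | smul c v _ hv => rw [map_smul]; exact Submodule.smul_mem _ _ hv

/-- the projection to bidegree `(n, n)` -/
noncomputable def prn (n : ℤ) : E ⊗[k] N →ₗ[k] E ⊗[k] N :=
  TensorProduct.map (proj 𝒜 ℰ n) (proj ℬ 𝒩 n)

theorem prn_mem (n : ℤ) (v : E ⊗[k] N) : prn 𝒜 ℬ ℰ 𝒩 n v ∈ GrSeg.segrePiece k ℰ 𝒩 n := by
  induction v using TensorProduct.induction_on with
  | zero => rw [map_zero]; exact Submodule.zero_mem _
  | tmul x y =>
    unfold prn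
    rw [TensorProduct.map_tmul]
    exact Submodule.subset_span ⟨_, (DirectSum.decompose ℰ x n).2, _,
      (DirectSum.decompose 𝒩 y n).2, rfl⟩
  | add v w hv hw => rw [map_add]; exact Submodule.add_mem _ hv hw

theorem prn_of_mem {i : ℤ} (n : ℤ) {v : E ⊗[k] N} (hv : v ∈ GrSeg.segrePiece k ℰ 𝒩 i) :
    prn 𝒜 ℬ ℰ 𝒩 n v = if i = n then v else 0 := by
  unfold GrSeg.segrePiece at hv
  induction hv using Submodule.span_induction with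
  | mem v hv =>
    obtain ⟨x, hx, y, hy, rfl⟩ := hv
    unfold prn
    rw [TensorProduct.map_tmul, proj_of_mem 𝒜 ℰ n hx, proj_of_mem ℬ 𝒩 n hy]
    split_ifs
    · rfl
    · rw [tmul_zero]
  | zero => simp
  | add v w _ _ hv hw =>
    rw [map_add, hv, hw]
    split_ifs <;> simp
  | smul c v _ hv =>
    rw [map_smul, hv]
    split_ifs <;> simp

theorem exists_sum_prn {v : E ⊗[k] N} (hv : v ∈ diagM ℰ 𝒩) :
    ∃ s : Finset ℤ, ∀ s' : Finset ℤ, s ⊆ s' → ∑ i ∈ s', prn 𝒜 ℬ ℰ 𝒩 i v = v := by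
  classical
  unfold diagM at hv
  induction hv using Submodule.span_induction with
  | mem v hv =>
    obtain ⟨n, x, y, hx, hy, rfl⟩ := hv
    refine ⟨{n}, fun s' hs' => ?_⟩
    have hmem : x ⊗ₜ[k] y ∈ GrSeg.segrePiece k ℰ 𝒩 n := Submodule.subset_span ⟨x, hx, y, hy, rfl⟩
    rw [Finset.sum_eq_single n]
    · rw [prn_of_mem 𝒜 ℬ ℰ 𝒩 n hmem, if_pos rfl]
    · intro i _ hi
      rw [prn_of_mem 𝒜 ℬ ℰ 𝒩 i hmem, if_neg (Ne.symm hi)]
    · intro h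
      exact absurd (hs' (Finset.mem_singleton_self n)) h
  | zero => exact ⟨∅, fun s' _ => by simp⟩
  | add v w _ _ hv hw =>
    obtain ⟨s1, h1⟩ := hv
    obtain ⟨s2, h2⟩ := hw
    refine ⟨s1 ∪ s2, fun s' hs' => ?_⟩
    simp only [map_add]
    rw [Finset.sum_add_distrib, h1 s' (Finset.union_subset_left hs'),
      h2 s' (Finset.union_subset_right hs')]
  | smul c v _ hv =>
    obtain ⟨s1, h1⟩ := hv
    refine ⟨s1, fun s' hs' => ?_⟩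
    simp only [map_smul]
    rw [← Finset.smul_sum, h1 s' hs']

end Act

section Diag

variable {k : Type u} [Field k] {R S T : Type u} [CommRing R] [Algebra k R] [CommRing S] [Algebra k S]
  [CommRing T] [Algebra k T]
  (𝒜 : ℤ → Submodule k R) [GradedAlgebra 𝒜] (ℬ : ℤ → Submodule k S) [GradedAlgebra ℬ]
  (𝒯 : ℤ → Submodule k T) [GradedAlgebra 𝒯] (ψ : T →ₐ[k] R ⊗[k] S)
  (hT : GrSeg.IsSegreRing 𝒜 ℬ 𝒯 ψ)
  {E : Type u} [AddCommGroup E] [Module R E] [Module k E] [IsScalarTower k R E]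
  (ℰ : ℤ → AddSubgroup E) [DirectSum.Decomposition ℰ] [SetLike.GradedSMul 𝒜 ℰ]
  {E' : Type u} [AddCommGroup E'] [Module R E'] [Module k E'] [IsScalarTower k R E']
  (ℰ' : ℤ → AddSubgroup E') [DirectSum.Decomposition ℰ'] [SetLike.GradedSMul 𝒜 ℰ']
  {N : Type u} [AddCommGroup N] [Module S N] [Module k N] [IsScalarTower k S N]
  (𝒩 : ℤ → AddSubgroup N) [DirectSum.Decomposition 𝒩] [SetLike.GradedSMul ℬ 𝒩]

include hT in
theorem psi_mem_diagSet (t : T) : ψ t ∈ Submodule.span k (diagSet 𝒜 ℬ) :=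
  Groth.Agent.Helper7.SegDim.psi_mem_span 𝒜 ℬ 𝒯 ψ hT.2 t

include hT in
theorem psi_mem_segrePiece {j : ℤ} {t : T} (ht : t ∈ 𝒯 j) : ψ t ∈ GrSeg.segrePiece k 𝒜 ℬ j := by
  rw [← hT.2 j]
  exact ⟨t, ht, rfl⟩

/-- the Segre product `E # N` as a `T`-submodule of `E ⊗ N` -/
def diagT : Submodule T (XT ψ E N) where
  carrier := {v | (show E ⊗[k] N from v) ∈ diagM ℰ 𝒩}
  add_mem' := fun {v w} hv hw => (diagM ℰ 𝒩).add_mem hv hw
  zero_mem' := (diagM ℰ 𝒩).zero_mem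
  smul_mem' := fun t v hv => by
    show GrSeg.act k R S E N (ψ t) _ ∈ diagM ℰ 𝒩
    exact act_diagM 𝒜 ℬ ℰ 𝒩 (psi_mem_diagSet 𝒜 ℬ 𝒯 ψ hT t) hv

theorem mem_diagT {v : XT ψ E N} :
    v ∈ diagT 𝒜 ℬ 𝒯 ψ hT ℰ 𝒩 ↔ (show E ⊗[k] N from v) ∈ diagM ℰ 𝒩 := Iff.rfl

/-- the `T`-linear retraction of `E ⊗ N` onto `E # N` -/
noncomputable def Dret : XT ψ E N →ₗ[T] ↥(diagT 𝒜 ℬ 𝒯 ψ hT ℰ 𝒩) where
  toFun v := ⟨(D 𝒜 ℬ ℰ 𝒩 (show E ⊗[k] N from v) : E ⊗[k] N), D_mem_diagM 𝒜 ℬ ℰ 𝒩 _⟩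
  map_add' v w := Subtype.ext (map_add (D 𝒜 ℬ ℰ 𝒩) _ _)
  map_smul' t v := Subtype.ext (by
    show D 𝒜 ℬ ℰ 𝒩 (GrSeg.act k R S E N (ψ t) _) = GrSeg.act k R S E N (ψ t) (D 𝒜 ℬ ℰ 𝒩 _)
    exact D_act_diag 𝒜 ℬ ℰ 𝒩 (psi_mem_diagSet 𝒜 ℬ 𝒯 ψ hT t) _)

theorem Dret_coe (v : XT ψ E N) :
    ((Dret 𝒜 ℬ 𝒯 ψ hT ℰ 𝒩 v : XT ψ E N) : E ⊗[k] N) = D 𝒜 ℬ ℰ 𝒩 (show E ⊗[k] N from v) := rfl

theorem Dret_subtype (v : ↥(diagT 𝒜 ℬ 𝒯 ψ hT ℰ 𝒩)) : Dret 𝒜 ℬ 𝒯 ψ hT ℰ 𝒩 (v : XT ψ E N) = v :=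
  Subtype.ext (D_fix 𝒜 ℬ ℰ 𝒩 _ v.2)

/-- the graded pieces of `E # N` -/
def diagGr : ℤ → AddSubgroup ↥(diagT 𝒜 ℬ 𝒯 ψ hT ℰ 𝒩) := fun n =>
  { carrier := {v | (show E ⊗[k] N from (v : XT ψ E N)) ∈ GrSeg.segrePiece k ℰ 𝒩 n}
    add_mem' := fun {v w} hv hw => (GrSeg.segrePiece k ℰ 𝒩 n).add_mem hv hw
    zero_mem' := (GrSeg.segrePiece k ℰ 𝒩 n).zero_mem
    neg_mem' := fun {v} hv => (GrSeg.segrePiece k ℰ 𝒩 n).neg_mem hv }

theorem mem_diagGr {n : ℤ} {v : ↥(diagT 𝒜 ℬ 𝒯 ψ hT ℰ 𝒩)} :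
    v ∈ diagGr 𝒜 ℬ 𝒯 ψ hT ℰ 𝒩 n ↔
      (show E ⊗[k] N from (v : XT ψ E N)) ∈ GrSeg.segrePiece k ℰ 𝒩 n := Iff.rfl

theorem isInternal_diagGr : DirectSum.IsInternal (diagGr 𝒜 ℬ 𝒯 ψ hT ℰ 𝒩) := by
  classical
  apply Groth.Agent.Helper6.GrCon.isInternal_of_proj (diagGr 𝒜 ℬ 𝒯 ψ hT ℰ 𝒩)
    (fun n v => ⟨(prn 𝒜 ℬ ℰ 𝒩 n (show E ⊗[k] N from (v : XT ψ E N)) : E ⊗[k] N),
      segrePiece_le_diagM ℰ 𝒩 n (prn_mem 𝒜 ℬ ℰ 𝒩 n _)⟩)
  · intro n v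
    exact prn_mem 𝒜 ℬ ℰ 𝒩 n _
  · intro n v hv
    apply Subtype.ext
    show prn 𝒜 ℬ ℰ 𝒩 n _ = _
    rw [prn_of_mem 𝒜 ℬ ℰ 𝒩 n hv, if_pos rfl]
  · intro i j v hv hij
    apply Subtype.ext
    show prn 𝒜 ℬ ℰ 𝒩 j _ = _
    rw [prn_of_mem 𝒜 ℬ ℰ 𝒩 j hv, if_neg hij]
    rfl
  · intro j v w
    apply Subtype.ext
    exact map_add (prn 𝒜 ℬ ℰ 𝒩 j) _ _
  · intro v
    obtain ⟨s, hs⟩ := exists_sum_prn 𝒜 ℬ ℰ 𝒩 v.2
    refine ⟨s, ?_⟩
    apply Subtype.ext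
    rw [Submodule.coe_sum]
    exact hs s (Finset.Subset.refl s)

theorem gradedSMul_diagGr : SetLike.GradedSMul (plus 𝒯) (diagGr 𝒜 ℬ 𝒯 ψ hT ℰ 𝒩) :=
  ⟨fun {j n} {t v} ht hv => by
    show GrSeg.act k R S E N (ψ t) _ ∈ GrSeg.segrePiece k ℰ 𝒩 (j + n)
    exact act_segrePiece 𝒜 ℬ ℰ 𝒩 (psi_mem_segrePiece 𝒜 ℬ 𝒯 ψ hT ((mem_plus 𝒯).mp ht)) hv⟩

/-- `E # N` as a bundled graded `T`-module -/
noncomputable def diagMod : GrLC.GMod.{u} (plus 𝒯) :=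
  letI := (isInternal_diagGr 𝒜 ℬ 𝒯 ψ hT ℰ 𝒩).chooseDecomposition
  letI := gradedSMul_diagGr 𝒜 ℬ 𝒯 ψ hT ℰ 𝒩
  { carrier := ↥(diagT 𝒜 ℬ 𝒯 ψ hT ℰ 𝒩), gr := diagGr 𝒜 ℬ 𝒯 ψ hT ℰ 𝒩 }

end Diag

end Groth.Agent.Helper7.Kun
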