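import Mathlib
import Groth.Prelude.Def_GrLC
import Groth.Prelude.Def_Wider
import Groth.Prelude.Def_GrSeg
import Groth.Agent.Helper7.KunG

/-!
# Künneth project, part H: `Γ_{T_+}(E ⊗ N) = Γ_m(E) ⊗ N` when a homogeneous element of positive
degree acts bijectively on `N`.
-/

set_option autoImplicit false
set_option linter.unusedSectionVars false
set_option linter.style.haveILetI false

namespace Groth.Agent.Helper7.Kun

open TensorProduct Groth.Agent.Helper9.SegreMod Groth.Agent.Helper9.Segre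
  Groth.Agent.Helper7.SegMod

universe u

section Gam

variable {k : Type u} [Field k] {R S T : Type u} [CommRing R] [Algebra k R] [CommRing S] [Algebra k S]
  [CommRing T] [Algebra k T]
  (𝒜 : ℤ → Submodule k R) [GradedAlgebra 𝒜] (ℬ : ℤ → Submodule k S) [GradedAlgebra ℬ]
  (𝒯 : ℤ → Submodule k T) [GradedAlgebra 𝒯] (ψ : T →ₐ[k] R ⊗[k] S)
  (hT : GrSeg.IsSegreRing 𝒜 ℬ 𝒯 ψ)
  (mR : Ideal R)
  (hmR : mR = Ideal.span (⋃ n ∈ Set.Ioi (0 : ℤ), (𝒜 n : Set R)))
  (mT : Ideal T)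
  (hmT : mT = Ideal.span (⋃ n ∈ Set.Ioi (0 : ℤ), (𝒯 n : Set T)))
  {E : Type u} [AddCommGroup E] [Module R E] [Module k E] [IsScalarTower k R E]
  {E' : Type u} [AddCommGroup E'] [Module R E'] [Module k E'] [IsScalarTower k R E']
  {N : Type u} [AddCommGroup N] [Module S N] [Module k N] [IsScalarTower k S N]

theorem act_map_pow_eq_zero {K : ℕ} {x : E} (hx : ∀ r ∈ mR ^ K, r • x = 0) (y : N)
    {τ : R ⊗[k] S} (hτ : τ ∈ (idA (S := S) mR) ^ K) :
    GrSeg.act k R S E N τ (x ⊗ₜ[k] y) = 0 := by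
  unfold idA at hτ
  rw [← Ideal.map_pow] at hτ
  unfold Ideal.map at hτ
  induction hτ using Submodule.span_induction with
  | mem τ hτ =>
    obtain ⟨r, hr, rfl⟩ := hτ
    rw [Algebra.TensorProduct.algebraMap_apply, Algebra.algebraMap_self, RingHom.id_apply,
      GrSeg.act_tmul, hx r hr, zero_tmul]
  | zero => simp
  | add τ σ _ _ h1 h2 => rw [map_add, LinearMap.add_apply, h1, h2, add_zero]
  | smul c τ _ h1 => rw [smul_eq_mul, act_mul, h1, map_zero]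

include hT hmR hmT in
/-- the easy inclusion `Γ_m(E) ⊗ N ⊆ Γ_{T_+}(E ⊗ N)` -/
theorem tmul_mem_gam {x : E} (hx : x ∈ GrLC.gam mR E) (y : N) :
    XT.tmul ψ x y ∈ GrLC.gam mT (XT ψ E N) := by
  obtain ⟨K, hK⟩ := hx
  refine ⟨K, fun t ht => ?_⟩
  have h1 : ψ t ∈ (idC ψ mT) ^ K := by
    unfold idC
    rw [← Ideal.map_pow]
    exact Ideal.mem_map_of_mem _ ht
  have h2 : ψ t ∈ (idA (S := S) mR) ^ K :=
    Ideal.pow_right_mono ((idC_le 𝒜 ℬ 𝒯 ψ hT mR hmR _ rfl mT hmT).trans inf_le_left) K h1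
  exact act_map_pow_eq_zero mR hK y h2

theorem pow_smul_bijective (g : S) (hgN : Function.Bijective (fun y : N => g • y)) (n : ℕ) :
    Function.Bijective (fun y : N => g ^ n • y) := by
  induction n with
  | zero =>
    have : (fun y : N => g ^ 0 • y) = id := by
      funext y
      simp
    rw [this]
    exact Function.bijective_id
  | succ n ih =>
    have : (fun y : N => g ^ (n + 1) • y) = (fun y : N => g ^ n • y) ∘ (fun y : N => g • y) := by
      funext y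
      simp [pow_succ, mul_smul]
    rw [this]
    exact ih.comp hgN

attribute [local instance] Groth.Agent.Helper9.SegreMod.tensorModule in
include hT hmT in
theorem exists_pow_smul_eq_zero (e : ℕ) (he : 0 < e) (g : S) (hg : g ∈ ℬ (e : ℤ))
    (hgN : Function.Bijective (fun y : N => g • y)) {v : XT ψ E N}
    (hv : v ∈ GrLC.gam mT (XT ψ E N)) {j : ℤ} (hj : 0 < j) {a : R} (ha : a ∈ 𝒜 j) :
    ∃ m : ℕ, (a ^ m) • (show E ⊗[k] N from v) = 0 := by
  obtain ⟨K, hK⟩ := hv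
  obtain ⟨p, rfl⟩ := Int.eq_ofNat_of_zero_le hj.le
  have hp : 0 < p := by exact_mod_cast hj
  have h1 : a ^ e ∈ 𝒜 ((p : ℤ) * (e : ℤ)) := by
    have := SetLike.pow_mem_graded e ha
    rwa [nsmul_eq_mul, mul_comm] at this
  have h2 : g ^ p ∈ ℬ ((p : ℤ) * (e : ℤ)) := by
    have := SetLike.pow_mem_graded p hg
    rwa [nsmul_eq_mul] at this
  have h3 : (a ^ e) ⊗ₜ[k] (g ^ p) ∈ (𝒯 ((p : ℤ) * (e : ℤ))).map ψ.toLinearMap := by
    rw [hT.2]
    exact Submodule.subset_span ⟨_, h1, _, h2, rfl⟩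
  obtain ⟨t, ht, hte⟩ := h3
  have hte' : ψ t = (a ^ e) ⊗ₜ[k] (g ^ p) := hte
  have htm : t ∈ mT := by
    rw [hmT]
    apply Ideal.subset_span
    simp only [Set.mem_iUnion, Set.mem_Ioi, SetLike.mem_coe, exists_prop]
    exact ⟨_, mul_pos hj (by exact_mod_cast he), ht⟩
  have h4 := hK (t ^ K) (Ideal.pow_mem_pow htm K)
  rw [XT.smul_def, map_pow, hte', Algebra.TensorProduct.tmul_pow] at h4
  have h5 : ((a ^ e) ^ K) ⊗ₜ[k] ((g ^ p) ^ K) =
      ((1 : R) ⊗ₜ[k] ((g ^ p) ^ K)) * (((a ^ e) ^ K) ⊗ₜ[k] (1 : S)) := by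
    rw [Algebra.TensorProduct.tmul_mul_tmul, one_mul, mul_one]
  rw [h5, act_mul, act_left] at h4
  refine ⟨e * K, ?_⟩
  have hbij := smul_one_tmul_bijective (k := k) (R := R) (E := E) (N := N) ((g ^ p) ^ K)
    (by rw [← pow_mul]; exact pow_smul_bijective g hgN _)
  apply hbij.1
  show GrSeg.act k R S E N ((1 : R) ⊗ₜ[k] ((g ^ p) ^ K)) _ =
    GrSeg.act k R S E N ((1 : R) ⊗ₜ[k] ((g ^ p) ^ K)) 0
  rw [map_zero, pow_mul]
  exact h4

include hT hmR hmT in
theorem mem_gam_left [IsNoetherianRing R] (e : ℕ) (he : 0 < e) (g : S) (hg : g ∈ ℬ (e : ℤ))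
    (hgN : Function.Bijective (fun y : N => g • y)) {v : XT ψ E N}
    (hv : v ∈ GrLC.gam mT (XT ψ E N)) :
    (show E ⊗[k] N from v) ∈ GrLC.gam mR (E ⊗[k] N) := by
  have h : mR ≤ (Ideal.torsionOf R (E ⊗[k] N) (show E ⊗[k] N from v)).radical := by
    rw [hmR, Ideal.span_le]
    intro a ha
    simp only [Set.mem_iUnion, Set.mem_Ioi, SetLike.mem_coe, exists_prop] at ha
    obtain ⟨j, hj, haj⟩ := ha
    obtain ⟨m, hm⟩ := exists_pow_smul_eq_zero 𝒜 ℬ 𝒯 ψ hT mT hmT e he g hg hgN hv hj haj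
    exact ⟨m, (Ideal.mem_torsionOf_iff _ _).mpr hm⟩
  obtain ⟨n, hn⟩ := Ideal.exists_pow_le_of_le_radical_of_fg h
    ((isNoetherianRing_iff_ideal_fg _).mp inferInstance _)
  exact ⟨n, fun r hr => (Ideal.mem_torsionOf_iff _ _).mp (hn hr)⟩

theorem tensorEquivFinsupp_symm_single (β : Module.Free.ChooseBasisIndex k N) (x : E) :
    (tensorEquivFinsupp (k := k) (R := R) (E := E) (N := N)).symm (Finsupp.single β x) =
      x ⊗ₜ[k] (Module.Free.chooseBasis k N β) := by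
  classical
  unfold tensorEquivFinsupp
  rw [LinearEquiv.symm_trans_apply, TensorProduct.finsuppScalarRight_symm_apply_single]
  simp

theorem gam_tensor_le {v : E ⊗[k] N} (hv : v ∈ GrLC.gam mR (E ⊗[k] N)) :
    (show XT ψ E N from v) ∈ LinearMap.range (XTmap ψ N (GrLC.gam mR E).subtype) := by
  classical
  set Φ := tensorEquivFinsupp (k := k) (R := R) (E := E) (N := N) with hΦ
  have hf : ∀ β, (Φ v) β ∈ GrLC.gam mR E := by
    intro β
    obtain ⟨n, hn⟩ := hv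
    refine ⟨n, fun r hr => ?_⟩
    have h1 : r • Φ v = 0 := by rw [← map_smul, hn r hr, map_zero]
    have h2 := congrArg (fun f => f β) h1
    simpa using h2
  have h3 : v = Φ.symm (Φ v) := (Φ.symm_apply_apply v).symm
  rw [h3, ← Finsupp.sum_single (Φ v), Finsupp.sum, map_sum]
  apply Submodule.sum_mem (LinearMap.range (XTmap ψ N (GrLC.gam mR E).subtype))
  intro β _
  refine ⟨XT.tmul ψ ⟨(Φ v) β, hf β⟩ (Module.Free.chooseBasis k N β), ?_⟩
  rw [XTmap_tmul]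
  exact (tensorEquivFinsupp_symm_single (k := k) (R := R) (E := E) (N := N) β _).symm

include hT hmR hmT in
/-- the inclusion `Γ_{T_+}(E ⊗ N) ⊆ Γ_m(E) ⊗ N` -/
theorem gam_XT_le [IsNoetherianRing R] (e : ℕ) (he : 0 < e) (g : S) (hg : g ∈ ℬ (e : ℤ))
    (hgN : Function.Bijective (fun y : N => g • y)) {v : XT ψ E N}
    (hv : v ∈ GrLC.gam mT (XT ψ E N)) :
    v ∈ LinearMap.range (XTmap ψ N (GrLC.gam mR E).subtype) :=
  gam_tensor_le ψ mR (mem_gam_left 𝒜 ℬ 𝒯 ψ hT mR hmR mT hmT e he g hg hgN hv)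

include hT hmR hmT in
/-- cocycles of `Γ_{T_+}(E ⊗ N)` come from `Z ⊗ N` -/
theorem cocycle_lift [IsNoetherianRing R] (e : ℕ) (he : 0 < e) (g : S) (hg : g ∈ ℬ (e : ℤ))
    (hgN : Function.Bijective (fun y : N => g • y)) (d : E →ₗ[R] E') {v : XT ψ E N}
    (hv : v ∈ GrLC.gam mT (XT ψ E N)) (hd : XTmap ψ N d v = 0) :
    v ∈ LinearMap.range (XTmap ψ N (GrLC.gam mR E ⊓ LinearMap.ker d).subtype) := by
  obtain ⟨w, rfl⟩ := gam_XT_le 𝒜 ℬ 𝒯 ψ hT mR hmR mT hmT e he g hg hgN hv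
  rw [← XTmap_comp] at hd
  have hex : Function.Exact
      (Submodule.inclusion (inf_le_left : GrLC.gam mR E ⊓ LinearMap.ker d ≤ GrLC.gam mR E))
      (d ∘ₗ (GrLC.gam mR E).subtype) := by
    intro x
    constructor
    · intro hx
      exact ⟨⟨x.1, x.2, hx⟩, rfl⟩
    · rintro ⟨z, rfl⟩
      exact z.2.2
  obtain ⟨u, rfl⟩ := (XTmap_exact (ψ := ψ) (N := N) _ _ hex w).mp hd
  refine ⟨u, ?_⟩
  rw [← XTmap_comp]
  rfl

end Gam

end Groth.Agent.Helper7.Kun
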