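import Mathlib
import Groth.Prelude.Def_GrLC
import Groth.Prelude.Def_Wider
import Groth.Prelude.Def_GrSeg
import Groth.Agent.Helper7.KunH

/-!
# Künneth project, part I: functoriality of `E # N` in `E` and exactness.
-/

set_option autoImplicit false
set_option linter.unusedSectionVars false
set_option linter.style.haveILetI false

namespace Groth.Agent.Helper7.Kun

open TensorProduct Groth.Agent.Helper9.SegreMod Groth.Agent.Helper9.Segre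
  Groth.Agent.Helper7.SegMod

universe u

section Fun

variable {k : Type u} [Field k] {R S T : Type u} [CommRing R] [Algebra k R] [CommRing S] [Algebra k S]
  [CommRing T] [Algebra k T]
  (𝒜 : ℤ → Submodule k R) [GradedAlgebra 𝒜] (ℬ : ℤ → Submodule k S) [GradedAlgebra ℬ]
  (𝒯 : ℤ → Submodule k T) [GradedAlgebra 𝒯] (ψ : T →ₐ[k] R ⊗[k] S)
  (hT : GrSeg.IsSegreRing 𝒜 ℬ 𝒯 ψ)
  {E : Type u} [AddCommGroup E] [Module R E] [Module k E] [IsScalarTower k R E]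
  (ℰ : ℤ → AddSubgroup E) [DirectSum.Decomposition ℰ] [SetLike.GradedSMul 𝒜 ℰ]
  {E' : Type u} [AddCommGroup E'] [Module R E'] [Module k E'] [IsScalarTower k R E']
  (ℰ' : ℤ → AddSubgroup E') [DirectSum.Decomposition ℰ'] [SetLike.GradedSMul 𝒜 ℰ']
  {E'' : Type u} [AddCommGroup E''] [Module R E''] [Module k E''] [IsScalarTower k R E'']
  (ℰ'' : ℤ → AddSubgroup E'') [DirectSum.Decomposition ℰ''] [SetLike.GradedSMul 𝒜 ℰ'']
  {N : Type u} [AddCommGroup N] [Module S N] [Module k N] [IsScalarTower k S N]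
  (𝒩 : ℤ → AddSubgroup N) [DirectSum.Decomposition 𝒩] [SetLike.GradedSMul ℬ 𝒩]

theorem map_mem_segrePiece (f : E →ₗ[R] E') (hf : GrLC.IsGrHom ℰ ℰ' f) {n : ℤ} {v : E ⊗[k] N}
    (hv : v ∈ GrSeg.segrePiece k ℰ 𝒩 n) :
    TensorProduct.map (f.restrictScalars k) (LinearMap.id : N →ₗ[k] N) v ∈
      GrSeg.segrePiece k ℰ' 𝒩 n := by
  unfold GrSeg.segrePiece at hv
  induction hv using Submodule.span_induction with
  | mem v hv =>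
    obtain ⟨x, hx, y, hy, rfl⟩ := hv
    rw [TensorProduct.map_tmul]
    exact Submodule.subset_span ⟨_, hf n x hx, _, hy, rfl⟩
  | zero => rw [map_zero]; exact Submodule.zero_mem _
  | add v w _ _ hv hw => rw [map_add]; exact Submodule.add_mem _ hv hw
  | smul c v _ hv => rw [map_smul]; exact Submodule.smul_mem _ _ hv

theorem map_mem_diagM (f : E →ₗ[R] E') (hf : GrLC.IsGrHom ℰ ℰ' f) {v : E ⊗[k] N}
    (hv : v ∈ diagM ℰ 𝒩) :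
    TensorProduct.map (f.restrictScalars k) (LinearMap.id : N →ₗ[k] N) v ∈ diagM ℰ' 𝒩 := by
  unfold diagM at hv
  induction hv using Submodule.span_induction with
  | mem v hv =>
    obtain ⟨n, x, y, hx, hy, rfl⟩ := hv
    rw [TensorProduct.map_tmul]
    exact Submodule.subset_span ⟨n, _, _, hf n x hx, hy, rfl⟩
  | zero => rw [map_zero]; exact Submodule.zero_mem _
  | add v w _ _ hv hw => rw [map_add]; exact Submodule.add_mem _ hv hw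
  | smul c v _ hv => rw [map_smul]; exact Submodule.smul_mem _ _ hv

theorem D_map (f : E →ₗ[R] E') (hf : GrLC.IsGrHom ℰ ℰ' f) (v : E ⊗[k] N) :
    D 𝒜 ℬ ℰ' 𝒩 (TensorProduct.map (f.restrictScalars k) (LinearMap.id : N →ₗ[k] N) v) =
      TensorProduct.map (f.restrictScalars k) (LinearMap.id : N →ₗ[k] N) (D 𝒜 ℬ ℰ 𝒩 v) := by
  have hv : v ∈ Submodule.span k {v : E ⊗[k] N | ∃ (i j : ℤ) (x : E) (y : N),
      x ∈ ℰ i ∧ y ∈ 𝒩 j ∧ v = x ⊗ₜ y} := by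
    rw [Groth.Agent.Helper9.SegreMod.span_homog]; trivial
  induction hv using Submodule.span_induction with
  | mem v hv =>
    obtain ⟨p, q, x, y, hx, hy, rfl⟩ := hv
    rw [TensorProduct.map_tmul, D_homog 𝒜 ℬ ℰ 𝒩 hx hy]
    have hfx : f x ∈ ℰ' p := hf p x hx
    have h1 : (f.restrictScalars k) x = f x := rfl
    rw [h1, LinearMap.id_apply, D_homog 𝒜 ℬ ℰ' 𝒩 hfx hy]
    split_ifs
    · rw [TensorProduct.map_tmul]; rfl
    · rw [map_zero]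
  | zero => simp
  | add v w _ _ hv hw => simp only [map_add, hv, hw]
  | smul c v _ hv => simp only [map_smul, hv]

/-- the map `E # N → E' # N` induced by a graded map `E → E'` -/
noncomputable def diagMap (f : E →ₗ[R] E') (hf : GrLC.IsGrHom ℰ ℰ' f) :
    ↥(diagT 𝒜 ℬ 𝒯 ψ hT ℰ 𝒩) →ₗ[T] ↥(diagT 𝒜 ℬ 𝒯 ψ hT ℰ' 𝒩) :=
  (XTmap ψ N f).restrict (fun _ hv => map_mem_diagM ℰ ℰ' 𝒩 f hf hv)

theorem diagMap_coe (f : E →ₗ[R] E') (hf : GrLC.IsGrHom ℰ ℰ' f) (v : ↥(diagT 𝒜 ℬ 𝒯 ψ hT ℰ 𝒩)) :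
    (diagMap 𝒜 ℬ 𝒯 ψ hT ℰ ℰ' 𝒩 f hf v : XT ψ E' N) = XTmap ψ N f (v : XT ψ E N) := rfl

theorem diagMap_grHom (f : E →ₗ[R] E') (hf : GrLC.IsGrHom ℰ ℰ' f) :
    GrLC.IsGrHom (diagGr 𝒜 ℬ 𝒯 ψ hT ℰ 𝒩) (diagGr 𝒜 ℬ 𝒯 ψ hT ℰ' 𝒩)
      (diagMap 𝒜 ℬ 𝒯 ψ hT ℰ ℰ' 𝒩 f hf) := by
  intro n v hv
  exact map_mem_segrePiece ℰ ℰ' 𝒩 f hf hv

theorem Dret_XTmap (f : E →ₗ[R] E') (hf : GrLC.IsGrHom ℰ ℰ' f) (v : XT ψ E N) :
    Dret 𝒜 ℬ 𝒯 ψ hT ℰ' 𝒩 (XTmap ψ N f v) =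
      diagMap 𝒜 ℬ 𝒯 ψ hT ℰ ℰ' 𝒩 f hf (Dret 𝒜 ℬ 𝒯 ψ hT ℰ 𝒩 v) :=
  Subtype.ext (D_map 𝒜 ℬ ℰ ℰ' 𝒩 f hf _)

theorem diagMap_injective (f : E →ₗ[R] E') (hf : GrLC.IsGrHom ℰ ℰ' f)
    (hinj : Function.Injective f) : Function.Injective (diagMap 𝒜 ℬ 𝒯 ψ hT ℰ ℰ' 𝒩 f hf) := by
  intro v w h
  apply Subtype.ext
  apply XTmap_injective (ψ := ψ) (N := N) f hinj
  exact congrArg Subtype.val h

/-- exactness of `- # N` -/
theorem diagMap_exact (f : E →ₗ[R] E') (hf : GrLC.IsGrHom ℰ ℰ' f)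
    (g : E' →ₗ[R] E'') (hg : GrLC.IsGrHom ℰ' ℰ'' g) (h : Function.Exact f g) :
    LinearMap.ker (diagMap 𝒜 ℬ 𝒯 ψ hT ℰ' ℰ'' 𝒩 g hg) =
      LinearMap.range (diagMap 𝒜 ℬ 𝒯 ψ hT ℰ ℰ' 𝒩 f hf) := by
  apply le_antisymm
  · intro v hv
    have h1 : XTmap ψ N g (v : XT ψ E' N) = 0 := congrArg Subtype.val (LinearMap.mem_ker.mp hv)
    obtain ⟨w, hw⟩ := (XTmap_exact (ψ := ψ) (N := N) f g h _).mp h1
    refine ⟨Dret 𝒜 ℬ 𝒯 ψ hT ℰ 𝒩 w, ?_⟩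
    rw [← Dret_XTmap, hw, Dret_subtype]
  · rintro _ ⟨w, rfl⟩
    rw [LinearMap.mem_ker]
    apply Subtype.ext
    rw [diagMap_coe, diagMap_coe]
    exact (XTmap_exact (ψ := ψ) (N := N) f g h _).mpr ⟨_, rfl⟩

end Fun

end Groth.Agent.Helper7.Kun
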