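import Mathlib
import Groth.Prelude.Def_GrLC
import Groth.Prelude.Def_Wider
import Groth.Prelude.Def_GrSeg
import Groth.Agent.Helper7.KunI

/-!
# Künneth project, part J: the resolution `E^• # N` of `M # N` and the comparison isomorphism.
-/

set_option autoImplicit false
set_option linter.unusedSectionVars false
set_option linter.style.haveILetI false

namespace Groth.Agent.Helper7.Kun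

open TensorProduct Groth.Agent.Helper9.SegreMod Groth.Agent.Helper9.Segre
  Groth.Agent.Helper7.SegMod

universe u

section Inst

variable {k R : Type u} [Field k] [CommRing R] [Algebra k R] {𝒜 : ℤ → Submodule k R}
  [GradedAlgebra 𝒜]

/-- the `k`-vector space structure of a graded module over a graded `k`-algebra -/
@[reducible] noncomputable def gmodModuleK (Y : GrLC.GMod.{u} 𝒜) : Module k Y.carrier :=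
  Module.compHom Y.carrier (algebraMap k R)

attribute [local instance] gmodModuleK

theorem gmodTowerK (Y : GrLC.GMod.{u} 𝒜) : IsScalarTower k R Y.carrier := ⟨fun c r y => by
  show (c • r) • y = algebraMap k R c • (r • y)
  rw [Algebra.smul_def, mul_smul]⟩

end Inst

attribute [local instance] gmodModuleK gmodTowerK

section Aug

variable {k : Type u} [Field k] {R S T : Type u} [CommRing R] [Algebra k R] [CommRing S] [Algebra k S]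
  [CommRing T] [Algebra k T]
  (𝒜 : ℤ → Submodule k R) [GradedAlgebra 𝒜] (ℬ : ℤ → Submodule k S) [GradedAlgebra ℬ]
  (𝒯 : ℤ → Submodule k T) [GradedAlgebra 𝒯] (ψ : T →ₐ[k] R ⊗[k] S)
  (hT : GrSeg.IsSegreRing 𝒜 ℬ 𝒯 ψ)
  {M : Type u} [AddCommGroup M] [Module R M] [Module k M] [IsScalarTower k R M]
  (ℳ : ℤ → AddSubgroup M) [DirectSum.Decomposition ℳ] [SetLike.GradedSMul 𝒜 ℳ]
  {N : Type u} [AddCommGroup N] [Module S N] [Module k N] [IsScalarTower k S N]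
  (𝒩 : ℤ → AddSubgroup N) [DirectSum.Decomposition 𝒩] [SetLike.GradedSMul ℬ 𝒩]
  {P : Type u} [AddCommGroup P] [Module T P] [Module k P] [IsScalarTower k T P]
  (𝒬 : ℤ → AddSubgroup P) [DirectSum.Decomposition 𝒬] [SetLike.GradedSMul 𝒯 𝒬]
  (φ : P →ₗ[k] M ⊗[k] N) (hP : GrSeg.IsSegreMod ψ ℳ 𝒩 𝒬 φ)

/-- `φ` as a `T`-linear map onto `M # N ⊆ M ⊗ N` -/
noncomputable def phiT : P →ₗ[T] ↥(diagT 𝒜 ℬ 𝒯 ψ hT ℳ 𝒩) where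
  toFun p := ⟨(φ p : M ⊗[k] N), phi_mem_diagM ℳ 𝒩 ψ 𝒬 φ hP p⟩
  map_add' p p' := Subtype.ext (map_add φ p p')
  map_smul' t p := Subtype.ext (hP.map_smul t p)

theorem phiT_coe (p : P) : ((phiT 𝒜 ℬ 𝒯 ψ hT ℳ 𝒩 𝒬 φ hP p : XT ψ M N) : M ⊗[k] N) = φ p := rfl

theorem phiT_injective : Function.Injective (phiT 𝒜 ℬ 𝒯 ψ hT ℳ 𝒩 𝒬 φ hP) := by
  intro p p' h
  exact hP.injective (congrArg Subtype.val h)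

theorem phiT_surjective : Function.Surjective (phiT 𝒜 ℬ 𝒯 ψ hT ℳ 𝒩 𝒬 φ hP) := by
  rintro ⟨v, hv⟩
  have h1 : diagM ℳ 𝒩 ≤ LinearMap.range φ := by
    unfold diagM
    rw [Submodule.span_le]
    rintro _ ⟨n, x, y, hx, hy, rfl⟩
    have h2 : x ⊗ₜ[k] y ∈ (GrSeg.segrePiece k ℳ 𝒩 n : Set (M ⊗[k] N)) :=
      Submodule.subset_span ⟨x, hx, y, hy, rfl⟩
    rw [← hP.image_piece n] at h2
    obtain ⟨p, -, hp⟩ := h2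
    exact ⟨p, hp⟩
  obtain ⟨p, hp⟩ := h1 hv
  exact ⟨p, Subtype.ext hp⟩

theorem phiT_grHom : GrLC.IsGrHom 𝒬 (diagGr 𝒜 ℬ 𝒯 ψ hT ℳ 𝒩) (phiT 𝒜 ℬ 𝒯 ψ hT ℳ 𝒩 𝒬 φ hP) := by
  intro n p hp
  show φ p ∈ GrSeg.segrePiece k ℳ 𝒩 n
  have : φ p ∈ φ '' ((𝒬 n : AddSubgroup P) : Set P) := ⟨p, hp, rfl⟩
  rw [hP.image_piece n] at this
  exact this

end Aug

section Res

variable {k : Type u} [Field k] {R S T : Type u} [CommRing R] [Algebra k R] [CommRing S] [Algebra k S]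
  [CommRing T] [Algebra k T]
  (𝒜 : ℤ → Submodule k R) [GradedAlgebra 𝒜] (ℬ : ℤ → Submodule k S) [GradedAlgebra ℬ]
  (𝒯 : ℤ → Submodule k T) [GradedAlgebra 𝒯] (ψ : T →ₐ[k] R ⊗[k] S)
  (hT : GrSeg.IsSegreRing 𝒜 ℬ 𝒯 ψ)
  {M : Type u} [AddCommGroup M] [Module R M] [Module k M] [IsScalarTower k R M]
  {ℳ : ℤ → AddSubgroup M} [DirectSum.Decomposition ℳ] [SetLike.GradedSMul 𝒜 ℳ]
  (EM : GrLC.StarInjRes 𝒜 ℳ)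
  {N : Type u} [AddCommGroup N] [Module S N] [Module k N] [IsScalarTower k S N]
  (𝒩 : ℤ → AddSubgroup N) [DirectSum.Decomposition 𝒩] [SetLike.GradedSMul ℬ 𝒩]
  {P : Type u} [AddCommGroup P] [Module T P] [Module k P] [IsScalarTower k T P]
  (𝒬 : ℤ → AddSubgroup P) [DirectSum.Decomposition 𝒬] [SetLike.GradedSMul 𝒯 𝒬]
  (φ : P →ₗ[k] M ⊗[k] N) (hP : GrSeg.IsSegreMod ψ ℳ 𝒩 𝒬 φ)

/-- the terms `E^i # N` -/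
noncomputable def segX : ℕ → GrLC.GMod.{u} (plus 𝒯) :=
  fun i => diagMod 𝒜 ℬ 𝒯 ψ hT (EM.X i).gr 𝒩

/-- the differentials of `E^• # N` -/
noncomputable def segD : ∀ i, (segX 𝒜 ℬ 𝒯 ψ hT EM 𝒩 i).carrier →ₗ[T]
    (segX 𝒜 ℬ 𝒯 ψ hT EM 𝒩 (i + 1)).carrier :=
  fun i => diagMap 𝒜 ℬ 𝒯 ψ hT (EM.X i).gr (EM.X (i + 1)).gr 𝒩 (EM.d i) (EM.d_grHom i)

/-- the augmentation `M # N → E^0 # N` -/
noncomputable def segε : P →ₗ[T] (segX 𝒜 ℬ 𝒯 ψ hT EM 𝒩 0).carrier :=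
  (diagMap 𝒜 ℬ 𝒯 ψ hT ℳ (EM.X 0).gr 𝒩 EM.ε EM.ε_grHom) ∘ₗ (phiT 𝒜 ℬ 𝒯 ψ hT ℳ 𝒩 𝒬 φ hP)

theorem segD_grHom (i : ℕ) : GrLC.IsGrHom (segX 𝒜 ℬ 𝒯 ψ hT EM 𝒩 i).gr
    (segX 𝒜 ℬ 𝒯 ψ hT EM 𝒩 (i + 1)).gr (segD 𝒜 ℬ 𝒯 ψ hT EM 𝒩 i) :=
  diagMap_grHom 𝒜 ℬ 𝒯 ψ hT (EM.X i).gr (EM.X (i + 1)).gr 𝒩 (EM.d i) (EM.d_grHom i)

theorem segε_grHom : GrLC.IsGrHom 𝒬 (segX 𝒜 ℬ 𝒯 ψ hT EM 𝒩 0).gr
    (segε 𝒜 ℬ 𝒯 ψ hT EM 𝒩 𝒬 φ hP) := by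
  intro n p hp
  exact diagMap_grHom 𝒜 ℬ 𝒯 ψ hT ℳ (EM.X 0).gr 𝒩 EM.ε EM.ε_grHom n _
    (phiT_grHom 𝒜 ℬ 𝒯 ψ hT ℳ 𝒩 𝒬 φ hP n p hp)

theorem segε_injective : Function.Injective (segε 𝒜 ℬ 𝒯 ψ hT EM 𝒩 𝒬 φ hP) :=
  (diagMap_injective 𝒜 ℬ 𝒯 ψ hT ℳ (EM.X 0).gr 𝒩 EM.ε EM.ε_grHom EM.ε_injective).comp
    (phiT_injective 𝒜 ℬ 𝒯 ψ hT ℳ 𝒩 𝒬 φ hP)

theorem segD_exact_zero : LinearMap.ker (segD 𝒜 ℬ 𝒯 ψ hT EM 𝒩 0) =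
    LinearMap.range (segε 𝒜 ℬ 𝒯 ψ hT EM 𝒩 𝒬 φ hP) := by
  have hex : Function.Exact EM.ε (EM.d 0) := by
    intro x
    rw [← LinearMap.mem_ker, EM.exact_zero]
    rfl
  have h1 := diagMap_exact 𝒜 ℬ 𝒯 ψ hT ℳ (EM.X 0).gr (EM.X 1).gr 𝒩 EM.ε EM.ε_grHom (EM.d 0)
    (EM.d_grHom 0) hex
  have h2 : LinearMap.range ((diagMap 𝒜 ℬ 𝒯 ψ hT ℳ (EM.X 0).gr 𝒩 EM.ε EM.ε_grHom) ∘ₗ
      (phiT 𝒜 ℬ 𝒯 ψ hT ℳ 𝒩 𝒬 φ hP)) =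
      LinearMap.range (diagMap 𝒜 ℬ 𝒯 ψ hT ℳ (EM.X 0).gr 𝒩 EM.ε EM.ε_grHom) :=
    LinearMap.range_comp_of_range_eq_top _
      (LinearMap.range_eq_top.mpr (phiT_surjective 𝒜 ℬ 𝒯 ψ hT ℳ 𝒩 𝒬 φ hP))
  exact h1.trans h2.symm

theorem segD_exact_succ (n : ℕ) : LinearMap.ker (segD 𝒜 ℬ 𝒯 ψ hT EM 𝒩 (n + 1)) =
    LinearMap.range (segD 𝒜 ℬ 𝒯 ψ hT EM 𝒩 n) := by
  have hex : Function.Exact (EM.d n) (EM.d (n + 1)) := by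
    intro x
    rw [← LinearMap.mem_ker, EM.exact_succ]
    rfl
  exact diagMap_exact 𝒜 ℬ 𝒯 ψ hT (EM.X n).gr (EM.X (n + 1)).gr (EM.X (n + 2)).gr 𝒩 (EM.d n)
    (EM.d_grHom n) (EM.d (n + 1)) (EM.d_grHom (n + 1)) hex

end Res

section Iso

variable {k : Type u} [Field k] {R S T : Type u} [CommRing R] [Algebra k R] [CommRing S] [Algebra k S]
  [CommRing T] [Algebra k T]
  (𝒜 : ℤ → Submodule k R) [GradedAlgebra 𝒜] (ℬ : ℤ → Submodule k S) [GradedAlgebra ℬ]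
  (𝒯 : ℤ → Submodule k T) [GradedAlgebra 𝒯] (ψ : T →ₐ[k] R ⊗[k] S)
  (hT : GrSeg.IsSegreRing 𝒜 ℬ 𝒯 ψ)
  (mR : HomogeneousIdeal 𝒜)
  (hmR : mR.toIdeal = Ideal.span (⋃ n ∈ Set.Ioi (0 : ℤ), (𝒜 n : Set R)))
  (mT : HomogeneousIdeal 𝒯)
  (hmT : mT.toIdeal = Ideal.span (⋃ n ∈ Set.Ioi (0 : ℤ), (𝒯 n : Set T)))
  {M : Type u} [AddCommGroup M] [Module R M] [Module k M] [IsScalarTower k R M]
  {ℳ : ℤ → AddSubgroup M} [DirectSum.Decomposition ℳ] [SetLike.GradedSMul 𝒜 ℳ]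
  (EM : GrLC.StarInjRes 𝒜 ℳ)
  {N : Type u} [AddCommGroup N] [Module S N] [Module k N] [IsScalarTower k S N]
  (𝒩 : ℤ → AddSubgroup N) [DirectSum.Decomposition 𝒩] [SetLike.GradedSMul ℬ 𝒩]
  {P : Type u} [AddCommGroup P] [Module T P] [Module k P] [IsScalarTower k T P]
  (𝒬 : ℤ → AddSubgroup P) [DirectSum.Decomposition 𝒬] [SetLike.GradedSMul 𝒯 𝒬]
  (φ : P →ₗ[k] M ⊗[k] N) (hP : GrSeg.IsSegreMod ψ ℳ 𝒩 𝒬 φ)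
  (EP : GrLC.StarInjRes 𝒯 𝒬)
  [IsNoetherianRing R] [IsNoetherianRing (R ⊗[k] S)]

include hmR hmT hP in
/-- graded local cohomology of `M # N` is computed by the complex `Γ_{T_+}(E^• # N)` -/
theorem exists_compare (e : ℕ) (he : 0 < e) (g : S) (hg : g ∈ ℬ (e : ℤ))
    (hgN : Function.Bijective (fun y : N => g • y)) (q : ℕ) :
    ∃ Ψ : EP.H mT q ≃ₗ[T] Groth.Agent.Helper7.GrAcy.HH (idealPlus 𝒯 mT)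
        (segX 𝒜 ℬ 𝒯 ψ hT EM 𝒩) (segD 𝒜 ℬ 𝒯 ψ hT EM 𝒩) q,
      GrLC.IsGrHom (EP.Hgr mT q) (Groth.Agent.Helper7.GrAcy.HHgr (idealPlus 𝒯 mT)
        (segX 𝒜 ℬ 𝒯 ψ hT EM 𝒩) (segD 𝒜 ℬ 𝒯 ψ hT EM 𝒩) q) Ψ.toLinearMap ∧
      GrLC.IsGrHom (Groth.Agent.Helper7.GrAcy.HHgr (idealPlus 𝒯 mT)
        (segX 𝒜 ℬ 𝒯 ψ hT EM 𝒩) (segD 𝒜 ℬ 𝒯 ψ hT EM 𝒩) q) (EP.Hgr mT q) Ψ.symm.toLinearMap := by
  haveI := gradedSMul_plus 𝒯 𝒬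
  have hac : ∀ n, Groth.Agent.Helper7.GrAcy.GAcyc (idealPlus 𝒯 mT) (segX 𝒜 ℬ 𝒯 ψ hT EM 𝒩 n) := by
    intro n
    have hE : FgExt (plus 𝒜) (gmodPlus 𝒜 (EM.X n)).carrier :=
      fgExt_of_isStarInj (plus 𝒜) (gmodPlus 𝒜 (EM.X n)).gr
        (isStarInj_gmodPlus 𝒜 (EM.X n) (EM.starInj n))
    exact gacyc_diagMod 𝒜 ℬ 𝒯 ψ hT (idealPlus 𝒜 mR) hmR _ rfl (idealPlus 𝒯 mT) hmT (EM.X n).gr 𝒩
      hE (e : ℤ) (by exact_mod_cast he) g hg hgN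
  exact Groth.Agent.Helper7.GrAcy.main (idealPlus 𝒯 mT) q (segX 𝒜 ℬ 𝒯 ψ hT EM 𝒩)
    (segD 𝒜 ℬ 𝒯 ψ hT EM 𝒩) (segD_grHom 𝒜 ℬ 𝒯 ψ hT EM 𝒩) (segε 𝒜 ℬ 𝒯 ψ hT EM 𝒩 𝒬 φ hP)
    (segε_grHom 𝒜 ℬ 𝒯 ψ hT EM 𝒩 𝒬 φ hP) (segε_injective 𝒜 ℬ 𝒯 ψ hT EM 𝒩 𝒬 φ hP)
    (segD_exact_zero 𝒜 ℬ 𝒯 ψ hT EM 𝒩 𝒬 φ hP) (segD_exact_succ 𝒜 ℬ 𝒯 ψ hT EM 𝒩) hac
    (resPlus 𝒯 EP)

end Iso

end Groth.Agent.Helper7.Kun
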