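import Mathlib
import Groth.Prelude.Def_GrLC
import Groth.Prelude.Def_Wider
import Groth.Prelude.Def_GrSeg
import Groth.Agent.Helper7.KunJ

/-!
# Künneth project, part K: the map `H^q(Γ_{T_+}(E^• # N)) → H^q_m(M) ⊗ N`.
-/

set_option autoImplicit false
set_option linter.unusedSectionVars false
set_option linter.style.haveILetI false

namespace Groth.Agent.Helper7.Kun

open TensorProduct Groth.Agent.Helper9.SegreMod Groth.Agent.Helper9.Segre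
  Groth.Agent.Helper7.SegMod Groth.Agent.Helper7.GrAcy

universe u

attribute [local instance] gmodModuleK gmodTowerK

section XTzero

variable {k : Type u} [Field k] {R S T : Type u} [CommRing R] [Algebra k R] [CommRing S] [Algebra k S]
  [CommRing T] [Algebra k T] {ψ : T →ₐ[k] R ⊗[k] S}
  {E : Type u} [AddCommGroup E] [Module R E] [Module k E] [IsScalarTower k R E]
  {E' : Type u} [AddCommGroup E'] [Module R E'] [Module k E'] [IsScalarTower k R E']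
  {N : Type u} [AddCommGroup N] [Module S N] [Module k N] [IsScalarTower k S N]

theorem XTmap_eq_zero (f : E →ₗ[R] E') (hf : ∀ x, f x = 0) (v : XT ψ E N) : XTmap ψ N f v = 0 := by
  induction v using XT.induction_on with
  | zero => simp
  | tmul x y =>
    rw [XTmap_tmul, hf]
    exact TensorProduct.zero_tmul _ _
  | add v w hv hw => rw [map_add, hv, hw, add_zero]

end XTzero

section Theta

variable {k : Type u} [Field k] {R S T : Type u} [CommRing R] [Algebra k R] [CommRing S] [Algebra k S]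
  [CommRing T] [Algebra k T]
  (𝒜 : ℤ → Submodule k R) [GradedAlgebra 𝒜] (ℬ : ℤ → Submodule k S) [GradedAlgebra ℬ]
  (𝒯 : ℤ → Submodule k T) [GradedAlgebra 𝒯] (ψ : T →ₐ[k] R ⊗[k] S)
  (hT : GrSeg.IsSegreRing 𝒜 ℬ 𝒯 ψ)
  (mR : HomogeneousIdeal 𝒜)
  (hmR : mR.toIdeal = Ideal.span (⋃ n ∈ Set.Ioi (0 : ℤ), (𝒜 n : Set R)))
  (mT : HomogeneousIdeal 𝒯)
  (hmT : mT.toIdeal = Ideal.span (⋃ n ∈ Set.Ioi (0 : ℤ), (𝒯 n : Set T)))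
  {M : Type u} [AddCommGroup M] [Module R M] [Module k M] [IsScalarTower k R M]
  {ℳ : ℤ → AddSubgroup M} [DirectSum.Decomposition ℳ] [SetLike.GradedSMul 𝒜 ℳ]
  (EM : GrLC.StarInjRes 𝒜 ℳ)
  {N : Type u} [AddCommGroup N] [Module S N] [Module k N] [IsScalarTower k S N]
  (𝒩 : ℤ → AddSubgroup N) [DirectSum.Decomposition 𝒩] [SetLike.GradedSMul ℬ 𝒩]
  [IsNoetherianRing R]
  (e : ℕ) (he : 0 < e) (g : S) (hg : g ∈ ℬ (e : ℤ))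
  (hgN : Function.Bijective (fun y : N => g • y)) (q : ℕ)

/-- the underlying tensor of an element of `E^i # N` -/
noncomputable def segVal (i : ℕ) :
    (segX 𝒜 ℬ 𝒯 ψ hT EM 𝒩 i).carrier →ₗ[T] XT ψ (EM.X i).carrier N :=
  (diagT 𝒜 ℬ 𝒯 ψ hT (EM.X i).gr 𝒩).subtype

theorem segVal_injective (i : ℕ) : Function.Injective (segVal 𝒜 ℬ 𝒯 ψ hT EM 𝒩 i) :=
  Subtype.val_injective

theorem segVal_segD (i : ℕ) (v : (segX 𝒜 ℬ 𝒯 ψ hT EM 𝒩 i).carrier) :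
    segVal 𝒜 ℬ 𝒯 ψ hT EM 𝒩 (i + 1) (segD 𝒜 ℬ 𝒯 ψ hT EM 𝒩 i v) =
      XTmap ψ N (EM.d i) (segVal 𝒜 ℬ 𝒯 ψ hT EM 𝒩 i v) := rfl

/-- the retraction `E^i ⊗ N → E^i # N` -/
noncomputable def segRet (i : ℕ) :
    XT ψ (EM.X i).carrier N →ₗ[T] (segX 𝒜 ℬ 𝒯 ψ hT EM 𝒩 i).carrier :=
  Dret 𝒜 ℬ 𝒯 ψ hT (EM.X i).gr 𝒩

theorem segRet_segVal (i : ℕ) (v : (segX 𝒜 ℬ 𝒯 ψ hT EM 𝒩 i).carrier) :
    segRet 𝒜 ℬ 𝒯 ψ hT EM 𝒩 i (segVal 𝒜 ℬ 𝒯 ψ hT EM 𝒩 i v) = v :=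
  Dret_subtype 𝒜 ℬ 𝒯 ψ hT (EM.X i).gr 𝒩 v

theorem segRet_XTmap (i : ℕ) (v : XT ψ (EM.X i).carrier N) :
    segRet 𝒜 ℬ 𝒯 ψ hT EM 𝒩 (i + 1) (XTmap ψ N (EM.d i) v) =
      segD 𝒜 ℬ 𝒯 ψ hT EM 𝒩 i (segRet 𝒜 ℬ 𝒯 ψ hT EM 𝒩 i v) :=
  Dret_XTmap 𝒜 ℬ 𝒯 ψ hT (EM.X i).gr (EM.X (i + 1)).gr 𝒩 (EM.d i) (EM.d_grHom i) v

/-- `Z^q_M ⊗ N → E^q ⊗ N` -/
noncomputable def jmap : XT ψ ↥(EM.cocyc mR q) N →ₗ[T] XT ψ (EM.X q).carrier N :=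
  XTmap ψ N (EM.cocyc mR q).subtype

theorem jmap_injective : Function.Injective (jmap (N := N) 𝒜 ψ mR EM q) :=
  XTmap_injective _ Subtype.val_injective

include hmR hmT he hg hgN in
theorem cocyc_mem_range
    (z : ↥(cocyc (idealPlus 𝒯 mT) (segX 𝒜 ℬ 𝒯 ψ hT EM 𝒩) (segD 𝒜 ℬ 𝒯 ψ hT EM 𝒩) q)) :
    segVal 𝒜 ℬ 𝒯 ψ hT EM 𝒩 q z.1 ∈ LinearMap.range (jmap (N := N) 𝒜 ψ mR EM q) := by
  have h1 : segVal 𝒜 ℬ 𝒯 ψ hT EM 𝒩 q z.1 ∈ GrLC.gam mT.toIdeal (XT ψ (EM.X q).carrier N) :=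
    Groth.Agent.Helper7.GrDel.map_mem_gam mT.toIdeal (segVal 𝒜 ℬ 𝒯 ψ hT EM 𝒩 q) z.2.1
  have h2 : XTmap ψ N (EM.d q) (segVal 𝒜 ℬ 𝒯 ψ hT EM 𝒩 q z.1) = 0 := by
    rw [← segVal_segD]
    have : segD 𝒜 ℬ 𝒯 ψ hT EM 𝒩 q z.1 = 0 := z.2.2
    rw [this, map_zero]
  exact cocycle_lift 𝒜 ℬ 𝒯 ψ hT mR.toIdeal hmR mT.toIdeal hmT e he g hg hgN (EM.d q) h1 h2

/-- cocycles of `Γ_{T_+}(E^• # N)` as elements of the image of `Z^q_M ⊗ N` -/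
noncomputable def cocycRes :
    ↥(cocyc (idealPlus 𝒯 mT) (segX 𝒜 ℬ 𝒯 ψ hT EM 𝒩) (segD 𝒜 ℬ 𝒯 ψ hT EM 𝒩) q) →ₗ[T]
      ↥(LinearMap.range (jmap (N := N) 𝒜 ψ mR EM q)) :=
  LinearMap.codRestrict _ ((segVal 𝒜 ℬ 𝒯 ψ hT EM 𝒩 q) ∘ₗ
    (cocyc (idealPlus 𝒯 mT) (segX 𝒜 ℬ 𝒯 ψ hT EM 𝒩) (segD 𝒜 ℬ 𝒯 ψ hT EM 𝒩) q).subtype)
    (cocyc_mem_range 𝒜 ℬ 𝒯 ψ hT mR hmR mT hmT EM 𝒩 e he g hg hgN q)

variable [inst1 : Module k (EM.H mR q)]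
  [inst2 : @IsScalarTower k R (EM.H mR q) _ _ inst1.toDistribMulAction.toMulAction.toSMul]

/-- the map on cocycles -/
noncomputable def theta0 :
    ↥(cocyc (idealPlus 𝒯 mT) (segX 𝒜 ℬ 𝒯 ψ hT EM 𝒩) (segD 𝒜 ℬ 𝒯 ψ hT EM 𝒩) q) →ₗ[T]
      XT ψ (EM.H mR q) N :=
  (XTmap ψ N (EM.toH mR q)) ∘ₗ
    ((LinearEquiv.ofInjective (jmap (N := N) 𝒜 ψ mR EM q) (jmap_injective 𝒜 ψ mR EM q)).symm.toLinearMap ∘ₗ
      (cocycRes 𝒜 ℬ 𝒯 ψ hT mR hmR mT hmT EM 𝒩 e he g hg hgN q))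

theorem theta0_eq
    (z : ↥(cocyc (idealPlus 𝒯 mT) (segX 𝒜 ℬ 𝒯 ψ hT EM 𝒩) (segD 𝒜 ℬ 𝒯 ψ hT EM 𝒩) q))
    (w : XT ψ ↥(EM.cocyc mR q) N)
    (hw : jmap (N := N) 𝒜 ψ mR EM q w = segVal 𝒜 ℬ 𝒯 ψ hT EM 𝒩 q z.1) :
    theta0 𝒜 ℬ 𝒯 ψ hT mR hmR mT hmT EM 𝒩 e he g hg hgN q z = XTmap ψ N (EM.toH mR q) w := by
  unfold theta0
  rw [LinearMap.comp_apply, LinearMap.comp_apply]
  congr 1
  rw [LinearEquiv.coe_coe, LinearEquiv.symm_apply_eq]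
  apply Subtype.ext
  rw [LinearEquiv.ofInjective_apply]
  exact hw.symm

theorem exists_theta0_eq
    (z : ↥(cocyc (idealPlus 𝒯 mT) (segX 𝒜 ℬ 𝒯 ψ hT EM 𝒩) (segD 𝒜 ℬ 𝒯 ψ hT EM 𝒩) q)) :
    ∃ w : XT ψ ↥(EM.cocyc mR q) N,
      jmap (N := N) 𝒜 ψ mR EM q w = segVal 𝒜 ℬ 𝒯 ψ hT EM 𝒩 q z.1 ∧
      theta0 𝒜 ℬ 𝒯 ψ hT mR hmR mT hmT EM 𝒩 e he g hg hgN q z = XTmap ψ N (EM.toH mR q) w := by
  obtain ⟨w, hw⟩ := cocyc_mem_range 𝒜 ℬ 𝒯 ψ hT mR hmR mT hmT EM 𝒩 e he g hg hgN q z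
  exact ⟨w, hw, theta0_eq 𝒜 ℬ 𝒯 ψ hT mR hmR mT hmT EM 𝒩 e he g hg hgN q z w hw⟩

include hmR in
/-- `theta0` kills coboundaries -/
theorem theta0_cobdy
    (z : ↥(cocyc (idealPlus 𝒯 mT) (segX 𝒜 ℬ 𝒯 ψ hT EM 𝒩) (segD 𝒜 ℬ 𝒯 ψ hT EM 𝒩) q))
    (hz : z.1 ∈ cobdy (idealPlus 𝒯 mT) (segX 𝒜 ℬ 𝒯 ψ hT EM 𝒩) (segD 𝒜 ℬ 𝒯 ψ hT EM 𝒩) q) :
    theta0 𝒜 ℬ 𝒯 ψ hT mR hmR mT hmT EM 𝒩 e he g hg hgN q z = 0 := by
  cases q with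
  | zero =>
    have h0 : z.1 = 0 := hz
    have : z = 0 := Subtype.ext h0
    rw [this, map_zero]
  | succ q' =>
    obtain ⟨u, hu, huz⟩ := hz
    have h1 : segVal 𝒜 ℬ 𝒯 ψ hT EM 𝒩 q' u ∈ GrLC.gam mT.toIdeal (XT ψ (EM.X q').carrier N) :=
      Groth.Agent.Helper7.GrDel.map_mem_gam mT.toIdeal (segVal 𝒜 ℬ 𝒯 ψ hT EM 𝒩 q') hu
    obtain ⟨w', hw'⟩ := gam_XT_le 𝒜 ℬ 𝒯 ψ hT mR.toIdeal hmR mT.toIdeal hmT e he g hg hgN h1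
    let δ : ↥(GrLC.gam mR.toIdeal (EM.X q').carrier) →ₗ[R] ↥(EM.cocyc mR (q' + 1)) :=
      LinearMap.codRestrict _ (EM.d q' ∘ₗ (GrLC.gam mR.toIdeal (EM.X q').carrier).subtype)
        (fun x => by
          refine ⟨Groth.Agent.Helper7.GrDel.map_mem_gam mR.toIdeal (EM.d q') x.2, ?_⟩
          have : EM.d q' x.1 ∈ LinearMap.ker (EM.d (q' + 1)) := by
            rw [EM.exact_succ]; exact ⟨x.1, rfl⟩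
          exact this)
    have h2 : jmap (N := N) 𝒜 ψ mR EM (q' + 1) (XTmap ψ N δ w') =
        segVal 𝒜 ℬ 𝒯 ψ hT EM 𝒩 (q' + 1) z.1 := by
      unfold jmap
      rw [← XTmap_comp, ← huz, segVal_segD, ← hw', ← XTmap_comp]
      rfl
    rw [theta0_eq 𝒜 ℬ 𝒯 ψ hT mR hmR mT hmT EM 𝒩 e he g hg hgN (q' + 1) z _ h2, ← XTmap_comp]
    apply XTmap_eq_zero
    intro x
    rw [LinearMap.comp_apply]
    refine (Submodule.Quotient.mk_eq_zero _).mpr ?_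
    exact ⟨x.1, x.2, rfl⟩

include hmR in
/-- `theta0` detects coboundaries -/
theorem cobdy_of_theta0_eq_zero
    (z : ↥(cocyc (idealPlus 𝒯 mT) (segX 𝒜 ℬ 𝒯 ψ hT EM 𝒩) (segD 𝒜 ℬ 𝒯 ψ hT EM 𝒩) q))
    (hz : theta0 𝒜 ℬ 𝒯 ψ hT mR hmR mT hmT EM 𝒩 e he g hg hgN q z = 0) :
    z.1 ∈ cobdy (idealPlus 𝒯 mT) (segX 𝒜 ℬ 𝒯 ψ hT EM 𝒩) (segD 𝒜 ℬ 𝒯 ψ hT EM 𝒩) q := by
  obtain ⟨w, hw, hθ⟩ := exists_theta0_eq 𝒜 ℬ 𝒯 ψ hT mR hmR mT hmT EM 𝒩 e he g hg hgN q z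
  rw [hθ] at hz
  have hex : Function.Exact ((EM.cobdy mR q).comap (EM.cocyc mR q).subtype).subtype
      (EM.toH mR q) := LinearMap.exact_subtype_mkQ _
  obtain ⟨b, rfl⟩ := (XTmap_exact (ψ := ψ) (N := N) _ _ hex w).mp hz
  cases q with
  | zero =>
    have h0 : jmap (N := N) 𝒜 ψ mR EM 0 (XTmap ψ N
        ((EM.cobdy mR 0).comap (EM.cocyc mR 0).subtype).subtype b) = 0 := by
      unfold jmap
      rw [← XTmap_comp]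
      apply XTmap_eq_zero
      intro x
      have hx : (x.1 : (EM.X 0).carrier) ∈ (⊥ : Submodule R (EM.X 0).carrier) := x.2
      exact hx
    rw [h0] at hw
    have : z.1 = 0 := segVal_injective 𝒜 ℬ 𝒯 ψ hT EM 𝒩 0 (by rw [← hw, map_zero])
    rw [this]
    exact Submodule.zero_mem _
  | succ q' =>
    have key : ∀ b : XT ψ ↥((EM.cobdy mR (q' + 1)).comap (EM.cocyc mR (q' + 1)).subtype) N,
        ∃ u' ∈ GrLC.gam mT.toIdeal (XT ψ (EM.X q').carrier N),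
          XTmap ψ N (EM.d q') u' = jmap (N := N) 𝒜 ψ mR EM (q' + 1) (XTmap ψ N
            ((EM.cobdy mR (q' + 1)).comap (EM.cocyc mR (q' + 1)).subtype).subtype b) := by
      intro b
      induction b using XT.induction_on with
      | zero => exact ⟨0, Submodule.zero_mem _, by simp⟩
      | tmul x y =>
        obtain ⟨u₀, hu₀, hux⟩ : (x.1 : (EM.X (q' + 1)).carrier) ∈
            (GrLC.gam mR.toIdeal (EM.X q').carrier).map (EM.d q') := x.2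
        refine ⟨XT.tmul ψ u₀ y,
          tmul_mem_gam 𝒜 ℬ 𝒯 ψ hT mR.toIdeal hmR mT.toIdeal hmT hu₀ y, ?_⟩
        unfold jmap
        rw [XTmap_tmul, XTmap_tmul, XTmap_tmul, hux]
        rfl
      | add v w hv hw =>
        obtain ⟨u1, hu1, h1⟩ := hv
        obtain ⟨u2, hu2, h2⟩ := hw
        exact ⟨u1 + u2, Submodule.add_mem _ hu1 hu2, by simp only [map_add, h1, h2]⟩
    obtain ⟨u', hu', hu'e⟩ := key b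
    rw [hw] at hu'e
    refine ⟨segRet 𝒜 ℬ 𝒯 ψ hT EM 𝒩 q' u',
      Groth.Agent.Helper7.GrDel.map_mem_gam mT.toIdeal (segRet 𝒜 ℬ 𝒯 ψ hT EM 𝒩 q') hu', ?_⟩
    show segD 𝒜 ℬ 𝒯 ψ hT EM 𝒩 q' (segRet 𝒜 ℬ 𝒯 ψ hT EM 𝒩 q' u') = z.1
    rw [← segRet_XTmap, hu'e, segRet_segVal]

end Theta

end Groth.Agent.Helper7.Kun
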