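import Mathlib
import Groth.Prelude.Def_GrLC
import Groth.Prelude.Def_Wider
import Groth.Prelude.Def_GrSeg
import Groth.Agent.Helper7.KunK

/-!
# Künneth project, part L: the graded pieces of `H^q(Γ_{T_+}(E^• # N)) → H^q_m(M) ⊗ N`.
-/

set_option autoImplicit false
set_option linter.unusedSectionVars false
set_option linter.style.haveILetI false

namespace Groth.Agent.Helper7.Kun

open TensorProduct Groth.Agent.Helper9.SegreMod Groth.Agent.Helper9.Segre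
  Groth.Agent.Helper7.SegMod Groth.Agent.Helper7.GrAcy

universe u

attribute [local instance] gmodModuleK gmodTowerK

section SubPiece

variable {k : Type u} [Field k] {R S : Type u} [CommRing R] [Algebra k R] [CommRing S] [Algebra k S]
  (𝒜 : ℤ → Submodule k R) [GradedAlgebra 𝒜] (ℬ : ℤ → Submodule k S) [GradedAlgebra ℬ]
  {E : Type u} [AddCommGroup E] [Module R E] [Module k E] [IsScalarTower k R E]
  (ℰ : ℤ → AddSubgroup E) [DirectSum.Decomposition ℰ] [SetLike.GradedSMul 𝒜 ℰ]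
  {N : Type u} [AddCommGroup N] [Module S N] [Module k N] [IsScalarTower k S N]
  (𝒩 : ℤ → AddSubgroup N) [DirectSum.Decomposition 𝒩] [SetLike.GradedSMul ℬ 𝒩]
  (Z : Submodule R E) (hZ : Z.IsHomogeneous ℰ)

/-- the pieces of a submodule -/
def subPiece : ℤ → AddSubgroup ↥Z := fun n => (ℰ n).comap Z.subtype.toAddMonoidHom

theorem mem_subPiece {n : ℤ} {x : ↥Z} : x ∈ subPiece ℰ Z n ↔ (x : E) ∈ ℰ n := Iff.rfl

/-- the projection of a homogeneous submodule to degree `n` -/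
noncomputable def subProj (n : ℤ) : ↥Z →ₗ[k] ↥Z where
  toFun x := ⟨proj 𝒜 ℰ n x.1, hZ n x.2⟩
  map_add' x y := Subtype.ext (map_add (proj 𝒜 ℰ n) _ _)
  map_smul' c x := Subtype.ext (map_smul (proj 𝒜 ℰ n) c x.1)

theorem subProj_mem (n : ℤ) (x : ↥Z) : subProj 𝒜 ℰ Z hZ n x ∈ subPiece ℰ Z n :=
  (DirectSum.decompose ℰ (x : E) n).2

/-- the projection of `Z ⊗ N` to bidegree `(n, n)` -/
noncomputable def prZ (n : ℤ) : ↥Z ⊗[k] N →ₗ[k] ↥Z ⊗[k] N :=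
  TensorProduct.map (subProj 𝒜 ℰ Z hZ n) (proj ℬ 𝒩 n)

theorem prZ_mem (n : ℤ) (w : ↥Z ⊗[k] N) :
    prZ 𝒜 ℬ ℰ 𝒩 Z hZ n w ∈ GrSeg.segrePiece k (subPiece ℰ Z) 𝒩 n := by
  induction w using TensorProduct.induction_on with
  | zero => rw [map_zero]; exact Submodule.zero_mem _
  | tmul x y =>
    unfold prZ
    rw [TensorProduct.map_tmul]
    exact Submodule.subset_span ⟨_, subProj_mem 𝒜 ℰ Z hZ n x, _,
      (DirectSum.decompose 𝒩 y n).2, rfl⟩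
  | add v w hv hw => rw [map_add]; exact Submodule.add_mem _ hv hw

theorem map_prZ (n : ℤ) (w : ↥Z ⊗[k] N) :
    TensorProduct.map (Z.subtype.restrictScalars k) (LinearMap.id : N →ₗ[k] N)
      (prZ 𝒜 ℬ ℰ 𝒩 Z hZ n w) =
    prn 𝒜 ℬ ℰ 𝒩 n (TensorProduct.map (Z.subtype.restrictScalars k) (LinearMap.id : N →ₗ[k] N) w) := by
  induction w using TensorProduct.induction_on with
  | zero => simp
  | tmul x y =>
    unfold prZ prn
    rw [TensorProduct.map_tmul, TensorProduct.map_tmul, TensorProduct.map_tmul,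
      TensorProduct.map_tmul]
    rfl
  | add v w hv hw => simp only [map_add, hv, hw]

include 𝒜 ℬ hZ in
theorem mem_segrePiece_of_map (n : ℤ) (w : ↥Z ⊗[k] N)
    (hw : TensorProduct.map (Z.subtype.restrictScalars k) (LinearMap.id : N →ₗ[k] N) w ∈
      GrSeg.segrePiece k ℰ 𝒩 n) :
    w ∈ GrSeg.segrePiece k (subPiece ℰ Z) 𝒩 n := by
  have h1 := map_prZ 𝒜 ℬ ℰ 𝒩 Z hZ n w
  rw [prn_of_mem 𝒜 ℬ ℰ 𝒩 n hw, if_pos rfl] at h1
  have hinj : Function.Injective (LinearMap.rTensor N (Z.subtype.restrictScalars k)) :=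
    Module.Flat.rTensor_preserves_injective_linearMap _ Subtype.val_injective
  have h2 : prZ 𝒜 ℬ ℰ 𝒩 Z hZ n w = w := hinj h1
  rw [← h2]
  exact prZ_mem 𝒜 ℬ ℰ 𝒩 Z hZ n w

end SubPiece

section ThetaGr

variable {k : Type u} [Field k] {R S T : Type u} [CommRing R] [Algebra k R] [CommRing S] [Algebra k S]
  [CommRing T] [Algebra k T]
  (𝒜 : ℤ → Submodule k R) [GradedAlgebra 𝒜] (ℬ : ℤ → Submodule k S) [GradedAlgebra ℬ]
  (𝒯 : ℤ → Submodule k T) [GradedAlgebra 𝒯] (ψ : T →ₐ[k] R ⊗[k] S)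
  (hT : GrSeg.IsSegreRing 𝒜 ℬ 𝒯 ψ)
  (mR : HomogeneousIdeal 𝒜)
  (hmR : mR.toIdeal = Ideal.span (⋃ n ∈ Set.Ioi (0 : ℤ), (𝒜 n : Set R)))
  (mT : HomogeneousIdeal 𝒯)
  (hmT : mT.toIdeal = Ideal.span (⋃ n ∈ Set.Ioi (0 : ℤ), (𝒯 n : Set T)))
  {M : Type u} [AddCommGroup M] [Module R M] [Module k M] [IsScalarTower k R M]
  {ℳ : ℤ → AddSubgroup M} [DirectSum.Decomposition ℳ] [SetLike.GradedSMul 𝒜 ℳ]
  (EM : GrLC.StarInjRes 𝒜 ℳ)
  {N : Type u} [AddCommGroup N] [Module S N] [Module k N] [IsScalarTower k S N]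
  (𝒩 : ℤ → AddSubgroup N) [DirectSum.Decomposition 𝒩] [SetLike.GradedSMul ℬ 𝒩]
  [IsNoetherianRing R]
  (e : ℕ) (he : 0 < e) (g : S) (hg : g ∈ ℬ (e : ℤ))
  (hgN : Function.Bijective (fun y : N => g • y)) (q : ℕ)
  [inst1 : Module k (EM.H mR q)]
  [inst2 : @IsScalarTower k R (EM.H mR q) _ _ inst1.toDistribMulAction.toMulAction.toSMul]

theorem cocyc_isHomogeneous' : (EM.cocyc mR q).IsHomogeneous (EM.X q).gr := by
  haveI := gradedSMul_plus 𝒜 ℳ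
  exact Groth.Agent.Helper7.GrAcy.cocyc_isHomogeneous (idealPlus 𝒜 mR) (X := (resPlus 𝒜 EM).X)
    (d := (resPlus 𝒜 EM).d) (resPlus 𝒜 EM).d_grHom q

theorem map_toH_mem (n : ℤ) (w : ↥(EM.cocyc mR q) ⊗[k] N)
    (hw : w ∈ GrSeg.segrePiece k (subPiece (EM.X q).gr (EM.cocyc mR q)) 𝒩 n) :
    TensorProduct.map ((EM.toH mR q).restrictScalars k) (LinearMap.id : N →ₗ[k] N) w ∈
      GrSeg.segrePiece k (EM.Hgr mR q) 𝒩 n := by
  unfold GrSeg.segrePiece at hw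
  induction hw using Submodule.span_induction with
  | mem v hv =>
    obtain ⟨x, hx, y, hy, rfl⟩ := hv
    rw [TensorProduct.map_tmul]
    exact Submodule.subset_span ⟨_, ⟨x, hx, rfl⟩, _, hy, rfl⟩
  | zero => rw [map_zero]; exact Submodule.zero_mem _
  | add v w _ _ hv hw => rw [map_add]; exact Submodule.add_mem _ hv hw
  | smul c v _ hv => rw [map_smul]; exact Submodule.smul_mem _ _ hv

/-- `theta0` maps cocycles of degree `n` into `H^q_m(M)_n ⊗ N_n` -/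
theorem theta0_mem (n : ℤ)
    (z : ↥(cocyc (idealPlus 𝒯 mT) (segX 𝒜 ℬ 𝒯 ψ hT EM 𝒩) (segD 𝒜 ℬ 𝒯 ψ hT EM 𝒩) q))
    (hz : z.1 ∈ (segX 𝒜 ℬ 𝒯 ψ hT EM 𝒩 q).gr n) :
    (show (EM.H mR q) ⊗[k] N from theta0 𝒜 ℬ 𝒯 ψ hT mR hmR mT hmT EM 𝒩 e he g hg hgN q z) ∈
      GrSeg.segrePiece k (EM.Hgr mR q) 𝒩 n := by
  obtain ⟨w, hw, hθ⟩ := exists_theta0_eq 𝒜 ℬ 𝒯 ψ hT mR hmR mT hmT EM 𝒩 e he g hg hgN q z
  rw [hθ]
  apply map_toH_mem 𝒜 mR EM 𝒩 q n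
  apply mem_segrePiece_of_map 𝒜 ℬ (EM.X q).gr 𝒩 (EM.cocyc mR q) (cocyc_isHomogeneous' 𝒜 mR EM q) n
  have h1 : (show (EM.X q).carrier ⊗[k] N from jmap (N := N) 𝒜 ψ mR EM q w) ∈
      GrSeg.segrePiece k (EM.X q).gr 𝒩 n := by
    rw [hw]
    exact hz
  exact h1

include hmR in
/-- pure tensors of degree `n` are values of `theta0` on cocycles of degree `n` -/
theorem exists_theta0_tmul (n : ℤ) (x : ↥(EM.cocyc mR q)) (hx : (x : (EM.X q).carrier) ∈ (EM.X q).gr n)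
    (y : N) (hy : y ∈ 𝒩 n) :
    ∃ z : ↥(cocyc (idealPlus 𝒯 mT) (segX 𝒜 ℬ 𝒯 ψ hT EM 𝒩) (segD 𝒜 ℬ 𝒯 ψ hT EM 𝒩) q),
      z.1 ∈ (segX 𝒜 ℬ 𝒯 ψ hT EM 𝒩 q).gr n ∧
      theta0 𝒜 ℬ 𝒯 ψ hT mR hmR mT hmT EM 𝒩 e he g hg hgN q z =
        XT.tmul ψ (EM.toH mR q x) y := by
  have hseg : ((x : (EM.X q).carrier) ⊗ₜ[k] y : (EM.X q).carrier ⊗[k] N) ∈
      GrSeg.segrePiece k (EM.X q).gr 𝒩 n := Submodule.subset_span ⟨_, hx, _, hy, rfl⟩
  let v : (segX 𝒜 ℬ 𝒯 ψ hT EM 𝒩 q).carrier :=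
    ⟨XT.tmul ψ (x : (EM.X q).carrier) y, segrePiece_le_diagM (EM.X q).gr 𝒩 n hseg⟩
  have hgam : v ∈ GrLC.gam (idealPlus 𝒯 mT).toIdeal (segX 𝒜 ℬ 𝒯 ψ hT EM 𝒩 q).carrier := by
    obtain ⟨K, hK⟩ := tmul_mem_gam 𝒜 ℬ 𝒯 ψ hT mR.toIdeal hmR mT.toIdeal hmT
      (E := (EM.X q).carrier) (N := N) x.2.1 y
    exact ⟨K, fun t ht => Subtype.ext (hK t ht)⟩
  have hker : v ∈ LinearMap.ker (segD 𝒜 ℬ 𝒯 ψ hT EM 𝒩 q) := by
    rw [LinearMap.mem_ker]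
    apply segVal_injective 𝒜 ℬ 𝒯 ψ hT EM 𝒩 (q + 1)
    rw [segVal_segD, map_zero]
    show XTmap ψ N (EM.d q) (XT.tmul ψ (x : (EM.X q).carrier) y) = 0
    rw [XTmap_tmul]
    have : EM.d q (x : (EM.X q).carrier) = 0 := x.2.2
    rw [this]
    exact TensorProduct.zero_tmul _ _
  refine ⟨⟨v, hgam, hker⟩, hseg, ?_⟩
  rw [theta0_eq 𝒜 ℬ 𝒯 ψ hT mR hmR mT hmT EM 𝒩 e he g hg hgN q _ (XT.tmul ψ x y)]
  · exact XTmap_tmul _ _ _
  · unfold jmap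
    exact XTmap_tmul _ _ _

end ThetaGr

end Groth.Agent.Helper7.Kun
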