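import Mathlib
import Groth.Prelude.Def_GrLC
import Groth.Prelude.Def_Wider
import Groth.Prelude.Def_GrSeg
import Groth.Agent.Helper7.KunL

/-!
# Künneth project, part M: `H^q_{T_+}(M # N) ≅ H^q_m(M) # N` when a homogeneous element of positive
degree acts bijectively on `N`.
-/

set_option autoImplicit false
set_option linter.unusedSectionVars false
set_option linter.style.haveILetI false

namespace Groth.Agent.Helper7.Kun

open TensorProduct Groth.Agent.Helper9.SegreMod Groth.Agent.Helper9.Segre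
  Groth.Agent.Helper7.SegMod Groth.Agent.Helper7.GrAcy

universe u

section Noeth

variable (k : Type u) [Field k] (R S : Type u) [CommRing R] [Algebra k R] [CommRing S] [Algebra k S]

theorem isNoetherianRing_tensor [Algebra.FiniteType k R] [Algebra.FiniteType k S] :
    IsNoetherianRing (R ⊗[k] S) := by
  haveI : Algebra.FiniteType R (R ⊗[k] S) := inferInstance
  haveI : Algebra.FiniteType k (R ⊗[k] S) := Algebra.FiniteType.trans (S := R) inferInstance inferInstance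
  exact Algebra.FiniteType.isNoetherianRing k (R ⊗[k] S)

end Noeth

section Main

variable {k : Type u} [Field k] {R S T : Type u} [CommRing R] [Algebra k R] [CommRing S] [Algebra k S]
  [CommRing T] [Algebra k T]
  (𝒜 : ℤ → Submodule k R) [GradedAlgebra 𝒜] (ℬ : ℤ → Submodule k S) [GradedAlgebra ℬ]
  (𝒯 : ℤ → Submodule k T) [GradedAlgebra 𝒯] (ψ : T →ₐ[k] R ⊗[k] S)
  (hT : GrSeg.IsSegreRing 𝒜 ℬ 𝒯 ψ)
  (mR : HomogeneousIdeal 𝒜)
  (hmR : mR.toIdeal = Ideal.span (⋃ n ∈ Set.Ioi (0 : ℤ), (𝒜 n : Set R)))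
  (mT : HomogeneousIdeal 𝒯)
  (hmT : mT.toIdeal = Ideal.span (⋃ n ∈ Set.Ioi (0 : ℤ), (𝒯 n : Set T)))
  {M : Type u} [AddCommGroup M] [Module R M] [Module k M] [IsScalarTower k R M]
  {ℳ : ℤ → AddSubgroup M} [DirectSum.Decomposition ℳ] [SetLike.GradedSMul 𝒜 ℳ]
  (EM : GrLC.StarInjRes 𝒜 ℳ)
  {N : Type u} [AddCommGroup N] [Module S N] [Module k N] [IsScalarTower k S N]
  (𝒩 : ℤ → AddSubgroup N) [DirectSum.Decomposition 𝒩] [SetLike.GradedSMul ℬ 𝒩]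
  {P : Type u} [AddCommGroup P] [Module T P] [Module k P] [IsScalarTower k T P]
  (𝒬 : ℤ → AddSubgroup P) [DirectSum.Decomposition 𝒬] [SetLike.GradedSMul 𝒯 𝒬]
  (φ : P →ₗ[k] M ⊗[k] N) (hP : GrSeg.IsSegreMod ψ ℳ 𝒩 𝒬 φ)
  (EP : GrLC.StarInjRes 𝒯 𝒬)
  [IsNoetherianRing R] [IsNoetherianRing (R ⊗[k] S)]
  (e : ℕ) (he : 0 < e) (g : S) (hg : g ∈ ℬ (e : ℤ))
  (hgN : Function.Bijective (fun y : N => g • y)) (q : ℕ)
  [inst1 : Module k (EM.H mR q)]
  [inst2 : @IsScalarTower k R (EM.H mR q) _ _ inst1.toDistribMulAction.toMulAction.toSMul]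
  [inst3 : Module k (EP.H mT q)]
  [inst4 : @IsScalarTower k T (EP.H mT q) _ _ inst3.toDistribMulAction.toMulAction.toSMul]
  [DirectSum.Decomposition (EP.Hgr mT q)]

include hT hmR hmT hP he hg hgN in
/-- **Künneth for Segre products, one factor with an invertible homogeneous element.** -/
theorem main_bijective :
    ∃ φ' : EP.H mT q →ₗ[k] (EM.H mR q) ⊗[k] N,
      GrSeg.IsSegreMod ψ (EM.Hgr mR q) 𝒩 (EP.Hgr mT q) φ' := by
  obtain ⟨Ψ, hΨ1, hΨ2⟩ := exists_compare 𝒜 ℬ 𝒯 ψ hT mR hmR mT hmT EM 𝒩 𝒬 φ hP EP e he g hg hgN q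
  let θ0 := theta0 𝒜 ℬ 𝒯 ψ hT mR hmR mT hmT EM 𝒩 e he g hg hgN q
  let Θ : HH (idealPlus 𝒯 mT) (segX 𝒜 ℬ 𝒯 ψ hT EM 𝒩) (segD 𝒜 ℬ 𝒯 ψ hT EM 𝒩) q →ₗ[T]
      XT ψ (EM.H mR q) N :=
    Submodule.liftQ _ θ0 (fun z hz => LinearMap.mem_ker.mpr
      (theta0_cobdy 𝒜 ℬ 𝒯 ψ hT mR hmR mT hmT EM 𝒩 e he g hg hgN q z hz))
  have hΘ : ∀ z, Θ (toHH (idealPlus 𝒯 mT) (segX 𝒜 ℬ 𝒯 ψ hT EM 𝒩) (segD 𝒜 ℬ 𝒯 ψ hT EM 𝒩) q z) =
      θ0 z := fun z => Submodule.liftQ_apply _ _ _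
  have hΘinj : Function.Injective Θ := by
    rw [injective_iff_map_eq_zero]
    intro x hx
    obtain ⟨z, rfl⟩ := Submodule.Quotient.mk_surjective _ x
    have h1 : θ0 z = 0 := (hΘ z).symm.trans hx
    exact (Submodule.Quotient.mk_eq_zero _).mpr
      (cobdy_of_theta0_eq_zero 𝒜 ℬ 𝒯 ψ hT mR hmR mT hmT EM 𝒩 e he g hg hgN q z h1)
  let φ' : EP.H mT q →ₗ[k] (EM.H mR q) ⊗[k] N :=
    { toFun := fun p => (Θ (Ψ p) : XT ψ (EM.H mR q) N)
      map_add' := fun p p' => by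
        show Θ (Ψ (p + p')) = Θ (Ψ p) + Θ (Ψ p')
        rw [map_add, map_add]
      map_smul' := fun c p => by
        show Θ (Ψ (c • p)) = c • Θ (Ψ p)
        have h1 : c • p = algebraMap k T c • p := (algebraMap_smul T c p).symm
        rw [h1, map_smul, map_smul]
        exact algebraMap_smul T c (Θ (Ψ p)) }
  have hφ' : ∀ p, φ' p = (Θ (Ψ p) : XT ψ (EM.H mR q) N) := fun p => rfl
  refine ⟨φ', ⟨?_, ?_, ?_⟩⟩
  · intro p p' h
    exact Ψ.injective (hΘinj h)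
  · intro n
    apply Set.eq_of_subset_of_subset
    · rintro _ ⟨p, hp, rfl⟩
      obtain ⟨z, hz, hzp⟩ := hΨ1 n p hp
      have h2 : φ' p = θ0 z := by
        rw [hφ', ← hΘ z]
        exact congrArg Θ hzp.symm
      rw [SetLike.mem_coe, h2]
      exact theta0_mem 𝒜 ℬ 𝒯 ψ hT mR hmR mT hmT EM 𝒩 e he g hg hgN q n z hz
    · intro v hv
      rw [SetLike.mem_coe] at hv
      unfold GrSeg.segrePiece at hv
      induction hv using Submodule.span_induction with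
      | mem v hv =>
        obtain ⟨h, ⟨x, hx, rfl⟩, y, hy, rfl⟩ := hv
        obtain ⟨z, hz, hzθ⟩ := exists_theta0_tmul 𝒜 ℬ 𝒯 ψ hT mR hmR mT hmT EM 𝒩 e he g hg hgN q
          n x hx y hy
        refine ⟨Ψ.symm (toHH (idealPlus 𝒯 mT) (segX 𝒜 ℬ 𝒯 ψ hT EM 𝒩)
          (segD 𝒜 ℬ 𝒯 ψ hT EM 𝒩) q z), hΨ2 n _ ⟨z, hz, rfl⟩, ?_⟩
        rw [hφ', LinearEquiv.apply_symm_apply, hΘ z]
        exact hzθ
      | zero => exact ⟨0, zero_mem _, map_zero φ'⟩
      | add v w _ _ hv hw =>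
        obtain ⟨p1, hp1, h1⟩ := hv
        obtain ⟨p2, hp2, h2⟩ := hw
        exact ⟨p1 + p2, add_mem hp1 hp2, by rw [map_add, h1, h2]⟩
      | smul c v _ hv =>
        obtain ⟨p1, hp1, h1⟩ := hv
        refine ⟨c • p1, ?_, by rw [map_smul, h1]⟩
        have h3 : c • p1 = algebraMap k T c • p1 := (algebraMap_smul T c p1).symm
        rw [h3]
        exact (EP.Hcomp mT q n).smul_mem
          (⟨algebraMap k T c, SetLike.algebraMap_mem_graded 𝒯 c⟩ : GrLC.deg0 𝒯) hp1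
  · intro t p
    show Θ (Ψ (t • p)) = t • Θ (Ψ p)
    rw [map_smul, map_smul]

end Main

end Groth.Agent.Helper7.Kun
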