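import Mathlib
import Groth.Prelude.Def_GrLC
import Groth.Prelude.Def_Wider
import Groth.Agent.Helper7.KunC2
import Groth.Agent.Helper1.GammaInj
import Groth.Agent.Helper1.LocCohBasic
import Groth.Agent.Helper6.LCAcycRes

/-!
# Künneth project, part N: vanishing of local cohomology for a sum of two ideals
(the composite functor `Γ_{a+b} = Γ_b ∘ Γ_a`).
-/

set_option autoImplicit false
set_option linter.unusedSectionVars false
set_option linter.style.haveILetI false

namespace Groth.Agent.Helper7.Kun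

open DirectSum CategoryTheory Groth.Agent.Helper6.GrCon Groth.Agent.Helper7.GrDel

universe u

section Comp

variable (A : Type u) [CommRing A]

theorem gr_unit_eq_top (Y : GrLC.GMod.{u} (triv A)) (x : Y.carrier) : x ∈ Y.gr () := by
  classical
  rw [← DirectSum.sum_support_decompose Y.gr x]
  refine AddSubgroup.sum_mem _ fun i _ => ?_
  exact (DirectSum.decompose Y.gr x i).2

/-- a *injective module for the trivial grading is injective -/
theorem injective_of_isStarInj_triv (Y : GrLC.GMod.{u} (triv A)) (hY : GrLC.IsStarInj (triv A) Y.gr) :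
    Module.Injective A Y.carrier := by
  apply Module.Baer.injective
  intro I g
  obtain ⟨h, -, hh⟩ := hY (GrLC.GMod.of (triv A) ↥I (trivFam ↥I))
    (GrLC.GMod.of (triv A) A (trivFam A)) I.subtype (fun _ _ _ => trivial)
    Subtype.val_injective g (fun _ x _ => gr_unit_eq_top A Y (g x))
  refine ⟨h, fun x hx => ?_⟩
  have := congrArg (fun f => f ⟨x, hx⟩) hh
  exact this

variable [IsNoetherianRing A] (X : Type u) [AddCommGroup X] [Module A X]

theorem subsingleton_HH_iff (J : Ideal A) (Y : ℕ → ModuleCat.{u} A) (d : ∀ n, Y n →ₗ[A] Y (n + 1))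
    (i : ℕ) :
    Subsingleton (Groth.Agent.Helper6.LCAcycRes.HH J Y d i) ↔
      Groth.Agent.Helper6.LCAcycRes.cocyc J Y d i ≤ Groth.Agent.Helper6.LCAcycRes.cobdy J Y d i := by
  constructor
  · intro h x hx
    have h0 : (Submodule.Quotient.mk ⟨x, hx⟩ : Groth.Agent.Helper6.LCAcycRes.HH J Y d i) = 0 :=
      Subsingleton.elim _ _
    have h1 := (Submodule.Quotient.mk_eq_zero _).mp h0
    exact h1
  · intro h
    refine ⟨fun x y => ?_⟩
    have h0 : ∀ w : Groth.Agent.Helper6.LCAcycRes.HH J Y d i, w = 0 := by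
      intro w
      obtain ⟨z, rfl⟩ := Submodule.Quotient.mk_surjective _ w
      exact (Submodule.Quotient.mk_eq_zero _).mpr (h z.2)
    rw [h0 x, h0 y]

/-- **composite functor vanishing**: if `X` is `Γ_a`-acyclic and `Γ_a(X)` is `Γ_b`-acyclic, then
`X` is `Γ_{a+b}`-acyclic. -/
theorem locCoh_sup_vanish (a b : Ideal A)
    (ha : ∀ j : ℕ, Subsingleton (LocCoh.H a (j + 1) X))
    (hb : ∀ j : ℕ, Subsingleton (LocCoh.H b (j + 1) ↥(GrLC.gam a X))) (j : ℕ) :
    Subsingleton (LocCoh.H (a ⊔ b) (j + 1) X) := by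
  obtain ⟨G⟩ := Groth.Agent.Helper6.GrExist.nonempty_starInjRes (triv A) (trivFam X)
  -- the terms `Γ_a(G^n)` are injective
  have hinj : ∀ n, Module.Injective A ↥(GrLC.gam a (G.X n).carrier) := by
    intro n
    haveI := injective_of_isStarInj_triv A (G.X n) (G.starInj n)
    exact Groth.Agent.Helper1.GammaInj.injective_torsionSub a (E := (G.X n).carrier)
  -- the resolution `Γ_a(G^•)` of `Γ_a(X)`
  let Y : ℕ → ModuleCat.{u} A := fun n => ModuleCat.of A ↥(GrLC.gam a (G.X n).carrier)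
  let d' : ∀ n, Y n →ₗ[A] Y (n + 1) := fun n =>
    (G.d n).restrict (fun x hx => map_mem_gam a (G.d n) hx)
  let ε' : ↥(GrLC.gam a X) →ₗ[A] Y 0 := G.ε.restrict (fun x hx => map_mem_gam a G.ε hx)
  have hε' : Function.Injective ε' := by
    intro x y h
    exact Subtype.ext (G.ε_injective (congrArg Subtype.val h))
  have h0 : LinearMap.ker (d' 0) = LinearMap.range ε' := by
    apply le_antisymm
    · intro x hx
      have hx' : G.d 0 x.1 = 0 := congrArg Subtype.val (LinearMap.mem_ker.mp hx)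
      have hx'' : x.1 ∈ LinearMap.ker (G.d 0) := hx'
      rw [G.exact_zero] at hx''
      obtain ⟨m, hm⟩ := hx''
      have hmg : m ∈ GrLC.gam a X := by
        obtain ⟨n, hn⟩ := x.2
        refine ⟨n, fun r hr => ?_⟩
        apply G.ε_injective
        rw [map_smul, hm, hn r hr, map_zero]
      exact ⟨⟨m, hmg⟩, Subtype.ext hm⟩
    · rintro _ ⟨m, rfl⟩
      rw [LinearMap.mem_ker]
      apply Subtype.ext
      have : G.ε m.1 ∈ LinearMap.ker (G.d 0) := by
        rw [G.exact_zero]; exact ⟨m.1, rfl⟩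
      exact this
  have hs : ∀ n, LinearMap.ker (d' (n + 1)) = LinearMap.range (d' n) := by
    intro n
    apply le_antisymm
    · intro x hx
      have hx' : G.d (n + 1) x.1 = 0 := congrArg Subtype.val (LinearMap.mem_ker.mp hx)
      obtain ⟨e⟩ := Groth.Agent.Helper7.GrAcy.nonempty_H_equiv (trivIdeal A a) G (n + 1)
      have h1 : Subsingleton (G.H (trivIdeal A a) (n + 1)) := by
        have : Subsingleton (LocCoh.H (trivIdeal A a).toIdeal (n + 1) X) := ha n
        exact e.toEquiv.subsingleton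
      rw [subsingleton_H_iff] at h1
      obtain ⟨u, hu, hux⟩ := h1 (⟨x.2, hx'⟩ : x.1 ∈ G.cocyc (trivIdeal A a) (n + 1))
      exact ⟨⟨u, hu⟩, Subtype.ext hux⟩
    · rintro _ ⟨u, rfl⟩
      rw [LinearMap.mem_ker]
      apply Subtype.ext
      have : G.d n u.1 ∈ LinearMap.ker (G.d (n + 1)) := by
        rw [G.exact_succ]; exact ⟨u.1, rfl⟩
      exact this
  have hac : ∀ n k, Subsingleton (LocCoh.H b (k + 1) (Y n)) := by
    intro n k
    haveI := hinj n
    haveI : Injective (ModuleCat.of A ↥(GrLC.gam a (G.X n).carrier)) :=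
      Module.injective_object_of_injective_module A _
    exact ModuleCat.subsingleton_of_isZero
      (Groth.Agent.Helper1.LocCohDelta.isZero_lc_injective b
        (ModuleCat.of A ↥(GrLC.gam a (G.X n).carrier)) k)
  obtain ⟨e2⟩ := Groth.Agent.Helper6.LCAcycRes.main b (j + 1) Y d' ↥(GrLC.gam a X) ε' hε' h0 hs hac
  have h2 : Subsingleton (Groth.Agent.Helper6.LCAcycRes.HH b Y d' (j + 1)) := by
    haveI := hb j
    exact e2.toEquiv.subsingleton
  rw [subsingleton_HH_iff] at h2
  -- conclude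
  obtain ⟨e3⟩ := Groth.Agent.Helper7.GrAcy.nonempty_H_equiv (trivIdeal A (a ⊔ b)) G (j + 1)
  have h3 : Subsingleton (G.H (trivIdeal A (a ⊔ b)) (j + 1)) := by
    rw [subsingleton_H_iff]
    intro z hz
    have hz1 : z ∈ GrLC.gam (a ⊔ b) (G.X (j + 1)).carrier := hz.1
    rw [gam_sup] at hz1
    have hzc : (⟨z, hz1.1⟩ : Y (j + 1)) ∈ Groth.Agent.Helper6.LCAcycRes.cocyc b Y d' (j + 1) := by
      refine ⟨?_, ?_⟩
      · obtain ⟨n, hn⟩ := hz1.2
        exact ⟨n, fun r hr => Subtype.ext (hn r hr)⟩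
      · apply LinearMap.mem_ker.mpr
        exact Subtype.ext hz.2
    obtain ⟨u, hu, huz⟩ := h2 hzc
    refine ⟨u.1, ?_, congrArg Subtype.val huz⟩
    show u.1 ∈ GrLC.gam (a ⊔ b) (G.X j).carrier
    rw [gam_sup]
    refine ⟨u.2, ?_⟩
    obtain ⟨n, hn⟩ := hu
    exact ⟨n, fun r hr => congrArg Subtype.val (hn r hr)⟩
  exact e3.symm.toEquiv.subsingleton

end Comp

end Groth.Agent.Helper7.Kun
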