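import Mathlib
import Groth.Prelude.Def_GrLC
import Groth.Prelude.Def_Wider
import Groth.Prelude.Def_GrSeg
import Groth.Agent.Helper7.KunH
import Groth.Agent.Helper7.KunN

/-!
# Künneth project, part O: `E ⊗ F` is `Γ_{T_+ (R ⊗ S)}`-acyclic when both `E` and `F` have the
extension property.
-/

set_option autoImplicit false
set_option linter.unusedSectionVars false
set_option linter.style.haveILetI false

namespace Groth.Agent.Helper7.Kun

open TensorProduct CategoryTheory Groth.Agent.Helper9.SegreMod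

universe u

attribute [local instance] Groth.Agent.Helper9.SegreMod.tensorModule

section Right

variable {k : Type u} [Field k] {R S : Type u} [CommRing R] [Algebra k R] [CommRing S] [Algebra k S]
  {E : Type u} [AddCommGroup E] [Module R E] [Module k E] [IsScalarTower k R E]
  {N : Type u} [AddCommGroup N] [Module S N] [Module k N] [IsScalarTower k S N]

/-- the `S`-module structure of `E ⊗ N` through the right factor -/
@[reducible] noncomputable def rightModule : Module S (E ⊗[k] N) :=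
  Module.compHom (E ⊗[k] N) (Algebra.TensorProduct.includeRight : S →ₐ[k] R ⊗[k] S).toRingHom

theorem right_smul_def (s : S) (v : E ⊗[k] N) :
    (letI := rightModule (k := k) (R := R) (S := S) (E := E) (N := N); s • v) =
      GrSeg.act k R S E N ((1 : R) ⊗ₜ[k] s) v := rfl

theorem right_smul_tmul (s : S) (x : E) (y : N) :
    (letI := rightModule (k := k) (R := R) (S := S) (E := E) (N := N); s • (x ⊗ₜ[k] y)) =
      x ⊗ₜ[k] (s • y) := by
  rw [right_smul_def, GrSeg.act_tmul, one_smul]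

/-- `E ⊗ N` is a direct sum of copies of `N` as an `S`-module -/
noncomputable def tensorEquivFinsuppRight :
    letI := rightModule (k := k) (R := R) (S := S) (E := E) (N := N)
    E ⊗[k] N ≃ₗ[S] (Module.Free.ChooseBasisIndex k E →₀ N) := by
  classical
  letI := rightModule (k := k) (R := R) (S := S) (E := E) (N := N)
  let e : E ⊗[k] N ≃ₗ[k] (Module.Free.ChooseBasisIndex k E →₀ N) :=
    (TensorProduct.congr (Module.Free.chooseBasis k E).repr (LinearEquiv.refl k N)).trans
      (TensorProduct.finsuppScalarLeft k N (Module.Free.ChooseBasisIndex k E))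
  have he : ∀ (s : S) (v : E ⊗[k] N), e (s • v) = s • e v := by
    intro s v
    induction v using TensorProduct.induction_on with
    | zero => rw [smul_zero, map_zero, smul_zero]
    | tmul x y =>
      rw [right_smul_tmul]
      ext β
      simp only [e, LinearEquiv.trans_apply, TensorProduct.congr_tmul, LinearEquiv.refl_apply,
        TensorProduct.finsuppScalarLeft_apply_tmul_apply, Finsupp.smul_apply]
      rw [smul_comm]
    | add v w hv hw => rw [smul_add, map_add, hv, hw, map_add, smul_add]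
  exact { e with map_smul' := he }

theorem locCoh_right (ℬ : ℤ → Submodule k S) [GradedAlgebra ℬ]
    [IsNoetherianRing S] [IsNoetherianRing (R ⊗[k] S)]
    (hN : FgExt (plus ℬ) N) (n : HomogeneousIdeal (plus ℬ)) (i : ℕ) (hi : 1 ≤ i) :
    Subsingleton (LocCoh.H (n.toIdeal.map
      (Algebra.TensorProduct.includeRight : S →ₐ[k] R ⊗[k] S).toRingHom) i (E ⊗[k] N)) := by
  letI := rightModule (k := k) (R := R) (S := S) (E := E) (N := N)
  letI : Algebra S (R ⊗[k] S) :=
    (Algebra.TensorProduct.includeRight : S →ₐ[k] R ⊗[k] S).toRingHom.toAlgebra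
  haveI : IsScalarTower S (R ⊗[k] S) (E ⊗[k] N) := ⟨fun s τ v => by
    show GrSeg.act k R S E N (((1 : R) ⊗ₜ[k] s) * τ) v =
      GrSeg.act k R S E N ((1 : R) ⊗ₜ[k] s) (GrSeg.act k R S E N τ v)
    exact act_mul _ _ _⟩
  have h1 : FgExt (plus ℬ) (E ⊗[k] N) :=
    (hN.finsupp _).of_linearEquiv
      (tensorEquivFinsuppRight (k := k) (R := R) (S := S) (E := E) (N := N)).symm
  have h2 := h1.locCoh_subsingleton n i hi
  obtain ⟨φ, -⟩ := Groth.Agent.Helper1.LocCohBase.exists_addEquiv (R := S) (R' := R ⊗[k] S)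
    n.toIdeal (E ⊗[k] N) i
  haveI : Subsingleton ((localCohomology n.toIdeal i).obj (ModuleCat.of S (E ⊗[k] N))) := h2
  exact φ.toEquiv.subsingleton

end Right

section GamA

variable {k : Type u} [Field k] {R S : Type u} [CommRing R] [Algebra k R] [CommRing S] [Algebra k S]
  {E : Type u} [AddCommGroup E] [Module R E] [Module k E] [IsScalarTower k R E]
  {N : Type u} [AddCommGroup N] [Module S N] [Module k N] [IsScalarTower k S N]
  (mR : Ideal R)

theorem locCoh_congr {A : Type u} [CommRing A] (J : Ideal A) (i : ℕ) {X X' : Type u}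
    [AddCommGroup X] [Module A X] [AddCommGroup X'] [Module A X'] (e : X ≃ₗ[A] X')
    (h : Subsingleton (LocCoh.H J i X)) : Subsingleton (LocCoh.H J i X') := by
  have e2 := ((localCohomology J i).mapIso e.toModuleIso).toLinearEquiv
  haveI : Subsingleton ((localCohomology J i).obj (ModuleCat.of A X)) := h
  exact e2.symm.toEquiv.subsingleton

/-- the `R ⊗ S`-linear map `Γ_m(E) ⊗ N → E ⊗ N` -/
noncomputable def gamIncl : (↥(GrLC.gam mR E)) ⊗[k] N →ₗ[R ⊗[k] S] E ⊗[k] N where
  toFun := TensorProduct.map ((GrLC.gam mR E).subtype.restrictScalars k) (LinearMap.id : N →ₗ[k] N)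
  map_add' := map_add _
  map_smul' τ v := act_map (GrLC.gam mR E).subtype τ v

theorem gamIncl_injective : Function.Injective (gamIncl (k := k) (S := S) (E := E) (N := N) mR) := by
  have h : Function.Injective
      (LinearMap.rTensor N ((GrLC.gam mR E).subtype.restrictScalars k)) :=
    Module.Flat.rTensor_preserves_injective_linearMap _ Subtype.val_injective
  exact h

theorem range_gamIncl [IsNoetherianRing R] :
    LinearMap.range (gamIncl (k := k) (S := S) (E := E) (N := N) mR) =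
      GrLC.gam (idA (k := k) (S := S) mR) (E ⊗[k] N) := by
  apply le_antisymm
  · rintro _ ⟨w, rfl⟩
    induction w using TensorProduct.induction_on with
    | zero => rw [map_zero]; exact Submodule.zero_mem _
    | tmul x y =>
      obtain ⟨K, hK⟩ := x.2
      refine ⟨K, fun τ hτ => ?_⟩
      exact act_map_pow_eq_zero mR hK y hτ
    | add v w hv hw => rw [map_add]; exact Submodule.add_mem _ hv hw
  · intro v hv
    have h1 : v ∈ GrLC.gam mR (E ⊗[k] N) := by
      obtain ⟨K, hK⟩ := hv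
      refine ⟨K, fun r hr => ?_⟩
      rw [← act_left (S := S)]
      apply hK
      unfold idA
      rw [← Ideal.map_pow]
      have := Ideal.mem_map_of_mem (algebraMap R (R ⊗[k] S)) hr
      rwa [Algebra.TensorProduct.algebraMap_apply, Algebra.algebraMap_self, RingHom.id_apply] at this
    obtain ⟨w, hw⟩ := gam_tensor_le (AlgHom.id k (R ⊗[k] S)) mR h1
    exact ⟨w, hw⟩

/-- `Γ_{m(R ⊗ S)}(E ⊗ N) ≅ Γ_m(E) ⊗ N` -/
noncomputable def gamEquiv [IsNoetherianRing R] :
    (↥(GrLC.gam mR E)) ⊗[k] N ≃ₗ[R ⊗[k] S] ↥(GrLC.gam (idA (k := k) (S := S) mR) (E ⊗[k] N)) :=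
  (LinearEquiv.ofInjective _ (gamIncl_injective (k := k) (S := S) (E := E) (N := N) mR)).trans
    (LinearEquiv.ofEq _ _ (range_gamIncl mR))

end GamA

section Main2

variable {k : Type u} [Field k] {R S T : Type u} [CommRing R] [Algebra k R] [CommRing S] [Algebra k S]
  [CommRing T] [Algebra k T]
  (𝒜 : ℤ → Submodule k R) [GradedAlgebra 𝒜] (ℬ : ℤ → Submodule k S) [GradedAlgebra ℬ]
  (𝒯 : ℤ → Submodule k T) [GradedAlgebra 𝒯] (ψ : T →ₐ[k] R ⊗[k] S)
  (hT : GrSeg.IsSegreRing 𝒜 ℬ 𝒯 ψ)
  (mR : HomogeneousIdeal (plus 𝒜))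
  (hmR : mR.toIdeal = Ideal.span (⋃ n ∈ Set.Ioi (0 : ℤ), (𝒜 n : Set R)))
  (mS : HomogeneousIdeal (plus ℬ))
  (hmS : mS.toIdeal = Ideal.span (⋃ n ∈ Set.Ioi (0 : ℤ), (ℬ n : Set S)))
  (mT : Ideal T) (hmT : mT = Ideal.span (⋃ n ∈ Set.Ioi (0 : ℤ), (𝒯 n : Set T)))
  (E : Type u) [AddCommGroup E] [Module R E] [Module k E] [IsScalarTower k R E]
  (N : Type u) [AddCommGroup N] [Module S N] [Module k N] [IsScalarTower k S N]
  [IsNoetherianRing R] [IsNoetherianRing S] [IsNoetherianRing (R ⊗[k] S)]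

include hT hmR hmS hmT in
/-- `E ⊗ F` is acyclic for `T_+ (R ⊗ S)` when both factors have the extension property. -/
theorem locCoh_idC_vanish₂ (hE : FgExt (plus 𝒜) E) (hN : FgExt (plus ℬ) N) (i : ℕ) :
    Subsingleton (LocCoh.H (idC ψ mT) (i + 1) (E ⊗[k] N)) := by
  obtain ⟨K, hK⟩ := exists_pow_le 𝒜 ℬ 𝒯 ψ hT mR.toIdeal hmR mS.toIdeal hmS mT hmT
  have ha : ∀ j : ℕ, Subsingleton (LocCoh.H (idA (k := k) (S := S) mR.toIdeal) (j + 1) (E ⊗[k] N)) :=
    fun j => locCoh_left 𝒜 hE mR (j + 1) (by omega)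
  have hb : ∀ j : ℕ, Subsingleton (LocCoh.H (idB (k := k) (R := R) mS.toIdeal) (j + 1) (E ⊗[k] N)) :=
    fun j => locCoh_right ℬ hN mS (j + 1) (by omega)
  have hb' : ∀ j : ℕ, Subsingleton (LocCoh.H (idB (k := k) (R := R) mS.toIdeal) (j + 1)
      ↥(GrLC.gam (idA (k := k) (S := S) mR.toIdeal) (E ⊗[k] N))) := by
    intro j
    have h1 : Subsingleton (LocCoh.H (idB (k := k) (R := R) mS.toIdeal) (j + 1)
        ((↥(GrLC.gam mR.toIdeal E)) ⊗[k] N)) :=
      locCoh_right (E := ↥(GrLC.gam mR.toIdeal E)) ℬ hN mS (j + 1) (by omega)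
    exact locCoh_congr _ _ (gamEquiv (k := k) (S := S) (E := E) (N := N) mR.toIdeal) h1
  have hab := locCoh_sup_vanish (R ⊗[k] S) (E ⊗[k] N) (idA (k := k) (S := S) mR.toIdeal)
    (idB (k := k) (R := R) mS.toIdeal) ha hb'
  exact mv_locCoh (R ⊗[k] S) (E ⊗[k] N) (idA (k := k) (S := S) mR.toIdeal) (idB (k := k) (R := R) mS.toIdeal)
    (idC ψ mT) (idC_le 𝒜 ℬ 𝒯 ψ hT mR.toIdeal hmR mS.toIdeal hmS mT hmT) K hK i
    (ha i) (hb i) (hab (i + 1))

end Main2

end Groth.Agent.Helper7.Kun
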