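import Mathlib
import Groth.Prelude.Def_GrLC
import Groth.Prelude.Def_Wider
import Groth.Prelude.Def_GrSeg
import Groth.Agent.Helper7.KunO

/-!
# Künneth project, part P: `E # F` is `Γ_{T_+}`-acyclic when `E` and `F` have the extension property.
-/

set_option autoImplicit false
set_option linter.unusedSectionVars false
set_option linter.style.haveILetI false

namespace Groth.Agent.Helper7.Kun

open TensorProduct CategoryTheory Groth.Agent.Helper9.SegreMod Groth.Agent.Helper9.Segre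
  Groth.Agent.Helper7.SegMod

universe u

section Acyc

variable {k : Type u} [Field k] {R S T : Type u} [CommRing R] [Algebra k R] [CommRing S] [Algebra k S]
  [CommRing T] [Algebra k T]
  (𝒜 : ℤ → Submodule k R) [GradedAlgebra 𝒜] (ℬ : ℤ → Submodule k S) [GradedAlgebra ℬ]
  (𝒯 : ℤ → Submodule k T) [GradedAlgebra 𝒯] (ψ : T →ₐ[k] R ⊗[k] S)
  (hT : GrSeg.IsSegreRing 𝒜 ℬ 𝒯 ψ)
  (mR : HomogeneousIdeal (plus 𝒜))
  (hmR : mR.toIdeal = Ideal.span (⋃ n ∈ Set.Ioi (0 : ℤ), (𝒜 n : Set R)))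
  (mS : HomogeneousIdeal (plus ℬ))
  (hmS : mS.toIdeal = Ideal.span (⋃ n ∈ Set.Ioi (0 : ℤ), (ℬ n : Set S)))
  (mT : HomogeneousIdeal (plus 𝒯))
  (hmT : mT.toIdeal = Ideal.span (⋃ n ∈ Set.Ioi (0 : ℤ), (𝒯 n : Set T)))
  {E : Type u} [AddCommGroup E] [Module R E] [Module k E] [IsScalarTower k R E]
  (ℰ : ℤ → AddSubgroup E) [DirectSum.Decomposition ℰ] [SetLike.GradedSMul 𝒜 ℰ]
  {N : Type u} [AddCommGroup N] [Module S N] [Module k N] [IsScalarTower k S N]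
  (𝒩 : ℤ → AddSubgroup N) [DirectSum.Decomposition 𝒩] [SetLike.GradedSMul ℬ 𝒩]
  [IsNoetherianRing R] [IsNoetherianRing S] [IsNoetherianRing (R ⊗[k] S)]

include hT hmR hmS hmT in
theorem subsingleton_H_XT₂ (hE : FgExt (plus 𝒜) E) (hN : FgExt (plus ℬ) N) (i : ℕ) :
    Subsingleton (LocCoh.H mT.toIdeal (i + 1) (XT ψ E N)) := by
  haveI : IsNoetherianRing T := Groth.Agent.Helper9.Segre.noeth 𝒜 ℬ 𝒯 ψ hT.2 hT.1
  have h1 := locCoh_idC_vanish₂ 𝒜 ℬ 𝒯 ψ hT mR hmR mS hmS mT.toIdeal hmT E N hE hN i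
  letI : Algebra T (R ⊗[k] S) := ψ.toRingHom.toAlgebra
  letI : Module (R ⊗[k] S) (XT ψ E N) :=
    Groth.Agent.Helper9.SegreMod.tensorModule (k := k) (R := R) (S := S) (M := E) (N := N)
  haveI : IsScalarTower T (R ⊗[k] S) (XT ψ E N) := ⟨fun t τ v => by
    show GrSeg.act k R S E N (ψ t * τ) _ = GrSeg.act k R S E N (ψ t) (GrSeg.act k R S E N τ _)
    exact act_mul _ _ _⟩
  obtain ⟨φ, -⟩ := Groth.Agent.Helper1.LocCohBase.exists_addEquiv (R := T) (R' := R ⊗[k] S)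
    mT.toIdeal (XT ψ E N) (i + 1)
  haveI : Subsingleton ((localCohomology (mT.toIdeal.map (algebraMap T (R ⊗[k] S))) (i + 1)).obj
      (ModuleCat.of (R ⊗[k] S) (XT ψ E N))) := h1
  exact φ.symm.toEquiv.subsingleton

/-- a retract of an acyclic module is acyclic -/
theorem subsingleton_H_of_retract {A : Type u} [CommRing A] (J : Ideal A) (i : ℕ) {X Y : Type u}
    [AddCommGroup X] [Module A X] [AddCommGroup Y] [Module A Y] (s : X →ₗ[A] Y) (r : Y →ₗ[A] X)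
    (hrs : ∀ x, r (s x) = x) (h2 : Subsingleton (LocCoh.H J i Y)) :
    Subsingleton (LocCoh.H J i X) := by
  let F := localCohomology J i
  let s' : ModuleCat.of A X ⟶ ModuleCat.of A Y := ModuleCat.ofHom s
  let r' : ModuleCat.of A Y ⟶ ModuleCat.of A X := ModuleCat.ofHom r
  have hsr : s' ≫ r' = 𝟙 _ := by
    apply ModuleCat.hom_ext
    apply LinearMap.ext
    intro x
    exact hrs x
  have hF : F.map s' ≫ F.map r' = 𝟙 _ := by rw [← F.map_comp, hsr, F.map_id]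
  have hx : ∀ x : F.obj (ModuleCat.of A X), x = 0 := fun x => by
    have h3 : (F.map s' ≫ F.map r').hom x = x := by rw [hF]; rfl
    rw [ModuleCat.hom_comp, LinearMap.comp_apply] at h3
    rw [← h3, @Subsingleton.elim _ h2 ((F.map s').hom x) 0, map_zero]
  exact ⟨fun x y => (hx x).trans (hx y).symm⟩

include hmR hmS hmT in
theorem gacyc_diagMod₂ (hE : FgExt (plus 𝒜) E) (hN : FgExt (plus ℬ) N) :
    Groth.Agent.Helper7.GrAcy.GAcyc mT (diagMod 𝒜 ℬ 𝒯 ψ hT ℰ 𝒩) := by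
  haveI : IsNoetherianRing T := Groth.Agent.Helper9.Segre.noeth 𝒜 ℬ 𝒯 ψ hT.2 hT.1
  exact Groth.Agent.Helper7.GrAcy.gacyc_of_subsingleton mT (diagMod 𝒜 ℬ 𝒯 ψ hT ℰ 𝒩)
    (fun i => subsingleton_H_of_retract mT.toIdeal (i + 1) (diagT 𝒜 ℬ 𝒯 ψ hT ℰ 𝒩).subtype
      (Dret 𝒜 ℬ 𝒯 ψ hT ℰ 𝒩) (Dret_subtype 𝒜 ℬ 𝒯 ψ hT ℰ 𝒩)
      (subsingleton_H_XT₂ 𝒜 ℬ 𝒯 ψ hT mR hmR mS hmS mT hmT hE hN i))

end Acyc

end Groth.Agent.Helper7.Kun
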