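import Mathlib

/-!
# Künneth project, part S1: graded differential vector spaces over a field

`DG k V`: a differential `d`, degree projections `π i` (`i : ℕ`) and the sign operator `σ` on a
`k`-vector space `V`.  Gluing of degreewise maps, graded generalised inverses, and the splitting data
`(h, p)` with `d h + h d = 1 - p`.
-/

set_option autoImplicit false
set_option linter.unusedSectionVars false
set_option linter.style.haveILetI false

namespace Groth.Agent.Helper7.KunLA

open TensorProduct

/-- a graded differential vector space, in operator form -/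
structure DG (k : Type*) [Field k] (V : Type*) [AddCommGroup V] [Module k V] where
  d : V →ₗ[k] V
  π : ℕ → V →ₗ[k] V
  σ : V →ₗ[k] V
  dd : ∀ v, d (d v) = 0
  ππ : ∀ i v, π i (π i v) = π i v
  ππ_ne : ∀ i j v, i ≠ j → π i (π j v) = 0
  dπ : ∀ i v, d (π i v) = π (i + 1) (d v)
  σπ : ∀ i v, σ (π i v) = (-1 : k) ^ i • π i v
  span : ∀ v, v ∈ ⨆ i, LinearMap.range (π i)

namespace DG

variable {k : Type*} [Field k] {V : Type*} [AddCommGroup V] [Module k V] (C : DG k V)

theorem induction {P : V → Prop} (h0 : P 0) (hπ : ∀ i v, P (C.π i v))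
    (hadd : ∀ v w, P v → P w → P (v + w)) (v : V) : P v := by
  have hv := C.span v
  induction hv using Submodule.iSup_induction' with
  | mem i x hx =>
    obtain ⟨y, rfl⟩ := hx
    exact hπ i y
  | zero => exact h0
  | add x y _ _ hx hy => exact hadd x y hx hy

theorem hom_ext {X : Type*} [AddCommGroup X] [Module k X] {f g : V →ₗ[k] X}
    (h : ∀ i v, f (C.π i v) = g (C.π i v)) : f = g := by
  apply LinearMap.ext
  intro v
  induction v using C.induction with
  | h0 => rw [map_zero, map_zero]
  | hπ i v => exact h i v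
  | hadd v w hv hw => rw [map_add, map_add, hv, hw]

theorem mem_range_π {i : ℕ} {v : V} : v ∈ LinearMap.range (C.π i) ↔ C.π i v = v := by
  constructor
  · rintro ⟨w, rfl⟩
    exact C.ππ i w
  · intro h
    exact ⟨v, h⟩

theorem π_zero_d (v : V) : C.π 0 (C.d v) = 0 := by
  induction v using C.induction with
  | h0 => rw [map_zero, map_zero]
  | hπ i v => rw [C.dπ, C.ππ_ne 0 (i + 1) _ (by omega)]
  | hadd v w hv hw => rw [map_add, map_add, hv, hw, add_zero]

theorem πσ (i : ℕ) (v : V) : C.π i (C.σ v) = C.σ (C.π i v) := by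
  induction v using C.induction with
  | h0 => simp
  | hπ j v =>
    rw [C.σπ, map_smul]
    by_cases hij : i = j
    · subst hij
      rw [C.ππ, C.σπ]
    · rw [C.ππ_ne i j _ hij, smul_zero, map_zero]
  | hadd v w hv hw => simp only [map_add, hv, hw]

theorem σσ (v : V) : C.σ (C.σ v) = v := by
  induction v using C.induction with
  | h0 => simp
  | hπ j v =>
    rw [C.σπ, map_smul, C.σπ, smul_smul, ← mul_pow]
    simp
  | hadd v w hv hw => simp only [map_add, hv, hw]

theorem σd (v : V) : C.σ (C.d v) = - C.d (C.σ v) := by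
  induction v using C.induction with
  | h0 => simp
  | hπ j v =>
    rw [C.dπ, C.σπ, C.σπ, map_smul, C.dπ, pow_succ]
    simp
  | hadd v w hv hw =>
    simp only [map_add, hv, hw, neg_add]

/-- operators of degree `0` -/
def IsDeg0 (φ : V →ₗ[k] V) : Prop := ∀ i v, φ (C.π i v) = C.π i (φ v)

/-- operators of degree `-1` -/
def IsDegM1 (φ : V →ₗ[k] V) : Prop :=
  (∀ i v, φ (C.π (i + 1) v) = C.π i (φ v)) ∧ ∀ v, φ (C.π 0 v) = 0

variable {C} in
theorem IsDeg0.σ_comm {φ : V →ₗ[k] V} (hφ : C.IsDeg0 φ) (v : V) : C.σ (φ v) = φ (C.σ v) := by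
  induction v using C.induction with
  | h0 => simp
  | hπ j v => rw [hφ, C.σπ, C.σπ, map_smul, hφ]
  | hadd v w hv hw => simp only [map_add, hv, hw]

variable {C} in
theorem IsDegM1.σ_anticomm {φ : V →ₗ[k] V} (hφ : C.IsDegM1 φ) (v : V) :
    C.σ (φ v) = - φ (C.σ v) := by
  induction v using C.induction with
  | h0 => simp
  | hπ j v =>
    cases j with
    | zero => rw [hφ.2, C.σπ, map_smul, hφ.2]; simp
    | succ j =>
      rw [hφ.1, C.σπ, C.σπ, map_smul, hφ.1, pow_succ]
      simp
  | hadd v w hv hw => simp only [map_add, hv, hw, neg_add]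

theorem exists_bound (v : V) : ∃ n, ∀ i, n ≤ i → C.π i v = 0 := by
  induction v using C.induction with
  | h0 => exact ⟨0, fun i _ => map_zero _⟩
  | hπ j v =>
    refine ⟨j + 1, fun i hi => ?_⟩
    exact C.ππ_ne i j v (by omega)
  | hadd v w hv hw =>
    obtain ⟨a, ha⟩ := hv
    obtain ⟨b, hb⟩ := hw
    refine ⟨max a b, fun i hi => ?_⟩
    rw [map_add, ha i (le_trans (le_max_left a b) hi), hb i (le_trans (le_max_right a b) hi),
      add_zero]

/-- the family of components of a vector, finitely supported -/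
noncomputable def toFs (v : V) : ℕ →₀ V :=
  Finsupp.onFinset (Finset.range (Classical.choose (C.exists_bound v))) (fun i => C.π i v) (by
    intro i hi
    rw [Finset.mem_range]
    by_contra h
    exact hi (Classical.choose_spec (C.exists_bound v) i (not_lt.mp h)))

theorem toFs_apply (v : V) (i : ℕ) : C.toFs v i = C.π i v := rfl

/-- `toFs` as a linear map -/
noncomputable def toFsₗ : V →ₗ[k] (ℕ →₀ V) where
  toFun := C.toFs
  map_add' v w := by
    ext i
    rw [Finsupp.add_apply, toFs_apply, toFs_apply, toFs_apply, map_add]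
  map_smul' c v := by
    ext i
    rw [Finsupp.smul_apply, RingHom.id_apply, toFs_apply, toFs_apply, map_smul]

theorem toFs_π (j : ℕ) (v : V) : C.toFs (C.π j v) = Finsupp.single j (C.π j v) := by
  classical
  ext i
  rw [toFs_apply, Finsupp.single_apply]
  split_ifs with h
  · subst h
    exact C.ππ j v
  · exact C.ππ_ne i j v (Ne.symm h)

/-- glue degreewise maps -/
noncomputable def glue {X : Type*} [AddCommGroup X] [Module k X] (f : ℕ → V →ₗ[k] X) :
    V →ₗ[k] X :=
  (Finsupp.lsum ℕ f) ∘ₗ C.toFsₗ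

theorem glue_π {X : Type*} [AddCommGroup X] [Module k X] (f : ℕ → V →ₗ[k] X) (j : ℕ) (v : V) :
    C.glue f (C.π j v) = f j (C.π j v) := by
  unfold glue
  rw [LinearMap.comp_apply]
  show Finsupp.lsum ℕ f (C.toFs (C.π j v)) = _
  rw [toFs_π, Finsupp.lsum_single]

end DG

section Ginv

variable {k : Type*} [Field k] {V : Type*} [AddCommGroup V] [Module k V]

theorem exists_ginv₀ (d : V →ₗ[k] V) : ∃ g : V →ₗ[k] V, ∀ v, d (g (d v)) = d v := by
  obtain ⟨r, hr⟩ := LinearMap.exists_leftInverse_of_injective (LinearMap.range d).subtype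
    (Submodule.ker_subtype _)
  obtain ⟨s, hs⟩ := LinearMap.exists_rightInverse_of_surjective d.rangeRestrict
    (LinearMap.range_rangeRestrict d)
  refine ⟨s ∘ₗ r, fun v => ?_⟩
  have h1 : r (d v) = ⟨d v, ⟨v, rfl⟩⟩ := by
    have := LinearMap.congr_fun hr ⟨d v, ⟨v, rfl⟩⟩
    exact this
  rw [LinearMap.comp_apply, h1]
  have h2 := LinearMap.congr_fun hs ⟨d v, ⟨v, rfl⟩⟩
  have h3 := congrArg Subtype.val h2
  exact h3

end Ginv

namespace DG

variable {k : Type*} [Field k] {V : Type*} [AddCommGroup V] [Module k V] (C : DG k V)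

/-- the degreewise family used to build a graded generalised inverse -/
noncomputable def ginvFam (g₀ : V →ₗ[k] V) : ℕ → V →ₗ[k] V
  | 0 => 0
  | i + 1 => C.π i ∘ₗ g₀

theorem ginvFam_zero (g₀ : V →ₗ[k] V) (v : V) : C.ginvFam g₀ 0 v = 0 := rfl

theorem ginvFam_succ (g₀ : V →ₗ[k] V) (i : ℕ) (v : V) : C.ginvFam g₀ (i + 1) v = C.π i (g₀ v) := rfl

/-- a graded generalised inverse of the differential -/
theorem exists_ginv : ∃ g : V →ₗ[k] V, (∀ v, C.d (g (C.d v)) = C.d v) ∧ C.IsDegM1 g := by
  obtain ⟨g₀, hg₀⟩ := exists_ginv₀ C.d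
  have hdeg : C.IsDegM1 (C.glue (C.ginvFam g₀)) := by
    constructor
    · intro i v
      rw [C.glue_π, ginvFam_succ]
      induction v using C.induction with
      | h0 => simp
      | hπ j w =>
        by_cases hj : i + 1 = j
        · subst hj
          rw [C.ππ, C.glue_π, ginvFam_succ, C.ππ]
        · rw [C.ππ_ne _ _ _ hj, map_zero, map_zero]
          cases j with
          | zero => rw [C.glue_π, ginvFam_zero, map_zero]
          | succ j =>
            rw [C.glue_π, ginvFam_succ]
            exact (C.ππ_ne i j _ (by omega)).symm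
      | hadd v w hv hw => simp only [map_add, hv, hw]
    · intro v
      rw [C.glue_π, ginvFam_zero]
  refine ⟨C.glue (C.ginvFam g₀), ?_, hdeg⟩
  intro v
  induction v using C.induction with
  | h0 => simp
  | hπ i v =>
    rw [C.dπ, C.glue_π, ginvFam_succ]
    rw [C.dπ, ← C.dπ i v, hg₀, C.dπ, C.ππ]
  | hadd v w hv hw => simp only [map_add, hv, hw]

theorem isDeg0_id : C.IsDeg0 LinearMap.id := fun _ _ => rfl

variable {C} in
theorem IsDeg0.comp {φ φ' : V →ₗ[k] V} (h : C.IsDeg0 φ) (h' : C.IsDeg0 φ') :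
    C.IsDeg0 (φ ∘ₗ φ') := fun i v => by
  rw [LinearMap.comp_apply, LinearMap.comp_apply, h', h]

variable {C} in
theorem IsDeg0.sub {φ φ' : V →ₗ[k] V} (h : C.IsDeg0 φ) (h' : C.IsDeg0 φ') :
    C.IsDeg0 (φ - φ') := fun i v => by
  rw [LinearMap.sub_apply, LinearMap.sub_apply, h, h', map_sub]

/-- splitting data: a homotopy `h` and a projector `p` onto "harmonic" representatives -/
structure Split where
  h : V →ₗ[k] V
  p : V →ₗ[k] V
  hom : ∀ v, C.d (h v) + h (C.d v) = v - p v
  dp : ∀ v, C.d (p v) = 0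
  pd : ∀ v, p (C.d v) = 0
  pp : ∀ v, p (p v) = p v
  hdeg : C.IsDegM1 h
  pdeg : C.IsDeg0 p

theorem nonempty_split : Nonempty C.Split := by
  obtain ⟨g, hg, hgd⟩ := C.exists_ginv
  have hgd' : ∀ i v, g (C.d (C.π i v)) = C.π i (g (C.d v)) := by
    intro i v
    rw [C.dπ, hgd.1]
  have hdg : ∀ i v, C.d (g (C.π i v)) = C.π i (C.d (g v)) := by
    intro i v
    cases i with
    | zero => rw [hgd.2, map_zero, C.π_zero_d]
    | succ i => rw [hgd.1, C.dπ]
  refine ⟨{
    h := g - g ∘ₗ g ∘ₗ C.d
    p := (LinearMap.id - C.d ∘ₗ g) ∘ₗ (LinearMap.id - g ∘ₗ C.d)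
    hom := ?_
    dp := ?_
    pd := ?_
    pp := ?_
    hdeg := ?_
    pdeg := ?_ }⟩
  · intro v
    simp only [LinearMap.sub_apply, LinearMap.comp_apply, LinearMap.id_apply, map_sub, C.dd,
      map_zero, sub_zero]
    abel
  · intro v
    simp only [LinearMap.sub_apply, LinearMap.comp_apply, LinearMap.id_apply, map_sub, C.dd,
      map_zero, sub_zero, hg, sub_self]
  · intro v
    simp only [LinearMap.sub_apply, LinearMap.comp_apply, LinearMap.id_apply, map_sub, C.dd,
      map_zero, sub_zero, hg, sub_self]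
  · intro v
    simp only [LinearMap.sub_apply, LinearMap.comp_apply, LinearMap.id_apply, map_sub, C.dd,
      map_zero, sub_zero, hg, sub_self]
  · constructor
    · intro i v
      simp only [LinearMap.sub_apply, LinearMap.comp_apply, map_sub]
      rw [hgd.1, hgd', hgd.1]
    · intro v
      simp only [LinearMap.sub_apply, LinearMap.comp_apply]
      rw [hgd.2, C.dπ, hgd.1, hgd.2, sub_self]
  · have h1 : C.IsDeg0 (C.d ∘ₗ g) := fun i v => hdg i v
    have h2 : C.IsDeg0 (g ∘ₗ C.d) := fun i v => hgd' i v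
    exact (C.isDeg0_id.sub h1).comp (C.isDeg0_id.sub h2)

end DG

end Groth.Agent.Helper7.KunLA
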