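import Mathlib
import Groth.Agent.Helper7.KunS1

/-!
# Künneth project, part S2: stable subspaces, restriction, quotient and tensor product of graded
differential vector spaces; the tensor product of splitting data.
-/

set_option autoImplicit false
set_option linter.unusedSectionVars false
set_option linter.style.haveILetI false

namespace Groth.Agent.Helper7.KunLA

open TensorProduct

namespace DG

variable {k : Type*} [Field k] {V : Type*} [AddCommGroup V] [Module k V] (C : DG k V)
  {W : Type*} [AddCommGroup W] [Module k W] (C' : DG k W)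

theorem glue_const_id : C.glue (fun _ => (LinearMap.id : V →ₗ[k] V)) = LinearMap.id :=
  C.hom_ext (fun i v => by rw [C.glue_π])

theorem glue_apply {X : Type*} [AddCommGroup X] [Module k X] (f : ℕ → V →ₗ[k] X) (v : V) :
    C.glue f v = (C.toFs v).sum (fun i x => f i x) := rfl

theorem σ_eq_glue : C.σ = C.glue (fun i => ((-1 : k) ^ i) • (LinearMap.id : V →ₗ[k] V)) :=
  C.hom_ext (fun i v => by rw [C.glue_π, C.σπ]; rfl)

/-- subspaces stable under the differential and the degree projections -/
structure Stable (U : Submodule k V) : Prop where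
  d_mem : ∀ v ∈ U, C.d v ∈ U
  π_mem : ∀ i, ∀ v ∈ U, C.π i v ∈ U

variable {C} in
theorem Stable.σ_mem {U : Submodule k V} (hU : C.Stable U) : ∀ v ∈ U, C.σ v ∈ U := by
  intro v hv
  rw [σ_eq_glue, glue_apply]
  apply Submodule.sum_mem
  intro i _
  rw [toFs_apply]
  exact U.smul_mem _ (hU.π_mem i v hv)

theorem stable_top : C.Stable ⊤ := ⟨fun _ _ => trivial, fun _ _ _ => trivial⟩

/-- restriction to a stable subspace -/
noncomputable def restrict (U : Submodule k V) (hU : C.Stable U) : DG k ↥U where
  d := C.d.restrict hU.d_mem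
  π i := (C.π i).restrict (hU.π_mem i)
  σ := C.σ.restrict hU.σ_mem
  dd v := Subtype.ext (C.dd v)
  ππ i v := Subtype.ext (C.ππ i v)
  ππ_ne i j v h := Subtype.ext (C.ππ_ne i j v h)
  dπ i v := Subtype.ext (C.dπ i v)
  σπ i v := Subtype.ext (C.σπ i v)
  span v := by
    have h : ∀ x : V, ∀ hx : x ∈ U, (⟨x, hx⟩ : ↥U) ∈
        ⨆ i, LinearMap.range ((C.π i).restrict (hU.π_mem i)) := by
      intro x hx
      have h1 : x = (C.toFs x).sum (fun _ y => y) := by
        have := LinearMap.congr_fun C.glue_const_id x
        rw [glue_apply] at this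
        exact this.symm
      have h2 : (⟨x, hx⟩ : ↥U) = ∑ i ∈ (C.toFs x).support,
          (C.π i).restrict (hU.π_mem i) ⟨x, hx⟩ := by
        apply Subtype.ext
        rw [AddSubmonoidClass.coe_finsetSum]
        exact h1
      rw [h2]
      apply Submodule.sum_mem
      intro i _
      exact Submodule.mem_iSup_of_mem i ⟨_, rfl⟩
    exact h v.1 v.2

theorem restrict_d (U : Submodule k V) (hU : C.Stable U) (v : ↥U) :
    ((C.restrict U hU).d v : V) = C.d v := rfl

theorem restrict_π (U : Submodule k V) (hU : C.Stable U) (i : ℕ) (v : ↥U) :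
    ((C.restrict U hU).π i v : V) = C.π i v := rfl

/-- quotient by a stable subspace -/
noncomputable def quot (U : Submodule k V) (hU : C.Stable U) : DG k (V ⧸ U) where
  d := U.mapQ U C.d hU.d_mem
  π i := U.mapQ U (C.π i) (hU.π_mem i)
  σ := U.mapQ U C.σ hU.σ_mem
  dd v := by
    obtain ⟨v, rfl⟩ := U.mkQ_surjective v
    simp only [Submodule.mkQ_apply, Submodule.mapQ_apply, C.dd, Submodule.Quotient.mk_zero]
  ππ i v := by
    obtain ⟨v, rfl⟩ := U.mkQ_surjective v
    simp only [Submodule.mkQ_apply, Submodule.mapQ_apply, C.ππ]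
  ππ_ne i j v h := by
    obtain ⟨v, rfl⟩ := U.mkQ_surjective v
    simp only [Submodule.mkQ_apply, Submodule.mapQ_apply, C.ππ_ne i j v h,
      Submodule.Quotient.mk_zero]
  dπ i v := by
    obtain ⟨v, rfl⟩ := U.mkQ_surjective v
    simp only [Submodule.mkQ_apply, Submodule.mapQ_apply, C.dπ]
  σπ i v := by
    obtain ⟨v, rfl⟩ := U.mkQ_surjective v
    simp only [Submodule.mkQ_apply, Submodule.mapQ_apply, C.σπ, Submodule.Quotient.mk_smul]
  span v := by
    obtain ⟨v, rfl⟩ := U.mkQ_surjective v
    induction v using C.induction with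
    | h0 => rw [map_zero]; exact Submodule.zero_mem _
    | hπ i v =>
      exact Submodule.mem_iSup_of_mem i ⟨U.mkQ v, by
        simp only [Submodule.mkQ_apply, Submodule.mapQ_apply]⟩
    | hadd v w hv hw => rw [map_add]; exact Submodule.add_mem _ hv hw

theorem quot_d (U : Submodule k V) (hU : C.Stable U) (v : V) :
    (C.quot U hU).d (U.mkQ v) = U.mkQ (C.d v) := rfl

theorem quot_π (U : Submodule k V) (hU : C.Stable U) (i : ℕ) (v : V) :
    (C.quot U hU).π i (U.mkQ v) = U.mkQ (C.π i v) := rfl

/-- morphisms of graded differential vector spaces -/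
structure Hom (f : V →ₗ[k] W) : Prop where
  d : ∀ v, f (C.d v) = C'.d (f v)
  π : ∀ i v, f (C.π i v) = C'.π i (f v)

variable {C C'} in
theorem Hom.σ {f : V →ₗ[k] W} (hf : C.Hom C' f) (v : V) : f (C.σ v) = C'.σ (f v) := by
  induction v using C.induction with
  | h0 => simp
  | hπ i v => rw [C.σπ, map_smul, hf.π, C'.σπ]
  | hadd v w hv hw => simp only [map_add, hv, hw]

theorem hom_mkQ (U : Submodule k V) (hU : C.Stable U) : C.Hom (C.quot U hU) U.mkQ :=
  ⟨fun _ => rfl, fun _ _ => rfl⟩

theorem hom_subtype (U : Submodule k V) (hU : C.Stable U) : (C.restrict U hU).Hom C U.subtype :=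
  ⟨fun _ => rfl, fun _ _ => rfl⟩

variable {C C'} in
theorem Hom.stable_ker {f : V →ₗ[k] W} (hf : C.Hom C' f) : C.Stable (LinearMap.ker f) := by
  constructor
  · intro v hv
    rw [LinearMap.mem_ker] at hv ⊢
    rw [hf.d, hv, map_zero]
  · intro i v hv
    rw [LinearMap.mem_ker] at hv ⊢
    rw [hf.π, hv, map_zero]

/-- the tensor product (total complex) -/
noncomputable def tensor : DG k (V ⊗[k] W) where
  d := TensorProduct.map C.d LinearMap.id + TensorProduct.map C.σ C'.d
  π n := ∑ i ∈ Finset.range (n + 1), TensorProduct.map (C.π i) (C'.π (n - i))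
  σ := TensorProduct.map C.σ C'.σ
  dd z := by
    induction z using TensorProduct.induction_on with
    | zero => simp
    | tmul v w =>
      simp only [LinearMap.add_apply, TensorProduct.map_tmul, LinearMap.id_apply, map_add, C.dd,
        C'.dd, zero_tmul, tmul_zero, C.σd, neg_tmul]
      simp
    | add x y hx hy => rw [map_add, map_add, hx, hy, add_zero]
  ππ n z := by
    induction z using TensorProduct.induction_on with
    | zero => simp
    | tmul v w =>
      simp only [LinearMap.sum_apply, TensorProduct.map_tmul, map_sum]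
      apply Finset.sum_congr rfl
      intro i hi
      rw [Finset.sum_eq_single i]
      · rw [C.ππ, C'.ππ]
      · intro j _ hji
        rw [C.ππ_ne j i _ hji, zero_tmul]
      · intro h; exact absurd hi h
    | add x y hx hy => rw [map_add, map_add, hx, hy]
  ππ_ne m n z hmn := by
    induction z using TensorProduct.induction_on with
    | zero => simp
    | tmul v w =>
      simp only [LinearMap.sum_apply, TensorProduct.map_tmul, map_sum]
      apply Finset.sum_eq_zero
      intro j hj
      apply Finset.sum_eq_zero
      intro i hi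
      rw [Finset.mem_range] at hi hj
      by_cases hij : i = j
      · subst hij
        rw [C'.ππ_ne (m - i) (n - i) _ (by omega), tmul_zero]
      · rw [C.ππ_ne i j _ hij, zero_tmul]
    | add x y hx hy => rw [map_add, map_add, hx, hy, add_zero]
  dπ n z := by
    induction z using TensorProduct.induction_on with
    | zero => simp
    | tmul v w =>
      simp only [LinearMap.sum_apply, LinearMap.add_apply, TensorProduct.map_tmul, map_sum,
        map_add, LinearMap.id_apply, Finset.sum_add_distrib]
      congr 1
      · rw [Finset.sum_range_succ' _ (n + 1), C.π_zero_d, zero_tmul, add_zero]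
        apply Finset.sum_congr rfl
        intro i _
        rw [C.dπ, Nat.add_sub_add_right]
      · rw [Finset.sum_range_succ _ (n + 1), Nat.sub_self, C'.π_zero_d, tmul_zero, add_zero]
        apply Finset.sum_congr rfl
        intro i hi
        rw [Finset.mem_range] at hi
        rw [C'.dπ, C.πσ, show n + 1 - i = n - i + 1 by omega]
    | add x y hx hy => rw [map_add, map_add, hx, hy, map_add, map_add]
  σπ n z := by
    induction z using TensorProduct.induction_on with
    | zero => simp
    | tmul v w =>
      simp only [LinearMap.sum_apply, TensorProduct.map_tmul, map_sum, Finset.smul_sum]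
      apply Finset.sum_congr rfl
      intro i hi
      rw [Finset.mem_range] at hi
      rw [C.σπ, C'.σπ, TensorProduct.smul_tmul_smul, ← pow_add,
        show i + (n - i) = n by omega]
    | add x y hx hy => rw [map_add, map_add, hx, hy, smul_add]
  span z := by
    set Pn : ℕ → V ⊗[k] W →ₗ[k] V ⊗[k] W := fun n =>
      ∑ i ∈ Finset.range (n + 1), TensorProduct.map (C.π i) (C'.π (n - i)) with hPn
    have key : ∀ (i j : ℕ) (v : V) (w : W),
        Pn (i + j) (C.π i v ⊗ₜ[k] C'.π j w) = C.π i v ⊗ₜ[k] C'.π j w := by
      intro i j v w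
      simp only [hPn, LinearMap.sum_apply, TensorProduct.map_tmul]
      rw [Finset.sum_eq_single i]
      · rw [C.ππ, Nat.add_sub_cancel_left, C'.ππ]
      · intro l _ hli
        rw [C.ππ_ne l i _ hli, zero_tmul]
      · intro h
        exact absurd (Finset.mem_range.mpr (by omega)) h
    induction z using TensorProduct.induction_on with
    | zero => exact Submodule.zero_mem _
    | tmul v w =>
      induction v using C.induction with
      | h0 => rw [zero_tmul]; exact Submodule.zero_mem _
      | hπ i v =>
        induction w using C'.induction with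
        | h0 => rw [tmul_zero]; exact Submodule.zero_mem _
        | hπ j w => exact Submodule.mem_iSup_of_mem (i + j) ⟨_, key i j v w⟩
        | hadd w w' hw hw' => rw [tmul_add]; exact Submodule.add_mem _ hw hw'
      | hadd v v' hv hv' => rw [add_tmul]; exact Submodule.add_mem _ hv hv'
    | add x y hx hy => exact Submodule.add_mem _ hx hy

theorem tensor_d_tmul (v : V) (w : W) :
    (C.tensor C').d (v ⊗ₜ[k] w) = C.d v ⊗ₜ[k] w + C.σ v ⊗ₜ[k] C'.d w := rfl

theorem tensor_π_tmul (n : ℕ) (v : V) (w : W) :
    (C.tensor C').π n (v ⊗ₜ[k] w) =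
      ∑ i ∈ Finset.range (n + 1), C.π i v ⊗ₜ[k] C'.π (n - i) w := by
  show (∑ i ∈ Finset.range (n + 1), TensorProduct.map (C.π i) (C'.π (n - i))) (v ⊗ₜ[k] w) = _
  simp only [LinearMap.sum_apply, TensorProduct.map_tmul]

theorem tensor_σ_tmul (v : V) (w : W) :
    (C.tensor C').σ (v ⊗ₜ[k] w) = C.σ v ⊗ₜ[k] C'.σ w := rfl

end DG

end Groth.Agent.Helper7.KunLA
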