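import Mathlib
import Groth.Agent.Helper7.KunS2

/-!
# Künneth project, part S3: tensor products of morphisms and of splitting data.
-/

set_option autoImplicit false
set_option linter.unusedSectionVars false
set_option linter.style.haveILetI false

namespace Groth.Agent.Helper7.KunLA

open TensorProduct

namespace DG

variable {k : Type*} [Field k] {V : Type*} [AddCommGroup V] [Module k V] {C : DG k V}
  {W : Type*} [AddCommGroup W] [Module k W] {C' : DG k W}
  {V₂ : Type*} [AddCommGroup V₂] [Module k V₂] {C₂ : DG k V₂}
  {W₂ : Type*} [AddCommGroup W₂] [Module k W₂] {C₂' : DG k W₂}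

theorem Hom.tensor {f : V →ₗ[k] V₂} {g : W →ₗ[k] W₂} (hf : C.Hom C₂ f) (hg : C'.Hom C₂' g) :
    (C.tensor C').Hom (C₂.tensor C₂') (TensorProduct.map f g) := by
  constructor
  · intro z
    induction z using TensorProduct.induction_on with
    | zero => simp
    | tmul v w =>
      rw [tensor_d_tmul, map_add, TensorProduct.map_tmul, TensorProduct.map_tmul,
        TensorProduct.map_tmul, tensor_d_tmul, hf.d, hf.σ, hg.d]
    | add x y hx hy => simp only [map_add, hx, hy]
  · intro n z
    induction z using TensorProduct.induction_on with
    | zero => simp
    | tmul v w =>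
      rw [tensor_π_tmul, map_sum, TensorProduct.map_tmul, tensor_π_tmul]
      apply Finset.sum_congr rfl
      intro i _
      rw [TensorProduct.map_tmul, hf.π, hg.π]
    | add x y hx hy => simp only [map_add, hx, hy]

/-- tensor product of splitting data -/
noncomputable def Split.tensor (S : C.Split) (S' : C'.Split) : (C.tensor C').Split where
  h := TensorProduct.map S.h LinearMap.id + TensorProduct.map (C.σ ∘ₗ S.p) S'.h
  p := TensorProduct.map S.p S'.p
  hom z := by
    induction z using TensorProduct.induction_on with
    | zero => simp
    | tmul v w =>
      simp only [LinearMap.add_apply, TensorProduct.map_tmul, LinearMap.id_apply,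
        LinearMap.comp_apply, tensor_d_tmul, map_add]
      have e1 : C.σ (S.h v) = - S.h (C.σ v) := S.hdeg.σ_anticomm v
      have e2 : C.d (C.σ (S.p v)) = 0 := by
        have := C.σd (S.p v)
        rw [S.dp, map_zero] at this
        rw [← neg_eq_zero, ← this]
      have e3 : C.σ (C.σ (S.p v)) = S.p v := C.σσ _
      have e4 : S.p (C.σ v) = C.σ (S.p v) := (S.pdeg.σ_comm v).symm
      have e5 : C.d (S.h v) = v - S.p v - S.h (C.d v) := by
        rw [← S.hom v]; abel
      have e6 : C'.d (S'.h w) = w - S'.p w - S'.h (C'.d w) := by
        rw [← S'.hom w]; abel
      rw [e1, e2, e3, S.pd, e4, e3, e5, e6]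
      simp only [sub_tmul, tmul_sub, neg_tmul, zero_tmul, map_zero]
      abel
    | add x y hx hy =>
      simp only [map_add]
      rw [add_add_add_comm, hx, hy]
      abel
  dp z := by
    induction z using TensorProduct.induction_on with
    | zero => simp
    | tmul v w =>
      rw [TensorProduct.map_tmul, tensor_d_tmul, S.dp, S'.dp, zero_tmul, tmul_zero, add_zero]
    | add x y hx hy => rw [map_add, map_add, hx, hy, add_zero]
  pd z := by
    induction z using TensorProduct.induction_on with
    | zero => simp
    | tmul v w =>
      rw [tensor_d_tmul, map_add, TensorProduct.map_tmul, TensorProduct.map_tmul, S.pd, S'.pd,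
        zero_tmul, tmul_zero, add_zero]
    | add x y hx hy => rw [map_add, map_add, hx, hy, add_zero]
  pp z := by
    induction z using TensorProduct.induction_on with
    | zero => simp
    | tmul v w => rw [TensorProduct.map_tmul, TensorProduct.map_tmul, S.pp, S'.pp]
    | add x y hx hy => rw [map_add, map_add, hx, hy]
  hdeg := by
    constructor
    · intro n z
      induction z using TensorProduct.induction_on with
      | zero => simp
      | tmul v w =>
        rw [tensor_π_tmul, map_sum]
        simp only [LinearMap.add_apply, TensorProduct.map_tmul, LinearMap.id_apply,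
          LinearMap.comp_apply, Finset.sum_add_distrib, map_add, tensor_π_tmul]
        congr 1
        · rw [Finset.sum_range_succ' _ (n + 1), S.hdeg.2, zero_tmul, add_zero]
          apply Finset.sum_congr rfl
          intro i _
          rw [S.hdeg.1, Nat.add_sub_add_right]
        · rw [Finset.sum_range_succ _ (n + 1), Nat.sub_self, S'.hdeg.2, tmul_zero, add_zero]
          apply Finset.sum_congr rfl
          intro i hi
          rw [Finset.mem_range] at hi
          rw [show n + 1 - i = n - i + 1 by omega, S'.hdeg.1, S.pdeg, C.πσ]
      | add x y hx hy => simp only [map_add, hx, hy]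
    · intro z
      induction z using TensorProduct.induction_on with
      | zero => simp
      | tmul v w =>
        rw [tensor_π_tmul, zero_add, Finset.range_one, Finset.sum_singleton, Nat.sub_self]
        simp only [LinearMap.add_apply, TensorProduct.map_tmul, LinearMap.id_apply,
          LinearMap.comp_apply]
        rw [S.hdeg.2, S'.hdeg.2, zero_tmul, tmul_zero, add_zero]
      | add x y hx hy => simp only [map_add, hx, hy, add_zero]
  pdeg := by
    intro n z
    induction z using TensorProduct.induction_on with
    | zero => simp
    | tmul v w =>
      rw [tensor_π_tmul, map_sum, TensorProduct.map_tmul, tensor_π_tmul]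
      apply Finset.sum_congr rfl
      intro i _
      rw [TensorProduct.map_tmul, S.pdeg, S'.pdeg]
    | add x y hx hy => simp only [map_add, hx, hy]

theorem Split.tensor_p_tmul (S : C.Split) (S' : C'.Split) (v : V) (w : W) :
    (S.tensor S').p (v ⊗ₜ[k] w) = S.p v ⊗ₜ[k] S'.p w := rfl

end DG

end Groth.Agent.Helper7.KunLA
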