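import Mathlib
import Groth.Agent.Helper7.KunS3

/-!
# Künneth project, part S4: relative cohomology of a stable subspace, harmonic representatives,
and the connecting isomorphism.
-/

set_option autoImplicit false
set_option linter.unusedSectionVars false
set_option linter.style.haveILetI false

namespace Groth.Agent.Helper7.KunLA

open TensorProduct

section Span

variable {k : Type*} [Field k] {L H₁ H₂ : Type*} [AddCommGroup L] [Module k L] [AddCommGroup H₁]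
  [Module k H₁] [AddCommGroup H₂] [Module k H₂]

/-- two quotients of the same space by the same subspace -/
noncomputable def equivOfSpan (f₁ : L →ₗ[k] H₁) (f₂ : L →ₗ[k] H₂) (h₁ : Function.Surjective f₁)
    (h₂ : Function.Surjective f₂) (hk : LinearMap.ker f₁ = LinearMap.ker f₂) : H₁ ≃ₗ[k] H₂ :=
  (f₁.quotKerEquivOfSurjective h₁).symm ≪≫ₗ (Submodule.quotEquivOfEq _ _ hk) ≪≫ₗ
    (f₂.quotKerEquivOfSurjective h₂)

end Span

namespace DG

variable {k : Type*} [Field k] {V : Type*} [AddCommGroup V] [Module k V] (C : DG k V)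
  {W : Type*} [AddCommGroup W] [Module k W] (C' : DG k W)

/-- the part of degree `n - 1` (zero for `n = 0`) -/
def degm : ℕ → Submodule k V
  | 0 => ⊥
  | n + 1 => LinearMap.range (C.π n)

/-- cocycles of degree `n` in `U` -/
def Zs (U : Submodule k V) (n : ℕ) : Submodule k V :=
  U ⊓ LinearMap.range (C.π n) ⊓ LinearMap.ker C.d

/-- coboundaries of degree `n` from `U` -/
def Bs (U : Submodule k V) (n : ℕ) : Submodule k V := (U ⊓ C.degm n).map C.d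

/-- cohomology of the subcomplex `U` in degree `n` -/
abbrev Hs (U : Submodule k V) (n : ℕ) : Type _ :=
  ↥(C.Zs U n) ⧸ (C.Bs U n).comap (C.Zs U n).subtype

theorem mem_Zs {U : Submodule k V} {n : ℕ} {z : V} :
    z ∈ C.Zs U n ↔ z ∈ U ∧ C.π n z = z ∧ C.d z = 0 := by
  unfold Zs
  rw [Submodule.mem_inf, Submodule.mem_inf, C.mem_range_π, LinearMap.mem_ker, and_assoc]

theorem mem_Bs {U : Submodule k V} {n : ℕ} {z : V} :
    z ∈ C.Bs U n ↔ ∃ y, y ∈ U ∧ y ∈ C.degm n ∧ C.d y = z := by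
  unfold Bs
  rw [Submodule.mem_map]
  constructor
  · rintro ⟨y, ⟨h1, h2⟩, rfl⟩
    exact ⟨y, h1, h2, rfl⟩
  · rintro ⟨y, h1, h2, rfl⟩
    exact ⟨y, ⟨h1, h2⟩, rfl⟩

theorem π_d_of_mem_degm {n : ℕ} {y : V} (hy : y ∈ C.degm n) : C.π n (C.d y) = C.d y := by
  cases n with
  | zero =>
    have : y = 0 := (Submodule.mem_bot k).mp hy
    rw [this, map_zero, map_zero]
  | succ m =>
    obtain ⟨y', rfl⟩ := hy
    rw [C.dπ, C.ππ]

variable {C} in
theorem Split.h_mem_degm (S : C.Split) {n : ℕ} {z : V} (hz : C.π n z = z) : S.h z ∈ C.degm n := by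
  cases n with
  | zero =>
    rw [← hz, S.hdeg.2]
    exact Submodule.zero_mem _
  | succ m =>
    rw [← hz, S.hdeg.1]
    exact ⟨_, rfl⟩

variable {C C'} in
theorem Hom.map_degm {f : V →ₗ[k] W} (hf : C.Hom C' f) {n : ℕ} {y : V} (hy : y ∈ C.degm n) :
    f y ∈ C'.degm n := by
  cases n with
  | zero =>
    have : y = 0 := (Submodule.mem_bot k).mp hy
    rw [this, map_zero]
    exact Submodule.zero_mem _
  | succ m =>
    obtain ⟨y', rfl⟩ := hy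
    rw [hf.π]
    exact ⟨_, rfl⟩

variable {C C'} in
theorem Hom.exists_lift_degm {f : V →ₗ[k] W} (hf : C.Hom C' f) (hsurj : Function.Surjective f)
    {n : ℕ} {r : W} (hr : r ∈ C'.degm n) : ∃ b ∈ C.degm n, f b = r := by
  cases n with
  | zero =>
    have : r = 0 := (Submodule.mem_bot k).mp hr
    exact ⟨0, Submodule.zero_mem _, by rw [map_zero, this]⟩
  | succ m =>
    obtain ⟨r', rfl⟩ := hr
    obtain ⟨b₀, rfl⟩ := hsurj r'
    exact ⟨C.π m b₀, ⟨_, rfl⟩, hf.π m b₀⟩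

theorem Bs_le_Zs {U : Submodule k V} (hU : C.Stable U) (n : ℕ) : C.Bs U n ≤ C.Zs U n := by
  intro z hz
  obtain ⟨y, h1, h2, rfl⟩ := C.mem_Bs.mp hz
  exact C.mem_Zs.mpr ⟨hU.d_mem y h1, C.π_d_of_mem_degm h2, C.dd y⟩

/-- cohomology vanishes when cocycles are coboundaries -/
theorem subsingleton_Hs {U : Submodule k V} {n : ℕ} (h : C.Zs U n ≤ C.Bs U n) :
    Subsingleton (C.Hs U n) := by
  apply Submodule.Quotient.subsingleton_iff.mpr
  rw [eq_top_iff]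
  intro z _
  exact h z.2

theorem Zs_le_Bs_of_subsingleton {U : Submodule k V} {n : ℕ} (h : Subsingleton (C.Hs U n)) :
    C.Zs U n ≤ C.Bs U n := by
  intro z hz
  have h1 := Submodule.Quotient.subsingleton_iff.mp h
  have h2 : (⟨z, hz⟩ : ↥(C.Zs U n)) ∈ (C.Bs U n).comap (C.Zs U n).subtype := by
    rw [h1]; trivial
  exact h2

namespace Split

variable {C} (S : C.Split)

/-- harmonic representatives of degree `n` -/
def harm (n : ℕ) : Submodule k V := LinearMap.range (S.p ∘ₗ C.π n)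

theorem z_eq {n : ℕ} {z : V} (hz : z ∈ C.Zs ⊤ n) : z = C.d (S.h z) + S.p z := by
  have h1 := S.hom z
  rw [(C.mem_Zs.mp hz).2.2, map_zero, add_zero] at h1
  rw [h1]; abel

/-- the projection of cocycles onto harmonic representatives -/
noncomputable def toHarm (n : ℕ) : ↥(C.Zs ⊤ n) →ₗ[k] ↥(S.harm n) :=
  LinearMap.codRestrict (S.harm n) (S.p ∘ₗ (C.Zs ⊤ n).subtype) (fun z => by
    refine ⟨z.1, ?_⟩
    rw [LinearMap.comp_apply, (C.mem_Zs.mp z.2).2.1]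
    rfl)

theorem toHarm_coe (n : ℕ) (z : ↥(C.Zs ⊤ n)) : (S.toHarm n z : V) = S.p z.1 := rfl

theorem p_π_mem_Zs (n : ℕ) (v : V) : S.p (C.π n v) ∈ C.Zs ⊤ n := by
  refine C.mem_Zs.mpr ⟨trivial, ?_, S.dp _⟩
  rw [← S.pdeg, C.ππ]

theorem toHarm_surjective (n : ℕ) : Function.Surjective (S.toHarm n) := by
  rintro ⟨y, v, rfl⟩
  refine ⟨⟨S.p (C.π n v), S.p_π_mem_Zs n v⟩, ?_⟩
  apply Subtype.ext
  rw [toHarm_coe]
  exact S.pp _

theorem ker_toHarm (n : ℕ) :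
    LinearMap.ker (S.toHarm n) = (C.Bs ⊤ n).comap (C.Zs ⊤ n).subtype := by
  ext z
  rw [LinearMap.mem_ker, Submodule.mem_comap, Submodule.subtype_apply]
  constructor
  · intro h
    have h1 : S.p z.1 = 0 := by
      have := congrArg Subtype.val h
      exact this
    have h2 := S.z_eq z.2
    rw [h1, add_zero] at h2
    exact C.mem_Bs.mpr ⟨S.h z.1, trivial, S.h_mem_degm (C.mem_Zs.mp z.2).2.1, h2.symm⟩
  · intro h
    obtain ⟨y, -, -, hy⟩ := C.mem_Bs.mp h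
    apply Subtype.ext
    rw [toHarm_coe, ← hy, S.pd]
    rfl

/-- cohomology is the space of harmonic representatives -/
noncomputable def harmEquiv (n : ℕ) : C.Hs ⊤ n ≃ₗ[k] ↥(S.harm n) :=
  (Submodule.quotEquivOfEq _ _ (S.ker_toHarm n).symm) ≪≫ₗ
    ((S.toHarm n).quotKerEquivOfSurjective (S.toHarm_surjective n))

theorem acyclic_iff (n : ℕ) : C.Zs ⊤ n ≤ C.Bs ⊤ n ↔ ∀ v, S.p (C.π n v) = 0 := by
  constructor
  · intro h v
    obtain ⟨y, -, -, hy⟩ := C.mem_Bs.mp (h (S.p_π_mem_Zs n v))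
    rw [← S.pp, ← hy, S.pd]
  · intro h z hz
    have h2 := S.z_eq hz
    rw [← (C.mem_Zs.mp hz).2.1, h, add_zero, (C.mem_Zs.mp hz).2.1] at h2
    exact C.mem_Bs.mpr ⟨S.h z, trivial, S.h_mem_degm (C.mem_Zs.mp hz).2.1, h2.symm⟩

/-- a cocycle of degree zero is harmonic -/
theorem p_eq_of_mem_Zs_zero {z : V} (hz : z ∈ C.Zs ⊤ 0) : S.p z = z := by
  have h2 := S.z_eq hz
  have h3 : S.h z = 0 := by
    rw [← (C.mem_Zs.mp hz).2.1, S.hdeg.2]
  rw [h3, map_zero, zero_add] at h2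
  exact h2.symm

end Split

section Conn

variable {A : Type*} [AddCommGroup A] [Module k A] (CA : DG k A)
  {Q : Type*} [AddCommGroup Q] [Module k Q] (CQ : DG k Q)
  (ρ : A →ₗ[k] Q) (hρ : CA.Hom CQ ρ) (hsurj : Function.Surjective ρ)

/-- the space of cochains of degree `n` whose image in `Q` is a cocycle -/
def connL (n : ℕ) : Submodule k A :=
  LinearMap.range (CA.π n) ⊓ (LinearMap.ker ρ).comap CA.d

include hρ in
theorem connL_ρ_mem (n : ℕ) (a : ↥(connL CA ρ n)) : ρ a.1 ∈ CQ.Zs ⊤ n := by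
  obtain ⟨h1, h2⟩ := a.2
  refine CQ.mem_Zs.mpr ⟨trivial, ?_, ?_⟩
  · rw [← hρ.π, (CA.mem_range_π).mp h1]
  · rw [← hρ.d]
    exact h2

theorem connL_d_mem (n : ℕ) (a : ↥(connL CA ρ n)) : CA.d a.1 ∈ CA.Zs (LinearMap.ker ρ) (n + 1) := by
  obtain ⟨h1, h2⟩ := a.2
  refine CA.mem_Zs.mpr ⟨h2, ?_, CA.dd _⟩
  rw [← CA.dπ, (CA.mem_range_π).mp h1]

/-- first leg: the class of the image in `Q` -/
noncomputable def connF₁ (n : ℕ) : ↥(connL CA ρ n) →ₗ[k] CQ.Hs ⊤ n :=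
  ((CQ.Bs ⊤ n).comap (CQ.Zs ⊤ n).subtype).mkQ ∘ₗ
    LinearMap.codRestrict (CQ.Zs ⊤ n) (ρ ∘ₗ (connL CA ρ n).subtype) (connL_ρ_mem CA CQ ρ hρ n)

/-- second leg: the class of the differential -/
noncomputable def connF₂ (n : ℕ) : ↥(connL CA ρ n) →ₗ[k] CA.Hs (LinearMap.ker ρ) (n + 1) :=
  ((CA.Bs (LinearMap.ker ρ) (n + 1)).comap (CA.Zs (LinearMap.ker ρ) (n + 1)).subtype).mkQ ∘ₗ
    LinearMap.codRestrict (CA.Zs (LinearMap.ker ρ) (n + 1)) (CA.d ∘ₗ (connL CA ρ n).subtype)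
      (connL_d_mem CA ρ n)

include hsurj in
theorem connF₁_surjective (n : ℕ) : Function.Surjective (connF₁ CA CQ ρ hρ n) := by
  intro x
  obtain ⟨⟨q, hq⟩, rfl⟩ := Submodule.mkQ_surjective _ x
  obtain ⟨a₀, ha₀⟩ := hsurj q
  obtain ⟨-, hq1, hq2⟩ := CQ.mem_Zs.mp hq
  have ha : CA.π n a₀ ∈ connL CA ρ n := by
    refine ⟨⟨_, rfl⟩, ?_⟩
    show CA.d (CA.π n a₀) ∈ LinearMap.ker ρ
    rw [LinearMap.mem_ker, hρ.d, hρ.π, ha₀, hq1, hq2]
  refine ⟨⟨CA.π n a₀, ha⟩, ?_⟩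
  unfold connF₁
  rw [LinearMap.comp_apply]
  congr 1
  apply Subtype.ext
  show ρ (CA.π n a₀) = q
  rw [hρ.π, ha₀, hq1]

theorem connF₂_surjective (n : ℕ) (h2 : CA.Zs ⊤ (n + 1) ≤ CA.Bs ⊤ (n + 1)) :
    Function.Surjective (connF₂ CA ρ n) := by
  intro x
  obtain ⟨⟨z, hz⟩, rfl⟩ := Submodule.mkQ_surjective _ x
  obtain ⟨hz0, hz1, hz2⟩ := CA.mem_Zs.mp hz
  obtain ⟨a, -, ha, rfl⟩ := CA.mem_Bs.mp (h2 (CA.mem_Zs.mpr ⟨trivial, hz1, hz2⟩))
  have ha' : a ∈ connL CA ρ n := ⟨ha, hz0⟩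
  refine ⟨⟨a, ha'⟩, ?_⟩
  unfold connF₂
  rw [LinearMap.comp_apply]
  rfl

include hsurj in
theorem ker_connF (n : ℕ) (h1 : CA.Zs ⊤ n ≤ CA.Bs ⊤ n) :
    LinearMap.ker (connF₁ CA CQ ρ hρ n) = LinearMap.ker (connF₂ CA ρ n) := by
  ext a
  have e1 : a ∈ LinearMap.ker (connF₁ CA CQ ρ hρ n) ↔ ρ a.1 ∈ CQ.Bs ⊤ n := by
    unfold connF₁
    rw [LinearMap.mem_ker, LinearMap.comp_apply, Submodule.mkQ_apply,
      Submodule.Quotient.mk_eq_zero, Submodule.mem_comap]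
    rfl
  have e2 : a ∈ LinearMap.ker (connF₂ CA ρ n) ↔ CA.d a.1 ∈ CA.Bs (LinearMap.ker ρ) (n + 1) := by
    unfold connF₂
    rw [LinearMap.mem_ker, LinearMap.comp_apply, Submodule.mkQ_apply,
      Submodule.Quotient.mk_eq_zero, Submodule.mem_comap]
    rfl
  rw [e1, e2]
  obtain ⟨ha1, ha2⟩ := a.2
  have ha1' : CA.π n a.1 = a.1 := (CA.mem_range_π).mp ha1
  constructor
  · intro h
    obtain ⟨r, -, hr, hra⟩ := CQ.mem_Bs.mp h
    obtain ⟨b, hb, rfl⟩ := hρ.exists_lift_degm hsurj hr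
    refine CA.mem_Bs.mpr ⟨a.1 - CA.d b, ?_, ⟨a.1 - CA.d b, ?_⟩, ?_⟩
    · rw [LinearMap.mem_ker, map_sub, hρ.d, hra, sub_self]
    · rw [map_sub, ha1', CA.π_d_of_mem_degm hb]
    · rw [map_sub, CA.dd, sub_zero]
  · intro h
    obtain ⟨κ, hκ1, ⟨κ', rfl⟩, hκ3⟩ := CA.mem_Bs.mp h
    have h3 : a.1 - CA.π n κ' ∈ CA.Zs ⊤ n := by
      refine CA.mem_Zs.mpr ⟨trivial, ?_, ?_⟩
      · rw [map_sub, ha1', CA.ππ]
      · rw [map_sub, hκ3, sub_self]
    obtain ⟨b, -, hb, hba⟩ := CA.mem_Bs.mp (h1 h3)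
    refine CQ.mem_Bs.mpr ⟨ρ b, trivial, hρ.map_degm hb, ?_⟩
    rw [← hρ.d, hba, map_sub, LinearMap.mem_ker.mp hκ1, sub_zero]

include hρ hsurj in
/-- the connecting isomorphism `H^n(Q) ≅ H^{n+1}(ker ρ)` when `A` is acyclic in degrees `n, n+1` -/
theorem conn (n : ℕ) (h1 : CA.Zs ⊤ n ≤ CA.Bs ⊤ n) (h2 : CA.Zs ⊤ (n + 1) ≤ CA.Bs ⊤ (n + 1)) :
    Nonempty (CQ.Hs ⊤ n ≃ₗ[k] CA.Hs (LinearMap.ker ρ) (n + 1)) :=
  ⟨equivOfSpan (connF₁ CA CQ ρ hρ n) (connF₂ CA ρ n) (connF₁_surjective CA CQ ρ hρ hsurj n)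
    (connF₂_surjective CA ρ n h2) (ker_connF CA CQ ρ hρ hsurj n h1)⟩

end Conn

end DG

end Groth.Agent.Helper7.KunLA
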