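import Mathlib
import Groth.Agent.Helper7.KunS4

/-!
# Künneth project, part S5: the Künneth dimension count for tensor products of graded differential
vector spaces.
-/

set_option autoImplicit false
set_option linter.unusedSectionVars false
set_option linter.style.haveILetI false

namespace Groth.Agent.Helper7.KunLA

open TensorProduct Module

section Idem

variable {k : Type*} [Field k] {A : Type*} [AddCommGroup A] [Module k A]

theorem range_add_of_orthogonal (P Q : A →ₗ[k] A) (hP : ∀ x, P (P x) = P x)
    (hQ : ∀ x, Q (Q x) = Q x) (hPQ : ∀ x, P (Q x) = 0) (hQP : ∀ x, Q (P x) = 0) :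
    LinearMap.range (P + Q) = LinearMap.range P ⊔ LinearMap.range Q ∧
      LinearMap.range P ⊓ LinearMap.range Q = ⊥ := by
  constructor
  · apply le_antisymm
    · rintro _ ⟨x, rfl⟩
      rw [LinearMap.add_apply]
      exact Submodule.add_mem_sup ⟨x, rfl⟩ ⟨x, rfl⟩
    · rw [sup_le_iff]
      constructor
      · rintro _ ⟨x, rfl⟩
        refine ⟨P x, ?_⟩
        rw [LinearMap.add_apply, hP, hQP, add_zero]
      · rintro _ ⟨x, rfl⟩
        refine ⟨Q x, ?_⟩
        rw [LinearMap.add_apply, hQ, hPQ, zero_add]
  · rw [eq_bot_iff]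
    rintro x ⟨⟨y, rfl⟩, ⟨z, hz⟩⟩
    rw [Submodule.mem_bot]
    have : P y = P (P y) := (hP y).symm
    rw [this, ← hz, hPQ]

theorem finrank_range_zero :
    FiniteDimensional k ↥(LinearMap.range (0 : A →ₗ[k] A)) ∧
      finrank k ↥(LinearMap.range (0 : A →ₗ[k] A)) = 0 := by
  have h0 : LinearMap.range (0 : A →ₗ[k] A) = ⊥ := LinearMap.range_zero
  have e : ↥(LinearMap.range (0 : A →ₗ[k] A)) ≃ₗ[k] ↥(⊥ : Submodule k A) :=
    LinearEquiv.ofEq _ _ h0
  exact ⟨Module.Finite.equiv e.symm, e.finrank_eq.trans (finrank_bot k A)⟩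

theorem finrank_range_sum {ι : Type*} [DecidableEq ι] (s : Finset ι) (T : ι → A →ₗ[k] A)
    (hT : ∀ i ∈ s, ∀ x, T i (T i x) = T i x)
    (hTT : ∀ i ∈ s, ∀ j ∈ s, i ≠ j → ∀ x, T i (T j x) = 0)
    (hfin : ∀ i ∈ s, FiniteDimensional k ↥(LinearMap.range (T i))) :
    FiniteDimensional k ↥(LinearMap.range (∑ i ∈ s, T i)) ∧
      finrank k ↥(LinearMap.range (∑ i ∈ s, T i)) =
        ∑ i ∈ s, finrank k ↥(LinearMap.range (T i)) := by
  induction s using Finset.induction_on with
  | empty =>
    simp only [Finset.sum_empty]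
    exact finrank_range_zero
  | insert a s ha ih =>
    have hs : ∀ i ∈ s, i ∈ insert a s := fun i hi => Finset.mem_insert_of_mem hi
    have haa : a ∈ insert a s := Finset.mem_insert_self a s
    obtain ⟨ih1, ih2⟩ := ih (fun i hi => hT i (hs i hi))
      (fun i hi j hj => hTT i (hs i hi) j (hs j hj)) (fun i hi => hfin i (hs i hi))
    rw [Finset.sum_insert ha, Finset.sum_insert ha]
    set Q := ∑ i ∈ s, T i with hQdef
    have hQapp : ∀ x, Q x = ∑ i ∈ s, T i x := fun x => by rw [hQdef, LinearMap.sum_apply]
    have hPQ : ∀ x, T a (Q x) = 0 := by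
      intro x
      rw [hQapp, map_sum]
      apply Finset.sum_eq_zero
      intro i hi
      exact hTT a haa i (hs i hi) (fun h => ha (h ▸ hi)) x
    have hQP : ∀ x, Q (T a x) = 0 := by
      intro x
      rw [hQapp]
      apply Finset.sum_eq_zero
      intro i hi
      exact hTT i (hs i hi) a haa (fun h => ha (h ▸ hi)) x
    have hQQ : ∀ x, Q (Q x) = Q x := by
      intro x
      rw [hQapp (Q x), hQapp x]
      apply Finset.sum_congr rfl
      intro i hi
      rw [map_sum, Finset.sum_eq_single i]
      · exact hT i (hs i hi) x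
      · intro j hj hji
        exact hTT i (hs i hi) j (hs j hj) (Ne.symm hji) x
      · intro h; exact absurd hi h
    obtain ⟨h1, h2⟩ := range_add_of_orthogonal (T a) Q (hT a haa) hQQ hPQ hQP
    haveI := hfin a haa
    haveI := ih1
    have h3 := Submodule.finrank_sup_add_finrank_inf_eq (LinearMap.range (T a)) (LinearMap.range Q)
    rw [h2, finrank_bot, add_zero] at h3
    rw [h1]
    exact ⟨inferInstance, by rw [h3, ih2]⟩

theorem finrank_range_map {V W : Type*} [AddCommGroup V] [Module k V] [AddCommGroup W]
    [Module k W] (f : V →ₗ[k] V) (g : W →ₗ[k] W) :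
    finrank k ↥(LinearMap.range (TensorProduct.map f g)) =
      finrank k ↥(LinearMap.range f) * finrank k ↥(LinearMap.range g) := by
  have h1 : TensorProduct.map f g =
      TensorProduct.map (LinearMap.range f).subtype (LinearMap.range g).subtype ∘ₗ
        TensorProduct.map f.rangeRestrict g.rangeRestrict := by
    rw [← TensorProduct.map_comp]
    rfl
  have h2 : LinearMap.range (TensorProduct.map f g) =
      LinearMap.range (TensorProduct.map (LinearMap.range f).subtype
        (LinearMap.range g).subtype) := by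
    rw [h1, LinearMap.range_comp,
      LinearMap.range_eq_top.mpr (TensorProduct.map_surjective f.surjective_rangeRestrict
        g.surjective_rangeRestrict), Submodule.map_top]
  rw [h2]
  have h3 : Function.Injective (TensorProduct.map (LinearMap.range f).subtype
      (LinearMap.range g).subtype) :=
    TensorProduct.map_injective_of_flat_flat _ _ (Submodule.subtype_injective _)
      (Submodule.subtype_injective _)
  rw [← (LinearEquiv.ofInjective _ h3).finrank_eq, Module.finrank_tensorProduct]

end Idem

namespace DG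

variable {k : Type*} [Field k] {V : Type*} [AddCommGroup V] [Module k V] {C : DG k V}
  {W : Type*} [AddCommGroup W] [Module k W] {C' : DG k W}

theorem Split.finrank_harm (S : C.Split) (n : ℕ) :
    finrank k ↥(S.harm n) = finrank k (C.Hs ⊤ n) := (S.harmEquiv n).finrank_eq.symm

/-- the components of the harmonic projector of a tensor product -/
noncomputable def Split.tensorT (S : C.Split) (S' : C'.Split) (n i : ℕ) :
    V ⊗[k] W →ₗ[k] V ⊗[k] W :=
  TensorProduct.map (S.p ∘ₗ C.π i) (S'.p ∘ₗ C'.π (n - i))

theorem Split.tensor_p_π (S : C.Split) (S' : C'.Split) (n : ℕ) :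
    (S.tensor S').p ∘ₗ (C.tensor C').π n = ∑ i ∈ Finset.range (n + 1), S.tensorT S' n i := by
  apply TensorProduct.ext'
  intro v w
  rw [LinearMap.comp_apply, tensor_π_tmul, map_sum, LinearMap.sum_apply]
  apply Finset.sum_congr rfl
  intro i _
  rfl

theorem Split.pπ_pπ (S : C.Split) (i j : ℕ) (v : V) :
    S.p (C.π i (S.p (C.π j v))) = if i = j then S.p (C.π j v) else 0 := by
  rw [← S.pdeg, S.pp]
  split_ifs with h
  · subst h
    rw [C.ππ]
  · rw [C.ππ_ne i j v h, map_zero]

/-- **Künneth formula**, as a dimension count. -/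
theorem finrank_Hs_tensor (S : C.Split) (S' : C'.Split)
    (hfin : ∀ i, FiniteDimensional k (C.Hs ⊤ i)) (hfin' : ∀ i, FiniteDimensional k (C'.Hs ⊤ i))
    (n : ℕ) :
    finrank k ((C.tensor C').Hs ⊤ n) =
      ∑ i ∈ Finset.range (n + 1), finrank k (C.Hs ⊤ i) * finrank k (C'.Hs ⊤ (n - i)) := by
  classical
  rw [← (S.tensor S').finrank_harm n]
  unfold Split.harm
  rw [Split.tensor_p_π]
  have hT1 : ∀ i ∈ Finset.range (n + 1), ∀ x, S.tensorT S' n i (S.tensorT S' n i x) =
      S.tensorT S' n i x := by
    intro i _ x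
    induction x using TensorProduct.induction_on with
    | zero => simp
    | tmul v w =>
      unfold Split.tensorT
      rw [TensorProduct.map_tmul, TensorProduct.map_tmul]
      simp only [LinearMap.comp_apply]
      rw [S.pπ_pπ, S'.pπ_pπ, if_pos rfl, if_pos rfl]
    | add x y hx hy => rw [map_add, map_add, hx, hy]
  have hT2 : ∀ i ∈ Finset.range (n + 1), ∀ j ∈ Finset.range (n + 1), i ≠ j →
      ∀ x, S.tensorT S' n i (S.tensorT S' n j x) = 0 := by
    intro i _ j _ hij x
    induction x using TensorProduct.induction_on with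
    | zero => simp
    | tmul v w =>
      unfold Split.tensorT
      rw [TensorProduct.map_tmul, TensorProduct.map_tmul]
      simp only [LinearMap.comp_apply]
      rw [S.pπ_pπ, if_neg hij, zero_tmul]
    | add x y hx hy => rw [map_add, map_add, hx, hy, add_zero]
  have hT3 : ∀ i, finrank k ↥(LinearMap.range (S.tensorT S' n i)) =
      finrank k (C.Hs ⊤ i) * finrank k (C'.Hs ⊤ (n - i)) := by
    intro i
    unfold Split.tensorT
    rw [finrank_range_map]
    have h1 := S.finrank_harm i
    have h2 := S'.finrank_harm (n - i)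
    unfold Split.harm at h1 h2
    rw [h1, h2]
  have hT4 : ∀ i ∈ Finset.range (n + 1),
      FiniteDimensional k ↥(LinearMap.range (S.tensorT S' n i)) := by
    intro i _
    unfold Split.tensorT
    have h1 : Function.Injective (TensorProduct.map (LinearMap.range (S.p ∘ₗ C.π i)).subtype
        (LinearMap.range (S'.p ∘ₗ C'.π (n - i))).subtype) :=
      TensorProduct.map_injective_of_flat_flat _ _ (Submodule.subtype_injective _)
        (Submodule.subtype_injective _)
    have h2 : LinearMap.range (TensorProduct.map (S.p ∘ₗ C.π i) (S'.p ∘ₗ C'.π (n - i))) =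
        LinearMap.range (TensorProduct.map (LinearMap.range (S.p ∘ₗ C.π i)).subtype
          (LinearMap.range (S'.p ∘ₗ C'.π (n - i))).subtype) := by
      have h3 : TensorProduct.map (S.p ∘ₗ C.π i) (S'.p ∘ₗ C'.π (n - i)) =
          TensorProduct.map (LinearMap.range (S.p ∘ₗ C.π i)).subtype
            (LinearMap.range (S'.p ∘ₗ C'.π (n - i))).subtype ∘ₗ
          TensorProduct.map (S.p ∘ₗ C.π i).rangeRestrict (S'.p ∘ₗ C'.π (n - i)).rangeRestrict := by
        rw [← TensorProduct.map_comp]
        rfl
      rw [h3, LinearMap.range_comp,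
        LinearMap.range_eq_top.mpr (TensorProduct.map_surjective
          (LinearMap.surjective_rangeRestrict _) (LinearMap.surjective_rangeRestrict _)),
        Submodule.map_top]
    rw [h2]
    haveI : FiniteDimensional k ↥(LinearMap.range (S.p ∘ₗ C.π i)) := by
      haveI := hfin i
      exact Module.Finite.equiv (S.harmEquiv i)
    haveI : FiniteDimensional k ↥(LinearMap.range (S'.p ∘ₗ C'.π (n - i))) := by
      haveI := hfin' (n - i)
      exact Module.Finite.equiv (S'.harmEquiv (n - i))
    exact Module.Finite.equiv (LinearEquiv.ofInjective _ h1)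
  obtain ⟨-, h⟩ := finrank_range_sum (Finset.range (n + 1)) (S.tensorT S' n) hT1 hT2 hT4
  rw [h]
  exact Finset.sum_congr rfl (fun i _ => hT3 i)

end DG

end Groth.Agent.Helper7.KunLA
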