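import Mathlib
import Groth.Agent.Helper7.KunS5

/-!
# Künneth project, part S6: the subcomplex `ker (V ⊗ W → V/V' ⊗ W/W')` of the tensor product of two
resolutions: ingredients.
-/

set_option autoImplicit false
set_option linter.unusedSectionVars false
set_option linter.style.haveILetI false

namespace Groth.Agent.Helper7.KunLA

open TensorProduct Module

theorem kun_arith (a b : ℕ) (α β : ℕ → ℕ) (hα0 : α 0 = 0) (hα1 : α 1 = 0) (hβ0 : β 0 = 0)
    (hβ1 : β 1 = 0) (r : ℕ) :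
    ∑ i ∈ Finset.range (r + 2),
        (if i = 0 then a else α (i + 1)) * (if r + 1 - i = 0 then b else β (r + 1 - i + 1)) =
      a * β (r + 2) + α (r + 2) * b + ∑ i ∈ Finset.range (r + 4), α i * β (r + 3 - i) := by
  rw [Finset.sum_range_succ' _ (r + 1), Finset.sum_range_succ _ r]
  rw [show r + 4 = (r + 2) + 1 + 1 by omega, Finset.sum_range_succ' _ (r + 2 + 1),
    Finset.sum_range_succ' _ (r + 2), Finset.sum_range_succ _ (r + 1), Finset.sum_range_succ _ r]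
  simp only [hα0, hα1, zero_mul, add_zero, if_true, Nat.sub_zero, Nat.add_eq_zero_iff,
    one_ne_zero, and_false, if_false, Nat.sub_self]
  have e2 : r + 3 - (r + 1 + 1) = 1 := by omega
  rw [e2, hβ0, hβ1, mul_zero, mul_zero, add_zero, add_zero]
  have e3 : ∑ x ∈ Finset.range r, α (x + 1 + 1) * (if r + 1 - (x + 1) = 0 then b
      else β (r + 1 - (x + 1) + 1)) = ∑ x ∈ Finset.range r, α (x + 1 + 1) * β (r + 3 - (x + 1 + 1)) := by
    apply Finset.sum_congr rfl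
    intro x hx
    rw [Finset.mem_range] at hx
    rw [if_neg (by omega), show r + 1 - (x + 1) + 1 = r + 3 - (x + 1 + 1) by omega]
  rw [e3]
  ring

namespace DG

variable {k : Type*} [Field k] {V : Type*} [AddCommGroup V] [Module k V] (C : DG k V)
  {W : Type*} [AddCommGroup W] [Module k W] (C' : DG k W)

/-- transport of cohomology along an equality of subspaces -/
noncomputable def HsCongr {U U' : Submodule k V} (h : U = U') (n : ℕ) :
    C.Hs U n ≃ₗ[k] C.Hs U' n := by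
  subst h
  exact LinearEquiv.refl k _

section Quot

variable (V' : Submodule k V) (hV' : C.Stable V')

/-- cohomology of the quotient in positive degrees, when the total complex is acyclic -/
theorem nonempty_quot_Hs_equiv (i : ℕ) (h1 : C.Zs ⊤ i ≤ C.Bs ⊤ i)
    (h2 : C.Zs ⊤ (i + 1) ≤ C.Bs ⊤ (i + 1)) :
    Nonempty ((C.quot V' hV').Hs ⊤ i ≃ₗ[k] C.Hs V' (i + 1)) := by
  obtain ⟨e⟩ := conn C (C.quot V' hV') V'.mkQ (C.hom_mkQ V' hV') V'.mkQ_surjective i h1 h2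
  exact ⟨e ≪≫ₗ C.HsCongr V'.ker_mkQ (i + 1)⟩

/-- the map `Z^0(V) → Z^0(V/V')` -/
noncomputable def quotZ0 : ↥(C.Zs ⊤ 0) →ₗ[k] ↥((C.quot V' hV').Zs ⊤ 0) :=
  LinearMap.codRestrict _ (V'.mkQ ∘ₗ (C.Zs ⊤ 0).subtype) (fun z => by
    obtain ⟨-, h1, h2⟩ := C.mem_Zs.mp z.2
    refine (C.quot V' hV').mem_Zs.mpr ⟨trivial, ?_, ?_⟩
    · rw [LinearMap.comp_apply, Submodule.subtype_apply, C.quot_π V' hV', h1]
    · rw [LinearMap.comp_apply, Submodule.subtype_apply, C.quot_d V' hV', h2, map_zero])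

theorem quotZ0_coe (z : ↥(C.Zs ⊤ 0)) : (C.quotZ0 V' hV' z : V ⧸ V') = V'.mkQ z.1 := rfl

theorem quotZ0_injective (h0 : C.Zs V' 0 = ⊥) : Function.Injective (C.quotZ0 V' hV') := by
  rw [← LinearMap.ker_eq_bot, eq_bot_iff]
  intro z hz
  rw [LinearMap.mem_ker] at hz
  have h1 : V'.mkQ z.1 = 0 := by
    rw [← C.quotZ0_coe V' hV', hz]; rfl
  rw [Submodule.mkQ_apply, Submodule.Quotient.mk_eq_zero] at h1
  obtain ⟨-, h2, h3⟩ := C.mem_Zs.mp z.2
  have h4 : z.1 ∈ C.Zs V' 0 := C.mem_Zs.mpr ⟨h1, h2, h3⟩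
  rw [h0] at h4
  rw [Submodule.mem_bot]
  exact Subtype.ext ((Submodule.mem_bot k).mp h4)

theorem quotZ0_surjective (h1 : C.Zs V' 1 ≤ C.Bs V' 1) :
    Function.Surjective (C.quotZ0 V' hV') := by
  rintro ⟨q, hq⟩
  obtain ⟨-, hq1, hq2⟩ := (C.quot V' hV').mem_Zs.mp hq
  obtain ⟨v₀, rfl⟩ := V'.mkQ_surjective q
  set v := C.π 0 v₀ with hv
  have hv1 : V'.mkQ v = V'.mkQ v₀ := by rw [hv, ← C.quot_π V' hV', hq1]
  have hv2 : C.d v ∈ V' := by
    rw [← Submodule.Quotient.mk_eq_zero, ← Submodule.mkQ_apply, ← C.quot_d V' hV', hv1, hq2]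
  have hv3 : C.d v ∈ C.Zs V' 1 := by
    refine C.mem_Zs.mpr ⟨hv2, ?_, C.dd v⟩
    rw [hv, C.dπ, C.ππ]
  obtain ⟨v', hv'1, ⟨v'', rfl⟩, hv'3⟩ := C.mem_Bs.mp (h1 hv3)
  have hz : v - C.π 0 v'' ∈ C.Zs ⊤ 0 := by
    refine C.mem_Zs.mpr ⟨trivial, ?_, ?_⟩
    · rw [map_sub, hv, C.ππ, C.ππ]
    · rw [map_sub, hv'3, sub_self]
  refine ⟨⟨v - C.π 0 v'', hz⟩, ?_⟩
  apply Subtype.ext
  rw [quotZ0_coe]
  show V'.mkQ (v - C.π 0 v'') = V'.mkQ v₀
  have h5 : V'.mkQ (C.π 0 v'') = 0 := by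
    rw [Submodule.mkQ_apply, Submodule.Quotient.mk_eq_zero]
    exact hv'1
  rw [map_sub, hv1, h5, sub_zero]

/-- cohomology in degree zero is the space of cocycles -/
noncomputable def HsZeroEquiv (U : Submodule k V) : C.Hs U 0 ≃ₗ[k] ↥(C.Zs U 0) :=
  Submodule.quotEquivOfEqBot _ (by
    rw [eq_bot_iff]
    intro z hz
    rw [Submodule.mem_comap] at hz
    obtain ⟨y, -, hy, hyz⟩ := C.mem_Bs.mp hz
    have : y = 0 := (Submodule.mem_bot k).mp hy
    rw [this, map_zero] at hyz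
    rw [Submodule.mem_bot]
    exact Subtype.ext hyz.symm)

theorem nonempty_quot_Hs_zero_equiv (h0 : C.Zs V' 0 = ⊥) (h1 : C.Zs V' 1 ≤ C.Bs V' 1) :
    Nonempty ((C.quot V' hV').Hs ⊤ 0 ≃ₗ[k] ↥(C.Zs ⊤ 0)) :=
  ⟨((C.quot V' hV').HsZeroEquiv ⊤) ≪≫ₗ
    (LinearEquiv.ofBijective (C.quotZ0 V' hV')
      ⟨C.quotZ0_injective V' hV' h0, C.quotZ0_surjective V' hV' h1⟩).symm⟩

end Quot

section TensorZero

variable {C C'}

/-- the tensor product of two complexes acyclic in positive degrees is acyclic in positive degrees -/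
theorem tensor_acyclic (S : C.Split) (S' : C'.Split) (hV : ∀ n, 1 ≤ n → C.Zs ⊤ n ≤ C.Bs ⊤ n)
    (hW : ∀ n, 1 ≤ n → C'.Zs ⊤ n ≤ C'.Bs ⊤ n) (n : ℕ) (hn : 1 ≤ n) :
    (C.tensor C').Zs ⊤ n ≤ (C.tensor C').Bs ⊤ n := by
  rw [(S.tensor S').acyclic_iff n]
  intro z
  have h1 := LinearMap.congr_fun (S.tensor_p_π S' n) z
  rw [LinearMap.comp_apply] at h1
  rw [h1, LinearMap.sum_apply]
  apply Finset.sum_eq_zero
  intro i hi
  rw [Finset.mem_range] at hi
  unfold Split.tensorT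
  by_cases hi0 : 1 ≤ i
  · have h2 : S.p ∘ₗ C.π i = 0 := LinearMap.ext (fun v => (S.acyclic_iff i).mp (hV i hi0) v)
    rw [h2, TensorProduct.map_zero_left, LinearMap.zero_apply]
  · have h2 : S'.p ∘ₗ C'.π (n - i) = 0 :=
      LinearMap.ext (fun v => (S'.acyclic_iff (n - i)).mp (hW (n - i) (by omega)) v)
    rw [h2, TensorProduct.map_zero_right, LinearMap.zero_apply]

/-- Künneth in degree zero -/
theorem tensor_Zs_zero (S : C.Split) (S' : C'.Split) :
    (C.tensor C').Zs ⊤ 0 =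
      LinearMap.range (TensorProduct.map (C.Zs ⊤ 0).subtype (C'.Zs ⊤ 0).subtype) := by
  apply le_antisymm
  · intro z hz
    have h1 : (S.tensor S').p z = z := (S.tensor S').p_eq_of_mem_Zs_zero hz
    have h2 : (C.tensor C').π 0 z = z := ((C.tensor C').mem_Zs.mp hz).2.1
    have h3 := LinearMap.congr_fun (S.tensor_p_π S' 0) z
    rw [LinearMap.comp_apply, h2, h1, zero_add, Finset.range_one, Finset.sum_singleton] at h3
    have h4 : S.tensorT S' 0 0 =
        TensorProduct.map (C.Zs ⊤ 0).subtype (C'.Zs ⊤ 0).subtype ∘ₗ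
          TensorProduct.map (LinearMap.codRestrict (C.Zs ⊤ 0) (S.p ∘ₗ C.π 0) (S.p_π_mem_Zs 0))
            (LinearMap.codRestrict (C'.Zs ⊤ 0) (S'.p ∘ₗ C'.π 0) (S'.p_π_mem_Zs 0)) := by
      rw [← TensorProduct.map_comp]
      rfl
    rw [h3, h4]
    exact ⟨_, rfl⟩
  · rintro _ ⟨w, rfl⟩
    induction w using TensorProduct.induction_on with
    | zero => rw [map_zero]; exact Submodule.zero_mem _
    | tmul z z' =>
      obtain ⟨-, h1, h2⟩ := C.mem_Zs.mp z.2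
      obtain ⟨-, h1', h2'⟩ := C'.mem_Zs.mp z'.2
      rw [TensorProduct.map_tmul, Submodule.subtype_apply, Submodule.subtype_apply]
      refine (C.tensor C').mem_Zs.mpr ⟨trivial, ?_, ?_⟩
      · rw [tensor_π_tmul, zero_add, Finset.range_one, Finset.sum_singleton, Nat.sub_self, h1, h1']
      · rw [tensor_d_tmul, h2, h2', zero_tmul, tmul_zero, add_zero]
    | add x y hx hy => rw [map_add]; exact Submodule.add_mem _ hx hy

end TensorZero

end DG

end Groth.Agent.Helper7.KunLA
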