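import Mathlib
import Groth.Agent.Helper7.KunS6

/-!
# Künneth project, part S7: the cohomology of `ker (V ⊗ W → V/V' ⊗ W/W')` for two resolutions `V`, `W`
with subcomplexes `V'`, `W'` whose cohomology vanishes in degrees `0, 1`.
-/

set_option autoImplicit false
set_option linter.unusedSectionVars false
set_option linter.style.haveILetI false

namespace Groth.Agent.Helper7.KunLA

open TensorProduct Module

namespace DG

variable {k : Type*} [Field k] {V : Type*} [AddCommGroup V] [Module k V] (C : DG k V)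
  {W : Type*} [AddCommGroup W] [Module k W] (C' : DG k W)
  (V' : Submodule k V) (hV' : C.Stable V') (W' : Submodule k W) (hW' : C'.Stable W')

/-- the comparison map `V ⊗ W → V/V' ⊗ W/W'` -/
noncomputable def rho : V ⊗[k] W →ₗ[k] (V ⧸ V') ⊗[k] (W ⧸ W') :=
  TensorProduct.map V'.mkQ W'.mkQ

theorem rho_hom :
    (C.tensor C').Hom ((C.quot V' hV').tensor (C'.quot W' hW')) (rho V' W') :=
  (C.hom_mkQ V' hV').tensor (C'.hom_mkQ W' hW')

theorem rho_surjective : Function.Surjective (rho V' W') :=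
  TensorProduct.map_surjective V'.mkQ_surjective W'.mkQ_surjective

theorem rho_comp_subtype :
    rho V' W' ∘ₗ TensorProduct.map (C.Zs ⊤ 0).subtype (C'.Zs ⊤ 0).subtype =
      TensorProduct.map ((C.quot V' hV').Zs ⊤ 0).subtype ((C'.quot W' hW').Zs ⊤ 0).subtype ∘ₗ
        TensorProduct.map (C.quotZ0 V' hV') (C'.quotZ0 W' hW') := by
  unfold rho
  rw [← TensorProduct.map_comp, ← TensorProduct.map_comp]
  rfl

variable (hVa : ∀ n, 1 ≤ n → C.Zs ⊤ n ≤ C.Bs ⊤ n) (hWa : ∀ n, 1 ≤ n → C'.Zs ⊤ n ≤ C'.Bs ⊤ n)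
  (hV0 : C.Zs V' 0 = ⊥) (hV1 : C.Zs V' 1 ≤ C.Bs V' 1)
  (hW0 : C'.Zs W' 0 = ⊥) (hW1 : C'.Zs W' 1 ≤ C'.Bs W' 1)

include hV' hW' hV0 hW0 in
theorem Zs_ker_zero : (C.tensor C').Zs (LinearMap.ker (rho V' W')) 0 = ⊥ := by
  obtain ⟨S⟩ := C.nonempty_split
  obtain ⟨S'⟩ := C'.nonempty_split
  rw [eq_bot_iff]
  intro z hz
  obtain ⟨hz0, hz1, hz2⟩ := (C.tensor C').mem_Zs.mp hz
  have hz' : z ∈ (C.tensor C').Zs ⊤ 0 := (C.tensor C').mem_Zs.mpr ⟨trivial, hz1, hz2⟩
  rw [tensor_Zs_zero S S'] at hz'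
  obtain ⟨w, rfl⟩ := hz'
  rw [LinearMap.mem_ker, ← LinearMap.comp_apply, C.rho_comp_subtype C' V' hV' W' hW',
    LinearMap.comp_apply] at hz0
  have hinj : Function.Injective
      (TensorProduct.map ((C.quot V' hV').Zs ⊤ 0).subtype ((C'.quot W' hW').Zs ⊤ 0).subtype ∘ₗ
        TensorProduct.map (C.quotZ0 V' hV') (C'.quotZ0 W' hW')) := by
    rw [LinearMap.coe_comp]
    exact (TensorProduct.map_injective_of_flat_flat _ _ (Submodule.subtype_injective _)
      (Submodule.subtype_injective _)).comp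
      (TensorProduct.map_injective_of_flat_flat _ _ (C.quotZ0_injective V' hV' hV0)
        (C'.quotZ0_injective W' hW' hW0))
  have hw : w = 0 := hinj (by rw [LinearMap.comp_apply, hz0, map_zero])
  rw [hw, map_zero]
  exact Submodule.zero_mem _

include hV' hW' hVa hWa hV1 hW1 in
theorem Zs_ker_one_le :
    (C.tensor C').Zs (LinearMap.ker (rho V' W')) 1 ≤
      (C.tensor C').Bs (LinearMap.ker (rho V' W')) 1 := by
  obtain ⟨S⟩ := C.nonempty_split
  obtain ⟨S'⟩ := C'.nonempty_split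
  obtain ⟨Sq⟩ := (C.quot V' hV').nonempty_split
  obtain ⟨Sq'⟩ := (C'.quot W' hW').nonempty_split
  have hρ := C.rho_hom C' V' hV' W' hW'
  intro z hz
  obtain ⟨hz0, hz1, hz2⟩ := (C.tensor C').mem_Zs.mp hz
  have hz' : z ∈ (C.tensor C').Zs ⊤ 1 := (C.tensor C').mem_Zs.mpr ⟨trivial, hz1, hz2⟩
  obtain ⟨a, -, ⟨a', rfl⟩, rfl⟩ := (C.tensor C').mem_Bs.mp (tensor_acyclic S S' hVa hWa 1 le_rfl hz')
  set a := (C.tensor C').π 0 a' with ha
  have ha1 : (C.tensor C').π 0 a = a := by rw [ha, (C.tensor C').ππ]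
  have hρa : rho V' W' a ∈ ((C.quot V' hV').tensor (C'.quot W' hW')).Zs ⊤ 0 := by
    refine ((C.quot V' hV').tensor (C'.quot W' hW')).mem_Zs.mpr ⟨trivial, ?_, ?_⟩
    · rw [← hρ.π, ha1]
    · rw [← hρ.d]
      exact hz0
  rw [tensor_Zs_zero Sq Sq'] at hρa
  obtain ⟨wq, hwq⟩ := hρa
  obtain ⟨w, rfl⟩ := TensorProduct.map_surjective (C.quotZ0_surjective V' hV' hV1)
    (C'.quotZ0_surjective W' hW' hW1) wq
  set m := TensorProduct.map (C.Zs ⊤ 0).subtype (C'.Zs ⊤ 0).subtype w with hm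
  have hm1 : m ∈ (C.tensor C').Zs ⊤ 0 := by
    rw [tensor_Zs_zero S S']
    exact ⟨w, rfl⟩
  obtain ⟨-, hm2, hm3⟩ := (C.tensor C').mem_Zs.mp hm1
  have hρm : rho V' W' m = rho V' W' a := by
    rw [hm, ← LinearMap.comp_apply, C.rho_comp_subtype C' V' hV' W' hW', LinearMap.comp_apply, hwq]
  refine (C.tensor C').mem_Bs.mpr ⟨a - m, ?_, ⟨a - m, ?_⟩, ?_⟩
  · rw [LinearMap.mem_ker, map_sub, hρm, sub_self]
  · rw [map_sub, ha1, hm2]
  · rw [map_sub, hm3, sub_zero]

include hV' hW' hVa hWa hV0 hV1 hW0 hW1 in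
/-- **the main dimension count** -/
theorem main_finrank (hfV0 : FiniteDimensional k ↥(C.Zs ⊤ 0))
    (hfV : ∀ i, FiniteDimensional k (C.Hs V' i)) (hfW0 : FiniteDimensional k ↥(C'.Zs ⊤ 0))
    (hfW : ∀ i, FiniteDimensional k (C'.Hs W' i)) (q : ℕ) :
    finrank k ((C.tensor C').Hs (LinearMap.ker (rho V' W')) q) =
      finrank k ↥(C.Zs ⊤ 0) * finrank k (C'.Hs W' q) +
        finrank k (C.Hs V' q) * finrank k ↥(C'.Zs ⊤ 0) +
        ∑ i ∈ Finset.range (q + 2), finrank k (C.Hs V' i) * finrank k (C'.Hs W' (q + 1 - i)) := by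
  have hα0 : finrank k (C.Hs V' 0) = 0 := by
    haveI := C.subsingleton_Hs (U := V') (n := 0) (by rw [hV0]; exact bot_le)
    exact Module.finrank_zero_of_subsingleton
  have hα1 : finrank k (C.Hs V' 1) = 0 := by
    haveI := C.subsingleton_Hs hV1
    exact Module.finrank_zero_of_subsingleton
  have hβ0 : finrank k (C'.Hs W' 0) = 0 := by
    haveI := C'.subsingleton_Hs (U := W') (n := 0) (by rw [hW0]; exact bot_le)
    exact Module.finrank_zero_of_subsingleton
  have hβ1 : finrank k (C'.Hs W' 1) = 0 := by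
    haveI := C'.subsingleton_Hs hW1
    exact Module.finrank_zero_of_subsingleton
  rcases q with _ | _ | r
  · haveI := (C.tensor C').subsingleton_Hs (U := LinearMap.ker (rho V' W')) (n := 0)
      (by rw [C.Zs_ker_zero C' V' hV' W' hW' hV0 hW0]; exact bot_le)
    rw [Module.finrank_zero_of_subsingleton, hα0, hβ0, Finset.sum_range_succ, Finset.sum_range_one]
    simp [hα0, hα1]
  · haveI := (C.tensor C').subsingleton_Hs
      (C.Zs_ker_one_le C' V' hV' W' hW' hVa hWa hV1 hW1)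
    rw [Module.finrank_zero_of_subsingleton, hα1, hβ1, Finset.sum_range_succ, Finset.sum_range_succ,
      Finset.sum_range_one]
    simp [hα0, hα1, hβ0, hβ1]
  · obtain ⟨S⟩ := C.nonempty_split
    obtain ⟨S'⟩ := C'.nonempty_split
    obtain ⟨Sq⟩ := (C.quot V' hV').nonempty_split
    obtain ⟨Sq'⟩ := (C'.quot W' hW').nonempty_split
    obtain ⟨e⟩ := conn (C.tensor C') ((C.quot V' hV').tensor (C'.quot W' hW')) (rho V' W')
      (C.rho_hom C' V' hV' W' hW') (rho_surjective V' W') (r + 1)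
      (tensor_acyclic S S' hVa hWa (r + 1) (by omega))
      (tensor_acyclic S S' hVa hWa (r + 1 + 1) (by omega))
    rw [← e.finrank_eq]
    have hA : ∀ i, finrank k ((C.quot V' hV').Hs ⊤ i) =
        if i = 0 then finrank k ↥(C.Zs ⊤ 0) else finrank k (C.Hs V' (i + 1)) := by
      intro i
      split_ifs with hi
      · subst hi
        obtain ⟨e0⟩ := C.nonempty_quot_Hs_zero_equiv V' hV' hV0 hV1
        exact e0.finrank_eq
      · obtain ⟨e1⟩ := C.nonempty_quot_Hs_equiv V' hV' i (hVa i (by omega)) (hVa (i + 1) (by omega))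
        exact e1.finrank_eq
    have hB : ∀ i, finrank k ((C'.quot W' hW').Hs ⊤ i) =
        if i = 0 then finrank k ↥(C'.Zs ⊤ 0) else finrank k (C'.Hs W' (i + 1)) := by
      intro i
      split_ifs with hi
      · subst hi
        obtain ⟨e0⟩ := C'.nonempty_quot_Hs_zero_equiv W' hW' hW0 hW1
        exact e0.finrank_eq
      · obtain ⟨e1⟩ := C'.nonempty_quot_Hs_equiv W' hW' i (hWa i (by omega))
          (hWa (i + 1) (by omega))
        exact e1.finrank_eq
    have hfA : ∀ i, FiniteDimensional k ((C.quot V' hV').Hs ⊤ i) := by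
      intro i
      by_cases hi : i = 0
      · subst hi
        obtain ⟨e0⟩ := C.nonempty_quot_Hs_zero_equiv V' hV' hV0 hV1
        exact Module.Finite.equiv e0.symm
      · obtain ⟨e1⟩ := C.nonempty_quot_Hs_equiv V' hV' i (hVa i (by omega)) (hVa (i + 1) (by omega))
        haveI := hfV (i + 1)
        exact Module.Finite.equiv e1.symm
    have hfB : ∀ i, FiniteDimensional k ((C'.quot W' hW').Hs ⊤ i) := by
      intro i
      by_cases hi : i = 0
      · subst hi
        obtain ⟨e0⟩ := C'.nonempty_quot_Hs_zero_equiv W' hW' hW0 hW1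
        exact Module.Finite.equiv e0.symm
      · obtain ⟨e1⟩ := C'.nonempty_quot_Hs_equiv W' hW' i (hWa i (by omega))
          (hWa (i + 1) (by omega))
        haveI := hfW (i + 1)
        exact Module.Finite.equiv e1.symm
    rw [finrank_Hs_tensor Sq Sq' hfA hfB (r + 1)]
    have h3 := kun_arith (finrank k ↥(C.Zs ⊤ 0)) (finrank k ↥(C'.Zs ⊤ 0))
      (fun i => finrank k (C.Hs V' i)) (fun i => finrank k (C'.Hs W' i)) hα0 hα1 hβ0 hβ1 r
    simp only [hA, hB]
    exact h3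

end DG

end Groth.Agent.Helper7.KunLA
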