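import Mathlib
import Groth.Prelude.Def_GrLC
import Groth.Prelude.Def_Wider
import Groth.Prelude.Def_GrSeg
import Groth.Agent.Helper7.KunP
import Groth.Agent.Helper7.KunM
import Groth.Agent.Helper7.KunS7

/-!
# Künneth project, part Q: the total module `⨁ i, E^i` of a complex of graded modules, as a graded
module with a differential, and as a graded differential vector space.
-/

set_option autoImplicit false
set_option linter.unusedSectionVars false
set_option linter.style.haveILetI false

namespace Groth.Agent.Helper7.Kun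

open DirectSum Groth.Agent.Helper7.KunLA

universe u

attribute [local instance] gmodModuleK gmodTowerK

section Big

variable {k R : Type u} [Field k] [CommRing R] [Algebra k R] {𝒜 : ℤ → Submodule k R}
  [GradedAlgebra 𝒜] (X : ℕ → GrLC.GMod.{u} 𝒜)

/-- the total module -/
abbrev Big : Type u := ⨁ i, (X i).carrier

/-- inclusion of a term -/
noncomputable def inc (i : ℕ) : (X i).carrier →ₗ[R] Big X :=
  DirectSum.lof R ℕ (fun i => (X i).carrier) i

/-- projection to a term -/
noncomputable def cmp (i : ℕ) : Big X →ₗ[R] (X i).carrier :=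
  DirectSum.component R ℕ (fun i => (X i).carrier) i

theorem cmp_apply (i : ℕ) (x : Big X) : cmp X i x = x i := rfl

theorem cmp_inc_same (i : ℕ) (y : (X i).carrier) : cmp X i (inc X i y) = y := by
  unfold cmp inc
  exact DirectSum.component.lof_self (M := fun i => (X i).carrier) R i y

theorem cmp_inc_ne (i j : ℕ) (h : i ≠ j) (y : (X i).carrier) : cmp X j (inc X i y) = 0 := by
  unfold cmp inc
  rw [DirectSum.component.of (R := R) (M := fun i => (X i).carrier)]
  exact dif_neg h

theorem big_ext {x y : Big X} (h : ∀ i, cmp X i x = cmp X i y) : x = y :=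
  DirectSum.ext_component R h

theorem inc_injective (i : ℕ) : Function.Injective (inc X i) := by
  intro a b hab
  have h1 := congrArg (cmp X i) hab
  rwa [cmp_inc_same, cmp_inc_same] at h1

open Classical in
theorem sum_inc_cmp (x : Big X) : ∑ i ∈ DFinsupp.support x, inc X i (cmp X i x) = x := by
  have := DirectSum.sum_support_of (β := fun i => (X i).carrier) x
  exact this

/-- pieces of the total module -/
def bigGr (g : ℤ) : AddSubgroup (Big X) where
  carrier := {x | ∀ i, cmp X i x ∈ (X i).gr g}
  zero_mem' := fun i => by rw [map_zero]; exact zero_mem _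
  add_mem' := fun hx hy i => by rw [map_add]; exact add_mem (hx i) (hy i)
  neg_mem' := fun hx i => by rw [map_neg]; exact neg_mem (hx i)

theorem mem_bigGr {g : ℤ} {x : Big X} : x ∈ bigGr X g ↔ ∀ i, cmp X i x ∈ (X i).gr g := Iff.rfl

theorem inc_mem_bigGr {g : ℤ} {i : ℕ} {y : (X i).carrier} (hy : y ∈ (X i).gr g) :
    inc X i y ∈ bigGr X g := by
  intro j
  by_cases h : i = j
  · subst h
    rw [cmp_inc_same]
    exact hy
  · rw [cmp_inc_ne X i j h]
    exact zero_mem _

/-- degree projection on a term, as an additive map -/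
noncomputable def prAdd (i : ℕ) (g : ℤ) : (X i).carrier →+ (X i).carrier where
  toFun y := (decompose (X i).gr y g : (X i).carrier)
  map_zero' := by rw [decompose_zero, DirectSum.zero_apply, ZeroMemClass.coe_zero]
  map_add' y z := by rw [decompose_add, DirectSum.add_apply, AddSubgroup.coe_add]

/-- degree projection on the total module -/
noncomputable def bigPr (g : ℤ) : Big X →+ Big X := DirectSum.map (fun i => prAdd X i g)

theorem cmp_bigPr (g : ℤ) (i : ℕ) (x : Big X) :
    cmp X i (bigPr X g x) = (decompose (X i).gr (cmp X i x) g : (X i).carrier) := by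
  rw [cmp_apply, cmp_apply]
  exact DirectSum.map_apply (fun i => prAdd X i g) i x

theorem isInternal_bigGr : DirectSum.IsInternal (bigGr X) := by
  classical
  apply Groth.Agent.Helper6.GrCon.isInternal_of_proj (bigGr X) (fun g x => bigPr X g x)
  · intro g x i
    rw [cmp_bigPr]
    exact SetLike.coe_mem _
  · intro g x hx
    apply big_ext
    intro i
    rw [cmp_bigPr, decompose_of_mem_same _ (hx i)]
  · intro g g' x hx hgg
    apply big_ext
    intro i
    rw [cmp_bigPr, decompose_of_mem_ne _ (hx i) hgg, map_zero]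
  · intro g x y
    exact map_add _ x y
  · intro x
    refine ⟨(DFinsupp.support x).biUnion (fun i => (decompose (X i).gr (cmp X i x)).support), ?_⟩
    apply big_ext
    intro i
    rw [map_sum]
    simp only [cmp_bigPr]
    by_cases hi : i ∈ DFinsupp.support x
    · have hsub : (decompose (X i).gr (cmp X i x)).support ⊆
          (DFinsupp.support x).biUnion (fun i => (decompose (X i).gr (cmp X i x)).support) :=
        Finset.subset_biUnion_of_mem (fun i => (decompose (X i).gr (cmp X i x)).support) hi
      rw [← Finset.sum_subset hsub]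
      · exact DirectSum.sum_support_decompose (X i).gr (cmp X i x)
      · intro g _ hg
        rw [DFinsupp.notMem_support_iff] at hg
        rw [hg, ZeroMemClass.coe_zero]
    · rw [DFinsupp.notMem_support_iff] at hi
      have h0 : cmp X i x = 0 := hi
      rw [h0]
      apply Finset.sum_eq_zero
      intro g _
      rw [decompose_zero, DirectSum.zero_apply, ZeroMemClass.coe_zero]

noncomputable instance bigDecomposition : DirectSum.Decomposition (bigGr X) :=
  (isInternal_bigGr X).chooseDecomposition

instance bigGradedSMul : SetLike.GradedSMul 𝒜 (bigGr X) where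
  smul_mem := by
    intro i j a b ha hb l
    rw [map_smul]
    exact SetLike.GradedSMul.smul_mem (A := 𝒜) (B := (X l).gr) ha (hb l)

end Big

section Diff

variable {k R : Type u} [Field k] [CommRing R] [Algebra k R] {𝒜 : ℤ → Submodule k R}
  [GradedAlgebra 𝒜] (X : ℕ → GrLC.GMod.{u} 𝒜)
  (d : ∀ n, (X n).carrier →ₗ[R] (X (n + 1)).carrier)

/-- the total differential -/
noncomputable def bigD : Big X →ₗ[R] Big X :=
  DirectSum.toModule R ℕ (Big X) (fun i => inc X (i + 1) ∘ₗ d i)

theorem bigD_inc (i : ℕ) (y : (X i).carrier) : bigD X d (inc X i y) = inc X (i + 1) (d i y) := by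
  unfold bigD
  exact DirectSum.toModule_lof (M := fun i => (X i).carrier) R i y

theorem cmp_succ_bigD (i : ℕ) (x : Big X) : cmp X (i + 1) (bigD X d x) = d i (cmp X i x) := by
  induction x using DirectSum.induction_on with
  | zero => simp
  | of j y =>
    have h1 : DirectSum.of (fun i => (X i).carrier) j y = inc X j y := rfl
    rw [h1, bigD_inc]
    by_cases h : j = i
    · subst h
      rw [cmp_inc_same, cmp_inc_same]
    · rw [cmp_inc_ne X (j + 1) (i + 1) (by omega), cmp_inc_ne X j i h, map_zero]
  | add x y hx hy => rw [map_add, map_add, hx, hy, map_add, map_add]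

theorem cmp_zero_bigD (x : Big X) : cmp X 0 (bigD X d x) = 0 := by
  induction x using DirectSum.induction_on with
  | zero => simp
  | of j y =>
    have h1 : DirectSum.of (fun i => (X i).carrier) j y = inc X j y := rfl
    rw [h1, bigD_inc, cmp_inc_ne X (j + 1) 0 (by omega)]
  | add x y hx hy => rw [map_add, map_add, hx, hy, add_zero]

theorem bigD_grHom (hd : ∀ n, GrLC.IsGrHom (X n).gr (X (n + 1)).gr (d n)) :
    GrLC.IsGrHom (bigGr X) (bigGr X) (bigD X d) := by
  intro g x hx i
  cases i with
  | zero => rw [cmp_zero_bigD]; exact zero_mem _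
  | succ i => rw [cmp_succ_bigD]; exact hd i g _ (hx i)

theorem bigD_bigD (hdd : ∀ n x, d (n + 1) (d n x) = 0) (x : Big X) :
    bigD X d (bigD X d x) = 0 := by
  induction x using DirectSum.induction_on with
  | zero => simp
  | of j y =>
    have h1 : DirectSum.of (fun i => (X i).carrier) j y = inc X j y := rfl
    rw [h1, bigD_inc, bigD_inc, hdd, map_zero]
  | add x y hx hy => rw [map_add, map_add, hx, hy, add_zero]

/-- the sign operator -/
noncomputable def bigσ : Big X →ₗ[R] Big X :=
  DirectSum.toModule R ℕ (Big X) (fun i => ((-1 : R) ^ i) • inc X i)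

theorem bigσ_inc (i : ℕ) (y : (X i).carrier) : bigσ X (inc X i y) = ((-1 : R) ^ i) • inc X i y := by
  unfold bigσ
  exact DirectSum.toModule_lof (M := fun i => (X i).carrier) R i y

theorem bigσ_grHom : GrLC.IsGrHom (bigGr X) (bigGr X) (bigσ X) := by
  classical
  intro g x hx
  have h1 : x = ∑ i ∈ DFinsupp.support x, inc X i (cmp X i x) := (sum_inc_cmp X x).symm
  rw [h1, map_sum]
  apply sum_mem
  intro i _
  rw [bigσ_inc, ← map_smul]
  apply inc_mem_bigGr
  have h2 : ((-1 : R) ^ i) • cmp X i x = ((-1 : ℤ) ^ i) • cmp X i x := by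
    rcases Nat.even_or_odd i with h | h
    · rw [h.neg_one_pow, h.neg_one_pow, one_smul, one_smul]
    · rw [h.neg_one_pow, h.neg_one_pow, neg_smul, neg_smul, one_smul, one_smul]
  rw [h2]
  exact zsmul_mem (hx i) _

/-- the total module as a graded differential vector space -/
noncomputable def bigDG (hdd : ∀ n x, d (n + 1) (d n x) = 0) : DG k (Big X) where
  d := (bigD X d).restrictScalars k
  π i := (inc X i ∘ₗ cmp X i).restrictScalars k
  σ := (bigσ X).restrictScalars k
  dd := bigD_bigD X d hdd
  ππ i v := by
    show inc X i (cmp X i (inc X i (cmp X i v))) = inc X i (cmp X i v)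
    rw [cmp_inc_same]
  ππ_ne i j v h := by
    show inc X i (cmp X i (inc X j (cmp X j v))) = 0
    rw [cmp_inc_ne X j i (Ne.symm h), map_zero]
  dπ i v := by
    show bigD X d (inc X i (cmp X i v)) = inc X (i + 1) (cmp X (i + 1) (bigD X d v))
    rw [bigD_inc, cmp_succ_bigD]
  σπ i v := by
    show bigσ X (inc X i (cmp X i v)) = ((-1 : k) ^ i) • inc X i (cmp X i v)
    rw [bigσ_inc, algebra_compatible_smul R ((-1 : k) ^ i), map_pow, map_neg, map_one]
  span v := by
    classical
    rw [← sum_inc_cmp X v]
    apply Submodule.sum_mem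
    intro i _
    exact Submodule.mem_iSup_of_mem i ⟨v, rfl⟩

theorem bigDG_d (hdd : ∀ n x, d (n + 1) (d n x) = 0) (x : Big X) :
    (bigDG X d hdd).d x = bigD X d x := rfl

theorem bigDG_π (hdd : ∀ n x, d (n + 1) (d n x) = 0) (i : ℕ) (x : Big X) :
    (bigDG X d hdd).π i x = inc X i (cmp X i x) := rfl

theorem bigDG_σ (hdd : ∀ n x, d (n + 1) (d n x) = 0) (x : Big X) :
    (bigDG X d hdd).σ x = bigσ X x := rfl

/-- exactness of the complex in a positive degree gives acyclicity of the total module -/
theorem bigDG_acyclic (hdd : ∀ n x, d (n + 1) (d n x) = 0) (n : ℕ)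
    (hs : LinearMap.ker (d (n + 1)) = LinearMap.range (d n)) :
    (bigDG X d hdd).Zs ⊤ (n + 1) ≤ (bigDG X d hdd).Bs ⊤ (n + 1) := by
  intro z hz
  obtain ⟨-, h1, h2⟩ := (bigDG X d hdd).mem_Zs.mp hz
  rw [bigDG_π] at h1
  rw [bigDG_d, ← h1, bigD_inc] at h2
  have h3 : d (n + 1) (cmp X (n + 1) z) = 0 := by
    apply inc_injective X (n + 2)
    rw [h2, map_zero]
  have h4 : cmp X (n + 1) z ∈ LinearMap.range (d n) := by
    rw [← hs]; exact h3
  obtain ⟨y, hy⟩ := h4
  refine (bigDG X d hdd).mem_Bs.mpr ⟨inc X n y, trivial, ⟨inc X n y, ?_⟩, ?_⟩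
  · rw [bigDG_π, cmp_inc_same]
  · rw [bigDG_d, bigD_inc, hy, h1]

end Diff

end Groth.Agent.Helper7.Kun
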