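import Mathlib
import Groth.Prelude.Def_GrLC
import Groth.Prelude.Def_Wider
import Groth.Agent.Helper7.GrAcy3
import Groth.Agent.Helper7.KunS7

/-!
# Künneth project, part T1: the generic bridge between a homogeneous strand of `Γ_a(Y^•)` for a raw
complex of graded modules and the relative cohomology of a graded differential vector space.
-/

set_option autoImplicit false
set_option linter.unusedSectionVars false
set_option linter.style.haveILetI false

namespace Groth.Agent.Helper7.Kun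

open DirectSum Groth.Agent.Helper7.KunLA Groth.Agent.Helper7.GrAcy

universe u

section Bridge

variable {ι : Type} [AddCommGroup ι] [DecidableEq ι] {T : Type u} [CommRing T]
  {𝒯 : ι → AddSubgroup T} [GradedRing 𝒯] (a : HomogeneousIdeal 𝒯)
  (Y : ℕ → GrLC.GMod.{u} 𝒯) (dY : ∀ n, (Y n).carrier →ₗ[T] (Y (n + 1)).carrier)
  (hdY : ∀ n, GrLC.IsGrHom (Y n).gr (Y (n + 1)).gr (dY n))
  {k : Type u} [Field k] {U : Type u} [AddCommGroup U] [Module k U] (C : DG k U)
  (U' : Submodule k U) (ι0 : k →+* GrLC.deg0 𝒯) (g : ι)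
  (j : ∀ n, U →+ (Y n).carrier)
  (j1 : ∀ n u, j n (C.π n u) = j n u)
  (j2 : ∀ n u, C.π n u = u → j n u = 0 → u = 0)
  (j3 : ∀ n u, j n u ∈ (Y n).gr g)
  (j4 : ∀ n y, y ∈ (Y n).gr g → ∃ u, j n u = y)
  (j5 : ∀ n u, j (n + 1) (C.d u) = dY n (j n u))
  (j6 : ∀ n u, C.π n u = u → (u ∈ U' ↔ j n u ∈ GrLC.gam a.toIdeal (Y n).carrier))
  (j7 : ∀ n (c : k) u, j n (c • u) = ((ι0 c : GrLC.deg0 𝒯) : T) • j n u)

include j5 j6 in
theorem bridge_cocyc (n : ℕ) (z : ↥(C.Zs U' n)) : j n z.1 ∈ cocyc a Y dY n := by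
  obtain ⟨h1, h2, h3⟩ := C.mem_Zs.mp z.2
  refine ⟨(j6 n z.1 h2).mp h1, ?_⟩
  show dY n (j n z.1) = 0
  rw [← j5, h3, map_zero]

/-- the comparison map on cocycles -/
noncomputable def bridgeΦ (n : ℕ) :
    letI : Module k ↥(HHcomp a Y dY n g) := Module.compHom _ ι0
    ↥(C.Zs U' n) →ₗ[k] ↥(HHcomp a Y dY n g) :=
  letI : Module k ↥(HHcomp a Y dY n g) := Module.compHom _ ι0
  { toFun := fun z => ⟨toHH a Y dY n ⟨j n z.1, bridge_cocyc a Y dY C U' j j5 j6 n z⟩,
      ⟨⟨j n z.1, bridge_cocyc a Y dY C U' j j5 j6 n z⟩, j3 n z.1, rfl⟩⟩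
    map_add' := fun z w => by
      apply Subtype.ext
      show toHH a Y dY n ⟨j n (z.1 + w.1), _⟩ = toHH a Y dY n ⟨j n z.1, _⟩ + toHH a Y dY n ⟨j n w.1, _⟩
      rw [← map_add]
      congr 1
      apply Subtype.ext
      exact map_add (j n) z.1 w.1
    map_smul' := fun c z => by
      apply Subtype.ext
      show toHH a Y dY n ⟨j n (c • z.1), _⟩ = ((ι0 c : GrLC.deg0 𝒯) : T) • toHH a Y dY n ⟨j n z.1, _⟩
      rw [← map_smul]
      congr 1
      apply Subtype.ext
      exact j7 n c z.1 }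

theorem bridgeΦ_coe (n : ℕ) (z : ↥(C.Zs U' n)) :
    ((bridgeΦ a Y dY C U' ι0 g j j3 j5 j6 j7 n z : ↥(HHcomp a Y dY n g)) : HH a Y dY n) =
      toHH a Y dY n ⟨j n z.1, bridge_cocyc a Y dY C U' j j5 j6 n z⟩ := rfl

include j1 j2 j4 in
theorem bridgeΦ_surjective (n : ℕ) :
    Function.Surjective (bridgeΦ a Y dY C U' ι0 g j j3 j5 j6 j7 n) := by
  rintro ⟨x, c, hc, rfl⟩
  obtain ⟨u₀, hu₀⟩ := j4 n c.1 hc
  set u := C.π n u₀ with hu
  have hu1 : C.π n u = u := by rw [hu, C.ππ]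
  have hu2 : j n u = c.1 := by rw [hu, j1, hu₀]
  have hu3 : u ∈ U' := (j6 n u hu1).mpr (by rw [hu2]; exact c.2.1)
  have hu4 : C.d u = 0 := by
    apply j2 (n + 1) (C.d u)
    · rw [hu, C.dπ, C.ππ]
    · rw [j5, hu2]
      exact LinearMap.mem_ker.mp c.2.2
  refine ⟨⟨u, C.mem_Zs.mpr ⟨hu3, hu1, hu4⟩⟩, ?_⟩
  apply Subtype.ext
  rw [bridgeΦ_coe]
  congr 1
  exact Subtype.ext hu2

include hdY j1 j2 j4 in
theorem ker_bridgeΦ (n : ℕ) :
    letI : Module k ↥(HHcomp a Y dY n g) := Module.compHom _ ι0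
    LinearMap.ker (bridgeΦ a Y dY C U' ι0 g j j3 j5 j6 j7 n) =
      (C.Bs U' n).comap (C.Zs U' n).subtype := by
  letI : Module k ↥(HHcomp a Y dY n g) := Module.compHom _ ι0
  ext z
  rw [LinearMap.mem_ker, Submodule.mem_comap, Submodule.subtype_apply]
  have e1 : bridgeΦ a Y dY C U' ι0 g j j3 j5 j6 j7 n z = 0 ↔ j n z.1 ∈ cobdy a Y dY n := by
    constructor
    · intro h
      have h1 := congrArg Subtype.val h
      rw [bridgeΦ_coe] at h1
      have h2 := (Submodule.Quotient.mk_eq_zero _).mp h1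
      exact h2
    · intro h
      apply Subtype.ext
      rw [bridgeΦ_coe]
      exact (Submodule.Quotient.mk_eq_zero _).mpr h
  rw [e1]
  obtain ⟨hz1, hz2, hz3⟩ := C.mem_Zs.mp z.2
  cases n with
  | zero =>
    constructor
    · intro h
      have h0 : j 0 z.1 = 0 := (Submodule.mem_bot T).mp h
      rw [j2 0 z.1 hz2 h0]
      exact Submodule.zero_mem _
    · intro h
      obtain ⟨y, -, hy, hyz⟩ := C.mem_Bs.mp h
      have : y = 0 := (Submodule.mem_bot k).mp hy
      rw [← hyz, this, map_zero, map_zero]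
      exact Submodule.zero_mem _
  | succ m =>
    constructor
    · rintro ⟨y, hy, hyz⟩
      have hyg : (decompose (Y m).gr y g : (Y m).carrier) ∈ GrLC.gam a.toIdeal (Y m).carrier :=
        Groth.Agent.Helper6.GrH.gam_isHomogeneous 𝒯 (Y m).gr a g hy
      have h1 : dY m (decompose (Y m).gr y g : (Y m).carrier) = j (m + 1) z.1 := by
        rw [← Groth.Agent.Helper6.GrMod.decompose_map (hdY m), hyz,
          decompose_of_mem_same _ (j3 (m + 1) z.1)]
      obtain ⟨w₀, hw₀⟩ := j4 m _ (SetLike.coe_mem (decompose (Y m).gr y g))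
      set w := C.π m w₀ with hw
      have hw1 : C.π m w = w := by rw [hw, C.ππ]
      have hw2 : j m w = (decompose (Y m).gr y g : (Y m).carrier) := by rw [hw, j1, hw₀]
      have hw3 : w ∈ U' := (j6 m w hw1).mpr (by rw [hw2]; exact hyg)
      have hw4 : C.d w - z.1 = 0 := by
        apply j2 (m + 1)
        · rw [map_sub, hz2, hw, C.dπ, C.ππ]
        · rw [map_sub, j5, hw2, h1, sub_self]
      refine C.mem_Bs.mpr ⟨w, hw3, ⟨w₀, rfl⟩, ?_⟩
      exact sub_eq_zero.mp hw4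
    · intro h
      obtain ⟨y, hy1, ⟨y', rfl⟩, hyz⟩ := C.mem_Bs.mp h
      refine ⟨j m (C.π m y'), (j6 m _ (C.ππ m y')).mp hy1, ?_⟩
      rw [← j5, hyz]

include hdY j1 j2 j3 j4 j5 j6 j7 in
/-- **the bridge**: equality of ranks -/
theorem bridge_rank_eq (hι : Function.Bijective ι0) (n : ℕ) :
    Module.rank k (C.Hs U' n) = Module.rank (GrLC.deg0 𝒯) ↥(HHcomp a Y dY n g) := by
  letI : Module k ↥(HHcomp a Y dY n g) := Module.compHom _ ι0
  have hk := ker_bridgeΦ a Y dY hdY C U' ι0 g j j1 j2 j3 j4 j5 j6 j7 n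
  let e : C.Hs U' n ≃ₗ[k] ↥(HHcomp a Y dY n g) :=
    (Submodule.quotEquivOfEq _ _ hk.symm) ≪≫ₗ
      ((bridgeΦ a Y dY C U' ι0 g j j3 j5 j6 j7 n).quotKerEquivOfSurjective
        (bridgeΦ_surjective a Y dY C U' ι0 g j j1 j2 j3 j4 j5 j6 j7 n))
  exact rank_eq_of_equiv_equiv ι0 e.toAddEquiv hι (fun c x => e.map_smul c x)

include hdY j1 j2 j3 j4 j5 j6 j7 in
/-- **the bridge**, as a semilinear additive equivalence -/
theorem bridge_exists_equiv (n : ℕ) :
    ∃ e : C.Hs U' n ≃+ ↥(HHcomp a Y dY n g), ∀ (c : k) (x : C.Hs U' n), e (c • x) = ι0 c • e x := by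
  letI : Module k ↥(HHcomp a Y dY n g) := Module.compHom _ ι0
  have hk := ker_bridgeΦ a Y dY hdY C U' ι0 g j j1 j2 j3 j4 j5 j6 j7 n
  let e : C.Hs U' n ≃ₗ[k] ↥(HHcomp a Y dY n g) :=
    (Submodule.quotEquivOfEq _ _ hk.symm) ≪≫ₗ
      ((bridgeΦ a Y dY C U' ι0 g j j3 j5 j6 j7 n).quotKerEquivOfSurjective
        (bridgeΦ_surjective a Y dY C U' ι0 g j j1 j2 j3 j4 j5 j6 j7 n))
  exact ⟨e.toAddEquiv, fun c x => e.map_smul c x⟩

end Bridge

section Semilinear

variable {k R0 M M₁ : Type*} [Semiring k] [Semiring R0] [AddCommMonoid M] [Module k M]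
  [AddCommMonoid M₁] [Module R0 M₁]

/-- finiteness transfers along a semilinear additive equivalence with surjective scalar map -/
theorem finite_of_addEquiv (i : k → R0) (hi : Function.Surjective i) (j : M ≃+ M₁)
    (hc : ∀ (c : k) (m : M), j (c • m) = i c • j m) [Module.Finite R0 M₁] : Module.Finite k M := by
  classical
  obtain ⟨S, hS⟩ := (Module.finite_def (R := R0) (M := M₁)).mp inferInstance
  refine ⟨⟨S.image j.symm, ?_⟩⟩
  rw [eq_top_iff]
  intro m _
  have h1 : j m ∈ Submodule.span R0 (S : Set M₁) := by rw [hS]; trivial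
  have key : ∀ y ∈ Submodule.span R0 (S : Set M₁),
      j.symm y ∈ Submodule.span k ((S.image j.symm : Finset M) : Set M) := by
    intro y hy
    induction hy using Submodule.span_induction with
    | mem y hy => exact Submodule.subset_span (Finset.mem_coe.mpr (Finset.mem_image_of_mem _ hy))
    | zero => rw [map_zero]; exact Submodule.zero_mem _
    | add y z _ _ hy hz => rw [map_add]; exact Submodule.add_mem _ hy hz
    | smul r y _ hy =>
      obtain ⟨c, rfl⟩ := hi r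
      have h2 : j.symm (i c • y) = c • j.symm y := by
        apply j.injective
        rw [hc, AddEquiv.apply_symm_apply, AddEquiv.apply_symm_apply]
      rw [h2]
      exact Submodule.smul_mem _ _ hy
  have h3 := key (j m) h1
  rwa [AddEquiv.symm_apply_apply] at h3

end Semilinear

end Groth.Agent.Helper7.Kun
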