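import Mathlib
import Groth.Prelude.Def_GrLC
import Groth.Prelude.Def_Wider
import Groth.Agent.Helper7.KunQ
import Groth.Agent.Helper7.KunT1

/-!
# Künneth project, part T2: the degree-`g` strand of the total module of a complex of graded modules,
and the bridge to graded local cohomology pieces.
-/

set_option autoImplicit false
set_option linter.unusedSectionVars false
set_option linter.style.haveILetI false

namespace Groth.Agent.Helper7.Kun

open DirectSum Groth.Agent.Helper7.KunLA Groth.Agent.Helper7.GrAcy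

universe u

attribute [local instance] gmodModuleK gmodTowerK

section Gam

variable {R : Type u} [CommRing R] {M N : Type u} [AddCommGroup M] [Module R M] [AddCommGroup N]
  [Module R N]

theorem gam_map_mem (a : Ideal R) (f : M →ₗ[R] N) {x : M} (hx : x ∈ GrLC.gam a M) :
    f x ∈ GrLC.gam a N := by
  obtain ⟨n, hn⟩ := hx
  exact ⟨n, fun r hr => by rw [← map_smul, hn r hr, map_zero]⟩

end Gam

section Deg0

variable {k R : Type u} [Field k] [CommRing R] [Algebra k R] (𝒜 : ℤ → Submodule k R)
  [GradedAlgebra 𝒜]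

/-- the structure map `k → R_0` -/
noncomputable def kToDeg0 : k →+* GrLC.deg0 (plus 𝒜) :=
  (algebraMap k R).codRestrict (GrLC.deg0 (plus 𝒜)) (fun c => SetLike.algebraMap_mem_graded 𝒜 c)

theorem kToDeg0_coe (c : k) : ((kToDeg0 𝒜 c : GrLC.deg0 (plus 𝒜)) : R) = algebraMap k R c := rfl

theorem kToDeg0_bijective [Nontrivial R] (h0 : 𝒜 0 = Submodule.span k {(1 : R)}) :
    Function.Bijective (kToDeg0 𝒜) := by
  constructor
  · intro c c' h
    have h1 := congrArg Subtype.val h
    exact (algebraMap k R).injective h1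
  · rintro ⟨x, hx⟩
    have hx' : x ∈ 𝒜 0 := hx
    rw [h0, Submodule.mem_span_singleton] at hx'
    obtain ⟨c, rfl⟩ := hx'
    refine ⟨c, Subtype.ext ?_⟩
    rw [kToDeg0_coe, Algebra.algebraMap_eq_smul_one]

end Deg0

section RSide

variable {k R : Type u} [Field k] [CommRing R] [Algebra k R] {𝒜 : ℤ → Submodule k R}
  [GradedAlgebra 𝒜] (X : ℕ → GrLC.GMod.{u} 𝒜)
  (d : ∀ n, (X n).carrier →ₗ[R] (X (n + 1)).carrier)
  (hd : ∀ n, GrLC.IsGrHom (X n).gr (X (n + 1)).gr (d n))
  (hdd : ∀ n x, d (n + 1) (d n x) = 0) (g : ℤ)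

/-- the degree-`g` strand of the total module -/
def bigSub : Submodule k (Big X) where
  carrier := {x | x ∈ bigGr X g}
  zero_mem' := (bigGr X g).zero_mem
  add_mem' := fun hx hy => (bigGr X g).add_mem hx hy
  smul_mem' := fun c x hx i => by
    rw [algebra_compatible_smul R c x, map_smul]
    have h1 := SetLike.GradedSMul.smul_mem (A := 𝒜) (B := (X i).gr)
      (SetLike.algebraMap_mem_graded 𝒜 c) (hx i)
    rwa [vadd_eq_add, zero_add] at h1

theorem mem_bigSub {x : Big X} : x ∈ bigSub X g ↔ x ∈ bigGr X g := Iff.rfl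

include hd in
theorem bigSub_stable : (bigDG X d hdd).Stable (bigSub X g) := by
  constructor
  · intro v hv
    exact bigD_grHom X d hd g v hv
  · intro i v hv
    exact inc_mem_bigGr X (hv i)

/-- the `a`-torsion part of the strand -/
noncomputable def gamSub (a : Ideal R) : Submodule k ↥(bigSub X g) :=
  ((GrLC.gam a (Big X)).restrictScalars k).comap (bigSub X g).subtype

theorem mem_gamSub {a : Ideal R} {v : ↥(bigSub X g)} :
    v ∈ gamSub X g a ↔ (v : Big X) ∈ GrLC.gam a (Big X) := Iff.rfl

theorem gamSub_stable (a : Ideal R) :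
    ((bigDG X d hdd).restrict (bigSub X g) (bigSub_stable X d hd hdd g)).Stable
      (gamSub X g a) := by
  constructor
  · intro v hv
    exact gam_map_mem a (bigD X d) hv
  · intro i v hv
    exact gam_map_mem a (inc X i ∘ₗ cmp X i) hv

/-- the strand as a graded differential vector space -/
noncomputable abbrev strandDG : DG k ↥(bigSub X g) :=
  (bigDG X d hdd).restrict (bigSub X g) (bigSub_stable X d hd hdd g)

/-- the component maps on the strand -/
noncomputable def strandJ (n : ℕ) : ↥(bigSub X g) →+ (gmodPlus 𝒜 (X n)).carrier :=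
  (cmp X n).toAddMonoidHom.comp (bigSub X g).subtype.toAddMonoidHom

theorem strandJ_apply (n : ℕ) (u : ↥(bigSub X g)) : strandJ X g n u = cmp X n (u : Big X) := rfl

include hd in
/-- **bridge for the strand of a complex** -/
theorem exists_strand_equiv (a : HomogeneousIdeal (plus 𝒜)) (n : ℕ) :
    ∃ e : (strandDG X d hd hdd g).Hs (gamSub X g a.toIdeal) n ≃+
        ↥(HHcomp a (fun n => gmodPlus 𝒜 (X n)) d n g),
      ∀ (c : k) x, e (c • x) = kToDeg0 𝒜 c • e x := by
  refine bridge_exists_equiv a (fun n => gmodPlus 𝒜 (X n)) d hd (strandDG X d hd hdd g)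
    (gamSub X g a.toIdeal) (kToDeg0 𝒜) g (strandJ X g) ?_ ?_ ?_ ?_ ?_ ?_ ?_ n
  · intro n u
    show cmp X n (inc X n (cmp X n (u : Big X))) = cmp X n (u : Big X)
    rw [cmp_inc_same]
  · intro n u hu h0
    have h1 : inc X n (cmp X n (u : Big X)) = (u : Big X) := congrArg Subtype.val hu
    have h2 : cmp X n (u : Big X) = 0 := h0
    apply Subtype.ext
    rw [← h1, h2, map_zero]
    rfl
  · intro n u
    exact u.2 n
  · intro n y hy
    exact ⟨⟨inc X n y, inc_mem_bigGr X hy⟩, cmp_inc_same X n y⟩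
  · intro n u
    show cmp X (n + 1) (bigD X d (u : Big X)) = d n (cmp X n (u : Big X))
    exact cmp_succ_bigD X d n _
  · intro n u hu
    have h1 : inc X n (cmp X n (u : Big X)) = (u : Big X) := congrArg Subtype.val hu
    constructor
    · intro h
      exact gam_map_mem a.toIdeal (cmp X n) h
    · intro h
      show (u : Big X) ∈ GrLC.gam a.toIdeal (Big X)
      rw [← h1]
      exact gam_map_mem a.toIdeal (inc X n) h
  · intro n c u
    show cmp X n ((c • u : ↥(bigSub X g)) : Big X) = algebraMap k R c • cmp X n (u : Big X)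
    rw [Submodule.coe_smul, algebra_compatible_smul R c (u : Big X), map_smul]

include hd in
theorem rank_strand_eq (a : HomogeneousIdeal (plus 𝒜)) (hι : Function.Bijective (kToDeg0 𝒜))
    (n : ℕ) :
    Module.rank k ((strandDG X d hd hdd g).Hs (gamSub X g a.toIdeal) n) =
      Module.rank (GrLC.deg0 (plus 𝒜)) ↥(HHcomp a (fun n => gmodPlus 𝒜 (X n)) d n g) := by
  obtain ⟨e, he⟩ := exists_strand_equiv X d hd hdd g a n
  exact rank_eq_of_equiv_equiv (kToDeg0 𝒜) e hι he

include hd in
theorem finite_strand (a : HomogeneousIdeal (plus 𝒜)) (hι : Function.Bijective (kToDeg0 𝒜))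
    (n : ℕ) [Module.Finite (GrLC.deg0 (plus 𝒜)) ↥(HHcomp a (fun n => gmodPlus 𝒜 (X n)) d n g)] :
    Module.Finite k ((strandDG X d hd hdd g).Hs (gamSub X g a.toIdeal) n) := by
  obtain ⟨e, he⟩ := exists_strand_equiv X d hd hdd g a n
  exact finite_of_addEquiv (kToDeg0 𝒜) hι.2 e he

include hd in
/-- acyclicity of the strand in positive degrees -/
theorem strand_acyclic (n : ℕ) (hs : LinearMap.ker (d (n + 1)) = LinearMap.range (d n)) :
    (strandDG X d hd hdd g).Zs ⊤ (n + 1) ≤ (strandDG X d hd hdd g).Bs ⊤ (n + 1) := by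
  haveI : ∀ n, SetLike.GradedSMul (plus 𝒜) (X n).gr := fun n => gradedSMul_plus 𝒜 (X n).gr
  intro z hz
  obtain ⟨-, h1, h2⟩ := (strandDG X d hd hdd g).mem_Zs.mp hz
  have h1' : inc X (n + 1) (cmp X (n + 1) (z : Big X)) = (z : Big X) := congrArg Subtype.val h1
  have h2' : bigD X d (z : Big X) = 0 := congrArg Subtype.val h2
  have h3 : d (n + 1) (cmp X (n + 1) (z : Big X)) = 0 := by
    rw [← cmp_succ_bigD, h2', map_zero]
  have h4 : cmp X (n + 1) (z : Big X) ∈ LinearMap.range (d n) := by
    rw [← hs]; exact h3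
  obtain ⟨y, hy⟩ := h4
  have hzg : cmp X (n + 1) (z : Big X) ∈ (X (n + 1)).gr g := z.2 (n + 1)
  have h5 : d n (decompose (X n).gr y g : (X n).carrier) = cmp X (n + 1) (z : Big X) := by
    rw [← Groth.Agent.Helper6.GrMod.decompose_map (hd n), hy,
      decompose_of_mem_same _ hzg]
  refine (strandDG X d hd hdd g).mem_Bs.mpr
    ⟨⟨inc X n (decompose (X n).gr y g : (X n).carrier), inc_mem_bigGr X (SetLike.coe_mem _)⟩,
      trivial, ⟨⟨inc X n (decompose (X n).gr y g : (X n).carrier),
        inc_mem_bigGr X (SetLike.coe_mem _)⟩, ?_⟩, ?_⟩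
  · apply Subtype.ext
    show inc X n (cmp X n (inc X n _)) = inc X n _
    rw [cmp_inc_same]
  · apply Subtype.ext
    show bigD X d (inc X n _) = (z : Big X)
    rw [bigD_inc, h5, h1']

end RSide

end Groth.Agent.Helper7.Kun
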