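import Mathlib
import Groth.Prelude.Def_GrLC
import Groth.Prelude.Def_Wider
import Groth.Agent.Helper7.KunT2

/-!
# Künneth project, part T3: the total module has the extension property; degree-zero cocycles of the
strand of a resolution; finiteness of the pieces of a finitely generated graded module.
-/

set_option autoImplicit false
set_option linter.unusedSectionVars false
set_option linter.style.haveILetI false

namespace Groth.Agent.Helper7.Kun

open DirectSum Groth.Agent.Helper7.KunLA Groth.Agent.Helper7.GrAcy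

universe u

attribute [local instance] gmodModuleK gmodTowerK

section FgExt

variable {k R : Type u} [Field k] [CommRing R] [Algebra k R] {𝒜 : ℤ → Submodule k R}
  [GradedAlgebra 𝒜] (X : ℕ → GrLC.GMod.{u} 𝒜)

theorem fgExt_big (h : ∀ i, FgExt (plus 𝒜) (X i).carrier) : FgExt (plus 𝒜) (Big X) := by
  classical
  intro A B f hf hinj hfin φ
  obtain ⟨s, hs⟩ := (Module.finite_def.mp hfin)
  let T : Finset ℕ := s.biUnion (fun a => DFinsupp.support (φ a))
  have hT : ∀ x : A.carrier, ∀ i, i ∉ T → cmp X i (φ x) = 0 := by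
    intro x
    have hx : x ∈ Submodule.span R (s : Set A.carrier) := by rw [hs]; trivial
    induction hx using Submodule.span_induction with
    | mem x hx =>
      intro i hi
      by_contra h0
      apply hi
      exact Finset.mem_biUnion.mpr ⟨x, hx, DFinsupp.mem_support_iff.mpr h0⟩
    | zero => intro i _; rw [map_zero, map_zero]
    | add x y _ _ hx hy => intro i hi; rw [map_add, map_add, hx i hi, hy i hi, add_zero]
    | smul r x _ hx => intro i hi; rw [map_smul, map_smul, hx i hi, smul_zero]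
  have hext : ∀ i : ℕ, ∃ ψ : B.carrier →ₗ[R] (X i).carrier, ψ ∘ₗ f = (cmp X i) ∘ₗ φ :=
    fun i => h i A B f hf hinj hfin _
  choose ψ hψ using hext
  refine ⟨∑ i ∈ T, (inc X i) ∘ₗ ψ i, ?_⟩
  apply LinearMap.ext
  intro x
  rw [LinearMap.comp_apply, LinearMap.sum_apply]
  apply big_ext
  intro l
  rw [map_sum]
  have h1 : ∀ i ∈ T, cmp X l (((inc X i) ∘ₗ ψ i) (f x)) =
      if i = l then cmp X l (φ x) else 0 := by
    intro i _
    rw [LinearMap.comp_apply, ← LinearMap.comp_apply (ψ i) f, hψ i, LinearMap.comp_apply]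
    split_ifs with hil
    · subst hil
      rw [cmp_inc_same]
    · rw [cmp_inc_ne X i l hil]
  rw [Finset.sum_congr rfl h1, Finset.sum_ite_eq' T l]
  split_ifs with hl
  · rfl
  · exact (hT x l hl).symm

end FgExt

section Z0

variable {k R : Type u} [Field k] [CommRing R] [Algebra k R] {𝒜 : ℤ → Submodule k R}
  [GradedAlgebra 𝒜] (X : ℕ → GrLC.GMod.{u} 𝒜)
  (d : ∀ n, (X n).carrier →ₗ[R] (X (n + 1)).carrier)
  (hd : ∀ n, GrLC.IsGrHom (X n).gr (X (n + 1)).gr (d n))
  (hdd : ∀ n x, d (n + 1) (d n x) = 0) (g : ℤ)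
  {M : Type u} [AddCommGroup M] [Module R M] {ℳ : ℤ → AddSubgroup M} [Decomposition ℳ]
  [SetLike.GradedSMul 𝒜 ℳ]
  (ε : M →ₗ[R] (X 0).carrier) (hε : GrLC.IsGrHom ℳ (X 0).gr ε) (hinj : Function.Injective ε)
  (h0 : LinearMap.ker (d 0) = LinearMap.range ε)

include hε h0 in
theorem strandZ0_mem (m : ↥(GrLC.comp 𝒜 ℳ g)) :
    (⟨inc X 0 (ε m.1), inc_mem_bigGr X (hε g m.1 m.2)⟩ : ↥(bigSub X g)) ∈
      (strandDG X d hd hdd g).Zs ⊤ 0 := by
  refine (strandDG X d hd hdd g).mem_Zs.mpr ⟨trivial, ?_, ?_⟩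
  · apply Subtype.ext
    show inc X 0 (cmp X 0 (inc X 0 (ε m.1))) = inc X 0 (ε m.1)
    rw [cmp_inc_same]
  · apply Subtype.ext
    show bigD X d (inc X 0 (ε m.1)) = 0
    rw [bigD_inc]
    have : ε m.1 ∈ LinearMap.ker (d 0) := by rw [h0]; exact ⟨_, rfl⟩
    rw [LinearMap.mem_ker.mp this, map_zero]

/-- the map from the piece `M_g` to the degree-zero cocycles of the strand -/
noncomputable def strandZ0 : ↥(GrLC.comp 𝒜 ℳ g) →+ ↥((strandDG X d hd hdd g).Zs ⊤ 0) where
  toFun m := ⟨⟨inc X 0 (ε m.1), inc_mem_bigGr X (hε g m.1 m.2)⟩,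
    strandZ0_mem X d hd hdd g ε hε h0 m⟩
  map_zero' := by
    apply Subtype.ext
    apply Subtype.ext
    show inc X 0 (ε (0 : M)) = 0
    rw [map_zero, map_zero]
  map_add' m m' := by
    apply Subtype.ext
    apply Subtype.ext
    show inc X 0 (ε (m.1 + m'.1)) = inc X 0 (ε m.1) + inc X 0 (ε m'.1)
    rw [map_add, map_add]

theorem strandZ0_coe (m : ↥(GrLC.comp 𝒜 ℳ g)) :
    (((strandZ0 X d hd hdd g ε hε h0 m : ↥((strandDG X d hd hdd g).Zs ⊤ 0)) : ↥(bigSub X g)) :
      Big X) = inc X 0 (ε m.1) := rfl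

include hinj in
theorem strandZ0_bijective : Function.Bijective (strandZ0 X d hd hdd g ε hε h0) := by
  haveI : SetLike.GradedSMul (plus 𝒜) ℳ := gradedSMul_plus 𝒜 ℳ
  haveI : SetLike.GradedSMul (plus 𝒜) (X 0).gr := gradedSMul_plus 𝒜 (X 0).gr
  constructor
  · intro m m' h
    have h1 : inc X 0 (ε m.1) = inc X 0 (ε m'.1) := by
      rw [← strandZ0_coe X d hd hdd g ε hε h0 m, ← strandZ0_coe X d hd hdd g ε hε h0 m', h]
    exact Subtype.ext (hinj (inc_injective X 0 h1))
  · intro z
    obtain ⟨-, h1, h2⟩ := (strandDG X d hd hdd g).mem_Zs.mp z.2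
    have h1' : inc X 0 (cmp X 0 (z.1 : Big X)) = (z.1 : Big X) := congrArg Subtype.val h1
    have h2' : bigD X d (z.1 : Big X) = 0 := congrArg Subtype.val h2
    have h3 : cmp X 0 (z.1 : Big X) ∈ LinearMap.range ε := by
      rw [← h0, LinearMap.mem_ker, ← cmp_succ_bigD, h2', map_zero]
    obtain ⟨m, hm⟩ := h3
    have hzg : cmp X 0 (z.1 : Big X) ∈ (X 0).gr g := z.1.2 0
    have h4 : ε (decompose ℳ m g : M) = cmp X 0 (z.1 : Big X) := by
      rw [← Groth.Agent.Helper6.GrMod.decompose_map hε, hm, decompose_of_mem_same _ hzg]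
    have h5 : (decompose ℳ m g : M) = m := hinj (by rw [h4, hm])
    refine ⟨⟨m, ?_⟩, ?_⟩
    · show m ∈ ℳ g
      rw [← h5]
      exact SetLike.coe_mem _
    · apply Subtype.ext
      apply Subtype.ext
      rw [strandZ0_coe]
      show inc X 0 (ε m) = (z.1 : Big X)
      rw [hm, h1']

end Z0

section CompFg

variable {ι : Type} [AddCommGroup ι] [DecidableEq ι] {R : Type u} [CommRing R]
  (𝒜 : ι → AddSubgroup R) [GradedRing 𝒜]
  {M : Type u} [AddCommGroup M] [Module R M] (ℳ : ι → AddSubgroup M) [Decomposition ℳ]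
  [SetLike.GradedSMul 𝒜 ℳ]

/-- the pieces of a Noetherian graded module are finitely generated over the degree-zero subring -/
theorem comp_fg [IsNoetherian R M] (g : ι) : (GrLC.comp 𝒜 ℳ g).FG := by
  classical
  have hfg : (Submodule.span R ((ℳ g : AddSubgroup M) : Set M)).FG := IsNoetherian.noetherian _
  obtain ⟨s', hs', hspan⟩ := (Submodule.fg_span_iff_fg_span_finset_subset _).1 hfg
  refine ⟨s', le_antisymm ?_ ?_⟩
  · rw [Submodule.span_le]
    intro y hy
    exact hs' hy
  · intro y hy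
    have hy' : y ∈ ℳ g := hy
    have h1 : y ∈ Submodule.span R ((s' : Finset M) : Set M) := by
      rw [← hspan]
      exact Submodule.subset_span hy'
    obtain ⟨c, hc⟩ := (Submodule.mem_span_finset (R := R)).mp h1
    have h2 : y = ∑ x ∈ s', ((⟨(decompose 𝒜 (c x) 0 : R), SetLike.coe_mem _⟩ : GrLC.deg0 𝒜)) • x := by
      have h3 : (decompose ℳ y g : M) = y := decompose_of_mem_same ℳ hy'
      rw [← h3, ← hc.2, decompose_sum, DFinsupp.finsetSum_apply, AddSubmonoidClass.coe_finsetSum]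
      apply Finset.sum_congr rfl
      intro x hx
      have hxg : x ∈ ℳ g := hs' hx
      have h4 := Groth.Agent.Helper6.GrMod.decompose_smul_right 𝒜 ℳ hxg (c x) 0
      rw [zero_add] at h4
      rw [h4]
      rfl
    rw [h2]
    apply Submodule.sum_mem
    intro x hx
    exact Submodule.smul_mem _ _ (Submodule.subset_span hx)

end CompFg

end Groth.Agent.Helper7.Kun
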