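import Mathlib
import Groth.Prelude.Def_GrLC
import Groth.Prelude.Def_Wider
import Groth.Prelude.Def_GrSeg
import Groth.Agent.Helper7.KunP
import Groth.Agent.Helper7.KunM

/-!
# Künneth project, part R: `Γ_{T_+}(E ⊗ F) = Γ_m(E) ⊗ F + E ⊗ Γ_n(F)` for arbitrary modules `E`, `F`,
in the form: `z` is `T_+`-torsion iff its image in `E/Γ_m(E) ⊗ F/Γ_n(F)` vanishes.
-/

set_option autoImplicit false
set_option linter.unusedSectionVars false
set_option linter.style.haveILetI false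

namespace Groth.Agent.Helper7.Kun

open TensorProduct Groth.Agent.Helper9.SegreMod Groth.Agent.Helper9.Segre
  Groth.Agent.Helper7.SegMod

universe u

section Map2

variable {k : Type u} [Field k] {R S T : Type u} [CommRing R] [Algebra k R] [CommRing S] [Algebra k S]
  [CommRing T] [Algebra k T] (ψ : T →ₐ[k] R ⊗[k] S)
  {E : Type u} [AddCommGroup E] [Module R E] [Module k E] [IsScalarTower k R E]
  {E' : Type u} [AddCommGroup E'] [Module R E'] [Module k E'] [IsScalarTower k R E']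
  {N : Type u} [AddCommGroup N] [Module S N] [Module k N] [IsScalarTower k S N]
  {N' : Type u} [AddCommGroup N'] [Module S N'] [Module k N'] [IsScalarTower k S N']

theorem act_map₂ (f : E →ₗ[R] E') (g : N →ₗ[S] N') (τ : R ⊗[k] S) (v : E ⊗[k] N) :
    TensorProduct.map (f.restrictScalars k) (g.restrictScalars k) (GrSeg.act k R S E N τ v) =
      GrSeg.act k R S E' N' τ (TensorProduct.map (f.restrictScalars k) (g.restrictScalars k) v) := by
  induction τ using TensorProduct.induction_on with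
  | zero => simp
  | add τ τ' h1 h2 => simp only [map_add, LinearMap.add_apply, h1, h2]
  | tmul r s =>
    induction v using TensorProduct.induction_on with
    | zero => simp
    | add v w hv hw => simp only [map_add, hv, hw]
    | tmul x y =>
      rw [GrSeg.act_tmul, TensorProduct.map_tmul, TensorProduct.map_tmul, GrSeg.act_tmul]
      simp only [LinearMap.coe_restrictScalars, map_smul]

/-- functoriality of `E ⊗ N` in both variables, `T`-linearly -/
noncomputable def XTmap₂ (f : E →ₗ[R] E') (g : N →ₗ[S] N') : XT ψ E N →ₗ[T] XT ψ E' N' where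
  toFun v := (TensorProduct.map (f.restrictScalars k) (g.restrictScalars k)
    (show E ⊗[k] N from v) : E' ⊗[k] N')
  map_add' v w := map_add _ _ _
  map_smul' t v := by
    rw [RingHom.id_apply, XT.smul_def, XT.smul_def]
    exact act_map₂ f g (ψ t) v

theorem XTmap₂_apply (f : E →ₗ[R] E') (g : N →ₗ[S] N') (v : XT ψ E N) :
    XTmap₂ ψ f g v = (TensorProduct.map (f.restrictScalars k) (g.restrictScalars k)
      (show E ⊗[k] N from v) : E' ⊗[k] N') := rfl

end Map2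

section Right

variable {k : Type u} [Field k] {R S T : Type u} [CommRing R] [Algebra k R] [CommRing S] [Algebra k S]
  [CommRing T] [Algebra k T]
  (𝒜 : ℤ → Submodule k R) [GradedAlgebra 𝒜] (ℬ : ℤ → Submodule k S) [GradedAlgebra ℬ]
  (𝒯 : ℤ → Submodule k T) [GradedAlgebra 𝒯] (ψ : T →ₐ[k] R ⊗[k] S)
  (hT : GrSeg.IsSegreRing 𝒜 ℬ 𝒯 ψ)
  (mR : Ideal R) (hmR : mR = Ideal.span (⋃ n ∈ Set.Ioi (0 : ℤ), (𝒜 n : Set R)))
  (mS : Ideal S) (hmS : mS = Ideal.span (⋃ n ∈ Set.Ioi (0 : ℤ), (ℬ n : Set S)))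
  (mT : Ideal T) (hmT : mT = Ideal.span (⋃ n ∈ Set.Ioi (0 : ℤ), (𝒯 n : Set T)))
  {E : Type u} [AddCommGroup E] [Module R E] [Module k E] [IsScalarTower k R E]
  {N : Type u} [AddCommGroup N] [Module S N] [Module k N] [IsScalarTower k S N]

theorem act_map_pow_eq_zero_right {K : ℕ} {y : N} (hy : ∀ s ∈ mS ^ K, s • y = 0) (x : E)
    {τ : R ⊗[k] S} (hτ : τ ∈ (idB (k := k) (R := R) mS) ^ K) :
    GrSeg.act k R S E N τ (x ⊗ₜ[k] y) = 0 := by
  unfold idB at hτ
  rw [← Ideal.map_pow] at hτ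
  unfold Ideal.map at hτ
  induction hτ using Submodule.span_induction with
  | mem τ hτ =>
    obtain ⟨s, hs, rfl⟩ := hτ
    show GrSeg.act k R S E N ((1 : R) ⊗ₜ[k] s) (x ⊗ₜ[k] y) = 0
    rw [GrSeg.act_tmul, hy s hs, tmul_zero]
  | zero => simp
  | add τ σ _ _ h1 h2 => rw [map_add, LinearMap.add_apply, h1, h2, add_zero]
  | smul c τ _ h1 => rw [smul_eq_mul, act_mul, h1, map_zero]

include hT hmR hmS hmT in
theorem tmul_mem_gam_right (x : E) {y : N} (hy : y ∈ GrLC.gam mS N) :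
    XT.tmul ψ x y ∈ GrLC.gam mT (XT ψ E N) := by
  obtain ⟨K, hK⟩ := hy
  refine ⟨K, fun t ht => ?_⟩
  have h1 : ψ t ∈ (idC ψ mT) ^ K := by
    unfold idC
    rw [← Ideal.map_pow]
    exact Ideal.mem_map_of_mem _ ht
  have h2 : ψ t ∈ (idB (k := k) (R := R) mS) ^ K :=
    Ideal.pow_right_mono ((idC_le 𝒜 ℬ 𝒯 ψ hT mR hmR mS hmS mT hmT).trans inf_le_right) K h1
  exact act_map_pow_eq_zero_right mS hK x h2

end Right

section TorsionFree

attribute [local instance] Groth.Agent.Helper9.SegreMod.tensorModule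

variable {k : Type u} [Field k] {R S T : Type u} [CommRing R] [Algebra k R] [CommRing S] [Algebra k S]
  [CommRing T] [Algebra k T]
  (𝒜 : ℤ → Submodule k R) [GradedAlgebra 𝒜] (ℬ : ℤ → Submodule k S) [GradedAlgebra ℬ]
  (𝒯 : ℤ → Submodule k T) [GradedAlgebra 𝒯] (ψ : T →ₐ[k] R ⊗[k] S)
  (hT : GrSeg.IsSegreRing 𝒜 ℬ 𝒯 ψ)
  (mR : Ideal R) (hmR : mR = Ideal.span (⋃ n ∈ Set.Ioi (0 : ℤ), (𝒜 n : Set R)))
  (mS : Ideal S) (hmS : mS = Ideal.span (⋃ n ∈ Set.Ioi (0 : ℤ), (ℬ n : Set S)))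
  (mT : Ideal T) (hmT : mT = Ideal.span (⋃ n ∈ Set.Ioi (0 : ℤ), (𝒯 n : Set T)))
  (E : Type u) [AddCommGroup E] [Module R E] [Module k E] [IsScalarTower k R E]
  (N : Type u) [AddCommGroup N] [Module S N] [Module k N] [IsScalarTower k S N]

theorem gam_idA_eq_bot [IsNoetherianRing R] (hE : GrLC.gam mR E = ⊥) :
    GrLC.gam (idA (k := k) (S := S) mR) (E ⊗[k] N) = ⊥ := by
  rw [← range_gamIncl (k := k) (S := S) (E := E) (N := N) mR, eq_bot_iff]
  rintro _ ⟨w, rfl⟩
  have hsub : Subsingleton ↥(GrLC.gam mR E) := by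
    rw [hE]; infer_instance
  have hw : w = 0 := by
    induction w using TensorProduct.induction_on with
    | zero => rfl
    | tmul x y => rw [Subsingleton.elim x 0, zero_tmul]
    | add v w hv hw => rw [hv, hw, add_zero]
  rw [hw, map_zero]
  exact Submodule.zero_mem _

theorem gam_idB_eq_bot (hN : GrLC.gam mS N = ⊥) :
    GrLC.gam (idB (k := k) (R := R) mS) (E ⊗[k] N) = ⊥ := by
  classical
  rw [eq_bot_iff]
  rintro v ⟨K, hK⟩
  rw [Submodule.mem_bot]
  letI := rightModule (k := k) (R := R) (S := S) (E := E) (N := N)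
  set Φ := tensorEquivFinsuppRight (k := k) (R := R) (S := S) (E := E) (N := N) with hΦ
  have hf : ∀ β, (Φ v) β ∈ GrLC.gam mS N := by
    intro β
    refine ⟨K, fun s hs => ?_⟩
    have h0 : s • v = 0 := by
      rw [right_smul_def]
      apply hK
      unfold idB
      rw [← Ideal.map_pow]
      exact Ideal.mem_map_of_mem _ hs
    have h1 : s • Φ v = 0 := by rw [← map_smul, h0, map_zero]
    have h2 := congrArg (fun f => f β) h1
    simpa using h2
  have h3 : Φ v = 0 := by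
    ext β
    have := hf β
    rw [hN, Submodule.mem_bot] at this
    rw [this]
    rfl
  exact Φ.injective (by rw [h3, map_zero])

theorem gam_mul_eq_bot {A : Type u} [CommRing A] {X : Type u} [AddCommGroup X] [Module A X]
    (a b : Ideal A) (ha : GrLC.gam a X = ⊥) (hb : GrLC.gam b X = ⊥) : GrLC.gam (a * b) X = ⊥ := by
  rw [eq_bot_iff]
  rintro x ⟨n, hn⟩
  rw [mul_pow] at hn
  have h1 : ∀ β ∈ b ^ n, β • x = 0 := by
    intro β hβ
    have h2 : β • x ∈ GrLC.gam a X := by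
      refine ⟨n, fun α hα => ?_⟩
      rw [← mul_smul]
      exact hn _ (Ideal.mul_mem_mul hα hβ)
    rw [ha] at h2
    exact (Submodule.mem_bot A).mp h2
  have h3 : x ∈ GrLC.gam b X := ⟨n, h1⟩
  rw [hb] at h3
  exact h3

include hT hmR hmS hmT in
theorem gam_idC_eq_bot [IsNoetherianRing R] [IsNoetherianRing (R ⊗[k] S)]
    (hE : GrLC.gam mR E = ⊥) (hN : GrLC.gam mS N = ⊥) :
    GrLC.gam (idC ψ mT) (E ⊗[k] N) = ⊥ := by
  obtain ⟨K, hK⟩ := exists_pow_le 𝒜 ℬ 𝒯 ψ hT mR hmR mS hmS mT hmT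
  have h1 := gam_mul_eq_bot (X := E ⊗[k] N) (idA (k := k) (S := S) mR) (idB (k := k) (R := R) mS)
    (gam_idA_eq_bot mR E N hE) (gam_idB_eq_bot mS E N hN)
  rw [eq_bot_iff]
  rintro x ⟨n, hn⟩
  rw [← h1]
  refine ⟨K * n, fun τ hτ => hn τ ?_⟩
  have h2 : (idA (k := k) (S := S) mR * idB (k := k) (R := R) mS) ^ (K * n) ≤ (idC ψ mT) ^ n := by
    rw [pow_mul]
    exact Ideal.pow_right_mono ((Ideal.pow_right_mono Ideal.mul_le_inf K).trans hK) n
  exact h2 hτ

theorem mem_gam_idC_of_mem_gam {v : XT ψ E N} (hv : v ∈ GrLC.gam mT (XT ψ E N)) :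
    (show E ⊗[k] N from v) ∈ GrLC.gam (idC ψ mT) (E ⊗[k] N) := by
  obtain ⟨n, hn⟩ := hv
  refine ⟨n, fun τ hτ => ?_⟩
  unfold idC at hτ
  rw [← Ideal.map_pow] at hτ
  unfold Ideal.map at hτ
  induction hτ using Submodule.span_induction with
  | mem τ hτ =>
    obtain ⟨t, ht, rfl⟩ := hτ
    exact hn t ht
  | zero => exact zero_smul _ _
  | add τ σ _ _ h1 h2 => rw [add_smul, h1, h2, add_zero]
  | smul c τ _ h1 => rw [smul_eq_mul, mul_smul, h1, smul_zero]

include hT hmR hmS hmT in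
/-- no `T_+`-torsion in `E ⊗ N` when `E` has no `m`-torsion and `N` no `n`-torsion -/
theorem gam_XT_eq_bot [IsNoetherianRing R] [IsNoetherianRing (R ⊗[k] S)]
    (hE : GrLC.gam mR E = ⊥) (hN : GrLC.gam mS N = ⊥) :
    GrLC.gam mT (XT ψ E N) = ⊥ := by
  rw [eq_bot_iff]
  intro v hv
  have h1 := mem_gam_idC_of_mem_gam ψ mT E N hv
  rw [gam_idC_eq_bot 𝒜 ℬ 𝒯 ψ hT mR hmR mS hmS mT hmT E N hE hN] at h1
  exact h1

end TorsionFree

end Groth.Agent.Helper7.Kun
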