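import Mathlib
import Groth.Prelude.Def_GrLC
import Groth.Prelude.Def_Wider
import Groth.Prelude.Def_GrSeg
import Groth.Agent.Helper7.KunR

/-!
# Künneth project, part R2: `z ∈ Γ_{T_+}(E ⊗ F)` iff the image of `z` in `E/Γ_m(E) ⊗ F/Γ_n(F)` vanishes.
-/

set_option autoImplicit false
set_option linter.unusedSectionVars false
set_option linter.style.haveILetI false

namespace Groth.Agent.Helper7.Kun

open TensorProduct Groth.Agent.Helper9.SegreMod Groth.Agent.Helper9.Segre
  Groth.Agent.Helper7.SegMod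

universe u

section Quot

variable {R : Type u} [CommRing R] [IsNoetherianRing R] (J : Ideal R)

/-- `Γ_J(M/Γ_J(M)) = 0` -/
theorem gam_quotient_eq_bot (M : Type u) [AddCommGroup M] [Module R M] :
    GrLC.gam J (M ⧸ GrLC.gam J M) = ⊥ := by
  classical
  rw [eq_bot_iff]
  rintro y ⟨n, hn⟩
  obtain ⟨m₀, rfl⟩ := Submodule.Quotient.mk_surjective _ y
  rw [Submodule.mem_bot, Submodule.Quotient.mk_eq_zero]
  obtain ⟨s, hs⟩ : (J ^ n).FG := IsNoetherian.noetherian _
  have h1 : ∀ c ∈ s, ∃ k : ℕ, ∀ a ∈ J ^ k, a • c • m₀ = 0 := by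
    intro c hc
    have h2 := hn c (hs ▸ Submodule.subset_span hc)
    rw [← Submodule.Quotient.mk_smul, Submodule.Quotient.mk_eq_zero] at h2
    exact h2
  choose! k hk using h1
  refine ⟨s.sup k + n, fun d hd => ?_⟩
  rw [pow_add] at hd
  refine Submodule.mul_induction_on hd ?_ ?_
  · intro a ha c hc
    rw [← hs] at hc
    rw [mul_smul]
    induction hc using Submodule.span_induction with
    | mem c hc => exact hk c hc a (Ideal.pow_le_pow_right (Finset.le_sup hc) ha)
    | zero => rw [zero_smul, smul_zero]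
    | add c d _ _ hc hd => rw [add_smul, smul_add, hc, hd, add_zero]
    | smul r c _ hc => rw [smul_eq_mul, mul_smul, smul_comm, hc, smul_zero]
  · intro x y hx hy
    rw [add_smul, hx, hy, add_zero]

end Quot

section Main

variable {k : Type u} [Field k] {R S T : Type u} [CommRing R] [Algebra k R] [CommRing S] [Algebra k S]
  [CommRing T] [Algebra k T]
  (𝒜 : ℤ → Submodule k R) [GradedAlgebra 𝒜] (ℬ : ℤ → Submodule k S) [GradedAlgebra ℬ]
  (𝒯 : ℤ → Submodule k T) [GradedAlgebra 𝒯] (ψ : T →ₐ[k] R ⊗[k] S)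
  (hT : GrSeg.IsSegreRing 𝒜 ℬ 𝒯 ψ)
  (mR : Ideal R) (hmR : mR = Ideal.span (⋃ n ∈ Set.Ioi (0 : ℤ), (𝒜 n : Set R)))
  (mS : Ideal S) (hmS : mS = Ideal.span (⋃ n ∈ Set.Ioi (0 : ℤ), (ℬ n : Set S)))
  (mT : Ideal T) (hmT : mT = Ideal.span (⋃ n ∈ Set.Ioi (0 : ℤ), (𝒯 n : Set T)))
  (E : Type u) [AddCommGroup E] [Module R E] [Module k E] [IsScalarTower k R E]
  (N : Type u) [AddCommGroup N] [Module S N] [Module k N] [IsScalarTower k S N]
  [IsNoetherianRing R] [IsNoetherianRing S] [IsNoetherianRing (R ⊗[k] S)]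

/-- the quotient map to the torsion-free quotients, `k`-linearly -/
noncomputable def torQ : E ⊗[k] N →ₗ[k] (E ⧸ GrLC.gam mR E) ⊗[k] (N ⧸ GrLC.gam mS N) :=
  TensorProduct.map ((GrLC.gam mR E).mkQ.restrictScalars k) ((GrLC.gam mS N).mkQ.restrictScalars k)

include hT hmR hmS hmT in
theorem mem_gam_XT_iff (z : XT ψ E N) :
    z ∈ GrLC.gam mT (XT ψ E N) ↔ torQ mR mS E N (show E ⊗[k] N from z) = 0 := by
  constructor
  · intro hz
    have h1 : XTmap₂ ψ (GrLC.gam mR E).mkQ (GrLC.gam mS N).mkQ z ∈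
        GrLC.gam mT (XT ψ (E ⧸ GrLC.gam mR E) (N ⧸ GrLC.gam mS N)) := by
      obtain ⟨n, hn⟩ := hz
      exact ⟨n, fun t ht => by rw [← map_smul, hn t ht, map_zero]⟩
    rw [gam_XT_eq_bot 𝒜 ℬ 𝒯 ψ hT mR hmR mS hmS mT hmT _ _ (gam_quotient_eq_bot mR E)
      (gam_quotient_eq_bot mS N)] at h1
    exact h1
  · intro hz
    have hex1 : Function.Exact ((GrLC.gam mR E).subtype.restrictScalars k)
        ((GrLC.gam mR E).mkQ.restrictScalars k) := LinearMap.exact_subtype_mkQ (GrLC.gam mR E)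
    have hex2 : Function.Exact ((GrLC.gam mS N).subtype.restrictScalars k)
        ((GrLC.gam mS N).mkQ.restrictScalars k) := LinearMap.exact_subtype_mkQ (GrLC.gam mS N)
    have hker := TensorProduct.map_ker hex1 (Submodule.mkQ_surjective (GrLC.gam mR E)) hex2
      (Submodule.mkQ_surjective (GrLC.gam mS N))
    have hz' : (show E ⊗[k] N from z) ∈ LinearMap.ker (TensorProduct.map
        ((GrLC.gam mR E).mkQ.restrictScalars k) ((GrLC.gam mS N).mkQ.restrictScalars k)) := hz
    rw [hker] at hz'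
    obtain ⟨z₁, ⟨w₁, hw₁⟩, z₂, ⟨w₂, hw₂⟩, hsum⟩ := Submodule.mem_sup.mp hz'
    have h1 : ∀ w : E ⊗[k] ↥(GrLC.gam mS N),
        (show XT ψ E N from LinearMap.lTensor E ((GrLC.gam mS N).subtype.restrictScalars k) w) ∈
          GrLC.gam mT (XT ψ E N) := by
      intro w
      induction w using TensorProduct.induction_on with
      | zero => rw [map_zero]; exact Submodule.zero_mem _
      | tmul x y =>
        exact tmul_mem_gam_right 𝒜 ℬ 𝒯 ψ hT mR hmR mS hmS mT hmT x y.2
      | add v w hv hw => rw [map_add]; exact Submodule.add_mem _ hv hw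
    have h2 : ∀ w : ↥(GrLC.gam mR E) ⊗[k] N,
        (show XT ψ E N from LinearMap.rTensor N ((GrLC.gam mR E).subtype.restrictScalars k) w) ∈
          GrLC.gam mT (XT ψ E N) := by
      intro w
      induction w using TensorProduct.induction_on with
      | zero => rw [map_zero]; exact Submodule.zero_mem _
      | tmul x y =>
        exact tmul_mem_gam 𝒜 ℬ 𝒯 ψ hT mR hmR mT hmT x.2 y
      | add v w hv hw => rw [map_add]; exact Submodule.add_mem _ hv hw
    have h3 : z = (show XT ψ E N from z₁) + (show XT ψ E N from z₂) := hsum.symm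
    rw [h3, ← hw₁, ← hw₂]
    exact Submodule.add_mem _ (h1 w₁) (h2 w₂)

end Main

end Groth.Agent.Helper7.Kun
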