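import Mathlib
import Groth.Prelude.Def_GrLC
import Groth.Prelude.Def_Wider
import Groth.Prelude.Def_GrSeg
import Groth.Agent.Helper7.KunR2

/-!
# Künneth project, part U1: tensor products of degree-preserving `k`-linear maps and the diagonal.
-/

set_option autoImplicit false
set_option linter.unusedSectionVars false
set_option linter.style.haveILetI false

namespace Groth.Agent.Helper7.Kun

open TensorProduct Groth.Agent.Helper9.SegreMod Groth.Agent.Helper9.Segre
  Groth.Agent.Helper7.SegMod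

universe u

section GrMap2

variable {k : Type u} [Field k] {R S : Type u} [CommRing R] [Algebra k R] [CommRing S] [Algebra k S]
  (𝒜 : ℤ → Submodule k R) [GradedAlgebra 𝒜] (ℬ : ℤ → Submodule k S) [GradedAlgebra ℬ]
  {E : Type u} [AddCommGroup E] [Module R E] [Module k E] [IsScalarTower k R E]
  (ℰ : ℤ → AddSubgroup E) [DirectSum.Decomposition ℰ] [SetLike.GradedSMul 𝒜 ℰ]
  {E' : Type u} [AddCommGroup E'] [Module R E'] [Module k E'] [IsScalarTower k R E']
  (ℰ' : ℤ → AddSubgroup E') [DirectSum.Decomposition ℰ'] [SetLike.GradedSMul 𝒜 ℰ']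
  {N : Type u} [AddCommGroup N] [Module S N] [Module k N] [IsScalarTower k S N]
  (𝒩 : ℤ → AddSubgroup N) [DirectSum.Decomposition 𝒩] [SetLike.GradedSMul ℬ 𝒩]
  {N' : Type u} [AddCommGroup N'] [Module S N'] [Module k N'] [IsScalarTower k S N']
  (𝒩' : ℤ → AddSubgroup N') [DirectSum.Decomposition 𝒩'] [SetLike.GradedSMul ℬ 𝒩']
  (f : E →ₗ[k] E') (hf : ∀ g x, x ∈ ℰ g → f x ∈ ℰ' g)
  (f' : N →ₗ[k] N') (hf' : ∀ g y, y ∈ 𝒩 g → f' y ∈ 𝒩' g)

include hf hf' in
theorem map₂_mem_segrePiece {n : ℤ} {v : E ⊗[k] N} (hv : v ∈ GrSeg.segrePiece k ℰ 𝒩 n) :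
    TensorProduct.map f f' v ∈ GrSeg.segrePiece k ℰ' 𝒩' n := by
  unfold GrSeg.segrePiece at hv
  induction hv using Submodule.span_induction with
  | mem v hv =>
    obtain ⟨x, hx, y, hy, rfl⟩ := hv
    rw [TensorProduct.map_tmul]
    exact Submodule.subset_span ⟨_, hf n x hx, _, hf' n y hy, rfl⟩
  | zero => rw [map_zero]; exact Submodule.zero_mem _
  | add v w _ _ hv hw => rw [map_add]; exact Submodule.add_mem _ hv hw
  | smul c v _ hv => rw [map_smul]; exact Submodule.smul_mem _ _ hv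

include hf hf' in
theorem map₂_mem_diagM {v : E ⊗[k] N} (hv : v ∈ diagM ℰ 𝒩) :
    TensorProduct.map f f' v ∈ diagM ℰ' 𝒩' := by
  unfold diagM at hv
  induction hv using Submodule.span_induction with
  | mem v hv =>
    obtain ⟨n, x, y, hx, hy, rfl⟩ := hv
    rw [TensorProduct.map_tmul]
    exact Submodule.subset_span ⟨n, _, _, hf n x hx, hf' n y hy, rfl⟩
  | zero => rw [map_zero]; exact Submodule.zero_mem _
  | add v w _ _ hv hw => rw [map_add]; exact Submodule.add_mem _ hv hw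
  | smul c v _ hv => rw [map_smul]; exact Submodule.smul_mem _ _ hv

include hf hf' in
theorem D_map₂ (v : E ⊗[k] N) :
    D 𝒜 ℬ ℰ' 𝒩' (TensorProduct.map f f' v) = TensorProduct.map f f' (D 𝒜 ℬ ℰ 𝒩 v) := by
  have hv : v ∈ Submodule.span k {v : E ⊗[k] N | ∃ (i j : ℤ) (x : E) (y : N),
      x ∈ ℰ i ∧ y ∈ 𝒩 j ∧ v = x ⊗ₜ y} := by
    rw [Groth.Agent.Helper9.SegreMod.span_homog]; trivial
  induction hv using Submodule.span_induction with
  | mem v hv =>
    obtain ⟨p, q, x, y, hx, hy, rfl⟩ := hv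
    rw [TensorProduct.map_tmul, D_homog 𝒜 ℬ ℰ 𝒩 hx hy,
      D_homog 𝒜 ℬ ℰ' 𝒩' (hf p x hx) (hf' q y hy)]
    split_ifs
    · rw [TensorProduct.map_tmul]
    · rw [map_zero]
  | zero => simp
  | add v w _ _ hv hw => simp only [map_add, hv, hw]
  | smul c v _ hv => simp only [map_smul, hv]

include hf hf' in
theorem prn_map₂ (n : ℤ) (v : E ⊗[k] N) :
    prn 𝒜 ℬ ℰ' 𝒩' n (TensorProduct.map f f' v) = TensorProduct.map f f' (prn 𝒜 ℬ ℰ 𝒩 n v) := by
  have hv : v ∈ Submodule.span k {v : E ⊗[k] N | ∃ (i j : ℤ) (x : E) (y : N),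
      x ∈ ℰ i ∧ y ∈ 𝒩 j ∧ v = x ⊗ₜ y} := by
    rw [Groth.Agent.Helper9.SegreMod.span_homog]; trivial
  induction hv using Submodule.span_induction with
  | mem v hv =>
    obtain ⟨p, q, x, y, hx, hy, rfl⟩ := hv
    unfold prn
    rw [TensorProduct.map_tmul, TensorProduct.map_tmul, TensorProduct.map_tmul,
      proj_of_mem 𝒜 ℰ n hx, proj_of_mem ℬ 𝒩 n hy, proj_of_mem 𝒜 ℰ' n (hf p x hx),
      proj_of_mem ℬ 𝒩' n (hf' q y hy)]
    split_ifs <;> simp
  | zero => simp
  | add v w _ _ hv hw => simp only [map_add, hv, hw]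
  | smul c v _ hv => simp only [map_smul, hv]

end GrMap2

end Groth.Agent.Helper7.Kun
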