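import Mathlib
import Groth.Prelude.Def_GrLC
import Groth.Prelude.Def_Wider
import Groth.Prelude.Def_GrSeg
import Groth.Agent.Helper7.KunU1
import Groth.Agent.Helper7.KunT3

/-!
# Künneth project, part U2: the total complex `Tot(E^• # F^•)` as a raw complex of graded `T`-modules.
-/

set_option autoImplicit false
set_option linter.unusedSectionVars false
set_option linter.style.haveILetI false

namespace Groth.Agent.Helper7.Kun

open TensorProduct Groth.Agent.Helper9.SegreMod Groth.Agent.Helper9.Segre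
  Groth.Agent.Helper7.SegMod Groth.Agent.Helper7.KunLA

universe u

attribute [local instance] gmodModuleK gmodTowerK

section Tot

variable {k : Type u} [Field k] {R S T : Type u} [CommRing R] [Algebra k R] [CommRing S] [Algebra k S]
  [CommRing T] [Algebra k T]
  {𝒜 : ℤ → Submodule k R} [GradedAlgebra 𝒜] {ℬ : ℤ → Submodule k S} [GradedAlgebra ℬ]
  (𝒯 : ℤ → Submodule k T) [GradedAlgebra 𝒯] (ψ : T →ₐ[k] R ⊗[k] S)
  (hT : GrSeg.IsSegreRing 𝒜 ℬ 𝒯 ψ)
  (X : ℕ → GrLC.GMod.{u} 𝒜) (d : ∀ n, (X n).carrier →ₗ[R] (X (n + 1)).carrier)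
  (hd : ∀ n, GrLC.IsGrHom (X n).gr (X (n + 1)).gr (d n))
  (hdd : ∀ n x, d (n + 1) (d n x) = 0)
  (X' : ℕ → GrLC.GMod.{u} ℬ) (d' : ∀ n, (X' n).carrier →ₗ[S] (X' (n + 1)).carrier)
  (hd' : ∀ n, GrLC.IsGrHom (X' n).gr (X' (n + 1)).gr (d' n))
  (hdd' : ∀ n x, d' (n + 1) (d' n x) = 0)

/-- the total graded differential vector space `⨁ E^i ⊗ ⨁ F^j` -/
noncomputable abbrev totDG : DG k (Big X ⊗[k] Big X') :=
  (bigDG X d hdd).tensor (bigDG X' d' hdd')

/-- the total differential, `T`-linearly -/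
noncomputable def totD : XT ψ (Big X) (Big X') →ₗ[T] XT ψ (Big X) (Big X') :=
  XTmap₂ ψ (bigD X d) (LinearMap.id : Big X' →ₗ[S] Big X') + XTmap₂ ψ (bigσ X) (bigD X' d')

theorem totD_eq (v : XT ψ (Big X) (Big X')) :
    (totD ψ X d X' d' v : Big X ⊗[k] Big X') = (totDG X d hdd X' d' hdd').d v := rfl

/-- the total degree projections, `T`-linearly -/
noncomputable def totπ (n : ℕ) : XT ψ (Big X) (Big X') →ₗ[T] XT ψ (Big X) (Big X') :=
  ∑ i ∈ Finset.range (n + 1), XTmap₂ ψ (inc X i ∘ₗ cmp X i) (inc X' (n - i) ∘ₗ cmp X' (n - i))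

theorem totπ_eq (n : ℕ) (v : XT ψ (Big X) (Big X')) :
    (totπ ψ X X' n v : Big X ⊗[k] Big X') = (totDG X d hdd X' d' hdd').π n v := by
  show _ = (∑ i ∈ Finset.range (n + 1), TensorProduct.map ((bigDG X d hdd).π i)
    ((bigDG X' d' hdd').π (n - i))) v
  unfold totπ
  rw [LinearMap.sum_apply, LinearMap.sum_apply]
  rfl

theorem totDG_d_apply (v : Big X ⊗[k] Big X') :
    (totDG X d hdd X' d' hdd').d v =
      TensorProduct.map ((bigD X d).restrictScalars k) (LinearMap.id : Big X' →ₗ[k] Big X') v +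
        TensorProduct.map ((bigσ X).restrictScalars k) ((bigD X' d').restrictScalars k) v := rfl

theorem totDG_π_apply (n : ℕ) (v : Big X ⊗[k] Big X') :
    (totDG X d hdd X' d' hdd').π n v =
      ∑ i ∈ Finset.range (n + 1), TensorProduct.map ((inc X i ∘ₗ cmp X i).restrictScalars k)
        ((inc X' (n - i) ∘ₗ cmp X' (n - i)).restrictScalars k) v := by
  show (∑ i ∈ Finset.range (n + 1), TensorProduct.map ((bigDG X d hdd).π i)
    ((bigDG X' d' hdd').π (n - i))) v = _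
  rw [LinearMap.sum_apply]
  rfl

theorem incCmp_gr (i : ℕ) (g : ℤ) (x : Big X) (hx : x ∈ bigGr X g) :
    ((inc X i ∘ₗ cmp X i).restrictScalars k) x ∈ bigGr X g := inc_mem_bigGr X (hx i)

include hd hd' in
theorem totDG_d_segrePiece {g : ℤ} {v : Big X ⊗[k] Big X'}
    (hv : v ∈ GrSeg.segrePiece k (bigGr X) (bigGr X') g) :
    (totDG X d hdd X' d' hdd').d v ∈ GrSeg.segrePiece k (bigGr X) (bigGr X') g := by
  rw [totDG_d_apply]
  apply Submodule.add_mem
  · exact map₂_mem_segrePiece (bigGr X) (bigGr X) (bigGr X') (bigGr X') _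
      (fun g x hx => bigD_grHom X d hd g x hx) _ (fun g y hy => hy) hv
  · exact map₂_mem_segrePiece (bigGr X) (bigGr X) (bigGr X') (bigGr X') _
      (fun g x hx => bigσ_grHom X g x hx) _ (fun g y hy => bigD_grHom X' d' hd' g y hy) hv

include hd hd' in
theorem totDG_d_diagM {v : Big X ⊗[k] Big X'} (hv : v ∈ diagM (bigGr X) (bigGr X')) :
    (totDG X d hdd X' d' hdd').d v ∈ diagM (bigGr X) (bigGr X') := by
  rw [totDG_d_apply]
  apply Submodule.add_mem
  · exact map₂_mem_diagM (bigGr X) (bigGr X) (bigGr X') (bigGr X') _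
      (fun g x hx => bigD_grHom X d hd g x hx) _ (fun g y hy => hy) hv
  · exact map₂_mem_diagM (bigGr X) (bigGr X) (bigGr X') (bigGr X') _
      (fun g x hx => bigσ_grHom X g x hx) _ (fun g y hy => bigD_grHom X' d' hd' g y hy) hv

include hd hd' in
theorem D_totDG_d (v : Big X ⊗[k] Big X') :
    D 𝒜 ℬ (bigGr X) (bigGr X') ((totDG X d hdd X' d' hdd').d v) =
      (totDG X d hdd X' d' hdd').d (D 𝒜 ℬ (bigGr X) (bigGr X') v) := by
  rw [totDG_d_apply, totDG_d_apply, map_add,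
    D_map₂ 𝒜 ℬ (bigGr X) (bigGr X) (bigGr X') (bigGr X') _
      (fun g x hx => bigD_grHom X d hd g x hx) _ (fun g y hy => hy),
    D_map₂ 𝒜 ℬ (bigGr X) (bigGr X) (bigGr X') (bigGr X') _
      (fun g x hx => bigσ_grHom X g x hx) _ (fun g y hy => bigD_grHom X' d' hd' g y hy)]

theorem totDG_π_segrePiece (n : ℕ) {g : ℤ} {v : Big X ⊗[k] Big X'}
    (hv : v ∈ GrSeg.segrePiece k (bigGr X) (bigGr X') g) :
    (totDG X d hdd X' d' hdd').π n v ∈ GrSeg.segrePiece k (bigGr X) (bigGr X') g := by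
  rw [totDG_π_apply]
  apply Submodule.sum_mem
  intro i _
  exact map₂_mem_segrePiece (bigGr X) (bigGr X) (bigGr X') (bigGr X') _
    (fun g x hx => incCmp_gr X i g x hx) _ (fun g y hy => incCmp_gr X' (n - i) g y hy) hv

theorem totDG_π_diagM (n : ℕ) {v : Big X ⊗[k] Big X'} (hv : v ∈ diagM (bigGr X) (bigGr X')) :
    (totDG X d hdd X' d' hdd').π n v ∈ diagM (bigGr X) (bigGr X') := by
  rw [totDG_π_apply]
  apply Submodule.sum_mem
  intro i _
  exact map₂_mem_diagM (bigGr X) (bigGr X) (bigGr X') (bigGr X') _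
    (fun g x hx => incCmp_gr X i g x hx) _ (fun g y hy => incCmp_gr X' (n - i) g y hy) hv

theorem D_totDG_π (n : ℕ) (v : Big X ⊗[k] Big X') :
    D 𝒜 ℬ (bigGr X) (bigGr X') ((totDG X d hdd X' d' hdd').π n v) =
      (totDG X d hdd X' d' hdd').π n (D 𝒜 ℬ (bigGr X) (bigGr X') v) := by
  rw [totDG_π_apply, totDG_π_apply, map_sum]
  apply Finset.sum_congr rfl
  intro i _
  exact D_map₂ 𝒜 ℬ (bigGr X) (bigGr X) (bigGr X') (bigGr X') _
    (fun g x hx => incCmp_gr X i g x hx) _ (fun g y hy => incCmp_gr X' (n - i) g y hy) v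

theorem prn_totDG_π (n : ℕ) (g : ℤ) (v : Big X ⊗[k] Big X') :
    prn 𝒜 ℬ (bigGr X) (bigGr X') g ((totDG X d hdd X' d' hdd').π n v) =
      (totDG X d hdd X' d' hdd').π n (prn 𝒜 ℬ (bigGr X) (bigGr X') g v) := by
  rw [totDG_π_apply, totDG_π_apply, map_sum]
  apply Finset.sum_congr rfl
  intro i _
  exact prn_map₂ 𝒜 ℬ (bigGr X) (bigGr X) (bigGr X') (bigGr X') _
    (fun g x hx => incCmp_gr X i g x hx) _ (fun g y hy => incCmp_gr X' (n - i) g y hy) g v

/-- the term of total degree `n`, as a `T`-submodule of `⨁ E^i ⊗ ⨁ F^j` -/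
def totSub (n : ℕ) : Submodule T (XT ψ (Big X) (Big X')) where
  carrier := {v | (show Big X ⊗[k] Big X' from v) ∈ diagM (bigGr X) (bigGr X') ∧
    (totDG X d hdd X' d' hdd').π n v = v}
  add_mem' := fun {v w} hv hw => ⟨(diagM (bigGr X) (bigGr X')).add_mem hv.1 hw.1,
    (map_add ((totDG X d hdd X' d' hdd').π n) _ _).trans (by rw [hv.2, hw.2]; rfl)⟩
  zero_mem' := ⟨(diagM (bigGr X) (bigGr X')).zero_mem, map_zero _⟩
  smul_mem' := fun t v hv => ⟨(diagT 𝒜 ℬ 𝒯 ψ hT (bigGr X) (bigGr X')).smul_mem t hv.1, by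
    have h1 := totπ_eq ψ X d hdd X' d' hdd' n (t • v)
    rw [map_smul] at h1
    rw [← h1]
    have h2 := totπ_eq ψ X d hdd X' d' hdd' n v
    rw [hv.2] at h2
    show t • totπ ψ X X' n v = t • v
    rw [show totπ ψ X X' n v = v from h2]⟩

theorem mem_totSub {n : ℕ} {v : XT ψ (Big X) (Big X')} :
    v ∈ totSub 𝒯 ψ hT X d hdd X' d' hdd' n ↔
      (show Big X ⊗[k] Big X' from v) ∈ diagM (bigGr X) (bigGr X') ∧
        (totDG X d hdd X' d' hdd').π n v = v := Iff.rfl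

/-- the graded pieces of the term of total degree `n` -/
def totGr (n : ℕ) : ℤ → AddSubgroup ↥(totSub 𝒯 ψ hT X d hdd X' d' hdd' n) := fun g =>
  { carrier := {v | (show Big X ⊗[k] Big X' from (v : XT ψ (Big X) (Big X'))) ∈
      GrSeg.segrePiece k (bigGr X) (bigGr X') g}
    add_mem' := fun {v w} hv hw => (GrSeg.segrePiece k (bigGr X) (bigGr X') g).add_mem hv hw
    zero_mem' := (GrSeg.segrePiece k (bigGr X) (bigGr X') g).zero_mem
    neg_mem' := fun {v} hv => (GrSeg.segrePiece k (bigGr X) (bigGr X') g).neg_mem hv }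

theorem mem_totGr {n : ℕ} {g : ℤ} {v : ↥(totSub 𝒯 ψ hT X d hdd X' d' hdd' n)} :
    v ∈ totGr 𝒯 ψ hT X d hdd X' d' hdd' n g ↔
      (show Big X ⊗[k] Big X' from (v : XT ψ (Big X) (Big X'))) ∈
        GrSeg.segrePiece k (bigGr X) (bigGr X') g := Iff.rfl

theorem isInternal_totGr (n : ℕ) :
    DirectSum.IsInternal (totGr 𝒯 ψ hT X d hdd X' d' hdd' n) := by
  classical
  apply Groth.Agent.Helper6.GrCon.isInternal_of_proj (totGr 𝒯 ψ hT X d hdd X' d' hdd' n)
    (fun g v => ⟨(prn 𝒜 ℬ (bigGr X) (bigGr X') g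
        (show Big X ⊗[k] Big X' from (v : XT ψ (Big X) (Big X'))) : Big X ⊗[k] Big X'),
      ⟨segrePiece_le_diagM (bigGr X) (bigGr X') g (prn_mem 𝒜 ℬ (bigGr X) (bigGr X') g _), by
        rw [← prn_totDG_π X d hdd X' d' hdd' n g, v.2.2]⟩⟩)
  · intro g v
    exact prn_mem 𝒜 ℬ (bigGr X) (bigGr X') g _
  · intro g v hv
    apply Subtype.ext
    show prn 𝒜 ℬ (bigGr X) (bigGr X') g _ = _
    rw [prn_of_mem 𝒜 ℬ (bigGr X) (bigGr X') g hv, if_pos rfl]
  · intro i j v hv hij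
    apply Subtype.ext
    show prn 𝒜 ℬ (bigGr X) (bigGr X') j _ = _
    rw [prn_of_mem 𝒜 ℬ (bigGr X) (bigGr X') j hv, if_neg hij]
    rfl
  · intro j v w
    apply Subtype.ext
    exact map_add (prn 𝒜 ℬ (bigGr X) (bigGr X') j) _ _
  · intro v
    obtain ⟨s, hs⟩ := exists_sum_prn 𝒜 ℬ (bigGr X) (bigGr X') v.2.1
    refine ⟨s, ?_⟩
    apply Subtype.ext
    rw [Submodule.coe_sum]
    exact hs s (Finset.Subset.refl s)

theorem gradedSMul_totGr (n : ℕ) :
    SetLike.GradedSMul (plus 𝒯) (totGr 𝒯 ψ hT X d hdd X' d' hdd' n) :=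
  ⟨fun {j g} {t v} ht hv => by
    show GrSeg.act k R S (Big X) (Big X') (ψ t) _ ∈ GrSeg.segrePiece k (bigGr X) (bigGr X') (j + g)
    exact act_segrePiece 𝒜 ℬ (bigGr X) (bigGr X')
      (psi_mem_segrePiece 𝒜 ℬ 𝒯 ψ hT ((mem_plus 𝒯).mp ht)) hv⟩

/-- the term of total degree `n` as a bundled graded `T`-module -/
noncomputable def totMod (n : ℕ) : GrLC.GMod.{u} (plus 𝒯) :=
  letI := (isInternal_totGr 𝒯 ψ hT X d hdd X' d' hdd' n).chooseDecomposition
  letI := gradedSMul_totGr 𝒯 ψ hT X d hdd X' d' hdd' n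
  { carrier := ↥(totSub 𝒯 ψ hT X d hdd X' d' hdd' n)
    gr := totGr 𝒯 ψ hT X d hdd X' d' hdd' n }

include hd hd' in
theorem totD_mem (n : ℕ) (v : XT ψ (Big X) (Big X'))
    (hv : v ∈ totSub 𝒯 ψ hT X d hdd X' d' hdd' n) :
    totD ψ X d X' d' v ∈ totSub 𝒯 ψ hT X d hdd X' d' hdd' (n + 1) := by
  refine ⟨totDG_d_diagM X d hd hdd X' d' hd' hdd' hv.1, ?_⟩
  show (totDG X d hdd X' d' hdd').π (n + 1) ((totDG X d hdd X' d' hdd').d v) = _
  rw [← (totDG X d hdd X' d' hdd').dπ, hv.2]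
  rfl

/-- the differentials of the total complex -/
noncomputable def totDn (n : ℕ) : (totMod 𝒯 ψ hT X d hdd X' d' hdd' n).carrier →ₗ[T]
    (totMod 𝒯 ψ hT X d hdd X' d' hdd' (n + 1)).carrier :=
  (totD ψ X d X' d').restrict (totD_mem 𝒯 ψ hT X d hd hdd X' d' hd' hdd' n)

theorem totDn_coe (n : ℕ) (v : ↥(totSub 𝒯 ψ hT X d hdd X' d' hdd' n)) :
    Subtype.val (p := fun w => w ∈ totSub 𝒯 ψ hT X d hdd X' d' hdd' (n + 1))
      (totDn 𝒯 ψ hT X d hd hdd X' d' hd' hdd' n v) =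
      (totDG X d hdd X' d' hdd').d (v : XT ψ (Big X) (Big X')) := rfl

theorem totDn_grHom (n : ℕ) : GrLC.IsGrHom (totMod 𝒯 ψ hT X d hdd X' d' hdd' n).gr
    (totMod 𝒯 ψ hT X d hdd X' d' hdd' (n + 1)).gr
    (totDn 𝒯 ψ hT X d hd hdd X' d' hd' hdd' n) := by
  intro g v hv
  exact totDG_d_segrePiece X d hd hdd X' d' hd' hdd' hv

end Tot

end Groth.Agent.Helper7.Kun
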