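import Mathlib
import Groth.Prelude.Def_GrLC
import Groth.Prelude.Def_Wider
import Groth.Prelude.Def_GrSeg
import Groth.Agent.Helper7.KunU2

/-!
# Künneth project, part U3: the total complex `Tot(E^• # F^•)` is a `Γ_{T_+}`-acyclic resolution of `M # N`.
-/

set_option autoImplicit false
set_option linter.unusedSectionVars false
set_option linter.style.haveILetI false

namespace Groth.Agent.Helper7.Kun

open TensorProduct Groth.Agent.Helper9.SegreMod Groth.Agent.Helper9.Segre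
  Groth.Agent.Helper7.SegMod Groth.Agent.Helper7.KunLA Groth.Agent.Helper7.GrAcy

universe u

attribute [local instance] gmodModuleK gmodTowerK

section Z0

variable {k R : Type u} [Field k] [CommRing R] [Algebra k R] {𝒜 : ℤ → Submodule k R}
  [GradedAlgebra 𝒜] (X : ℕ → GrLC.GMod.{u} 𝒜)
  (d : ∀ n, (X n).carrier →ₗ[R] (X (n + 1)).carrier)
  (hdd : ∀ n x, d (n + 1) (d n x) = 0)
  {M : Type u} [AddCommGroup M] [Module R M] [Module k M] [IsScalarTower k R M]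
  (ε : M →ₗ[R] (X 0).carrier) (h0 : LinearMap.ker (d 0) = LinearMap.range ε)

/-- the augmentation into the total module, `k`-linearly -/
noncomputable def augK : M →ₗ[k] Big X := (inc X 0 ∘ₗ ε).restrictScalars k

theorem augK_apply (m : M) : augK X ε m = inc X 0 (ε m) := rfl

include h0 in
theorem bigD_augK (m : M) : bigD X d (augK X ε m) = 0 := by
  rw [augK_apply, bigD_inc]
  have h1 : ε m ∈ LinearMap.ker (d 0) := by rw [h0]; exact ⟨m, rfl⟩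
  rw [LinearMap.mem_ker.mp h1, map_zero]

include h0 in
theorem bigDG_Zs_zero : (bigDG X d hdd).Zs ⊤ 0 = LinearMap.range (augK X ε) := by
  apply le_antisymm
  · intro z hz
    obtain ⟨-, h1, h2⟩ := (bigDG X d hdd).mem_Zs.mp hz
    rw [bigDG_π] at h1
    rw [bigDG_d, ← h1, bigD_inc] at h2
    have h3 : d 0 (cmp X 0 z) = 0 := by
      apply inc_injective X 1
      rw [h2, map_zero]
    have h4 : cmp X 0 z ∈ LinearMap.range ε := by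
      rw [← h0]; exact h3
    obtain ⟨m, hm⟩ := h4
    exact ⟨m, by rw [augK_apply, hm, h1]⟩
  · rintro _ ⟨m, rfl⟩
    refine (bigDG X d hdd).mem_Zs.mpr ⟨trivial, ?_, ?_⟩
    · rw [bigDG_π, augK_apply, cmp_inc_same]
    · rw [bigDG_d]
      exact bigD_augK X d ε h0 m

end Z0

section TotRes

variable {k : Type u} [Field k] {R S T : Type u} [CommRing R] [Algebra k R] [CommRing S] [Algebra k S]
  [CommRing T] [Algebra k T]
  {𝒜 : ℤ → Submodule k R} [GradedAlgebra 𝒜] {ℬ : ℤ → Submodule k S} [GradedAlgebra ℬ]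
  (𝒯 : ℤ → Submodule k T) [GradedAlgebra 𝒯] (ψ : T →ₐ[k] R ⊗[k] S)
  (hT : GrSeg.IsSegreRing 𝒜 ℬ 𝒯 ψ)
  (X : ℕ → GrLC.GMod.{u} 𝒜) (d : ∀ n, (X n).carrier →ₗ[R] (X (n + 1)).carrier)
  (hd : ∀ n, GrLC.IsGrHom (X n).gr (X (n + 1)).gr (d n))
  (hdd : ∀ n x, d (n + 1) (d n x) = 0)
  (X' : ℕ → GrLC.GMod.{u} ℬ) (d' : ∀ n, (X' n).carrier →ₗ[S] (X' (n + 1)).carrier)
  (hd' : ∀ n, GrLC.IsGrHom (X' n).gr (X' (n + 1)).gr (d' n))
  (hdd' : ∀ n x, d' (n + 1) (d' n x) = 0)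
  {M : Type u} [AddCommGroup M] [Module R M] [Module k M] [IsScalarTower k R M]
  (ℳ : ℤ → AddSubgroup M) [DirectSum.Decomposition ℳ] [SetLike.GradedSMul 𝒜 ℳ]
  {N : Type u} [AddCommGroup N] [Module S N] [Module k N] [IsScalarTower k S N]
  (𝒩 : ℤ → AddSubgroup N) [DirectSum.Decomposition 𝒩] [SetLike.GradedSMul ℬ 𝒩]
  {P : Type u} [AddCommGroup P] [Module T P] [Module k P] [IsScalarTower k T P]
  (𝒬 : ℤ → AddSubgroup P) [DirectSum.Decomposition 𝒬] [SetLike.GradedSMul 𝒯 𝒬]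
  (φ : P →ₗ[k] M ⊗[k] N) (hP : GrSeg.IsSegreMod ψ ℳ 𝒩 𝒬 φ)
  (εM : M →ₗ[R] (X 0).carrier) (hεM : GrLC.IsGrHom ℳ (X 0).gr εM)
  (hinjM : Function.Injective εM)
  (h0M : LinearMap.ker (d 0) = LinearMap.range εM)
  (hsM : ∀ n, LinearMap.ker (d (n + 1)) = LinearMap.range (d n))
  (εN : N →ₗ[S] (X' 0).carrier) (hεN : GrLC.IsGrHom 𝒩 (X' 0).gr εN)
  (hinjN : Function.Injective εN)
  (h0N : LinearMap.ker (d' 0) = LinearMap.range εN)
  (hsN : ∀ n, LinearMap.ker (d' (n + 1)) = LinearMap.range (d' n))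

/-- the augmentation `M ⊗ N → ⨁ E^i ⊗ ⨁ F^j`, `k`-linearly -/
noncomputable abbrev augKK : M ⊗[k] N →ₗ[k] Big X ⊗[k] Big X' :=
  TensorProduct.map (augK X εM) (augK X' εN)

include hεM in
theorem augK_gr (g : ℤ) (x : M) (hx : x ∈ ℳ g) : augK X εM x ∈ bigGr X g :=
  inc_mem_bigGr X (hεM g x hx)

theorem totDG_π_augKK (v : M ⊗[k] N) :
    (totDG X d hdd X' d' hdd').π 0 (augKK X X' εM εN v) = augKK X X' εM εN v := by
  rw [totDG_π_apply, Finset.range_one, Finset.sum_singleton]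
  induction v using TensorProduct.induction_on with
  | zero => rw [map_zero, map_zero]
  | tmul x y =>
    rw [TensorProduct.map_tmul, TensorProduct.map_tmul]
    show (inc X 0 (cmp X 0 (inc X 0 (εM x)))) ⊗ₜ[k] (inc X' 0 (cmp X' 0 (inc X' 0 (εN y)))) = _
    rw [cmp_inc_same, cmp_inc_same]
    rfl
  | add v w hv hw => rw [map_add, map_add, hv, hw]

include h0M h0N in
theorem totDG_d_augKK (v : M ⊗[k] N) :
    (totDG X d hdd X' d' hdd').d (augKK X X' εM εN v) = 0 := by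
  rw [totDG_d_apply]
  induction v using TensorProduct.induction_on with
  | zero => rw [map_zero, map_zero, map_zero, add_zero]
  | tmul x y =>
    rw [TensorProduct.map_tmul, TensorProduct.map_tmul, TensorProduct.map_tmul]
    show (bigD X d (augK X εM x)) ⊗ₜ[k] _ + _ ⊗ₜ[k] (bigD X' d' (augK X' εN y)) = 0
    rw [bigD_augK X d εM h0M, bigD_augK X' d' εN h0N, TensorProduct.zero_tmul,
      TensorProduct.tmul_zero, add_zero]
  | add v w hv hw =>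
    rw [map_add, map_add, map_add]
    rw [add_add_add_comm, hv, hw, add_zero]

include hεM hεN in
theorem augKK_mem_diagM {v : M ⊗[k] N} (hv : v ∈ diagM ℳ 𝒩) :
    augKK X X' εM εN v ∈ diagM (bigGr X) (bigGr X') :=
  map₂_mem_diagM ℳ (bigGr X) 𝒩 (bigGr X') _ (augK_gr X ℳ εM hεM) _ (augK_gr X' 𝒩 εN hεN) hv

include hεM hεN in
theorem augKK_mem_segrePiece {g : ℤ} {v : M ⊗[k] N} (hv : v ∈ GrSeg.segrePiece k ℳ 𝒩 g) :
    augKK X X' εM εN v ∈ GrSeg.segrePiece k (bigGr X) (bigGr X') g :=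
  map₂_mem_segrePiece ℳ (bigGr X) 𝒩 (bigGr X') _ (augK_gr X ℳ εM hεM) _
    (augK_gr X' 𝒩 εN hεN) hv

include hinjM hinjN in
theorem augKK_injective : Function.Injective (augKK X X' εM εN) := by
  apply TensorProduct.map_injective_of_flat_flat
  · exact (inc_injective X 0).comp hinjM
  · exact (inc_injective X' 0).comp hinjN

/-- the augmentation `M # N → Tot^0` -/
noncomputable def totε : P →ₗ[T] (totMod 𝒯 ψ hT X d hdd X' d' hdd' 0).carrier :=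
  LinearMap.codRestrict (totSub 𝒯 ψ hT X d hdd X' d' hdd' 0)
    (XTmap₂ ψ (inc X 0 ∘ₗ εM) (inc X' 0 ∘ₗ εN) ∘ₗ (diagT 𝒜 ℬ 𝒯 ψ hT ℳ 𝒩).subtype ∘ₗ
      phiT 𝒜 ℬ 𝒯 ψ hT ℳ 𝒩 𝒬 φ hP)
    (fun p => ⟨augKK_mem_diagM X X' ℳ 𝒩 εM hεM εN hεN (phi_mem_diagM ℳ 𝒩 ψ 𝒬 φ hP p),
      totDG_π_augKK X d hdd X' d' hdd' εM εN (φ p)⟩)

theorem totε_coe (p : P) :
    Subtype.val (p := fun w => w ∈ totSub 𝒯 ψ hT X d hdd X' d' hdd' 0)
      (totε 𝒯 ψ hT X d hdd X' d' hdd' ℳ 𝒩 𝒬 φ hP εM hεM εN hεN p) =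
      augKK X X' εM εN (φ p) := rfl

theorem totε_grHom : GrLC.IsGrHom 𝒬 (totMod 𝒯 ψ hT X d hdd X' d' hdd' 0).gr
    (totε 𝒯 ψ hT X d hdd X' d' hdd' ℳ 𝒩 𝒬 φ hP εM hεM εN hεN) := by
  intro g p hp
  show augKK X X' εM εN (φ p) ∈ GrSeg.segrePiece k (bigGr X) (bigGr X') g
  apply augKK_mem_segrePiece X X' ℳ 𝒩 εM hεM εN hεN
  have : φ p ∈ φ '' ((𝒬 g : AddSubgroup P) : Set P) := ⟨p, hp, rfl⟩
  rw [hP.image_piece g] at this
  exact this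

include hinjM hinjN in
theorem totε_injective :
    Function.Injective (totε 𝒯 ψ hT X d hdd X' d' hdd' ℳ 𝒩 𝒬 φ hP εM hεM εN hεN) := by
  intro p p' h
  have h1 : augKK X X' εM εN (φ p) = augKK X X' εM εN (φ p') := congrArg Subtype.val h
  exact hP.injective (augKK_injective X X' εM hinjM εN hinjN h1)

include h0M h0N in
theorem totDn_exact_zero :
    LinearMap.ker (totDn 𝒯 ψ hT X d hd hdd X' d' hd' hdd' 0) =
      LinearMap.range (totε 𝒯 ψ hT X d hdd X' d' hdd' ℳ 𝒩 𝒬 φ hP εM hεM εN hεN) := by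
  apply le_antisymm
  · intro (v : ↥(totSub 𝒯 ψ hT X d hdd X' d' hdd' 0)) hv
    have hv0 : (totDG X d hdd X' d' hdd').d (v : XT ψ (Big X) (Big X')) = 0 := by
      rw [← totDn_coe 𝒯 ψ hT X d hd hdd X' d' hd' hdd' 0 v, LinearMap.mem_ker.mp hv]
      rfl
    obtain ⟨S1⟩ := (bigDG X d hdd).nonempty_split
    obtain ⟨S2⟩ := (bigDG X' d' hdd').nonempty_split
    have hz : (v : XT ψ (Big X) (Big X')) ∈ (totDG X d hdd X' d' hdd').Zs ⊤ 0 :=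
      (totDG X d hdd X' d' hdd').mem_Zs.mpr ⟨trivial, v.2.2, hv0⟩
    rw [DG.tensor_Zs_zero S1 S2, TensorProduct.range_map, Submodule.range_subtype,
      Submodule.range_subtype, bigDG_Zs_zero X d hdd εM h0M, bigDG_Zs_zero X' d' hdd' εN h0N,
      ← TensorProduct.range_map] at hz
    obtain ⟨w, hw⟩ := hz
    have h1 : D 𝒜 ℬ (bigGr X) (bigGr X') (v : XT ψ (Big X) (Big X')) =
        (v : XT ψ (Big X) (Big X')) := D_fix 𝒜 ℬ (bigGr X) (bigGr X') _ v.2.1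
    have h2 : augKK X X' εM εN (D 𝒜 ℬ ℳ 𝒩 w) = (v : XT ψ (Big X) (Big X')) := by
      rw [← h1, ← hw]
      exact (D_map₂ 𝒜 ℬ ℳ (bigGr X) 𝒩 (bigGr X') _ (augK_gr X ℳ εM hεM) _
        (augK_gr X' 𝒩 εN hεN) w).symm
    obtain ⟨p, hp⟩ := phiT_surjective 𝒜 ℬ 𝒯 ψ hT ℳ 𝒩 𝒬 φ hP
      ⟨D 𝒜 ℬ ℳ 𝒩 w, D_mem_diagM 𝒜 ℬ ℳ 𝒩 w⟩
    have hp' : φ p = D 𝒜 ℬ ℳ 𝒩 w := congrArg Subtype.val hp
    refine ⟨p, ?_⟩
    apply Subtype.ext
    rw [totε_coe, hp']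
    exact h2
  · rintro _ ⟨p, rfl⟩
    rw [LinearMap.mem_ker]
    apply Subtype.ext
    rw [totDn_coe, totε_coe]
    exact totDG_d_augKK X d hdd X' d' hdd' εM h0M εN h0N (φ p)

include hsM hsN in
theorem totDn_exact_succ (n : ℕ) :
    LinearMap.ker (totDn 𝒯 ψ hT X d hd hdd X' d' hd' hdd' (n + 1)) =
      LinearMap.range (totDn 𝒯 ψ hT X d hd hdd X' d' hd' hdd' n) := by
  apply le_antisymm
  · intro (v : ↥(totSub 𝒯 ψ hT X d hdd X' d' hdd' (n + 1))) hv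
    have hv0 : (totDG X d hdd X' d' hdd').d (v : XT ψ (Big X) (Big X')) = 0 := by
      rw [← totDn_coe 𝒯 ψ hT X d hd hdd X' d' hd' hdd' (n + 1) v, LinearMap.mem_ker.mp hv]
      rfl
    obtain ⟨S1⟩ := (bigDG X d hdd).nonempty_split
    obtain ⟨S2⟩ := (bigDG X' d' hdd').nonempty_split
    have hz : (v : XT ψ (Big X) (Big X')) ∈ (totDG X d hdd X' d' hdd').Zs ⊤ (n + 1) :=
      (totDG X d hdd X' d' hdd').mem_Zs.mpr ⟨trivial, v.2.2, hv0⟩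
    have hV : ∀ m, 1 ≤ m → (bigDG X d hdd).Zs ⊤ m ≤ (bigDG X d hdd).Bs ⊤ m := by
      intro m hm
      obtain ⟨m, rfl⟩ := Nat.exists_eq_add_of_le' hm
      exact bigDG_acyclic X d hdd m (hsM m)
    have hW : ∀ m, 1 ≤ m → (bigDG X' d' hdd').Zs ⊤ m ≤ (bigDG X' d' hdd').Bs ⊤ m := by
      intro m hm
      obtain ⟨m, rfl⟩ := Nat.exists_eq_add_of_le' hm
      exact bigDG_acyclic X' d' hdd' m (hsN m)
    have hb := DG.tensor_acyclic S1 S2 hV hW (n + 1) (by omega) hz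
    obtain ⟨y, -, ⟨y0, hy0⟩, hy⟩ := (totDG X d hdd X' d' hdd').mem_Bs.mp hb
    have hπy : (totDG X d hdd X' d' hdd').π n y = y := by
      rw [← hy0, (totDG X d hdd X' d' hdd').ππ]
    have hmem : D 𝒜 ℬ (bigGr X) (bigGr X') y ∈ totSub 𝒯 ψ hT X d hdd X' d' hdd' n := by
      refine ⟨D_mem_diagM 𝒜 ℬ (bigGr X) (bigGr X') y, ?_⟩
      rw [← D_totDG_π X d hdd X' d' hdd' n y, hπy]
    refine ⟨⟨D 𝒜 ℬ (bigGr X) (bigGr X') y, hmem⟩, ?_⟩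
    apply Subtype.ext
    rw [totDn_coe]
    show (totDG X d hdd X' d' hdd').d (D 𝒜 ℬ (bigGr X) (bigGr X') y) = _
    rw [← D_totDG_d X d hd hdd X' d' hd' hdd' y, hy]
    exact D_fix 𝒜 ℬ (bigGr X) (bigGr X') _ v.2.1
  · rintro _ ⟨w, rfl⟩
    rw [LinearMap.mem_ker]
    apply Subtype.ext
    rw [totDn_coe, totDn_coe]
    exact (totDG X d hdd X' d' hdd').dd _

/-- the `T`-linear retraction of `⨁ E^i ⊗ ⨁ F^j` onto `Tot^n` -/
noncomputable def totRet (n : ℕ) :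
    XT ψ (Big X) (Big X') →ₗ[T] ↥(totSub 𝒯 ψ hT X d hdd X' d' hdd' n) :=
  LinearMap.codRestrict (totSub 𝒯 ψ hT X d hdd X' d' hdd' n)
    ((diagT 𝒜 ℬ 𝒯 ψ hT (bigGr X) (bigGr X')).subtype ∘ₗ
      Dret 𝒜 ℬ 𝒯 ψ hT (bigGr X) (bigGr X') ∘ₗ totπ ψ X X' n)
    (fun v => ⟨D_mem_diagM 𝒜 ℬ (bigGr X) (bigGr X') _, by
      show (totDG X d hdd X' d' hdd').π n (D 𝒜 ℬ (bigGr X) (bigGr X') (totπ ψ X X' n v)) =
        D 𝒜 ℬ (bigGr X) (bigGr X') (totπ ψ X X' n v)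
      rw [← D_totDG_π X d hdd X' d' hdd' n, totπ_eq ψ X d hdd X' d' hdd' n v,
        (totDG X d hdd X' d' hdd').ππ]⟩)

theorem totRet_subtype (n : ℕ) (v : ↥(totSub 𝒯 ψ hT X d hdd X' d' hdd' n)) :
    totRet 𝒯 ψ hT X d hdd X' d' hdd' n (v : XT ψ (Big X) (Big X')) = v := by
  apply Subtype.ext
  show D 𝒜 ℬ (bigGr X) (bigGr X') (totπ ψ X X' n (v : XT ψ (Big X) (Big X'))) = _
  rw [totπ_eq ψ X d hdd X' d' hdd' n, v.2.2]
  exact D_fix 𝒜 ℬ (bigGr X) (bigGr X') _ v.2.1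

variable (mR : HomogeneousIdeal (plus 𝒜))
  (hmR : mR.toIdeal = Ideal.span (⋃ n ∈ Set.Ioi (0 : ℤ), (𝒜 n : Set R)))
  (mS : HomogeneousIdeal (plus ℬ))
  (hmS : mS.toIdeal = Ideal.span (⋃ n ∈ Set.Ioi (0 : ℤ), (ℬ n : Set S)))
  (mT : HomogeneousIdeal (plus 𝒯))
  (hmT : mT.toIdeal = Ideal.span (⋃ n ∈ Set.Ioi (0 : ℤ), (𝒯 n : Set T)))
  [IsNoetherianRing R] [IsNoetherianRing S] [IsNoetherianRing (R ⊗[k] S)]

include hmR hmS hmT in
theorem totMod_gacyc (hE : ∀ i, FgExt (plus 𝒜) (X i).carrier)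
    (hN : ∀ i, FgExt (plus ℬ) (X' i).carrier) (n : ℕ) :
    GAcyc mT (totMod 𝒯 ψ hT X d hdd X' d' hdd' n) := by
  haveI : IsNoetherianRing T := Groth.Agent.Helper9.Segre.noeth 𝒜 ℬ 𝒯 ψ hT.2 hT.1
  exact gacyc_of_subsingleton mT (totMod 𝒯 ψ hT X d hdd X' d' hdd' n)
    (fun i => subsingleton_H_of_retract mT.toIdeal (i + 1)
      (totSub 𝒯 ψ hT X d hdd X' d' hdd' n).subtype
      (totRet 𝒯 ψ hT X d hdd X' d' hdd' n) (totRet_subtype 𝒯 ψ hT X d hdd X' d' hdd' n)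
      (subsingleton_H_XT₂ 𝒜 ℬ 𝒯 ψ hT mR hmR mS hmS mT hmT (fgExt_big X hE) (fgExt_big X' hN) i))

include hmR hmS hmT hinjM hinjN h0M h0N hsM hsN hP hεM hεN in
/-- graded local cohomology of `M # N` is computed by the complex `Γ_{T_+}(Tot(E^• # F^•))` -/
theorem tot_compare [SetLike.GradedSMul (plus 𝒯) 𝒬]
    (hE : ∀ i, FgExt (plus 𝒜) (X i).carrier)
    (hN : ∀ i, FgExt (plus ℬ) (X' i).carrier)
    (EP : GrLC.StarInjRes (plus 𝒯) 𝒬) (q : ℕ) (g : ℤ) :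
    Nonempty (EP.Hcomp mT q g ≃ₗ[GrLC.deg0 (plus 𝒯)]
      HHcomp mT (totMod 𝒯 ψ hT X d hdd X' d' hdd') (totDn 𝒯 ψ hT X d hd hdd X' d' hd' hdd') q g) :=
  main_comp mT q (totMod 𝒯 ψ hT X d hdd X' d' hdd') (totDn 𝒯 ψ hT X d hd hdd X' d' hd' hdd')
    (totDn_grHom 𝒯 ψ hT X d hd hdd X' d' hd' hdd')
    (totε 𝒯 ψ hT X d hdd X' d' hdd' ℳ 𝒩 𝒬 φ hP εM hεM εN hεN)
    (totε_grHom 𝒯 ψ hT X d hdd X' d' hdd' ℳ 𝒩 𝒬 φ hP εM hεM εN hεN)
    (totε_injective 𝒯 ψ hT X d hdd X' d' hdd' ℳ 𝒩 𝒬 φ hP εM hεM hinjM εN hεN hinjN)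
    (totDn_exact_zero 𝒯 ψ hT X d hd hdd X' d' hd' hdd' ℳ 𝒩 𝒬 φ hP εM hεM h0M εN hεN h0N)
    (totDn_exact_succ 𝒯 ψ hT X d hd hdd X' d' hd' hdd' hsM hsN)
    (totMod_gacyc 𝒯 ψ hT X d hdd X' d' hdd' mR hmR mS hmS mT hmT hE hN) EP g

end TotRes

end Groth.Agent.Helper7.Kun
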