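import Mathlib
import Groth.Prelude.Def_GrLC
import Groth.Prelude.Def_Wider
import Groth.Prelude.Def_GrSeg
import Groth.Agent.Helper7.KunU3

/-!
# Künneth project, part V: the bridge on the `T`-side — the degree-`g` piece of `H^n(Γ_{T_+} Tot)` is the
cohomology of `ker (V_g ⊗ W_g → V_g/V'_g ⊗ W_g/W'_g)`.
-/

set_option autoImplicit false
set_option linter.unusedSectionVars false
set_option linter.style.haveILetI false

namespace Groth.Agent.Helper7.Kun

open TensorProduct Groth.Agent.Helper9.SegreMod Groth.Agent.Helper9.Segre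
  Groth.Agent.Helper7.SegMod Groth.Agent.Helper7.KunLA Groth.Agent.Helper7.GrAcy

universe u

attribute [local instance] gmodModuleK gmodTowerK

section TorQuot

variable {k R : Type u} [Field k] [CommRing R] [Algebra k R] {𝒜 : ℤ → Submodule k R}
  [GradedAlgebra 𝒜] (X : ℕ → GrLC.GMod.{u} 𝒜) (g : ℤ) (a : Ideal R)

/-- the map `V_g/V'_g → E/Γ_a(E)` induced by the inclusion -/
noncomputable def strandQ : (↥(bigSub X g) ⧸ gamSub X g a) →ₗ[k] (Big X ⧸ GrLC.gam a (Big X)) :=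
  (gamSub X g a).liftQ (((GrLC.gam a (Big X)).mkQ.restrictScalars k) ∘ₗ (bigSub X g).subtype)
    (fun v hv => by
      rw [LinearMap.mem_ker]
      exact (Submodule.Quotient.mk_eq_zero _).mpr hv)

theorem strandQ_mkQ :
    strandQ X g a ∘ₗ (gamSub X g a).mkQ =
      ((GrLC.gam a (Big X)).mkQ.restrictScalars k) ∘ₗ (bigSub X g).subtype :=
  Submodule.liftQ_mkQ _ _ _

theorem strandQ_injective : Function.Injective (strandQ X g a) := by
  rw [← LinearMap.ker_eq_bot]
  unfold strandQ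
  apply Submodule.ker_liftQ_eq_bot
  intro v hv
  rw [LinearMap.mem_ker] at hv
  exact (Submodule.Quotient.mk_eq_zero (GrLC.gam a (Big X))).mp hv

end TorQuot

section Bridge

variable {k : Type u} [Field k] {R S T : Type u} [CommRing R] [Algebra k R] [CommRing S] [Algebra k S]
  [CommRing T] [Algebra k T]
  {𝒜 : ℤ → Submodule k R} [GradedAlgebra 𝒜] {ℬ : ℤ → Submodule k S} [GradedAlgebra ℬ]
  (𝒯 : ℤ → Submodule k T) [GradedAlgebra 𝒯] (ψ : T →ₐ[k] R ⊗[k] S)
  (hT : GrSeg.IsSegreRing 𝒜 ℬ 𝒯 ψ)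
  (X : ℕ → GrLC.GMod.{u} 𝒜) (d : ∀ n, (X n).carrier →ₗ[R] (X (n + 1)).carrier)
  (hd : ∀ n, GrLC.IsGrHom (X n).gr (X (n + 1)).gr (d n))
  (hdd : ∀ n x, d (n + 1) (d n x) = 0)
  (X' : ℕ → GrLC.GMod.{u} ℬ) (d' : ∀ n, (X' n).carrier →ₗ[S] (X' (n + 1)).carrier)
  (hd' : ∀ n, GrLC.IsGrHom (X' n).gr (X' (n + 1)).gr (d' n))
  (hdd' : ∀ n x, d' (n + 1) (d' n x) = 0) (g : ℤ)

/-- the tensor product of the two degree-`g` strands -/
noncomputable abbrev strandTensor : DG k (↥(bigSub X g) ⊗[k] ↥(bigSub X' g)) :=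
  (strandDG X d hd hdd g).tensor (strandDG X' d' hd' hdd' g)

/-- the inclusion `V_g ⊗ W_g → ⨁ E^i ⊗ ⨁ F^j` -/
noncomputable def strandIncl : ↥(bigSub X g) ⊗[k] ↥(bigSub X' g) →ₗ[k] Big X ⊗[k] Big X' :=
  TensorProduct.map (bigSub X g).subtype (bigSub X' g).subtype

theorem strandIncl_hom :
    (strandTensor X d hd hdd X' d' hd' hdd' g).Hom (totDG X d hdd X' d' hdd')
      (strandIncl X X' g) :=
  ((bigDG X d hdd).hom_subtype (bigSub X g) (bigSub_stable X d hd hdd g)).tensor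
    ((bigDG X' d' hdd').hom_subtype (bigSub X' g) (bigSub_stable X' d' hd' hdd' g))

theorem strandIncl_injective : Function.Injective (strandIncl X X' g) :=
  TensorProduct.map_injective_of_flat_flat _ _ (Submodule.injective_subtype _)
    (Submodule.injective_subtype _)

theorem strandIncl_mem (u : ↥(bigSub X g) ⊗[k] ↥(bigSub X' g)) :
    strandIncl X X' g u ∈ GrSeg.segrePiece k (bigGr X) (bigGr X') g := by
  induction u using TensorProduct.induction_on with
  | zero => rw [map_zero]; exact Submodule.zero_mem _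
  | tmul v w => exact Submodule.subset_span ⟨v.1, v.2, w.1, w.2, rfl⟩
  | add u u' h h' => rw [map_add]; exact Submodule.add_mem _ h h'

theorem segrePiece_le_range :
    GrSeg.segrePiece k (bigGr X) (bigGr X') g ≤ LinearMap.range (strandIncl X X' g) := by
  unfold GrSeg.segrePiece
  rw [Submodule.span_le]
  rintro _ ⟨a, ha, b, hb, rfl⟩
  exact ⟨(⟨a, ha⟩ : ↥(bigSub X g)) ⊗ₜ[k] (⟨b, hb⟩ : ↥(bigSub X' g)), rfl⟩

/-- the component maps `V_g ⊗ W_g → Tot^n` -/
noncomputable def totJ (n : ℕ) : ↥(bigSub X g) ⊗[k] ↥(bigSub X' g) →+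
    (totMod 𝒯 ψ hT X d hdd X' d' hdd' n).carrier where
  toFun u := (⟨strandIncl X X' g ((strandTensor X d hd hdd X' d' hd' hdd' g).π n u),
    ⟨segrePiece_le_diagM (bigGr X) (bigGr X') g (strandIncl_mem X X' g _), by
      rw [← (strandIncl_hom X d hd hdd X' d' hd' hdd' g).π,
        (strandTensor X d hd hdd X' d' hd' hdd' g).ππ]⟩⟩ :
      ↥(totSub 𝒯 ψ hT X d hdd X' d' hdd' n))
  map_zero' := by
    apply Subtype.ext
    show strandIncl X X' g ((strandTensor X d hd hdd X' d' hd' hdd' g).π n 0) = 0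
    rw [map_zero, map_zero]
  map_add' u u' := by
    apply Subtype.ext
    show strandIncl X X' g ((strandTensor X d hd hdd X' d' hd' hdd' g).π n (u + u')) =
      strandIncl X X' g ((strandTensor X d hd hdd X' d' hd' hdd' g).π n u) +
        strandIncl X X' g ((strandTensor X d hd hdd X' d' hd' hdd' g).π n u')
    rw [map_add, map_add]

theorem totJ_coe (n : ℕ) (u : ↥(bigSub X g) ⊗[k] ↥(bigSub X' g)) :
    Subtype.val (p := fun w => w ∈ totSub 𝒯 ψ hT X d hdd X' d' hdd' n)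
      (totJ 𝒯 ψ hT X d hd hdd X' d' hd' hdd' g n u) =
      strandIncl X X' g ((strandTensor X d hd hdd X' d' hd' hdd' g).π n u) := rfl

variable (mR : HomogeneousIdeal (plus 𝒜))
  (hmR : mR.toIdeal = Ideal.span (⋃ n ∈ Set.Ioi (0 : ℤ), (𝒜 n : Set R)))
  (mS : HomogeneousIdeal (plus ℬ))
  (hmS : mS.toIdeal = Ideal.span (⋃ n ∈ Set.Ioi (0 : ℤ), (ℬ n : Set S)))
  (mT : HomogeneousIdeal (plus 𝒯))
  (hmT : mT.toIdeal = Ideal.span (⋃ n ∈ Set.Ioi (0 : ℤ), (𝒯 n : Set T)))
  [IsNoetherianRing R] [IsNoetherianRing S] [IsNoetherianRing (R ⊗[k] S)]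

theorem torQ_strandIncl (u : ↥(bigSub X g) ⊗[k] ↥(bigSub X' g)) :
    torQ mR.toIdeal mS.toIdeal (Big X) (Big X') (strandIncl X X' g u) =
      TensorProduct.map (strandQ X g mR.toIdeal) (strandQ X' g mS.toIdeal)
        (DG.rho (gamSub X g mR.toIdeal) (gamSub X' g mS.toIdeal) u) := by
  unfold torQ strandIncl DG.rho
  rw [← LinearMap.comp_apply, ← LinearMap.comp_apply, ← TensorProduct.map_comp,
    ← TensorProduct.map_comp, strandQ_mkQ, strandQ_mkQ]

include hT hmR hmS hmT in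
theorem strandIncl_mem_gam_iff (u : ↥(bigSub X g) ⊗[k] ↥(bigSub X' g)) :
    (show XT ψ (Big X) (Big X') from strandIncl X X' g u) ∈
        GrLC.gam mT.toIdeal (XT ψ (Big X) (Big X')) ↔
      u ∈ LinearMap.ker (DG.rho (gamSub X g mR.toIdeal) (gamSub X' g mS.toIdeal)) := by
  rw [mem_gam_XT_iff 𝒜 ℬ 𝒯 ψ hT mR.toIdeal hmR mS.toIdeal hmS mT.toIdeal hmT (Big X) (Big X')]
  show torQ mR.toIdeal mS.toIdeal (Big X) (Big X') (strandIncl X X' g u) = 0 ↔ _
  rw [torQ_strandIncl, LinearMap.mem_ker]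
  have hinj : Function.Injective
      (TensorProduct.map (strandQ X g mR.toIdeal) (strandQ X' g mS.toIdeal)) :=
    TensorProduct.map_injective_of_flat_flat _ _ (strandQ_injective X g mR.toIdeal)
      (strandQ_injective X' g mS.toIdeal)
  constructor
  · intro h
    apply hinj
    rw [h, map_zero]
  · intro h
    rw [h, map_zero]

theorem mem_gam_totSub_iff (n : ℕ) (v : ↥(totSub 𝒯 ψ hT X d hdd X' d' hdd' n)) :
    v ∈ GrLC.gam mT.toIdeal ↥(totSub 𝒯 ψ hT X d hdd X' d' hdd' n) ↔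
      (v : XT ψ (Big X) (Big X')) ∈ GrLC.gam mT.toIdeal (XT ψ (Big X) (Big X')) := by
  constructor
  · rintro ⟨m, hm⟩
    exact ⟨m, fun t ht => by
      have := congrArg Subtype.val (hm t ht)
      exact this⟩
  · rintro ⟨m, hm⟩
    exact ⟨m, fun t ht => Subtype.ext (hm t ht)⟩

include hmR hmS hmT in
/-- **the bridge on the `T`-side** -/
theorem exists_tot_equiv (n : ℕ) :
    ∃ e : (strandTensor X d hd hdd X' d' hd' hdd' g).Hs
        (LinearMap.ker (DG.rho (gamSub X g mR.toIdeal) (gamSub X' g mS.toIdeal))) n ≃+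
        ↥(HHcomp mT (totMod 𝒯 ψ hT X d hdd X' d' hdd')
          (totDn 𝒯 ψ hT X d hd hdd X' d' hd' hdd') n g),
      ∀ (c : k) x, e (c • x) = kToDeg0 𝒯 c • e x := by
  refine bridge_exists_equiv mT (totMod 𝒯 ψ hT X d hdd X' d' hdd')
    (totDn 𝒯 ψ hT X d hd hdd X' d' hd' hdd') (totDn_grHom 𝒯 ψ hT X d hd hdd X' d' hd' hdd')
    (strandTensor X d hd hdd X' d' hd' hdd' g)
    (LinearMap.ker (DG.rho (gamSub X g mR.toIdeal) (gamSub X' g mS.toIdeal)))
    (kToDeg0 𝒯) g (totJ 𝒯 ψ hT X d hd hdd X' d' hd' hdd' g) ?_ ?_ ?_ ?_ ?_ ?_ ?_ n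
  · intro n u
    apply Subtype.ext
    rw [totJ_coe, totJ_coe, (strandTensor X d hd hdd X' d' hd' hdd' g).ππ]
  · intro n u hu h0
    have h1 : strandIncl X X' g ((strandTensor X d hd hdd X' d' hd' hdd' g).π n u) = 0 :=
      congrArg (Subtype.val (p := fun w => w ∈ totSub 𝒯 ψ hT X d hdd X' d' hdd' n)) h0
    rw [hu] at h1
    apply strandIncl_injective X X' g
    rw [h1, map_zero]
  · intro n u
    exact strandIncl_mem X X' g _
  · intro n (y : ↥(totSub 𝒯 ψ hT X d hdd X' d' hdd' n)) hy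
    obtain ⟨u, hu⟩ := segrePiece_le_range X X' g hy
    refine ⟨u, ?_⟩
    apply Subtype.ext
    rw [totJ_coe, (strandIncl_hom X d hd hdd X' d' hd' hdd' g).π, hu]
    exact y.2.2
  · intro n u
    apply Subtype.ext
    rw [totJ_coe, totDn_coe, totJ_coe, ← (strandTensor X d hd hdd X' d' hd' hdd' g).dπ,
      (strandIncl_hom X d hd hdd X' d' hd' hdd' g).d]
  · intro n u hu
    rw [← strandIncl_mem_gam_iff 𝒯 ψ hT X X' g mR hmR mS hmS mT hmT u]
    have h1 := mem_gam_totSub_iff 𝒯 ψ hT X d hdd X' d' hdd' mT n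
      (totJ 𝒯 ψ hT X d hd hdd X' d' hd' hdd' g n u)
    rw [totJ_coe, hu] at h1
    exact h1.symm
  · intro n c u
    apply Subtype.ext
    show strandIncl X X' g ((strandTensor X d hd hdd X' d' hd' hdd' g).π n (c • u)) =
      algebraMap k T c • (show XT ψ (Big X) (Big X') from
        strandIncl X X' g ((strandTensor X d hd hdd X' d' hd' hdd' g).π n u))
    rw [map_smul, map_smul, algebraMap_smul]
    rfl

end Bridge

end Groth.Agent.Helper7.Kun
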