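import Mathlib
import Groth.Prelude.Def_GrLC
import Groth.Prelude.Def_Wider
import Groth.Prelude.Def_GrSeg
import Groth.Agent.Helper7.KunV
import Groth.Agent.Helper7.GrFinD
import Groth.Agent.Helper7.SegOneC

/-!
# Künneth project, part W: dimensions on the `R`-side, and the Künneth dimension formula for Segre products.
-/

set_option autoImplicit false
set_option linter.unusedSectionVars false
set_option linter.style.haveILetI false

namespace Groth.Agent.Helper7.Kun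

open TensorProduct Groth.Agent.Helper9.SegreMod Groth.Agent.Helper9.Segre
  Groth.Agent.Helper7.SegMod Groth.Agent.Helper7.KunLA Groth.Agent.Helper7.GrAcy

universe u

attribute [local instance] gmodModuleK gmodTowerK

section Deg0S

variable {k R : Type u} [Field k] [CommRing R] [Algebra k R]
  (𝒜 : ℤ → Submodule k R) [GradedAlgebra 𝒜]

/-- the structure map `k → R_0`, for the grading by subspaces -/
noncomputable def kToDeg0S : k →+* GrLC.deg0 𝒜 :=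
  (algebraMap k R).codRestrict (GrLC.deg0 𝒜) (fun c => SetLike.algebraMap_mem_graded 𝒜 c)

theorem kToDeg0S_coe (c : k) : ((kToDeg0S 𝒜 c : GrLC.deg0 𝒜) : R) = algebraMap k R c := rfl

variable {𝒜} in
theorem kToDeg0S_bijective [Nontrivial R] (h0 : 𝒜 0 = Submodule.span k {(1 : R)}) :
    Function.Bijective (kToDeg0S 𝒜) := by
  constructor
  · intro c c' h
    have h1 := congrArg Subtype.val h
    exact (algebraMap k R).injective h1
  · rintro ⟨x, hx⟩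
    have hx' : x ∈ 𝒜 0 := hx
    rw [h0, Submodule.mem_span_singleton] at hx'
    obtain ⟨c, rfl⟩ := hx'
    refine ⟨c, Subtype.ext ?_⟩
    rw [kToDeg0S_coe, Algebra.algebraMap_eq_smul_one]

end Deg0S

section RSide

variable {k R : Type u} [Field k] [CommRing R] [Nontrivial R] [Algebra k R]
  {𝒜 : ℤ → Submodule k R} [GradedAlgebra 𝒜]
  (hpos : ∀ n : ℤ, n < 0 → 𝒜 n = ⊥) (h0 : 𝒜 0 = Submodule.span k {(1 : R)})
  [IsNoetherianRing R]
  (mR : HomogeneousIdeal 𝒜)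
  (hmR : mR.toIdeal = Ideal.span (⋃ n ∈ Set.Ioi (0 : ℤ), (𝒜 n : Set R)))
  {M : Type u} [AddCommGroup M] [Module R M] {ℳ : ℤ → AddSubgroup M}
  [DirectSum.Decomposition ℳ] [SetLike.GradedSMul 𝒜 ℳ] [Module.Finite R M]
  (EM : GrLC.StarInjRes 𝒜 ℳ) (g : ℤ)

theorem res_dd (n : ℕ) (x : (EM.X n).carrier) : EM.d (n + 1) (EM.d n x) = 0 := by
  have h : EM.d n x ∈ LinearMap.ker (EM.d (n + 1)) := by
    rw [EM.exact_succ]; exact ⟨x, rfl⟩
  exact h

/-- the degree-`g` strand of a *injective resolution -/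
noncomputable abbrev resDG : DG k ↥(bigSub EM.X g) :=
  strandDG EM.X EM.d EM.d_grHom (res_dd EM) g

include h0 in
theorem rank_resHs (i : ℕ) :
    Module.rank k ((resDG EM g).Hs (gamSub EM.X g mR.toIdeal) i) =
      Module.rank (GrLC.deg0 𝒜) (EM.Hcomp mR i g) :=
  rank_strand_eq EM.X EM.d EM.d_grHom (res_dd EM) g (idealPlus 𝒜 mR) (kToDeg0_bijective 𝒜 h0) i

include h0 in
theorem finrank_resHs (i : ℕ) :
    Module.finrank k ((resDG EM g).Hs (gamSub EM.X g mR.toIdeal) i) =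
      Module.finrank (GrLC.deg0 𝒜) (EM.Hcomp mR i g) :=
  congrArg Cardinal.toNat (rank_resHs h0 mR EM g i)

include hpos in
theorem hpos_plus (n : ℤ) (hn : n < 0) : plus 𝒜 n = ⊥ := by
  rw [eq_bot_iff]
  intro x hx
  have h1 : x ∈ 𝒜 n := hx
  rw [hpos n hn] at h1
  exact (AddSubgroup.mem_bot).mpr ((Submodule.mem_bot k).mp h1)

include hpos hmR in
theorem finite_Hcomp (i : ℕ) : Module.Finite (GrLC.deg0 𝒜) (EM.Hcomp mR i g) := by
  haveI : SetLike.GradedSMul (plus 𝒜) ℳ := gradedSMul_plus 𝒜 ℳ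
  let XM : GrLC.GMod.{u} (plus 𝒜) := { carrier := M, gr := ℳ }
  haveI : Module.Finite R XM.carrier := ‹Module.Finite R M›
  have h := Groth.Agent.Helper7.GrFinD.finite (plus 𝒜) (hpos_plus hpos) (idealPlus 𝒜 mR) hmR i XM
    (resPlus 𝒜 EM) g
  exact Module.Finite.iff_fg.mpr h

include hpos hmR h0 in
theorem finite_resHs (i : ℕ) :
    FiniteDimensional k ((resDG EM g).Hs (gamSub EM.X g mR.toIdeal) i) := by
  haveI : Module.Finite ↥(GrLC.deg0 (plus 𝒜))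
      ↥(HHcomp (idealPlus 𝒜 mR) (fun n => gmodPlus 𝒜 (EM.X n)) EM.d i g) :=
    finite_Hcomp hpos mR hmR EM g i
  exact finite_strand EM.X EM.d EM.d_grHom (res_dd EM) g (idealPlus 𝒜 mR)
    (kToDeg0_bijective 𝒜 h0) i

theorem res_acyclic (n : ℕ) (hn : 1 ≤ n) :
    (resDG EM g).Zs ⊤ n ≤ (resDG EM g).Bs ⊤ n := by
  obtain ⟨n, rfl⟩ := Nat.exists_eq_add_of_le' hn
  exact strand_acyclic EM.X EM.d EM.d_grHom (res_dd EM) g n (EM.exact_succ n)

include h0 in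
theorem res_Zs_le_Bs (i : ℕ) (h : EM.Hcomp mR i g = ⊥) :
    (resDG EM g).Zs (gamSub EM.X g mR.toIdeal) i ≤ (resDG EM g).Bs (gamSub EM.X g mR.toIdeal) i := by
  have h1 := rank_resHs h0 mR EM g i
  rw [h, rank_bot] at h1
  exact (resDG EM g).Zs_le_Bs_of_subsingleton (rank_zero_iff.mp h1)

include h0 in
theorem res_Zs_zero (h : EM.Hcomp mR 0 g = ⊥) :
    (resDG EM g).Zs (gamSub EM.X g mR.toIdeal) 0 = ⊥ := by
  rw [eq_bot_iff]
  refine (res_Zs_le_Bs h0 mR EM g 0 h).trans ?_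
  intro z hz
  obtain ⟨y, -, hy, rfl⟩ := (resDG EM g).mem_Bs.mp hz
  have hy0 : y = 0 := (Submodule.mem_bot k).mp hy
  rw [hy0, map_zero]
  exact Submodule.zero_mem _

/-- the additive equivalence `M_g ≃ Z^0` of the strand -/
noncomputable def resZ0 : ↥((resDG EM g).Zs ⊤ 0) ≃+ ↥(GrLC.comp 𝒜 ℳ g) :=
  (AddEquiv.ofBijective
    (strandZ0 EM.X EM.d EM.d_grHom (res_dd EM) g EM.ε EM.ε_grHom EM.exact_zero)
    (strandZ0_bijective EM.X EM.d EM.d_grHom (res_dd EM) g EM.ε EM.ε_grHom EM.ε_injective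
      EM.exact_zero)).symm

theorem resZ0_smul (c : k) (z : ↥((resDG EM g).Zs ⊤ 0)) :
    resZ0 EM g (c • z) = kToDeg0S 𝒜 c • resZ0 EM g z := by
  apply (AddEquiv.ofBijective
    (strandZ0 EM.X EM.d EM.d_grHom (res_dd EM) g EM.ε EM.ε_grHom EM.exact_zero)
    (strandZ0_bijective EM.X EM.d EM.d_grHom (res_dd EM) g EM.ε EM.ε_grHom EM.ε_injective
      EM.exact_zero)).injective
  unfold resZ0
  rw [AddEquiv.apply_symm_apply]
  apply Subtype.ext
  apply Subtype.ext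
  rw [AddEquiv.ofBijective_apply, strandZ0_coe]
  set e := AddEquiv.ofBijective
    (strandZ0 EM.X EM.d EM.d_grHom (res_dd EM) g EM.ε EM.ε_grHom EM.exact_zero)
    (strandZ0_bijective EM.X EM.d EM.d_grHom (res_dd EM) g EM.ε EM.ε_grHom EM.ε_injective
      EM.exact_zero) with he
  have hz : inc EM.X 0 (EM.ε ((e.symm z : ↥(GrLC.comp 𝒜 ℳ g)) : M)) =
      ((z : ↥(bigSub EM.X g)) : Big EM.X) := by
    rw [← strandZ0_coe EM.X EM.d EM.d_grHom (res_dd EM) g EM.ε EM.ε_grHom EM.exact_zero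
      (e.symm z)]
    have h1 : strandZ0 EM.X EM.d EM.d_grHom (res_dd EM) g EM.ε EM.ε_grHom EM.exact_zero
        (e.symm z) = z := e.apply_symm_apply z
    rw [h1]
  show c • ((z : ↥(bigSub EM.X g)) : Big EM.X) =
    inc EM.X 0 (EM.ε ((algebraMap k R c) • ((e.symm z : ↥(GrLC.comp 𝒜 ℳ g)) : M)))
  rw [map_smul, map_smul, hz, algebra_compatible_smul R c]

include h0 in
theorem rank_resZs :
    Module.rank k ↥((resDG EM g).Zs ⊤ 0) = Module.rank (GrLC.deg0 𝒜) ↥(GrLC.comp 𝒜 ℳ g) :=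
  rank_eq_of_equiv_equiv (kToDeg0S 𝒜) (resZ0 EM g) (kToDeg0S_bijective h0) (resZ0_smul EM g)

include h0 in
theorem finrank_resZs :
    Module.finrank k ↥((resDG EM g).Zs ⊤ 0) = Module.finrank (GrLC.deg0 𝒜) ↥(GrLC.comp 𝒜 ℳ g) :=
  congrArg Cardinal.toNat (rank_resZs h0 EM g)

include h0 in
theorem finite_resZs : FiniteDimensional k ↥((resDG EM g).Zs ⊤ 0) := by
  haveI : IsNoetherian R M := isNoetherian_of_isNoetherianRing_of_finite R M
  haveI : SetLike.GradedSMul (plus 𝒜) ℳ := gradedSMul_plus 𝒜 ℳ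
  haveI : Module.Finite (GrLC.deg0 𝒜) ↥(GrLC.comp 𝒜 ℳ g) :=
    Module.Finite.iff_fg.mpr (comp_fg (plus 𝒜) ℳ g)
  exact finite_of_addEquiv (kToDeg0S 𝒜) (kToDeg0S_bijective h0).2 (resZ0 EM g) (resZ0_smul EM g)

end RSide

section Main

variable {k : Type u} [Field k] {R : Type u} [CommRing R] [Nontrivial R] [Algebra k R]
  {𝒜 : ℤ → Submodule k R} [GradedAlgebra 𝒜]
  (hposR : ∀ n : ℤ, n < 0 → 𝒜 n = ⊥) (h0R : 𝒜 0 = Submodule.span k {(1 : R)})
  [Algebra.FiniteType k R]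
  {S : Type u} [CommRing S] [Nontrivial S] [Algebra k S]
  {ℬ : ℤ → Submodule k S} [GradedAlgebra ℬ]
  (hposS : ∀ n : ℤ, n < 0 → ℬ n = ⊥) (h0S : ℬ 0 = Submodule.span k {(1 : S)})
  [Algebra.FiniteType k S]
  {T : Type u} [CommRing T] [Algebra k T] (𝒯 : ℤ → Submodule k T) [GradedAlgebra 𝒯]
  (ψ : T →ₐ[k] R ⊗[k] S) (hT : GrSeg.IsSegreRing 𝒜 ℬ 𝒯 ψ)
  (mR : HomogeneousIdeal 𝒜)
  (hmR : mR.toIdeal = Ideal.span (⋃ n ∈ Set.Ioi (0 : ℤ), (𝒜 n : Set R)))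
  (mS : HomogeneousIdeal ℬ)
  (hmS : mS.toIdeal = Ideal.span (⋃ n ∈ Set.Ioi (0 : ℤ), (ℬ n : Set S)))
  (mT : HomogeneousIdeal 𝒯)
  (hmT : mT.toIdeal = Ideal.span (⋃ n ∈ Set.Ioi (0 : ℤ), (𝒯 n : Set T)))
  {M : Type u} [AddCommGroup M] [Module R M] [Module k M] [IsScalarTower k R M]
  {ℳ : ℤ → AddSubgroup M} [DirectSum.Decomposition ℳ] [SetLike.GradedSMul 𝒜 ℳ]
  [Module.Finite R M] (EM : GrLC.StarInjRes 𝒜 ℳ)
  {N : Type u} [AddCommGroup N] [Module S N] [Module k N] [IsScalarTower k S N]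
  {𝒩 : ℤ → AddSubgroup N} [DirectSum.Decomposition 𝒩] [SetLike.GradedSMul ℬ 𝒩]
  [Module.Finite S N] (EN : GrLC.StarInjRes ℬ 𝒩)
  {P : Type u} [AddCommGroup P] [Module T P] [Module k P] [IsScalarTower k T P]
  {𝒬 : ℤ → AddSubgroup P} [DirectSum.Decomposition 𝒬] [SetLike.GradedSMul 𝒯 𝒬]
  (φ : P →ₗ[k] M ⊗[k] N) (hP : GrSeg.IsSegreMod ψ ℳ 𝒩 𝒬 φ)
  (EP : GrLC.StarInjRes 𝒯 𝒬)

include hposR h0R hposS h0S hT hmR hmS hmT hP in
/-- **Künneth dimension formula** for the graded local cohomology of a Segre product of modules of depth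
at least two (in the given degree) -/
theorem kunneth_finrank (d : ℤ)
    (hM0 : EM.Hcomp mR 0 d = ⊥) (hM1 : EM.Hcomp mR 1 d = ⊥)
    (hN0 : EN.Hcomp mS 0 d = ⊥) (hN1 : EN.Hcomp mS 1 d = ⊥) (q : ℕ) :
    Module.finrank (GrLC.deg0 𝒯) (EP.Hcomp mT q d) =
      Module.finrank (GrLC.deg0 𝒜) (GrLC.comp 𝒜 ℳ d) *
          Module.finrank (GrLC.deg0 ℬ) (EN.Hcomp mS q d) +
        Module.finrank (GrLC.deg0 𝒜) (EM.Hcomp mR q d) *
          Module.finrank (GrLC.deg0 ℬ) (GrLC.comp ℬ 𝒩 d) +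
        (Finset.range (q + 2)).sum (fun i =>
          Module.finrank (GrLC.deg0 𝒜) (EM.Hcomp mR i d) *
            Module.finrank (GrLC.deg0 ℬ) (EN.Hcomp mS (q + 1 - i) d)) := by
  haveI : IsNoetherianRing R := Algebra.FiniteType.isNoetherianRing k R
  haveI : IsNoetherianRing S := Algebra.FiniteType.isNoetherianRing k S
  haveI : IsNoetherianRing (R ⊗[k] S) := isNoetherianRing_tensor k R S
  haveI : Nontrivial (R ⊗[k] S) :=
    Algebra.TensorProduct.nontrivial_of_algebraMap_injective_of_flat_left k R S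
      (algebraMap k S).injective
  haveI : Nontrivial T := ψ.toRingHom.domain_nontrivial
  haveI : SetLike.GradedSMul (plus 𝒯) 𝒬 := gradedSMul_plus 𝒯 𝒬
  have h0T : 𝒯 0 = Submodule.span k {(1 : T)} :=
    Groth.Agent.Helper7.SegOne.segre_h0 𝒜 ℬ 𝒯 ψ hT.1 hT.2 h0R h0S
  have hE : ∀ i, FgExt (plus 𝒜) (gmodPlus 𝒜 (EM.X i)).carrier := fun i =>
    fgExt_of_isStarInj (plus 𝒜) (gmodPlus 𝒜 (EM.X i)).gr
      (isStarInj_gmodPlus 𝒜 (EM.X i) (EM.starInj i))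
  have hN : ∀ i, FgExt (plus ℬ) (gmodPlus ℬ (EN.X i)).carrier := fun i =>
    fgExt_of_isStarInj (plus ℬ) (gmodPlus ℬ (EN.X i)).gr
      (isStarInj_gmodPlus ℬ (EN.X i) (EN.starInj i))
  obtain ⟨e1⟩ := tot_compare 𝒯 ψ hT EM.X EM.d EM.d_grHom (res_dd EM) EN.X EN.d EN.d_grHom
    (res_dd EN) ℳ 𝒩 𝒬 φ hP EM.ε EM.ε_grHom EM.ε_injective EM.exact_zero EM.exact_succ
    EN.ε EN.ε_grHom EN.ε_injective EN.exact_zero EN.exact_succ
    (idealPlus 𝒜 mR) hmR (idealPlus ℬ mS) hmS (idealPlus 𝒯 mT) hmT hE hN (resPlus 𝒯 EP) q d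
  obtain ⟨e2, he2⟩ := exists_tot_equiv 𝒯 ψ hT EM.X EM.d EM.d_grHom (res_dd EM) EN.X EN.d
    EN.d_grHom (res_dd EN) d (idealPlus 𝒜 mR) hmR (idealPlus ℬ mS) hmS (idealPlus 𝒯 mT) hmT q
  have r1 : Module.finrank (GrLC.deg0 𝒯) (EP.Hcomp mT q d) =
      Module.finrank (GrLC.deg0 (plus 𝒯)) ↥(HHcomp (idealPlus 𝒯 mT)
        (totMod 𝒯 ψ hT EM.X EM.d (res_dd EM) EN.X EN.d (res_dd EN))
        (totDn 𝒯 ψ hT EM.X EM.d EM.d_grHom (res_dd EM) EN.X EN.d EN.d_grHom (res_dd EN)) q d) :=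
    e1.finrank_eq
  have r2 := congrArg Cardinal.toNat
    (rank_eq_of_equiv_equiv (kToDeg0 𝒯) e2 (kToDeg0_bijective 𝒯 h0T) he2)
  have r3 := DG.main_finrank (resDG EM d) (resDG EN d)
    (gamSub EM.X d mR.toIdeal) (gamSub_stable EM.X EM.d EM.d_grHom (res_dd EM) d mR.toIdeal)
    (gamSub EN.X d mS.toIdeal) (gamSub_stable EN.X EN.d EN.d_grHom (res_dd EN) d mS.toIdeal)
    (res_acyclic EM d) (res_acyclic EN d)
    (res_Zs_zero h0R mR EM d hM0) (res_Zs_le_Bs h0R mR EM d 1 hM1)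
    (res_Zs_zero h0S mS EN d hN0) (res_Zs_le_Bs h0S mS EN d 1 hN1)
    (finite_resZs h0R EM d) (fun i => finite_resHs hposR h0R mR hmR EM d i)
    (finite_resZs h0S EN d) (fun i => finite_resHs hposS h0S mS hmS EN d i) q
  rw [finrank_resZs h0R EM d, finrank_resZs h0S EN d, finrank_resHs h0R mR EM d q,
    finrank_resHs h0S mS EN d q] at r3
  rw [r1]
  refine (r2.symm.trans r3).trans ?_
  congr 1
  apply Finset.sum_congr rfl
  intro i _
  rw [finrank_resHs h0R mR EM d i, finrank_resHs h0S mS EN d (q + 1 - i)]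

end Main

end Groth.Agent.Helper7.Kun
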