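import Mathlib
import Groth.Agent.Helper7.SegOneC
import Groth.Agent.Helper2.DepthCM

/-!
# A socle element modulo a regular element bounds the depth; tensor product lemmas (helper7)
-/

set_option autoImplicit false
set_option linter.unusedSectionVars false
universe u

namespace Groth.Agent.Helper7.SegOne

open DirectSum TensorProduct Groth.Agent.Helper7.SegDim
open scoped Pointwise

/-- if `t ∈ I` is regular and some `w ∉ (t)` has `I w ⊆ (t)`, then the `I`-depth of the ring is `1` -/
theorem idealDepth_eq_one {A : Type u} [CommRing A] [IsNoetherianRing A] (I : Ideal A)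
    (hI : I ≠ ⊤) (t w : A) (ht : t ∈ I) (hreg : IsSMulRegular A t)
    (hw : w ∉ Ideal.span {t}) (hsoc : ∀ u ∈ I, u * w ∈ Ideal.span {t}) :
    LocCoh.idealDepth I A = 1 := by
  have hIM : I • (⊤ : Submodule A A) ≠ ⊤ := Groth.Agent.Helper7.CMRing.smul_top_ne_top I hI
  have h1 := Groth.Agent.Helper2.DepthCM.idealDepth_quotSMulTop I A hIM t ht hreg
  have hIM' : I • (⊤ : Submodule A (QuotSMulTop t A)) ≠ ⊤ :=
    Groth.Agent.Helper2.DepthRees.smul_top_quotSMulTop_ne_top ht hIM
  obtain ⟨rs, h2, h3, -, h4⟩ :=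
    Groth.Agent.Helper2.DepthCM.exists_length_eq_idealDepth I (QuotSMulTop t A) hIM'
  have hmem : ∀ a : A, a ∈ (t • (⊤ : Submodule A A)) ↔ a ∈ Ideal.span {t} := by
    intro a
    rw [Submodule.mem_smul_pointwise_iff_exists, Ideal.mem_span_singleton']
    constructor
    · rintro ⟨b, -, hb⟩
      exact ⟨b, by rw [← hb, smul_eq_mul, mul_comm]⟩
    · rintro ⟨b, hb⟩
      exact ⟨b, trivial, by rw [← hb, smul_eq_mul, mul_comm]⟩
  have hrs : rs = [] := by
    cases rs with
    | nil => rfl
    | cons r rs' =>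
      exfalso
      have hr : IsSMulRegular (QuotSMulTop t A) r :=
        ((RingTheory.Sequence.isWeaklyRegular_cons_iff _ r rs').1 h2).1
      have hrI : r ∈ I := h3 r (List.mem_cons_self ..)
      have h5 : r • (Submodule.Quotient.mk w : QuotSMulTop t A) = r • 0 := by
        rw [smul_zero, ← Submodule.Quotient.mk_smul, Submodule.Quotient.mk_eq_zero, hmem]
        exact hsoc r hrI
      have h6 := hr h5
      rw [Submodule.Quotient.mk_eq_zero, hmem] at h6
      exact hw h6
  rw [hrs, List.length_nil, Nat.cast_zero] at h4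
  rw [← h1, ← h4, zero_add]

section Tensor

variable {k R S : Type u} [Field k] [CommRing R] [Algebra k R] [CommRing S] [Algebra k S]

/-- `x ⊗ y` is a non-zero-divisor when `x` and `y` are -/
theorem isSMulRegular_tmul {x : R} {y : S} (hx : IsSMulRegular R x) (hy : IsSMulRegular S y) :
    IsSMulRegular (R ⊗[k] S) (x ⊗ₜ[k] y) := by
  have h1 : Function.Injective (LinearMap.rTensor S (LinearMap.mulLeft k x)) :=
    Module.Flat.rTensor_preserves_injective_linearMap _ hx
  have h2 : Function.Injective (LinearMap.lTensor R (LinearMap.mulLeft k y)) :=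
    Module.Flat.lTensor_preserves_injective_linearMap _ hy
  have h3 : ∀ v : R ⊗[k] S, (x ⊗ₜ[k] y) * v =
      LinearMap.rTensor S (LinearMap.mulLeft k x) (LinearMap.lTensor R (LinearMap.mulLeft k y) v) := by
    intro v
    induction v using TensorProduct.induction_on with
    | zero => simp
    | tmul a b => simp [Algebra.TensorProduct.tmul_mul_tmul]
    | add v w hv hw => rw [mul_add, hv, hw, map_add, map_add]
  intro v w hvw
  simp only [smul_eq_mul, h3] at hvw
  exact h2 (h1 hvw)

/-- `a ⊗ s` with `a ∉ (x)`, `s ≠ 0` is not a multiple of `x ⊗ y` -/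
theorem tmul_notMem {x a : R} {y s : S} (ha : a ∉ Ideal.span {x}) (hs : s ≠ 0) :
    a ⊗ₜ[k] s ∉ Ideal.span {x ⊗ₜ[k] y} := by
  intro hmem
  obtain ⟨v, hv⟩ := Ideal.mem_span_singleton'.1 hmem
  let W : Submodule k R := LinearMap.range (LinearMap.mulLeft k x)
  have haW : a ∉ W := by
    rintro ⟨r, hr⟩
    apply ha
    rw [Ideal.mem_span_singleton']
    exact ⟨r, by rw [← hr, LinearMap.mulLeft_apply, mul_comm]⟩
  obtain ⟨f, hfa, hfW⟩ := Submodule.exists_dual_map_eq_bot_of_notMem haW inferInstance
  let Λ : R ⊗[k] S →ₗ[k] S := (TensorProduct.lid k S).toLinearMap ∘ₗ (LinearMap.rTensor S f)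
  have hΛ : ∀ (r : R) (b : S), Λ (r ⊗ₜ[k] b) = f r • b := by
    intro r b
    simp [Λ]
  have hfx : ∀ r : R, f (x * r) = 0 := by
    intro r
    have : f (x * r) ∈ W.map f := ⟨x * r, ⟨r, rfl⟩, rfl⟩
    rw [hfW] at this
    exact (Submodule.mem_bot k).1 this
  have h1 : ∀ v : R ⊗[k] S, Λ (v * (x ⊗ₜ[k] y)) = 0 := by
    intro v
    induction v using TensorProduct.induction_on with
    | zero => simp
    | tmul r b => rw [Algebra.TensorProduct.tmul_mul_tmul, hΛ, mul_comm r x, hfx, zero_smul]
    | add v w hv hw => rw [add_mul, map_add, hv, hw, add_zero]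
  have h2 := h1 v
  rw [hv, hΛ] at h2
  exact hs ((smul_eq_zero.1 h2).resolve_left hfa)

end Tensor

end Groth.Agent.Helper7.SegOne
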