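import Mathlib
import Groth.Agent.Helper7.SegOneD

/-!
# Socle elements of a one-dimensional standard graded ring modulo a regular element (helper7)
-/

set_option autoImplicit false
set_option linter.unusedSectionVars false
universe u

namespace Groth.Agent.Helper7.SegOne

open DirectSum TensorProduct Polynomial Groth.Agent.Helper7.SegDim

variable {k R : Type u} [Field k] [CommRing R] [Algebra k R] (𝒜 : ℤ → Submodule k R) [GradedAlgebra 𝒜]
  (hpos : ∀ n : ℤ, n < 0 → 𝒜 n = ⊥) (h0 : 𝒜 0 = Submodule.span k {(1 : R)})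
  (hstd : Ideal.span (⋃ n ∈ Set.Ioi (0 : ℤ), (𝒜 n : Set R)) = Ideal.span ((𝒜 1 : Submodule k R) : Set R))

/-- a homogeneous multiple of a homogeneous element has a homogeneous cofactor -/
theorem exists_homog_cofactor {e n : ℤ} {x a : R} (hx : x ∈ 𝒜 e) (ha : a ∈ 𝒜 (e + n))
    (hmem : a ∈ Ideal.span {x}) : ∃ a' ∈ 𝒜 n, a = x * a' := by
  obtain ⟨r, hr⟩ := Ideal.mem_span_singleton'.1 hmem
  refine ⟨(decompose 𝒜 r n : R), SetLike.coe_mem _, ?_⟩
  have h1 : a = (decompose 𝒜 a (e + n) : R) := by rw [decompose_of_mem_same 𝒜 ha]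
  rw [h1, ← hr, mul_comm r x, coe_decompose_mul_add_of_left_mem 𝒜 hx]

include hstd in
/-- in a standard graded ring with a homogeneous non-zero-divisor all pieces of nonnegative degree
are nonzero -/
theorem exists_ne_zero_piece [Nontrivial R] {e : ℕ} (he : 0 < e) {y : R} (hy : y ∈ 𝒜 (e : ℤ))
    (hreg : IsSMulRegular R y) (j : ℕ) : ∃ b ∈ 𝒜 (j : ℤ), b ≠ 0 := by
  by_contra hcon
  push Not at hcon
  have h1 : ∀ n : ℕ, ∀ b ∈ 𝒜 ((j + n : ℕ) : ℤ), b = 0 := by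
    intro n
    induction n with
    | zero => exact hcon
    | succ n ih =>
      intro b hb
      have h2 : 𝒜 (((j + n : ℕ) : ℤ) + 1) ≤ ⊥ := by
        refine le_trans (Groth.Agent.Helper9.SegreNu.succ_le 𝒜 hstd _ (Int.natCast_nonneg _)) ?_
        rw [Submodule.span_le]
        rintro _ ⟨b', hb', z', -, rfl⟩
        rw [ih b' hb', zero_mul]
        exact zero_mem _
      have h3 : ((j + (n + 1) : ℕ) : ℤ) = ((j + n : ℕ) : ℤ) + 1 := by push_cast; ring
      rw [h3] at hb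
      exact (Submodule.mem_bot k).1 (h2 hb)
  have h4 : y ^ j ∈ 𝒜 ((j + (j * e - j) : ℕ) : ℤ) := by
    have := SetLike.pow_mem_graded j hy
    have h5 : j + (j * e - j) = j * e := by
      have : j ≤ j * e := Nat.le_mul_of_pos_right j he
      omega
    rw [h5]
    rwa [nsmul_eq_mul, ← Nat.cast_mul] at this
  have h6 := h1 _ _ h4
  have h7 : IsSMulRegular R (y ^ j) := hreg.pow j
  rw [h6] at h7
  exact (IsSMulRegular.not_zero (M := R) (R := R)) h7

include hpos h0 hstd in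
/-- **The socle element**: if `R` (standard graded, one-dimensional) is not a polynomial ring, then
modulo a homogeneous non-zero-divisor `x` of degree `e > 0` there is a homogeneous `a ∉ (x)` of
degree `j + e` with `R_i a ⊆ x R_{i+j}` for all `i > 0`. -/
theorem exists_socle [Algebra.FiniteType k R] [Nontrivial R] (hdim : ringKrullDim R ≤ 1)
    (hnp : ¬ Nonempty (R ≃ₐ[k] k[X])) {e : ℕ} (he : 0 < e) {x : R} (hx : x ∈ 𝒜 (e : ℤ))
    (hreg : IsSMulRegular R x) :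
    ∃ (j : ℕ) (a : R), a ∈ 𝒜 ((j + e : ℕ) : ℤ) ∧ a ∉ Ideal.span {x} ∧
      ∀ i : ℕ, 0 < i → ∀ a' ∈ 𝒜 (i : ℤ), ∃ a'' ∈ 𝒜 ((i + j : ℕ) : ℤ), a' * a = x * a'' := by
  classical
  obtain ⟨N, hN⟩ := exists_bound 𝒜 hx hreg hdim
  let Q : ℕ → Prop := fun n => e ≤ n ∧ ¬ (∀ a ∈ 𝒜 (n : ℤ), a ∈ Ideal.span {x})
  have hQe : Q e := by
    refine ⟨le_rfl, fun hall => hnp ?_⟩
    have hRe : ∀ a ∈ 𝒜 (e : ℤ), ∃ c : k, a = c • x := by
      intro a ha
      obtain ⟨a', ha', haa'⟩ := exists_homog_cofactor 𝒜 (n := 0) hx (by rwa [add_zero]) (hall a ha)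
      obtain ⟨c, rfl⟩ := exists_smul_one 𝒜 h0 a' ha'
      exact ⟨c, by rw [haa', Algebra.mul_smul_comm, mul_one]⟩
    obtain ⟨z, hz1, hzreg, h1⟩ := exists_gen_of_piece_le 𝒜 hstd e he hx hreg hRe
    exact ⟨AlgEquiv.ofBijective (aeval z) (bijective_aeval 𝒜 hpos h0 hstd hz1 h1 hzreg) |>.symm⟩
  have heN : e ≤ N := by
    by_contra hlt
    exact hQe.2 (hN e (by exact_mod_cast (not_le.1 hlt).le))
  set n₁ := Nat.findGreatest Q N with hn₁
  have hQn₁ : Q n₁ := Nat.findGreatest_spec heN hQe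
  have hgt : ∀ n : ℕ, n₁ < n → ∀ a ∈ 𝒜 (n : ℤ), a ∈ Ideal.span {x} := by
    intro n hn
    by_cases hnN : n ≤ N
    · have h1 : ¬ Q n := Nat.findGreatest_is_greatest hn hnN
      by_contra hcon
      exact h1 ⟨le_trans hQn₁.1 hn.le, hcon⟩
    · exact hN n (by exact_mod_cast (not_le.1 hnN).le)
  obtain ⟨j, hj⟩ : ∃ j, n₁ = j + e := ⟨n₁ - e, by have := hQn₁.1; omega⟩
  have h2 := hQn₁.2
  push Not at h2
  obtain ⟨a, ha, hax⟩ := h2
  refine ⟨j, a, by rwa [← hj], hax, ?_⟩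
  intro i hi a' ha'
  have h3 : a' * a ∈ 𝒜 ((i + n₁ : ℕ) : ℤ) := by
    have := SetLike.mul_mem_graded ha' ha
    rwa [← Nat.cast_add] at this
  have h4 := hgt (i + n₁) (by omega) _ h3
  have h5 : ((i + n₁ : ℕ) : ℤ) = (e : ℤ) + ((i + j : ℕ) : ℤ) := by
    rw [hj]; push_cast; ring
  rw [h5] at h3
  exact exists_homog_cofactor 𝒜 hx h3 h4

end Groth.Agent.Helper7.SegOne
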