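import Mathlib
import Groth.Agent.Helper7.SegOneE
import Groth.Agent.S18647

/-!
# `R # S` is Cohen–Macaulay iff `R` is a polynomial ring (`dim R = 1`, `dim S ≥ 2`, standard graded)
(helper7)
-/

set_option autoImplicit false
set_option linter.unusedSectionVars false
universe u

namespace Groth.Agent.Helper7.SegOne

open DirectSum TensorProduct Polynomial Groth.Agent.Helper7.SegDim

/-- the dimension of a nonzero algebra of finite type over a field is a natural number -/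
theorem exists_nat_dim (k S : Type u) [Field k] [CommRing S] [Algebra k S] [Algebra.FiniteType k S]
    [Nontrivial S] : ∃ s : ℕ, ringKrullDim S = s := by
  obtain ⟨n, f, hf⟩ := Algebra.FiniteType.iff_quotient_mvPolynomial''.1
    (inferInstance : Algebra.FiniteType k S)
  have h1 := ringKrullDim_le_of_surjective f.toRingHom hf
  rw [MvPolynomial.ringKrullDim_of_isNoetherianRing, ringKrullDim_eq_zero_of_field] at h1
  simp only [Nat.card_eq_fintype_card, Fintype.card_fin, zero_add] at h1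
  have h2 : ringKrullDim S ≠ ⊥ := by
    intro h
    have := ringKrullDim_nonneg_of_nontrivial (R := S)
    rw [h] at this
    exact absurd this (by simp)
  generalize ringKrullDim S = d at h1 h2
  induction d using WithBot.recBotCoe with
  | bot => exact absurd rfl h2
  | coe d =>
    induction d using ENat.recTopCoe with
    | top =>
      exfalso
      have : (⊤ : ℕ∞) ≤ (n : ℕ∞) := by exact_mod_cast h1
      simp at this
    | coe m => exact ⟨m, rfl⟩

section Main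

variable {k R S T : Type u} [Field k] [CommRing R] [Algebra k R] (𝒜 : ℤ → Submodule k R)
  [GradedAlgebra 𝒜] [CommRing S] [Algebra k S] (ℬ : ℤ → Submodule k S) [GradedAlgebra ℬ]
  [CommRing T] [Algebra k T] (𝒯 : ℤ → Submodule k T) [GradedAlgebra 𝒯]
  (ψ : T →ₐ[k] R ⊗[k] S) (hψ : Function.Injective ψ)
  (hdegT : ∀ n : ℤ, (𝒯 n).map ψ.toLinearMap =
    Submodule.span k {x : R ⊗[k] S | ∃ a ∈ 𝒜 n, ∃ b ∈ ℬ n, x = a ⊗ₜ[k] b})
  (hposR : ∀ n : ℤ, n < 0 → 𝒜 n = ⊥) (hposS : ∀ n : ℤ, n < 0 → ℬ n = ⊥)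
  (h0R : 𝒜 0 = Submodule.span k {(1 : R)}) (h0S : ℬ 0 = Submodule.span k {(1 : S)})

include hψ hdegT in
/-- the depth of `T = R # S` on the irrelevant ideal is `1` as soon as `R` has a socle element modulo
`x` and `S` a nonzero element in the matching degree -/
theorem idealDepth_irr_segre [IsNoetherianRing T] (hne : irr 𝒯 ≠ ⊤) {e j : ℕ} (he : 0 < e)
    {x a : R} {y b₀ : S}
    (hx : x ∈ 𝒜 (e : ℤ)) (hxreg : IsSMulRegular R x) (hy : y ∈ ℬ (e : ℤ)) (hyreg : IsSMulRegular S y)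
    (ha : a ∈ 𝒜 ((j + e : ℕ) : ℤ)) (hax : a ∉ Ideal.span {x})
    (hsoc : ∀ i : ℕ, 0 < i → ∀ a' ∈ 𝒜 (i : ℤ), ∃ a'' ∈ 𝒜 ((i + j : ℕ) : ℤ), a' * a = x * a'')
    (hb₀ : b₀ ∈ ℬ (j : ℤ)) (hb₀0 : b₀ ≠ 0) :
    LocCoh.idealDepth (irr 𝒯) T = 1 := by
  -- the elements `t` and `w`
  have h1 : x ⊗ₜ[k] y ∈ (𝒯 (e : ℤ)).map ψ.toLinearMap := by
    rw [hdegT]
    exact Submodule.subset_span ⟨x, hx, y, hy, rfl⟩
  obtain ⟨t, ht, hψt⟩ := h1
  rw [AlgHom.toLinearMap_apply] at hψt
  have hyb : y * b₀ ∈ ℬ ((j + e : ℕ) : ℤ) := by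
    have := SetLike.mul_mem_graded hy hb₀
    rwa [add_comm, ← Nat.cast_add] at this
  have h2 : a ⊗ₜ[k] (y * b₀) ∈ (𝒯 ((j + e : ℕ) : ℤ)).map ψ.toLinearMap := by
    rw [hdegT]
    exact Submodule.subset_span ⟨a, ha, _, hyb, rfl⟩
  obtain ⟨w, hw, hψw⟩ := h2
  rw [AlgHom.toLinearMap_apply] at hψw
  have hyb0 : y * b₀ ≠ 0 := by
    intro h
    apply hb₀0
    apply hyreg
    show y * b₀ = y * 0
    rw [h, mul_zero]
  apply idealDepth_eq_one (irr 𝒯) hne t w
  · exact Ideal.subset_span ⟨e, by exact_mod_cast he, ht⟩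
  · intro u v huv
    apply hψ
    apply isSMulRegular_tmul (k := k) hxreg hyreg
    simp only [smul_eq_mul] at huv ⊢
    rw [← hψt, ← map_mul, ← map_mul, huv]
  · intro hmem
    obtain ⟨v, hv⟩ := Ideal.mem_span_singleton'.1 hmem
    have h3 : a ⊗ₜ[k] (y * b₀) ∈ Ideal.span {x ⊗ₜ[k] y} := by
      rw [Ideal.mem_span_singleton']
      exact ⟨ψ v, by rw [← hψw, ← hv, map_mul, hψt]⟩
    exact tmul_notMem hax hyb0 h3
  · intro u hu
    unfold irr at hu
    induction hu using Submodule.span_induction with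
    | mem u hu =>
      obtain ⟨i, hi, hui⟩ := hu
      obtain ⟨i', rfl⟩ := Int.eq_ofNat_of_zero_le hi.le
      have hi' : 0 < i' := by exact_mod_cast hi
      have h3 : ψ u ∈ (𝒯 (i' : ℤ)).map ψ.toLinearMap := ⟨u, hui, rfl⟩
      rw [hdegT] at h3
      -- every element of the span times `ψ w` is `ψ t` times an element of `ψ (T)`
      have h4 : ∀ m ∈ Submodule.span k {x' : R ⊗[k] S | ∃ a' ∈ 𝒜 (i' : ℤ), ∃ b' ∈ ℬ (i' : ℤ), x' = a' ⊗ₜ[k] b'},
          ∃ v : T, m * ψ w = ψ t * ψ v := by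
        intro m hm
        induction hm using Submodule.span_induction with
        | mem m hm =>
          obtain ⟨a', ha', b', hb', rfl⟩ := hm
          obtain ⟨a'', ha'', haa⟩ := hsoc i' hi' a' ha'
          have hbb : b' * b₀ ∈ ℬ ((i' + j : ℕ) : ℤ) := by
            have := SetLike.mul_mem_graded hb' hb₀
            rwa [← Nat.cast_add] at this
          have h5 : a'' ⊗ₜ[k] (b' * b₀) ∈ (𝒯 ((i' + j : ℕ) : ℤ)).map ψ.toLinearMap := by
            rw [hdegT]
            exact Submodule.subset_span ⟨a'', ha'', _, hbb, rfl⟩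
          obtain ⟨v, -, hv⟩ := h5
          rw [AlgHom.toLinearMap_apply] at hv
          refine ⟨v, ?_⟩
          rw [hψw, hψt, hv, Algebra.TensorProduct.tmul_mul_tmul, Algebra.TensorProduct.tmul_mul_tmul,
            haa]
          congr 1
          ring
        | zero => exact ⟨0, by rw [zero_mul, map_zero, mul_zero]⟩
        | add m m' _ _ hm hm' =>
          obtain ⟨v, hv⟩ := hm
          obtain ⟨v', hv'⟩ := hm'
          exact ⟨v + v', by rw [add_mul, hv, hv', map_add, mul_add]⟩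
        | smul c m _ hm =>
          obtain ⟨v, hv⟩ := hm
          exact ⟨c • v, by rw [Algebra.smul_mul_assoc, hv, map_smul, Algebra.mul_smul_comm]⟩
      obtain ⟨v, hv⟩ := h4 _ h3
      rw [Ideal.mem_span_singleton']
      refine ⟨v, hψ ?_⟩
      rw [map_mul, map_mul, hv, mul_comm]
    | zero => rw [zero_mul]; exact zero_mem _
    | add u u' _ _ hu hu' => rw [add_mul]; exact add_mem hu hu'
    | smul r u _ hu => rw [smul_eq_mul, mul_assoc]; exact Ideal.mul_mem_left _ r hu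

end Main

/-- **Segre products with a one-dimensional factor**: for standard graded Cohen–Macaulay `R`, `S`
with `dim R = 1`, `dim S ≥ 2`, `R # S` is Cohen–Macaulay iff `R` is a polynomial ring. -/
theorem main_one (k : Type u) [Field k] (R : Type u) [CommRing R] [Algebra k R]
    (𝒜 : ℤ → Submodule k R) [GradedAlgebra 𝒜] (hposR : ∀ n : ℤ, n < 0 → 𝒜 n = ⊥)
    (h0R : 𝒜 0 = Submodule.span k {(1 : R)}) [Algebra.FiniteType k R] (S : Type u) [CommRing S]
    [Algebra k S] (ℬ : ℤ → Submodule k S) [GradedAlgebra ℬ] (hposS : ∀ n : ℤ, n < 0 → ℬ n = ⊥)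
    (h0S : ℬ 0 = Submodule.span k {(1 : S)}) [Algebra.FiniteType k S] (T : Type u) [CommRing T]
    [Algebra k T] (𝒯 : ℤ → Submodule k T) [GradedAlgebra 𝒯] (ψ : T →ₐ[k] TensorProduct k R S)
    (hψ : Function.Injective ψ)
    (hdegT : ∀ n : ℤ, (𝒯 n).map ψ.toLinearMap =
      Submodule.span k {x : TensorProduct k R S | ∃ a ∈ 𝒜 n, ∃ b ∈ ℬ n, x = a ⊗ₜ[k] b})
    [LocCoh.IsCohenMacaulayRing R] [LocCoh.IsCohenMacaulayRing S]
    (hstdR : Ideal.span (⋃ n ∈ Set.Ioi (0 : ℤ), (𝒜 n : Set R)) = Ideal.span ((𝒜 1 : Submodule k R) : Set R))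
    (hstdS : Ideal.span (⋃ n ∈ Set.Ioi (0 : ℤ), (ℬ n : Set S)) = Ideal.span ((ℬ 1 : Submodule k S) : Set S))
    (hr : ringKrullDim R = 1) (hs : 2 ≤ ringKrullDim S) :
    LocCoh.IsCohenMacaulayRing T ↔ Nonempty (R ≃ₐ[k] Polynomial k) := by
  classical
  have hntR : Nontrivial R := by
    by_contra h
    rw [not_nontrivial_iff_subsingleton] at h
    rw [ringKrullDim_eq_bot_of_subsingleton] at hr
    exact absurd hr (by simp)
  have hntS : Nontrivial S := by
    by_contra h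
    rw [not_nontrivial_iff_subsingleton] at h
    rw [ringKrullDim_eq_bot_of_subsingleton] at hs
    exact absurd hs (by simp)
  constructor
  · intro hCM
    by_contra hnp
    obtain ⟨s, hsdim⟩ := exists_nat_dim k S
    have h2s : 2 ≤ s := by
      rw [hsdim] at hs
      exact_mod_cast hs
    have hdimT := Groth.Agent.S18647.result k R 𝒜 hposR h0R S ℬ hposS h0S T 𝒯 ψ hψ hdegT 1 s
      (by rw [hr]; rfl) hsdim le_rfl (by omega)
    have hntT : Nontrivial T := by
      by_contra h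
      rw [not_nontrivial_iff_subsingleton] at h
      rw [ringKrullDim_eq_bot_of_subsingleton] at hdimT
      exact absurd hdimT (by simp)
    have hposT := segre_hpos 𝒜 ℬ 𝒯 ψ hψ hdegT hposR
    have h0T := segre_h0 𝒜 ℬ 𝒯 ψ hψ hdegT h0R h0S
    have hNT : IsNoetherianRing T := hCM.toIsNoetherian
    have hftT : Algebra.FiniteType k T := finiteType_of_noeth 𝒯 hposT h0T
    have hmaxT : (irr 𝒯).IsMaximal := irr_isMaximal 𝒯 hposT h0T
    -- regular homogeneous elements of a common degree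
    obtain ⟨e₁, x₀, he₁, hx₀, hx₀reg⟩ := exists_homog_regular 𝒜 hposR h0R (by rw [hr])
    obtain ⟨e₂, y₀, he₂, hy₀, hy₀reg⟩ := exists_homog_regular ℬ hposS h0S
      (le_trans (by norm_num) hs)
    obtain ⟨n₁, rfl⟩ := Int.eq_ofNat_of_zero_le he₁.le
    obtain ⟨n₂, rfl⟩ := Int.eq_ofNat_of_zero_le he₂.le
    have hn₁ : 0 < n₁ := by exact_mod_cast he₁
    have hn₂ : 0 < n₂ := by exact_mod_cast he₂
    have hx : x₀ ^ n₂ ∈ 𝒜 ((n₁ * n₂ : ℕ) : ℤ) := by
      have := SetLike.pow_mem_graded n₂ hx₀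
      rwa [nsmul_eq_mul, ← Nat.cast_mul, mul_comm] at this
    have hy : y₀ ^ n₁ ∈ ℬ ((n₁ * n₂ : ℕ) : ℤ) := by
      have := SetLike.pow_mem_graded n₁ hy₀
      rwa [nsmul_eq_mul, ← Nat.cast_mul] at this
    have hxreg : IsSMulRegular R (x₀ ^ n₂) := hx₀reg.pow _
    have hyreg : IsSMulRegular S (y₀ ^ n₁) := hy₀reg.pow _
    have he : 0 < n₁ * n₂ := Nat.mul_pos hn₁ hn₂
    obtain ⟨j, a, ha, hax, hsoc⟩ := exists_socle 𝒜 hposR h0R hstdR (le_of_eq hr) hnp he hx hxreg
    obtain ⟨b₀, hb₀, hb₀0⟩ := exists_ne_zero_piece ℬ hstdS he hy hyreg j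
    have hdepth := idealDepth_irr_segre 𝒜 ℬ 𝒯 ψ hψ hdegT hmaxT.ne_top he hx hxreg hy hyreg ha hax
      hsoc hb₀ hb₀0
    have hcm := (Groth.Agent.Helper7.CMRing.cm_iff T).1 hCM (irr 𝒯) hmaxT.ne_top
    have hht := le_height_irr 𝒯 hposT h0T 2 (by
      rw [hdimT]
      have : 2 ≤ 1 + s - 1 := by omega
      exact_mod_cast this)
    rw [← hcm, hdepth] at hht
    exact absurd hht (by norm_num)
  · rintro ⟨e₀⟩
    obtain ⟨z, hz1, hzreg, h1⟩ := exists_gen_of_algEquiv 𝒜 hposR h0R hstdR e₀ hr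
    obtain ⟨Θ⟩ := nonempty_algEquiv_of_gen 𝒜 ℬ 𝒯 ψ hψ hdegT hposR hposS h0R hstdR hz1 hzreg h1
    exact cm_of_ringEquiv Θ.symm.toRingEquiv

end Groth.Agent.Helper7.SegOne
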