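import Mathlib
import Groth.Prelude.Def_GrSeg
import Groth.Agent.Helper7.SegOneF

/-!
# Segre products `k[z](a) # S(b)`: comparison with `T = k[z] # S` (helper7)
-/

set_option autoImplicit false
set_option linter.unusedSectionVars false
universe u

namespace Groth.Agent.Helper7.SegPol

open DirectSum TensorProduct Groth.Agent.Helper7.SegDim Groth.Agent.Helper7.SegOne

section Act

variable {k R S : Type u} [Field k] [CommRing R] [Algebra k R] [CommRing S] [Algebra k S]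

/-- the action of `R ⊗ S` on itself is multiplication -/
theorem act_eq_mul (τ v : R ⊗[k] S) : GrSeg.act k R S R S τ v = τ * v := by
  induction τ using TensorProduct.induction_on with
  | zero => simp
  | tmul r s =>
    induction v using TensorProduct.induction_on with
    | zero => simp
    | tmul m n => rw [GrSeg.act_tmul, Algebra.TensorProduct.tmul_mul_tmul, smul_eq_mul, smul_eq_mul]
    | add v w hv hw => rw [map_add, hv, hw, mul_add]
  | add τ τ' h h' => rw [map_add, LinearMap.add_apply, h, h', add_mul]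

/-- the span of the tensors of bidegree `(m, m')` -/
def pc (𝒜 : ℤ → Submodule k R) (ℬ : ℤ → Submodule k S) (m m' : ℤ) : Submodule k (R ⊗[k] S) :=
  Submodule.span k {x : R ⊗[k] S | ∃ a ∈ 𝒜 m, ∃ b ∈ ℬ m', x = a ⊗ₜ[k] b}

variable (𝒜 : ℤ → Submodule k R) [GradedAlgebra 𝒜] (ℬ : ℤ → Submodule k S) [GradedAlgebra ℬ]

theorem pc_eq_bot_of_right {m m' : ℤ} (h : ℬ m' = ⊥) : pc 𝒜 ℬ m m' = ⊥ := by
  unfold pc
  rw [Submodule.span_eq_bot]
  rintro _ ⟨a, -, b, hb, rfl⟩
  rw [h, Submodule.mem_bot] at hb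
  rw [hb, TensorProduct.tmul_zero]

/-- multiplying by `z^j ⊗ 1` raises the first degree by `j` -/
theorem mul_mem_pc {z : R} (hz1 : z ∈ 𝒜 1) (j : ℕ) {m m' : ℤ} {v : R ⊗[k] S} (hv : v ∈ pc 𝒜 ℬ m m') :
    ((z ^ j) ⊗ₜ[k] (1 : S)) * v ∈ pc 𝒜 ℬ (m + j) m' := by
  unfold pc at hv ⊢
  induction hv using Submodule.span_induction with
  | mem v hv =>
    obtain ⟨a, ha, b, hb, rfl⟩ := hv
    apply Submodule.subset_span
    refine ⟨z ^ j * a, ?_, b, hb, by rw [Algebra.TensorProduct.tmul_mul_tmul, one_mul]⟩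
    have h1 : z ^ j ∈ 𝒜 (j : ℤ) := pow_mem_piece 𝒜 hz1 j
    have := SetLike.mul_mem_graded h1 ha
    rwa [add_comm] at this
  | zero => rw [mul_zero]; exact zero_mem _
  | add v w _ _ hv hw => rw [mul_add]; exact add_mem hv hw
  | smul c v _ hv => rw [Algebra.mul_smul_comm]; exact Submodule.smul_mem _ c hv

/-- when `R = k[z]`, every tensor of bidegree `(m + j, m')` with `m ≥ 0` is divisible by `z^j ⊗ 1` -/
theorem exists_mul_eq_of_mem_pc {z : R} (hz1 : z ∈ 𝒜 1)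
    (hpiece : ∀ n : ℕ, ∀ a ∈ 𝒜 (n : ℤ), ∃ c : k, a = c • z ^ n) (j m : ℕ) {m' : ℤ} {w : R ⊗[k] S}
    (hw : w ∈ pc 𝒜 ℬ ((m : ℤ) + j) m') :
    ∃ v ∈ pc 𝒜 ℬ (m : ℤ) m', w = ((z ^ j) ⊗ₜ[k] (1 : S)) * v := by
  unfold pc at hw
  induction hw using Submodule.span_induction with
  | mem w hw =>
    obtain ⟨a, ha, b, hb, rfl⟩ := hw
    rw [← Nat.cast_add] at ha
    obtain ⟨c, rfl⟩ := hpiece (m + j) a ha
    refine ⟨(c • z ^ m) ⊗ₜ[k] b, Submodule.subset_span ⟨c • z ^ m,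
      Submodule.smul_mem _ c (pow_mem_piece 𝒜 hz1 m), b, hb, rfl⟩, ?_⟩
    rw [Algebra.TensorProduct.tmul_mul_tmul, one_mul, Algebra.mul_smul_comm, ← pow_add, add_comm j m]
  | zero => exact ⟨0, zero_mem _, by rw [mul_zero]⟩
  | add v w _ _ hv hw =>
    obtain ⟨v', hv', rfl⟩ := hv
    obtain ⟨w', hw', rfl⟩ := hw
    exact ⟨v' + w', add_mem hv' hw', by rw [mul_add]⟩
  | smul c v _ hv =>
    obtain ⟨v', hv', rfl⟩ := hv
    exact ⟨c • v', Submodule.smul_mem _ c hv', by rw [Algebra.mul_smul_comm]⟩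

end Act

end Groth.Agent.Helper7.SegPol
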