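import Mathlib
import Groth.Prelude.Def_GrLC
import Groth.Prelude.Def_Wider
import Groth.Prelude.Def_GrSeg
import Groth.Agent.Helper7.KunW
import Groth.Agent.Helper7.SegPolB

/-!
# Künneth project, part X: the ring case `M = R`, `N = S`, `P = T` of the Künneth dimension formula.
-/

set_option autoImplicit false
set_option linter.unusedSectionVars false
set_option linter.style.haveILetI false

namespace Groth.Agent.Helper7.Kun

open TensorProduct

universe u

section Self

variable {k R : Type u} [Field k] [CommRing R] [Algebra k R]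
  (𝒜 : ℤ → Submodule k R) [GradedAlgebra 𝒜]

/-- the ring as a graded module over itself, with pieces regarded as additive subgroups -/
theorem gradedSMul_self : SetLike.GradedSMul 𝒜 (plus 𝒜) :=
  ⟨fun {_ _} {_ _} ha hb => SetLike.GradedMul.mul_mem (A := 𝒜) ha hb⟩

/-- a *injective resolution of the ring, retyped -/
noncomputable def resSelf [SetLike.GradedSMul 𝒜 (plus 𝒜)] (I : GrLC.StarInjRes 𝒜 𝒜) :
    GrLC.StarInjRes 𝒜 (plus 𝒜) where
  X := I.X
  d := I.d
  ε := I.ε
  d_grHom := I.d_grHom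
  ε_grHom := fun n x hx => I.ε_grHom n x hx
  ε_injective := I.ε_injective
  exact_zero := I.exact_zero
  exact_succ := I.exact_succ
  starInj := I.starInj

theorem resSelf_Hcomp [SetLike.GradedSMul 𝒜 (plus 𝒜)] (I : GrLC.StarInjRes 𝒜 𝒜)
    (a : HomogeneousIdeal 𝒜) (i : ℕ) (g : ℤ) :
    (resSelf 𝒜 I).Hcomp a i g = I.Hcomp a i g := rfl

variable [Nontrivial R] (h0 : 𝒜 0 = Submodule.span k {(1 : R)})

include h0 in
theorem finrank_comp_self [SetLike.GradedSMul 𝒜 (plus 𝒜)] (d : ℤ) :
    Module.finrank (GrLC.deg0 𝒜) ↥(GrLC.comp 𝒜 (plus 𝒜) d) = Module.finrank k ↥(𝒜 d) := by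
  let e : ↥(𝒜 d) ≃+ ↥(GrLC.comp 𝒜 (plus 𝒜) d) :=
    { toFun := fun x => ⟨x.1, x.2⟩
      invFun := fun x => ⟨x.1, x.2⟩
      left_inv := fun _ => rfl
      right_inv := fun _ => rfl
      map_add' := fun _ _ => rfl }
  have he : ∀ (c : k) (x : ↥(𝒜 d)), e (c • x) = kToDeg0S 𝒜 c • e x := by
    intro c x
    apply Subtype.ext
    show c • (x : R) = algebraMap k R c • (x : R)
    rw [algebraMap_smul]
  exact (congrArg Cardinal.toNat
    (rank_eq_of_equiv_equiv (kToDeg0S 𝒜) e (kToDeg0S_bijective h0) he)).symm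

end Self

section RingCase

variable {k : Type u} [Field k] {R S T : Type u} [CommRing R] [Algebra k R] [CommRing S] [Algebra k S]
  [CommRing T] [Algebra k T]
  (𝒜 : ℤ → Submodule k R) [GradedAlgebra 𝒜] (ℬ : ℤ → Submodule k S) [GradedAlgebra ℬ]
  (𝒯 : ℤ → Submodule k T) [GradedAlgebra 𝒯] (ψ : T →ₐ[k] R ⊗[k] S)
  (hT : GrSeg.IsSegreRing 𝒜 ℬ 𝒯 ψ)

include hT in
/-- the Segre ring is the Segre product of the two rings as modules -/
theorem isSegreMod_self : GrSeg.IsSegreMod ψ (plus 𝒜) (plus ℬ) (plus 𝒯) ψ.toLinearMap where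
  injective := hT.1
  image_piece n := by
    have h := congrArg (fun (p : Submodule k (R ⊗[k] S)) => (p : Set (R ⊗[k] S))) (hT.2 n)
    exact h
  map_smul t p := by
    rw [Groth.Agent.Helper7.SegPol.act_eq_mul]
    exact map_mul ψ t p

end RingCase

end Groth.Agent.Helper7.Kun
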