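import Mathlib
import Groth.Prelude.Def_CAlg
import Groth.Prelude.Def_GrLC
import Groth.Agent.Helper7.GrCM1
import Groth.Agent.Helper7.SegModE
import Groth.Agent.Helper7.KunA
import Groth.Agent.Helper7.GrFinC
import Groth.Agent.Helper6.LCCM
import Groth.Agent.Helper6.GrH
import Groth.Agent.Helper1.LocCohDepth
import Groth.Agent.Helper2.DepthLoc

/-!
# The local cohomology criterion for Cohen–Macaulayness of a graded module over a graded ring defined over a field
(helper7)
-/

set_option autoImplicit false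
set_option linter.unusedSectionVars false
set_option linter.style.haveILetI false
universe u

namespace Groth.Agent.Helper7.GrCM

open DirectSum TensorProduct IsLocalRing RingTheory.Sequence Groth.Agent.Helper2
  Groth.Agent.Helper7.Torus Groth.Agent.Helper7.SegDim Groth.Agent.Helper7.SegMod
  Groth.Agent.Helper7.Kun

section Irr

variable {k R : Type u} [Field k] [CommRing R] [Algebra k R] (𝒜 : ℤ → Submodule k R)
  [GradedAlgebra 𝒜]

theorem irr_eq_span : irr 𝒜 = Ideal.span (⋃ n ∈ Set.Ioi (0 : ℤ), (𝒜 n : Set R)) := by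
  unfold irr
  congr 1
  ext x
  simp only [Set.mem_ofPred_eq, Set.mem_iUnion, Set.mem_Ioi, SetLike.mem_coe, exists_prop]

end Irr

section Crit

variable {k R : Type u} [Field k] [CommRing R] [Algebra k R] (𝒜 : ℤ → Submodule k R)
  [GradedAlgebra 𝒜]
  (hpos : ∀ n : ℤ, n < 0 → 𝒜 n = ⊥) (h0 : 𝒜 0 = Submodule.span k {(1 : R)})
  [Algebra.FiniteType k R]
  {M : Type u} [AddCommGroup M] [Module R M] [Module.Finite R M]
  (ℳ : ℤ → AddSubgroup M) [DirectSum.Decomposition ℳ] [SetLike.GradedSMul 𝒜 ℳ]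

include hpos h0 ℳ in
theorem irr_smul_top_ne_top [Nontrivial M] : irr 𝒜 • (⊤ : Submodule R M) ≠ ⊤ := by
  intro hJG
  have hnt : Nontrivial R := Module.nontrivial R M
  have hmax := irr_isMaximal 𝒜 hpos h0
  obtain ⟨r, hr1, hr2⟩ := Submodule.exists_sub_one_mem_and_smul_eq_zero_of_fg_of_le_smul (irr 𝒜)
    (⊤ : Submodule R M) Module.Finite.fg_top hJG.ge
  have hann : Module.annihilator R M ≤ irr 𝒜 :=
    le_irr 𝒜 hpos h0 (annihilator_isHomogeneous 𝒜 ℳ) (by
      rw [Ne, Module.annihilator_eq_top_iff]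
      exact not_subsingleton M)
  have hrm : r ∈ irr 𝒜 := hann (Module.mem_annihilator.2 (fun x => hr2 x trivial))
  have h1 : (1 : R) ∈ irr 𝒜 := by
    have := (irr 𝒜).sub_mem hrm hr1
    simpa using this
  exact hmax.ne_top ((Ideal.eq_top_iff_one _).2 h1)

include hpos h0 ℳ in
/-- vanishing of local cohomology below the dimension makes a graded module Cohen–Macaulay at the
irrelevant ideal -/
theorem cm_at_irr_of_vanishing [Nontrivial M] [hI : (irr 𝒜).IsPrime] (n : ℕ)
    (hn : Module.supportDim R M = n)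
    (hv : ∀ i : ℕ, i < n → Subsingleton (LocCoh.H (irr 𝒜) i M)) :
    LocCoh.IsCohenMacaulayModule (Localization.AtPrime (irr 𝒜))
      (LocalizedModule (irr 𝒜).primeCompl M) := by
  haveI hN : IsNoetherianRing R := Algebra.FiniteType.isNoetherianRing k R
  have hIM := irr_smul_top_ne_top 𝒜 hpos h0 ℳ
  have hmem := irr_mem_support 𝒜 hpos h0 ℳ hI
  haveI hntm : Nontrivial (LocalizedModule (irr 𝒜).primeCompl M) := Module.mem_support_iff.1 hmem
  have h1 : (n : ℕ∞) ≤ LocCoh.idealDepth (irr 𝒜) M :=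
    (Groth.Agent.Helper1.LocCohDepth.le_idealDepth_iff_lc (irr 𝒜) M hIM n).2 hv
  obtain ⟨xs, hlen, hxs, hreg⟩ :=
    (Groth.Agent.Helper1.LocCohDepth.le_idealDepth_iff (irr 𝒜) M hIM n).1 h1
  have h2 := DepthLoc.length_le_depth_localized (irr 𝒜) M xs hxs hreg ⟨irr 𝒜, hI⟩ le_rfl
  rw [hlen] at h2
  have h3 := DepthCM4.depth_le_supportDim (A := Localization.AtPrime (irr 𝒜))
    (LocalizedModule (irr 𝒜).primeCompl M)
  have h4 : Module.supportDim (Localization.AtPrime (irr 𝒜))
      (LocalizedModule (irr 𝒜).primeCompl M) ≤ n := by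
    rw [Groth.Agent.Helper5.RSD.supportDim_localized_eq_height M (irr 𝒜) hmem, ← hn]
    exact Order.height_le_krullDim _
  unfold LocCoh.IsCohenMacaulayModule
  apply le_antisymm
  · refine h4.trans ?_
    exact_mod_cast h2
  · exact h3

include hpos h0 ℳ in
/-- a graded module which is Cohen–Macaulay at the irrelevant ideal is Cohen–Macaulay -/
theorem cm_all_of_cm_at_irr [hI : (irr 𝒜).IsPrime]
    (hCM : LocCoh.IsCohenMacaulayModule (Localization.AtPrime (irr 𝒜))
      (LocalizedModule (irr 𝒜).primeCompl M)) (p : Ideal R) [hp : p.IsPrime] :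
    Subsingleton (LocalizedModule p.primeCompl M) ∨
      LocCoh.IsCohenMacaulayModule (Localization.AtPrime p) (LocalizedModule p.primeCompl M) := by
  haveI hN : IsNoetherianRing R := Algebra.FiniteType.isNoetherianRing k R
  haveI : SetLike.GradedSMul (plus 𝒜) ℳ := gradedSMul_plus 𝒜 ℳ
  rcases subsingleton_or_nontrivial (LocalizedModule p.primeCompl M) with hs | hnt
  · exact Or.inl hs
  · right
    haveI hc : (Ideal.homogeneousCore (plus 𝒜) p).toIdeal.IsPrime := core_isPrime (plus 𝒜) p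
    haveI hntc : Nontrivial
        (LocalizedModule (Ideal.homogeneousCore (plus 𝒜) p).toIdeal.primeCompl M) :=
      (nontrivial_core_iff (plus 𝒜) M ℳ p).1 hnt
    have hle : (Ideal.homogeneousCore (plus 𝒜) p).toIdeal ≤ irr 𝒜 :=
      le_irr 𝒜 hpos h0 ((isHomogeneous_plus_iff 𝒜 _).1 (Ideal.homogeneousCore (plus 𝒜) p).isHomogeneous)
        hc.ne_top
    have h1 := cm_of_le (irr 𝒜) M hCM (Ideal.homogeneousCore (plus 𝒜) p).toIdeal hle
    exact cm_of_cm_core (plus 𝒜) M ℳ p h1

include hpos h0 ℳ in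
/-- **the local cohomology criterion**: a nonzero finitely generated graded module of dimension `n` is
Cohen–Macaulay iff its local cohomology with support in the irrelevant ideal vanishes below `n` -/
theorem cm_iff_lc [Nontrivial M] (n : ℕ) (hn : Module.supportDim R M = n) :
    (∀ (q : Ideal R) [q.IsPrime], Subsingleton (LocalizedModule q.primeCompl M) ∨
      LocCoh.IsCohenMacaulayModule (Localization.AtPrime q) (LocalizedModule q.primeCompl M)) ↔
      ∀ i : ℕ, i < n → Subsingleton (LocCoh.H (irr 𝒜) i M) := by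
  haveI hN : IsNoetherianRing R := Algebra.FiniteType.isNoetherianRing k R
  have hnt : Nontrivial R := Module.nontrivial R M
  haveI hI : (irr 𝒜).IsPrime := (irr_isMaximal 𝒜 hpos h0).isPrime
  have hmax := irr_isMaximal 𝒜 hpos h0
  constructor
  · intro hCM
    rw [Groth.Agent.Helper6.LCCM.main (irr 𝒜) M (fun p => hCM p.asIdeal) n]
    intro p hJp hp
    have hpeq : p = ⟨irr 𝒜, hI⟩ := by
      apply PrimeSpectrum.ext
      exact (hmax.eq_of_le p.2.ne_top hJp).symm
    subst hpeq
    rw [Groth.Agent.Helper5.RSD.supportDim_localized_eq_height M (irr 𝒜) hp]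
    exact_mod_cast le_height_support_irr 𝒜 hpos h0 ℳ hI n hn hp
  · intro hv q hq
    exact cm_all_of_cm_at_irr 𝒜 hpos h0 ℳ (cm_at_irr_of_vanishing 𝒜 hpos h0 ℳ n hn hv) q

variable (mR : HomogeneousIdeal 𝒜)
  (hmR : mR.toIdeal = Ideal.span (⋃ n ∈ Set.Ioi (0 : ℤ), (𝒜 n : Set R)))
  (E : GrLC.StarInjRes 𝒜 ℳ)

/-- graded local cohomology is local cohomology -/
theorem nonempty_H_equiv_lc (i : ℕ) : Nonempty (E.H mR i ≃ₗ[R] LocCoh.H mR.toIdeal i M) := by
  haveI hN : IsNoetherianRing R := Algebra.FiniteType.isNoetherianRing k R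
  haveI : SetLike.GradedSMul (plus 𝒜) ℳ := gradedSMul_plus 𝒜 ℳ
  exact Groth.Agent.Helper7.GrFinC.nonempty_H_equiv (idealPlus 𝒜 mR) (resPlus 𝒜 E) i

/-- a graded local cohomology module vanishes iff all its pieces vanish -/
theorem subsingleton_H_iff (i : ℕ) :
    Subsingleton (E.H mR i) ↔ ∀ d : ℤ, E.Hcomp mR i d = ⊥ := by
  haveI : SetLike.GradedSMul (plus 𝒜) ℳ := gradedSMul_plus 𝒜 ℳ
  constructor
  · intro hs d
    rw [eq_bot_iff]
    intro x _
    rw [Submodule.mem_bot]
    exact Subsingleton.elim _ _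
  · intro hb
    have hint := Groth.Agent.Helper6.GrH.Hgr_isInternal (plus 𝒜) ℳ (idealPlus 𝒜 mR)
      (resPlus 𝒜 E) i
    have hbot : ∀ d : ℤ, (resPlus 𝒜 E).Hgr (idealPlus 𝒜 mR) i d = ⊥ := by
      intro d
      rw [eq_bot_iff]
      intro x hx
      have hx' : x ∈ E.Hcomp mR i d := hx
      rw [hb d] at hx'
      exact (AddSubgroup.mem_bot).2 ((Submodule.mem_bot _).1 hx')
    have hzero : ∀ x : E.H mR i, x = 0 := by
      intro x
      obtain ⟨y, rfl⟩ := hint.2 x
      have hy : y = 0 := by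
        apply DFinsupp.ext
        intro d
        apply Subtype.ext
        have key : ∀ x : E.H mR i, x ∈ E.Hcomp mR i d → x = 0 := fun x hx => by
          rw [hb d] at hx
          exact (Submodule.mem_bot _).1 hx
        exact key _ (y d).2
      subst hy
      exact map_zero _
    exact ⟨fun x y => (hzero x).trans (hzero y).symm⟩

include hpos h0 hmR in
/-- **the graded local cohomology criterion** -/
theorem cm_iff_Hcomp [Nontrivial M] (n : ℕ) (hn : Module.supportDim R M = n) :
    (∀ (q : Ideal R) [q.IsPrime], Subsingleton (LocalizedModule q.primeCompl M) ∨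
      LocCoh.IsCohenMacaulayModule (Localization.AtPrime q) (LocalizedModule q.primeCompl M)) ↔
      ∀ i : ℕ, i < n → ∀ d : ℤ, E.Hcomp mR i d = ⊥ := by
  have hm : mR.toIdeal = irr 𝒜 := hmR.trans (irr_eq_span 𝒜).symm
  rw [cm_iff_lc 𝒜 hpos h0 ℳ n hn, ← hm]
  apply forall₂_congr
  intro i _
  obtain ⟨e⟩ := nonempty_H_equiv_lc 𝒜 ℳ mR E i
  rw [← subsingleton_H_iff 𝒜 ℳ mR E i]
  exact e.toEquiv.subsingleton_congr.symm

end Crit

end Groth.Agent.Helper7.GrCM
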