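import Mathlib
import Groth.Agent.Helper7.SegModC

/-!
# `dim (M # N) = dim M + dim N - 1` over standard graded rings (helper7)
-/

set_option autoImplicit false
universe u

namespace Groth.Agent.Helper7.SegMod

open MvPolynomial DirectSum TensorProduct

/-- degree of a power of a parameter times a homogeneous element -/
theorem pow_smul_mem {k R : Type u} [Field k] [CommRing R] [Algebra k R] (𝒜 : ℤ → Submodule k R)
    [GradedAlgebra 𝒜] {M : Type u} [AddCommGroup M] [Module R M]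
    (ℳ : ℤ → AddSubgroup M) [SetLike.GradedSMul 𝒜 ℳ] {z : R} {e : ℤ} (hz : z ∈ 𝒜 e) (p : ℕ)
    {m : M} {t : ℤ} (hm : m ∈ ℳ t) : z ^ p • m ∈ ℳ ((p : ℤ) * e + t) := by
  have h1 : z ^ p ∈ 𝒜 (p • e) := SetLike.pow_mem_graded p hz
  have h2 := SetLike.GradedSMul.smul_mem (A := 𝒜) (B := ℳ) h1 hm
  rwa [vadd_eq_add, nsmul_eq_mul] at h2

theorem main_std (k : Type u) [Field k] (R : Type u) [CommRing R] [Algebra k R] (𝒜 : ℤ → Submodule k R)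
    [GradedAlgebra 𝒜] (hposR : ∀ n : ℤ, n < 0 → 𝒜 n = ⊥) (h0R : 𝒜 0 = Submodule.span k {(1 : R)})
    [Algebra.FiniteType k R] (S : Type u) [CommRing S] [Algebra k S] (ℬ : ℤ → Submodule k S)
    [GradedAlgebra ℬ] (hposS : ∀ n : ℤ, n < 0 → ℬ n = ⊥) (h0S : ℬ 0 = Submodule.span k {(1 : S)})
    [Algebra.FiniteType k S] (T : Type u) [CommRing T] [Algebra k T] (𝒯 : ℤ → Submodule k T)
    [GradedAlgebra 𝒯] (ψ : T →ₐ[k] TensorProduct k R S) (hT : GrSeg.IsSegreRing 𝒜 ℬ 𝒯 ψ)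
    (hstdR : Ideal.span (⋃ n ∈ Set.Ioi (0 : ℤ), (𝒜 n : Set R)) = Ideal.span ((𝒜 1 : Submodule k R) : Set R))
    (M : Type u) [AddCommGroup M] [Module R M] [Module k M] [IsScalarTower k R M]
    (ℳ : ℤ → AddSubgroup M) [DirectSum.Decomposition ℳ] [SetLike.GradedSMul 𝒜 ℳ] [Module.Finite R M]
    (N : Type u) [AddCommGroup N] [Module S N] [Module k N] [IsScalarTower k S N]
    (𝒩 : ℤ → AddSubgroup N) [DirectSum.Decomposition 𝒩] [SetLike.GradedSMul ℬ 𝒩] [Module.Finite S N]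
    (P : Type u) [AddCommGroup P] [Module T P] [Module k P] [IsScalarTower k T P]
    (𝒬 : ℤ → AddSubgroup P) [DirectSum.Decomposition 𝒬] (φ : P →ₗ[k] TensorProduct k M N)
    (hP : GrSeg.IsSegreMod ψ ℳ 𝒩 𝒬 φ) (dM dN : ℕ) (hdM : Module.supportDim R M = dM)
    (hdN : Module.supportDim S N = dN) (hMA : ¬ IsArtinian R M) (hNA : ¬ IsArtinian S N) :
    Module.supportDim T P = ((dM + dN - 1 : ℕ) : WithBot ℕ∞) := by
  classical
  have hdM1 : 1 ≤ dM := by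
    by_contra h
    have h0 : dM = 0 := by omega
    subst h0
    exact hMA (isArtinian_of_supportDim_zero 𝒜 ℳ hposR h0R hdM)
  have hdN1 : 1 ≤ dN := by
    by_contra h
    have h0 : dN = 0 := by omega
    subst h0
    exact hNA (isArtinian_of_supportDim_zero ℬ 𝒩 hposS h0S hdN)
  obtain ⟨a, rfl⟩ : ∃ a, dM = a + 1 := ⟨dM - 1, by omega⟩
  obtain ⟨b, rfl⟩ : ∃ b, dN = b + 1 := ⟨dN - 1, by omega⟩
  obtain ⟨e₁, he₁, H₁⟩ := exists_param_module 𝒜 ℳ hposR h0R (a + 1) hdM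
  obtain ⟨e₂, he₂, H₂⟩ := exists_param_module ℬ 𝒩 hposS h0S (b + 1) hdN
  have he : 0 < e₁ * e₂ := Nat.mul_pos he₁ he₂
  obtain ⟨x, hx, hxfin, hxfaith⟩ := H₁ (e₁ * e₂) he (dvd_mul_right _ _)
  obtain ⟨y, hy, hyfin, hyfaith⟩ := H₂ (e₁ * e₂) he (dvd_mul_left _ _)
  set e := e₁ * e₂ with hedef
  obtain ⟨t₀, m₀, hm₀, hm₀i⟩ := exists_torsionFree_homog ℳ x hxfaith
  obtain ⟨t₁, n₁, hn₁, hn₁i⟩ := exists_torsionFree_homog 𝒩 y hyfaith
  have heZ : (0 : ℤ) < (e : ℤ) := by exact_mod_cast he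
  set c := ((t₁ - t₀) % (e : ℤ)).toNat with hcdef
  have hc : (c : ℤ) = (t₁ - t₀) % (e : ℤ) := Int.toNat_of_nonneg (Int.emod_nonneg _ heZ.ne')
  have hce : c ≤ e := by
    have := Int.emod_lt_of_pos (t₁ - t₀) heZ
    omega
  obtain ⟨u, hu, hui⟩ := exists_torsionFree_shift 𝒜 x hstdR e hx 0 m₀ hm₀i c hce
  have hum : u • m₀ ∈ ℳ ((c : ℤ) + t₀) := by
    have := SetLike.GradedSMul.smul_mem (A := 𝒜) (B := ℳ) hu hm₀
    rwa [vadd_eq_add] at this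
  set j := (t₁ - t₀) / (e : ℤ) with hjdef
  have hj : t₁ - t₀ = (c : ℤ) + (e : ℤ) * j := by
    rw [hc]
    exact (Int.emod_add_mul_ediv (t₁ - t₀) (e : ℤ)).symm
  have hfinP : Module.Finite T P :=
    Groth.Agent.Helper9.SegreMod.main k R 𝒜 S ℬ T 𝒯 ψ hT M ℳ N 𝒩 P 𝒬 φ hP
  by_cases hj0 : 0 ≤ j
  · have hm : x 0 ^ j.toNat • (u • m₀) ∈ ℳ t₁ := by
      have := pow_smul_mem 𝒜 ℳ (hx 0) j.toNat hum
      have h2 : ((j.toNat : ℕ) : ℤ) * (e : ℤ) + ((c : ℤ) + t₀) = t₁ := by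
        rw [Int.toNat_of_nonneg hj0]
        linarith [hj, mul_comm (e : ℤ) j]
      rwa [h2] at this
    have h := supportDim_P 𝒜 ℬ ℳ 𝒩 x y 𝒯 ψ hT.1 hT.2 e hx hy 𝒬 φ hP he t₁ _ hm n₁ hn₁
      (injective_evalSmul_pow_smul x 0 j.toNat _ hui) hn₁i
    rw [h]
    congr 1
    omega
  · have hn : y 0 ^ (-j).toNat • n₁ ∈ 𝒩 ((c : ℤ) + t₀) := by
      have := pow_smul_mem ℬ 𝒩 (hy 0) (-j).toNat hn₁
      have h2 : (((-j).toNat : ℕ) : ℤ) * (e : ℤ) + t₁ = (c : ℤ) + t₀ := by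
        rw [Int.toNat_of_nonneg (by omega)]
        linarith [hj, mul_comm (e : ℤ) j]
      rwa [h2] at this
    have h := supportDim_P 𝒜 ℬ ℳ 𝒩 x y 𝒯 ψ hT.1 hT.2 e hx hy 𝒬 φ hP he ((c : ℤ) + t₀) _ hum _ hn
      hui (injective_evalSmul_pow_smul y 0 (-j).toNat _ hn₁i)
    rw [h]
    congr 1
    omega

end Groth.Agent.Helper7.SegMod
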