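import Mathlib
import Groth.Agent.Helper7.SegModD
import Groth.Agent.Helper7.SegModE

/-!
# `dim (M # N) = dim M + dim N - 1` for Cohen–Macaulay graded modules (helper7)
-/

set_option autoImplicit false
universe u

namespace Groth.Agent.Helper7.SegMod

open MvPolynomial DirectSum TensorProduct Groth.Agent.Helper7.SegDim

theorem main_cm (k : Type u) [Field k] (R : Type u) [CommRing R] [Algebra k R] (𝒜 : ℤ → Submodule k R)
    [GradedAlgebra 𝒜] (hposR : ∀ n : ℤ, n < 0 → 𝒜 n = ⊥) (h0R : 𝒜 0 = Submodule.span k {(1 : R)})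
    [Algebra.FiniteType k R] (S : Type u) [CommRing S] [Algebra k S] (ℬ : ℤ → Submodule k S)
    [GradedAlgebra ℬ] (hposS : ∀ n : ℤ, n < 0 → ℬ n = ⊥) (h0S : ℬ 0 = Submodule.span k {(1 : S)})
    [Algebra.FiniteType k S] (T : Type u) [CommRing T] [Algebra k T] (𝒯 : ℤ → Submodule k T)
    [GradedAlgebra 𝒯] (ψ : T →ₐ[k] TensorProduct k R S) (hT : GrSeg.IsSegreRing 𝒜 ℬ 𝒯 ψ)
    (M : Type u) [AddCommGroup M] [Module R M] [Module k M] [IsScalarTower k R M]
    (ℳ : ℤ → AddSubgroup M) [DirectSum.Decomposition ℳ] [SetLike.GradedSMul 𝒜 ℳ] [Module.Finite R M]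
    (N : Type u) [AddCommGroup N] [Module S N] [Module k N] [IsScalarTower k S N]
    (𝒩 : ℤ → AddSubgroup N) [DirectSum.Decomposition 𝒩] [SetLike.GradedSMul ℬ 𝒩] [Module.Finite S N]
    (P : Type u) [AddCommGroup P] [Module T P] [Module k P] [IsScalarTower k T P]
    (𝒬 : ℤ → AddSubgroup P) [DirectSum.Decomposition 𝒬] (φ : P →ₗ[k] TensorProduct k M N)
    (hP : GrSeg.IsSegreMod ψ ℳ 𝒩 𝒬 φ) (r s : ℕ) (h1r : 1 ≤ r) (h1s : 1 ≤ s)
    (hdM : Module.supportDim R M = r) (hdN : Module.supportDim S N = s)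
    (hMcm : (∀ (q : Ideal R) [q.IsPrime], Subsingleton (LocalizedModule q.primeCompl M) ∨
      LocCoh.IsCohenMacaulayModule (Localization.AtPrime q) (LocalizedModule q.primeCompl M)))
    (hNcm : (∀ (q : Ideal S) [q.IsPrime], Subsingleton (LocalizedModule q.primeCompl N) ∨
      LocCoh.IsCohenMacaulayModule (Localization.AtPrime q) (LocalizedModule q.primeCompl N))) :
    Module.supportDim T P = ((r + s - 1 : ℕ) : WithBot ℕ∞) ∨ Subsingleton P := by
  classical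
  by_cases hsub : Subsingleton P
  · exact Or.inr hsub
  left
  rw [not_subsingleton_iff_nontrivial] at hsub
  -- a nonzero homogeneous element of `P`
  obtain ⟨p₀, hp₀⟩ := exists_ne (0 : P)
  have h1 : ∃ i : ℤ, (decompose 𝒬 p₀ i : P) ≠ 0 := by
    by_contra hcon
    push Not at hcon
    apply hp₀
    rw [← DirectSum.sum_support_decompose 𝒬 p₀]
    exact Finset.sum_eq_zero fun i _ => hcon i
  obtain ⟨i, hi⟩ := h1
  have h2 : φ (decompose 𝒬 p₀ i : P) ≠ 0 := fun h => hi (hP.injective (by rw [h, map_zero]))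
  have h3 : φ (decompose 𝒬 p₀ i : P) ∈ GrSeg.segrePiece k ℳ 𝒩 i := by
    have : φ (decompose 𝒬 p₀ i : P) ∈ φ '' (𝒬 i : Set P) := ⟨_, SetLike.coe_mem _, rfl⟩
    rw [hP.image_piece i] at this
    exact this
  have h4 : ∃ m ∈ ℳ i, ∃ n ∈ 𝒩 i, m ⊗ₜ[k] n ≠ (0 : M ⊗[k] N) := by
    by_contra hcon
    push Not at hcon
    apply h2
    unfold GrSeg.segrePiece at h3
    have : Submodule.span k {x : M ⊗[k] N | ∃ a ∈ ℳ i, ∃ b ∈ 𝒩 i, x = a ⊗ₜ[k] b} ≤ ⊥ := by
      rw [Submodule.span_le]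
      rintro _ ⟨a, ha, b, hb, rfl⟩
      exact (Submodule.mem_bot k).2 (hcon a ha b hb)
    exact (Submodule.mem_bot k).1 (this h3)
  obtain ⟨m, hm, n, hn, hmn⟩ := h4
  have hm0 : m ≠ 0 := by
    rintro rfl
    exact hmn (TensorProduct.zero_tmul _ _)
  have hn0 : n ≠ 0 := by
    rintro rfl
    exact hmn (TensorProduct.tmul_zero _ _)
  have hntM : Nontrivial M := ⟨⟨m, 0, hm0⟩⟩
  have hntN : Nontrivial N := ⟨⟨n, 0, hn0⟩⟩
  have hntR : Nontrivial R := Module.nontrivial R M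
  have hntS : Nontrivial S := Module.nontrivial S N
  have hIR : (irr 𝒜).IsPrime := (irr_isMaximal 𝒜 hposR h0R).isPrime
  have hIS : (irr ℬ).IsPrime := (irr_isMaximal ℬ hposS h0S).isPrime
  have hcmM : LocCoh.IsCohenMacaulayModule (Localization.AtPrime (irr 𝒜))
      (LocalizedModule (irr 𝒜).primeCompl M) := by
    rcases hMcm (irr 𝒜) with h | h
    · exfalso
      have := irr_mem_support 𝒜 hposR h0R ℳ hIR
      rw [Module.mem_support_iff] at this
      exact not_subsingleton _ h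
    · exact h
  have hcmN : LocCoh.IsCohenMacaulayModule (Localization.AtPrime (irr ℬ))
      (LocalizedModule (irr ℬ).primeCompl N) := by
    rcases hNcm (irr ℬ) with h | h
    · exfalso
      have := irr_mem_support ℬ hposS h0S 𝒩 hIS
      rw [Module.mem_support_iff] at this
      exact not_subsingleton _ h
    · exact h
  obtain ⟨a, rfl⟩ : ∃ a, r = a + 1 := ⟨r - 1, by omega⟩
  obtain ⟨b, rfl⟩ : ∃ b, s = b + 1 := ⟨s - 1, by omega⟩
  obtain ⟨e₁, he₁, H₁⟩ := exists_param_module 𝒜 ℳ hposR h0R (a + 1) hdM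
  obtain ⟨e₂, he₂, H₂⟩ := exists_param_module ℬ 𝒩 hposS h0S (b + 1) hdN
  have he : 0 < e₁ * e₂ := Nat.mul_pos he₁ he₂
  obtain ⟨x, hx, hxfin, -⟩ := H₁ (e₁ * e₂) he (dvd_mul_right _ _)
  obtain ⟨y, hy, hyfin, -⟩ := H₂ (e₁ * e₂) he (dvd_mul_left _ _)
  have hfinP : Module.Finite T P :=
    Groth.Agent.Helper9.SegreMod.main k R 𝒜 S ℬ T 𝒯 ψ hT M ℳ N 𝒩 P 𝒬 φ hP
  have hmi := injective_evalSmul_of_cm 𝒜 hposR h0R ℳ (a + 1) hdM hcmM x hm hm0
  have hni := injective_evalSmul_of_cm ℬ hposS h0S 𝒩 (b + 1) hdN hcmN y hn hn0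
  have h := supportDim_P 𝒜 ℬ ℳ 𝒩 x y 𝒯 ψ hT.1 hT.2 (e₁ * e₂) hx hy 𝒬 φ hP he i m hm n hn hmi hni
  rw [h]
  congr 1
  omega

end Groth.Agent.Helper7.SegMod
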