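import Mathlib
import Groth.Prelude.Def_GrLC
import Groth.Prelude.Def_Wider
import Groth.Prelude.Def_GrSeg
import Groth.Agent.Helper7.KunW
import Groth.Agent.Helper7.GrCM2
import Groth.Agent.Helper7.SegModF
import Groth.Agent.Helper1.LocCohVanish
import Groth.Agent.Helper6.GrExist

/-!
# Künneth project, part Y: Cohen–Macaulayness of Segre products of Cohen–Macaulay modules of dimension `≥ 2`
(helper7)
-/

set_option autoImplicit false
set_option linter.unusedSectionVars false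
set_option linter.style.haveILetI false

namespace Groth.Agent.Helper7.Kun

open TensorProduct Groth.Agent.Helper9.SegreMod Groth.Agent.Helper9.Segre
  Groth.Agent.Helper7.SegMod Groth.Agent.Helper7.KunLA Groth.Agent.Helper7.GrAcy
  Groth.Agent.Helper7.SegDim Groth.Agent.Helper7.GrCM

universe u

section Field

/-- over a ring which is a field, a finite submodule has rank zero iff it is zero -/
theorem finrank_eq_zero_iff_of_isField {A : Type*} [CommRing A] (hA : IsField A) {Y : Type*}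
    [AddCommGroup Y] [Module A Y] (X : Submodule A Y) [Module.Finite A X] :
    Module.finrank A X = 0 ↔ X = ⊥ := by
  haveI : IsDomain A := hA.isDomain
  haveI : Module.IsTorsionFree A Y := by
    apply Module.IsTorsionFree.of_smul_eq_zero
    intro r m hrm
    by_cases hr : r = 0
    · exact Or.inl hr
    · right
      obtain ⟨b, hb⟩ := hA.mul_inv_cancel hr
      calc m = (b * r) • m := by rw [mul_comm, hb, one_smul]
        _ = 0 := by rw [mul_smul, hrm, smul_zero]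
  exact Submodule.finrank_eq_zero

variable {k R : Type u} [Field k] [CommRing R] [Algebra k R]
  {𝒜 : ℤ → Submodule k R} [GradedAlgebra 𝒜]

theorem deg0_isField [Nontrivial R] (h0 : 𝒜 0 = Submodule.span k {(1 : R)}) :
    IsField (GrLC.deg0 𝒜) :=
  (RingEquiv.ofBijective (kToDeg0S 𝒜) (kToDeg0S_bijective h0)).symm.toMulEquiv.isField
    (Field.toIsField k)

end Field

section Y1

variable {k : Type u} [Field k] {R S T : Type u} [CommRing R] [Algebra k R] [CommRing S] [Algebra k S]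
  [CommRing T] [Algebra k T]
  (𝒜 : ℤ → Submodule k R) [GradedAlgebra 𝒜] (ℬ : ℤ → Submodule k S) [GradedAlgebra ℬ]
  (𝒯 : ℤ → Submodule k T) [GradedAlgebra 𝒯] (ψ : T →ₐ[k] R ⊗[k] S)
  (hT : GrSeg.IsSegreRing 𝒜 ℬ 𝒯 ψ)
  {M : Type u} [AddCommGroup M] [Module R M] [Module k M] [IsScalarTower k R M]
  (ℳ : ℤ → AddSubgroup M) [DirectSum.Decomposition ℳ] [SetLike.GradedSMul 𝒜 ℳ]
  {N : Type u} [AddCommGroup N] [Module S N] [Module k N] [IsScalarTower k S N]
  (𝒩 : ℤ → AddSubgroup N) [DirectSum.Decomposition 𝒩] [SetLike.GradedSMul ℬ 𝒩]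
  {P : Type u} [AddCommGroup P] [Module T P] [Module k P] [IsScalarTower k T P]
  (𝒬 : ℤ → AddSubgroup P) [DirectSum.Decomposition 𝒬]
  (φ : P →ₗ[k] M ⊗[k] N) (hP : GrSeg.IsSegreMod ψ ℳ 𝒩 𝒬 φ)

include hT hP in
/-- a Segre product of graded modules is a graded module over the Segre product of the rings -/
theorem gradedSMul_of_isSegreMod : SetLike.GradedSMul 𝒯 𝒬 := by
  refine ⟨fun {i j t p} ht hp => ?_⟩
  rw [vadd_eq_add]
  have h1 : φ p ∈ GrSeg.segrePiece k ℳ 𝒩 j := by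
    have : φ p ∈ φ '' (𝒬 j : Set P) := ⟨p, hp, rfl⟩
    rw [hP.image_piece j] at this
    exact this
  have h2 : φ (t • p) ∈ GrSeg.segrePiece k ℳ 𝒩 (i + j) := by
    rw [hP.map_smul]
    exact act_segrePiece 𝒜 ℬ ℳ 𝒩 (psi_mem_segrePiece 𝒜 ℬ 𝒯 ψ hT ht) h1
  have h3 : φ (t • p) ∈ φ '' (𝒬 (i + j) : Set P) := by
    rw [hP.image_piece]
    exact h2
  obtain ⟨p', hp', he⟩ := h3
  rw [← hP.injective he]
  exact hp'

include hP in
theorem nontrivial_left_of_isSegreMod [Nontrivial P] : Nontrivial M := by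
  by_contra hM
  rw [not_nontrivial_iff_subsingleton] at hM
  obtain ⟨p, hp⟩ := exists_ne (0 : P)
  apply hp
  apply hP.injective
  rw [map_zero]
  induction φ p using TensorProduct.induction_on with
  | zero => rfl
  | tmul x y => rw [Subsingleton.elim x 0, zero_tmul]
  | add a b ha hb => rw [ha, hb, add_zero]

include hP in
theorem nontrivial_right_of_isSegreMod [Nontrivial P] : Nontrivial N := by
  by_contra hN
  rw [not_nontrivial_iff_subsingleton] at hN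
  obtain ⟨p, hp⟩ := exists_ne (0 : P)
  apply hp
  apply hP.injective
  rw [map_zero]
  induction φ p using TensorProduct.induction_on with
  | zero => rfl
  | tmul x y => rw [Subsingleton.elim y 0, tmul_zero]
  | add a b ha hb => rw [ha, hb, add_zero]

end Y1

section Y3

variable {k R : Type u} [Field k] [CommRing R] [Algebra k R] (𝒜 : ℤ → Submodule k R)
  [GradedAlgebra 𝒜]
  (hpos : ∀ n : ℤ, n < 0 → 𝒜 n = ⊥) (h0 : 𝒜 0 = Submodule.span k {(1 : R)})
  [Algebra.FiniteType k R]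
  {M : Type u} [AddCommGroup M] [Module R M] [Module.Finite R M]
  (ℳ : ℤ → AddSubgroup M) [DirectSum.Decomposition ℳ] [SetLike.GradedSMul 𝒜 ℳ]
  (mR : HomogeneousIdeal 𝒜)
  (hmR : mR.toIdeal = Ideal.span (⋃ n ∈ Set.Ioi (0 : ℤ), (𝒜 n : Set R)))
  (E : GrLC.StarInjRes 𝒜 ℳ)

/-- Grothendieck vanishing for the graded local cohomology pieces -/
theorem Hcomp_eq_bot_of_dim_lt (n : ℕ) (hn : Module.supportDim R M = n) (i : ℕ) (hi : n < i)
    (d : ℤ) : E.Hcomp mR i d = ⊥ := by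
  haveI hN : IsNoetherianRing R := Algebra.FiniteType.isNoetherianRing k R
  have h1 : Subsingleton (LocCoh.H mR.toIdeal i M) :=
    ModuleCat.isZero_iff_subsingleton.1
      (Groth.Agent.Helper1.LocCohVanish.isZero_lc_of_supportDim_lt mR.toIdeal M i (by
        rw [hn]; exact_mod_cast hi))
  obtain ⟨e⟩ := nonempty_H_equiv_lc 𝒜 ℳ mR E i
  have h2 : Subsingleton (E.H mR i) := e.toEquiv.subsingleton_congr.mpr h1
  exact (Groth.Agent.Helper7.GrCM.subsingleton_H_iff 𝒜 ℳ mR E i).mp h2 d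

include hpos h0 hmR in
/-- the graded local cohomology of a Cohen–Macaulay module is concentrated in degree `dim M` -/
theorem Hcomp_eq_bot_of_cm [Nontrivial M] (n : ℕ) (hn : Module.supportDim R M = n)
    (hCM : ∀ (q : Ideal R) [q.IsPrime], Subsingleton (LocalizedModule q.primeCompl M) ∨
      LocCoh.IsCohenMacaulayModule (Localization.AtPrime q) (LocalizedModule q.primeCompl M))
    (i : ℕ) (hi : i ≠ n) (d : ℤ) : E.Hcomp mR i d = ⊥ := by
  rcases lt_or_gt_of_ne hi with h | h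
  · exact (cm_iff_Hcomp 𝒜 hpos h0 ℳ mR hmR E n hn).mp hCM i h d
  · exact Hcomp_eq_bot_of_dim_lt 𝒜 ℳ mR E n hn i h d

include hpos h0 hmR in
theorem finrank_Hcomp_eq_zero_iff [Nontrivial R] (i : ℕ) (d : ℤ) :
    Module.finrank (GrLC.deg0 𝒜) (E.Hcomp mR i d) = 0 ↔ E.Hcomp mR i d = ⊥ := by
  haveI hN : IsNoetherianRing R := Algebra.FiniteType.isNoetherianRing k R
  haveI := finite_Hcomp hpos mR hmR E d i
  exact finrank_eq_zero_iff_of_isField (deg0_isField h0) _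

include h0 in
theorem finrank_comp_eq_zero_iff [Nontrivial R] (d : ℤ) :
    Module.finrank (GrLC.deg0 𝒜) (GrLC.comp 𝒜 ℳ d) = 0 ↔ ℳ d = ⊥ := by
  haveI hN : IsNoetherianRing R := Algebra.FiniteType.isNoetherianRing k R
  haveI : IsNoetherian R M := isNoetherian_of_isNoetherianRing_of_finite R M
  haveI : SetLike.GradedSMul (plus 𝒜) ℳ := gradedSMul_plus 𝒜 ℳ
  haveI : Module.Finite (GrLC.deg0 𝒜) ↥(GrLC.comp 𝒜 ℳ d) :=
    Module.Finite.iff_fg.mpr (comp_fg (plus 𝒜) ℳ d)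
  rw [finrank_eq_zero_iff_of_isField (deg0_isField h0) _]
  constructor
  · intro h
    rw [eq_bot_iff]
    intro x hx
    have hx' : x ∈ GrLC.comp 𝒜 ℳ d := hx
    rw [h] at hx'
    exact AddSubgroup.mem_bot.mpr ((Submodule.mem_bot _).mp hx')
  · intro h
    rw [eq_bot_iff]
    intro x hx
    have hx' : x ∈ ℳ d := hx
    rw [h] at hx'
    exact (Submodule.mem_bot _).mpr (AddSubgroup.mem_bot.mp hx')

end Y3

section OfPlus

variable {ι : Type} [AddCommGroup ι] [DecidableEq ι] {k R : Type u} [CommRing k] [CommRing R]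
  [Algebra k R] (𝒜 : ι → Submodule k R) [GradedAlgebra 𝒜]

theorem isStarInj_gmodOfPlus (X : GrLC.GMod.{u} (plus 𝒜)) (h : GrLC.IsStarInj (plus 𝒜) X.gr) :
    GrLC.IsStarInj 𝒜 (gmodOfPlus 𝒜 X).gr := by
  intro A B f hf hinj g hg
  exact h (gmodPlus 𝒜 A) (gmodPlus 𝒜 B) f hf hinj g hg

variable {M : Type u} [AddCommGroup M] [Module R M] (ℳ : ι → AddSubgroup M)
  [DirectSum.Decomposition ℳ] [SetLike.GradedSMul 𝒜 ℳ]

/-- a *injective resolution over the retyped grading, retyped back -/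
noncomputable def resOfPlus [SetLike.GradedSMul (plus 𝒜) ℳ] (E : GrLC.StarInjRes (plus 𝒜) ℳ) :
    GrLC.StarInjRes 𝒜 ℳ where
  X n := gmodOfPlus 𝒜 (E.X n)
  d := E.d
  ε := E.ε
  d_grHom := E.d_grHom
  ε_grHom := E.ε_grHom
  ε_injective := E.ε_injective
  exact_zero := E.exact_zero
  exact_succ := E.exact_succ
  starInj n := isStarInj_gmodOfPlus 𝒜 (E.X n) (E.starInj n)

/-- *injective resolutions exist over rings graded by submodules -/
theorem nonempty_starInjRes_sub : Nonempty (GrLC.StarInjRes 𝒜 ℳ) := by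
  haveI : SetLike.GradedSMul (plus 𝒜) ℳ := gradedSMul_plus 𝒜 ℳ
  obtain ⟨E⟩ := Groth.Agent.Helper6.GrExist.nonempty_starInjRes (plus 𝒜) ℳ
  exact ⟨resOfPlus 𝒜 ℳ E⟩

end OfPlus

section Main

variable {k : Type u} [Field k] {R : Type u} [CommRing R] [Algebra k R]
  {𝒜 : ℤ → Submodule k R} [GradedAlgebra 𝒜]
  (hposR : ∀ n : ℤ, n < 0 → 𝒜 n = ⊥) (h0R : 𝒜 0 = Submodule.span k {(1 : R)})
  [Algebra.FiniteType k R]
  {S : Type u} [CommRing S] [Algebra k S]
  {ℬ : ℤ → Submodule k S} [GradedAlgebra ℬ]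
  (hposS : ∀ n : ℤ, n < 0 → ℬ n = ⊥) (h0S : ℬ 0 = Submodule.span k {(1 : S)})
  [Algebra.FiniteType k S]
  {T : Type u} [CommRing T] [Algebra k T] (𝒯 : ℤ → Submodule k T) [GradedAlgebra 𝒯]
  (ψ : T →ₐ[k] R ⊗[k] S) (hT : GrSeg.IsSegreRing 𝒜 ℬ 𝒯 ψ)
  (mR : HomogeneousIdeal 𝒜)
  (hmR : mR.toIdeal = Ideal.span (⋃ n ∈ Set.Ioi (0 : ℤ), (𝒜 n : Set R)))
  (mS : HomogeneousIdeal ℬ)
  (hmS : mS.toIdeal = Ideal.span (⋃ n ∈ Set.Ioi (0 : ℤ), (ℬ n : Set S)))
  {M : Type u} [AddCommGroup M] [Module R M] [Module k M] [IsScalarTower k R M]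
  {ℳ : ℤ → AddSubgroup M} [DirectSum.Decomposition ℳ] [SetLike.GradedSMul 𝒜 ℳ]
  [Module.Finite R M] (EM : GrLC.StarInjRes 𝒜 ℳ)
  {N : Type u} [AddCommGroup N] [Module S N] [Module k N] [IsScalarTower k S N]
  {𝒩 : ℤ → AddSubgroup N} [DirectSum.Decomposition 𝒩] [SetLike.GradedSMul ℬ 𝒩]
  [Module.Finite S N] (EN : GrLC.StarInjRes ℬ 𝒩)
  {P : Type u} [AddCommGroup P] [Module T P] [Module k P] [IsScalarTower k T P]
  {𝒬 : ℤ → AddSubgroup P} [DirectSum.Decomposition 𝒬]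
  (φ : P →ₗ[k] M ⊗[k] N) (hP : GrSeg.IsSegreMod ψ ℳ 𝒩 𝒬 φ)

include hposR h0R hposS h0S hT hmR hmS hP in
/-- **Cohen–Macaulayness of the Segre product of two Cohen–Macaulay modules of dimension `≥ 2`** -/
theorem cm_segre_iff_of_two_le [Nontrivial P] (r s : ℕ) (h2r : 2 ≤ r) (h2s : 2 ≤ s)
    (hdM : Module.supportDim R M = r) (hdN : Module.supportDim S N = s)
    (hMcm : ∀ (q : Ideal R) [q.IsPrime], Subsingleton (LocalizedModule q.primeCompl M) ∨
      LocCoh.IsCohenMacaulayModule (Localization.AtPrime q) (LocalizedModule q.primeCompl M))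
    (hNcm : ∀ (q : Ideal S) [q.IsPrime], Subsingleton (LocalizedModule q.primeCompl N) ∨
      LocCoh.IsCohenMacaulayModule (Localization.AtPrime q) (LocalizedModule q.primeCompl N)) :
    (∀ (q : Ideal T) [q.IsPrime], Subsingleton (LocalizedModule q.primeCompl P) ∨
      LocCoh.IsCohenMacaulayModule (Localization.AtPrime q) (LocalizedModule q.primeCompl P)) ↔
      (∀ d : ℤ, ℳ d = ⊥ ∨ EN.Hcomp mS s d = ⊥) ∧ (∀ d : ℤ, EM.Hcomp mR r d = ⊥ ∨ 𝒩 d = ⊥) := by
  haveI : SetLike.GradedSMul 𝒯 𝒬 := gradedSMul_of_isSegreMod 𝒜 ℬ 𝒯 ψ hT ℳ 𝒩 𝒬 φ hP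
  haveI : Nontrivial M := nontrivial_left_of_isSegreMod ψ ℳ 𝒩 𝒬 φ hP
  haveI : Nontrivial N := nontrivial_right_of_isSegreMod ψ ℳ 𝒩 𝒬 φ hP
  haveI : Nontrivial R := Module.nontrivial R M
  haveI : Nontrivial S := Module.nontrivial S N
  haveI : Nontrivial T := Module.nontrivial T P
  haveI : IsNoetherianRing R := Algebra.FiniteType.isNoetherianRing k R
  haveI : IsNoetherianRing S := Algebra.FiniteType.isNoetherianRing k S
  haveI : IsNoetherianRing (R ⊗[k] S) := isNoetherianRing_tensor k R S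
  have hposT : ∀ n : ℤ, n < 0 → 𝒯 n = ⊥ :=
    Groth.Agent.Helper7.SegOne.segre_hpos 𝒜 ℬ 𝒯 ψ hT.1 hT.2 hposR
  have h0T : 𝒯 0 = Submodule.span k {(1 : T)} :=
    Groth.Agent.Helper7.SegOne.segre_h0 𝒜 ℬ 𝒯 ψ hT.1 hT.2 h0R h0S
  haveI : IsNoetherianRing T := Groth.Agent.Helper9.Segre.noeth 𝒜 ℬ 𝒯 ψ hT.2 hT.1
  haveI : Algebra.FiniteType k T := Groth.Agent.Helper7.SegOne.finiteType_of_noeth 𝒯 hposT h0T
  haveI : Module.Finite T P :=
    Groth.Agent.Helper9.SegreMod.main k R 𝒜 S ℬ T 𝒯 ψ hT M ℳ N 𝒩 P 𝒬 φ hP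
  let mT : HomogeneousIdeal 𝒯 := ⟨irr 𝒯, irr_isHomogeneous 𝒯⟩
  have hmT : mT.toIdeal = Ideal.span (⋃ n ∈ Set.Ioi (0 : ℤ), (𝒯 n : Set T)) := irr_eq_span 𝒯
  obtain ⟨EP⟩ := nonempty_starInjRes_sub 𝒯 𝒬
  have hdP : Module.supportDim T P = ((r + s - 1 : ℕ) : WithBot ℕ∞) := by
    rcases main_cm k R 𝒜 hposR h0R S ℬ hposS h0S T 𝒯 ψ hT M ℳ N 𝒩 P 𝒬 φ hP r s (by omega)
      (by omega) hdM hdN hMcm hNcm with h | h
    · exact h
    · exact absurd h (not_subsingleton P)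
  have hM : ∀ i : ℕ, i ≠ r → ∀ d : ℤ, EM.Hcomp mR i d = ⊥ := fun i hi d =>
    Hcomp_eq_bot_of_cm 𝒜 hposR h0R ℳ mR hmR EM r hdM hMcm i hi d
  have hN : ∀ i : ℕ, i ≠ s → ∀ d : ℤ, EN.Hcomp mS i d = ⊥ := fun i hi d =>
    Hcomp_eq_bot_of_cm ℬ hposS h0S 𝒩 mS hmS EN s hdN hNcm i hi d
  have hfM : ∀ i : ℕ, i ≠ r → ∀ d : ℤ,
      Module.finrank (GrLC.deg0 𝒜) (EM.Hcomp mR i d) = 0 := fun i hi d => by
    rw [hM i hi d]; exact finrank_bot _ _
  have hfN : ∀ i : ℕ, i ≠ s → ∀ d : ℤ,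
      Module.finrank (GrLC.deg0 ℬ) (EN.Hcomp mS i d) = 0 := fun i hi d => by
    rw [hN i hi d]; exact finrank_bot _ _
  -- the Künneth formula, simplified
  have key : ∀ q : ℕ, q < r + s - 1 → ∀ d : ℤ,
      Module.finrank (GrLC.deg0 𝒯) (EP.Hcomp mT q d) =
        Module.finrank (GrLC.deg0 𝒜) (GrLC.comp 𝒜 ℳ d) *
            Module.finrank (GrLC.deg0 ℬ) (EN.Hcomp mS q d) +
          Module.finrank (GrLC.deg0 𝒜) (EM.Hcomp mR q d) *
            Module.finrank (GrLC.deg0 ℬ) (GrLC.comp ℬ 𝒩 d) := by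
    intro q hq d
    rw [kunneth_finrank hposR h0R hposS h0S 𝒯 ψ hT mR hmR mS hmS mT hmT EM EN φ hP EP d
      (hM 0 (by omega) d) (hM 1 (by omega) d) (hN 0 (by omega) d) (hN 1 (by omega) d) q]
    rw [Finset.sum_eq_zero, add_zero]
    intro i hi
    rw [Finset.mem_range] at hi
    by_cases hir : i = r
    · rw [hfN (q + 1 - i) (by omega) d, mul_zero]
    · rw [hfM i hir d, zero_mul]
  rw [cm_iff_Hcomp 𝒯 hposT h0T 𝒬 mT hmT EP (r + s - 1) hdP]
  constructor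
  · intro h
    constructor
    · intro d
      have h1 := key s (by omega) d
      rw [h s (by omega) d, finrank_bot] at h1
      rcases Nat.mul_eq_zero.mp (Nat.add_eq_zero_iff.mp h1.symm).1 with h2 | h2
      · exact Or.inl ((finrank_comp_eq_zero_iff 𝒜 h0R ℳ d).mp h2)
      · exact Or.inr ((finrank_Hcomp_eq_zero_iff ℬ hposS h0S 𝒩 mS hmS EN s d).mp h2)
    · intro d
      have h1 := key r (by omega) d
      rw [h r (by omega) d, finrank_bot] at h1
      rcases Nat.mul_eq_zero.mp (Nat.add_eq_zero_iff.mp h1.symm).2 with h2 | h2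
      · exact Or.inl ((finrank_Hcomp_eq_zero_iff 𝒜 hposR h0R ℳ mR hmR EM r d).mp h2)
      · exact Or.inr ((finrank_comp_eq_zero_iff ℬ h0S 𝒩 d).mp h2)
  · rintro ⟨h1, h2⟩ q hq d
    rw [← finrank_Hcomp_eq_zero_iff 𝒯 hposT h0T 𝒬 mT hmT EP q d, key q hq d]
    have t1 : Module.finrank (GrLC.deg0 𝒜) (GrLC.comp 𝒜 ℳ d) *
        Module.finrank (GrLC.deg0 ℬ) (EN.Hcomp mS q d) = 0 := by
      by_cases hqs : q = s
      · subst hqs
        rcases h1 d with h | h
        · rw [(finrank_comp_eq_zero_iff 𝒜 h0R ℳ d).mpr h, zero_mul]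
        · rw [h, finrank_bot, mul_zero]
      · rw [hfN q hqs d, mul_zero]
    have t2 : Module.finrank (GrLC.deg0 𝒜) (EM.Hcomp mR q d) *
        Module.finrank (GrLC.deg0 ℬ) (GrLC.comp ℬ 𝒩 d) = 0 := by
      by_cases hqr : q = r
      · subst hqr
        rcases h2 d with h | h
        · rw [h, finrank_bot, zero_mul]
        · rw [(finrank_comp_eq_zero_iff ℬ h0S 𝒩 d).mpr h, mul_zero]
      · rw [hfM q hqr d, zero_mul]
    rw [t1, t2]

end Main

end Groth.Agent.Helper7.Kun
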