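import Mathlib
import Groth.Prelude.Def_GrLC
import Groth.Prelude.Def_Wider
import Groth.Prelude.Def_GrSeg
import Groth.Agent.Helper7.KunY
import Groth.Agent.Helper7.KunX

/-!
# Künneth project, part Z: Cohen–Macaulayness of Segre products of Cohen–Macaulay rings of dimension `≥ 2`
(helper7)
-/

set_option autoImplicit false
set_option linter.unusedSectionVars false
set_option linter.style.haveILetI false

namespace Groth.Agent.Helper7.Kun

open TensorProduct Groth.Agent.Helper9.SegreMod Groth.Agent.Helper9.Segre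

universe u

/-- a Noetherian ring is Cohen–Macaulay iff it is a Cohen–Macaulay module over itself -/
theorem cmRing_iff_cmModule (R : Type u) [CommRing R] [IsNoetherianRing R] :
    LocCoh.IsCohenMacaulayRing R ↔
      ∀ (q : Ideal R) [q.IsPrime], Subsingleton (LocalizedModule q.primeCompl R) ∨
        LocCoh.IsCohenMacaulayModule (Localization.AtPrime q) (LocalizedModule q.primeCompl R) := by
  constructor
  · intro h q hq
    right
    exact (h.isCohenMacaulayLocalRing_localization q).supportDim_eq_depth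
  · intro h
    refine ⟨fun p hp => ?_⟩
    rcases h p with h1 | h1
    · exfalso
      have : Nontrivial (LocalizedModule p.primeCompl R) :=
        inferInstanceAs (Nontrivial (Localization.AtPrime p))
      exact not_subsingleton _ h1
    · exact { supportDim_eq_depth := h1 }

section RingCase

variable {k : Type u} [Field k] {R : Type u} [CommRing R] [Algebra k R]
  {𝒜 : ℤ → Submodule k R} [GradedAlgebra 𝒜]
  (hposR : ∀ n : ℤ, n < 0 → 𝒜 n = ⊥) (h0R : 𝒜 0 = Submodule.span k {(1 : R)})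
  [Algebra.FiniteType k R]
  {S : Type u} [CommRing S] [Algebra k S]
  {ℬ : ℤ → Submodule k S} [GradedAlgebra ℬ]
  (hposS : ∀ n : ℤ, n < 0 → ℬ n = ⊥) (h0S : ℬ 0 = Submodule.span k {(1 : S)})
  [Algebra.FiniteType k S]
  {T : Type u} [CommRing T] [Algebra k T] (𝒯 : ℤ → Submodule k T) [GradedAlgebra 𝒯]
  (ψ : T →ₐ[k] R ⊗[k] S) (hT : GrSeg.IsSegreRing 𝒜 ℬ 𝒯 ψ)
  (mR : HomogeneousIdeal 𝒜)
  (hmR : mR.toIdeal = Ideal.span (⋃ n ∈ Set.Ioi (0 : ℤ), (𝒜 n : Set R)))
  (mS : HomogeneousIdeal ℬ)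
  (hmS : mS.toIdeal = Ideal.span (⋃ n ∈ Set.Ioi (0 : ℤ), (ℬ n : Set S)))
  (I : GrLC.StarInjRes 𝒜 𝒜) (J : GrLC.StarInjRes ℬ ℬ)

theorem plus_eq_bot_iff (n : ℤ) : plus 𝒜 n = ⊥ ↔ 𝒜 n = ⊥ := by
  constructor
  · intro h
    rw [eq_bot_iff]
    intro x hx
    have hx' : x ∈ plus 𝒜 n := hx
    rw [h] at hx'
    exact (Submodule.mem_bot _).mpr (AddSubgroup.mem_bot.mp hx')
  · intro h
    rw [eq_bot_iff]
    intro x hx
    have hx' : x ∈ 𝒜 n := hx
    rw [h] at hx'
    exact AddSubgroup.mem_bot.mpr ((Submodule.mem_bot _).mp hx')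

include hT in
theorem nontrivial_segre [Nontrivial R] [Nontrivial S] : Nontrivial T := by
  haveI : Nontrivial (R ⊗[k] S) :=
    Algebra.TensorProduct.nontrivial_of_algebraMap_injective_of_flat_left k R S
      (algebraMap k S).injective
  exact ψ.toRingHom.domain_nontrivial

include hT in
theorem noeth_segre : IsNoetherianRing T := by
  haveI : IsNoetherianRing R := Algebra.FiniteType.isNoetherianRing k R
  haveI : IsNoetherianRing S := Algebra.FiniteType.isNoetherianRing k S
  haveI : IsNoetherianRing (R ⊗[k] S) := isNoetherianRing_tensor k R S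
  exact Groth.Agent.Helper9.Segre.noeth 𝒜 ℬ 𝒯 ψ hT.2 hT.1

include hposR h0R hposS h0S hT hmR hmS in
/-- **Cohen–Macaulayness of the Segre product of two Cohen–Macaulay rings of dimension `≥ 2`** -/
theorem cm_segre_ring_iff_of_two_le [LocCoh.IsCohenMacaulayRing R] [LocCoh.IsCohenMacaulayRing S]
    (r s : ℕ) (hr : ringKrullDim R = r) (hs : ringKrullDim S = s) (h2r : 2 ≤ r) (h2s : 2 ≤ s) :
    LocCoh.IsCohenMacaulayRing T ↔
      (∀ n : ℤ, 𝒜 n = ⊥ ∨ J.Hcomp mS s n = ⊥) ∧ (∀ n : ℤ, I.Hcomp mR r n = ⊥ ∨ ℬ n = ⊥) := by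
  haveI : IsNoetherianRing R := Algebra.FiniteType.isNoetherianRing k R
  haveI : IsNoetherianRing S := Algebra.FiniteType.isNoetherianRing k S
  haveI : Nontrivial R := by
    by_contra hcon
    rw [not_nontrivial_iff_subsingleton] at hcon
    rw [ringKrullDim_eq_bot_of_subsingleton] at hr
    exact WithBot.bot_ne_coe hr
  haveI : Nontrivial S := by
    by_contra hcon
    rw [not_nontrivial_iff_subsingleton] at hcon
    rw [ringKrullDim_eq_bot_of_subsingleton] at hs
    exact WithBot.bot_ne_coe hs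
  haveI : Nontrivial T := nontrivial_segre 𝒯 ψ hT
  haveI : IsNoetherianRing T := noeth_segre 𝒯 ψ hT
  haveI : SetLike.GradedSMul 𝒜 (plus 𝒜) := gradedSMul_self 𝒜
  haveI : SetLike.GradedSMul ℬ (plus ℬ) := gradedSMul_self ℬ
  have hP := isSegreMod_self 𝒜 ℬ 𝒯 ψ hT
  have h := cm_segre_iff_of_two_le hposR h0R hposS h0S 𝒯 ψ hT mR hmR mS hmS
    (resSelf 𝒜 I) (resSelf ℬ J) ψ.toLinearMap hP r s h2r h2s
    ((Module.supportDim_self_eq_ringKrullDim R).trans hr)
    ((Module.supportDim_self_eq_ringKrullDim S).trans hs)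
    ((cmRing_iff_cmModule R).mp inferInstance) ((cmRing_iff_cmModule S).mp inferInstance)
  rw [cmRing_iff_cmModule T, h]
  simp only [plus_eq_bot_iff, resSelf_Hcomp]
  exact Iff.rfl

end RingCase

end Groth.Agent.Helper7.Kun
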