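import Mathlib
import Groth.Prelude.Def_GrLC
import Groth.Prelude.Def_Wider
import Groth.Prelude.Def_GrSeg
import Groth.Agent.Helper7.KunZ
import Groth.Agent.Helper7.GrTopRE3

/-!
# Künneth project: Cohen–Macaulayness of Segre products of standard graded Cohen–Macaulay rings via `a`-invariants
(helper7)
-/

set_option autoImplicit false
set_option linter.unusedSectionVars false
set_option linter.style.haveILetI false

namespace Groth.Agent.Helper7.Kun

open TensorProduct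

universe u

section End

variable {H : Type u} [AddCommGroup H] (ℋ : ℤ → AddSubgroup H)

theorem endDeg_lt_zero_iff : GrLC.endDeg ℋ < 0 ↔ ∀ n : ℤ, 0 ≤ n → ℋ n = ⊥ := by
  constructor
  · intro h n hn
    by_contra hne
    have h1 : ((n : WithTop ℤ) : WithBot (WithTop ℤ)) ≤ GrLC.endDeg ℋ :=
      le_iSup₂ (f := fun (n : ℤ) (_ : ℋ n ≠ ⊥) => ((n : WithTop ℤ) : WithBot (WithTop ℤ))) n hne
    have h2 : ((n : WithTop ℤ) : WithBot (WithTop ℤ)) < (((0 : ℤ) : WithTop ℤ) : WithBot (WithTop ℤ)) :=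
      lt_of_le_of_lt h1 h
    rw [WithBot.coe_lt_coe, WithTop.coe_lt_coe] at h2
    omega
  · intro h
    have hle : GrLC.endDeg ℋ ≤ (((-1 : ℤ) : WithTop ℤ) : WithBot (WithTop ℤ)) := by
      unfold GrLC.endDeg
      refine iSup₂_le fun n hn => ?_
      rw [WithBot.coe_le_coe, WithTop.coe_le_coe]
      by_contra hcon
      exact hn (h n (by omega))
    refine lt_of_le_of_lt hle ?_
    show (((-1 : ℤ) : WithTop ℤ) : WithBot (WithTop ℤ)) < (((0 : ℤ) : WithTop ℤ) : WithBot (WithTop ℤ))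
    rw [WithBot.coe_lt_coe, WithTop.coe_lt_coe]
    omega

end End

section Std

variable {k R : Type u} [Field k] [CommRing R] [Algebra k R]
  (𝒜 : ℤ → Submodule k R) [GradedAlgebra 𝒜] [IsNoetherianRing R]
  (mR : HomogeneousIdeal 𝒜)
  (hstd : mR.toIdeal = Ideal.span ((𝒜 1 : Submodule k R) : Set R))
  (I : GrLC.StarInjRes 𝒜 𝒜)

include hstd in
/-- for a standard graded ring of dimension `r ≥ 1`, the vanishing of the top local cohomology propagates upwards -/
theorem hgr_self_eq_bot_of_le (r : ℕ) (hr : 1 ≤ r) (hdim : ringKrullDim R = r) (j : ℤ)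
    (hj : I.Hgr mR r j = ⊥) (n : ℤ) (hn : j ≤ n) : I.Hgr mR r n = ⊥ := by
  haveI : SetLike.GradedSMul 𝒜 (plus 𝒜) := gradedSMul_self 𝒜
  have hk : ∀ t : ℕ, I.Hgr mR r (j + t) = ⊥ := by
    intro t
    induction t with
    | zero => rw [Nat.cast_zero, add_zero]; exact hj
    | succ t ih =>
      have := Groth.Agent.Helper7.GrTopRE.hgr_succ_eq_bot (plus 𝒜) (idealPlus 𝒜 mR) r hr hdim hstd
        (resPlus 𝒜 (resSelf 𝒜 I)) (j + t) ih
      rw [Nat.cast_succ, ← add_assoc]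
      exact this
  have h := hk (n - j).toNat
  have e : j + ((n - j).toNat : ℤ) = n := by
    rw [Int.toNat_of_nonneg (by omega)]
    ring
  rw [e] at h
  exact h

theorem hgr_eq_bot_iff_hcomp (r : ℕ) (n : ℤ) : I.Hgr mR r n = ⊥ ↔ I.Hcomp mR r n = ⊥ := by
  constructor
  · intro h
    rw [eq_bot_iff]
    intro x hx
    have hx' : x ∈ I.Hgr mR r n := hx
    rw [h] at hx'
    exact (Submodule.mem_bot _).mpr (AddSubgroup.mem_bot.mp hx')
  · intro h
    rw [eq_bot_iff]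
    intro x hx
    have hx' : x ∈ I.Hcomp mR r n := hx
    rw [h] at hx'
    exact AddSubgroup.mem_bot.mpr ((Submodule.mem_bot _).mp hx')

end Std

section Main

variable {k : Type u} [Field k] {R : Type u} [CommRing R] [Algebra k R]
  {𝒜 : ℤ → Submodule k R} [GradedAlgebra 𝒜]
  (hposR : ∀ n : ℤ, n < 0 → 𝒜 n = ⊥) (h0R : 𝒜 0 = Submodule.span k {(1 : R)})
  [Algebra.FiniteType k R]
  {S : Type u} [CommRing S] [Algebra k S]
  {ℬ : ℤ → Submodule k S} [GradedAlgebra ℬ]
  (hposS : ∀ n : ℤ, n < 0 → ℬ n = ⊥) (h0S : ℬ 0 = Submodule.span k {(1 : S)})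
  [Algebra.FiniteType k S]
  {T : Type u} [CommRing T] [Algebra k T] (𝒯 : ℤ → Submodule k T) [GradedAlgebra 𝒯]
  (ψ : T →ₐ[k] R ⊗[k] S) (hT : GrSeg.IsSegreRing 𝒜 ℬ 𝒯 ψ)
  (mR : HomogeneousIdeal 𝒜)
  (hmR : mR.toIdeal = Ideal.span (⋃ n ∈ Set.Ioi (0 : ℤ), (𝒜 n : Set R)))
  (hstdR : Ideal.span (⋃ n ∈ Set.Ioi (0 : ℤ), (𝒜 n : Set R)) =
    Ideal.span ((𝒜 1 : Submodule k R) : Set R))
  (mS : HomogeneousIdeal ℬ)
  (hmS : mS.toIdeal = Ideal.span (⋃ n ∈ Set.Ioi (0 : ℤ), (ℬ n : Set S)))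
  (hstdS : Ideal.span (⋃ n ∈ Set.Ioi (0 : ℤ), (ℬ n : Set S)) =
    Ideal.span ((ℬ 1 : Submodule k S) : Set S))
  (I : GrLC.StarInjRes 𝒜 𝒜) (J : GrLC.StarInjRes ℬ ℬ)

theorem deg_zero_ne_bot [Nontrivial R] : 𝒜 0 ≠ ⊥ := by
  intro h
  have h1 : (1 : R) ∈ 𝒜 0 := SetLike.GradedOne.one_mem
  rw [h, Submodule.mem_bot] at h1
  exact one_ne_zero h1

include hposR h0R hposS h0S hT hmR hmS hstdR hstdS in
/-- **Cohen–Macaulayness of the Segre product of standard graded Cohen–Macaulay rings of dimension `≥ 2`** -/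
theorem cm_segre_ring_iff_ainv [LocCoh.IsCohenMacaulayRing R] [LocCoh.IsCohenMacaulayRing S]
    (r s : ℕ) (hr : ringKrullDim R = r) (hs : ringKrullDim S = s) (h2r : 2 ≤ r) (h2s : 2 ≤ s) :
    LocCoh.IsCohenMacaulayRing T ↔
      GrLC.endDeg (I.Hgr mR r) < 0 ∧ GrLC.endDeg (J.Hgr mS s) < 0 := by
  haveI : IsNoetherianRing R := Algebra.FiniteType.isNoetherianRing k R
  haveI : IsNoetherianRing S := Algebra.FiniteType.isNoetherianRing k S
  haveI : Nontrivial R := by
    by_contra hcon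
    rw [not_nontrivial_iff_subsingleton] at hcon
    rw [ringKrullDim_eq_bot_of_subsingleton] at hr
    exact WithBot.bot_ne_coe hr
  haveI : Nontrivial S := by
    by_contra hcon
    rw [not_nontrivial_iff_subsingleton] at hcon
    rw [ringKrullDim_eq_bot_of_subsingleton] at hs
    exact WithBot.bot_ne_coe hs
  rw [cm_segre_ring_iff_of_two_le hposR h0R hposS h0S 𝒯 ψ hT mR hmR mS hmS I J r s hr hs h2r h2s,
    endDeg_lt_zero_iff, endDeg_lt_zero_iff]
  constructor
  · rintro ⟨h1, h2⟩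
    constructor
    · intro n hn
      have h3 : I.Hcomp mR r 0 = ⊥ := by
        rcases h2 0 with h | h
        · exact h
        · exact absurd h deg_zero_ne_bot
      exact hgr_self_eq_bot_of_le 𝒜 mR (hmR.trans hstdR) I r (by omega) hr 0
        ((hgr_eq_bot_iff_hcomp 𝒜 mR I r 0).mpr h3) n hn
    · intro n hn
      have h3 : J.Hcomp mS s 0 = ⊥ := by
        rcases h1 0 with h | h
        · exact absurd h deg_zero_ne_bot
        · exact h
      exact hgr_self_eq_bot_of_le ℬ mS (hmS.trans hstdS) J s (by omega) hs 0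
        ((hgr_eq_bot_iff_hcomp ℬ mS J s 0).mpr h3) n hn
  · rintro ⟨g1, g2⟩
    constructor
    · intro n
      by_cases hn : n < 0
      · exact Or.inl (hposR n hn)
      · exact Or.inr ((hgr_eq_bot_iff_hcomp ℬ mS J s n).mp (g2 n (by omega)))
    · intro n
      by_cases hn : n < 0
      · exact Or.inr (hposS n hn)
      · exact Or.inl ((hgr_eq_bot_iff_hcomp 𝒜 mR I r n).mp (g1 n (by omega)))

end Main

end Groth.Agent.Helper7.Kun
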