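import Mathlib
import Groth.Prelude.Def_GrLC
import Groth.Agent.Helper7.GrDel6
import Groth.Agent.Helper7.GrTopRE3

/-!
# The end of graded local cohomology under the quotient by a homogeneous non-zero-divisor
-/

set_option autoImplicit false
set_option linter.unusedSectionVars false

namespace Groth.Agent.Helper7.GrAInv

open DirectSum Groth.Agent.Helper7.GrDel

universe u

section End

variable {H : Type u} [AddCommGroup H] (ℋ : ℤ → AddSubgroup H)

theorem endDeg_eq_bot_iff : GrLC.endDeg ℋ = ⊥ ↔ ∀ j, ℋ j = ⊥ := by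
  unfold GrLC.endDeg
  rw [iSup_eq_bot]
  constructor
  · intro h j
    by_contra hj
    have := h j
    rw [iSup_eq_bot] at this
    exact WithBot.coe_ne_bot (this hj)
  · intro h j
    rw [iSup_eq_bot]
    intro hj
    exact absurd (h j) hj

theorem endDeg_eq_coe_iff (a : ℤ) :
    GrLC.endDeg ℋ = ((a : WithTop ℤ) : WithBot (WithTop ℤ)) ↔
      ℋ a ≠ ⊥ ∧ ∀ j, a < j → ℋ j = ⊥ := by
  constructor
  · intro h
    refine ⟨Groth.Agent.Helper7.GrTopRE.ne_bot_of_endDeg_eq ℋ a h, fun j hj => ?_⟩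
    by_contra hne
    have h1 : ((j : WithTop ℤ) : WithBot (WithTop ℤ)) ≤ GrLC.endDeg ℋ :=
      le_iSup₂ (f := fun (n : ℤ) (_ : ℋ n ≠ ⊥) => ((n : WithTop ℤ) : WithBot (WithTop ℤ))) j hne
    rw [h, WithBot.coe_le_coe, WithTop.coe_le_coe] at h1
    omega
  · rintro ⟨h1, h2⟩
    apply le_antisymm
    · unfold GrLC.endDeg
      refine iSup₂_le fun n hn => ?_
      rw [WithBot.coe_le_coe, WithTop.coe_le_coe]
      by_contra hcon
      exact hn (h2 n (by omega))
    · exact le_iSup₂ (f := fun (n : ℤ) (_ : ℋ n ≠ ⊥) =>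
        ((n : WithTop ℤ) : WithBot (WithTop ℤ))) a h1

variable {G : Type u} [AddCommGroup G] (𝒢 : ℤ → AddSubgroup G)

/-- abstract form of the shift of the end -/
theorem endDeg_shift (d : ℤ) (hbd : ∃ r : ℤ, ∀ n, r ≤ n → ℋ n = ⊥)
    (h1 : ∀ j, 𝒢 j ≠ ⊥ → ℋ (j - d) ≠ ⊥)
    (h2 : ∀ j, ℋ j ≠ ⊥ → (∀ j', j < j' → ℋ j' = ⊥) → 𝒢 (j + d) ≠ ⊥) :
    GrLC.endDeg 𝒢 = GrLC.endDeg ℋ + ((d : WithTop ℤ) : WithBot (WithTop ℤ)) := by
  by_cases hall : ∀ j, ℋ j = ⊥
  · have hG : ∀ j, 𝒢 j = ⊥ := by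
      intro j
      by_contra hj
      exact h1 j hj (hall _)
    rw [(endDeg_eq_bot_iff ℋ).mpr hall, (endDeg_eq_bot_iff 𝒢).mpr hG, WithBot.bot_add]
  · push Not at hall
    obtain ⟨j₀, hj₀⟩ := hall
    obtain ⟨r, hr⟩ := hbd
    obtain ⟨a, ha, hamax⟩ := Int.exists_greatest_of_bdd (P := fun j => ℋ j ≠ ⊥)
      ⟨r, fun z hz => by
        by_contra hcon
        exact hz (hr z (by omega))⟩ ⟨j₀, hj₀⟩
    have hgt : ∀ j', a < j' → ℋ j' = ⊥ := by
      intro j' hj'
      by_contra hne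
      have := hamax j' hne
      omega
    have hH : GrLC.endDeg ℋ = ((a : WithTop ℤ) : WithBot (WithTop ℤ)) :=
      (endDeg_eq_coe_iff ℋ a).mpr ⟨ha, hgt⟩
    have hG : GrLC.endDeg 𝒢 = (((a + d : ℤ) : WithTop ℤ) : WithBot (WithTop ℤ)) := by
      rw [endDeg_eq_coe_iff]
      refine ⟨h2 a ha hgt, fun j hj => ?_⟩
      by_contra hne
      have h3 := h1 j hne
      have := hamax (j - d) h3
      omega
    rw [hH, hG]
    rfl

end End

section Step

variable {R : Type u} [CommRing R] {𝒜 : ℤ → AddSubgroup R} [GradedRing 𝒜]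
  {M : Type u} [AddCommGroup M] [Module R M] {ℳ : ℤ → AddSubgroup M} [Decomposition ℳ]
  [SetLike.GradedSMul 𝒜 ℳ]
  {N : Type u} [AddCommGroup N] [Module R N] {𝒩 : ℤ → AddSubgroup N} [Decomposition 𝒩]
  [SetLike.GradedSMul 𝒜 𝒩]

/-- With `H^q(M) = 0`, the end of `H^q(M/xM)` is the end of `H^{q+1}(M)` plus the degree of `x`, for a
homogeneous non-zero-divisor `x` of positive degree, when `H^{q+1}(M)` vanishes in large degrees. -/
theorem endDeg_quot (E : GrLC.StarInjRes 𝒜 ℳ) (F : GrLC.StarInjRes 𝒜 𝒩) (a : HomogeneousIdeal 𝒜)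
    (x : R) (d : ℤ) (hd : 0 < d) (hx : x ∈ 𝒜 d) (L : MulLES E F a x d) (q : ℕ)
    (hq : Subsingleton (E.H a q))
    (hbd : ∃ r : ℤ, ∀ n, r ≤ n → E.Hgr a (q + 1) n = ⊥) :
    GrLC.endDeg (F.Hgr a q) =
      GrLC.endDeg (E.Hgr a (q + 1)) + ((d : WithTop ℤ) : WithBot (WithTop ℤ)) := by
  have hinj : ∀ w : F.H a q, L.δ q w = 0 → w = 0 := by
    intro w hw
    obtain ⟨y, rfl⟩ := (L.exact2 q w).mp hw
    rw [Subsingleton.elim y 0, map_zero]
  apply endDeg_shift (E.Hgr a (q + 1)) (F.Hgr a q) d hbd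
  · intro j hj hbot
    apply hj
    rw [eq_bot_iff]
    intro w hw
    rw [AddSubgroup.mem_bot]
    apply hinj
    have := L.δ_gr q j w hw
    rw [hbot, AddSubgroup.mem_bot] at this
    exact this
  · intro j hj hgt hbot
    apply hj
    rw [eq_bot_iff]
    intro h hh
    rw [AddSubgroup.mem_bot]
    have hxh : x • h = 0 := by
      have := smul_mem_Hgr (E := E) (a := a) hx (q + 1) j h hh
      rw [hgt (j + d) (by omega), AddSubgroup.mem_bot] at this
      exact this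
    obtain ⟨w, hw, rfl⟩ := L.exact3_gr q j h hh hxh
    rw [hbot, AddSubgroup.mem_bot] at hw
    rw [hw, map_zero]

/-- vanishing below the depth passes to the quotient -/
theorem subsingleton_quot (E : GrLC.StarInjRes 𝒜 ℳ) (F : GrLC.StarInjRes 𝒜 𝒩)
    (a : HomogeneousIdeal 𝒜) (x : R) (d : ℤ) (L : MulLES E F a x d) (i : ℕ)
    (h1 : Subsingleton (E.H a i)) (h2 : Subsingleton (E.H a (i + 1))) :
    Subsingleton (F.H a i) := by
  refine ⟨fun w w' => ?_⟩
  have key : ∀ w : F.H a i, w = 0 := by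
    intro w
    obtain ⟨y, rfl⟩ := (L.exact2 i w).mp (Subsingleton.elim _ _)
    rw [Subsingleton.elim y 0, map_zero]
  rw [key w, key w']

end Step

end Groth.Agent.Helper7.GrAInv
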