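import Mathlib
import Groth.Prelude.Def_GrLC
import Groth.Agent.Helper7.GrAInv1
import Groth.Agent.Helper7.GrFinD
import Groth.Agent.Helper6.GrExist

/-!
# The end of graded local cohomology under the quotient by a homogeneous regular sequence
-/

set_option autoImplicit false
set_option linter.unusedSectionVars false

namespace Groth.Agent.Helper7.GrAInv

open DirectSum Groth.Agent.Helper6.GrMod Groth.Agent.Helper6.GrCon Groth.Agent.Helper7.GrDel
  RingTheory.Sequence Pointwise

universe u

section Congr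

variable {H : Type u} [AddCommGroup H] (ℋ : ℤ → AddSubgroup H)
  {G : Type u} [AddCommGroup G] (𝒢 : ℤ → AddSubgroup G)

theorem endDeg_congr (h : ∀ j, ℋ j = ⊥ ↔ 𝒢 j = ⊥) : GrLC.endDeg ℋ = GrLC.endDeg 𝒢 := by
  unfold GrLC.endDeg
  refine iSup_congr fun n => ?_
  have : (ℋ n ≠ ⊥) = (𝒢 n ≠ ⊥) := propext (not_congr (h n))
  exact iSup_congr_Prop (by rw [this]) (fun _ => rfl)

end Congr

section Iso

variable {R : Type u} [CommRing R] {𝒜 : ℤ → AddSubgroup R} [GradedRing 𝒜]
  {M : Type u} [AddCommGroup M] [Module R M] {ℳ : ℤ → AddSubgroup M} [Decomposition ℳ]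
  [SetLike.GradedSMul 𝒜 ℳ]
  {N : Type u} [AddCommGroup N] [Module R N] {𝒩 : ℤ → AddSubgroup N} [Decomposition 𝒩]
  [SetLike.GradedSMul 𝒜 𝒩]

/-- a bijective homogeneous map induces the same end of local cohomology -/
theorem endDeg_eq_of_bijective (E : GrLC.StarInjRes 𝒜 ℳ) (F : GrLC.StarInjRes 𝒜 𝒩)
    (π : M →ₗ[R] N) (hπ : GrLC.IsGrHom ℳ 𝒩 π) (hbij : Function.Bijective π)
    (a : HomogeneousIdeal 𝒜) (q : ℕ) :
    GrLC.endDeg (F.Hgr a q) = GrLC.endDeg (E.Hgr a q) := by
  let e : M ≃ₗ[R] N := LinearEquiv.ofBijective π hbij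
  have he : GrLC.IsGrHom 𝒩 ℳ e.symm.toLinearMap := by
    intro j n hn
    obtain ⟨m', hm', hmm⟩ := exists_mem_of_gr (Decomposition.isInternal ℳ)
      (Decomposition.isInternal 𝒩) π hπ j (e.symm n) (by
        have : π (e.symm n) = n := e.apply_symm_apply n
        rw [this]; exact hn)
    have h3 : e.symm.toLinearMap n = m' := (hbij.1 hmm).symm
    rw [h3]
    exact hm'
  have h1 : ∀ y : E.H a q, Hphi F E e.symm.toLinearMap he a q (Hphi E F π hπ a q y) = y := by
    intro y
    have hc := Hphi_comp (E := E) (F := F) (G := E) (φ := π) (ψ := e.symm.toLinearMap) hπ he a q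
    have hid : e.symm.toLinearMap ∘ₗ π = LinearMap.id := by
      ext m
      exact e.symm_apply_apply m
    have h2 := Hphi_congr E E hid (fun j m hm => he j _ (hπ j m hm)) (fun _ _ h => h) a q
    rw [← LinearMap.comp_apply, hc, h2, Hphi_id]
    rfl
  have h2 : ∀ w : F.H a q, Hphi E F π hπ a q (Hphi F E e.symm.toLinearMap he a q w) = w := by
    intro w
    have hc := Hphi_comp (E := F) (F := E) (G := F) (φ := e.symm.toLinearMap) (ψ := π) he hπ a q
    have hid : π ∘ₗ e.symm.toLinearMap = LinearMap.id := by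
      ext n
      exact e.apply_symm_apply n
    have h2 := Hphi_congr F F hid (fun j m hm => hπ j _ (he j m hm)) (fun _ _ h => h) a q
    rw [← LinearMap.comp_apply, hc, h2, Hphi_id]
    rfl
  apply endDeg_congr
  intro j
  constructor
  · intro hF
    rw [eq_bot_iff]
    intro y hy
    rw [AddSubgroup.mem_bot]
    have := Hphi_gr (E := E) (F := F) hπ a q j y hy
    rw [hF, AddSubgroup.mem_bot] at this
    rw [← h1 y, this, map_zero]
  · intro hE
    rw [eq_bot_iff]
    intro w hw
    rw [AddSubgroup.mem_bot]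
    have := Hphi_gr (E := F) (F := E) he a q j w hw
    rw [hE, AddSubgroup.mem_bot] at this
    rw [← h2 w, this, map_zero]

end Iso

section Main

variable {R : Type u} [CommRing R] [IsNoetherianRing R] (𝒜 : ℤ → AddSubgroup R) [GradedRing 𝒜]
  (hpos : ∀ n : ℤ, n < 0 → 𝒜 n = ⊥) (a : HomogeneousIdeal 𝒜)
  (ha : a.toIdeal = Ideal.span (⋃ n ∈ Set.Ioi (0 : ℤ), (𝒜 n : Set R)))

theorem smul_top_eq_range (X : Type u) [AddCommGroup X] [Module R X] (x : R) :
    (x • (⊤ : Submodule R X)) = LinearMap.range (x • LinearMap.id : X →ₗ[R] X) := by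
  ext y
  rw [Submodule.mem_smul_pointwise_iff_exists, LinearMap.mem_range]
  constructor
  · rintro ⟨z, -, hz⟩
    exact ⟨z, hz⟩
  · rintro ⟨z, hz⟩
    exact ⟨z, trivial, hz⟩

include hpos ha in
/-- The end of `H^q` of the quotient by a homogeneous regular sequence of positive degrees. -/
theorem endDeg_regSeq : ∀ (t q : ℕ) (X : GrLC.GMod.{u} 𝒜) [Module.Finite R X.carrier]
    (E : GrLC.StarInjRes 𝒜 X.gr) (_ : ∀ i, i < q + t → Subsingleton (E.H a i))
    (f : Fin t → R) (deg : Fin t → ℤ) (_ : ∀ i, f i ∈ 𝒜 (deg i)) (_ : ∀ i, 0 < deg i)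
    (_ : IsWeaklyRegular X.carrier (List.ofFn f))
    (XN : GrLC.GMod.{u} 𝒜) (π : X.carrier →ₗ[R] XN.carrier) (_ : GrLC.IsGrHom X.gr XN.gr π)
    (_ : Function.Surjective π)
    (_ : LinearMap.ker π = Ideal.ofList (List.ofFn f) • (⊤ : Submodule R X.carrier))
    (EN : GrLC.StarInjRes 𝒜 XN.gr),
    GrLC.endDeg (EN.Hgr a q) = GrLC.endDeg (E.Hgr a (q + t)) +
      (((∑ i, deg i : ℤ) : WithTop ℤ) : WithBot (WithTop ℤ)) := by
  intro t
  induction t with
  | zero =>
    intro q X _ E _ f deg _ _ _ XN π hπ hπs hker EN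
    have hinj : Function.Injective π := by
      rw [← LinearMap.ker_eq_bot, hker]
      simp
    have h := endDeg_eq_of_bijective E EN π hπ ⟨hinj, hπs⟩ a q
    rw [h, Finset.univ_eq_empty, Finset.sum_empty, add_zero]
    exact (add_zero _).symm
  | succ t ih =>
    intro q X _ E hdepth f deg hdeg hdpos hreg XN π hπ hπs hker EN
    -- the first element
    set x : R := f 0 with hx
    let f' : Fin t → R := fun i => f i.succ
    let deg' : Fin t → ℤ := fun i => deg i.succ
    have hlist : List.ofFn f = x :: List.ofFn f' := List.ofFn_succ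
    rw [hlist] at hreg hker
    rw [isWeaklyRegular_cons_iff] at hreg
    obtain ⟨hxreg, hreg'⟩ := hreg
    have hxd : x ∈ 𝒜 (deg 0) := hdeg 0
    -- the quotient
    have hP : (x • (⊤ : Submodule R X.carrier)).IsHomogeneous X.gr := by
      rw [smul_top_eq_range]
      exact Groth.Agent.Helper7.GrFinC.range_smul_isHomogeneous X hxd
    let X' : GrLC.GMod.{u} 𝒜 := quotGMod 𝒜 X.gr (x • (⊤ : Submodule R X.carrier)) hP
    have : Module.Finite R X'.carrier :=
      (inferInstance : Module.Finite R (X.carrier ⧸ (x • (⊤ : Submodule R X.carrier))))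
    let p : X.carrier →ₗ[R] X'.carrier := (x • (⊤ : Submodule R X.carrier)).mkQ
    have hp : GrLC.IsGrHom X.gr X'.gr p := fun j z hz => mkQ_mem_quotFam X.gr _ hz
    have hps : Function.Surjective p := Submodule.mkQ_surjective _
    have hpk : ∀ m, p m = 0 ↔ ∃ m', x • m' = m := by
      intro m
      have h1 : p m = 0 ↔ m ∈ x • (⊤ : Submodule R X.carrier) :=
        Submodule.Quotient.mk_eq_zero _
      rw [h1, Submodule.mem_smul_pointwise_iff_exists]
      constructor
      · rintro ⟨z, -, hz⟩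
        exact ⟨z, hz⟩
      · rintro ⟨z, hz⟩
        exact ⟨z, trivial, hz⟩
    obtain ⟨E'⟩ := Groth.Agent.Helper6.GrExist.nonempty_starInjRes 𝒜 X'.gr
    obtain ⟨L⟩ := nonempty_mulLES E E' a x (deg 0) hxd hxreg p hp hps hpk
    -- the depth condition for the quotient
    have hdepth' : ∀ i, i < q + t → Subsingleton (E'.H a i) := by
      intro i hi
      exact subsingleton_quot E E' a x (deg 0) L i (hdepth i (by omega)) (hdepth (i + 1) (by omega))
    -- the step
    obtain ⟨r, hr⟩ := Groth.Agent.Helper7.GrFinD.vanish 𝒜 hpos a ha (q + t + 1) X E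
    have hstep := endDeg_quot E E' a x (deg 0) (hdpos 0) hxd L (q + t) (hdepth (q + t) (by omega))
      ⟨r, hr⟩
    -- the induced map
    have hle : x • (⊤ : Submodule R X.carrier) ≤ LinearMap.ker π := by
      rw [hker, Ideal.ofList_cons_smul]
      exact le_sup_left
    let π' : X'.carrier →ₗ[R] XN.carrier := (x • (⊤ : Submodule R X.carrier)).liftQ π hle
    have hπ' : GrLC.IsGrHom X'.gr XN.gr π' := by
      intro j z hz
      obtain ⟨m, hm, rfl⟩ := (mem_quotFam X.gr _).mp hz
      exact hπ j m hm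
    have hπ's : Function.Surjective π' := by
      intro n
      obtain ⟨m, rfl⟩ := hπs n
      exact ⟨p m, rfl⟩
    have hker' : LinearMap.ker π' =
        Ideal.ofList (List.ofFn f') • (⊤ : Submodule R X'.carrier) := by
      show LinearMap.ker ((x • (⊤ : Submodule R X.carrier)).liftQ π hle) = _
      rw [Submodule.ker_liftQ, hker, Ideal.ofList_cons_smul, Submodule.map_sup,
        Submodule.mkQ_map_self, bot_sup_eq, Submodule.map_smul'', Submodule.map_top,
        Submodule.range_mkQ]
      rfl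
    have hih := ih q X' E' hdepth' f' deg' (fun i => hdeg i.succ) (fun i => hdpos i.succ) hreg'
      XN π' hπ' hπ's hker' EN
    rw [hih, hstep, Fin.sum_univ_succ, add_assoc]
    rfl

end Main

end Groth.Agent.Helper7.GrAInv
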