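import Mathlib
import Groth.Prelude.Def_GrLC
import Groth.Agent.Helper7.GrAInv2
import Groth.Agent.Helper7.KunY

/-!
# Künneth project, part P1: graded local cohomology of a shifted module (helper7)
-/

set_option autoImplicit false
set_option linter.unusedSectionVars false
set_option linter.style.haveILetI false

namespace Groth.Agent.Helper7.Kun

open DirectSum Groth.Agent.Helper6.GrMod Groth.Agent.Helper6.GrCon Groth.Agent.Helper7.GrDel
  Groth.Agent.Helper6.GrShift

universe u

section Iso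

variable {R : Type u} [CommRing R] {𝒜 : ℤ → AddSubgroup R} [GradedRing 𝒜]
  {M : Type u} [AddCommGroup M] [Module R M] {ℳ : ℤ → AddSubgroup M} [Decomposition ℳ]
  [SetLike.GradedSMul 𝒜 ℳ]
  {N : Type u} [AddCommGroup N] [Module R N] {𝒩 : ℤ → AddSubgroup N} [Decomposition 𝒩]
  [SetLike.GradedSMul 𝒜 𝒩]

/-- a bijective homogeneous map induces the same vanishing of the pieces of local cohomology -/
theorem Hgr_eq_bot_iff_of_bijective (E : GrLC.StarInjRes 𝒜 ℳ) (F : GrLC.StarInjRes 𝒜 𝒩)
    (π : M →ₗ[R] N) (hπ : GrLC.IsGrHom ℳ 𝒩 π) (hbij : Function.Bijective π)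
    (a : HomogeneousIdeal 𝒜) (q : ℕ) (j : ℤ) :
    F.Hgr a q j = ⊥ ↔ E.Hgr a q j = ⊥ := by
  let e : M ≃ₗ[R] N := LinearEquiv.ofBijective π hbij
  have he : GrLC.IsGrHom 𝒩 ℳ e.symm.toLinearMap := by
    intro j n hn
    obtain ⟨m', hm', hmm⟩ := exists_mem_of_gr (Decomposition.isInternal ℳ)
      (Decomposition.isInternal 𝒩) π hπ j (e.symm n) (by
        have : π (e.symm n) = n := e.apply_symm_apply n
        rw [this]; exact hn)
    have h3 : e.symm.toLinearMap n = m' := (hbij.1 hmm).symm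
    rw [h3]
    exact hm'
  have h1 : ∀ y : E.H a q, Hphi F E e.symm.toLinearMap he a q (Hphi E F π hπ a q y) = y := by
    intro y
    have hc := Hphi_comp (E := E) (F := F) (G := E) (φ := π) (ψ := e.symm.toLinearMap) hπ he a q
    have hid : e.symm.toLinearMap ∘ₗ π = LinearMap.id := by
      ext m
      exact e.symm_apply_apply m
    have h2 := Hphi_congr E E hid (fun j m hm => he j _ (hπ j m hm)) (fun _ _ h => h) a q
    rw [← LinearMap.comp_apply, hc, h2, Hphi_id]
    rfl
  have h2 : ∀ w : F.H a q, Hphi E F π hπ a q (Hphi F E e.symm.toLinearMap he a q w) = w := by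
    intro w
    have hc := Hphi_comp (E := F) (F := E) (G := F) (φ := e.symm.toLinearMap) (ψ := π) he hπ a q
    have hid : π ∘ₗ e.symm.toLinearMap = LinearMap.id := by
      ext n
      exact e.apply_symm_apply n
    have h2 := Hphi_congr F F hid (fun j m hm => hπ j _ (he j m hm)) (fun _ _ h => h) a q
    rw [← LinearMap.comp_apply, hc, h2, Hphi_id]
    rfl
  constructor
  · intro hF
    rw [eq_bot_iff]
    intro y hy
    rw [AddSubgroup.mem_bot]
    have := Hphi_gr (E := E) (F := F) hπ a q j y hy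
    rw [hF, AddSubgroup.mem_bot] at this
    rw [← h1 y, this, map_zero]
  · intro hE
    rw [eq_bot_iff]
    intro w hw
    rw [AddSubgroup.mem_bot]
    have := Hphi_gr (E := F) (F := E) he a q j w hw
    rw [hE, AddSubgroup.mem_bot] at this
    rw [← h2 w, this, map_zero]

end Iso

section Shift

variable {R : Type u} [CommRing R] {𝒜 : ℤ → AddSubgroup R} [GradedRing 𝒜]
  {M : Type u} [AddCommGroup M] [Module R M] {ℳ : ℤ → AddSubgroup M} [Decomposition ℳ]
  [SetLike.GradedSMul 𝒜 ℳ]
  {ℳ' : ℤ → AddSubgroup M} [Decomposition ℳ'] [SetLike.GradedSMul 𝒜 ℳ']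

/-- the local cohomology of a shifted module is the shifted local cohomology, as far as vanishing of pieces
is concerned -/
theorem Hgr_shift_eq_bot_iff (t : ℤ) (h : ∀ n, ℳ' n = ℳ (n + t)) (E : GrLC.StarInjRes 𝒜 ℳ)
    (E' : GrLC.StarInjRes 𝒜 ℳ') (a : HomogeneousIdeal 𝒜) (q : ℕ) (j : ℤ) :
    E'.Hgr a q j = ⊥ ↔ E.Hgr a q (j + t) = ⊥ := by
  have hπ : GrLC.IsGrHom (shiftGMod 𝒜 (GrLC.GMod.of 𝒜 M ℳ) t).gr ℳ'
      (LinearMap.id : M →ₗ[R] M) := by
    intro n x hx
    rw [LinearMap.id_apply, h n]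
    exact hx
  have := Hgr_eq_bot_iff_of_bijective (shiftRes E t) E' (LinearMap.id : M →ₗ[R] M) hπ
    Function.bijective_id a q j
  rw [this]
  rfl

end Shift

end Groth.Agent.Helper7.Kun
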