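import Mathlib

/-!
# The standard `ℤ`-grading of a polynomial ring over a field (helper7)
-/

set_option autoImplicit false
universe u

namespace Groth.Agent.Helper7.SegPol

open MvPolynomial

variable (k : Type u) [Field k] (σ : Type)

/-- the weight of a monomial for the constant weight `1 : ℤ` -/
theorem weight_eq_sum (d : σ →₀ ℕ) :
    Finsupp.weight (fun _ : σ => (1 : ℤ)) d = ∑ i ∈ d.support, (d i : ℤ) := by
  rw [Finsupp.weight_apply, Finsupp.sum]
  refine Finset.sum_congr rfl fun i _ => ?_
  simp

theorem weight_nonneg (d : σ →₀ ℕ) : 0 ≤ Finsupp.weight (fun _ : σ => (1 : ℤ)) d := by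
  rw [weight_eq_sum]
  exact Finset.sum_nonneg fun i _ => Int.natCast_nonneg _

theorem weight_eq_zero_iff (d : σ →₀ ℕ) : Finsupp.weight (fun _ : σ => (1 : ℤ)) d = 0 ↔ d = 0 := by
  constructor
  · intro h
    rw [weight_eq_sum, Finset.sum_eq_zero_iff_of_nonneg (fun i _ => Int.natCast_nonneg _)] at h
    ext i
    by_cases hi : i ∈ d.support
    · have := h i hi
      simpa using this
    · simpa using hi
  · rintro rfl
    simp

/-- pieces of negative degree vanish -/
theorem hpos (n : ℤ) (hn : n < 0) :
    weightedHomogeneousSubmodule k (fun _ : σ => (1 : ℤ)) n = ⊥ := by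
  rw [eq_bot_iff]
  intro f hf
  rw [Submodule.mem_bot]
  by_contra hne
  obtain ⟨d, hd⟩ := MvPolynomial.ne_zero_iff.1 hne
  have h1 : Finsupp.weight (fun _ : σ => (1 : ℤ)) d = n := hf hd
  have := weight_nonneg σ d
  omega

/-- the piece of degree zero consists of the constants -/
theorem h0 : weightedHomogeneousSubmodule k (fun _ : σ => (1 : ℤ)) 0 =
    Submodule.span k {(1 : MvPolynomial σ k)} := by
  classical
  apply le_antisymm
  · intro f hf
    rw [Submodule.mem_span_singleton]
    refine ⟨coeff 0 f, ?_⟩
    ext d
    rw [coeff_smul, coeff_one]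
    by_cases hd : 0 = d
    · subst hd
      simp
    · rw [if_neg hd, smul_zero]
      by_contra hne
      have h1 : Finsupp.weight (fun _ : σ => (1 : ℤ)) d = 0 := hf (Ne.symm hne)
      exact hd ((weight_eq_zero_iff σ d).1 h1).symm
  · rw [Submodule.span_le]
    rintro _ rfl
    exact isWeightedHomogeneous_one k _

/-- the irrelevant ideal is generated in degree one -/
theorem hstd : Ideal.span (⋃ n ∈ Set.Ioi (0 : ℤ),
      (weightedHomogeneousSubmodule k (fun _ : σ => (1 : ℤ)) n : Set (MvPolynomial σ k))) =
    Ideal.span ((weightedHomogeneousSubmodule k (fun _ : σ => (1 : ℤ)) 1 :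
      Submodule k (MvPolynomial σ k)) : Set (MvPolynomial σ k)) := by
  classical
  apply le_antisymm
  · rw [Ideal.span_le]
    intro f hf
    obtain ⟨n, hn, hfn⟩ := Set.mem_iUnion₂.1 hf
    have hfn' : f.IsWeightedHomogeneous (fun _ : σ => (1 : ℤ)) n := hfn
    rw [SetLike.mem_coe, ← MvPolynomial.support_sum_monomial_coeff f]
    refine Ideal.sum_mem _ fun d hd => ?_
    have hw : Finsupp.weight (fun _ : σ => (1 : ℤ)) d = n := hfn' (mem_support_iff.1 hd)
    have hd0 : d ≠ 0 := by
      rintro rfl
      rw [map_zero] at hw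
      have : (0 : ℤ) < n := hn
      omega
    obtain ⟨i, hi⟩ : ∃ i, d i ≠ 0 := by
      by_contra hcon
      push Not at hcon
      exact hd0 (Finsupp.ext hcon)
    have hexp : Finsupp.single i 1 + (d - Finsupp.single i 1) = d := by
      ext j
      by_cases hj : j = i
      · subst hj
        simp only [Finsupp.coe_add, Finsupp.coe_tsub, Pi.add_apply, Pi.sub_apply,
          Finsupp.single_eq_same]
        omega
      · simp [Finsupp.single_eq_of_ne hj]
    have h2 : monomial d (coeff d f) = X i * monomial (d - Finsupp.single i 1) (coeff d f) := by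
      rw [X, monomial_mul, one_mul, hexp]
    rw [h2]
    apply Ideal.mul_mem_right
    apply Ideal.subset_span
    exact isWeightedHomogeneous_X k (fun _ : σ => (1 : ℤ)) i
  · apply Ideal.span_mono
    intro f hf
    exact Set.mem_iUnion₂.2 ⟨1, Set.mem_Ioi.2 one_pos, hf⟩

/-- in one variable the piece of degree one is spanned by the variable -/
theorem h1_fin_one (f : MvPolynomial (Fin 1) k)
    (hf : f ∈ weightedHomogeneousSubmodule k (fun _ : Fin 1 => (1 : ℤ)) 1) :
    ∃ c : k, f = c • (X 0 : MvPolynomial (Fin 1) k) := by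
  classical
  refine ⟨coeff (Finsupp.single 0 1) f, ?_⟩
  ext d
  rw [coeff_smul, coeff_X]
  by_cases hd : Finsupp.single 0 1 = d
  · subst hd
    simp
  · rw [if_neg hd, smul_zero]
    by_contra hne
    have h1 : Finsupp.weight (fun _ : Fin 1 => (1 : ℤ)) d = 1 := hf hne
    apply hd
    apply Finsupp.ext
    intro j
    have hj : j = 0 := Subsingleton.elim _ _
    subst hj
    rw [weight_eq_sum] at h1
    by_cases h0 : (0 : Fin 1) ∈ d.support
    · have hs : d.support = {0} := by
        ext j
        have hj : j = 0 := Subsingleton.elim _ _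
        subst hj
        simpa using h0
      rw [hs, Finset.sum_singleton] at h1
      simp only [Finsupp.single_eq_same]
      exact_mod_cast h1.symm
    · have hs : d.support = ∅ := by
        ext j
        have hj : j = 0 := Subsingleton.elim _ _
        subst hj
        simpa using h0
      rw [hs, Finset.sum_empty] at h1
      omega

end Groth.Agent.Helper7.SegPol
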