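import Mathlib
import Groth.Prelude.Def_GrSeg
import Groth.Agent.Helper7.SegPolB

/-!
# Segre products `k[z](a) # S(b)`: the comparison maps with `T = k[z] # S` (helper7)
-/

set_option autoImplicit false
set_option linter.unusedSectionVars false
universe u

namespace Groth.Agent.Helper7.SegPol

open DirectSum TensorProduct Groth.Agent.Helper7.SegDim Groth.Agent.Helper7.SegOne

section Semilinear

variable {k R S T : Type u} [Field k] [CommRing R] [Algebra k R] [CommRing S] [Algebra k S]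
  [CommRing T] [Algebra k T] (ψ : T →ₐ[k] R ⊗[k] S)

/-- a `T`-linear map between two `T`-modules realised inside `R ⊗ S`, given by multiplication by `μ` -/
theorem exists_semilinear {X Y : Type u} [AddCommGroup X] [Module T X] [AddCommGroup Y] [Module T Y]
    (ρX : X →+ R ⊗[k] S) (ρY : Y →+ R ⊗[k] S) (hρY : Function.Injective ρY)
    (hX : ∀ (t : T) (x : X), ρX (t • x) = ψ t * ρX x)
    (hY : ∀ (t : T) (y : Y), ρY (t • y) = ψ t * ρY y)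
    (μ : R ⊗[k] S) (h : ∀ x, ∃ y, ρY y = μ * ρX x) :
    ∃ f : X →ₗ[T] Y, ∀ x, ρY (f x) = μ * ρX x := by
  choose g hg using h
  refine ⟨{ toFun := g, map_add' := ?_, map_smul' := ?_ }, hg⟩
  · intro x x'
    apply hρY
    rw [hg, map_add, map_add, hg, hg, mul_add]
  · intro t x
    apply hρY
    rw [hg, hX, RingHom.id_apply, hY, hg]
    ring

end Semilinear

section Main

variable {k R S T P : Type u} [Field k] [CommRing R] [Algebra k R] (𝒜 : ℤ → Submodule k R)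
  [GradedAlgebra 𝒜] [CommRing S] [Algebra k S] (ℬ : ℤ → Submodule k S) [GradedAlgebra ℬ]
  [CommRing T] [Algebra k T] (𝒯 : ℤ → Submodule k T) [GradedAlgebra 𝒯]
  (ψ : T →ₐ[k] R ⊗[k] S) (hT : GrSeg.IsSegreRing 𝒜 ℬ 𝒯 ψ)
  [AddCommGroup P] [Module T P] [Module k P] [IsScalarTower k T P]
  (𝒬 : ℤ → AddSubgroup P) [DirectSum.Decomposition 𝒬] (φ : P →ₗ[k] R ⊗[k] S) (a b : ℤ)
  (hP : GrSeg.IsSegreMod ψ (fun n : ℤ => 𝒜 (n + a)) (fun n : ℤ => ℬ (n + b)) 𝒬 φ)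

include hT in
theorem psi_mem_pc {n : ℤ} {t : T} (ht : t ∈ 𝒯 n) : ψ t ∈ pc 𝒜 ℬ n n := by
  have h1 : ψ.toLinearMap t ∈ (𝒯 n).map ψ.toLinearMap := ⟨t, ht, rfl⟩
  rw [hT.2 n] at h1
  exact h1

include hT in
theorem exists_psi_eq {n : ℤ} {v : R ⊗[k] S} (hv : v ∈ pc 𝒜 ℬ n n) : ∃ t ∈ 𝒯 n, ψ t = v := by
  have h1 : v ∈ (𝒯 n).map ψ.toLinearMap := by
    rw [hT.2 n]
    exact hv
  obtain ⟨t, ht, rfl⟩ := h1
  exact ⟨t, ht, rfl⟩

include hP in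
theorem phi_mem_pc {n : ℤ} {p : P} (hp : p ∈ 𝒬 n) : φ p ∈ pc 𝒜 ℬ (n + a) (n + b) := by
  have h1 : φ p ∈ φ '' (𝒬 n : Set P) := ⟨p, hp, rfl⟩
  rw [hP.image_piece n] at h1
  exact h1

include hP in
theorem exists_phi_eq {n : ℤ} {v : R ⊗[k] S} (hv : v ∈ pc 𝒜 ℬ (n + a) (n + b)) :
    ∃ p ∈ 𝒬 n, φ p = v := by
  have h1 : v ∈ φ '' (𝒬 n : Set P) := by
    rw [hP.image_piece n]
    exact hv
  obtain ⟨p, hp, rfl⟩ := h1
  exact ⟨p, hp, rfl⟩

include hP in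
theorem phi_smul (t : T) (p : P) : φ (t • p) = ψ t * φ p := by
  rw [hP.map_smul, act_eq_mul]

variable (hposS : ∀ n : ℤ, n < 0 → ℬ n = ⊥)
  {z : R} (hz1 : z ∈ 𝒜 1) (hpiece : ∀ n : ℕ, ∀ a ∈ 𝒜 (n : ℤ), ∃ c : k, a = c • z ^ n)

include hT hP hz1 in
/-- for `a = b + j`: `(z^j ⊗ 1) ψ(T) ⊆ φ(P)` -/
theorem exists_phi_eq_mul_psi (j : ℕ) (hab : a = b + j) (t : T) :
    ∃ p : P, φ p = ((z ^ j) ⊗ₜ[k] (1 : S)) * ψ t := by
  induction t using DirectSum.Decomposition.inductionOn 𝒯 with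
  | zero => exact ⟨0, by rw [map_zero, map_zero, mul_zero]⟩
  | @homogeneous m t =>
    have h1 := mul_mem_pc 𝒜 ℬ hz1 j (psi_mem_pc 𝒜 ℬ 𝒯 ψ hT t.2)
    have h1' : ((z ^ j) ⊗ₜ[k] (1 : S)) * ψ t ∈ pc 𝒜 ℬ ((m - b) + a) ((m - b) + b) := by
      have e1 : (m - b) + a = m + j := by rw [hab]; ring
      have e2 : (m - b) + b = m := by ring
      rw [e1, e2]
      exact h1
    obtain ⟨p, -, hp⟩ := exists_phi_eq 𝒜 ℬ ψ 𝒬 φ a b hP h1'
    exact ⟨p, hp⟩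
  | add t t' ht ht' =>
    obtain ⟨p, hp⟩ := ht
    obtain ⟨p', hp'⟩ := ht'
    exact ⟨p + p', by rw [map_add, hp, hp', map_add, mul_add]⟩

include hT hP hposS hz1 hpiece in
/-- for `a = b + j`: `φ(P) ⊆ (z^j ⊗ 1) ψ(T)` -/
theorem exists_mul_psi_eq_phi (j : ℕ) (hab : a = b + j) (p : P) :
    ∃ t : T, φ p = ((z ^ j) ⊗ₜ[k] (1 : S)) * ψ t := by
  induction p using DirectSum.Decomposition.inductionOn 𝒬 with
  | zero => exact ⟨0, by rw [map_zero, map_zero, mul_zero]⟩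
  | @homogeneous n p =>
    have h1 := phi_mem_pc 𝒜 ℬ ψ 𝒬 φ a b hP p.2
    rcases lt_or_ge (n + b) 0 with hlt | hge
    · rw [pc_eq_bot_of_right 𝒜 ℬ (hposS _ hlt), Submodule.mem_bot] at h1
      exact ⟨0, by rw [h1, map_zero, mul_zero]⟩
    · obtain ⟨m, hm⟩ := Int.eq_ofNat_of_zero_le hge
      have e1 : n + a = (m : ℤ) + j := by rw [← hm, hab]; ring
      rw [e1, hm] at h1
      obtain ⟨v, hv, hv'⟩ := exists_mul_eq_of_mem_pc 𝒜 ℬ hz1 hpiece j m h1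
      obtain ⟨t, -, ht⟩ := exists_psi_eq 𝒜 ℬ 𝒯 ψ hT hv
      exact ⟨t, by rw [ht, hv']⟩
  | add p p' hp hp' =>
    obtain ⟨t, ht⟩ := hp
    obtain ⟨t', ht'⟩ := hp'
    exact ⟨t + t', by rw [map_add, ht, ht', map_add, mul_add]⟩

include hT hP hz1 in
/-- for `b = a + j`: `(z^j ⊗ 1) φ(P) ⊆ ψ(T)` -/
theorem exists_psi_eq_mul_phi (j : ℕ) (hab : b = a + j) (p : P) :
    ∃ t : T, ψ t = ((z ^ j) ⊗ₜ[k] (1 : S)) * φ p := by
  induction p using DirectSum.Decomposition.inductionOn 𝒬 with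
  | zero => exact ⟨0, by rw [map_zero, map_zero, mul_zero]⟩
  | @homogeneous n p =>
    have h1 := mul_mem_pc 𝒜 ℬ hz1 j (phi_mem_pc 𝒜 ℬ ψ 𝒬 φ a b hP p.2)
    have e1 : n + a + (j : ℤ) = n + b := by rw [hab]; ring
    rw [e1] at h1
    obtain ⟨t, -, ht⟩ := exists_psi_eq 𝒜 ℬ 𝒯 ψ hT h1
    exact ⟨t, ht⟩
  | add p p' hp hp' =>
    obtain ⟨t, ht⟩ := hp
    obtain ⟨t', ht'⟩ := hp'
    exact ⟨t + t', by rw [map_add, ht, ht', map_add, mul_add]⟩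

variable (hzreg : IsSMulRegular R z)

include hzreg in
theorem isSMulRegular_pow_tmul_one (j : ℕ) :
    IsSMulRegular (R ⊗[k] S) ((z ^ j) ⊗ₜ[k] (1 : S)) :=
  isSMulRegular_tmul (hzreg.pow j) (IsSMulRegular.one (R := S) (M := S))

include hT hP hposS hz1 hpiece hzreg in
/-- for `b ≤ a` the Segre module `k[z](a) # S(b)` is free of rank one over `T = k[z] # S` -/
theorem nonempty_linearEquiv (j : ℕ) (hab : a = b + j) : Nonempty (T ≃ₗ[T] P) := by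
  obtain ⟨f, hf⟩ := exists_semilinear (X := T) (Y := P) ψ
    (ψ : T →+ R ⊗[k] S) (φ : P →+ R ⊗[k] S) hP.injective
    (fun t x => by rw [smul_eq_mul]; exact map_mul ψ t x)
    (fun t y => phi_smul 𝒜 ℬ ψ 𝒬 φ a b hP t y) ((z ^ j) ⊗ₜ[k] (1 : S))
    (fun t => exists_phi_eq_mul_psi 𝒜 ℬ 𝒯 ψ hT 𝒬 φ a b hP hz1 j hab t)
  have hreg := isSMulRegular_pow_tmul_one (k := k) (S := S) hzreg j
  refine ⟨LinearEquiv.ofBijective f ⟨?_, ?_⟩⟩
  · rw [injective_iff_map_eq_zero]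
    intro t ht
    have h1 := hf t
    rw [ht, map_zero] at h1
    have h2 : ψ t = 0 := by
      apply hreg
      show (z ^ j) ⊗ₜ[k] (1 : S) * ψ t = (z ^ j) ⊗ₜ[k] (1 : S) * 0
      rw [mul_zero]
      exact h1.symm
    exact hT.1 (by rw [h2, map_zero])
  · intro p
    obtain ⟨t, ht⟩ := exists_mul_psi_eq_phi 𝒜 ℬ 𝒯 ψ hT 𝒬 φ a b hP hposS hz1 hpiece j hab p
    refine ⟨t, hP.injective ?_⟩
    have := hf t
    exact this.trans ht.symm

include hT hP hz1 hzreg in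
/-- for `a ≤ b` the Segre module `k[z](a) # S(b)` embeds into `T = k[z] # S` -/
theorem exists_injective_linearMap (j : ℕ) (hab : b = a + j) :
    ∃ f : P →ₗ[T] T, Function.Injective f ∧ ∀ p, ψ (f p) = ((z ^ j) ⊗ₜ[k] (1 : S)) * φ p := by
  obtain ⟨f, hf⟩ := exists_semilinear (X := P) (Y := T) ψ
    (φ : P →+ R ⊗[k] S) (ψ : T →+ R ⊗[k] S) hT.1
    (fun t y => phi_smul 𝒜 ℬ ψ 𝒬 φ a b hP t y)
    (fun t x => by rw [smul_eq_mul]; exact map_mul ψ t x) ((z ^ j) ⊗ₜ[k] (1 : S))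
    (fun p => exists_psi_eq_mul_phi 𝒜 ℬ 𝒯 ψ hT 𝒬 φ a b hP hz1 j hab p)
  have hreg := isSMulRegular_pow_tmul_one (k := k) (S := S) hzreg j
  refine ⟨f, ?_, hf⟩
  rw [injective_iff_map_eq_zero]
  intro p hp
  have h1 := hf p
  rw [hp, map_zero] at h1
  have h2 : φ p = 0 := by
    apply hreg
    show (z ^ j) ⊗ₜ[k] (1 : S) * φ p = (z ^ j) ⊗ₜ[k] (1 : S) * 0
    rw [mul_zero]
    exact h1.symm
  exact hP.injective (by rw [h2, map_zero])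

end Main

end Groth.Agent.Helper7.SegPol
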