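import Mathlib
import Groth.Prelude.Def_GrSeg
import Groth.Agent.Helper7.SegPolC
import Groth.Agent.Helper2.Codepth

/-!
# Segre products `k[z](a) # S(b)`: Cohen–Macaulayness and depth (helper7)
-/

set_option autoImplicit false
set_option linter.unusedSectionVars false
universe u

namespace Groth.Agent.Helper7.SegPol

open DirectSum TensorProduct Groth.Agent.Helper7.SegDim Groth.Agent.Helper7.SegOne
open scoped Pointwise

/-- a free module of rank one over a Cohen–Macaulay ring is Cohen–Macaulay at every prime -/
theorem cm_of_linearEquiv {T P : Type u} [CommRing T] [AddCommGroup P] [Module T P]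
    (e : T ≃ₗ[T] P) [hCM : LocCoh.IsCohenMacaulayRing T] (q : Ideal T) [q.IsPrime] :
    LocCoh.IsCohenMacaulayModule (Localization.AtPrime q) (LocalizedModule q.primeCompl P) := by
  let eq' : LocalizedModule q.primeCompl T ≃ₗ[Localization.AtPrime q]
      LocalizedModule q.primeCompl P :=
    IsLocalizedModule.mapEquiv q.primeCompl (LocalizedModule.mkLinearMap q.primeCompl T)
      (LocalizedModule.mkLinearMap q.primeCompl P) (Localization.AtPrime q) e
  have hq := (hCM.isCohenMacaulayLocalRing_localization q).supportDim_eq_depth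
  unfold LocCoh.IsCohenMacaulayModule
  have hc : LocCoh.depth (Localization.AtPrime q) (LocalizedModule q.primeCompl T) =
      LocCoh.depth (Localization.AtPrime q) (LocalizedModule q.primeCompl P) :=
    Groth.Agent.Helper2.DepthCM.idealDepth_congr _ eq'
  rw [← Module.supportDim_eq_of_equiv eq', ← hc]
  exact hq

/-- if `t ∈ I` is `M`-regular and some `w ∉ tM` has `I w ⊆ tM`, then the `I`-depth of `M` is `1` -/
theorem idealDepth_eq_one_module {A : Type u} [CommRing A] [IsNoetherianRing A] (I : Ideal A)
    (M : Type u) [AddCommGroup M] [Module A M] [Module.Finite A M]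
    (hIM : I • (⊤ : Submodule A M) ≠ ⊤) (t : A) (w : M) (ht : t ∈ I) (hreg : IsSMulRegular M t)
    (hw : w ∉ t • (⊤ : Submodule A M)) (hsoc : ∀ u ∈ I, u • w ∈ t • (⊤ : Submodule A M)) :
    LocCoh.idealDepth I M = 1 := by
  have h1 := Groth.Agent.Helper2.DepthCM.idealDepth_quotSMulTop I M hIM t ht hreg
  have hIM' : I • (⊤ : Submodule A (QuotSMulTop t M)) ≠ ⊤ :=
    Groth.Agent.Helper2.DepthRees.smul_top_quotSMulTop_ne_top ht hIM
  obtain ⟨rs, h2, h3, -, h4⟩ :=
    Groth.Agent.Helper2.DepthCM.exists_length_eq_idealDepth I (QuotSMulTop t M) hIM'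
  have hrs : rs = [] := by
    cases rs with
    | nil => rfl
    | cons r rs' =>
      exfalso
      have hr : IsSMulRegular (QuotSMulTop t M) r :=
        ((RingTheory.Sequence.isWeaklyRegular_cons_iff _ r rs').1 h2).1
      have hrI : r ∈ I := h3 r (List.mem_cons_self ..)
      have h5 : r • (Submodule.Quotient.mk w : QuotSMulTop t M) = r • 0 := by
        rw [smul_zero, ← Submodule.Quotient.mk_smul, Submodule.Quotient.mk_eq_zero]
        exact hsoc r hrI
      have h6 := hr h5
      rw [Submodule.Quotient.mk_eq_zero] at h6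
      exact hw h6
  rw [hrs, List.length_nil, Nat.cast_zero] at h4
  rw [← h1, ← h4, zero_add]

end Groth.Agent.Helper7.SegPol
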