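import Mathlib
import Groth.Prelude.Def_GrSeg
import Groth.Agent.Helper7.SegPolD

/-!
# Segre products `k[z](a) # S(b)` with `a < b` have depth one (helper7)
-/

set_option autoImplicit false
set_option linter.unusedSectionVars false
universe u

namespace Groth.Agent.Helper7.SegPol

open DirectSum TensorProduct Groth.Agent.Helper7.SegDim Groth.Agent.Helper7.SegOne
open scoped Pointwise

section Main

variable {k R S T P : Type u} [Field k] [CommRing R] [Algebra k R] (𝒜 : ℤ → Submodule k R)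
  [GradedAlgebra 𝒜] [CommRing S] [Algebra k S] (ℬ : ℤ → Submodule k S) [GradedAlgebra ℬ]
  [CommRing T] [Algebra k T] (𝒯 : ℤ → Submodule k T) [GradedAlgebra 𝒯]
  (ψ : T →ₐ[k] R ⊗[k] S) (hT : GrSeg.IsSegreRing 𝒜 ℬ 𝒯 ψ)
  [AddCommGroup P] [Module T P] [Module k P] [IsScalarTower k T P]
  (𝒬 : ℤ → AddSubgroup P) [DirectSum.Decomposition 𝒬] (φ : P →ₗ[k] R ⊗[k] S) (a b : ℤ)
  (hP : GrSeg.IsSegreMod ψ (fun n : ℤ => 𝒜 (n + a)) (fun n : ℤ => ℬ (n + b)) 𝒬 φ)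
  (hposR : ∀ n : ℤ, n < 0 → 𝒜 n = ⊥) (h0R : 𝒜 0 = Submodule.span k {(1 : R)})
  {z : R} (hz1 : z ∈ 𝒜 1) (hzreg : IsSMulRegular R z)
  (hpiece : ∀ n : ℕ, ∀ a ∈ 𝒜 (n : ℤ), ∃ c : k, a = c • z ^ n)
  {y : S} (hy1 : y ∈ ℬ 1) (hyreg : IsSMulRegular S y)

include hT hP hposR h0R hz1 hzreg hpiece hy1 hyreg in
/-- **depth one**: for `b = a + j + 1` the Segre module `k[z](a) # S(b)` has depth one on the
irrelevant ideal of `T = k[z] # S` -/
theorem idealDepth_eq_one_of_lt [IsNoetherianRing T] [Nontrivial R] [Nontrivial S] (j : ℕ) (hab : b = a + ((j + 1 : ℕ) : ℤ))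
    (I : Ideal T) (hI : I = Ideal.span (⋃ n ∈ Set.Ioi (0 : ℤ), (𝒯 n : Set T))) (hIne : I ≠ ⊤) :
    LocCoh.idealDepth I P = 1 := by
  classical
  -- finiteness
  obtain ⟨f, hfinj, -⟩ := exists_injective_linearMap 𝒜 ℬ 𝒯 ψ hT 𝒬 φ a b hP hz1 hzreg (j + 1) hab
  have hfin : Module.Finite T P := Module.Finite.of_injective f hfinj
  -- the regular element
  have h1 : z ⊗ₜ[k] y ∈ pc 𝒜 ℬ 1 1 := Submodule.subset_span ⟨z, hz1, y, hy1, rfl⟩
  obtain ⟨t, ht, hψt⟩ := exists_psi_eq 𝒜 ℬ 𝒯 ψ hT h1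
  have htI : t ∈ I := by
    rw [hI]
    exact Ideal.subset_span (Set.mem_iUnion₂.2 ⟨1, Set.mem_Ioi.2 one_pos, ht⟩)
  have hzy : IsSMulRegular (R ⊗[k] S) (z ⊗ₜ[k] y) := isSMulRegular_tmul hzreg hyreg
  have htreg : IsSMulRegular P t := by
    intro p p' hpp
    apply hP.injective
    apply hzy
    show (z ⊗ₜ[k] y) * φ p = (z ⊗ₜ[k] y) * φ p'
    rw [← hψt, ← phi_smul 𝒜 ℬ ψ 𝒬 φ a b hP, ← phi_smul 𝒜 ℬ ψ 𝒬 φ a b hP]
    exact congrArg φ hpp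
  -- the socle element
  have hyj : y ^ (j + 1) ∈ ℬ ((j + 1 : ℕ) : ℤ) := pow_mem_piece ℬ hy1 (j + 1)
  have h2 : (1 : R) ⊗ₜ[k] (y ^ (j + 1)) ∈ pc 𝒜 ℬ (-a + a) (-a + b) := by
    have e1 : -a + a = 0 := by ring
    have e2 : -a + b = ((j + 1 : ℕ) : ℤ) := by rw [hab]; ring
    rw [e1, e2]
    exact Submodule.subset_span ⟨1, SetLike.one_mem_graded 𝒜, _, hyj, rfl⟩
  obtain ⟨w, -, hφw⟩ := exists_phi_eq 𝒜 ℬ ψ 𝒬 φ a b hP h2
  have hyj0 : y ^ (j + 1) ≠ 0 := by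
    intro h
    have h3 : IsSMulRegular S (y ^ (j + 1)) := hyreg.pow _
    rw [h] at h3
    exact (IsSMulRegular.not_zero (M := S) (R := S)) h3
  have hφw' : φ w = (1 : R) ⊗ₜ[k] (y ^ (j + 1)) := hφw
  have hirr : irr 𝒜 ≠ ⊤ := (irr_isMaximal 𝒜 hposR h0R).ne_top
  have h1z : (1 : R) ∉ Ideal.span {z} := by
    intro h
    apply hirr
    rw [Ideal.eq_top_iff_one]
    have hle : Ideal.span {z} ≤ irr 𝒜 :=
      (Ideal.span_singleton_le_iff_mem _).2 (Ideal.subset_span ⟨1, one_pos, hz1⟩)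
    exact hle h
  have hw : w ∉ t • (⊤ : Submodule T P) := by
    intro hmem
    obtain ⟨p, -, hp⟩ := (Submodule.mem_smul_pointwise_iff_exists _ _ _).1 hmem
    have h3 : (1 : R) ⊗ₜ[k] (y ^ (j + 1)) ∈ Ideal.span {z ⊗ₜ[k] y} := by
      rw [Ideal.mem_span_singleton']
      refine ⟨φ p, ?_⟩
      rw [← hφw', ← hp, phi_smul 𝒜 ℬ ψ 𝒬 φ a b hP, hψt, mul_comm]
    exact tmul_notMem h1z hyj0 h3
  -- the socle property
  have key : ∀ (m : ℕ) (v : R ⊗[k] S), v ∈ pc 𝒜 ℬ ((m : ℤ) + 1) ((m : ℤ) + 1) →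
      ∃ p' : P, v * ((1 : R) ⊗ₜ[k] (y ^ (j + 1))) = (z ⊗ₜ[k] y) * φ p' := by
    intro m v hv
    unfold pc at hv
    induction hv using Submodule.span_induction with
    | mem v hv =>
      obtain ⟨a', ha', b', hb', rfl⟩ := hv
      have ha'' : a' ∈ 𝒜 ((m + 1 : ℕ) : ℤ) := by push_cast; exact ha'
      obtain ⟨c, rfl⟩ := hpiece (m + 1) a' ha''
      have hb'' : b' * y ^ j ∈ ℬ ((m : ℤ) + 1 + (j : ℤ)) :=
        SetLike.mul_mem_graded hb' (pow_mem_piece ℬ hy1 j)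
      have h4 : (c • z ^ m) ⊗ₜ[k] (b' * y ^ j) ∈ pc 𝒜 ℬ (((m : ℤ) - a) + a) (((m : ℤ) - a) + b) := by
        have e1 : ((m : ℤ) - a) + a = m := by ring
        have e2 : ((m : ℤ) - a) + b = (m : ℤ) + 1 + (j : ℤ) := by rw [hab]; push_cast; ring
        rw [e1, e2]
        exact Submodule.subset_span ⟨_, Submodule.smul_mem _ c (pow_mem_piece 𝒜 hz1 m), _, hb'', rfl⟩
      obtain ⟨p', -, hp'⟩ := exists_phi_eq 𝒜 ℬ ψ 𝒬 φ a b hP h4
      refine ⟨p', ?_⟩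
      rw [hp', Algebra.TensorProduct.tmul_mul_tmul, Algebra.TensorProduct.tmul_mul_tmul, mul_one,
        Algebra.mul_smul_comm, ← pow_succ']
      congr 1
      rw [pow_succ]
      ring
    | zero => exact ⟨0, by rw [zero_mul, map_zero, mul_zero]⟩
    | add v v' _ _ hv hv' =>
      obtain ⟨p', hp'⟩ := hv
      obtain ⟨p'', hp''⟩ := hv'
      exact ⟨p' + p'', by rw [add_mul, hp', hp'', map_add, mul_add]⟩
    | smul c v _ hv =>
      obtain ⟨p', hp'⟩ := hv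
      exact ⟨c • p', by rw [Algebra.smul_mul_assoc, hp', map_smul, Algebra.mul_smul_comm]⟩
  have hsoc : ∀ u ∈ I, u • w ∈ t • (⊤ : Submodule T P) := by
    intro u hu
    rw [hI] at hu
    induction hu using Submodule.span_induction with
    | mem u hu =>
      obtain ⟨i, hi, hui⟩ := Set.mem_iUnion₂.1 hu
      have hi' : 0 < i := hi
      obtain ⟨m, hm⟩ : ∃ m : ℕ, i = (m : ℤ) + 1 := ⟨(i - 1).toNat, by omega⟩
      have h5 := psi_mem_pc 𝒜 ℬ 𝒯 ψ hT hui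
      rw [hm] at h5
      obtain ⟨p', hp'⟩ := key m _ h5
      rw [Submodule.mem_smul_pointwise_iff_exists]
      refine ⟨p', trivial, hP.injective ?_⟩
      rw [phi_smul 𝒜 ℬ ψ 𝒬 φ a b hP, phi_smul 𝒜 ℬ ψ 𝒬 φ a b hP, hψt, hφw', hp']
    | zero => rw [zero_smul]; exact zero_mem _
    | add u u' _ _ hu hu' => rw [add_smul]; exact add_mem hu hu'
    | smul r u _ hu => rw [smul_eq_mul, mul_smul]; exact Submodule.smul_mem _ r hu
  -- `I P ≠ P`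
  have hIM : I • (⊤ : Submodule T P) ≠ ⊤ := by
    intro htop
    obtain ⟨r, hr, hr0⟩ := Submodule.exists_sub_one_mem_and_smul_eq_zero_of_fg_of_le_smul I
      (⊤ : Submodule T P) Module.Finite.fg_top (le_of_eq htop.symm)
    have h6 := hr0 w trivial
    have h7 : ψ r * ((1 : R) ⊗ₜ[k] (y ^ (j + 1))) = 0 := by
      rw [← hφw', ← phi_smul 𝒜 ℬ ψ 𝒬 φ a b hP, h6, map_zero]
    have hreg1 : IsSMulRegular (R ⊗[k] S) ((1 : R) ⊗ₜ[k] (y ^ (j + 1))) :=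
      isSMulRegular_tmul (IsSMulRegular.one (R := R) (M := R)) (hyreg.pow _)
    have h8 : ψ r = 0 := by
      apply hreg1
      show (1 : R) ⊗ₜ[k] (y ^ (j + 1)) * ψ r = (1 : R) ⊗ₜ[k] (y ^ (j + 1)) * 0
      rw [mul_zero, mul_comm]
      exact h7
    have h9 : r = 0 := hT.1 (by rw [h8, map_zero])
    rw [h9, zero_sub] at hr
    apply hIne
    rw [Ideal.eq_top_iff_one]
    exact neg_mem_iff.1 hr
  exact idealDepth_eq_one_module I P hIM t w htI htreg hw hsoc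

end Main

end Groth.Agent.Helper7.SegPol
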