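import Mathlib
import Groth.Prelude.Def_GrSeg
import Groth.Agent.Helper7.SegPolA
import Groth.Agent.Helper7.SegPolE
import Groth.Agent.Helper2.CMPoly

/-!
# Segre products `k[X](a) # k[Y_1..Y_s](b)` (helper7)
-/

set_option autoImplicit false
set_option linter.unusedSectionVars false
set_option linter.style.haveILetI false
universe u

namespace Groth.Agent.Helper7.SegPol

open DirectSum TensorProduct Groth.Agent.Helper7.SegDim Groth.Agent.Helper7.SegOne
open scoped Pointwise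

attribute [local instance] MvPolynomial.weightedGradedAlgebra

theorem cm_field_mvPolynomial (k : Type u) [Field k] (s : ℕ) :
    LocCoh.IsCohenMacaulayRing (MvPolynomial (Fin s) k) := by
  have : LocCoh.IsCohenMacaulayRing k :=
    (Groth.Agent.Helper2.SnFib.isCohenMacaulayRing_iff k).2
      (fun n => Groth.Agent.Helper2.CMFields.hasSk_of_isArtinianRing k n)
  exact Groth.Agent.Helper2.CMPoly.cm_mvPolynomial s

theorem main_poly (k : Type u) [Field k] (s : ℕ) (h2s : 2 ≤ s) (T : Type u) [CommRing T] [Algebra k T]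
    (𝒯 : ℤ → Submodule k T) [GradedAlgebra 𝒯]
    (ψ : T →ₐ[k] TensorProduct k (MvPolynomial (Fin 1) k) (MvPolynomial (Fin s) k))
    (hT : GrSeg.IsSegreRing (MvPolynomial.weightedHomogeneousSubmodule k (fun _ : Fin 1 => (1 : ℤ)))
      (MvPolynomial.weightedHomogeneousSubmodule k (fun _ : Fin s => (1 : ℤ))) 𝒯 ψ)
    (mT : HomogeneousIdeal 𝒯)
    (hmT : mT.toIdeal = Ideal.span (⋃ n ∈ Set.Ioi (0 : ℤ), (𝒯 n : Set T))) (a b : ℤ)
    (P : Type u) [AddCommGroup P] [Module T P] [Module k P] [IsScalarTower k T P]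
    (𝒬 : ℤ → AddSubgroup P) [DirectSum.Decomposition 𝒬]
    (φ : P →ₗ[k] TensorProduct k (MvPolynomial (Fin 1) k) (MvPolynomial (Fin s) k))
    (hP : GrSeg.IsSegreMod ψ
      (fun n : ℤ => (MvPolynomial.weightedHomogeneousSubmodule k (fun _ : Fin 1 => (1 : ℤ))) (n + a))
      (fun n : ℤ => (MvPolynomial.weightedHomogeneousSubmodule k (fun _ : Fin s => (1 : ℤ))) (n + b))
      𝒬 φ) :
    (b ≤ a → (∀ (q : Ideal T) [q.IsPrime], Subsingleton (LocalizedModule q.primeCompl P) ∨
      LocCoh.IsCohenMacaulayModule (Localization.AtPrime q) (LocalizedModule q.primeCompl P))) ∧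
    (a < b → LocCoh.idealDepth mT.toIdeal P = (1 : ℕ∞)) := by
  have hposR := hpos k (Fin 1)
  have hposS := hpos k (Fin s)
  have h0R := h0 k (Fin 1)
  have h0S := h0 k (Fin s)
  have hstdR := hstd k (Fin 1)
  have hz1 : (MvPolynomial.X 0 : MvPolynomial (Fin 1) k) ∈
      MvPolynomial.weightedHomogeneousSubmodule k (fun _ : Fin 1 => (1 : ℤ)) 1 :=
    MvPolynomial.isWeightedHomogeneous_X k (fun _ : Fin 1 => (1 : ℤ)) 0
  have hzreg : IsSMulRegular (MvPolynomial (Fin 1) k) (MvPolynomial.X 0 : MvPolynomial (Fin 1) k) := by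
    intro x y hxy
    exact mul_left_cancel₀ (MvPolynomial.X_ne_zero 0) hxy
  have h1 : ∀ z' ∈ MvPolynomial.weightedHomogeneousSubmodule k (fun _ : Fin 1 => (1 : ℤ)) 1,
      ∃ c : k, z' = c • (MvPolynomial.X 0 : MvPolynomial (Fin 1) k) := h1_fin_one k
  have hpiece := piece_eq (MvPolynomial.weightedHomogeneousSubmodule k (fun _ : Fin 1 => (1 : ℤ)))
    h0R hstdR h1
  obtain ⟨Θ⟩ := nonempty_algEquiv_of_gen
    (MvPolynomial.weightedHomogeneousSubmodule k (fun _ : Fin 1 => (1 : ℤ)))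
    (MvPolynomial.weightedHomogeneousSubmodule k (fun _ : Fin s => (1 : ℤ))) 𝒯 ψ hT.1 hT.2
    hposR hposS h0R hstdR hz1 hzreg h1
  have hCMS := cm_field_mvPolynomial k s
  have hCMT : LocCoh.IsCohenMacaulayRing T := cm_of_ringEquiv Θ.symm.toRingEquiv
  have hNT : IsNoetherianRing T := hCMT.toIsNoetherian
  have hntT : Nontrivial T := Θ.toEquiv.nontrivial
  refine ⟨fun hba q _ => ?_, fun hab => ?_⟩
  · right
    obtain ⟨e⟩ := nonempty_linearEquiv
      (MvPolynomial.weightedHomogeneousSubmodule k (fun _ : Fin 1 => (1 : ℤ)))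
      (MvPolynomial.weightedHomogeneousSubmodule k (fun _ : Fin s => (1 : ℤ))) 𝒯 ψ hT 𝒬 φ a b hP
      hposS hz1 hpiece hzreg (a - b).toNat (by omega)
    exact cm_of_linearEquiv e q
  · have hs0 : 0 < s := by omega
    have hy1 : (MvPolynomial.X ⟨0, hs0⟩ : MvPolynomial (Fin s) k) ∈
        MvPolynomial.weightedHomogeneousSubmodule k (fun _ : Fin s => (1 : ℤ)) 1 :=
      MvPolynomial.isWeightedHomogeneous_X k (fun _ : Fin s => (1 : ℤ)) ⟨0, hs0⟩
    have hyreg : IsSMulRegular (MvPolynomial (Fin s) k)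
        (MvPolynomial.X ⟨0, hs0⟩ : MvPolynomial (Fin s) k) := by
      intro x y hxy
      exact mul_left_cancel₀ (MvPolynomial.X_ne_zero _) hxy
    have hposT := segre_hpos (MvPolynomial.weightedHomogeneousSubmodule k (fun _ : Fin 1 => (1 : ℤ)))
      (MvPolynomial.weightedHomogeneousSubmodule k (fun _ : Fin s => (1 : ℤ))) 𝒯 ψ hT.1 hT.2 hposR
    have h0T := segre_h0 (MvPolynomial.weightedHomogeneousSubmodule k (fun _ : Fin 1 => (1 : ℤ)))
      (MvPolynomial.weightedHomogeneousSubmodule k (fun _ : Fin s => (1 : ℤ))) 𝒯 ψ hT.1 hT.2 h0R h0S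
    have hirr : mT.toIdeal = irr 𝒯 := by
      rw [hmT]
      unfold irr
      congr 1
      ext x
      constructor
      · intro hx
        obtain ⟨n, hn, hxn⟩ := Set.mem_iUnion₂.1 hx
        exact ⟨n, hn, hxn⟩
      · rintro ⟨n, hn, hxn⟩
        exact Set.mem_iUnion₂.2 ⟨n, hn, hxn⟩
    have hIne : mT.toIdeal ≠ ⊤ := by
      rw [hirr]
      exact (irr_isMaximal 𝒯 hposT h0T).ne_top
    exact idealDepth_eq_one_of_lt
      (MvPolynomial.weightedHomogeneousSubmodule k (fun _ : Fin 1 => (1 : ℤ)))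
      (MvPolynomial.weightedHomogeneousSubmodule k (fun _ : Fin s => (1 : ℤ))) 𝒯 ψ hT 𝒬 φ a b hP
      hposR h0R hz1 hzreg hpiece hy1 hyreg (b - a - 1).toNat (by push_cast; omega) mT.toIdeal hmT hIne

end Groth.Agent.Helper7.SegPol
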