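import Mathlib

/-!
# Euler characteristic of a long exact sequence of modules of finite length
-/

set_option autoImplicit false
set_option linter.unusedSectionVars false

namespace Groth.Agent.Helper7.GrEC

universe u v

variable {R₀ : Type v} [Ring R₀]

section RankNullity

variable {A B C : Type u} [AddCommGroup A] [Module R₀ A] [AddCommGroup B] [Module R₀ B]
  [AddCommGroup C] [Module R₀ C]

/-- rank–nullity for the length -/
theorem length_eq_ker_add_range (f : A →ₗ[R₀] B) :
    Module.length R₀ A =
      Module.length R₀ (LinearMap.ker f) + Module.length R₀ (LinearMap.range f) := by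
  refine Module.length_eq_add_of_exact (LinearMap.ker f).subtype f.rangeRestrict
    (Submodule.subtype_injective _) f.surjective_rangeRestrict ?_
  intro y
  constructor
  · intro hy
    refine ⟨⟨y, ?_⟩, rfl⟩
    rw [LinearMap.mem_ker]
    exact congrArg Subtype.val hy
  · rintro ⟨z, rfl⟩
    apply Subtype.ext
    exact z.2

theorem length_range_eq_ker (f : A →ₗ[R₀] B) (g : B →ₗ[R₀] C) (h : Function.Exact f g) :
    Module.length R₀ (LinearMap.range f) = Module.length R₀ (LinearMap.ker g) := by
  rw [LinearMap.exact_iff.mp h]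

end RankNullity

/-- alternating telescoping sum -/
theorem sum_alt_telescope (K : ℕ → ℚ) (n : ℕ) :
    ∑ i ∈ Finset.range n, (-1 : ℚ) ^ i * (K i + K (i + 1)) = K 0 - (-1 : ℚ) ^ n * K n := by
  induction n with
  | zero => simp
  | succ n ih =>
    rw [Finset.sum_range_succ, ih, pow_succ]
    ring

section Main

variable (A B C : ℕ → Type u) [∀ i, AddCommGroup (A i)] [∀ i, Module R₀ (A i)]
  [∀ i, AddCommGroup (B i)] [∀ i, Module R₀ (B i)] [∀ i, AddCommGroup (C i)] [∀ i, Module R₀ (C i)]
  (f : ∀ i, A i →ₗ[R₀] B i) (g : ∀ i, B i →ₗ[R₀] C i) (δ : ∀ i, C i →ₗ[R₀] A (i + 1))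

/-- The Euler characteristic of a long exact sequence
`0 → A₀ → B₀ → C₀ → A₁ → B₁ → C₁ → ⋯` of modules of finite length with `A_{d+1} = 0` vanishes. -/
theorem euler_char (hf0 : Function.Injective (f 0))
    (h1 : ∀ i, Function.Exact (f i) (g i)) (h2 : ∀ i, Function.Exact (g i) (δ i))
    (h3 : ∀ i, Function.Exact (δ i) (f (i + 1)))
    (d : ℕ) (hA : Subsingleton (A (d + 1)))
    (finA : ∀ i, Module.length R₀ (A i) ≠ ⊤) (finB : ∀ i, Module.length R₀ (B i) ≠ ⊤)
    (finC : ∀ i, Module.length R₀ (C i) ≠ ⊤) :
    ∑ i ∈ Finset.range (d + 1), (-1 : ℚ) ^ i *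
      (((Module.length R₀ (A i)).toNat : ℚ) - ((Module.length R₀ (B i)).toNat : ℚ) +
        ((Module.length R₀ (C i)).toNat : ℚ)) = 0 := by
  -- the lengths of the kernels of `f i`
  set k : ℕ → ℕ∞ := fun i => Module.length R₀ (LinearMap.ker (f i)) with hk
  have hkle : ∀ i, k i ≤ Module.length R₀ (A i) := fun i =>
    Module.length_le_of_injective (LinearMap.ker (f i)).subtype (Submodule.subtype_injective _)
  have hkfin : ∀ i, k i ≠ ⊤ := fun i => ne_top_of_le_ne_top (finA i) (hkle i)
  have key : ∀ i, Module.length R₀ (A i) + Module.length R₀ (C i) =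
      Module.length R₀ (B i) + (k i + k (i + 1)) := by
    intro i
    have ea := length_eq_ker_add_range (f i)
    have eb := length_eq_ker_add_range (g i)
    have ec := length_eq_ker_add_range (δ i)
    rw [length_range_eq_ker _ _ (h1 i)] at ea
    rw [length_range_eq_ker _ _ (h2 i)] at eb
    rw [length_range_eq_ker _ _ (h3 i)] at ec
    rw [ea, eb, ec]
    simp only [hk]
    ring
  have keyQ : ∀ i, ((Module.length R₀ (A i)).toNat : ℚ) - ((Module.length R₀ (B i)).toNat : ℚ) +
        ((Module.length R₀ (C i)).toNat : ℚ) = ((k i).toNat : ℚ) + ((k (i + 1)).toNat : ℚ) := by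
    intro i
    have h := key i
    rw [← ENat.natCast_toNat (finA i), ← ENat.natCast_toNat (finB i), ← ENat.natCast_toNat (finC i),
      ← ENat.natCast_toNat (hkfin i), ← ENat.natCast_toNat (hkfin (i + 1))] at h
    have h2 : (Module.length R₀ (A i)).toNat + (Module.length R₀ (C i)).toNat =
        (Module.length R₀ (B i)).toNat + ((k i).toNat + (k (i + 1)).toNat) := by
      exact_mod_cast h
    have h' : ((Module.length R₀ (A i)).toNat : ℚ) + ((Module.length R₀ (C i)).toNat : ℚ) =
        ((Module.length R₀ (B i)).toNat : ℚ) + (((k i).toNat : ℚ) + ((k (i + 1)).toNat : ℚ)) := by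
      exact_mod_cast h2
    linarith
  simp only [keyQ]
  rw [sum_alt_telescope (fun i => ((k i).toNat : ℚ)) (d + 1)]
  have hk0 : k 0 = 0 := by
    simp only [hk]
    rw [Module.length_eq_zero_iff]
    rw [LinearMap.ker_eq_bot.mpr hf0]
    infer_instance
  have hkd : k (d + 1) = 0 := by
    simp only [hk]
    rw [Module.length_eq_zero_iff]
    exact (Submodule.subtype_injective (LinearMap.ker (f (d + 1)))).subsingleton
  simp only [hk0, hkd]
  simp

end Main

end Groth.Agent.Helper7.GrEC
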