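import Mathlib
import Groth.Prelude.Def_GrLC
import Groth.Agent.Helper7.GrDel6
import Groth.Agent.Helper7.GrEC1
import Groth.Agent.Helper6.GrH

/-!
# Additivity of the graded Euler characteristic of local cohomology along short exact sequences
-/

set_option autoImplicit false
set_option linter.unusedSectionVars false

namespace Groth.Agent.Helper7.GrEC

open DirectSum Groth.Agent.Helper7.GrDel

universe u

variable {R : Type u} [CommRing R] {𝒜 : ℤ → AddSubgroup R} [GradedRing 𝒜]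

section PieceMap

variable {X Y Z : Type u} [AddCommGroup X] [Module R X] [AddCommGroup Y] [Module R Y]
  [AddCommGroup Z] [Module R Z]

/-- the restriction of an `R`-linear map to `R_0`-submodules -/
noncomputable def pieceMap (φ : X →ₗ[R] Y) (p : Submodule (GrLC.deg0 𝒜) X)
    (q : Submodule (GrLC.deg0 𝒜) Y) (h : ∀ x ∈ p, φ x ∈ q) : p →ₗ[GrLC.deg0 𝒜] q :=
  (φ.restrictScalars (GrLC.deg0 𝒜)).restrict h

theorem pieceMap_coe (φ : X →ₗ[R] Y) (p : Submodule (GrLC.deg0 𝒜) X)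
    (q : Submodule (GrLC.deg0 𝒜) Y) (h : ∀ x ∈ p, φ x ∈ q) (x : p) :
    (pieceMap φ p q h x : Y) = φ x := rfl

theorem exact_pieceMap (φ : X →ₗ[R] Y) (ψ : Y →ₗ[R] Z) (p : Submodule (GrLC.deg0 𝒜) X)
    (q : Submodule (GrLC.deg0 𝒜) Y) (r : Submodule (GrLC.deg0 𝒜) Z)
    (hφ : ∀ x ∈ p, φ x ∈ q) (hψ : ∀ y ∈ q, ψ y ∈ r)
    (hcomp : ∀ x ∈ p, ψ (φ x) = 0) (hex : ∀ y ∈ q, ψ y = 0 → ∃ x ∈ p, φ x = y) :
    Function.Exact (pieceMap φ p q hφ) (pieceMap ψ q r hψ) := by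
  intro y
  constructor
  · intro hy
    have hy' : ψ (y : Y) = 0 := congrArg Subtype.val hy
    obtain ⟨x, hx, hxy⟩ := hex y y.2 hy'
    exact ⟨⟨x, hx⟩, Subtype.ext hxy⟩
  · rintro ⟨x, rfl⟩
    apply Subtype.ext
    exact hcomp x x.2

theorem injective_pieceMap (φ : X →ₗ[R] Y) (p : Submodule (GrLC.deg0 𝒜) X)
    (q : Submodule (GrLC.deg0 𝒜) Y) (h : ∀ x ∈ p, φ x ∈ q)
    (hinj : ∀ x ∈ p, φ x = 0 → x = 0) : Function.Injective (pieceMap φ p q h) := by
  rw [← LinearMap.ker_eq_bot, eq_bot_iff]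
  intro x hx
  rw [LinearMap.mem_ker] at hx
  have : φ (x : X) = 0 := congrArg Subtype.val hx
  rw [Submodule.mem_bot]
  exact Subtype.ext (hinj x x.2 this)

theorem surjective_pieceMap (φ : X →ₗ[R] Y) (p : Submodule (GrLC.deg0 𝒜) X)
    (q : Submodule (GrLC.deg0 𝒜) Y) (h : ∀ x ∈ p, φ x ∈ q)
    (hsurj : ∀ y ∈ q, ∃ x ∈ p, φ x = y) : Function.Surjective (pieceMap φ p q h) := by
  intro y
  obtain ⟨x, hx, hxy⟩ := hsurj y y.2
  exact ⟨⟨x, hx⟩, Subtype.ext hxy⟩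

end PieceMap

section SES

variable {M' : Type u} [AddCommGroup M'] [Module R M'] {ℳ' : ℤ → AddSubgroup M'} [Decomposition ℳ']
  [SetLike.GradedSMul 𝒜 ℳ']
  {M : Type u} [AddCommGroup M] [Module R M] {ℳ : ℤ → AddSubgroup M} [Decomposition ℳ]
  [SetLike.GradedSMul 𝒜 ℳ]
  {M'' : Type u} [AddCommGroup M''] [Module R M''] {ℳ'' : ℤ → AddSubgroup M''}
  [Decomposition ℳ''] [SetLike.GradedSMul 𝒜 ℳ'']

/-- additivity of the Hilbert function along a short exact sequence of graded modules -/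
theorem length_comp_ses (u : M' →ₗ[R] M) (v : M →ₗ[R] M'')
    (hu : GrLC.IsGrHom ℳ' ℳ u) (hv : GrLC.IsGrHom ℳ ℳ'' v)
    (hinj : Function.Injective u) (hsurj : Function.Surjective v)
    (hex : ∀ m, v m = 0 → ∃ m', u m' = m) (hvu : ∀ m', v (u m') = 0) (n : ℤ) :
    Module.length (GrLC.deg0 𝒜) (GrLC.comp 𝒜 ℳ n) =
      Module.length (GrLC.deg0 𝒜) (GrLC.comp 𝒜 ℳ' n) +
        Module.length (GrLC.deg0 𝒜) (GrLC.comp 𝒜 ℳ'' n) := by
  have hI' : DirectSum.IsInternal ℳ' := Decomposition.isInternal ℳ'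
  have hI : DirectSum.IsInternal ℳ := Decomposition.isInternal ℳ
  have hI'' : DirectSum.IsInternal ℳ'' := Decomposition.isInternal ℳ''
  refine Module.length_eq_add_of_exact
    (pieceMap u (GrLC.comp 𝒜 ℳ' n) (GrLC.comp 𝒜 ℳ n) (fun x hx => hu n x hx))
    (pieceMap v (GrLC.comp 𝒜 ℳ n) (GrLC.comp 𝒜 ℳ'' n) (fun x hx => hv n x hx)) ?_ ?_ ?_
  · exact injective_pieceMap _ _ _ _ (fun x _ hx => hinj (hx.trans (map_zero u).symm))
  · apply surjective_pieceMap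
    intro y hy
    obtain ⟨m, rfl⟩ := hsurj y
    exact exists_mem_of_gr hI hI'' v hv n m hy
  · apply exact_pieceMap
    · intro x _
      exact hvu x
    · intro y hy hvy
      obtain ⟨m', rfl⟩ := hex y hvy
      exact exists_mem_of_gr hI' hI u hu n m' hy

/-- The alternating sum of the lengths of the pieces of local cohomology, up to cohomological
degree `d`. -/
noncomputable def chi (E : GrLC.StarInjRes 𝒜 ℳ) (a : HomogeneousIdeal 𝒜) (d : ℕ) (n : ℤ) : ℚ :=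
  ∑ i ∈ Finset.range (d + 1),
    (-1 : ℚ) ^ i * ((Module.length (GrLC.deg0 𝒜) (E.Hcomp a i n)).toNat : ℚ)

/-- additivity of the Euler characteristic of graded local cohomology along a short exact
sequence -/
theorem chi_ses (E' : GrLC.StarInjRes 𝒜 ℳ') (E : GrLC.StarInjRes 𝒜 ℳ)
    (E'' : GrLC.StarInjRes 𝒜 ℳ'') (u : M' →ₗ[R] M) (v : M →ₗ[R] M'')
    (hu : GrLC.IsGrHom ℳ' ℳ u) (hv : GrLC.IsGrHom ℳ ℳ'' v)
    (hinj : Function.Injective u) (hsurj : Function.Surjective v)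
    (hex : ∀ m, v m = 0 → ∃ m', u m' = m) (hvu : ∀ m', v (u m') = 0) (a : HomogeneousIdeal 𝒜)
    (d : ℕ) (hvan : Subsingleton (E'.H a (d + 1))) (n : ℤ)
    (fin' : ∀ i, Module.length (GrLC.deg0 𝒜) (E'.Hcomp a i n) ≠ ⊤)
    (fin : ∀ i, Module.length (GrLC.deg0 𝒜) (E.Hcomp a i n) ≠ ⊤)
    (fin'' : ∀ i, Module.length (GrLC.deg0 𝒜) (E''.Hcomp a i n) ≠ ⊤) :
    chi E a d n = chi E' a d n + chi E'' a d n := by
  obtain ⟨δ, hδ, h0, h1, h2, h3⟩ := exists_les E' E E'' u v hu hv hinj hsurj hex hvu a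
  have hI' := fun i => Groth.Agent.Helper6.GrH.Hgr_isInternal 𝒜 ℳ' a E' i
  have hI := fun i => Groth.Agent.Helper6.GrH.Hgr_isInternal 𝒜 ℳ a E i
  have hI'' := fun i => Groth.Agent.Helper6.GrH.Hgr_isInternal 𝒜 ℳ'' a E'' i
  have hαgr := fun i => Hphi_gr (E := E') (F := E) hu a i
  have hβgr := fun i => Hphi_gr (E := E) (F := E'') hv a i
  have key := euler_char (R₀ := GrLC.deg0 𝒜)
    (fun i => ↥(E'.Hcomp a i n)) (fun i => ↥(E.Hcomp a i n)) (fun i => ↥(E''.Hcomp a i n))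
    (fun i => pieceMap (Hphi E' E u hu a i) (E'.Hcomp a i n) (E.Hcomp a i n)
      (fun x hx => hαgr i n x hx))
    (fun i => pieceMap (Hphi E E'' v hv a i) (E.Hcomp a i n) (E''.Hcomp a i n)
      (fun x hx => hβgr i n x hx))
    (fun i => pieceMap (δ i) (E''.Hcomp a i n) (E'.Hcomp a (i + 1) n)
      (fun x hx => hδ i n x hx))
    ?_ ?_ ?_ ?_ d ?_ fin' fin fin''
  · simp only [chi]
    have e : ∀ i ∈ Finset.range (d + 1), (-1 : ℚ) ^ i *
        (((Module.length (GrLC.deg0 𝒜) (E'.Hcomp a i n)).toNat : ℚ) -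
          ((Module.length (GrLC.deg0 𝒜) (E.Hcomp a i n)).toNat : ℚ) +
          ((Module.length (GrLC.deg0 𝒜) (E''.Hcomp a i n)).toNat : ℚ)) =
        ((-1 : ℚ) ^ i * ((Module.length (GrLC.deg0 𝒜) (E'.Hcomp a i n)).toNat : ℚ) +
          (-1 : ℚ) ^ i * ((Module.length (GrLC.deg0 𝒜) (E''.Hcomp a i n)).toNat : ℚ)) -
          (-1 : ℚ) ^ i * ((Module.length (GrLC.deg0 𝒜) (E.Hcomp a i n)).toNat : ℚ) := by
      intro i _
      ring
    rw [Finset.sum_congr rfl e, Finset.sum_sub_distrib, Finset.sum_add_distrib] at key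
    linarith
  · exact injective_pieceMap _ _ _ _ (fun x _ hx => h0 x hx)
  · intro i
    apply exact_pieceMap
    · intro x _
      exact (h1 i _).mpr ⟨x, rfl⟩
    · intro y hy hvy
      obtain ⟨x, rfl⟩ := (h1 i y).mp hvy
      exact exists_mem_of_gr (hI' i) (hI i) _ (hαgr i) n x hy
  · intro i
    apply exact_pieceMap
    · intro y _
      exact (h2 i _).mpr ⟨y, rfl⟩
    · intro w hw hδw
      obtain ⟨y, rfl⟩ := (h2 i w).mp hδw
      exact exists_mem_of_gr (hI i) (hI'' i) _ (hβgr i) n y hw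
  · intro i
    apply exact_pieceMap
    · intro w _
      exact (h3 i _).mpr ⟨w, rfl⟩
    · intro x hx hαx
      obtain ⟨w, rfl⟩ := (h3 i x).mp hαx
      exact exists_mem_of_gr (hI'' i) (hI' (i + 1)) _ (hδ i) n w hx
  · have : Subsingleton (E'.H a (d + 1)) := hvan
    exact (Subtype.val_injective).subsingleton

end SES

end Groth.Agent.Helper7.GrEC
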