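import Mathlib
import Groth.Prelude.Def_GrLC
import Groth.Agent.Helper7.GrEC2
import Groth.Agent.Helper7.GrArt1
import Groth.Agent.Helper7.GrFinD
import Groth.Agent.Helper7.GrH0

/-!
# Finite length of graded pieces, the torsion case, and shifts
-/

set_option autoImplicit false
set_option linter.unusedSectionVars false

namespace Groth.Agent.Helper7.GrEC

open DirectSum Groth.Agent.Helper6.GrMod Groth.Agent.Helper6.GrCon Groth.Agent.Helper6.GrShift
  Groth.Agent.Helper7.GrDel Groth.Agent.Helper7.GrFinC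

universe u

section Noeth

variable {R : Type u} [CommRing R] (𝒜 : ℤ → AddSubgroup R) [GradedRing 𝒜]
  (hpos : ∀ n : ℤ, n < 0 → 𝒜 n = ⊥)
  {H : Type u} [AddCommGroup H] [Module R H] (ℋ : ℤ → AddSubgroup H) [Decomposition ℋ]
  [SetLike.GradedSMul 𝒜 ℋ]

include hpos in
/-- the pieces of a graded Noetherian module over a nonnegatively graded ring are Noetherian over
`R_0` -/
theorem isNoetherian_piece [IsNoetherian R H] (e : ℤ) (P : Submodule (GrLC.deg0 𝒜) H)
    (hP : ∀ y, y ∈ P ↔ y ∈ ℋ e) : IsNoetherian (GrLC.deg0 𝒜) P := by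
  let ψ : Submodule (GrLC.deg0 𝒜) P → Submodule R H :=
    fun V => Groth.Agent.Helper7.GrArt.low 𝒜 hpos ℋ e (V.map P.subtype)
  have hψ : StrictMono ψ := by
    intro V V' hVV'
    have hle : ψ V ≤ ψ V' := by
      intro y hy
      exact ⟨hy.1, Submodule.map_mono hVV'.le hy.2⟩
    refine lt_of_le_of_ne hle ?_
    intro heq
    apply hVV'.not_ge
    intro v hv
    have hmem : (v : H) ∈ ψ V' := by
      refine ⟨fun d' hd' => ?_, ?_⟩
      · exact decompose_of_mem_ne ℋ ((hP _).mp v.2) (by omega)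
      · rw [decompose_of_mem_same ℋ ((hP _).mp v.2)]
        exact ⟨v, hv, rfl⟩
    rw [← heq] at hmem
    have h2 := hmem.2
    rw [decompose_of_mem_same ℋ ((hP _).mp v.2)] at h2
    obtain ⟨w, hw, hwv⟩ := h2
    have : w = v := Subtype.ext hwv
    rw [← this]
    exact hw
  exact isNoetherian_iff'.mpr hψ.wellFoundedGT

include hpos in
/-- the pieces of a finitely generated graded module over a Noetherian nonnegatively graded ring
with `R_0` Artinian have finite length -/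
theorem length_comp_ne_top [IsNoetherianRing R] [IsArtinianRing (GrLC.deg0 𝒜)] [Module.Finite R H]
    (n : ℤ) : Module.length (GrLC.deg0 𝒜) (GrLC.comp 𝒜 ℋ n) ≠ ⊤ := by
  have : IsNoetherian R H := inferInstance
  have : IsNoetherian (GrLC.deg0 𝒜) (GrLC.comp 𝒜 ℋ n) :=
    isNoetherian_piece 𝒜 hpos ℋ n (GrLC.comp 𝒜 ℋ n) (fun _ => Iff.rfl)
  have : Module.Finite (GrLC.deg0 𝒜) (GrLC.comp 𝒜 ℋ n) := inferInstance
  have : IsArtinian (GrLC.deg0 𝒜) (GrLC.comp 𝒜 ℋ n) := inferInstance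
  exact Module.length_ne_top

end Noeth

section HFin

variable {R : Type u} [CommRing R] [IsNoetherianRing R] (𝒜 : ℤ → AddSubgroup R) [GradedRing 𝒜]
  (hpos : ∀ n : ℤ, n < 0 → 𝒜 n = ⊥) (a : HomogeneousIdeal 𝒜)
  (ha : a.toIdeal = Ideal.span (⋃ n ∈ Set.Ioi (0 : ℤ), (𝒜 n : Set R)))

include hpos ha in
/-- the pieces of the local cohomology of a finitely generated graded module with respect to `R₊`
have finite length when `R_0` is Artinian -/
theorem length_Hcomp_ne_top [IsArtinianRing (GrLC.deg0 𝒜)] (X : GrLC.GMod.{u} 𝒜)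
    [Module.Finite R X.carrier] (E : GrLC.StarInjRes 𝒜 X.gr) (i : ℕ) (n : ℤ) :
    Module.length (GrLC.deg0 𝒜) (E.Hcomp a i n) ≠ ⊤ := by
  have hfg := Groth.Agent.Helper7.GrFinD.finite 𝒜 hpos a ha i X E n
  have : Module.Finite (GrLC.deg0 𝒜) (E.Hcomp a i n) := Module.Finite.iff_fg.mpr hfg
  have : IsNoetherian (GrLC.deg0 𝒜) (E.Hcomp a i n) := inferInstance
  have : IsArtinian (GrLC.deg0 𝒜) (E.Hcomp a i n) := inferInstance
  exact Module.length_ne_top

end HFin

section Tors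

variable {R : Type u} [CommRing R] {𝒜 : ℤ → AddSubgroup R} [GradedRing 𝒜]
  {M : Type u} [AddCommGroup M] [Module R M] {ℳ : ℤ → AddSubgroup M} [Decomposition ℳ]
  [SetLike.GradedSMul 𝒜 ℳ]

/-- for a torsion module, `H^0(M)_n ≅ M_n` -/
theorem length_Hcomp_zero_of_torsion (a : HomogeneousIdeal 𝒜) (E : GrLC.StarInjRes 𝒜 ℳ)
    (htors : ∀ x : M, x ∈ GrLC.gam a.toIdeal M) (n : ℤ) :
    Module.length (GrLC.deg0 𝒜) (E.Hcomp a 0 n) =
      Module.length (GrLC.deg0 𝒜) (GrLC.comp 𝒜 ℳ n) := by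
  have hcoc : ∀ z : M, E.ε z ∈ E.cocyc a 0 := by
    intro z
    refine ⟨map_mem_gam a.toIdeal E.ε (htors z), ?_⟩
    rw [SetLike.mem_coe, LinearMap.mem_ker]
    exact d_ε E _
  let θ : M →ₗ[R] E.H a 0 := (E.toH a 0) ∘ₗ (E.ε.codRestrict (E.cocyc a 0) hcoc)
  have hθmem : ∀ x ∈ GrLC.comp 𝒜 ℳ n, θ x ∈ E.Hcomp a 0 n := by
    intro x hx
    exact ⟨⟨_, hcoc x⟩, E.ε_grHom n _ hx, rfl⟩
  have hinj : ∀ x : M, θ x = 0 → x = 0 := by
    intro x hx
    have h1 : (E.ε.codRestrict (E.cocyc a 0) hcoc x) ∈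
        (E.cobdy a 0).comap (E.cocyc a 0).subtype :=
      (Submodule.Quotient.mk_eq_zero _).mp hx
    have h2 : E.ε x ∈ (⊥ : Submodule R (E.X 0).carrier) := h1
    rw [Submodule.mem_bot] at h2
    exact E.ε_injective (h2.trans (map_zero E.ε).symm)
  have hbij : Function.Bijective
      (pieceMap θ (GrLC.comp 𝒜 ℳ n) (E.Hcomp a 0 n) hθmem) := by
    constructor
    · exact injective_pieceMap _ _ _ _ (fun x _ hx => hinj x hx)
    · apply surjective_pieceMap
      rintro y ⟨c, hc, rfl⟩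
      obtain ⟨u, hu⟩ := exists_of_d_zero E (c : (E.X 0).carrier) c.2.2
      have hun : u ∈ ℳ n := by
        apply Groth.Agent.Helper7.GrH0.mem_of_map_mem ℳ (E.X 0).gr E.ε E.ε_grHom E.ε_injective
        rw [hu]
        exact hc
      refine ⟨u, hun, ?_⟩
      show E.toH a 0 _ = E.toH a 0 c
      congr 1
      exact Subtype.ext hu
  exact (LinearEquiv.ofBijective _ hbij).length_eq.symm

/-- for a torsion module the Euler characteristic is the Hilbert function -/
theorem chi_of_torsion [IsNoetherianRing R] (a : HomogeneousIdeal 𝒜) (E : GrLC.StarInjRes 𝒜 ℳ)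
    (htors : ∀ x : M, x ∈ GrLC.gam a.toIdeal M) (d : ℕ) (n : ℤ) :
    chi E a d n = ((Module.length (GrLC.deg0 𝒜) (GrLC.comp 𝒜 ℳ n)).toNat : ℚ) := by
  unfold chi
  rw [Finset.sum_range_succ']
  have hz : ∀ i ∈ Finset.range d, (-1 : ℚ) ^ (i + 1) *
      ((Module.length (GrLC.deg0 𝒜) (E.Hcomp a (i + 1) n)).toNat : ℚ) = 0 := by
    intro i _
    have hss : Subsingleton (E.H a (i + 1)) :=
      H_subsingleton_of_torsion a htors E (i + 1) (by omega)
    have : Subsingleton ↥(E.Hcomp a (i + 1) n) := (Subtype.val_injective).subsingleton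
    rw [Module.length_eq_zero_iff.mpr this]
    simp
  rw [Finset.sum_eq_zero hz, length_Hcomp_zero_of_torsion a E htors n]
  simp

end Tors

section Shift

variable {R : Type u} [CommRing R] {𝒜 : ℤ → AddSubgroup R} [GradedRing 𝒜]
  {M : Type u} [AddCommGroup M] [Module R M] {ℳ : ℤ → AddSubgroup M} [Decomposition ℳ]
  [SetLike.GradedSMul 𝒜 ℳ]

theorem chi_shiftRes (E : GrLC.StarInjRes 𝒜 ℳ) (t : ℤ) (a : HomogeneousIdeal 𝒜) (d : ℕ) (n : ℤ) :
    chi (shiftRes E t) a d n = chi E a d (n + t) := rfl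

theorem length_comp_shift (X : GrLC.GMod.{u} 𝒜) (t : ℤ) (n : ℤ) :
    Module.length (GrLC.deg0 𝒜) (GrLC.comp 𝒜 (shiftGMod 𝒜 X t).gr n) =
      Module.length (GrLC.deg0 𝒜) (GrLC.comp 𝒜 X.gr (n + t)) := rfl

theorem length_Hcomp_shiftRes (E : GrLC.StarInjRes 𝒜 ℳ) (t : ℤ) (a : HomogeneousIdeal 𝒜) (i : ℕ)
    (n : ℤ) :
    Module.length (GrLC.deg0 𝒜) ((shiftRes E t).Hcomp a i n) =
      Module.length (GrLC.deg0 𝒜) (E.Hcomp a i (n + t)) := rfl

end Shift

end Groth.Agent.Helper7.GrEC
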