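import Mathlib
import Groth.Prelude.Def_GrLC
import Groth.Agent.Helper7.GrEC3
import Groth.Agent.Helper7.GrFinD
import Groth.Agent.Helper7.GrTopRE1
import Groth.Agent.Helper6.GrLCIrr
import Groth.Agent.Helper6.GrExist

/-!
# The Serre–Grothendieck formula for the irrelevant ideal
-/

set_option autoImplicit false
set_option linter.unusedSectionVars false

namespace Groth.Agent.Helper7.GrEC

open DirectSum Groth.Agent.Helper6.GrMod Groth.Agent.Helper6.GrCon Groth.Agent.Helper6.GrShift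
  Groth.Agent.Helper7.GrDel Groth.Agent.Helper7.GrFinC

universe u

section Poly

open Polynomial

/-- the backward difference of a polynomial with step `t` -/
noncomputable def diffPoly (P : ℚ[X]) (t : ℚ) : ℚ[X] := P - P.comp (X - C t)

theorem eval_diffPoly (P : ℚ[X]) (t x : ℚ) :
    (diffPoly P t).eval x = P.eval x - P.eval (x - t) := by
  simp [diffPoly, eval_comp]

theorem degree_diffPoly_lt (P : ℚ[X]) (t : ℚ) (k : ℕ) (h : P.degree < ((k + 1 : ℕ) : WithBot ℕ)) :
    (diffPoly P t).degree < (k : WithBot ℕ) := by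
  by_cases hP : P = 0
  · subst hP
    simp only [diffPoly, zero_comp, sub_zero, degree_zero]
    exact WithBot.bot_lt_coe k
  · have hnd : (X - C t : ℚ[X]).natDegree = 1 := natDegree_X_sub_C t
    have hlc : (P.comp (X - C t)).leadingCoeff = P.leadingCoeff := by
      rw [leadingCoeff_comp (by rw [hnd]; exact one_ne_zero), leadingCoeff_X_sub_C, one_pow,
        mul_one]
    have hQ : P.comp (X - C t) ≠ 0 := by
      intro h0
      rw [h0, leadingCoeff_zero] at hlc
      exact hP (leadingCoeff_eq_zero.mp hlc.symm)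
    have hdeg : P.degree = (P.comp (X - C t)).degree := by
      rw [degree_eq_natDegree hP, degree_eq_natDegree hQ, natDegree_comp, hnd, mul_one]
    have h1 : (diffPoly P t).degree < P.degree := degree_sub_lt_left hdeg hP hlc.symm
    have h2 : P.natDegree < k + 1 := (natDegree_lt_iff_degree_lt hP).mpr h
    refine lt_of_lt_of_le h1 ?_
    rw [degree_eq_natDegree hP]
    exact_mod_cast Nat.lt_succ_iff.mp h2

end Poly

/-- a function on `ℤ` which is periodic and vanishes for large arguments is zero -/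
theorem eq_zero_of_periodic (f : ℤ → ℚ) (t : ℤ) (ht : 0 < t) (hper : ∀ n, f n = f (n + -t))
    (B : ℤ) (hB : ∀ n, B ≤ n → f n = 0) : ∀ n, f n = 0 := by
  have key : ∀ (j : ℕ) (n : ℤ), f n = f (n + j * t) := by
    intro j
    induction j with
    | zero => intro n; simp
    | succ j ih =>
      intro n
      rw [ih n, hper (n + ((j + 1 : ℕ) : ℤ) * t)]
      congr 1
      push_cast
      ring
  intro n
  rw [key (B - n).toNat n]
  apply hB
  have h1 : B - n ≤ ((B - n).toNat : ℤ) := Int.self_le_toNat _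
  have h2 : ((B - n).toNat : ℤ) ≤ ((B - n).toNat : ℤ) * t := by
    have : (0 : ℤ) ≤ ((B - n).toNat : ℤ) := Int.natCast_nonneg _
    nlinarith
  linarith

variable {R : Type u} [CommRing R] [IsNoetherianRing R] (𝒜 : ℤ → AddSubgroup R) [GradedRing 𝒜]
  (hpos : ∀ n : ℤ, n < 0 → 𝒜 n = ⊥) (a : HomogeneousIdeal 𝒜)
  (ha : a.toIdeal = Ideal.span (⋃ n ∈ Set.Ioi (0 : ℤ), (𝒜 n : Set R)))

/-- the Hilbert function of a graded module, as a rational number -/
noncomputable def hilb (X : GrLC.GMod.{u} 𝒜) (n : ℤ) : ℚ :=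
  ((Module.length (GrLC.deg0 𝒜) (GrLC.comp 𝒜 X.gr n)).toNat : ℚ)

include hpos ha in
/-- the Euler characteristic vanishes in large degrees -/
theorem exists_chi_eq_zero (X : GrLC.GMod.{u} 𝒜) [Module.Finite R X.carrier]
    (E : GrLC.StarInjRes 𝒜 X.gr) (d : ℕ) : ∃ r : ℤ, ∀ n, r ≤ n → chi E a d n = 0 := by
  have h := fun i => Groth.Agent.Helper7.GrFinD.vanish 𝒜 hpos a ha i X E
  choose r hr using h
  refine ⟨(Finset.range (d + 1)).sup' ⟨0, Finset.mem_range.mpr (Nat.succ_pos d)⟩ r, fun n hn => ?_⟩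
  unfold chi
  apply Finset.sum_eq_zero
  intro i hi
  have hri : r i ≤ n := le_trans (Finset.le_sup' r hi) hn
  have hbot := hr i n hri
  have hss : Subsingleton ↥(E.Hcomp a i n) := by
    refine ⟨fun x y => Subtype.ext ?_⟩
    have hx : (x : E.H a i) ∈ E.Hgr a i n := x.2
    have hy : (y : E.H a i) ∈ E.Hgr a i n := y.2
    rw [hbot, AddSubgroup.mem_bot] at hx hy
    rw [hx, hy]
  rw [Module.length_eq_zero_iff.mpr hss]
  simp

variable [IsArtinianRing (GrLC.deg0 𝒜)]

include hpos in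
/-- the Hilbert function is additive along short exact sequences -/
theorem hilb_ses (X' X X'' : GrLC.GMod.{u} 𝒜) [Module.Finite R X'.carrier]
    [Module.Finite R X.carrier] [Module.Finite R X''.carrier]
    (u : X'.carrier →ₗ[R] X.carrier) (v : X.carrier →ₗ[R] X''.carrier)
    (hu : GrLC.IsGrHom X'.gr X.gr u) (hv : GrLC.IsGrHom X.gr X''.gr v)
    (hinj : Function.Injective u) (hsurj : Function.Surjective v)
    (hex : ∀ m, v m = 0 → ∃ m', u m' = m) (hvu : ∀ m', v (u m') = 0) (n : ℤ) :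
    hilb 𝒜 X n = hilb 𝒜 X' n + hilb 𝒜 X'' n := by
  have h2 := length_comp_ses (𝒜 := 𝒜) u v hu hv hinj hsurj hex hvu n
  have f' := length_comp_ne_top 𝒜 hpos X'.gr n
  have f'' := length_comp_ne_top 𝒜 hpos X''.gr n
  unfold hilb
  rw [h2, ENat.toNat_add f' f'']
  push_cast
  ring

include hpos ha in
/-- the difference of the Hilbert function and the Euler characteristic is additive along short
exact sequences -/
theorem hilb_sub_chi_ses (X' X X'' : GrLC.GMod.{u} 𝒜) [Module.Finite R X'.carrier]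
    [Module.Finite R X.carrier] [Module.Finite R X''.carrier]
    (E' : GrLC.StarInjRes 𝒜 X'.gr) (E : GrLC.StarInjRes 𝒜 X.gr) (E'' : GrLC.StarInjRes 𝒜 X''.gr)
    (u : X'.carrier →ₗ[R] X.carrier) (v : X.carrier →ₗ[R] X''.carrier)
    (hu : GrLC.IsGrHom X'.gr X.gr u) (hv : GrLC.IsGrHom X.gr X''.gr v)
    (hinj : Function.Injective u) (hsurj : Function.Surjective v)
    (hex : ∀ m, v m = 0 → ∃ m', u m' = m) (hvu : ∀ m', v (u m') = 0)
    (d : ℕ) (hvan : Groth.Agent.Helper7.GrTopRE.TopVan 𝒜 a d) (n : ℤ) :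
    hilb 𝒜 X n - chi E a d n =
      (hilb 𝒜 X' n - chi E' a d n) + (hilb 𝒜 X'' n - chi E'' a d n) := by
  have h1 := chi_ses E' E E'' u v hu hv hinj hsurj hex hvu a d (hvan X' E') n
    (fun i => length_Hcomp_ne_top 𝒜 hpos a ha X' E' i n)
    (fun i => length_Hcomp_ne_top 𝒜 hpos a ha X E i n)
    (fun i => length_Hcomp_ne_top 𝒜 hpos a ha X'' E'' i n)
  have h3 : hilb 𝒜 X n = hilb 𝒜 X' n + hilb 𝒜 X'' n :=
    hilb_ses 𝒜 hpos X' X X'' u v hu hv hinj hsurj hex hvu n
  rw [h1, h3]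
  ring


include hpos ha in
/-- the pieces of a module whose Hilbert function vanishes in large degrees -/
theorem chi_of_hilb_eq_zero (X : GrLC.GMod.{u} 𝒜) [Module.Finite R X.carrier]
    (E : GrLC.StarInjRes 𝒜 X.gr) (d : ℕ) (N : ℤ) (hN : ∀ n : ℤ, N ≤ n → hilb 𝒜 X n = 0) (n : ℤ) :
    chi E a d n = hilb 𝒜 X n := by
  have hbot : ∀ n, N ≤ n → X.gr n = ⊥ := by
    intro n hn
    have h1 := hN n hn
    unfold hilb at h1
    have h2 : (Module.length (GrLC.deg0 𝒜) (GrLC.comp 𝒜 X.gr n)).toNat = 0 := by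
      exact_mod_cast h1
    have h3 : Module.length (GrLC.deg0 𝒜) (GrLC.comp 𝒜 X.gr n) = 0 := by
      rcases (ENat.toNat_eq_zero).mp h2 with h | h
      · exact h
      · exact absurd h (length_comp_ne_top 𝒜 hpos X.gr n)
    have h4 : Subsingleton ↥(GrLC.comp 𝒜 X.gr n) := Module.length_eq_zero_iff.mp h3
    rw [AddSubgroup.eq_bot_iff_forall]
    intro x hx
    have := h4.elim (⟨x, hx⟩ : ↥(GrLC.comp 𝒜 X.gr n)) 0
    exact congrArg Subtype.val this
  have htors := Groth.Agent.Helper6.GrLCIrr.torsion_of_bounded_above 𝒜 X.gr a ha N hbot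
  exact chi_of_torsion a E htors d n

include hpos ha in
/-- **Serre–Grothendieck formula** for the irrelevant ideal: the difference between the Hilbert
function and the Hilbert polynomial is the Euler characteristic of local cohomology. -/
theorem main_irrel (d : ℕ) (hvan : Groth.Agent.Helper7.GrTopRE.TopVan 𝒜 a d) :
    ∀ (k : ℕ) (X : GrLC.GMod.{u} 𝒜) [Module.Finite R X.carrier] (E : GrLC.StarInjRes 𝒜 X.gr)
      (P : Polynomial ℚ), P.degree < (k : WithBot ℕ) →
      (∃ N : ℤ, ∀ n : ℤ, N ≤ n → P.eval (n : ℚ) = hilb 𝒜 X n) →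
      ∀ n : ℤ, hilb 𝒜 X n - P.eval (n : ℚ) = chi E a d n := by
  intro k
  induction k with
  | zero =>
    intro X _ E P hdeg ⟨N, hN⟩ n
    have hP : P = 0 := by
      rw [← Polynomial.degree_eq_bot]
      exact Nat.WithBot.lt_zero_iff.mp (by exact_mod_cast hdeg)
    subst hP
    have hN' : ∀ n : ℤ, N ≤ n → hilb 𝒜 X n = 0 := by
      intro n hn
      rw [← hN n hn, Polynomial.eval_zero]
    rw [chi_of_hilb_eq_zero 𝒜 hpos a ha X E d N hN' n, Polynomial.eval_zero, sub_zero]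
  | succ k ih =>
    intro X _ E P hdeg ⟨N, hN⟩ n
    -- the torsion sequence
    set Γ : Submodule R X.carrier := GrLC.gam a.toIdeal X.carrier with hΓdef
    have hΓ : Γ.IsHomogeneous X.gr := Groth.Agent.Helper6.GrH.gam_isHomogeneous 𝒜 X.gr a
    let XΓ : GrLC.GMod.{u} 𝒜 := subGMod 𝒜 X.gr Γ hΓ
    let Xq : GrLC.GMod.{u} 𝒜 := quotGMod 𝒜 X.gr Γ hΓ
    have hfq : Module.Finite R Xq.carrier :=
      (inferInstance : Module.Finite R (X.carrier ⧸ Γ))
    have hfΓ : Module.Finite R XΓ.carrier :=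
      (inferInstance : Module.Finite R ↥Γ)
    obtain ⟨EΓ⟩ := Groth.Agent.Helper6.GrExist.nonempty_starInjRes 𝒜 XΓ.gr
    obtain ⟨Eq⟩ := Groth.Agent.Helper6.GrExist.nonempty_starInjRes 𝒜 Xq.gr
    let u : XΓ.carrier →ₗ[R] X.carrier := Γ.subtype
    let v : X.carrier →ₗ[R] Xq.carrier := Γ.mkQ
    have hu : GrLC.IsGrHom XΓ.gr X.gr u := fun j z hz => hz
    have hv : GrLC.IsGrHom X.gr Xq.gr v := fun j z hz => mkQ_mem_quotFam X.gr Γ hz
    have hs1 : ∀ n : ℤ, hilb 𝒜 X n - chi E a d n =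
        (hilb 𝒜 XΓ n - chi EΓ a d n) + (hilb 𝒜 Xq n - chi Eq a d n) := fun n =>
      hilb_sub_chi_ses 𝒜 hpos a ha XΓ X Xq EΓ E Eq u v hu hv
        Subtype.val_injective Γ.mkQ_surjective
        (fun m hm => ⟨⟨m, (Submodule.Quotient.mk_eq_zero Γ).mp hm⟩, rfl⟩)
        (fun m' => (Submodule.Quotient.mk_eq_zero Γ).mpr m'.2) d hvan n
    have htors : ∀ y : XΓ.carrier, y ∈ GrLC.gam a.toIdeal XΓ.carrier :=
      fun z => gam_sub_torsion a.toIdeal z
    have hΓ0 : ∀ n : ℤ, chi EΓ a d n = hilb 𝒜 XΓ n := fun n => chi_of_torsion a EΓ htors d n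
    have hs1' : ∀ n : ℤ, hilb 𝒜 X n - chi E a d n = hilb 𝒜 Xq n - chi Eq a d n := by
      intro n
      rw [hs1 n, hΓ0 n]
      ring
    -- the torsion part is bounded above
    have : Module.Finite (GrLC.deg0 𝒜) XΓ.carrier :=
      Groth.Agent.Helper7.GrFinD.finite_deg0_gam 𝒜 hpos a ha X
    obtain ⟨n₁, hn₁⟩ := Groth.Agent.Helper7.GrFinA.bounded_above_of_finite_deg0 𝒜 XΓ.gr
    have hΓz : ∀ n : ℤ, n₁ ≤ n → hilb 𝒜 XΓ n = 0 := by
      intro n hn
      unfold hilb
      have hss : Subsingleton ↥(GrLC.comp 𝒜 XΓ.gr n) := by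
        refine ⟨fun x y => Subtype.ext ?_⟩
        have hx : (x : XΓ.carrier) ∈ XΓ.gr n := x.2
        have hy : (y : XΓ.carrier) ∈ XΓ.gr n := y.2
        rw [hn₁ n hn, AddSubgroup.mem_bot] at hx hy
        rw [hx, hy]
      rw [Module.length_eq_zero_iff.mpr hss]
      simp
    have hXq : ∀ n : ℤ, hilb 𝒜 X n = hilb 𝒜 XΓ n + hilb 𝒜 Xq n := fun n =>
      hilb_ses 𝒜 hpos XΓ X Xq u v hu hv
        Subtype.val_injective Γ.mkQ_surjective
        (fun m hm => ⟨⟨m, (Submodule.Quotient.mk_eq_zero Γ).mp hm⟩, rfl⟩)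
        (fun m' => (Submodule.Quotient.mk_eq_zero Γ).mpr m'.2) n
    have hPq : ∀ n : ℤ, max N n₁ ≤ n → P.eval (n : ℚ) = hilb 𝒜 Xq n := by
      intro n hn
      rw [hN n (le_trans (le_max_left _ _) hn), hXq n, hΓz n (le_trans (le_max_right _ _) hn),
        zero_add]
    -- a homogeneous non-zero-divisor of positive degree
    obtain ⟨t, ht, x, hx, hreg⟩ := Groth.Agent.Helper7.GrFinB.exists_regular 𝒜 hpos a ha
      (X.carrier ⧸ Γ) (fun y hy => gam_quot_eq_zero a.toIdeal y hy)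
    let μ : Xq.carrier →ₗ[R] Xq.carrier := x • LinearMap.id
    have hPh : (LinearMap.range μ).IsHomogeneous Xq.gr := range_smul_isHomogeneous Xq hx
    let XN : GrLC.GMod.{u} 𝒜 := quotGMod 𝒜 Xq.gr (LinearMap.range μ) hPh
    have hfN : Module.Finite R XN.carrier :=
      (inferInstance : Module.Finite R (Xq.carrier ⧸ LinearMap.range μ))
    obtain ⟨EN⟩ := Groth.Agent.Helper6.GrExist.nonempty_starInjRes 𝒜 XN.gr
    let Xs : GrLC.GMod.{u} 𝒜 := shiftGMod 𝒜 Xq (-t)
    have hfs : Module.Finite R Xs.carrier := hfq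
    let Es : GrLC.StarInjRes 𝒜 Xs.gr := shiftRes Eq (-t)
    let π : Xq.carrier →ₗ[R] XN.carrier := (LinearMap.range μ).mkQ
    have hπ : GrLC.IsGrHom Xq.gr XN.gr π := fun j z hz => mkQ_mem_quotFam Xq.gr _ hz
    have hμ : GrLC.IsGrHom Xs.gr Xq.gr μ := by
      intro i m hm
      have h := SetLike.GradedSMul.smul_mem (A := 𝒜) (B := Xq.gr) hx (show m ∈ Xq.gr (i + -t) from hm)
      rw [vadd_eq_add, add_neg_cancel_comm_assoc] at h
      exact h
    have hs2 : ∀ n : ℤ, hilb 𝒜 Xq n - chi Eq a d n =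
        (hilb 𝒜 Xs n - chi Es a d n) + (hilb 𝒜 XN n - chi EN a d n) := fun n =>
      hilb_sub_chi_ses 𝒜 hpos a ha Xs Xq XN Es Eq EN μ π hμ hπ hreg
        (LinearMap.range μ).mkQ_surjective
        (fun m hm => (Submodule.Quotient.mk_eq_zero _).mp hm)
        (fun m' => (Submodule.Quotient.mk_eq_zero _).mpr ⟨m', rfl⟩) d hvan n
    have hshift1 : ∀ n : ℤ, hilb 𝒜 Xs n = hilb 𝒜 Xq (n + -t) := fun n => rfl
    have hshift2 : ∀ n : ℤ, chi Es a d n = chi Eq a d (n + -t) := fun n => rfl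
    -- the Hilbert polynomial of the quotient
    set P' : Polynomial ℚ := diffPoly P (t : ℚ) with hP'
    have hdeg' : P'.degree < (k : WithBot ℕ) := degree_diffPoly_lt P (t : ℚ) k hdeg
    have hcast : ∀ n : ℤ, ((n + -t : ℤ) : ℚ) = (n : ℚ) - (t : ℚ) := by
      intro n
      push_cast
      ring
    -- the module pieces
    have hmod : ∀ n : ℤ, hilb 𝒜 Xq n = hilb 𝒜 Xq (n + -t) + hilb 𝒜 XN n := by
      intro n
      rw [← hshift1 n]
      exact hilb_ses 𝒜 hpos Xs Xq XN μ π hμ hπ hreg (LinearMap.range μ).mkQ_surjective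
        (fun m hm => (Submodule.Quotient.mk_eq_zero _).mp hm)
        (fun m' => (Submodule.Quotient.mk_eq_zero _).mpr ⟨m', rfl⟩) n
    have hP'N : ∀ n : ℤ, max N n₁ + t ≤ n → P'.eval (n : ℚ) = hilb 𝒜 XN n := by
      intro n hn
      rw [hP', eval_diffPoly, ← hcast n, hPq n (by linarith), hPq (n + -t) (by linarith), hmod n]
      ring
    have hIH := ih XN EN P' hdeg' ⟨max N n₁ + t, hP'N⟩
    -- the periodic function
    obtain ⟨r, hr⟩ := exists_chi_eq_zero 𝒜 hpos a ha Xq Eq d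
    have hf := eq_zero_of_periodic (fun n : ℤ => hilb 𝒜 Xq n - P.eval (n : ℚ) - chi Eq a d n) t ht
      (by
        intro n
        show hilb 𝒜 Xq n - P.eval (n : ℚ) - chi Eq a d n =
          hilb 𝒜 Xq (n + -t) - P.eval ((n + -t : ℤ) : ℚ) - chi Eq a d (n + -t)
        have e1 := hs2 n
        rw [hshift1, hshift2] at e1
        have e2 := hIH n
        rw [hP', eval_diffPoly, ← hcast n] at e2
        linarith)
      (max (max N n₁) r)
      (by
        intro n hn
        show hilb 𝒜 Xq n - P.eval (n : ℚ) - chi Eq a d n = 0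
        rw [hPq n (le_trans (le_max_left _ _) hn), hr n (le_trans (le_max_right _ _) hn)]
        ring)
    have hfn : hilb 𝒜 Xq n - P.eval (n : ℚ) - chi Eq a d n = 0 := hf n
    have := hs1' n
    linarith

end Groth.Agent.Helper7.GrEC
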