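import Mathlib
import Groth.Agent.Helper7.GrEC4

/-!
# Polynomial lemmas for Hilbert polynomials: backward differences
-/

set_option autoImplicit false
set_option linter.unusedSectionVars false

namespace Groth.Agent.Helper7.GrEC

open Polynomial

theorem diffPoly_add (P Q : ℚ[X]) (t : ℚ) : diffPoly (P + Q) t = diffPoly P t + diffPoly Q t := by
  simp only [diffPoly, add_comp]
  ring

theorem diffPoly_smul (c : ℚ) (P : ℚ[X]) (t : ℚ) : diffPoly (c • P) t = c • diffPoly P t := by
  simp only [diffPoly, smul_comp, smul_sub]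

theorem diffPoly_C (c t : ℚ) : diffPoly (C c) t = 0 := by
  simp [diffPoly]

/-- the coefficient of the backward difference just below the degree -/
theorem coeff_diffPoly_pred (P : ℚ[X]) (t : ℚ) (h : 1 ≤ P.natDegree) :
    (diffPoly P t).coeff (P.natDegree - 1) = P.natDegree * P.leadingCoeff * t := by
  set k := P.natDegree with hk
  have hcomp : P.comp (X - C t) = taylor (-t) P := by
    rw [taylor_apply, map_neg, sub_eq_add_neg]
  have hnd : (hasseDeriv (k - 1) P).natDegree ≤ 1 := by
    have := natDegree_hasseDeriv_le P (k - 1)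
    omega
  have hform := eq_X_add_C_of_natDegree_le_one hnd
  have hc0 : (hasseDeriv (k - 1) P).coeff 0 = P.coeff (k - 1) := by
    rw [hasseDeriv_coeff, zero_add, Nat.choose_self, Nat.cast_one, one_mul]
  have hc1 : (hasseDeriv (k - 1) P).coeff 1 = (k : ℚ) * P.coeff k := by
    rw [hasseDeriv_coeff]
    have e : 1 + (k - 1) = k := by omega
    rw [e]
    have e2 : k.choose (k - 1) = k := by
      have := Nat.choose_symm (n := k) (k := 1) (by omega)
      rw [Nat.choose_one_right] at this
      exact this
    rw [e2]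
  have heval : (hasseDeriv (k - 1) P).eval (-t) = (k : ℚ) * P.coeff k * (-t) + P.coeff (k - 1) := by
    rw [hform, eval_add, eval_mul, eval_C, eval_C, eval_X, hc0, hc1]
  simp only [diffPoly]
  rw [coeff_sub, hcomp, taylor_coeff, heval]
  simp only [leadingCoeff, ← hk]
  ring

/-- the backward difference with a nonzero step lowers the degree by exactly one -/
theorem degree_lt_succ_of_diffPoly (P : ℚ[X]) (t : ℚ) (ht : t ≠ 0) (e : ℕ)
    (h : (diffPoly P t).degree < (e : WithBot ℕ)) : P.degree < ((e + 1 : ℕ) : WithBot ℕ) := by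
  by_cases hP : P = 0
  · subst hP
    rw [degree_zero]
    exact WithBot.bot_lt_coe _
  rw [degree_eq_natDegree hP]
  by_cases h1 : 1 ≤ P.natDegree
  · have hc := coeff_diffPoly_pred P t h1
    have hne : (diffPoly P t).coeff (P.natDegree - 1) ≠ 0 := by
      rw [hc]
      have h2 : (P.natDegree : ℚ) ≠ 0 := by exact_mod_cast (by omega : P.natDegree ≠ 0)
      exact mul_ne_zero (mul_ne_zero h2 (leadingCoeff_ne_zero.mpr hP)) ht
    have h3 : ((P.natDegree - 1 : ℕ) : WithBot ℕ) ≤ (diffPoly P t).degree :=
      le_degree_of_ne_zero hne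
    have h4 : ((P.natDegree - 1 : ℕ) : WithBot ℕ) < (e : WithBot ℕ) := lt_of_le_of_lt h3 h
    have h5 : P.natDegree - 1 < e := by exact_mod_cast h4
    exact_mod_cast (by omega : P.natDegree < e + 1)
  · have : P.natDegree = 0 := by omega
    rw [this]
    exact_mod_cast Nat.succ_pos e

/-- every polynomial is a backward difference with step one -/
theorem exists_antidiff : ∀ (k : ℕ) (G : ℚ[X]), G.degree < (k : WithBot ℕ) →
    ∃ Q : ℚ[X], diffPoly Q 1 = G := by
  intro k
  induction k with
  | zero =>
    intro G hG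
    have : G = 0 := by
      rw [← degree_eq_bot]
      exact Nat.WithBot.lt_zero_iff.mp (by exact_mod_cast hG)
    exact ⟨0, by rw [this]; simp [diffPoly]⟩
  | succ k ih =>
    intro G hG
    set M : ℚ[X] := X ^ (k + 1) with hM
    have hMnd : M.natDegree = k + 1 := natDegree_X_pow (k + 1)
    have hMlc : M.leadingCoeff = 1 := by rw [hM]; exact leadingCoeff_X_pow (k + 1)
    have hD := coeff_diffPoly_pred M 1 (by rw [hMnd]; omega)
    rw [hMnd, hMlc] at hD
    have hD' : (diffPoly M 1).coeff k = (k + 1 : ℚ) := by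
      have : k + 1 - 1 = k := by omega
      rw [this] at hD
      rw [hD]
      push_cast
      ring
    have hDdeg : (diffPoly M 1).degree < ((k + 1 : ℕ) : WithBot ℕ) := by
      apply degree_diffPoly_lt
      rw [degree_eq_natDegree (by rw [hM]; exact pow_ne_zero _ X_ne_zero), hMnd]
      exact_mod_cast Nat.lt_succ_self (k + 1)
    set c : ℚ := G.coeff k / (k + 1) with hc
    have hk1 : (k + 1 : ℚ) ≠ 0 := by positivity
    set G' : ℚ[X] := G - c • diffPoly M 1 with hG'
    have hG'deg : G'.degree < (k : WithBot ℕ) := by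
      have h1 : G'.degree < ((k + 1 : ℕ) : WithBot ℕ) := by
        refine lt_of_le_of_lt (degree_sub_le _ _) (max_lt hG ?_)
        exact lt_of_le_of_lt (degree_smul_le _ _) hDdeg
      have h2 : G'.coeff k = 0 := by
        rw [hG', coeff_sub, coeff_smul, hD', smul_eq_mul, hc]
        field_simp
        ring
      rw [degree_lt_iff_coeff_zero] at h1 ⊢
      intro j hj
      rcases Nat.eq_or_lt_of_le hj with h | h
      · rw [← h]; exact h2
      · exact h1 j (by omega)
    obtain ⟨Q', hQ'⟩ := ih G' hG'deg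
    refine ⟨Q' + c • M, ?_⟩
    rw [diffPoly_add, diffPoly_smul, hQ', hG']
    ring

/-- a function on `ℤ` whose backward difference is eventually a polynomial is eventually a
polynomial -/
theorem exists_poly_of_diff (f : ℤ → ℚ) (G : ℚ[X]) (N : ℤ)
    (h : ∀ n : ℤ, N ≤ n → f n - f (n + -1) = G.eval (n : ℚ)) :
    ∃ P : ℚ[X], ∀ n : ℤ, N ≤ n → P.eval (n : ℚ) = f n := by
  obtain ⟨Q, hQ⟩ := exists_antidiff (G.natDegree + 1) G
    (lt_of_le_of_lt degree_le_natDegree (by exact_mod_cast Nat.lt_succ_self _))
  have hQe : ∀ n : ℤ, Q.eval (n : ℚ) - Q.eval ((n + -1 : ℤ) : ℚ) = G.eval (n : ℚ) := by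
    intro n
    rw [← hQ, eval_diffPoly]
    push_cast
    ring_nf
  set g : ℤ → ℚ := fun n => f n - Q.eval (n : ℚ) with hg
  have hstep : ∀ n : ℤ, N ≤ n → g n = g (n + -1) := by
    intro n hn
    simp only [hg]
    have := h n hn
    have := hQe n
    linarith
  have hconst : ∀ j : ℕ, g (N + j) = g N := by
    intro j
    induction j with
    | zero => simp
    | succ j ih =>
      have := hstep (N + (j + 1 : ℕ)) (by push_cast; omega)
      rw [this, ← ih]
      congr 1
      push_cast
      ring
  refine ⟨Q + C (g N), fun n hn => ?_⟩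
  obtain ⟨j, rfl⟩ : ∃ j : ℕ, n = N + j := ⟨(n - N).toNat, by
    rw [Int.toNat_of_nonneg (by omega)]; ring⟩
  rw [eval_add, eval_C, ← hconst j]
  simp only [hg]
  ring

end Groth.Agent.Helper7.GrEC
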