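import Mathlib
import Groth.Prelude.Def_GrLC
import Groth.Agent.Helper7.GrHP0
import Groth.Agent.Helper7.GrWkReg1

/-!
# Existence of the Hilbert polynomial of a finitely generated graded module over a standard graded
ring with Artinian degree-zero part (Hilbert–Serre)
-/

set_option autoImplicit false
set_option linter.unusedSectionVars false

namespace Groth.Agent.Helper7.GrEC

open DirectSum Groth.Agent.Helper6.GrMod Groth.Agent.Helper6.GrCon Groth.Agent.Helper6.GrShift
  Groth.Agent.Helper7.GrDel Groth.Agent.Helper7.GrFinC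

universe u

variable {R : Type u} [CommRing R] [IsNoetherianRing R] (𝒜 : ℤ → AddSubgroup R) [GradedRing 𝒜]
  (hpos : ∀ n : ℤ, n < 0 → 𝒜 n = ⊥) (a : HomogeneousIdeal 𝒜)
  (ha : a.toIdeal = Ideal.span (⋃ n ∈ Set.Ioi (0 : ℤ), (𝒜 n : Set R)))
  [IsArtinianRing (GrLC.deg0 𝒜)]

/-- the Hilbert function vanishes where the piece vanishes -/
theorem hilb_eq_zero_of_eq_bot (X : GrLC.GMod.{u} 𝒜) (n : ℤ) (h : X.gr n = ⊥) :
    hilb 𝒜 X n = 0 := by
  unfold hilb
  have hss : Subsingleton ↥(GrLC.comp 𝒜 X.gr n) := by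
    refine ⟨fun x y => Subtype.ext ?_⟩
    have hx : (x : X.carrier) ∈ X.gr n := x.2
    have hy : (y : X.carrier) ∈ X.gr n := y.2
    rw [h, AddSubgroup.mem_bot] at hx hy
    rw [hx, hy]
  rw [Module.length_eq_zero_iff.mpr hss]
  simp

include hpos ha in
/-- the difference equation for multiplication by a homogeneous element of degree `t` -/
theorem hilb_diff (X : GrLC.GMod.{u} 𝒜) [Module.Finite R X.carrier] {t : ℤ} {x : R}
    (hx : x ∈ 𝒜 t) :
    ∃ (K C : GrLC.GMod.{u} 𝒜), Module.Finite R K.carrier ∧ Module.Finite R C.carrier ∧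
      (∀ (r : R), (∀ y : X.carrier, r • y = 0) → ∀ y : K.carrier, r • y = 0) ∧
      (∀ (r : R), (∀ y : X.carrier, r • y = 0) → ∀ y : C.carrier, r • y = 0) ∧
      (∀ y : K.carrier, x • y = 0) ∧ (∀ y : C.carrier, x • y = 0) ∧
      (∀ n : ℤ, hilb 𝒜 X n - hilb 𝒜 X (n + -t) = hilb 𝒜 C n - hilb 𝒜 K (n + -t)) := by
  let μ : X.carrier →ₗ[R] X.carrier := x • LinearMap.id
  have hK : (LinearMap.ker μ).IsHomogeneous X.gr :=
    Groth.Agent.Helper7.GrWkReg.ker_smul_isHomogeneous 𝒜 X hx
  have hI : (LinearMap.range μ).IsHomogeneous X.gr := range_smul_isHomogeneous X hx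
  let K : GrLC.GMod.{u} 𝒜 := subGMod 𝒜 X.gr (LinearMap.ker μ) hK
  let I : GrLC.GMod.{u} 𝒜 := subGMod 𝒜 X.gr (LinearMap.range μ) hI
  let C : GrLC.GMod.{u} 𝒜 := quotGMod 𝒜 X.gr (LinearMap.range μ) hI
  have hfK : Module.Finite R K.carrier := (inferInstance : Module.Finite R ↥(LinearMap.ker μ))
  have hfI : Module.Finite R I.carrier := (inferInstance : Module.Finite R ↥(LinearMap.range μ))
  have hfC : Module.Finite R C.carrier :=
    (inferInstance : Module.Finite R (X.carrier ⧸ LinearMap.range μ))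
  have k1 : ∀ (r : R), (∀ y : X.carrier, r • y = 0) → ∀ y : ↥(LinearMap.ker μ), r • y = 0 :=
    fun r hr y => Subtype.ext (hr y.1)
  have c1 : ∀ (r : R), (∀ y : X.carrier, r • y = 0) →
      ∀ y : X.carrier ⧸ LinearMap.range μ, r • y = 0 := by
    intro r hr y
    obtain ⟨z, rfl⟩ := (LinearMap.range μ).mkQ_surjective y
    rw [← map_smul, hr z, map_zero]
  have k2 : ∀ y : ↥(LinearMap.ker μ), x • y = 0 := fun y => Subtype.ext y.2
  have c2 : ∀ y : X.carrier ⧸ LinearMap.range μ, x • y = 0 := by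
    intro y
    obtain ⟨z, rfl⟩ := (LinearMap.range μ).mkQ_surjective y
    rw [← map_smul]
    exact (Submodule.Quotient.mk_eq_zero _).mpr ⟨z, rfl⟩
  refine ⟨K, C, hfK, hfC, k1, c1, k2, c2, ?_⟩
  · intro n
    -- first sequence: `0 → K(-t) → X(-t) → I → 0`
    let Ks : GrLC.GMod.{u} 𝒜 := shiftGMod 𝒜 K (-t)
    let Xs : GrLC.GMod.{u} 𝒜 := shiftGMod 𝒜 X (-t)
    have hfKs : Module.Finite R Ks.carrier := hfK
    have hfXs : Module.Finite R Xs.carrier := (inferInstance : Module.Finite R X.carrier)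
    let uA : Ks.carrier →ₗ[R] Xs.carrier := (LinearMap.ker μ).subtype
    let vA : Xs.carrier →ₗ[R] I.carrier := μ.rangeRestrict
    have huA : GrLC.IsGrHom Ks.gr Xs.gr uA := fun j z hz => hz
    have hvA : GrLC.IsGrHom Xs.gr I.gr vA := by
      intro j y hy
      exact smul_mem_gr X hx j y hy
    have hA := hilb_ses 𝒜 hpos Ks Xs I uA vA huA hvA Subtype.val_injective
      μ.surjective_rangeRestrict
      (fun y hy => ⟨⟨y, congrArg Subtype.val hy⟩, rfl⟩)
      (fun z => Subtype.ext z.2) n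
    -- second sequence: `0 → I → X → C → 0`
    let uB : I.carrier →ₗ[R] X.carrier := (LinearMap.range μ).subtype
    let vB : X.carrier →ₗ[R] C.carrier := (LinearMap.range μ).mkQ
    have huB : GrLC.IsGrHom I.gr X.gr uB := fun j z hz => hz
    have hvB : GrLC.IsGrHom X.gr C.gr vB := fun j z hz => mkQ_mem_quotFam X.gr _ hz
    have hB := hilb_ses 𝒜 hpos I X C uB vB huB hvB Subtype.val_injective
      (LinearMap.range μ).mkQ_surjective
      (fun y hy => ⟨⟨y, (Submodule.Quotient.mk_eq_zero _).mp hy⟩, rfl⟩)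
      (fun z => (Submodule.Quotient.mk_eq_zero _).mpr z.2) n
    have e1 : hilb 𝒜 Xs n = hilb 𝒜 X (n + -t) := rfl
    have e2 : hilb 𝒜 Ks n = hilb 𝒜 K (n + -t) := rfl
    rw [e1, e2] at hA
    linarith

include hpos ha in
/-- **Hilbert–Serre**: induction on the number of generators of `R₊` acting non-trivially -/
theorem exists_hilbPoly_aux {s : ℕ} (x : Fin s → R) (hx1 : ∀ j, x j ∈ 𝒜 1)
    (hspan : a.toIdeal = Ideal.span (Set.range x)) :
    ∀ (k : ℕ), k ≤ s → ∀ (X : GrLC.GMod.{u} 𝒜) [Module.Finite R X.carrier],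
      (∀ j : Fin s, k ≤ j.val → ∀ y : X.carrier, x j • y = 0) →
      ∃ (P : Polynomial ℚ) (N : ℤ), ∀ n : ℤ, N ≤ n → P.eval (n : ℚ) = hilb 𝒜 X n := by
  intro k
  induction k with
  | zero =>
    intro _ X _ hkill
    have hall : ∀ r ∈ a.toIdeal, ∀ y : X.carrier, r • y = 0 := by
      intro r hr y
      rw [hspan] at hr
      induction hr using Submodule.span_induction with
      | mem g hg =>
        obtain ⟨j, rfl⟩ := hg
        exact hkill j (Nat.zero_le _) y
      | zero => exact zero_smul _ _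
      | add p q _ _ hp hq => rw [add_smul, hp, hq, add_zero]
      | smul c p _ hp => rw [smul_eq_mul, mul_smul, hp, smul_zero]
    have : Module.Finite (GrLC.deg0 𝒜) X.carrier :=
      Groth.Agent.Helper7.GrFinA.finite_deg0_of_smul_eq_zero 𝒜 hpos a ha X.carrier hall
    obtain ⟨n₀, hn₀⟩ := Groth.Agent.Helper7.GrFinA.bounded_above_of_finite_deg0 𝒜 X.gr
    refine ⟨0, n₀, fun n hn => ?_⟩
    rw [Polynomial.eval_zero, hilb_eq_zero_of_eq_bot 𝒜 X n (hn₀ n hn)]
  | succ k ih =>
    intro hk X _ hkill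
    let j₀ : Fin s := ⟨k, by omega⟩
    obtain ⟨K, C, hfK, hfC, hK1, hC1, hK2, hC2, hdiff⟩ := hilb_diff 𝒜 hpos a ha X (hx1 j₀)
    have hkillK : ∀ j : Fin s, k ≤ j.val → ∀ y : K.carrier, x j • y = 0 := by
      intro j hj
      rcases Nat.eq_or_lt_of_le hj with h | h
      · have : j = j₀ := Fin.ext h.symm
        rw [this]
        exact hK2
      · exact hK1 (x j) (hkill j h)
    have hkillC : ∀ j : Fin s, k ≤ j.val → ∀ y : C.carrier, x j • y = 0 := by
      intro j hj
      rcases Nat.eq_or_lt_of_le hj with h | h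
      · have : j = j₀ := Fin.ext h.symm
        rw [this]
        exact hC2
      · exact hC1 (x j) (hkill j h)
    obtain ⟨PK, NK, hPK⟩ := ih (by omega) K hkillK
    obtain ⟨PC, NC, hPC⟩ := ih (by omega) C hkillC
    set G : Polynomial ℚ := PC - PK.comp (Polynomial.X - Polynomial.C 1) with hG
    obtain ⟨P, hP⟩ := exists_poly_of_diff (fun n => hilb 𝒜 X n) G (max NC (NK + 1)) (by
      intro n hn
      show hilb 𝒜 X n - hilb 𝒜 X (n + -1) = G.eval (n : ℚ)
      rw [hdiff n, hG, Polynomial.eval_sub, Polynomial.eval_comp, Polynomial.eval_sub,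
        Polynomial.eval_X, Polynomial.eval_C, hPC n (le_trans (le_max_left _ _) hn),
        ← hPK (n + -1) (by have := le_trans (le_max_right _ _) hn; omega)]
      push_cast
      ring_nf)
    exact ⟨P, max NC (NK + 1), hP⟩

include hpos ha in
/-- **Hilbert–Serre** for a standard graded ring with Artinian degree-zero part -/
theorem exists_hilbPoly (hstd : a.toIdeal = Ideal.span ((𝒜 1 : AddSubgroup R) : Set R))
    (X : GrLC.GMod.{u} 𝒜) [Module.Finite R X.carrier] :
    ∃ (P : Polynomial ℚ) (N : ℤ), ∀ n : ℤ, N ≤ n → P.eval (n : ℚ) = hilb 𝒜 X n := by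
  classical
  have hfg : (Ideal.span ((𝒜 1 : AddSubgroup R) : Set R)).FG :=
    (isNoetherianRing_iff_ideal_fg R).mp inferInstance _
  obtain ⟨S, hS, hspanS⟩ := (Submodule.fg_span_iff_fg_span_finset_subset _).mp hfg
  let x : Fin S.card → R := fun j => (S.equivFin.symm j : R)
  have hx1 : ∀ j, x j ∈ 𝒜 1 := fun j => hS (S.equivFin.symm j).2
  have hrange : Set.range x = (S : Set R) := by
    ext r
    constructor
    · rintro ⟨j, rfl⟩
      exact (S.equivFin.symm j).2
    · intro hr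
      exact ⟨S.equivFin ⟨r, hr⟩, by simp [x]⟩
  have hspan : a.toIdeal = Ideal.span (Set.range x) := by
    rw [hstd, hrange]
    exact hspanS
  exact exists_hilbPoly_aux 𝒜 hpos a ha x hx1 hspan S.card le_rfl X
    (fun j hj => absurd j.2 (not_lt.mpr hj))

end Groth.Agent.Helper7.GrEC
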