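import Mathlib
import Groth.Prelude.Def_GrLC
import Groth.Agent.Helper7.GrHP1
import Groth.Agent.Helper7.GrAInv2

/-!
# The degree of the Hilbert polynomial is smaller than the dimension of the support
-/

set_option autoImplicit false
set_option linter.unusedSectionVars false

namespace Groth.Agent.Helper7.GrEC

open DirectSum Groth.Agent.Helper6.GrMod Groth.Agent.Helper6.GrCon Groth.Agent.Helper6.GrShift
  Groth.Agent.Helper7.GrDel Groth.Agent.Helper7.GrFinC

open Pointwise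

universe u

variable {R : Type u} [CommRing R] [IsNoetherianRing R] (𝒜 : ℤ → AddSubgroup R) [GradedRing 𝒜]
  (hpos : ∀ n : ℤ, n < 0 → 𝒜 n = ⊥) (a : HomogeneousIdeal 𝒜)
  (ha : a.toIdeal = Ideal.span (⋃ n ∈ Set.Ioi (0 : ℤ), (𝒜 n : Set R)))
  [IsArtinianRing (GrLC.deg0 𝒜)]

/-- the dimension of the support drops on dividing by a non-zero-divisor -/
theorem supportDim_quot_range_succ_le (M : Type u) [AddCommGroup M] [Module R M] [Module.Finite R M]
    (x : R) (hreg : IsSMulRegular M x) :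
    Module.supportDim R (M ⧸ LinearMap.range (x • LinearMap.id : M →ₗ[R] M)) + 1 ≤
      Module.supportDim R M := by
  have h1 := Module.supportDim_quotSMulTop_succ_le_of_notMem_minimalPrimes (R := R) (M := M) (x := x)
    (fun _ => hreg.notMem_of_mem_minimalPrimes)
  have e : (x • (⊤ : Submodule R M)) = LinearMap.range (x • LinearMap.id : M →ₗ[R] M) :=
    Groth.Agent.Helper7.GrAInv.smul_top_eq_range M x
  have h2 : Module.supportDim R (QuotSMulTop x M) =
      Module.supportDim R (M ⧸ LinearMap.range (x • LinearMap.id : M →ₗ[R] M)) :=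
    Module.supportDim_eq_of_equiv (Submodule.quotEquivOfEq _ _ e)
  rw [← h2]
  exact h1

include hpos ha in
/-- the reduction step: kill the torsion, then divide by a homogeneous non-zero-divisor of positive
degree -/
theorem exists_skeleton (X : GrLC.GMod.{u} 𝒜) [Module.Finite R X.carrier] (P : Polynomial ℚ)
    (hP : ∃ N : ℤ, ∀ n : ℤ, N ≤ n → P.eval (n : ℚ) = hilb 𝒜 X n) :
    ∃ (Xq XN : GrLC.GMod.{u} 𝒜) (t : ℤ), 0 < t ∧ Module.Finite R Xq.carrier ∧
      Module.Finite R XN.carrier ∧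
      (∃ N : ℤ, ∀ n : ℤ, N ≤ n → P.eval (n : ℚ) = hilb 𝒜 Xq n) ∧
      (∃ N : ℤ, ∀ n : ℤ, N ≤ n → (diffPoly P (t : ℚ)).eval (n : ℚ) = hilb 𝒜 XN n) ∧
      (∀ n : ℤ, hilb 𝒜 Xq n = hilb 𝒜 Xq (n + -t) + hilb 𝒜 XN n) ∧
      Module.supportDim R XN.carrier + 1 ≤ Module.supportDim R X.carrier := by
  obtain ⟨N, hN⟩ := hP
  set Γ : Submodule R X.carrier := GrLC.gam a.toIdeal X.carrier with hΓdef
  have hΓ : Γ.IsHomogeneous X.gr := Groth.Agent.Helper6.GrH.gam_isHomogeneous 𝒜 X.gr a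
  let XΓ : GrLC.GMod.{u} 𝒜 := subGMod 𝒜 X.gr Γ hΓ
  let Xq : GrLC.GMod.{u} 𝒜 := quotGMod 𝒜 X.gr Γ hΓ
  have hfq : Module.Finite R Xq.carrier :=
    (inferInstance : Module.Finite R (X.carrier ⧸ Γ))
  have hfΓ : Module.Finite R XΓ.carrier :=
    (inferInstance : Module.Finite R ↥Γ)
  let u : XΓ.carrier →ₗ[R] X.carrier := Γ.subtype
  let v : X.carrier →ₗ[R] Xq.carrier := Γ.mkQ
  have hu : GrLC.IsGrHom XΓ.gr X.gr u := fun j z hz => hz
  have hv : GrLC.IsGrHom X.gr Xq.gr v := fun j z hz => mkQ_mem_quotFam X.gr Γ hz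
  have hXq : ∀ n : ℤ, hilb 𝒜 X n = hilb 𝒜 XΓ n + hilb 𝒜 Xq n := fun n =>
    hilb_ses 𝒜 hpos XΓ X Xq u v hu hv
      Subtype.val_injective Γ.mkQ_surjective
      (fun m hm => ⟨⟨m, (Submodule.Quotient.mk_eq_zero Γ).mp hm⟩, rfl⟩)
      (fun m' => (Submodule.Quotient.mk_eq_zero Γ).mpr m'.2) n
  have : Module.Finite (GrLC.deg0 𝒜) XΓ.carrier :=
    Groth.Agent.Helper7.GrFinD.finite_deg0_gam 𝒜 hpos a ha X
  obtain ⟨n₁, hn₁⟩ := Groth.Agent.Helper7.GrFinA.bounded_above_of_finite_deg0 𝒜 XΓ.gr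
  have hPq : ∀ n : ℤ, max N n₁ ≤ n → P.eval (n : ℚ) = hilb 𝒜 Xq n := by
    intro n hn
    rw [hN n (le_trans (le_max_left _ _) hn), hXq n,
      hilb_eq_zero_of_eq_bot 𝒜 XΓ n (hn₁ n (le_trans (le_max_right _ _) hn)), zero_add]
  obtain ⟨t, ht, x, hx, hreg⟩ := Groth.Agent.Helper7.GrFinB.exists_regular 𝒜 hpos a ha
    (X.carrier ⧸ Γ) (fun y hy => gam_quot_eq_zero a.toIdeal y hy)
  let μ : Xq.carrier →ₗ[R] Xq.carrier := x • LinearMap.id
  have hPh : (LinearMap.range μ).IsHomogeneous Xq.gr := range_smul_isHomogeneous Xq hx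
  let XN : GrLC.GMod.{u} 𝒜 := quotGMod 𝒜 Xq.gr (LinearMap.range μ) hPh
  have hfN : Module.Finite R XN.carrier :=
    (inferInstance : Module.Finite R (Xq.carrier ⧸ LinearMap.range μ))
  let Xs : GrLC.GMod.{u} 𝒜 := shiftGMod 𝒜 Xq (-t)
  have hfs : Module.Finite R Xs.carrier := hfq
  let π : Xq.carrier →ₗ[R] XN.carrier := (LinearMap.range μ).mkQ
  have hπ : GrLC.IsGrHom Xq.gr XN.gr π := fun j z hz => mkQ_mem_quotFam Xq.gr _ hz
  have hμ : GrLC.IsGrHom Xs.gr Xq.gr μ := fun i m hm => smul_mem_gr Xq hx i m hm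
  have hmod : ∀ n : ℤ, hilb 𝒜 Xq n = hilb 𝒜 Xq (n + -t) + hilb 𝒜 XN n := by
    intro n
    have e1 : hilb 𝒜 Xs n = hilb 𝒜 Xq (n + -t) := rfl
    rw [← e1]
    exact hilb_ses 𝒜 hpos Xs Xq XN μ π hμ hπ hreg (LinearMap.range μ).mkQ_surjective
      (fun m hm => (Submodule.Quotient.mk_eq_zero _).mp hm)
      (fun m' => (Submodule.Quotient.mk_eq_zero _).mpr ⟨m', rfl⟩) n
  have hcast : ∀ n : ℤ, ((n + -t : ℤ) : ℚ) = (n : ℚ) - (t : ℚ) := by
    intro n
    push_cast
    ring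
  refine ⟨Xq, XN, t, ht, hfq, hfN, ⟨max N n₁, hPq⟩, ⟨max N n₁ + t, ?_⟩, hmod, ?_⟩
  · intro n hn
    rw [eval_diffPoly, ← hcast n, hPq n (by linarith), hPq (n + -t) (by linarith), hmod n]
    ring
  · have h1 : Module.supportDim R (X.carrier ⧸ Γ) ≤ Module.supportDim R X.carrier :=
      Module.supportDim_le_of_surjective Γ.mkQ Γ.mkQ_surjective
    have h2 := supportDim_quot_range_succ_le (X.carrier ⧸ Γ) x hreg
    exact h2.trans h1

include hpos ha in
/-- the Hilbert polynomial of a module of dimension `≤ e` has degree `< e` -/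
theorem degree_lt_of_supportDim_le : ∀ (e : ℕ) (X : GrLC.GMod.{u} 𝒜) [Module.Finite R X.carrier]
    (P : Polynomial ℚ), (∃ N : ℤ, ∀ n : ℤ, N ≤ n → P.eval (n : ℚ) = hilb 𝒜 X n) →
    Module.supportDim R X.carrier ≤ (e : WithBot ℕ∞) → P.degree < (e : WithBot ℕ) := by
  intro e
  induction e with
  | zero =>
    intro X _ P hP hdim
    obtain ⟨Xq, XN, t, ht, hfq, hfN, ⟨N₁, hPq⟩, -, hmod, hdrop⟩ :=
      exists_skeleton 𝒜 hpos a ha X P hP
    -- `XN` is zero
    have hbot : Module.supportDim R XN.carrier = ⊥ := by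
      by_contra hne
      obtain ⟨c, hc⟩ := WithBot.ne_bot_iff_exists.mp hne
      have h1 : Module.supportDim R XN.carrier + 1 ≤ ((0 : ℕ) : WithBot ℕ∞) := hdrop.trans hdim
      rw [← hc] at h1
      simp at h1
    have hss : Subsingleton XN.carrier := (Module.supportDim_eq_bot_iff_subsingleton R XN.carrier).mp hbot
    have hN0 : ∀ n : ℤ, hilb 𝒜 XN n = 0 := by
      intro n
      apply hilb_eq_zero_of_eq_bot
      rw [AddSubgroup.eq_bot_iff_forall]
      intro y _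
      exact Subsingleton.elim y 0
    -- hence the Hilbert function of `Xq` is periodic; it vanishes in low degrees
    obtain ⟨d₀, hd₀⟩ := Groth.Agent.Helper6.GrLCIrr.exists_bounded_below 𝒜 Xq.gr hpos
    have hper : ∀ (j : ℕ) (n : ℤ), hilb 𝒜 Xq n = hilb 𝒜 Xq (n - j * t) := by
      intro j
      induction j with
      | zero => intro n; simp
      | succ j ih =>
        intro n
        rw [ih n, hmod (n - j * t), hN0, add_zero]
        congr 1
        push_cast
        ring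
    have hzero : ∀ n : ℤ, hilb 𝒜 Xq n = 0 := by
      intro n
      rw [hper (n - d₀ + 1).toNat n]
      apply hilb_eq_zero_of_eq_bot
      apply hd₀
      have h1 : n - d₀ + 1 ≤ ((n - d₀ + 1).toNat : ℤ) := Int.self_le_toNat _
      have h2 : ((n - d₀ + 1).toNat : ℤ) ≤ ((n - d₀ + 1).toNat : ℤ) * t := by
        have : (0 : ℤ) ≤ ((n - d₀ + 1).toNat : ℤ) := Int.natCast_nonneg _
        nlinarith
      linarith
    have hPz : P = 0 := by
      apply Polynomial.eq_of_infinite_eval_eq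
      have hinf : (Set.range fun i : ℕ => ((N₁ + i : ℤ) : ℚ)).Infinite := by
        apply Set.infinite_range_of_injective
        intro i j hij
        have : ((N₁ + i : ℤ) : ℚ) = ((N₁ + j : ℤ) : ℚ) := hij
        have h' : (N₁ + i : ℤ) = N₁ + j := by exact_mod_cast this
        omega
      refine hinf.mono ?_
      rintro _ ⟨i, rfl⟩
      show P.eval ((N₁ + i : ℤ) : ℚ) = (0 : Polynomial ℚ).eval ((N₁ + i : ℤ) : ℚ)
      rw [hPq (N₁ + i) (by omega), hzero, Polynomial.eval_zero]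
    rw [hPz, Polynomial.degree_zero]
    exact WithBot.bot_lt_coe _
  | succ e ih =>
    intro X _ P hP hdim
    obtain ⟨Xq, XN, t, ht, hfq, hfN, -, hP', -, hdrop⟩ :=
      exists_skeleton 𝒜 hpos a ha X P hP
    have hdimN : Module.supportDim R XN.carrier ≤ (e : WithBot ℕ∞) := by
      have h1 : Module.supportDim R XN.carrier + 1 ≤ ((e + 1 : ℕ) : WithBot ℕ∞) := hdrop.trans hdim
      rcases eq_or_ne (Module.supportDim R XN.carrier) ⊥ with hb | hne
      · rw [hb]; exact bot_le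
      · obtain ⟨c, hc⟩ := WithBot.ne_bot_iff_exists.mp hne
        rw [← hc] at h1 ⊢
        have h2 : ((c + 1 : ℕ∞) : WithBot ℕ∞) ≤ (((e : ℕ∞) + 1 : ℕ∞) : WithBot ℕ∞) := by
          simpa using h1
        have h3 : c + 1 ≤ (e : ℕ∞) + 1 := WithBot.coe_le_coe.mp h2
        have h4 : c ≤ (e : ℕ∞) := (ENat.add_le_add_iff_right (by simp)).mp h3
        exact_mod_cast WithBot.coe_le_coe.mpr h4
    have h5 := ih XN (diffPoly P (t : ℚ)) hP' hdimN
    have ht0 : (t : ℚ) ≠ 0 := by exact_mod_cast ht.ne'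
    exact degree_lt_succ_of_diffPoly P (t : ℚ) ht0 e h5

end Groth.Agent.Helper7.GrEC
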