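import Mathlib
import Groth.Prelude.Def_GrLC
import Groth.Prelude.Def_CAlg
import Groth.Agent.Helper7.GrStarLoc1
import Groth.Agent.Helper7.Liais2
import Groth.Agent.Helper7.CMRing
import Groth.Agent.Helper1.LocCohDepth
import Groth.Agent.Helper5.FtDim4

/-!
# Nonnegatively graded Noetherian rings over a field: finite type, height of the irrelevant ideal,
and depth of a Cohen–Macaulay one
-/

set_option autoImplicit false
set_option linter.unusedSectionVars false

namespace Groth.Agent.Helper7.GrAInv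

open DirectSum

universe u

variable {R : Type u} [CommRing R] (𝒜 : ℤ → AddSubgroup R) [GradedRing 𝒜]
  (hpos : ∀ n : ℤ, n < 0 → 𝒜 n = ⊥)

section FiniteType

variable [IsNoetherianRing R]

include hpos in
theorem finiteType_deg0 : Algebra.FiniteType (GrLC.deg0 𝒜) R := by
  classical
  have hfg : (Ideal.span (⋃ n ∈ Set.Ioi (0 : ℤ), (𝒜 n : Set R))).FG :=
    (isNoetherianRing_iff_ideal_fg R).mp inferInstance _
  obtain ⟨s, hs, hspan⟩ := (Submodule.fg_span_iff_fg_span_finset_subset _).mp hfg
  let S : Subalgebra (GrLC.deg0 𝒜) R := Algebra.adjoin (GrLC.deg0 𝒜) (s : Set R)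
  have hsdeg : ∀ g ∈ s, ∃ e : ℤ, 0 < e ∧ g ∈ 𝒜 e := by
    intro g hg
    have := hs hg
    simp only [Set.mem_iUnion, Set.mem_Ioi, SetLike.mem_coe, exists_prop] at this
    exact this
  have hz : ∀ j : ℤ, j < 0 → ∀ z ∈ 𝒜 j, z = 0 :=
    fun j hj z hz => Groth.Agent.Helper7.GrStarLoc.eq_zero_of_neg 𝒜 hpos j hj z hz
  have key : ∀ d : ℕ, ∀ x ∈ 𝒜 (d : ℤ), x ∈ S := by
    intro d
    induction d using Nat.strong_induction_on with
    | _ d ih =>
      intro x hx
      rcases Nat.eq_zero_or_pos d with rfl | hd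
      · have : x = algebraMap (GrLC.deg0 𝒜) R ⟨x, hx⟩ := rfl
        rw [this]
        exact S.algebraMap_mem _
      · have hxm : x ∈ Ideal.span (⋃ n ∈ Set.Ioi (0 : ℤ), (𝒜 n : Set R)) := by
          apply Ideal.subset_span
          simp only [Set.mem_iUnion, Set.mem_Ioi, SetLike.mem_coe, exists_prop]
          exact ⟨(d : ℤ), by exact_mod_cast hd, hx⟩
        have hxs : x ∈ Submodule.span R (s : Set R) := by
          have : Ideal.span (⋃ n ∈ Set.Ioi (0 : ℤ), (𝒜 n : Set R)) = Submodule.span R (s : Set R) :=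
            hspan
          rw [← this]
          exact hxm
        obtain ⟨c, -, hc⟩ := Submodule.mem_span_finset.mp hxs
        have hx' : (decompose 𝒜 x (d : ℤ) : R) = x := decompose_of_mem_same 𝒜 hx
        rw [← hx', ← hc, decompose_sum, DFinsupp.finsetSum_apply, AddSubmonoidClass.coe_finsetSum]
        refine S.sum_mem (fun g hg => ?_)
        obtain ⟨e, he, hge⟩ := hsdeg g hg
        have h1 := DirectSum.coe_decompose_mul_add_of_right_mem 𝒜 (a := c g) (i := (d : ℤ) - e) hge
        rw [sub_add_cancel] at h1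
        rw [smul_eq_mul, h1]
        refine S.mul_mem ?_ (Algebra.subset_adjoin hg)
        rcases lt_or_ge ((d : ℤ) - e) 0 with hneg | hnn
        · rw [hz _ hneg _ (SetLike.coe_mem _)]
          exact S.zero_mem
        · obtain ⟨d', hd'⟩ := Int.eq_ofNat_of_zero_le hnn
          have hlt : d' < d := by omega
          have := ih d' hlt (decompose 𝒜 (c g) ((d : ℤ) - e) : R) (by
            rw [← hd']; exact SetLike.coe_mem _)
          exact this
  refine ⟨⟨s, ?_⟩⟩
  rw [eq_top_iff]
  intro x _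
  rw [← DirectSum.sum_support_decompose 𝒜 x]
  refine Subalgebra.sum_mem _ (fun i _ => ?_)
  rcases lt_or_ge i 0 with hneg | hnn
  · rw [hz _ hneg _ (SetLike.coe_mem _)]
    exact Subalgebra.zero_mem _
  · obtain ⟨d, rfl⟩ := Int.eq_ofNat_of_zero_le hnn
    exact key d _ (SetLike.coe_mem _)

end FiniteType

section Height

variable (h0 : IsField (GrLC.deg0 𝒜)) (m : HomogeneousIdeal 𝒜) (hm : IsCoatom m)

include hpos h0 hm in
/-- a proper homogeneous ideal lies in `m` -/
theorem le_of_isHomogeneous (P : Ideal R) (hP : P.IsHomogeneous 𝒜) (hPt : P ≠ ⊤) :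
    P ≤ m.toIdeal := by
  intro x hx
  rw [m.isHomogeneous.mem_iff]
  intro i
  rcases lt_trichotomy i 0 with hi | hi | hi
  · rw [Groth.Agent.Helper7.GrStarLoc.eq_zero_of_neg 𝒜 hpos i hi _ (SetLike.coe_mem _)]
    exact zero_mem _
  · subst hi
    have hx0 : (decompose 𝒜 x 0 : R) ∈ P := hP 0 hx
    by_cases hzero : (decompose 𝒜 x 0 : R) = 0
    · rw [hzero]; exact zero_mem _
    · exfalso
      apply hPt
      let y : GrLC.deg0 𝒜 := ⟨(decompose 𝒜 x 0 : R), SetLike.coe_mem _⟩
      have hy : y ≠ 0 := fun h => hzero (congrArg Subtype.val h)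
      obtain ⟨z, hz⟩ := h0.mul_inv_cancel hy
      rw [Ideal.eq_top_iff_one]
      have : (1 : R) = (decompose 𝒜 x 0 : R) * (z : R) := by
        have := congrArg Subtype.val hz
        exact this.symm
      rw [this]
      exact P.mul_mem_right _ hx0
  · exact Groth.Agent.Helper7.GrStarLoc.mem_of_pos 𝒜 hpos m hm hi (SetLike.coe_mem _)

/-- a minimal prime of a `ℤ`-graded ring is homogeneous -/
theorem isHomogeneous_of_mem_minimalPrimes (P : Ideal R) (hP : P ∈ minimalPrimes R) :
    P.IsHomogeneous 𝒜 := by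
  have hPp : P.IsPrime := hP.1.1
  have hcore : (P.homogeneousCore 𝒜).toIdeal.IsPrime := Ideal.IsPrime.homogeneousCore hPp
  have hle : (P.homogeneousCore 𝒜).toIdeal ≤ P := Ideal.toIdeal_homogeneousCore_le 𝒜 P
  have heq : P ≤ (P.homogeneousCore 𝒜).toIdeal := hP.2 ⟨hcore, bot_le⟩ hle
  have : (P.homogeneousCore 𝒜).toIdeal = P := le_antisymm hle heq
  rw [← this]
  exact (P.homogeneousCore 𝒜).isHomogeneous

variable [hCM : LocCoh.IsCohenMacaulayRing R]

include hpos h0 hm in
/-- the irrelevant ideal of a Cohen–Macaulay nonnegatively graded ring over a field has height the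
dimension of the ring -/
theorem height_eq_dim (n : ℕ) (hn : ringKrullDim R = n) : m.toIdeal.height = n := by
  have hN : IsNoetherianRing R := inferInstance
  have hmax : m.toIdeal.IsMaximal := Groth.Agent.Helper7.GrStarLoc.isMaximal 𝒜 hpos m hm
  let _ : Field (GrLC.deg0 𝒜) := h0.toField
  have hft : Algebra.FiniteType (GrLC.deg0 𝒜) R := finiteType_deg0 𝒜 hpos
  -- a chain of primes of length `n`
  have hn' : (n : WithBot ℕ∞) ≤ Order.krullDim (PrimeSpectrum R) := by
    rw [← ringKrullDim, hn]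
  obtain ⟨l, hl⟩ := Order.le_krullDim_iff.mp hn'
  obtain ⟨P, hPmin, hPle⟩ := Ideal.exists_minimalPrimes_le (I := (⊥ : Ideal R))
    (J := l.head.asIdeal) bot_le
  have hPp : P.IsPrime := hPmin.1.1
  have hco : (n : ℕ∞) ≤ Order.coheight (⟨P, hPp⟩ : PrimeSpectrum R) := by
    have h1 : (l.length : ℕ∞) ≤ Order.coheight l.head := Order.length_le_coheight_head
    have h2 : Order.coheight l.head ≤ Order.coheight (⟨P, hPp⟩ : PrimeSpectrum R) :=
      Order.coheight_anti (show (⟨P, hPp⟩ : PrimeSpectrum R) ≤ l.head from hPle)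
    rw [hl] at h1
    exact h1.trans h2
  have hdimP : ringKrullDim (R ⧸ P) = n := by
    apply le_antisymm
    · rw [← hn]
      exact ringKrullDim_quotient_le P
    · have := Groth.Agent.Helper5.FtDim.ringKrullDim_quotient_eq_coheight
        (⟨P, hPp⟩ : PrimeSpectrum R)
      change ringKrullDim (R ⧸ P) = _ at this
      rw [this]
      exact_mod_cast hco
  have hPhom := isHomogeneous_of_mem_minimalPrimes 𝒜 P hPmin
  have hPm : P ≤ m.toIdeal := le_of_isHomogeneous 𝒜 hpos h0 m hm P hPhom hPp.ne_top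
  have h1 := Groth.Agent.Helper7.Liais2.ringKrullDim_quotient_minimalPrime (GrLC.deg0 𝒜) R
    m.toIdeal P hPmin hPm
  have h2 := IsLocalization.AtPrime.ringKrullDim_eq_height m.toIdeal
    (Localization.AtPrime m.toIdeal)
  rw [hdimP, h2] at h1
  exact_mod_cast h1.symm

include hpos h0 hm in
/-- local cohomology of a Cohen–Macaulay graded ring over a field vanishes below the dimension -/
theorem subsingleton_H_of_lt (n : ℕ) (hn : ringKrullDim R = n) (E : GrLC.StarInjRes 𝒜 𝒜)
    (i : ℕ) (hi : i < n) : Subsingleton (E.H m i) := by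
  have hN : IsNoetherianRing R := inferInstance
  have hmax : m.toIdeal.IsMaximal := Groth.Agent.Helper7.GrStarLoc.isMaximal 𝒜 hpos m hm
  have hht := height_eq_dim 𝒜 hpos h0 m hm n hn
  have hdepth : LocCoh.idealDepth m.toIdeal R = m.toIdeal.height :=
    (Groth.Agent.Helper7.CMRing.cm_iff R).mp hCM m.toIdeal hmax.ne_top
  have hIM := Groth.Agent.Helper7.CMRing.smul_top_ne_top m.toIdeal hmax.ne_top
  have hle : (n : ℕ∞) ≤ LocCoh.idealDepth m.toIdeal R := by
    rw [hdepth, hht]
  have hlc := (Groth.Agent.Helper1.LocCohDepth.le_idealDepth_iff_lc m.toIdeal R hIM n).mp hle i hi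
  obtain ⟨e⟩ := Groth.Agent.Helper7.GrFinC.nonempty_H_equiv m E i
  exact e.toEquiv.subsingleton

end Height

end Groth.Agent.Helper7.GrAInv
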