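import Mathlib
import Groth.Prelude.Def_GrLC
import Groth.Prelude.Def_CAlg
import Groth.Agent.Helper7.GrEC5
import Groth.Agent.Helper7.GrEC3
import Groth.Agent.Helper7.GrAInv3

/-!
# *Local nonnegatively graded Noetherian rings with Artinian degree-zero part: the *maximal ideal has
height `dim R`, and local cohomology of a Cohen–Macaulay one vanishes below the dimension
-/

set_option autoImplicit false
set_option linter.unusedSectionVars false

namespace Groth.Agent.Helper7.GrHt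

open DirectSum

universe u

variable {R : Type u} [CommRing R] [IsNoetherianRing R] (𝒜 : ℤ → AddSubgroup R) [GradedRing 𝒜]
  (hpos : ∀ n : ℤ, n < 0 → 𝒜 n = ⊥) [IsArtinianRing (GrLC.deg0 𝒜)]
  (m : HomogeneousIdeal 𝒜) (hm : GrLC.IsStarLocal 𝒜 m)

include hpos in
/-- the quotient of `R` by a prime is of finite type over a field, so all its maximal ideals have
height equal to its dimension -/
theorem height_quotient_eq_dim (P : Ideal R) [hP : P.IsPrime] (M : Ideal (R ⧸ P)) [M.IsMaximal] :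
    (M.height : WithBot ℕ∞) = ringKrullDim (R ⧸ P) := by
  set P₀ : Ideal (GrLC.deg0 𝒜) := P.comap (algebraMap (GrLC.deg0 𝒜) R) with hP₀
  have hP₀p : P₀.IsPrime := Ideal.comap_isPrime _ P
  have hP₀m : P₀.IsMaximal := IsArtinianRing.isMaximal_of_isPrime P₀
  let _ : Field (GrLC.deg0 𝒜 ⧸ P₀) := Ideal.Quotient.field P₀
  have hft : Algebra.FiniteType (GrLC.deg0 𝒜) R :=
    Groth.Agent.Helper7.GrAInv.finiteType_deg0 𝒜 hpos
  have hft2 : Algebra.FiniteType (GrLC.deg0 𝒜) (R ⧸ P) :=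
    Algebra.FiniteType.of_surjective (Ideal.Quotient.mkₐ (GrLC.deg0 𝒜) P)
      (Ideal.Quotient.mkₐ_surjective _ _)
  have hft3 : Algebra.FiniteType (GrLC.deg0 𝒜 ⧸ P₀) (R ⧸ P) :=
    Algebra.FiniteType.of_restrictScalars_finiteType (GrLC.deg0 𝒜) (GrLC.deg0 𝒜 ⧸ P₀) (R ⧸ P)
  have hdom : IsDomain (R ⧸ P) := Ideal.Quotient.isDomain P
  exact Groth.Agent.Helper5.FtDim.height_of_isMaximal (GrLC.deg0 𝒜 ⧸ P₀) (R ⧸ P) M

include hpos hm in
/-- the *maximal ideal has height `dim R` -/
theorem height_eq_dim (n : ℕ) (hn : ringKrullDim R = n) : m.toIdeal.height = n := by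
  have hmax : m.toIdeal.IsMaximal := Groth.Agent.Helper7.GrStarLoc.isMaximal 𝒜 hpos m hm.1
  have hmp : m.toIdeal.IsPrime := hmax.isPrime
  -- upper bound
  have hle : (m.toIdeal.height : WithBot ℕ∞) ≤ n := by
    rw [← hn]
    exact Ideal.height_le_ringKrullDim_of_ne_top hmax.ne_top
  -- a chain of primes of length `n`
  have hn' : (n : WithBot ℕ∞) ≤ Order.krullDim (PrimeSpectrum R) := by
    rw [← ringKrullDim, hn]
  obtain ⟨l, hl⟩ := Order.le_krullDim_iff.mp hn'
  obtain ⟨P, hPmin, hPle⟩ := Ideal.exists_minimalPrimes_le (I := (⊥ : Ideal R))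
    (J := l.head.asIdeal) bot_le
  have hPp : P.IsPrime := hPmin.1.1
  have hco : (n : ℕ∞) ≤ Order.coheight (⟨P, hPp⟩ : PrimeSpectrum R) := by
    have h1 : (l.length : ℕ∞) ≤ Order.coheight l.head := Order.length_le_coheight_head
    have h2 : Order.coheight l.head ≤ Order.coheight (⟨P, hPp⟩ : PrimeSpectrum R) :=
      Order.coheight_anti (show (⟨P, hPp⟩ : PrimeSpectrum R) ≤ l.head from hPle)
    rw [hl] at h1
    exact h1.trans h2
  have hdimP : ringKrullDim (R ⧸ P) = n := by
    apply le_antisymm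
    · rw [← hn]
      exact ringKrullDim_quotient_le P
    · have := Groth.Agent.Helper5.FtDim.ringKrullDim_quotient_eq_coheight
        (⟨P, hPp⟩ : PrimeSpectrum R)
      change ringKrullDim (R ⧸ P) = _ at this
      rw [this]
      exact_mod_cast hco
  have hPhom := Groth.Agent.Helper7.GrAInv.isHomogeneous_of_mem_minimalPrimes 𝒜 P hPmin
  have hPm : P ≤ m.toIdeal :=
    Groth.Agent.Helper7.GrEC.le_of_isHomogeneous_of_ne_top 𝒜 m hm P hPhom hPp.ne_top
  -- the image of `m` in `R ⧸ P`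
  set m'' : Ideal (R ⧸ P) := m.toIdeal.map (Ideal.Quotient.mk P) with hm''
  have hker : RingHom.ker (Ideal.Quotient.mk P) ≤ m.toIdeal := by rw [Ideal.mk_ker]; exact hPm
  have hm''max : m''.IsMaximal :=
    Ideal.IsMaximal.map_of_surjective_of_ker_le Ideal.Quotient.mk_surjective hker
  have hm''p : m''.IsPrime := hm''max.isPrime
  have hcomap : m''.comap (Ideal.Quotient.mk P) = m.toIdeal := by
    rw [hm'', Ideal.comap_map_of_surjective _ Ideal.Quotient.mk_surjective,
      ← RingHom.ker_eq_comap_bot]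
    exact sup_eq_left.2 hker
  have h3 := Groth.Agent.Helper7.Liais2.ringKrullDim_loc_quotient m.toIdeal P m'' hcomap
  have h4 : ringKrullDim (Localization.AtPrime m'') = n := by
    rw [IsLocalization.AtPrime.ringKrullDim_eq_height m'' (Localization.AtPrime m''),
      height_quotient_eq_dim 𝒜 hpos P m'', hdimP]
  have h5 : ringKrullDim (Localization.AtPrime m.toIdeal ⧸
      P.map (algebraMap R (Localization.AtPrime m.toIdeal))) ≤
      ringKrullDim (Localization.AtPrime m.toIdeal) := ringKrullDim_quotient_le _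
  rw [← h3, h4, IsLocalization.AtPrime.ringKrullDim_eq_height m.toIdeal
    (Localization.AtPrime m.toIdeal)] at h5
  exact_mod_cast le_antisymm hle h5

/-- the irrelevant ideal as a homogeneous ideal -/
def irr : HomogeneousIdeal 𝒜 := ⟨Ideal.span (⋃ n ∈ Set.Ioi (0 : ℤ), (𝒜 n : Set R)),
  Ideal.homogeneous_span 𝒜 _ (fun x hx => by
    simp only [Set.mem_iUnion, Set.mem_Ioi, SetLike.mem_coe, exists_prop] at hx
    obtain ⟨k, -, hk⟩ := hx
    exact ⟨k, hk⟩)⟩

theorem irr_toIdeal :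
    (irr 𝒜).toIdeal = Ideal.span (⋃ n ∈ Set.Ioi (0 : ℤ), (𝒜 n : Set R)) := rfl

include hpos hm in
/-- the torsion functors of the *maximal ideal and of the irrelevant ideal agree -/
theorem gam_eq_irr (Y : Type u) [AddCommGroup Y] [Module R Y] :
    GrLC.gam m.toIdeal Y = GrLC.gam (irr 𝒜).toIdeal Y := by
  obtain ⟨k, hk⟩ := Groth.Agent.Helper7.GrEC.exists_pow_le_irrel 𝒜 hpos (irr 𝒜) (irr_toIdeal 𝒜) m hm
  have hle : (irr 𝒜).toIdeal ≤ m.toIdeal := by
    rw [irr_toIdeal, Ideal.span_le]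
    intro x hx
    simp only [Set.mem_iUnion, Set.mem_Ioi, SetLike.mem_coe, exists_prop] at hx
    obtain ⟨j, hj, hxj⟩ := hx
    exact Groth.Agent.Helper7.GrStarLoc.mem_of_pos 𝒜 hpos m hm.1 hj hxj
  exact Groth.Agent.Helper7.GrEC.gam_eq_of_le_of_pow_le (irr 𝒜).toIdeal m.toIdeal hle k hk Y

include hpos hm in
/-- the pieces of the local cohomology with support in the *maximal ideal have finite length -/
theorem length_Hcomp_ne_top (X : GrLC.GMod.{u} 𝒜) [Module.Finite R X.carrier]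
    (E : GrLC.StarInjRes 𝒜 X.gr) (i : ℕ) (n : ℤ) :
    Module.length (GrLC.deg0 𝒜) (E.Hcomp m i n) ≠ ⊤ := by
  rw [Groth.Agent.Helper7.GrEC.length_Hcomp_congr 𝒜 E m (irr 𝒜)
    (fun j => gam_eq_irr 𝒜 hpos m hm _) i n]
  exact Groth.Agent.Helper7.GrEC.length_Hcomp_ne_top 𝒜 hpos (irr 𝒜) (irr_toIdeal 𝒜) X E i n

variable [hCM : LocCoh.IsCohenMacaulayRing R]

include hpos hm in
/-- local cohomology of a Cohen–Macaulay *local graded ring with Artinian degree-zero part vanishes
below the dimension -/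
theorem subsingleton_H_of_lt (n : ℕ) (hn : ringKrullDim R = n) (E : GrLC.StarInjRes 𝒜 𝒜)
    (i : ℕ) (hi : i < n) : Subsingleton (E.H m i) := by
  have hmax : m.toIdeal.IsMaximal := Groth.Agent.Helper7.GrStarLoc.isMaximal 𝒜 hpos m hm.1
  have hht := height_eq_dim 𝒜 hpos m hm n hn
  have hdepth : LocCoh.idealDepth m.toIdeal R = m.toIdeal.height :=
    (Groth.Agent.Helper7.CMRing.cm_iff R).mp hCM m.toIdeal hmax.ne_top
  have hIM := Groth.Agent.Helper7.CMRing.smul_top_ne_top m.toIdeal hmax.ne_top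
  have hle : (n : ℕ∞) ≤ LocCoh.idealDepth m.toIdeal R := by
    rw [hdepth, hht]
  have hlc := (Groth.Agent.Helper1.LocCohDepth.le_idealDepth_iff_lc m.toIdeal R hIM n).mp hle i hi
  obtain ⟨e⟩ := Groth.Agent.Helper7.GrFinC.nonempty_H_equiv m E i
  exact e.toEquiv.subsingleton

end Groth.Agent.Helper7.GrHt
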