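import Mathlib

/-!
# The Hilbert polynomial of a polynomial ring
-/

set_option autoImplicit false

namespace Groth.Agent.Helper7.GrPolyQ

open Polynomial

/-- the polynomial `binom(X + s, s)` -/
noncomputable def Qs (s : ℕ) : ℚ[X] :=
  C (1 / (s.factorial : ℚ)) * ∏ i ∈ Finset.range s, (X + C ((i : ℚ) + 1))

theorem eval_Qs (s : ℕ) (x : ℚ) :
    (Qs s).eval x = 1 / (s.factorial : ℚ) * ∏ i ∈ Finset.range s, (x + ((i : ℚ) + 1)) := by
  simp only [Qs, eval_mul, eval_C, eval_prod, eval_add, eval_X]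

theorem natDegree_Qs_le (s : ℕ) : (Qs s).natDegree ≤ s := by
  unfold Qs
  refine (natDegree_C_mul_le _ _).trans ?_
  refine (natDegree_prod_le _ _).trans ?_
  have : ∀ i ∈ Finset.range s, (X + C ((i : ℚ) + 1)).natDegree ≤ 1 := by
    intro i _
    exact (natDegree_X_add_C _).le
  have h2 : ∑ i ∈ Finset.range s, (X + C ((i : ℚ) + 1)).natDegree ≤
      ∑ _i ∈ Finset.range s, 1 :=
    Finset.sum_le_sum (f := fun i : ℕ => (X + C ((i : ℚ) + 1)).natDegree) (g := fun _ => 1) this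
  simpa using h2

theorem eval_Qs_nat (s n : ℕ) : (Qs s).eval (n : ℚ) = ((n + s).choose s : ℚ) := by
  rw [eval_Qs]
  have h1 : ∏ i ∈ Finset.range s, ((n : ℚ) + ((i : ℚ) + 1)) =
      (((n + 1).ascFactorial s : ℕ) : ℚ) := by
    rw [Nat.ascFactorial_eq_prod_range]
    push_cast
    refine Finset.prod_congr rfl fun i _ => ?_
    ring
  rw [h1, Nat.ascFactorial_eq_factorial_mul_choose]
  have hs : (s.factorial : ℚ) ≠ 0 := by exact_mod_cast (Nat.factorial_pos s).ne'
  push_cast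
  field_simp

theorem eval_Qs_neg (s j : ℕ) (h1 : 1 ≤ j) (h2 : j ≤ s) : (Qs s).eval (-(j : ℚ)) = 0 := by
  rw [eval_Qs]
  have : ∏ i ∈ Finset.range s, (-(j : ℚ) + ((i : ℚ) + 1)) = 0 := by
    apply Finset.prod_eq_zero (i := j - 1) (Finset.mem_range.mpr (by omega))
    have : ((j - 1 : ℕ) : ℚ) = (j : ℚ) - 1 := by
      rw [Nat.cast_sub h1]
      simp
    rw [this]
    ring
  rw [this, mul_zero]

theorem eval_Qs_neg_succ (s : ℕ) : (Qs s).eval (-((s : ℚ) + 1)) ≠ 0 := by
  rw [eval_Qs]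
  have hs : (s.factorial : ℚ) ≠ 0 := by exact_mod_cast (Nat.factorial_pos s).ne'
  refine mul_ne_zero (one_div_ne_zero hs) ?_
  rw [Finset.prod_ne_zero_iff]
  intro i hi
  have hi' : i < s := Finset.mem_range.mp hi
  have : (i : ℚ) < (s : ℚ) := by exact_mod_cast hi'
  intro h
  linarith

/-- a polynomial of degree `< s + 1` with the values of `Qs s` at `0, -1, …, -s` is `Qs s` -/
theorem eq_Qs (s : ℕ) (P : ℚ[X]) (hdeg : P.degree < ((s + 1 : ℕ) : WithBot ℕ))
    (h0 : P.eval 0 = 1) (hneg : ∀ j : ℕ, 1 ≤ j → j ≤ s → P.eval (-(j : ℚ)) = 0) : P = Qs s := by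
  have hPn : P.natDegree < s + 1 := by
    by_cases hP : P = 0
    · rw [hP]; simp
    · exact (natDegree_lt_iff_degree_lt hP).mpr hdeg
  refine eq_of_natDegree_lt_card_of_eval_eq P (Qs s)
    (f := fun i : Fin (s + 1) => (-((i : ℕ) : ℚ))) ?_ ?_ ?_
  · intro i j hij
    have h1 : ((i : ℕ) : ℚ) = ((j : ℕ) : ℚ) := neg_injective hij
    apply Fin.ext
    exact_mod_cast h1
  · intro i
    rcases Nat.eq_zero_or_pos (i : ℕ) with hi | hi
    · simp only [hi, Nat.cast_zero, neg_zero]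
      rw [h0]
      have := eval_Qs_nat s 0
      simp only [Nat.cast_zero, zero_add, Nat.choose_self, Nat.cast_one] at this
      exact this.symm
    · have hle : (i : ℕ) ≤ s := by have := i.2; omega
      show P.eval (-((i : ℕ) : ℚ)) = (Qs s).eval (-((i : ℕ) : ℚ))
      rw [hneg i hi hle, eval_Qs_neg s i hi hle]
  · rw [Fintype.card_fin]
    exact max_lt hPn (lt_of_le_of_lt (natDegree_Qs_le s) (Nat.lt_succ_self s))

end Groth.Agent.Helper7.GrPolyQ
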