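import Mathlib
import Groth.Agent.Helper6.HomogRank

/-!
# The graded map from a polynomial ring onto a standard graded algebra over a field
-/

set_option autoImplicit false
set_option linter.unusedSectionVars false

namespace Groth.Agent.Helper7.GrPolyQ

open DirectSum MvPolynomial

universe u

variable (K : Type u) [Field K] {R : Type u} [CommRing R] [Algebra K R]
  (𝒜 : ℤ → AddSubgroup R) [GradedRing 𝒜]
  (hK : ∀ x : R, x ∈ 𝒜 0 ↔ x ∈ Set.range (algebraMap K R))

include hK in
/-- the pieces as subspaces -/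
theorem smul_mem_piece (n : ℤ) (c : K) (x : R) (hx : x ∈ 𝒜 n) : c • x ∈ 𝒜 n := by
  rw [Algebra.smul_def]
  have h1 : algebraMap K R c ∈ 𝒜 0 := (hK _).mpr ⟨c, rfl⟩
  have h3 := SetLike.GradedMul.mul_mem h1 hx
  rwa [zero_add] at h3

/-- the pieces as subspaces -/
def compK (n : ℤ) : Submodule K R where
  carrier := (𝒜 n : Set R)
  add_mem' ha hb := add_mem ha hb
  zero_mem' := zero_mem _
  smul_mem' c x hx := smul_mem_piece K 𝒜 hK n c x hx

variable {r : ℕ} (y : Fin r → R) (hy : ∀ i, y i ∈ 𝒜 1)

include hy in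
/-- the value of a monomial at elements of degree one -/
theorem prod_mem (d : Fin r →₀ ℕ) : (d.prod fun i e => y i ^ e) ∈ 𝒜 (d.degree : ℤ) := by
  classical
  rw [Finsupp.prod]
  have h := SetLike.prod_pow_mem_graded 𝒜 (F := d.support) (i := fun _ : Fin r => (1 : ℤ))
    (g := y) (fun k => d k) (fun k _ => hy k)
  have e : (∑ k ∈ d.support, d k • (1 : ℤ)) = (d.degree : ℤ) := by
    rw [Finsupp.degree_apply]
    push_cast
    refine Finset.sum_congr rfl fun k _ => ?_
    simp
  rw [e] at h
  exact h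

include hK hy in
/-- a homogeneous polynomial of degree `n` evaluates into the piece of degree `n` -/
theorem aeval_mem (p : MvPolynomial (Fin r) K) (n : ℕ) (hp : p.IsHomogeneous n) :
    aeval y p ∈ 𝒜 (n : ℤ) := by
  classical
  rw [p.as_sum, map_sum]
  refine sum_mem fun d hd => ?_
  rw [aeval_monomial]
  have hdn : d.degree = n := by
    have := hp (mem_support_iff.mp hd)
    rw [← this, Finsupp.degree_eq_weight_one]
    rfl
  have h1 : algebraMap K R (coeff d p) ∈ 𝒜 0 := (hK _).mpr ⟨_, rfl⟩
  have h2 := prod_mem 𝒜 y hy d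
  have h3 := SetLike.GradedMul.mul_mem h1 h2
  rw [zero_add, hdn] at h3
  exact h3

variable (hstd : Ideal.span (⋃ n ∈ Set.Ioi (0 : ℤ), (𝒜 n : Set R)) =
    Ideal.span ((𝒜 1 : AddSubgroup R) : Set R))
  (hspan : ∀ z ∈ 𝒜 1, z ∈ Submodule.span K (Set.range y))

include hspan in
/-- elements of degree one are values of linear forms -/
theorem exists_linear (z : R) (hz : z ∈ 𝒜 1) :
    ∃ p : MvPolynomial (Fin r) K, p.IsHomogeneous 1 ∧ aeval y p = z := by
  obtain ⟨c, hc⟩ := (Submodule.mem_span_range_iff_exists_fun K).mp (hspan z hz)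
  refine ⟨∑ i, C (c i) * X i, ?_, ?_⟩
  · refine IsHomogeneous.sum _ _ _ fun i _ => ?_
    have := (isHomogeneous_C (Fin r) (c i)).mul (isHomogeneous_X K i)
    rwa [zero_add] at this
  · rw [map_sum, ← hc]
    refine Finset.sum_congr rfl fun i _ => ?_
    rw [map_mul, aeval_C, aeval_X, Algebra.smul_def]

include hK hstd hspan in
/-- every homogeneous element of degree `n ≥ 0` is the value of a homogeneous polynomial of
degree `n` -/
theorem exists_homog : ∀ (n : ℕ) (z : R), z ∈ 𝒜 (n : ℤ) →
    ∃ p : MvPolynomial (Fin r) K, p.IsHomogeneous n ∧ aeval y p = z := by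
  classical
  intro n
  induction n with
  | zero =>
    intro z hz
    obtain ⟨c, hc⟩ := (hK z).mp hz
    refine ⟨C c, isHomogeneous_C _ _, ?_⟩
    rw [aeval_C]
    exact hc
  | succ n ih =>
    intro z hz
    have hzs : z ∈ Ideal.span ((𝒜 1 : AddSubgroup R) : Set R) := by
      rw [← hstd]
      apply Ideal.subset_span
      simp only [Set.mem_iUnion, Set.mem_Ioi, SetLike.mem_coe, exists_prop]
      exact ⟨((n + 1 : ℕ) : ℤ), by positivity, hz⟩
    obtain ⟨f, t, ht, -, hsum⟩ := Submodule.mem_span_iff_exists_finset_subset.mp hzs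
    -- take the component of degree `n + 1`
    have hz' : z = ∑ w ∈ t, (decompose 𝒜 (f w) (n : ℤ) : R) * w := by
      have h1 : (decompose 𝒜 z ((n + 1 : ℕ) : ℤ) : R) = z := decompose_of_mem_same 𝒜 hz
      rw [← h1, ← hsum, decompose_sum, DFinsupp.finsetSum_apply, AddSubmonoidClass.coe_finsetSum]
      refine Finset.sum_congr rfl fun w hw => ?_
      have hw1 : w ∈ 𝒜 1 := ht hw
      have h2 := DirectSum.coe_decompose_mul_add_of_right_mem 𝒜 (a := f w) (i := (n : ℤ)) hw1
      rw [smul_eq_mul]
      have e : ((n + 1 : ℕ) : ℤ) = (n : ℤ) + 1 := by push_cast; ring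
      rw [e]
      exact h2
    have hterm : ∀ w ∈ t, ∃ p : MvPolynomial (Fin r) K, p.IsHomogeneous (n + 1) ∧
        aeval y p = (decompose 𝒜 (f w) (n : ℤ) : R) * w := by
      intro w hw
      obtain ⟨p1, hp1, e1⟩ := ih _ (SetLike.coe_mem (decompose 𝒜 (f w) (n : ℤ)))
      obtain ⟨p2, hp2, e2⟩ := exists_linear K 𝒜 y hspan w (ht hw)
      exact ⟨p1 * p2, hp1.mul hp2, by rw [map_mul, e1, e2]⟩
    choose! P hP using hterm
    refine ⟨∑ w ∈ t, P w, IsHomogeneous.sum _ _ _ fun w hw => (hP w hw).1, ?_⟩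
    rw [map_sum, hz']
    exact Finset.sum_congr rfl fun w hw => (hP w hw).2

include hK hstd hspan in
/-- the evaluation map is surjective when `R` is nonnegatively graded -/
theorem aeval_surjective (hpos : ∀ n : ℤ, n < 0 → 𝒜 n = ⊥) :
    Function.Surjective (aeval y : MvPolynomial (Fin r) K → R) := by
  classical
  intro z
  rw [← DirectSum.sum_support_decompose 𝒜 z]
  have hterm : ∀ i : ℤ, ∃ p : MvPolynomial (Fin r) K,
      aeval y p = (decompose 𝒜 z i : R) := by
    intro i
    rcases lt_or_ge i 0 with hi | hi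
    · refine ⟨0, ?_⟩
      have h2 : ∀ w : R, w ∈ 𝒜 i → w = 0 := fun w hw => by
        rw [hpos i hi] at hw
        exact AddSubgroup.mem_bot.mp hw
      rw [h2 _ (SetLike.coe_mem _), map_zero]
    · obtain ⟨n, rfl⟩ := Int.eq_ofNat_of_zero_le hi
      obtain ⟨p, -, hp⟩ := exists_homog K 𝒜 hK y hstd hspan n _
        (SetLike.coe_mem (decompose 𝒜 z (n : ℤ)))
      exact ⟨p, hp⟩
  choose P hP using hterm
  refine ⟨∑ i ∈ (decompose 𝒜 z).support, P i, ?_⟩
  rw [map_sum]
  exact Finset.sum_congr rfl fun i _ => hP i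

include hK hy in
/-- the evaluation map is injective if it is injective on homogeneous polynomials -/
theorem aeval_injective
    (hinj : ∀ (n : ℕ) (p : MvPolynomial (Fin r) K), p.IsHomogeneous n →
      aeval y p = 0 → p = 0) :
    Function.Injective (aeval y : MvPolynomial (Fin r) K → R) := by
  classical
  rw [injective_iff_map_eq_zero]
  intro p hp
  have hcomp : ∀ m : ℕ, aeval y (homogeneousComponent m p) = 0 := by
    intro m
    have h1 : aeval y p = ∑ i ∈ Finset.range (p.totalDegree + 1),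
        aeval y (homogeneousComponent i p) := by
      conv_lhs => rw [← sum_homogeneousComponent p]
      rw [map_sum]
    have h2 : (decompose 𝒜 (aeval y p) (m : ℤ) : R) = 0 := by
      rw [hp, decompose_zero, DirectSum.zero_apply, ZeroMemClass.coe_zero]
    rw [h1, decompose_sum, DFinsupp.finsetSum_apply, AddSubmonoidClass.coe_finsetSum] at h2
    have hterm : ∀ i : ℕ, (decompose 𝒜 (aeval y (homogeneousComponent i p)) (m : ℤ) : R) =
        if i = m then aeval y (homogeneousComponent m p) else 0 := by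
      intro i
      have hmem := aeval_mem K 𝒜 hK y hy _ i (homogeneousComponent_isHomogeneous i p)
      split_ifs with h
      · subst h
        exact decompose_of_mem_same 𝒜 hmem
      · exact decompose_of_mem_ne 𝒜 hmem (by exact_mod_cast h)
    simp only [hterm] at h2
    rw [Finset.sum_ite_eq'] at h2
    by_cases hm : m ∈ Finset.range (p.totalDegree + 1)
    · rwa [if_pos hm] at h2
    · have : homogeneousComponent m p = 0 := by
        apply homogeneousComponent_eq_zero
        have := Finset.mem_range.not.mp hm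
        omega
      rw [this, map_zero]
  have hzero : ∀ m : ℕ, homogeneousComponent m p = 0 := fun m =>
    hinj m _ (homogeneousComponent_isHomogeneous m p) (hcomp m)
  rw [← sum_homogeneousComponent p]
  exact Finset.sum_eq_zero fun i _ => hzero i

include hstd in
/-- a basis of the piece of degree one gives a surjection from the polynomial ring, which is
bijective if the Hilbert functions agree -/
theorem exists_aeval_bijective (hpos : ∀ n : ℤ, n < 0 → 𝒜 n = ⊥) (s : ℕ)
    (hfin : ∀ n : ℕ, Module.Finite K (compK K 𝒜 hK (n : ℤ)))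
    (hH : ∀ n : ℕ, Module.finrank K (compK K 𝒜 hK (n : ℤ)) = (n + s).choose s) :
    ∃ y : Fin (s + 1) → R, (∀ i, y i ∈ 𝒜 1) ∧
      Function.Bijective (aeval y : MvPolynomial (Fin (s + 1)) K → R) := by
  classical
  have h1 : Module.finrank K (compK K 𝒜 hK ((1 : ℕ) : ℤ)) = s + 1 := by
    rw [hH 1, add_comm, Nat.choose_succ_self_right]
  have := hfin 1
  let b := Module.finBasisOfFinrankEq K (compK K 𝒜 hK ((1 : ℕ) : ℤ)) h1
  let y : Fin (s + 1) → R := fun i => (b i : R)
  have hy : ∀ i, y i ∈ 𝒜 1 := fun i => by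
    have := (b i).2
    exact_mod_cast this
  have hspan : ∀ z ∈ 𝒜 1, z ∈ Submodule.span K (Set.range y) := by
    intro z hz
    have hz' : z ∈ compK K 𝒜 hK ((1 : ℕ) : ℤ) := by
      show z ∈ 𝒜 ((1 : ℕ) : ℤ)
      exact_mod_cast hz
    have h2 := b.sum_repr (⟨z, hz'⟩ : compK K 𝒜 hK ((1 : ℕ) : ℤ))
    have h3 : z = ∑ i, (b.repr ⟨z, hz'⟩ i) • (y i) := by
      have := congrArg Subtype.val h2
      rw [AddSubmonoidClass.coe_finsetSum] at this
      exact this.symm
    rw [h3]
    exact Submodule.sum_mem _ fun i _ =>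
      Submodule.smul_mem _ _ (Submodule.subset_span ⟨i, rfl⟩)
  refine ⟨y, hy, ?_, aeval_surjective K 𝒜 hK y hstd hspan hpos⟩
  apply aeval_injective K 𝒜 hK y hy
  intro n p hp hp0
  -- the restriction to the homogeneous polynomials of degree `n`
  let L : ↥(homogeneousSubmodule (Fin (s + 1)) K n) →ₗ[K] ↥(compK K 𝒜 hK (n : ℤ)) :=
    ((aeval y : MvPolynomial (Fin (s + 1)) K →ₐ[K] R).toLinearMap.restrict
      (p := homogeneousSubmodule (Fin (s + 1)) K n) (q := compK K 𝒜 hK (n : ℤ))
      (fun q hq => aeval_mem K 𝒜 hK y hy q n ((mem_homogeneousSubmodule n q).mp hq)))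
  have hLsurj : Function.Surjective L := by
    intro z
    obtain ⟨q, hq, hqz⟩ := exists_homog K 𝒜 hK y hstd hspan n z.1 z.2
    exact ⟨⟨q, (mem_homogeneousSubmodule n q).mpr hq⟩, Subtype.ext hqz⟩
  have hfr : Module.finrank K ↥(homogeneousSubmodule (Fin (s + 1)) K n) =
      Module.finrank K ↥(compK K 𝒜 hK (n : ℤ)) := by
    rw [hH n, Groth.Agent.Helper6.HomogRank.finrank_homogeneousSubmodule]
  have : Module.Finite K ↥(homogeneousSubmodule (Fin (s + 1)) K n) :=
    Module.Finite.iff_fg.2 (homogeneousSubmodule_fg (Fin (s + 1)) K n)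
  have := hfin n
  have hLinj : Function.Injective L :=
    (LinearMap.injective_iff_surjective_of_finrank_eq_finrank hfr).mpr hLsurj
  have : (⟨p, (mem_homogeneousSubmodule n p).mpr hp⟩ :
      ↥(homogeneousSubmodule (Fin (s + 1)) K n)) = 0 := by
    apply hLinj
    rw [map_zero]
    exact Subtype.ext hp0
  exact congrArg Subtype.val this

end Groth.Agent.Helper7.GrPolyQ
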