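import Mathlib
import Groth.Prelude.Def_GrLC
import Groth.Agent.Helper7.GrPolyQ1
import Groth.Agent.Helper7.GrPolyQ2
import Groth.Agent.Helper7.GrEC3

/-!
# Lengths of the pieces over the degree-zero subring versus dimensions over a field mapping onto it
-/

set_option autoImplicit false
set_option linter.unusedSectionVars false

namespace Groth.Agent.Helper7.GrPolyQ

open DirectSum MvPolynomial

universe u

variable (K : Type u) [Field K] {R : Type u} [CommRing R] [Algebra K R]
  (𝒜 : ℤ → AddSubgroup R) [GradedRing 𝒜]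
  (hK : ∀ x : R, x ∈ 𝒜 0 ↔ x ∈ Set.range (algebraMap K R))

/-- the map from the field onto the degree-zero subring -/
def toDeg0 : K →+* GrLC.deg0 𝒜 :=
  (algebraMap K R).codRestrict (GrLC.deg0 𝒜) (fun c => (hK _).mpr ⟨c, rfl⟩)

theorem toDeg0_coe (c : K) : ((toDeg0 K 𝒜 hK c : GrLC.deg0 𝒜) : R) = algebraMap K R c := rfl

theorem toDeg0_surjective : Function.Surjective (toDeg0 K 𝒜 hK) := by
  intro z
  obtain ⟨c, hc⟩ := (hK z.1).mp z.2
  exact ⟨c, Subtype.ext hc⟩

include hK in
/-- the degree-zero subring is Artinian -/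
theorem isArtinianRing_deg0 : IsArtinianRing (GrLC.deg0 𝒜) :=
  (toDeg0_surjective K 𝒜 hK).isArtinianRing

/-- the length over the degree-zero subring is the length over the field -/
theorem length_comp_eq_length (n : ℤ) :
    Module.length (GrLC.deg0 𝒜) (GrLC.comp 𝒜 𝒜 n) = Module.length K (compK K 𝒜 hK n) := by
  let _ : Algebra K (GrLC.deg0 𝒜) := (toDeg0 K 𝒜 hK).toAlgebra
  let _ : Module K ↥(GrLC.comp 𝒜 𝒜 n) := Module.compHom _ (toDeg0 K 𝒜 hK)
  have : IsScalarTower K (GrLC.deg0 𝒜) ↥(GrLC.comp 𝒜 𝒜 n) :=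
    ⟨fun a b c => by
      show (toDeg0 K 𝒜 hK a * b) • c = toDeg0 K 𝒜 hK a • (b • c)
      rw [mul_smul]⟩
  have h1 := Module.length_eq_of_surjective (S := K) (R := GrLC.deg0 𝒜)
    (M := ↥(GrLC.comp 𝒜 𝒜 n)) (toDeg0_surjective K 𝒜 hK)
  let e : ↥(GrLC.comp 𝒜 𝒜 n) ≃ₗ[K] ↥(compK K 𝒜 hK n) :=
    { toFun := fun x => ⟨x.1, x.2⟩
      invFun := fun x => ⟨x.1, x.2⟩
      left_inv := fun x => rfl
      right_inv := fun x => rfl
      map_add' := fun x y => rfl
      map_smul' := fun c x => by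
        apply Subtype.ext
        show ((toDeg0 K 𝒜 hK c : GrLC.deg0 𝒜) : R) • (x : R) = c • (x : R)
        rw [toDeg0_coe, smul_eq_mul, Algebra.smul_def] }
  rw [← h1, e.length_eq]

variable (hpos : ∀ n : ℤ, n < 0 → 𝒜 n = ⊥)

include hpos in
/-- the pieces are finite dimensional -/
theorem finite_compK [IsNoetherianRing R] (n : ℤ) : Module.Finite K (compK K 𝒜 hK n) := by
  have := isArtinianRing_deg0 K 𝒜 hK
  have h1 := Groth.Agent.Helper7.GrEC.length_comp_ne_top 𝒜 hpos (H := R) 𝒜 n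
  rw [length_comp_eq_length K 𝒜 hK n] at h1
  have h2 := (isFiniteLength_iff_isNoetherian_isArtinian.mp (Module.length_ne_top_iff.mp h1)).1
  infer_instance

include hpos in
/-- the Hilbert function as a dimension -/
theorem length_comp_eq_finrank [IsNoetherianRing R] (n : ℤ) :
    (Module.length (GrLC.deg0 𝒜) (GrLC.comp 𝒜 𝒜 n)).toNat =
      Module.finrank K (compK K 𝒜 hK n) := by
  have := finite_compK K 𝒜 hK hpos n
  rw [length_comp_eq_length K 𝒜 hK n, Module.length_eq_finrank]
  simp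

/-- the Hilbert function of the ring -/
noncomputable def hilbR (n : ℤ) : ℚ :=
  ((Module.length (GrLC.deg0 𝒜) (GrLC.comp 𝒜 𝒜 n)).toNat : ℚ)

include hpos in
theorem hilbR_eq_finrank [IsNoetherianRing R] (n : ℤ) :
    hilbR 𝒜 n = (Module.finrank K (compK K 𝒜 hK n) : ℚ) := by
  unfold hilbR
  rw [length_comp_eq_finrank K 𝒜 hK hpos n]

include hpos in
theorem eq_zero_of_neg (n : ℤ) (hn : n < 0) (w : R) (hw : w ∈ 𝒜 n) : w = 0 := by
  rw [hpos n hn] at hw
  exact AddSubgroup.mem_bot.mp hw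

include hpos in
theorem hilbR_neg (n : ℤ) (hn : n < 0) : hilbR 𝒜 n = 0 := by
  unfold hilbR
  have hss : Subsingleton ↥(GrLC.comp 𝒜 𝒜 n) := by
    refine ⟨fun x y => Subtype.ext ?_⟩
    have hx : (x : R) ∈ 𝒜 n := x.2
    have hy : (y : R) ∈ 𝒜 n := y.2
    rw [eq_zero_of_neg 𝒜 hpos n hn _ hx, eq_zero_of_neg 𝒜 hpos n hn _ hy]
  rw [Module.length_eq_zero_iff.mpr hss]
  simp

/-- the piece of degree zero has dimension one -/
theorem finrank_compK_zero [Nontrivial R] : Module.finrank K (compK K 𝒜 hK 0) = 1 := by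
  let f : K →ₗ[K] ↥(compK K 𝒜 hK 0) :=
    { toFun := fun c => (⟨algebraMap K R c, (hK _).mpr ⟨c, rfl⟩⟩ : ↥(compK K 𝒜 hK 0))
      map_add' := fun a b => Subtype.ext (map_add _ a b)
      map_smul' := fun a b => by
        apply Subtype.ext
        show algebraMap K R (a • b) = a • algebraMap K R b
        rw [smul_eq_mul, map_mul, Algebra.smul_def] }
  let e : K ≃ₗ[K] ↥(compK K 𝒜 hK 0) := LinearEquiv.ofBijective f
    ⟨fun a b h => (algebraMap K R).injective (congrArg Subtype.val h),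
      fun z => by
        obtain ⟨c, hc⟩ := (hK z.1).mp z.2
        exact ⟨c, Subtype.ext hc⟩⟩
  rw [← e.finrank_eq, Module.finrank_self]

include hK

include hpos in
/-- if the pieces of positive degree vanish, the ring is the field -/
theorem exists_equiv_zero [IsNoetherianRing R] [Nontrivial R]
    (h : ∀ n : ℤ, 0 < n → hilbR 𝒜 n = 0) : Nonempty (R ≃+* MvPolynomial (Fin 0) K) := by
  classical
  have hz : ∀ n : ℤ, n ≠ 0 → ∀ w : R, w ∈ 𝒜 n → w = 0 := by
    intro n hn w hw
    rcases lt_or_gt_of_ne hn with h1 | h1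
    · exact eq_zero_of_neg 𝒜 hpos n h1 w hw
    · have h2 := h n h1
      rw [hilbR_eq_finrank K 𝒜 hK hpos n] at h2
      have h3 : Module.finrank K (compK K 𝒜 hK n) = 0 := by exact_mod_cast h2
      have := finite_compK K 𝒜 hK hpos n
      have h4 : Subsingleton ↥(compK K 𝒜 hK n) := Module.finrank_zero_iff.mp h3
      have := h4.elim (⟨w, hw⟩ : ↥(compK K 𝒜 hK n)) 0
      exact congrArg Subtype.val this
  have hsurj : Function.Surjective (algebraMap K R) := by
    intro z
    have h1 : z = (decompose 𝒜 z 0 : R) := by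
      conv_lhs => rw [← DirectSum.sum_support_decompose 𝒜 z]
      apply Finset.sum_eq_single
      · intro j _ hj
        exact hz j hj _ (SetLike.coe_mem _)
      · intro h0
        rw [DFinsupp.notMem_support_iff] at h0
        rw [h0]
        rfl
    obtain ⟨c, hc⟩ := (hK _).mp (SetLike.coe_mem (decompose 𝒜 z 0))
    exact ⟨c, by rw [hc, ← h1]⟩
  let e1 : K ≃+* R := RingEquiv.ofBijective (algebraMap K R) ⟨(algebraMap K R).injective, hsurj⟩
  exact ⟨e1.symm.trans (MvPolynomial.isEmptyRingEquiv K (Fin 0)).symm⟩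

variable (hstd : Ideal.span (⋃ n ∈ Set.Ioi (0 : ℤ), (𝒜 n : Set R)) =
    Ideal.span ((𝒜 1 : AddSubgroup R) : Set R))

include hpos hstd in
/-- if the Hilbert function is that of a polynomial ring, the ring is a polynomial ring -/
theorem exists_equiv_succ [IsNoetherianRing R] [Nontrivial R] (s : ℕ)
    (h : ∀ n : ℕ, hilbR 𝒜 (n : ℤ) = ((n + s).choose s : ℚ)) :
    Nonempty (R ≃+* MvPolynomial (Fin (s + 1)) K) := by
  have hH : ∀ n : ℕ, Module.finrank K (compK K 𝒜 hK (n : ℤ)) = (n + s).choose s := by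
    intro n
    have h2 := h n
    rw [hilbR_eq_finrank K 𝒜 hK hpos] at h2
    exact_mod_cast h2
  obtain ⟨y, -, hbij⟩ := exists_aeval_bijective K 𝒜 hK hstd hpos s
    (fun n => finite_compK K 𝒜 hK hpos n) hH
  exact ⟨(RingEquiv.ofBijective (aeval y : MvPolynomial (Fin (s + 1)) K →ₐ[K] R) hbij).symm⟩

include hpos hstd in
/-- the forward direction: if the Hilbert polynomial, of degree `< r`, agrees with the Hilbert
function in all degrees `> -r`, then the ring is a polynomial ring in `r` variables -/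
theorem exists_equiv_of_hilb [IsNoetherianRing R] [Nontrivial R] (r : ℕ) (P : Polynomial ℚ)
    (hdeg : P.degree < (r : WithBot ℕ))
    (hPH : ∀ n : ℤ, -(r : ℤ) < n → P.eval (n : ℚ) = hilbR 𝒜 n) :
    Nonempty (R ≃+* MvPolynomial (Fin r) K) := by
  cases r with
  | zero =>
    have hP0 : P = 0 := by
      rw [← Polynomial.degree_eq_bot]
      exact Nat.WithBot.lt_zero_iff.mp hdeg
    apply exists_equiv_zero K 𝒜 hK hpos
    intro n hn
    rw [← hPH n (by simpa using hn), hP0, Polynomial.eval_zero]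
  | succ s =>
    have h0 : P.eval 0 = 1 := by
      have h1 := hPH 0 (by simp; omega)
      rw [hilbR_eq_finrank K 𝒜 hK hpos, finrank_compK_zero K 𝒜 hK] at h1
      simpa using h1
    have hneg : ∀ j : ℕ, 1 ≤ j → j ≤ s → P.eval (-(j : ℚ)) = 0 := by
      intro j hj1 hj2
      have h1 := hPH (-(j : ℤ)) (by push_cast; omega)
      rw [hilbR_neg 𝒜 hpos _ (by omega)] at h1
      rw [← h1]
      push_cast
      rfl
    have hPQ := eq_Qs s P hdeg h0 hneg
    apply exists_equiv_succ K 𝒜 hK hpos hstd s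
    intro n
    rw [← hPH n (by push_cast; omega), hPQ]
    exact_mod_cast eval_Qs_nat s n

end Groth.Agent.Helper7.GrPolyQ
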