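import Mathlib
import Groth.Prelude.Def_GrLC
import Groth.Agent.Helper7.GrPolyQ3
import Groth.Agent.Helper7.GrHt1

/-!
# A regular standard graded algebra over a field is generated by `dim R` elements of degree one
-/

set_option autoImplicit false
set_option linter.unusedSectionVars false

namespace Groth.Agent.Helper7.GrPolyQ

open DirectSum MvPolynomial

universe u

/-- enumerate a finite set of at most `r` elements by `Fin r`, padding with zeros -/
theorem exists_fin_enum {R : Type u} [Zero R] (t : Finset R) (r : ℕ) (h : t.card ≤ r) :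
    ∃ f : Fin r → R, (∀ i, f i ∈ t ∨ f i = 0) ∧ ∀ a ∈ t, a ∈ Set.range f := by
  classical
  let e := t.equivFin
  refine ⟨fun i => if hi : i.val < t.card then ((e.symm ⟨i.val, hi⟩ : t) : R) else 0, ?_, ?_⟩
  · intro i
    by_cases hi : i.val < t.card
    · left
      simp only [hi, dif_pos]
      exact (e.symm ⟨i.val, hi⟩).2
    · right
      simp only [hi, dif_neg, not_false_eq_true]
  · intro a ha
    refine ⟨Fin.castLE h (e ⟨a, ha⟩), ?_⟩
    have hi : (Fin.castLE h (e ⟨a, ha⟩)).val < t.card := (e ⟨a, ha⟩).2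
    simp only [hi, dif_pos]
    have : (⟨(Fin.castLE h (e ⟨a, ha⟩)).val, hi⟩ : Fin t.card) = e ⟨a, ha⟩ := Fin.ext rfl
    rw [this, Equiv.symm_apply_apply]

variable (K : Type u) [Field K] {R : Type u} [CommRing R] [Algebra K R]
  (𝒜 : ℤ → AddSubgroup R) [GradedRing 𝒜]
  (hK : ∀ x : R, x ∈ 𝒜 0 ↔ x ∈ Set.range (algebraMap K R))
  (hpos : ∀ n : ℤ, n < 0 → 𝒜 n = ⊥)
  (m : HomogeneousIdeal 𝒜) (hm : GrLC.IsStarLocal 𝒜 m)
  (hmsp : m.toIdeal = Ideal.span (⋃ n ∈ Set.Ioi (0 : ℤ), (𝒜 n : Set R)))

include hpos in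
/-- the degree-one component of a product with an element without constant term -/
theorem coe_decompose_one_mul (c a : R) (ha0 : (decompose 𝒜 a 0 : R) = 0) :
    (decompose 𝒜 (c * a) 1 : R) = (decompose 𝒜 c 0 : R) * (decompose 𝒜 a 1 : R) := by
  classical
  have h1 : c * a = ∑ j ∈ (decompose 𝒜 a).support, c * (decompose 𝒜 a j : R) := by
    conv_lhs => rw [← DirectSum.sum_support_decompose 𝒜 a]
    rw [Finset.mul_sum]
  rw [h1, decompose_sum, DFinsupp.finsetSum_apply, AddSubmonoidClass.coe_finsetSum]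
  have hterm : ∀ j : ℤ, (decompose 𝒜 (c * (decompose 𝒜 a j : R)) 1 : R) =
      (decompose 𝒜 c (1 - j) : R) * (decompose 𝒜 a j : R) := by
    intro j
    have h := DirectSum.coe_decompose_mul_add_of_right_mem 𝒜 (a := c) (i := 1 - j)
      (SetLike.coe_mem (decompose 𝒜 a j))
    rwa [sub_add_cancel] at h
  simp only [hterm]
  rw [Finset.sum_eq_single (1 : ℤ)]
  · rw [sub_self]
  · intro j _ hj
    rcases lt_trichotomy j 0 with h | h | h
    · rw [eq_zero_of_neg 𝒜 hpos j h _ (SetLike.coe_mem _), mul_zero]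
    · rw [h, ha0, mul_zero]
    · have h2 : 1 - j < 0 := by omega
      rw [eq_zero_of_neg 𝒜 hpos (1 - j) h2 _ (SetLike.coe_mem _), zero_mul]
  · intro h
    rw [DFinsupp.notMem_support_iff] at h
    rw [h]
    simp

include hK hpos hmsp in
/-- the constant term of an element outside the irrelevant ideal is a unit -/
theorem exists_const_of_notMem (u : R) (hu : u ∉ m.toIdeal) :
    ∃ k : K, k ≠ 0 ∧ algebraMap K R k = (decompose 𝒜 u 0 : R) := by
  classical
  obtain ⟨k, hk⟩ := (hK _).mp (SetLike.coe_mem (decompose 𝒜 u 0))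
  refine ⟨k, ?_, hk⟩
  rintro rfl
  apply hu
  rw [map_zero] at hk
  rw [← DirectSum.sum_support_decompose 𝒜 u]
  refine Ideal.sum_mem _ fun j _ => ?_
  rcases lt_trichotomy j 0 with h | h | h
  · rw [eq_zero_of_neg 𝒜 hpos j h _ (SetLike.coe_mem _)]
    exact Ideal.zero_mem _
  · rw [h, ← hk]
    exact Ideal.zero_mem _
  · rw [hmsp]
    apply Ideal.subset_span
    simp only [Set.mem_iUnion, Set.mem_Ioi, SetLike.mem_coe, exists_prop]
    exact ⟨j, h, SetLike.coe_mem _⟩

include hK hpos hm hmsp in
/-- if `R` is regular of dimension `r`, the piece of degree one is spanned by `r` elements -/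
theorem exists_gens [IsRegularRing R] (r : ℕ) (hr : ringKrullDim R = r) :
    ∃ b : Fin r → R, (∀ i, b i ∈ 𝒜 1) ∧ ∀ z ∈ 𝒜 1, z ∈ Submodule.span K (Set.range b) := by
  classical
  have hNoeth : IsNoetherianRing R := inferInstance
  have := isArtinianRing_deg0 K 𝒜 hK
  have hmax : m.toIdeal.IsMaximal := Groth.Agent.Helper7.GrStarLoc.isMaximal 𝒜 hpos m hm.1
  have hmp : m.toIdeal.IsPrime := hmax.isPrime
  have hht : m.toIdeal.height = r := Groth.Agent.Helper7.GrHt.height_eq_dim 𝒜 hpos m hm r hr
  let S := Localization.AtPrime m.toIdeal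
  have hreg : IsRegularLocalRing S := inferInstance
  have hdim : ringKrullDim S = r := by
    rw [IsLocalization.AtPrime.ringKrullDim_eq_height m.toIdeal S, hht]
    rfl
  have hsf : (IsLocalRing.maximalIdeal S).spanFinrank = r := by
    have h1 := hreg.spanFinrank_maximalIdeal
    rw [hdim] at h1
    exact_mod_cast h1
  have hfg : (IsLocalRing.maximalIdeal S).FG :=
    (isNoetherianRing_iff_ideal_fg S).mp inferInstance _
  obtain ⟨s, hscard, hsspan⟩ := Submodule.FG.exists_span_finset_card_eq_spanFinrank hfg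
  -- numerators and denominators
  let num : S → R := fun g => (IsLocalization.sec m.toIdeal.primeCompl g).1
  let den : S → m.toIdeal.primeCompl := fun g => (IsLocalization.sec m.toIdeal.primeCompl g).2
  have hsec : ∀ g : S, g * algebraMap R S (den g) = algebraMap R S (num g) :=
    fun g => IsLocalization.sec_spec _ g
  let t : Finset R := s.image num
  have htcard : t.card ≤ r := by
    rw [← hsf, ← hscard]
    exact Finset.card_image_le
  have hsmem : ∀ g ∈ s, g ∈ IsLocalRing.maximalIdeal S := by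
    intro g hg
    rw [← hsspan]
    exact Submodule.subset_span hg
  have htm : ∀ a ∈ t, a ∈ m.toIdeal := by
    intro a ha
    obtain ⟨g, hg, rfl⟩ := Finset.mem_image.mp ha
    rw [← IsLocalization.AtPrime.to_map_mem_maximal_iff S m.toIdeal, ← hsec g]
    exact Ideal.mul_mem_right _ _ (hsmem g hg)
  have hle : IsLocalRing.maximalIdeal S ≤
      Ideal.map (algebraMap R S) (Ideal.span (t : Set R)) := by
    rw [← hsspan]
    apply Submodule.span_le.mpr
    intro g hg
    obtain ⟨v, hv⟩ := IsLocalization.map_units S (den g)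
    have hg2 : g = algebraMap R S (num g) * ↑v⁻¹ := by
      rw [← hsec g, ← hv, mul_assoc, Units.mul_inv, mul_one]
    rw [SetLike.mem_coe, hg2]
    exact Ideal.mul_mem_right _ _
      (Ideal.mem_map_of_mem _ (Ideal.subset_span (Finset.mem_image_of_mem _ hg)))
  -- the degree-one components of the numerators
  let t' : Finset R := t.image (fun a => (decompose 𝒜 a 1 : R))
  have ht'card : t'.card ≤ r := Finset.card_image_le.trans htcard
  have hspan1 : ∀ z ∈ 𝒜 1, z ∈ Submodule.span K (t' : Set R) := by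
    intro z hz
    have hzm : z ∈ m.toIdeal := by
      rw [hmsp]
      apply Ideal.subset_span
      simp only [Set.mem_iUnion, Set.mem_Ioi, SetLike.mem_coe, exists_prop]
      exact ⟨1, one_pos, hz⟩
    have h1 : algebraMap R S z ∈ Ideal.map (algebraMap R S) (Ideal.span (t : Set R)) := by
      apply hle
      rw [IsLocalization.AtPrime.to_map_mem_maximal_iff S m.toIdeal]
      exact hzm
    obtain ⟨u, hu, huz⟩ :=
      (IsLocalization.algebraMap_mem_map_algebraMap_iff m.toIdeal.primeCompl S _ z).mp h1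
    obtain ⟨c, -, hc⟩ := Submodule.mem_span_finset.mp huz
    obtain ⟨k, hk0, hk⟩ := exists_const_of_notMem K 𝒜 hK hpos m hmsp u hu
    -- take the components of degree one
    have h2 : (decompose 𝒜 (u * z) 1 : R) = (decompose 𝒜 u 0 : R) * z := by
      have h := DirectSum.coe_decompose_mul_add_of_right_mem 𝒜 (a := u) (i := 0) hz
      rwa [zero_add] at h
    have h3 : (decompose 𝒜 (u * z) 1 : R) =
        ∑ a ∈ t, (decompose 𝒜 (c a) 0 : R) * (decompose 𝒜 a 1 : R) := by
      rw [← hc, decompose_sum, DFinsupp.finsetSum_apply, AddSubmonoidClass.coe_finsetSum]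
      refine Finset.sum_congr rfl fun a ha => ?_
      rw [smul_eq_mul]
      exact coe_decompose_one_mul 𝒜 hpos (c a) a
        (Groth.Agent.Helper7.GrEC.decompose_zero_of_mem_irrel 𝒜 hpos m hmsp a (htm a ha))
    have hκ : ∀ a : R, ∃ κ : K, algebraMap K R κ = (decompose 𝒜 (c a) 0 : R) :=
      fun a => (hK _).mp (SetLike.coe_mem (decompose 𝒜 (c a) 0))
    choose κ hκ' using hκ
    have h4 : z = k⁻¹ • ∑ a ∈ t, κ a • (decompose 𝒜 a 1 : R) := by
      have h5 : k • z = ∑ a ∈ t, κ a • (decompose 𝒜 a 1 : R) := by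
        rw [Algebra.smul_def, hk, ← h2, h3]
        refine Finset.sum_congr rfl fun a _ => ?_
        rw [Algebra.smul_def, hκ']
      rw [← h5, smul_smul, inv_mul_cancel₀ hk0, one_smul]
    rw [h4]
    refine Submodule.smul_mem _ _ (Submodule.sum_mem _ fun a ha => ?_)
    exact Submodule.smul_mem _ _ (Submodule.subset_span (Finset.mem_image_of_mem _ ha))
  obtain ⟨b, hb1, hb2⟩ := exists_fin_enum t' r ht'card
  refine ⟨b, ?_, ?_⟩
  · intro i
    rcases hb1 i with h | h
    · obtain ⟨a, -, ha⟩ := Finset.mem_image.mp h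
      rw [← ha]
      exact SetLike.coe_mem _
    · rw [h]
      exact zero_mem _
  · intro z hz
    exact Submodule.span_mono (fun a ha => hb2 a ha) (hspan1 z hz)

end Groth.Agent.Helper7.GrPolyQ
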