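import Mathlib
import Groth.Prelude.Def_GrLC
import Groth.Agent.Helper7.GrPolyQ4

/-!
# The Hilbert function of a regular standard graded algebra over a field
-/

set_option autoImplicit false
set_option linter.unusedSectionVars false

namespace Groth.Agent.Helper7.GrPolyQ

open DirectSum MvPolynomial

universe u

variable (K : Type u) [Field K] {R : Type u} [CommRing R] [Algebra K R]
  (𝒜 : ℤ → AddSubgroup R) [GradedRing 𝒜]
  (hK : ∀ x : R, x ∈ 𝒜 0 ↔ x ∈ Set.range (algebraMap K R))
  (hpos : ∀ n : ℤ, n < 0 → 𝒜 n = ⊥)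
  (m : HomogeneousIdeal 𝒜) (hm : GrLC.IsStarLocal 𝒜 m)
  (hmsp : m.toIdeal = Ideal.span (⋃ n ∈ Set.Ioi (0 : ℤ), (𝒜 n : Set R)))
  (hstd : Ideal.span (⋃ n ∈ Set.Ioi (0 : ℤ), (𝒜 n : Set R)) =
    Ideal.span ((𝒜 1 : AddSubgroup R) : Set R))

/-- a surjection from a polynomial ring in `dim R` variables over a field onto `R` is injective -/
theorem injective_of_dim {r : ℕ} (hr : ringKrullDim R = r)
    (φ : MvPolynomial (Fin r) K →ₐ[K] R) (hφ : Function.Surjective φ) :
    Function.Injective φ := by
  rw [injective_iff_map_eq_zero]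
  intro p hp
  by_contra hp0
  have hnzd : p ∈ nonZeroDivisors (MvPolynomial (Fin r) K) := mem_nonZeroDivisors_of_ne_zero hp0
  have h1 := ringKrullDim_quotient_succ_le_of_nonZeroDivisor hnzd
  have h2 : ringKrullDim (MvPolynomial (Fin r) K) = r := by
    rw [MvPolynomial.ringKrullDim_of_isNoetherianRing, ringKrullDim_eq_zero_of_field]
    simp
  let ψ : MvPolynomial (Fin r) K ⧸ Ideal.span {p} →+* R :=
    Ideal.Quotient.lift (Ideal.span {p}) φ.toRingHom (by
      intro a ha
      obtain ⟨c, rfl⟩ := Ideal.mem_span_singleton'.mp ha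
      show φ (c * p) = 0
      rw [map_mul, hp, mul_zero])
  have hψ : Function.Surjective ψ := by
    intro z
    obtain ⟨q, hq⟩ := hφ z
    exact ⟨Ideal.Quotient.mk _ q, by rw [Ideal.Quotient.lift_mk]; exact hq⟩
  have h3 := ringKrullDim_le_of_surjective ψ hψ
  rw [hr] at h3
  rw [h2] at h1
  have h4 : ((r : ℕ) : WithBot ℕ∞) + 1 ≤ (r : ℕ) := le_trans (by gcongr) h1
  have h5 : ((r + 1 : ℕ) : WithBot ℕ∞) ≤ (r : ℕ) := by
    push_cast
    exact h4
  have h6 : r + 1 ≤ r := by exact_mod_cast h5
  omega

variable {r : ℕ} (y : Fin r → R) (hy : ∀ i, y i ∈ 𝒜 1)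
  (hspan : ∀ z ∈ 𝒜 1, z ∈ Submodule.span K (Set.range y))

include hy hstd hspan in
/-- if the graded surjection from the polynomial ring is injective, the Hilbert functions agree -/
theorem finrank_compK_of_injective
    (hinj : Function.Injective (aeval y : MvPolynomial (Fin r) K → R)) (n : ℕ) :
    Module.finrank K (compK K 𝒜 hK (n : ℤ)) =
      Module.finrank K ↥(homogeneousSubmodule (Fin r) K n) := by
  let L : ↥(homogeneousSubmodule (Fin r) K n) →ₗ[K] ↥(compK K 𝒜 hK (n : ℤ)) :=
    ((aeval y : MvPolynomial (Fin r) K →ₐ[K] R).toLinearMap.restrict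
      (p := homogeneousSubmodule (Fin r) K n) (q := compK K 𝒜 hK (n : ℤ))
      (fun q hq => aeval_mem K 𝒜 hK y hy q n ((mem_homogeneousSubmodule n q).mp hq)))
  have hLsurj : Function.Surjective L := by
    intro z
    obtain ⟨q, hq, hqz⟩ := exists_homog K 𝒜 hK y hstd hspan n z.1 z.2
    exact ⟨⟨q, (mem_homogeneousSubmodule n q).mpr hq⟩, Subtype.ext hqz⟩
  have hLinj : Function.Injective L := by
    intro a c hac
    apply Subtype.ext
    apply hinj
    exact congrArg Subtype.val hac
  exact (LinearEquiv.ofBijective L ⟨hLinj, hLsurj⟩).finrank_eq.symm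

/-- there are no homogeneous polynomials of positive degree in no variables -/
theorem finrank_homog_zero (n : ℕ) (hn : 0 < n) :
    Module.finrank K ↥(homogeneousSubmodule (Fin 0) K n) = 0 := by
  have h : homogeneousSubmodule (Fin 0) K n = ⊥ := by
    rw [eq_bot_iff]
    intro p hp
    rw [mem_homogeneousSubmodule] at hp
    rw [Submodule.mem_bot]
    ext d
    rw [coeff_zero]
    by_contra hd
    have h1 := hp hd
    have h2 : d = 0 := Subsingleton.elim _ _
    rw [h2] at h1
    simp at h1
    omega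
  rw [h, finrank_bot]

include hK hpos hm hmsp hstd in
/-- the Hilbert function of a regular standard graded algebra of dimension `r` over a field is that
of the polynomial ring in `r` variables -/
theorem hilbR_of_regular [IsRegularRing R] (r : ℕ) (hr : ringKrullDim R = r) (n : ℕ) :
    hilbR 𝒜 (n : ℤ) = (Module.finrank K ↥(homogeneousSubmodule (Fin r) K n) : ℚ) := by
  have hNoeth : IsNoetherianRing R := inferInstance
  obtain ⟨b, hb, hspan⟩ := exists_gens K 𝒜 hK hpos m hm hmsp r hr
  have hsurj := aeval_surjective K 𝒜 hK b hstd hspan hpos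
  have hinj := injective_of_dim K hr (aeval b) hsurj
  rw [hilbR_eq_finrank K 𝒜 hK hpos, finrank_compK_of_injective K 𝒜 hK hstd b hb hspan hinj n]

include hK hpos hm hmsp hstd in
/-- the backward direction: for a regular standard graded algebra of dimension `r` over a field,
the Hilbert polynomial agrees with the Hilbert function in all degrees `> -r` -/
theorem hilb_of_regular [IsRegularRing R] (r : ℕ) (hr : ringKrullDim R = r) (P : Polynomial ℚ)
    (hP : ∃ N : ℤ, ∀ n : ℤ, N ≤ n → P.eval (n : ℚ) = hilbR 𝒜 n) :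
    ∀ n : ℤ, -(r : ℤ) < n → P.eval (n : ℚ) = hilbR 𝒜 n := by
  obtain ⟨N, hN⟩ := hP
  have hH := hilbR_of_regular K 𝒜 hK hpos m hm hmsp hstd r hr
  -- the polynomial with the same values
  have key : ∀ Q : Polynomial ℚ, (∀ n : ℕ, 0 < n → Q.eval (n : ℚ) = hilbR 𝒜 (n : ℤ)) → P = Q := by
    intro Q hQ
    apply Polynomial.eq_of_infinite_eval_eq
    refine Set.infinite_of_injective_forall_mem
      (f := fun k : ℕ => (((k + 1 + N.toNat : ℕ) : ℤ) : ℚ)) ?_ ?_
    · intro a c hac
      have hac' : (((a + 1 + N.toNat : ℕ) : ℤ) : ℚ) = (((c + 1 + N.toNat : ℕ) : ℤ) : ℚ) := hac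
      have : a + 1 + N.toNat = c + 1 + N.toNat := by exact_mod_cast hac'
      omega
    · intro k
      show P.eval _ = Q.eval _
      rw [hN _ (by omega)]
      have := hQ (k + 1 + N.toNat) (by omega)
      rw [← this]
      push_cast
      rfl
  cases r with
  | zero =>
    have hP0 : P = 0 := by
      apply key
      intro n hn
      rw [Polynomial.eval_zero, hH n, finrank_homog_zero K n hn]
      simp
    intro n hn
    have hn' : 0 < n := by simpa using hn
    obtain ⟨k, rfl⟩ := Int.eq_ofNat_of_zero_le hn'.le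
    rw [hP0, Polynomial.eval_zero, hH k, finrank_homog_zero K k (by exact_mod_cast hn')]
    simp
  | succ s =>
    have hPQ : P = Qs s := by
      apply key
      intro n _
      rw [hH n, Groth.Agent.Helper6.HomogRank.finrank_homogeneousSubmodule]
      exact eval_Qs_nat s n
    intro n hn
    rcases lt_or_ge n 0 with h | h
    · rw [hilbR_neg 𝒜 hpos n h, hPQ]
      have hj : n = -((-n).toNat : ℤ) := by omega
      rw [hj]
      push_cast
      apply eval_Qs_neg s (-n).toNat
      · omega
      · push_cast at hn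
        omega
    · obtain ⟨k, rfl⟩ := Int.eq_ofNat_of_zero_le h
      rw [hPQ, hH k, Groth.Agent.Helper6.HomogRank.finrank_homogeneousSubmodule]
      exact eval_Qs_nat s k

end Groth.Agent.Helper7.GrPolyQ
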