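import Mathlib
import Groth.Prelude.Def_GrLC
import Groth.Agent.Helper7.GrPolyQ5

/-!
# Characterisation of polynomial rings among standard graded algebras over a field by the Hilbert
function
-/

set_option autoImplicit false
set_option linter.unusedSectionVars false

namespace Groth.Agent.Helper7.GrPolyQ

open DirectSum MvPolynomial

universe u

section Abs

variable (K : Type u) [Field K] {R : Type u} [CommRing R] [Algebra K R]
  (𝒜 : ℤ → AddSubgroup R) [GradedRing 𝒜]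
  (hK : ∀ x : R, x ∈ 𝒜 0 ↔ x ∈ Set.range (algebraMap K R))
  (hpos : ∀ n : ℤ, n < 0 → 𝒜 n = ⊥)
  (m : HomogeneousIdeal 𝒜) (hm : GrLC.IsStarLocal 𝒜 m)
  (hmsp : m.toIdeal = Ideal.span (⋃ n ∈ Set.Ioi (0 : ℤ), (𝒜 n : Set R)))
  (hstd : Ideal.span (⋃ n ∈ Set.Ioi (0 : ℤ), (𝒜 n : Set R)) =
    Ideal.span ((𝒜 1 : AddSubgroup R) : Set R))

include hK hpos hm hmsp hstd in
/-- a standard graded Noetherian algebra of dimension `r` over a field `K = R_0` is a polynomial
ring in `r` variables over `K` if and only if its Hilbert polynomial agrees with its Hilbert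
function in all degrees `> -r` -/
theorem main_abs [IsNoetherianRing R] (r : ℕ) (hr : ringKrullDim R = r) (P : Polynomial ℚ)
    (hdeg : P.degree < (r : WithBot ℕ))
    (hP : ∃ N : ℤ, ∀ n : ℤ, N ≤ n → P.eval (n : ℚ) = hilbR 𝒜 n) :
    (∀ n : ℤ, -(r : ℤ) < n → P.eval (n : ℚ) = hilbR 𝒜 n) ↔
      Nonempty (R ≃+* MvPolynomial (Fin r) K) := by
  have hnt : Nontrivial R := by
    by_contra h
    rw [not_nontrivial_iff_subsingleton] at h
    rw [ringKrullDim_eq_bot_of_subsingleton] at hr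
    exact WithBot.bot_ne_coe hr
  constructor
  · intro h
    exact exists_equiv_of_hilb K 𝒜 hK hpos hstd r P hdeg h
  · rintro ⟨e⟩
    have : IsRegularRing R := IsRegularRing.of_ringEquiv e.symm
    exact hilb_of_regular K 𝒜 hK hpos m hm hmsp hstd r hr P hP

end Abs

section Conc

variable {R : Type u} [CommRing R]
  (𝒜 : ℤ → AddSubgroup R) [GradedRing 𝒜]
  (hpos : ∀ n : ℤ, n < 0 → 𝒜 n = ⊥)
  (h0 : IsField (GrLC.deg0 𝒜))
  (m : HomogeneousIdeal 𝒜) (hm : GrLC.IsStarLocal 𝒜 m)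
  (hmsp : m.toIdeal = Ideal.span (⋃ n ∈ Set.Ioi (0 : ℤ), (𝒜 n : Set R)))
  (hstd : Ideal.span (⋃ n ∈ Set.Ioi (0 : ℤ), (𝒜 n : Set R)) =
    Ideal.span ((𝒜 1 : AddSubgroup R) : Set R))

include h0 in
/-- a field is Artinian (for the ring structure of the degree-zero subring) -/
theorem isArtinianRing_of_isField : IsArtinianRing (GrLC.deg0 𝒜) := by
  have hK : ∀ x : R, x ∈ 𝒜 0 ↔ x ∈ Set.range (algebraMap (GrLC.deg0 𝒜) R) := by
    intro x
    constructor
    · intro hx
      exact ⟨⟨x, hx⟩, rfl⟩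
    · rintro ⟨z, rfl⟩
      exact z.2
  exact @isArtinianRing_deg0 (GrLC.deg0 𝒜) h0.toField R _ (inferInstance : Algebra (GrLC.deg0 𝒜) R)
    𝒜 _ hK

include hpos h0 hm hmsp hstd in
/-- a standard graded Noetherian ring of dimension `r` over the field `R_0` is a polynomial ring in
`r` variables over `R_0` if and only if its Hilbert polynomial agrees with its Hilbert function in
all degrees `> -r` -/
theorem main_conc [IsNoetherianRing R] (r : ℕ) (hr : ringKrullDim R = r) (P : Polynomial ℚ)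
    (hdeg : P.degree < (r : WithBot ℕ))
    (hP : ∃ N : ℤ, ∀ n : ℤ, N ≤ n → P.eval (n : ℚ) = hilbR 𝒜 n) :
    (∀ n : ℤ, -(r : ℤ) < n → P.eval (n : ℚ) = hilbR 𝒜 n) ↔
      Nonempty (R ≃+* MvPolynomial (Fin r) (GrLC.deg0 𝒜)) := by
  have hK : ∀ x : R, x ∈ 𝒜 0 ↔ x ∈ Set.range (algebraMap (GrLC.deg0 𝒜) R) := by
    intro x
    constructor
    · intro hx
      exact ⟨⟨x, hx⟩, rfl⟩
    · rintro ⟨z, rfl⟩
      exact z.2
  exact @main_abs (GrLC.deg0 𝒜) h0.toField R _ (inferInstance : Algebra (GrLC.deg0 𝒜) R) 𝒜 _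
    hK hpos m hm hmsp hstd _ r hr P hdeg hP

end Conc

end Groth.Agent.Helper7.GrPolyQ
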