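import Mathlib
import Groth.Prelude.Def_GrLC
import Groth.Agent.Helper7.KunP1
import Groth.Agent.Helper7.KunAI
import Groth.Agent.Helper7.SegPolF
import Groth.Agent.S18644

/-!
# Künneth project, part P2: the top graded local cohomology of a polynomial ring (helper7)
-/

set_option autoImplicit false
set_option linter.unusedSectionVars false
set_option linter.style.haveILetI false

namespace Groth.Agent.Helper7.Kun

open DirectSum Groth.Agent.Helper7.SegDim Groth.Agent.Helper7.GrCM

universe u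

section StarLocal

variable {k R : Type u} [Field k] [CommRing R] [Algebra k R] (𝒜 : ℤ → Submodule k R)
  [GradedAlgebra 𝒜]
  (hpos : ∀ n : ℤ, n < 0 → 𝒜 n = ⊥) (h0 : 𝒜 0 = Submodule.span k {(1 : R)})
  (mR : HomogeneousIdeal 𝒜)
  (hmR : mR.toIdeal = Ideal.span (⋃ n ∈ Set.Ioi (0 : ℤ), (𝒜 n : Set R)))

include hpos h0 hmR in
/-- a graded ring defined over a field is *local -/
theorem isStarLocal_idealPlus [Nontrivial R] : GrLC.IsStarLocal (plus 𝒜) (idealPlus 𝒜 mR) := by
  have hm : mR.toIdeal = irr 𝒜 := hmR.trans (irr_eq_span 𝒜).symm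
  have hmax : (irr 𝒜).IsMaximal := irr_isMaximal 𝒜 hpos h0
  have hne : idealPlus 𝒜 mR ≠ ⊤ := by
    intro h
    have h1 := congrArg HomogeneousIdeal.toIdeal h
    rw [HomogeneousIdeal.toIdeal_top, idealPlus_toIdeal, hm] at h1
    exact hmax.ne_top h1
  have hco : IsCoatom (idealPlus 𝒜 mR) := by
    refine ⟨hne, fun b hb => ?_⟩
    apply HomogeneousIdeal.toIdeal_injective
    rw [HomogeneousIdeal.toIdeal_top]
    have h1 : (idealPlus 𝒜 mR).toIdeal < b.toIdeal := by
      refine lt_of_le_of_ne hb.le ?_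
      intro h
      exact hb.ne (HomogeneousIdeal.toIdeal_injective h)
    rw [idealPlus_toIdeal, hm] at h1
    by_contra hcon
    exact h1.ne (hmax.eq_of_le hcon h1.le)
  refine ⟨hco, fun n hn => ?_⟩
  have hn1 : n.toIdeal ≠ ⊤ := by
    intro h
    apply hn.1
    apply HomogeneousIdeal.toIdeal_injective
    rw [h, HomogeneousIdeal.toIdeal_top]
  have hn2 : n.toIdeal ≤ irr 𝒜 :=
    le_irr 𝒜 hpos h0 ((isHomogeneous_plus_iff 𝒜 n.toIdeal).mp n.isHomogeneous) hn1
  have hn3 : n ≤ idealPlus 𝒜 mR := by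
    show n.toIdeal ≤ (idealPlus 𝒜 mR).toIdeal
    rw [idealPlus_toIdeal, hm]
    exact hn2
  rcases hn.le_iff.mp hn3 with h | h
  · exact absurd h hne
  · exact h.symm

end StarLocal

section Poly

attribute [local instance] MvPolynomial.weightedGradedAlgebra

variable (k : Type u) [Field k] (r : ℕ)

open Groth.Agent.Helper7.SegPol in
/-- the `a`-invariant of a polynomial ring in `r ≥ 1` variables is `-r` -/
theorem endDeg_poly
    (mR : HomogeneousIdeal (MvPolynomial.weightedHomogeneousSubmodule k (fun _ : Fin r => (1 : ℤ))))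
    (hmR : mR.toIdeal = Ideal.span (⋃ n ∈ Set.Ioi (0 : ℤ),
      ((MvPolynomial.weightedHomogeneousSubmodule k (fun _ : Fin r => (1 : ℤ))) n :
        Set (MvPolynomial (Fin r) k))))
    (I : GrLC.StarInjRes (plus (MvPolynomial.weightedHomogeneousSubmodule k (fun _ : Fin r => (1 : ℤ))))
      (plus (MvPolynomial.weightedHomogeneousSubmodule k (fun _ : Fin r => (1 : ℤ))))) :
    GrLC.endDeg (I.Hgr (idealPlus _ mR) r) =
      (((-(r : ℤ) : ℤ) : WithTop ℤ) : WithBot (WithTop ℤ)) := by
  haveI : LocCoh.IsCohenMacaulayRing (MvPolynomial (Fin r) k) := cm_field_mvPolynomial k r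
  have hposR := hpos k (Fin r)
  have h0R := h0 k (Fin r)
  have hstdR := hstd k (Fin r)
  have hdim : ringKrullDim (MvPolynomial (Fin r) k) = r := by
    rw [MvPolynomial.ringKrullDim_of_isNoetherianRing, ringKrullDim_eq_zero_of_field]
    simp
  have h := Groth.Agent.S18644.result (MvPolynomial (Fin r) k)
    (plus (MvPolynomial.weightedHomogeneousSubmodule k (fun _ : Fin r => (1 : ℤ))))
    (hpos_plus hposR) (deg0_isField h0R) (idealPlus _ mR)
    (isStarLocal_idealPlus _ hposR h0R mR hmR) hmR hstdR r hdim I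
  rw [h]
  let e : k ≃+* GrLC.deg0 (MvPolynomial.weightedHomogeneousSubmodule k (fun _ : Fin r => (1 : ℤ))) :=
    RingEquiv.ofBijective (kToDeg0S _) (kToDeg0S_bijective h0R)
  exact ⟨MvPolynomial.mapEquiv (Fin r) e⟩

open Groth.Agent.Helper7.SegPol in
/-- the top graded local cohomology of a polynomial ring in `r ≥ 1` variables lives exactly in degrees `≤ -r` -/
theorem poly_Hgr_top_eq_bot_iff (hr : 1 ≤ r)
    (mR : HomogeneousIdeal (MvPolynomial.weightedHomogeneousSubmodule k (fun _ : Fin r => (1 : ℤ))))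
    (hmR : mR.toIdeal = Ideal.span (⋃ n ∈ Set.Ioi (0 : ℤ),
      ((MvPolynomial.weightedHomogeneousSubmodule k (fun _ : Fin r => (1 : ℤ))) n :
        Set (MvPolynomial (Fin r) k))))
    (I : GrLC.StarInjRes (plus (MvPolynomial.weightedHomogeneousSubmodule k (fun _ : Fin r => (1 : ℤ))))
      (plus (MvPolynomial.weightedHomogeneousSubmodule k (fun _ : Fin r => (1 : ℤ))))) (n : ℤ) :
    I.Hgr (idealPlus _ mR) r n = ⊥ ↔ -(r : ℤ) < n := by
  have hend := endDeg_poly k r mR hmR I
  have hstdR := hstd k (Fin r)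
  have hdim : ringKrullDim (MvPolynomial (Fin r) k) = r := by
    rw [MvPolynomial.ringKrullDim_of_isNoetherianRing, ringKrullDim_eq_zero_of_field]
    simp
  constructor
  · intro h
    by_contra hcon
    have h1 := Groth.Agent.Helper7.GrTopRE.hcomp_ne_bot_of_le
      (plus (MvPolynomial.weightedHomogeneousSubmodule k (fun _ : Fin r => (1 : ℤ))))
      (idealPlus _ mR) r hr hdim (hmR.trans hstdR) I (-(r : ℤ)) hend n (by omega)
    apply h1
    rw [eq_bot_iff]
    intro x hx
    have hx' : x ∈ I.Hgr (idealPlus _ mR) r n := hx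
    rw [h] at hx'
    exact (Submodule.mem_bot _).mpr (AddSubgroup.mem_bot.mp hx')
  · intro h
    exact ((Groth.Agent.Helper7.GrAInv.endDeg_eq_coe_iff _ _).mp hend).2 n h

end Poly

end Groth.Agent.Helper7.Kun
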