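import Mathlib
import Groth.Prelude.Def_GrLC
import Groth.Prelude.Def_Wider
import Groth.Agent.Helper7.GrVer4
import Groth.Agent.Helper7.GrAcy3
import Groth.Agent.Helper1.LocCohBase

/-!
# Veronese functor, part 5: the Veronese module of a *injective module is `Γ`-acyclic over the
Veronese subring.
-/

namespace Groth.Agent.Helper7.GrVer

open DirectSum CategoryTheory Groth.Agent.Helper6.GrMod Groth.Agent.Helper6.GrCon

universe u

section Homog

variable {R R' : Type u} [CommRing R] [CommRing R'] {𝒜 : ℤ → AddSubgroup R} [GradedRing 𝒜]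
  {𝒜' : ℤ → AddSubgroup R'} [GradedRing 𝒜'] (D : VData 𝒜 𝒜')

theorem map_isHomogeneous (a' : HomogeneousIdeal 𝒜') : (a'.toIdeal.map D.φ).IsHomogeneous 𝒜 := by
  obtain ⟨S, hS⟩ := (Ideal.IsHomogeneous.iff_exists (𝒜 := 𝒜') (I := a'.toIdeal)).mp
    a'.isHomogeneous
  rw [hS, Ideal.map_span]
  apply Ideal.homogeneous_span
  rintro _ ⟨_, ⟨⟨x, ⟨i, hx⟩⟩, -, rfl⟩, rfl⟩
  exact ⟨i * (D.q : ℤ), D.map_mem i x hx⟩

/-- the extension of a homogeneous ideal of the Veronese subring -/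
def mapH (a' : HomogeneousIdeal 𝒜') : HomogeneousIdeal 𝒜 :=
  ⟨a'.toIdeal.map D.φ, map_isHomogeneous D a'⟩

theorem mapH_toIdeal (a' : HomogeneousIdeal 𝒜') : (mapH D a').toIdeal = a'.toIdeal.map D.φ := rfl

end Homog

section Acyc

variable {R R' : Type u} [CommRing R] [CommRing R'] {𝒜 : ℤ → AddSubgroup R} [GradedRing 𝒜]
  {𝒜' : ℤ → AddSubgroup R'} [GradedRing 𝒜'] (D : VData 𝒜 𝒜')

theorem subsingleton_H_res [IsNoetherianRing R] (X : GrLC.GMod.{u} 𝒜)
    (hX : GrLC.IsStarInj 𝒜 X.gr) (a' : HomogeneousIdeal 𝒜') (k : ℕ) :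
    Subsingleton (LocCoh.H a'.toIdeal (k + 1) (Res D.φ X.carrier)) := by
  haveI : IsNoetherianRing R' := isNoetherianRing_of_vdata D
  have h1 : Subsingleton (LocCoh.H (mapH D a').toIdeal (k + 1) X.carrier) :=
    Groth.Agent.Helper6.GrLCAcyc.main 𝒜 (mapH D a') X.gr hX (k + 1) (by omega)
  letI : Algebra R' R := D.φ.toAlgebra
  haveI : IsScalarTower R' R (Res D.φ X.carrier) := ⟨fun r' r y => by
    show (D.φ r' * r) • (y : X.carrier) = D.φ r' • (r • (y : X.carrier))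
    rw [mul_smul]⟩
  obtain ⟨e, -⟩ := Groth.Agent.Helper1.LocCohBase.exists_addEquiv (R := R') (R' := R)
    a'.toIdeal (Res D.φ X.carrier) (k + 1)
  haveI : Subsingleton ((localCohomology (a'.toIdeal.map (algebraMap R' R)) (k + 1)).obj
      (ModuleCat.of R (Res D.φ X.carrier))) := h1
  exact e.symm.toEquiv.subsingleton

theorem subsingleton_H_Vsub [IsNoetherianRing R] (X : GrLC.GMod.{u} 𝒜)
    (hX : GrLC.IsStarInj 𝒜 X.gr) (a' : HomogeneousIdeal 𝒜') (k : ℕ) :
    Subsingleton (LocCoh.H a'.toIdeal (k + 1) ↥(Vsub D X)) := by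
  have h2 := subsingleton_H_res D X hX a' k
  let F := localCohomology a'.toIdeal (k + 1)
  let s : ModuleCat.of R' ↥(Vsub D X) ⟶ ModuleCat.of R' (Res D.φ X.carrier) :=
    ModuleCat.ofHom (Vsub D X).subtype
  let r : ModuleCat.of R' (Res D.φ X.carrier) ⟶ ModuleCat.of R' ↥(Vsub D X) :=
    ModuleCat.ofHom (Vret D X)
  have hsr : s ≫ r = 𝟙 _ := by
    apply ModuleCat.hom_ext
    apply LinearMap.ext
    intro x
    exact Vret_subtype D X x
  have hF : F.map s ≫ F.map r = 𝟙 _ := by rw [← F.map_comp, hsr, F.map_id]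
  have hx : ∀ x : F.obj (ModuleCat.of R' ↥(Vsub D X)), x = 0 := fun x => by
    have h3 : (F.map s ≫ F.map r).hom x = x := by rw [hF]; rfl
    rw [ModuleCat.hom_comp, LinearMap.comp_apply] at h3
    rw [← h3, @Subsingleton.elim _ h2 ((F.map s).hom x) 0, map_zero]
  exact ⟨fun x y => (hx x).trans (hx y).symm⟩

theorem gacyc_Vmod [IsNoetherianRing R] (X : GrLC.GMod.{u} 𝒜)
    (hX : GrLC.IsStarInj 𝒜 X.gr) (a' : HomogeneousIdeal 𝒜') :
    Groth.Agent.Helper7.GrAcy.GAcyc a' (Vmod D X) := by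
  haveI : IsNoetherianRing R' := isNoetherianRing_of_vdata D
  exact Groth.Agent.Helper7.GrAcy.gacyc_of_subsingleton a' (Vmod D X)
    (fun k => subsingleton_H_Vsub D X hX a' k)

end Acyc

end Groth.Agent.Helper7.GrVer
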