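import Mathlib
import Groth.Prelude.Def_GrLC
import Groth.Prelude.Def_Wider
import Groth.Agent.Helper7.GrVer5

/-!
# Veronese functor, part 6: the Veronese complex of a *injective resolution and its cohomology.
-/

namespace Groth.Agent.Helper7.GrVer

open DirectSum Groth.Agent.Helper6.GrMod Groth.Agent.Helper6.GrCon Groth.Agent.Helper7.GrAcy

universe u

section Complex

variable {R R' : Type u} [CommRing R] [CommRing R'] {𝒜 : ℤ → AddSubgroup R} [GradedRing 𝒜]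
  {𝒜' : ℤ → AddSubgroup R'} [GradedRing 𝒜'] (D : VData 𝒜 𝒜')
  {M : Type u} [AddCommGroup M] [Module R M] {ℳ : ℤ → AddSubgroup M} [Decomposition ℳ]
  [SetLike.GradedSMul 𝒜 ℳ] (E : GrLC.StarInjRes 𝒜 ℳ)

/-- the terms of the Veronese complex -/
noncomputable def XV (n : ℕ) : GrLC.GMod.{u} 𝒜' := Vmod D (E.X n)

/-- the differentials of the Veronese complex -/
noncomputable def dV (n : ℕ) : (XV D E n).carrier →ₗ[R'] (XV D E (n + 1)).carrier :=
  Vmap D (E.d_grHom n)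

theorem dV_gr (n : ℕ) : GrLC.IsGrHom (XV D E n).gr (XV D E (n + 1)).gr (dV D E n) :=
  Vmap_gr D (E.d_grHom n)

theorem dV_exact (n : ℕ) :
    LinearMap.ker (dV D E (n + 1)) = LinearMap.range (dV D E n) :=
  Vmap_exact D (E.d_grHom n) (E.d_grHom (n + 1)) (E.exact_succ n)

/-- underlying element -/
def valV (n : ℕ) : (XV D E n).carrier →+ (E.X n).carrier := Vval D (E.X n)

theorem valV_dV (n : ℕ) (x : (XV D E n).carrier) :
    valV D E (n + 1) (dV D E n x) = E.d n (valV D E n x) := rfl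

theorem valV_smul (n : ℕ) (c : R') (x : (XV D E n).carrier) :
    valV D E n (c • x) = D.φ c • valV D E n x := rfl

theorem valV_injective (n : ℕ) : Function.Injective (valV D E n) := Vval_injective D (E.X n)

theorem mem_XV_gr (n : ℕ) (j : ℤ) (x : (XV D E n).carrier) :
    x ∈ (XV D E n).gr j ↔ valV D E n x ∈ (E.X n).gr (j * (D.q : ℤ)) := Iff.rfl

/-- constructor -/
def mkV (n : ℕ) (y : (E.X n).carrier) (hy : vproj D.S (E.X n).gr y = y) : (XV D E n).carrier :=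
  Vmk D (E.X n) y hy

theorem valV_mkV (n : ℕ) (y : (E.X n).carrier) (hy : vproj D.S (E.X n).gr y = y) :
    valV D E n (mkV D E n y hy) = y := rfl

theorem valV_fixed (n : ℕ) (x : (XV D E n).carrier) :
    vproj D.S (E.X n).gr (valV D E n x) = valV D E n x := Vval_fixed D (E.X n) x

variable {M' : Type u} [AddCommGroup M'] [Module R' M'] (ℳ' : ℤ → AddSubgroup M')
  [Decomposition ℳ'] [SetLike.GradedSMul 𝒜' ℳ']
  (g : M' →ₛₗ[D.φ] M) (hg1 : ∀ (j : ℤ) (m' : M'), m' ∈ ℳ' j → g m' ∈ ℳ (j * (D.q : ℤ)))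

/-- the augmentation of the Veronese complex -/
noncomputable def εV : M' →ₗ[R'] (XV D E 0).carrier :=
  (Vmap D (X := GrLC.GMod.of 𝒜 M ℳ) (Y := E.X 0) (f := E.ε) E.ε_grHom) ∘ₗ gV D ℳ ℳ' g hg1

theorem εV_gr : GrLC.IsGrHom ℳ' (XV D E 0).gr (εV D E ℳ' g hg1) :=
  fun j m' hm' => Vmap_gr D (X := GrLC.GMod.of 𝒜 M ℳ) (Y := E.X 0) (f := E.ε) E.ε_grHom j _
    (gV_gr D ℳ ℳ' g hg1 j m' hm')

theorem εV_injective (hg : Function.Injective g) : Function.Injective (εV D E ℳ' g hg1) :=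
  (Vmap_injective D (X := GrLC.GMod.of 𝒜 M ℳ) (Y := E.X 0) (f := E.ε) E.ε_grHom
    E.ε_injective).comp (gV_injective D ℳ ℳ' g hg1 hg)

theorem εV_exact
    (hg2 : ∀ (j : ℤ) (m : M), m ∈ ℳ (j * (D.q : ℤ)) → ∃ m' ∈ ℳ' j, g m' = m) :
    LinearMap.ker (dV D E 0) = LinearMap.range (εV D E ℳ' g hg1) := by
  have h1 : LinearMap.ker (dV D E 0) = LinearMap.range
      (Vmap D (X := GrLC.GMod.of 𝒜 M ℳ) (Y := E.X 0) (f := E.ε) E.ε_grHom) :=
    Vmap_exact D (X := GrLC.GMod.of 𝒜 M ℳ) (Y := E.X 0) (Z := E.X 1) (f := E.ε) E.ε_grHom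
      (E.d_grHom 0) E.exact_zero
  rw [h1]
  unfold εV
  rw [LinearMap.range_comp_of_range_eq_top _
    (LinearMap.range_eq_top.mpr (gV_surjective D ℳ ℳ' g hg1 hg2))]
  rfl

end Complex

end Groth.Agent.Helper7.GrVer
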