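import Mathlib
import Groth.Prelude.Def_GrLC
import Groth.Prelude.Def_Wider
import Groth.Agent.Helper7.GrVer6

/-!
# Veronese functor, part 7: the cohomology of `Γ_{m'}` of the Veronese complex is the Veronese
module of the graded local cohomology; the dimension formula.
-/

namespace Groth.Agent.Helper7.GrVer

open DirectSum Groth.Agent.Helper6.GrMod Groth.Agent.Helper6.GrCon Groth.Agent.Helper7.GrAcy

universe u

section Compare

variable {R R' : Type u} [CommRing R] [CommRing R'] {𝒜 : ℤ → AddSubgroup R} [GradedRing 𝒜]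
  {𝒜' : ℤ → AddSubgroup R'} [GradedRing 𝒜'] (D : VData 𝒜 𝒜')
  {M : Type u} [AddCommGroup M] [Module R M] {ℳ : ℤ → AddSubgroup M} [Decomposition ℳ]
  [SetLike.GradedSMul 𝒜 ℳ] (E : GrLC.StarInjRes 𝒜 ℳ) [IsNoetherianRing R]
  (m : HomogeneousIdeal 𝒜) (hm : m.toIdeal = Ideal.span (⋃ n ∈ Set.Ioi (0 : ℤ), (𝒜 n : Set R)))
  (m' : HomogeneousIdeal 𝒜')
  (hm' : m'.toIdeal = Ideal.span (⋃ j ∈ Set.Ioi (0 : ℤ), (𝒜' j : Set R')))

include hm hm' in
theorem mem_gam_XV_iff (n : ℕ) (x : (XV D E n).carrier) :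
    x ∈ GrLC.gam m'.toIdeal (XV D E n).carrier ↔
      valV D E n x ∈ GrLC.gam m.toIdeal (E.X n).carrier := by
  rw [gam_irrelevant_eq D m.toIdeal hm m'.toIdeal hm' (E.X n).carrier,
    ← mem_gam_res_iff D.φ m'.toIdeal]
  constructor
  · rintro ⟨k, hk⟩
    refine ⟨k, fun r' hr' => ?_⟩
    have h := hk r' hr'
    show D.φ r' • valV D E n x = 0
    rw [← valV_smul, h, map_zero]
  · rintro ⟨k, hk⟩
    refine ⟨k, fun r' hr' => ?_⟩
    apply valV_injective
    rw [valV_smul, map_zero]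
    exact hk r' hr'

/-- the comparison on cocycles -/
noncomputable def cocycMap (p : ℕ) : ↥(cocyc m' (XV D E) (dV D E) p) →ₛₗ[D.φ] ↥(E.cocyc m p) where
  toFun z := ⟨valV D E p z.1, (mem_gam_XV_iff D E m hm m' hm' p z.1).mp z.2.1, by
    show E.d p (valV D E p z.1) = 0
    rw [← valV_dV, (show dV D E p z.1 = 0 from z.2.2), map_zero]⟩
  map_add' _ _ := Subtype.ext (map_add _ _ _)
  map_smul' c z := Subtype.ext (valV_smul D E p c z.1)

theorem cocycMap_val (p : ℕ) (z : ↥(cocyc m' (XV D E) (dV D E) p)) :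
    ((cocycMap D E m hm m' hm' p z : ↥(E.cocyc m p)) : (E.X p).carrier) = valV D E p z.1 := rfl

theorem cocycMap_cobdy (p : ℕ) (z : ↥(cocyc m' (XV D E) (dV D E) p))
    (hz : z.1 ∈ cobdy m' (XV D E) (dV D E) p) :
    (cocycMap D E m hm m' hm' p z).1 ∈ E.cobdy m p := by
  cases p with
  | zero =>
    have h : z.1 = 0 := hz
    show valV D E 0 z.1 ∈ (⊥ : Submodule R (E.X 0).carrier)
    rw [h, map_zero]
    exact zero_mem _
  | succ n =>
    obtain ⟨y, hy, hyz⟩ := hz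
    refine ⟨valV D E n y, (mem_gam_XV_iff D E m hm m' hm' n y).mp hy, ?_⟩
    rw [← valV_dV, hyz]
    rfl

theorem cobdy_of_cocycMap (p : ℕ) (z : ↥(cocyc m' (XV D E) (dV D E) p))
    (hz : (cocycMap D E m hm m' hm' p z).1 ∈ E.cobdy m p) :
    z.1 ∈ cobdy m' (XV D E) (dV D E) p := by
  cases p with
  | zero =>
    have h : valV D E 0 z.1 = 0 := hz
    show z.1 ∈ (⊥ : Submodule R' (XV D E 0).carrier)
    rw [Submodule.mem_bot]
    apply valV_injective
    rw [h, map_zero]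
  | succ n =>
    obtain ⟨y, hy, hyz⟩ := hz
    have hy' : vproj D.S (E.X n).gr y ∈ GrLC.gam m.toIdeal (E.X n).carrier :=
      vproj_mem_submodule D.S _ (Groth.Agent.Helper6.GrH.gam_isHomogeneous 𝒜 (E.X n).gr m) hy
    refine ⟨mkV D E n (vproj D.S (E.X n).gr y) (vproj_vproj D.S (E.X n).gr y),
      (mem_gam_XV_iff D E m hm m' hm' n _).mpr hy', ?_⟩
    apply valV_injective
    rw [valV_dV, valV_mkV, vproj_map D.S (E.d_grHom n), hyz]
    exact valV_fixed D E (n + 1) z.1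

/-- the comparison on cohomology -/
noncomputable def HHmap (p : ℕ) : HH m' (XV D E) (dV D E) p →ₛₗ[D.φ] E.H m p :=
  Submodule.mapQ _ _ (cocycMap D E m hm m' hm' p)
    (fun z hz => cocycMap_cobdy D E m hm m' hm' p z hz)

theorem HHmap_mk (p : ℕ) (z : ↥(cocyc m' (XV D E) (dV D E) p)) :
    HHmap D E m hm m' hm' p (toHH m' (XV D E) (dV D E) p z) =
      E.toH m p (cocycMap D E m hm m' hm' p z) := rfl

theorem HHmap_injective (p : ℕ) : Function.Injective (HHmap D E m hm m' hm' p) := by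
  rw [injective_iff_map_eq_zero]
  intro x hx
  obtain ⟨z, rfl⟩ := Submodule.mkQ_surjective _ x
  have h1 : E.toH m p (cocycMap D E m hm m' hm' p z) = 0 := hx
  have h2 : cocycMap D E m hm m' hm' p z ∈ (E.cobdy m p).comap (E.cocyc m p).subtype :=
    (Submodule.Quotient.mk_eq_zero _).mp h1
  exact (Submodule.Quotient.mk_eq_zero _).mpr (cobdy_of_cocycMap D E m hm m' hm' p z h2)

theorem HHmap_mem (p : ℕ) (j : ℤ) (x : HH m' (XV D E) (dV D E) p)
    (hx : x ∈ HHcomp m' (XV D E) (dV D E) p j) :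
    HHmap D E m hm m' hm' p x ∈ E.Hcomp m p (j * (D.q : ℤ)) := by
  obtain ⟨z, hz, rfl⟩ := hx
  exact ⟨cocycMap D E m hm m' hm' p z, hz, rfl⟩

theorem HHmap_surj (p : ℕ) (j : ℤ) (y : E.H m p) (hy : y ∈ E.Hcomp m p (j * (D.q : ℤ))) :
    ∃ x ∈ HHcomp m' (XV D E) (dV D E) p j, HHmap D E m hm m' hm' p x = y := by
  obtain ⟨w, hw, rfl⟩ := hy
  have hfix : vproj D.S (E.X p).gr (w : (E.X p).carrier) = w := fixed_of_homog D (E.X p) hw
  let z0 : (XV D E p).carrier := mkV D E p w hfix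
  have hz0 : z0 ∈ cocyc m' (XV D E) (dV D E) p := by
    refine ⟨(mem_gam_XV_iff D E m hm m' hm' p z0).mpr w.2.1, ?_⟩
    show dV D E p z0 = 0
    apply valV_injective
    rw [valV_dV, map_zero]
    exact w.2.2
  refine ⟨toHH m' (XV D E) (dV D E) p ⟨z0, hz0⟩, ⟨⟨z0, hz0⟩, hw, rfl⟩, ?_⟩
  rw [HHmap_mk]
  congr 1

end Compare

end Groth.Agent.Helper7.GrVer
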