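import Mathlib
import Groth.Prelude.Def_GrLC
import Groth.Prelude.Def_Wider
import Groth.Agent.Helper7.GrVer7

/-!
# Veronese functor, part 8: `dim H^p_{m'}(M^{(q)})_j = dim H^p_m(M)_{jq}`.
-/

namespace Groth.Agent.Helper7.GrVer

open DirectSum Groth.Agent.Helper6.GrMod Groth.Agent.Helper6.GrCon Groth.Agent.Helper7.GrAcy

universe u

section Rank

variable {R R' : Type u} [CommRing R] [CommRing R'] {𝒜 : ℤ → AddSubgroup R} [GradedRing 𝒜]
  {𝒜' : ℤ → AddSubgroup R'} [GradedRing 𝒜'] (D : VData 𝒜 𝒜')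

/-- the degree-zero part of `φ` -/
def phi0 (c : GrLC.deg0 𝒜') : GrLC.deg0 𝒜 :=
  ⟨D.φ c.1, by
    have h := D.map_mem 0 c.1 c.2
    rwa [zero_mul] at h⟩

theorem phi0_bijective : Function.Bijective (phi0 D) := by
  constructor
  · intro c c' h
    exact Subtype.ext (D.inj (congrArg Subtype.val h))
  · rintro ⟨r, hr⟩
    have hr' : r ∈ 𝒜 (0 * (D.q : ℤ)) := by rw [zero_mul]; exact hr
    obtain ⟨r', hr'm, e⟩ := D.exists_mem 0 r hr'
    exact ⟨⟨r', hr'm⟩, Subtype.ext e⟩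

variable {M : Type u} [AddCommGroup M] [Module R M] {ℳ : ℤ → AddSubgroup M} [Decomposition ℳ]
  [SetLike.GradedSMul 𝒜 ℳ] (E : GrLC.StarInjRes 𝒜 ℳ) [IsNoetherianRing R]
  (m : HomogeneousIdeal 𝒜) (hm : m.toIdeal = Ideal.span (⋃ n ∈ Set.Ioi (0 : ℤ), (𝒜 n : Set R)))
  (m' : HomogeneousIdeal 𝒜')
  (hm' : m'.toIdeal = Ideal.span (⋃ j ∈ Set.Ioi (0 : ℤ), (𝒜' j : Set R')))

/-- the comparison of pieces -/
noncomputable def compMap (p : ℕ) (j : ℤ) :
    ↥(HHcomp m' (XV D E) (dV D E) p j) →+ ↥(E.Hcomp m p (j * (D.q : ℤ))) where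
  toFun x := ⟨HHmap D E m hm m' hm' p x.1, HHmap_mem D E m hm m' hm' p j x.1 x.2⟩
  map_zero' := Subtype.ext (map_zero _)
  map_add' x y := Subtype.ext (map_add (HHmap D E m hm m' hm' p) x.1 y.1)

theorem compMap_bijective (p : ℕ) (j : ℤ) :
    Function.Bijective (compMap D E m hm m' hm' p j) := by
  constructor
  · intro x y hxy
    apply Subtype.ext
    apply HHmap_injective D E m hm m' hm' p
    exact congrArg Subtype.val hxy
  · rintro ⟨y, hy⟩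
    obtain ⟨x, hx, hxy⟩ := HHmap_surj D E m hm m' hm' p j y hy
    exact ⟨⟨x, hx⟩, Subtype.ext hxy⟩

theorem compMap_smul (p : ℕ) (j : ℤ) (c : GrLC.deg0 𝒜')
    (x : ↥(HHcomp m' (XV D E) (dV D E) p j)) :
    compMap D E m hm m' hm' p j (c • x) = phi0 D c • compMap D E m hm m' hm' p j x := by
  apply Subtype.ext
  show HHmap D E m hm m' hm' p ((c : R') • (x.1 : HH m' (XV D E) (dV D E) p)) =
    (D.φ c.1 : R) • HHmap D E m hm m' hm' p x.1
  rw [map_smulₛₗ]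

include hm hm' in
theorem rank_comp_eq (p : ℕ) (j : ℤ) :
    Module.rank (GrLC.deg0 𝒜') ↥(HHcomp m' (XV D E) (dV D E) p j) =
      Module.rank (GrLC.deg0 𝒜) ↥(E.Hcomp m p (j * (D.q : ℤ))) :=
  rank_eq_of_equiv_equiv (phi0 D)
    (AddEquiv.ofBijective (compMap D E m hm m' hm' p j) (compMap_bijective D E m hm m' hm' p j))
    (phi0_bijective D) (compMap_smul D E m hm m' hm' p j)

variable {M' : Type u} [AddCommGroup M'] [Module R' M'] (ℳ' : ℤ → AddSubgroup M')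
  [Decomposition ℳ'] [SetLike.GradedSMul 𝒜' ℳ']
  (g : M' →ₛₗ[D.φ] M) (hg : Function.Injective g)
  (hg1 : ∀ (j : ℤ) (m' : M'), m' ∈ ℳ' j → g m' ∈ ℳ (j * (D.q : ℤ)))
  (hg2 : ∀ (j : ℤ) (m : M), m ∈ ℳ (j * (D.q : ℤ)) → ∃ m' ∈ ℳ' j, g m' = m)

include hm hm' hg hg1 hg2 in
/-- local cohomology of the Veronese module: dimensions of the pieces -/
theorem finrank_Hcomp_eq (F : GrLC.StarInjRes 𝒜' ℳ') (p : ℕ) (j : ℤ) :
    Module.finrank (GrLC.deg0 𝒜') (F.Hcomp m' p j) =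
      Module.finrank (GrLC.deg0 𝒜) (E.Hcomp m p (j * (D.q : ℤ))) := by
  haveI : IsNoetherianRing R' := isNoetherianRing_of_vdata D
  obtain ⟨e⟩ := main_comp m' p (XV D E) (dV D E) (dV_gr D E) (εV D E ℳ' g hg1)
    (εV_gr D E ℳ' g hg1) (εV_injective D E ℳ' g hg1 hg) (εV_exact D E ℳ' g hg1 hg2)
    (dV_exact D E) (fun n => gacyc_Vmod D (E.X n) (E.starInj n) m') F j
  rw [e.finrank_eq]
  unfold Module.finrank
  rw [rank_comp_eq D E m hm m' hm' p j]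

end Rank

end Groth.Agent.Helper7.GrVer
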