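import Mathlib
import Groth.Prelude.Def_GrLC
import Groth.Prelude.Def_Wider
import Groth.Agent.Helper7.GrVer8

/-!
# Veronese functor, part 9: a semilinear injection `H^p_{m'}(M^{(q)}) → H^p_m(M)` onto the Veronese pieces (helper7)
-/

set_option autoImplicit false
set_option linter.unusedSectionVars false

namespace Groth.Agent.Helper7.GrVer

open DirectSum Groth.Agent.Helper6.GrMod Groth.Agent.Helper6.GrCon Groth.Agent.Helper7.GrAcy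

universe u

section Theta

variable {R R' : Type u} [CommRing R] [CommRing R'] {𝒜 : ℤ → AddSubgroup R} [GradedRing 𝒜]
  {𝒜' : ℤ → AddSubgroup R'} [GradedRing 𝒜'] (D : VData 𝒜 𝒜')
  {M : Type u} [AddCommGroup M] [Module R M] {ℳ : ℤ → AddSubgroup M} [Decomposition ℳ]
  [SetLike.GradedSMul 𝒜 ℳ] (E : GrLC.StarInjRes 𝒜 ℳ) [IsNoetherianRing R]
  (m : HomogeneousIdeal 𝒜) (hm : m.toIdeal = Ideal.span (⋃ n ∈ Set.Ioi (0 : ℤ), (𝒜 n : Set R)))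
  (m' : HomogeneousIdeal 𝒜')
  (hm' : m'.toIdeal = Ideal.span (⋃ j ∈ Set.Ioi (0 : ℤ), (𝒜' j : Set R')))
  {M' : Type u} [AddCommGroup M'] [Module R' M'] (ℳ' : ℤ → AddSubgroup M')
  [Decomposition ℳ'] [SetLike.GradedSMul 𝒜' ℳ']
  (g : M' →ₛₗ[D.φ] M) (hg : Function.Injective g)
  (hg1 : ∀ (j : ℤ) (m' : M'), m' ∈ ℳ' j → g m' ∈ ℳ (j * (D.q : ℤ)))
  (hg2 : ∀ (j : ℤ) (m : M), m ∈ ℳ (j * (D.q : ℤ)) → ∃ m' ∈ ℳ' j, g m' = m)

include hm hm' hg hg1 hg2 in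
/-- **local cohomology of the Veronese module, as a semilinear map** -/
theorem exists_theta (F : GrLC.StarInjRes 𝒜' ℳ') (p : ℕ) :
    ∃ θ : F.H m' p →ₛₗ[D.φ] E.H m p, Function.Injective θ ∧
      (∀ (j : ℤ) (x : F.H m' p), x ∈ F.Hgr m' p j → θ x ∈ E.Hgr m p (j * (D.q : ℤ))) ∧
      ∀ (j : ℤ) (y : E.H m p), y ∈ E.Hgr m p (j * (D.q : ℤ)) → ∃ x ∈ F.Hgr m' p j, θ x = y := by
  haveI : IsNoetherianRing R' := isNoetherianRing_of_vdata D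
  obtain ⟨ψ, h1, h2⟩ := main m' p (XV D E) (dV D E) (dV_gr D E) (εV D E ℳ' g hg1)
    (εV_gr D E ℳ' g hg1) (εV_injective D E ℳ' g hg1 hg) (εV_exact D E ℳ' g hg1 hg2)
    (dV_exact D E) (fun n => gacyc_Vmod D (E.X n) (E.starInj n) m') F
  refine ⟨(HHmap D E m hm m' hm' p).comp ψ.toLinearMap, ?_, ?_, ?_⟩
  · exact (HHmap_injective D E m hm m' hm' p).comp ψ.injective
  · intro j x hx
    exact HHmap_mem D E m hm m' hm' p j (ψ x) (h1 j x hx)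
  · intro j y hy
    obtain ⟨x, hx, hxy⟩ := HHmap_surj D E m hm m' hm' p j y hy
    refine ⟨ψ.symm x, h2 j x hx, ?_⟩
    show HHmap D E m hm m' hm' p (ψ (ψ.symm x)) = y
    rw [LinearEquiv.apply_symm_apply, hxy]

end Theta

section ThetaRing

variable {R R' : Type u} [CommRing R] [CommRing R'] {𝒜 : ℤ → AddSubgroup R} [GradedRing 𝒜]
  {𝒜' : ℤ → AddSubgroup R'} [GradedRing 𝒜'] (D : VData 𝒜 𝒜') [IsNoetherianRing R]
  (m : HomogeneousIdeal 𝒜) (hm : m.toIdeal = Ideal.span (⋃ n ∈ Set.Ioi (0 : ℤ), (𝒜 n : Set R)))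
  (m' : HomogeneousIdeal 𝒜')
  (hm' : m'.toIdeal = Ideal.span (⋃ j ∈ Set.Ioi (0 : ℤ), (𝒜' j : Set R')))

include hm hm' in
/-- the case of the ring itself -/
theorem exists_theta_ring (I : GrLC.StarInjRes 𝒜 𝒜) (I' : GrLC.StarInjRes 𝒜' 𝒜') (p : ℕ) :
    ∃ θ : I'.H m' p →ₛₗ[D.φ] I.H m p, Function.Injective θ ∧
      (∀ (j : ℤ) (x : I'.H m' p), x ∈ I'.Hgr m' p j → θ x ∈ I.Hgr m p (j * (D.q : ℤ))) ∧
      ∀ (j : ℤ) (y : I.H m p), y ∈ I.Hgr m p (j * (D.q : ℤ)) → ∃ x ∈ I'.Hgr m' p j, θ x = y := by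
  let g : R' →ₛₗ[D.φ] R :=
    { toFun := D.φ
      map_add' := map_add D.φ
      map_smul' := fun r x => by
        show D.φ (r * x) = D.φ r * D.φ x
        rw [map_mul] }
  exact exists_theta D I m hm m' hm' 𝒜' g D.inj D.map_mem D.exists_mem I' p

end ThetaRing

end Groth.Agent.Helper7.GrVer
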