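import Mathlib
import Groth.Prelude.Def_GrLC
import Groth.Prelude.Def_Wider
import Groth.Agent.Helper7.GrVer9
import Groth.Agent.Helper7.GrHt1
import Groth.Agent.Helper7.NN3

/-!
# The Veronese subring of a graded ring defined over a field: basic set-up (helper7)
-/

set_option autoImplicit false
set_option linter.unusedSectionVars false
set_option linter.style.haveILetI false

namespace Groth.Agent.Helper7.VerGor

open DirectSum Groth.Agent.Helper6.GrMod Groth.Agent.Helper7.GrVer Groth.Agent.Helper7.GrHt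

universe u

section Irr

variable {R : Type u} [CommRing R] (𝒜 : ℤ → AddSubgroup R) [GradedRing 𝒜]
  (hpos : ∀ n : ℤ, n < 0 → 𝒜 n = ⊥) (h0 : IsField (GrLC.deg0 𝒜))

/-- the irrelevant ideal as a homogeneous ideal -/
def irrel : HomogeneousIdeal 𝒜 := ⟨Ideal.span (⋃ n ∈ Set.Ioi (0 : ℤ), (𝒜 n : Set R)),
  Ideal.homogeneous_span 𝒜 _ (fun x hx => by
    simp only [Set.mem_iUnion, Set.mem_Ioi, SetLike.mem_coe, exists_prop] at hx
    obtain ⟨k, -, hk⟩ := hx
    exact ⟨k, hk⟩)⟩

theorem irrel_toIdeal :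
    (irrel 𝒜).toIdeal = Ideal.span (⋃ n ∈ Set.Ioi (0 : ℤ), (𝒜 n : Set R)) := rfl

include hpos in
theorem decompose_neg_eq_zero (x : R) {j : ℤ} (hj : j < 0) : (decompose 𝒜 x j : R) = 0 := by
  have h1 : (decompose 𝒜 x j : R) ∈ 𝒜 j := (decompose 𝒜 x j).2
  have h2 : (decompose 𝒜 x j : R) ∈ (⊥ : AddSubgroup R) := hpos j hj ▸ h1
  exact (AddSubgroup.mem_bot).1 h2

include hpos in
/-- elements of the irrelevant ideal have no degree-zero component -/
theorem decompose_zero_of_mem_irr {x : R} (hx : x ∈ (irrel 𝒜).toIdeal) :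
    (decompose 𝒜 x 0 : R) = 0 := by
  classical
  rw [irrel_toIdeal] at hx
  induction hx using Submodule.span_induction with
  | mem x hx =>
    simp only [Set.mem_iUnion, Set.mem_Ioi, SetLike.mem_coe, exists_prop] at hx
    obtain ⟨k, hk, hxk⟩ := hx
    exact decompose_of_mem_ne 𝒜 hxk (by omega)
  | zero => rw [decompose_zero, DirectSum.zero_apply, ZeroMemClass.coe_zero]
  | add x y _ _ hx hy =>
    rw [decompose_add, DirectSum.add_apply, AddSubgroup.coe_add, hx, hy, add_zero]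
  | smul s x _ hx =>
    induction s using Decomposition.inductionOn 𝒜 with
    | zero => rw [zero_smul, decompose_zero, DirectSum.zero_apply, ZeroMemClass.coe_zero]
    | add s s' h h' =>
      rw [add_smul, decompose_add, DirectSum.add_apply, AddSubgroup.coe_add, h, h', add_zero]
    | @homogeneous k s =>
      have h1 := decompose_smul_homog 𝒜 𝒜 s.2 x (-k)
      rw [add_neg_cancel] at h1
      rw [h1]
      by_cases hk : k = 0
      · subst hk
        rw [neg_zero, hx, smul_zero]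
      · rcases lt_or_gt_of_ne hk with hk' | hk'
        · have h2 : (s : R) ∈ (⊥ : AddSubgroup R) := hpos k hk' ▸ s.2
          rw [(AddSubgroup.mem_bot).1 h2, zero_smul]
        · rw [decompose_neg_eq_zero 𝒜 hpos x (by omega), smul_zero]

include hpos in
/-- elements without degree-zero component lie in the irrelevant ideal -/
theorem mem_irr_of_decompose_zero {x : R} (hx : (decompose 𝒜 x 0 : R) = 0) :
    x ∈ (irrel 𝒜).toIdeal := by
  classical
  rw [← DirectSum.sum_support_decompose 𝒜 x]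
  refine Ideal.sum_mem _ (fun j _ => ?_)
  by_cases hj : 0 < j
  · rw [irrel_toIdeal]
    apply Ideal.subset_span
    simp only [Set.mem_iUnion, Set.mem_Ioi, SetLike.mem_coe, exists_prop]
    exact ⟨j, hj, (decompose 𝒜 x j).2⟩
  · by_cases hj0 : j = 0
    · subst hj0
      rw [hx]; exact zero_mem _
    · rw [decompose_neg_eq_zero 𝒜 hpos x (by omega)]; exact zero_mem _

include hpos h0 in
theorem irr_ne_top : (irrel 𝒜).toIdeal ≠ ⊤ := by
  intro h
  have h1 : (1 : R) ∈ (irrel 𝒜).toIdeal := by rw [h]; trivial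
  have h2 := decompose_zero_of_mem_irr 𝒜 hpos h1
  rw [decompose_of_mem_same 𝒜 (SetLike.GradedOne.one_mem (A := 𝒜))] at h2
  letI := h0.toField
  have : (1 : GrLC.deg0 𝒜) = 0 := Subtype.ext h2
  exact one_ne_zero this

include hpos h0 in
/-- a proper homogeneous ideal lies in the irrelevant ideal -/
theorem le_irr_of_ne_top (J : HomogeneousIdeal 𝒜) (hJ : J.toIdeal ≠ ⊤) :
    J.toIdeal ≤ (irrel 𝒜).toIdeal := by
  classical
  intro x hx
  apply mem_irr_of_decompose_zero 𝒜 hpos
  by_contra h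
  apply hJ
  have h1 : (decompose 𝒜 x 0 : R) ∈ J.toIdeal := J.isHomogeneous 0 hx
  set c : GrLC.deg0 𝒜 := ⟨(decompose 𝒜 x 0 : R), (decompose 𝒜 x 0).2⟩ with hc
  have hc0 : c ≠ 0 := fun h' => h (congrArg Subtype.val h')
  obtain ⟨b, hb⟩ := h0.mul_inv_cancel hc0
  rw [Ideal.eq_top_iff_one]
  have h2 : (decompose 𝒜 x 0 : R) * (b : R) = 1 := congrArg Subtype.val hb
  rw [← h2]
  exact Ideal.mul_mem_right _ _ h1

include hpos h0 in
/-- **a graded ring defined over a field is *local with *maximal ideal the irrelevant ideal** -/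
theorem isStarLocal_irr : GrLC.IsStarLocal 𝒜 (irrel 𝒜) := by
  have hne : irrel 𝒜 ≠ ⊤ := by
    intro h
    apply irr_ne_top 𝒜 hpos h0
    rw [h, HomogeneousIdeal.toIdeal_top]
  have hle : ∀ J : HomogeneousIdeal 𝒜, J ≠ ⊤ → J ≤ irrel 𝒜 := by
    intro J hJ
    apply le_irr_of_ne_top 𝒜 hpos h0 J
    intro h
    apply hJ
    apply HomogeneousIdeal.toIdeal_injective
    rw [h, HomogeneousIdeal.toIdeal_top]
  have hco : IsCoatom (irrel 𝒜) := by
    refine ⟨hne, fun b hb => ?_⟩
    by_contra hb'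
    exact absurd (hle b hb') (not_le_of_gt hb)
  refine ⟨hco, fun n hn => ?_⟩
  rcases hn.le_iff.mp (hle n hn.1) with h | h
  · exact absurd h hne
  · exact h.symm

end Irr

section Ver

variable {R R' : Type u} [CommRing R] [CommRing R'] {𝒜 : ℤ → AddSubgroup R} [GradedRing 𝒜]
  {𝒜' : ℤ → AddSubgroup R'} [GradedRing 𝒜'] (D : VData 𝒜 𝒜')
  (hpos : ∀ n : ℤ, n < 0 → 𝒜 n = ⊥) (h0 : IsField (GrLC.deg0 𝒜))

include D hpos in
theorem hpos_ver : ∀ j : ℤ, j < 0 → 𝒜' j = ⊥ := by
  intro j hj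
  rw [eq_bot_iff]
  intro x hx
  have h1 : D.φ x ∈ 𝒜 (j * D.q) := D.map_mem j x hx
  have hneg : j * (D.q : ℤ) < 0 := mul_neg_of_neg_of_pos hj D.qpos
  rw [hpos _ hneg] at h1
  have h2 : D.φ x = 0 := (AddSubgroup.mem_bot).mp h1
  exact (AddSubgroup.mem_bot).mpr (D.inj (h2.trans (map_zero D.φ).symm))

include D h0 in
theorem h0_ver : IsField (GrLC.deg0 𝒜') := by
  have hmem : ∀ x ∈ GrLC.deg0 𝒜', D.φ x ∈ GrLC.deg0 𝒜 := by
    intro x hx
    have := D.map_mem 0 x hx
    rwa [zero_mul] at this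
  let ρ : GrLC.deg0 𝒜' →+* GrLC.deg0 𝒜 := D.φ.restrict (GrLC.deg0 𝒜') (GrLC.deg0 𝒜) hmem
  have hρ : Function.Bijective ρ := by
    constructor
    · intro a b hab
      exact Subtype.ext (D.inj (congrArg Subtype.val hab))
    · rintro ⟨r, hr⟩
      have hr' : r ∈ 𝒜 (0 * (D.q : ℤ)) := by rw [zero_mul]; exact hr
      obtain ⟨r', hr'm, e⟩ := D.exists_mem 0 r hr'
      exact ⟨⟨r', hr'm⟩, Subtype.ext e⟩
  exact (RingEquiv.ofBijective ρ hρ).toMulEquiv.isField h0

/-- `R` is integral over its Veronese subring -/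
theorem isIntegral_ver : D.φ.IsIntegral := by
  classical
  intro x
  rw [← DirectSum.sum_support_decompose 𝒜 x]
  refine Finset.sum_induction _ (fun y => D.φ.IsIntegralElem y)
    (fun a b ha hb => RingHom.IsIntegralElem.add D.φ ha hb) (D.φ.isIntegralElem_zero) (fun j _ => ?_)
  have hmem : (decompose 𝒜 x j : R) ^ D.q ∈ 𝒜 (j * (D.q : ℤ)) := by
    have := SetLike.pow_mem_graded D.q (decompose 𝒜 x j).2
    rwa [nsmul_eq_mul, mul_comm] at this
  obtain ⟨r', -, hr'⟩ := D.exists_mem j _ hmem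
  refine ⟨Polynomial.X ^ D.q - Polynomial.C r', ?_, ?_⟩
  · exact Polynomial.monic_X_pow_sub_C r' (Nat.pos_iff_ne_zero.mp D.hq)
  · rw [Polynomial.eval₂_sub, Polynomial.eval₂_pow, Polynomial.eval₂_X, Polynomial.eval₂_C, hr',
      sub_self]

include D in
/-- the Veronese subring has the same dimension -/
theorem ringKrullDim_ver : ringKrullDim R' = ringKrullDim R := by
  algebraize [D.φ]
  haveI : Algebra.IsIntegral R' R := ⟨isIntegral_ver D⟩
  exact (Groth.Agent.Helper7.NN.ringKrullDim_eq_of_isIntegral_of_injective D.inj).symm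

end Ver

end Groth.Agent.Helper7.VerGor
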