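import Mathlib
import Groth.Prelude.Def_GrLC
import Groth.Agent.Helper7.KunP2
import Groth.Agent.Helper7.VerGor4
import Groth.Agent.Helper6.HomogRank
import Groth.Agent.Helper6.GrCon

/-!
# The Veronese subring of a polynomial ring, presented abstractly: the grading (helper7)
-/

set_option autoImplicit false
set_option linter.unusedSectionVars false
set_option linter.style.haveILetI false

namespace Groth.Agent.Helper7.VerPoly

open MvPolynomial DirectSum Groth.Agent.Helper7.Kun

universe u

attribute [local instance] MvPolynomial.weightedGradedAlgebra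

section Basic

variable (k : Type u) [Field k] (s : ℕ)

/-- the standard `ℤ`-grading by subspaces -/
noncomputable abbrev gS : ℤ → Submodule k (MvPolynomial (Fin s) k) :=
  weightedHomogeneousSubmodule k (fun _ : Fin s => (1 : ℤ))

/-- the standard `ℤ`-grading by additive subgroups -/
noncomputable abbrev gA : ℤ → AddSubgroup (MvPolynomial (Fin s) k) := plus (gS k s)

variable {k s}

theorem weight_eq_degree (e : Fin s →₀ ℕ) :
    Finsupp.weight (fun _ : Fin s => (1 : ℤ)) e = (e.degree : ℤ) := by
  rw [SegPol.weight_eq_sum, Finsupp.degree_apply, Nat.cast_sum]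

theorem mem_gA_iff (p : MvPolynomial (Fin s) k) (i : ℤ) :
    p ∈ gA k s i ↔ ∀ e, coeff e p ≠ 0 → (e.degree : ℤ) = i := by
  constructor
  · intro h e he
    rw [← weight_eq_degree]
    exact h he
  · intro h e he
    rw [weight_eq_degree]
    exact h e he

/-- the weighted homogeneous component -/
noncomputable def wc (i : ℤ) : MvPolynomial (Fin s) k →ₗ[k] MvPolynomial (Fin s) k :=
  weightedHomogeneousComponent (fun _ : Fin s => (1 : ℤ)) i

theorem coeff_wc (i : ℤ) (p : MvPolynomial (Fin s) k) (e : Fin s →₀ ℕ) :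
    coeff e (wc i p) = if (e.degree : ℤ) = i then coeff e p else 0 := by
  classical
  rw [wc, coeff_weightedHomogeneousComponent, weight_eq_degree]

theorem wc_mem (i : ℤ) (p : MvPolynomial (Fin s) k) : wc i p ∈ gA k s i := by
  rw [mem_gA_iff]
  intro e he
  rw [coeff_wc] at he
  by_contra h
  rw [if_neg h] at he
  exact he rfl

theorem wc_same {i : ℤ} {p : MvPolynomial (Fin s) k} (hp : p ∈ gA k s i) : wc i p = p := by
  rw [mem_gA_iff] at hp
  ext e
  rw [coeff_wc]
  split_ifs with h
  · rfl
  · by_contra hne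
    exact h (hp e (Ne.symm hne))

theorem wc_ne {i j : ℤ} {p : MvPolynomial (Fin s) k} (hp : p ∈ gA k s i) (hij : i ≠ j) :
    wc j p = 0 := by
  rw [mem_gA_iff] at hp
  ext e
  rw [coeff_wc, coeff_zero]
  split_ifs with h
  · by_contra hne
    exact hij ((hp e hne).symm.trans h)
  · rfl

end Basic

section Ver

variable {k : Type u} [Field k] {s : ℕ} {R' : Type u} [CommRing R']
  (φ : R' →+* MvPolynomial (Fin s) k) (d : ℕ)

theorem mem_range_iff
    (hrange : ∀ p : MvPolynomial (Fin s) k, p ∈ φ.range ↔
      ∀ j : ℕ, ¬ d ∣ j → MvPolynomial.homogeneousComponent j p = 0)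
    (p : MvPolynomial (Fin s) k) :
    p ∈ φ.range ↔ ∀ e, coeff e p ≠ 0 → d ∣ e.degree := by
  classical
  rw [hrange]
  constructor
  · intro h e he
    by_contra hd
    have h2 := congrArg (coeff e) (h e.degree hd)
    rw [coeff_homogeneousComponent, if_pos rfl, coeff_zero] at h2
    exact he h2
  · intro h j hj
    ext e
    rw [coeff_homogeneousComponent, coeff_zero]
    split_ifs with hje
    · by_contra hne
      exact hj (hje ▸ h e hne)
    · rfl

/-- the grading of the Veronese subring -/
noncomputable def gA' (j : ℤ) : AddSubgroup R' :=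
  (gA k s (j * d)).comap (φ : R' →+ MvPolynomial (Fin s) k)

theorem mem_gA' (j : ℤ) (x : R') : x ∈ gA' φ d j ↔ φ x ∈ gA k s (j * d) := Iff.rfl

theorem gradedMonoid' : SetLike.GradedMonoid (gA' φ d) where
  one_mem := by
    rw [mem_gA', map_one, zero_mul]
    exact SetLike.GradedOne.one_mem
  mul_mem := fun i j x y hx hy => by
    rw [mem_gA'] at hx hy ⊢
    rw [map_mul, add_mul]
    exact SetLike.GradedMul.mul_mem hx hy

variable (hrange : ∀ p : MvPolynomial (Fin s) k, p ∈ φ.range ↔
      ∀ j : ℕ, ¬ d ∣ j → MvPolynomial.homogeneousComponent j p = 0)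

include hrange in
theorem wc_mem_range (x : R') (j : ℤ) : wc (j * d) (φ x) ∈ φ.range := by
  rw [mem_range_iff φ d hrange]
  intro e he
  rw [coeff_wc] at he
  split_ifs at he with h
  · have : (d : ℤ) ∣ (e.degree : ℤ) := ⟨j, by rw [h, mul_comm]⟩
    exact Int.natCast_dvd_natCast.mp this
  · exact absurd rfl he

/-- the projection onto the `j`-th piece of the Veronese subring -/
noncomputable def pr (j : ℤ) (x : R') : R' := Classical.choose (wc_mem_range φ d hrange x j)

theorem map_pr (j : ℤ) (x : R') : φ (pr φ d hrange j x) = wc (j * d) (φ x) :=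
  Classical.choose_spec (wc_mem_range φ d hrange x j)

variable (hφ : Function.Injective φ) (hd : 1 ≤ d)

include hφ hd hrange in
theorem exists_sum_pr (x : R') : ∃ t : Finset ℤ, ∑ i ∈ t, pr φ d hrange i x = x := by
  classical
  have hd' : (d : ℤ) ≠ 0 := by
    have : (1 : ℤ) ≤ d := by exact_mod_cast hd
    omega
  refine ⟨(φ x).support.image (fun e => ((e.degree / d : ℕ) : ℤ)), ?_⟩
  apply hφ
  rw [map_sum]
  ext e
  rw [coeff_sum]
  simp only [map_pr, coeff_wc]
  by_cases he : coeff e (φ x) = 0
  · rw [he]
    simp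
  · have hdvd : d ∣ e.degree := (mem_range_iff φ d hrange (φ x)).mp ⟨x, rfl⟩ e he
    have hmem : ((e.degree / d : ℕ) : ℤ) ∈ (φ x).support.image (fun e => ((e.degree / d : ℕ) : ℤ)) :=
      Finset.mem_image.mpr ⟨e, mem_support_iff.mpr he, rfl⟩
    rw [Finset.sum_eq_single_of_mem _ hmem]
    · rw [if_pos]
      rw [← Nat.cast_mul, Nat.div_mul_cancel hdvd]
    · intro b _ hb
      rw [if_neg]
      intro h
      apply hb
      have h1 : (e.degree : ℤ) = ((e.degree / d : ℕ) : ℤ) * d := by
        rw [← Nat.cast_mul, Nat.div_mul_cancel hdvd]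
      rw [h1] at h
      exact (mul_right_cancel₀ hd' h).symm


include hφ hd hrange in
theorem isInternal' : DirectSum.IsInternal (gA' φ d) := by
  classical
  have hd' : (d : ℤ) ≠ 0 := by
    have : (1 : ℤ) ≤ d := by exact_mod_cast hd
    omega
  refine Groth.Agent.Helper6.GrCon.isInternal_of_proj (gA' φ d) (pr φ d hrange) ?_ ?_ ?_ ?_ ?_
  · intro i x
    rw [mem_gA', map_pr]
    exact wc_mem _ _
  · intro i x hx
    apply hφ
    rw [map_pr]
    exact wc_same hx
  · intro i j x hx hij
    apply hφ
    rw [map_pr, map_zero]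
    refine wc_ne hx ?_
    intro h
    exact hij (mul_right_cancel₀ hd' h)
  · intro j x y
    apply hφ
    rw [map_add, map_pr, map_pr, map_pr, map_add, map_add]
  · exact exists_sum_pr φ d hrange hφ hd

include hφ hd hrange in
/-- the preimage of the ideal of polynomials without constant term is the irrelevant ideal -/
theorem comap_ker_eq :
    Ideal.comap φ (RingHom.ker (MvPolynomial.constantCoeff : MvPolynomial (Fin s) k →+* k)) =
      Ideal.span (⋃ j ∈ Set.Ioi (0 : ℤ), (gA' φ d j : Set R')) := by
  classical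
  have hd' : (0 : ℤ) < d := by exact_mod_cast hd
  apply le_antisymm
  · intro x hx
    rw [Ideal.mem_comap, RingHom.mem_ker, constantCoeff_eq] at hx
    obtain ⟨t, ht⟩ := exists_sum_pr φ d hrange hφ hd x
    rw [← ht]
    refine Ideal.sum_mem _ fun i _ => ?_
    by_cases hi : 0 < i
    · apply Ideal.subset_span
      refine Set.mem_iUnion₂.mpr ⟨i, hi, ?_⟩
      rw [SetLike.mem_coe, mem_gA', map_pr]
      exact wc_mem _ _
    · have h0 : pr φ d hrange i x = 0 := by
        apply hφ
        rw [map_pr, map_zero]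
        ext e
        rw [coeff_wc, coeff_zero]
        split_ifs with h
        · have h1 : (e.degree : ℤ) ≤ 0 := by
            rw [h]
            exact mul_nonpos_of_nonpos_of_nonneg (by omega) hd'.le
          have h2 : e.degree = 0 := by omega
          have h3 : e = 0 := (Finsupp.degree_eq_zero_iff e).mp h2
          rw [h3]
          exact hx
        · rfl
      rw [h0]
      exact zero_mem _
  · rw [Ideal.span_le]
    intro x hx
    obtain ⟨j, hj, hxj⟩ := Set.mem_iUnion₂.mp hx
    have hj' : (0 : ℤ) < j := hj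
    rw [SetLike.mem_coe, mem_gA', mem_gA_iff] at hxj
    rw [SetLike.mem_coe, Ideal.mem_comap, RingHom.mem_ker, constantCoeff_eq]
    by_contra hne
    have h1 := hxj 0 hne
    rw [map_zero, Nat.cast_zero] at h1
    have : 0 < j * d := mul_pos hj' hd'
    omega

include hrange in
theorem map_gA' (j : ℤ) :
    (gA' φ d j).map (φ : R' →+ MvPolynomial (Fin s) k) = gA k s (j * d) := by
  apply le_antisymm
  · rintro _ ⟨x, hx, rfl⟩
    exact hx
  · intro p hp
    have hp' : p ∈ φ.range := by
      rw [mem_range_iff φ d hrange]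
      intro e he
      have h1 := (mem_gA_iff p _).mp hp e he
      have : (d : ℤ) ∣ (e.degree : ℤ) := ⟨j, by rw [h1, mul_comm]⟩
      exact Int.natCast_dvd_natCast.mp this
    obtain ⟨x, rfl⟩ := hp'
    exact ⟨x, hp, rfl⟩

end Ver

end Groth.Agent.Helper7.VerPoly
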