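import Mathlib
import Groth.Prelude.Def_GrLC
import Groth.Prelude.Def_GrLC2
import Groth.Prelude.Def_CAlg
import Groth.Prelude.Def_Wider
import Groth.Agent.Helper1.CanonI
import Groth.Agent.Helper7.BassE

/-!
# The type of a Cohen–Macaulay local ring with a canonical module is the number of generators of the canonical
module; the type of the canonical module is one (helper7)
-/

set_option autoImplicit false
set_option linter.unusedSectionVars false
set_option linter.style.haveILetI false

namespace Groth.Agent.Helper7.GrGor

open IsLocalRing CategoryTheory TensorProduct Abelian Groth.Agent.Helper1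

universe u

section LocalType

variable {A : Type u} [CommRing A] [LocCoh.IsCohenMacaulayLocalRing A]
  (n : ℕ) (hn : ringKrullDim A = n)
  (E : Type u) [AddCommGroup E] [Module A E] (f : ResidueField A →ₗ[A] E)
  (hf : InjHull.IsInjectiveHull f)
  (K : Type u) [AddCommGroup K] [Module A K] [Module.Finite A K]
  (eK : (K →ₗ[A] E) ≃ₗ[A] LocCoh.H (maximalIdeal A) n A)

include hn hf eK in
/-- the type of the canonical module is one -/
theorem length_ext_canon :
    Module.length A (Ext (ModuleCat.of A (A ⧸ maximalIdeal A)) (ModuleCat.of A K) n) = 1 :=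
  Module.length_eq_one_iff.2 (Canon.isSimpleModule_ext_residueField n hn E f hf K eK)

include hn hf eK in
/-- the type of the ring is the number of generators of the canonical module -/
theorem length_ext_self :
    Module.length A (Ext (ModuleCat.of A (A ⧸ maximalIdeal A)) (ModuleCat.of A A) n) =
      Module.length A ((A ⧸ maximalIdeal A) ⊗[A] K) := by
  haveI := hf.isInjective
  obtain ⟨hinj, -, hsimple⟩ := (Groth.Agent.S5155.result A E).1 ⟨f, hf⟩
  obtain ⟨e1⟩ := GorTop.nonempty_ext_equiv_hom (maximalIdeal A) n (ModuleCat.of A A)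
    (fun j hj => (LDual.isZero_lc_of_cm n hn j hj).injective)
    (ModuleCat.of A (A ⧸ maximalIdeal A)) Canon.isTors_residueField
  let e2 : ((A ⧸ maximalIdeal A) →ₗ[A] LocCoh.H (maximalIdeal A) n A) ≃ₗ[A]
      ((A ⧸ maximalIdeal A) →ₗ[A] (K →ₗ[A] E)) := LinearEquiv.congrRight eK.symm
  let e3 : ((A ⧸ maximalIdeal A) →ₗ[A] (K →ₗ[A] E)) ≃ₗ[A]
      ((A ⧸ maximalIdeal A) ⊗[A] K →ₗ[A] E) := TensorProduct.lift.equiv (RingHom.id A) _ _ _
  have hfl : IsFiniteLength A ((A ⧸ maximalIdeal A) ⊗[A] K) := by
    apply LDual.isFiniteLength_of_pow_kill _ 1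
    intro a ha x
    rw [pow_one] at ha
    induction x using TensorProduct.induction_on with
    | zero => rw [smul_zero]
    | tmul y z =>
      rw [TensorProduct.smul_tmul', Groth.Agent.Helper6.Bass.smul_quot_eq_zero (maximalIdeal A) a ha y,
        TensorProduct.zero_tmul]
    | add y z hy hz => rw [smul_add, hy, hz, add_zero]
  rw [e1.length_eq]
  change Module.length A ((A ⧸ maximalIdeal A) →ₗ[A] LocCoh.H (maximalIdeal A) n A) = _
  rw [e2.length_eq, e3.length_eq]
  exact Groth.Agent.Helper2.MatlisLen.key hsimple hinj _ hfl

end LocalType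

section Fibre

variable {R : Type u} [CommRing R] (m : Ideal R) [hmax : m.IsMaximal]
  (C : Type u) [AddCommGroup C] [Module R C] [Module.Finite R C]

/-- the number of generators of `C_m` is the dimension of the fibre `C/mC` -/
theorem length_residue_tensor :
    Module.length (Localization.AtPrime m)
      ((Localization.AtPrime m ⧸ maximalIdeal (Localization.AtPrime m)) ⊗[Localization.AtPrime m]
        ((Localization.AtPrime m) ⊗[R] C)) =
      (Module.finrank (R ⧸ m) ((R ⧸ m) ⊗[R] C) : ℕ∞) := by
  letI : Field (R ⧸ m) := Ideal.Quotient.field m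
  let σ := IsLocalization.AtPrime.equivQuotMaximalIdeal m (Localization.AtPrime m)
  have hsurj : Function.Surjective (algebraMap R
      (Localization.AtPrime m ⧸ maximalIdeal (Localization.AtPrime m))) := by
    intro y
    obtain ⟨x, hx⟩ := Ideal.Quotient.mk_surjective (σ.symm y)
    refine ⟨x, ?_⟩
    have h1 : σ (Ideal.Quotient.mk m x) = y := by rw [hx, σ.apply_symm_apply]
    rw [← h1]
    rfl
  have hsurjA : Function.Surjective (algebraMap (Localization.AtPrime m)
      (Localization.AtPrime m ⧸ maximalIdeal (Localization.AtPrime m))) :=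
    Ideal.Quotient.mk_surjective
  have hsurjR : Function.Surjective (algebraMap R (R ⧸ m)) := Ideal.Quotient.mk_surjective
  let σ' : (R ⧸ m) ≃ₗ[R] (Localization.AtPrime m ⧸ maximalIdeal (Localization.AtPrime m)) :=
    { σ.toAddEquiv with
      map_smul' := fun r x => by
        obtain ⟨y, rfl⟩ := Ideal.Quotient.mk_surjective x
        show σ (r • Ideal.Quotient.mk m y) = r • σ (Ideal.Quotient.mk m y)
        rw [Algebra.smul_def, map_mul, Algebra.smul_def]
        rfl }
  let ec := TensorProduct.AlgebraTensorModule.cancelBaseChange R (Localization.AtPrime m)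
    (Localization.AtPrime m)
    (Localization.AtPrime m ⧸ maximalIdeal (Localization.AtPrime m)) C
  rw [ec.length_eq,
    Module.length_eq_of_surjective (S := Localization.AtPrime m)
      (R := Localization.AtPrime m ⧸ maximalIdeal (Localization.AtPrime m)) hsurjA,
    ← Module.length_eq_of_surjective (S := R)
      (R := Localization.AtPrime m ⧸ maximalIdeal (Localization.AtPrime m)) hsurj,
    ← (TensorProduct.congr σ' (LinearEquiv.refl R C)).length_eq,
    Module.length_eq_of_surjective (S := R) (R := R ⧸ m) hsurjR,
    Module.length_eq_finrank]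

end Fibre

end Groth.Agent.Helper7.GrGor
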