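import Mathlib
import Groth.Prelude.Def_GrLC
import Groth.Prelude.Def_CAlg
import Groth.Agent.Helper7.GrAInv2
import Groth.Agent.Helper7.GrAInv3

/-!
# The `a`-invariant of the quotient of a Cohen–Macaulay graded ring over a field by a homogeneous
regular sequence
-/

set_option autoImplicit false
set_option linter.unusedSectionVars false

namespace Groth.Agent.Helper7.GrAInv

open DirectSum RingTheory.Sequence

universe u

variable {R : Type u} [CommRing R] (𝒜 : ℤ → AddSubgroup R) [GradedRing 𝒜]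
  (hpos : ∀ n : ℤ, n < 0 → 𝒜 n = ⊥)

/-- the terms of a regular sequence on a ring are nonzero -/
theorem ne_zero_of_isRegular (rs : List R) (hreg : IsRegular R rs) (i : ℕ) (hi : i < rs.length) :
    rs[i] ≠ 0 := by
  intro h0
  have h1 := hreg.toIsWeaklyRegular.regular_mod_prev i hi
  rw [h0] at h1
  have h2 : Subsingleton (R ⧸ (Ideal.ofList (rs.take i) • ⊤ : Submodule R R)) :=
    IsSMulRegular.zero_iff_subsingleton.mp h1
  have h3 : (Ideal.ofList (rs.take i) • ⊤ : Submodule R R) = ⊤ :=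
    Submodule.Quotient.subsingleton_iff.mp h2
  have hle : Ideal.ofList (rs.take i) ≤ Ideal.ofList rs := by
    refine Ideal.span_mono ?_
    intro x hx
    exact List.mem_of_mem_take hx
  apply hreg.top_ne_smul
  have h4 : (Ideal.ofList (rs.take i) • ⊤ : Submodule R R) ≤ Ideal.ofList rs • ⊤ :=
    Submodule.smul_mono_left hle
  rw [h3] at h4
  exact (top_le_iff.mp h4).symm

variable (h0 : IsField (GrLC.deg0 𝒜)) (m : HomogeneousIdeal 𝒜) (hm : IsCoatom m)

include h0 hm in
/-- the degree zero part of `m` vanishes -/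
theorem eq_zero_of_mem_deg0 (x : R) (hx0 : x ∈ 𝒜 0) (hxm : x ∈ m.toIdeal) : x = 0 := by
  by_contra hne
  apply Groth.Agent.Helper7.GrStarLoc.one_notMem 𝒜 m hm
  let y : GrLC.deg0 𝒜 := ⟨x, hx0⟩
  have hy : y ≠ 0 := fun h => hne (congrArg Subtype.val h)
  obtain ⟨z, hz⟩ := h0.mul_inv_cancel hy
  have : (1 : R) = x * (z : R) := (congrArg Subtype.val hz).symm
  rw [this]
  exact m.toIdeal.mul_mem_right _ hxm

variable [hCM : LocCoh.IsCohenMacaulayRing R]

include hpos h0 hm in
theorem aInvariant_regSeq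
    (hmsp : m.toIdeal = Ideal.span (⋃ n ∈ Set.Ioi (0 : ℤ), (𝒜 n : Set R)))
    (n : ℕ) (hn : ringKrullDim R = n) (I : GrLC.StarInjRes 𝒜 𝒜) (t : ℕ) (htn : t ≤ n)
    (f : Fin t → R) (deg : Fin t → ℤ) (hfdeg : ∀ i, f i ∈ 𝒜 (deg i))
    (hfm : ∀ i, f i ∈ m.toIdeal) (hreg : IsRegular R (List.ofFn f))
    (N : Type u) [AddCommGroup N] [Module R N] (𝒩 : ℤ → AddSubgroup N) [Decomposition 𝒩]
    [SetLike.GradedSMul 𝒜 𝒩] (π : R →ₗ[R] N) (hπ : GrLC.IsGrHom 𝒜 𝒩 π)
    (hπs : Function.Surjective π) (hπk : LinearMap.ker π = Ideal.span (Set.range f))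
    (F : GrLC.StarInjRes 𝒜 𝒩) :
    GrLC.endDeg (F.Hgr m (n - t)) = GrLC.endDeg (I.Hgr m n) +
      ((((Finset.univ : Finset (Fin t)).sum deg : ℤ) : WithTop ℤ) : WithBot (WithTop ℤ)) := by
  have hN : IsNoetherianRing R := inferInstance
  -- positivity of the degrees
  have hdpos : ∀ i, 0 < deg i := by
    intro i
    have hne : f i ≠ 0 := by
      have h1 := ne_zero_of_isRegular (List.ofFn f) hreg i (by rw [List.length_ofFn]; exact i.2)
      rw [List.getElem_ofFn] at h1
      exact h1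
    by_contra hcon
    rcases lt_or_eq_of_le (not_lt.mp hcon) with h | h
    · exact hne (Groth.Agent.Helper7.GrStarLoc.eq_zero_of_neg 𝒜 hpos _ h _ (hfdeg i))
    · have := hfdeg i
      rw [h] at this
      exact hne (eq_zero_of_mem_deg0 𝒜 h0 m hm _ this (hfm i))
  let X : GrLC.GMod.{u} 𝒜 := GrLC.GMod.of 𝒜 R 𝒜
  let XN : GrLC.GMod.{u} 𝒜 := GrLC.GMod.of 𝒜 N 𝒩
  have hfin : Module.Finite R X.carrier := (inferInstance : Module.Finite R R)
  have hker : LinearMap.ker π = Ideal.ofList (List.ofFn f) • (⊤ : Submodule R R) := by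
    rw [hπk, smul_eq_mul, Ideal.mul_top]
    unfold Ideal.ofList
    congr 1
    ext x
    simp only [Set.mem_range, Set.mem_ofPred_eq, List.mem_ofFn]
  have hdepth : ∀ i, i < (n - t) + t → Subsingleton (I.H m i) := by
    intro i hi
    rw [Nat.sub_add_cancel htn] at hi
    exact subsingleton_H_of_lt 𝒜 hpos h0 m hm n hn I i hi
  have key := endDeg_regSeq 𝒜 hpos m hmsp t (n - t) X I hdepth f deg hfdeg hdpos
    hreg.toIsWeaklyRegular XN π hπ hπs hker F
  rw [Nat.sub_add_cancel htn] at key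
  exact key

end Groth.Agent.Helper7.GrAInv
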