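import Mathlib
import Groth.Prelude.Def_GrLC
import Groth.Agent.Helper6.GrMod
import Groth.Agent.Helper7.GrStarLoc1
import Groth.Agent.Helper7.GrAInv4

/-!
# Graded Matlis duality, part 1: the structure of the *injective envelope of the residue field of a graded ring
defined over a field (helper7)
-/

set_option autoImplicit false
set_option linter.unusedSectionVars false
set_option linter.style.haveILetI false

namespace Groth.Agent.Helper7.GrDu

open DirectSum Groth.Agent.Helper6.GrMod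

universe u

/-- the image of `1` in the envelope -/
noncomputable def eps {R : Type u} [CommRing R] {𝒜 : ℤ → AddSubgroup R} [GradedRing 𝒜]
    (m : HomogeneousIdeal 𝒜) {E : Type u} [AddCommGroup E] [Module R E]
    (e : (R ⧸ m.toIdeal) →ₗ[R] E) : E := e (Ideal.Quotient.mk m.toIdeal 1)

variable {R : Type u} [CommRing R] (𝒜 : ℤ → AddSubgroup R) [GradedRing 𝒜]
  (hpos : ∀ n : ℤ, n < 0 → 𝒜 n = ⊥) (h0 : IsField (GrLC.deg0 𝒜))
  (m : HomogeneousIdeal 𝒜) (hm : IsCoatom m)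
  {E : Type u} [AddCommGroup E] [Module R E] (𝓔 : ℤ → AddSubgroup E) [Decomposition 𝓔]
  [SetLike.GradedSMul 𝒜 𝓔]
  (e : (R ⧸ m.toIdeal) →ₗ[R] E) (he : GrLC.IsStarInjHull 𝒜 (GrLC.quotGr 𝒜 m) 𝓔 e)

theorem e_mk (r : R) : e (Ideal.Quotient.mk m.toIdeal r) = r • eps m e := by
  unfold eps
  rw [← map_smul]
  congr 1
  rw [Algebra.smul_def, map_one, mul_one]
  rfl

include he in
theorem eps_mem : eps m e ∈ 𝓔 0 :=
  he.grHom 0 _ ⟨1, (SetLike.GradedOne.one_mem : (1 : R) ∈ 𝒜 0), rfl⟩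

include he hm in
theorem eps_ne_zero : eps m e ≠ 0 := by
  intro h
  have h1 : Ideal.Quotient.mk m.toIdeal (1 : R) = 0 := he.injective (by rw [map_zero]; exact h)
  rw [Ideal.Quotient.eq_zero_iff_mem] at h1
  exact Groth.Agent.Helper7.GrStarLoc.one_notMem 𝒜 m hm h1

theorem smul_eps_of_mem {a : R} (ha : a ∈ m.toIdeal) : a • eps m e = 0 := by
  rw [← e_mk 𝒜 m e, Ideal.Quotient.eq_zero_iff_mem.mpr ha, map_zero]

include hpos hm in
theorem smul_eps_of_pos {i : ℤ} (hi : 0 < i) {a : R} (ha : a ∈ 𝒜 i) : a • eps m e = 0 :=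
  smul_eps_of_mem 𝒜 m e (Groth.Agent.Helper7.GrStarLoc.mem_of_pos 𝒜 hpos m hm hi ha)

include hpos hm he in
/-- `r • ε` is the degree-zero component of `r` times `ε` -/
theorem smul_eps_eq (r : R) : r • eps m e = (decompose 𝒜 r 0 : R) • eps m e := by
  classical
  conv_lhs => rw [← DirectSum.sum_support_decompose 𝒜 r]
  rw [Finset.sum_smul]
  by_cases h : (0 : ℤ) ∈ (decompose 𝒜 r).support
  · rw [Finset.sum_eq_single (0 : ℤ)]
    · intro i _ hi
      rcases lt_or_gt_of_ne hi with h1 | h1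
      · rw [Groth.Agent.Helper7.GrStarLoc.eq_zero_of_neg 𝒜 hpos i h1 _ (SetLike.coe_mem _), zero_smul]
      · exact smul_eps_of_pos 𝒜 hpos m hm e h1 (SetLike.coe_mem _)
    · intro h'; exact absurd h h'
  · rw [DFinsupp.notMem_support_iff] at h
    rw [h, ZeroMemClass.coe_zero, zero_smul]
    apply Finset.sum_eq_zero
    intro i hi
    have hi0 : i ≠ 0 := by
      rintro rfl
      rw [DFinsupp.mem_support_iff] at hi
      exact hi h
    rcases lt_or_gt_of_ne hi0 with h1 | h1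
    · rw [Groth.Agent.Helper7.GrStarLoc.eq_zero_of_neg 𝒜 hpos i h1 _ (SetLike.coe_mem _), zero_smul]
    · exact smul_eps_of_pos 𝒜 hpos m hm e h1 (SetLike.coe_mem _)

theorem range_e : LinearMap.range e = Submodule.span R {eps m e} := by
  ext x
  rw [LinearMap.mem_range, Submodule.mem_span_singleton]
  constructor
  · rintro ⟨q, rfl⟩
    obtain ⟨r, rfl⟩ := Ideal.Quotient.mk_surjective q
    exact ⟨r, (e_mk 𝒜 m e r).symm⟩
  · rintro ⟨r, rfl⟩
    exact ⟨Ideal.Quotient.mk m.toIdeal r, e_mk 𝒜 m e r⟩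

include he in
theorem range_e_isHomogeneous : (LinearMap.range e).IsHomogeneous 𝓔 := by
  rw [range_e 𝒜 m e]
  exact span_singleton_isHomogeneous 𝒜 𝓔 (eps_mem 𝒜 m 𝓔 e he)

include hpos h0 hm he in
/-- **every nonzero homogeneous element of the envelope has a homogeneous multiple equal to `ε`** -/
theorem exists_smul_eq_eps {d : ℤ} {x : E} (hx : x ∈ 𝓔 d) (hx0 : x ≠ 0) :
    ∃ a ∈ 𝒜 (-d), a • x = eps m e := by
  obtain ⟨e', a, ha, hax0, hax⟩ := exists_homog_smul_of_homog 𝒜 (GrLC.quotGr 𝒜 m) 𝓔 he.toIsStarEss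
    (range_e_isHomogeneous 𝒜 m 𝓔 e he) hx hx0
  rw [range_e 𝒜 m e, Submodule.mem_span_singleton] at hax
  obtain ⟨r, hr⟩ := hax
  rw [smul_eps_eq 𝒜 hpos m hm 𝓔 e he r] at hr
  set r0 : R := (decompose 𝒜 r 0 : R) with hr0
  have hr0mem : r0 ∈ 𝒜 0 := SetLike.coe_mem _
  have h1 : a • x ∈ 𝓔 (e' + d) := smul_mem' 𝒜 𝓔 ha hx
  have h2 : a • x ∈ 𝓔 0 := by
    rw [← hr]
    have := smul_mem' 𝒜 𝓔 hr0mem (eps_mem 𝒜 m 𝓔 e he)
    rwa [add_zero] at this
  have hdeg : e' + d = 0 := by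
    by_contra hne
    apply hax0
    have := decompose_of_mem_ne 𝓔 h1 hne
    rw [decompose_of_mem_same 𝓔 h2] at this
    exact this
  have hr0ne : (⟨r0, hr0mem⟩ : GrLC.deg0 𝒜) ≠ 0 := by
    intro h
    apply hax0
    have : r0 = 0 := congrArg Subtype.val h
    rw [← hr, this, zero_smul]
  obtain ⟨u, hu⟩ := h0.mul_inv_cancel hr0ne
  have hu' : r0 * (u : R) = 1 := congrArg Subtype.val hu
  refine ⟨(u : R) * a, ?_, ?_⟩
  · have : (u : R) * a ∈ 𝒜 (0 + e') := SetLike.GradedMul.mul_mem u.2 ha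
    rw [zero_add] at this
    have he' : e' = -d := by omega
    rw [he'] at this
    exact this
  · rw [mul_smul, ← hr, ← mul_smul, mul_comm, hu', one_smul]

include hpos h0 hm he in
/-- the envelope lives in nonpositive degrees -/
theorem piece_eq_bot_of_pos {d : ℤ} (hd : 0 < d) : 𝓔 d = ⊥ := by
  rw [eq_bot_iff]
  intro x hx
  rw [AddSubgroup.mem_bot]
  by_contra hx0
  obtain ⟨a, ha, hax⟩ := exists_smul_eq_eps 𝒜 hpos h0 m hm 𝓔 e he hx hx0
  have : a = 0 := Groth.Agent.Helper7.GrStarLoc.eq_zero_of_neg 𝒜 hpos (-d) (by omega) a ha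
  rw [this, zero_smul] at hax
  exact eps_ne_zero 𝒜 m hm 𝓔 e he hax.symm

include hpos h0 hm he in
/-- the degree-zero piece of the envelope is spanned by `ε` -/
theorem exists_eq_smul_eps {x : E} (hx : x ∈ 𝓔 0) : ∃ c ∈ 𝒜 0, x = c • eps m e := by
  by_cases hx0 : x = 0
  · exact ⟨0, zero_mem _, by rw [hx0, zero_smul]⟩
  obtain ⟨a, ha, hax⟩ := exists_smul_eq_eps 𝒜 hpos h0 m hm 𝓔 e he hx hx0
  rw [neg_zero] at ha
  have hane : (⟨a, ha⟩ : GrLC.deg0 𝒜) ≠ 0 := by
    intro h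
    have : a = 0 := congrArg Subtype.val h
    rw [this, zero_smul] at hax
    exact eps_ne_zero 𝒜 m hm 𝓔 e he hax.symm
  obtain ⟨u, hu⟩ := h0.mul_inv_cancel hane
  have hu' : a * (u : R) = 1 := congrArg Subtype.val hu
  refine ⟨(u : R), u.2, ?_⟩
  rw [← hax, ← mul_smul, mul_comm, hu', one_smul]

end Groth.Agent.Helper7.GrDu
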