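import Mathlib
import Groth.Prelude.Def_GrLC
import Groth.Agent.Helper6.GrMod
import Groth.Agent.Helper6.GrCon
import Groth.Agent.Helper6.GrShift
import Groth.Agent.Helper7.GrDu1

/-!
# Graded Matlis duality, part 2: maps of degree `j` into the *injective envelope of the residue field are the
dual of the piece of degree `-j` (helper7)
-/

set_option autoImplicit false
set_option linter.unusedSectionVars false
set_option linter.style.haveILetI false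

namespace Groth.Agent.Helper7.GrDu

open DirectSum Groth.Agent.Helper6.GrMod Groth.Agent.Helper6.GrCon Groth.Agent.Helper6.GrShift

universe u

section GeSub

variable {R : Type u} [CommRing R] (𝒜 : ℤ → AddSubgroup R) [GradedRing 𝒜]
  (hpos : ∀ n : ℤ, n < 0 → 𝒜 n = ⊥)
  {C : Type u} [AddCommGroup C] [Module R C] (𝒞 : ℤ → AddSubgroup C) [Decomposition 𝒞]
  [SetLike.GradedSMul 𝒜 𝒞]

include hpos in
theorem smul_low_component (t : ℤ) (a : R) (x : C) (hx : ∀ g < t, (decompose 𝒞 x g : C) = 0) :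
    ∀ g < t, (decompose 𝒞 (a • x) g : C) = 0 := by
  induction a using Decomposition.inductionOn 𝒜 with
  | zero => intro g _; simp
  | @homogeneous i a =>
    intro g hg
    by_cases hi : i < 0
    · have : (a : R) = 0 := Groth.Agent.Helper7.GrStarLoc.eq_zero_of_neg 𝒜 hpos i hi _ a.2
      rw [this, zero_smul]; simp
    · have : g = i + (g - i) := by omega
      rw [this, decompose_smul_homog 𝒜 𝒞 a.2, hx (g - i) (by omega), smul_zero]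
  | add a a' h h' =>
    intro g hg
    rw [add_smul, decompose_add, DirectSum.add_apply, AddSubgroup.coe_add, h g hg, h' g hg, add_zero]

/-- the submodule of elements with no components of degree `< t` -/
def geSub (t : ℤ) : Submodule R C where
  carrier := {x | ∀ g < t, (decompose 𝒞 x g : C) = 0}
  zero_mem' := by intro g _; simp
  add_mem' := by
    intro x y hx hy g hg
    rw [decompose_add, DirectSum.add_apply, AddSubgroup.coe_add, hx g hg, hy g hg, add_zero]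
  smul_mem' := fun a x hx => smul_low_component 𝒜 hpos 𝒞 t a x hx

theorem mem_geSub {t : ℤ} {x : C} :
    x ∈ geSub 𝒜 hpos 𝒞 t ↔ ∀ g < t, (decompose 𝒞 x g : C) = 0 := Iff.rfl

theorem geSub_isHomogeneous (t : ℤ) : (geSub 𝒜 hpos 𝒞 t).IsHomogeneous 𝒞 := by
  intro i x hx g hg
  by_cases h : i = g
  · subst h
    rw [decompose_of_mem_same 𝒞 (decompose 𝒞 x i).2]
    exact hx i hg
  · exact decompose_of_mem_ne 𝒞 (decompose 𝒞 x i).2 h

theorem mem_geSub_of_mem {t g : ℤ} (hg : t ≤ g) {x : C} (hx : x ∈ 𝒞 g) :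
    x ∈ geSub 𝒜 hpos 𝒞 t := by
  intro g' hg'
  exact decompose_of_mem_ne 𝒞 hx (by omega)

/-- the projection to a piece, linear over the degree-zero subring -/
noncomputable def projComp (t : ℤ) : C →ₗ[GrLC.deg0 𝒜] GrLC.comp 𝒜 𝒞 t where
  toFun y := ⟨(decompose 𝒞 y t : C), (decompose 𝒞 y t).2⟩
  map_add' y y' := by
    apply Subtype.ext
    show (decompose 𝒞 (y + y') t : C) = (decompose 𝒞 y t : C) + (decompose 𝒞 y' t : C)
    rw [decompose_add, DirectSum.add_apply, AddSubgroup.coe_add]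
  map_smul' c y := by
    apply Subtype.ext
    show (decompose 𝒞 ((c : R) • y) t : C) = (c : R) • (decompose 𝒞 y t : C)
    have := decompose_smul_homog 𝒜 𝒞 (show (c : R) ∈ 𝒜 0 from c.2) y t
    rw [zero_add] at this
    exact this

theorem projComp_coe (t : ℤ) (y : C) : ((projComp 𝒜 𝒞 t y : GrLC.comp 𝒜 𝒞 t) : C) =
    (decompose 𝒞 y t : C) := rfl

theorem projComp_of_mem {t : ℤ} {y : C} (hy : y ∈ 𝒞 t) : projComp 𝒜 𝒞 t y = ⟨y, hy⟩ := by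
  apply Subtype.ext
  exact decompose_of_mem_same 𝒞 hy

theorem projComp_of_mem_ne {t g : ℤ} {y : C} (hy : y ∈ 𝒞 g) (h : g ≠ t) : projComp 𝒜 𝒞 t y = 0 := by
  apply Subtype.ext
  exact decompose_of_mem_ne 𝒞 hy h

variable {E : Type u} [AddCommGroup E] [Module R E] (𝓔 : ℤ → AddSubgroup E) [Decomposition 𝓔]
  [SetLike.GradedSMul 𝒜 𝓔]

/-- a degree-zero-linear map on the piece of degree `t`, extended by zero to all of `C` -/
noncomputable def extZeroFun (t : ℤ)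
    (θ : GrLC.comp 𝒜 𝒞 t →ₗ[GrLC.deg0 𝒜] GrLC.comp 𝒜 𝓔 0) : C →ₗ[GrLC.deg0 𝒜] E :=
  ((GrLC.comp 𝒜 𝓔 0).subtype).comp (θ.comp (projComp 𝒜 𝒞 t))

theorem extZeroFun_apply (t : ℤ) (θ : GrLC.comp 𝒜 𝒞 t →ₗ[GrLC.deg0 𝒜] GrLC.comp 𝒜 𝓔 0) (y : C) :
    extZeroFun 𝒜 𝒞 𝓔 t θ y = (θ (projComp 𝒜 𝒞 t y) : E) := rfl

include hpos in
theorem extZeroFun_smul (hE : ∀ d : ℤ, 0 < d → 𝓔 d = ⊥) (t : ℤ)
    (θ : GrLC.comp 𝒜 𝒞 t →ₗ[GrLC.deg0 𝒜] GrLC.comp 𝒜 𝓔 0) (a : R) (x : C)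
    (hx : x ∈ geSub 𝒜 hpos 𝒞 t) :
    extZeroFun 𝒜 𝒞 𝓔 t θ (a • x) = a • extZeroFun 𝒜 𝒞 𝓔 t θ x := by
  induction a using Decomposition.inductionOn 𝒜 with
  | zero => rw [zero_smul, zero_smul, map_zero]
  | @homogeneous i a =>
    rcases lt_trichotomy i 0 with hi | hi | hi
    · have : (a : R) = 0 := Groth.Agent.Helper7.GrStarLoc.eq_zero_of_neg 𝒜 hpos i hi _ a.2
      rw [this, zero_smul, zero_smul, map_zero]
    · subst hi
      exact map_smul (extZeroFun 𝒜 𝒞 𝓔 t θ) (⟨(a : R), a.2⟩ : GrLC.deg0 𝒜) x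
    · have h1 : projComp 𝒜 𝒞 t ((a : R) • x) = 0 := by
        apply Subtype.ext
        rw [projComp_coe]
        have : t = i + (t - i) := by omega
        rw [this, decompose_smul_homog 𝒜 𝒞 a.2, hx (t - i) (by omega), smul_zero]
        rfl
      rw [extZeroFun_apply, h1, map_zero]
      have h2 : (a : R) • extZeroFun 𝒜 𝒞 𝓔 t θ x ∈ 𝓔 (i + 0) :=
        smul_mem' 𝒜 𝓔 a.2 (θ (projComp 𝒜 𝒞 t x)).2
      rw [add_zero, hE i hi, AddSubgroup.mem_bot] at h2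
      rw [h2]
      rfl
  | add a a' h h' =>
    rw [add_smul, add_smul, map_add, h, h']

/-- the extension by zero, as an `R`-linear map on the submodule of elements of degrees `≥ t` -/
noncomputable def extZero (hE : ∀ d : ℤ, 0 < d → 𝓔 d = ⊥) (t : ℤ)
    (θ : GrLC.comp 𝒜 𝒞 t →ₗ[GrLC.deg0 𝒜] GrLC.comp 𝒜 𝓔 0) : ↥(geSub 𝒜 hpos 𝒞 t) →ₗ[R] E where
  toFun x := extZeroFun 𝒜 𝒞 𝓔 t θ (x : C)
  map_add' x y := by rw [Submodule.coe_add, map_add]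
  map_smul' a x := by
    rw [Submodule.coe_smul, extZeroFun_smul 𝒜 hpos 𝒞 𝓔 hE t θ a x x.2]
    rfl

theorem extZero_grHom (hE : ∀ d : ℤ, 0 < d → 𝓔 d = ⊥) {t j : ℤ} (htj : t + j = 0)
    (θ : GrLC.comp 𝒜 𝒞 t →ₗ[GrLC.deg0 𝒜] GrLC.comp 𝒜 𝓔 0) :
    GrLC.IsGrHom (subFam 𝒞 (geSub 𝒜 hpos 𝒞 t)) (shiftFam 𝓔 j) (extZero 𝒜 hpos 𝒞 𝓔 hE t θ) := by
  intro g x hx
  rw [mem_subFam] at hx
  rw [mem_shiftFam]
  show extZeroFun 𝒜 𝒞 𝓔 t θ (x : C) ∈ 𝓔 (g + j)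
  rw [extZeroFun_apply]
  by_cases h : g = t
  · subst h
    rw [htj]
    exact (θ (projComp 𝒜 𝒞 g (x : C))).2
  · rw [projComp_of_mem_ne 𝒜 𝒞 hx h, map_zero]
    exact zero_mem _

include hpos in
/-- **extension of a functional on one piece to a homogeneous map into a *injective module vanishing in positive
degrees** -/
theorem exists_homDeg_extension (hE : ∀ d : ℤ, 0 < d → 𝓔 d = ⊥) (hinj : GrLC.IsStarInj 𝒜 𝓔)
    {t j : ℤ} (htj : t + j = 0)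
    (θ : GrLC.comp 𝒜 𝒞 t →ₗ[GrLC.deg0 𝒜] GrLC.comp 𝒜 𝓔 0) :
    ∃ f ∈ GrLC.homDeg 𝒜 𝒞 𝓔 j, ∀ (x : C) (hx : x ∈ 𝒞 t), f x = (θ ⟨x, hx⟩ : E) := by
  letI decS : Decomposition (shiftFam 𝓔 j) := (isInternal_shiftFam 𝓔 j).chooseDecomposition
  letI : SetLike.GradedSMul 𝒜 (shiftFam 𝓔 j) := gradedSMul_shiftFam 𝒜 𝓔 j
  have hsh : GrLC.IsStarInj 𝒜 (shiftFam 𝓔 j) := isStarInj_shift 𝒜 𝓔 j hinj
  obtain ⟨h, hh, hcomp⟩ := hsh
    (subGMod 𝒜 𝒞 (geSub 𝒜 hpos 𝒞 t) (geSub_isHomogeneous 𝒜 hpos 𝒞 t)) (GrLC.GMod.of 𝒜 C 𝒞)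
    (geSub 𝒜 hpos 𝒞 t).subtype (fun g x hx => hx) Subtype.val_injective
    (extZero 𝒜 hpos 𝒞 𝓔 hE t θ) (extZero_grHom 𝒜 hpos 𝒞 𝓔 hE htj θ)
  refine ⟨h, hh, fun x hx => ?_⟩
  have h1 := LinearMap.congr_fun hcomp ⟨x, mem_geSub_of_mem 𝒜 hpos 𝒞 le_rfl hx⟩
  rw [LinearMap.comp_apply] at h1
  refine h1.trans ?_
  show extZeroFun 𝒜 𝒞 𝓔 t θ x = _
  rw [extZeroFun_apply, projComp_of_mem 𝒜 𝒞 hx]

end GeSub

section Restr

variable {R : Type u} [CommRing R] (𝒜 : ℤ → AddSubgroup R) [GradedRing 𝒜]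
  (hpos : ∀ n : ℤ, n < 0 → 𝒜 n = ⊥) (h0 : IsField (GrLC.deg0 𝒜))
  (m : HomogeneousIdeal 𝒜) (hm : IsCoatom m)
  {E : Type u} [AddCommGroup E] [Module R E] (𝓔 : ℤ → AddSubgroup E) [Decomposition 𝓔]
  [SetLike.GradedSMul 𝒜 𝓔]
  (e : (R ⧸ m.toIdeal) →ₗ[R] E) (he : GrLC.IsStarInjHull 𝒜 (GrLC.quotGr 𝒜 m) 𝓔 e)
  {C : Type u} [AddCommGroup C] [Module R C] (𝒞 : ℤ → AddSubgroup C) [Decomposition 𝒞]
  [SetLike.GradedSMul 𝒜 𝒞]

/-- restriction of a map of degree `j` to the piece of degree `t = -j` -/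
noncomputable def restr {t j : ℤ} (htj : t + j = 0) :
    GrLC.homDeg 𝒜 𝒞 𝓔 j →ₗ[GrLC.deg0 𝒜] (GrLC.comp 𝒜 𝒞 t →ₗ[GrLC.deg0 𝒜] GrLC.comp 𝒜 𝓔 0) where
  toFun f :=
    { toFun := fun x => ⟨f.1 x.1, by have := f.2 t x.1 x.2; rwa [htj] at this⟩
      map_add' := fun x y => by
        apply Subtype.ext
        show f.1 (x.1 + y.1) = f.1 x.1 + f.1 y.1
        rw [map_add]
      map_smul' := fun c x => by
        apply Subtype.ext
        show f.1 ((c : R) • x.1) = (c : R) • f.1 x.1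
        rw [map_smul] }
  map_add' f f' := by
    apply LinearMap.ext
    intro x
    apply Subtype.ext
    rfl
  map_smul' c f := by
    apply LinearMap.ext
    intro x
    apply Subtype.ext
    rfl

theorem restr_apply {t j : ℤ} (htj : t + j = 0) (f : GrLC.homDeg 𝒜 𝒞 𝓔 j)
    (x : GrLC.comp 𝒜 𝒞 t) : ((restr 𝒜 𝓔 𝒞 htj f x : GrLC.comp 𝒜 𝓔 0) : E) = f.1 x.1 := rfl

include hpos h0 hm he in
theorem restr_injective {t j : ℤ} (htj : t + j = 0) :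
    Function.Injective (restr 𝒜 𝓔 𝒞 htj) := by
  refine (injective_iff_map_eq_zero (restr 𝒜 𝓔 𝒞 htj)).mpr ?_
  intro f hf
  apply Subtype.ext
  show f.1 = 0
  -- `f` vanishes on homogeneous elements
  have hhom : ∀ (g : ℤ) (y : C), y ∈ 𝒞 g → f.1 y = 0 := by
    intro g y hy
    by_contra hne
    have hfy : f.1 y ∈ 𝓔 (g + j) := f.2 g y hy
    obtain ⟨a, ha, hax⟩ := exists_smul_eq_eps 𝒜 hpos h0 m hm 𝓔 e he hfy hne
    have hay : a • y ∈ 𝒞 t := by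
      have := smul_mem' 𝒜 𝒞 ha hy
      have hdeg : -(g + j) + g = t := by omega
      rwa [hdeg] at this
    have h1 := restr_apply 𝒜 𝓔 𝒞 htj f ⟨a • y, hay⟩
    rw [hf] at h1
    have h2 : f.1 (a • y) = 0 := h1.symm
    rw [map_smul, hax] at h2
    exact eps_ne_zero 𝒜 m hm 𝓔 e he h2
  classical
  apply LinearMap.ext
  intro x
  rw [LinearMap.zero_apply, ← DirectSum.sum_support_decompose 𝒞 x, map_sum]
  apply Finset.sum_eq_zero
  intro g _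
  exact hhom g _ (decompose 𝒞 x g).2

include hpos h0 hm he in
theorem restr_surjective {t j : ℤ} (htj : t + j = 0) :
    Function.Surjective (restr 𝒜 𝓔 𝒞 htj) := by
  intro θ
  obtain ⟨f, hf, hfx⟩ := exists_homDeg_extension 𝒜 hpos 𝒞 𝓔
    (fun d hd => piece_eq_bot_of_pos 𝒜 hpos h0 m hm 𝓔 e he hd) he.starInj htj θ
  refine ⟨⟨f, hf⟩, ?_⟩
  apply LinearMap.ext
  intro x
  apply Subtype.ext
  rw [restr_apply]
  exact hfx x.1 x.2

include hpos h0 hm he in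
theorem finrank_comp_zero : Module.finrank (GrLC.deg0 𝒜) (GrLC.comp 𝒜 𝓔 0) = 1 := by
  letI := h0.toField
  have hne : (⟨eps m e, eps_mem 𝒜 m 𝓔 e he⟩ : GrLC.comp 𝒜 𝓔 0) ≠ 0 := by
    intro h
    exact eps_ne_zero 𝒜 m hm 𝓔 e he (congrArg Subtype.val h)
  rw [finrank_eq_one_iff_of_nonzero' _ hne]
  intro w
  obtain ⟨c, hc, hw⟩ := exists_eq_smul_eps 𝒜 hpos h0 m hm 𝓔 e he w.2
  refine ⟨⟨c, hc⟩, ?_⟩
  apply Subtype.ext
  exact hw.symm

include hpos h0 hm he in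
/-- **the maps of degree `j` into the envelope have the dimension of the piece of degree `-j`** -/
theorem finrank_homDeg {t j : ℤ} (htj : t + j = 0) :
    Module.finrank (GrLC.deg0 𝒜) (GrLC.homDeg 𝒜 𝒞 𝓔 j) =
      Module.finrank (GrLC.deg0 𝒜) (GrLC.comp 𝒜 𝒞 t) := by
  letI := h0.toField
  have e1 := LinearEquiv.ofBijective (restr 𝒜 𝓔 𝒞 htj)
    ⟨restr_injective 𝒜 hpos h0 m hm 𝓔 e he 𝒞 htj, restr_surjective 𝒜 hpos h0 m hm 𝓔 e he 𝒞 htj⟩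
  rw [e1.finrank_eq]
  have h1 := finrank_comp_zero 𝒜 hpos h0 m hm 𝓔 e he
  haveI : Module.Finite (GrLC.deg0 𝒜) (GrLC.comp 𝒜 𝓔 0) :=
    Module.finite_of_finrank_pos (by rw [h1]; exact Nat.one_pos)
  have e2 : GrLC.comp 𝒜 𝓔 0 ≃ₗ[GrLC.deg0 𝒜] GrLC.deg0 𝒜 :=
    LinearEquiv.ofFinrankEq _ _ (by rw [h1, Module.finrank_self])
  have e3 : (GrLC.comp 𝒜 𝒞 t →ₗ[GrLC.deg0 𝒜] GrLC.comp 𝒜 𝓔 0) ≃ₗ[GrLC.deg0 𝒜]
      Module.Dual (GrLC.deg0 𝒜) (GrLC.comp 𝒜 𝒞 t) :=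
    LinearEquiv.arrowCongr (LinearEquiv.refl _ _) e2
  rw [e3.finrank_eq]
  exact Subspace.dual_finrank_eq

end Restr

end Groth.Agent.Helper7.GrDu
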