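import Mathlib
import Groth.Prelude.Def_GrLC
import Groth.Prelude.Def_Wider
import Groth.Agent.Helper7.GrDu2
import Groth.Agent.Helper6.GrLCIrr

/-!
# The *injective envelope of the residue field of a graded ring defined over a field, part 1: nondegeneracy and
representability of functionals (helper7)
-/

set_option autoImplicit false
set_option linter.unusedSectionVars false
set_option linter.style.haveILetI false

namespace Groth.Agent.Helper7.GrGor

open DirectSum Groth.Agent.Helper6.GrMod Groth.Agent.Helper7.GrDu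

universe u

variable {R : Type u} [CommRing R] (𝒜 : ℤ → AddSubgroup R) [GradedRing 𝒜]
  (hpos : ∀ n : ℤ, n < 0 → 𝒜 n = ⊥) (h0 : IsField (GrLC.deg0 𝒜))
  (m : HomogeneousIdeal 𝒜) (hm : IsCoatom m)
  {E : Type u} [AddCommGroup E] [Module R E] (𝓔 : ℤ → AddSubgroup E) [Decomposition 𝓔]
  [SetLike.GradedSMul 𝒜 𝓔]
  (e : (R ⧸ m.toIdeal) →ₗ[R] E) (he : GrLC.IsStarInjHull 𝒜 (GrLC.quotGr 𝒜 m) 𝓔 e)

include hpos h0 hm he in
/-- every nonzero element of the envelope has a multiple equal to `ε` -/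
theorem exists_smul_eq_eps_of_ne {x : E} (hx : x ≠ 0) : ∃ a : R, a • x = eps m e := by
  classical
  have hne : (DFinsupp.support (decompose 𝓔 x)).Nonempty := by
    rw [Finset.nonempty_iff_ne_empty]
    intro h
    apply hx
    rw [← DirectSum.sum_support_decompose 𝓔 x, h, Finset.sum_empty]
  set j0 := (DFinsupp.support (decompose 𝓔 x)).min' hne with hj0
  have hj0mem : j0 ∈ DFinsupp.support (decompose 𝓔 x) := Finset.min'_mem _ hne
  have hxj0 : (decompose 𝓔 x j0 : E) ≠ 0 := by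
    intro h
    rw [DFinsupp.mem_support_iff] at hj0mem
    exact hj0mem (Subtype.ext h)
  obtain ⟨a, ha, hax⟩ := exists_smul_eq_eps 𝒜 hpos h0 m hm 𝓔 e he
    (SetLike.coe_mem (decompose 𝓔 x j0)) hxj0
  refine ⟨a, ?_⟩
  conv_lhs => rw [← DirectSum.sum_support_decompose 𝓔 x]
  rw [Finset.smul_sum, Finset.sum_eq_single j0]
  · exact hax
  · intro j hj hjne
    have hlt : j0 < j := lt_of_le_of_ne (Finset.min'_le _ j hj) (Ne.symm hjne)
    have h1 : a • (decompose 𝓔 x j : E) ∈ 𝓔 (-j0 + j) := smul_mem' 𝒜 𝓔 ha (SetLike.coe_mem _)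
    rw [piece_eq_bot_of_pos 𝒜 hpos h0 m hm 𝓔 e he (by omega), AddSubgroup.mem_bot] at h1
    exact h1
  · intro h; exact absurd hj0mem h

include hpos h0 hm he in
/-- nondegeneracy: an element all of whose multiples have zero component in degree `0` is zero -/
theorem eq_zero_of_proj {x : E} (h : ∀ r : R, projComp 𝒜 𝓔 0 (r • x) = 0) : x = 0 := by
  by_contra hx
  obtain ⟨a, ha⟩ := exists_smul_eq_eps_of_ne 𝒜 hpos h0 m hm 𝓔 e he hx
  have h1 := h a
  rw [ha, projComp_of_mem 𝒜 𝓔 (eps_mem 𝒜 m 𝓔 e he)] at h1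
  exact eps_ne_zero 𝒜 m hm 𝓔 e he (congrArg Subtype.val h1)

include hpos h0 hm he in
/-- **representability**: a functional on `R` vanishing in high degrees is `r ↦ (r x)_0` for some `x` -/
theorem exists_repr_functional (F : R →ₗ[GrLC.deg0 𝒜] GrLC.comp 𝒜 𝓔 0) (D : ℕ)
    (hF : ∀ (j : ℤ), (D : ℤ) ≤ j → ∀ r ∈ 𝒜 j, F r = 0) :
    ∃ x : E, ∀ r : R, projComp 𝒜 𝓔 0 (r • x) = F r := by
  classical
  have hE : ∀ d : ℤ, 0 < d → 𝓔 d = ⊥ := fun d hd => piece_eq_bot_of_pos 𝒜 hpos h0 m hm 𝓔 e he hd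
  have hex : ∀ t : ℕ, ∃ f ∈ GrLC.homDeg 𝒜 𝒜 𝓔 (-(t : ℤ)), ∀ (x : R) (hx : x ∈ 𝒜 (t : ℤ)),
      f x = (F x : E) := by
    intro t
    obtain ⟨f, hf, hfx⟩ := exists_homDeg_extension 𝒜 hpos 𝒜 𝓔 hE he.starInj
      (t := (t : ℤ)) (j := -(t : ℤ)) (by omega) (F.comp (GrLC.comp 𝒜 𝒜 (t : ℤ)).subtype)
    exact ⟨f, hf, fun x hx => hfx x hx⟩
  choose f hf hfx using hex
  refine ⟨∑ t ∈ Finset.range D, f t 1, fun r => ?_⟩
  induction r using Decomposition.inductionOn 𝒜 with
  | zero => rw [zero_smul, map_zero, map_zero]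
  | @homogeneous i a =>
    have hterm : ∀ t : ℕ, (a : R) • f t 1 = f t (a : R) := by
      intro t
      rw [← map_smul, smul_eq_mul, mul_one]
    rw [Finset.smul_sum, map_sum]
    simp_rw [hterm]
    have hmem : ∀ t : ℕ, f t (a : R) ∈ 𝓔 (i + -(t : ℤ)) := fun t => hf t i _ a.2
    by_cases hi : i < 0
    · have ha0 : (a : R) = 0 := Groth.Agent.Helper7.GrStarLoc.eq_zero_of_neg 𝒜 hpos i hi _ a.2
      rw [ha0, map_zero]
      refine Finset.sum_eq_zero (fun t _ => ?_)
      rw [map_zero, map_zero]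
    by_cases hiD : (D : ℤ) ≤ i
    · rw [hF i hiD _ a.2]
      refine Finset.sum_eq_zero (fun t ht => ?_)
      rw [Finset.mem_range] at ht
      exact projComp_of_mem_ne 𝒜 𝓔 (hmem t) (by omega)
    · have hiN : (i.toNat : ℤ) = i := Int.toNat_of_nonneg (by omega)
      rw [Finset.sum_eq_single i.toNat]
      · have h1 : f i.toNat (a : R) = (F (a : R) : E) :=
          hfx i.toNat (a : R) (by rw [hiN]; exact a.2)
        apply Subtype.ext
        rw [projComp_coe, h1]
        exact decompose_of_mem_same 𝓔 (F (a : R)).2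
      · intro t _ htne
        refine projComp_of_mem_ne 𝒜 𝓔 (hmem t) ?_
        intro h
        apply htne
        have : (t : ℤ) = i := by omega
        omega
      · intro h
        exfalso
        apply h
        rw [Finset.mem_range]
        omega
  | add a a' h h' =>
    rw [add_smul, map_add, map_add, h, h']

include hpos hm in
/-- pieces of high degree lie in a given power of the irrelevant ideal -/
theorem exists_piece_le_pow [IsNoetherianRing R]
    (hmsp : m.toIdeal = Ideal.span (⋃ n ∈ Set.Ioi (0 : ℤ), (𝒜 n : Set R))) (s : ℕ) :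
    ∃ D : ℕ, ∀ j : ℤ, (D : ℤ) ≤ j → ∀ r ∈ 𝒜 j, r ∈ m.toIdeal ^ s := by
  classical
  have hfg : (Submodule.span R (⋃ n ∈ Set.Ioi (0 : ℤ), (𝒜 n : Set R))).FG :=
    IsNoetherian.noetherian _
  obtain ⟨T, hTsub, hTspan⟩ := (Submodule.fg_span_iff_fg_span_finset_subset _).1 hfg
  have hdeg : ∀ a : R, a ∈ T → ∃ n : ℤ, 0 < n ∧ a ∈ 𝒜 n := by
    intro a ha
    have := hTsub ha
    simp only [Set.mem_iUnion, Set.mem_Ioi, SetLike.mem_coe] at this
    obtain ⟨n, hn, han⟩ := this
    exact ⟨n, hn, han⟩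
  choose! n hn1 hn2 using hdeg
  set d : ℕ := T.sup (fun a => (n a).toNat) with hd
  have hnd : ∀ a ∈ T, n a ≤ d := by
    intro a ha
    have h1 : (n a).toNat ≤ d := Finset.le_sup (f := fun a => (n a).toNat) ha
    have h2 := hn1 a ha
    omega
  have hmT : m.toIdeal = Submodule.span R (T : Set R) := by
    rw [hmsp]; exact hTspan
  have key : ∀ s : ℕ, ∀ j : ℤ, ((s * (d + 1) : ℕ) : ℤ) ≤ j → ∀ r ∈ 𝒜 j, r ∈ m.toIdeal ^ s := by
    intro s
    induction s with
    | zero =>
      intro j _ r _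
      rw [pow_zero, Ideal.one_eq_top]; trivial
    | succ s ih =>
      intro j hj r hr
      have hjpos : 0 < j := by
        push_cast at hj
        nlinarith
      have hrm : r ∈ m.toIdeal := Groth.Agent.Helper7.GrStarLoc.mem_of_pos 𝒜 hpos m hm hjpos hr
      rw [hmT] at hrm
      obtain ⟨c, -, hc⟩ := Submodule.mem_span_finset.1 hrm
      have h1 : (decompose 𝒜 r j : R) = r := decompose_of_mem_same 𝒜 hr
      rw [← h1, ← hc, decompose_sum, DFinsupp.finsetSum_apply, AddSubmonoidClass.coe_finsetSum]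
      refine Ideal.sum_mem _ (fun a ha => ?_)
      have h2 := decompose_smul_right 𝒜 𝒜 (hn2 a ha) (c a) (j - n a)
      rw [sub_add_cancel] at h2
      rw [h2, pow_succ]
      refine Ideal.mul_mem_mul (ih (j - n a) ?_ _ (SetLike.coe_mem _)) ?_
      · have := hnd a ha
        push_cast at hj ⊢
        nlinarith
      · rw [hmT]
        exact Submodule.subset_span ha
  exact ⟨s * (d + 1), key s⟩

end Groth.Agent.Helper7.GrGor
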