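import Mathlib
import Groth.Prelude.Def_GrLC
import Groth.Prelude.Def_Wider
import Groth.Agent.Helper7.GrGor1
import Groth.Agent.S5168

/-!
# The *injective envelope of the residue field of a graded ring defined over a field is an injective module
(helper7)
-/

set_option autoImplicit false
set_option linter.unusedSectionVars false
set_option linter.style.haveILetI false

namespace Groth.Agent.Helper7.GrGor

open DirectSum Groth.Agent.Helper6.GrMod Groth.Agent.Helper7.GrDu

universe u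

variable {R : Type u} [CommRing R] (𝒜 : ℤ → AddSubgroup R) [GradedRing 𝒜]
  (hpos : ∀ n : ℤ, n < 0 → 𝒜 n = ⊥) (h0 : IsField (GrLC.deg0 𝒜))
  (m : HomogeneousIdeal 𝒜) (hm : IsCoatom m)
  (hmsp : m.toIdeal = Ideal.span (⋃ n ∈ Set.Ioi (0 : ℤ), (𝒜 n : Set R)))
  {E : Type u} [AddCommGroup E] [Module R E] (𝓔 : ℤ → AddSubgroup E) [Decomposition 𝓔]
  [SetLike.GradedSMul 𝒜 𝓔]
  (e : (R ⧸ m.toIdeal) →ₗ[R] E) (he : GrLC.IsStarInjHull 𝒜 (GrLC.quotGr 𝒜 m) 𝓔 e)

include hpos h0 hm hmsp he in
/-- the envelope is torsion for the irrelevant ideal -/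
theorem isPowerTorsion_envelope : LocCoh.IsPowerTorsion m.toIdeal E := by
  intro x
  exact Groth.Agent.Helper6.GrLCIrr.torsion_of_bounded_above 𝒜 𝓔 m hmsp 1
    (fun n hn => piece_eq_bot_of_pos 𝒜 hpos h0 m hm 𝓔 e he (by omega)) x

include hpos h0 hm hmsp he in
/-- **the *injective envelope of the residue field is an injective module** -/
theorem injective_envelope [IsNoetherianRing R] : Module.Injective R E := by
  classical
  rw [Groth.Agent.S5168.result R m.toIdeal E (isPowerTorsion_envelope 𝒜 hpos h0 m hm hmsp 𝓔 e he)]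
  intro M _ _ hfin hpow N g
  obtain ⟨s, hs⟩ := hpow
  letI := h0.toField
  obtain ⟨D, hD⟩ := exists_piece_le_pow 𝒜 hpos m hm hmsp s
  have hkill : ∀ r ∈ m.toIdeal ^ s, ∀ y : M, r • y = 0 := by
    intro r hr y
    have : r • y ∈ (m.toIdeal ^ s) • (⊤ : Submodule R M) :=
      Submodule.smul_mem_smul hr Submodule.mem_top
    rw [hs] at this
    exact (Submodule.mem_bot R).1 this
  -- the functional on `N`
  let lam : ↥(N.restrictScalars (GrLC.deg0 𝒜)) →ₗ[GrLC.deg0 𝒜] GrLC.comp 𝒜 𝓔 0 :=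
    { toFun := fun y => projComp 𝒜 𝓔 0 (g ⟨y.1, y.2⟩)
      map_add' := fun y y' => by
        have : (⟨(y + y').1, (y + y').2⟩ : N) = ⟨y.1, y.2⟩ + ⟨y'.1, y'.2⟩ := rfl
        rw [this, map_add, map_add]
      map_smul' := fun c y => by
        have : (⟨(c • y).1, (c • y).2⟩ : N) = (c : R) • ⟨y.1, y.2⟩ := rfl
        rw [this, map_smul]
        exact (projComp 𝒜 𝓔 0).map_smul c _ }
  obtain ⟨lam', hlam'⟩ := LinearMap.exists_extend lam
  have hlam : ∀ (y : M) (hy : y ∈ N), lam' y = projComp 𝒜 𝓔 0 (g ⟨y, hy⟩) := by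
    intro y hy
    exact LinearMap.congr_fun hlam' ⟨y, hy⟩
  -- the functionals `r ↦ lam' (r • y)`
  let F : M → (R →ₗ[GrLC.deg0 𝒜] GrLC.comp 𝒜 𝓔 0) := fun y =>
    { toFun := fun r => lam' (r • y)
      map_add' := fun r r' => by rw [add_smul, map_add]
      map_smul' := fun c r => by
        have : (c • r) • y = c • (r • y) := by
          show ((c : R) * r) • y = (c : R) • (r • y)
          rw [mul_smul]
        rw [this, map_smul]
        rfl }
  have hF : ∀ (y : M) (j : ℤ), (D : ℤ) ≤ j → ∀ r ∈ 𝒜 j, F y r = 0 := by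
    intro y j hj r hr
    show lam' (r • y) = 0
    rw [hkill r (hD j hj r hr) y, map_zero]
  have hex : ∀ y : M, ∃ x : E, ∀ r : R, projComp 𝒜 𝓔 0 (r • x) = F y r := fun y =>
    exists_repr_functional 𝒜 hpos h0 m hm 𝓔 e he (F y) D (hF y)
  choose G hG using hex
  have hG' : ∀ (y : M) (r : R), projComp 𝒜 𝓔 0 (r • G y) = lam' (r • y) := hG
  have huniq : ∀ x x' : E, (∀ r : R, projComp 𝒜 𝓔 0 (r • x) = projComp 𝒜 𝓔 0 (r • x')) → x = x' := by
    intro x x' h
    have := eq_zero_of_proj 𝒜 hpos h0 m hm 𝓔 e he (x := x - x') (fun r => by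
      rw [smul_sub, map_sub, h r, sub_self])
    exact sub_eq_zero.1 this
  let g' : M →ₗ[R] E :=
    { toFun := G
      map_add' := fun y y' => by
        apply huniq
        intro r
        rw [smul_add, map_add, hG', hG', hG', smul_add, map_add]
      map_smul' := fun a y => by
        apply huniq
        intro r
        rw [RingHom.id_apply, hG']
        have h2 : r • a • G y = (r * a) • G y := (mul_smul r a (G y)).symm
        rw [h2, hG', mul_smul] }
  refine ⟨g', ?_⟩
  apply LinearMap.ext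
  rintro ⟨y, hy⟩
  show G y = g ⟨y, hy⟩
  apply huniq
  intro r
  rw [hG', hlam (r • y) (N.smul_mem r hy)]
  congr 1
  rw [← map_smul]
  rfl

end Groth.Agent.Helper7.GrGor
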