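import Mathlib
import Groth.Prelude.Def_GrLC
import Groth.Prelude.Def_Wider
import Groth.Agent.Helper7.GrGor2

/-!
# The *injective envelope of the residue field of a graded ring defined over a field, part 3: its localisation at the
irrelevant ideal is an injective hull of the residue field of the local ring (helper7)
-/

set_option autoImplicit false
set_option linter.unusedSectionVars false
set_option linter.style.haveILetI false

namespace Groth.Agent.Helper7.GrGor

open DirectSum Groth.Agent.Helper6.GrMod Groth.Agent.Helper7.GrDu IsLocalRing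

universe u

section Ungraded

variable {R : Type u} [CommRing R] (m : Ideal R) [hmax : m.IsMaximal]
  (E : Type u) [AddCommGroup E] [Module R E] (hE : LocCoh.IsPowerTorsion m E)

include hE in
/-- elements outside a maximal ideal act bijectively on a module which is torsion for it -/
theorem smul_bijective (s : R) (hs : s ∉ m) : Function.Bijective (fun x : E => s • x) := by
  constructor
  · intro x x' h
    have h' : s • (x - x') = 0 := by rw [smul_sub]; exact sub_eq_zero.2 h
    obtain ⟨t, ht⟩ := hE (x - x')
    obtain ⟨y, i, hi, hyi⟩ := Ideal.IsMaximal.exists_inv_pow m hs t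
    have : x - x' = 0 := by
      calc x - x' = (1 : R) • (x - x') := (one_smul _ _).symm
        _ = (y * s + i) • (x - x') := by rw [hyi]
        _ = 0 := by rw [add_smul, mul_smul, h', smul_zero, ht i hi, add_zero]
    exact sub_eq_zero.1 this
  · intro x
    obtain ⟨t, ht⟩ := hE x
    obtain ⟨y, i, hi, hyi⟩ := Ideal.IsMaximal.exists_inv_pow m hs t
    refine ⟨y • x, ?_⟩
    show s • y • x = x
    calc s • y • x = (y * s) • x := by rw [mul_comm, mul_smul]
      _ = (y * s + i) • x := by rw [add_smul, ht i hi, add_zero]
      _ = x := by rw [hyi, one_smul]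

include hE in
theorem isLocalizedModule_id : IsLocalizedModule m.primeCompl (LinearMap.id : E →ₗ[R] E) where
  map_units s := by
    rw [Module.End.isUnit_iff]
    exact smul_bijective m E hE s.1 s.2
  surj y := ⟨(y, 1), by simp⟩
  exists_of_eq h := ⟨1, by simpa using h⟩

/-- a module which is torsion for a maximal ideal is its own localisation -/
noncomputable def locEquiv : E ≃ₗ[R] LocalizedModule m.primeCompl E :=
  haveI := isLocalizedModule_id m E hE
  (IsLocalizedModule.iso m.primeCompl (LinearMap.id : E →ₗ[R] E)).symm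

theorem locEquiv_apply (x : E) : locEquiv m E hE x = LocalizedModule.mk x 1 := by
  haveI := isLocalizedModule_id m E hE
  exact IsLocalizedModule.iso_symm_apply m.primeCompl (LinearMap.id : E →ₗ[R] E) x

end Ungraded

section Inj

/-- an injective module which is a module over a localisation is injective over it -/
theorem injective_of_isLocalization {R : Type u} [CommRing R] (S : Submonoid R) (A : Type u)
    [CommRing A] [Algebra R A] [IsLocalization S A] (Q : Type u) [AddCommGroup Q] [Module R Q]
    [Module A Q] [IsScalarTower R A Q] (h : Module.Injective R Q) : Module.Injective A Q := by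
  rw [← Module.Baer.iff_injective]
  intro I g
  have hb : Module.Baer R Q := Module.Baer.of_injective h
  let g₀ : ↥(I.restrictScalars R) →ₗ[R] Q :=
    { toFun := fun x => g ⟨x.1, x.2⟩
      map_add' := fun x y => by
        have : (⟨(x + y).1, (x + y).2⟩ : I) = ⟨x.1, x.2⟩ + ⟨y.1, y.2⟩ := rfl
        rw [this, map_add]
      map_smul' := fun r x => by
        have : (⟨(r • x).1, (r • x).2⟩ : I) = (algebraMap R A r) • ⟨x.1, x.2⟩ := by
          apply Subtype.ext
          show r • x.1 = algebraMap R A r • x.1
          rw [Algebra.smul_def, smul_eq_mul]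
        rw [this, map_smul, algebraMap_smul]
        rfl }
  obtain ⟨h', hh'⟩ := hb.extension_property ((I.restrictScalars R).subtype)
    Subtype.val_injective g₀
  refine ⟨h'.extendScalarsOfIsLocalization S A, fun x hx => ?_⟩
  have := LinearMap.congr_fun hh' ⟨x, hx⟩
  exact this

end Inj

section Graded

variable {R : Type u} [CommRing R] [IsNoetherianRing R] (𝒜 : ℤ → AddSubgroup R) [GradedRing 𝒜]
  (hpos : ∀ n : ℤ, n < 0 → 𝒜 n = ⊥) (h0 : IsField (GrLC.deg0 𝒜))
  (m : HomogeneousIdeal 𝒜) (hm : IsCoatom m) [hmax : m.toIdeal.IsMaximal]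
  (hmsp : m.toIdeal = Ideal.span (⋃ n ∈ Set.Ioi (0 : ℤ), (𝒜 n : Set R)))
  {E : Type u} [AddCommGroup E] [Module R E] (𝓔 : ℤ → AddSubgroup E) [Decomposition 𝓔]
  [SetLike.GradedSMul 𝒜 𝓔]
  (e : (R ⧸ m.toIdeal) →ₗ[R] E) (he : GrLC.IsStarInjHull 𝒜 (GrLC.quotGr 𝒜 m) 𝓔 e)

include hpos h0 hm hmsp he in
/-- **the localisation of the *injective envelope of the residue field is an injective hull of the residue field of
the localisation at the irrelevant ideal** -/
theorem exists_isInjectiveHull :
    ∃ f : ResidueField (Localization.AtPrime m.toIdeal) →ₗ[Localization.AtPrime m.toIdeal]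
      LocalizedModule m.toIdeal.primeCompl E, InjHull.IsInjectiveHull f := by
  have hE := isPowerTorsion_envelope 𝒜 hpos h0 m hm hmsp 𝓔 e he
  have hinjR : Module.Injective R E := injective_envelope 𝒜 hpos h0 m hm hmsp 𝓔 e he
  set ι := locEquiv m.toIdeal E hE with hι
  have hιa : ∀ x, ι x = LocalizedModule.mk x 1 := locEquiv_apply m.toIdeal E hE
  have hinjR' : Module.Injective R (LocalizedModule m.toIdeal.primeCompl E) :=
    (Module.Baer.of_equiv ι (Module.Baer.of_injective hinjR)).injective
  have hinjA : Module.Injective (Localization.AtPrime m.toIdeal)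
      (LocalizedModule m.toIdeal.primeCompl E) :=
    injective_of_isLocalization m.toIdeal.primeCompl (Localization.AtPrime m.toIdeal) _ hinjR'
  set ε' : LocalizedModule m.toIdeal.primeCompl E := ι (eps m e) with hε'
  have hε'0 : ε' ≠ 0 := by
    intro h
    exact eps_ne_zero 𝒜 m hm 𝓔 e he (ι.injective (by rw [map_zero]; exact h))
  set f0 : Localization.AtPrime m.toIdeal →ₗ[Localization.AtPrime m.toIdeal]
      LocalizedModule m.toIdeal.primeCompl E :=
    LinearMap.toSpanSingleton (Localization.AtPrime m.toIdeal) _ ε' with hf0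
  have hker : maximalIdeal (Localization.AtPrime m.toIdeal) ≤ LinearMap.ker f0 := by
    intro a ha
    obtain ⟨r, s, rfl⟩ := IsLocalization.exists_mk'_eq m.toIdeal.primeCompl a
    rw [IsLocalization.AtPrime.mk'_mem_maximal_iff (Localization.AtPrime m.toIdeal) m.toIdeal] at ha
    rw [LinearMap.mem_ker, hf0, LinearMap.toSpanSingleton_apply, hε', hιa,
      ← Localization.mk_eq_mk', LocalizedModule.mk_smul_mk, smul_eps_of_mem 𝒜 m e ha,
      LocalizedModule.zero_mk]
  have hkereq : maximalIdeal (Localization.AtPrime m.toIdeal) = LinearMap.ker f0 := by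
    refine (maximalIdeal.isMaximal (Localization.AtPrime m.toIdeal)).eq_of_le ?_ hker
    intro h
    have h1 : (1 : Localization.AtPrime m.toIdeal) ∈ LinearMap.ker f0 := by
      rw [h]; trivial
    rw [LinearMap.mem_ker, hf0, LinearMap.toSpanSingleton_apply, one_smul] at h1
    exact hε'0 h1
  let f : ResidueField (Localization.AtPrime m.toIdeal) →ₗ[Localization.AtPrime m.toIdeal]
      LocalizedModule m.toIdeal.primeCompl E :=
    Submodule.liftQ (maximalIdeal (Localization.AtPrime m.toIdeal)) f0 hker
  refine ⟨f, ⟨⟨?_, ?_⟩, hinjA⟩⟩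
  · rw [← LinearMap.ker_eq_bot]
    exact Submodule.ker_liftQ_eq_bot' _ _ hkereq
  · intro N hN
    obtain ⟨x, hxN, hx0⟩ := (Submodule.ne_bot_iff _).mp hN
    have hx' : ι.symm x ≠ 0 := by
      intro h
      apply hx0
      rw [← ι.apply_symm_apply x, h, map_zero]
    obtain ⟨a, ha⟩ := exists_smul_eq_eps_of_ne 𝒜 hpos h0 m hm 𝓔 e he hx'
    have h1 : ε' = a • x := by
      rw [hε', ← ha, map_smul, ι.apply_symm_apply]
    have h2 : ε' ∈ N := by
      rw [h1, ← algebraMap_smul (Localization.AtPrime m.toIdeal) a x]
      exact N.smul_mem _ hxN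
    have h3 : ε' ∈ LinearMap.range f := by
      refine ⟨Submodule.Quotient.mk 1, ?_⟩
      show f0 1 = ε'
      rw [hf0, LinearMap.toSpanSingleton_apply, one_smul]
    rw [Ne, Submodule.eq_bot_iff]
    intro h
    exact hε'0 (h ε' (Submodule.mem_inf.2 ⟨h2, h3⟩))

end Graded

end Groth.Agent.Helper7.GrGor
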