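import Mathlib
import Groth.Prelude.Def_GrLC
import Groth.Prelude.Def_Wider
import Groth.Agent.Helper7.GrGor3
import Groth.Agent.Helper7.GrFinC
import Groth.Agent.Helper1.LocCohLocS
import Groth.Agent.Helper1.LocCohTors

/-!
# The canonical module of a graded ring defined over a field localises to a canonical module (helper7)
-/

set_option autoImplicit false
set_option linter.unusedSectionVars false
set_option linter.style.haveILetI false

namespace Groth.Agent.Helper7.GrGor

open DirectSum Groth.Agent.Helper6.GrMod Groth.Agent.Helper7.GrDu IsLocalRing TensorProduct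
  CategoryTheory

universe u

section LC

variable {R : Type u} [CommRing R] [IsNoetherianRing R] (m : Ideal R) [hmax : m.IsMaximal]

/-- the localisation of `H^n_m(R)` at the maximal ideal `m` is the local cohomology of the local ring -/
theorem nonempty_localized_lc_equiv (n : ℕ) :
    Nonempty (LocalizedModule m.primeCompl (LocCoh.H m n R) ≃ₗ[Localization.AtPrime m]
      LocCoh.H (maximalIdeal (Localization.AtPrime m)) n (Localization.AtPrime m)) := by
  obtain ⟨e6⟩ := Groth.Agent.Helper1.LocCohLocS.nonempty_localized_linearEquiv m.primeCompl m R n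
  have hmap : m.map (algebraMap R (Localization m.primeCompl)) =
      maximalIdeal (Localization.AtPrime m) :=
    IsLocalization.AtPrime.map_eq_maximalIdeal m (Localization.AtPrime m)
  rw [hmap] at e6
  let α₀ : LocalizedModule m.primeCompl R ≃ₗ[R] Localization.AtPrime m :=
    IsLocalizedModule.iso m.primeCompl (Algebra.linearMap R (Localization.AtPrime m))
  let α : LocalizedModule m.primeCompl R ≃ₗ[Localization.AtPrime m] Localization.AtPrime m :=
    LinearEquiv.extendScalarsOfIsLocalization m.primeCompl (Localization.AtPrime m) α₀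
  let e7 := ((localCohomology (maximalIdeal (Localization.AtPrime m)) n).mapIso
    α.toModuleIso).toLinearEquiv
  exact ⟨e6.trans e7⟩

end LC

section Graded

variable {R : Type u} [CommRing R] [IsNoetherianRing R] (𝒜 : ℤ → AddSubgroup R) [GradedRing 𝒜]
  (hpos : ∀ n : ℤ, n < 0 → 𝒜 n = ⊥) (h0 : IsField (GrLC.deg0 𝒜))
  (m : HomogeneousIdeal 𝒜) (hm : IsCoatom m) [hmax : m.toIdeal.IsMaximal]
  (hmsp : m.toIdeal = Ideal.span (⋃ n ∈ Set.Ioi (0 : ℤ), (𝒜 n : Set R)))
  {E : Type u} [AddCommGroup E] [Module R E] (𝓔 : ℤ → AddSubgroup E) [Decomposition 𝓔]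
  [SetLike.GradedSMul 𝒜 𝓔]
  (e : (R ⧸ m.toIdeal) →ₗ[R] E) (he : GrLC.IsStarInjHull 𝒜 (GrLC.quotGr 𝒜 m) 𝓔 e)
  {C : Type u} [AddCommGroup C] [Module R C]
  (n : ℕ) (I : GrLC.StarInjRes 𝒜 𝒜) (φ : (C →ₗ[R] E) ≃ₗ[R] I.H m n)

include hpos h0 hm hmsp he φ in
/-- **the localisation of a *canonical module is a canonical module of the local ring** -/
theorem nonempty_canon_equiv :
    Nonempty (((Localization.AtPrime m.toIdeal) ⊗[R] C →ₗ[Localization.AtPrime m.toIdeal]
        LocalizedModule m.toIdeal.primeCompl E) ≃ₗ[Localization.AtPrime m.toIdeal]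
      LocCoh.H (maximalIdeal (Localization.AtPrime m.toIdeal)) n
        (Localization.AtPrime m.toIdeal)) := by
  have hE := isPowerTorsion_envelope 𝒜 hpos h0 m hm hmsp 𝓔 e he
  let ι := locEquiv m.toIdeal E hE
  let e1 : ((Localization.AtPrime m.toIdeal) ⊗[R] C →ₗ[Localization.AtPrime m.toIdeal]
        LocalizedModule m.toIdeal.primeCompl E) ≃ₗ[Localization.AtPrime m.toIdeal]
      (C →ₗ[R] LocalizedModule m.toIdeal.primeCompl E) :=
    (LinearMap.liftBaseChangeEquiv (Localization.AtPrime m.toIdeal)).symm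
  let e2 : (C →ₗ[R] LocalizedModule m.toIdeal.primeCompl E) ≃ₗ[R] (C →ₗ[R] E) :=
    LinearEquiv.congrRight ι.symm
  obtain ⟨e4⟩ := Groth.Agent.Helper7.GrFinC.nonempty_H_equiv m I n
  have hH : LocCoh.IsPowerTorsion m.toIdeal (LocCoh.H m.toIdeal n R) :=
    Groth.Agent.Helper1.LocCohTors.isPowerTorsion m.toIdeal n (ModuleCat.of R R)
  let e5 := locEquiv m.toIdeal (LocCoh.H m.toIdeal n R) hH
  let ψ : (C →ₗ[R] LocalizedModule m.toIdeal.primeCompl E) ≃ₗ[R]
      LocalizedModule m.toIdeal.primeCompl (LocCoh.H m.toIdeal n R) :=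
    ((e2.trans φ).trans e4).trans e5
  let ψA : (C →ₗ[R] LocalizedModule m.toIdeal.primeCompl E) ≃ₗ[Localization.AtPrime m.toIdeal]
      LocalizedModule m.toIdeal.primeCompl (LocCoh.H m.toIdeal n R) :=
    LinearEquiv.extendScalarsOfIsLocalization m.toIdeal.primeCompl
      (Localization.AtPrime m.toIdeal) ψ
  obtain ⟨e67⟩ := nonempty_localized_lc_equiv m.toIdeal n
  exact ⟨(e1.trans ψA).trans e67⟩

end Graded

end Groth.Agent.Helper7.GrGor
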