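import Mathlib
import Groth.Prelude.Def_GrLC
import Groth.Prelude.Def_CAlg
import Groth.Prelude.Def_Wider
import Groth.Agent.Helper7.GrGor4
import Groth.Agent.S11665

/-!
# The top local cohomology of a ring which is Gorenstein at a maximal ideal (helper7)

`H^n_m(R)` is an injective `R`-module whose every nonzero element has a multiple equal to a fixed socle element.
-/

set_option autoImplicit false
set_option linter.unusedSectionVars false
set_option linter.style.haveILetI false

namespace Groth.Agent.Helper7.VerGor

open TensorProduct IsLocalRing Groth.Agent.Helper7.GrGor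

universe u

/-- an injective module over a flat algebra is injective over the base ring -/
theorem injective_of_flat {R : Type u} [CommRing R] (A : Type u) [CommRing A] [Algebra R A]
    [Module.Flat R A] (Q : Type u) [AddCommGroup Q] [Module R Q] [Module A Q] [IsScalarTower R A Q]
    (h : Module.Injective A Q) : Module.Injective R Q := by
  constructor
  intro X Y _ _ _ _ f hf g
  have hinj : Function.Injective (LinearMap.baseChange A f) := by
    have := Module.Flat.lTensor_preserves_injective_linearMap (M := A) f hf
    exact this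
  obtain ⟨h', hh'⟩ := h.out (LinearMap.baseChange A f) hinj (LinearMap.liftBaseChange A g)
  refine ⟨(h'.restrictScalars R).comp (TensorProduct.mk R A Y 1), fun x => ?_⟩
  have := hh' ((1 : A) ⊗ₜ[R] x)
  rw [LinearMap.baseChange_tmul, LinearMap.liftBaseChange_tmul, one_smul] at this
  exact this

section Local

variable {R : Type u} [CommRing R] [IsNoetherianRing R] (m : Ideal R) [hmax : m.IsMaximal]
  (n : ℕ) (hdimA : ringKrullDim (Localization.AtPrime m) = n)
  [hG : LocCoh.IsGorensteinLocalRing (Localization.AtPrime m)]
  (H : Type u) [AddCommGroup H] [Module R H] (e4 : H ≃ₗ[R] LocCoh.H m n R)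

include hdimA e4 in
/-- the top local cohomology at a maximal ideal where the ring is Gorenstein -/
theorem gor_top_lc : Module.Injective R H ∧
    ∃ ε : H, ε ≠ 0 ∧ (∀ r ∈ m, r • ε = 0) ∧ ∀ x : H, x ≠ 0 → ∃ r : R, r • x = ε := by
  classical
  obtain ⟨g, hg⟩ := Groth.Agent.S11665.result (Localization.AtPrime m) n hdimA
  have hH : LocCoh.IsPowerTorsion m (LocCoh.H m n R) :=
    Groth.Agent.Helper1.LocCohTors.isPowerTorsion m n (ModuleCat.of R R)
  let e5 := locEquiv m (LocCoh.H m n R) hH
  let ψ : H ≃ₗ[R] LocalizedModule m.primeCompl (LocCoh.H m n R) := e4.trans e5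
  obtain ⟨e67⟩ := nonempty_localized_lc_equiv m n
  -- injectivity
  have hX : Module.Injective (Localization.AtPrime m)
      (LocCoh.H (maximalIdeal (Localization.AtPrime m)) n (Localization.AtPrime m)) :=
    hg.isInjective
  have hL : Module.Injective (Localization.AtPrime m)
      (LocalizedModule m.primeCompl (LocCoh.H m n R)) :=
    (Module.Baer.of_equiv e67.symm (Module.Baer.of_injective hX)).injective
  have hLR : Module.Injective R (LocalizedModule m.primeCompl (LocCoh.H m n R)) :=
    injective_of_flat (Localization.AtPrime m) _ hL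
  have hHR : Module.Injective R H :=
    (Module.Baer.of_equiv ψ.symm (Module.Baer.of_injective hLR)).injective
  refine ⟨hHR, ?_⟩
  -- the socle element
  set εX := g 1 with hεX
  set εL := e67.symm εX with hεL
  set ε := ψ.symm εL with hε
  have hεX0 : εX ≠ 0 := by
    intro h
    have := hg.injective (h.trans (map_zero g).symm)
    exact one_ne_zero this
  have hε0 : ε ≠ 0 := by
    intro h
    have h1 : εL = 0 := by
      have := congrArg ψ h
      rwa [hε, LinearEquiv.apply_symm_apply, map_zero] at this
    have h2 : εX = 0 := by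
      have := congrArg e67 h1
      rwa [hεL, LinearEquiv.apply_symm_apply, map_zero] at this
    exact hεX0 h2
  have hkillX : ∀ a ∈ maximalIdeal (Localization.AtPrime m), a • εX = 0 := by
    intro a ha
    rw [hεX, ← map_smul, Groth.Agent.Helper2.Socle.smul_one_eq, (residue_eq_zero_iff a).2 ha,
      map_zero]
  have hψsmul : ∀ (r : R) (x : H), (algebraMap R (Localization.AtPrime m) r) • ψ x = ψ (r • x) := by
    intro r x
    rw [algebraMap_smul, map_smul]
  have hkill : ∀ r ∈ m, r • ε = 0 := by
    intro r hr
    apply ψ.injective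
    rw [map_zero, ← hψsmul, hε, LinearEquiv.apply_symm_apply, hεL, ← map_smul]
    have : algebraMap R (Localization.AtPrime m) r ∈ maximalIdeal (Localization.AtPrime m) := by
      rw [← IsLocalization.AtPrime.map_eq_maximalIdeal m (Localization.AtPrime m)]
      exact Ideal.mem_map_of_mem _ hr
    rw [hkillX _ this, map_zero]
  refine ⟨ε, hε0, hkill, fun x hx => ?_⟩
  set y := e67 (ψ x) with hy
  have hy0 : y ≠ 0 := by
    intro h
    apply hx
    have h1 : ψ x = 0 := e67.injective (h.trans (map_zero e67).symm)
    exact ψ.injective (h1.trans (map_zero ψ).symm)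
  have hspan : Submodule.span (Localization.AtPrime m) {y} ≠ ⊥ := by
    intro h
    apply hy0
    have : y ∈ Submodule.span (Localization.AtPrime m) {y} := Submodule.mem_span_singleton_self y
    rw [h] at this
    exact (Submodule.mem_bot _).1 this
  have hess := hg.essential _ hspan
  obtain ⟨z, hz, hz0⟩ := Submodule.exists_mem_ne_zero_of_ne_bot hess
  obtain ⟨hz1, hz2⟩ := Submodule.mem_inf.1 hz
  obtain ⟨a, rfl⟩ := Submodule.mem_span_singleton.1 hz1
  obtain ⟨c, hc⟩ := hz2
  obtain ⟨b, rfl⟩ := residue_surjective c
  have hb : IsUnit b := by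
    by_contra hb
    apply hz0
    have : b ∈ maximalIdeal (Localization.AtPrime m) := by
      rwa [mem_maximalIdeal, mem_nonunits_iff]
    rw [← hc, (residue_eq_zero_iff b).2 this, map_zero]
  have hc' : b • εX = a • y := by
    rw [← hc, hεX, ← map_smul, Groth.Agent.Helper2.Socle.smul_one_eq]
  obtain ⟨bu, rfl⟩ := hb
  -- `(bu⁻¹ * a) • y = εX`
  have h1 : ((↑bu⁻¹ : Localization.AtPrime m) * a) • y = εX := by
    rw [mul_smul, ← hc', smul_smul, Units.inv_mul, one_smul]
  obtain ⟨r, s, hrs⟩ := IsLocalization.exists_mk'_eq m.primeCompl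
    ((↑bu⁻¹ : Localization.AtPrime m) * a)
  rw [← hrs] at h1
  have h2 : algebraMap R (Localization.AtPrime m) r • y =
      algebraMap R (Localization.AtPrime m) (s : R) • εX := by
    rw [← h1, smul_smul, mul_comm, IsLocalization.mk'_spec]
  -- pull back
  have h3 : r • x = (s : R) • ε := by
    apply ψ.injective
    apply e67.injective
    rw [← hψsmul, ← hψsmul, map_smul, map_smul, hε, LinearEquiv.apply_symm_apply, hεL,
      LinearEquiv.apply_symm_apply]
    exact h2
  obtain ⟨s', i, hi, hsi⟩ := hmax.exists_inv s.2
  refine ⟨s' * r, ?_⟩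
  rw [mul_smul, h3, ← mul_smul]
  have : s' * (s : R) = 1 - i := by rw [← hsi]; ring
  rw [this, sub_smul, one_smul, hkill i hi, sub_zero]

end Local

end Groth.Agent.Helper7.VerGor
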