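import Mathlib
import Groth.Prelude.Def_GrLC
import Groth.Prelude.Def_Wider
import Groth.Agent.Helper7.GrGor1
import Groth.Agent.S5168

/-!
# A graded module with a perfect top-degree pairing against the ring is injective (helper7)

`R = ⊕_{n ≥ 0} R_n` Noetherian with `R_0` a field, `H` a graded module vanishing above degree `t`, such that
multiplication `R_j × H_{t-j} → H_t` is nondegenerate in `H` and every `R_0`-linear map `R_j → H_t` is
multiplication by an element of `H_{t-j}`.  Then `H` is an injective `R`-module.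
-/

set_option autoImplicit false
set_option linter.unusedSectionVars false
set_option linter.style.haveILetI false

namespace Groth.Agent.Helper7.VerGor

open DirectSum Groth.Agent.Helper6.GrMod Groth.Agent.Helper7.GrDu Groth.Agent.Helper7.GrGor

universe u

section Abstract

variable {R : Type u} [CommRing R] (𝒜 : ℤ → AddSubgroup R) [GradedRing 𝒜]
  (hpos : ∀ n : ℤ, n < 0 → 𝒜 n = ⊥)
  {H : Type u} [AddCommGroup H] [Module R H] (ℋ : ℤ → AddSubgroup H) [Decomposition ℋ]
  [SetLike.GradedSMul 𝒜 ℋ] (t : ℤ)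

/-- nondegeneracy, homogeneous form -/
def NDeg : Prop := ∀ d : ℤ, ∀ x ∈ ℋ d, x ≠ 0 → ∃ r ∈ 𝒜 (t - d), r • x ≠ 0

/-- representability, homogeneous form -/
def Rep : Prop := ∀ (j : ℤ) (F : R → H), (∀ r ∈ 𝒜 j, F r ∈ ℋ t) →
  (∀ r ∈ 𝒜 j, ∀ r' ∈ 𝒜 j, F (r + r') = F r + F r') →
  (∀ c ∈ 𝒜 0, ∀ r ∈ 𝒜 j, F (c * r) = c • F r) → ∃ x ∈ ℋ (t - j), ∀ r ∈ 𝒜 j, r • x = F r

variable {𝒜 ℋ t}

theorem eq_zero_of_proj' (hN : NDeg 𝒜 ℋ t) {x : H}
    (h : ∀ r : R, projComp 𝒜 ℋ t (r • x) = 0) : x = 0 := by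
  classical
  by_contra hx
  have : ∃ d, (decompose ℋ x d : H) ≠ 0 := by
    by_contra hcon
    push Not at hcon
    apply hx
    rw [← DirectSum.sum_support_decompose ℋ x]
    exact Finset.sum_eq_zero (fun d _ => hcon d)
  obtain ⟨d, hd⟩ := this
  obtain ⟨r, hr, hrx⟩ := hN d _ (decompose ℋ x d).2 hd
  have h1 := decompose_smul_homog 𝒜 ℋ hr x d
  rw [sub_add_cancel] at h1
  have h2 := congrArg Subtype.val (h r)
  rw [projComp_coe] at h2
  rw [h2] at h1
  exact hrx h1.symm

include hpos in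
theorem exists_repr' (hR : Rep 𝒜 ℋ t) (F : R →ₗ[GrLC.deg0 𝒜] GrLC.comp 𝒜 ℋ t) (D : ℕ)
    (hF : ∀ j : ℤ, (D : ℤ) ≤ j → ∀ r ∈ 𝒜 j, F r = 0) :
    ∃ x : H, ∀ r : R, projComp 𝒜 ℋ t (r • x) = F r := by
  classical
  have hex : ∀ j : ℤ, ∃ x ∈ ℋ (t - j), ∀ r ∈ 𝒜 j, r • x = (F r : H) := by
    intro j
    refine hR j (fun r => (F r : H)) (fun r _ => (F r).2) (fun r _ r' _ => ?_) (fun c hc r _ => ?_)
    · show ((F (r + r') : GrLC.comp 𝒜 ℋ t) : H) = _
      rw [map_add]; rfl
    · have h1 : c * r = (⟨c, hc⟩ : GrLC.deg0 𝒜) • r := rfl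
      show ((F (c * r) : GrLC.comp 𝒜 ℋ t) : H) = _
      rw [h1, map_smul]; rfl
  choose X hX1 hX2 using hex
  refine ⟨∑ j ∈ Finset.range D, X (j : ℤ), fun r => ?_⟩
  induction r using Decomposition.inductionOn 𝒜 with
  | zero => rw [zero_smul, map_zero, map_zero]
  | add a a' h h' => rw [add_smul, map_add, map_add, h, h']
  | @homogeneous i r =>
    apply Subtype.ext
    rw [projComp_coe, Finset.smul_sum, decompose_sum, DFinsupp.finsetSum_apply,
      AddSubmonoidClass.coe_finsetSum]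
    have hterm : ∀ j : ℕ, (j : ℤ) ≠ i → (decompose ℋ ((r : R) • X (j : ℤ)) t : H) = 0 := by
      intro j hj
      have hmem : (r : R) • X (j : ℤ) ∈ ℋ (i + (t - j)) := smul_mem' 𝒜 ℋ r.2 (hX1 j)
      exact decompose_of_mem_ne ℋ hmem (by omega)
    by_cases hi : 0 ≤ i ∧ i < D
    · obtain ⟨i', rfl⟩ : ∃ i' : ℕ, i = (i' : ℤ) := ⟨i.toNat, by omega⟩
      have hi' : i' ∈ Finset.range D := by
        rw [Finset.mem_range]; omega
      rw [Finset.sum_eq_single_of_mem i' hi' (fun j _ hj => hterm j (by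
        intro h; exact hj (by exact_mod_cast h)))]
      rw [hX2 (i' : ℤ) r r.2]
      exact decompose_of_mem_same ℋ (F r).2
    · rw [Finset.sum_eq_zero (fun j hj => hterm j (by
        rw [Finset.mem_range] at hj
        intro h; apply hi; omega))]
      by_cases hneg : i < 0
      · have : (r : R) = 0 := by
          have h1 : (r : R) ∈ 𝒜 i := r.2
          have h2 : (r : R) ∈ (⊥ : AddSubgroup R) := hpos i hneg ▸ h1
          exact (AddSubgroup.mem_bot).1 h2
        rw [this, map_zero]; rfl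
      · rw [hF i (by omega) r r.2]; rfl

end Abstract

section Main

variable {R : Type u} [CommRing R] [IsNoetherianRing R] (𝒜 : ℤ → AddSubgroup R) [GradedRing 𝒜]
  (hpos : ∀ n : ℤ, n < 0 → 𝒜 n = ⊥) (h0 : IsField (GrLC.deg0 𝒜))
  (m : HomogeneousIdeal 𝒜) (hm : IsCoatom m)
  (hmsp : m.toIdeal = Ideal.span (⋃ n ∈ Set.Ioi (0 : ℤ), (𝒜 n : Set R)))
  {H : Type u} [AddCommGroup H] [Module R H] (ℋ : ℤ → AddSubgroup H) [Decomposition ℋ]
  [SetLike.GradedSMul 𝒜 ℋ] (t : ℤ)

include hpos h0 hm hmsp in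
/-- **a graded module perfectly paired with the ring is injective** -/
theorem injective_of_dual (hT : LocCoh.IsPowerTorsion m.toIdeal H) (hN : NDeg 𝒜 ℋ t)
    (hR : Rep 𝒜 ℋ t) : Module.Injective R H := by
  classical
  rw [Groth.Agent.S5168.result R m.toIdeal H hT]
  intro M _ _ hfin hpow N g
  obtain ⟨s, hs⟩ := hpow
  letI := h0.toField
  obtain ⟨D, hD⟩ := exists_piece_le_pow 𝒜 hpos m hm hmsp s
  have hkill : ∀ r ∈ m.toIdeal ^ s, ∀ y : M, r • y = 0 := by
    intro r hr y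
    have : r • y ∈ (m.toIdeal ^ s) • (⊤ : Submodule R M) :=
      Submodule.smul_mem_smul hr Submodule.mem_top
    rw [hs] at this
    exact (Submodule.mem_bot R).1 this
  let lam : ↥(N.restrictScalars (GrLC.deg0 𝒜)) →ₗ[GrLC.deg0 𝒜] GrLC.comp 𝒜 ℋ t :=
    { toFun := fun y => projComp 𝒜 ℋ t (g ⟨y.1, y.2⟩)
      map_add' := fun y y' => by
        have : (⟨(y + y').1, (y + y').2⟩ : N) = ⟨y.1, y.2⟩ + ⟨y'.1, y'.2⟩ := rfl
        rw [this, map_add, map_add]
      map_smul' := fun c y => by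
        have : (⟨(c • y).1, (c • y).2⟩ : N) = (c : R) • ⟨y.1, y.2⟩ := rfl
        rw [this, map_smul]
        exact (projComp 𝒜 ℋ t).map_smul c _ }
  obtain ⟨lam', hlam'⟩ := LinearMap.exists_extend lam
  have hlam : ∀ (y : M) (hy : y ∈ N), lam' y = projComp 𝒜 ℋ t (g ⟨y, hy⟩) := by
    intro y hy
    exact LinearMap.congr_fun hlam' ⟨y, hy⟩
  let F : M → (R →ₗ[GrLC.deg0 𝒜] GrLC.comp 𝒜 ℋ t) := fun y =>
    { toFun := fun r => lam' (r • y)
      map_add' := fun r r' => by rw [add_smul, map_add]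
      map_smul' := fun c r => by
        have : (c • r) • y = c • (r • y) := by
          show ((c : R) * r) • y = (c : R) • (r • y)
          rw [mul_smul]
        rw [this, map_smul]
        rfl }
  have hF : ∀ (y : M) (j : ℤ), (D : ℤ) ≤ j → ∀ r ∈ 𝒜 j, F y r = 0 := by
    intro y j hj r hr
    show lam' (r • y) = 0
    rw [hkill r (hD j hj r hr) y, map_zero]
  have hex : ∀ y : M, ∃ x : H, ∀ r : R, projComp 𝒜 ℋ t (r • x) = F y r := fun y =>
    exists_repr' hpos hR (F y) D (hF y)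
  choose G hG using hex
  have hG' : ∀ (y : M) (r : R), projComp 𝒜 ℋ t (r • G y) = lam' (r • y) := hG
  have huniq : ∀ x x' : H, (∀ r : R, projComp 𝒜 ℋ t (r • x) = projComp 𝒜 ℋ t (r • x')) →
      x = x' := by
    intro x x' h
    have := eq_zero_of_proj' hN (x := x - x') (fun r => by
      rw [smul_sub, map_sub, h r, sub_self])
    exact sub_eq_zero.1 this
  let g' : M →ₗ[R] H :=
    { toFun := G
      map_add' := fun y y' => by
        apply huniq
        intro r
        rw [smul_add, map_add, hG', hG', hG', smul_add, map_add]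
      map_smul' := fun a y => by
        apply huniq
        intro r
        rw [RingHom.id_apply, hG']
        have h2 : r • a • G y = (r * a) • G y := (mul_smul r a (G y)).symm
        rw [h2, hG', mul_smul] }
  refine ⟨g', ?_⟩
  apply LinearMap.ext
  rintro ⟨y, hy⟩
  show G y = g ⟨y, hy⟩
  apply huniq
  intro r
  rw [hG', hlam (r • y) (N.smul_mem r hy)]
  congr 1
  rw [← map_smul]
  rfl

end Main

end Groth.Agent.Helper7.VerGor
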