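import Mathlib
import Groth.Prelude.Def_GrLC
import Groth.Prelude.Def_Wider
import Groth.Agent.Helper7.VerGor1

/-!
# From a socle generator and injectivity to the perfect pairing with the ring (helper7)
-/

set_option autoImplicit false
set_option linter.unusedSectionVars false
set_option linter.style.haveILetI false

namespace Groth.Agent.Helper7.VerGor

open DirectSum Groth.Agent.Helper6.GrMod Groth.Agent.Helper7.GrDu

universe u

section Socle

variable {R : Type u} [CommRing R] (𝒜 : ℤ → AddSubgroup R) [GradedRing 𝒜]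
  (hpos : ∀ n : ℤ, n < 0 → 𝒜 n = ⊥) (h0 : IsField (GrLC.deg0 𝒜))
  {H : Type u} [AddCommGroup H] [Module R H] (ℋ : ℤ → AddSubgroup H) [Decomposition ℋ]
  [SetLike.GradedSMul 𝒜 ℋ] (a : ℤ) (htop : ∀ d : ℤ, a < d → ℋ d = ⊥)

include hpos in
theorem eq_zero_of_neg' {j : ℤ} (hj : j < 0) {r : R} (hr : r ∈ 𝒜 j) : r = 0 := by
  have h2 : r ∈ (⊥ : AddSubgroup R) := hpos j hj ▸ hr
  exact (AddSubgroup.mem_bot).1 h2

include htop in
theorem eq_zero_of_gt {d : ℤ} (hd : a < d) {x : H} (hx : x ∈ ℋ d) : x = 0 := by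
  have h2 : x ∈ (⊥ : AddSubgroup H) := htop d hd ▸ hx
  exact (AddSubgroup.mem_bot).1 h2

include hpos htop in
/-- on the top piece only the degree-zero component of a scalar acts -/
theorem smul_top_eq {x : H} (hx : x ∈ ℋ a) (r : R) : r • x = (decompose 𝒜 r 0 : R) • x := by
  classical
  induction r using Decomposition.inductionOn 𝒜 with
  | zero => rw [decompose_zero, DirectSum.zero_apply, ZeroMemClass.coe_zero]
  | add r r' h h' =>
    rw [add_smul, h, h', decompose_add, DirectSum.add_apply, AddSubgroup.coe_add, add_smul]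
  | @homogeneous i r =>
    by_cases hi : i = 0
    · subst hi
      rw [decompose_of_mem_same 𝒜 r.2]
    · rw [decompose_of_mem_ne 𝒜 r.2 hi, zero_smul]
      rcases lt_or_gt_of_ne hi with h | h
      · rw [eq_zero_of_neg' 𝒜 hpos h r.2, zero_smul]
      · exact eq_zero_of_gt ℋ a htop (d := i + a) (by omega) (smul_mem' 𝒜 ℋ r.2 hx)

variable (hne : ℋ a ≠ ⊥) (ε : H) (hε0 : ε ≠ 0) (hP : ∀ x : H, x ≠ 0 → ∃ r : R, r • x = ε)

include hpos htop hne hP in
theorem eps_mem : ε ∈ ℋ a := by
  have : ∃ x ∈ ℋ a, x ≠ 0 := by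
    by_contra hcon
    push Not at hcon
    apply hne
    rw [eq_bot_iff]
    intro x hx
    exact (AddSubgroup.mem_bot).2 (hcon x hx)
  obtain ⟨x, hx, hx0⟩ := this
  obtain ⟨r, hr⟩ := hP x hx0
  rw [← hr, smul_top_eq 𝒜 hpos ℋ a htop hx r]
  have := smul_mem' 𝒜 ℋ (decompose 𝒜 r 0).2 hx
  rwa [zero_add] at this

include hpos htop hne hε0 hP in
theorem nDeg_of_socle : NDeg 𝒜 ℋ a := by
  intro d x hx hx0
  obtain ⟨r, hr⟩ := hP x hx0
  have hε := eps_mem 𝒜 hpos ℋ a htop hne ε hP
  refine ⟨(decompose 𝒜 r (a - d) : R), (decompose 𝒜 r (a - d)).2, ?_⟩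
  have h1 := decompose_smul_right 𝒜 ℋ hx r (a - d)
  rw [sub_add_cancel, hr, decompose_of_mem_same ℋ hε] at h1
  rw [← h1]
  exact hε0

include hpos h0 htop hε0 hP in
/-- the top piece is one-dimensional, spanned by `ε` -/
theorem top_span : ∀ y ∈ ℋ a, ∃ c ∈ 𝒜 0, y = c • ε := by
  intro y hy
  by_cases hy0 : y = 0
  · exact ⟨0, zero_mem _, by rw [hy0, zero_smul]⟩
  obtain ⟨r, hr⟩ := hP y hy0
  rw [smul_top_eq 𝒜 hpos ℋ a htop hy r] at hr
  set c : GrLC.deg0 𝒜 := ⟨(decompose 𝒜 r 0 : R), (decompose 𝒜 r 0).2⟩ with hc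
  have hc0 : c ≠ 0 := by
    intro h
    have h1 : (decompose 𝒜 r 0 : R) = 0 := congrArg Subtype.val h
    rw [h1, zero_smul] at hr
    exact hε0 hr.symm
  obtain ⟨b, hb⟩ := h0.mul_inv_cancel hc0
  refine ⟨(b : R), b.2, ?_⟩
  rw [← hr, ← mul_smul]
  have : (b : R) * (decompose 𝒜 r 0 : R) = 1 := by
    have := congrArg Subtype.val hb
    rw [mul_comm] at this
    exact this
  rw [this, one_smul]

variable (hinj : Module.Injective R H)

/-- the ideal of elements with no component below degree `j` -/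
def geIdeal (j : ℤ) : Ideal R where
  carrier := {r | ∀ i : ℤ, i < j → (decompose 𝒜 r i : R) = 0}
  zero_mem' := fun i _ => by rw [decompose_zero, DirectSum.zero_apply, ZeroMemClass.coe_zero]
  add_mem' := fun {r r'} hr hr' i hi => by
    rw [decompose_add, DirectSum.add_apply, AddSubgroup.coe_add, hr i hi, hr' i hi, add_zero]
  smul_mem' := fun s r hr i hi => by
    classical
    show (decompose 𝒜 (s • r) i : R) = 0
    induction s using Decomposition.inductionOn 𝒜 with
    | zero => rw [zero_smul, decompose_zero, DirectSum.zero_apply, ZeroMemClass.coe_zero]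
    | add s s' h h' =>
      rw [add_smul, decompose_add, DirectSum.add_apply, AddSubgroup.coe_add, h, h', add_zero]
    | @homogeneous k s =>
      by_cases hk : k < 0
      · have h2 : (s : R) ∈ (⊥ : AddSubgroup R) := hpos k hk ▸ s.2
        rw [(AddSubgroup.mem_bot).1 h2, zero_smul, decompose_zero, DirectSum.zero_apply,
          ZeroMemClass.coe_zero]
      · have h1 := decompose_smul_homog 𝒜 𝒜 s.2 r (i - k)
        rw [add_sub_cancel] at h1
        rw [h1, hr (i - k) (by omega), smul_zero]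

theorem mem_geIdeal_of_mem {j : ℤ} {r : R} (hr : r ∈ 𝒜 j) : r ∈ geIdeal 𝒜 hpos j := by
  intro i hi
  exact decompose_of_mem_ne 𝒜 hr (by omega)

include hpos htop hinj in
/-- representability from injectivity -/
theorem rep_of_injective : Rep 𝒜 ℋ a := by
  classical
  intro j F hF1 hF2 hF3
  have hF0 : F 0 = 0 := by
    have := hF2 0 (zero_mem _) 0 (zero_mem _)
    rw [add_zero] at this
    exact (left_eq_add.1 this)
  -- the linear map on the ideal
  let f : ↥(geIdeal 𝒜 hpos j) →ₗ[R] H :=
    { toFun := fun r => F (decompose 𝒜 (r : R) j : R)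
      map_add' := fun r r' => by
        show F (decompose 𝒜 ((r : R) + (r' : R)) j : R) = _
        rw [decompose_add, DirectSum.add_apply, AddSubgroup.coe_add]
        exact hF2 _ (decompose 𝒜 (r : R) j).2 _ (decompose 𝒜 (r' : R) j).2
      map_smul' := fun s r => by
        show F (decompose 𝒜 (s • (r : R)) j : R) = s • F (decompose 𝒜 (r : R) j : R)
        induction s using Decomposition.inductionOn 𝒜 with
        | zero => rw [zero_smul, decompose_zero, DirectSum.zero_apply, ZeroMemClass.coe_zero, hF0,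
            zero_smul]
        | add s s' h h' =>
          rw [add_smul, decompose_add, DirectSum.add_apply, AddSubgroup.coe_add,
            hF2 _ (decompose 𝒜 (s • (r : R)) j).2 _ (decompose 𝒜 (s' • (r : R)) j).2, h, h', add_smul]
        | @homogeneous k s =>
          have h1 := decompose_smul_homog 𝒜 𝒜 s.2 (r : R) (j - k)
          rw [add_sub_cancel] at h1
          rw [h1]
          by_cases hk : k = 0
          · subst hk
            rw [sub_zero]
            exact hF3 _ s.2 _ (decompose 𝒜 (r : R) j).2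
          · rcases lt_or_gt_of_ne hk with hk' | hk'
            · have h2 : (s : R) ∈ (⊥ : AddSubgroup R) := hpos k hk' ▸ s.2
              rw [(AddSubgroup.mem_bot).1 h2, zero_smul, zero_smul, hF0]
            · rw [r.2 (j - k) (by omega), smul_zero, hF0]
              symm
              exact eq_zero_of_gt ℋ a htop (d := k + a) (by omega)
                (smul_mem' 𝒜 ℋ s.2 (hF1 _ (decompose 𝒜 (r : R) j).2)) }
  obtain ⟨g', hg'⟩ := (Module.Baer.of_injective hinj) (geIdeal 𝒜 hpos j) f
  refine ⟨(decompose ℋ (g' 1) (a - j) : H), (decompose ℋ (g' 1) (a - j)).2, fun r hr => ?_⟩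
  have h1 := decompose_smul_homog 𝒜 ℋ hr (g' 1) (a - j)
  rw [add_sub_cancel] at h1
  rw [← h1, ← map_smul, smul_eq_mul, mul_one, hg' r (mem_geIdeal_of_mem 𝒜 hpos hr)]
  show (decompose ℋ (F (decompose 𝒜 r j : R)) a : H) = F r
  rw [decompose_of_mem_same 𝒜 hr]
  exact decompose_of_mem_same ℋ (hF1 r hr)

end Socle

end Groth.Agent.Helper7.VerGor
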