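import Mathlib
import Groth.Prelude.Def_GrLC
import Groth.Prelude.Def_Wider
import Groth.Agent.Helper7.VerGor1
import Groth.Agent.Helper7.GrVer9

/-!
# Transfer of the perfect pairing with the ring to the Veronese module (helper7)
-/

set_option autoImplicit false
set_option linter.unusedSectionVars false
set_option linter.style.haveILetI false

namespace Groth.Agent.Helper7.VerGor

open DirectSum Groth.Agent.Helper6.GrMod Groth.Agent.Helper7.GrVer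

universe u

section Transfer

variable {R R' : Type u} [CommRing R] [CommRing R'] {𝒜 : ℤ → AddSubgroup R} [GradedRing 𝒜]
  {𝒜' : ℤ → AddSubgroup R'} [GradedRing 𝒜'] (D : VData 𝒜 𝒜')
  {H : Type u} [AddCommGroup H] [Module R H] (ℋ : ℤ → AddSubgroup H) [Decomposition ℋ]
  [SetLike.GradedSMul 𝒜 ℋ]
  {H' : Type u} [AddCommGroup H'] [Module R' H'] (ℋ' : ℤ → AddSubgroup H') [Decomposition ℋ']
  [SetLike.GradedSMul 𝒜' ℋ']
  (θ : H' →ₛₗ[D.φ] H) (hθi : Function.Injective θ)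
  (hθ1 : ∀ (j : ℤ) (x : H'), x ∈ ℋ' j → θ x ∈ ℋ (j * (D.q : ℤ)))
  (hθ2 : ∀ (j : ℤ) (y : H), y ∈ ℋ (j * (D.q : ℤ)) → ∃ x ∈ ℋ' j, θ x = y)
  (t' : ℤ)

include hθi hθ1 in
theorem htop_ver (htop : ∀ d : ℤ, t' * (D.q : ℤ) < d → ℋ d = ⊥) :
    ∀ d' : ℤ, t' < d' → ℋ' d' = ⊥ := by
  intro d' hd'
  rw [eq_bot_iff]
  intro x hx
  have h1 := hθ1 d' x hx
  have hlt : t' * (D.q : ℤ) < d' * (D.q : ℤ) := mul_lt_mul_of_pos_right hd' D.qpos
  rw [htop _ hlt] at h1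
  have h2 : θ x = 0 := (AddSubgroup.mem_bot).1 h1
  exact (AddSubgroup.mem_bot).2 (hθi (h2.trans (map_zero θ).symm))

include hθi hθ1 in
theorem nDeg_ver (hN : NDeg 𝒜 ℋ (t' * (D.q : ℤ))) : NDeg 𝒜' ℋ' t' := by
  intro d' x hx hx0
  have h1 := hθ1 d' x hx
  have h2 : θ x ≠ 0 := fun h => hx0 (hθi (h.trans (map_zero θ).symm))
  obtain ⟨r, hr, hrx⟩ := hN _ _ h1 h2
  have hdeg : t' * (D.q : ℤ) - d' * (D.q : ℤ) = (t' - d') * (D.q : ℤ) := by ring
  rw [hdeg] at hr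
  obtain ⟨r', hr', rfl⟩ := D.exists_mem _ r hr
  refine ⟨r', hr', fun h => hrx ?_⟩
  rw [← map_smulₛₗ θ, h, map_zero]

/-- a set-theoretic section of `φ` -/
noncomputable def pre (r : R) : R' := by
  classical
  exact if h : ∃ r', D.φ r' = r then h.choose else 0

theorem pre_apply (r' : R') : pre D (D.φ r') = r' := by
  classical
  have h : ∃ r'', D.φ r'' = D.φ r' := ⟨r', rfl⟩
  unfold pre
  rw [dif_pos h]
  exact D.inj h.choose_spec

include hθi hθ1 hθ2 in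
theorem rep_ver (hR : Rep 𝒜 ℋ (t' * (D.q : ℤ))) : Rep 𝒜' ℋ' t' := by
  intro j' F' hF1 hF2 hF3
  have key := hR (j' * (D.q : ℤ)) (fun r => θ (F' (pre D r))) ?_ ?_ ?_
  · obtain ⟨x, hx, hxr⟩ := key
    have hdeg : t' * (D.q : ℤ) - j' * (D.q : ℤ) = (t' - j') * (D.q : ℤ) := by ring
    rw [hdeg] at hx
    obtain ⟨x', hx', rfl⟩ := hθ2 _ x hx
    refine ⟨x', hx', fun r' hr' => ?_⟩
    apply hθi
    have := hxr (D.φ r') (D.map_mem j' r' hr')
    simp only [pre_apply] at this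
    rw [map_smulₛₗ θ]
    exact this
  · intro r hr
    obtain ⟨r', hr', rfl⟩ := D.exists_mem _ r hr
    show θ (F' (pre D (D.φ r'))) ∈ ℋ (t' * (D.q : ℤ))
    rw [pre_apply]
    exact hθ1 _ _ (hF1 r' hr')
  · intro r hr s hs
    obtain ⟨r', hr', rfl⟩ := D.exists_mem _ r hr
    obtain ⟨s', hs', rfl⟩ := D.exists_mem _ s hs
    show θ (F' (pre D (D.φ r' + D.φ s'))) = θ (F' (pre D (D.φ r'))) + θ (F' (pre D (D.φ s')))
    rw [← map_add D.φ, pre_apply, pre_apply, pre_apply, hF2 r' hr' s' hs', map_add]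
  · intro c hc r hr
    have hc' : c ∈ 𝒜 (0 * (D.q : ℤ)) := by rwa [zero_mul]
    obtain ⟨c', hc'', rfl⟩ := D.exists_mem _ c hc'
    obtain ⟨r', hr', rfl⟩ := D.exists_mem _ r hr
    show θ (F' (pre D (D.φ c' * D.φ r'))) = D.φ c' • θ (F' (pre D (D.φ r')))
    rw [← map_mul D.φ, pre_apply, pre_apply, hF3 c' hc'' r' hr', map_smulₛₗ θ]

end Transfer

end Groth.Agent.Helper7.VerGor
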