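import Mathlib
import Groth.Prelude.Def_GrLC
import Groth.Prelude.Def_CAlg
import Groth.Prelude.Def_Wider
import Groth.Agent.Helper7.VerGor2
import Groth.Agent.Helper7.VerGor3
import Groth.Agent.Helper7.VerGor4
import Groth.Agent.Helper7.VerGor5
import Groth.Agent.Helper7.GrGor5
import Groth.Agent.Helper7.GrAInv1
import Groth.Agent.Helper6.GrH
import Groth.Agent.Helper6.GrExist
import Groth.Agent.S11175

/-!
# The Veronese subring of a Gorenstein graded ring, `q ∣ a(R)`, is Gorenstein (helper7)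
-/

set_option autoImplicit false
set_option linter.unusedSectionVars false
set_option linter.style.haveILetI false

namespace Groth.Agent.Helper7.VerGor

open DirectSum IsLocalRing Groth.Agent.Helper6.GrMod Groth.Agent.Helper7.GrVer Groth.Agent.Helper7.GrGor

universe u

section LcLoc

variable {R : Type u} [CommRing R] [IsNoetherianRing R] (m : Ideal R) [hmax : m.IsMaximal]

/-- vanishing of local cohomology at a maximal ideal can be tested on the local ring -/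
theorem subsingleton_lc_iff (i : ℕ) :
    Subsingleton (LocCoh.H (maximalIdeal (Localization.AtPrime m)) i (Localization.AtPrime m)) ↔
      Subsingleton (LocCoh.H m i R) := by
  obtain ⟨e67⟩ := nonempty_localized_lc_equiv m i
  have hH : LocCoh.IsPowerTorsion m (LocCoh.H m i R) :=
    Groth.Agent.Helper1.LocCohTors.isPowerTorsion m i (ModuleCat.of R R)
  let e5 := locEquiv m (LocCoh.H m i R) hH
  exact (e67.toEquiv.subsingleton_congr).symm.trans (e5.toEquiv.subsingleton_congr).symm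

end LcLoc

section RingSide

variable {R : Type u} [CommRing R] [hG : LocCoh.IsGorensteinRing R] (𝒜 : ℤ → AddSubgroup R)
  [GradedRing 𝒜] (hpos : ∀ n : ℤ, n < 0 → 𝒜 n = ⊥) (h0 : IsField (GrLC.deg0 𝒜))
  (m : HomogeneousIdeal 𝒜) (hm : GrLC.IsStarLocal 𝒜 m)
  (hmsp : m.toIdeal = Ideal.span (⋃ n ∈ Set.Ioi (0 : ℤ), (𝒜 n : Set R)))
  (n : ℕ) (hn : ringKrullDim R = n) (I : GrLC.StarInjRes 𝒜 𝒜) (a : ℤ)
  (ha : GrLC.endDeg (I.Hgr m n) = ((a : WithTop ℤ) : WithBot (WithTop ℤ)))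

include hpos h0 hm hn ha in
/-- **the top graded local cohomology of a Gorenstein graded ring defined over a field is perfectly paired with
the ring** -/
theorem ring_side : NDeg 𝒜 (I.Hgr m n) a ∧ Rep 𝒜 (I.Hgr m n) a ∧
    (∃ ε ∈ I.Hgr m n a, ε ≠ 0 ∧ ∀ y ∈ I.Hgr m n a, ∃ c ∈ 𝒜 0, y = c • ε) ∧
    (∀ i : ℕ, i ≠ n → Subsingleton (I.H m i)) ∧ (∀ d : ℤ, a < d → I.Hgr m n d = ⊥) := by
  classical
  haveI hN : IsNoetherianRing R := inferInstance
  letI := h0.toField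
  haveI hArt : IsArtinianRing (GrLC.deg0 𝒜) := inferInstance
  haveI hmax : m.toIdeal.IsMaximal := Groth.Agent.Helper7.GrStarLoc.isMaximal 𝒜 hpos m hm.1
  haveI hmp : m.toIdeal.IsPrime := hmax.isPrime
  have hht : m.toIdeal.height = n := Groth.Agent.Helper7.GrHt.height_eq_dim 𝒜 hpos m hm n hn
  have hdimA : ringKrullDim (Localization.AtPrime m.toIdeal) = n := by
    rw [IsLocalization.AtPrime.ringKrullDim_eq_height m.toIdeal (Localization.AtPrime m.toIdeal), hht]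
    rfl
  haveI hGA : LocCoh.IsGorensteinLocalRing (Localization.AtPrime m.toIdeal) :=
    hG.isGorensteinLocalRing_localization m.toIdeal
  obtain ⟨e4⟩ := Groth.Agent.Helper7.GrFinC.nonempty_H_equiv m I n
  obtain ⟨hinj, ε, hε0, -, hP⟩ := gor_top_lc m.toIdeal n hdimA (I.H m n) e4
  letI : Decomposition (I.Hgr m n) :=
    (Groth.Agent.Helper6.GrH.Hgr_isInternal 𝒜 𝒜 m I n).chooseDecomposition
  letI : SetLike.GradedSMul 𝒜 (I.Hgr m n) := Groth.Agent.Helper7.GrStarLoc.gradedSMul_Hgr 𝒜 I m n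
  obtain ⟨hne, htop⟩ := (Groth.Agent.Helper7.GrAInv.endDeg_eq_coe_iff (I.Hgr m n) a).1 ha
  refine ⟨nDeg_of_socle 𝒜 hpos (I.Hgr m n) a htop hne ε hε0 hP,
    rep_of_injective 𝒜 hpos (I.Hgr m n) a htop hinj,
    ⟨ε, eps_mem 𝒜 hpos (I.Hgr m n) a htop hne ε hP, hε0,
      top_span 𝒜 hpos h0 (I.Hgr m n) a htop ε hε0 hP⟩, ?_, htop⟩
  obtain ⟨d, hd1, -⟩ := (Groth.Agent.S11175.result (Localization.AtPrime m.toIdeal)).1 hGA
  have hvan : ∀ i : ℕ, i ≠ d → Subsingleton (I.H m i) := by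
    intro i hi
    obtain ⟨e⟩ := Groth.Agent.Helper7.GrFinC.nonempty_H_equiv m I i
    haveI := (subsingleton_lc_iff m.toIdeal i).1 (hd1 i hi)
    exact e.toEquiv.subsingleton
  have hnd : n = d := by
    by_contra h
    haveI := hvan n h
    exact hε0 (Subsingleton.elim _ _)
  rw [hnd]
  exact hvan

end RingSide

section VerSide

variable {R R' : Type u} [CommRing R] [CommRing R'] [IsNoetherianRing R]
  {𝒜 : ℤ → AddSubgroup R} [GradedRing 𝒜]
  {𝒜' : ℤ → AddSubgroup R'} [GradedRing 𝒜'] (D : VData 𝒜 𝒜')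
  (hpos : ∀ n : ℤ, n < 0 → 𝒜 n = ⊥) (h0 : IsField (GrLC.deg0 𝒜))
  (m : HomogeneousIdeal 𝒜)
  (hmsp : m.toIdeal = Ideal.span (⋃ n ∈ Set.Ioi (0 : ℤ), (𝒜 n : Set R)))
  (n : ℕ) (I : GrLC.StarInjRes 𝒜 𝒜) (t' : ℤ)
  (hN : NDeg 𝒜 (I.Hgr m n) (t' * (D.q : ℤ))) (hR : Rep 𝒜 (I.Hgr m n) (t' * (D.q : ℤ)))
  (htop : ∀ d : ℤ, t' * (D.q : ℤ) < d → I.Hgr m n d = ⊥)
  (hvan : ∀ i : ℕ, i ≠ n → Subsingleton (I.H m i))

include hpos h0 hmsp hN hR htop hvan in
/-- **the Veronese subring is Gorenstein** -/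
theorem ver_gorenstein : LocCoh.IsGorensteinRing R' := by
  classical
  haveI : IsNoetherianRing R' := isNoetherianRing_of_vdata D
  have hpos' := hpos_ver D hpos
  have h0' := h0_ver D h0
  set m' := irrel 𝒜' with hm'def
  have hm' : GrLC.IsStarLocal 𝒜' m' := isStarLocal_irr 𝒜' hpos' h0'
  have hm'sp : m'.toIdeal = Ideal.span (⋃ j ∈ Set.Ioi (0 : ℤ), (𝒜' j : Set R')) := irrel_toIdeal 𝒜'
  haveI hmax' : m'.toIdeal.IsMaximal := Groth.Agent.Helper7.GrStarLoc.isMaximal 𝒜' hpos' m' hm'.1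
  haveI hmp' : m'.toIdeal.IsPrime := hmax'.isPrime
  obtain ⟨I'⟩ := Groth.Agent.Helper6.GrExist.nonempty_starInjRes 𝒜' 𝒜'
  -- the top local cohomology is injective
  letI : Decomposition (I.Hgr m n) :=
    (Groth.Agent.Helper6.GrH.Hgr_isInternal 𝒜 𝒜 m I n).chooseDecomposition
  letI : SetLike.GradedSMul 𝒜 (I.Hgr m n) := Groth.Agent.Helper7.GrStarLoc.gradedSMul_Hgr 𝒜 I m n
  letI : Decomposition (I'.Hgr m' n) :=
    (Groth.Agent.Helper6.GrH.Hgr_isInternal 𝒜' 𝒜' m' I' n).chooseDecomposition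
  letI : SetLike.GradedSMul 𝒜' (I'.Hgr m' n) :=
    Groth.Agent.Helper7.GrStarLoc.gradedSMul_Hgr 𝒜' I' m' n
  obtain ⟨θ, hθi, hθ1, hθ2⟩ := exists_theta_ring D m hmsp m' hm'sp I I' n
  have hN' : NDeg 𝒜' (I'.Hgr m' n) t' := nDeg_ver D (I.Hgr m n) (I'.Hgr m' n) θ hθi hθ1 t' hN
  have hR' : Rep 𝒜' (I'.Hgr m' n) t' := rep_ver D (I.Hgr m n) (I'.Hgr m' n) θ hθi hθ1 hθ2 t' hR
  have hT' : LocCoh.IsPowerTorsion m'.toIdeal (I'.H m' n) :=
    fun h => Groth.Agent.Helper7.GrFinC.H_torsion m' I' n h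
  have hinj' : Module.Injective R' (I'.H m' n) :=
    injective_of_dual 𝒜' hpos' h0' m' hm'.1 hm'sp (I'.Hgr m' n) t' hT' hN' hR'
  -- pass to the local ring
  obtain ⟨e4'⟩ := Groth.Agent.Helper7.GrFinC.nonempty_H_equiv m' I' n
  have hH' : LocCoh.IsPowerTorsion m'.toIdeal (LocCoh.H m'.toIdeal n R') :=
    Groth.Agent.Helper1.LocCohTors.isPowerTorsion m'.toIdeal n (ModuleCat.of R' R')
  let e5' := locEquiv m'.toIdeal (LocCoh.H m'.toIdeal n R') hH'
  obtain ⟨e67'⟩ := nonempty_localized_lc_equiv m'.toIdeal n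
  have hL' : Module.Injective R' (LocalizedModule m'.toIdeal.primeCompl (LocCoh.H m'.toIdeal n R')) :=
    (Module.Baer.of_equiv (e4'.trans e5') (Module.Baer.of_injective hinj')).injective
  have hLA' : Module.Injective (Localization.AtPrime m'.toIdeal)
      (LocalizedModule m'.toIdeal.primeCompl (LocCoh.H m'.toIdeal n R')) :=
    injective_of_isLocalization m'.toIdeal.primeCompl (Localization.AtPrime m'.toIdeal) _ hL'
  have hX' : Module.Injective (Localization.AtPrime m'.toIdeal)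
      (LocCoh.H (maximalIdeal (Localization.AtPrime m'.toIdeal)) n
        (Localization.AtPrime m'.toIdeal)) :=
    (Module.Baer.of_equiv e67' (Module.Baer.of_injective hLA')).injective
  -- vanishing
  have hvan' : ∀ i : ℕ, i ≠ n → Subsingleton (LocCoh.H (maximalIdeal (Localization.AtPrime m'.toIdeal)) i
      (Localization.AtPrime m'.toIdeal)) := by
    intro i hi
    rw [subsingleton_lc_iff m'.toIdeal i]
    obtain ⟨e⟩ := Groth.Agent.Helper7.GrFinC.nonempty_H_equiv m' I' i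
    obtain ⟨θi, hθii, -, -⟩ := exists_theta_ring D m hmsp m' hm'sp I I' i
    haveI := hvan i hi
    haveI : Subsingleton (I'.H m' i) := hθii.subsingleton
    exact e.symm.toEquiv.subsingleton
  have hGA' : LocCoh.IsGorensteinLocalRing (Localization.AtPrime m'.toIdeal) :=
    (Groth.Agent.S11175.result (Localization.AtPrime m'.toIdeal)).2 ⟨n, hvan', hX'⟩
  exact isGorensteinRing_of_local 𝒜' m' hm' hGA'

end VerSide

end Groth.Agent.Helper7.VerGor
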