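import Mathlib
import Groth.Prelude.Def_Wider
import Groth.Agent.Helper2.Socle

/-!
# Lengths of socles (helper7)

* `length_eq_of_same_lattice`: two ring actions on a group with the same cyclic submodules give the same length;
* `length_eq_of_semilinear`: lengths along a bijective semilinear map over a surjective ring map;
* `length_hom_residue_eq`: for a maximal ideal `m` of `R` and a module `L` over `R_m`: the length over `R_m` of
  `Hom(k(m), L)` is the length over `R` of the `m`-socle of any `R`-module `R`-isomorphic to `L`.
-/

set_option autoImplicit false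
set_option linter.unusedSectionVars false
set_option linter.style.haveILetI false

namespace Groth.Agent.Helper7.VerGor

open IsLocalRing Groth.Agent.Helper2.Socle

universe u

theorem length_eq_of_same_lattice {R A N : Type*} [Ring R] [Ring A] [AddCommGroup N] [Module R N]
    [Module A N] (h1 : ∀ (a : A) (x : N), ∃ r : R, a • x = r • x)
    (h2 : ∀ (r : R) (x : N), ∃ a : A, r • x = a • x) :
    Module.length R N = Module.length A N := by
  let e : Submodule R N ≃o Submodule A N :=
    { toFun := fun P =>
        { carrier := P
          add_mem' := P.add_mem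
          zero_mem' := P.zero_mem
          smul_mem' := fun a x hx => by
            obtain ⟨r, hr⟩ := h1 a x
            rw [hr]
            exact P.smul_mem r hx }
      invFun := fun P =>
        { carrier := P
          add_mem' := P.add_mem
          zero_mem' := P.zero_mem
          smul_mem' := fun r x hx => by
            obtain ⟨a, ha⟩ := h2 r x
            rw [ha]
            exact P.smul_mem a hx }
      left_inv := fun P => rfl
      right_inv := fun P => rfl
      map_rel_iff' := Iff.rfl }
  rw [Module.length, Module.length, WithBot.unbot_inj, Order.krullDim_eq_of_orderIso e]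

theorem length_eq_of_semilinear {R S M N : Type*} [Ring R] [Ring S] [AddCommGroup M]
    [AddCommGroup N] [Module R M] [Module S N] (σ : R →+* S) [RingHomSurjective σ]
    (f : M →ₛₗ[σ] N) (hf : Function.Bijective f) : Module.length R M = Module.length S N := by
  rw [Module.length, Module.length, WithBot.unbot_inj,
    Order.krullDim_eq_of_orderIso (Submodule.orderIsoMapComapOfBijective f hf)]

section SocLen

variable {R : Type u} [CommRing R] (m : Ideal R) [hmax : m.IsMaximal]
  (L : Type u) [AddCommGroup L] [Module R L] [Module (Localization.AtPrime m) L]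
  [IsScalarTower R (Localization.AtPrime m) L]
  (Y : Type u) [AddCommGroup Y] [Module R Y] (ι : Y ≃ₗ[R] L)

/-- homomorphisms from the residue field are socle elements -/
noncomputable def homResidueEquiv :
    (ResidueField (Localization.AtPrime m) →ₗ[Localization.AtPrime m] L) ≃ₗ[Localization.AtPrime m]
      ↥(Submodule.torsionBySet (Localization.AtPrime m) L
        (maximalIdeal (Localization.AtPrime m) : Set (Localization.AtPrime m))) where
  toFun f := ⟨f 1, by
    rw [Submodule.mem_torsionBySet_iff]
    intro a
    exact smul_apply_one_eq_zero f a a.2⟩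
  map_add' f g := rfl
  map_smul' a f := rfl
  invFun z := ofSocle z.1 (fun a ha => (Submodule.mem_torsionBySet_iff _ _).1 z.2 ⟨a, ha⟩)
  left_inv f := ext_one (ofSocle_one _ _)
  right_inv z := Subtype.ext (ofSocle_one _ _)

theorem algebraMap_mem_maximalIdeal {r : R} (hr : r ∈ m) :
    algebraMap R (Localization.AtPrime m) r ∈ maximalIdeal (Localization.AtPrime m) := by
  rw [← IsLocalization.AtPrime.map_eq_maximalIdeal m (Localization.AtPrime m)]
  exact Ideal.mem_map_of_mem _ hr

include ι in
theorem mem_socle_iff (y : Y) :
    y ∈ Submodule.torsionBySet R Y (m : Set R) ↔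
      ι y ∈ Submodule.torsionBySet (Localization.AtPrime m) L
        (maximalIdeal (Localization.AtPrime m) : Set (Localization.AtPrime m)) := by
  rw [Submodule.mem_torsionBySet_iff, Submodule.mem_torsionBySet_iff]
  constructor
  · rintro h ⟨a, ha⟩
    obtain ⟨r, s, rfl⟩ := IsLocalization.exists_mk'_eq m.primeCompl a
    have hr : r ∈ m := (IsLocalization.AtPrime.mk'_mem_maximal_iff (Localization.AtPrime m) m r s).1 ha
    show IsLocalization.mk' (Localization.AtPrime m) r s • ι y = 0
    rw [IsLocalization.mk'_eq_mul_mk'_one, mul_comm, mul_smul, algebraMap_smul, ← map_smul]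
    have := h ⟨r, hr⟩
    simp only at this
    rw [this, map_zero, smul_zero]
  · rintro h ⟨r, hr⟩
    show r • y = 0
    apply ι.injective
    rw [map_smul, map_zero, ← algebraMap_smul (Localization.AtPrime m) r (ι y)]
    exact h ⟨_, algebraMap_mem_maximalIdeal m hr⟩

include ι in
/-- **the length of `Hom(k(m), L)` is the length of the socle** -/
theorem length_hom_residue_eq :
    Module.length (Localization.AtPrime m)
        (ResidueField (Localization.AtPrime m) →ₗ[Localization.AtPrime m] L) =
      Module.length R ↥(Submodule.torsionBySet R Y (m : Set R)) := by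
  rw [(homResidueEquiv m L).length_eq]
  set SA := Submodule.torsionBySet (Localization.AtPrime m) L
    (maximalIdeal (Localization.AtPrime m) : Set (Localization.AtPrime m)) with hSA
  have hkill : ∀ (z : ↥SA) (i : R), i ∈ m → algebraMap R (Localization.AtPrime m) i • z = 0 := by
    intro z i hi
    apply Subtype.ext
    exact (Submodule.mem_torsionBySet_iff _ _).1 z.2 ⟨_, algebraMap_mem_maximalIdeal m hi⟩
  have h1 : Module.length R ↥SA = Module.length (Localization.AtPrime m) ↥SA := by
    apply length_eq_of_same_lattice
    · intro a x
      obtain ⟨r, s, rfl⟩ := IsLocalization.exists_mk'_eq m.primeCompl a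
      obtain ⟨s', i, hi, hsi⟩ := hmax.exists_inv s.2
      refine ⟨s' * r, ?_⟩
      set z := IsLocalization.mk' (Localization.AtPrime m) r s • x with hz
      have hsz : algebraMap R (Localization.AtPrime m) (s : R) • z =
          algebraMap R (Localization.AtPrime m) r • x := by
        rw [hz, smul_smul, mul_comm, IsLocalization.mk'_spec]
      have e1 : (s' * r) • x = algebraMap R (Localization.AtPrime m) (s' * r) • x :=
        (algebraMap_smul (Localization.AtPrime m) (s' * r) x).symm
      rw [e1, map_mul, mul_smul, ← hsz, ← mul_smul, ← map_mul]
      have : s' * (s : R) = 1 - i := by rw [← hsi]; ring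
      rw [this, map_sub, map_one, sub_smul, one_smul, hkill z i hi, sub_zero]
    · intro r x
      exact ⟨algebraMap R (Localization.AtPrime m) r, (algebraMap_smul _ r x).symm⟩
  rw [← h1]
  let e : ↥(Submodule.torsionBySet R Y (m : Set R)) ≃ₗ[R] ↥SA :=
    { toFun := fun y => ⟨ι y.1, (mem_socle_iff m L Y ι y.1).1 y.2⟩
      map_add' := fun y y' => Subtype.ext (map_add ι y.1 y'.1)
      map_smul' := fun r y => Subtype.ext (map_smul ι r y.1)
      invFun := fun z => ⟨ι.symm z.1, (mem_socle_iff m L Y ι (ι.symm z.1)).2 (by
        rw [LinearEquiv.apply_symm_apply]; exact z.2)⟩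
      left_inv := fun y => Subtype.ext (ι.symm_apply_apply y.1)
      right_inv := fun z => Subtype.ext (ι.apply_symm_apply z.1) }
  exact e.length_eq.symm

end SocLen

end Groth.Agent.Helper7.VerGor
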