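import Mathlib
import Groth.Prelude.Def_GrLC
import Groth.Prelude.Def_Wider
import Groth.Agent.Helper7.VerGor3
import Groth.Agent.Helper7.VerGor4

/-!
# Standard graded rings: socles and dimensions of pieces of a module perfectly paired with the ring (helper7)
-/

set_option autoImplicit false
set_option linter.unusedSectionVars false
set_option linter.style.haveILetI false

namespace Groth.Agent.Helper7.VerGor

open DirectSum Groth.Agent.Helper6.GrMod

universe u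

section Std

variable {R : Type u} [CommRing R] (𝒜 : ℤ → AddSubgroup R) [GradedRing 𝒜]
  (hstd : Ideal.span (⋃ n ∈ Set.Ioi (0 : ℤ), (𝒜 n : Set R)) =
    Ideal.span ((𝒜 1 : AddSubgroup R) : Set R))

include hstd in
/-- in a standard graded ring `R_{d+1} = R_d R_1` -/
theorem std_step (d : ℕ) {x : R} (hx : x ∈ 𝒜 ((d : ℤ) + 1)) :
    ∃ (N : ℕ) (u v : Fin N → R), (∀ l, u l ∈ 𝒜 (d : ℤ)) ∧ (∀ l, v l ∈ 𝒜 1) ∧
      x = ∑ l, u l * v l := by
  classical
  have hx1 : x ∈ Ideal.span ((𝒜 1 : AddSubgroup R) : Set R) := by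
    rw [← hstd]
    apply Ideal.subset_span
    rw [Set.mem_iUnion₂]
    exact ⟨(d : ℤ) + 1, by rw [Set.mem_Ioi]; positivity, hx⟩
  obtain ⟨n, f, g, hfg⟩ := Submodule.mem_span_set'.mp hx1
  refine ⟨n, fun l => (decompose 𝒜 (f l) (d : ℤ) : R), fun l => (g l : R),
    fun l => SetLike.coe_mem _, fun l => (g l).2, ?_⟩
  have h3 : (decompose 𝒜 x ((d : ℤ) + 1) : R) = x := decompose_of_mem_same 𝒜 hx
  rw [← h3, ← hfg, decompose_sum, DFinsupp.finsetSum_apply, AddSubmonoidClass.coe_finsetSum]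
  apply Finset.sum_congr rfl
  intro l _
  exact decompose_smul_right 𝒜 𝒜 (g l).2 (f l) (d : ℤ)

include hstd in
/-- an element killed by `R_e` is killed by `R_{d+e}` -/
theorem std_kill {Y : Type*} [AddCommGroup Y] [Module R Y] (e : ℕ) :
    ∀ (d : ℕ) (r : R), r ∈ 𝒜 ((d : ℤ) + e) → ∀ y : Y, (∀ u ∈ 𝒜 (e : ℤ), u • y = 0) → r • y = 0 := by
  induction e with
  | zero =>
    intro d r _ y h
    have h1 := h 1 (by
      show (1 : R) ∈ 𝒜 ((0 : ℕ) : ℤ)
      rw [Nat.cast_zero]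
      exact SetLike.GradedOne.one_mem (A := 𝒜))
    rw [one_smul] at h1
    rw [h1, smul_zero]
  | succ e ih =>
    intro d r hr y h
    have hr' : r ∈ 𝒜 (((d + e : ℕ) : ℤ) + 1) := by
      have : (((d + e : ℕ) : ℤ) + 1) = (d : ℤ) + ((e + 1 : ℕ) : ℤ) := by push_cast; ring
      rw [this]; exact hr
    obtain ⟨N, u, v, hu, hv, rfl⟩ := std_step 𝒜 hstd (d + e) hr'
    rw [Finset.sum_smul]
    refine Finset.sum_eq_zero (fun l _ => ?_)
    rw [mul_smul]
    refine ih d (u l) (by have := hu l; push_cast at this; exact this) (v l • y) (fun w hw => ?_)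
    rw [← mul_smul]
    apply h
    have := SetLike.GradedMul.mul_mem (A := 𝒜) hw (hv l)
    push_cast
    exact this

end Std

section SocleGr

variable {R : Type u} [CommRing R] (𝒜 : ℤ → AddSubgroup R) [GradedRing 𝒜]
  (hpos : ∀ n : ℤ, n < 0 → 𝒜 n = ⊥) (m : HomogeneousIdeal 𝒜)
  (hmsp : m.toIdeal = Ideal.span (⋃ n ∈ Set.Ioi (0 : ℤ), (𝒜 n : Set R)))
  {H : Type u} [AddCommGroup H] [Module R H] (ℋ : ℤ → AddSubgroup H) [Decomposition ℋ]
  [SetLike.GradedSMul 𝒜 ℋ] (s : ℤ) (htop : ∀ d : ℤ, s < d → ℋ d = ⊥)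
  (hess : ∀ d : ℤ, d < s → ∀ x ∈ ℋ d, (∀ u ∈ 𝒜 1, u • x = 0) → x = 0)

include hpos hmsp htop hess in
/-- the socle is the top piece -/
theorem mem_socle_iff_mem_top (x : H) :
    x ∈ Submodule.torsionBySet R H (m.toIdeal : Set R) ↔ x ∈ ℋ s := by
  classical
  rw [Submodule.mem_torsionBySet_iff]
  constructor
  · intro h
    have hcomp : ∀ d : ℤ, d ≠ s → (decompose ℋ x d : H) = 0 := by
      intro d hd
      rcases lt_or_gt_of_ne hd with hlt | hgt
      · apply hess d hlt _ (decompose ℋ x d).2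
        intro u hu
        have hum : u ∈ m.toIdeal := by
          rw [hmsp]
          apply Ideal.subset_span
          rw [Set.mem_iUnion₂]
          exact ⟨1, by rw [Set.mem_Ioi]; norm_num, hu⟩
        have h1 := decompose_smul_homog 𝒜 ℋ hu x d
        have h2 : u • x = 0 := h ⟨u, hum⟩
        rw [h2, decompose_zero, DirectSum.zero_apply, ZeroMemClass.coe_zero] at h1
        exact h1.symm
      · exact eq_zero_of_gt ℋ s htop hgt (decompose ℋ x d).2
    rw [← DirectSum.sum_support_decompose ℋ x]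
    refine AddSubgroup.sum_mem _ (fun d _ => ?_)
    by_cases hd : d = s
    · subst hd; exact (decompose ℋ x d).2
    · rw [hcomp d hd]; exact zero_mem _
  · rintro hx ⟨r, hr⟩
    show r • x = 0
    rw [smul_top_eq 𝒜 hpos ℋ s htop hx r]
    have : (decompose 𝒜 r 0 : R) = 0 := by
      apply decompose_zero_of_mem_irr 𝒜 hpos
      rw [irrel_toIdeal, ← hmsp]
      exact hr
    rw [this, zero_smul]

end SocleGr

section Dim

variable {R : Type u} [CommRing R] (𝒜 : ℤ → AddSubgroup R) [GradedRing 𝒜]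
  (h0 : IsField (GrLC.deg0 𝒜))
  {H : Type u} [AddCommGroup H] [Module R H] (ℋ : ℤ → AddSubgroup H) [Decomposition ℋ]
  [SetLike.GradedSMul 𝒜 ℋ] (t : ℤ)
  (hN : NDeg 𝒜 ℋ t) (hR : Rep 𝒜 ℋ t) (ε : H) (hε : ε ∈ ℋ t) (hε0 : ε ≠ 0)
  (hspan : ∀ y ∈ ℋ t, ∃ c ∈ 𝒜 0, y = c • ε)

theorem mem_comp' {d : ℤ} {x : H} : x ∈ GrLC.comp 𝒜 ℋ d ↔ x ∈ ℋ d := Iff.rfl

/-- multiplication into the top piece -/
def mulTop (j : ℤ) : GrLC.comp 𝒜 ℋ (t - j) →ₗ[GrLC.deg0 𝒜]
    (GrLC.comp 𝒜 𝒜 j →ₗ[GrLC.deg0 𝒜] GrLC.comp 𝒜 ℋ t) where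
  toFun x :=
    { toFun := fun r => ⟨(r : R) • (x : H), by
        have := smul_mem' 𝒜 ℋ r.2 x.2
        rwa [add_sub_cancel] at this⟩
      map_add' := fun r r' => Subtype.ext (add_smul (r : R) (r' : R) (x : H))
      map_smul' := fun c r => Subtype.ext (mul_smul (c : R) (r : R) (x : H)) }
  map_add' x x' := by
    ext r
    exact smul_add (r : R) (x : H) (x' : H)
  map_smul' c x := by
    ext r
    exact smul_comm (r : R) (c : R) (x : H)

include hN in
theorem mulTop_injective (j : ℤ) : Function.Injective (mulTop 𝒜 ℋ t j) := by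
  rw [injective_iff_map_eq_zero]
  intro x hx
  by_contra hx0
  have hx0' : (x : H) ≠ 0 := fun h => hx0 (Subtype.ext h)
  obtain ⟨r, hr, hrx⟩ := hN (t - j) x x.2 hx0'
  rw [sub_sub_cancel] at hr
  have := congrArg Subtype.val (LinearMap.congr_fun hx ⟨r, hr⟩)
  exact hrx this

include hR in
theorem mulTop_surjective (j : ℤ) : Function.Surjective (mulTop 𝒜 ℋ t j) := by
  classical
  intro f
  obtain ⟨x, hx, hxr⟩ := hR j (fun r => if h : r ∈ 𝒜 j then (f ⟨r, h⟩ : H) else 0)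
    (fun r hr => by
      show (if h : r ∈ 𝒜 j then (f ⟨r, h⟩ : H) else 0) ∈ ℋ t
      rw [dif_pos hr]; exact (f ⟨r, hr⟩).2)
    (fun r hr r' hr' => by
      show (if h : r + r' ∈ 𝒜 j then (f ⟨r + r', h⟩ : H) else 0) =
        (if h : r ∈ 𝒜 j then (f ⟨r, h⟩ : H) else 0) + (if h : r' ∈ 𝒜 j then (f ⟨r', h⟩ : H) else 0)
      rw [dif_pos hr, dif_pos hr', dif_pos (add_mem hr hr')]
      have : (⟨r + r', add_mem hr hr'⟩ : GrLC.comp 𝒜 𝒜 j) = ⟨r, hr⟩ + ⟨r', hr'⟩ := rfl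
      rw [this, map_add]; rfl)
    (fun c hc r hr => by
      have hcr : c * r ∈ 𝒜 j := by
        have := SetLike.GradedMul.mul_mem (A := 𝒜) hc hr
        rwa [zero_add] at this
      show (if h : c * r ∈ 𝒜 j then (f ⟨c * r, h⟩ : H) else 0) =
        c • (if h : r ∈ 𝒜 j then (f ⟨r, h⟩ : H) else 0)
      rw [dif_pos hr, dif_pos hcr]
      have : (⟨c * r, hcr⟩ : GrLC.comp 𝒜 𝒜 j) = (⟨c, hc⟩ : GrLC.deg0 𝒜) • ⟨r, hr⟩ := rfl
      rw [this, map_smul]; rfl)
  refine ⟨⟨x, (mem_comp' 𝒜 ℋ).2 hx⟩, ?_⟩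
  ext r
  have hr : (r : R) ∈ 𝒜 j := r.2
  have := hxr r hr
  rw [dif_pos hr] at this
  exact this

include h0 hε hε0 hspan in
theorem finrank_top : Module.finrank (GrLC.deg0 𝒜) (GrLC.comp 𝒜 ℋ t) = 1 ∧
    Module.Finite (GrLC.deg0 𝒜) (GrLC.comp 𝒜 ℋ t) := by
  letI := h0.toField
  let g : GrLC.deg0 𝒜 →ₗ[GrLC.deg0 𝒜] GrLC.comp 𝒜 ℋ t :=
    LinearMap.toSpanSingleton (GrLC.deg0 𝒜) _ ⟨ε, hε⟩
  have hg : Function.Bijective g := by
    constructor
    · rw [← LinearMap.ker_eq_bot, eq_bot_iff]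
      intro c hc
      rw [LinearMap.mem_ker, LinearMap.toSpanSingleton_apply] at hc
      rw [Submodule.mem_bot]
      rcases smul_eq_zero.1 hc with h | h
      · exact h
      · exact absurd (congrArg Subtype.val h) hε0
    · intro y
      obtain ⟨c, hc, hy⟩ := hspan y y.2
      exact ⟨⟨c, hc⟩, Subtype.ext hy.symm⟩
  let e := LinearEquiv.ofBijective g hg
  exact ⟨by rw [← e.finrank_eq, Module.finrank_self], Module.Finite.equiv e⟩

include h0 hN hR hε hε0 hspan in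
/-- **the pieces of a module perfectly paired with the ring have the dimensions of the pieces of the ring** -/
theorem length_piece_eq (j : ℤ) [Module.Finite (GrLC.deg0 𝒜) (GrLC.comp 𝒜 𝒜 j)] :
    Module.length (GrLC.deg0 𝒜) (GrLC.comp 𝒜 ℋ (t - j)) =
      (Module.finrank (GrLC.deg0 𝒜) (GrLC.comp 𝒜 𝒜 j) : ℕ∞) := by
  letI := h0.toField
  obtain ⟨h1, hfin⟩ := finrank_top 𝒜 h0 ℋ t ε hε hε0 hspan
  haveI := hfin
  let e := LinearEquiv.ofBijective (mulTop 𝒜 ℋ t j)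
    ⟨mulTop_injective 𝒜 ℋ t hN j, mulTop_surjective 𝒜 ℋ t hR j⟩
  haveI : Module.Finite (GrLC.deg0 𝒜) (GrLC.comp 𝒜 ℋ (t - j)) := Module.Finite.equiv e.symm
  rw [Module.length_eq_finrank, e.finrank_eq, Module.finrank_linearMap, h1, mul_one]

end Dim

end Groth.Agent.Helper7.VerGor
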