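import Mathlib
import Groth.Prelude.Def_GrLC
import Groth.Prelude.Def_GrLC2
import Groth.Prelude.Def_CAlg
import Groth.Prelude.Def_Wider
import Groth.Agent.Helper7.VerGor6
import Groth.Agent.Helper7.VerGor7
import Groth.Agent.Helper7.VerGor8
import Groth.Agent.Helper7.GrGor8
import Groth.Agent.Helper7.KunT3

/-!
# The type of the Veronese subring of a standard graded Gorenstein ring (helper7)
-/

set_option autoImplicit false
set_option linter.unusedSectionVars false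
set_option linter.style.haveILetI false

namespace Groth.Agent.Helper7.VerGor

open DirectSum IsLocalRing CategoryTheory Abelian Groth.Agent.Helper1 Groth.Agent.Helper6.GrMod
  Groth.Agent.Helper7.GrVer Groth.Agent.Helper7.GrGor Groth.Agent.Helper7.BassNum

universe u

section TypeVer

variable {R R' : Type u} [CommRing R] [CommRing R'] [IsNoetherianRing R]
  {𝒜 : ℤ → AddSubgroup R} [GradedRing 𝒜]
  {𝒜' : ℤ → AddSubgroup R'} [GradedRing 𝒜'] (D : VData 𝒜 𝒜')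
  (hpos : ∀ n : ℤ, n < 0 → 𝒜 n = ⊥) (h0 : IsField (GrLC.deg0 𝒜))
  (m : HomogeneousIdeal 𝒜)
  (hmsp : m.toIdeal = Ideal.span (⋃ n ∈ Set.Ioi (0 : ℤ), (𝒜 n : Set R)))
  (hstd : Ideal.span (⋃ n ∈ Set.Ioi (0 : ℤ), (𝒜 n : Set R)) =
    Ideal.span ((𝒜 1 : AddSubgroup R) : Set R))
  (n : ℕ) (I : GrLC.StarInjRes 𝒜 𝒜) (a : ℤ)
  (hN : NDeg 𝒜 (I.Hgr m n) a) (hR : Rep 𝒜 (I.Hgr m n) a)
  (ε : I.H m n) (hε : ε ∈ I.Hgr m n a) (hε0 : ε ≠ 0)
  (hspan : ∀ y ∈ I.Hgr m n a, ∃ c ∈ 𝒜 0, y = c • ε)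
  (htop : ∀ d : ℤ, a < d → I.Hgr m n d = ⊥)
  (hvan : ∀ i : ℕ, i ≠ n → Subsingleton (I.H m i))
  (m' : HomogeneousIdeal 𝒜') [hmax' : m'.toIdeal.IsMaximal]
  (hm'sp : m'.toIdeal = Ideal.span (⋃ j ∈ Set.Ioi (0 : ℤ), (𝒜' j : Set R')))
  (ρ : ℤ) (hρ0 : 0 ≤ ρ) (hρq : ρ < D.q) (s : ℤ) (hs : s * (D.q : ℤ) = a - ρ)

/-- the degree-zero part of `φ` as a ring homomorphism -/
def phi0Hom : GrLC.deg0 𝒜' →+* GrLC.deg0 𝒜 :=
  D.φ.restrict (GrLC.deg0 𝒜') (GrLC.deg0 𝒜) (fun x hx => by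
    have := D.map_mem 0 x hx
    rwa [zero_mul] at this)

theorem phi0Hom_surjective : Function.Surjective (phi0Hom D) := by
  rintro ⟨r, hr⟩
  have hr' : r ∈ 𝒜 (0 * (D.q : ℤ)) := by rw [zero_mul]; exact hr
  obtain ⟨r', hr'm, e⟩ := D.exists_mem 0 r hr'
  exact ⟨⟨r', hr'm⟩, Subtype.ext e⟩

include hpos h0 hmsp hstd hN hR hε hε0 hspan htop hvan hm'sp hρ0 hρq hs in
/-- **the type of the Veronese subring** -/
theorem bassNum_ver : GrLC.bassNum m'.toIdeal R' n =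
    (Module.finrank (GrLC.deg0 𝒜) (GrLC.comp 𝒜 𝒜 ρ) : ℕ∞) := by
  classical
  haveI : IsNoetherianRing R' := isNoetherianRing_of_vdata D
  have hpos' := hpos_ver D hpos
  have h0' := h0_ver D h0
  obtain ⟨I'⟩ := Groth.Agent.Helper6.GrExist.nonempty_starInjRes 𝒜' 𝒜'
  letI : Decomposition (I.Hgr m n) :=
    (Groth.Agent.Helper6.GrH.Hgr_isInternal 𝒜 𝒜 m I n).chooseDecomposition
  letI : SetLike.GradedSMul 𝒜 (I.Hgr m n) := Groth.Agent.Helper7.GrStarLoc.gradedSMul_Hgr 𝒜 I m n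
  letI : Decomposition (I'.Hgr m' n) :=
    (Groth.Agent.Helper6.GrH.Hgr_isInternal 𝒜' 𝒜' m' I' n).chooseDecomposition
  letI : SetLike.GradedSMul 𝒜' (I'.Hgr m' n) :=
    Groth.Agent.Helper7.GrStarLoc.gradedSMul_Hgr 𝒜' I' m' n
  obtain ⟨θ, hθi, hθ1, hθ2⟩ := exists_theta_ring D m hmsp m' hm'sp I I' n
  have hqpos : (0 : ℤ) < (D.q : ℤ) := D.qpos
  -- the top degree and essentiality
  have htop' : ∀ d : ℤ, s < d → I'.Hgr m' n d = ⊥ := by
    intro d hd
    rw [eq_bot_iff]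
    intro x hx
    have h1 := hθ1 d x hx
    have hlt : a < d * (D.q : ℤ) := by nlinarith
    rw [htop _ hlt] at h1
    have h2 : θ x = 0 := (AddSubgroup.mem_bot).1 h1
    exact (AddSubgroup.mem_bot).2 (hθi (h2.trans (map_zero θ).symm))
  have hess' : ∀ d : ℤ, d < s → ∀ x ∈ I'.Hgr m' n d, (∀ u ∈ 𝒜' 1, u • x = 0) → x = 0 := by
    intro d hd x hx hu
    by_contra hx0
    have hy := hθ1 d x hx
    have hy0 : θ x ≠ 0 := fun h => hx0 (hθi (h.trans (map_zero θ).symm))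
    obtain ⟨r, hr, hrx⟩ := hN (d * (D.q : ℤ)) (θ x) hy hy0
    apply hrx
    have hnn : 0 ≤ ρ + (s - d - 1) * (D.q : ℤ) := by nlinarith
    have hdeg : a - d * (D.q : ℤ) = ((ρ + (s - d - 1) * (D.q : ℤ)).toNat : ℤ) + (D.q : ℤ) := by
      rw [Int.toNat_of_nonneg hnn]
      linarith [hs]
    rw [hdeg] at hr
    refine std_kill 𝒜 hstd D.q _ r hr (θ x) (fun u hu' => ?_)
    have hu1 : u ∈ 𝒜 (1 * (D.q : ℤ)) := by rwa [one_mul]
    obtain ⟨u', hu'', rfl⟩ := D.exists_mem 1 u hu1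
    rw [← map_smulₛₗ θ, hu u' hu'', map_zero]
  have hsoc := mem_socle_iff_mem_top 𝒜' hpos' m' hm'sp (I'.Hgr m' n) s htop' hess'
  -- the length of the socle
  have hlen : Module.length R' ↥(Submodule.torsionBySet R' (I'.H m' n) (m'.toIdeal : Set R')) =
      (Module.finrank (GrLC.deg0 𝒜) (GrLC.comp 𝒜 𝒜 ρ) : ℕ∞) := by
    have hL1 : Module.length (GrLC.deg0 𝒜')
          ↥(Submodule.torsionBySet R' (I'.H m' n) (m'.toIdeal : Set R')) =
        Module.length R' ↥(Submodule.torsionBySet R' (I'.H m' n) (m'.toIdeal : Set R')) := by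
      apply length_eq_of_same_lattice
      · intro r x
        refine ⟨⟨(decompose 𝒜' r 0 : R'), (decompose 𝒜' r 0).2⟩, ?_⟩
        apply Subtype.ext
        exact smul_top_eq 𝒜' hpos' (I'.Hgr m' n) s htop' ((hsoc x.1).1 x.2) r
      · intro c x
        exact ⟨(c : R'), rfl⟩
    let e2 : ↥(Submodule.torsionBySet R' (I'.H m' n) (m'.toIdeal : Set R')) ≃ₗ[GrLC.deg0 𝒜']
        ↥(GrLC.comp 𝒜' (I'.Hgr m' n) s) :=
      { toFun := fun x => ⟨x.1, (hsoc x.1).1 x.2⟩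
        map_add' := fun x y => rfl
        map_smul' := fun c x => rfl
        invFun := fun y => ⟨y.1, (hsoc y.1).2 y.2⟩
        left_inv := fun x => rfl
        right_inv := fun y => rfl }
    haveI : RingHomSurjective (phi0Hom D) := ⟨phi0Hom_surjective D⟩
    let f3 : ↥(GrLC.comp 𝒜' (I'.Hgr m' n) s) →ₛₗ[phi0Hom D]
        ↥(GrLC.comp 𝒜 (I.Hgr m n) (s * (D.q : ℤ))) :=
      { toFun := fun y => ⟨θ y.1, hθ1 s y.1 y.2⟩
        map_add' := fun y y' => Subtype.ext (map_add θ y.1 y'.1)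
        map_smul' := fun c y => Subtype.ext (map_smulₛₗ θ (c : R') y.1) }
    have hf3 : Function.Bijective f3 := by
      constructor
      · intro y y' h
        exact Subtype.ext (hθi (congrArg Subtype.val h))
      · rintro ⟨z, hz⟩
        obtain ⟨x, hx, hxz⟩ := hθ2 s z hz
        exact ⟨⟨x, hx⟩, Subtype.ext hxz⟩
    haveI : Module.Finite (GrLC.deg0 𝒜) (GrLC.comp 𝒜 𝒜 ρ) :=
      Module.Finite.iff_fg.mpr (Groth.Agent.Helper7.Kun.comp_fg 𝒜 𝒜 ρ)
    have h4 := length_piece_eq 𝒜 h0 (I.Hgr m n) a hN hR ε hε hε0 hspan ρ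
    rw [← hL1, e2.length_eq, length_eq_of_semilinear (phi0Hom D) f3 hf3, hs]
    exact h4
  -- the local ring
  obtain ⟨e4'⟩ := Groth.Agent.Helper7.GrFinC.nonempty_H_equiv m' I' n
  have hH' : LocCoh.IsPowerTorsion m'.toIdeal (LocCoh.H m'.toIdeal n R') :=
    Groth.Agent.Helper1.LocCohTors.isPowerTorsion m'.toIdeal n (ModuleCat.of R' R')
  let e5' := locEquiv m'.toIdeal (LocCoh.H m'.toIdeal n R') hH'
  obtain ⟨e67'⟩ := nonempty_localized_lc_equiv m'.toIdeal n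
  have hvan' : ∀ i : ℕ, i ≠ n → Subsingleton (LocCoh.H (maximalIdeal (Localization.AtPrime m'.toIdeal)) i
      (Localization.AtPrime m'.toIdeal)) := by
    intro i hi
    rw [subsingleton_lc_iff m'.toIdeal i]
    obtain ⟨e⟩ := Groth.Agent.Helper7.GrFinC.nonempty_H_equiv m' I' i
    obtain ⟨θi, hθii, -, -⟩ := exists_theta_ring D m hmsp m' hm'sp I I' i
    haveI := hvan i hi
    haveI : Subsingleton (I'.H m' i) := hθii.subsingleton
    exact e.symm.toEquiv.subsingleton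
  obtain ⟨e1⟩ := GorTop.nonempty_ext_equiv_hom (maximalIdeal (Localization.AtPrime m'.toIdeal)) n
    (ModuleCat.of (Localization.AtPrime m'.toIdeal) (Localization.AtPrime m'.toIdeal))
    (fun j hj => by
      haveI := hvan' j (by omega)
      exact (ModuleCat.isZero_of_subsingleton _).injective)
    (ModuleCat.of (Localization.AtPrime m'.toIdeal)
      (Localization.AtPrime m'.toIdeal ⧸ maximalIdeal (Localization.AtPrime m'.toIdeal)))
    Canon.isTors_residueField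
  let α₀ : LocalizedModule m'.toIdeal.primeCompl R' ≃ₗ[R'] Localization.AtPrime m'.toIdeal :=
    IsLocalizedModule.iso m'.toIdeal.primeCompl
      (Algebra.linearMap R' (Localization.AtPrime m'.toIdeal))
  let α : LocalizedModule m'.toIdeal.primeCompl R' ≃ₗ[Localization.AtPrime m'.toIdeal]
      Localization.AtPrime m'.toIdeal :=
    LinearEquiv.extendScalarsOfIsLocalization m'.toIdeal.primeCompl
      (Localization.AtPrime m'.toIdeal) α₀
  unfold GrLC.bassNum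
  rw [bassNumLocal_congr α n]
  unfold GrLC.bassNumLocal
  rw [← hlen, ← length_hom_residue_eq m'.toIdeal
    (LocalizedModule m'.toIdeal.primeCompl (LocCoh.H m'.toIdeal n R')) (I'.H m' n) (e4'.trans e5')]
  have h5 := e1.length_eq
  have h6 := (LinearEquiv.congrRight (M := Localization.AtPrime m'.toIdeal ⧸
    maximalIdeal (Localization.AtPrime m'.toIdeal)) e67'.symm).length_eq
  exact h5.trans h6

end TypeVer

end Groth.Agent.Helper7.VerGor
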