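import Mathlib
import Groth.Prelude.Def_GrLC
import Groth.Agent.Helper7.VerPoly1
import Groth.Agent.S18655
import Groth.Agent.S13215
import Groth.Agent.S0342

/-!
# The type of the Veronese subring of a polynomial ring (helper7)
-/

set_option autoImplicit false
set_option linter.unusedSectionVars false
set_option linter.style.haveILetI false

namespace Groth.Agent.Helper7.VerPoly

open MvPolynomial DirectSum Groth.Agent.Helper7.Kun

universe u

attribute [local instance] MvPolynomial.weightedGradedAlgebra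

variable {k : Type u} [Field k] {s : ℕ}

theorem gorenstein_mvPolynomial (k : Type u) [Field k] (s : ℕ) :
    LocCoh.IsGorensteinRing (MvPolynomial (Fin s) k) :=
  { isGorensteinLocalRing_localization := fun p _ =>
      Groth.Agent.S0342.result (Localization.AtPrime p) }

theorem mem_gA_nat_iff (p : MvPolynomial (Fin s) k) (i : ℕ) :
    p ∈ gA k s (i : ℤ) ↔ p ∈ homogeneousSubmodule (Fin s) k i := by
  rw [mem_gA_iff, mem_homogeneousSubmodule]
  constructor
  · intro h e he
    have h1 : e.degree = Finsupp.weight 1 e := DFunLike.congr_fun Finsupp.degree_eq_weight_one e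
    rw [← h1]
    exact_mod_cast h e he
  · intro h e he
    have h1 : e.degree = Finsupp.weight 1 e := DFunLike.congr_fun Finsupp.degree_eq_weight_one e
    have := h he
    rw [← h1] at this
    exact_mod_cast this

/-- the Hilbert function of the polynomial ring, over the degree-zero subring -/
theorem finrank_comp (k : Type u) [Field k] (r : ℕ) (i : ℕ) :
    Module.finrank (GrLC.deg0 (gA k (r + 1))) (GrLC.comp (gA k (r + 1)) (gA k (r + 1)) (i : ℤ)) =
      Nat.choose (i + r) r := by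
  rw [← Groth.Agent.Helper6.HomogRank.finrank_homogeneousSubmodule k r i]
  symm
  let j : homogeneousSubmodule (Fin (r + 1)) k i ≃+
      GrLC.comp (gA k (r + 1)) (gA k (r + 1)) (i : ℤ) :=
    { toFun := fun p => ⟨p.1, (mem_gA_nat_iff p.1 i).mpr p.2⟩
      invFun := fun p => ⟨p.1, (mem_gA_nat_iff p.1 i).mp p.2⟩
      left_inv := fun p => rfl
      right_inv := fun p => rfl
      map_add' := fun p q => rfl }
  refine congrArg Cardinal.toNat (rank_eq_of_equiv_equiv (kToDeg0 (gS k (r + 1))) j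
    (kToDeg0_bijective (gS k (r + 1)) (SegPol.h0 k (Fin (r + 1)))) ?_)
  intro c p
  apply Subtype.ext
  show c • (p : MvPolynomial (Fin (r + 1)) k) = algebraMap k _ c * (p : MvPolynomial (Fin (r + 1)) k)
  rw [Algebra.smul_def]


theorem main (k : Type u) [Field k] (s d : ℕ) (hs : 1 ≤ s)
    (hd : 1 ≤ d) (R' : Type u) [CommRing R'] (φ : R' →+* MvPolynomial (Fin s) k)
    (hφ : Function.Injective φ)
    (hrange : ∀ p : MvPolynomial (Fin s) k, p ∈ φ.range ↔
      ∀ j : ℕ, ¬ d ∣ j → MvPolynomial.homogeneousComponent j p = 0)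
    (m' : Ideal R') [m'.IsMaximal]
    (hm' : m' = Ideal.comap φ (RingHom.ker (MvPolynomial.constantCoeff : MvPolynomial (Fin s) k →+* k)))
    (n : ℕ) (hsn : s ≤ n) (hdn : d ∣ n) (hmin : ∀ n' : ℕ, s ≤ n' → d ∣ n' → n ≤ n') :
    GrLC.bassNum m' R' s = (Nat.choose (n - 1) (s - 1) : ℕ∞) := by
  classical
  obtain ⟨r, rfl⟩ : ∃ r, s = r + 1 := ⟨s - 1, by omega⟩
  haveI := gorenstein_mvPolynomial k (r + 1)
  letI : GradedRing (gA' φ d) :=
    { gradedMonoid' φ d, (isInternal' φ d hrange hφ hd).chooseDecomposition with }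
  have hposR : ∀ i : ℤ, i < 0 → gA k (r + 1) i = ⊥ := hpos_plus (SegPol.hpos k (Fin (r + 1)))
  have h0R : IsField (GrLC.deg0 (gA k (r + 1))) := deg0_isField (SegPol.h0 k (Fin (r + 1)))
  have hdim : ringKrullDim (MvPolynomial (Fin (r + 1)) k) = ((r + 1 : ℕ) : WithBot ℕ∞) := by
    rw [MvPolynomial.ringKrullDim_of_isNoetherianRing, ringKrullDim_eq_zero_of_field]
    simp
  obtain ⟨I⟩ := Groth.Agent.S13215.result (MvPolynomial (Fin (r + 1)) k) (gA k (r + 1))
    (MvPolynomial (Fin (r + 1)) k) (gA k (r + 1))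
  have hm := VerGor.isStarLocal_irr (gA k (r + 1)) hposR h0R
  have hstd := SegPol.hstd k (Fin (r + 1))
  have ha := endDeg_poly k (r + 1) (idealOfPlus _ (VerGor.irrel (gA k (r + 1)))) rfl I
  have hm'sp : m' = Ideal.span (⋃ j ∈ Set.Ioi (0 : ℤ), (gA' φ d j : Set R')) :=
    hm'.trans (comap_ker_eq φ d hrange hφ hd)
  subst hm'sp
  obtain ⟨ρ, hρ⟩ : ∃ ρ : ℕ, n = ρ + (r + 1) := ⟨n - (r + 1), by omega⟩
  have hρd : ρ < d := by
    by_contra h
    push Not at h
    have h1 := hmin (n - d) (by omega) (Nat.dvd_sub hdn (dvd_refl d))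
    omega
  have hdvd : (d : ℤ) ∣ -((r + 1 : ℕ) : ℤ) - (ρ : ℤ) := by
    have h1 : (d : ℤ) ∣ (n : ℤ) := Int.natCast_dvd_natCast.mpr hdn
    have h2 : -((r + 1 : ℕ) : ℤ) - (ρ : ℤ) = -(n : ℤ) := by
      rw [hρ]; push_cast; ring
    rw [h2]
    exact (dvd_neg).mpr h1
  haveI hmax : (VerGor.irrel (gA' φ d)).toIdeal.IsMaximal :=
    ‹(Ideal.span (⋃ j ∈ Set.Ioi (0 : ℤ), (gA' φ d j : Set R'))).IsMaximal›
  have h := Groth.Agent.S18655.result (MvPolynomial (Fin (r + 1)) k) (gA k (r + 1)) hposR h0R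
    (VerGor.irrel (gA k (r + 1))) hm rfl hstd (r + 1) hdim I (-((r + 1 : ℕ) : ℤ)) ha d hd R'
    (gA' φ d) φ hφ (map_gA' φ d hrange) (VerGor.irrel (gA' φ d)) rfl (ρ : ℤ)
    (Int.natCast_nonneg ρ) (by exact_mod_cast hρd) hdvd
  rw [finrank_comp] at h
  have h3 : n - 1 = ρ + r := by omega
  rw [h3, Nat.add_sub_cancel]
  exact h

end Groth.Agent.Helper7.VerPoly
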