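import Mathlib
import Groth.Prelude
import Groth.Agent.Helper7.GorAnn2
import Groth.Agent.Helper7.VerPoly2
import Groth.Agent.Helper7.Liais5
import Groth.Agent.Helper3.GorKos
import Groth.Agent.Helper6.CINormal

/-!
# Complete intersections in polynomial rings are Gorenstein; almost complete intersections are
linked to Gorenstein ideals (helper7)
-/

set_option autoImplicit false
set_option linter.unusedSectionVars false
set_option linter.style.haveILetI false

namespace Groth.Agent.Helper7.GorAnn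

open IsLocalRing RingTheory.Sequence Module Groth.Agent.Helper7.LinkCM

universe u

/-- a complete intersection in a polynomial ring over a field is a Gorenstein ring -/
theorem gorenstein_of_ci (k : Type u) [Field k] (n c : ℕ)
    (r : Fin c → MvPolynomial (Fin n) k) (J : Ideal (MvPolynomial (Fin n) k))
    (hJdef : J = Ideal.span (Set.range r)) (hJ : (c : ℕ∞) ≤ J.height) :
    LocCoh.IsGorensteinRing (MvPolynomial (Fin n) k ⧸ J) := by
  classical
  refine { toIsNoetherian := inferInstance, isGorensteinLocalRing_localization := ?_ }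
  intro Q hQ
  let m : Ideal (MvPolynomial (Fin n) k) := Q.comap (Ideal.Quotient.mk J)
  haveI hmprime : m.IsPrime := Ideal.comap_isPrime _ _
  have hJm : J ≤ m := by
    intro x hx
    show Ideal.Quotient.mk J x ∈ Q
    rw [Ideal.Quotient.eq_zero_iff_mem.2 hx]
    exact Q.zero_mem
  have hfm : ∀ i, r i ∈ m := fun i => hJm (by rw [hJdef]; exact Ideal.subset_span ⟨i, rfl⟩)
  let A := Localization.AtPrime m
  haveI hGA : LocCoh.IsGorensteinLocalRing A :=
    (Groth.Agent.Helper7.VerPoly.gorenstein_mvPolynomial k n).isGorensteinLocalRing_localization m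
  haveI : IsNoetherianRing A := hGA.toIsNoetherian
  have hCMA : LocCoh.IsCohenMacaulayLocalRing A := Groth.Agent.Helper6.Bass.cm_of_gorenstein
  have hCM : LocCoh.IsCohenMacaulayModule A A := hCMA.supportDim_eq_depth
  let xs : List A := List.ofFn (fun i => algebraMap (MvPolynomial (Fin n) k) A (r i))
  have hxs : xs.length = c := List.length_ofFn
  have hmem : ∀ x ∈ xs, x ∈ maximalIdeal A := by
    intro x hx
    rw [List.mem_ofFn] at hx
    obtain ⟨i, rfl⟩ := hx
    rw [← Ideal.mem_comap, ← Ideal.under_def, IsLocalization.AtPrime.under_maximalIdeal A m]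
    exact hfm i
  have hJle : J ≤ (Ideal.ofList xs).under (MvPolynomial (Fin n) k) := by
    rw [hJdef, Ideal.span_le]
    rintro _ ⟨i, rfl⟩
    show algebraMap _ A (r i) ∈ Ideal.ofList xs
    exact Ideal.subset_span (List.mem_ofFn.2 ⟨i, rfl⟩)
  have hht : (xs.length : ℕ∞) ≤ (Ideal.ofList xs).height := by
    rw [hxs, ← IsLocalization.height_under m.primeCompl (Ideal.ofList xs)]
    exact hJ.trans (Ideal.height_mono hJle)
  obtain ⟨h1, -⟩ := Groth.Agent.Helper6.CINormal.cm_quot_of_height hCM xs hmem hht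
  have hreg : IsWeaklyRegular A xs :=
    Groth.Agent.Helper2.DepthCM2.weaklyRegular_of_dim_drop xs A hCM hmem h1
  have hG1 := Groth.Agent.Helper3.GorKos.gorLocal_quot_of_isWeaklyRegular xs.length A hGA xs rfl
    hreg hmem
  have hI : J.map (algebraMap (MvPolynomial (Fin n) k) A) = Ideal.ofList xs := by
    rw [hJdef, Ideal.map_span]
    unfold Ideal.ofList
    congr 1
    ext x
    simp only [Set.mem_image, Set.mem_range, exists_exists_eq_and,
      Set.mem_ofPred_eq, xs, List.mem_ofFn]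
  obtain ⟨e⟩ := Groth.Agent.Helper7.GorQuot.nonempty_locQuot_equiv J m Q rfl
  exact Groth.Agent.Helper7.SegGor.gorLocal_of_ringEquiv
    ((Ideal.quotEquivOfEq hI.symm).trans e) hG1

/-- an almost complete intersection `I = 𝔠 + (f)` with `R/I` Cohen–Macaulay is linked by `𝔠` to
a Gorenstein ideal -/
theorem s18868 (K : Type u) [Field K] (n c : ℕ) (hc : 2 ≤ c)
    (g : Fin c → MvPolynomial (Fin (n + 1)) K) (f : MvPolynomial (Fin (n + 1)) K)
    (𝔠 I : Ideal (MvPolynomial (Fin (n + 1)) K)) (h𝔠g : Ideal.span (Set.range g) = 𝔠)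
    (h𝔠 : 𝔠.IsHomogeneous (GrSyz.stdGr K (Fin (n + 1))))
    (hI : I.IsHomogeneous (GrSyz.stdGr K (Fin (n + 1))))
    (h𝔠c : 𝔠.height = c) (hIc : I.height = c)
    [hCM : LocCoh.IsCohenMacaulayRing (MvPolynomial (Fin (n + 1)) K ⧸ I)]
    (hlt : 𝔠 < I) (hIf : I = 𝔠 ⊔ Ideal.span {f}) :
    (𝔠.colon (I : Set (MvPolynomial (Fin (n + 1)) K))).height = c ∧
      LocCoh.IsGorensteinRing (MvPolynomial (Fin (n + 1)) K ⧸
        𝔠.colon (I : Set (MvPolynomial (Fin (n + 1)) K))) := by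
  haveI hG : LocCoh.IsGorensteinRing (MvPolynomial (Fin (n + 1)) K ⧸ 𝔠) :=
    gorenstein_of_ci K (n + 1) c g 𝔠 h𝔠g.symm (by rw [h𝔠c])
  refine ⟨(Groth.Agent.Helper7.Liais5.main c 𝔠 I h𝔠 h𝔠c (not_le_of_gt hlt)).1, ?_⟩
  set J := 𝔠.colon (I : Set (MvPolynomial (Fin (n + 1)) K)) with hJ
  have hmapI : I.map (Ideal.Quotient.mk 𝔠) = Ideal.span {Ideal.Quotient.mk 𝔠 f} := by
    rw [hIf, Ideal.map_sup, Ideal.map_quotient_self, bot_sup_eq, Ideal.map_span,
      Set.image_singleton]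
  have eI : ((MvPolynomial (Fin (n + 1)) K ⧸ 𝔠) ⧸ I.map (Ideal.Quotient.mk 𝔠)) ≃+*
      (MvPolynomial (Fin (n + 1)) K ⧸ I) := DoubleQuot.quotQuotEquivQuotOfLE hlt.le
  haveI : LocCoh.IsCohenMacaulayRing
      ((MvPolynomial (Fin (n + 1)) K ⧸ 𝔠) ⧸ Ideal.span {Ideal.Quotient.mk 𝔠 f}) :=
    cmRing_of_ringEquiv (eI.symm.trans (Ideal.quotEquivOfEq hmapI))
  have h1 := gor_quot_ann (MvPolynomial (Fin (n + 1)) K ⧸ 𝔠) (Ideal.Quotient.mk 𝔠 f)
  have hann : Submodule.annihilator (Ideal.span {Ideal.Quotient.mk 𝔠 f}) =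
      J.map (Ideal.Quotient.mk 𝔠) := by
    rw [← hmapI]
    exact ann_map_mk 𝔠 I J rfl
  have eJ : ((MvPolynomial (Fin (n + 1)) K ⧸ 𝔠) ⧸ J.map (Ideal.Quotient.mk 𝔠)) ≃+*
      (MvPolynomial (Fin (n + 1)) K ⧸ J) := DoubleQuot.quotQuotEquivQuotOfLE (le_colon 𝔠 _)
  have e2 : ((MvPolynomial (Fin (n + 1)) K ⧸ 𝔠) ⧸
      Submodule.annihilator (Ideal.span {Ideal.Quotient.mk 𝔠 f})) ≃+*
      (MvPolynomial (Fin (n + 1)) K ⧸ J) := (Ideal.quotEquivOfEq hann).trans eJ
  exact gorRing_of_ringEquiv (R := (MvPolynomial (Fin (n + 1)) K ⧸ 𝔠) ⧸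
      Submodule.annihilator (Ideal.span {Ideal.Quotient.mk 𝔠 f})) (hR := h1) e2

end Groth.Agent.Helper7.GorAnn
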