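import Mathlib

set_option autoImplicit false
universe u

namespace Groth.Agent.Helper7.Abhy

open Cardinal IsLocalRing Valuation

/-- a finite sum of nonzero terms with pairwise distinct valuations is nonzero. -/
theorem sum_ne_zero_of_injOn {L Γ : Type*} [Field L] [LinearOrderedCommGroupWithZero Γ]
    (v : Valuation L Γ) {ι : Type*} (s : Finset ι) (hs : s.Nonempty) (f : ι → L)
    (hf : ∀ i ∈ s, f i ≠ 0) (hinj : Set.InjOn (fun i => v (f i)) s) :
    ∑ i ∈ s, f i ≠ 0 := by
  classical
  obtain ⟨i₀, hi₀, hmax⟩ := s.exists_max_image (fun i => v (f i)) hs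
  have hlt : ∀ i ∈ s.erase i₀, v (f i) < v (f i₀) := by
    intro i hi
    rw [Finset.mem_erase] at hi
    exact lt_of_le_of_ne (hmax i hi.2) (fun h => hi.1 (hinj hi.2 hi₀ h))
  have h0 : v (f i₀) ≠ 0 := (Valuation.ne_zero_iff v).2 (hf i₀ hi₀)
  have h1 : v (∑ i ∈ s.erase i₀, f i) < v (f i₀) := Valuation.map_sum_lt v h0 hlt
  rw [← Finset.add_sum_erase s f hi₀]
  intro h
  have h2 := Valuation.map_add_eq_of_lt_left v h1
  rw [h, map_zero] at h2
  exact h0 h2.symm

theorem sum_sub_smul_eq_zero {G ι : Type*} [AddCommGroup G] (S : Finset ι) (w w' : ι → ℤ)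
    (v : ι → G) (h : ∑ i ∈ S, w i • v i = ∑ i ∈ S, w' i • v i) :
    ∑ i ∈ S, (w i - w' i) • v i = 0 := by
  simp only [sub_smul, Finset.sum_sub_distrib, h, sub_self]

section
variable {K L Γ₀ Γ₁ : Type u} [Field K] [Field L] [Algebra K L]
  [LinearOrderedCommGroupWithZero Γ₀] [LinearOrderedCommGroupWithZero Γ₁]
  (vK : Valuation K Γ₀) (vL : Valuation L Γ₁) [vK.HasExtension vL]

local notation "K₀" => Valuation.valuationSubring vK
local notation "L₀" => Valuation.valuationSubring vL

theorem coe_aeval {t : Type*} (y : t → L₀) (p : MvPolynomial t K₀) :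
    ((MvPolynomial.aeval y p : L₀) : L) =
      MvPolynomial.aeval (fun j => ((y j : L₀) : L)) (MvPolynomial.map (algebraMap K₀ K) p) := by
  induction p using MvPolynomial.induction_on with
  | C a =>
    rw [MvPolynomial.aeval_C, MvPolynomial.map_C, MvPolynomial.aeval_C]
    rfl
  | add p q hp hq => rw [map_add, map_add, map_add, ← hp, ← hq]; rfl
  | mul_X p i hp =>
    rw [map_mul, map_mul, map_mul, MvPolynomial.aeval_X, MvPolynomial.map_X, MvPolynomial.aeval_X,
      ← hp]
    rfl

theorem residue_aeval {t : Type*} (y : t → L₀) (p : MvPolynomial t K₀) :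
    IsLocalRing.residue L₀ (MvPolynomial.aeval y p) =
      MvPolynomial.aeval (fun j => IsLocalRing.residue L₀ (y j))
        (MvPolynomial.map (IsLocalRing.residue K₀) p) := by
  induction p using MvPolynomial.induction_on with
  | C a =>
    rw [MvPolynomial.aeval_C, MvPolynomial.map_C, MvPolynomial.aeval_C]
    rfl
  | add p q hp hq => rw [map_add, map_add, map_add, map_add, hp, hq]
  | mul_X p i hp =>
    rw [map_mul, map_mul, map_mul, map_mul, MvPolynomial.aeval_X, MvPolynomial.map_X,
      MvPolynomial.aeval_X, hp]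

theorem exists_val_eq {t : Type*} (y : t → L₀)
    (hy : AlgebraicIndependent (ResidueField K₀) (fun j => IsLocalRing.residue L₀ (y j)))
    (Q : MvPolynomial t K) (hQ : Q ≠ 0) :
    ∃ c : K, c ≠ 0 ∧
      vL (MvPolynomial.aeval (fun j => ((y j : L₀) : L)) Q) = vL (algebraMap K L c) := by
  classical
  have hsupp : Q.support.Nonempty := by
    rwa [Finset.nonempty_iff_ne_empty, Ne, MvPolynomial.support_eq_empty]
  obtain ⟨m₀, hm₀, hmax⟩ := Q.support.exists_max_image (fun m => vK (Q.coeff m)) hsupp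
  set c := Q.coeff m₀ with hc
  have hc0 : c ≠ 0 := MvPolynomial.mem_support_iff.1 hm₀
  have hvc0 : vK c ≠ 0 := (Valuation.ne_zero_iff vK).2 hc0
  have hle : ∀ m, vK (c⁻¹ * Q.coeff m) ≤ 1 := by
    intro m
    by_cases hm : m ∈ Q.support
    · rw [map_mul, map_inv₀, inv_mul_le_iff₀ (zero_lt_iff.2 hvc0), mul_one]
      exact hmax m hm
    · rw [MvPolynomial.notMem_support_iff.1 hm, mul_zero, map_zero]
      exact zero_le_one
  let Q₂ : MvPolynomial t K₀ :=
    ∑ m ∈ Q.support, MvPolynomial.monomial m (⟨c⁻¹ * Q.coeff m, hle m⟩ : K₀)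
  have hQ₂ : MvPolynomial.map (algebraMap K₀ K) Q₂ = MvPolynomial.C c⁻¹ * Q := by
    simp only [Q₂, map_sum, MvPolynomial.map_monomial]
    conv_rhs => rw [← MvPolynomial.support_sum_monomial_coeff Q, Finset.mul_sum]
    refine Finset.sum_congr rfl fun m _ => ?_
    rw [MvPolynomial.C_mul_monomial]
    rfl
  have hcoeff : MvPolynomial.coeff m₀ (MvPolynomial.map (IsLocalRing.residue K₀) Q₂) = 1 := by
    rw [MvPolynomial.coeff_map]
    have : MvPolynomial.coeff m₀ Q₂ = 1 := by
      simp only [Q₂, MvPolynomial.coeff_sum, MvPolynomial.coeff_monomial]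
      rw [Finset.sum_ite_eq' _ _ _, if_pos hm₀]
      apply Subtype.ext
      show c⁻¹ * Q.coeff m₀ = 1
      rw [← hc, inv_mul_cancel₀ hc0]
    rw [this, map_one]
  have hne : MvPolynomial.map (IsLocalRing.residue K₀) Q₂ ≠ 0 := by
    intro h
    rw [h, MvPolynomial.coeff_zero] at hcoeff
    exact zero_ne_one hcoeff
  have hres : IsLocalRing.residue L₀ (MvPolynomial.aeval y Q₂) ≠ 0 := by
    rw [residue_aeval]
    intro h
    exact hne (hy (by rw [h, map_zero]))
  have hunit : IsUnit (MvPolynomial.aeval y Q₂ : L₀) := by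
    by_contra hnu
    exact hres ((IsLocalRing.residue_eq_zero_iff _).2 ((IsLocalRing.mem_maximalIdeal _).2 hnu))
  have hv1 : vL ((MvPolynomial.aeval y Q₂ : L₀) : L) = 1 :=
    (Valuation.integer.integers vL).one_of_isUnit hunit
  refine ⟨c, hc0, ?_⟩
  have hQeq : Q = MvPolynomial.C c * (MvPolynomial.C c⁻¹ * Q) := by
    rw [← mul_assoc, ← MvPolynomial.C_mul, mul_inv_cancel₀ hc0, MvPolynomial.C_1, one_mul]
  conv_lhs => rw [hQeq]
  rw [map_mul, MvPolynomial.aeval_C, ← hQ₂, ← coe_aeval, map_mul, hv1, mul_one]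

omit [vK.HasExtension vL] in
theorem aeval_sum_elim {s t : Type*} (xL : s → L) (yL : t → L) (P : MvPolynomial (s ⊕ t) K) :
    MvPolynomial.aeval (Sum.elim xL yL) P =
      ∑ a ∈ (MvPolynomial.sumAlgEquiv K s t P).support,
        MvPolynomial.aeval yL ((MvPolynomial.sumAlgEquiv K s t P).coeff a) *
          ∏ g ∈ a.support, xL g ^ a g := by
  have h : ((MvPolynomial.aeval (Sum.elim xL yL) : MvPolynomial (s ⊕ t) K →ₐ[K] L) :
        MvPolynomial (s ⊕ t) K →+* L) =
      (MvPolynomial.eval₂Hom ((MvPolynomial.aeval yL : MvPolynomial t K →ₐ[K] L) :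
        MvPolynomial t K →+* L) xL).comp
        ((MvPolynomial.sumAlgEquiv K s t : MvPolynomial (s ⊕ t) K ≃ₐ[K]
          MvPolynomial s (MvPolynomial t K)) : MvPolynomial (s ⊕ t) K →+*
            MvPolynomial s (MvPolynomial t K)) := by
    apply MvPolynomial.ringHom_ext
    · intro r
      simp [MvPolynomial.sumAlgEquiv_C_inl]
    · rintro (g | j)
      · simp [MvPolynomial.sumAlgEquiv_X_inl]
      · simp [MvPolynomial.sumAlgEquiv_X_inr]
  have h2 := RingHom.congr_fun h P
  simp only [RingHom.coe_coe, RingHom.comp_apply] at h2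
  rw [h2]
  rfl

theorem result14891 :
    Module.rank ℤ (Additive Lˣ ⧸ Subgroup.toAddSubgroup
        (vL.valuationSubring.unitGroup ⊔ (Units.map (algebraMap K L).toMonoidHom).range)) +
      Algebra.trdeg (IsLocalRing.ResidueField vK.valuationSubring)
        (IsLocalRing.ResidueField vL.valuationSubring) ≤ Algebra.trdeg K L := by
  classical
  set H : AddSubgroup (Additive Lˣ) := Subgroup.toAddSubgroup
    (vL.valuationSubring.unitGroup ⊔ (Units.map (algebraMap K L).toMonoidHom).range) with hH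
  obtain ⟨s, hs, hsli⟩ := exists_set_linearIndependent_of_isDomain ℤ (Additive Lˣ ⧸ H)
  obtain ⟨t, ybar, hybar⟩ := exists_isTranscendenceBasis' (ResidueField K₀) (ResidueField L₀)
  rw [← hs, ← hybar.cardinalMk_eq_trdeg]
  have hx : ∀ g : s, ∃ x : Lˣ,
      (QuotientAddGroup.mk (Additive.ofMul x) : Additive Lˣ ⧸ H) = g := by
    intro g
    obtain ⟨a, ha⟩ := QuotientAddGroup.mk_surjective (g : Additive Lˣ ⧸ H)
    exact ⟨a.toMul, ha⟩
  choose x hx using hx
  have hy : ∀ j : t, ∃ y : L₀, IsLocalRing.residue L₀ y = ybar j :=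
    fun j => IsLocalRing.residue_surjective _
  choose y hy using hy
  have hyind : AlgebraicIndependent (ResidueField K₀)
      (fun j => IsLocalRing.residue L₀ (y j)) := by
    have : (fun j => IsLocalRing.residue L₀ (y j)) = ybar := funext hy
    rw [this]
    exact hybar.1
  have key : AlgebraicIndependent K
      (Sum.elim (fun g : s => ((x g : Lˣ) : L)) (fun j : t => ((y j : L₀) : L))) := by
    rw [algebraicIndependent_iff]
    intro P hP
    by_contra hP0
    set P' := MvPolynomial.sumAlgEquiv K s t P with hP'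
    have hP'0 : P' ≠ 0 := by
      intro h
      apply hP0
      exact (MvPolynomial.sumAlgEquiv K s t).injective (by rw [← hP', h, map_zero])
    have hsupp : P'.support.Nonempty := by
      rwa [Finset.nonempty_iff_ne_empty, Ne, MvPolynomial.support_eq_empty]
    rw [aeval_sum_elim] at hP
    have hc : ∀ a ∈ P'.support, ∃ c : K, c ≠ 0 ∧
        vL (MvPolynomial.aeval (fun j => ((y j : L₀) : L)) (P'.coeff a)) =
          vL (algebraMap K L c) :=
      fun a ha => exists_val_eq vK vL y hyind _ (MvPolynomial.mem_support_iff.1 ha)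
    have hcne : ∀ c : K, c ≠ 0 → vL (algebraMap K L c) ≠ 0 := fun c hc0 =>
      (Valuation.ne_zero_iff vL).2 ((map_ne_zero _).2 hc0)
    refine sum_ne_zero_of_injOn vL P'.support hsupp _ ?_ ?_ hP
    · intro a ha
      obtain ⟨c, hc0, hcv⟩ := hc a ha
      refine mul_ne_zero ?_ (Finset.prod_ne_zero_iff.2 fun g _ => pow_ne_zero _ (x g).ne_zero)
      intro h0
      rw [h0, map_zero] at hcv
      exact hcne c hc0 hcv.symm
    · intro a ha a' ha' hval
      simp only [Finset.mem_coe] at ha ha'
      simp only at hval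
      obtain ⟨c, hc0, hcv⟩ := hc a ha
      obtain ⟨c', hc0', hcv'⟩ := hc a' ha'
      set S := a.support ∪ a'.support with hS
      let Xa : Lˣ := ∏ g ∈ S, x g ^ a g
      let Xa' : Lˣ := ∏ g ∈ S, x g ^ a' g
      have hXa : ∏ g ∈ a.support, ((x g : Lˣ) : L) ^ a g = (Xa : L) := by
        rw [Finset.prod_subset (Finset.subset_union_left (s₂ := a'.support))
          (fun g _ hg => by rw [Finsupp.notMem_support_iff.1 hg, pow_zero])]
        show ∏ g ∈ S, ((x g : Lˣ) : L) ^ a g = _
        simp [Xa, Units.coe_prod]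
      have hXa' : ∏ g ∈ a'.support, ((x g : Lˣ) : L) ^ a' g = (Xa' : L) := by
        rw [Finset.prod_subset (Finset.subset_union_right (s₁ := a.support))
          (fun g _ hg => by rw [Finsupp.notMem_support_iff.1 hg, pow_zero])]
        show ∏ g ∈ S, ((x g : Lˣ) : L) ^ a' g = _
        simp [Xa', Units.coe_prod]
      rw [map_mul, map_mul, hXa, hXa', hcv, hcv'] at hval
      -- the unit
      let cu : Kˣ := Units.mk0 c hc0
      let cu' : Kˣ := Units.mk0 c' hc0'
      let κ : Lˣ := Units.map (algebraMap K L).toMonoidHom (cu * cu'⁻¹)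
      let u : Lˣ := κ * (Xa * Xa'⁻¹)
      have hκ : (κ : L) = algebraMap K L c * (algebraMap K L c')⁻¹ := by
        simp [κ, cu, cu']
      have hu1 : vL (u : L) = 1 := by
        have h1 : (u : L) = algebraMap K L c * (Xa : L) * (algebraMap K L c' * (Xa' : L))⁻¹ := by
          simp only [u, Units.val_mul, hκ, Units.val_inv_eq_inv_val]
          rw [mul_inv]
          ring
        rw [h1, map_mul, map_inv₀, map_mul, map_mul, hval]
        exact mul_inv_cancel₀ (mul_ne_zero (hcne c' hc0')
          ((Valuation.ne_zero_iff vL).2 Xa'.ne_zero))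
      have huU : u ∈ vL.valuationSubring.unitGroup := by
        rw [ValuationSubring.mem_unitGroup_iff]
        exact (Valuation.isEquiv_iff_val_eq_one.1
          (Valuation.isEquiv_valuation_valuationSubring vL)).1 hu1
      have hmem : Xa⁻¹ * Xa' ∈
          vL.valuationSubring.unitGroup ⊔ (Units.map (algebraMap K L).toMonoidHom).range := by
        have : Xa⁻¹ * Xa' = u⁻¹ * κ := by
          simp only [u]
          rw [mul_inv, mul_inv, inv_inv]
          rw [mul_comm κ⁻¹, mul_assoc, inv_mul_cancel, mul_one]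
        rw [this]
        exact Subgroup.mul_mem_sup (Subgroup.inv_mem _ huU) ⟨_, rfl⟩
      have hq : (QuotientAddGroup.mk (Additive.ofMul Xa) : Additive Lˣ ⧸ H) =
          QuotientAddGroup.mk (Additive.ofMul Xa') := by
        rw [QuotientAddGroup.eq]
        exact hmem
      have hexp : ∀ b : s →₀ ℕ, (QuotientAddGroup.mk (Additive.ofMul (∏ g ∈ S, x g ^ b g)) :
          Additive Lˣ ⧸ H) = ∑ g ∈ S, (b g : ℤ) • ((g : s) : Additive Lˣ ⧸ H) := by
        intro b
        rw [ofMul_prod, ← QuotientAddGroup.mk'_apply, map_sum]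
        refine Finset.sum_congr rfl fun g _ => ?_
        rw [ofMul_pow, map_nsmul, QuotientAddGroup.mk'_apply, hx, natCast_zsmul]
      rw [hexp a, hexp a'] at hq
      have hq' : ∑ g ∈ S, ((a g : ℤ) - (a' g : ℤ)) • ((g : s) : Additive Lˣ ⧸ H) = 0 :=
        sum_sub_smul_eq_zero S _ _ _ hq
      have hli := (linearIndependent_iff'.1 hsli) S (fun g => (a g : ℤ) - (a' g : ℤ)) hq'
      ext g
      by_cases hg : g ∈ S
      · have := hli g hg
        omega
      · rw [hS, Finset.mem_union, not_or] at hg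
        rw [Finsupp.notMem_support_iff.1 hg.1, Finsupp.notMem_support_iff.1 hg.2]
  have := key.cardinalMk_le_trdeg
  rwa [Cardinal.mk_sum, Cardinal.lift_id, Cardinal.lift_id] at this

end

end Groth.Agent.Helper7.Abhy
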