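import Mathlib
import Groth.Prelude.Def_GLin
import Groth.Prelude.Def_W4c1tameactTame
import Groth.Agent.S13255

set_option autoImplicit false
set_option linter.unusedSectionVars false
universe u

namespace Groth.Agent.Helper7.HopfModT

open TensorProduct HopfRep

section

variable {k : Type u} [Field k] {A : Type u} [CommRing A] [HopfAlgebra k A]
variable {R : Type u} [CommRing R] [Algebra k R] [Comod k A R]
variable {M : Type u} [AddCommGroup M] [Module k M] [Module R M] [IsScalarTower k R M]

lemma ker_le (o : R →ₐ[k] A)
    (hI : ∀ r : R, o r = 0 → ∀ m : M, r • m = 0) :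
    RingHom.ker (o : R →+* A) ≤ RingHom.ker (Module.toAddMonoidEnd R M) := by
  intro r hr
  rw [RingHom.mem_ker]
  ext m
  exact hI r hr m

/-- the `A`-module structure on an `R`-module killed by the kernel of a surjection `R → A` -/
@[reducible] noncomputable def modA (o : R →ₐ[k] A) (ho : Function.Surjective o)
    (hI : ∀ r : R, o r = 0 → ∀ m : M, r • m = 0) : Module A M :=
  Module.compHom M ((o : R →+* A).liftOfSurjective ho ⟨Module.toAddMonoidEnd R M, ker_le o hI⟩)

lemma modA_smul (o : R →ₐ[k] A) (ho : Function.Surjective o)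
    (hI : ∀ r : R, o r = 0 → ∀ m : M, r • m = 0) (r : R) (m : M) :
    letI := modA o ho hI
    (o r) • m = r • m := by
  letI := modA o ho hI
  change ((o : R →+* A).liftOfSurjective ho ⟨Module.toAddMonoidEnd R M, ker_le o hI⟩
    ((o : R →+* A) r)) m = _
  rw [RingHom.liftOfSurjective_comp_apply]
  rfl

lemma hmSMul_rTensor (o : R →ₐ[k] A) (ho : Function.Surjective o)
    (hI : ∀ r : R, o r = 0 → ∀ m : M, r • m = 0) :
    letI := modA o ho hI
    ∀ [IsScalarTower k A M] (z : R ⊗[k] A) (t : M ⊗[k] A),
    TameAct.hmSMul k A A M (LinearMap.rTensor A o.toLinearMap z) t = TameAct.hmSMul k A R M z t := by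
  letI := modA o ho hI
  intro _ z t
  induction z using TensorProduct.induction_on with
  | zero => simp
  | add x₁ x₂ h₁ h₂ => simp only [map_add, LinearMap.add_apply, h₁, h₂]
  | tmul b a =>
    induction t using TensorProduct.induction_on with
    | zero => simp
    | add y₁ y₂ h₁ h₂ => simp only [map_add, h₁, h₂]
    | tmul m a' =>
      rw [LinearMap.rTensor_tmul, TameAct.hmSMul_tmul, TameAct.hmSMul_tmul]
      congr 1
      exact modA_smul o ho hI b m

variable [Comod k A M] [TameAct.IsHopfMod k A R M]

/-- Fundamental theorem of Hopf modules for an `(R, A)`-module supported on a free orbit `R ↠ A`. -/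
theorem main (o : R →ₐ[k] A) (ho : Function.Surjective o)
    (heq : ∀ r : R, CoalgebraStruct.comul (R := k) (o r) =
      LinearMap.rTensor A o.toLinearMap (Comod.coact (k := k) (A := A) r))
    (hI : ∀ r : R, o r = 0 → ∀ m : M, r • m = 0)
    (ι : Type u) (v : ι → M) (hli : LinearIndependent k v)
    (hsp : Submodule.span k (Set.range v) = HopfRep.fixedPts k A M) :
    (∀ (s : Finset ι) (c : ι → R), ∑ i ∈ s, c i • v i = 0 → ∀ i ∈ s, o (c i) = 0) ∧
      Submodule.span R (Set.range v) = ⊤ ∧ (Module.Finite R M → Finite ι) := by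
  letI := modA o ho hI
  haveI hst : IsScalarTower k A M := ⟨fun c a m => by
    obtain ⟨r, rfl⟩ := ho a
    rw [← map_smul, modA_smul o ho hI, modA_smul o ho hI, smul_assoc]⟩
  haveI : TameAct.IsHopfMod k A A M := ⟨fun a m => by
    obtain ⟨r, rfl⟩ := ho a
    rw [modA_smul o ho hI, TameAct.IsHopfMod.coact_smul (k := k) (A := A) r m]
    change _ = TameAct.hmSMul k A A M (CoalgebraStruct.comul (R := k) (o r)) _
    rw [heq, hmSMul_rTensor o ho hI]⟩
  obtain ⟨h1, h2⟩ := Groth.Agent.S13255.result k A M ι v hli hsp
  have hRA : ∀ (N : Submodule A M) (w : Set M), w ⊆ N → ∀ m ∈ Submodule.span R w, m ∈ N := by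
    intro N w hw m hm
    induction hm using Submodule.span_induction with
    | mem x hx => exact hw hx
    | zero => exact N.zero_mem
    | add x y _ _ hx hy => exact N.add_mem hx hy
    | smul r x _ hx =>
      rw [← modA_smul o ho hI]
      exact N.smul_mem _ hx
  refine ⟨?_, ?_, ?_⟩
  rotate_left 2
  · intro hfin
    obtain ⟨w, hw⟩ := hfin.fg_top
    haveI : Nontrivial A := by
      refine ⟨⟨0, 1, fun h => ?_⟩⟩
      have := congrArg (CoalgebraStruct.counit (R := k) (A := A)) h
      rw [map_zero, Bialgebra.counit_one] at this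
      exact zero_ne_one this
    have hw' : Submodule.span A (w : Set M) = ⊤ := by
      rw [eq_top_iff]
      intro m _
      exact hRA _ _ Submodule.subset_span m (by rw [hw]; trivial)
    exact basis_finite_of_finite_spans w.finite_toSet hw' (Module.Basis.mk h1 h2.ge)
  · intro s c hc i hi
    rw [linearIndependent_iff'] at h1
    refine h1 s (fun j => o (c j)) ?_ i hi
    rw [← hc]
    exact Finset.sum_congr rfl fun j _ => modA_smul o ho hI (c j) (v j)
  · rw [eq_top_iff]
    intro m _
    have hm : m ∈ Submodule.span A (Set.range v) := by rw [h2]; trivial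
    induction hm using Submodule.span_induction with
    | mem x hx => exact Submodule.subset_span hx
    | zero => exact Submodule.zero_mem _
    | add x y _ _ hx hy => exact Submodule.add_mem _ (hx trivial) (hy trivial)
    | smul a x _ hx =>
      obtain ⟨r, rfl⟩ := ho a
      rw [modA_smul o ho hI]
      exact Submodule.smul_mem _ _ (hx trivial)

end

end Groth.Agent.Helper7.HopfModT
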