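import Mathlib
import Groth.Prelude.Def_GLin
import Groth.Prelude.Def_W4c1tameactTame
import Groth.Agent.Helper7.ComodA
import Groth.Agent.Helper7.ComodB
import Groth.Agent.Helper7.ComodC
import Groth.Agent.Helper7.ComodF
import Groth.Agent.Helper7.HopfModQ
import Groth.Agent.Helper7.HopfModT
import Groth.Agent.Helper7.ColonStable
import Groth.Agent.Helper6.HopfRey
import Groth.Agent.Helper9.Orbit
import Groth.Agent.Helper9.LRss
import Groth.Agent.Helper8.InvNoeth
import Groth.Agent.S13254

set_option autoImplicit false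
set_option linter.unusedSectionVars false
universe u

namespace Groth.Agent.Helper7.FreeOrbit

open TensorProduct HopfRep Groth.Agent.Helper7.Comodule Groth.Agent.Helper7.HopfModQ

variable {k : Type u} [Field k] {A : Type u} [CommRing A] [HopfAlgebra k A]
  {R : Type u} [CommRing R] [Algebra k R] [Comod k A R] [GLin.IsCoactAlg k A R]

/-- powers of stable ideals are stable -/
lemma isSubcomod_pow (I : Ideal R) (hI : IsSubcomod (k := k) (A := A) (I.restrictScalars k))
    (n : ℕ) : IsSubcomod (k := k) (A := A) ((I ^ n).restrictScalars k) := by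
  intro y hy
  change ρ k A R y ∈ _
  rw [ColonStable.range_eq_map]
  have hle : I ≤ Ideal.comap (GLin.coactAlgHom k A R)
      (I.map (Algebra.TensorProduct.includeLeft : R →ₐ[k] R ⊗[k] A)) := by
    intro i hi
    rw [Ideal.mem_comap, GLin.coactAlgHom_apply, ← ColonStable.range_eq_map]
    exact hI i hi
  have h2 : I ^ n ≤ Ideal.comap (GLin.coactAlgHom k A R)
      ((I ^ n).map (Algebra.TensorProduct.includeLeft : R →ₐ[k] R ⊗[k] A)) := by
    rw [Ideal.map_pow]
    exact (Ideal.pow_right_mono hle n).trans (Ideal.le_comap_pow _ n)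
  exact h2 hy

/-- the orbit map is equivariant -/
lemma comul_orbitHom (x : R →ₐ[k] k) (r : R) :
    CoalgebraStruct.comul (R := k) (GLin.orbitHom k A x r) =
      LinearMap.rTensor A (GLin.orbitHom k A x).toLinearMap (Comod.coact (k := k) (A := A) r) := by
  have h := LinearMap.congr_fun (phi_isComodHom (C := A) (V := R) x.toLinearMap) r
  exact h

/-- the projection from the (scalar-restricted) ideal onto its cotangent module -/
noncomputable def cotProj (I : Ideal R) : ↥(I.restrictScalars k) →ₗ[R] I.Cotangent :=
  I.toCotangent ∘ₗ (Submodule.restrictScalarsEquiv k R R I).toLinearMap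

lemma cotProj_apply (I : Ideal R) (y : ↥(I.restrictScalars k)) :
    cotProj (k := k) I y = I.toCotangent ⟨y.1, y.2⟩ := rfl

lemma cotProj_surjective (I : Ideal R) : Function.Surjective (cotProj (k := k) I) := by
  intro c
  obtain ⟨y, rfl⟩ := I.toCotangent_surjective c
  exact ⟨⟨y.1, y.2⟩, rfl⟩

lemma isSubcomod_ker_cotProj (I : Ideal R)
    (hI : IsSubcomod (k := k) (A := A) (I.restrictScalars k)) :
    letI := subComod (I.restrictScalars k) hI
    IsSubcomod (k := k) (A := A) (LinearMap.ker ((cotProj (k := k) I).restrictScalars k)) := by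
  letI := subComod (I.restrictScalars k) hI
  refine isSubcomod_of_act_mem fun g y hy => ?_
  rw [LinearMap.mem_ker] at hy ⊢
  change cotProj (k := k) I y = 0 at hy
  change cotProj (k := k) I (act g y) = 0
  rw [cotProj_apply, Ideal.toCotangent_eq_zero] at hy ⊢
  change ((act g y : ↥(I.restrictScalars k)) : R) ∈ I ^ 2
  rw [val_act_sub (I.restrictScalars k) hI g y]
  exact act_mem_of_isSubcomod (isSubcomod_pow I hI 2) g hy

/-- invariant generators of the ideal of a free closed orbit whose classes form a basis of the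
conormal module -/
theorem exists_cot_basis (hred : IsLinearlyReductive k A) [IsNoetherianRing R]
    (x : R →ₐ[k] k) (hx : Function.Surjective (GLin.orbitHom k A x))
    (I : Ideal R) (hIdef : I = RingHom.ker (GLin.orbitHom k A x)) :
    ∃ (r : ℕ) (f : Fin r → R) (hfI : ∀ i, f i ∈ I), (∀ i, f i ∈ GLin.invariants k A R) ∧
      (∀ c : Fin r → R, ∑ i, c i • I.toCotangent ⟨f i, hfI i⟩ = 0 → ∀ i, c i ∈ I) ∧
      Submodule.span R (Set.range fun i => I.toCotangent ⟨f i, hfI i⟩) = ⊤ := by
  classical
  have hI : IsSubcomod (k := k) (A := A) (I.restrictScalars k) := by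
    rw [hIdef]; exact Groth.Agent.Helper9.isSubcomod_ker_orbitHom x
  letI cS := subComod (I.restrictScalars k) hI
  haveI hmS : TameAct.IsHopfMod k A R ↥(I.restrictScalars k) := isHopfMod_sub (M := R) I hI
  have hsurj := cotProj_surjective (k := k) I
  have hker := isSubcomod_ker_cotProj I hI
  letI cC : Comod k A I.Cotangent := surjComod ((cotProj (k := k) I).restrictScalars k) hsurj hker
  haveI hmC : TameAct.IsHopfMod k A R I.Cotangent := isHopfMod_surj (cotProj (k := k) I) hsurj hker
  have hπ : Hoch.IsComodHom A ((cotProj (k := k) I).restrictScalars k) :=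
    surj_isComodHom ((cotProj (k := k) I).restrictScalars k) hsurj hker
  -- a basis of the invariants of the conormal module
  let F : Submodule k I.Cotangent := HopfRep.fixedPts k A I.Cotangent
  let b := Module.Free.chooseBasis k F
  let v : Module.Free.ChooseBasisIndex k F → I.Cotangent := fun i => (b i : I.Cotangent)
  have hli : LinearIndependent k v :=
    b.linearIndependent.map' F.subtype (Submodule.ker_subtype F)
  have hsp : Submodule.span k (Set.range v) = HopfRep.fixedPts k A I.Cotangent := by
    rw [show v = F.subtype ∘ b from rfl, Set.range_comp, ← Submodule.map_span, b.span_eq,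
      Submodule.map_top, Submodule.range_subtype]
  have hkill : ∀ r : R, GLin.orbitHom k A x r = 0 → ∀ m : I.Cotangent, r • m = 0 := fun r hr m =>
    Ideal.Cotangent.smul_eq_zero_of_mem (by rw [hIdef]; exact hr) m
  obtain ⟨h1, h2, h3⟩ := HopfModT.main (GLin.orbitHom k A x) hx (comul_orbitHom x) hkill _ v hli hsp
  haveI : Finite (Module.Free.ChooseBasisIndex k F) :=
    h3 (Module.Finite.of_surjective I.toCotangent I.toCotangent_surjective)
  -- lift the invariants
  have hssS : HopfRep.IsSemisimpleComod k A ↥(I.restrictScalars k) :=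
    Groth.Agent.Helper9.semisimple_of_finite (fun V' _ _ _ hf => hred V' hf)
  have hssC : HopfRep.IsSemisimpleComod k A I.Cotangent :=
    Groth.Agent.Helper9.semisimple_of_finite (fun V' _ _ _ hf => hred V' hf)
  obtain ⟨ES, hES1, hES2, hES3⟩ := Groth.Agent.Helper9.exists_reynolds hssS
  obtain ⟨EC, hEC1, hEC2, hEC3⟩ := Groth.Agent.Helper9.exists_reynolds hssC
  have hlift : ∀ i, ∃ g : R, ∃ hg : g ∈ I, g ∈ GLin.invariants k A R ∧
      I.toCotangent ⟨g, hg⟩ = v i := by
    intro i
    obtain ⟨y, hy⟩ := hsurj (v i)
    have hcomm := Groth.Agent.Helper9.reynolds_comm hssS ES hES1 hES2 hES3 EC hEC1 hEC2 hEC3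
      ((cotProj (k := k) I).restrictScalars k) hπ y
    have hvi : EC (v i) = v i := (hEC3 _).2 (b i).2
    refine ⟨(ES y).1, (ES y).2, ?_, ?_⟩
    · have hfix : ES y ∈ HopfRep.fixedPts k A ↥(I.restrictScalars k) := (hES3 _).1 (hES2 y)
      exact Groth.Agent.Helper9.map_mem_fixedPts (subtype_isComodHom (I.restrictScalars k) hI) hfix
    · change cotProj (k := k) I (ES y) = v i
      have : ((cotProj (k := k) I).restrictScalars k) y = v i := hy
      rw [this, hvi] at hcomm
      exact hcomm.symm
  choose g hgI hginv hgv using hlift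
  let e := Finite.equivFin (Module.Free.ChooseBasisIndex k F)
  refine ⟨_, fun i => g (e.symm i), fun i => hgI _, fun i => hginv _, ?_, ?_⟩
  · intro c hc i
    haveI := Fintype.ofFinite (Module.Free.ChooseBasisIndex k F)
    have hc' : ∑ j, c (e j) • v j = 0 := by
      rw [← hc, ← Equiv.sum_comp e]
      refine Finset.sum_congr rfl fun j _ => ?_
      rw [hgv]
      simp
    have := h1 Finset.univ (fun j => c (e j)) hc' (e.symm i) (Finset.mem_univ _)
    rw [Equiv.apply_symm_apply] at this
    rw [hIdef]
    exact this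
  · have : (fun i => I.toCotangent ⟨g (e.symm i), hgI _⟩) = v ∘ e.symm := by
      funext i
      exact hgv _
    rw [this, e.symm.surjective.range_comp]
    exact h2

open Pointwise in
/-- invariant étale-slice coordinates along a free closed orbit -/
theorem main (hred : IsLinearlyReductive k A) [IsNoetherianRing R]
    (x : R →ₐ[k] k) (hx : Function.Surjective (GLin.orbitHom k A x))
    (I : Ideal R) (hI : I = RingHom.ker (GLin.orbitHom k A x)) :
    ∃ (r : ℕ) (f : Fin r → GLin.invariants k A R) (hf : ∀ i, (f i : R) ∈ I)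
      (b : GLin.invariants k A R),
      LinearIndependent (R ⧸ I) (fun i => I.toCotangent ⟨(f i : R), hf i⟩) ∧
      Submodule.span (R ⧸ I) (Set.range fun i => I.toCotangent ⟨(f i : R), hf i⟩) = ⊤ ∧
      IsUnit (Ideal.Quotient.mk I (b : R)) ∧
      I.map (algebraMap R (Localization.Away (b : R))) =
        Ideal.span (Set.range fun i => algebraMap R (Localization.Away (b : R)) (f i : R)) ∧
      ∀ l : ℕ,
        ((Ideal.comap (GLin.invariants k A R).val I) ^ l).map
            (algebraMap (GLin.invariants k A R) (Localization.Away b)) =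
          ((Ideal.span (Set.range f)) ^ l).map
            (algebraMap (GLin.invariants k A R) (Localization.Away b)) := by
  classical
  obtain ⟨r, f0, hf0I, hf0inv, hind, hspan⟩ := exists_cot_basis hred x hx I hI
  have hIsub : IsSubcomod (k := k) (A := A) (I.restrictScalars k) := by
    rw [hI]; exact Groth.Agent.Helper9.isSubcomod_ker_orbitHom x
  -- Nakayama
  have hJI : Ideal.span (Set.range f0) ≤ I :=
    Ideal.span_le.2 (by rintro _ ⟨i, rfl⟩; exact hf0I i)
  have hIJ : I ≤ Ideal.span (Set.range f0) ⊔ I • I := by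
    intro y hy
    have hmem : I.toCotangent ⟨y, hy⟩ ∈
        Submodule.span R (Set.range fun i => I.toCotangent ⟨f0 i, hf0I i⟩) := by
      rw [hspan]; trivial
    rw [Submodule.mem_span_range_iff_exists_fun] at hmem
    obtain ⟨c, hc⟩ := hmem
    have h2 : I.toCotangent (∑ i, c i • (⟨f0 i, hf0I i⟩ : I)) = I.toCotangent ⟨y, hy⟩ := by
      rw [map_sum, ← hc]
      exact Finset.sum_congr rfl fun i _ => map_smul _ _ _
    rw [Ideal.toCotangent_eq] at h2
    have h3 : y = ∑ i, c i * f0 i - ((∑ i, c i • (⟨f0 i, hf0I i⟩ : I) : I) - (⟨y, hy⟩ : I) : R) := by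
      simp
    rw [h3]
    refine Submodule.sub_mem _ (Submodule.mem_sup_left ?_) (Submodule.mem_sup_right ?_)
    · exact Ideal.sum_mem _ fun i _ => Ideal.mul_mem_left _ _ (Ideal.subset_span ⟨i, rfl⟩)
    · rw [smul_eq_mul, ← pow_two]
      exact h2
  obtain ⟨b0, hb01, hb02⟩ := Submodule.exists_sub_one_mem_and_smul_le_of_fg_of_le_sup
    (I := I) (N := Ideal.span (Set.range f0)) (N' := I) (P := I)
    (IsNoetherian.noetherian I) le_rfl hIJ
  obtain ⟨b, hbinv, hb1, hb2⟩ := Groth.Agent.S13254.result k A hred R I hIsub r f0 hf0I hf0inv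
    ⟨b0, hb01, fun y hy => hb02 (Submodule.smul_mem_pointwise_smul y b0 I hy)⟩
  refine ⟨r, fun i => ⟨f0 i, hf0inv i⟩, hf0I, ⟨b, hbinv⟩, ?_, ?_, ?_, ?_, ?_⟩
  · -- linear independence over R ⧸ I
    rw [Fintype.linearIndependent_iff]
    intro g hg i
    have hc : ∀ j, ∃ c : R, Ideal.Quotient.mk I c = g j := fun j => Ideal.Quotient.mk_surjective _
    choose c hc using hc
    have hsum : ∑ j, c j • I.toCotangent ⟨f0 j, hf0I j⟩ = 0 := by
      rw [← hg]
      refine Finset.sum_congr rfl fun j _ => ?_
      rw [← hc j]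
      exact (algebraMap_smul (R ⧸ I) (c j) _).symm
    have := hind c hsum i
    rw [← hc i]
    exact Ideal.Quotient.eq_zero_iff_mem.2 this
  · rw [eq_top_iff]
    intro m _
    have hm : m ∈ Submodule.span R (Set.range fun i => I.toCotangent ⟨f0 i, hf0I i⟩) := by
      rw [hspan]; trivial
    exact Submodule.span_le_restrictScalars R (R ⧸ I) _ hm
  · have : Ideal.Quotient.mk I b = 1 := by
      rw [← map_one (Ideal.Quotient.mk I)]
      exact Ideal.Quotient.eq.2 hb1
    rw [this]
    exact isUnit_one
  · -- I and J agree after inverting b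
    have hbu : IsUnit (algebraMap R (Localization.Away b) b) :=
      IsLocalization.Away.algebraMap_isUnit b
    apply le_antisymm
    · rw [Ideal.map_le_iff_le_comap]
      intro y hy
      rw [Ideal.mem_comap]
      have h1 : algebraMap R (Localization.Away b) (b * y) ∈
          Ideal.span (Set.range fun i => algebraMap R (Localization.Away b) (f0 i)) := by
        have := Ideal.mem_map_of_mem (algebraMap R (Localization.Away b)) (hb2 y hy)
        rwa [Ideal.map_span, ← Set.range_comp] at this
      rw [map_mul] at h1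
      exact (Ideal.unit_mul_mem_iff_mem _ hbu).1 h1
    · refine Ideal.span_le.2 ?_
      rintro _ ⟨i, rfl⟩
      exact Ideal.mem_map_of_mem _ (hf0I i)
  · intro l
    have hbu : IsUnit (algebraMap (GLin.invariants k A R)
        (Localization.Away (⟨b, hbinv⟩ : GLin.invariants k A R)) ⟨b, hbinv⟩) :=
      IsLocalization.Away.algebraMap_isUnit _
    have hFm : Ideal.span (Set.range fun i => (⟨f0 i, hf0inv i⟩ : GLin.invariants k A R)) ≤
        Ideal.comap (GLin.invariants k A R).val I :=
      Ideal.span_le.2 (by rintro _ ⟨i, rfl⟩; exact hf0I i)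
    apply le_antisymm
    · rw [Ideal.map_le_iff_le_comap]
      intro z hz
      rw [Ideal.mem_comap]
      have hkey : (⟨b, hbinv⟩ : GLin.invariants k A R) ^ l * z ∈
          (Ideal.span (Set.range fun i => (⟨f0 i, hf0inv i⟩ : GLin.invariants k A R))) ^ l := by
        rw [← Groth.Agent.Helper8.InvNoeth.comap_map k A hred R
          ((Ideal.span (Set.range fun i => (⟨f0 i, hf0inv i⟩ : GLin.invariants k A R))) ^ l),
          Ideal.mem_comap, Ideal.map_pow, Ideal.map_span, ← Set.range_comp]
        have hz' : (z : R) ∈ I ^ l := (Ideal.le_comap_pow _ l) hz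
        have hbI : Ideal.span {b} * I ≤ Ideal.span (Set.range f0) := by
          rw [Ideal.span_singleton_mul_le_iff]
          exact hb2
        have h3 := Ideal.pow_right_mono hbI l
        rw [mul_pow, Ideal.span_singleton_pow] at h3
        have h4 : b ^ l * (z : R) ∈ Ideal.span {b ^ l} * I ^ l :=
          Ideal.mul_mem_mul (Ideal.mem_span_singleton_self _) hz'
        exact h3 h4
      have h5 := Ideal.mem_map_of_mem (algebraMap (GLin.invariants k A R)
        (Localization.Away (⟨b, hbinv⟩ : GLin.invariants k A R))) hkey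
      rw [map_mul, map_pow] at h5
      exact (Ideal.unit_mul_mem_iff_mem _ (hbu.pow l)).1 h5
    · exact Ideal.map_mono (Ideal.pow_right_mono hFm l)

end Groth.Agent.Helper7.FreeOrbit
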