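import Mathlib
import Groth.Agent.Helper7.FreeOrbit
import Groth.Agent.Helper7.ColonStableM
import Groth.Agent.Helper8.LunaAdic

set_option autoImplicit false
set_option linter.unusedSectionVars false
universe u

namespace Groth.Agent.Helper7.FreeDescA

open TensorProduct HopfRep Groth.Agent.Helper7.Comodule Groth.Agent.Helper7.HopfModQ

variable {k : Type u} [Field k] {A : Type u} [CommRing A] [HopfAlgebra k A]
  {R : Type u} [CommRing R] [Algebra k R] [Comod k A R] [GLin.IsCoactAlg k A R]
  {M : Type u} [AddCommGroup M] [Module k M] [Module R M] [IsScalarTower k R M]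
  [Comod k A M] [TameAct.IsHopfMod k A R M]

/-- invariant elements of `M` whose classes form a basis of the fibre `M / I M` over the orbit -/
theorem exists_fibre_basis (hred : IsLinearlyReductive k A) [Module.Finite R M]
    (x : R →ₐ[k] k) (hx : Function.Surjective (GLin.orbitHom k A x))
    (I : Ideal R) (hIdef : I = RingHom.ker (GLin.orbitHom k A x)) :
    ∃ (d : ℕ) (n : Fin d → M), (∀ i, n i ∈ HopfRep.fixedPts k A M) ∧
      (∀ c : Fin d → R, ∑ i, c i • n i ∈ I • (⊤ : Submodule R M) → ∀ i, c i ∈ I) ∧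
      (⊤ : Submodule R M) ≤ Submodule.span R (Set.range n) ⊔ I • ⊤ := by
  classical
  have hI : IsSubcomod (k := k) (A := A) (I.restrictScalars k) := by
    rw [hIdef]; exact Groth.Agent.Helper9.isSubcomod_ker_orbitHom x
  have hIM := ColonStableM.isSubcomod_smul_top (M := M) I hI
  let π : M →ₗ[R] (M ⧸ (I • ⊤ : Submodule R M)) := (I • ⊤ : Submodule R M).mkQ
  have hsurj : Function.Surjective π := Submodule.mkQ_surjective _
  have hkerπ : ∀ m : M, π m = 0 ↔ m ∈ (I • ⊤ : Submodule R M) := fun m =>
    Submodule.Quotient.mk_eq_zero _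
  have hker : IsSubcomod (k := k) (A := A) (LinearMap.ker (π.restrictScalars k)) := by
    have : LinearMap.ker (π.restrictScalars k) = (I • ⊤ : Submodule R M).restrictScalars k := by
      ext m
      rw [LinearMap.mem_ker, Submodule.restrictScalars_mem]
      exact hkerπ m
    rw [this]
    exact hIM
  letI cQ : Comod k A (M ⧸ (I • ⊤ : Submodule R M)) :=
    surjComod (π.restrictScalars k) hsurj hker
  haveI hmQ : TameAct.IsHopfMod k A R (M ⧸ (I • ⊤ : Submodule R M)) :=
    isHopfMod_surj π hsurj hker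
  have hπ : Hoch.IsComodHom A (π.restrictScalars k) :=
    surj_isComodHom (π.restrictScalars k) hsurj hker
  -- a basis of the invariants of the fibre
  let F : Submodule k (M ⧸ (I • ⊤ : Submodule R M)) :=
    HopfRep.fixedPts k A (M ⧸ (I • ⊤ : Submodule R M))
  let b := Module.Free.chooseBasis k F
  let v : Module.Free.ChooseBasisIndex k F → (M ⧸ (I • ⊤ : Submodule R M)) :=
    fun i => (b i : M ⧸ (I • ⊤ : Submodule R M))
  have hli : LinearIndependent k v :=
    b.linearIndependent.map' F.subtype (Submodule.ker_subtype F)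
  have hsp : Submodule.span k (Set.range v) =
      HopfRep.fixedPts k A (M ⧸ (I • ⊤ : Submodule R M)) := by
    rw [show v = F.subtype ∘ b from rfl, Set.range_comp, ← Submodule.map_span, b.span_eq,
      Submodule.map_top, Submodule.range_subtype]
  have hkill : ∀ r : R, GLin.orbitHom k A x r = 0 →
      ∀ q : M ⧸ (I • ⊤ : Submodule R M), r • q = 0 := by
    intro r hr q
    obtain ⟨m, rfl⟩ := hsurj q
    rw [← map_smul, hkerπ]
    exact Submodule.smul_mem_smul (by rw [hIdef]; exact hr) trivial
  obtain ⟨h1, h2, h3⟩ := HopfModT.main (GLin.orbitHom k A x) hx (FreeOrbit.comul_orbitHom x)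
    hkill _ v hli hsp
  haveI : Finite (Module.Free.ChooseBasisIndex k F) :=
    h3 (Module.Finite.of_surjective π hsurj)
  -- lift the invariants
  have hssM : HopfRep.IsSemisimpleComod k A M :=
    Groth.Agent.Helper9.semisimple_of_finite (fun V' _ _ _ hf => hred V' hf)
  have hssQ : HopfRep.IsSemisimpleComod k A (M ⧸ (I • ⊤ : Submodule R M)) :=
    Groth.Agent.Helper9.semisimple_of_finite (fun V' _ _ _ hf => hred V' hf)
  obtain ⟨EM, hEM1, hEM2, hEM3⟩ := Groth.Agent.Helper9.exists_reynolds hssM
  obtain ⟨EQ, hEQ1, hEQ2, hEQ3⟩ := Groth.Agent.Helper9.exists_reynolds hssQ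
  have hlift : ∀ i, ∃ g : M, g ∈ HopfRep.fixedPts k A M ∧ π g = v i := by
    intro i
    obtain ⟨y, hy⟩ := hsurj (v i)
    have hcomm := Groth.Agent.Helper9.reynolds_comm hssM EM hEM1 hEM2 hEM3 EQ hEQ1 hEQ2 hEQ3
      (π.restrictScalars k) hπ y
    have hvi : EQ (v i) = v i := (hEQ3 _).2 (b i).2
    refine ⟨EM y, (hEM3 _).1 (hEM2 y), ?_⟩
    have : (π.restrictScalars k) y = v i := hy
    rw [this, hvi] at hcomm
    exact hcomm.symm
  choose g hginv hgv using hlift
  let e := Finite.equivFin (Module.Free.ChooseBasisIndex k F)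
  haveI := Fintype.ofFinite (Module.Free.ChooseBasisIndex k F)
  refine ⟨_, fun i => g (e.symm i), fun i => hginv _, ?_, ?_⟩
  · intro c hc i
    have hc' : ∑ j, c (e j) • v j = 0 := by
      have h0 : π (∑ i, c i • g (e.symm i)) = 0 := (hkerπ _).2 hc
      rw [← h0, map_sum, ← Equiv.sum_comp e]
      refine Finset.sum_congr rfl fun j _ => ?_
      rw [map_smul, Equiv.symm_apply_apply, hgv]
    have := h1 Finset.univ (fun j => c (e j)) hc' (e.symm i) (Finset.mem_univ _)
    rw [Equiv.apply_symm_apply] at this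
    rw [hIdef]
    exact this
  · intro m _
    have hm : π m ∈ Submodule.span R (Set.range v) := by rw [h2]; trivial
    rw [Submodule.mem_span_range_iff_exists_fun] at hm
    obtain ⟨c, hc⟩ := hm
    have hdiff : m - ∑ j, c j • g j ∈ (I • ⊤ : Submodule R M) := by
      rw [← hkerπ, map_sub, map_sum, ← hc, sub_eq_zero]
      refine Finset.sum_congr rfl fun j _ => ?_
      rw [map_smul, hgv]
    have : m = ∑ j, c j • g j + (m - ∑ j, c j • g j) := by abel
    rw [this]
    refine Submodule.add_mem _ (Submodule.mem_sup_left ?_) (Submodule.mem_sup_right hdiff)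
    refine Submodule.sum_mem _ fun j _ => Submodule.smul_mem _ _ (Submodule.subset_span ?_)
    exact ⟨e j, by simp⟩

/-- an invariant element of `1 + I` multiplying `M` into a stable submodule `F` with `M = F + I M` -/
theorem exists_invariant_mul (hred : IsLinearlyReductive k A) [Module.Finite R M]
    (I : Ideal R) (hI : IsSubcomod (k := k) (A := A) (I.restrictScalars k))
    (F : Submodule R M) (hF : IsSubcomod (k := k) (A := A) (F.restrictScalars k))
    (h : (⊤ : Submodule R M) ≤ F ⊔ I • ⊤) :
    ∃ b ∈ GLin.invariants k A R, b - 1 ∈ I ∧ ∀ m : M, b • m ∈ F := by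
  obtain ⟨b0, hb01, hb02⟩ := Submodule.exists_sub_one_mem_and_smul_le_of_fg_of_le_sup
    (I := I) (N := F) (N' := ⊤) (P := ⊤) (Module.Finite.fg_top) le_rfl h
  have hss : HopfRep.IsSemisimpleComod k A R :=
    Groth.Agent.Helper9.semisimple_of_finite (fun V' _ _ _ hf => hred V' hf)
  obtain ⟨E, hE₁, hE₂, hE₃, hE₄⟩ := Groth.Agent.Helper8.InvNoeth.exists_reynolds k A hred R
  have hcol := ColonStableM.isSubcomod_colon_top F hF
  have hE1 : E 1 = 1 := (hE₃ 1).2 (one_mem (GLin.invariants k A R))
  refine ⟨E b0, (hE₃ _).1 (hE₂ b0), ?_, ?_⟩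
  · have h := Groth.Agent.Helper8.LunaAdic.reynolds_mem k A R hss E hE₁ hE₂ hE₃
      (I.restrictScalars k) hI (b0 - 1) hb01
    rwa [map_sub, hE1] at h
  · have hbc : b0 ∈ F.colon (⊤ : Submodule R M) := by
      rw [Submodule.mem_colon]
      intro y _
      exact hb02 (Submodule.smul_mem_pointwise_smul y b0 ⊤ trivial)
    have h := Groth.Agent.Helper8.LunaAdic.reynolds_mem k A R hss E hE₁ hE₂ hE₃
      ((F.colon (⊤ : Submodule R M)).restrictScalars k) hcol b0 hbc
    rw [Submodule.restrictScalars_mem, Submodule.mem_colon] at h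
    intro y
    exact h y trivial

lemma counit_orbitHom' (x : R →ₐ[k] k) (r : R) :
    Bialgebra.counitAlgHom k A (GLin.orbitHom k A x r) = x r :=
  counit_phi (C := A) (V := R) x.toLinearMap r

/-- the algebraic core: a projective module over a domain generated up to `b` by `d` elements
which are independent modulo `I` is trivialised by them -/
theorem exists_kappa [IsNoetherianRing R] [IsDomain R] [Module.Projective R M]
    (x : R →ₐ[k] k) (I : Ideal R) (hxI : ∀ y ∈ I, x y = 0)
    (d : ℕ) (n : Fin d → M)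
    (hrel : ∀ c : Fin d → R, ∑ i, c i • n i ∈ I • (⊤ : Submodule R M) → ∀ i, c i ∈ I)
    (b : R) (hxb : x b = 1) (hbF : ∀ m : M, b • m ∈ Submodule.span R (Set.range n)) :
    ∃ κ : M →ₗ[R] (Fin d → R), (∀ m, ∑ i, κ m i • n i = b • m) ∧
      (∀ i i', κ (n i') i = if i = i' then b else 0) := by
  classical
  let π : (Fin d → R) →ₗ[R] M := Fintype.linearCombination R n
  have hπ : ∀ c, π c = ∑ i, c i • n i := Fintype.linearCombination_apply R n
  have hrange : LinearMap.range π = Submodule.span R (Set.range n) :=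
    Fintype.range_linearCombination R n
  obtain ⟨κ, hκ⟩ := Module.projective_lifting_property π.rangeRestrict
    ((b • (LinearMap.id : M →ₗ[R] M)).codRestrict (LinearMap.range π)
      (fun m => by rw [hrange]; exact hbF m))
    π.surjective_rangeRestrict
  have hκ' : ∀ m, π (κ m) = b • m := by
    intro m
    have := congrArg Subtype.val (LinearMap.congr_fun hκ m)
    exact this
  -- the kernel vanishes
  let T : (Fin d → R) →ₗ[R] (Fin d → R) := b • LinearMap.id - κ ∘ₗ π
  have hTker : ∀ c, T c ∈ LinearMap.ker π := by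
    intro c
    rw [LinearMap.mem_ker]
    change π (b • c - κ (π c)) = 0
    rw [map_sub, hκ', map_smul, sub_self]
  have hK1 : ∀ c ∈ LinearMap.ker π, ∀ i, c i ∈ I := by
    intro c hc
    apply hrel
    rw [← hπ, LinearMap.mem_ker.1 hc]
    exact zero_mem _
  have hK2 : ∀ c ∈ LinearMap.ker π, b • c ∈ I • LinearMap.ker π := by
    intro c hc
    have h1 : b • c = T c := by
      change b • c = b • c - κ (π c)
      rw [LinearMap.mem_ker.1 hc, map_zero, sub_zero]
    rw [h1, LinearMap.pi_apply_eq_sum_univ T c]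
    exact Submodule.sum_mem _ fun i _ => Submodule.smul_mem_smul (hK1 c hc i) (hTker _)
  have hK3 : LinearMap.ker π ≤ (I ⊔ Ideal.span {1 - b}) • LinearMap.ker π := by
    intro c hc
    have : c = b • c + (1 - b) • c := by rw [← add_smul]; simp
    rw [this]
    refine Submodule.add_mem _ (Submodule.smul_mono_left le_sup_left (hK2 c hc)) ?_
    exact Submodule.smul_mem_smul
      (Submodule.mem_sup_right (Ideal.mem_span_singleton_self _)) hc
  obtain ⟨r, hr1, hr2⟩ := Submodule.exists_sub_one_mem_and_smul_eq_zero_of_fg_of_le_smul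
    (I ⊔ Ideal.span {1 - b}) (LinearMap.ker π) (IsNoetherian.noetherian _) hK3
  have hxr : x r = 1 := by
    have hx0 : ∀ y ∈ I ⊔ Ideal.span {1 - b}, x y = 0 := by
      intro y hy
      obtain ⟨y1, hy1, y2, hy2, rfl⟩ := Submodule.mem_sup.1 hy
      obtain ⟨z, rfl⟩ := Ideal.mem_span_singleton'.1 hy2
      rw [map_add, hxI y1 hy1, map_mul, map_sub, map_one, hxb, sub_self, mul_zero, add_zero]
    have := hx0 _ hr1
    rwa [map_sub, map_one, sub_eq_zero] at this
  have hr0 : r ≠ 0 := by
    intro h
    rw [h, map_zero] at hxr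
    exact zero_ne_one hxr
  have hker : ∀ c ∈ LinearMap.ker π, c = 0 := by
    intro c hc
    funext i
    have := congrFun (hr2 c hc) i
    rw [Pi.smul_apply, smul_eq_mul, Pi.zero_apply] at this
    exact (mul_eq_zero.1 this).resolve_left hr0
  refine ⟨κ, fun m => by rw [← hπ, hκ'], fun i i' => ?_⟩
  have h0 := hker _ (hTker (Pi.single i' 1))
  have h1 : π (Pi.single i' 1) = n i' := by
    rw [Fintype.linearCombination_apply_single, one_smul]
  have h2 : κ (n i') = b • (Pi.single i' 1 : Fin d → R) := by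
    have : b • (Pi.single i' 1 : Fin d → R) - κ (π (Pi.single i' 1)) = 0 := h0
    rw [h1, sub_eq_zero] at this
    exact this.symm
  rw [h2, Pi.smul_apply, Pi.single_apply, smul_eq_mul]
  split_ifs <;> simp

/-- local trivialisation of an equivariant projective module near a free closed orbit -/
theorem local_triv (hred : IsLinearlyReductive k A) [IsNoetherianRing R] [IsDomain R]
    [Module.Finite R M] [Module.Projective R M]
    (x : R →ₐ[k] k) (hx : Function.Surjective (GLin.orbitHom k A x)) :
    ∃ (b : R) (d : ℕ) (n : Fin d → M) (κ : M →ₗ[R] (Fin d → R)),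
      b ∈ GLin.invariants k A R ∧ x b = 1 ∧ (∀ i, n i ∈ HopfRep.fixedPts k A M) ∧
      (∀ m, ∑ i, κ m i • n i = b • m) ∧ (∀ i i', κ (n i') i = if i = i' then b else 0) := by
  obtain ⟨d, n, hninv, hrel, hgen⟩ := exists_fibre_basis (M := M) hred x hx
    (RingHom.ker (GLin.orbitHom k A x)) rfl
  have hI : IsSubcomod (k := k) (A := A)
      ((RingHom.ker (GLin.orbitHom k A x)).restrictScalars k) :=
    Groth.Agent.Helper9.isSubcomod_ker_orbitHom x
  have hF : IsSubcomod (k := k) (A := A) ((Submodule.span R (Set.range n)).restrictScalars k) :=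
    ColonStableM.isSubcomod_span_fixedPts _ (by rintro _ ⟨i, rfl⟩; exact hninv i)
  obtain ⟨b, hbinv, hb1, hbF⟩ := exists_invariant_mul hred _ hI _ hF hgen
  have hxI : ∀ y ∈ RingHom.ker (GLin.orbitHom k A x), x y = 0 := by
    intro y hy
    rw [← counit_orbitHom' (A := A) x y, RingHom.mem_ker.1 hy, map_zero]
  have hxb : x b = 1 := by
    have := hxI _ hb1
    rwa [map_sub, map_one, sub_eq_zero] at this
  obtain ⟨κ, hκ1, hκ2⟩ := exists_kappa x _ hxI d n hrel b hxb hbF
  exact ⟨b, d, n, κ, hbinv, hxb, hninv, hκ1, hκ2⟩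

end Groth.Agent.Helper7.FreeDescA
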