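import Mathlib
import Groth.Agent.Helper7.FreeDescA

set_option autoImplicit false
set_option linter.unusedSectionVars false
universe u

namespace Groth.Agent.Helper7.FreeDescB

open TensorProduct HopfRep Groth.Agent.Helper7.Comodule Groth.Agent.Helper8.LunaAdic

/-- a module is projective if multiplication by each member of a partition of unity factors
through a finite free module -/
lemma projective_of_partition {B N : Type*} [CommRing B] [AddCommGroup N] [Module B N]
    {J : Type*} [Fintype J] (b : J → B) (hb : ∑ j, b j = 1)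
    (h : ∀ j, ∃ (d : ℕ) (φ : N →ₗ[B] (Fin d → B)) (ψ : (Fin d → B) →ₗ[B] N),
      ∀ m, ψ (φ m) = b j • m) :
    Module.Projective B N := by
  classical
  choose d φ ψ hψ using h
  let i : N →ₗ[B] (Π j, Fin (d j) → B) := LinearMap.pi φ
  let s : (Π j, Fin (d j) → B) →ₗ[B] N := ∑ j, ψ j ∘ₗ LinearMap.proj j
  refine Module.Projective.of_split i s ?_
  ext m
  simp [i, s, hψ, ← Finset.sum_smul, hb]

variable (k : Type u) [Field k] (A : Type u) [CommRing A] [HopfAlgebra k A]
  (R : Type u) [CommRing R] [Algebra k R] [Comod k A R] [GLin.IsCoactAlg k A R]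
  (M : Type u) [AddCommGroup M] [Module k M] [Module R M] [IsScalarTower k R M]
  [Comod k A M] [TameAct.IsHopfMod k A R M]

/-- an invariant `b` such that `M` is trivialised by invariants after inverting `b` -/
def Good (b : R) : Prop :=
  b ∈ GLin.invariants k A R ∧ ∃ (d : ℕ) (n : Fin d → M) (κ : M →ₗ[R] (Fin d → R)),
    (∀ i, n i ∈ HopfRep.fixedPts k A M) ∧ (∀ m, ∑ i, κ m i • n i = b • m) ∧
      (∀ i i', κ (n i') i = if i = i' then b else 0)

variable {k A R M}

lemma Good.mul {b : R} (h : Good k A R M b) (a : R) (ha : a ∈ GLin.invariants k A R) :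
    Good k A R M (a * b) := by
  obtain ⟨hb, d, n, κ, hn, h1, h2⟩ := h
  refine ⟨Subalgebra.mul_mem _ ha hb, d, n, a • κ, hn, fun m => ?_, fun i i' => ?_⟩
  · rw [mul_smul, ← h1 m, Finset.smul_sum]
    refine Finset.sum_congr rfl fun i _ => ?_
    rw [LinearMap.smul_apply, Pi.smul_apply, smul_eq_mul, mul_smul]
  · rw [LinearMap.smul_apply, Pi.smul_apply, h2, smul_eq_mul]
    split_ifs <;> simp

/-- the natural map `R ⊗ M^G → M` -/
noncomputable abbrev mu :=
  TensorProduct.lift
    (((Algebra.lsmul (GLin.invariants k A R) (GLin.invariants k A R) M :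
      R →ₐ[GLin.invariants k A R] Module.End (GLin.invariants k A R) M).toLinearMap).compl₂
        (invMod k A R M).subtype)

lemma mu_tmul (r : R) (m : invMod k A R M) :
    mu (k := k) (A := A) (R := R) (M := M) (r ⊗ₜ m) = r • (m : M) := by
  rw [TensorProduct.lift.tmul]
  rfl

lemma mu_smul (a : R) (t : R ⊗[GLin.invariants k A R] (invMod k A R M)) :
    mu (k := k) (A := A) (R := R) (M := M) (a • t) = a • mu (k := k) (A := A) (R := R) (M := M) t := by
  induction t using TensorProduct.induction_on with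
  | zero => simp
  | tmul r m => rw [TensorProduct.smul_tmul', mu_tmul, mu_tmul, smul_eq_mul, mul_smul]
  | add x y hx hy => rw [smul_add, map_add, map_add, hx, hy, smul_add]

/-- the Reynolds operator as a linear retraction onto the invariants -/
theorem exists_reynolds_lin (hred : IsLinearlyReductive k A) :
    ∃ E : R →ₗ[GLin.invariants k A R] GLin.invariants k A R,
      ∀ (d : ℕ) (n : Fin d → M), (∀ i, n i ∈ HopfRep.fixedPts k A M) → ∀ c : Fin d → R,
        ∑ i, c i • n i ∈ HopfRep.fixedPts k A M →
          ∑ i, c i • n i = ∑ i, ((E (c i) : GLin.invariants k A R) : R) • n i := by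
  have hssR : HopfRep.IsSemisimpleComod k A R :=
    Groth.Agent.Helper9.semisimple_of_finite (fun V' _ _ _ hf => hred V' hf)
  have hssM : HopfRep.IsSemisimpleComod k A M :=
    Groth.Agent.Helper9.semisimple_of_finite (fun V' _ _ _ hf => hred V' hf)
  obtain ⟨E, hE₁, hE₂, hE₃, hE₄⟩ := Groth.Agent.Helper8.InvNoeth.exists_reynolds k A hred R
  obtain ⟨E', hE'₁, hE'₂, hE'₃⟩ := Groth.Agent.Helper9.exists_reynolds hssM
  refine ⟨{ toFun := fun r => ⟨E r, (hE₃ _).1 (hE₂ r)⟩
            map_add' := fun r s => Subtype.ext (map_add E r s)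
            map_smul' := fun z r => Subtype.ext (hE₄ z.1 z.2 r) }, ?_⟩
  intro d n hn c hc
  have key : ∀ i, E' (c i • n i) = E (c i) • n i := by
    intro i
    have := Groth.Agent.Helper9.reynolds_comm hssR E hE₁ hE₂ hE₃ E' hE'₁ hE'₂ hE'₃
      ((LinearMap.toSpanSingleton R M (n i)).restrictScalars k)
      (isComodHom_smul_invariant k A R M (n i) (hn i)) (c i)
    simpa using this
  have h1 : E' (∑ i, c i • n i) = ∑ i, c i • n i := (hE'₃ _).2 hc
  rw [← h1, map_sum]
  exact Finset.sum_congr rfl fun i _ => key i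

lemma Good.surj {b : R} (h : Good k A R M b) (m : M) :
    ∃ t : R ⊗[GLin.invariants k A R] (invMod k A R M),
      mu (k := k) (A := A) (R := R) (M := M) t = b • m := by
  obtain ⟨hb, d, n, κ, hn, h1, h2⟩ := h
  refine ⟨∑ i, κ m i ⊗ₜ (⟨n i, hn i⟩ : invMod k A R M), ?_⟩
  rw [map_sum, ← h1 m]
  exact Finset.sum_congr rfl fun i _ => mu_tmul _ _

/-- multiplication by a good element on `M^G` factors through a finite free module, with
coordinates compatible with the trivialisation of `M` -/
lemma Good.proj (hred : IsLinearlyReductive k A) {b : R} (h : Good k A R M b) :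
    ∃ (d : ℕ) (n : Fin d → invMod k A R M) (κ : M →ₗ[R] (Fin d → R))
      (φ : invMod k A R M →ₗ[GLin.invariants k A R] (Fin d → GLin.invariants k A R)),
      (∀ m : invMod k A R M, ∑ i, φ m i • n i = (⟨b, h.1⟩ : GLin.invariants k A R) • m) ∧
      (∀ i i', κ (n i' : M) i = if i = i' then b else 0) := by
  obtain ⟨E, hE⟩ := exists_reynolds_lin (R := R) (M := M) hred
  obtain ⟨hb, d, n, κ, hn, h1, h2⟩ := h
  refine ⟨d, fun i => ⟨n i, hn i⟩, κ,
    (E.compLeft (Fin d)) ∘ₗ (κ.restrictScalars (GLin.invariants k A R)) ∘ₗ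
      (invMod k A R M).subtype, fun m => ?_, h2⟩
  apply Subtype.ext
  have hfix : ∑ i, κ (m : M) i • n i ∈ HopfRep.fixedPts k A M := by
    rw [h1]
    exact smul_mem_fixedPts k A R M b hb _ m.2
  have := hE d n hn (κ (m : M)) hfix
  rw [h1] at this
  rw [Submodule.coe_sum, Submodule.coe_smul]
  change _ = b • (m : M)
  rw [this]
  rfl

lemma Good.inj [IsDomain R] (hred : IsLinearlyReductive k A) {b : R} (h : Good k A R M b)
    (t : R ⊗[GLin.invariants k A R] (invMod k A R M))
    (ht : mu (k := k) (A := A) (R := R) (M := M) t = 0) : b • t = 0 := by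
  classical
  obtain ⟨d, n, κ, φ, hφ, hκ⟩ := h.proj hred
  let ΦR : invMod k A R M →ₗ[GLin.invariants k A R] (Fin d → R) :=
    ((Algebra.linearMap (GLin.invariants k A R) R).compLeft (Fin d)) ∘ₗ φ
  let Θ := TensorProduct.lift
    (((Algebra.lsmul (GLin.invariants k A R) (GLin.invariants k A R) (Fin d → R) :
      R →ₐ[GLin.invariants k A R] Module.End (GLin.invariants k A R) (Fin d → R)).toLinearMap).compl₂
        ΦR)
  have hΘ : ∀ (r : R) (m : invMod k A R M) (i : Fin d),
      Θ (r ⊗ₜ m) i = r * ((φ m i : GLin.invariants k A R) : R) := by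
    intro r m i
    have h0 : Θ (r ⊗ₜ m) = r • ΦR m := TensorProduct.lift.tmul r m
    rw [h0]
    rfl
  have ha : ∀ t : R ⊗[GLin.invariants k A R] (invMod k A R M),
      b • t = ∑ i, Θ t i ⊗ₜ n i := by
    intro t
    induction t using TensorProduct.induction_on with
    | zero => simp
    | add x y hx hy =>
      rw [smul_add, hx, hy, ← Finset.sum_add_distrib]
      refine Finset.sum_congr rfl fun i _ => ?_
      rw [map_add, Pi.add_apply, TensorProduct.add_tmul]
    | tmul r m =>
      have h1 : (b • r) ⊗ₜ[GLin.invariants k A R] m =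
          r ⊗ₜ ((⟨b, h.1⟩ : GLin.invariants k A R) • m) := by
        rw [← TensorProduct.smul_tmul]
        rfl
      rw [TensorProduct.smul_tmul', h1, ← hφ m, TensorProduct.tmul_sum]
      refine Finset.sum_congr rfl fun i _ => ?_
      rw [hΘ, ← TensorProduct.smul_tmul, mul_comm]
      rfl
  have hmu : mu (k := k) (A := A) (R := R) (M := M) (b • t) = ∑ i, Θ t i • (n i : M) := by
    rw [ha t, map_sum]
    exact Finset.sum_congr rfl fun i _ => mu_tmul _ _
  rw [mu_smul, ht, smul_zero] at hmu
  have hz : ∀ i0, Θ t i0 * b = 0 := by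
    intro i0
    have h3 := congrFun (congrArg κ hmu) i0
    rw [map_zero, map_sum, Pi.zero_apply, Finset.sum_apply] at h3
    rw [h3]
    symm
    calc (∑ i, κ (Θ t i • (n i : M)) i0) = ∑ i, Θ t i * (if i0 = i then b else 0) := by
          refine Finset.sum_congr rfl fun i _ => ?_
          rw [map_smul, Pi.smul_apply, hκ, smul_eq_mul]
      _ = Θ t i0 * b := by simp
  by_cases hb0 : b = 0
  · rw [hb0, zero_smul]
  · rw [ha t]
    refine Finset.sum_eq_zero fun i _ => ?_
    rw [(mul_eq_zero.1 (hz i)).resolve_right hb0, TensorProduct.zero_tmul]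

/-- a `k`-point with prescribed maximal kernel -/
lemma exists_algHom_of_isMaximal [IsAlgClosed k] [Algebra.FiniteType k R]
    (m : Ideal R) [hm : m.IsMaximal] : ∃ g : R →ₐ[k] k, ∀ a, g a = 0 ↔ a ∈ m := by
  haveI : IsJacobsonRing R := isJacobsonRing_of_finiteType (A := k) (B := R)
  letI : Field (R ⧸ m) := Ideal.Quotient.field m
  haveI : Algebra.FiniteType k (R ⧸ m) :=
    Algebra.FiniteType.of_surjective (Ideal.Quotient.mkₐ k m) (Ideal.Quotient.mkₐ_surjective k m)
  haveI : Module.Finite k (R ⧸ m) := finite_of_finite_type_of_isJacobsonRing k (R ⧸ m)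
  have hbij : Function.Bijective (algebraMap k (R ⧸ m)) :=
    IsAlgClosed.algebraMap_bijective_of_isIntegral
  let e : k ≃ₐ[k] (R ⧸ m) := AlgEquiv.ofBijective (Algebra.ofId k (R ⧸ m)) hbij
  refine ⟨e.symm.toAlgHom.comp (Ideal.Quotient.mkₐ k m), fun a => ?_⟩
  show e.symm (Ideal.Quotient.mk m a) = 0 ↔ _
  rw [map_eq_zero_iff _ e.symm.injective, Ideal.Quotient.eq_zero_iff_mem]

/-- a partition of unity by good invariants -/
theorem exists_partition (hred : IsLinearlyReductive k A) [IsAlgClosed k] [Algebra.FiniteType k R]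
    [IsDomain R] [Module.Finite R M] [Module.Projective R M]
    (hfree : ∀ x : R →ₐ[k] k, Function.Surjective (GLin.orbitHom k A x)) :
    ∃ (J : Type u) (_ : Fintype J) (b : J → GLin.invariants k A R),
      (∀ j, Good k A R M (b j : R)) ∧ ∑ j, b j = 1 := by
  classical
  haveI : IsNoetherianRing R := Algebra.FiniteType.isNoetherianRing k R
  let S : Set (GLin.invariants k A R) := {z | Good k A R M (z : R)}
  have htop : Ideal.span S = ⊤ := by
    by_contra hne
    obtain ⟨𝔪, h𝔪, hle⟩ := Ideal.exists_le_maximal _ hne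
    have hmap : Ideal.map (GLin.invariants k A R).val.toRingHom 𝔪 ≠ ⊤ := by
      intro h
      have := Groth.Agent.Helper8.InvNoeth.comap_map k A hred R 𝔪
      rw [h, Ideal.comap_top] at this
      exact h𝔪.ne_top this.symm
    obtain ⟨P, hP, hPle⟩ := Ideal.exists_le_maximal _ hmap
    obtain ⟨x, hx⟩ := exists_algHom_of_isMaximal (k := k) P
    obtain ⟨b, d, n, κ, hbinv, hxb, hn, h1, h2⟩ :=
      FreeDescA.local_triv (M := M) hred x (hfree x)
    have hbS : (⟨b, hbinv⟩ : GLin.invariants k A R) ∈ S := ⟨hbinv, d, n, κ, hn, h1, h2⟩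
    have hbm : (⟨b, hbinv⟩ : GLin.invariants k A R) ∈ 𝔪 := hle (Ideal.subset_span hbS)
    have hbP : b ∈ P := hPle (Ideal.mem_map_of_mem (GLin.invariants k A R).val.toRingHom hbm)
    rw [← hx, hxb] at hbP
    exact one_ne_zero hbP
  have h1 : (1 : GLin.invariants k A R) ∈ Ideal.span S := by rw [htop]; trivial
  obtain ⟨l, hl⟩ := (Finsupp.mem_span_iff_linearCombination (GLin.invariants k A R) S 1).1 h1
  refine ⟨↥l.support, inferInstance, fun j => l j * ((j : S) : GLin.invariants k A R),
    fun j => ?_, ?_⟩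
  · exact Good.mul (j : S).2 (l j) (l j).2
  · rw [← hl, Finsupp.linearCombination_apply, Finsupp.sum]
    exact Finset.sum_coe_sort l.support (fun a => l a * (a : GLin.invariants k A R))

/-- descent along a free action of a linearly reductive group -/
theorem main (hred : IsLinearlyReductive k A) [IsAlgClosed k] [Algebra.FiniteType k R]
    [IsDomain R] [Module.Finite R M] [Module.Projective R M]
    (hfree : ∀ x : R →ₐ[k] k, Function.Surjective (GLin.orbitHom k A x)) :
    Module.Finite (GLin.invariants k A R) (invMod k A R M) ∧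
      Module.Projective (GLin.invariants k A R) (invMod k A R M) ∧
      Function.Bijective (mu (k := k) (A := A) (R := R) (M := M)) := by
  classical
  haveI : IsNoetherianRing R := Algebra.FiniteType.isNoetherianRing k R
  have hssR : HopfRep.IsSemisimpleComod k A R :=
    Groth.Agent.Helper9.semisimple_of_finite (fun V' _ _ _ hf => hred V' hf)
  have hssM : HopfRep.IsSemisimpleComod k A M :=
    Groth.Agent.Helper9.semisimple_of_finite (fun V' _ _ _ hf => hred V' hf)
  obtain ⟨J, _, b, hgood, hsum⟩ := exists_partition (M := M) hred hfree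
  have hsumR : ∑ j, (b j : R) = 1 := by
    have := congrArg (GLin.invariants k A R).val hsum
    rwa [map_sum, map_one] at this
  refine ⟨Module.Finite.of_fg (invMod_fg k A R M hssR hssM), ?_, ?_, ?_⟩
  · refine projective_of_partition b hsum fun j => ?_
    obtain ⟨d, n, κ, φ, hφ, -⟩ := (hgood j).proj hred
    refine ⟨d, φ, Fintype.linearCombination (GLin.invariants k A R) n, fun m => ?_⟩
    rw [Fintype.linearCombination_apply, hφ]
  · rw [injective_iff_map_eq_zero]
    intro t ht
    have h1 : t = ∑ j, (b j : R) • t := by rw [← Finset.sum_smul, hsumR, one_smul]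
    rw [h1]
    exact Finset.sum_eq_zero fun j _ => (hgood j).inj hred t ht
  · intro m
    have h1 : m = ∑ j, (b j : R) • m := by rw [← Finset.sum_smul, hsumR, one_smul]
    choose t ht using fun j => (hgood j).surj m
    refine ⟨∑ j, t j, ?_⟩
    rw [map_sum]
    conv_rhs => rw [h1]
    exact Finset.sum_congr rfl fun j _ => ht j

end Groth.Agent.Helper7.FreeDescB
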