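import Mathlib

set_option autoImplicit false
set_option linter.unusedSectionVars false
universe u

namespace Groth.Agent.Helper7.GQ

open TensorProduct

/-- `B` regarded as an `A`-algebra through `t`. -/
def Via {A B : Type u} [CommRing A] [CommRing B] (_t : A →+* B) : Type u := B

section ViaDef

variable {A B : Type u} [CommRing A] [CommRing B] (t : A →+* B)

instance : CommRing (Via t) := inferInstanceAs (CommRing B)

instance : Algebra A (Via t) := t.toAlgebra

/-- the identity `B ≃ Via t` -/
def toVia : B ≃+* Via t := RingEquiv.refl B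

lemma algebraMap_via (a : A) : algebraMap A (Via t) a = toVia t (t a) := rfl

lemma smul_via (a : A) (b : Via t) : a • b = toVia t (t a) * b := rfl

end ViaDef

/-- ring-level groupoid data: `s = algebraMap A B`, target `t`, identity `e`, inverse `i`,
composition `c : B → B ⊗_{s,A,t} B`. -/
structure Data (A B : Type u) [CommRing A] [CommRing B] [Algebra A B] where
  t : A →+* B
  e : B →+* A
  i : B →+* B
  c : B →+* B ⊗[A] Via t
  e_s : ∀ a, e (algebraMap A B a) = a
  e_t : ∀ a, e (t a) = a
  i_s : ∀ a, i (algebraMap A B a) = t a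
  i_t : ∀ a, i (t a) = algebraMap A B a
  c_t : ∀ a, c (t a) = (t a) ⊗ₜ[A] (1 : Via t)
  c_s : ∀ a, c (algebraMap A B a) = (1 : B) ⊗ₜ[A] (toVia t (algebraMap A B a))
  gen : Submodule.span A (Set.range t) = ⊤

namespace Data

variable {A B : Type u} [CommRing A] [CommRing B] [Algebra A B] (D : Data A B)

/-- the ring of invariants -/
def inv : Subring A := RingHom.eqLocus (algebraMap A B) D.t

lemma mem_inv {a : A} : a ∈ D.inv ↔ algebraMap A B a = D.t a := Iff.rfl

variable {ι : Type} [Fintype ι] [DecidableEq ι]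

/-- the `A`-span of the `t (x j)` -/
def N (x : ι → A) : Submodule A B := Submodule.span A (Set.range fun j => D.t (x j))

lemma mem_N {x : ι → A} {b : B} :
    b ∈ D.N x ↔ ∃ a : ι → A, b = ∑ j, algebraMap A B (a j) * D.t (x j) := by
  unfold N
  rw [Submodule.mem_span_range_iff_exists_fun]
  constructor
  · rintro ⟨a, rfl⟩
    exact ⟨a, Finset.sum_congr rfl fun j _ => Algebra.smul_def _ _⟩
  · rintro ⟨a, rfl⟩
    exact ⟨a, Finset.sum_congr rfl fun j _ => Algebra.smul_def _ _⟩

/-- the ideal of elements multiplying `B` into the span of the `t (x j)` -/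
def sIdeal (x : ι → A) : Ideal A := (D.N x).colon ⊤

lemma mem_sIdeal {x : ι → A} {a : A} :
    a ∈ D.sIdeal x ↔ ∀ b : B, algebraMap A B a * b ∈ D.N x := by
  unfold sIdeal
  rw [Submodule.mem_colon]
  constructor
  · intro h b
    rw [← Algebra.smul_def]
    exact h b trivial
  · intro h b _
    rw [Algebra.smul_def]
    exact h b

/-- the ideal of `d` such that there are functionals dual to the `t (x j)` up to `d` -/
def dIdeal (x : ι → A) : Ideal A where
  carrier := {d | ∃ σ : ι → (B →ₗ[A] A), ∀ i j, σ i (D.t (x j)) = if i = j then d else 0}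
  zero_mem' := ⟨fun _ => 0, fun i j => by simp⟩
  add_mem' := by
    rintro d d' ⟨σ, hσ⟩ ⟨σ', hσ'⟩
    refine ⟨fun i => σ i + σ' i, fun i j => ?_⟩
    rw [LinearMap.add_apply, hσ, hσ']
    split_ifs <;> simp
  smul_mem' := by
    rintro a d ⟨σ, hσ⟩
    refine ⟨fun i => a • σ i, fun i j => ?_⟩
    rw [LinearMap.smul_apply, hσ]
    split_ifs <;> simp

lemma mem_dIdeal {x : ι → A} {d : A} :
    d ∈ D.dIdeal x ↔ ∃ σ : ι → (B →ₗ[A] A), ∀ i j, σ i (D.t (x j)) = if i = j then d else 0 :=
  Iff.rfl

end Data

end Groth.Agent.Helper7.GQ
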