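import Mathlib
import Groth.Agent.Helper7.GQ1

set_option autoImplicit false
set_option linter.unusedSectionVars false
universe u

namespace Groth.Agent.Helper7.GQ

open TensorProduct

namespace Data

variable {A B : Type u} [CommRing A] [CommRing B] [Algebra A B] (D : Data A B)

/-- base change of a functional along `t` -/
noncomputable def Lam (σ : B →ₗ[A] A) : B ⊗[A] Via D.t →ₗ[A] Via D.t :=
  (TensorProduct.lid A (Via D.t)).toLinearMap ∘ₗ LinearMap.rTensor (Via D.t) σ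

lemma Lam_tmul (σ : B →ₗ[A] A) (b : B) (v : Via D.t) : D.Lam σ (b ⊗ₜ[A] v) = σ b • v := by
  simp [Lam]

lemma algebraMap_tmul (a : A) (b : B) (v : Via D.t) :
    (algebraMap A B a * b) ⊗ₜ[A] v = b ⊗ₜ[A] (toVia D.t (D.t a) * v) := by
  rw [← Algebra.smul_def, TensorProduct.smul_tmul]
  rfl

lemma inv_pow {f : A} (hf : f ∈ D.inv) (n : ℕ) : f ^ n ∈ D.inv := D.inv.pow_mem hf n

variable {ι : Type} [Fintype ι] [DecidableEq ι]

/-- the cocycle argument -/
theorem p3a (x : ι → A) {f : A} (hf : f ∈ D.inv) {n m : ℕ} (hS : f ^ n ∈ D.sIdeal x)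
    (hD : f ^ m ∈ D.dIdeal x) (a : A) :
    ∃ c : ι → A, (∀ j, c j ∈ D.inv) ∧ f ^ (n + m) * a = ∑ j, c j * x j := by
  obtain ⟨α, hα⟩ := D.mem_N.1 (D.mem_sIdeal.1 hS (D.t a))
  obtain ⟨σ, hσ⟩ := D.mem_dIdeal.1 hD
  have hfn : algebraMap A B (f ^ n) = D.t (f ^ n) := D.inv_pow hf n
  have hfm : algebraMap A B (f ^ m) = D.t (f ^ m) := D.inv_pow hf m
  have h1 : (D.t a) ⊗ₜ[A] (toVia D.t (algebraMap A B (f ^ n))) =
      ∑ j, (D.t (x j)) ⊗ₜ[A] (toVia D.t (algebraMap A B (α j))) := by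
    have h := congrArg D.c hα
    rw [map_mul, D.c_s, D.c_t, map_sum] at h
    simp only [map_mul, D.c_s, D.c_t, Algebra.TensorProduct.tmul_mul_tmul, one_mul, mul_one] at h
    exact h
  have h2 : (D.t a) ⊗ₜ[A] (toVia D.t (D.t (f ^ n))) =
      ∑ j, (D.t (x j)) ⊗ₜ[A] (toVia D.t (D.t (α j))) := by
    have h := congrArg (fun b => b ⊗ₜ[A] (1 : Via D.t)) hα
    simp only [TensorProduct.sum_tmul, D.algebraMap_tmul, mul_one] at h
    exact h
  have h3 : ∑ j, (D.t (x j)) ⊗ₜ[A]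
      (toVia D.t (algebraMap A B (α j)) - toVia D.t (D.t (α j))) = 0 := by
    simp only [TensorProduct.tmul_sub, Finset.sum_sub_distrib]
    rw [← h1, ← h2, hfn, sub_self]
  have h4 : ∀ i, algebraMap A B (f ^ m * α i) = D.t (f ^ m * α i) := by
    intro i
    have h := congrArg (D.Lam (σ i)) h3
    rw [map_sum, map_zero] at h
    simp only [Lam_tmul, hσ] at h
    rw [Finset.sum_eq_single i] at h
    · rw [if_pos rfl, smul_via, mul_sub, sub_eq_zero] at h
      rw [map_mul, map_mul, hfm]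
      exact h
    · intro j _ hji
      rw [if_neg (Ne.symm hji), zero_smul]
    · intro hi
      exact absurd (Finset.mem_univ i) hi
  refine ⟨fun j => f ^ m * α j, h4, ?_⟩
  have h5 := congrArg D.e hα
  rw [map_mul, D.e_s, D.e_t, map_sum] at h5
  simp only [map_mul, D.e_s, D.e_t] at h5
  rw [pow_add, mul_comm (f ^ n) (f ^ m), mul_assoc, h5, Finset.mul_sum]
  exact Finset.sum_congr rfl fun j _ => (mul_assoc _ _ _).symm

theorem p3b (x : ι → A) {f : A} {m : ℕ} (hD : f ^ m ∈ D.dIdeal x) (c : ι → A)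
    (hc : ∀ j, c j ∈ D.inv) (h0 : ∑ j, c j * x j = 0) (j : ι) : f ^ m * c j = 0 := by
  obtain ⟨σ, hσ⟩ := D.mem_dIdeal.1 hD
  have h1 : ∑ l, algebraMap A B (c l) * D.t (x l) = 0 := by
    have h := congrArg D.t h0
    rw [map_sum, map_zero] at h
    rw [← h]
    refine Finset.sum_congr rfl fun l _ => ?_
    rw [map_mul, ← hc l]
  have h2 := congrArg (σ j) h1
  rw [map_sum, map_zero] at h2
  simp only [← Algebra.smul_def, map_smul, hσ, smul_eq_mul] at h2
  rw [Finset.sum_eq_single j] at h2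
  · rw [if_pos rfl, mul_comm] at h2
    exact h2
  · intro l _ hlj
    rw [if_neg (Ne.symm hlj), mul_zero]
  · intro hj
    exact absurd (Finset.mem_univ j) hj

end Data

end Groth.Agent.Helper7.GQ
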