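import Mathlib
import Groth.Agent.Helper7.GQ2

set_option autoImplicit false
set_option linter.unusedSectionVars false
universe u

namespace Groth.Agent.Helper7.GQ

open TensorProduct

namespace Data

variable {A B : Type u} [CommRing A] [CommRing B] [Algebra A B] (D : Data A B)

/-- `B` as an algebra over the invariants (through `s`) -/
@[reducible] def algInvB : Algebra D.inv B := ((algebraMap A B).comp D.inv.subtype).toAlgebra

attribute [local instance] algInvB

instance : IsScalarTower D.inv A B := IsScalarTower.of_algebraMap_eq fun _ => rfl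

/-- `s` as a map of algebras over the invariants -/
def sHom : A →ₐ[D.inv] B := IsScalarTower.toAlgHom D.inv A B

/-- `t` as a map of algebras over the invariants -/
def tHom : A →ₐ[D.inv] B :=
  { D.t with commutes' := fun c => (c.2 : algebraMap A B c = D.t c).symm }

@[simp] lemma sHom_apply (a : A) : D.sHom a = algebraMap A B a := rfl

@[simp] lemma tHom_apply (a : A) : D.tHom a = D.t a := rfl

/-- the canonical map `A ⊗_C A → B`, `a ⊗ a' ↦ t a * s a'` -/
noncomputable def can : A ⊗[D.inv] A →ₐ[D.inv] B :=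
  Algebra.TensorProduct.productMap D.tHom D.sHom

lemma can_tmul (a a' : A) : D.can (a ⊗ₜ[D.inv] a') = D.t a * algebraMap A B a' := by
  simp [can]

variable {ι : Type} [Fintype ι] [DecidableEq ι]

theorem p3c_surj (x : ι → A) {f : A} {n : ℕ} (hS : f ^ n ∈ D.sIdeal x) (b : B) :
    ∃ z : A ⊗[D.inv] A, D.can z = algebraMap A B (f ^ n) * b := by
  obtain ⟨α, hα⟩ := D.mem_N.1 (D.mem_sIdeal.1 hS b)
  refine ⟨∑ j, x j ⊗ₜ[D.inv] α j, ?_⟩
  rw [map_sum, hα]
  refine Finset.sum_congr rfl fun j _ => ?_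
  rw [can_tmul, mul_comm]

theorem p3c_aux (x : ι → A) {f : A} (hf : f ∈ D.inv) {n m : ℕ} (hS : f ^ n ∈ D.sIdeal x)
    (hD : f ^ m ∈ D.dIdeal x) (z : A ⊗[D.inv] A) :
    ∃ w : ι → A, ((⟨f, hf⟩ : D.inv) ^ (n + m)) • z = ∑ j, x j ⊗ₜ[D.inv] w j := by
  induction z using TensorProduct.induction_on with
  | zero => exact ⟨fun _ => 0, by simp⟩
  | tmul u v =>
    obtain ⟨c, hc, hcu⟩ := D.p3a x hf hS hD u
    refine ⟨fun j => c j * v, ?_⟩
    rw [TensorProduct.smul_tmul']
    have h1 : ((⟨f, hf⟩ : D.inv) ^ (n + m)) • u = ∑ j, c j * x j := by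
      rw [← hcu]
      rfl
    rw [h1, TensorProduct.sum_tmul]
    refine Finset.sum_congr rfl fun j _ => ?_
    have h2 : c j * x j = (⟨c j, hc j⟩ : D.inv) • x j := rfl
    have h3 : c j * v = (⟨c j, hc j⟩ : D.inv) • v := rfl
    change (c j * x j) ⊗ₜ[D.inv] v = x j ⊗ₜ[D.inv] (c j * v)
    rw [h2, h3, TensorProduct.smul_tmul]
  | add z₁ z₂ h₁ h₂ =>
    obtain ⟨w₁, hw₁⟩ := h₁
    obtain ⟨w₂, hw₂⟩ := h₂
    refine ⟨fun j => w₁ j + w₂ j, ?_⟩
    rw [smul_add, hw₁, hw₂, ← Finset.sum_add_distrib]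
    exact Finset.sum_congr rfl fun j _ => (TensorProduct.tmul_add _ _ _).symm

theorem p3c_inj (x : ι → A) {f : A} (hf : f ∈ D.inv) {n m : ℕ} (hS : f ^ n ∈ D.sIdeal x)
    (hD : f ^ m ∈ D.dIdeal x) (z : A ⊗[D.inv] A) (hz : D.can z = 0) :
    ((⟨f, hf⟩ : D.inv) ^ (n + m + m)) • z = 0 := by
  obtain ⟨w, hw⟩ := D.p3c_aux x hf hS hD z
  obtain ⟨σ, hσ⟩ := D.mem_dIdeal.1 hD
  have h1 : ∑ j, algebraMap A B (w j) * D.t (x j) = 0 := by
    have h := congrArg D.can hw
    rw [map_smul, hz, smul_zero, map_sum] at h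
    rw [h]
    exact Finset.sum_congr rfl fun j _ => by rw [can_tmul, mul_comm]
  have h2 : ∀ i, f ^ m * w i = 0 := by
    intro i
    have h := congrArg (σ i) h1
    rw [map_sum, map_zero] at h
    simp only [← Algebra.smul_def, map_smul, hσ, smul_eq_mul] at h
    rw [Finset.sum_eq_single i] at h
    · rw [if_pos rfl, mul_comm] at h
      exact h
    · intro l _ hli
      rw [if_neg (Ne.symm hli), mul_zero]
    · intro hi
      exact absurd (Finset.mem_univ i) hi
  rw [pow_add, mul_comm, mul_smul, hw, Finset.smul_sum]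
  refine Finset.sum_eq_zero fun j _ => ?_
  rw [← TensorProduct.tmul_smul, show ((⟨f, hf⟩ : D.inv) ^ m) • w j = f ^ m * w j from rfl, h2,
    TensorProduct.tmul_zero]

end Data

end Groth.Agent.Helper7.GQ
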