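import Mathlib
import Groth.Agent.Helper7.GQ3

set_option autoImplicit false
set_option linter.unusedSectionVars false
universe u

namespace Groth.Agent.Helper7.GQ

open TensorProduct

section DualBasis

variable {R : Type u} [CommRing R] {M : Type u} [AddCommGroup M] [Module R M]
  [Module.Finite R M] [Module.Projective R M]

/-- finite dual basis of a finite projective module -/
theorem exists_dualBasis :
    ∃ (n : ℕ) (b : Fin n → M) (l : Fin n → (M →ₗ[R] R)), ∀ m : M, m = ∑ k, l k m • b k := by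
  obtain ⟨n, f, g, -, -, hfg⟩ := Module.Finite.exists_comp_eq_id_of_projective R M
  refine ⟨n, fun k => f (Pi.single k 1), fun k => LinearMap.proj k ∘ₗ g, fun m => ?_⟩
  have h1 : f (g m) = m := LinearMap.congr_fun hfg m
  conv_lhs => rw [← h1, pi_eq_sum_univ' (g m)]
  rw [map_sum]
  refine Finset.sum_congr rfl fun k _ => ?_
  rw [← map_smul]
  rfl

end DualBasis

namespace Data

variable {A B : Type u} [CommRing A] [CommRing B] [Algebra A B] (D : Data A B)

lemma Lam_mul_right (σ : B →ₗ[A] A) (v : Via D.t) (z : B ⊗[A] Via D.t) :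
    D.Lam σ (((1 : B) ⊗ₜ[A] v) * z) = v * D.Lam σ z := by
  induction z using TensorProduct.induction_on with
  | zero => simp
  | tmul b w =>
    rw [Algebra.TensorProduct.tmul_mul_tmul, one_mul, Lam_tmul, Lam_tmul, mul_smul_comm]
  | add z₁ z₂ h₁ h₂ => rw [mul_add, map_add, h₁, h₂, map_add, mul_add]

variable {ι : Type} [Fintype ι] [DecidableEq ι]

section TS

variable [Module.Finite A (Via D.t)] [Module.Projective A (Via D.t)]

theorem ts_aux (x : ι → A) {a : A} (ha : a ∈ D.sIdeal x) (b : B) :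
    ∃ β : ι → Via D.t, b ⊗ₜ[A] (toVia D.t (algebraMap A B a)) = ∑ j, D.t (x j) ⊗ₜ[A] β j := by
  have hb : b ∈ Submodule.span A (Set.range D.t) := by
    rw [D.gen]
    trivial
  induction hb using Submodule.span_induction with
  | mem b hb =>
    obtain ⟨y, rfl⟩ := hb
    obtain ⟨α, hα⟩ := D.mem_N.1 (D.mem_sIdeal.1 ha (D.t y))
    refine ⟨fun j => toVia D.t (algebraMap A B (α j)), ?_⟩
    have h := congrArg D.c hα
    rw [map_mul, D.c_s, D.c_t, map_sum] at h
    simp only [map_mul, D.c_s, D.c_t, Algebra.TensorProduct.tmul_mul_tmul, one_mul, mul_one] at h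
    exact h
  | zero => exact ⟨fun _ => 0, by simp⟩
  | add b₁ b₂ _ _ h₁ h₂ =>
    obtain ⟨β₁, hβ₁⟩ := h₁
    obtain ⟨β₂, hβ₂⟩ := h₂
    refine ⟨fun j => β₁ j + β₂ j, ?_⟩
    rw [TensorProduct.add_tmul, hβ₁, hβ₂, ← Finset.sum_add_distrib]
    exact Finset.sum_congr rfl fun j _ => (TensorProduct.tmul_add _ _ _).symm
  | smul a' b _ h =>
    obtain ⟨β, hβ⟩ := h
    refine ⟨fun j => a' • β j, ?_⟩
    rw [← TensorProduct.smul_tmul', hβ, Finset.smul_sum]
    exact Finset.sum_congr rfl fun j _ => by rw [TensorProduct.smul_tmul', TensorProduct.smul_tmul]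

theorem ts_functional (x : ι → A) {a : A} (ha : a ∈ D.sIdeal x) (l : Via D.t →ₗ[A] A) :
    l (toVia D.t (algebraMap A B a)) ∈ D.sIdeal x := by
  rw [D.mem_sIdeal]
  intro b
  obtain ⟨β, hβ⟩ := D.ts_aux x ha b
  have h := congrArg ((TensorProduct.rid A B).toLinearMap ∘ₗ LinearMap.lTensor B l) hβ
  simp only [LinearMap.comp_apply, LinearMap.lTensor_tmul, map_sum, LinearEquiv.coe_coe,
    TensorProduct.rid_tmul] at h
  rw [← Algebra.smul_def, h]
  unfold N
  exact Submodule.sum_mem _ fun j _ =>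
    Submodule.smul_mem _ _ (Submodule.subset_span ⟨j, rfl⟩)

/-- `s (sIdeal) ⊆ t (sIdeal) B` -/
theorem ts (x : ι → A) {a : A} (ha : a ∈ D.sIdeal x) :
    algebraMap A B a ∈ Ideal.map D.t (D.sIdeal x) := by
  obtain ⟨n, b, l, hbl⟩ := exists_dualBasis (R := A) (M := Via D.t)
  have h := hbl (toVia D.t (algebraMap A B a))
  have h2 : algebraMap A B a =
      ∑ k, D.t (l k (toVia D.t (algebraMap A B a))) * (toVia D.t).symm (b k) := h
  rw [h2]
  exact Ideal.sum_mem _ fun k _ =>
    Ideal.mul_mem_right _ _ (Ideal.mem_map_of_mem _ (D.ts_functional x ha (l k)))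

end TS

section TD

variable [Module.Finite A B] [Module.Projective A B]

/-- the functional `b ↦ (σ ⊗ id)(c b)` -/
noncomputable def tau (σ : B →ₗ[A] A) : B →ₗ[A] B where
  toFun b := D.Lam σ (D.c b)
  map_add' b b' := by
    rw [map_add, map_add]
    rfl
  map_smul' a b := by
    rw [Algebra.smul_def, map_mul, D.c_s, Lam_mul_right, RingHom.id_apply, Algebra.smul_def]
    rfl

lemma tau_t (σ : B →ₗ[A] A) (y : A) : D.tau σ (D.t y) = D.t (σ (D.t y)) := by
  change D.Lam σ (D.c (D.t y)) = _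
  rw [D.c_t, Lam_tmul, smul_via, mul_one]
  rfl

theorem td_functional (x : ι → A) {d : A} (hd : d ∈ D.dIdeal x) (l : B →ₗ[A] A) :
    l (D.t d) ∈ D.dIdeal x := by
  obtain ⟨σ, hσ⟩ := D.mem_dIdeal.1 hd
  refine D.mem_dIdeal.2 ⟨fun i => l ∘ₗ D.tau (σ i), fun i j => ?_⟩
  rw [LinearMap.comp_apply, tau_t, hσ]
  split_ifs
  · rfl
  · rw [map_zero, map_zero]

/-- `t (dIdeal) ⊆ s (dIdeal) B` -/
theorem td (x : ι → A) {d : A} (hd : d ∈ D.dIdeal x) :
    D.t d ∈ Ideal.map (algebraMap A B) (D.dIdeal x) := by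
  obtain ⟨n, b, l, hbl⟩ := exists_dualBasis (R := A) (M := B)
  rw [hbl (D.t d)]
  refine Ideal.sum_mem _ fun k _ => ?_
  rw [Algebra.smul_def]
  exact Ideal.mul_mem_right _ _ (Ideal.mem_map_of_mem _ (D.td_functional x hd (l k)))

end TD

end Data

end Groth.Agent.Helper7.GQ
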