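import Mathlib
import Groth.Agent.Helper7.GQ4

set_option autoImplicit false
set_option linter.unusedSectionVars false
universe u

namespace Groth.Agent.Helper7.GQ

open TensorProduct

section Frac

variable {A : Type u} [CommRing A] (𝔭 : Ideal A) [𝔭.IsPrime]

/-- common denominators in the residue field -/
theorem exists_common_denom {J : Type} [Fintype J] (c : J → 𝔭.ResidueField) :
    ∃ g : A, g ∉ 𝔭 ∧ ∀ j, ∃ a : A, algebraMap A 𝔭.ResidueField g * c j =
      algebraMap A 𝔭.ResidueField a := by
  classical
  obtain ⟨b, hb⟩ := IsLocalization.exist_integer_multiples (nonZeroDivisors (A ⧸ 𝔭))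
    (Finset.univ : Finset J) c
  obtain ⟨g, hg⟩ := Ideal.Quotient.mk_surjective (b : A ⧸ 𝔭)
  refine ⟨g, ?_, fun j => ?_⟩
  · intro hmem
    have h0 : (b : A ⧸ 𝔭) = 0 := by
      rw [← hg]
      exact Ideal.Quotient.eq_zero_iff_mem.2 hmem
    exact nonZeroDivisors.coe_ne_zero b h0
  · obtain ⟨abar, ha⟩ := hb j (Finset.mem_univ j)
    obtain ⟨a, rfl⟩ := Ideal.Quotient.mk_surjective abar
    refine ⟨a, ?_⟩
    have h1 : algebraMap A 𝔭.ResidueField a =
        algebraMap (A ⧸ 𝔭) 𝔭.ResidueField (Ideal.Quotient.mk 𝔭 a) := rfl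
    have h2 : algebraMap A 𝔭.ResidueField g =
        algebraMap (A ⧸ 𝔭) 𝔭.ResidueField (Ideal.Quotient.mk 𝔭 g) := rfl
    rw [h1, ha, h2, hg]
    exact (Algebra.smul_def _ _).symm

end Frac

namespace Data

variable {A B : Type u} [CommRing A] [CommRing B] [Algebra A B] (D : Data A B)
variable [Module.Finite A B] [Module.Projective A B]

/-- at every prime there are elements `x j` such that the `t (x j)` form a basis of `B` nearby -/
theorem exists_basis_at (𝔭 : Ideal A) [𝔭.IsPrime] :
    ∃ (r : ℕ) (x : Fin r → A), ¬ D.sIdeal x ≤ 𝔭 ∧ ¬ D.dIdeal x ≤ 𝔭 := by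
  classical
  let κ := 𝔭.ResidueField
  let V := κ ⊗[A] B
  let T : Set V := Set.range fun y : A => (1 : κ) ⊗ₜ[A] D.t y
  -- `T` spans `V`
  have hone : ∀ b : B, (1 : κ) ⊗ₜ[A] b ∈ Submodule.span κ T := by
    intro b
    have hb : b ∈ Submodule.span A (Set.range D.t) := by
      rw [D.gen]
      trivial
    induction hb using Submodule.span_induction with
    | mem b hb =>
      obtain ⟨y, rfl⟩ := hb
      exact Submodule.subset_span ⟨y, rfl⟩
    | zero =>
      rw [TensorProduct.tmul_zero]
      exact Submodule.zero_mem _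
    | add b₁ b₂ _ _ h₁ h₂ =>
      rw [TensorProduct.tmul_add]
      exact Submodule.add_mem _ h₁ h₂
    | smul a b _ h =>
      have h2 : (1 : κ) ⊗ₜ[A] (a • b) = (algebraMap A κ a) • ((1 : κ) ⊗ₜ[A] b) := by
        rw [TensorProduct.tmul_smul, TensorProduct.smul_tmul', TensorProduct.smul_tmul',
          Algebra.smul_def, smul_eq_mul]
      rw [h2]
      exact Submodule.smul_mem _ _ h
  have hT : Submodule.span κ T = ⊤ := by
    rw [eq_top_iff]
    rintro v -
    induction v using TensorProduct.induction_on with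
    | zero => exact Submodule.zero_mem _
    | add v w hv hw => exact Submodule.add_mem _ hv hw
    | tmul k b =>
      have h1 : k ⊗ₜ[A] b = k • ((1 : κ) ⊗ₜ[A] b) := by
        rw [TensorProduct.smul_tmul', smul_eq_mul, mul_one]
      rw [h1]
      exact Submodule.smul_mem _ _ (hone b)
  obtain ⟨bs, hbsT, hbsspan, hbsli⟩ := exists_linearIndependent κ T
  have hfin : bs.Finite := hbsli.setFinite
  haveI : Fintype ↥bs := hfin.fintype
  have hspan : ⊤ ≤ Submodule.span κ (Set.range (Subtype.val : ↥bs → V)) := by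
    rw [Subtype.range_coe, hbsspan, hT]
  let bas0 : Module.Basis ↥bs κ V := Module.Basis.mk hbsli hspan
  let r := Fintype.card ↥bs
  let bas : Module.Basis (Fin r) κ V := bas0.reindex (Fintype.equivFin ↥bs)
  have hbasT : ∀ j, bas j ∈ T := by
    intro j
    have h1 : bas j = ((Fintype.equivFin ↥bs).symm j : V) := by
      rw [Module.Basis.reindex_apply, Module.Basis.mk_apply]
    rw [h1]
    exact hbsT ((Fintype.equivFin ↥bs).symm j).2
  choose x hx0 using hbasT
  have hx : ∀ j, (1 : κ) ⊗ₜ[A] D.t (x j) = bas j := hx0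
  refine ⟨r, x, ?_, ?_⟩
  · -- the span condition
    intro hle
    have hker : ∀ v : κ ⊗[A] B, LinearMap.baseChange κ (D.N x).mkQ v = 0 := by
      intro v
      have h2 : v ∈ Submodule.span κ (Set.range bas) := by
        rw [bas.span_eq]
        trivial
      have h3 : Submodule.span κ (Set.range bas) ≤
          LinearMap.ker (LinearMap.baseChange κ (D.N x).mkQ) := by
        rw [Submodule.span_le]
        rintro _ ⟨j, rfl⟩
        rw [SetLike.mem_coe, LinearMap.mem_ker, ← hx j, LinearMap.baseChange_tmul]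
        have h4 : (D.N x).mkQ (D.t (x j)) = 0 := by
          rw [Submodule.mkQ_apply, Submodule.Quotient.mk_eq_zero]
          exact Submodule.subset_span ⟨j, rfl⟩
        rw [h4, TensorProduct.tmul_zero]
      exact h3 h2
    have hsub : Subsingleton (κ ⊗[A] (B ⧸ D.N x)) := by
      refine ⟨fun u v => ?_⟩
      have hz : ∀ z : κ ⊗[A] (B ⧸ D.N x), z = 0 := by
        intro z
        induction z using TensorProduct.induction_on with
        | zero => rfl
        | add z₁ z₂ h₁ h₂ => rw [h₁, h₂, add_zero]
        | tmul k q =>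
          obtain ⟨b, rfl⟩ := (D.N x).mkQ_surjective q
          rw [← LinearMap.baseChange_tmul, hker]
      rw [hz u, hz v]
    have hns : (⟨𝔭, inferInstance⟩ : PrimeSpectrum A) ∉ Module.support A (B ⧸ D.N x) := by
      rw [Module.mem_support_iff_nontrivial_residueField_tensorProduct]
      exact not_nontrivial _
    rw [Module.mem_support_iff_of_finite] at hns
    apply hns
    intro a ha
    apply hle
    rw [D.mem_sIdeal]
    intro b
    have h1 : a • (D.N x).mkQ b = 0 := Module.mem_annihilator.1 ha _
    rw [← map_smul, Submodule.mkQ_apply, Submodule.Quotient.mk_eq_zero, Algebra.smul_def] at h1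
    exact h1
  · -- the dual functionals
    intro hle
    obtain ⟨n, b, l, hbl⟩ := exists_dualBasis (R := A) (M := B)
    obtain ⟨g, hg, hga⟩ := exists_common_denom 𝔭
      (fun p : Fin r × Fin n => bas.coord p.1 ((1 : κ) ⊗ₜ[A] b p.2))
    choose a ha using hga
    let σ : Fin r → (B →ₗ[A] A) := fun i => ∑ k, a (i, k) • l k
    have hσ : ∀ i (y : B), algebraMap A κ (σ i y) =
        algebraMap A κ g * bas.coord i ((1 : κ) ⊗ₜ[A] y) := by
      intro i y
      have h1 : (1 : κ) ⊗ₜ[A] y = ∑ k, algebraMap A κ (l k y) • ((1 : κ) ⊗ₜ[A] b k) := by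
        conv_lhs => rw [hbl y]
        rw [TensorProduct.tmul_sum]
        refine Finset.sum_congr rfl fun k _ => ?_
        rw [TensorProduct.tmul_smul, TensorProduct.smul_tmul', TensorProduct.smul_tmul',
          Algebra.smul_def, smul_eq_mul]
      rw [h1, map_sum, Finset.mul_sum]
      simp only [σ, LinearMap.sum_apply, LinearMap.smul_apply, smul_eq_mul, map_sum, map_mul,
        map_smul]
      refine Finset.sum_congr rfl fun k _ => ?_
      rw [← ha (i, k)]
      ring
    let Dm : Matrix (Fin r) (Fin r) A := fun i j => σ i (D.t (x j))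
    have hDm : (algebraMap A κ).mapMatrix Dm = algebraMap A κ g • (1 : Matrix (Fin r) (Fin r) κ) := by
      ext i j
      rw [RingHom.mapMatrix_apply, Matrix.map_apply, hσ, hx j, Module.Basis.coord_apply,
        Module.Basis.repr_self, Matrix.smul_apply, Matrix.one_apply, Finsupp.single_apply,
        smul_eq_mul]
      by_cases hij : i = j
      · rw [if_pos hij, if_pos hij.symm]
      · rw [if_neg hij, if_neg (Ne.symm hij)]
    have hdet : Dm.det ∉ 𝔭 := by
      intro hmem
      have h1 : algebraMap A κ Dm.det = 0 := Ideal.algebraMap_residueField_eq_zero.2 hmem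
      rw [RingHom.map_det, hDm, Matrix.det_smul, Matrix.det_one, mul_one] at h1
      have h2 : algebraMap A κ g = 0 := pow_eq_zero_iff (n := Fintype.card (Fin r))
        (by
          intro h0
          rw [h0, pow_zero] at h1
          exact one_ne_zero h1) |>.1 h1
      exact hg (Ideal.algebraMap_residueField_eq_zero.1 h2)
    apply hdet
    apply hle
    refine D.mem_dIdeal.2 ⟨fun i => ∑ k, Dm.adjugate i k • σ k, fun i j => ?_⟩
    have h1 : (∑ k, Dm.adjugate i k • σ k) (D.t (x j)) = (Dm.adjugate * Dm) i j := by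
      rw [Matrix.mul_apply, LinearMap.sum_apply]
      exact Finset.sum_congr rfl fun k _ => rfl
    rw [h1, Matrix.adjugate_mul, Matrix.smul_apply, Matrix.one_apply, smul_eq_mul]
    split_ifs <;> simp

end Data

end Groth.Agent.Helper7.GQ
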