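import Mathlib
import Groth.Agent.Helper7.GQ5

set_option autoImplicit false
set_option linter.unusedSectionVars false
universe u

namespace Groth.Agent.Helper7.GQ

open TensorProduct

/-- prime avoidance in the form we need -/
lemma exists_mem_notMem_of_finset {A : Type u} [CommRing A] (P : Finset (Ideal A))
    (hP : ∀ J ∈ P, J.IsPrime) (𝔞 : Ideal A) (h : ∀ J ∈ P, ¬ 𝔞 ≤ J) :
    ∃ g ∈ 𝔞, ∀ J ∈ P, g ∉ J := by
  classical
  have h𝔞 : ¬ ((𝔞 : Set A) ⊆ ⋃ J ∈ (P : Set (Ideal A)), (J : Set A)) := by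
    intro hsub
    obtain ⟨J, hJ, hle⟩ := (Ideal.subset_union_prime (s := P) (f := fun J : Ideal A => J) ⊥ ⊥
      (fun J hJ _ _ => hP J hJ)).1 hsub
    exact h J hJ hle
  obtain ⟨g, hg𝔞, hgP⟩ := Set.not_subset.1 h𝔞
  exact ⟨g, hg𝔞, fun J hJ hg => hgP (Set.mem_biUnion (Finset.mem_coe.2 hJ) hg)⟩

lemma finite_primesOver_of_finite {A B : Type u} [CommRing A] [CommRing B] [Algebra A B]
    [Module.Finite A B] (𝔭 : Ideal A) : (𝔭.primesOver B).Finite :=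
  Algebra.QuasiFinite.finite_primesOver 𝔭


namespace Data

variable {A B : Type u} [CommRing A] [CommRing B] [Algebra A B] (D : Data A B)

lemma i_comp_t : D.i.comp D.t = algebraMap A B := RingHom.ext fun a => D.i_t a

lemma i_comp_s : D.i.comp (algebraMap A B) = D.t := RingHom.ext fun a => D.i_s a

lemma e_comp_s : D.e.comp (algebraMap A B) = RingHom.id A := RingHom.ext fun a => D.e_s a

lemma e_comp_t : D.e.comp D.t = RingHom.id A := RingHom.ext fun a => D.e_t a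

/-- if `s 𝔞 ⊆ t(𝔞) B` then `s(𝔞) B = t(𝔞) B` -/
lemma map_eq_of_s_le (𝔞 : Ideal A) (h : ∀ a ∈ 𝔞, algebraMap A B a ∈ Ideal.map D.t 𝔞) :
    Ideal.map (algebraMap A B) 𝔞 = Ideal.map D.t 𝔞 := by
  refine le_antisymm (Ideal.map_le_iff_le_comap.2 fun a ha => h a ha) ?_
  refine Ideal.map_le_iff_le_comap.2 fun a ha => ?_
  have h1 : D.i (algebraMap A B a) ∈ Ideal.map D.i (Ideal.map D.t 𝔞) :=
    Ideal.mem_map_of_mem _ (h a ha)
  rw [Ideal.map_map, D.i_comp_t, D.i_s] at h1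
  exact h1

/-- if `t 𝔞 ⊆ s(𝔞) B` then `s(𝔞) B = t(𝔞) B` -/
lemma map_eq_of_t_le (𝔞 : Ideal A) (h : ∀ a ∈ 𝔞, D.t a ∈ Ideal.map (algebraMap A B) 𝔞) :
    Ideal.map (algebraMap A B) 𝔞 = Ideal.map D.t 𝔞 := by
  refine le_antisymm ?_ (Ideal.map_le_iff_le_comap.2 fun a ha => h a ha)
  refine Ideal.map_le_iff_le_comap.2 fun a ha => ?_
  have h1 : D.i (D.t a) ∈ Ideal.map D.i (Ideal.map (algebraMap A B) 𝔞) :=
    Ideal.mem_map_of_mem _ (h a ha)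
  rw [Ideal.map_map, D.i_comp_s, D.i_t] at h1
  exact h1

variable {ι : Type} [Fintype ι] [DecidableEq ι]

lemma sIdeal_le_comap_iff [Module.Finite A (Via D.t)] [Module.Projective A (Via D.t)]
    (x : ι → A) (𝔮 : Ideal B) :
    D.sIdeal x ≤ 𝔮.comap (algebraMap A B) ↔ D.sIdeal x ≤ 𝔮.comap D.t := by
  rw [← Ideal.map_le_iff_le_comap, ← Ideal.map_le_iff_le_comap,
    D.map_eq_of_s_le _ fun a ha => D.ts x ha]

lemma dIdeal_le_comap_iff [Module.Finite A B] [Module.Projective A B]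
    (x : ι → A) (𝔮 : Ideal B) :
    D.dIdeal x ≤ 𝔮.comap (algebraMap A B) ↔ D.dIdeal x ≤ 𝔮.comap D.t := by
  rw [← Ideal.map_le_iff_le_comap, ← Ideal.map_le_iff_le_comap,
    D.map_eq_of_t_le _ fun a ha => D.td x ha]

/-- the norm hypothesis: invariant basic opens inside orbits -/
def HasNrm : Prop :=
  ∀ g : A, ∃ f ∈ D.inv, ∀ 𝔭 : Ideal A, 𝔭.IsPrime →
    (f ∉ 𝔭 ↔ ∀ 𝔮 : Ideal B, 𝔮.IsPrime → 𝔮.comap (algebraMap A B) = 𝔭 → g ∉ 𝔮.comap D.t)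

variable [Module.Finite A B] [Module.Projective A B]
  [Module.Finite A (Via D.t)] [Module.Projective A (Via D.t)]

theorem exists_good_at (hnrm : D.HasNrm) (𝔭 : Ideal A) [𝔭.IsPrime] :
    ∃ (r : ℕ) (x : Fin r → A) (f : A) (n : ℕ), f ∈ D.inv ∧ f ∉ 𝔭 ∧
      f ^ n ∈ D.sIdeal x ∧ f ^ n ∈ D.dIdeal x := by
  classical
  obtain ⟨r, x, hs, hd⟩ := D.exists_basis_at 𝔭
  refine ⟨r, x, ?_⟩
  -- the orbit of `𝔭`
  have hfin : (𝔭.primesOver B).Finite := finite_primesOver_of_finite 𝔭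
  let P : Finset (Ideal A) := hfin.toFinset.image fun 𝔮 => 𝔮.comap D.t
  have hP : ∀ 𝔭' ∈ P, ∃ 𝔮 : Ideal B, 𝔮.IsPrime ∧ 𝔮.comap (algebraMap A B) = 𝔭 ∧
      𝔮.comap D.t = 𝔭' := by
    intro 𝔭' h𝔭'
    obtain ⟨𝔮, h𝔮, rfl⟩ := Finset.mem_image.1 h𝔭'
    rw [Set.Finite.mem_toFinset] at h𝔮
    exact ⟨𝔮, h𝔮.1, h𝔮.2.over.symm, rfl⟩
  have hP' : ∀ 𝔮 : Ideal B, 𝔮.IsPrime → 𝔮.comap (algebraMap A B) = 𝔭 → 𝔮.comap D.t ∈ P := by
    intro 𝔮 h𝔮 h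
    refine Finset.mem_image.2 ⟨𝔮, ?_, rfl⟩
    rw [Set.Finite.mem_toFinset]
    exact ⟨h𝔮, ⟨h.symm⟩⟩
  have hPprime : ∀ J ∈ P, J.IsPrime := by
    intro J hJ
    obtain ⟨𝔮, h𝔮, -, rfl⟩ := hP J hJ
    exact Ideal.comap_isPrime _ _
  have hPnot : ∀ J ∈ P, ¬ D.sIdeal x ⊓ D.dIdeal x ≤ J := by
    intro J hJ hle
    obtain ⟨𝔮, h𝔮, h1, rfl⟩ := hP J hJ
    rcases (Ideal.IsPrime.inf_le (hPprime _ hJ)).1 hle with h | h
    · exact hs (h1 ▸ (D.sIdeal_le_comap_iff x 𝔮).2 h)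
    · exact hd (h1 ▸ (D.dIdeal_le_comap_iff x 𝔮).2 h)
  obtain ⟨g, hg𝔞, hgP'⟩ := exists_mem_notMem_of_finset P hPprime _ hPnot
  obtain ⟨f, hf, hiff⟩ := hnrm g
  have hf𝔭 : f ∉ 𝔭 := (hiff 𝔭 inferInstance).2 fun 𝔮 h𝔮 h => hgP' _ (hP' 𝔮 h𝔮 h)
  have hrad : f ∈ (Ideal.span {g}).radical := by
    rw [Ideal.radical_eq_sInf, Ideal.mem_sInf]
    rintro J ⟨hgJ, hJ⟩
    by_contra hfJ
    have h1 := (hiff J hJ).1 hfJ (J.comap D.e) (Ideal.comap_isPrime _ _)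
      (by rw [Ideal.comap_comap, D.e_comp_s, Ideal.comap_id])
    rw [Ideal.comap_comap, D.e_comp_t, Ideal.comap_id] at h1
    exact h1 (hgJ (Ideal.subset_span rfl))
  obtain ⟨n, hn⟩ := hrad
  have hn' : f ^ n ∈ D.sIdeal x ⊓ D.dIdeal x :=
    (Ideal.span_le.2 (Set.singleton_subset_iff.2 hg𝔞)) hn
  have hn2 := Submodule.mem_inf.1 hn'
  exact ⟨f, n, hf, hf𝔭, hn2.1, hn2.2⟩

/-- the invariant elements over which everything trivialises -/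
def good : Set D.inv :=
  {f | ∃ (r : ℕ) (x : Fin r → A) (n : ℕ), (f : A) ^ n ∈ D.sIdeal x ∧ (f : A) ^ n ∈ D.dIdeal x}

theorem span_good (hnrm : D.HasNrm) [Algebra.IsIntegral D.inv A] :
    Ideal.span D.good = ⊤ := by
  by_contra hne
  obtain ⟨𝔪, h𝔪, hle⟩ := Ideal.exists_le_maximal _ hne
  have : 𝔪.IsPrime := h𝔪.isPrime
  obtain ⟨𝔓, -, h𝔓, hcomap⟩ := Ideal.exists_ideal_over_prime_of_isIntegral 𝔪 (⊥ : Ideal A)
    (by
      intro c hc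
      have h0 : (c : A) = 0 := hc
      have : c = 0 := Subtype.ext h0
      rw [this]
      exact 𝔪.zero_mem)
  obtain ⟨r, x, f, n, hf, hf𝔓, h1, h2⟩ := D.exists_good_at hnrm 𝔓
  have hmem : (⟨f, hf⟩ : D.inv) ∈ 𝔪 := hle (Ideal.subset_span ⟨r, x, n, h1, h2⟩)
  rw [← hcomap] at hmem
  exact hf𝔓 hmem

end Data

end Groth.Agent.Helper7.GQ
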