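import Mathlib
import Groth.Agent.Helper7.GQ6
import Groth.Agent.Helper7.FreeDescB

set_option autoImplicit false
set_option linter.unusedSectionVars false
universe u

namespace Groth.Agent.Helper7.GQ

open TensorProduct

/-- a module is finite if multiplication by each member of a partition of unity factors
through a finite free module -/
lemma finite_of_partition {B N : Type*} [CommRing B] [AddCommGroup N] [Module B N]
    {J : Type*} [Fintype J] (b : J → B) (hb : ∑ j, b j = 1)
    (h : ∀ j, ∃ (d : ℕ) (φ : N →ₗ[B] (Fin d → B)) (ψ : (Fin d → B) →ₗ[B] N),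
      ∀ m, ψ (φ m) = b j • m) :
    Module.Finite B N := by
  classical
  choose d φ ψ hψ using h
  let i : N →ₗ[B] (Π j, Fin (d j) → B) := LinearMap.pi φ
  let s : (Π j, Fin (d j) → B) →ₗ[B] N := ∑ j, ψ j ∘ₗ LinearMap.proj j
  refine Module.Finite.of_surjective s fun m => ⟨i m, ?_⟩
  simp [i, s, hψ, ← Finset.sum_smul, hb]

namespace Data

variable {A B : Type u} [CommRing A] [CommRing B] [Algebra A B] (D : Data A B)

attribute [local instance] algInvB

lemma factor_aux {r : ℕ} (x : Fin r → A) {f : A} (hf : f ∈ D.inv) {n : ℕ}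
    (hS : f ^ n ∈ D.sIdeal x) (σ : Fin r → (B →ₗ[A] A))
    (hσ : ∀ i j, σ i (D.t (x j)) = if i = j then f ^ n else 0) (a : A) :
    (∀ i, f ^ (n + n) * σ i (D.t a) ∈ D.inv) ∧
      f ^ (n + (n + n)) * a = ∑ i, (f ^ (n + n) * σ i (D.t a)) * x i := by
  obtain ⟨c, hc, hca⟩ := D.p3a x hf hS (D.mem_dIdeal.2 ⟨σ, hσ⟩) a
  have key : ∀ i, f ^ (n + n) * σ i (D.t a) = f ^ n * c i := by
    intro i
    have h := congrArg (fun y => σ i (D.t y)) hca
    beta_reduce at h
    have hfn : D.t (f ^ (n + n)) = algebraMap A B (f ^ (n + n)) := (D.inv_pow hf _).symm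
    rw [map_mul, hfn, ← Algebra.smul_def, map_smul, smul_eq_mul, map_sum, map_sum] at h
    rw [h, Finset.sum_eq_single i]
    · rw [map_mul, ← hc i, ← Algebra.smul_def, map_smul, hσ, if_pos rfl, smul_eq_mul, mul_comm]
    · intro j _ hji
      rw [map_mul, ← hc j, ← Algebra.smul_def, map_smul, hσ, if_neg (Ne.symm hji), smul_zero]
    · intro hi
      exact absurd (Finset.mem_univ i) hi
  refine ⟨fun i => ?_, ?_⟩
  · rw [key]
    exact D.inv.mul_mem (D.inv_pow hf n) (hc i)
  · rw [pow_add, mul_assoc, hca, Finset.mul_sum]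
    refine Finset.sum_congr rfl fun i _ => ?_
    rw [key, mul_assoc]

/-- `b` trivialises everything -/
def Triv (b : D.inv) : Prop :=
  (∃ (r : ℕ) (φ : A →ₗ[D.inv] (Fin r → D.inv)) (ψ : (Fin r → D.inv) →ₗ[D.inv] A),
      ∀ a, ψ (φ a) = b • a) ∧
    (∀ y : B, ∃ z, D.can z = b • y) ∧ (∀ z, D.can z = 0 → b • z = 0)

lemma Triv.mul {b : D.inv} (h : D.Triv b) (c : D.inv) : D.Triv (c * b) := by
  obtain ⟨⟨r, φ, ψ, h1⟩, h2, h3⟩ := h
  refine ⟨⟨r, c • φ, ψ, fun a => ?_⟩, fun y => ?_, fun z hz => ?_⟩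
  · rw [LinearMap.smul_apply, map_smul, h1, mul_smul]
  · obtain ⟨z, hz⟩ := h2 y
    exact ⟨c • z, by rw [map_smul, hz, mul_smul]⟩
  · rw [mul_smul, h3 z hz, smul_zero]

theorem triv_of_good {f : D.inv} (hf : f ∈ D.good) : ∃ N : ℕ, D.Triv (f ^ N) := by
  obtain ⟨r, x, n, hS, hD⟩ := hf
  obtain ⟨σ, hσ⟩ := D.mem_dIdeal.1 hD
  refine ⟨n + (n + n), ⟨r, ?_⟩, fun y => ?_, fun z hz => ?_⟩
  · have hmem := fun a => (D.factor_aux x f.2 hS σ hσ a).1
    let φ : A →ₗ[D.inv] (Fin r → D.inv) :=
      { toFun := fun a i => ⟨(f : A) ^ (n + n) * σ i (D.t a), hmem a i⟩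
        map_add' := by
          intro a a'
          funext i
          apply Subtype.ext
          simp [mul_add]
        map_smul' := by
          intro c a
          funext i
          apply Subtype.ext
          have h1 : D.t ((c : A) * a) = (c : A) • D.t a := by
            rw [map_mul, ← (c.2 : algebraMap A B c = D.t c), Algebra.smul_def]
          change (f : A) ^ (n + n) * σ i (D.t ((c : A) * a)) =
            (c : A) * ((f : A) ^ (n + n) * σ i (D.t a))
          rw [h1, map_smul, smul_eq_mul]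
          ring }
    refine ⟨φ, Fintype.linearCombination D.inv x, fun a => ?_⟩
    rw [Fintype.linearCombination_apply]
    have h2 := (D.factor_aux x f.2 hS σ hσ a).2
    change _ = ((f ^ (n + (n + n)) : D.inv) : A) * a
    rw [Subring.coe_pow, h2]
    rfl
  · obtain ⟨z, hz⟩ := D.p3c_surj x hS y
    refine ⟨(f ^ (n + n)) • z, ?_⟩
    have h3 : algebraMap A B ((f : A) ^ n) * y = (f ^ n) • y := by
      rw [Algebra.smul_def]
      rfl
    have h4 : (f ^ (n + (n + n)) : D.inv) • y = (f ^ (n + n)) • ((f ^ n) • y) := by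
      rw [← mul_smul, ← pow_add]
      congr 2
      ring
    rw [h4, ← h3, ← hz, map_smul]
  · have h := D.p3c_inj x f.2 hS hD z hz
    rw [show n + (n + n) = n + n + n by ring]
    exact h

/-- the conclusion of the ring-level free quotient theorem -/
theorem main_of_span (hspan : Ideal.span D.good = ⊤) :
    Module.Finite D.inv A ∧ Module.Projective D.inv A ∧ Function.Bijective D.can := by
  classical
  -- the trivialising elements generate the unit ideal
  have hT : Ideal.span {b : D.inv | D.Triv b} = ⊤ := by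
    by_contra hne
    obtain ⟨𝔪, h𝔪, hle⟩ := Ideal.exists_le_maximal _ hne
    have h1 : Ideal.span D.good ≤ 𝔪 := by
      refine Ideal.span_le.2 fun f hf => ?_
      obtain ⟨N, hN⟩ := D.triv_of_good hf
      exact h𝔪.isPrime.mem_of_pow_mem N (hle (Ideal.subset_span hN))
    rw [hspan] at h1
    exact h𝔪.ne_top (top_le_iff.1 h1)
  obtain ⟨F, hF, hFtop⟩ := (Ideal.span_eq_top_iff_finite _).1 hT
  have h1 : (1 : D.inv) ∈ Ideal.span (Set.range fun j : F => (j : D.inv)) := by
    rw [Subtype.range_coe_subtype]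
    change (1 : D.inv) ∈ Ideal.span (F : Set D.inv)
    rw [hFtop]
    trivial
  obtain ⟨c, hc⟩ := (Submodule.mem_span_range_iff_exists_fun _).1 h1
  let b : F → D.inv := fun j => c j * j
  have hb : ∑ j, b j = 1 := hc
  have hTb : ∀ j, D.Triv (b j) := fun j => (hF j.2 : D.Triv j).mul D (c j)
  have hbA : ∀ a : A, a = ∑ j, b j • a := fun a => by rw [← Finset.sum_smul, hb, one_smul]
  refine ⟨finite_of_partition b hb fun j => (hTb j).1,
    FreeDescB.projective_of_partition b hb fun j => (hTb j).1, ?_, ?_⟩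
  · rw [injective_iff_map_eq_zero]
    intro z hz
    have h2 : z = ∑ j, b j • z := by rw [← Finset.sum_smul, hb, one_smul]
    rw [h2]
    exact Finset.sum_eq_zero fun j _ => (hTb j).2.2 z hz
  · intro y
    have h2 : y = ∑ j, b j • y := by rw [← Finset.sum_smul, hb, one_smul]
    choose z hz using fun j => (hTb j).2.1 y
    refine ⟨∑ j, z j, ?_⟩
    rw [map_sum, h2]
    exact Finset.sum_congr rfl fun j _ => hz j

variable [Module.Finite A B] [Module.Projective A B]
  [Module.Finite A (Via D.t)] [Module.Projective A (Via D.t)]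

theorem main (hnrm : D.HasNrm) [Algebra.IsIntegral D.inv A] :
    Module.Finite D.inv A ∧ Module.Projective D.inv A ∧ Function.Bijective D.can :=
  D.main_of_span (D.span_good hnrm)

end Data

end Groth.Agent.Helper7.GQ
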