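import Mathlib
import Groth.Prelude.Def_Grpd
import Groth.Agent.Helper7.GQ7
import Groth.Agent.Helper8.GrpdQuot

set_option autoImplicit false
universe u

namespace Groth.Agent.Helper7.GQ8

open CategoryTheory CategoryTheory.Limits AlgebraicGeometry Grpd TensorProduct
open Groth.Agent.Helper7.GQ Groth.Agent.Helper8

variable {S : Scheme.{u}} (G : Grpd.GroupoidScheme S)

/-- `Γ(R)` as a `Γ(U)`-algebra through `s♯` -/
@[reducible] noncomputable def algS : Algebra Γ(G.U, ⊤) Γ(G.R, ⊤) := G.s.appTop.hom.toAlgebra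

attribute [local instance] algS

lemma appTop_comp_apply {X Y Z : Scheme.{u}} (f : X ⟶ Y) (g : Y ⟶ Z) (a : Γ(Z, ⊤)) :
    f.appTop.hom (g.appTop.hom a) = (f ≫ g).appTop.hom a := by
  rw [Scheme.Hom.comp_appTop]
  rfl

lemma id_appTop_apply {X : Scheme.{u}} (a : Γ(X, ⊤)) : (𝟙 X : X ⟶ X).appTop.hom a = a := by
  simp

/-- `b ↦ 1 ⊗ b` -/
noncomputable def inR : Γ(G.R, ⊤) →+* (Γ(G.R, ⊤) ⊗[Γ(G.U, ⊤)] Via G.t.appTop.hom) :=
  (Algebra.TensorProduct.includeRight :
    Via G.t.appTop.hom →ₐ[Γ(G.U, ⊤)] (Γ(G.R, ⊤) ⊗[Γ(G.U, ⊤)] Via G.t.appTop.hom)).toRingHom.comp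
    (toVia G.t.appTop.hom).toRingHom

/-- `b ↦ b ⊗ 1` -/
noncomputable def inL : Γ(G.R, ⊤) →+* (Γ(G.R, ⊤) ⊗[Γ(G.U, ⊤)] Via G.t.appTop.hom) :=
  Algebra.TensorProduct.includeLeftRingHom

lemma inR_apply (b : Γ(G.R, ⊤)) : inR G b = (1 : Γ(G.R, ⊤)) ⊗ₜ[Γ(G.U, ⊤)] toVia G.t.appTop.hom b := rfl

lemma inL_apply (b : Γ(G.R, ⊤)) : inL G b = b ⊗ₜ[Γ(G.U, ⊤)] (1 : Via G.t.appTop.hom) := rfl

lemma inR_t (a : Γ(G.U, ⊤)) : inR G (G.t.appTop.hom a) = inL G (G.s.appTop.hom a) := by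
  rw [inR_apply, inL_apply]
  have h1 : G.s.appTop.hom a = a • (1 : Γ(G.R, ⊤)) := by
    rw [Algebra.smul_def, mul_one]
    rfl
  have h2 : toVia G.t.appTop.hom (G.t.appTop.hom a) = a • (1 : Via G.t.appTop.hom) := by
    rw [smul_via, mul_one]
  rw [h1, h2, TensorProduct.smul_tmul]

variable [IsAffine G.U] [IsAffine G.R]

/-- the comparison `Γ(R ×_{s,U,t} R) → Γ(R) ⊗ Γ(R)` -/
noncomputable def descHom : Γ(pullback G.s G.t, ⊤) ⟶
    CommRingCat.of (Γ(G.R, ⊤) ⊗[Γ(G.U, ⊤)] Via G.t.appTop.hom) :=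
  (GrpdNormA.isPushout₁ G).desc (CommRingCat.ofHom (inR G)) (CommRingCat.ofHom (inL G)) (by
    ext a
    exact inR_t G a)

lemma descHom_snd (b : Γ(G.R, ⊤)) :
    (descHom G).hom ((pullback.snd G.s G.t).appTop.hom b) = inR G b := by
  have h := (GrpdNormA.isPushout₁ G).inl_desc (CommRingCat.ofHom (inR G))
    (CommRingCat.ofHom (inL G)) (by ext a; exact inR_t G a)
  exact congrArg (fun φ => φ.hom b) h

lemma descHom_fst (b : Γ(G.R, ⊤)) :
    (descHom G).hom ((pullback.fst G.s G.t).appTop.hom b) = inL G b := by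
  have h := (GrpdNormA.isPushout₁ G).inr_desc (CommRingCat.ofHom (inR G))
    (CommRingCat.ofHom (inL G)) (by ext a; exact inR_t G a)
  exact congrArg (fun φ => φ.hom b) h


section Gen

/-- the ring map `Γ(U) ⊗_ℤ Γ(U) → Γ(R)`, `a ⊗ a' ↦ s a * t a'` -/
noncomputable def mHom : (Γ(G.U, ⊤) ⊗[ℤ] Γ(G.U, ⊤)) →+* Γ(G.R, ⊤) :=
  (Algebra.TensorProduct.productMap G.s.appTop.hom.toIntAlgHom
    G.t.appTop.hom.toIntAlgHom).toRingHom

lemma mHom_tmul (a a' : Γ(G.U, ⊤)) :
    mHom G (a ⊗ₜ[ℤ] a') = G.s.appTop.hom a * G.t.appTop.hom a' := by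
  simp [mHom]

lemma epi_mHom [Mono G.j] : Epi (CommRingCat.ofHom (mHom G)) := by
  refine ⟨fun {W} g₁ g₂ h => ?_⟩
  have hs : G.s.appTop ≫ g₁ = G.s.appTop ≫ g₂ := by
    ext a
    have h1 := congrArg (fun φ => φ.hom (a ⊗ₜ[ℤ] (1 : Γ(G.U, ⊤)))) h
    simpa [mHom_tmul] using h1
  have ht : G.t.appTop ≫ g₁ = G.t.appTop ≫ g₂ := by
    ext a
    have h1 := congrArg (fun φ => φ.hom ((1 : Γ(G.U, ⊤)) ⊗ₜ[ℤ] a)) h
    simpa [mHom_tmul] using h1
  have key : (Spec.map g₁ ≫ G.R.isoSpec.inv) ≫ G.j = (Spec.map g₂ ≫ G.R.isoSpec.inv) ≫ G.j := by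
    apply pullback.hom_ext
    · simp only [Category.assoc, GroupoidScheme.j, pullback.lift_fst]
      rw [← Scheme.isoSpec_inv_naturality, ← Category.assoc, ← Category.assoc, ← Spec.map_comp,
        ← Spec.map_comp, ht]
    · simp only [Category.assoc, GroupoidScheme.j, pullback.lift_snd]
      rw [← Scheme.isoSpec_inv_naturality, ← Category.assoc, ← Category.assoc, ← Spec.map_comp,
        ← Spec.map_comp, hs]
  have h2 := (cancel_mono G.j).1 key
  rw [cancel_mono] at h2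
  exact Spec.map_injective h2

lemma mHom_surjective [IsFinite G.s] [Mono G.j] : Function.Surjective (mHom G) := by
  haveI := epi_mHom G
  have hfin : (mHom G).Finite := by
    have h1 : ((mHom G).comp (Algebra.TensorProduct.includeLeftRingHom)).Finite := by
      have h2 : (mHom G).comp (Algebra.TensorProduct.includeLeftRingHom) = G.s.appTop.hom := by
        ext a
        simp [mHom_tmul]
      rw [h2]
      exact Scheme.Hom.finite_appTop G.s
    exact RingHom.Finite.of_comp_finite h1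
  exact RingHom.surjective_of_epi_of_finite (CommRingCat.ofHom (mHom G)) hfin

lemma span_range_t [IsFinite G.s] [Mono G.j] :
    Submodule.span Γ(G.U, ⊤) (Set.range G.t.appTop.hom) = (⊤ : Submodule Γ(G.U, ⊤) Γ(G.R, ⊤)) := by
  rw [eq_top_iff]
  rintro b -
  obtain ⟨z, rfl⟩ := mHom_surjective G b
  induction z using TensorProduct.induction_on with
  | zero => rw [map_zero]; exact Submodule.zero_mem _
  | tmul a a' =>
    rw [mHom_tmul]
    have : G.s.appTop.hom a * G.t.appTop.hom a' = a • G.t.appTop.hom a' := by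
      rw [Algebra.smul_def]
      rfl
    rw [this]
    exact Submodule.smul_mem _ _ (Submodule.subset_span ⟨a', rfl⟩)
  | add z₁ z₂ h₁ h₂ =>
    rw [map_add]
    exact Submodule.add_mem _ h₁ h₂

end Gen


section DataDef

variable [IsFinite G.s] [Mono G.j]

/-- the ring-level groupoid data of an affine groupoid scheme -/
noncomputable def grpdData : Data Γ(G.U, ⊤) Γ(G.R, ⊤) where
  t := G.t.appTop.hom
  e := G.e.appTop.hom
  i := G.i.appTop.hom
  c := (descHom G).hom.comp G.c.appTop.hom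
  e_s a := by
    change G.e.appTop.hom (G.s.appTop.hom a) = a
    rw [appTop_comp_apply, G.e_s, id_appTop_apply]
  e_t a := by
    rw [appTop_comp_apply, G.e_t, id_appTop_apply]
  i_s a := by
    change G.i.appTop.hom (G.s.appTop.hom a) = _
    rw [appTop_comp_apply, G.i_s]
  i_t a := by
    change G.i.appTop.hom (G.t.appTop.hom a) = G.s.appTop.hom a
    rw [appTop_comp_apply, G.i_t]
  c_t a := by
    change (descHom G).hom (G.c.appTop.hom (G.t.appTop.hom a)) = _
    rw [← GrpdNormA.fst_t_eq_c_t, descHom_fst]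
    rfl
  c_s a := by
    change (descHom G).hom (G.c.appTop.hom (G.s.appTop.hom a)) = _
    rw [appTop_comp_apply, Groth.Agent.Helper2.Grpd1.c_s, ← appTop_comp_apply, descHom_snd]
    rfl
  gen := span_range_t G

@[simp] lemma grpdData_t : (grpdData G).t = G.t.appTop.hom := rfl

lemma grpdData_inv : (grpdData G).inv = G.invariants := rfl

end DataDef

end Groth.Agent.Helper7.GQ8
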