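import Mathlib
import Groth.Prelude.Def_Grpd
import Groth.Agent.Helper7.GQ8

set_option autoImplicit false
universe u

namespace Groth.Agent.Helper7.GQ

open CategoryTheory CategoryTheory.Limits TensorProduct

namespace Data

variable {A B : Type u} [CommRing A] [CommRing B] [Algebra A B] (D : Data A B)

attribute [local instance] algInvB

/-- if `can` is bijective, `B` is the pushout of `A ← C → A` -/
theorem isPushout_of_bijective (hbij : Function.Bijective D.can) :
    IsPushout (CommRingCat.ofHom (algebraMap D.inv A)) (CommRingCat.ofHom (algebraMap D.inv A))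
      (CommRingCat.ofHom D.t) (CommRingCat.ofHom (algebraMap A B)) := by
  let e : (A ⊗[D.inv] A) ≃+* B := RingEquiv.ofBijective D.can.toRingHom hbij
  refine (CommRingCat.isPushout_tensorProduct D.inv A A).of_iso (Iso.refl _) (Iso.refl _)
    (Iso.refl _) e.toCommRingCatIso (by simp) (by simp) ?_ ?_
  · ext a
    change D.can (a ⊗ₜ[D.inv] (1 : A)) = D.t a
    rw [can_tmul, map_one, mul_one]
  · ext a
    change D.can ((1 : A) ⊗ₜ[D.inv] a) = algebraMap A B a
    rw [can_tmul, map_one, one_mul]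

end Data

end Groth.Agent.Helper7.GQ

namespace Groth.Agent.Helper7.GQ8

open CategoryTheory CategoryTheory.Limits AlgebraicGeometry Grpd TensorProduct
open Groth.Agent.Helper7.GQ Groth.Agent.Helper8

variable {S : Scheme.{u}} (G : Grpd.GroupoidScheme S)

attribute [local instance] algS

variable [IsAffine G.U] [IsAffine G.R]

section Hyp

variable [IsFinite G.s] [Flat G.s] [LocallyOfFinitePresentation G.s] [Mono G.j]

theorem hasNrm : (grpdData G).HasNrm := by
  intro g
  letI : Algebra Γ(G.R, ⊤) Γ(pullback G.s G.t, ⊤) := (pullback.snd G.s G.t).appTop.hom.toAlgebra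
  haveI : Module.Finite Γ(G.U, ⊤) Γ(G.R, ⊤) := GrpdNormA.finite_s G
  haveI : Module.Projective Γ(G.U, ⊤) Γ(G.R, ⊤) := GrpdNormA.projective_s G
  obtain ⟨n, F, Gm, -, -, hFG⟩ := Module.Finite.exists_comp_eq_id_of_projective Γ(G.U, ⊤) Γ(G.R, ⊤)
  refine ⟨PNorm.nrm F Gm (G.t.appTop.hom g), ?_, fun 𝔭 h𝔭 => ⟨?_, ?_⟩⟩
  · have := (PNorm.invariance_core (A := Γ(G.U, ⊤)) (B := Γ(G.R, ⊤)) (P := Γ(pullback G.s G.t, ⊤))
      G.t.appTop.hom (pullback.fst G.s G.t).appTop.hom G.c.appTop.hom (GrpdNormA.isPushout₁ G)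
      (GrpdNormA.isPushout₂ G) F Gm hFG (G.t.appTop.hom g) (GrpdNormA.fst_t_eq_c_t G g)).2
    exact this.symm
  · intro hf 𝔮 h𝔮 h𝔮𝔭 hg
    exact hf (PNorm.nrm_mem_of_mem F Gm hFG 𝔭 𝔮 h𝔮𝔭 _ hg)
  · intro hall hf
    obtain ⟨q, hq, hqp, hhq⟩ := PNorm.exists_prime_of_nrm_mem F Gm hFG 𝔭 (G.t.appTop.hom g) hf
    exact hall q hq hqp hhq

end Hyp

variable [IsFinite G.s] [Flat G.s] [LocallyOfFinitePresentation G.s]
  [IsFinite G.t] [Flat G.t] [LocallyOfFinitePresentation G.t] [Mono G.j]

theorem finite_via_t : Module.Finite Γ(G.U, ⊤) (Via (grpdData G).t) :=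
  Scheme.Hom.finite_appTop G.t

theorem projective_via_t : Module.Projective Γ(G.U, ⊤) (Via (grpdData G).t) := by
  letI : Algebra Γ(G.U, ⊤) Γ(G.R, ⊤) := G.t.appTop.hom.toAlgebra
  haveI : Module.Finite Γ(G.U, ⊤) Γ(G.R, ⊤) := Scheme.Hom.finite_appTop G.t
  haveI : Module.Flat Γ(G.U, ⊤) Γ(G.R, ⊤) := Scheme.Hom.flat_appTop G.t
  haveI : Algebra.FinitePresentation Γ(G.U, ⊤) Γ(G.R, ⊤) := Scheme.Hom.finitePresentation_appTop G.t
  haveI : Module.FinitePresentation Γ(G.U, ⊤) Γ(G.R, ⊤) :=
    Module.FinitePresentation.of_finite_of_finitePresentation _ _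
  exact (Module.Flat.projective_of_finitePresentation : Module.Projective Γ(G.U, ⊤) Γ(G.R, ⊤))

/-- the ring-level conclusion for the groupoid scheme -/
theorem ring_main : Module.Finite G.invariants Γ(G.U, ⊤) ∧ Module.Projective G.invariants Γ(G.U, ⊤) ∧
    Function.Bijective (grpdData G).can := by
  haveI : Module.Finite Γ(G.U, ⊤) Γ(G.R, ⊤) := GrpdNormA.finite_s G
  haveI : Module.Projective Γ(G.U, ⊤) Γ(G.R, ⊤) := GrpdNormA.projective_s G
  haveI := finite_via_t G
  haveI := projective_via_t G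
  haveI : Algebra.IsIntegral (grpdData G).inv Γ(G.U, ⊤) := GrpdNormA.isIntegral G
  exact (grpdData G).main (hasNrm G)

theorem isPushout_inv : IsPushout (CommRingCat.ofHom G.invariants.subtype)
    (CommRingCat.ofHom G.invariants.subtype) G.t.appTop G.s.appTop :=
  (grpdData G).isPushout_of_bijective (ring_main G).2.2

theorem isPullback_toQuot : IsPullback G.t G.s G.toQuot G.toQuot := by
  have h := isPullback_SpecMap_of_isPushout _ _ _ _ (isPushout_inv G)
  refine h.of_iso G.R.isoSpec.symm G.U.isoSpec.symm G.U.isoSpec.symm (Iso.refl _) ?_ ?_ ?_ ?_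
  · exact Scheme.isoSpec_inv_naturality G.t
  · exact Scheme.isoSpec_inv_naturality G.s
  · simp [GroupoidScheme.toQuot, Scheme.isoSpec]
  · simp [GroupoidScheme.toQuot, Scheme.isoSpec]

theorem main : (IsFinite G.toQuot ∧ Flat G.toQuot ∧ LocallyOfFinitePresentation G.toQuot) ∧
    ∃ φ : G.R ≅ pullback G.toQuot G.toQuot,
      φ.hom ≫ pullback.fst G.toQuot G.toQuot = G.t ∧
        φ.hom ≫ pullback.snd G.toQuot G.toQuot = G.s := by
  obtain ⟨hfin, hproj, -⟩ := ring_main G
  refine ⟨?_, (isPullback_toQuot G).isoPullback, (isPullback_toQuot G).isoPullback_hom_fst,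
    (isPullback_toQuot G).isoPullback_hom_snd⟩
  have hfp : Module.FinitePresentation G.invariants Γ(G.U, ⊤) :=
    Module.finitePresentation_of_projective _ _
  have hflat : Module.Flat G.invariants Γ(G.U, ⊤) := inferInstance
  have hafp : Algebra.FinitePresentation G.invariants Γ(G.U, ⊤) := inferInstance
  unfold GroupoidScheme.toQuot
  refine ⟨?_, ?_, ?_⟩
  · rw [MorphismProperty.cancel_left_of_respectsIso @IsFinite, IsFinite.SpecMap_iff]
    exact RingHom.finite_algebraMap.2 hfin
  · rw [MorphismProperty.cancel_left_of_respectsIso @Flat, Flat.SpecMap_iff]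
    exact RingHom.flat_algebraMap_iff.2 hflat
  · rw [MorphismProperty.cancel_left_of_respectsIso @LocallyOfFinitePresentation,
      LocallyOfFinitePresentation.SpecMap_iff]
    exact RingHom.finitePresentation_algebraMap.2 hafp

end Groth.Agent.Helper7.GQ8
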