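import Groth.Agent.Helper7.CKO4
import Groth.Agent.Helper2.CplQuot
import Groth.Prelude.Def_Pi1
set_option linter.style.haveILetI false
set_option linter.unusedSectionVars false
set_option linter.unusedVariables false
set_option autoImplicit false
open IsLocalRing RingTheory.Sequence
universe u
namespace Groth.Agent.Helper7.CKd
open Groth.Agent.Helper5.CIP Groth.Agent.Helper2.CplMap

section PI

/-- a regular local ring has a regular local completion. -/
theorem isRegularLocalRing_cpl (R : Type u) [CommRing R] [IsRegularLocalRing R] :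
    IsRegularLocalRing (AdicCompletion (maximalIdeal R) R) :=
  (Groth.Agent.S0548.result R).mp inferInstance

/-- generation by a regular sequence of the kernel of a surjection onto a complete local ring
can be tested after completing the source. -/
theorem genReg_ker_cplLift_iff (R T : Type u) [CommRing R] [CommRing T] [IsRegularLocalRing R]
    [IsLocalRing T] [IsNoetherianRing T] [IsAdicComplete (maximalIdeal T) T] [Algebra R T]
    [IsLocalHom (algebraMap R T)] (h : Function.Surjective (algebraMap R T)) :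
    GenReg (RingHom.ker (cplLift R T)) ↔ GenReg (RingHom.ker (algebraMap R T)) := by
  haveI := isRegularLocalRing_cpl R
  have hs := cplLift_surjective R T h
  have hne1 : RingHom.ker (cplLift R T) ≠ ⊤ := RingHom.ker_ne_top _
  have hne2 : RingHom.ker (algebraMap R T) ≠ ⊤ := RingHom.ker_ne_top _
  rw [genReg_iff_dim _ hne1, genReg_iff_dim _ hne2,
    ringKrullDim_eq_of_ringEquiv (RingHom.quotientKerEquivOfSurjective hs),
    ringKrullDim_eq_of_ringEquiv (RingHom.quotientKerEquivOfSurjective h),
    Groth.Agent.S0547.result R, ker_cplLift R T h, spanFinrank_map_cpl]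

/-- **presentation independence**: for two surjections from regular local rings onto a complete
Noetherian local ring, the kernels are simultaneously generated by regular sequences. -/
theorem genReg_ker_of_complete_target {R₁ R₂ T : Type u} [CommRing R₁] [CommRing R₂] [CommRing T]
    [IsRegularLocalRing R₁] [IsRegularLocalRing R₂] [IsLocalRing T] [IsNoetherianRing T]
    [IsAdicComplete (maximalIdeal T) T]
    (π₁ : R₁ →+* T) (π₂ : R₂ →+* T) (hπ₁ : Function.Surjective π₁)
    (hπ₂ : Function.Surjective π₂) (h : GenReg (RingHom.ker π₂)) : GenReg (RingHom.ker π₁) := by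
  letI a1 : Algebra R₁ T := π₁.toAlgebra
  letI a2 : Algebra R₂ T := π₂.toAlgebra
  haveI : IsLocalHom (algebraMap R₁ T) := IsLocalHom.of_surjective π₁ hπ₁
  haveI : IsLocalHom (algebraMap R₂ T) := IsLocalHom.of_surjective π₂ hπ₂
  haveI := isRegularLocalRing_cpl R₁
  haveI := isRegularLocalRing_cpl R₂
  have h2 : GenReg (RingHom.ker (cplLift R₂ T)) := (genReg_ker_cplLift_iff R₂ T hπ₂).mpr h
  have h1 := genReg_ker_complete (cplLift R₁ T) (cplLift R₂ T) (cplLift_surjective R₁ T hπ₁)
    (cplLift_surjective R₂ T hπ₂) h2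
  exact (genReg_ker_cplLift_iff R₁ T hπ₁).mp h1

end PI

section CI

theorem ker_equiv_comp_mk {B S : Type u} [CommRing B] [CommRing S] (I : Ideal B)
    (e : (B ⧸ I) ≃+* S) : RingHom.ker (e.toRingHom.comp (Ideal.Quotient.mk I)) = I := by
  ext x
  rw [RingHom.mem_ker, RingHom.comp_apply]
  constructor
  · intro hx
    have : Ideal.Quotient.mk I x = 0 := e.injective (by rw [map_zero]; exact hx)
    exact Ideal.Quotient.eq_zero_iff_mem.mp this
  · intro hx
    rw [Ideal.Quotient.eq_zero_iff_mem.mpr hx, map_zero]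

theorem equiv_comp_mk_surjective {B S : Type u} [CommRing B] [CommRing S] (I : Ideal B)
    (e : (B ⧸ I) ≃+* S) : Function.Surjective (e.toRingHom.comp (Ideal.Quotient.mk I)) :=
  e.surjective.comp Ideal.Quotient.mk_surjective

/-- for a presentation `Â ≅ B/I` with `B` regular local: `A` is a complete intersection iff
`I` is generated by a regular sequence. -/
theorem isCI_iff_genReg (A : Type u) [CommRing A] [IsLocalRing A] [IsNoetherianRing A]
    (B : Type u) [CommRing B] [IsRegularLocalRing B] (I : Ideal B)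
    (e : AdicCompletion (maximalIdeal A) A ≃+* B ⧸ I) :
    Pi1.IsCompleteIntersection A ↔ GenReg I := by
  haveI : IsNoetherianRing (AdicCompletion (maximalIdeal A) A) := Groth.Agent.S0543.result A _
  have hI : I ≠ ⊤ := by
    intro h
    haveI : Subsingleton (B ⧸ I) := by rw [h]; exact Ideal.Quotient.subsingleton_iff.mpr rfl
    haveI := e.toEquiv.subsingleton
    exact not_subsingleton (AdicCompletion (maximalIdeal A) A) inferInstance
  constructor
  · rintro ⟨B', _, _, rs, hmem, hreg, ⟨e'⟩⟩
    have h2 : GenReg (RingHom.ker (e'.symm.toRingHom.comp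
        (Ideal.Quotient.mk (Ideal.ofList rs)))) := by
      rw [ker_equiv_comp_mk]
      exact ⟨rs, rfl, hreg⟩
    have h1 := genReg_ker_of_complete_target
      (e.symm.toRingHom.comp (Ideal.Quotient.mk I))
      (e'.symm.toRingHom.comp (Ideal.Quotient.mk (Ideal.ofList rs)))
      (equiv_comp_mk_surjective _ _) (equiv_comp_mk_surjective _ _) h2
    rwa [ker_equiv_comp_mk] at h1
  · rintro ⟨rs, hrs, hreg⟩
    refine ⟨B, inferInstance, inferInstance, rs, genReg_ne_top_mem hI hrs, hreg, ⟨?_⟩⟩
    exact e.trans (Ideal.quotEquivOfEq hrs.symm)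

theorem s2169 {A R : Type u} [CommRing A] [CommRing R]
    [IsNoetherianRing A] [IsLocalRing A] [IsAdicComplete (IsLocalRing.maximalIdeal A) A]
    [IsRegularLocalRing R] (f : R →+* A) (hf : Function.Surjective f)
    (hA : Pi1.IsCompleteIntersection A) :
    ∃ rs : List R, Ideal.ofList rs = RingHom.ker f ∧ RingTheory.Sequence.IsRegular R rs := by
  let e0 : A ≃+* AdicCompletion (maximalIdeal A) A :=
    (AdicCompletion.ofAlgEquiv (maximalIdeal A)).toRingEquiv
  let e : AdicCompletion (maximalIdeal A) A ≃+* R ⧸ RingHom.ker f :=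
    e0.symm.trans (RingHom.quotientKerEquivOfSurjective hf).symm
  exact (isCI_iff_genReg A R (RingHom.ker f) e).mp hA

theorem s5178 (A : Type u) [CommRing A] [IsLocalRing A] [IsNoetherianRing A] (B : Type u)
    [CommRing B] [IsRegularLocalRing B] (I : Ideal B)
    (hpres : Nonempty (AdicCompletion (IsLocalRing.maximalIdeal A) A ≃+* B ⧸ I)) (d e : ℕ)
    (hd : ringKrullDim A = (d : WithBot ℕ∞)) (he : ringKrullDim B = (e : WithBot ℕ∞)) :
    (e : ℤ) - (I.spanFinrank : ℤ) ≤ (d : ℤ) ∧
      ((e : ℤ) - (I.spanFinrank : ℤ) = (d : ℤ) ↔ Pi1.IsCompleteIntersection A) := by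
  obtain ⟨ε⟩ := hpres
  haveI : IsNoetherianRing (AdicCompletion (maximalIdeal A) A) := Groth.Agent.S0543.result A _
  have hI : I ≠ ⊤ := by
    intro h
    haveI : Subsingleton (B ⧸ I) := by rw [h]; exact Ideal.Quotient.subsingleton_iff.mpr rfl
    haveI := ε.toEquiv.subsingleton
    exact not_subsingleton (AdicCompletion (maximalIdeal A) A) inferInstance
  have hdim : ringKrullDim (B ⧸ I) = (d : WithBot ℕ∞) := by
    rw [← ringKrullDim_eq_of_ringEquiv ε, Groth.Agent.S0547.result, hd]
  have hk := dim_le_dim_quot_add_spanFinrank I hI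
  rw [he, hdim] at hk
  have hk' : e ≤ d + I.spanFinrank := by exact_mod_cast hk
  refine ⟨by omega, ?_⟩
  rw [isCI_iff_genReg A B I ε, genReg_iff_dim I hI, hdim, he]
  constructor
  · intro h
    have : d + I.spanFinrank ≤ e := by omega
    exact_mod_cast this
  · intro h
    have : d + I.spanFinrank ≤ e := by exact_mod_cast h
    omega

theorem s2166 {R : Type u} [CommRing R] [IsRegularLocalRing R]
    (I : Ideal R) (hI : I ≠ ⊤) [IsLocalRing (R ⧸ I)] :
    Pi1.IsCompleteIntersection (R ⧸ I) ↔
      ∃ rs : List R, Ideal.ofList rs = I ∧ RingTheory.Sequence.IsRegular R rs := by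
  change _ ↔ GenReg I
  haveI : Nontrivial (R ⧸ I) := Ideal.Quotient.nontrivial_iff.mpr hI
  haveI := isRegularLocalRing_cpl R
  have hker : RingHom.ker (ψ R (R ⧸ I)) =
      I.map (algebraMap R (AdicCompletion (maximalIdeal R) R)) := by
    apply le_antisymm (Groth.Agent.Helper2.CplQuot.ker_ψ_le R I)
    rw [Ideal.map_le_iff_le_comap]
    intro a ha
    rw [Ideal.mem_comap, RingHom.mem_ker]
    have h1 := RingHom.congr_fun (ψ_comp R (R ⧸ I)) a
    rw [RingHom.comp_apply, RingHom.comp_apply] at h1
    rw [h1]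
    have h2 : algebraMap R (R ⧸ I) a = 0 := Ideal.Quotient.eq_zero_iff_mem.mpr ha
    rw [h2, map_zero]
  let e : AdicCompletion (maximalIdeal (R ⧸ I)) (R ⧸ I) ≃+*
      AdicCompletion (maximalIdeal R) R ⧸
        I.map (algebraMap R (AdicCompletion (maximalIdeal R) R)) :=
    (RingHom.quotientKerEquivOfSurjective
      (Groth.Agent.Helper2.CplQuot.ψ_surjective R I)).symm.trans (Ideal.quotEquivOfEq hker)
  rw [isCI_iff_genReg (R ⧸ I) (AdicCompletion (maximalIdeal R) R) _ e]
  haveI : IsNoetherianRing (AdicCompletion (maximalIdeal (R ⧸ I)) (R ⧸ I)) :=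
    Groth.Agent.S0543.result _ _
  have hÎ : I.map (algebraMap R (AdicCompletion (maximalIdeal R) R)) ≠ ⊤ := by
    intro h
    haveI : Subsingleton (AdicCompletion (maximalIdeal R) R ⧸
        I.map (algebraMap R (AdicCompletion (maximalIdeal R) R))) := by
      rw [h]; exact Ideal.Quotient.subsingleton_iff.mpr rfl
    haveI := e.toEquiv.subsingleton
    exact not_subsingleton (AdicCompletion (maximalIdeal (R ⧸ I)) (R ⧸ I)) inferInstance
  rw [genReg_iff_dim _ hÎ, genReg_iff_dim I hI, ← ringKrullDim_eq_of_ringEquiv e,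
    Groth.Agent.S0547.result (R ⧸ I), Groth.Agent.S0547.result R, spanFinrank_map_cpl]

end CI

end Groth.Agent.Helper7.CKd
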