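import Mathlib
import Groth.Prelude.Def_HopfRep
import Groth.Prelude.Def_GLin
import Groth.Agent.Helper8.HopfNorm
import Groth.Agent.Helper7.HullS2

/-!
# Finite group scheme quotients: the coaction is integral, norms
-/

set_option autoImplicit false
universe u

namespace Groth.Agent.Helper7.InvHt

open TensorProduct Groth.Agent.Helper8.HopfNorm

section general

lemma height_le_comap_of_isIntegral {R S : Type*} [CommRing R] [CommRing S] (f : R →+* S)
    (hf : f.IsIntegral) (Q : Ideal S) [Q.IsPrime] : Q.height ≤ (Q.comap f).height := by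
  letI := f.toAlgebra
  haveI : Algebra.IsIntegral R S := ⟨hf⟩
  exact Groth.Agent.Helper7.HullS2.height_le_comap (R := R) Q

lemma height_comap_eq_of_flat_integral {R S : Type*} [CommRing R] [CommRing S] [Algebra R S]
    [IsNoetherianRing R] [IsNoetherianRing S] [Module.Flat R S] [Algebra.IsIntegral R S]
    (Q : Ideal S) [Q.IsPrime] :
    Q.height = (Q.comap (algebraMap R S)).height := by
  refine le_antisymm (Groth.Agent.Helper7.HullS2.height_le_comap Q) ?_
  haveI : Q.LiesOver (Q.comap (algebraMap R S)) := ⟨rfl⟩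
  rw [Ideal.height_eq_height_add_of_liesOver_of_hasGoingDown (Q.comap (algebraMap R S)) Q]
  exact le_self_add

/-- the constant coefficient of a polynomial with root `x` is a multiple of `x` -/
lemma dvd_coeff_zero_of_eval_eq_zero {R : Type*} [CommRing R] (p : Polynomial R) (x : R)
    (h : p.eval x = 0) : x ∣ p.coeff 0 := by
  have h1 := Polynomial.divX_mul_X_add p
  have h2 := congrArg (Polynomial.eval x) h1
  rw [Polynomial.eval_add, Polynomial.eval_mul, Polynomial.eval_X, Polynomial.eval_C, h] at h2
  refine ⟨-(p.divX.eval x), ?_⟩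
  linear_combination h2

end general

section hopf

variable (k : Type u) [Field k] (H : Type u) [CommRing H] [HopfAlgebra k H] [Module.Finite k H]
  (R : Type u) [CommRing R] [Algebra k R] [HopfRep.Comod k H R] [GLin.IsCoactAlg k H R]

omit [Module.Finite k H] in
lemma coact_of_mem {a : R} (ha : a ∈ GLin.invariants k H R) :
    GLin.coactAlgHom k H R a = ii k H R a := by
  rw [GLin.coactAlgHom_apply, (GLin.mem_invariants_iff k H R a).mp ha]
  rfl

/-- the coaction `R → R ⊗ H` is an integral ring map -/
theorem coact_isIntegral : (GLin.coactAlgHom k H R : R →+* R ⊗[k] H).IsIntegral := by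
  have h1 : ∀ r : R, (GLin.coactAlgHom k H R : R →+* R ⊗[k] H).IsIntegralElem (ii k H R r) := by
    intro r
    refine ⟨chi k H R r, chi_monic k H R r, ?_⟩
    have e1 : (chi k H R r).map (GLin.coactAlgHom k H R : R →+* R ⊗[k] H) =
        (chi k H R r).map (ii k H R : R →+* R ⊗[k] H) := by
      ext n
      rw [Polynomial.coeff_map, Polynomial.coeff_map]
      exact coact_of_mem k H R (coeff_chi_mem k H R r n)
    rw [Polynomial.eval₂_eq_eval_map, e1, ← Polynomial.eval₂_eq_eval_map]
    have e2 := Polynomial.hom_eval₂ (chi k H R r) (RingHom.id R) (ii k H R : R →+* R ⊗[k] H) r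
    rw [RingHom.comp_id] at e2
    have e3 : Polynomial.eval₂ (RingHom.id R) r (chi k H R r) = 0 := by
      have := aeval_chi k H R r
      rwa [Polynomial.coe_aeval_eq_eval, Polynomial.eval] at this
    rw [e3, map_zero] at e2
    exact e2.symm
  have h2 : ∀ h : H, (GLin.coactAlgHom k H R : R →+* R ⊗[k] H).IsIntegralElem ((1 : R) ⊗ₜ[k] h) := by
    intro h
    have hi : IsIntegral k h := Algebra.IsIntegral.isIntegral h
    have hi2 : IsIntegral k ((Algebra.TensorProduct.includeRight : H →ₐ[k] R ⊗[k] H) h) :=
      hi.map _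
    have hi3 : (algebraMap k (R ⊗[k] H)).IsIntegralElem ((1 : R) ⊗ₜ[k] h) := hi2
    have hcomp : algebraMap k (R ⊗[k] H) =
        (GLin.coactAlgHom k H R : R →+* R ⊗[k] H).comp (algebraMap k R) := by
      ext c
      simp
    rw [hcomp] at hi3
    exact RingHom.IsIntegralElem.of_comp hi3
  intro s
  induction s using TensorProduct.induction_on with
  | zero => exact (GLin.coactAlgHom k H R : R →+* R ⊗[k] H).isIntegralElem_zero
  | tmul r h =>
    have : r ⊗ₜ[k] h = ii k H R r * ((1 : R) ⊗ₜ[k] h) := by
      show r ⊗ₜ[k] h = (r ⊗ₜ[k] (1 : H)) * ((1 : R) ⊗ₜ[k] h)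
      rw [Algebra.TensorProduct.tmul_mul_tmul, mul_one, one_mul]
    rw [this]
    exact RingHom.IsIntegralElem.mul _ (h1 r) (h2 h)
  | add x y hx hy => exact RingHom.IsIntegralElem.add _ hx hy

/-- the "norm" of `x` (up to sign): the constant coefficient of `chi x`. -/
noncomputable def nu (x : R) : R := (chi k H R x).coeff 0

lemma nu_mem (x : R) : nu k H R x ∈ GLin.invariants k H R := coeff_chi_mem k H R x 0

lemma dvd_nu (x : R) : x ∣ nu k H R x := by
  apply dvd_coeff_zero_of_eval_eq_zero
  have := aeval_chi k H R x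
  rwa [Polynomial.coe_aeval_eq_eval] at this

end hopf

end Groth.Agent.Helper7.InvHt
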