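import Mathlib

namespace Groth.Agent.Helper7.Kap

open Matrix

universe u

/-- Step 2: in a local ring, if `a ᵥ* C = a` on a finite set `s` and no `a i` lies in the ideal
generated by the others, then the `s × s` block of `C` has unit determinant. -/
theorem isUnit_det_of_vecMul_eq {R : Type*} [CommRing R] [IsLocalRing R] {I : Type*}
    [DecidableEq I] (s : Finset I) (a : I → R) (C : I → I → R)
    (hmin : ∀ i ∈ s, ∀ r : I → R, a i ≠ ∑ j ∈ s.erase i, r j * a j)
    (hC : ∀ j ∈ s, ∑ i ∈ s, a i * C i j = a j) :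
    IsUnit (Matrix.of fun (i j : s) => C i j).det := by
  -- diagonal entries are units
  have hdiag : ∀ j ∈ s, IsUnit (C j j) := by
    intro j hj
    rcases IsLocalRing.isUnit_or_isUnit_one_sub_self (C j j) with h | h
    · exact h
    · exfalso
      obtain ⟨u, hu⟩ := h
      apply hmin j hj (fun i => ↑u⁻¹ * C i j)
      have h1 : a j * (1 - C j j) = ∑ i ∈ s.erase j, a i * C i j := by
        have := hC j hj
        rw [← Finset.add_sum_erase _ _ hj] at this
        linear_combination (-1 : R) * this
      have h2 : a j = ↑u⁻¹ * (a j * (1 - C j j)) := by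
        rw [← hu]
        calc a j = a j * (↑u⁻¹ * ↑u) := by rw [Units.inv_mul, mul_one]
          _ = _ := by ring
      rw [h2, h1, Finset.mul_sum]
      apply Finset.sum_congr rfl
      intro i _
      ring
  have hoff : ∀ i ∈ s, ∀ j ∈ s, i ≠ j → C i j ∈ IsLocalRing.maximalIdeal R := by
    intro i₀ hi₀ j hj hij
    by_contra hnot
    have hunit : IsUnit (C i₀ j) := by
      by_contra h
      exact hnot ((IsLocalRing.mem_maximalIdeal _).2 h)
    obtain ⟨u, hu⟩ := hunit
    apply hmin i₀ hi₀ (fun i => if i = j then ↑u⁻¹ * (1 - C j j) else - ↑u⁻¹ * C i j)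
    have h1 : a i₀ * C i₀ j = a j - ∑ i ∈ s.erase i₀, a i * C i j := by
      have := hC j hj
      rw [← Finset.add_sum_erase _ _ hi₀] at this
      linear_combination this
    have hjmem : j ∈ s.erase i₀ := Finset.mem_erase.2 ⟨fun h => hij h.symm, hj⟩
    have h3 : a i₀ = ↑u⁻¹ * (a i₀ * C i₀ j) := by
      rw [← hu]
      calc a i₀ = a i₀ * (↑u * ↑u⁻¹) := by rw [Units.mul_inv, mul_one]
        _ = _ := by ring
    rw [h3, h1]
    rw [← Finset.add_sum_erase _ _ hjmem, ← Finset.add_sum_erase (s.erase i₀) _ hjmem]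
    rw [if_pos rfl]
    have h4 : ∑ x ∈ (s.erase i₀).erase j,
        (if x = j then ↑u⁻¹ * (1 - C j j) else - ↑u⁻¹ * C x j) * a x
        = - ↑u⁻¹ * ∑ x ∈ (s.erase i₀).erase j, a x * C x j := by
      rw [Finset.mul_sum]
      apply Finset.sum_congr rfl
      intro x hx
      rw [if_neg (Finset.ne_of_mem_erase hx)]
      ring
    rw [h4]
    ring
  -- reduce mod the maximal ideal
  rw [← IsLocalRing.notMem_maximalIdeal, ← Ideal.Quotient.eq_zero_iff_mem]
  have hmap : (Ideal.Quotient.mk (IsLocalRing.maximalIdeal R)) (Matrix.of fun (i j : s) => C i j).det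
      = ((Matrix.of fun (i j : s) => C i j).map (Ideal.Quotient.mk (IsLocalRing.maximalIdeal R))).det :=
    RingHom.map_det _ _
  rw [hmap]
  have hd : (Matrix.of fun (i j : s) => C i j).map (Ideal.Quotient.mk (IsLocalRing.maximalIdeal R))
      = Matrix.diagonal (fun i : s => Ideal.Quotient.mk (IsLocalRing.maximalIdeal R) (C i i)) := by
    ext i j
    by_cases hij : i = j
    · subst hij
      simp
    · rw [Matrix.diagonal_apply_ne _ hij, Matrix.map_apply, Matrix.of_apply]
      exact Ideal.Quotient.eq_zero_iff_mem.2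
        (hoff i i.2 j j.2 (fun h => hij (Subtype.ext h)))
  rw [hd, Matrix.det_diagonal]
  refine Finset.prod_ne_zero_iff.2 ?_
  intro i _
  rw [Ne, Ideal.Quotient.eq_zero_iff_mem, IsLocalRing.notMem_maximalIdeal]
  exact hdiag i i.2

/-- Step 1: a basis minimizing the number of nonzero coordinates of `f`. -/
theorem exists_basis_min {R : Type*} [CommRing R] {I F : Type*} [DecidableEq I]
    [AddCommGroup F] [Module R F]
    (b₀ : Module.Basis I R F) (f : F) :
    ∃ b : Module.Basis I R F, ∀ i ∈ (b.repr f).support, ∀ r : I → R,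
      b.repr f i ≠ ∑ j ∈ (b.repr f).support.erase i, r j * b.repr f j := by
  classical
  have hS : ∃ n, ∃ b : Module.Basis I R F, (b.repr f).support.card = n := ⟨_, b₀, rfl⟩
  obtain ⟨b, hb⟩ := Nat.find_spec hS
  have hmin : ∀ b' : Module.Basis I R F, (b.repr f).support.card ≤ (b'.repr f).support.card :=
    fun b' => hb ▸ Nat.find_min' hS ⟨b', rfl⟩
  refine ⟨b, ?_⟩
  intro i hi r heq
  let lam : F →ₗ[R] R := b.constr R (Function.update r i 0)
  have hlam : lam (b i) = 0 := by
    simp [lam]
  have hlamf : lam f = b.repr f i := by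
    rw [heq]
    simp only [lam, Module.Basis.constr_apply, Finsupp.sum, smul_eq_mul]
    rw [← Finset.add_sum_erase _ _ hi]
    simp only [Function.update_self, mul_zero, zero_add]
    apply Finset.sum_congr rfl
    intro j hj
    rw [Function.update_of_ne (Finset.ne_of_mem_erase hj), mul_comm]
  let φ : F ≃ₗ[R] F := LinearEquiv.transvection (f := lam) (v := b i) hlam
  have hsymm : φ.symm f = f - b.repr f i • b i := by
    rw [LinearEquiv.symm_apply_eq]
    rw [LinearEquiv.transvection.apply]
    rw [map_sub, map_smul, hlam, hlamf]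
    simp
  have hrepr : (b.map φ).repr f = (b.repr f).erase i := by
    rw [Module.Basis.map_repr, LinearEquiv.trans_apply, hsymm, Finsupp.erase_eq_sub_single,
      map_sub, map_smul, Module.Basis.repr_self]
    simp
  have := hmin (b.map φ)
  rw [hrepr, Finsupp.support_erase] at this
  exact absurd this (not_le.2 (Finset.card_erase_lt_of_mem hi))

/-- Lemma A: every element of a projective module over a local ring lies in a free direct
summand (spanned by a linearly independent set). -/
theorem exists_free_summand {R : Type*} [CommRing R] [IsLocalRing R] {P : Type*} [AddCommGroup P]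
    [Module R P] [Module.Projective R P] (x : P) :
    ∃ T : Set P, LinearIndepOn R id T ∧ x ∈ Submodule.span R T ∧
      ∃ Z : Submodule R P, IsCompl (Submodule.span R T) Z := by
  classical
  obtain ⟨i, hi⟩ := (Module.projective_def'.1 ‹_› :
    ∃ s : P →ₗ[R] P →₀ R, Finsupp.linearCombination R id ∘ₗ s = LinearMap.id)
  set π : (P →₀ R) →ₗ[R] P := Finsupp.linearCombination R id with hπ
  have hπi : ∀ p, π (i p) = p := fun p => LinearMap.congr_fun hi p
  obtain ⟨b, hb⟩ := exists_basis_min (Finsupp.basisSingleOne : Module.Basis P R (P →₀ R)) (i x)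
  set a := b.repr (i x) with ha
  set s := a.support with hs
  let y : s → P := fun j => π (b j)
  let C : P → P → R := fun j k => b.repr (i (π (b j))) k
  have hf : i x = ∑ j ∈ s, a j • b j := by
    conv_lhs => rw [← b.linearCombination_repr (i x)]
    rw [Finsupp.linearCombination_apply, Finsupp.sum]
  have hx : x = ∑ j ∈ s, a j • π (b j) := by
    conv_lhs => rw [← hπi x, hf]
    simp [map_sum]
  have hC : ∀ k ∈ s, ∑ j ∈ s, a j * C j k = a k := by
    intro k _
    have : i x = ∑ j ∈ s, a j • i (π (b j)) := by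
      conv_lhs => rw [hx]
      simp [map_sum]
    have h2 := congrArg (fun v => b.repr v k) this
    simp only [map_sum, map_smul, Finsupp.coe_finsetSum, Finsupp.coe_smul, Finset.sum_apply,
      Pi.smul_apply, smul_eq_mul] at h2
    exact h2.symm
  have hdet := isUnit_det_of_vecMul_eq s a C hb hC
  set M : Matrix s s R := Matrix.of fun (i j : s) => C i j with hM
  let q : P →ₗ[R] (s → R) :=
    LinearMap.pi (fun k => (Finsupp.lapply (k : P)) ∘ₗ b.repr.toLinearMap ∘ₗ i)
  have hq : ∀ p k, q p k = b.repr (i p) k := fun p k => rfl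
  let Y : (s → R) →ₗ[R] P := Fintype.linearCombination R y
  have hY : ∀ v, Y v = ∑ j, v j • y j := fun v => Fintype.linearCombination_apply ..
  have hqY : ∀ v, q (Y v) = v ᵥ* M := by
    intro v
    ext k
    rw [hq, hY, map_sum, map_sum, Finsupp.coe_finsetSum, Finset.sum_apply]
    simp only [map_smul, Finsupp.coe_smul, Pi.smul_apply, smul_eq_mul, Matrix.vecMul, dotProduct]
    rfl
  have hinj : ∀ v, Y v = 0 → v = 0 := by
    intro v hv
    have h1 : v ᵥ* M = 0 := by rw [← hqY, hv, map_zero]
    have h2 : v ᵥ* M ᵥ* M⁻¹ = v := by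
      rw [Matrix.vecMul_vecMul, Matrix.mul_nonsing_inv M hdet, Matrix.vecMul_one]
    rw [← h2, h1, Matrix.zero_vecMul]
  have hli : LinearIndependent R y := by
    rw [Fintype.linearIndependent_iff]
    intro g hg j
    have := hinj g (by rw [hY]; exact hg)
    rw [this]; rfl
  have hspan : Submodule.span R (Set.range y) = LinearMap.range Y :=
    (Fintype.range_linearCombination R y).symm
  refine ⟨Set.range y, hli.linearIndepOn_id, ?_, LinearMap.ker q, ?_⟩
  · rw [hx]
    refine Submodule.sum_mem _ (fun j hj => Submodule.smul_mem _ _ ?_)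
    exact Submodule.subset_span ⟨⟨j, hj⟩, rfl⟩
  · rw [hspan]
    constructor
    · rw [Submodule.disjoint_def]
      rintro p ⟨v, rfl⟩ hp
      rw [LinearMap.mem_ker, hqY] at hp
      have h2 : v ᵥ* M ᵥ* M⁻¹ = v := by
        rw [Matrix.vecMul_vecMul, Matrix.mul_nonsing_inv M hdet, Matrix.vecMul_one]
      rw [← h2, hp, Matrix.zero_vecMul, map_zero]
    · rw [codisjoint_iff, eq_top_iff]
      intro p _
      have h3 : q (Y (q p ᵥ* M⁻¹)) = q p := by
        rw [hqY, Matrix.vecMul_vecMul, Matrix.nonsing_inv_mul M hdet, Matrix.vecMul_one]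
      have : p = Y (q p ᵥ* M⁻¹) + (p - Y (q p ᵥ* M⁻¹)) := by abel
      rw [this]
      refine Submodule.add_mem_sup ⟨_, rfl⟩ ?_
      rw [LinearMap.mem_ker, map_sub, h3, sub_self]

end Groth.Agent.Helper7.Kap
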