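import Mathlib
import Groth.Agent.Helper7.Kap3

namespace Groth.Agent.Helper7.Kap

open Submodule

/-- One step of Kaplansky's construction. -/
theorem free_step {R : Type*} [CommRing R] [IsLocalRing R] {P : Type*} [AddCommGroup P]
    [Module R P] [Module.Projective R P] (B : Set P) (Z : Submodule R P)
    (hB : LinearIndepOn R id B) (hBZ : IsCompl (span R B) Z) (x : P) :
    ∃ (B' : Set P) (Z' : Submodule R P), B ⊆ B' ∧ LinearIndepOn R id B' ∧
      IsCompl (span R B') Z' ∧ x ∈ span R B' := by
  let pZ : P →ₗ[R] Z := Z.projectionOnto (span R B) hBZ.symm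
  have hpZ : ∀ z : Z, pZ z = z := Submodule.projectionOnto_apply_left hBZ.symm
  have : Module.Projective R Z := Module.Projective.of_split Z.subtype pZ (LinearMap.ext hpZ)
  obtain ⟨T, hT, hxT, Z'', hZ''⟩ := exists_free_summand (R := R) (pZ x)
  have hsub : span R (Z.subtype '' T) ≤ Z := by
    rw [span_le]
    rintro _ ⟨t, _, rfl⟩
    exact t.2
  have hmapspan : span R (Z.subtype '' T) = (span R T).map Z.subtype := (Submodule.map_span _ _).symm
  refine ⟨B ∪ Z.subtype '' T, Z''.map Z.subtype, Set.subset_union_left, ?_, ?_, ?_⟩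
  · refine hB.id_union ?_ ?_
    · exact hT.id_imageₛ (Subtype.val_injective.injOn)
    · exact hBZ.disjoint.mono_right hsub
  · rw [span_union, hmapspan]
    constructor
    · rw [Submodule.disjoint_def]
      intro v hv1 hv2
      obtain ⟨u, hu, w, hw, rfl⟩ := Submodule.mem_sup.1 hv1
      obtain ⟨t, ht, rfl⟩ := hw
      obtain ⟨z, hz, hzv⟩ := hv2
      have hu0 : u = 0 := by
        have : u ∈ Z := by
          have : u = Z.subtype z - Z.subtype t := by rw [hzv]; abel
          rw [this]
          exact Z.sub_mem z.2 t.2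
        exact (Submodule.disjoint_def.1 hBZ.disjoint) u hu this
      rw [hu0, zero_add] at hzv ⊢
      have hzt : z = t := Subtype.val_injective hzv
      have : t = 0 := (Submodule.disjoint_def.1 hZ''.disjoint) t ht (hzt ▸ hz)
      rw [this, map_zero]
    · rw [codisjoint_iff, sup_assoc, ← Submodule.map_sup, hZ''.sup_eq_top, Submodule.map_top,
        Submodule.range_subtype, hBZ.sup_eq_top]
  · rw [span_union, hmapspan]
    have : x = (x - pZ x) + pZ x := by abel
    rw [this]
    refine Submodule.add_mem_sup ?_ ⟨_, hxT, rfl⟩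
    have h0 : pZ (x - (pZ x : P)) = 0 := by
      rw [map_sub, hpZ, sub_self]
    exact (Submodule.projectionOnto_apply_eq_zero_iff hBZ.symm).1 h0

/-- Lemma B: a countably generated projective module over a local ring is free. -/
theorem free_of_countable {R : Type*} [CommRing R] [IsLocalRing R] {P : Type*} [AddCommGroup P]
    [Module R P] [Module.Projective R P] (s : Set P) (hs : s.Countable) (hspan : span R s = ⊤) :
    Module.Free R P := by
  classical
  -- enumerate
  obtain ⟨x, hx⟩ : ∃ x : ℕ → P, s ⊆ Set.range x := by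
    rcases Set.eq_empty_or_nonempty s with rfl | hne
    · exact ⟨fun _ => 0, Set.empty_subset _⟩
    · obtain ⟨x, hx⟩ := hs.exists_eq_range hne
      exact ⟨x, hx.le⟩
  let St := {p : Set P × Submodule R P // LinearIndepOn R id p.1 ∧ IsCompl (span R p.1) p.2}
  have hstep : ∀ (S : St) (x : P), ∃ S' : St, S.1.1 ⊆ S'.1.1 ∧ x ∈ span R S'.1.1 := by
    intro S x
    obtain ⟨B', Z', h1, h2, h3, h4⟩ := free_step S.1.1 S.1.2 S.2.1 S.2.2 x
    exact ⟨⟨(B', Z'), h2, h3⟩, h1, h4⟩
  choose next hnext1 hnext2 using hstep
  let S0 : St := ⟨(∅, ⊤), by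
    refine ⟨linearIndepOn_empty _ _, ?_⟩
    simp only [span_empty]
    exact isCompl_bot_top⟩
  let seq : ℕ → St := fun n => Nat.rec S0 (fun n S => next S (x n)) n
  have hseq : ∀ n, seq (n + 1) = next (seq n) (x n) := fun n => rfl
  have hmono : Monotone (fun n => (seq n).1.1) := by
    apply monotone_nat_of_le_succ
    intro n
    rw [hseq]
    exact hnext1 _ _
  let Binf : Set P := ⋃ n, (seq n).1.1
  have hli : LinearIndepOn R id Binf :=
    linearIndepOn_iUnion_of_directed hmono.directed_le (fun n => (seq n).2.1)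
  have htop : ⊤ ≤ span R Binf := by
    rw [← hspan, span_le]
    intro p hp
    obtain ⟨n, rfl⟩ := hx hp
    have h1 : x n ∈ span R (seq (n + 1)).1.1 := by
      rw [hseq]; exact hnext2 _ _
    exact span_mono (Set.subset_iUnion (fun n => (seq n).1.1) (n + 1)) h1
  have hli' : LinearIndependent R (fun p : Binf => (p : P)) := hli
  exact Module.Free.of_basis (Module.Basis.mk hli' (by rw [Subtype.range_coe]; exact htop))

end Groth.Agent.Helper7.Kap
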