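import Mathlib
import Groth.Agent.Helper7.Kap2
import Groth.Agent.Helper7.Kap4

namespace Groth.Agent.Helper7.Kap

open Submodule

universe u

set_option maxSynthPendingDepth 3 in
open scoped Classical in
theorem result0582 (R : Type u) [CommRing R] [IsLocalRing R] (P : Type u)
    [AddCommGroup P] [Module R P] [Module.Projective R P] : Module.Free R P := by
  obtain ⟨i, hi⟩ := (Module.projective_def'.1 ‹_› :
    ∃ s : P →ₗ[R] P →₀ R, Finsupp.linearCombination R id ∘ₗ s = LinearMap.id)
  set π : (P →₀ R) →ₗ[R] P := Finsupp.linearCombination R id with hπ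
  have hπi : ∀ p, π (i p) = p := fun p => LinearMap.congr_fun hi p
  have hinj : Function.Injective i := fun p p' h => by rw [← hπi p, h, hπi]
  let b : Module.Basis P R (P →₀ R) := Finsupp.basisSingleOne
  let N : P → Submodule R (P →₀ R) := fun p => R ∙ b p
  have hN : DirectSum.IsInternal N := by
    refine (DirectSum.isInternal_submodule_iff_iSupIndep_and_iSup_eq_top N).2 ⟨?_, ?_⟩
    · exact b.linearIndependent.iSupIndep_span_singleton
    · rw [← span_range_eq_iSup, b.span_eq]
  have hc : ∀ p, CAlg.IsCountablyGenerated R (N p) := by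
    intro p
    refine module_of_cgs (N p).subtype (Subtype.val_injective) ?_
    rw [Submodule.range_subtype]
    exact ⟨{b p}, Set.countable_singleton _, rfl⟩
  have hPQ : IsCompl (LinearMap.range i) (LinearMap.ker π) := by
    constructor
    · rw [Submodule.disjoint_def]
      rintro v ⟨p, rfl⟩ hv
      rw [LinearMap.mem_ker, hπi] at hv
      rw [hv, map_zero]
    · rw [codisjoint_iff, eq_top_iff]
      intro v _
      have : v = i (π v) + (v - i (π v)) := by abel
      rw [this]
      refine Submodule.add_mem_sup ⟨_, rfl⟩ ?_
      rw [LinearMap.mem_ker, map_sub, hπi, sub_self]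
  obtain ⟨κ, L, hL, hLc⟩ := result0583 R (P →₀ R) P N hN hc _ _ hPQ
  have e0 : P ≃ₗ[R] LinearMap.range i := LinearEquiv.ofInjective i hinj
  have hproj : Module.Projective R (LinearMap.range i) := Module.Projective.of_equiv e0
  obtain ⟨hind, htop⟩ := (DirectSum.isInternal_submodule_iff_iSupIndep_and_iSup_eq_top L).1 hL
  have hfree : ∀ k, Module.Free R (L k) := by
    intro k
    have hcompl : IsCompl (L k) (⨆ j, ⨆ (_ : j ≠ k), L j) := by
      refine ⟨hind k, ?_⟩
      rw [codisjoint_iff, eq_top_iff, ← htop]
      refine iSup_le (fun j => ?_)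
      by_cases hjk : j = k
      · rw [hjk]; exact le_sup_left
      · exact le_sup_of_le_right (le_iSup₂_of_le j hjk le_rfl)
    have : Module.Projective R (L k) :=
      Module.Projective.of_split (L k).subtype ((L k).projectionOnto _ hcompl)
        (LinearMap.ext (Submodule.projectionOnto_apply_left hcompl))
    obtain ⟨s, hs, hspan⟩ := hLc k
    exact free_of_countable s hs hspan
  have e : (DirectSum κ fun k => L k) ≃ₗ[R] LinearMap.range i :=
    LinearEquiv.ofBijective (DirectSum.coeLinearMap L) hL
  have : Module.Free R (LinearMap.range i) := Module.Free.of_equiv e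
  exact Module.Free.of_equiv e0.symm

end Groth.Agent.Helper7.Kap
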