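import Mathlib
import Groth.Prelude.Def_CAlg
import Groth.Agent.Helper2.DepthCM
import Groth.Agent.Helper9.DepthS2
import Groth.Agent.Helper7.DepthFin

/-!
# Local-global principle for the depth with respect to an ideal

`n ≤ depth_I G` as soon as `n ≤ depth G_p` for all primes `p ⊇ I` in the support of `G`.
-/

set_option autoImplicit false
universe u

namespace Groth.Agent.Helper7.DepthLG

open RingTheory.Sequence LocCoh IsLocalRing

/-- an element with prime annihilator `p` gives a nonzero socle element in any localization at `p` -/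
lemma socle_of_isLocalizedModule {A : Type u} [CommRing A] (p : Ideal A) [p.IsPrime]
    {N N' : Type u} [AddCommGroup N] [Module A N] [AddCommGroup N'] [Module A N']
    [Module (Localization.AtPrime p) N'] [IsScalarTower A (Localization.AtPrime p) N']
    (f : N →ₗ[A] N') [IsLocalizedModule p.primeCompl f] (y : N)
    (hy : ∀ a : A, a • y = 0 ↔ a ∈ p) :
    f y ≠ 0 ∧ ∀ r ∈ maximalIdeal (Localization.AtPrime p), r • f y = 0 := by
  constructor
  · intro h
    obtain ⟨c, hc⟩ := (IsLocalizedModule.eq_zero_iff p.primeCompl f).mp h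
    exact c.2 ((hy _).mp hc)
  · intro r hr
    obtain ⟨a, s, rfl⟩ := IsLocalization.exists_mk'_eq p.primeCompl r
    rw [IsLocalization.AtPrime.mk'_mem_maximal_iff (Localization.AtPrime p) p] at hr
    have hu : IsUnit (algebraMap A (Localization.AtPrime p) s) :=
      IsLocalization.map_units (Localization.AtPrime p) s
    rw [← hu.smul_eq_zero, ← mul_smul, IsLocalization.mk'_spec' , algebraMap_smul, ← map_smul,
      (hy a).mpr hr, map_zero]

variable {A : Type u} [CommRing A] [IsNoetherianRing A] (I : Ideal A)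
variable (G : Type u) [AddCommGroup G] [Module A G] [Module.Finite A G]

theorem le_idealDepth_of_local (n : ℕ)
    (hloc : ∀ (p : Ideal A) [p.IsPrime], I ≤ p → Nontrivial (LocalizedModule p.primeCompl G) →
      (n : ℕ∞) ≤ depth (Localization.AtPrime p) (LocalizedModule p.primeCompl G)) :
    (n : ℕ∞) ≤ idealDepth I G := by
  by_cases hIG : I • (⊤ : Submodule A G) = ⊤
  · rw [Groth.Agent.Helper9.DepthKer.idealDepth_eq_top I G hIG]
    exact le_top
  obtain ⟨rs, hreg, hmem, hmax, hlen⟩ :=
    Groth.Agent.Helper2.DepthCM.exists_length_eq_idealDepth I G hIG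
  rw [← hlen]
  by_contra hlt
  rw [not_le] at hlt
  set N : Submodule A G := Ideal.ofList rs • (⊤ : Submodule A G) with hN
  -- no element of `I` is regular on `G ⧸ N`
  have hzd : ∀ r ∈ I, ¬ IsSMulRegular (G ⧸ N) r := by
    intro r hr hcon
    apply hmax r hr
    rw [isWeaklyRegular_append_iff]
    exact ⟨hreg, (isWeaklyRegular_cons_iff _ r []).mpr ⟨hcon, IsWeaklyRegular.nil _ _⟩⟩
  have hIq : I • (⊤ : Submodule A (G ⧸ N)) ≠ ⊤ :=
    Groth.Agent.Helper2.DepthCM.smul_top_quot_ne_top hIG (Ideal.ofList rs)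
      (Groth.Agent.Helper2.DepthCM.ofList_le rs hmem)
  haveI : Nontrivial (G ⧸ N) := by
    by_contra h
    rw [not_nontrivial_iff_subsingleton] at h
    exact hIq (Subsingleton.elim _ _)
  obtain ⟨y, hy0, hyI⟩ := Groth.Agent.Helper7.DepthFin.exists_killed (G ⧸ N) I hzd
  obtain ⟨p, hpp, z, hIp, hz⟩ := Groth.Agent.Helper9.DepthS2.exists_prime_ann I (G ⧸ N) y hy0 hyI
  haveI := hpp
  -- localization of the quotient
  let Ap := Localization.AtPrime p
  let Gp := LocalizedModule p.primeCompl G
  let f := LocalizedModule.mkLinearMap p.primeCompl G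
  let Np : Submodule Ap Gp := N.localized' Ap p.primeCompl f
  let φ : G ⧸ N →ₗ[A] Gp ⧸ Np := N.toLocalizedQuotient' Ap p.primeCompl f
  haveI : IsLocalizedModule p.primeCompl φ := IsLocalizedModule.toLocalizedQuotient' Ap p.primeCompl f N
  obtain ⟨hφz, hsoc⟩ := socle_of_isLocalizedModule p φ z hz
  have hNp : Np = Ideal.ofList (rs.map (algebraMap A Ap)) • (⊤ : Submodule Ap Gp) := by
    show N.localized' Ap p.primeCompl f = _
    rw [hN, Submodule.localized'_smul, Ideal.localized'_eq_map, Submodule.localized'_top,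
      Ideal.map_ofList]
  -- `G_p` is nontrivial
  have hnt : Nontrivial Gp := by
    by_contra h
    rw [not_nontrivial_iff_subsingleton] at h
    exact hφz (Subsingleton.elim _ _)
  have h1 := hloc p hIp hnt
  -- the localized sequence is maximal
  have hreg' : IsWeaklyRegular Gp (rs.map (algebraMap A Ap)) :=
    hreg.of_isLocalizedModule Ap p.primeCompl f
  have hmem' : ∀ r ∈ rs.map (algebraMap A Ap), r ∈ maximalIdeal Ap := by
    intro r hr
    rw [List.mem_map] at hr
    obtain ⟨a, ha, rfl⟩ := hr
    rw [← Localization.AtPrime.map_eq_maximalIdeal]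
    exact Ideal.mem_map_of_mem _ (hIp (hmem a ha))
  have hmax' : ∀ r ∈ maximalIdeal Ap, ¬ IsWeaklyRegular Gp (rs.map (algebraMap A Ap) ++ [r]) := by
    intro r hr hcon
    rw [isWeaklyRegular_append_iff, ← hNp] at hcon
    have h2 : IsSMulRegular (Gp ⧸ Np) r := ((isWeaklyRegular_cons_iff _ r []).mp hcon.2).1
    apply hφz
    apply h2
    show r • φ z = r • 0
    rw [hsoc r hr, smul_zero]
  have hne : maximalIdeal Ap • (⊤ : Submodule Ap Gp) ≠ ⊤ :=
    Groth.Agent.Helper9.DepthS2.max_smul_top_ne_top Gp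
  have h3 := Groth.Agent.Helper2.DepthRees.length_eq_idealDepth_of_maximal (I := maximalIdeal Ap) Gp hne
    (rs.map (algebraMap A Ap)) hreg' hmem' hmax'
  rw [List.length_map] at h3
  have h4 : (n : ℕ∞) ≤ (rs.length : ℕ∞) := by
    rw [h3]
    exact h1
  exact absurd h4 (not_le.mpr hlt)

end Groth.Agent.Helper7.DepthLG
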