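import Mathlib
import Groth.Prelude.Def_DeRham

set_option autoImplicit false
universe u

namespace Groth.Agent.Helper7.DR

open exteriorPower DeRham

variable {R A : Type u} [CommRing R] [CommRing A] [Algebra R A]

/-- forms are additively generated by the `gen`s -/
theorem forms_induction (p : ℕ) (P : ↥(⋀[A]^p (Ω[A⁄R])) → Prop)
    (h0 : P 0) (hadd : ∀ x y, P x → P y → P (x + y))
    (hgen : ∀ (b₀ : A) (b : Fin p → A), P (gen (KaehlerDifferential.D R A) p b₀ b))
    (x : ↥(⋀[A]^p (Ω[A⁄R]))) : P x := by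
  have hspan := ιMulti_span_of_span (R := A) (n := p) (M := Ω[A⁄R])
    (KaehlerDifferential.span_range_derivation R A)
  have hx : x ∈ Submodule.span A (ιMulti A p '' {a : Fin p → Ω[A⁄R] |
      Set.range a ⊆ Set.range (KaehlerDifferential.D R A)}) := by
    rw [hspan]; trivial
  induction hx using Submodule.closure_induction with
  | zero => exact h0
  | add x y _ _ hx hy => exact hadd x y hx hy
  | smul_mem r x hx =>
    obtain ⟨a, ha, rfl⟩ := hx
    have : ∀ i, ∃ b, KaehlerDifferential.D R A b = a i := fun i => ha ⟨i, rfl⟩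
    choose b hb using this
    have : a = fun i => KaehlerDifferential.D R A (b i) := funext fun i => (hb i).symm
    rw [this]
    exact hgen r b

theorem cons_eq (δ : Derivation R A (Ω[A⁄R])) (p : ℕ) (b₀ : A) (b : Fin p → A) :
    (Fin.cons (δ b₀) (fun i => δ (b i)) : Fin (p + 1) → Ω[A⁄R]) =
      fun i => δ ((Fin.cons b₀ b : Fin (p + 1) → A) i) := by
  funext i
  refine Fin.cases ?_ (fun j => ?_) i
  · simp
  · simp

theorem rule_imp_diff
    (d : ∀ p : ℕ, ↥(⋀[A]^p (Ω[A⁄R])) →ₗ[R] ↥(⋀[A]^(p + 1) (Ω[A⁄R])))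
    (hd : DeRham.IsRule (KaehlerDifferential.D R A) d) :
    DeRham.IsDiff (KaehlerDifferential.D R A) d := by
  refine ⟨hd, fun p => ?_⟩
  apply LinearMap.ext
  intro x
  show d (p + 1) (d p x) = 0
  refine forms_induction p (fun x => d (p + 1) (d p x) = 0) (by simp) ?_ ?_ x
  · intro x y hx hy
    simp only [map_add, hx, hy, add_zero]
  · intro b₀ b
    rw [hd p b₀ b, cons_eq]
    have h1 : ιMulti A (p + 1) (fun i => KaehlerDifferential.D R A ((Fin.cons b₀ b : Fin (p + 1) → A) i))
        = gen (KaehlerDifferential.D R A) (p + 1) 1 (Fin.cons b₀ b) := by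
      unfold gen; rw [one_smul]
    rw [h1, hd (p + 1) 1 (Fin.cons b₀ b)]
    apply (ιMulti A (p + 2)).map_coord_zero 0
    simp

theorem cxmap_comm {S B : Type u} [CommRing S] [CommRing B] [Algebra S B] [Algebra A B]
    (d : ∀ p : ℕ, ↥(⋀[A]^p (Ω[A⁄R])) →ₗ[R] ↥(⋀[A]^(p + 1) (Ω[A⁄R])))
    (hd : DeRham.IsRule (KaehlerDifferential.D R A) d)
    (d' : ∀ p : ℕ, ↥(⋀[B]^p (Ω[B⁄S])) →ₗ[S] ↥(⋀[B]^(p + 1) (Ω[B⁄S])))
    (hd' : DeRham.IsRule (KaehlerDifferential.D S B) d')
    (ψ : ∀ p : ℕ, ↥(⋀[A]^p (Ω[A⁄R])) →+ ↥(⋀[B]^p (Ω[B⁄S])))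
    (hψ : DeRham.IsCxMap (KaehlerDifferential.D R A) (KaehlerDifferential.D S B) (algebraMap A B) ψ)
    (p : ℕ) (x : ↥(⋀[A]^p (Ω[A⁄R]))) :
    ψ (p + 1) (d p x) = d' p (ψ p x) := by
  refine forms_induction p (fun x => ψ (p + 1) (d p x) = d' p (ψ p x)) (by simp) ?_ ?_ x
  · intro x y hx hy
    simp only [map_add, hx, hy]
  · intro b₀ b
    rw [hd p b₀ b, cons_eq]
    have h1 : ιMulti A (p + 1) (fun i => KaehlerDifferential.D R A ((Fin.cons b₀ b : Fin (p + 1) → A) i))
        = gen (KaehlerDifferential.D R A) (p + 1) 1 (Fin.cons b₀ b) := by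
      unfold gen; rw [one_smul]
    rw [h1, hψ (p + 1) 1 (Fin.cons b₀ b), hψ p b₀ b, hd' p]
    unfold gen
    rw [map_one, one_smul]
    congr 1
    funext i
    refine Fin.cases ?_ (fun j => ?_) i
    · simp
    · simp

theorem exists_cxmap (R S A B : Type u) [CommRing R] [CommRing S] [CommRing A] [CommRing B]
    [Algebra R S] [Algebra R A] [Algebra R B] [Algebra A B] [Algebra S B]
    [IsScalarTower R A B] [IsScalarTower R S B] :
    ∃ ψ : ∀ p : ℕ, ↥(⋀[A]^p (Ω[A⁄R])) →+ ↥(⋀[B]^p (Ω[B⁄S])),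
      DeRham.IsCxMap (KaehlerDifferential.D R A) (KaehlerDifferential.D S B) (algebraMap A B) ψ := by
  classical
  let φ : Ω[A⁄R] →ₗ[A] Ω[B⁄S] := KaehlerDifferential.map R S A B
  have hφadd : ∀ x y, φ (x + y) = φ x + φ y := fun x y => map_add φ x y
  have hφsmul : ∀ (c : A) x, φ (c • x) = algebraMap A B c • φ x := by
    intro c x
    rw [map_smul, algebraMap_smul]
  let inst : ∀ p : ℕ, Module A ↥(⋀[B]^p (Ω[B⁄S])) := fun p => Module.compHom _ (algebraMap A B)
  let F : ∀ p : ℕ, @AlternatingMap A _ (Ω[A⁄R]) _ _ ↥(⋀[B]^p (Ω[B⁄S])) _ (inst p) (Fin p) := fun p =>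
    letI := inst p
    { toFun := fun m => ιMulti B p (fun i => φ (m i))
      map_update_add' := by
        intro _ m i x y
        have h : ∀ z, (fun j => φ (Function.update m i z j)) = Function.update (fun j => φ (m j)) i (φ z) := by
          intro z
          funext j
          by_cases hj : j = i
          · subst hj; simp
          · simp [Function.update_of_ne hj]
        rw [h, h, h, hφadd]
        exact (ιMulti B p).map_update_add _ _ _ _
      map_update_smul' := by
        intro _ m i c x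
        have h : ∀ z, (fun j => φ (Function.update m i z j)) = Function.update (fun j => φ (m j)) i (φ z) := by
          intro z
          funext j
          by_cases hj : j = i
          · subst hj; simp
          · simp [Function.update_of_ne hj]
        rw [h, h, hφsmul]
        exact (ιMulti B p).map_update_smul _ _ _ _
      map_eq_zero_of_eq' := by
        intro m i j hij hne
        exact (ιMulti B p).map_eq_zero_of_eq _ (by show φ (m i) = φ (m j); rw [hij]) hne }
  refine ⟨fun p => letI := inst p; (alternatingMapLinearEquiv (F p)).toAddMonoidHom, ?_⟩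
  intro p b₀ b
  letI := inst p
  show (alternatingMapLinearEquiv (F p)) (gen (KaehlerDifferential.D R A) p b₀ b) = _
  unfold gen
  rw [map_smul, alternatingMapLinearEquiv_apply_ιMulti]
  show algebraMap A B b₀ • ιMulti B p (fun i => φ (KaehlerDifferential.D R A (b i))) = _
  congr 2
  funext i
  exact KaehlerDifferential.map_D R S A B (b i)

end Groth.Agent.Helper7.DR
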