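import Mathlib
import Groth.Agent.Helper7.DRExt1

set_option linter.style.haveILetI false
set_option linter.unusedSectionVars false

/-! The de Rham differential on the exterior algebra of a general receptacle `(M, δ)` generated by
`δ(A)`, from an `A`-linear map `M → E ⊕ Eε` (twisted structure) extending `a ↦ (δa, 0)`. -/

namespace Groth.Agent.Helper7.DRG

open Groth.Agent.Helper7.DRExt

universe u

variable {R A : Type u} [CommRing R] [CommRing A] [Algebra R A]
variable {M : Type u} [AddCommGroup M] [Module A M] [Module R M] [IsScalarTower R A M]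

/-- The grade involution as a ring endomorphism. -/
noncomputable def inv (A M : Type u) [CommRing A] [AddCommGroup M] [Module A M] :
    ExteriorAlgebra A M →+* ExteriorAlgebra A M :=
  ((CliffordAlgebra.involute : ExteriorAlgebra A M →ₐ[A] ExteriorAlgebra A M) :
    ExteriorAlgebra A M →+* ExteriorAlgebra A M)

theorem inv_apply (x : ExteriorAlgebra A M) : inv A M x = CliffordAlgebra.involute x := rfl

@[simp] theorem inv_algebraMap (a : A) :
    inv A M (algebraMap A (ExteriorAlgebra A M) a) = algebraMap A (ExteriorAlgebra A M) a :=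
  (CliffordAlgebra.involute : ExteriorAlgebra A M →ₐ[A] ExteriorAlgebra A M).commutes a

@[simp] theorem inv_ι (m : M) : inv A M (ExteriorAlgebra.ι A m) = -ExteriorAlgebra.ι A m :=
  CliffordAlgebra.involute_ι m

@[simp] theorem inv_inv (x : ExteriorAlgebra A M) : inv A M (inv A M x) = x :=
  CliffordAlgebra.involute_involute x

/-- `ι m * y = α(y) * ι m`. -/
theorem ι_mul_eq (m : M) (y : ExteriorAlgebra A M) :
    ExteriorAlgebra.ι A m * y = inv A M y * ExteriorAlgebra.ι A m := by
  induction y using ExteriorAlgebra.induction with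
  | algebraMap r => rw [inv_algebraMap, Algebra.commutes]
  | ι x =>
    rw [inv_ι, neg_mul, eq_neg_iff_add_eq_zero]
    exact ExteriorAlgebra.ι_add_mul_swap _ _
  | mul a b ha hb => rw [← mul_assoc, ha, mul_assoc, hb, ← mul_assoc, map_mul]
  | add a b ha hb => rw [mul_add, ha, hb, map_add, add_mul]

/-- `α` acts by `(-1)^p` on `⋀^p`. -/
theorem inv_of_mem {p : ℕ} {x : ExteriorAlgebra A M} (hx : x ∈ ⋀[A]^p M) :
    inv A M x = (-1) ^ p * x := by
  rcases Nat.even_or_odd p with hp | hp
  · rw [hp.neg_one_pow, one_mul]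
    refine CliffordAlgebra.involute_eq_of_mem_even ?_
    have : (⋀[A]^p M : Submodule A (ExteriorAlgebra A M)) ≤ CliffordAlgebra.evenOdd _ 0 := by
      refine le_iSup_of_le ⟨p, ?_⟩ le_rfl
      exact (ZMod.natCast_eq_zero_iff_even).2 hp
    exact this hx
  · rw [hp.neg_one_pow, neg_one_mul]
    refine CliffordAlgebra.involute_eq_of_mem_odd ?_
    have : (⋀[A]^p M : Submodule A (ExteriorAlgebra A M)) ≤ CliffordAlgebra.evenOdd _ 1 := by
      refine le_iSup_of_le ⟨p, ?_⟩ le_rfl
      exact (ZMod.natCast_eq_one_iff_odd).2 hp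
    exact this hx

/-- The twisted extension of the exterior algebra of `M`, tagged by the derivation. -/
def TT (_δ : Derivation R A M) : Type u := Tw (inv A M)

noncomputable instance (δ : Derivation R A M) : Ring (TT δ) := inferInstanceAs (Ring (Tw (inv A M)))

variable (δ : Derivation R A M)

/-- Constructor. -/
noncomputable def TT.mk (x y : ExteriorAlgebra A M) : TT δ := Tw.mk (inv A M) x y

/-- First component. -/
noncomputable def TT.fst (t : TT δ) : ExteriorAlgebra A M := Tw.fst (inv A M) t

/-- Second component. -/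
noncomputable def TT.snd (t : TT δ) : ExteriorAlgebra A M := Tw.snd (inv A M) t

variable {δ}

@[ext] theorem TT.ext {s t : TT δ} (h1 : TT.fst δ s = TT.fst δ t) (h2 : TT.snd δ s = TT.snd δ t) :
    s = t := Tw.ext h1 h2

@[simp] theorem TT.fst_mk (x y : ExteriorAlgebra A M) : TT.fst δ (TT.mk δ x y) = x := rfl
@[simp] theorem TT.snd_mk (x y : ExteriorAlgebra A M) : TT.snd δ (TT.mk δ x y) = y := rfl
@[simp] theorem TT.fst_add (s t : TT δ) : TT.fst δ (s + t) = TT.fst δ s + TT.fst δ t := rfl
@[simp] theorem TT.snd_add (s t : TT δ) : TT.snd δ (s + t) = TT.snd δ s + TT.snd δ t := rfl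
@[simp] theorem TT.fst_zero : TT.fst δ (0 : TT δ) = 0 := rfl
@[simp] theorem TT.snd_zero : TT.snd δ (0 : TT δ) = 0 := rfl
@[simp] theorem TT.fst_one : TT.fst δ (1 : TT δ) = 1 := rfl
@[simp] theorem TT.snd_one : TT.snd δ (1 : TT δ) = 0 := rfl
@[simp] theorem TT.fst_mul (s t : TT δ) : TT.fst δ (s * t) = TT.fst δ s * TT.fst δ t := rfl
@[simp] theorem TT.snd_mul (s t : TT δ) :
    TT.snd δ (s * t) = TT.snd δ s * TT.fst δ t + inv A M (TT.fst δ s) * TT.snd δ t := rfl

variable (δ)

/-- Second projection as an additive map. -/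
noncomputable def TT.sndHom : TT δ →+ ExteriorAlgebra A M where
  toFun := TT.snd δ
  map_zero' := rfl
  map_add' _ _ := rfl

/-- The structure map `a ↦ a + ε δa`. -/
noncomputable def sMap : A →+* TT δ where
  toFun a := TT.mk δ (algebraMap A (ExteriorAlgebra A M) a) (ExteriorAlgebra.ι A (δ a))
  map_one' := by
    ext
    · simp
    · simp
  map_mul' a b := by
    ext
    · simp
    · simp only [TT.snd_mk, TT.snd_mul, TT.fst_mk, inv_algebraMap, Derivation.leibniz, map_add,
        map_smul]
      rw [← Algebra.commutes, Algebra.smul_def, Algebra.smul_def, add_comm]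
  map_zero' := by
    ext
    · simp
    · simp
  map_add' a b := by
    ext
    · simp
    · simp

@[simp] theorem fst_sMap (a : A) :
    TT.fst δ (sMap δ a) = algebraMap A (ExteriorAlgebra A M) a := rfl
@[simp] theorem snd_sMap (a : A) : TT.snd δ (sMap δ a) = ExteriorAlgebra.ι A (δ a) := rfl

theorem sMap_commutes (a : A) (t : TT δ) : sMap δ a * t = t * sMap δ a := by
  ext
  · simp only [TT.fst_mul, fst_sMap, Algebra.commutes]
  · simp only [TT.snd_mul, fst_sMap, snd_sMap, inv_algebraMap]
    rw [ι_mul_eq, add_comm, Algebra.commutes]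

noncomputable instance : Algebra A (TT δ) := RingHom.toAlgebra' (sMap δ) (sMap_commutes δ)

theorem algebraMap_TT (a : A) : algebraMap A (TT δ) a = sMap δ a := rfl

theorem smul_TT (a : A) (t : TT δ) : a • t = sMap δ a * t := rfl

@[simp] theorem fst_smul (a : A) (t : TT δ) : TT.fst δ (a • t) = a • TT.fst δ t := by
  rw [smul_TT, TT.fst_mul, fst_sMap, Algebra.smul_def]

@[simp] theorem snd_smul (a : A) (t : TT δ) :
    TT.snd δ (a • t) = ExteriorAlgebra.ι A (δ a) * TT.fst δ t + a • TT.snd δ t := by
  rw [smul_TT, TT.snd_mul, fst_sMap, snd_sMap, inv_algebraMap, Algebra.smul_def]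

noncomputable instance : Module R (TT δ) := Module.compHom (TT δ) (algebraMap R A)

instance : IsScalarTower R A (TT δ) :=
  ⟨fun r a t => by
    change (r • a) • t = algebraMap R A r • (a • t)
    rw [Algebra.smul_def r a, mul_smul]⟩

theorem smulR_TT (r : R) (t : TT δ) : r • t = algebraMap R A r • t := rfl

/-- The derivation `a ↦ (δa, 0)` into the twisted extension. -/
noncomputable def der : Derivation R A (TT δ) :=
  Derivation.mk'
    { toFun := fun a => TT.mk δ (ExteriorAlgebra.ι A (δ a)) 0
      map_add' := fun a b => by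
        ext
        · simp
        · simp
      map_smul' := fun r a => by
        rw [RingHom.id_apply, smulR_TT]
        ext
        · rw [fst_smul, TT.fst_mk, TT.fst_mk, Derivation.map_smul, ← algebraMap_smul A r (δ a),
            map_smul]
        · rw [snd_smul, TT.snd_mk, TT.snd_mk, TT.fst_mk, Derivation.map_algebraMap, map_zero,
            zero_mul, smul_zero, add_zero] }
    (fun a b => by
      ext
      · simp
      · simp only [LinearMap.coe_mk, AddHom.coe_mk, TT.snd_mk, TT.snd_add, snd_smul, TT.fst_mk,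
          smul_zero, add_zero]
        rw [eq_comm]
        exact ExteriorAlgebra.ι_add_mul_swap _ _)

@[simp] theorem fst_der (a : A) : TT.fst δ (der δ a) = ExteriorAlgebra.ι A (δ a) := rfl
@[simp] theorem snd_der (a : A) : TT.snd δ (der δ a) = 0 := rfl

/-- The data from which the de Rham differential is built: `M` is generated by `δ(A)` and there is
an `A`-linear map `M → E ⊕ Eε` (twisted structure) with `δ a ↦ (δ a, 0)`. -/
structure Datum where
  /-- the linear map -/
  f : M →ₗ[A] TT δ
  hf : ∀ a : A, f (δ a) = der δ a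
  hspan : Submodule.span A (Set.range δ) = ⊤

variable {δ}

theorem Datum.mem_span (F : Datum δ) (m : M) : m ∈ Submodule.span A (Set.range δ) := by
  rw [F.hspan]; trivial

variable (F : Datum δ)

theorem fst_f (m : M) : TT.fst δ (F.f m) = ExteriorAlgebra.ι A m := by
  have hm := F.mem_span m
  induction hm using Submodule.span_induction with
  | mem x hx => obtain ⟨a, rfl⟩ := hx; rw [F.hf, fst_der]
  | zero => simp
  | add x y _ _ hx hy => rw [map_add, TT.fst_add, hx, hy, map_add]
  | smul a x _ hx => rw [map_smul, fst_smul, hx, map_smul]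

theorem f_mul_f (m m' : M) : F.f m * F.f m' + F.f m' * F.f m = 0 := by
  have hm := F.mem_span m
  have hm' := F.mem_span m'
  induction hm using Submodule.span_induction with
  | mem x hx =>
    obtain ⟨a, rfl⟩ := hx
    induction hm' using Submodule.span_induction with
    | mem y hy =>
      obtain ⟨b, rfl⟩ := hy
      rw [F.hf, F.hf]
      ext
      · simp only [TT.fst_add, TT.fst_mul, fst_der, TT.fst_zero]
        exact ExteriorAlgebra.ι_add_mul_swap _ _
      · simp
    | zero => simp
    | add x y _ _ hx hy =>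
      rw [map_add, mul_add, add_mul, add_add_add_comm, hx, hy, add_zero]
    | smul c x _ hx =>
      rw [map_smul, mul_smul_comm, smul_mul_assoc, ← smul_add, hx, smul_zero]
  | zero => simp
  | add x y _ _ hx hy =>
    rw [map_add, mul_add, add_mul, add_add_add_comm, hx, hy, add_zero]
  | smul c x _ hx =>
    rw [map_smul, mul_smul_comm, smul_mul_assoc, ← smul_add, hx, smul_zero]

theorem f_sq (m : M) : F.f m * F.f m = 0 := by
  have hm := F.mem_span m
  induction hm using Submodule.span_induction with
  | mem x hx =>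
    obtain ⟨a, rfl⟩ := hx
    rw [F.hf]
    ext
    · simp only [TT.fst_mul, fst_der, TT.fst_zero]
      exact ExteriorAlgebra.ι_sq_zero _
    · simp
  | zero => simp
  | add x y _ _ hx hy =>
    rw [map_add, mul_add, add_mul, add_mul, hx, hy, zero_add, add_zero, add_comm]
    exact f_mul_f F x y
  | smul c x _ hx =>
    rw [map_smul, mul_smul_comm, smul_mul_assoc, hx, smul_zero, smul_zero]

/-- The algebra map `x ↦ x + ε dx`. -/
noncomputable def Phi : ExteriorAlgebra A M →ₐ[A] TT δ :=
  ExteriorAlgebra.lift A ⟨F.f, f_sq F⟩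

@[simp] theorem Phi_ι (m : M) : Phi F (ExteriorAlgebra.ι A m) = F.f m :=
  ExteriorAlgebra.lift_ι_apply _ _ _ _

theorem fst_Phi (x : ExteriorAlgebra A M) : TT.fst δ (Phi F x) = x := by
  induction x using ExteriorAlgebra.induction with
  | algebraMap r => rw [AlgHom.commutes, algebraMap_TT, fst_sMap]
  | ι m => rw [Phi_ι, fst_f]
  | mul a b ha hb => rw [map_mul, TT.fst_mul, ha, hb]
  | add a b ha hb => rw [map_add, TT.fst_add, ha, hb]

/-- The de Rham differential on the exterior algebra, as an additive map. -/
noncomputable def dAdd : ExteriorAlgebra A M →+ ExteriorAlgebra A M :=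
  (TT.sndHom δ).comp ((Phi F : ExteriorAlgebra A M →+* TT δ) : ExteriorAlgebra A M →+ TT δ)

theorem dAdd_apply (x : ExteriorAlgebra A M) : dAdd F x = TT.snd δ (Phi F x) := rfl

theorem dAdd_algebraMap (a : A) :
    dAdd F (algebraMap A (ExteriorAlgebra A M) a) = ExteriorAlgebra.ι A (δ a) := by
  rw [dAdd_apply, AlgHom.commutes, algebraMap_TT, snd_sMap]

theorem dAdd_mul (x y : ExteriorAlgebra A M) :
    dAdd F (x * y) = dAdd F x * y + inv A M x * dAdd F y := by
  rw [dAdd_apply, map_mul, TT.snd_mul, fst_Phi, fst_Phi]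
  rfl

theorem dAdd_ι_δ (a : A) : dAdd F (ExteriorAlgebra.ι A (δ a)) = 0 := by
  rw [dAdd_apply, Phi_ι, F.hf, snd_der]

theorem dAdd_smul (a : A) (x : ExteriorAlgebra A M) :
    dAdd F (a • x) = ExteriorAlgebra.ι A (δ a) * x + a • dAdd F x := by
  rw [Algebra.smul_def, dAdd_mul, dAdd_algebraMap, inv_algebraMap, Algebra.smul_def]

include F in
/-- Induction principle: the exterior algebra of `M` is generated as a ring by `A` and the
`δ b`. -/
theorem ex_induction {P : ExteriorAlgebra A M → Prop}
    (h0 : ∀ a : A, P (algebraMap A (ExteriorAlgebra A M) a))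
    (h1 : ∀ b : A, P (ExteriorAlgebra.ι A (δ b)))
    (hmul : ∀ x y, P x → P y → P (x * y)) (hadd : ∀ x y, P x → P y → P (x + y))
    (x : ExteriorAlgebra A M) : P x := by
  induction x using ExteriorAlgebra.induction with
  | algebraMap r => exact h0 r
  | ι m =>
    have hm := F.mem_span m
    induction hm using Submodule.span_induction with
    | mem x hx => obtain ⟨a, rfl⟩ := hx; exact h1 a
    | zero => rw [map_zero, ← map_zero (algebraMap A (ExteriorAlgebra A M))]; exact h0 0
    | add x y _ _ hx hy => rw [map_add]; exact hadd _ _ hx hy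
    | smul c x _ hx => rw [map_smul, Algebra.smul_def]; exact hmul _ _ (h0 c) hx
  | mul a b ha hb => exact hmul a b ha hb
  | add a b ha hb => exact hadd a b ha hb

theorem dAdd_ι_mem (m : M) : dAdd F (ExteriorAlgebra.ι A m) ∈ ⋀[A]^2 M := by
  have hm := F.mem_span m
  induction hm using Submodule.span_induction with
  | mem x hx => obtain ⟨a, rfl⟩ := hx; rw [dAdd_ι_δ]; exact Submodule.zero_mem _
  | zero => rw [map_zero, map_zero]; exact Submodule.zero_mem _
  | add x y _ _ hx hy => rw [map_add, map_add]; exact Submodule.add_mem _ hx hy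
  | smul c x _ hx =>
    rw [map_smul, dAdd_smul]
    refine Submodule.add_mem _ ?_ (Submodule.smul_mem _ _ hx)
    rw [ExteriorAlgebra.exteriorPower, pow_two]
    exact Submodule.mul_mem_mul (LinearMap.mem_range_self _ _) (LinearMap.mem_range_self _ _)

theorem dAdd_mem (p : ℕ) {x : ExteriorAlgebra A M} (hx : x ∈ ⋀[A]^p M) :
    dAdd F x ∈ ⋀[A]^(p + 1) M := by
  induction p generalizing x with
  | zero =>
    rw [ExteriorAlgebra.exteriorPower, pow_zero, Submodule.mem_one] at hx
    obtain ⟨a, rfl⟩ := hx
    rw [dAdd_algebraMap, ExteriorAlgebra.exteriorPower, zero_add, pow_one]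
    exact LinearMap.mem_range_self _ _
  | succ p ih =>
    rw [ExteriorAlgebra.exteriorPower, pow_succ'] at hx
    refine Submodule.mul_induction_on hx ?_ ?_
    · intro y hy z hz
      obtain ⟨m, rfl⟩ := hy
      rw [dAdd_mul, inv_ι, neg_mul]
      refine Submodule.add_mem _ ?_ (Submodule.neg_mem _ ?_)
      · have h2 := dAdd_ι_mem F m
        have : (⋀[A]^(p + 1 + 1) M : Submodule A (ExteriorAlgebra A M)) =
            ⋀[A]^2 M * ⋀[A]^p M := by
          rw [ExteriorAlgebra.exteriorPower, ExteriorAlgebra.exteriorPower,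
            ExteriorAlgebra.exteriorPower, ← pow_add]
          congr 1
          omega
        rw [this]
        exact Submodule.mul_mem_mul h2 hz
      · have : (⋀[A]^(p + 1 + 1) M : Submodule A (ExteriorAlgebra A M)) =
            ⋀[A]^1 M * ⋀[A]^(p + 1) M := by
          rw [ExteriorAlgebra.exteriorPower, ExteriorAlgebra.exteriorPower,
            ExteriorAlgebra.exteriorPower, ← pow_add]
          congr 1
          omega
        rw [this]
        refine Submodule.mul_mem_mul ?_ (ih hz)
        rw [ExteriorAlgebra.exteriorPower, pow_one]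
        exact LinearMap.mem_range_self _ _
    · intro y z hy hz
      rw [map_add]; exact Submodule.add_mem _ hy hz

theorem dAdd_inv (x : ExteriorAlgebra A M) : dAdd F (inv A M x) = -inv A M (dAdd F x) := by
  induction x using ex_induction F with
  | h0 a =>
    rw [inv_algebraMap, dAdd_algebraMap, inv_ι, neg_neg]
  | h1 b =>
    rw [inv_ι, map_neg, dAdd_ι_δ, map_zero]
  | hmul x y hx hy =>
    rw [map_mul, dAdd_mul, hx, hy, inv_inv, dAdd_mul, map_add, map_mul, map_mul, inv_inv]
    rw [neg_mul, mul_neg, neg_add]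
  | hadd x y hx hy =>
    rw [map_add, map_add, hx, hy, map_add, map_add, neg_add]

theorem dAdd_dAdd (x : ExteriorAlgebra A M) : dAdd F (dAdd F x) = 0 := by
  induction x using ex_induction F with
  | h0 a => rw [dAdd_algebraMap, dAdd_ι_δ]
  | h1 b => rw [dAdd_ι_δ, map_zero]
  | hmul x y hx hy =>
    rw [dAdd_mul, map_add, dAdd_mul, dAdd_mul, hx, hy, dAdd_inv, inv_inv, zero_mul, mul_zero,
      zero_add, add_zero, neg_mul, add_neg_cancel]
  | hadd x y hx hy => rw [map_add, map_add, hx, hy, add_zero]

theorem dAdd_smulR (r : R) (x : ExteriorAlgebra A M) : dAdd F (r • x) = r • dAdd F x := by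
  rw [← algebraMap_smul A r x, dAdd_smul, Derivation.map_algebraMap, map_zero, zero_mul, zero_add,
    algebraMap_smul]

end Groth.Agent.Helper7.DRG
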