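import Mathlib
import Groth.Prelude.Def_DeRham
import Groth.Agent.Helper7.DRExt4

set_option linter.style.haveILetI false
set_option linter.unusedSectionVars false

/-! The degreewise family of the de Rham differential of a receptacle, `DeRham.IsDiff`. -/

namespace Groth.Agent.Helper7.DRG

open exteriorPower DeRham

universe u

variable {R A : Type u} [CommRing R] [CommRing A] [Algebra R A]
variable {M : Type u} [AddCommGroup M] [Module A M] [Module R M] [IsScalarTower R A M]
variable {δ : Derivation R A M}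

/-- forms are additively generated by the `gen`s -/
theorem forms_induction (hspan : Submodule.span A (Set.range δ) = ⊤) (p : ℕ)
    (P : ↥(⋀[A]^p M) → Prop)
    (h0 : P 0) (hadd : ∀ x y, P x → P y → P (x + y))
    (hgen : ∀ (b₀ : A) (b : Fin p → A), P (gen δ p b₀ b))
    (x : ↥(⋀[A]^p M)) : P x := by
  have hspan' := ιMulti_span_of_span (R := A) (n := p) (M := M) hspan
  have hx : x ∈ Submodule.span A (ιMulti A p '' {a : Fin p → M |
      Set.range a ⊆ Set.range δ}) := by
    rw [hspan']; trivial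
  induction hx using Submodule.closure_induction with
  | zero => exact h0
  | add x y _ _ hx hy => exact hadd x y hx hy
  | smul_mem r x hx =>
    obtain ⟨a, ha, rfl⟩ := hx
    have : ∀ i, ∃ b, δ b = a i := fun i => ha ⟨i, rfl⟩
    choose b hb using this
    have : a = fun i => δ (b i) := funext fun i => (hb i).symm
    rw [this]
    exact hgen r b

variable (F : Datum δ)

/-- The degreewise family. -/
noncomputable def dFam (p : ℕ) : ↥(⋀[A]^p M) →ₗ[R] ↥(⋀[A]^(p + 1) M) where
  toFun x := ⟨dAdd F (x : ExteriorAlgebra A M), dAdd_mem F p x.2⟩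
  map_add' x y := Subtype.ext (by
    change dAdd F ((x : ExteriorAlgebra A M) + (y : ExteriorAlgebra A M)) = _
    exact map_add (dAdd F) _ _)
  map_smul' r x := Subtype.ext (by
    change dAdd F (r • (x : ExteriorAlgebra A M)) = _
    exact dAdd_smulR F r _)

theorem coe_dFam (p : ℕ) (x : ↥(⋀[A]^p M)) :
    ((dFam F p x : ↥(⋀[A]^(p + 1) M)) : ExteriorAlgebra A M) = dAdd F (x : ExteriorAlgebra A M) :=
  rfl

theorem dAdd_ιMulti (p : ℕ) (b : Fin p → A) :
    dAdd F (ExteriorAlgebra.ιMulti A p (fun i => δ (b i))) = 0 := by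
  induction p with
  | zero =>
    rw [ExteriorAlgebra.ιMulti_zero_apply, ← map_one (algebraMap A (ExteriorAlgebra A M)),
      dAdd_algebraMap, Derivation.map_one_eq_zero, map_zero]
  | succ p ih =>
    rw [ExteriorAlgebra.ιMulti_succ_apply, dAdd_mul, dAdd_ι_δ, zero_mul, zero_add]
    have : (Matrix.vecTail fun i => δ (b i)) = fun i => δ (b i.succ) := rfl
    rw [this, ih, mul_zero]

theorem isRule_dFam : IsRule δ (dFam F) := by
  intro p b₀ b
  apply Subtype.ext
  rw [coe_dFam]
  unfold gen
  rw [Submodule.coe_smul, ιMulti_apply_coe, dAdd_smul, dAdd_ιMulti, smul_zero, add_zero,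
    ιMulti_apply_coe, ExteriorAlgebra.ιMulti_succ_apply]
  rfl

theorem isDiff_dFam : IsDiff δ (dFam F) := by
  refine ⟨isRule_dFam F, fun p => ?_⟩
  apply LinearMap.ext
  intro x
  apply Subtype.ext
  change dAdd F (dAdd F x) = 0
  exact dAdd_dAdd F _

/-- A family satisfying the rule is the restriction of `dAdd`. -/
theorem rule_unique (d : ∀ p : ℕ, ↥(⋀[A]^p M) →ₗ[R] ↥(⋀[A]^(p + 1) M)) (hd : IsRule δ d)
    (p : ℕ) (x : ↥(⋀[A]^p M)) : d p x = dFam F p x := by
  refine forms_induction F.hspan p (fun x => d p x = dFam F p x) (by simp) ?_ ?_ x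
  · intro x y hx hy
    simp only [map_add, hx, hy]
  · intro b₀ b
    rw [hd p b₀ b, isRule_dFam F p b₀ b]

theorem coe_rule (d : ∀ p : ℕ, ↥(⋀[A]^p M) →ₗ[R] ↥(⋀[A]^(p + 1) M)) (hd : IsRule δ d)
    (p : ℕ) (x : ↥(⋀[A]^p M)) :
    ((d p x : ↥(⋀[A]^(p + 1) M)) : ExteriorAlgebra A M) = dAdd F (x : ExteriorAlgebra A M) := by
  rw [rule_unique F d hd p x, coe_dFam]

/-- `exteriorPower.map` is the restriction of `ExteriorAlgebra.map`. -/
theorem coe_map {N : Type u} [AddCommGroup N] [Module A N] (π : M →ₗ[A] N) (p : ℕ)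
    (x : ↥(⋀[A]^p M)) :
    ((exteriorPower.map p π x : ↥(⋀[A]^p N)) : ExteriorAlgebra A N) =
      ExteriorAlgebra.map π (x : ExteriorAlgebra A M) := by
  have h : (Submodule.subtype _).comp (exteriorPower.map p π) =
      ((ExteriorAlgebra.map π).toLinearMap.comp (Submodule.subtype (⋀[A]^p M))) := by
    apply exteriorPower.linearMap_ext
    ext v
    simp only [LinearMap.compAlternatingMap_apply, LinearMap.coe_comp, Function.comp_apply,
      Submodule.coe_subtype, map_apply_ιMulti, ιMulti_apply_coe, AlgHom.toLinearMap_apply,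
      ExteriorAlgebra.map_apply_ιMulti]
  exact LinearMap.congr_fun h x

end Groth.Agent.Helper7.DRG
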