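import Mathlib
import Groth.Prelude.Def_DeRham
import Groth.Agent.Helper7.DRExt5

set_option linter.style.haveILetI false
set_option linter.unusedSectionVars false

/-! The de Rham differential of the Kähler differentials and of a quotient receptacle. -/

namespace Groth.Agent.Helper7.DRG

open exteriorPower DeRham KaehlerDifferential

universe u

variable (R A : Type u) [CommRing R] [CommRing A] [Algebra R A]

/-- The datum for the Kähler differentials. -/
noncomputable def kDatum : Datum (D R A) where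
  f := (der (D R A)).liftKaehlerDifferential
  hf _ := Derivation.liftKaehlerDifferential_comp_D _ _
  hspan := KaehlerDifferential.span_range_derivation R A

variable {R A}
variable {Ω' : Type u} [AddCommGroup Ω'] [Module A Ω'] [Module R Ω'] [IsScalarTower R A Ω']
variable (π : Ω[A⁄R] →ₗ[A] Ω')

theorem map_inv (x : ExteriorAlgebra A (Ω[A⁄R])) :
    ExteriorAlgebra.map π (inv A (Ω[A⁄R]) x) = inv A Ω' (ExteriorAlgebra.map π x) := by
  induction x using ExteriorAlgebra.induction with
  | algebraMap r => rw [inv_algebraMap, AlgHom.commutes, inv_algebraMap]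
  | ι m => rw [inv_ι, map_neg, ExteriorAlgebra.map_apply_ι, inv_ι]
  | mul a b ha hb => rw [map_mul, map_mul, ha, hb, map_mul, map_mul]
  | add a b ha hb => rw [map_add, map_add, ha, hb, map_add, map_add]

/-- The induced ring map on the twisted extensions. -/
noncomputable def Psi : TT (D R A) →+* TT (π.compDer (D R A)) where
  toFun t := TT.mk _ (ExteriorAlgebra.map π (TT.fst _ t)) (ExteriorAlgebra.map π (TT.snd _ t))
  map_one' := by
    ext
    · simp
    · simp
  map_mul' s t := by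
    ext
    · simp
    · simp only [TT.snd_mk, TT.snd_mul, TT.fst_mk, map_add, map_mul, map_inv]
  map_zero' := by
    ext
    · simp
    · simp
  map_add' s t := by
    ext
    · simp
    · simp

@[simp] theorem fst_Psi (t : TT (D R A)) :
    TT.fst _ (Psi π t) = ExteriorAlgebra.map π (TT.fst _ t) := rfl
@[simp] theorem snd_Psi (t : TT (D R A)) :
    TT.snd _ (Psi π t) = ExteriorAlgebra.map π (TT.snd _ t) := rfl

theorem Psi_sMap (a : A) : Psi π (sMap (D R A) a) = sMap (π.compDer (D R A)) a := by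
  ext
  · rw [fst_Psi, fst_sMap, fst_sMap, AlgHom.commutes]
  · rw [snd_Psi, snd_sMap, snd_sMap, ExteriorAlgebra.map_apply_ι]
    rfl

theorem Psi_smul (a : A) (t : TT (D R A)) : Psi π (a • t) = a • Psi π t := by
  rw [smul_TT, smul_TT, map_mul, Psi_sMap]

theorem Psi_der (a : A) : Psi π (der (D R A) a) = der (π.compDer (D R A)) a := by
  ext
  · rw [fst_Psi, fst_der, fst_der, ExteriorAlgebra.map_apply_ι]
    rfl
  · rw [snd_Psi, snd_der, snd_der, map_zero]

/-- The map `Ω → T'` induced by the derivation `a ↦ (δ' a, 0)`. -/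
noncomputable def F0 : Ω[A⁄R] →ₗ[A] TT (π.compDer (D R A)) :=
  (der (π.compDer (D R A))).liftKaehlerDifferential

theorem F0_D (a : A) : F0 π (D R A a) = der (π.compDer (D R A)) a :=
  Derivation.liftKaehlerDifferential_comp_D _ _

theorem F0_eq (ω : Ω[A⁄R]) : F0 π ω = Psi π ((kDatum R A).f ω) := by
  have hω := (kDatum R A).mem_span ω
  induction hω using Submodule.span_induction with
  | mem x hx =>
    obtain ⟨a, rfl⟩ := hx
    rw [F0_D, (kDatum R A).hf, Psi_der]
  | zero => simp
  | add x y _ _ hx hy => rw [map_add, map_add, map_add, hx, hy]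
  | smul c x _ hx => rw [map_smul, map_smul, Psi_smul, hx]

theorem coe_oneEquiv_symm (ω : Ω[A⁄R]) :
    (((exteriorPower.oneEquiv A (Ω[A⁄R])).symm ω : ↥(⋀[A]^1 (Ω[A⁄R]))) :
      ExteriorAlgebra A (Ω[A⁄R])) = ExteriorAlgebra.ι A ω := by
  rw [exteriorPower.oneEquiv_symm_apply, ιMulti_apply_coe, ExteriorAlgebra.ιMulti_succ_apply,
    ExteriorAlgebra.ιMulti_zero_apply, mul_one]

variable (dA : ∀ p : ℕ, ↥(⋀[A]^p (Ω[A⁄R])) →ₗ[R] ↥(⋀[A]^(p + 1) (Ω[A⁄R])))
  (hdA : DeRham.IsDiff (KaehlerDifferential.D R A) dA)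

include hdA in
theorem F0_eq_zero (ω : Ω[A⁄R]) (h1 : π ω = 0)
    (h2 : exteriorPower.map 2 π (dA 1 ((exteriorPower.oneEquiv A (Ω[A⁄R])).symm ω)) = 0) :
    F0 π ω = 0 := by
  rw [F0_eq]
  ext
  · rw [fst_Psi, fst_f, ExteriorAlgebra.map_apply_ι, h1, map_zero, TT.fst_zero]
  · rw [snd_Psi, TT.snd_zero]
    have h3 := coe_rule (kDatum R A) dA hdA.1 1 ((exteriorPower.oneEquiv A (Ω[A⁄R])).symm ω)
    rw [coe_oneEquiv_symm] at h3
    have h4 : TT.snd _ ((kDatum R A).f ω) = dAdd (kDatum R A) (ExteriorAlgebra.ι A ω) := by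
      rw [dAdd_apply, Phi_ι]
    rw [h4, ← h3, ← coe_map, h2]
    rfl

include hdA in
theorem ker_le (hker : LinearMap.ker π ≤ Submodule.span A {ω : Ω[A⁄R] | π ω = 0 ∧
      exteriorPower.map 2 π (dA 1 ((exteriorPower.oneEquiv A (Ω[A⁄R])).symm ω)) = 0}) :
    LinearMap.ker π ≤ LinearMap.ker (F0 π) := by
  refine hker.trans ?_
  rw [Submodule.span_le]
  rintro ω ⟨h1, h2⟩
  exact F0_eq_zero π dA hdA ω h1 h2

variable (hπ : Function.Surjective π)
  (hker : LinearMap.ker π ≤ Submodule.span A {ω : Ω[A⁄R] | π ω = 0 ∧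
      exteriorPower.map 2 π (dA 1 ((exteriorPower.oneEquiv A (Ω[A⁄R])).symm ω)) = 0})

/-- The induced map on the quotient. -/
noncomputable def fQ : Ω' →ₗ[A] TT (π.compDer (D R A)) :=
  ((LinearMap.ker π).liftQ (F0 π) (ker_le π dA hdA hker)).comp
    (LinearMap.quotKerEquivOfSurjective π hπ).symm.toLinearMap

theorem fQ_π (ω : Ω[A⁄R]) : fQ π dA hdA hπ hker (π ω) = F0 π ω := by
  have : (LinearMap.quotKerEquivOfSurjective π hπ).symm (π ω) =
      Submodule.Quotient.mk ω := by
    rw [LinearEquiv.symm_apply_eq]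
    rfl
  rw [fQ, LinearMap.comp_apply, LinearEquiv.coe_coe, this]
  rfl

/-- The datum of the quotient receptacle. -/
noncomputable def qDatum : Datum (π.compDer (D R A)) where
  f := fQ π dA hdA hπ hker
  hf a := by
    change fQ π dA hdA hπ hker (π (D R A a)) = _
    rw [fQ_π, F0_D]
  hspan := by
    have h1 : Set.range (π.compDer (D R A)) = π '' Set.range (D R A) := by
      ext x
      constructor
      · rintro ⟨a, rfl⟩; exact ⟨D R A a, ⟨a, rfl⟩, rfl⟩
      · rintro ⟨_, ⟨a, rfl⟩, rfl⟩; exact ⟨a, rfl⟩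
    rw [h1, ← Submodule.map_span, KaehlerDifferential.span_range_derivation, Submodule.map_top,
      LinearMap.range_eq_top.2 hπ]

theorem Psi_Phi (x : ExteriorAlgebra A (Ω[A⁄R])) :
    Psi π (Phi (kDatum R A) x) = Phi (qDatum π dA hdA hπ hker) (ExteriorAlgebra.map π x) := by
  induction x using ExteriorAlgebra.induction with
  | algebraMap r =>
    rw [AlgHom.commutes, AlgHom.commutes, AlgHom.commutes, algebraMap_TT, algebraMap_TT, Psi_sMap]
  | ι m =>
    rw [Phi_ι, ExteriorAlgebra.map_apply_ι, Phi_ι, ← F0_eq]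
    exact (fQ_π π dA hdA hπ hker m).symm
  | mul a b ha hb => rw [map_mul, map_mul, ha, hb, map_mul, map_mul]
  | add a b ha hb => rw [map_add, map_add, ha, hb, map_add, map_add]

theorem map_dAdd (x : ExteriorAlgebra A (Ω[A⁄R])) :
    ExteriorAlgebra.map π (dAdd (kDatum R A) x) =
      dAdd (qDatum π dA hdA hπ hker) (ExteriorAlgebra.map π x) := by
  rw [dAdd_apply, dAdd_apply, ← Psi_Phi, snd_Psi]

include hdA hπ hker in
/-- The de Rham differential on a quotient receptacle of the Kähler differentials. -/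
theorem exists_quot :
    ∃ d : ∀ p : ℕ, ↥(⋀[A]^p Ω') →ₗ[R] ↥(⋀[A]^(p + 1) Ω'),
      DeRham.IsDiff (π.compDer (KaehlerDifferential.D R A)) d ∧
        ∀ (p : ℕ) (x : ↥(⋀[A]^p (Ω[A⁄R]))),
          d p (exteriorPower.map p π x) = exteriorPower.map (p + 1) π (dA p x) := by
  refine ⟨dFam (qDatum π dA hdA hπ hker), isDiff_dFam _, fun p x => ?_⟩
  apply Subtype.ext
  rw [coe_dFam, coe_map, coe_map, ← map_dAdd, coe_rule (kDatum R A) dA hdA.1]

end Groth.Agent.Helper7.DRG
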