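import Mathlib
import Groth.Prelude.Def_DeRham
import Groth.Agent.Helper7.DRExt5

set_option linter.style.haveILetI false
set_option linter.unusedSectionVars false

/-! Contraction with a linear form on the exterior algebra and the Lie derivative
`L = d h + h d`. -/

namespace Groth.Agent.Helper7.DRG

open exteriorPower DeRham

universe u

variable {R A : Type u} [CommRing R] [CommRing A] [Algebra R A]
variable {M : Type u} [AddCommGroup M] [Module A M] [Module R M] [IsScalarTower R A M]

section Contract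

variable (ε : Module.Dual A M)

/-- Contraction with the linear form `ε`. -/
noncomputable def hC : ExteriorAlgebra A M →ₗ[A] ExteriorAlgebra A M :=
  CliffordAlgebra.contractLeft (Q := (0 : QuadraticForm A M)) ε

theorem hC_ι_mul (m : M) (x : ExteriorAlgebra A M) :
    hC ε (ExteriorAlgebra.ι A m * x) = ε m • x - ExteriorAlgebra.ι A m * hC ε x :=
  CliffordAlgebra.contractLeft_ι_mul ε m x

theorem hC_algebraMap (a : A) : hC ε (algebraMap A (ExteriorAlgebra A M) a) = 0 :=
  CliffordAlgebra.contractLeft_algebraMap _ ε a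

theorem hC_algebraMap_mul (a : A) (x : ExteriorAlgebra A M) :
    hC ε (algebraMap A (ExteriorAlgebra A M) a * x) =
      algebraMap A (ExteriorAlgebra A M) a * hC ε x :=
  CliffordAlgebra.contractLeft_algebraMap_mul ε a x

theorem hC_ι (m : M) : hC ε (ExteriorAlgebra.ι A m) = algebraMap A (ExteriorAlgebra A M) (ε m) :=
  CliffordAlgebra.contractLeft_ι _ ε m

theorem inv_smul (a : A) (x : ExteriorAlgebra A M) : inv A M (a • x) = a • inv A M x := by
  rw [Algebra.smul_def, map_mul, inv_algebraMap, Algebra.smul_def]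

theorem hC_inv (x : ExteriorAlgebra A M) : hC ε (inv A M x) = -inv A M (hC ε x) := by
  induction x using CliffordAlgebra.left_induction with
  | algebraMap r => rw [inv_algebraMap, hC_algebraMap, map_zero, neg_zero]
  | add x y hx hy => rw [map_add, map_add, hx, hy, map_add, map_add, neg_add]
  | ι_mul x m hx =>
    change hC ε (inv A M (ExteriorAlgebra.ι A m * x)) = -inv A M (hC ε (ExteriorAlgebra.ι A m * x))
    rw [map_mul, inv_ι, neg_mul, map_neg, hC_ι_mul, hC_ι_mul, hx, map_sub, inv_smul, map_mul,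
      inv_ι]
    simp only [neg_mul, mul_neg, sub_neg_eq_add]

theorem hC_mul (x y : ExteriorAlgebra A M) :
    hC ε (x * y) = hC ε x * y + inv A M x * hC ε y := by
  induction x using CliffordAlgebra.left_induction with
  | algebraMap r =>
    rw [hC_algebraMap_mul, hC_algebraMap, zero_mul, zero_add, inv_algebraMap]
  | add x x' hx hx' =>
    rw [add_mul, map_add, hx, hx', map_add, map_add, add_mul, add_mul]
    abel
  | ι_mul x m hx =>
    change hC ε (ExteriorAlgebra.ι A m * x * y) =
      hC ε (ExteriorAlgebra.ι A m * x) * y + inv A M (ExteriorAlgebra.ι A m * x) * hC ε y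
    rw [mul_assoc, hC_ι_mul, hx, hC_ι_mul, map_mul, inv_ι, sub_mul, mul_add, smul_mul_assoc,
      neg_mul, neg_mul, mul_assoc, mul_assoc]
    abel

theorem hC_mem (p : ℕ) {x : ExteriorAlgebra A M} (hx : x ∈ ⋀[A]^(p + 1) M) :
    hC ε x ∈ ⋀[A]^p M := by
  induction p generalizing x with
  | zero =>
    rw [ExteriorAlgebra.exteriorPower, zero_add, pow_one] at hx
    obtain ⟨m, rfl⟩ := hx
    rw [hC_ι, ExteriorAlgebra.exteriorPower, pow_zero, Submodule.mem_one]
    exact ⟨_, rfl⟩
  | succ p ih =>
    rw [ExteriorAlgebra.exteriorPower, pow_succ'] at hx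
    refine Submodule.mul_induction_on hx ?_ ?_
    · intro y hy z hz
      obtain ⟨m, rfl⟩ := hy
      rw [hC_ι_mul]
      refine Submodule.sub_mem _ (Submodule.smul_mem _ _ hz) ?_
      have : (⋀[A]^(p + 1) M : Submodule A (ExteriorAlgebra A M)) =
          ⋀[A]^1 M * ⋀[A]^p M := by
        rw [ExteriorAlgebra.exteriorPower, ExteriorAlgebra.exteriorPower,
          ExteriorAlgebra.exteriorPower, ← pow_add]
        congr 1
        omega
      rw [this]
      refine Submodule.mul_mem_mul ?_ (ih hz)
      rw [ExteriorAlgebra.exteriorPower, pow_one]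
      exact LinearMap.mem_range_self _ _
    · intro y z hy hz
      rw [map_add]; exact Submodule.add_mem _ hy hz

end Contract

section Lie

variable {δ : Derivation R A M} (F : Datum δ) (ε : Module.Dual A M)

/-- The Lie derivative `L = d h + h d`. -/
noncomputable def Lie : ExteriorAlgebra A M →+ ExteriorAlgebra A M :=
  (dAdd F).comp (hC ε).toAddMonoidHom + (hC ε).toAddMonoidHom.comp (dAdd F)

theorem Lie_apply (x : ExteriorAlgebra A M) :
    Lie F ε x = dAdd F (hC ε x) + hC ε (dAdd F x) := rfl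

theorem Lie_mul (x y : ExteriorAlgebra A M) :
    Lie F ε (x * y) = Lie F ε x * y + x * Lie F ε y := by
  simp only [Lie_apply, hC_mul, dAdd_mul, map_add, dAdd_inv, hC_inv, inv_inv, neg_mul, mul_add,
    add_mul]
  abel

theorem Lie_algebraMap (a : A) :
    Lie F ε (algebraMap A (ExteriorAlgebra A M) a) =
      algebraMap A (ExteriorAlgebra A M) (ε (δ a)) := by
  rw [Lie_apply, hC_algebraMap, map_zero, zero_add, dAdd_algebraMap, hC_ι]

theorem Lie_ι_δ (b : A) :
    Lie F ε (ExteriorAlgebra.ι A (δ b)) = ExteriorAlgebra.ι A (δ (ε (δ b))) := by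
  rw [Lie_apply, hC_ι, dAdd_algebraMap, dAdd_ι_δ, map_zero, add_zero]

theorem Lie_smul (a : A) (x : ExteriorAlgebra A M) :
    Lie F ε (a • x) = ε (δ a) • x + a • Lie F ε x := by
  rw [Algebra.smul_def, Lie_mul, Lie_algebraMap, Algebra.smul_def, Algebra.smul_def]

theorem Lie_dAdd (x : ExteriorAlgebra A M) : Lie F ε (dAdd F x) = dAdd F (Lie F ε x) := by
  rw [Lie_apply, Lie_apply, dAdd_dAdd, map_zero, add_zero, map_add, dAdd_dAdd, zero_add]

theorem Lie_mem (p : ℕ) {x : ExteriorAlgebra A M} (hx : x ∈ ⋀[A]^p M) :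
    Lie F ε x ∈ ⋀[A]^p M := by
  rw [Lie_apply]
  refine Submodule.add_mem _ ?_ (hC_mem ε p (dAdd_mem F p hx))
  cases p with
  | zero =>
    rw [ExteriorAlgebra.exteriorPower, pow_zero, Submodule.mem_one] at hx
    obtain ⟨a, rfl⟩ := hx
    rw [hC_algebraMap, map_zero]
    exact Submodule.zero_mem _
  | succ p => exact dAdd_mem F p (hC_mem ε p hx)

/-- `L` on a wedge of `q` eigenvectors of eigenvalue one. -/
theorem Lie_ιMulti (q : ℕ) (v : Fin q → M)
    (hv : ∀ i, Lie F ε (ExteriorAlgebra.ι A (v i)) = ExteriorAlgebra.ι A (v i)) :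
    Lie F ε (ExteriorAlgebra.ιMulti A q v) = (q : A) • ExteriorAlgebra.ιMulti A q v := by
  induction q with
  | zero =>
    rw [ExteriorAlgebra.ιMulti_zero_apply, ← map_one (algebraMap A (ExteriorAlgebra A M)),
      Lie_algebraMap, Derivation.map_one_eq_zero, map_zero, map_zero, Nat.cast_zero, zero_smul]
  | succ q ih =>
    rw [ExteriorAlgebra.ιMulti_succ_apply, Lie_mul, hv 0,
      ih (Matrix.vecTail v) (fun i => hv i.succ), mul_smul_comm, Nat.cast_succ, add_smul,
      one_smul, add_comm]

/-- `L (f • ω) = (E f + q f) • ω` for `ω` a wedge of `q` eigenvectors. -/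
theorem Lie_smul_ιMulti (q : ℕ) (v : Fin q → M)
    (hv : ∀ i, Lie F ε (ExteriorAlgebra.ι A (v i)) = ExteriorAlgebra.ι A (v i)) (f : A) :
    Lie F ε (f • ExteriorAlgebra.ιMulti A q v) =
      (ε (δ f) + (q : A) * f) • ExteriorAlgebra.ιMulti A q v := by
  rw [Lie_smul, Lie_ιMulti F ε q v hv, add_smul, mul_smul, smul_comm f]

end Lie

end Groth.Agent.Helper7.DRG
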