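import Mathlib
import Groth.Prelude.Def_DeRham
import Groth.Agent.Helper7.DRP1

set_option linter.style.haveILetI false
set_option linter.unusedSectionVars false

/-! Weight projector built from a Lie derivative with natural-number eigenvalues, in
characteristic zero: `Q_N = ∏_{k=1}^N (1 - L/k)`, and the homotopy `y - Q_N y = d(u)` on closed
forms. -/

namespace Groth.Agent.Helper7.DRH

open exteriorPower DeRham Groth.Agent.Helper7.DRG

universe u

variable {R A : Type u} [CommRing R] [CommRing A] [Algebra R A]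
variable {M : Type u} [AddCommGroup M] [Module A M] [Module R M] [IsScalarTower R A M]
variable {δ : Derivation R A M} (F : Datum δ) (ε : Module.Dual A M)
variable (c : ℕ → A) (hc : ∀ k : ℕ, δ (c k) = 0) (hck : ∀ k : ℕ, 1 ≤ k → (k : A) * c k = 1)

/-- `y ↦ y - c_k L y` -/
noncomputable def step (k : ℕ) : ExteriorAlgebra A M →+ ExteriorAlgebra A M :=
  AddMonoidHom.id _ - (DistribSMul.toAddMonoidHom (ExteriorAlgebra A M) (c k)).comp (Lie F ε)

theorem step_apply (k : ℕ) (y : ExteriorAlgebra A M) :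
    step F ε c k y = y - c k • Lie F ε y := rfl

/-- `Q_N = step N ∘ ⋯ ∘ step 1` -/
noncomputable def Q : ℕ → (ExteriorAlgebra A M →+ ExteriorAlgebra A M)
  | 0 => AddMonoidHom.id _
  | (N + 1) => (step F ε c (N + 1)).comp (Q N)

theorem Q_zero (y : ExteriorAlgebra A M) : Q F ε c 0 y = y := rfl

theorem Q_succ (N : ℕ) (y : ExteriorAlgebra A M) :
    Q F ε c (N + 1) y = step F ε c (N + 1) (Q F ε c N y) := rfl

include hc in
theorem dAdd_smul_c (k : ℕ) (y : ExteriorAlgebra A M) :
    dAdd F (c k • y) = c k • dAdd F y := by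
  rw [dAdd_smul, hc, map_zero, zero_mul, zero_add]

include hc in
theorem Lie_smul_c (k : ℕ) (y : ExteriorAlgebra A M) :
    Lie F ε (c k • y) = c k • Lie F ε y := by
  rw [Lie_smul, hc, map_zero, zero_smul, zero_add]

include hc in
theorem step_dAdd (k : ℕ) (y : ExteriorAlgebra A M) :
    step F ε c k (dAdd F y) = dAdd F (step F ε c k y) := by
  rw [step_apply, step_apply, map_sub, dAdd_smul_c F c hc, Lie_dAdd]

include hc in
theorem Q_dAdd (N : ℕ) (y : ExteriorAlgebra A M) :
    Q F ε c N (dAdd F y) = dAdd F (Q F ε c N y) := by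
  induction N with
  | zero => rfl
  | succ N ih => rw [Q_succ, Q_succ, ih, step_dAdd F ε c hc]

include hc in
theorem Lie_step (k : ℕ) (y : ExteriorAlgebra A M) :
    Lie F ε (step F ε c k y) = step F ε c k (Lie F ε y) := by
  rw [step_apply, step_apply, map_sub, Lie_smul_c F ε c hc]

theorem step_mem (k p : ℕ) {y : ExteriorAlgebra A M} (hy : y ∈ ⋀[A]^p M) :
    step F ε c k y ∈ ⋀[A]^p M := by
  rw [step_apply]
  exact Submodule.sub_mem _ hy (Submodule.smul_mem _ _ (Lie_mem F ε p hy))

theorem Q_mem (N p : ℕ) {y : ExteriorAlgebra A M} (hy : y ∈ ⋀[A]^p M) :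
    Q F ε c N y ∈ ⋀[A]^p M := by
  induction N with
  | zero => exact hy
  | succ N ih => exact step_mem F ε c (N + 1) p ih

/-- eigenvectors of weight `w` -/
def IsEig (w : ℕ) (y : ExteriorAlgebra A M) : Prop := Lie F ε y = (w : A) • y

theorem isEig_smul_nat (w : ℕ) (a : A) (ha : ε (δ a) = 0) {y : ExteriorAlgebra A M}
    (hy : IsEig F ε w y) : IsEig F ε w (a • y) := by
  unfold IsEig at hy ⊢
  rw [Lie_smul, ha, zero_smul, zero_add, hy, smul_comm]

include hc in
theorem isEig_step (k w : ℕ) {y : ExteriorAlgebra A M} (hy : IsEig F ε w y) :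
    IsEig F ε w (step F ε c k y) := by
  unfold IsEig at hy ⊢
  rw [Lie_step F ε c hc, hy, step_apply, step_apply, Lie_smul, Derivation.map_natCast, map_zero,
    zero_smul, zero_add, smul_sub, smul_comm (c k)]

include hc in
theorem isEig_Q (N w : ℕ) {y : ExteriorAlgebra A M} (hy : IsEig F ε w y) :
    IsEig F ε w (Q F ε c N y) := by
  induction N with
  | zero => exact hy
  | succ N ih => exact isEig_step F ε c hc (N + 1) w ih

theorem step_eig_zero (k : ℕ) {y : ExteriorAlgebra A M} (hy : IsEig F ε 0 y) :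
    step F ε c k y = y := by
  unfold IsEig at hy
  rw [step_apply, hy, Nat.cast_zero, zero_smul, smul_zero, sub_zero]

theorem Q_eig_zero (N : ℕ) {y : ExteriorAlgebra A M} (hy : IsEig F ε 0 y) :
    Q F ε c N y = y := by
  induction N with
  | zero => rfl
  | succ N ih => rw [Q_succ, ih, step_eig_zero F ε c (N + 1) hy]

include hck in
theorem step_eig_self (w : ℕ) (hw : 1 ≤ w) {y : ExteriorAlgebra A M} (hy : IsEig F ε w y) :
    step F ε c w y = 0 := by
  unfold IsEig at hy
  rw [step_apply, hy, smul_smul, mul_comm, hck w hw, one_smul, sub_self]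

include hc hck in
theorem Q_eig_pos (w : ℕ) (hw : 1 ≤ w) {y : ExteriorAlgebra A M} (hy : IsEig F ε w y)
    (N : ℕ) (hN : w ≤ N) : Q F ε c N y = 0 := by
  induction N with
  | zero => omega
  | succ N ih =>
    rw [Q_succ]
    rcases Nat.lt_or_ge N w with h | h
    · have : N + 1 = w := by omega
      rw [this]
      exact step_eig_self F ε c hck w hw (isEig_Q F ε c hc N w hy)
    · rw [ih h, map_zero]

include hc in
/-- the homotopy: on closed forms of positive degree, `y - Q_N y` is exact -/
theorem homotopy_succ (N q : ℕ) {y : ExteriorAlgebra A M} (hy : y ∈ ⋀[A]^(q + 1) M)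
    (hdy : dAdd F y = 0) :
    ∃ u ∈ ⋀[A]^q M, dAdd F u = y - Q F ε c N y := by
  induction N with
  | zero => exact ⟨0, Submodule.zero_mem _, by rw [map_zero, Q_zero, sub_self]⟩
  | succ N ih =>
    obtain ⟨u, hu, hdu⟩ := ih
    have hQ : Q F ε c N y ∈ ⋀[A]^(q + 1) M := Q_mem F ε c N (q + 1) hy
    have hdQ : dAdd F (Q F ε c N y) = 0 := by rw [← Q_dAdd F ε c hc, hdy, map_zero]
    refine ⟨u + c (N + 1) • hC ε (Q F ε c N y),
      Submodule.add_mem _ hu (Submodule.smul_mem _ _ (hC_mem ε q hQ)), ?_⟩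
    rw [map_add, hdu, dAdd_smul_c F c hc, Q_succ, step_apply, Lie_apply, hdQ, map_zero, add_zero]
    abel

include hc in
/-- in degree zero closed forms are fixed by `Q_N` -/
theorem homotopy_zero (N : ℕ) {y : ExteriorAlgebra A M} (hy : y ∈ ⋀[A]^0 M)
    (hdy : dAdd F y = 0) : Q F ε c N y = y := by
  induction N with
  | zero => rfl
  | succ N ih =>
    rw [Q_succ, ih, step_apply, Lie_apply, hdy, map_zero, add_zero]
    rw [ExteriorAlgebra.exteriorPower, pow_zero, Submodule.mem_one] at hy
    obtain ⟨a, rfl⟩ := hy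
    rw [hC_algebraMap, map_zero, smul_zero, sub_zero]

end Groth.Agent.Helper7.DRH
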