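import Mathlib
import Groth.Prelude.Def_DeRham
import Groth.Agent.Helper7.DRH1
import Groth.Agent.Helper7.DRExt6

set_option linter.style.haveILetI false
set_option linter.unusedSectionVars false

/-! The Euler derivation `t d/dt` on `A[t]` and weights of forms. -/

namespace Groth.Agent.Helper7.DRH

open Polynomial exteriorPower DeRham Groth.Agent.Helper7.DRG KaehlerDifferential

universe u

section general

variable {R A : Type u} [CommRing R] [CommRing A] [Algebra R A]
variable {M : Type u} [AddCommGroup M] [Module A M] [Module R M] [IsScalarTower R A M]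
variable {δ : Derivation R A M} (F : Datum δ) (ε : Module.Dual A M)

/-- `L` on a wedge of eigenvectors with natural eigenvalues -/
theorem Lie_ιMulti_nat (q : ℕ) (v : Fin q → M) (n : Fin q → ℕ)
    (hv : ∀ j, Lie F ε (ExteriorAlgebra.ι A (v j)) = (n j : A) • ExteriorAlgebra.ι A (v j)) :
    Lie F ε (ExteriorAlgebra.ιMulti A q v) =
      ((∑ j, n j : ℕ) : A) • ExteriorAlgebra.ιMulti A q v := by
  induction q with
  | zero =>
    rw [ExteriorAlgebra.ιMulti_zero_apply, ← map_one (algebraMap A (ExteriorAlgebra A M)),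
      Lie_algebraMap, Derivation.map_one_eq_zero, map_zero, map_zero]
    simp
  | succ q ih =>
    rw [ExteriorAlgebra.ιMulti_succ_apply, Lie_mul, hv 0,
      ih (Matrix.vecTail v) (fun j => n j.succ) (fun j => hv j.succ), mul_smul_comm,
      smul_mul_assoc, ← add_smul, Fin.sum_univ_succ, Nat.cast_add]

theorem isEig_smul_ιMulti (q : ℕ) (v : Fin q → M) (n : Fin q → ℕ)
    (hv : ∀ j, Lie F ε (ExteriorAlgebra.ι A (v j)) = (n j : A) • ExteriorAlgebra.ι A (v j))
    (b : A) (i : ℕ) (hb : ε (δ b) = (i : A) * b) :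
    IsEig F ε (i + ∑ j, n j) (b • ExteriorAlgebra.ιMulti A q v) := by
  unfold IsEig
  rw [Lie_smul, hb, Lie_ιMulti_nat F ε q v n hv, smul_comm b, mul_smul, ← add_smul,
    Nat.cast_add]

end general

section poly

variable (R A : Type u) [CommRing R] [CommRing A] [Algebra R A]

/-- `t d/dt` as an `R`-derivation of `A[t]` -/
noncomputable def Dt : Derivation R A[X] A[X] :=
  (X : A[X]) • ((Polynomial.derivative' (R := A)).restrictScalars R)

theorem Dt_apply (f : A[X]) : Dt R A f = X * derivative f := rfl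

/-- the corresponding linear form on `Ω[A[X]⁄R]` -/
noncomputable def eps : Module.Dual A[X] (Ω[A[X]⁄R]) := (Dt R A).liftKaehlerDifferential

theorem eps_D (f : A[X]) : eps R A (D R A[X] f) = X * derivative f := by
  unfold eps
  rw [Derivation.liftKaehlerDifferential_comp_D, Dt_apply]

theorem eps_D_C (a : A) : eps R A (D R A[X] (C a)) = 0 := by
  rw [eps_D, derivative_C, mul_zero]

theorem eps_D_X : eps R A (D R A[X] X) = X := by
  rw [eps_D, derivative_X, mul_one]

theorem eps_D_monomial (i : ℕ) (a : A) :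
    eps R A (D R A[X] (monomial i a)) = (i : A[X]) * monomial i a := by
  rw [eps_D, derivative_monomial]
  rcases Nat.eq_zero_or_pos i with rfl | hi
  · simp
  · rw [X_mul_monomial, ← C_eq_natCast, C_mul_monomial, Nat.sub_add_cancel hi, mul_comm]

/-- the generating set `{d(a)} ∪ {dt}` of `Ω[A[X]⁄R]` -/
def gens : Set (Ω[A[X]⁄R]) := {m | (∃ a : A, m = D R A[X] (C a)) ∨ m = D R A[X] X}

theorem span_gens : Submodule.span A[X] (gens R A) = ⊤ := by
  rw [eq_top_iff, ← KaehlerDifferential.span_range_derivation R A[X], Submodule.span_le]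
  rintro _ ⟨f, rfl⟩
  induction f using Polynomial.induction_on with
  | C a => exact Submodule.subset_span (Or.inl ⟨a, rfl⟩)
  | add f g hf hg =>
    rw [map_add]
    exact Submodule.add_mem _ hf hg
  | monomial n a h =>
    rw [pow_succ, ← mul_assoc, Derivation.leibniz]
    exact Submodule.add_mem _
      (Submodule.smul_mem _ _ (Submodule.subset_span (Or.inr rfl)))
      (Submodule.smul_mem _ _ h)

theorem Lie_gens (m : Ω[A[X]⁄R]) (hm : m ∈ gens R A) :
    ∃ n : ℕ, Lie (kDatum R A[X]) (eps R A) (ExteriorAlgebra.ι A[X] m) =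
        (n : A[X]) • ExteriorAlgebra.ι A[X] m ∧
      (n = 0 → ∃ a : A, m = D R A[X] (C a)) := by
  rcases hm with ⟨a, rfl⟩ | rfl
  · refine ⟨0, ?_, fun _ => ⟨a, rfl⟩⟩
    rw [Lie_ι_δ, eps_D_C, map_zero, map_zero, Nat.cast_zero, zero_smul]
  · by_cases h : ∃ a : A, D R A[X] X = D R A[X] (C a)
    · obtain ⟨a, ha⟩ := h
      refine ⟨0, ?_, fun _ => ⟨a, ha⟩⟩
      rw [ha, Lie_ι_δ, eps_D_C, map_zero, map_zero, Nat.cast_zero, zero_smul]
    · refine ⟨1, ?_, fun h1 => absurd h1 one_ne_zero⟩
      rw [Lie_ι_δ, eps_D_X, Nat.cast_one, one_smul]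

/-- monomial forms -/
def monoForms (p : ℕ) : Set (ExteriorAlgebra A[X] (Ω[A[X]⁄R])) :=
  {z | ∃ (i : ℕ) (a : A) (v : Fin p → Ω[A[X]⁄R]), (∀ j, v j ∈ gens R A) ∧
    z = (monomial i a : A[X]) • ExteriorAlgebra.ιMulti A[X] p v}

theorem smul_mem_closure (p : ℕ) (b : A[X]) (z : ExteriorAlgebra A[X] (Ω[A[X]⁄R]))
    (hz : z ∈ AddSubmonoid.closure (monoForms R A p)) :
    b • z ∈ AddSubmonoid.closure (monoForms R A p) := by
  induction hz using AddSubmonoid.closure_induction with
  | mem z hz =>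
    obtain ⟨i, a, v, hv, rfl⟩ := hz
    induction b using Polynomial.induction_on' with
    | add f g hf hg =>
      rw [add_smul]
      exact AddSubmonoid.add_mem _ hf hg
    | monomial j c =>
      rw [smul_smul, monomial_mul_monomial]
      exact AddSubmonoid.subset_closure ⟨j + i, c * a, v, hv, rfl⟩
  | zero => rw [smul_zero]; exact AddSubmonoid.zero_mem _
  | add x y _ _ hx hy => rw [smul_add]; exact AddSubmonoid.add_mem _ hx hy

theorem mem_closure_of_mem (p : ℕ) (x : ↥(⋀[A[X]]^p (Ω[A[X]⁄R]))) :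
    (x : ExteriorAlgebra A[X] (Ω[A[X]⁄R])) ∈ AddSubmonoid.closure (monoForms R A p) := by
  have hspan := ιMulti_span_of_span (R := A[X]) (n := p) (M := Ω[A[X]⁄R]) (span_gens R A)
  have hx : x ∈ Submodule.span A[X] (ιMulti A[X] p '' {a : Fin p → Ω[A[X]⁄R] |
      Set.range a ⊆ gens R A}) := by
    rw [hspan]; trivial
  induction hx using Submodule.span_induction with
  | mem x hx =>
    obtain ⟨v, hv, rfl⟩ := hx
    refine AddSubmonoid.subset_closure ⟨0, 1, v, fun j => hv ⟨j, rfl⟩, ?_⟩
    rw [exteriorPower.ιMulti_apply_coe, monomial_zero_one, one_smul]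
  | zero => exact AddSubmonoid.zero_mem _
  | add x y _ _ hx hy => exact AddSubmonoid.add_mem _ hx hy
  | smul b x _ hx => exact smul_mem_closure R A p b _ hx

end poly

end Groth.Agent.Helper7.DRH
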