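import Mathlib
import Groth.Prelude.Def_DeRham
import Groth.Agent.Helper7.DRH2
import Groth.Agent.Helper7.DR

set_option linter.style.haveILetI false
set_option linter.unusedSectionVars false

/-! Homotopy invariance of algebraic de Rham cohomology in characteristic zero:
`A → A[t]` induces a quasi-isomorphism of de Rham complexes. -/

namespace Groth.Agent.Helper7.DRH

open Polynomial exteriorPower DeRham Groth.Agent.Helper7.DRG KaehlerDifferential

universe u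

section retraction

variable (R A : Type u) [CommRing R] [CommRing A] [Algebra R A]

/-- the map of de Rham complexes induced by `t ↦ 0` -/
theorem exists_retraction :
    ∃ ψ' : ∀ p : ℕ, ↥(⋀[A[X]]^p (Ω[A[X]⁄R])) →+ ↥(⋀[A]^p (Ω[A⁄R])),
      (∀ (p : ℕ) (b₀ : A[X]) (b : Fin p → A[X]),
        ψ' p (gen (D R A[X]) p b₀ b) = gen (D R A) p (eval 0 b₀) (fun i => eval 0 (b i))) ∧
      (∀ (d : ∀ p : ℕ, ↥(⋀[A]^p (Ω[A⁄R])) →ₗ[R] ↥(⋀[A]^(p + 1) (Ω[A⁄R])))
        (_ : IsRule (D R A) d)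
        (d' : ∀ p : ℕ, ↥(⋀[A[X]]^p (Ω[A[X]⁄R])) →ₗ[R] ↥(⋀[A[X]]^(p + 1) (Ω[A[X]⁄R])))
        (_ : IsRule (D R A[X]) d') (p : ℕ) (x : ↥(⋀[A[X]]^p (Ω[A[X]⁄R]))),
        ψ' (p + 1) (d' p x) = d p (ψ' p x)) := by
  letI : Algebra A[X] A := (Polynomial.evalRingHom (0 : A)).toAlgebra
  haveI : IsScalarTower R A[X] A := IsScalarTower.of_algebraMap_eq fun r => by
    change algebraMap R A r = eval 0 (algebraMap R A[X] r)
    rw [IsScalarTower.algebraMap_apply R A A[X], Polynomial.algebraMap_apply,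
      Algebra.algebraMap_self_apply, eval_C]
  obtain ⟨ψ', hψ'⟩ := Groth.Agent.Helper7.DR.exists_cxmap R R A[X] A
  refine ⟨ψ', fun p b₀ b => hψ' p b₀ b, fun d hd d' hd' p x => ?_⟩
  exact Groth.Agent.Helper7.DR.cxmap_comm d' hd' d hd ψ' hψ' p x

end retraction

section main

variable (R A : Type u) [CommRing R] [CommRing A] [Algebra R A] [Algebra ℚ R]

/-- the constants `1/k` in `A[t]` -/
noncomputable def cst (k : ℕ) : A[X] := algebraMap R A[X] (algebraMap ℚ R ((k : ℚ)⁻¹))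

theorem D_cst (k : ℕ) : D R A[X] (cst R A k) = 0 := Derivation.map_algebraMap _ _

theorem natCast_mul_cst (k : ℕ) (hk : 1 ≤ k) : (k : A[X]) * cst R A k = 1 := by
  unfold cst
  have h1 : (k : A[X]) = algebraMap R A[X] (algebraMap ℚ R (k : ℚ)) := by
    rw [map_natCast, map_natCast]
  rw [h1, ← map_mul, ← map_mul, mul_inv_cancel₀ (by exact_mod_cast (by omega : k ≠ 0)), map_one,
    map_one]

variable (ψ : ∀ p : ℕ, ↥(⋀[A]^p (Ω[A⁄R])) →+ ↥(⋀[A[X]]^p (Ω[A[X]⁄R])))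
  (hψ : DeRham.IsCxMap (D R A) (D R A[X]) (algebraMap A A[X]) ψ)

include hψ in
/-- every form is eventually projected into the image of `ψ` -/
theorem eventually_mem (p : ℕ) (x : ↥(⋀[A[X]]^p (Ω[A[X]⁄R]))) :
    ∃ N : ℕ, ∀ n, N ≤ n → ∃ x₀ : ↥(⋀[A]^p (Ω[A⁄R])),
      ((ψ p x₀ : ↥(⋀[A[X]]^p (Ω[A[X]⁄R]))) : ExteriorAlgebra A[X] (Ω[A[X]⁄R])) =
        Q (kDatum R A[X]) (eps R A) (cst R A) n (x : ExteriorAlgebra A[X] (Ω[A[X]⁄R])) := by
  suffices key : ∀ z, z ∈ AddSubmonoid.closure (monoForms R A p) →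
      ∃ N : ℕ, ∀ n, N ≤ n → ∃ x₀ : ↥(⋀[A]^p (Ω[A⁄R])),
        ((ψ p x₀ : ↥(⋀[A[X]]^p (Ω[A[X]⁄R]))) : ExteriorAlgebra A[X] (Ω[A[X]⁄R])) =
          Q (kDatum R A[X]) (eps R A) (cst R A) n z from key _ (mem_closure_of_mem R A p x)
  intro z hx
  induction hx using AddSubmonoid.closure_induction with
  | mem z hz =>
    obtain ⟨i, a, v, hv, rfl⟩ := hz
    choose n hn hn0 using fun j => Lie_gens R A (v j) (hv j)
    have heig := isEig_smul_ιMulti (kDatum R A[X]) (eps R A) p v n hn (monomial i a) i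
      (eps_D_monomial R A i a)
    rcases Nat.eq_zero_or_pos (i + ∑ j, n j) with h0 | hpos
    · have hi : i = 0 := by omega
      have hsum : ∑ j, n j = 0 := by omega
      have hnj : ∀ j, n j = 0 := fun j =>
        (Finset.sum_eq_zero_iff.mp hsum) j (Finset.mem_univ j)
      choose a' ha' using fun j => hn0 j (hnj j)
      refine ⟨0, fun m _ => ⟨gen (D R A) p a a', ?_⟩⟩
      rw [h0] at heig
      rw [Q_eig_zero _ _ _ m heig, hψ p a a', hi]
      unfold gen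
      rw [Submodule.coe_smul, exteriorPower.ιMulti_apply_coe, Polynomial.algebraMap_apply,
        Algebra.algebraMap_self_apply, monomial_zero_left]
      congr 2
      funext j
      rw [ha' j]
      change D R A[X] (algebraMap A A[X] (a' j)) = _
      rw [← Polynomial.C_eq_algebraMap]
    · refine ⟨i + ∑ j, n j, fun m hm => ⟨0, ?_⟩⟩
      rw [Q_eig_pos (kDatum R A[X]) (eps R A) (cst R A) (D_cst R A) (natCast_mul_cst R A)
        _ hpos heig m hm, map_zero]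
      rfl
  | zero => exact ⟨0, fun m _ => ⟨0, by rw [map_zero, map_zero]; rfl⟩⟩
  | add y z _ _ hy hz =>
    obtain ⟨N₁, h₁⟩ := hy
    obtain ⟨N₂, h₂⟩ := hz
    refine ⟨max N₁ N₂, fun m hm => ?_⟩
    obtain ⟨y₀, hy₀⟩ := h₁ m (le_trans (le_max_left _ _) hm)
    obtain ⟨z₀, hz₀⟩ := h₂ m (le_trans (le_max_right _ _) hm)
    exact ⟨y₀ + z₀, by rw [map_add, Submodule.coe_add, hy₀, hz₀, map_add]⟩

include hψ in
theorem psi_injective (p : ℕ) : Function.Injective (ψ p) := by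
  obtain ⟨ψ', hψ', -⟩ := exists_retraction R A
  have hid : ∀ x, ψ' p (ψ p x) = x := by
    intro x
    refine Groth.Agent.Helper7.DR.forms_induction p (fun x => ψ' p (ψ p x) = x) (by simp) ?_ ?_ x
    · intro x y hx hy
      simp only [map_add, hx, hy]
    · intro b₀ b
      rw [hψ p b₀ b, hψ' p]
      simp
  intro x y hxy
  rw [← hid x, ← hid y, hxy]

include hψ in
theorem main
    (d : ∀ p : ℕ, ↥(⋀[A]^p (Ω[A⁄R])) →ₗ[R] ↥(⋀[A]^(p + 1) (Ω[A⁄R])))
    (hd : DeRham.IsDiff (D R A) d)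
    (d' : ∀ p : ℕ, ↥(⋀[A[X]]^p (Ω[A[X]⁄R])) →ₗ[R] ↥(⋀[A[X]]^(p + 1) (Ω[A[X]⁄R])))
    (hd' : DeRham.IsDiff (D R A[X]) d')
    (hcomm : ∀ (p : ℕ) (x : ↥(⋀[A]^p (Ω[A⁄R]))), ψ (p + 1) (d p x) = d' p (ψ p x)) (i : ℕ) :
    (∀ y ∈ DeRham.cocycles d' i, ∃ x ∈ DeRham.cocycles d i,
        y - ψ i x ∈ DeRham.coboundaries d' i) ∧
      (∀ x ∈ DeRham.cocycles d i, ψ i x ∈ DeRham.coboundaries d' i →
        x ∈ DeRham.coboundaries d i) := by
  constructor
  · intro y hy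
    have h0 : d' i y = 0 := hy
    have hdy : dAdd (kDatum R A[X]) (y : ExteriorAlgebra A[X] (Ω[A[X]⁄R])) = 0 := by
      rw [← coe_rule (kDatum R A[X]) d' hd'.1, h0]; rfl
    obtain ⟨N, hN⟩ := eventually_mem R A ψ hψ i y
    obtain ⟨x₀, hx₀⟩ := hN N le_rfl
    cases i with
    | zero =>
      have hQ := homotopy_zero (kDatum R A[X]) (eps R A) (cst R A) (D_cst R A) N y.2 hdy
      have hyx : ψ 0 x₀ = y := Subtype.ext (by rw [hx₀, hQ])
      refine ⟨x₀, ?_, ?_⟩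
      · change d 0 x₀ = 0
        apply psi_injective R A ψ hψ 1
        rw [hcomm, hyx, h0, map_zero]
      · rw [hyx, sub_self]
        exact Submodule.zero_mem _
    | succ q =>
      obtain ⟨u, hu, hdu⟩ := homotopy_succ (kDatum R A[X]) (eps R A) (cst R A) (D_cst R A) N q
        y.2 hdy
      have hyx : y - ψ (q + 1) x₀ = d' q ⟨u, hu⟩ := by
        apply Subtype.ext
        rw [coe_rule (kDatum R A[X]) d' hd'.1, Submodule.coe_sub, hx₀]
        exact hdu.symm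
      refine ⟨x₀, ?_, ?_⟩
      · change d (q + 1) x₀ = 0
        apply psi_injective R A ψ hψ (q + 1 + 1)
        have h1 : ψ (q + 1) x₀ = y - d' q ⟨u, hu⟩ := by rw [← hyx]; abel
        have h2 : d' (q + 1) (d' q ⟨u, hu⟩) = 0 := LinearMap.congr_fun (hd'.2 q) _
        rw [hcomm, h1, map_sub, h0, h2, sub_zero, map_zero]
      · rw [hyx]
        exact ⟨⟨u, hu⟩, rfl⟩
  · intro x hx hb
    obtain ⟨ψ', hψ', hψ'd⟩ := exists_retraction R A
    have hid : ∀ p x, ψ' p (ψ p x) = x := by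
      intro p x
      refine Groth.Agent.Helper7.DR.forms_induction p (fun x => ψ' p (ψ p x) = x) (by simp) ?_ ?_ x
      · intro x y hx hy
        simp only [map_add, hx, hy]
      · intro b₀ b
        rw [hψ p b₀ b, hψ' p]
        simp
    cases i with
    | zero =>
      have h1 : ψ 0 x = 0 := hb
      have : x = 0 := by rw [← hid 0 x, h1, map_zero]
      rw [this]
      exact Submodule.zero_mem _
    | succ q =>
      obtain ⟨z, hz⟩ := hb
      refine ⟨ψ' q z, ?_⟩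
      rw [← hψ'd d hd.1 d' hd'.1 q z, hz, hid]

end main

end Groth.Agent.Helper7.DRH
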