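import Mathlib

set_option autoImplicit false
set_option linter.unusedSectionVars false
open Finset Matrix

namespace Groth.Agent.Helper7.LorA

variable {R : Type*} [CommRing R] {n m : Type*} [Fintype n] [DecidableEq n] [Fintype m]
  [DecidableEq m]

/-- determinant of the square matrix whose `j`-th column is `b (f j)` -/
def dB (b : m → n → R) (f : n → m) : R := Matrix.det (Matrix.of fun i j => b (f j) i)

/-- the Gram-type matrix `Σ_e w_e b_e b_eᵀ` -/
def gram (w : m → R) (b : m → n → R) : Matrix n n R :=
  Matrix.of fun i j => ∑ e, w e * b e i * b e j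

theorem det_gram_ordered (w : m → R) (b : m → n → R) :
    (gram w b).det = ∑ f : n → m, (∏ j, w (f j) * b (f j) j) * dB b f := by
  unfold gram dB
  simp only [det_apply', of_apply, prod_univ_sum, Fintype.piFinset_univ, mul_sum]
  rw [Finset.sum_comm]
  refine Finset.sum_congr rfl fun f _ => ?_
  refine Finset.sum_congr rfl fun σ _ => ?_
  have : ∏ i, w (f i) * b (f i) (σ i) * b (f i) i
      = (∏ j, w (f j) * b (f j) j) * ∏ i, b (f i) (σ i) := by
    rw [← Finset.prod_mul_distrib]
    refine Finset.prod_congr rfl fun i _ => ?_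
    ring
  rw [this]
  ring

theorem dB_comp_perm (b : m → n → R) (f : n → m) (τ : Equiv.Perm n) :
    dB b (f ∘ τ) = (Equiv.Perm.sign τ : ℤ) * dB b f := by
  unfold dB
  have : (Matrix.of fun i j => b ((f ∘ τ) j) i) = (Matrix.of fun i j => b (f j) i).submatrix id τ := by
    ext i j; simp
  rw [this, Matrix.det_permute']

theorem dB_eq_zero_of_not_injective (b : m → n → R) (f : n → m) (hf : ¬ Function.Injective f) :
    dB b f = 0 := by
  unfold dB
  simp only [Function.Injective, not_forall] at hf
  obtain ⟨i, j, hij, hne⟩ := hf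
  exact Matrix.det_zero_of_column_eq hne (fun k => by simp [hij])

/-- two injective maps with the same image differ by a permutation -/
theorem exists_perm_of_image_eq {g f : n → m} (hg : Function.Injective g)
    (hf : Function.Injective f) (h : univ.image f = univ.image g) :
    ∃ τ : Equiv.Perm n, f = g ∘ τ := by
  have hmem : ∀ j, ∃ i, g i = f j := by
    intro j
    have : f j ∈ univ.image g := by rw [← h]; exact mem_image_of_mem _ (mem_univ _)
    obtain ⟨i, -, hi⟩ := mem_image.mp this
    exact ⟨i, hi⟩
  choose t ht using hmem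
  have tinj : Function.Injective t := by
    intro j j' hjj
    apply hf
    rw [← ht j, ← ht j', hjj]
  refine ⟨Equiv.ofBijective t (Finite.injective_iff_bijective.mp tinj), ?_⟩
  funext j
  simp [ht j]

theorem sum_perm_eq (w : m → R) (b : m → n → R) (g : n → m) (hg : Function.Injective g) :
    ∑ τ : Equiv.Perm n, (∏ j, w ((g ∘ τ) j) * b ((g ∘ τ) j) j) * dB b (g ∘ τ)
      = (∏ e ∈ univ.image g, w e) * dB b g ^ 2 := by
  have h1 : ∀ τ : Equiv.Perm n, (∏ j, w ((g ∘ τ) j) * b ((g ∘ τ) j) j) * dB b (g ∘ τ)
      = (∏ e ∈ univ.image g, w e) * dB b g *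
        ((Equiv.Perm.sign τ : ℤ) * ∏ j, b (g (τ j)) j) := by
    intro τ
    rw [dB_comp_perm, Finset.prod_mul_distrib]
    have : ∏ j, w ((g ∘ τ) j) = ∏ e ∈ univ.image g, w e := by
      rw [Finset.prod_image (fun x _ y _ h => hg h)]
      exact Equiv.prod_comp τ (fun j => w (g j))
    rw [this]
    simp only [Function.comp_apply]
    ring
  rw [Finset.sum_congr rfl (fun τ _ => h1 τ), ← Finset.mul_sum]
  have h2 : ∑ τ : Equiv.Perm n, ((Equiv.Perm.sign τ : ℤ) : R) * ∏ j, b (g (τ j)) j = dB b g := by
    unfold dB
    rw [← Matrix.det_transpose, det_apply']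
    refine Finset.sum_congr rfl fun τ _ => ?_
    simp
  rw [h2]
  ring

/-- sum over the injective maps with prescribed image -/
theorem sum_fiber_eq (w : m → R) (b : m → n → R) (g : n → m) (hg : Function.Injective g) :
    ∑ f ∈ (univ.filter fun f : n → m => Function.Injective f) with univ.image f = univ.image g,
        (∏ j, w (f j) * b (f j) j) * dB b f
      = (∏ e ∈ univ.image g, w e) * dB b g ^ 2 := by
  rw [← sum_perm_eq w b g hg]
  symm
  refine Finset.sum_bij (fun τ _ => g ∘ τ) ?_ ?_ ?_ ?_
  · intro τ _
    simp only [mem_filter, mem_univ, true_and]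
    refine ⟨hg.comp τ.injective, ?_⟩
    ext e
    simp only [mem_image, mem_univ, true_and, Function.comp_apply]
    constructor
    · rintro ⟨j, rfl⟩; exact ⟨τ j, rfl⟩
    · rintro ⟨j, rfl⟩; exact ⟨τ.symm j, by simp⟩
  · intro τ _ τ' _ h
    ext j
    exact hg (congrFun h j)
  · intro f hf
    simp only [mem_filter, mem_univ, true_and] at hf
    obtain ⟨τ, hτ⟩ := exists_perm_of_image_eq hg hf.1 hf.2
    exact ⟨τ, mem_univ _, hτ.symm⟩
  · intro τ _; rfl

open Classical in
/-- squared maximal minor attached to a subset of the columns (zero if the subset has the wrong size) -/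
noncomputable def sqd (b : m → n → R) (S : Finset m) : R :=
  if h : ∃ g : n → m, Function.Injective g ∧ univ.image g = S then dB b (Classical.choose h) ^ 2
  else 0

theorem sqd_eq (b : m → n → R) (g : n → m) (hg : Function.Injective g) :
    sqd b (univ.image g) = dB b g ^ 2 := by
  have h : ∃ g' : n → m, Function.Injective g' ∧ univ.image g' = univ.image g := ⟨g, hg, rfl⟩
  unfold sqd
  rw [dif_pos h]
  obtain ⟨hinj, himg⟩ := Classical.choose_spec h
  obtain ⟨τ, hτ⟩ := exists_perm_of_image_eq hg hinj himg
  rw [hτ, dB_comp_perm, mul_pow]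
  rcases Int.units_eq_one_or (Equiv.Perm.sign τ) with h | h <;> simp [h]

/-- Cauchy–Binet for `Σ_e w_e b_e b_eᵀ`. -/
theorem det_gram (w : m → R) (b : m → n → R) :
    (gram w b).det = ∑ S ∈ powersetCard (Fintype.card n) (univ : Finset m),
      (∏ e ∈ S, w e) * sqd b S := by
  rw [det_gram_ordered]
  have h0 : ∑ f : n → m, (∏ j, w (f j) * b (f j) j) * dB b f
      = ∑ f ∈ univ.filter (fun f : n → m => Function.Injective f),
          (∏ j, w (f j) * b (f j) j) * dB b f := by
    rw [Finset.sum_filter]
    refine Finset.sum_congr rfl fun f _ => ?_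
    split_ifs with h
    · rfl
    · rw [dB_eq_zero_of_not_injective b f h, mul_zero]
  rw [h0, ← Finset.sum_fiberwise_of_maps_to (t := powersetCard (Fintype.card n) (univ : Finset m))
    (g := fun f : n → m => univ.image f)]
  · refine Finset.sum_congr rfl fun S hS => ?_
    by_cases h : ∃ g : n → m, Function.Injective g ∧ univ.image g = S
    · obtain ⟨g, hg, rfl⟩ := h
      rw [sum_fiber_eq w b g hg, sqd_eq b g hg]
    · have : sqd b S = 0 := by unfold sqd; rw [dif_neg h]
      rw [this, mul_zero]
      refine Finset.sum_eq_zero fun f hf => ?_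
      exfalso
      simp only [mem_filter, mem_univ, true_and] at hf
      exact h ⟨f, hf.1, hf.2⟩
  · intro f hf
    simp only [mem_filter, mem_univ, true_and] at hf
    rw [mem_powersetCard]
    refine ⟨subset_univ _, ?_⟩
    rw [Finset.card_image_of_injective _ hf, Finset.card_univ]

end Groth.Agent.Helper7.LorA
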