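import Groth.Agent.Helper7.LorC2
import Groth.Agent.Helper7.LorA

set_option autoImplicit false
set_option linter.unusedSectionVars false
universe u
open Finset Matrix

namespace Groth.Agent.Helper7.LorC

open Groth.Agent.Helper7.LorA

variable {V E : Type u} [Fintype V] [Fintype E] [DecidableEq V] [DecidableEq E]

/-- the incidence vectors together with one extra column `y` -/
def bext (ends : E → V × V) (y : V → ℤ) : Option E → V → ℤ := fun o => o.elim y (inc ℤ ends)

theorem exists_kappa (ends : E → V × V) (hG : LabGraph.Connected ends) (v₀ : V)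
    (f : V ≃ Option E) (x : V → ℤ) :
    ∃ κ : V → ℤ, (Matrix.of fun i j => bext ends (Pi.single v₀ 1) (f j) i) *ᵥ κ = x ∧
      κ (f.symm none) = ∑ v, x v := by
  obtain ⟨⟨c, t⟩, h⟩ := psi_surjective ℤ ends v₀ hG x
  have ht : t = ∑ v, x v := by
    have := sum_psi ℤ ends v₀ (c, t)
    rw [h] at this
    exact this.symm
  refine ⟨fun j => (f j).elim t c, ?_, ?_⟩
  · funext i
    rw [← h, psi_apply]
    simp only [mulVec, dotProduct, of_apply]
    rw [Equiv.sum_comp f (fun o => bext ends (Pi.single v₀ 1) o i * o.elim t c), Fintype.sum_option]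
    simp only [bext, Option.elim_none, Option.elim_some, Pi.add_apply, Finset.sum_apply,
      Pi.smul_apply, smul_eq_mul]
    rw [add_comm]
    congr 1
    · exact Finset.sum_congr rfl fun e _ => mul_comm _ _
    · exact mul_comm _ _
  · simp [ht]

/-- the extended incidence matrix of a tree has determinant `± Σ y` -/
theorem dB_sq_of_isTree (ends : E → V × V) (hT : DualGr.IsTree ends) (f : V ≃ Option E)
    (y : V → ℤ) : dB (bext ends y) f ^ 2 = (∑ v, y v) ^ 2 := by
  obtain ⟨⟨v₀⟩, _⟩ := id hT.1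
  set N₀ : Matrix V V ℤ := Matrix.of fun i j => bext ends (Pi.single v₀ 1) (f j) i with hN₀
  have hsurj : Function.Surjective N₀.mulVec := by
    intro x
    obtain ⟨κ, hκ, -⟩ := exists_kappa ends hT.1 v₀ f x
    exact ⟨κ, hκ⟩
  have hunit : IsUnit N₀.det := (Matrix.isUnit_iff_isUnit_det _).mp
    (Matrix.mulVec_surjective_iff_isUnit.mp hsurj)
  have hsq : N₀.det ^ 2 = 1 := by
    rcases Int.isUnit_iff.mp hunit with h | h <;> rw [h] <;> norm_num
  obtain ⟨κ, hκ, hκ0⟩ := exists_kappa ends hT.1 v₀ f y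
  have hN : (Matrix.of fun i j => bext ends y (f j) i) = N₀.updateCol (f.symm none) (N₀ *ᵥ κ) := by
    ext i j
    rw [hκ]
    by_cases hj : j = f.symm none
    · subst hj
      simp [bext]
    · rw [Matrix.updateCol_ne hj]
      have : f j ≠ none := fun h => hj (by rw [← h]; simp)
      obtain ⟨e, he⟩ := Option.ne_none_iff_exists'.mp this
      simp [hN₀, bext, he]
  have hdet : dB (bext ends y) f = N₀.det * ∑ v, y v := by
    unfold dB
    rw [hN, ← Matrix.cramer_apply, Matrix.cramer_eq_adjugate_mulVec, Matrix.mulVec_mulVec,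
      Matrix.adjugate_mul, Matrix.smul_mulVec, Matrix.one_mulVec, Pi.smul_apply, hκ0, smul_eq_mul]
  rw [hdet, mul_pow, hsq, one_mul]

theorem dB_eq_zero_of_left_null {m : Type*} (b : m → V → ℤ) (f : V → m) (z : V → ℤ) (hz : z ≠ 0)
    (h : ∀ j, z ⬝ᵥ b (f j) = 0) : dB b f = 0 := by
  unfold dB
  rw [← Matrix.exists_vecMul_eq_zero_iff]
  refine ⟨z, hz, ?_⟩
  funext j
  simp only [vecMul, Pi.zero_apply]
  exact h j

theorem sqd_eq_zero {m : Type*} [Fintype m] [DecidableEq m] (b : m → V → ℤ) (S : Finset m)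
    (h : ∀ g : V → m, Function.Injective g → univ.image g = S → dB b g = 0) : sqd b S = 0 := by
  unfold sqd
  split_ifs with hex
  · obtain ⟨h1, h2⟩ := Classical.choose_spec hex
    rw [h _ h1 h2]
    norm_num
  · rfl

theorem dotProduct_inc (ends : E → V × V) (z : V → ℤ) (e : E) :
    z ⬝ᵥ inc ℤ ends e = z (ends e).2 - z (ends e).1 := by
  unfold inc
  rw [dotProduct_sub]
  simp

end Groth.Agent.Helper7.LorC
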