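import Groth.Agent.Helper7.LorH
import Groth.Agent.Helper7.LorC3

set_option autoImplicit false
set_option linter.unusedSectionVars false
universe u
open Finset Matrix

namespace Groth.Agent.Helper7.LorP

open Groth.Agent.Helper7.LorA Groth.Agent.Helper7.LorC Groth.Agent.Helper7.LorT
  Groth.Agent.Helper7.LorF Groth.Agent.Helper7.LorH

variable {V E : Type u} [Fintype V] [Fintype E] [DecidableEq V] [DecidableEq E]

/-- coboundary of a vertex function -/
def dlt (ends : E → V × V) (φ : V → ℤ) (e : E) : ℤ := φ (ends e).2 - φ (ends e).1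

/-- the fundamental circuit of an edge outside a spanning tree -/
theorem exists_circuit_through (ends : E → V × V) (T : Finset E)
    (hT : LabGraph.IsSpanningTree ends T) (e₀ : E) (he₀T : e₀ ∉ T) :
    ∃ C : Finset E, LabGraph.IsCircuit ends C ∧ e₀ ∈ C ∧ C ⊆ insert e₀ T := by
  obtain ⟨c, hc⟩ := exists_coeff (ZMod 2) (fun e : ↥T => ends e.1) hT.1 (inc (ZMod 2) ends e₀)
    (sum_inc (ZMod 2) ends e₀)
  set C₁ : Finset E := T.filter (fun e => ∃ h : e ∈ T, c ⟨e, h⟩ ≠ 0) with hC₁
  have hC₁T : C₁ ⊆ T := Finset.filter_subset _ _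
  have hsum1 : ∑ e ∈ C₁, inc (ZMod 2) ends e = inc (ZMod 2) ends e₀ := by
    rw [← hc, hC₁, Finset.sum_filter, ← Finset.sum_coe_sort T]
    refine Finset.sum_congr rfl fun e _ => ?_
    show _ = c e • inc (ZMod 2) ends e.1
    rcases zmod2_cases (c e) with h | h
    · rw [if_neg, h, zero_smul]
      rintro ⟨_, h'⟩; exact h' h
    · rw [if_pos ⟨e.2, by rw [h]; exact one_ne_zero⟩, h, one_smul]
  have he₀C₁ : e₀ ∉ C₁ := fun h => he₀T (hC₁T h)
  have hsum : ∑ e ∈ insert e₀ C₁, inc (ZMod 2) ends e = 0 := by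
    rw [Finset.sum_insert he₀C₁, hsum1]
    funext w
    exact CharTwo.add_self_eq_zero (R := ZMod 2) _
  obtain ⟨C, hCsub, hC⟩ := exists_circuit_subset ends (insert e₀ C₁) ⟨e₀, Finset.mem_insert_self _ _⟩
    ((sum_inc_eq_zero_iff ends _).mp hsum)
  refine ⟨C, hC, ?_, fun e he => ?_⟩
  · by_contra hnot
    apply not_subset_of_circuit ends T C hT.2 hC
    intro e he
    rcases Finset.mem_insert.mp (hCsub he) with h | h
    · rw [h] at he; exact absurd he hnot
    · exact hC₁T h
  · rcases Finset.mem_insert.mp (hCsub he) with h | h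
    · rw [h]; exact Finset.mem_insert_self _ _
    · exact Finset.mem_insert_of_mem (hC₁T h)

/-- the two endpoints of an edge of a circuit cannot be separated by a vertex set closed under the
other edges of the circuit -/
theorem circuit_connects (ends : E → V × V) (C : Finset E) (hC : LabGraph.IsCircuit ends C)
    (e₀ : E) (he₀ : e₀ ∈ C) (S : Finset V)
    (hS : ∀ e ∈ C.erase e₀, ((ends e).1 ∈ S ↔ (ends e).2 ∈ S)) :
    (ends e₀).1 ∈ S ↔ (ends e₀).2 ∈ S := by
  have h0 : ∑ e ∈ C, inc (ZMod 2) ends e = 0 := (sum_inc_eq_zero_iff ends C).mpr hC.2.1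
  have h1 := congrArg (sumOn (ZMod 2) S) h0
  rw [map_sum, map_zero, ← Finset.add_sum_erase C _ he₀, Finset.sum_eq_zero, add_zero, sumOn_inc] at h1
  · by_cases ha : (ends e₀).1 ∈ S <;> by_cases hb : (ends e₀).2 ∈ S <;> simp [ha, hb] at h1 ⊢
  · intro e he
    rw [sumOn_inc]
    have := hS e he
    by_cases ha : (ends e).1 ∈ S
    · rw [if_pos ha, if_pos (this.mp ha), sub_self]
    · rw [if_neg ha, if_neg (fun h => ha (this.mpr h)), sub_self]

theorem dotProduct_inc' (ends : E → V × V) (φ : V → ℤ) (e : E) :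
    inc ℤ ends e ⬝ᵥ φ = dlt ends φ e := by
  rw [dotProduct_comm, dotProduct_inc]
  rfl

/-- on a spanning tree every integer edge function is a coboundary, with prescribed value at a
base vertex -/
theorem exists_potential_on_tree (ends : E → V × V) (T : Finset E)
    (hT : LabGraph.IsSpanningTree ends T) (x : E → ℤ) (v₀ : V) (c : ℤ) :
    ∃ φ : V → ℤ, φ v₀ = c ∧ ∀ e ∈ T, dlt ends φ e = x e := by
  have hc := card_of_isTree (fun e : ↥T => ends e.1) hT
  let f : V ≃ Option ↥T := Fintype.equivOfCardEq (by rw [Fintype.card_option]; exact hc.symm)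
  set N₀ : Matrix V V ℤ :=
    Matrix.of fun i j => bext (fun e : ↥T => ends e.1) (Pi.single v₀ 1) (f j) i with hN₀
  have hsq : N₀.det ^ 2 = 1 := by
    have := dB_sq_of_isTree (fun e : ↥T => ends e.1) hT f (Pi.single v₀ 1)
    unfold dB at this
    rw [this]
    simp
  have hunit : IsUnit N₀ᵀ := by
    rw [Matrix.isUnit_iff_isUnit_det, Matrix.det_transpose]
    exact IsUnit.of_pow_eq_one hsq (by norm_num)
  obtain ⟨φ, hφ⟩ := (Matrix.mulVec_surjective_iff_isUnit.mpr hunit)
    (fun j => (f j).elim c (fun e => x e.1))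
  have hrow : ∀ j, (N₀ᵀ *ᵥ φ) j = bext (fun e : ↥T => ends e.1) (Pi.single v₀ 1) (f j) ⬝ᵥ φ := by
    intro j
    simp only [mulVec, dotProduct, transpose_apply, hN₀, of_apply]
  refine ⟨φ, ?_, ?_⟩
  · have := congrFun hφ (f.symm none)
    rw [hrow] at this
    simpa [bext] using this
  · intro e he
    have := congrFun hφ (f.symm (some ⟨e, he⟩))
    rw [hrow] at this
    simp only [Equiv.apply_symm_apply, bext, Option.elim_some] at this
    rw [← this]
    exact (dotProduct_inc' (fun e : ↥T => ends e.1) φ ⟨e, he⟩).symm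

end Groth.Agent.Helper7.LorP
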