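import Mathlib
import Groth.Prelude.Def_W4c4cptpiccptjacBI
import Groth.Agent.Helper7.LorP
import Groth.Agent.Helper8.BasicIneq

/-!
# Every degree class contains a multidegree satisfying the Basic Inequality

Energy minimisation: minimise `N Σ_e (h_b - h_a)² - 2 ⟨h, N d - D κ⟩` over integer vertex labellings.
-/

set_option autoImplicit false
set_option linter.unusedSectionVars false
universe u
open Finset

namespace Groth.Agent.Helper7.CapBI

open LabGraph Groth.Agent.Helper7.LorC Groth.Agent.Helper7.LorT Groth.Agent.Helper7.LorP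
  Groth.Agent.Helper8

variable {V E : Type u} [Fintype V] [Fintype E] [DecidableEq V] [DecidableEq E]

/-- indicator of a vertex set -/
def ind (Y : Finset V) : V → ℤ := fun v => if v ∈ Y then 1 else 0

theorem dlt_add (ends : E → V × V) (h ψ : V → ℤ) (e : E) :
    dlt ends (h + ψ) e = dlt ends h e + dlt ends ψ e := by
  unfold dlt
  simp only [Pi.add_apply]
  ring

theorem dlt_sub (ends : E → V × V) (h ψ : V → ℤ) (e : E) :
    dlt ends (h - ψ) e = dlt ends h e - dlt ends ψ e := by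
  unfold dlt
  simp only [Pi.sub_apply]
  ring

theorem sum_dlt_ind_sq (ends : E → V × V) (Y : Finset V) :
    ∑ e, (dlt ends (ind Y) e) ^ 2 = (cut ends Y : ℤ) := by
  rw [cut_eq_sum]
  refine Finset.sum_congr rfl fun e _ => ?_
  unfold dlt ind
  by_cases ha : (ends e).1 ∈ Y <;> by_cases hb : (ends e).2 ∈ Y <;> simp [ha, hb]

theorem sum_dlt_mul_ind (ends : E → V × V) (h : V → ℤ) (Y : Finset V) :
    ∑ e, dlt ends h e * dlt ends (ind Y) e = - ∑ v ∈ Y, twist ends h v := by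
  rw [sum_twist_eq_sum, ← Finset.sum_neg_distrib]
  refine Finset.sum_congr rfl fun e _ => ?_
  unfold dlt ind
  by_cases ha : (ends e).1 ∈ Y <;> by_cases hb : (ends e).2 ∈ Y <;> simp [ha, hb]

theorem sum_gamma_dlt_ind (ends : E → V × V) (γ : E → ℤ) (c' : V → ℤ)
    (hγ : ∑ e, γ e • inc ℤ ends e = c') (Y : Finset V) :
    ∑ e, γ e * dlt ends (ind Y) e = ∑ v ∈ Y, c' v := by
  rw [← hγ]
  simp only [Finset.sum_apply, Pi.smul_apply, smul_eq_mul]
  rw [Finset.sum_comm]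
  refine Finset.sum_congr rfl fun e _ => ?_
  rw [← Finset.mul_sum]
  congr 1
  have := sumOn_inc ℤ Y ends e
  rw [show sumOn ℤ Y (inc ℤ ends e) = ∑ v ∈ Y, inc ℤ ends e v from rfl] at this
  rw [this]
  rfl

/-- the energy -/
def en (ends : E → V × V) (N : ℤ) (γ : E → ℤ) (h : V → ℤ) : ℤ :=
  ∑ e, (N * (dlt ends h e) ^ 2 - 2 * γ e * dlt ends h e)

theorem en_bdd (ends : E → V × V) (N : ℤ) (hN : 1 ≤ N) (γ : E → ℤ) (h : V → ℤ) :
    - ∑ e, (γ e) ^ 2 ≤ en ends N γ h := by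
  unfold en
  rw [← Finset.sum_neg_distrib]
  refine Finset.sum_le_sum fun e _ => ?_
  nlinarith [sq_nonneg (dlt ends h e - γ e), sq_nonneg (dlt ends h e)]

theorem exists_min (ends : E → V × V) (N : ℤ) (hN : 1 ≤ N) (γ : E → ℤ) :
    ∃ h₀ : V → ℤ, ∀ h : V → ℤ, en ends N γ h₀ ≤ en ends N γ h := by
  obtain ⟨lb, ⟨h₀, hh₀⟩, hlb⟩ := Int.exists_least_of_bdd (P := fun z => ∃ h : V → ℤ, en ends N γ h = z)
    ⟨- ∑ e, (γ e) ^ 2, fun z ⟨h, hz⟩ => hz ▸ en_bdd ends N hN γ h⟩ ⟨_, 0, rfl⟩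
  exact ⟨h₀, fun h => hh₀ ▸ hlb _ ⟨h, rfl⟩⟩

theorem en_add_ind (ends : E → V × V) (N : ℤ) (γ : E → ℤ) (c' : V → ℤ)
    (hγ : ∑ e, γ e • inc ℤ ends e = c') (h : V → ℤ) (Y : Finset V) :
    en ends N γ (h + ind Y) - en ends N γ h =
      N * (cut ends Y : ℤ) - 2 * N * (∑ v ∈ Y, twist ends h v) - 2 * ∑ v ∈ Y, c' v := by
  have h1 : en ends N γ (h + ind Y) - en ends N γ h =
      2 * N * ∑ e, dlt ends h e * dlt ends (ind Y) e + N * ∑ e, (dlt ends (ind Y) e) ^ 2
        - 2 * ∑ e, γ e * dlt ends (ind Y) e := by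
    unfold en
    rw [← Finset.sum_sub_distrib, Finset.mul_sum, Finset.mul_sum, Finset.mul_sum,
      ← Finset.sum_add_distrib, ← Finset.sum_sub_distrib]
    refine Finset.sum_congr rfl fun e _ => ?_
    rw [dlt_add]
    ring
  rw [h1, sum_dlt_mul_ind, sum_dlt_ind_sq, sum_gamma_dlt_ind ends γ c' hγ Y]
  ring

theorem en_sub_ind (ends : E → V × V) (N : ℤ) (γ : E → ℤ) (c' : V → ℤ)
    (hγ : ∑ e, γ e • inc ℤ ends e = c') (h : V → ℤ) (Y : Finset V) :
    en ends N γ (h - ind Y) - en ends N γ h =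
      N * (cut ends Y : ℤ) + 2 * N * (∑ v ∈ Y, twist ends h v) + 2 * ∑ v ∈ Y, c' v := by
  have h1 : en ends N γ (h - ind Y) - en ends N γ h =
      - (2 * N * ∑ e, dlt ends h e * dlt ends (ind Y) e) + N * ∑ e, (dlt ends (ind Y) e) ^ 2
        + 2 * ∑ e, γ e * dlt ends (ind Y) e := by
    unfold en
    rw [← Finset.sum_sub_distrib, Finset.mul_sum, Finset.mul_sum, Finset.mul_sum,
      ← Finset.sum_neg_distrib, ← Finset.sum_add_distrib, ← Finset.sum_add_distrib]
    refine Finset.sum_congr rfl fun e _ => ?_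
    rw [dlt_sub]
    ring
  rw [h1, sum_dlt_mul_ind, sum_dlt_ind_sq, sum_gamma_dlt_ind ends γ c' hγ Y]
  ring

/-- **Existence of a representative satisfying the Basic Inequality** in every degree class of a
connected graph of genus at least two. -/
theorem main (ends : E → V × V) (w : V → ℕ) (hconn : Connected ends)
    (hg : 2 ≤ genus ends w) (d : V → ℤ) :
    ∃ d' : V → ℤ, TwistEquiv ends d' d ∧ SatisfiesBI ends w d' := by
  classical
  set N := canDeg ends w Finset.univ with hN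
  have hNpos : 1 ≤ N := by
    rw [hN, canDeg_univ]
    omega
  set D := ∑ v : V, d v with hD
  set κ : V → ℤ := fun v => 2 * (w v : ℤ) - 2 + (endCount ends Finset.univ v : ℤ) with hκ
  have hcan : ∀ Y : Finset V, canDeg ends w Y = ∑ v ∈ Y, κ v := fun Y => rfl
  set c' : V → ℤ := fun v => N * d v - D * κ v with hc'
  have hc'sum : ∑ v, c' v = 0 := by
    simp only [hc', Finset.sum_sub_distrib, ← Finset.mul_sum]
    rw [← hcan, ← hN, ← hD]
    ring
  obtain ⟨γ, hγ⟩ := exists_coeff ℤ ends hconn c' hc'sum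
  obtain ⟨h₀, hmin⟩ := exists_min ends N hNpos γ
  refine ⟨fun v => d v + twist ends h₀ v, ⟨h₀, fun v => by ring⟩, ?_⟩
  intro Y
  have hD' : ∑ v : V, (d v + twist ends h₀ v) = D := by
    rw [Finset.sum_add_distrib, sum_twist_univ, add_zero]
  have hY' : ∑ v ∈ Y, (d v + twist ends h₀ v) = ∑ v ∈ Y, d v + ∑ v ∈ Y, twist ends h₀ v :=
    Finset.sum_add_distrib
  rw [hD', hY', ← hN]
  have hcY : ∑ v ∈ Y, c' v = N * ∑ v ∈ Y, d v - D * canDeg ends w Y := by
    simp only [hc', Finset.sum_sub_distrib, ← Finset.mul_sum]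
    rw [hcan]
  have e1 := en_add_ind ends N γ c' hγ h₀ Y
  have e2 := en_sub_ind ends N γ c' hγ h₀ Y
  have m1 := hmin (h₀ + ind Y)
  have m2 := hmin (h₀ - ind Y)
  rw [hcY] at e1 e2
  have hab : |N * (∑ v ∈ Y, d v + ∑ v ∈ Y, twist ends h₀ v) - D * canDeg ends w Y| * 2 ≤
      (cut ends Y : ℤ) * N := by
    rcases abs_cases (N * (∑ v ∈ Y, d v + ∑ v ∈ Y, twist ends h₀ v) - D * canDeg ends w Y) with
      ⟨h, _⟩ | ⟨h, _⟩ <;> rw [h] <;> linarith
  linarith

end Groth.Agent.Helper7.CapBI
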