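import Mathlib
import Groth.Prelude.Def_W4c4cptpiccptjacBI
import Groth.Agent.Helper7.CapBI1

/-!
# Normal form of the difference of two multidegrees satisfying the Basic Inequality in one class
-/

set_option autoImplicit false
set_option linter.unusedSectionVars false
universe u
open Finset

namespace Groth.Agent.Helper7.CapBI

open LabGraph Groth.Agent.Helper7.LorC Groth.Agent.Helper7.LorT Groth.Agent.Helper7.LorP
  Groth.Agent.Helper8

variable {V E : Type u} [Fintype V] [Fintype E] [DecidableEq V] [DecidableEq E]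

/-- in a connected graph some edge crosses every vertex set separating two vertices -/
theorem exists_crossing (ends : E → V × V) (hconn : Connected ends) (Y : Finset V) (v w : V)
    (hv : v ∈ Y) (hw : w ∉ Y) :
    ∃ e, ((ends e).1 ∈ Y ∧ (ends e).2 ∉ Y) ∨ ((ends e).1 ∉ Y ∧ (ends e).2 ∈ Y) := by
  by_contra hnot
  have hnot' := not_exists.mp hnot
  have key : ∀ x, Relation.ReflTransGen (Adj ends) v x → x ∈ Y := by
    intro x hx
    induction hx with
    | refl => exact hv
    | tail _ hbc ih =>
      obtain ⟨e, he | he⟩ := hbc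
      · have h1 := (not_or.mp (hnot' e)).1
        rw [he] at h1
        by_contra hc
        exact h1 ⟨ih, hc⟩
      · have h1 := (not_or.mp (hnot' e)).2
        rw [he] at h1
        by_contra hc
        exact h1 ⟨hc, ih⟩
  exact hw (key w (hconn.2 v w))

/-- the level set `{t ≤ h'}` -/
def lev (h' : V → ℤ) (t : ℤ) : Finset V := Finset.univ.filter fun v => t ≤ h' v

theorem mem_lev (h' : V → ℤ) (t : ℤ) (v : V) : v ∈ lev h' t ↔ t ≤ h' v := by
  simp [lev]

/-- the twist of `h'` summed over an upper level set is minus the total jump across it -/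
theorem sum_twist_lev (ends : E → V × V) (h' : V → ℤ) (t : ℤ) :
    ∑ v ∈ lev h' t, twist ends h' v = - ∑ e : E,
      (if ((ends e).1 ∈ lev h' t ∧ (ends e).2 ∉ lev h' t) ∨
          ((ends e).1 ∉ lev h' t ∧ (ends e).2 ∈ lev h' t) then |dlt ends h' e| else 0) := by
  rw [sum_twist_eq_sum, ← Finset.sum_neg_distrib]
  refine Finset.sum_congr rfl fun e _ => ?_
  unfold dlt
  by_cases ha : (ends e).1 ∈ lev h' t <;> by_cases hb : (ends e).2 ∈ lev h' t
  · simp [ha, hb]
  · have ha' := (mem_lev h' t _).mp ha
    have hb' : h' (ends e).2 < t := by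
      by_contra hc
      exact hb ((mem_lev h' t _).mpr (not_lt.mp hc))
    simp only [ha, hb, not_true_eq_false, not_false_eq_true, and_self, or_false,
      if_true, if_false, add_zero]
    rw [abs_of_neg (by linarith)]
    ring
  · have hb' := (mem_lev h' t _).mp hb
    have ha' : h' (ends e).1 < t := by
      by_contra hc
      exact ha ((mem_lev h' t _).mpr (not_lt.mp hc))
    simp only [ha, hb, not_true_eq_false, not_false_eq_true, and_self, false_or,
      if_true, if_false, zero_add]
    rw [abs_of_pos (by linarith)]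
    ring
  · simp [ha, hb]

/-- two BI multidegrees differing by `twist h'`: every edge jumps by at most one -/
theorem jump_le_one (ends : E → V × V) (w : V → ℕ) (hg : 2 ≤ genus ends w) (d d' : V → ℤ)
    (hBI : SatisfiesBI ends w d) (hBI' : SatisfiesBI ends w d') (h' : V → ℤ)
    (hh' : ∀ v, d v - d' v = twist ends h' v) (e₀ : E) : |dlt ends h' e₀| ≤ 1 := by
  classical
  set N := canDeg ends w Finset.univ with hN
  have hNpos : 1 ≤ N := by
    rw [hN, canDeg_univ]
    omega
  have hDD : ∑ v : V, d v = ∑ v : V, d' v := by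
    have : ∑ v : V, (d v - d' v) = 0 := by
      rw [Finset.sum_congr rfl fun v _ => hh' v, sum_twist_univ]
    rw [Finset.sum_sub_distrib] at this
    linarith
  -- the general bound for a level set
  have bound : ∀ t : ℤ, ∑ e : E,
      (if ((ends e).1 ∈ lev h' t ∧ (ends e).2 ∉ lev h' t) ∨
          ((ends e).1 ∉ lev h' t ∧ (ends e).2 ∈ lev h' t) then |dlt ends h' e| else 0)
        ≤ (cut ends (lev h' t) : ℤ) := by
    intro t
    set Y := lev h' t with hY
    have b1 := hBI Y
    have b2 := hBI' Y
    rw [← hN] at b1 b2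
    rw [← hDD] at b2
    have htw : ∑ v ∈ Y, d v - ∑ v ∈ Y, d' v = ∑ v ∈ Y, twist ends h' v := by
      rw [← Finset.sum_sub_distrib]
      exact Finset.sum_congr rfl fun v _ => hh' v
    have hsl := sum_twist_lev ends h' t
    rw [← hY] at hsl
    set J := ∑ e : E,
      (if ((ends e).1 ∈ Y ∧ (ends e).2 ∉ Y) ∨ ((ends e).1 ∉ Y ∧ (ends e).2 ∈ Y)
        then |dlt ends h' e| else 0) with hJ
    have hJ' : N * J = (N * ∑ v ∈ Y, d' v - (∑ v : V, d v) * canDeg ends w Y) -
        (N * ∑ v ∈ Y, d v - (∑ v : V, d v) * canDeg ends w Y) := by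
      have : J = ∑ v ∈ Y, d' v - ∑ v ∈ Y, d v := by linarith
      rw [this]
      ring
    have h3 : N * J ≤ (cut ends Y : ℤ) * N := by
      rw [hJ']
      have a1 := le_abs_self (N * ∑ v ∈ Y, d' v - (∑ v : V, d v) * canDeg ends w Y)
      have a2 := neg_abs_le (N * ∑ v ∈ Y, d v - (∑ v : V, d v) * canDeg ends w Y)
      linarith
    have h4 : N * J ≤ N * (cut ends Y : ℤ) := by linarith
    exact le_of_mul_le_mul_left h4 (by linarith)
  -- apply it to the level of the higher endpoint of `e₀`
  by_contra hcon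
  push Not at hcon
  have hne : h' (ends e₀).1 ≠ h' (ends e₀).2 := by
    intro heq
    unfold dlt at hcon
    rw [heq, sub_self, abs_zero] at hcon
    omega
  set t := max (h' (ends e₀).1) (h' (ends e₀).2) with ht
  have hb := bound t
  rw [cut_eq_sum, ← sub_nonpos, ← Finset.sum_sub_distrib] at hb
  have hterm : ∀ e : E, 0 ≤
      (if ((ends e).1 ∈ lev h' t ∧ (ends e).2 ∉ lev h' t) ∨
          ((ends e).1 ∉ lev h' t ∧ (ends e).2 ∈ lev h' t) then |dlt ends h' e| else 0) -
      (if ((ends e).1 ∈ lev h' t ∧ (ends e).2 ∉ lev h' t) ∨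
          ((ends e).1 ∉ lev h' t ∧ (ends e).2 ∈ lev h' t) then (1 : ℤ) else 0) := by
    intro e
    split_ifs with hcr
    · have : h' (ends e).1 ≠ h' (ends e).2 := by
        intro heq
        simp only [mem_lev, heq] at hcr
        tauto
      have : dlt ends h' e ≠ 0 := by
        unfold dlt
        intro h0
        exact this (by linarith)
      have := abs_pos.mpr this
      omega
    · simp
  have hsingle := Finset.single_le_sum (fun e _ => hterm e) (Finset.mem_univ e₀)
  have hcross : ((ends e₀).1 ∈ lev h' t ∧ (ends e₀).2 ∉ lev h' t) ∨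
      ((ends e₀).1 ∉ lev h' t ∧ (ends e₀).2 ∈ lev h' t) := by
    simp only [mem_lev, ht]
    rcases lt_or_gt_of_ne hne with hlt | hlt
    · right
      rw [max_eq_right hlt.le]
      exact ⟨by linarith, le_refl _⟩
    · left
      rw [max_eq_left hlt.le]
      exact ⟨le_refl _, by linarith⟩
  rw [if_pos hcross, if_pos hcross] at hsingle
  linarith

/-- **Normal form** of the difference of two multidegrees satisfying the Basic Inequality. -/
theorem main2 (ends : E → V × V) (w : V → ℕ) (hconn : Connected ends) (hg : 2 ≤ genus ends w)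
    (d d' : V → ℤ) (hBI : SatisfiesBI ends w d) (hBI' : SatisfiesBI ends w d')
    (heq : TwistEquiv ends d d') :
    ∃ (q : ℕ) (h : V → ℕ), (∀ v : V, h v ≤ q) ∧ (∀ i : ℕ, i ≤ q → ∃ v : V, h v = i) ∧
      (∀ v : V, d v - d' v = twist ends (fun u => (h u : ℤ)) v) ∧
      (∀ i j : ℕ, i ≤ q → j ≤ q → i ≠ j →
        ((∃ e : E, (h (ends e).1 = i ∧ h (ends e).2 = j) ∨ (h (ends e).1 = j ∧ h (ends e).2 = i)) ↔
          (i + 1 = j ∨ j + 1 = i))) := by
  classical
  obtain ⟨h', hh'⟩ := heq
  obtain ⟨v₀⟩ := hconn.1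
  obtain ⟨vmin, -, hmin⟩ := Finset.exists_min_image Finset.univ h' ⟨v₀, Finset.mem_univ _⟩
  obtain ⟨vmax, -, hmax⟩ := Finset.exists_max_image Finset.univ h' ⟨v₀, Finset.mem_univ _⟩
  set m := h' vmin with hm
  set h : V → ℕ := fun v => (h' v - m).toNat with hh
  have hcast : ∀ v, (h v : ℤ) = h' v - m := fun v =>
    Int.toNat_of_nonneg (by have := hmin v (Finset.mem_univ v); linarith)
  have hvmin0 : h vmin = 0 := by simp [hh, hm]
  set q := h vmax with hq
  have htw : ∀ v, twist ends (fun u => (h u : ℤ)) v = twist ends h' v := by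
    intro v
    unfold twist
    refine Finset.sum_congr rfl fun e _ => ?_
    simp only [hcast]
    congr 1 <;> · congr 1; ring
  have hjump : ∀ e, |(h (ends e).2 : ℤ) - (h (ends e).1 : ℤ)| ≤ 1 := by
    intro e
    have := jump_le_one ends w hg d d' hBI hBI' h' hh' e
    unfold dlt at this
    rw [hcast, hcast]
    have e1 : h' (ends e).2 - m - (h' (ends e).1 - m) = h' (ends e).2 - h' (ends e).1 := by ring
    rw [e1]
    exact this
  have hedge : ∀ t : ℕ, 1 ≤ t → t ≤ q →
      ∃ e, (h (ends e).1 = t ∧ h (ends e).2 + 1 = t) ∨ (h (ends e).1 + 1 = t ∧ h (ends e).2 = t) := by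
    intro t ht1 htq
    set Y : Finset V := Finset.univ.filter fun v => t ≤ h v with hY
    have hvmax : vmax ∈ Y := by
      rw [hY, Finset.mem_filter]
      exact ⟨Finset.mem_univ _, htq⟩
    have hvmin : vmin ∉ Y := by
      rw [hY, Finset.mem_filter]
      rintro ⟨-, h1⟩
      omega
    obtain ⟨e, he⟩ := exists_crossing ends hconn Y vmax vmin hvmax hvmin
    refine ⟨e, ?_⟩
    have hj := abs_le.mp (hjump e)
    simp only [hY, Finset.mem_filter, Finset.mem_univ, true_and, not_le] at he
    rcases he with ⟨h1, h2⟩ | ⟨h1, h2⟩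
    · left
      constructor <;> omega
    · right
      constructor <;> omega
  refine ⟨q, h, ?_, ?_, ?_, ?_⟩
  · intro v
    have := hmax v (Finset.mem_univ v)
    exact Int.toNat_le_toNat (by linarith)
  · intro i hi
    rcases Nat.eq_zero_or_pos i with rfl | hpos
    · exact ⟨vmin, hvmin0⟩
    · obtain ⟨e, he | he⟩ := hedge i hpos hi
      · exact ⟨_, he.1⟩
      · exact ⟨_, he.2⟩
  · intro v
    rw [htw]
    exact hh' v
  · intro i j hi hj hij
    constructor
    · rintro ⟨e, he | he⟩
      · have := abs_le.mp (hjump e)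
        rw [he.1, he.2] at this
        omega
      · have := abs_le.mp (hjump e)
        rw [he.1, he.2] at this
        omega
    · rintro (h1 | h1)
      · obtain ⟨e, he | he⟩ := hedge j (by omega) hj
        · exact ⟨e, Or.inr ⟨he.1, by omega⟩⟩
        · exact ⟨e, Or.inl ⟨by omega, he.2⟩⟩
      · obtain ⟨e, he | he⟩ := hedge i (by omega) hi
        · exact ⟨e, Or.inl ⟨he.1, by omega⟩⟩
        · exact ⟨e, Or.inr ⟨by omega, he.2⟩⟩

end Groth.Agent.Helper7.CapBI
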