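import Mathlib
import Groth.Prelude
import Groth.Agent.Helper1.TorProjDim2
import Groth.Agent.Helper1.TorFlat

/-!
# Vasconcelos' theorem, part A: finite projective dimension over a depth-zero local ring
-/

set_option autoImplicit false
set_option linter.style.haveILetI false
set_option linter.unusedSectionVars false

namespace Groth.Agent.Helper7.Vasc

open CategoryTheory CategoryTheory.Limits IsLocalRing Groth.Agent.Helper1.TorLib

universe u

variable {S : Type u} [CommRing S] [IsLocalRing S] [IsNoetherianRing S]

/-- the ideal generated by a socle element is isomorphic to the residue field -/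
noncomputable def socleEquiv (z : S) (hz : z ≠ 0) (hzm : ∀ r ∈ maximalIdeal S, r * z = 0) :
    ResidueField S ≃ₗ[S] LinearMap.ker (Submodule.mkQ (Ideal.span {z} : Submodule S S)) := by
  have hker : LinearMap.ker (LinearMap.toSpanSingleton S S z) = maximalIdeal S := by
    ext r
    rw [LinearMap.mem_ker, LinearMap.toSpanSingleton_apply, smul_eq_mul]
    constructor
    · intro h
      rw [mem_maximalIdeal, mem_nonunits_iff]
      intro hu
      exact hz (hu.mul_right_eq_zero.1 h)
    · exact hzm r
  have hrange : LinearMap.range (LinearMap.toSpanSingleton S S z) =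
      LinearMap.ker (Submodule.mkQ (Ideal.span {z} : Submodule S S)) := by
    rw [Submodule.ker_mkQ, LinearMap.range_toSpanSingleton]
  exact (Submodule.quotEquivOfEq _ _ hker.symm).trans
    ((LinearMap.quotKerEquivRange (LinearMap.toSpanSingleton S S z)).trans
      (LinearEquiv.ofEq _ _ hrange))

theorem pd_lt_one_of_socle (z : S) (hz : z ≠ 0) (hzm : ∀ r ∈ maximalIdeal S, r * z = 0)
    (N : Type u) [AddCommGroup N] [Module S N] [Module.Finite S N] :
    ∀ n : ℕ, HasProjectiveDimensionLT (ModuleCat.of S N) (n + 1) →
      HasProjectiveDimensionLT (ModuleCat.of S N) 1 := by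
  intro n
  induction n with
  | zero => intro h; exact h
  | succ n ih =>
    intro h
    apply ih
    apply hasProjectiveDimensionLT_of_isZero_tor_residueField n N
    set f : S →ₗ[S] (S ⧸ (Ideal.span {z} : Submodule S S)) :=
      Submodule.mkQ (Ideal.span {z} : Submodule S S) with hf
    have hex : Function.Exact (LinearMap.ker f).subtype f := LinearMap.exact_subtype_ker_map f
    have hS : (scOfLinear (LinearMap.ker f).subtype f hex).ShortExact :=
      scOfLinear_shortExact _ _ (Submodule.injective_subtype _) (Submodule.mkQ_surjective _) hex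
    haveI : HasProjectiveDimensionLE (ModuleCat.of S N) (n + 1) := h
    have h3 : IsZero (((Tor (ModuleCat.{u} S) (n + 1 + 1)).obj
        (scOfLinear (LinearMap.ker f).subtype f hex).X₃).obj (ModuleCat.of S N)) :=
      isZero_tor_of_hasProjectiveDimensionLE _ _ (n + 1) (n + 1 + 1) (by omega)
    haveI : Module.Flat S (scOfLinear (LinearMap.ker f).subtype f hex).X₂ :=
      inferInstanceAs (Module.Flat S S)
    have h2 : IsZero (((Tor (ModuleCat.{u} S) (n + 1)).obj
        (scOfLinear (LinearMap.ker f).subtype f hex).X₂).obj (ModuleCat.of S N)) :=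
      isZero_tor_of_flat_left _ _ n
    have h1 : IsZero (((Tor (ModuleCat.{u} S) (n + 1)).obj
        (scOfLinear (LinearMap.ker f).subtype f hex).X₁).obj (ModuleCat.of S N)) :=
      (tor_exact₁ (ModuleCat.of S N) hS (n + 1)).isZero_of_both_zeros
        (h3.eq_of_src _ _) (h2.eq_of_tgt _ _)
    exact isZero_tor_of_iso (socleEquiv z hz hzm).symm.toModuleIso _ _ h1

end Groth.Agent.Helper7.Vasc
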