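import Mathlib
import Groth.Prelude
import Groth.Agent.Helper7.VascA

/-!
# Vasconcelos' theorem, part B: an ideal of finite projective dimension contained in an
associated prime is locally zero there
-/

set_option autoImplicit false
set_option linter.style.haveILetI false
set_option linter.unusedSectionVars false

namespace Groth.Agent.Helper7.Vasc

open CategoryTheory CategoryTheory.Limits IsLocalRing

universe u

/-- projective dimension of an ideal localizes -/
theorem pd_map_localization {R : Type u} [CommRing R] (I : Ideal R) (T : Submonoid R) (n : ℕ)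
    (hpd : HasProjectiveDimensionLE (ModuleCat.of R I) n) :
    HasProjectiveDimensionLE (ModuleCat.of (Localization T)
      (I.map (algebraMap R (Localization T)))) n := by
  have h2 : HasProjectiveDimensionLE ((ModuleCat.of R I).localizedModule T) n :=
    ModuleCat.localizedModule_hasProjectiveDimensionLE n T _
  haveI := ModuleCat.localizedModule_isLocalizedModule (ModuleCat.of R I) T
  let e₀ := IsLocalizedModule.linearEquiv T
    ((ModuleCat.of R I).localizedModuleMkLinearMap T) (Algebra.idealMap (Localization T) I)
  let e := LinearEquiv.extendScalarsOfIsLocalization T (Localization T) e₀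
  exact hasProjectiveDimensionLT_of_iso e.toModuleIso (n + 1)

theorem ann_of_ass {R : Type u} [CommRing R] [IsNoetherianRing R] (I : Ideal R) (n : ℕ)
    (hpd : HasProjectiveDimensionLE (ModuleCat.of R I) n) (P : Ideal R)
    (hP : P ∈ associatedPrimes R R) (hIP : I ≤ P) (x : R) (hx : x ∈ I) :
    ∃ s, s ∉ P ∧ s * x = 0 := by
  rw [AssociatedPrimes.mem_iff, isAssociatedPrime_iff] at hP
  obtain ⟨hPp, y, hy⟩ := hP
  have hPy : ∀ r, r ∈ P ↔ r * y = 0 := by
    intro r
    rw [hy, Submodule.mem_colon_singleton, Submodule.mem_bot, smul_eq_mul]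
  set S := Localization.AtPrime P with hS
  set z : S := algebraMap R S y with hz
  have hz0 : z ≠ 0 := by
    intro h0
    rw [hz, IsLocalization.map_eq_zero_iff P.primeCompl] at h0
    obtain ⟨s, hs⟩ := h0
    exact s.2 ((hPy s.1).2 hs)
  have hzm : ∀ r ∈ maximalIdeal S, r * z = 0 := by
    intro r hr
    obtain ⟨a, t, rfl⟩ := IsLocalization.exists_mk'_eq P.primeCompl r
    rw [IsLocalization.AtPrime.mk'_mem_maximal_iff S P] at hr
    rw [hz, mul_comm, IsLocalization.mul_mk'_eq_mk'_of_mul, mul_comm, (hPy a).1 hr,
      IsLocalization.mk'_zero]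
  set J : Ideal S := I.map (algebraMap R S) with hJ
  have hpdJ : HasProjectiveDimensionLE (ModuleCat.of S J) n := pd_map_localization I P.primeCompl n hpd
  have h1 : HasProjectiveDimensionLT (ModuleCat.of S J) 1 := pd_lt_one_of_socle z hz0 hzm J n hpdJ
  rw [← projective_iff_hasProjectiveDimensionLT_one, ← IsProjective.iff_projective] at h1
  haveI : Module.Projective S J := h1
  haveI : Module.Free S J := Module.free_of_flat_of_isLocalRing
  have hzJ : ∀ w : J, z • w = 0 := by
    have key : ∀ w ∈ J, z * w = 0 := by
      intro w hw
      rw [hJ, Ideal.map] at hw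
      induction hw using Submodule.span_induction with
      | mem w hw =>
        obtain ⟨a, ha, rfl⟩ := hw
        rw [hz, ← map_mul, mul_comm, (hPy a).1 (hIP ha), map_zero]
      | zero => rw [mul_zero]
      | add w w' _ _ h h' => rw [mul_add, h, h', add_zero]
      | smul c w _ h => rw [smul_eq_mul, mul_left_comm, h, mul_zero]
    intro w
    ext
    simpa using key w.1 w.2
  have hsub : Subsingleton J := by
    by_contra hns
    rw [not_subsingleton_iff_nontrivial] at hns
    let b := Module.Free.chooseBasis S J
    obtain ⟨i⟩ := b.index_nonempty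
    have := hzJ (b i)
    have h2 : b.repr (z • b i) = 0 := by rw [this, map_zero]
    rw [map_smul, Module.Basis.repr_self, Finsupp.smul_single, smul_eq_mul, mul_one,
      Finsupp.single_eq_zero] at h2
    exact hz0 h2
  have hx0 : algebraMap R S x = 0 := by
    have : (⟨algebraMap R S x, Ideal.mem_map_of_mem _ hx⟩ : J) = 0 := Subsingleton.elim _ _
    exact congrArg Subtype.val this
  rw [IsLocalization.map_eq_zero_iff P.primeCompl] at hx0
  obtain ⟨s, hs⟩ := hx0
  exact ⟨s.1, s.2, hs⟩

end Groth.Agent.Helper7.Vasc
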