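import Mathlib
import Groth.Prelude
import Groth.Agent.Helper2.PdQuot

/-!
# Vasconcelos' theorem, part C: passing to the quotient by a regular element of `J ∖ mJ`
-/

set_option autoImplicit false
set_option linter.style.haveILetI false
set_option linter.unusedSectionVars false

namespace Groth.Agent.Helper7.Vasc

open CategoryTheory CategoryTheory.Limits IsLocalRing TensorProduct

universe u

variable {S : Type u} [CommRing S] [IsNoetherianRing S]

/-- If `x ∈ J` is a nonzerodivisor admitting a "coordinate" `coef : J → S/J` with `coef x = 1`,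
then `J/xS` is a direct summand of `J/xJ` over `S/xS`; hence finite projective dimension passes
from `J` to its image in `S/xS`. -/
theorem pd_quot (J : Ideal S) (x : S) (hxJ : x ∈ J) (hx : IsSMulRegular S x)
    (coef : J →ₗ[S] S ⧸ J) (hcoef : coef ⟨x, hxJ⟩ = 1) (n : ℕ)
    (hpd : HasProjectiveDimensionLT (ModuleCat.of S J) (n + 1)) :
    HasProjectiveDimensionLT (ModuleCat.of (S ⧸ Ideal.span {x})
      (J.map (Ideal.Quotient.mk (Ideal.span {x})))) (n + 1) := by
  set S' := S ⧸ Ideal.span {x} with hS'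
  set J' : Ideal S' := J.map (Ideal.Quotient.mk (Ideal.span {x})) with hJ'
  have hE : HasProjectiveDimensionLT (ModuleCat.of S' (S' ⊗[S] J)) (n + 1) :=
    Groth.Agent.Helper2.PdQuot.key x hx n J (hx.submodule _ x) hpd
  let xJ : J := ⟨x, hxJ⟩
  let g : J →ₗ[S] J' :=
    { toFun := fun y => ⟨Ideal.Quotient.mk (Ideal.span {x}) y.1, Ideal.mem_map_of_mem _ y.2⟩
      map_add' := fun y y' => by ext; simp
      map_smul' := fun c y => by ext; simp [Algebra.smul_def]; rfl }
  have hg : ∀ y : J, ((g y : J') : S') = Ideal.Quotient.mk (Ideal.span {x}) y.1 := fun y => rfl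
  have hgx : g xJ = 0 := by
    ext
    rw [hg]
    exact Ideal.Quotient.eq_zero_iff_mem.2 (Ideal.mem_span_singleton_self x)
  have hgsurj : Function.Surjective g := by
    rintro ⟨z, hz⟩
    rw [hJ', Ideal.mem_map_iff_of_surjective _ Ideal.Quotient.mk_surjective] at hz
    obtain ⟨y, hy, rfl⟩ := hz
    exact ⟨⟨y, hy⟩, rfl⟩
  let π : (S' ⊗[S] J) →ₗ[S'] J' := LinearMap.liftBaseChange S' g
  have hk : J ≤ LinearMap.ker (LinearMap.toSpanSingleton S (S' ⊗[S] J) ((1 : S') ⊗ₜ[S] xJ)) := by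
    intro s hs
    rw [LinearMap.mem_ker, LinearMap.toSpanSingleton_apply, ← TensorProduct.tmul_smul]
    have h1 : s • xJ = x • (⟨s, hs⟩ : J) := by
      ext
      simp [xJ, mul_comm]
    have h2 : x • (1 : S') = 0 := by
      rw [Algebra.smul_def, mul_one]
      exact Ideal.Quotient.eq_zero_iff_mem.2 (Ideal.mem_span_singleton_self x)
    rw [h1, ← TensorProduct.smul_tmul, h2, TensorProduct.zero_tmul]
  let κ : S ⧸ J →ₗ[S] (S' ⊗[S] J) := Submodule.liftQ J _ hk
  let τ : J →ₗ[S] (S' ⊗[S] J) := (TensorProduct.mk S S' J 1) - κ ∘ₗ coef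
  have hκ : ∀ s : S, κ (Ideal.Quotient.mk J s) = s • ((1 : S') ⊗ₜ[S] xJ) := by
    intro s
    exact Submodule.liftQ_apply _ _ _
  have hτ : ∀ y : J, τ y = (1 : S') ⊗ₜ[S] y - κ (coef y) := fun y => rfl
  have hτx : τ xJ = 0 := by
    rw [hτ, hcoef, ← map_one (Ideal.Quotient.mk J), hκ, one_smul, sub_self]
  have hker : LinearMap.ker g ≤ LinearMap.ker τ := by
    intro y hy
    rw [LinearMap.mem_ker] at hy ⊢
    have h1 : Ideal.Quotient.mk (Ideal.span {x}) y.1 = 0 := by
      rw [← hg, hy]; rfl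
    rw [Ideal.Quotient.eq_zero_iff_mem, Ideal.mem_span_singleton'] at h1
    obtain ⟨c, hc⟩ := h1
    have h2 : y = c • xJ := by
      ext
      simp [xJ, hc]
    rw [h2, map_smul, hτx, smul_zero]
  let σ₀ : J' →ₗ[S] (S' ⊗[S] J) :=
    (LinearMap.ker g).liftQ τ hker ∘ₗ (g.quotKerEquivOfSurjective hgsurj).symm.toLinearMap
  have hσ₀ : ∀ y : J, σ₀ (g y) = τ y := by
    intro y
    simp only [σ₀, LinearMap.coe_comp, LinearEquiv.coe_coe, Function.comp_apply,
      LinearMap.quotKerEquivOfSurjective_symm_apply]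
    exact Submodule.liftQ_apply _ _ _
  have hsurj : Function.Surjective (algebraMap S S') := Ideal.Quotient.mk_surjective
  let σ : J' →ₗ[S'] (S' ⊗[S] J) := LinearMap.extendScalarsOfSurjective hsurj σ₀
  have hπ1 : ∀ y : J, π ((1 : S') ⊗ₜ[S] y) = g y := by
    intro y
    simp [π]
  have hπκ : ∀ c : S ⧸ J, π (κ c) = 0 := by
    intro c
    obtain ⟨s, rfl⟩ := Ideal.Quotient.mk_surjective c
    rw [hκ, ← algebraMap_smul S', map_smul, hπ1, hgx, smul_zero]
  have hπσ : π ∘ₗ σ = LinearMap.id := by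
    ext z : 1
    obtain ⟨y, rfl⟩ := hgsurj z
    rw [LinearMap.comp_apply, LinearMap.extendScalarsOfSurjective_apply, hσ₀, hτ, map_sub, hπ1,
      hπκ, sub_zero, LinearMap.id_apply]
  let r : Retract (ModuleCat.of S' J') (ModuleCat.of S' (S' ⊗[S] J)) :=
    { i := ModuleCat.ofHom σ
      r := ModuleCat.ofHom π
      retract := by
        rw [← ModuleCat.ofHom_comp, hπσ]
        rfl }
  exact r.hasProjectiveDimensionLT (n + 1)

end Groth.Agent.Helper7.Vasc
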