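import Mathlib
import Groth.Prelude
import Groth.Agent.Helper7.VascB
import Groth.Agent.Helper7.VascC

/-!
# Vasconcelos' theorem, part D: the local statement
-/

set_option autoImplicit false
set_option linter.style.haveILetI false
set_option linter.unusedSectionVars false

namespace Groth.Agent.Helper7.Vasc

open CategoryTheory CategoryTheory.Limits IsLocalRing TensorProduct
open scoped Pointwise

universe u

/-- quasi-independence of a finite family: its classes in `J/J²` (where `J` is the ideal it
generates) are linearly independent over `S/J`. -/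
def QI {S : Type u} [CommRing S] {ι : Type} [Fintype ι] (v : ι → S) : Prop :=
  ∀ a : ι → S, ∑ i, a i * v i ∈ (Ideal.span (Set.range v)) ^ 2 →
    ∀ i, a i ∈ Ideal.span (Set.range v)

section coef

variable {S : Type u} [CommRing S] {ι : Type} [Fintype ι]

theorem exists_coef (v : ι → S) (hQI : QI v) (j : ι) :
    ∃ coef : (Ideal.span (Set.range v)) →ₗ[S] S ⧸ Ideal.span (Set.range v),
      ∀ (a : ι → S) (h : ∑ i, a i * v i ∈ Ideal.span (Set.range v)),
        coef ⟨∑ i, a i * v i, h⟩ = Ideal.Quotient.mk _ (a j) := by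
  classical
  set J := Ideal.span (Set.range v) with hJ
  have hmem : ∀ a : ι → S, ∑ i, a i * v i ∈ J := fun a =>
    Ideal.sum_mem _ fun i _ => Ideal.mul_mem_left _ _ (Ideal.subset_span (Set.mem_range_self i))
  let Φ : (ι → S) →ₗ[S] J :=
    { toFun := fun a => ⟨∑ i, a i * v i, hmem a⟩
      map_add' := fun a b => by
        ext
        simp [add_mul, Finset.sum_add_distrib]
      map_smul' := fun c a => by
        ext
        simp [Finset.mul_sum, mul_assoc] }
  have hΦ : Function.Surjective Φ := by
    rintro ⟨y, hy⟩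
    obtain ⟨a, ha⟩ := (Ideal.mem_span_range_iff_exists_fun).1 hy
    exact ⟨a, Subtype.ext ha⟩
  let ψ : (ι → S) →ₗ[S] S ⧸ J := (Submodule.mkQ J) ∘ₗ (LinearMap.proj j)
  have hker : LinearMap.ker Φ ≤ LinearMap.ker ψ := by
    intro a ha
    rw [LinearMap.mem_ker] at ha ⊢
    have h0 : ∑ i, a i * v i = 0 := congrArg Subtype.val ha
    have := hQI a (by rw [h0]; exact Ideal.zero_mem _) j
    exact (Submodule.Quotient.mk_eq_zero _).2 this
  refine ⟨(LinearMap.ker Φ).liftQ ψ hker ∘ₗ (Φ.quotKerEquivOfSurjective hΦ).symm.toLinearMap, ?_⟩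
  intro a h
  have : (⟨∑ i, a i * v i, h⟩ : J) = Φ a := rfl
  rw [this]
  simp only [LinearMap.coe_comp, LinearEquiv.coe_coe, Function.comp_apply,
    LinearMap.quotKerEquivOfSurjective_symm_apply]
  exact Submodule.liftQ_apply _ _ _

end coef

section step

variable {S : Type u} [CommRing S] {ι : Type} [Fintype ι] [DecidableEq ι]

/-- the family in the quotient -/
def vquot (v : ι → S) (x : S) (j : ι) : {i // i ≠ j} → S ⧸ Ideal.span {x} :=
  fun i => Ideal.Quotient.mk _ (v i.1)

theorem span_vquot (v : ι → S) (x : S) (j : ι) (c : ι → S) (hc : ∑ i, c i * v i = x)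
    (hcj : IsUnit (c j)) :
    Ideal.span (Set.range (vquot v x j)) =
      (Ideal.span (Set.range v)).map (Ideal.Quotient.mk (Ideal.span {x})) := by
  set mk := Ideal.Quotient.mk (Ideal.span {x}) with hmk
  apply le_antisymm
  · rw [Ideal.span_le]
    rintro _ ⟨i, rfl⟩
    exact Ideal.mem_map_of_mem _ (Ideal.subset_span (Set.mem_range_self i.1))
  · rw [Ideal.map_span, Ideal.span_le]
    rintro _ ⟨_, ⟨i, rfl⟩, rfl⟩
    by_cases hij : i = j
    · subst hij
      have h1 : mk (c i) * mk (v i) =
          - ∑ l : {l // l ≠ i}, mk (c l.1) * vquot v x i l := by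
        have hx0 : mk x = 0 := Ideal.Quotient.eq_zero_iff_mem.2 (Ideal.mem_span_singleton_self x)
        have hx1 : mk (∑ l, c l * v l) = 0 := by rw [hc]; exact hx0
        rw [map_sum, Fintype.sum_eq_add_sum_subtype_ne _ i] at hx1
        simp only [map_mul] at hx1
        have hx0 := hx1
        rw [eq_neg_iff_add_eq_zero]
        exact hx0
      have h2 : mk (c i) * mk (v i) ∈ Ideal.span (Set.range (vquot v x i)) := by
        rw [h1]
        exact neg_mem (Ideal.sum_mem _ fun l _ =>
          Ideal.mul_mem_left _ _ (Ideal.subset_span (Set.mem_range_self l)))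
      exact (Ideal.unit_mul_mem_iff_mem _ (hcj.map mk)).1 h2
    · exact Ideal.subset_span ⟨⟨i, hij⟩, rfl⟩

theorem qi_vquot (v : ι → S) (hQI : QI v) (x : S) (j : ι) (c : ι → S)
    (hc : ∑ i, c i * v i = x) (hcj : IsUnit (c j)) : QI (vquot v x j) := by
  intro a' ha' l
  rw [span_vquot v x j c hc hcj] at ha' ⊢
  set J := Ideal.span (Set.range v) with hJ
  set mk := Ideal.Quotient.mk (Ideal.span {x}) with hmk
  have hsurj : Function.Surjective mk := Ideal.Quotient.mk_surjective
  choose a ha using fun i => hsurj (a' i)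
  let a₀ : ι → S := fun i => if h : i = j then 0 else a ⟨i, h⟩
  have ha₀j : a₀ j = 0 := dif_pos rfl
  have ha₀ : ∀ i : {i // i ≠ j}, a₀ i.1 = a i := fun i => by
    simp only [a₀]
    rw [dif_neg i.2]
  set y₀ := ∑ i, a₀ i * v i with hy₀
  have hmky₀ : mk y₀ = ∑ i, a' i * vquot v x j i := by
    rw [hy₀, Fintype.sum_eq_add_sum_subtype_ne _ j, ha₀j, zero_mul, zero_add, map_sum]
    refine Finset.sum_congr rfl fun i _ => ?_
    rw [map_mul, ha₀, ha]
    rfl
  have hy₀mem : y₀ ∈ J ^ 2 ⊔ Ideal.span {x} := by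
    have h1 : mk y₀ ∈ (J ^ 2).map mk := by
      rw [Ideal.map_pow, hmky₀]
      exact ha'
    have h2 : y₀ ∈ ((J ^ 2).map mk).comap mk := h1
    rw [Ideal.comap_map_of_surjective mk hsurj, ← RingHom.ker_eq_comap_bot, hmk,
      Ideal.mk_ker] at h2
    exact h2
  obtain ⟨y₁, hy₁, z, hz, hyz⟩ := Submodule.mem_sup.1 hy₀mem
  obtain ⟨b, rfl⟩ := Ideal.mem_span_singleton'.1 hz
  have key := hQI (fun i => a₀ i - b * c i) (by
    have : ∑ i, (a₀ i - b * c i) * v i = y₁ := by
      simp only [sub_mul, Finset.sum_sub_distrib, mul_assoc, ← Finset.mul_sum, hc]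
      rw [← hy₀, ← hyz]
      ring
    rw [this]
    exact hy₁)
  have hb : b ∈ J := by
    have := key j
    simp only [ha₀j, zero_sub] at this
    have h2 : b * c j ∈ J := by simpa using J.neg_mem this
    rw [mul_comm] at h2
    exact (Ideal.unit_mul_mem_iff_mem _ hcj).1 h2
  have hal : a l ∈ J := by
    have := key l.1
    simp only [ha₀] at this
    have h2 : a l - b * c l.1 + b * c l.1 ∈ J := J.add_mem this (J.mul_mem_right _ hb)
    simpa using h2
  rw [← ha l]
  exact Ideal.mem_map_of_mem _ hal

end step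

section main

open RingTheory.Sequence

theorem smul_top_eq_span {S : Type u} [CommRing S] (x : S) :
    (x • (⊤ : Submodule S S)) = (Ideal.span {x} : Submodule S S) := by
  ext y
  rw [Submodule.mem_smul_pointwise_iff_exists]
  constructor
  · rintro ⟨z, -, rfl⟩
    exact Ideal.mem_span_singleton'.2 ⟨z, by rw [smul_eq_mul, mul_comm]⟩
  · intro hy
    obtain ⟨z, rfl⟩ := Ideal.mem_span_singleton'.1 hy
    exact ⟨z, trivial, by rw [smul_eq_mul, mul_comm]⟩

theorem local_main : ∀ (k : ℕ) (S : Type u) [CommRing S] [IsLocalRing S] [IsNoetherianRing S]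
    (ι : Type) [Fintype ι] (v : ι → S), Fintype.card ι = k → (∀ i, v i ∈ maximalIdeal S) →
    QI v → (∃ n, HasProjectiveDimensionLT (ModuleCat.of S (Ideal.span (Set.range v))) n) →
    ∃ rs : List S, IsWeaklyRegular S rs ∧ Ideal.ofList rs = Ideal.span (Set.range v) := by
  intro k
  induction k with
  | zero =>
    intro S _ _ _ ι _ v hcard _ _ _
    haveI : IsEmpty ι := Fintype.card_eq_zero_iff.1 hcard
    refine ⟨[], IsWeaklyRegular.nil S S, ?_⟩
    rw [Ideal.ofList_nil, Set.range_eq_empty, Ideal.span_empty]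
  | succ k ih =>
    intro S _ _ _ ι _ v hcard hvm hQI hpd
    obtain ⟨n, hpd⟩ := hpd
    classical
    set J := Ideal.span (Set.range v) with hJ
    have hne : Nonempty ι := Fintype.card_pos_iff.1 (by omega)
    obtain ⟨i₀⟩ := hne
    have hvJ : ∀ i, v i ∈ J := fun i => Ideal.subset_span (Set.mem_range_self i)
    have hJm : J ≤ maximalIdeal S := Ideal.span_le.2 (by rintro _ ⟨i, rfl⟩; exact hvm i)
    have hpd1 : HasProjectiveDimensionLT (ModuleCat.of S J) (n + 1) :=
      hasProjectiveDimensionLT_of_ge _ n (n + 1) (by omega)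
    -- Step 1: `J` is not contained in any associated prime
    have hass : ∀ P ∈ associatedPrimes S S, ¬ J ≤ P := by
      intro P hP hJP
      obtain ⟨s, hsP, hs⟩ := ann_of_ass J n hpd1 P hP hJP (v i₀) (hvJ i₀)
      have h1 : ∑ i, (Pi.single i₀ s : ι → S) i * v i = 0 := by
        rw [Finset.sum_eq_single i₀]
        · rw [Pi.single_eq_same, hs]
        · intro i _ hi
          rw [Pi.single_eq_of_ne hi, zero_mul]
        · intro h
          exact absurd (Finset.mem_univ _) h
      have := hQI (Pi.single i₀ s) (by rw [h1]; exact Ideal.zero_mem _) i₀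
      rw [Pi.single_eq_same] at this
      exact hsP (hJP this)
    -- Step 2: Nakayama
    have hnak : ¬ J ≤ maximalIdeal S • J := by
      intro h
      have hbot : J = ⊥ := Submodule.eq_bot_of_le_smul_of_le_jacobson_bot (maximalIdeal S) J
        (IsNoetherian.noetherian J) h
        (by rw [IsLocalRing.jacobson_eq_maximalIdeal ⊥ bot_ne_top])
      obtain ⟨P, hP⟩ := associatedPrimes.nonempty S S
      exact hass P hP (hbot ▸ bot_le)
    -- Step 3: prime avoidance
    obtain ⟨x, hxJ, hxm, hxP⟩ : ∃ x ∈ J, x ∉ maximalIdeal S • J ∧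
        ∀ P ∈ associatedPrimes S S, x ∉ P := by
      by_contra hcon
      push Not at hcon
      have hfin : (insert (maximalIdeal S • J) (associatedPrimes S S)).Finite :=
        (associatedPrimes.finite S S).insert _
      have hsub : (J : Set S) ⊆ ⋃ P ∈ insert (maximalIdeal S • J) (associatedPrimes S S),
          (id P : Ideal S) := by
        intro x hx
        by_cases hxm : x ∈ maximalIdeal S • J
        · exact Set.mem_biUnion (Set.mem_insert _ _) hxm
        · obtain ⟨P, hP, hxP⟩ := hcon x hx hxm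
          exact Set.mem_biUnion (Set.mem_insert_of_mem _ hP) hxP
      obtain ⟨P, hP, hJP⟩ := (Ideal.subset_union_prime_finite hfin (f := id)
        (maximalIdeal S • J) (maximalIdeal S • J) (fun P hP hne _ => by
          rcases hP with rfl | hP
          · exact absurd rfl hne
          · exact hP.isPrime)).mp hsub
      rcases hP with rfl | hP
      · exact hnak hJP
      · exact hass P hP hJP
    have hxreg : IsSMulRegular S x := by
      have : x ∈ nonZeroDivisors S := by
        by_contra hx
        have h2 : x ∈ ((nonZeroDivisors S : Set S))ᶜ := hx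
        rw [← biUnion_associatedPrimes_eq_compl_nonZeroDivisors] at h2
        obtain ⟨P, hP, hxP'⟩ := Set.mem_iUnion₂.1 h2
        exact hxP P hP hxP'
      exact (isRegular_iff_mem_nonZeroDivisors.2 this).left.isSMulRegular
    -- Step 4: write `x` in terms of `v` with a unit coefficient
    obtain ⟨c, hc⟩ := (Ideal.mem_span_range_iff_exists_fun).1 hxJ
    obtain ⟨j, hcj⟩ : ∃ j, IsUnit (c j) := by
      by_contra hcon
      push Not at hcon
      apply hxm
      rw [← hc]
      refine Ideal.sum_mem _ fun i _ => ?_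
      rw [← smul_eq_mul]
      exact Submodule.smul_mem_smul (hcon i) (hvJ i)
    -- the coefficient map
    obtain ⟨coefv, hcoefv⟩ := exists_coef v hQI j
    obtain ⟨u, hu⟩ := hcj
    let coef : J →ₗ[S] S ⧸ J := (↑u⁻¹ : S) • coefv
    have hcoef : coef ⟨x, hxJ⟩ = 1 := by
      have : (⟨x, hxJ⟩ : J) = ⟨∑ i, c i * v i, hc ▸ hxJ⟩ := Subtype.ext hc.symm
      rw [this]
      simp only [coef, LinearMap.smul_apply, hcoefv]
      rw [← hu, Algebra.smul_def, Ideal.Quotient.algebraMap_eq, ← map_mul, Units.inv_mul, map_one]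
    have hpd' := pd_quot J x hxJ hxreg coef hcoef n hpd1
    -- the quotient ring
    have hxmax : x ∈ maximalIdeal S := hJm hxJ
    haveI : Nontrivial (S ⧸ Ideal.span {x}) := Ideal.Quotient.nontrivial_iff.2 (by
      rw [Ne, Ideal.span_singleton_eq_top]
      exact hxmax)
    haveI : IsLocalRing (S ⧸ Ideal.span {x}) :=
      IsLocalRing.of_surjective' (Ideal.Quotient.mk _) Ideal.Quotient.mk_surjective
    have hspan := span_vquot v x j c hc ⟨u, hu⟩
    have hcard' : Fintype.card {i // i ≠ j} = k := by
      rw [Fintype.card_subtype_compl, Fintype.card_subtype_eq, hcard]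
      omega
    have hvm' : ∀ i, vquot v x j i ∈ maximalIdeal (S ⧸ Ideal.span {x}) := by
      intro i
      rw [← IsLocalRing.map_maximalIdeal_of_surjective (Ideal.Quotient.mk (Ideal.span {x}))
        Ideal.Quotient.mk_surjective]
      exact Ideal.mem_map_of_mem _ (hvm i.1)
    obtain ⟨rs', hrs', hof'⟩ := ih (S ⧸ Ideal.span {x}) {i // i ≠ j} (vquot v x j) hcard' hvm'
      (qi_vquot v hQI x j c hc ⟨u, hu⟩) ⟨n + 1, by rw [hspan]; exact hpd'⟩
    obtain ⟨ys, rfl⟩ := List.map_surjective_iff.2 Ideal.Quotient.mk_surjective rs'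
    refine ⟨x :: ys, ?_, ?_⟩
    · rw [isWeaklyRegular_cons_iff]
      refine ⟨hxreg, ?_⟩
      have h1 : IsWeaklyRegular (S ⧸ Ideal.span {x}) ys :=
        (isWeaklyRegular_map_algebraMap_iff (S ⧸ Ideal.span {x}) (S ⧸ Ideal.span {x}) ys).1 hrs'
      exact ((Submodule.quotEquivOfEq _ _ (smul_top_eq_span x).symm).isWeaklyRegular_congr ys).1 h1
    · rw [Ideal.ofList_cons]
      have h1 : (Ideal.ofList ys).map (Ideal.Quotient.mk (Ideal.span {x})) =
          J.map (Ideal.Quotient.mk (Ideal.span {x})) := by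
        rw [Ideal.map_ofList, hof', hspan]
      have h2 := congrArg (Ideal.comap (Ideal.Quotient.mk (Ideal.span {x}))) h1
      rw [Ideal.comap_map_of_surjective _ Ideal.Quotient.mk_surjective,
        Ideal.comap_map_of_surjective _ Ideal.Quotient.mk_surjective,
        ← RingHom.ker_eq_comap_bot, Ideal.mk_ker] at h2
      rw [sup_comm, h2]
      exact sup_eq_left.2 ((Ideal.span_singleton_le_iff_mem _).2 hxJ)

end main

end Groth.Agent.Helper7.Vasc
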