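import Mathlib
import Groth.Prelude.Def_W4c1hilbpnTgt
import Groth.Agent.Helper6.MonoIdeal

/-! Basics on monomial ideals for the tangent space pieces `tPiece`. -/

set_option autoImplicit false

namespace Groth.Agent.Helper7.HTa

open MvPolynomial W4c1hilbpn

variable {σ : Type*} {k : Type*} [Field k]

theorem exps_add {I : Ideal (MvPolynomial σ k)} {β : σ →₀ ℕ} (h : β ∈ exps I) (δ : σ →₀ ℕ) :
    β + δ ∈ exps I := by
  change monomial (β + δ) (1 : k) ∈ I
  have : monomial (β + δ) (1 : k) = monomial δ 1 * monomial β 1 := by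
    rw [monomial_mul, mul_one, add_comm]
  rw [this]
  exact I.mul_mem_left _ h

theorem mk_monomial_eq_zero {I : Ideal (MvPolynomial σ k)} {β : σ →₀ ℕ} (h : β ∈ exps I) (a : k) :
    Ideal.Quotient.mk I (monomial β a) = 0 := by
  rw [Ideal.Quotient.eq_zero_iff_mem]
  have : monomial β a = C a * monomial β 1 := by
    rw [C_mul_monomial, mul_one]
  rw [this]
  exact I.mul_mem_left _ h

open Classical in
/-- coefficient functional on the quotient by a monomial ideal -/
noncomputable def cf (I : Ideal (MvPolynomial σ k)) (β : σ →₀ ℕ) :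
    (MvPolynomial σ k ⧸ I) →ₗ[k] k :=
  if h : (I.restrictScalars k) ≤ LinearMap.ker (lcoeff k β) then
    ((I.restrictScalars k).liftQ (lcoeff k β) h) ∘ₗ
      (Submodule.Quotient.restrictScalarsEquiv k I).symm.toLinearMap
  else 0

theorem cf_mk {I : Ideal (MvPolynomial σ k)} (hI : IsMonomial I) {β : σ →₀ ℕ} (hβ : β ∉ exps I)
    (p : MvPolynomial σ k) : cf I β (Ideal.Quotient.mk I p) = coeff β p := by
  have h : (I.restrictScalars k) ≤ LinearMap.ker (lcoeff k β) := by
    intro q hq
    rw [LinearMap.mem_ker, lcoeff_apply]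
    by_contra hne
    exact hβ (hI q hq β (mem_support_iff.mpr hne))
  rw [cf, dif_pos h]
  change ((I.restrictScalars k).liftQ (lcoeff k β) h)
    ((Submodule.Quotient.restrictScalarsEquiv k I).symm (Submodule.Quotient.mk p)) = _
  rw [Submodule.Quotient.restrictScalarsEquiv_symm_mk, Submodule.liftQ_apply, lcoeff_apply]

theorem cf_mk_monomial {I : Ideal (MvPolynomial σ k)} (hI : IsMonomial I) {β : σ →₀ ℕ}
    (hβ : β ∉ exps I) (a : k) : cf I β (Ideal.Quotient.mk I (monomial β a)) = a := by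
  classical
  rw [cf_mk hI hβ, coeff_monomial, if_pos rfl]

theorem X_smul_mk_monomial (I : Ideal (MvPolynomial σ k)) (i : σ) (γ : σ →₀ ℕ) (a : k) :
    (X i : MvPolynomial σ k) • (Ideal.Quotient.mk I (monomial γ a) : MvPolynomial σ k ⧸ I) =
      Ideal.Quotient.mk I (monomial (γ + Finsupp.single i 1) a) := by
  have : monomial (γ + Finsupp.single i 1) a = (X i : MvPolynomial σ k) * monomial γ a := by
    rw [X, monomial_mul, one_mul, add_comm]
  rw [this]
  rfl

theorem smul_mk_monomial (I : Ideal (MvPolynomial σ k)) (γ : σ →₀ ℕ) (a : k) :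
    a • (Ideal.Quotient.mk I (monomial γ (1 : k)) : MvPolynomial σ k ⧸ I) =
      Ideal.Quotient.mk I (monomial γ a) := by
  have : monomial γ a = a • monomial γ (1 : k) := by
    rw [smul_monomial, smul_eq_mul, mul_one]
  rw [this]
  rfl

/-- a monomial ideal is spanned over `k` by its monomials -/
theorem mem_span_of_mem {I : Ideal (MvPolynomial σ k)} (hI : IsMonomial I)
    {p : MvPolynomial σ k} (hp : p ∈ I) :
    p ∈ Submodule.span k {q : MvPolynomial σ k | ∃ β ∈ exps I, q = monomial β 1} := by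
  rw [← support_sum_monomial_coeff p]
  refine Submodule.sum_mem _ fun β hβ => ?_
  have : monomial β (coeff β p) = coeff β p • monomial β (1 : k) := by
    rw [smul_monomial, smul_eq_mul, mul_one]
  rw [this]
  exact Submodule.smul_mem _ _ (Submodule.subset_span ⟨β, hI p hp β hβ, rfl⟩)

section ints

variable [Fintype σ]

/-- exponent vector as integer vector -/
def toInt (β : σ →₀ ℕ) : σ → ℤ := fun i => (β i : ℤ)

/-- truncation of an integer vector -/
noncomputable def toN (γ : σ → ℤ) : σ →₀ ℕ :=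
  Finsupp.equivFunOnFinite.symm fun i => (γ i).toNat

/-- translate -/
def tr (α : σ → ℤ) (β : σ →₀ ℕ) : σ → ℤ := fun i => (β i : ℤ) + α i

/-- nonnegativity -/
def nn (γ : σ → ℤ) : Prop := ∀ i, 0 ≤ γ i

@[simp] theorem toN_apply (γ : σ → ℤ) (i : σ) : toN γ i = (γ i).toNat := rfl

theorem toN_toInt (β : σ →₀ ℕ) : toN (toInt β) = β := by
  ext i
  simp [toInt]

theorem toInt_toN {γ : σ → ℤ} (h : nn γ) : toInt (toN γ) = γ := by
  funext i
  simp [toInt, Int.toNat_of_nonneg (h i)]

theorem shift_eq (β : σ →₀ ℕ) (α : σ → ℤ) : shift β α = toN (tr α β) := rfl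

theorem toN_sub_tr (α : σ → ℤ) (β : σ →₀ ℕ) : toN (fun i => tr α β i - α i) = β := by
  ext i
  simp [tr]

theorem mem_region_iff (I : Ideal (MvPolynomial σ k)) (α : σ → ℤ) (γ : σ → ℤ) :
    γ ∈ region I α ↔ (∃ β ∈ exps I, γ = tr α β) ∧ ¬ (nn γ ∧ toN γ ∈ exps I) := Iff.rfl

theorem toN_add_single {γ : σ → ℤ} (h : nn γ) (i : σ) [DecidableEq σ] :
    toN (fun j => γ j + if j = i then 1 else 0) = toN γ + Finsupp.single i 1 := by
  ext j
  by_cases hj : j = i
  · subst hj
    simp [Int.toNat_add (h j) zero_le_one]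
  · simp [hj]

end ints

end Groth.Agent.Helper7.HTa
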