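import Mathlib
import Groth.Prelude.Def_W4c1hilbpnTgt
import Groth.Agent.Helper7.HTa

/-! The coefficient function of an element of `tPiece I α` on the region. -/

set_option autoImplicit false

namespace Groth.Agent.Helper7.HTb

open MvPolynomial W4c1hilbpn Groth.Agent.Helper7.HTa

variable {σ : Type*} {k : Type*} [Field k]

/-- the monomial `x^β` as an element of `I` -/
noncomputable def mon (I : Ideal (MvPolynomial σ k)) {β : σ →₀ ℕ} (h : β ∈ exps I) : I :=
  ⟨monomial β 1, h⟩

theorem mon_congr (I : Ideal (MvPolynomial σ k)) {β β' : σ →₀ ℕ} (h : β ∈ exps I) (e : β = β') :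
    mon I h = mon I (e ▸ h : β' ∈ exps I) := by
  subst e; rfl

theorem mon_add_single [DecidableEq σ] (I : Ideal (MvPolynomial σ k)) {β : σ →₀ ℕ}
    (h : β ∈ exps I) (i : σ) :
    mon I (exps_add h (Finsupp.single i 1)) = (X i : MvPolynomial σ k) • mon I h := by
  apply Subtype.ext
  change monomial (β + Finsupp.single i 1) (1 : k) = (X i : MvPolynomial σ k) * monomial β 1
  rw [X, monomial_mul, one_mul, add_comm]

variable [Fintype σ]

/-- the exponent attached to a point of `E + α` -/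
noncomputable def bOf (α : σ → ℤ) (γ : σ → ℤ) : σ →₀ ℕ := toN (fun i => γ i - α i)

theorem bOf_tr (α : σ → ℤ) (β : σ →₀ ℕ) : bOf α (tr α β) = β := toN_sub_tr α β

variable (I : Ideal (MvPolynomial σ k)) (α : σ → ℤ)

theorem bOf_mem {γ : σ → ℤ} (h : γ ∈ region I α) : monomial (bOf α γ) (1 : k) ∈ I := by
  obtain ⟨⟨β, hβ, rfl⟩, -⟩ := h
  change monomial (bOf α (tr α β)) (1 : k) ∈ I
  rw [bOf_tr]
  exact hβ

theorem tr_bOf {γ : σ → ℤ} (h : γ ∈ region I α) : tr α (bOf α γ) = γ := by
  obtain ⟨⟨β, hβ, rfl⟩, -⟩ := h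
  change tr α (bOf α (tr α β)) = tr α β
  rw [bOf_tr]

/-- coefficient function -/
noncomputable def co (φ : Tgt I) (v : region I α) : k :=
  cf I (toN v.1) (φ (mon I (bOf_mem I α v.2)))

/-- coefficient function, as a linear map -/
noncomputable def coL : Tgt I →ₗ[k] (region I α → k) where
  toFun φ := co I α φ
  map_add' φ ψ := by
    funext v
    simp [co]
  map_smul' c φ := by
    funext v
    simp [co]

theorem coL_apply (φ : Tgt I) (v : region I α) : coL I α φ v = co I α φ v := rfl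

variable {I α}

/-- value of `φ` on a monomial with nonnegative translate -/
theorem exists_eq_of_nn {φ : Tgt I} (hφ : φ ∈ tPiece I α) {β : σ →₀ ℕ} (hβ : β ∈ exps I)
    (h : nn (tr α β)) :
    ∃ a : k, φ (mon I hβ) = Ideal.Quotient.mk I (monomial (toN (tr α β)) a) := by
  have h1 := (hφ β hβ).1 h
  obtain ⟨a, ha⟩ := Submodule.mem_span_singleton.mp h1
  refine ⟨a, ?_⟩
  rw [← smul_mk_monomial, ← shift_eq]
  exact ha.symm

theorem eq_zero_of_not_nn {φ : Tgt I} (hφ : φ ∈ tPiece I α) {β : σ →₀ ℕ} (hβ : β ∈ exps I)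
    (h : ¬ nn (tr α β)) : φ (mon I hβ) = 0 := by
  have h' : ∃ i, (β i : ℤ) + α i < 0 := by
    unfold nn at h
    push Not at h
    exact h
  exact (hφ β hβ).2 h'

theorem co_eq_zero_of_not_nn {φ : Tgt I} (hφ : φ ∈ tPiece I α) (v : region I α)
    (h : ¬ nn v.1) : co I α φ v = 0 := by
  have h1 : ¬ nn (tr α (bOf α v.1)) := by rw [tr_bOf I α v.2]; exact h
  rw [co, eq_zero_of_not_nn hφ (bOf_mem I α v.2) h1, map_zero]

theorem notMem_of_region_nn {γ : σ → ℤ} (h : γ ∈ region I α) (hn : nn γ) : toN γ ∉ exps I :=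
  fun hE => h.2 ⟨hn, hE⟩

theorem co_step [DecidableEq σ] (hI : IsMonomial I) {φ : Tgt I} (hφ : φ ∈ tPiece I α)
    (v w : region I α) (i : σ) (hw : w.1 = fun j => v.1 j + if j = i then 1 else 0) :
    co I α φ v = co I α φ w := by
  have hβ := bOf_mem I α v.2
  have htr := tr_bOf I α v.2
  have hbw : bOf α w.1 = bOf α v.1 + Finsupp.single i 1 := by
    ext j
    have hj : v.1 j = (bOf α v.1 j : ℤ) + α j := (congrFun htr j).symm
    by_cases hji : j = i
    · subst hji
      simp only [bOf, toN_apply, hw, if_true, Finsupp.add_apply, Finsupp.single_eq_same]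
      rw [hj]
      simp [bOf]
      omega
    · simp only [bOf, toN_apply, hw, if_neg hji, Finsupp.add_apply, add_zero,
        Finsupp.single_apply, if_neg (Ne.symm hji)]
  have hφw : φ (mon I (bOf_mem I α w.2)) = (X i : MvPolynomial σ k) • φ (mon I hβ) := by
    rw [mon_congr I (bOf_mem I α w.2) hbw, mon_add_single I hβ i, map_smul]
  by_cases hn : nn v.1
  · have hn' : nn (tr α (bOf α v.1)) := by rw [htr]; exact hn
    obtain ⟨a, ha⟩ := exists_eq_of_nn hφ hβ hn'
    rw [htr] at ha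
    have hnw : nn w.1 := by
      intro j
      rw [hw]
      have := hn j
      beta_reduce
      split_ifs <;> omega
    have hNw : toN w.1 = toN v.1 + Finsupp.single i 1 := by
      rw [hw]; exact toN_add_single hn i
    rw [co, co, hφw, ha, X_smul_mk_monomial, ← hNw,
      cf_mk_monomial hI (notMem_of_region_nn v.2 hn), cf_mk_monomial hI (notMem_of_region_nn w.2 hnw)]
  · have hn' : ¬ nn (tr α (bOf α v.1)) := by rw [htr]; exact hn
    have h0 := eq_zero_of_not_nn hφ hβ hn'
    rw [co, co, hφw, h0, smul_zero, map_zero, map_zero]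

theorem eq_zero_of_co_eq_zero (hI : IsMonomial I) {φ : Tgt I} (hφ : φ ∈ tPiece I α)
    (h0 : ∀ v, co I α φ v = 0) : φ = 0 := by
  have hmon : ∀ (β : σ →₀ ℕ) (hβ : β ∈ exps I), φ (mon I hβ) = 0 := by
    intro β hβ
    by_cases hn : nn (tr α β)
    · obtain ⟨a, ha⟩ := exists_eq_of_nn hφ hβ hn
      by_cases hE : toN (tr α β) ∈ exps I
      · rw [ha, mk_monomial_eq_zero hE]
      · have hreg : tr α β ∈ region I α := ⟨⟨β, hβ, rfl⟩, fun h => hE h.2⟩
        have h1 := h0 ⟨tr α β, hreg⟩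
        rw [co] at h1
        have h2 : mon I (bOf_mem I α hreg) = mon I hβ := by
          rw [mon_congr I (bOf_mem I α hreg) (bOf_tr α β)]
        rw [h2, ha, cf_mk_monomial hI hE] at h1
        rw [ha, h1, monomial_zero, map_zero]
    · exact eq_zero_of_not_nn hφ hβ hn
  apply LinearMap.ext
  intro p
  have hp := mem_span_of_mem hI p.2
  have key : ∀ q (_ : q ∈ Submodule.span k {q : MvPolynomial σ k | ∃ β ∈ exps I, q = monomial β 1}),
      ∃ hq : q ∈ I, φ ⟨q, hq⟩ = 0 := by
    intro q hq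
    induction hq using Submodule.span_induction with
    | mem q hq =>
      obtain ⟨β, hβ, rfl⟩ := hq
      exact ⟨hβ, hmon β hβ⟩
    | zero => exact ⟨I.zero_mem, map_zero φ⟩
    | add q1 q2 _ _ h1 h2 =>
      obtain ⟨hq1, e1⟩ := h1
      obtain ⟨hq2, e2⟩ := h2
      refine ⟨I.add_mem hq1 hq2, ?_⟩
      have : (⟨q1 + q2, I.add_mem hq1 hq2⟩ : I) = ⟨q1, hq1⟩ + ⟨q2, hq2⟩ := rfl
      rw [this, map_add, e1, e2, add_zero]
    | smul c q _ h1 =>
      obtain ⟨hq1, e1⟩ := h1
      have hcq : c • q ∈ I := by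
        rw [smul_eq_C_mul]; exact I.mul_mem_left _ hq1
      refine ⟨hcq, ?_⟩
      have : (⟨c • q, hcq⟩ : I) = (C c : MvPolynomial σ k) • ⟨q, hq1⟩ := by
        apply Subtype.ext
        change c • q = C c * q
        rw [smul_eq_C_mul]
      rw [this, map_smul, e1, smul_zero]
  obtain ⟨hq, e⟩ := key p.1 hp
  exact e

end Groth.Agent.Helper7.HTb
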