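import Mathlib
import Groth.Prelude.Def_W4c1hilbpnTgt
import Groth.Agent.Helper7.HTb

/-! Construction of an element of `tPiece I α` from an admissible function on the region. -/

set_option autoImplicit false

namespace Groth.Agent.Helper7.HTc

open MvPolynomial W4c1hilbpn Groth.Agent.Helper7.HTa Groth.Agent.Helper7.HTb

variable {σ : Type*} {k : Type*} [Field k] [Fintype σ]

variable (I : Ideal (MvPolynomial σ k)) (α : σ → ℤ)

/-- admissible functions on the region: zero at points with a negative entry, and
constant along unit steps. -/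
structure IsAdm [DecidableEq σ] (f : region I α → k) : Prop where
  neg : ∀ v : region I α, ¬ nn v.1 → f v = 0
  step : ∀ (v w : region I α) (i : σ), (w.1 = fun j => v.1 j + if j = i then 1 else 0) → f v = f w

open Classical in
/-- extension by zero -/
noncomputable def ext0 (f : region I α → k) (γ : σ → ℤ) : k :=
  if h : γ ∈ region I α then f ⟨γ, h⟩ else 0

theorem ext0_of_mem (f : region I α → k) {γ : σ → ℤ} (h : γ ∈ region I α) :
    ext0 I α f γ = f ⟨γ, h⟩ := by
  rw [ext0, dif_pos h]

open Classical in
/-- the value on a monomial -/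
noncomputable def tval (f : region I α → k) (β : σ →₀ ℕ) : MvPolynomial σ k ⧸ I :=
  if nn (tr α β) then Ideal.Quotient.mk I (monomial (toN (tr α β)) (ext0 I α f (tr α β))) else 0

/-- the `k`-linear map `S → S/I` attached to `f` -/
noncomputable def Lmap (f : region I α → k) : MvPolynomial σ k →ₗ[k] MvPolynomial σ k ⧸ I :=
  (basisMonomials σ k).constr k (tval I α f)

theorem Lmap_monomial (f : region I α → k) (β : σ →₀ ℕ) :
    Lmap I α f (monomial β 1) = tval I α f β := by
  have : monomial β (1 : k) = basisMonomials σ k β := by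
    rw [coe_basisMonomials]
  rw [this, Lmap, Module.Basis.constr_basis]

variable {I α}

omit [Fintype σ] in
theorem tr_add_single [DecidableEq σ] (β : σ →₀ ℕ) (i : σ) :
    tr α (β + Finsupp.single i 1) = fun j => tr α β j + if j = i then 1 else 0 := by
  funext j
  by_cases hj : j = i
  · subst hj
    simp [tr]
    ring
  · simp [tr, hj]

theorem tval_step [DecidableEq σ] {f : region I α → k} (hf : IsAdm I α f) {β : σ →₀ ℕ}
    (hβ : β ∈ exps I) (i : σ) :
    tval I α f (β + Finsupp.single i 1) = (X i : MvPolynomial σ k) • tval I α f β := by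
  have hβ' : β + Finsupp.single i 1 ∈ exps I := exps_add hβ _
  have htr := tr_add_single (α := α) β i
  by_cases hn : nn (tr α β)
  · have hn' : nn (tr α (β + Finsupp.single i 1)) := by
      intro j
      rw [htr]
      have := hn j
      beta_reduce
      split_ifs <;> omega
    have hN : toN (tr α (β + Finsupp.single i 1)) = toN (tr α β) + Finsupp.single i 1 := by
      rw [htr]; exact toN_add_single hn i
    rw [tval, tval, if_pos hn, if_pos hn', X_smul_mk_monomial, ← hN]
    by_cases hE : toN (tr α (β + Finsupp.single i 1)) ∈ exps I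
    · rw [mk_monomial_eq_zero hE, mk_monomial_eq_zero hE]
    · have hE0 : toN (tr α β) ∉ exps I := by
        intro h
        apply hE
        rw [hN]
        exact exps_add h _
      have hr' : tr α (β + Finsupp.single i 1) ∈ region I α :=
        ⟨⟨_, hβ', rfl⟩, fun h => hE h.2⟩
      have hr : tr α β ∈ region I α := ⟨⟨_, hβ, rfl⟩, fun h => hE0 h.2⟩
      rw [ext0_of_mem I α f hr, ext0_of_mem I α f hr']
      rw [hf.step ⟨_, hr⟩ ⟨_, hr'⟩ i htr]
  · rw [tval, tval, if_neg hn, smul_zero]
    split_ifs with hn'
    · by_cases hE : toN (tr α (β + Finsupp.single i 1)) ∈ exps I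
      · rw [mk_monomial_eq_zero hE]
      · have hr' : tr α (β + Finsupp.single i 1) ∈ region I α :=
          ⟨⟨_, hβ', rfl⟩, fun h => hE h.2⟩
        have hr : tr α β ∈ region I α := ⟨⟨_, hβ, rfl⟩, fun h => hn h.1⟩
        rw [ext0_of_mem I α f hr', ← hf.step ⟨_, hr⟩ ⟨_, hr'⟩ i htr, hf.neg ⟨_, hr⟩ hn,
          monomial_zero, map_zero]
    · rfl

theorem Lmap_X_mul [DecidableEq σ] (hI : IsMonomial I) {f : region I α → k} (hf : IsAdm I α f)
    (i : σ) {p : MvPolynomial σ k} (hp : p ∈ I) :
    Lmap I α f (X i * p) = (X i : MvPolynomial σ k) • Lmap I α f p := by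
  have key : ∀ q, q ∈ Submodule.span k {q : MvPolynomial σ k | ∃ β ∈ exps I, q = monomial β 1} →
      Lmap I α f (X i * q) = (X i : MvPolynomial σ k) • Lmap I α f q := by
    intro q hq
    induction hq using Submodule.span_induction with
    | mem q hq =>
      obtain ⟨β, hβ, rfl⟩ := hq
      have : (X i : MvPolynomial σ k) * monomial β 1 = monomial (β + Finsupp.single i 1) 1 := by
        rw [X, monomial_mul, one_mul, add_comm]
      rw [this, Lmap_monomial, Lmap_monomial, tval_step hf hβ]
    | zero => simp
    | add q1 q2 _ _ h1 h2 => rw [mul_add, map_add, h1, h2, map_add, smul_add]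
    | smul c q _ h1 =>
      rw [mul_smul_comm, map_smul, h1, map_smul, smul_comm]
  exact key p (mem_span_of_mem hI hp)

theorem Lmap_mul [DecidableEq σ] (hI : IsMonomial I) {f : region I α → k} (hf : IsAdm I α f)
    (q : MvPolynomial σ k) : ∀ p ∈ I, Lmap I α f (q * p) = q • Lmap I α f p := by
  induction q using MvPolynomial.induction_on with
  | C a =>
    intro p _
    rw [← smul_eq_C_mul, map_smul, ← algebraMap_eq, algebraMap_smul]
  | add q1 q2 h1 h2 =>
    intro p hp
    rw [add_mul, map_add, h1 p hp, h2 p hp, add_smul]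
  | mul_X q i h =>
    intro p hp
    rw [mul_assoc, h _ (I.mul_mem_left _ hp), Lmap_X_mul hI hf i hp, mul_smul]

/-- the element of `T(I)` attached to an admissible function -/
noncomputable def phiOf [DecidableEq σ] (hI : IsMonomial I) {f : region I α → k}
    (hf : IsAdm I α f) : Tgt I where
  toFun p := Lmap I α f p.1
  map_add' p q := by simp
  map_smul' q p := by
    simp only [RingHom.id_apply]
    exact Lmap_mul hI hf q p.1 p.2

theorem phiOf_mon [DecidableEq σ] (hI : IsMonomial I) {f : region I α → k}
    (hf : IsAdm I α f) {β : σ →₀ ℕ} (hβ : β ∈ exps I) :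
    phiOf hI hf (mon I hβ) = tval I α f β := Lmap_monomial I α f β

theorem phiOf_mem [DecidableEq σ] (hI : IsMonomial I) {f : region I α → k}
    (hf : IsAdm I α f) : phiOf hI hf ∈ tPiece I α := by
  intro β hβ
  have h1 : phiOf hI hf ⟨monomial β 1, hβ⟩ = tval I α f β := phiOf_mon hI hf hβ
  refine ⟨fun h => ?_, fun h => ?_⟩
  · have hn : nn (tr α β) := h
    rw [h1, tval, if_pos hn, ← smul_mk_monomial I _ (ext0 I α f (tr α β)), shift_eq]
    apply Submodule.smul_mem
    apply Submodule.subset_span
    exact Set.mem_singleton _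
  · have hn : ¬ nn (tr α β) := by
      obtain ⟨i, hi⟩ := h
      intro hn
      exact absurd (hn i) (not_le.mpr hi)
    rw [h1, tval, if_neg hn]

theorem co_phiOf [DecidableEq σ] (hI : IsMonomial I) {f : region I α → k}
    (hf : IsAdm I α f) (v : region I α) : co I α (phiOf hI hf) v = f v := by
  have htr := tr_bOf I α v.2
  rw [co, phiOf_mon, tval]
  by_cases hn : nn v.1
  · have hn' : nn (tr α (bOf α v.1)) := by rw [htr]; exact hn
    rw [if_pos hn']
    have hE : toN (tr α (bOf α v.1)) ∉ exps I := by
      rw [htr]; exact notMem_of_region_nn v.2 hn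
    have e1 : toN v.1 = toN (tr α (bOf α v.1)) := by rw [htr]
    rw [e1, cf_mk_monomial hI hE]
    have hr : tr α (bOf α v.1) ∈ region I α := by rw [htr]; exact v.2
    rw [ext0_of_mem I α f hr]
    congr 1
    exact Subtype.ext htr
  · have hn' : ¬ nn (tr α (bOf α v.1)) := by rw [htr]; exact hn
    rw [if_neg hn', map_zero, hf.neg v hn]

end Groth.Agent.Helper7.HTc
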