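import Mathlib
import Groth.Prelude.Def_W4c1hilbpnTgt
import Groth.Agent.Helper7.HTc

/-! The graded piece `tPiece I α` is the space of functions on the bounded components. -/

set_option autoImplicit false

namespace Groth.Agent.Helper7.HTd

open MvPolynomial W4c1hilbpn Groth.Agent.Helper7.HTa Groth.Agent.Helper7.HTb
  Groth.Agent.Helper7.HTc

variable {σ : Type*} {k : Type*} [Field k] [Fintype σ] [DecidableEq σ]

/-- one unit step in direction `i` -/
def stp (a : σ → ℤ) (i : σ) : σ → ℤ := fun j => a j + if j = i then 1 else 0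

omit [Fintype σ] in
theorem stp_ne (a : σ → ℤ) (i : σ) : a ≠ stp a i := by
  intro h
  have := congrFun h i
  simp [stp] at this

theorem adj_stp (a : σ → ℤ) (i : σ) : (stepGraph σ).Adj a (stp a i) := by
  rw [stepGraph, SimpleGraph.fromRel_adj]
  refine ⟨stp_ne a i, Or.inl ?_⟩
  have : ∀ j, |a j - stp a i j| = if j = i then 1 else 0 := by
    intro j
    by_cases hj : j = i <;> simp [stp, hj]
  simp only [this]
  simp

theorem exists_of_adj {a b : σ → ℤ} (h : (stepGraph σ).Adj a b) :
    ∃ i, b = stp a i ∨ a = stp b i := by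
  rw [stepGraph, SimpleGraph.fromRel_adj] at h
  obtain ⟨hne, hsum⟩ := h
  have hsum' : ∑ j, |a j - b j| = 1 := by
    rcases hsum with h | h
    · exact h
    · rw [← h]
      exact Finset.sum_congr rfl fun j _ => abs_sub_comm _ _
  obtain ⟨i, hi⟩ : ∃ i, a i ≠ b i := by
    by_contra hcon
    push Not at hcon
    exact hne (funext hcon)
  have hi1 : 1 ≤ |a i - b i| := by
    have : a i - b i ≠ 0 := sub_ne_zero.mpr hi
    exact Int.one_le_abs this
  have hsplit := Finset.add_sum_erase Finset.univ (fun j => |a j - b j|) (Finset.mem_univ i)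
  have hrest_nonneg : 0 ≤ ∑ j ∈ Finset.univ.erase i, |a j - b j| :=
    Finset.sum_nonneg fun j _ => abs_nonneg _
  have hi2 : |a i - b i| = 1 := by
    beta_reduce at hsplit
    omega
  have hrest : ∑ j ∈ Finset.univ.erase i, |a j - b j| = 0 := by
    beta_reduce at hsplit
    omega
  have hother : ∀ j, j ≠ i → a j = b j := by
    intro j hj
    have := (Finset.sum_eq_zero_iff_of_nonneg (fun j _ => abs_nonneg (a j - b j))).mp hrest j
      (Finset.mem_erase.mpr ⟨hj, Finset.mem_univ j⟩)
    exact sub_eq_zero.mp (abs_eq_zero.mp this)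
  refine ⟨i, ?_⟩
  rcases (abs_eq (zero_le_one' ℤ)).mp hi2 with h | h
  · right
    funext j
    by_cases hj : j = i
    · subst hj; simp only [stp, if_true]; omega
    · simp only [stp, if_neg hj, add_zero]; exact hother j hj
  · left
    funext j
    by_cases hj : j = i
    · subst hj; simp only [stp, if_true]; omega
    · simp only [stp, if_neg hj, add_zero]; exact (hother j hj).symm

variable (I : Ideal (MvPolynomial σ k)) (α : σ → ℤ)

/-- the induced graph on the region -/
abbrev G : SimpleGraph (region I α) := (stepGraph σ).induce (region I α)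

variable {I α}

theorem eq_of_reachable {f : region I α → k} (hf : IsAdm I α f) {v w : region I α}
    (h : (G I α).Reachable v w) : f v = f w := by
  obtain ⟨p⟩ := h
  induction p with
  | nil => rfl
  | cons hadj _ ih =>
    rw [← ih]
    obtain ⟨i, hi | hi⟩ := exists_of_adj (SimpleGraph.induce_adj.mp hadj)
    · exact hf.step _ _ i hi
    · exact (hf.step _ _ i hi).symm

theorem isAdm_co (hI : IsMonomial I) {φ : Tgt I} (hφ : φ ∈ tPiece I α) :
    IsAdm I α (co I α φ) where
  neg v hv := co_eq_zero_of_not_nn hφ v hv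
  step v w i hw := co_step hI hφ v w i hw

theorem stp_mem_region {γ : σ → ℤ} (h : γ ∈ region I α) {i j : σ} (hij : i ≠ j) (hj : γ j < 0) :
    stp γ i ∈ region I α := by
  obtain ⟨⟨β, hβ, rfl⟩, -⟩ := h
  refine ⟨⟨β + Finsupp.single i 1, exps_add hβ _, ?_⟩, ?_⟩
  · exact (tr_add_single (α := α) β i).symm
  · intro hcon
    have hj' : (β j : ℤ) + α j < 0 := hj
    have := hcon.1 j
    simp only [stp, if_neg (Ne.symm hij), add_zero] at this
    omega

/-- repeated steps -/
def up (γ : σ → ℤ) (i : σ) (m : ℕ) : σ → ℤ := fun l => γ l + if l = i then (m : ℤ) else 0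

omit [Fintype σ] in
theorem up_zero (γ : σ → ℤ) (i : σ) : up γ i 0 = γ := by
  funext l; simp [up]

omit [Fintype σ] in
theorem up_succ (γ : σ → ℤ) (i : σ) (m : ℕ) : up γ i (m + 1) = stp (up γ i m) i := by
  funext l
  by_cases hl : l = i
  · subst hl; simp [up, stp]; ring
  · simp [up, stp, hl]

theorem up_mem_region {γ : σ → ℤ} (h : γ ∈ region I α) {i j : σ} (hij : i ≠ j) (hj : γ j < 0)
    (m : ℕ) : up γ i m ∈ region I α := by
  induction m with
  | zero => rw [up_zero]; exact h
  | succ m ih =>
    rw [up_succ]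
    refine stp_mem_region ih hij ?_
    simp only [up, if_neg (Ne.symm hij), add_zero]
    exact hj

theorem reachable_up {γ : σ → ℤ} (h : γ ∈ region I α) {i j : σ} (hij : i ≠ j) (hj : γ j < 0)
    (m : ℕ) : (G I α).Reachable ⟨γ, h⟩ ⟨up γ i m, up_mem_region h hij hj m⟩ := by
  induction m with
  | zero =>
    have : (⟨up γ i 0, up_mem_region h hij hj 0⟩ : region I α) = ⟨γ, h⟩ :=
      Subtype.ext (up_zero γ i)
    rw [this]
  | succ m ih =>
    refine ih.trans (SimpleGraph.Adj.reachable ?_)
    rw [SimpleGraph.induce_adj]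
    change (stepGraph σ).Adj (up γ i m) (up γ i (m + 1))
    rw [up_succ]
    exact adj_stp _ i

theorem infinite_supp_of_neg (hσ : ∀ j : σ, ∃ i, i ≠ j) (c : (G I α).ConnectedComponent)
    {v : region I α} (hv : v ∈ c.supp) (hn : ¬ nn v.1) : c.supp.Infinite := by
  unfold nn at hn
  push Not at hn
  obtain ⟨j, hj⟩ := hn
  obtain ⟨i, hij⟩ := hσ j
  refine Set.infinite_of_injective_forall_mem
    (f := fun m : ℕ => (⟨up v.1 i m, up_mem_region v.2 hij hj m⟩ : region I α)) ?_ ?_
  · intro m m' h
    have := congrFun (congrArg Subtype.val h) i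
    simp only [up, if_true] at this
    omega
  · intro m
    rw [SimpleGraph.ConnectedComponent.mem_supp_iff] at hv ⊢
    rw [← hv]
    exact (SimpleGraph.ConnectedComponent.sound (reachable_up v.2 hij hj m)).symm

omit [DecidableEq σ] in
theorem finite_nn (hI : IsMonomial I) [Module.Finite k (MvPolynomial σ k ⧸ I)] :
    {w : region I α | nn w.1}.Finite := by
  have hfin := Groth.Agent.Helper6.MonoIdeal.finite_compl_exps I hI
  refine Set.Finite.of_finite_image (f := fun w : region I α => toN w.1) (hfin.subset ?_) ?_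
  · rintro _ ⟨w, hw, rfl⟩
    exact notMem_of_region_nn w.2 hw
  · intro w hw w' hw' h
    apply Subtype.ext
    rw [← toInt_toN hw, ← toInt_toN hw']
    exact congrArg toInt h

theorem supp_finite_iff (hI : IsMonomial I) [Module.Finite k (MvPolynomial σ k ⧸ I)]
    (hσ : ∀ j : σ, ∃ i, i ≠ j) (c : (G I α).ConnectedComponent) :
    c.supp.Finite ↔ ∀ v ∈ c.supp, nn v.1 := by
  constructor
  · intro hfin v hv
    by_contra hn
    exact infinite_supp_of_neg hσ c hv hn hfin
  · intro h
    exact (finite_nn hI).subset fun v hv => h v hv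

/-- the type of bounded components -/
abbrev Bdd (I : Ideal (MvPolynomial σ k)) (α : σ → ℤ) : Type _ :=
  {c : (G I α).ConnectedComponent // c.supp.Finite}

/-- a representative of a component -/
noncomputable def rep (c : (G I α).ConnectedComponent) : region I α := c.nonempty_supp.some

omit [DecidableEq σ] in
theorem mk_rep (c : (G I α).ConnectedComponent) : (G I α).connectedComponentMk (rep c) = c :=
  c.nonempty_supp.some_mem

theorem finite_Bdd (hI : IsMonomial I) [Module.Finite k (MvPolynomial σ k ⧸ I)]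
    (hσ : ∀ j : σ, ∃ i, i ≠ j) : Finite (Bdd I α) := by
  have : Finite {w : region I α | nn w.1} := (finite_nn hI).to_subtype
  refine Finite.of_injective
    (fun c : Bdd I α => (⟨rep c.1, (supp_finite_iff hI hσ c.1).mp c.2 _ (mk_rep c.1)⟩ :
      {w : region I α | nn w.1})) ?_
  intro c c' h
  apply Subtype.ext
  have h1 : rep c.1 = rep c'.1 := congrArg Subtype.val h
  rw [← mk_rep c.1, ← mk_rep c'.1, h1]

/-- the comparison map -/
noncomputable def Psi (I : Ideal (MvPolynomial σ k)) (α : σ → ℤ) :
    tPiece I α →ₗ[k] (Bdd I α → k) where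
  toFun φ c := co I α φ.1 (rep c.1)
  map_add' φ ψ := by
    funext c
    change coL I α (φ.1 + ψ.1) (rep c.1) = coL I α φ.1 (rep c.1) + coL I α ψ.1 (rep c.1)
    rw [map_add]; rfl
  map_smul' a φ := by
    funext c
    change coL I α (a • φ.1) (rep c.1) = a • coL I α φ.1 (rep c.1)
    rw [map_smul]; rfl

omit [DecidableEq σ] in
theorem eq_of_co_eq (hI : IsMonomial I) {φ ψ : Tgt I} (hφ : φ ∈ tPiece I α) (hψ : ψ ∈ tPiece I α)
    (h : ∀ v, co I α φ v = co I α ψ v) : φ = ψ := by
  have hsub : φ - ψ ∈ tPiece I α := Submodule.sub_mem _ hφ hψ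
  have h0 : ∀ v, co I α (φ - ψ) v = 0 := by
    intro v
    have h1 : coL I α (φ - ψ) = coL I α φ - coL I α ψ := map_sub (coL I α) φ ψ
    have h2 := congrFun h1 v
    rw [Pi.sub_apply, coL_apply, coL_apply, coL_apply, h v, sub_self] at h2
    exact h2
  exact sub_eq_zero.mp (eq_zero_of_co_eq_zero hI hsub h0)

theorem Psi_injective (hI : IsMonomial I) [Module.Finite k (MvPolynomial σ k ⧸ I)]
    (hσ : ∀ j : σ, ∃ i, i ≠ j) : Function.Injective (Psi I α) := by
  intro φ ψ h0
  apply Subtype.ext
  have hadm := isAdm_co hI φ.2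
  have hadm' := isAdm_co hI ψ.2
  refine eq_of_co_eq hI φ.2 ψ.2 fun v => ?_
  set c := (G I α).connectedComponentMk v with hc
  have hreach : ∀ w : region I α, (G I α).connectedComponentMk w = c → (G I α).Reachable v w := by
    intro w hw
    apply SimpleGraph.ConnectedComponent.exact
    rw [hw]
  by_cases hfin : c.supp.Finite
  · have h1 : co I α φ.1 (rep c) = co I α ψ.1 (rep c) := congrFun h0 ⟨c, hfin⟩
    rw [eq_of_reachable hadm (hreach _ (mk_rep c)), eq_of_reachable hadm' (hreach _ (mk_rep c)), h1]
  · rw [supp_finite_iff hI hσ] at hfin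
    push Not at hfin
    obtain ⟨w, hw, hwn⟩ := hfin
    rw [eq_of_reachable hadm (hreach w hw), eq_of_reachable hadm' (hreach w hw),
      hadm.neg w hwn, hadm'.neg w hwn]

open Classical in
/-- the function on the region attached to a function on bounded components -/
noncomputable def fOf (g : Bdd I α → k) (v : region I α) : k :=
  if h : ((G I α).connectedComponentMk v).supp.Finite then g ⟨_, h⟩ else 0

omit [DecidableEq σ] in
theorem fOf_congr (g : Bdd I α → k) {v w : region I α}
    (h : (G I α).connectedComponentMk v = (G I α).connectedComponentMk w) :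
    fOf g v = fOf g w := by
  unfold fOf
  by_cases hfin : ((G I α).connectedComponentMk v).supp.Finite
  · have hfin' : ((G I α).connectedComponentMk w).supp.Finite := h ▸ hfin
    rw [dif_pos hfin, dif_pos hfin']
    congr 1
    exact Subtype.ext h
  · have hfin' : ¬ ((G I α).connectedComponentMk w).supp.Finite := h ▸ hfin
    rw [dif_neg hfin, dif_neg hfin']

theorem isAdm_fOf (hσ : ∀ j : σ, ∃ i, i ≠ j) (g : Bdd I α → k) : IsAdm I α (fOf g) where
  neg v hv := by
    unfold fOf
    rw [dif_neg]
    exact infinite_supp_of_neg hσ _ (SimpleGraph.ConnectedComponent.connectedComponentMk_mem) hv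
  step v w i hw := by
    apply fOf_congr
    apply SimpleGraph.ConnectedComponent.connectedComponentMk_eq_of_adj
    rw [SimpleGraph.induce_adj, hw]
    exact adj_stp _ i

theorem Psi_surjective (hI : IsMonomial I) (hσ : ∀ j : σ, ∃ i, i ≠ j) :
    Function.Surjective (Psi I α) := by
  intro g
  have hf := isAdm_fOf hσ g
  refine ⟨⟨phiOf hI hf, phiOf_mem hI hf⟩, ?_⟩
  funext c
  change co I α (phiOf hI hf) (rep c.1) = g c
  rw [co_phiOf, fOf]
  have h1 := mk_rep c.1
  have hfin : ((G I α).connectedComponentMk (rep c.1)).supp.Finite := by rw [h1]; exact c.2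
  rw [dif_pos hfin]
  congr 1
  exact Subtype.ext h1

theorem finrank_tPiece (hI : IsMonomial I) [Module.Finite k (MvPolynomial σ k ⧸ I)]
    (hσ : ∀ j : σ, ∃ i, i ≠ j) : Module.finrank k ↥(tPiece I α) = nBddComp I α := by
  have := finite_Bdd (α := α) hI hσ
  letI : Fintype (Bdd I α) := Fintype.ofFinite _
  have e : tPiece I α ≃ₗ[k] (Bdd I α → k) :=
    LinearEquiv.ofBijective (Psi I α) ⟨Psi_injective hI hσ, Psi_surjective hI hσ⟩
  rw [e.finrank_eq, Module.finrank_fintype_fun_eq_card, nBddComp, Nat.card_eq_fintype_card]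

end Groth.Agent.Helper7.HTd
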