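import Mathlib
import Groth.Prelude.Def_GrSyz

/-!
# Graded `Tor` against a fixed graded free complex, in "vanishing" form

For a graded free complex `K` (ranks, degrees, homogeneous matrices) and a module `N` with a family
of "pieces" `𝒩 : ℤ → τ`, the strand of degree `j` of `K ⊗ N` in homological degree `q` consists of
the vectors `v : Fin (K.rk q) → N` with `v c ∈ 𝒩 (j - K.deg q c)`.  `Tvan K 𝒩 q j` says that the
homology of the strand of degree `j` vanishes in homological degree `q`.  We prove the consequences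
of the long exact sequence that only involve vanishing.
-/

set_option autoImplicit false
set_option linter.unusedSectionVars false
set_option linter.style.haveILetI false

namespace Groth.Agent.Helper7.GrTorV

universe u

section Act

variable {R : Type*} [CommRing R] {N N' : Type*} [AddCommGroup N] [Module R N]
  [AddCommGroup N'] [Module R N']

/-- a matrix acting on a vector of module elements. -/
def act {m m' : ℕ} (D : Matrix (Fin m) (Fin m') R) (w : Fin m' → N) : Fin m → N :=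
  fun i => ∑ j, D i j • w j

variable {m m' m'' : ℕ}

theorem act_apply (D : Matrix (Fin m) (Fin m') R) (w : Fin m' → N) (i : Fin m) :
    act D w i = ∑ j, D i j • w j := rfl

theorem act_add (D : Matrix (Fin m) (Fin m') R) (w w' : Fin m' → N) :
    act D (w + w') = act D w + act D w' := by
  funext i
  simp [act_apply, smul_add, Finset.sum_add_distrib]

theorem act_sub (D : Matrix (Fin m) (Fin m') R) (w w' : Fin m' → N) :
    act D (w - w') = act D w - act D w' := by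
  funext i
  simp [act_apply, smul_sub, Finset.sum_sub_distrib]

theorem act_zero (D : Matrix (Fin m) (Fin m') R) : act D (0 : Fin m' → N) = 0 := by
  funext i
  simp [act_apply]

theorem act_neg (D : Matrix (Fin m) (Fin m') R) (w : Fin m' → N) :
    act D (-w) = - act D w := by
  funext i
  simp [act_apply]

theorem act_mul (A : Matrix (Fin m) (Fin m') R) (B : Matrix (Fin m') (Fin m'') R)
    (w : Fin m'' → N) : act (A * B) w = act A (act B w) := by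
  funext i
  simp only [act_apply, Matrix.mul_apply, Finset.sum_smul, Finset.smul_sum, mul_smul]
  exact Finset.sum_comm

theorem act_map (f : N →ₗ[R] N') (D : Matrix (Fin m) (Fin m') R) (w : Fin m' → N) :
    act D (f ∘ w) = f ∘ act D w := by
  funext i
  simp [act_apply, map_sum]

theorem act_eq_mulVec (D : Matrix (Fin m) (Fin m') R) (w : Fin m' → R) :
    act D w = D.mulVec w := by
  funext i
  simp [act_apply, Matrix.mulVec, dotProduct]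

theorem act_zero_matrix (w : Fin m' → N) : act (0 : Matrix (Fin m) (Fin m') R) w = 0 := by
  funext i
  simp [act_apply]

end Act

section Graded

variable {R : Type*} [CommRing R] {σ' : Type*} [SetLike σ' R]

/-- a graded complex of finite free modules with chosen homogeneous bases. -/
structure Cx (𝒜 : ℤ → σ') where
  rk : ℕ → ℕ
  deg : (q : ℕ) → Fin (rk q) → ℤ
  d : (q : ℕ) → Matrix (Fin (rk q)) (Fin (rk (q + 1))) R
  d_mem : ∀ (q : ℕ) (a : Fin (rk q)) (b : Fin (rk (q + 1))), d q a b ∈ 𝒜 (deg (q + 1) b - deg q a)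
  d_comp : ∀ q : ℕ, d q * d (q + 1) = 0

variable {𝒜 : ℤ → σ'}

variable {N : Type*} [AddCommGroup N] [Module R N] {τ : Type*} [SetLike τ N]

/-- `𝒜_a 𝒩_b ⊆ 𝒩_{a+b}`. -/
def GSMul (𝒜 : ℤ → σ') (𝒩 : ℤ → τ) : Prop :=
  ∀ (a b : ℤ) (r : R) (x : N), r ∈ 𝒜 a → x ∈ 𝒩 b → r • x ∈ 𝒩 (a + b)

/-- membership in the strand of degree `j`. -/
def InStr (𝒩 : ℤ → τ) {m : ℕ} (a : Fin m → ℤ) (j : ℤ) (v : Fin m → N) : Prop :=
  ∀ c, v c ∈ 𝒩 (j - a c)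

/-- cycles. -/
def IsCyc (K : Cx 𝒜) : (q : ℕ) → (Fin (K.rk q) → N) → Prop
  | 0, _ => True
  | q + 1, v => act (K.d q) v = 0

/-- vanishing of the homology of the strand of degree `j` of `K ⊗ N` in homological degree `q`. -/
def Tvan (K : Cx 𝒜) (𝒩 : ℤ → τ) (q : ℕ) (j : ℤ) : Prop :=
  ∀ v : Fin (K.rk q) → N, InStr 𝒩 (K.deg q) j v → IsCyc K q v →
    ∃ w : Fin (K.rk (q + 1)) → N, InStr 𝒩 (K.deg (q + 1)) j w ∧ act (K.d q) w = v

variable [AddSubgroupClass τ N]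

theorem InStr.add {𝒩 : ℤ → τ} {m : ℕ} {a : Fin m → ℤ} {j : ℤ} {v w : Fin m → N}
    (hv : InStr 𝒩 a j v) (hw : InStr 𝒩 a j w) : InStr 𝒩 a j (v + w) :=
  fun c => add_mem (hv c) (hw c)

theorem InStr.sub {𝒩 : ℤ → τ} {m : ℕ} {a : Fin m → ℤ} {j : ℤ} {v w : Fin m → N}
    (hv : InStr 𝒩 a j v) (hw : InStr 𝒩 a j w) : InStr 𝒩 a j (v - w) :=
  fun c => sub_mem (hv c) (hw c)

theorem InStr.neg {𝒩 : ℤ → τ} {m : ℕ} {a : Fin m → ℤ} {j : ℤ} {v : Fin m → N}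
    (hv : InStr 𝒩 a j v) : InStr 𝒩 a j (-v) :=
  fun c => neg_mem (hv c)

theorem InStr.zero {𝒩 : ℤ → τ} {m : ℕ} {a : Fin m → ℤ} {j : ℤ} : InStr 𝒩 a j (0 : Fin m → N) :=
  fun _ => zero_mem _

theorem InStr.act {𝒩 : ℤ → τ} (hN : GSMul 𝒜 𝒩) {m m' : ℕ} {a : Fin m → ℤ} {a' : Fin m' → ℤ}
    {D : Matrix (Fin m) (Fin m') R} (hD : ∀ i c, D i c ∈ 𝒜 (a' c - a i)) {j : ℤ}
    {w : Fin m' → N} (hw : InStr 𝒩 a' j w) : InStr 𝒩 a j (act D w) := by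
  intro i
  rw [act_apply]
  refine sum_mem fun c _ => ?_
  have h := hN _ _ _ _ (hD i c) (hw c)
  have e : a' c - a i + (j - a' c) = j - a i := by ring
  rw [e] at h
  exact h

theorem isCyc_act (K : Cx 𝒜) (q : ℕ) (w : Fin (K.rk (q + 1)) → N) :
    IsCyc K q (act (K.d q) w) := by
  cases q with
  | zero => trivial
  | succ q =>
    show act (K.d q) (act (K.d (q + 1)) w) = 0
    rw [← act_mul, K.d_comp, act_zero_matrix]

end Graded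

section SES

variable {R : Type*} [CommRing R] {σ' : Type*} [SetLike σ' R] {𝒜 : ℤ → σ'}
  {N₁ N₂ N₃ : Type*} [AddCommGroup N₁] [Module R N₁] [AddCommGroup N₂] [Module R N₂]
  [AddCommGroup N₃] [Module R N₃]
  {τ₁ τ₂ τ₃ : Type*} [SetLike τ₁ N₁] [SetLike τ₂ N₂] [SetLike τ₃ N₃]
  [AddSubgroupClass τ₁ N₁] [AddSubgroupClass τ₂ N₂] [AddSubgroupClass τ₃ N₃]

/-- a short exact sequence of graded modules (exact in every degree). -/
structure GrSES (𝒩₁ : ℤ → τ₁) (𝒩₂ : ℤ → τ₂) (𝒩₃ : ℤ → τ₃) (f : N₁ →ₗ[R] N₂) (g : N₂ →ₗ[R] N₃) :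
    Prop where
  f_inj : Function.Injective f
  f_mem : ∀ (d : ℤ) (x : N₁), x ∈ 𝒩₁ d → f x ∈ 𝒩₂ d
  f_strict : ∀ (d : ℤ) (x : N₁), f x ∈ 𝒩₂ d → x ∈ 𝒩₁ d
  g_mem : ∀ (d : ℤ) (y : N₂), y ∈ 𝒩₂ d → g y ∈ 𝒩₃ d
  g_surj : ∀ (d : ℤ) (z : N₃), z ∈ 𝒩₃ d → ∃ y, y ∈ 𝒩₂ d ∧ g y = z
  comp_zero : ∀ x, g (f x) = 0
  exact : ∀ y, g y = 0 → ∃ x, f x = y

variable {𝒩₁ : ℤ → τ₁} {𝒩₂ : ℤ → τ₂} {𝒩₃ : ℤ → τ₃} {f : N₁ →ₗ[R] N₂} {g : N₂ →ₗ[R] N₃}

namespace GrSES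

variable (h : GrSES 𝒩₁ 𝒩₂ 𝒩₃ f g)
include h

theorem lift_g {m : ℕ} {a : Fin m → ℤ} {j : ℤ} {v : Fin m → N₃} (hv : InStr 𝒩₃ a j v) :
    ∃ w : Fin m → N₂, InStr 𝒩₂ a j w ∧ g ∘ w = v := by
  choose w hw hgw using fun c => h.g_surj _ _ (hv c)
  exact ⟨w, hw, funext hgw⟩

theorem lift_f {m : ℕ} {a : Fin m → ℤ} {j : ℤ} {v : Fin m → N₂} (hv : InStr 𝒩₂ a j v)
    (hg : g ∘ v = 0) : ∃ w : Fin m → N₁, InStr 𝒩₁ a j w ∧ f ∘ w = v := by
  choose w hw using fun c => h.exact (v c) (congrFun hg c)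
  refine ⟨w, fun c => h.f_strict _ _ ?_, funext hw⟩
  rw [hw c]
  exact hv c

theorem inStr_f {m : ℕ} {a : Fin m → ℤ} {j : ℤ} {v : Fin m → N₁} (hv : InStr 𝒩₁ a j v) :
    InStr 𝒩₂ a j (f ∘ v) := fun c => h.f_mem _ _ (hv c)

theorem inStr_g {m : ℕ} {a : Fin m → ℤ} {j : ℤ} {v : Fin m → N₂} (hv : InStr 𝒩₂ a j v) :
    InStr 𝒩₃ a j (g ∘ v) := fun c => h.g_mem _ _ (hv c)

theorem g_comp_f {m : ℕ} (v : Fin m → N₁) : g ∘ (f ∘ v) = 0 :=
  funext fun c => h.comp_zero (v c)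

theorem f_comp_inj {m : ℕ} {v w : Fin m → N₁} (hvw : f ∘ v = f ∘ w) : v = w :=
  funext fun c => h.f_inj (congrFun hvw c)

omit h in
theorem isCyc_map {N N' : Type*} [AddCommGroup N] [Module R N] [AddCommGroup N'] [Module R N']
    (φ : N →ₗ[R] N') (K : Cx 𝒜) (q : ℕ) {v : Fin (K.rk q) → N}
    (hv : IsCyc K q v) : IsCyc K q (φ ∘ v) := by
  cases q with
  | zero => trivial
  | succ q =>
    show act (K.d q) (φ ∘ v) = 0
    rw [act_map, show act (K.d q) v = 0 from hv]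
    funext c
    simp

theorem isCyc_of_f (K : Cx 𝒜) (q : ℕ) {v : Fin (K.rk q) → N₁}
    (hv : IsCyc K q (f ∘ v)) : IsCyc K q v := by
  cases q with
  | zero => trivial
  | succ q =>
    show act (K.d q) v = 0
    have h1 : act (K.d q) (f ∘ v) = 0 := hv
    rw [act_map] at h1
    apply h.f_comp_inj
    rw [h1]
    funext c
    simp

/-- `T_q(N₁) = 0` and `T_q(N₃) = 0` imply `T_q(N₂) = 0`. -/
theorem tvan₂ (K : Cx 𝒜) (hN₂ : GSMul 𝒜 𝒩₂) (q : ℕ) (j : ℤ)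
    (h1 : Tvan K 𝒩₁ q j) (h3 : Tvan K 𝒩₃ q j) : Tvan K 𝒩₂ q j := by
  intro v hv hcyc
  obtain ⟨w3, hw3, hdw3⟩ := h3 (g ∘ v) (h.inStr_g hv) (isCyc_map g K q hcyc)
  obtain ⟨w2, hw2, hgw2⟩ := h.lift_g hw3
  have hdw2 : InStr 𝒩₂ (K.deg q) j (act (K.d q) w2) := hw2.act hN₂ (K.d_mem q)
  have hker : g ∘ (v - act (K.d q) w2) = 0 := by
    have : g ∘ (v - act (K.d q) w2) = g ∘ v - g ∘ act (K.d q) w2 := by
      funext c; simp
    rw [this, ← act_map, hgw2, hdw3, sub_self]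
  obtain ⟨v1, hv1, hfv1⟩ := h.lift_f (hv.sub hdw2) hker
  have hcyc1 : IsCyc K q v1 := by
    apply h.isCyc_of_f K q
    rw [hfv1]
    cases q with
    | zero => trivial
    | succ q =>
      show act (K.d q) (v - act (K.d (q + 1)) w2) = 0
      rw [act_sub, show act (K.d q) v = 0 from hcyc, ← act_mul, K.d_comp, act_zero_matrix,
        sub_self]
  obtain ⟨w1, hw1, hdw1⟩ := h1 v1 hv1 hcyc1
  refine ⟨w2 + f ∘ w1, hw2.add (h.inStr_f hw1), ?_⟩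
  rw [act_add, act_map, hdw1, hfv1]
  abel

/-- `T_{q+1}(N₃) = 0` and `T_q(N₂) = 0` imply `T_q(N₁) = 0`. -/
theorem tvan₁ (K : Cx 𝒜) (hN₂ : GSMul 𝒜 𝒩₂) (q : ℕ) (j : ℤ)
    (h3 : Tvan K 𝒩₃ (q + 1) j) (h2 : Tvan K 𝒩₂ q j) : Tvan K 𝒩₁ q j := by
  intro v hv hcyc
  obtain ⟨w2, hw2, hdw2⟩ := h2 (f ∘ v) (h.inStr_f hv) (isCyc_map f K q hcyc)
  have hcyc3 : IsCyc K (q + 1) (g ∘ w2) := by
    show act (K.d q) (g ∘ w2) = 0
    rw [act_map, hdw2]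
    exact h.g_comp_f v
  obtain ⟨u3, hu3, hdu3⟩ := h3 (g ∘ w2) (h.inStr_g hw2) hcyc3
  obtain ⟨u2, hu2, hgu2⟩ := h.lift_g hu3
  have hdu2 : InStr 𝒩₂ (K.deg (q + 1)) j (act (K.d (q + 1)) u2) := hu2.act hN₂ (K.d_mem (q + 1))
  have hker : g ∘ (w2 - act (K.d (q + 1)) u2) = 0 := by
    have : g ∘ (w2 - act (K.d (q + 1)) u2) = g ∘ w2 - g ∘ act (K.d (q + 1)) u2 := by
      funext c; simp
    rw [this, ← act_map, hgu2, hdu3, sub_self]
  obtain ⟨w1, hw1, hfw1⟩ := h.lift_f (hw2.sub hdu2) hker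
  refine ⟨w1, hw1, ?_⟩
  apply h.f_comp_inj
  rw [← act_map, hfw1, act_sub, hdw2, ← act_mul, K.d_comp, act_zero_matrix, sub_zero]

/-- `T_{q+1}(N₂) = 0` and `T_q(N₁) = 0` imply `T_{q+1}(N₃) = 0`. -/
theorem tvan₃ (K : Cx 𝒜) (hN₂ : GSMul 𝒜 𝒩₂) (q : ℕ) (j : ℤ)
    (h2 : Tvan K 𝒩₂ (q + 1) j) (h1 : Tvan K 𝒩₁ q j) : Tvan K 𝒩₃ (q + 1) j := by
  intro v hv hcyc
  obtain ⟨v2, hv2, hgv2⟩ := h.lift_g hv
  have hdv2 : InStr 𝒩₂ (K.deg q) j (act (K.d q) v2) := hv2.act hN₂ (K.d_mem q)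
  have hker : g ∘ act (K.d q) v2 = 0 := by
    rw [← act_map, hgv2]
    exact hcyc
  obtain ⟨u1, hu1, hfu1⟩ := h.lift_f hdv2 hker
  have hcyc1 : IsCyc K q u1 := by
    apply h.isCyc_of_f K q
    rw [hfu1]
    exact isCyc_act K q v2
  obtain ⟨w1, hw1, hdw1⟩ := h1 u1 hu1 hcyc1
  have hcyc2 : IsCyc K (q + 1) (v2 - f ∘ w1) := by
    show act (K.d q) (v2 - f ∘ w1) = 0
    rw [act_sub, act_map, hdw1, hfu1, sub_self]
  obtain ⟨w2, hw2, hdw2⟩ := h2 (v2 - f ∘ w1) (hv2.sub (h.inStr_f hw1)) hcyc2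
  refine ⟨g ∘ w2, h.inStr_g hw2, ?_⟩
  rw [act_map, hdw2]
  funext c
  simp only [Function.comp_apply, Pi.sub_apply, map_sub, h.comp_zero, sub_zero]
  exact congrFun hgv2 c

/-- `T_0(N₂) = 0` implies `T_0(N₃) = 0`. -/
theorem tvan₃_zero (K : Cx 𝒜) (j : ℤ) (h2 : Tvan K 𝒩₂ 0 j) : Tvan K 𝒩₃ 0 j := by
  intro v hv _
  obtain ⟨v2, hv2, hgv2⟩ := h.lift_g hv
  obtain ⟨w2, hw2, hdw2⟩ := h2 v2 hv2 trivial
  refine ⟨g ∘ w2, h.inStr_g hw2, ?_⟩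
  rw [act_map, hdw2, hgv2]

/-- If `T_1(N₃) = 0` and `T_0(N₁) → T_0(N₂)` is zero then `T_0(N₁) = 0`. -/
theorem tvan₁_zero (K : Cx 𝒜) (hN₂ : GSMul 𝒜 𝒩₂) (j : ℤ)
    (h3 : Tvan K 𝒩₃ 1 j)
    (hzero : ∀ v : Fin (K.rk 0) → N₁, InStr 𝒩₁ (K.deg 0) j v →
      ∃ w : Fin (K.rk 1) → N₂, InStr 𝒩₂ (K.deg 1) j w ∧ act (K.d 0) w = f ∘ v) :
    Tvan K 𝒩₁ 0 j := by
  intro v hv _
  obtain ⟨w2, hw2, hdw2⟩ := hzero v hv
  have hcyc3 : IsCyc K 1 (g ∘ w2) := by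
    show act (K.d 0) (g ∘ w2) = 0
    rw [act_map, hdw2]
    exact h.g_comp_f v
  obtain ⟨u3, hu3, hdu3⟩ := h3 (g ∘ w2) (h.inStr_g hw2) hcyc3
  obtain ⟨u2, hu2, hgu2⟩ := h.lift_g hu3
  have hdu2 : InStr 𝒩₂ (K.deg 1) j (act (K.d 1) u2) := hu2.act hN₂ (K.d_mem 1)
  have hker : g ∘ (w2 - act (K.d 1) u2) = 0 := by
    have : g ∘ (w2 - act (K.d 1) u2) = g ∘ w2 - g ∘ act (K.d 1) u2 := by
      funext c; simp
    rw [this, ← act_map, hgu2, hdu3, sub_self]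
  obtain ⟨w1, hw1, hfw1⟩ := h.lift_f (hw2.sub hdu2) hker
  refine ⟨w1, hw1, ?_⟩
  apply h.f_comp_inj
  rw [← act_map, hfw1, act_sub, hdw2, ← act_mul, K.d_comp, act_zero_matrix, sub_zero]

end GrSES

end SES

section Transfer

variable {R : Type*} [CommRing R] {σ' : Type*} [SetLike σ' R] {𝒜 : ℤ → σ'}
  {N N' : Type*} [AddCommGroup N] [Module R N] [AddCommGroup N'] [Module R N']
  {τ τ' : Type*} [SetLike τ N] [SetLike τ' N']

/-- transfer along a graded isomorphism. -/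
theorem Tvan.of_equiv (K : Cx 𝒜) {𝒩 : ℤ → τ} {𝒩' : ℤ → τ'} (e : N ≃ₗ[R] N')
    (he : ∀ (d : ℤ) (x : N), x ∈ 𝒩 d ↔ e x ∈ 𝒩' d) {q : ℕ} {j : ℤ} (h : Tvan K 𝒩 q j) :
    Tvan K 𝒩' q j := by
  intro v hv hcyc
  have hv' : InStr 𝒩 (K.deg q) j (e.symm ∘ v) := by
    intro c
    rw [he]
    simpa using hv c
  obtain ⟨w, hw, hdw⟩ := h (e.symm ∘ v) hv' (GrSES.isCyc_map e.symm.toLinearMap K q hcyc)
  refine ⟨e ∘ w, fun c => (he _ _).1 (hw c), ?_⟩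
  have := act_map e.toLinearMap (K.d q) w
  rw [show (e.toLinearMap : N → N') ∘ w = e ∘ w from rfl] at this
  rw [this, hdw]
  funext c
  simp

/-- shifting the grading. -/
theorem tvan_shift (K : Cx 𝒜) (𝒩 : ℤ → τ) (s : ℤ) (q : ℕ) (j : ℤ) :
    Tvan K (fun d => 𝒩 (d - s)) q j ↔ Tvan K 𝒩 q (j - s) := by
  have key : ∀ {m : ℕ} (a : Fin m → ℤ) (v : Fin m → N),
      InStr (fun d => 𝒩 (d - s)) a j v ↔ InStr 𝒩 a (j - s) v := by
    intro m a v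
    refine forall_congr' fun c => ?_
    show v c ∈ 𝒩 (j - a c - s) ↔ v c ∈ 𝒩 (j - s - a c)
    rw [show j - a c - s = j - s - a c by ring]
  constructor
  · intro h v hv hcyc
    obtain ⟨w, hw, hdw⟩ := h v ((key _ _).2 hv) hcyc
    exact ⟨w, (key _ _).1 hw, hdw⟩
  · intro h v hv hcyc
    obtain ⟨w, hw, hdw⟩ := h v ((key _ _).1 hv) hcyc
    exact ⟨w, (key _ _).2 hw, hdw⟩

/-- vanishing when the term of `K` is zero. -/
theorem tvan_of_rk_eq_zero [AddSubgroupClass τ N] (K : Cx 𝒜) (𝒩 : ℤ → τ) (q : ℕ) (j : ℤ)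
    (hq : K.rk q = 0) : Tvan K 𝒩 q j := by
  intro v _ _
  haveI : IsEmpty (Fin (K.rk q)) := by rw [hq]; infer_instance
  exact ⟨fun _ => 0, fun c => zero_mem _, funext fun c => isEmptyElim c⟩

end Transfer

end Groth.Agent.Helper7.GrTorV
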