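import Mathlib
import Groth.Prelude.Def_GrSyz
import Groth.Agent.Helper7.GrSyzMin2
import Groth.Agent.Helper7.HilbFn2

set_option autoImplicit false

open DirectSum MvPolynomial

namespace Groth.Agent.Helper7.MinRes

open Groth.Agent.Helper7.HilbFn Groth.Agent.Helper7.GrSyzMin

universe u

variable (k : Type u) [Field k] (r : ℕ)

local notation "S" => MvPolynomial (Fin (r + 1)) k
local notation "𝒜" => GrSyz.stdGr k (Fin (r + 1))
local notation "𝔪" => HomogeneousIdeal.toIdeal (GrSyz.irrel (GrSyz.stdGr k (Fin (r + 1))))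

/-- if the degree-zero component is in `𝔪`, so is the element. -/
theorem mem_irrel_of_component_zero (c : S) (h : (decompose 𝒜 c 0 : S) ∈ 𝔪) : c ∈ 𝔪 := by
  classical
  rw [← DirectSum.sum_support_decompose 𝒜 c]
  refine Ideal.sum_mem _ fun d _ => ?_
  rcases lt_trichotomy d 0 with hd | hd | hd
  · have hz : ∀ x : S, x ∈ 𝒜 d → x = 0 := fun x hx => by
      rw [stdGr_neg k _ d hd, Submodule.mem_bot] at hx; exact hx
    rw [hz _ (SetLike.coe_mem _)]; exact Ideal.zero_mem _
  · rw [hd]; exact h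
  · exact Ideal.subset_span ⟨d, hd, SetLike.coe_mem _⟩

variable {k r}

/-- abstract minimal homogeneous generators. -/
theorem exists_minimal_gens_aux {N : Type u} [AddCommGroup N] [Module S N] (hom : ℤ → Set N)
    (G2 : ∀ (n : ℕ) (g : Fin n → N) (a : Fin n → ℤ), (∀ b, g b ∈ hom (a b)) →
      ∀ c : Fin n → S, ∑ b, c b • g b = 0 →
        ∀ e : ℤ, ∑ b, ((decompose 𝒜 (c b) (e - a b) : S)) • g b = 0) :
    ∀ (n : ℕ) (g : Fin n → N) (a : Fin n → ℤ), (∀ b, g b ∈ hom (a b)) →
      Submodule.span S (Set.range g) = ⊤ →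
    ∃ (n : ℕ) (g : Fin n → N) (a : Fin n → ℤ), (∀ b, g b ∈ hom (a b)) ∧
      Submodule.span S (Set.range g) = ⊤ ∧
      ∀ c : Fin n → S, ∑ b, c b • g b = 0 → ∀ b, c b ∈ 𝔪 := by
  classical
  intro n
  induction n with
  | zero =>
    intro g a hg hspan
    exact ⟨0, g, a, hg, hspan, fun c _ b => b.elim0⟩
  | succ n ih =>
    intro g a hg hspan
    by_cases hmin : ∀ c : Fin (n + 1) → S, ∑ b, c b • g b = 0 → ∀ b, c b ∈ 𝔪
    · exact ⟨n + 1, g, a, hg, hspan, hmin⟩
    · push Not at hmin
      obtain ⟨c, hc, b0, hb0⟩ := hmin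
      have hc' := G2 _ g a hg c hc (a b0)
      have hu : IsUnit ((decompose 𝒜 (c b0) (a b0 - a b0) : S)) := by
        apply isUnit_of_not_mem k (Fin (r + 1)) (a b0 - a b0) _ (SetLike.coe_mem _)
        intro hmem
        rw [sub_self] at hmem
        exact hb0 (mem_irrel_of_component_zero k r _ hmem)
      have hmem := mem_span_of_rel g b0 (fun b => (decompose 𝒜 (c b) (a b0 - a b) : S)) hu hc'
      apply ih (g ∘ b0.succAbove) (a ∘ b0.succAbove) (fun b => hg _)
      have hrange : Set.range (g ∘ b0.succAbove) = g '' {b' | b' ≠ b0} := by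
        rw [Set.range_comp, Fin.range_succAbove]
        rfl
      rw [hrange]
      rw [eq_top_iff, ← hspan, Submodule.span_le]
      rintro _ ⟨b, rfl⟩
      by_cases hb : b = b0
      · rw [hb]; exact hmem
      · exact Submodule.subset_span ⟨b, hb, rfl⟩

/-- finitely many homogeneous generators. -/
theorem exists_fin_gens {N : Type u} [AddCommGroup N] [Module S N] [Module.Finite S N]
    (hom : ℤ → Set N) (h : Submodule.span S (⋃ d, hom d) = ⊤) :
    ∃ (n : ℕ) (g : Fin n → N) (a : Fin n → ℤ), (∀ b, g b ∈ hom (a b)) ∧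
      Submodule.span S (Set.range g) = ⊤ := by
  classical
  have hfg : (Submodule.span S (⋃ d, hom d)).FG := by
    rw [h]; exact Module.Finite.fg_top
  obtain ⟨s', hs', hspan⟩ := (Submodule.fg_span_iff_fg_span_finset_subset _).1 hfg
  have hdeg : ∀ x : s', ∃ d, (x : N) ∈ hom d := fun x => by
    have := hs' x.2
    rw [Set.mem_iUnion] at this
    exact this
  choose a ha using hdeg
  refine ⟨s'.card, fun b => (s'.equivFin.symm b : N), fun b => a (s'.equivFin.symm b),
    fun b => ha _, ?_⟩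
  rw [← h, hspan]
  congr 1
  ext x
  constructor
  · rintro ⟨b, rfl⟩
    exact (s'.equivFin.symm b).2
  · intro hx
    exact ⟨s'.equivFin ⟨x, hx⟩, by simp⟩

/-- minimal homogeneous generators. -/
theorem exists_minimal_gens {N : Type u} [AddCommGroup N] [Module S N] [Module.Finite S N]
    (hom : ℤ → Set N) (h : Submodule.span S (⋃ d, hom d) = ⊤)
    (G2 : ∀ (n : ℕ) (g : Fin n → N) (a : Fin n → ℤ), (∀ b, g b ∈ hom (a b)) →
      ∀ c : Fin n → S, ∑ b, c b • g b = 0 →
        ∀ e : ℤ, ∑ b, ((decompose 𝒜 (c b) (e - a b) : S)) • g b = 0) :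
    ∃ (n : ℕ) (g : Fin n → N) (a : Fin n → ℤ), (∀ b, g b ∈ hom (a b)) ∧
      Submodule.span S (Set.range g) = ⊤ ∧
      ∀ c : Fin n → S, ∑ b, c b • g b = 0 → ∀ b, c b ∈ 𝔪 := by
  obtain ⟨n, g, a, hg, hspan⟩ := exists_fin_gens hom h
  exact exists_minimal_gens_aux hom G2 n g a hg hspan

section Init

/-- the initial step: minimal homogeneous generators of `M`. -/
theorem exists_init (M : Type u) [AddCommGroup M] [Module k M] [Module S M]
    [IsScalarTower k S M] [Module.Finite S M]
    (ℳ : ℤ → Submodule k M) [DirectSum.Decomposition ℳ] [SetLike.GradedSMul 𝒜 ℳ] :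
    ∃ (n : ℕ) (a : Fin n → ℤ) (aug : Fin n → M), (∀ b, aug b ∈ ℳ (a b)) ∧
      Function.Surjective (Fintype.linearCombination S aug) ∧
      (∀ (d : ℤ) (v : Fin n → S), v ∈ LinearMap.ker (Fintype.linearCombination S aug) →
        projv 𝒜 a d v ∈ LinearMap.ker (Fintype.linearCombination S aug)) ∧
      (∀ v ∈ LinearMap.ker (Fintype.linearCombination S aug), ∀ b, v b ∈ 𝔪) := by
  classical
  have h : Submodule.span S (⋃ d, ((ℳ d : Set M))) = ⊤ := by
    rw [eq_top_iff]
    intro x _
    rw [← DirectSum.sum_support_decompose ℳ x]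
    refine Submodule.sum_mem _ fun d _ => Submodule.subset_span ?_
    rw [Set.mem_iUnion]
    exact ⟨d, SetLike.coe_mem _⟩
  have G2 : ∀ (n : ℕ) (g : Fin n → M) (a : Fin n → ℤ), (∀ b, g b ∈ ((ℳ (a b) : Set M))) →
      ∀ c : Fin n → S, ∑ b, c b • g b = 0 →
        ∀ e : ℤ, ∑ b, ((decompose 𝒜 (c b) (e - a b) : S)) • g b = 0 := by
    intro n g a hg c hc e
    have := decompose_linearCombination 𝒜 ℳ a g hg e c
    rw [Fintype.linearCombination_apply, Fintype.linearCombination_apply, hc, decompose_zero] at this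
    exact this.symm
  obtain ⟨n, g, a, hg, hspan, hmin⟩ := exists_minimal_gens (fun d => ((ℳ d : Set M))) h G2
  refine ⟨n, a, g, hg, ?_, ?_, ?_⟩
  · rw [← LinearMap.range_eq_top, Fintype.range_linearCombination, hspan]
  · intro d v hv
    rw [LinearMap.mem_ker] at hv ⊢
    rw [← decompose_linearCombination 𝒜 ℳ a g hg d v, hv, decompose_zero]
    rfl
  · intro v hv b
    rw [LinearMap.mem_ker, Fintype.linearCombination_apply] at hv
    exact hmin v hv b

end Init

section Step

/-- every vector is a finite sum of its homogeneous parts. -/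
theorem exists_sum_projv {n : ℕ} (a : Fin n → ℤ) (v : Fin n → S) :
    ∃ T : Finset ℤ, ∑ d ∈ T, projv 𝒜 a d v = v := by
  classical
  refine ⟨Finset.univ.biUnion (fun i => ((decompose 𝒜 (v i)).support).image (fun e => e + a i)), ?_⟩
  funext i
  rw [Finset.sum_apply]
  show ∑ d ∈ _, ((decompose 𝒜 (v i) (d - a i) : 𝒜 (d - a i)) : S) = v i
  have hsub : ((decompose 𝒜 (v i)).support).image (fun e => e + a i) ⊆
      Finset.univ.biUnion (fun i => ((decompose 𝒜 (v i)).support).image (fun e => e + a i)) :=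
    Finset.subset_biUnion_of_mem (fun i => ((decompose 𝒜 (v i)).support).image (fun e => e + a i))
      (Finset.mem_univ i)
  rw [← Finset.sum_subset hsub]
  · rw [Finset.sum_image (fun x _ y _ h => by simpa using h)]
    conv_rhs => rw [← DirectSum.sum_support_decompose 𝒜 (v i)]
    refine Finset.sum_congr rfl fun e _ => ?_
    rw [add_sub_cancel_right]
  · intro d _ hd
    have : d - a i ∉ (decompose 𝒜 (v i)).support := by
      intro h
      apply hd
      rw [Finset.mem_image]
      exact ⟨d - a i, h, by ring⟩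
    rw [DFinsupp.notMem_support_iff] at this
    rw [this]; rfl

theorem coe_sum_smul {n n' : ℕ} (K : Submodule S (Fin n → S)) (g : Fin n' → K) (c : Fin n' → S) :
    ((∑ b, c b • g b : K) : Fin n → S) =
      (Matrix.of fun i b => (g b : Fin n → S) i).mulVec c := by
  rw [Submodule.coe_sum]
  funext i
  rw [Finset.sum_apply, Matrix.mulVec, dotProduct]
  refine Finset.sum_congr rfl fun b _ => ?_
  simp [mul_comm]

theorem exists_step {n : ℕ} (a : Fin n → ℤ) (K : Submodule S (Fin n → S))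
    (hK : ∀ (d : ℤ) (v : Fin n → S), v ∈ K → projv 𝒜 a d v ∈ K) :
    ∃ (n' : ℕ) (a' : Fin n' → ℤ) (D : Matrix (Fin n) (Fin n') S),
      (∀ i j, D i j ∈ 𝒜 (a' j - a i)) ∧ LinearMap.range (Matrix.mulVecLin D) = K ∧
      (∀ (d : ℤ) (w : Fin n' → S), w ∈ LinearMap.ker (Matrix.mulVecLin D) →
        projv 𝒜 a' d w ∈ LinearMap.ker (Matrix.mulVecLin D)) ∧
      (∀ w ∈ LinearMap.ker (Matrix.mulVecLin D), ∀ b, w b ∈ 𝔪) := by
  classical
  let hom : ℤ → Set K := fun d => {x | (x : Fin n → S) ∈ piece 𝒜 a d}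
  have h : Submodule.span S (⋃ d, hom d) = ⊤ := by
    rw [eq_top_iff]
    rintro ⟨x, hx⟩ _
    obtain ⟨T, hT⟩ := exists_sum_projv a x
    have : (⟨x, hx⟩ : K) = ∑ d ∈ T, (⟨projv 𝒜 a d x, hK d x hx⟩ : K) := by
      apply Subtype.ext
      rw [Submodule.coe_sum]
      exact hT.symm
    rw [this]
    refine Submodule.sum_mem _ fun d _ => Submodule.subset_span ?_
    rw [Set.mem_iUnion]
    exact ⟨d, projv_mem 𝒜 a d x⟩
  have hDmem : ∀ (n' : ℕ) (g : Fin n' → K) (a' : Fin n' → ℤ), (∀ b, g b ∈ hom (a' b)) →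
      ∀ i j, (Matrix.of fun i b => (g b : Fin n → S) i) i j ∈ 𝒜 (a' j - a i) := by
    intro n' g a' hg i j
    exact (mem_piece 𝒜).1 (hg j) i
  have G2 : ∀ (n' : ℕ) (g : Fin n' → K) (a' : Fin n' → ℤ), (∀ b, g b ∈ hom (a' b)) →
      ∀ c : Fin n' → S, ∑ b, c b • g b = 0 →
        ∀ e : ℤ, ∑ b, ((decompose 𝒜 (c b) (e - a' b) : S)) • g b = 0 := by
    intro n' g a' hg c hc e
    apply Subtype.ext
    have h1 := coe_sum_smul K g c
    rw [hc] at h1
    have h2 := coe_sum_smul K g (projv 𝒜 a' e c)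
    rw [← projv_mulVec 𝒜 a a' _ (hDmem n' g a' hg) e c, ← h1] at h2
    have h3 : projv 𝒜 a e ((0 : K) : Fin n → S) = 0 := by
      funext i
      simp [projv]
    rw [h3] at h2
    exact h2
  obtain ⟨n', g, a', hg, hspan, hmin⟩ := exists_minimal_gens hom h G2
  refine ⟨n', a', Matrix.of fun i b => (g b : Fin n → S) i, hDmem n' g a' hg, ?_, ?_, ?_⟩
  · apply le_antisymm
    · rintro _ ⟨w, rfl⟩
      rw [Matrix.mulVecLin_apply, ← coe_sum_smul K g w]
      exact Subtype.property _
    · intro x hx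
      have : (⟨x, hx⟩ : K) ∈ Submodule.span S (Set.range g) := by rw [hspan]; trivial
      rw [Submodule.mem_span_range_iff_exists_fun] at this
      obtain ⟨w, hw⟩ := this
      refine ⟨w, ?_⟩
      rw [Matrix.mulVecLin_apply, ← coe_sum_smul K g w, hw]
  · intro d w hw
    rw [LinearMap.mem_ker, Matrix.mulVecLin_apply] at hw ⊢
    rw [← projv_mulVec 𝒜 a a' _ (hDmem n' g a' hg) d w, hw]
    funext i
    simp [projv]
  · intro w hw b
    rw [LinearMap.mem_ker, Matrix.mulVecLin_apply, ← coe_sum_smul K g w] at hw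
    exact hmin w (Subtype.ext hw) b

end Step

section Rec

variable (k r)

/-- a stage of the construction. -/
structure Stage where
  n : ℕ
  a : Fin n → ℤ
  K : Submodule S (Fin n → S)
  graded : ∀ (d : ℤ) (v : Fin n → S), v ∈ K → projv 𝒜 a d v ∈ K
  minimal : ∀ v ∈ K, ∀ b, v b ∈ 𝔪

variable {k r}

/-- the data produced by one step. -/
structure StepData (s : Stage k r) where
  n' : ℕ
  a' : Fin n' → ℤ
  D : Matrix (Fin s.n) (Fin n') S
  hD : ∀ i j, D i j ∈ 𝒜 (a' j - s.a i)
  hrange : LinearMap.range (Matrix.mulVecLin D) = s.K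
  hker : ∀ (d : ℤ) (w : Fin n' → S), w ∈ LinearMap.ker (Matrix.mulVecLin D) →
    projv 𝒜 a' d w ∈ LinearMap.ker (Matrix.mulVecLin D)
  hmin : ∀ w ∈ LinearMap.ker (Matrix.mulVecLin D), ∀ b, w b ∈ 𝔪

theorem nonempty_stepData (s : Stage k r) : Nonempty (StepData s) := by
  obtain ⟨n', a', D, hD, hrange, hker, hmin⟩ := exists_step s.a s.K s.graded
  exact ⟨⟨n', a', D, hD, hrange, hker, hmin⟩⟩

noncomputable def stepData (s : Stage k r) : StepData s := Classical.choice (nonempty_stepData s)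

noncomputable def next (s : Stage k r) : Stage k r :=
  ⟨(stepData s).n', (stepData s).a', LinearMap.ker (Matrix.mulVecLin (stepData s).D),
    (stepData s).hker, (stepData s).hmin⟩

noncomputable def stages (s0 : Stage k r) (i : ℕ) : Stage k r :=
  Nat.rec s0 (fun _ s => next s) i

theorem exists_minimal_res (M : Type u) [AddCommGroup M] [Module k M] [Module S M]
    [IsScalarTower k S M] [Module.Finite S M]
    (ℳ : ℤ → Submodule k M) [DirectSum.Decomposition ℳ] [SetLike.GradedSMul 𝒜 ℳ] :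
    ∃ F : GrSyz.FreeRes 𝒜 ℳ, F.IsMinimal 𝔪 := by
  obtain ⟨n0, a0, aug0, haug0, hsurj, hgr, hmin⟩ := exists_init (k := k) (r := r) M ℳ
  let s0 : Stage k r := ⟨n0, a0, LinearMap.ker (Fintype.linearCombination S aug0), hgr, hmin⟩
  let F : GrSyz.FreeRes 𝒜 ℳ :=
    { rk := fun i => (stages s0 i).n
      deg := fun i => (stages s0 i).a
      d := fun i => (stepData (stages s0 i)).D
      aug := aug0
      d_mem := fun i => (stepData (stages s0 i)).hD
      aug_mem := haug0
      aug_surjective := hsurj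
      exact_zero := ((stepData (stages s0 0)).hrange).symm
      exact_succ := fun i => ((stepData (stages s0 (i + 1))).hrange).symm }
  refine ⟨F, ?_⟩
  intro i a b
  have hcol : (Matrix.mulVecLin (stepData (stages s0 i)).D) (Pi.single b 1) ∈ (stages s0 i).K := by
    rw [← (stepData (stages s0 i)).hrange]
    exact ⟨_, rfl⟩
  have := (stages s0 i).minimal _ hcol a
  rw [Matrix.mulVecLin_apply, Matrix.mulVec_single_one] at this
  exact this

end Rec

end Groth.Agent.Helper7.MinRes
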