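import Mathlib
import Groth.Prelude.Def_GrSyz
import Groth.Agent.Helper7.GrTorV
import Groth.Agent.Helper7.MinRes
import Groth.Agent.Helper7.PdLen

/-!
# Graded `Tor` over the polynomial ring against a minimal resolution of the residue field
-/

set_option autoImplicit false
set_option linter.unusedSectionVars false
set_option linter.style.haveILetI false

open DirectSum MvPolynomial

namespace Groth.Agent.Helper7.GrTorS

open Groth.Agent.Helper7.HilbFn Groth.Agent.Helper7.GrSyzMin Groth.Agent.Helper7.MinRes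
  Groth.Agent.Helper7.GrTorV

universe u v₁ v₂ v₃ v₄

/-- a minimal graded free resolution of the residue field with `K_0 = S`. -/
structure KRes (k : Type u) [Field k] (r : ℕ) extends
    Cx (R := MvPolynomial (Fin (r + 1)) k) (GrSyz.stdGr k (Fin (r + 1))) where
  exact : ∀ q : ℕ, LinearMap.ker (Matrix.mulVecLin (d q)) =
    LinearMap.range (Matrix.mulVecLin (d (q + 1)))
  rk_zero : rk 0 = 1
  deg_zero : ∀ c, deg 0 c = 0
  range_zero : ∀ s : MvPolynomial (Fin (r + 1)) k,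
    s ∈ HomogeneousIdeal.toIdeal (GrSyz.irrel (GrSyz.stdGr k (Fin (r + 1)))) ↔
      ∃ w : Fin (rk 1) → MvPolynomial (Fin (r + 1)) k, ∀ c, (d 0).mulVec w c = s
  minimal : ∀ (q : ℕ) (a : Fin (rk q)) (b : Fin (rk (q + 1))),
    d q a b ∈ HomogeneousIdeal.toIdeal (GrSyz.irrel (GrSyz.stdGr k (Fin (r + 1))))

variable {k : Type u} [Field k] {r : ℕ}

local notation "S" => MvPolynomial (Fin (r + 1)) k
local notation "𝒜" => GrSyz.stdGr k (Fin (r + 1))
local notation "𝔪" => HomogeneousIdeal.toIdeal (GrSyz.irrel (GrSyz.stdGr k (Fin (r + 1))))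

/-- the unique index of `K_0`. -/
def KRes.c0 (K : KRes k r) : Fin (K.rk 0) := Fin.cast K.rk_zero.symm 0

theorem KRes.eq_c0 (K : KRes k r) (c : Fin (K.rk 0)) : c = K.c0 := by
  apply Fin.ext
  have h1 := c.isLt
  have h2 := K.rk_zero
  simp only [KRes.c0, Fin.val_cast, Fin.val_zero]
  omega

theorem gsmul_piece {m : ℕ} (a : Fin m → ℤ) :
    GSMul (R := S) 𝒜 (piece 𝒜 a) := by
  intro a0 d s v hs hv
  rw [mem_piece] at hv ⊢
  intro b
  have := SetLike.GradedMul.mul_mem hs (hv b)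
  have e : a0 + (d - a b) = a0 + d - a b := by ring
  rw [e] at this
  exact this

/-- **free modules are acyclic**. -/
theorem tvan_free (K : KRes k r) {m : ℕ} (a : Fin m → ℤ) (q : ℕ) (j : ℤ) :
    Tvan K.toCx (piece 𝒜 a) (q + 1) j := by
  intro v hv hcyc
  have hcyc' : act (K.d q) v = 0 := hcyc
  have h1 : ∀ b : Fin m, (fun c => v c b) ∈ LinearMap.ker (Matrix.mulVecLin (K.d q)) := by
    intro b
    rw [LinearMap.mem_ker, Matrix.mulVecLin_apply]
    funext i
    have := congrFun (congrFun hcyc' i) b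
    simpa [act_apply, Matrix.mulVec, dotProduct, Finset.sum_apply] using this
  simp_rw [K.exact q] at h1
  choose u hu using h1
  have hvb : ∀ b : Fin m, (fun c => v c b) ∈ piece 𝒜 (K.deg (q + 1)) (j - a b) := by
    intro b
    rw [mem_piece]
    intro c
    have := (mem_piece 𝒜).1 (hv c) b
    have e : j - K.deg (q + 1) c - a b = j - a b - K.deg (q + 1) c := by ring
    rw [e] at this
    exact this
  refine ⟨fun c' b => projv 𝒜 (K.deg (q + 1 + 1)) (j - a b) (u b) c', ?_, ?_⟩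
  · intro c'
    rw [mem_piece]
    intro b
    have := (mem_piece 𝒜).1 (projv_mem 𝒜 (K.deg (q + 1 + 1)) (j - a b) (u b)) c'
    have e : j - a b - K.deg (q + 1 + 1) c' = j - K.deg (q + 1 + 1) c' - a b := by ring
    rw [e] at this
    exact this
  · funext c b
    have h2 := projv_mulVec 𝒜 (K.deg (q + 1)) (K.deg (q + 1 + 1)) (K.d (q + 1)) (K.d_mem (q + 1))
      (j - a b) (u b)
    have h3 : (K.d (q + 1)).mulVec (u b) = fun c => v c b := hu b
    rw [h3, projv_of_mem 𝒜 (hvb b)] at h2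
    have h4 := congrFun h2 c
    rw [act_apply, Finset.sum_apply]
    simp only [Pi.smul_apply, smul_eq_mul]
    rw [h4]
    rfl

/-- homogeneous division by the generators of `𝔪` given by `K`. -/
theorem exists_div (K : KRes k r) (e : ℤ) (s : S) (hs : s ∈ 𝔪) (hse : s ∈ 𝒜 e) :
    ∃ u : Fin (K.rk 1) → S, (∀ c, u c ∈ 𝒜 (e - K.deg 1 c)) ∧ ∀ c0, (K.d 0).mulVec u c0 = s := by
  obtain ⟨w, hw⟩ := (K.range_zero s).1 hs
  refine ⟨projv 𝒜 (K.deg 1) e w, (mem_piece 𝒜).1 (projv_mem 𝒜 (K.deg 1) e w), fun c0 => ?_⟩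
  have h2 := projv_mulVec 𝒜 (K.deg 0) (K.deg 1) (K.d 0) (K.d_mem 0) e w
  rw [← h2]
  show (decompose 𝒜 ((K.d 0).mulVec w c0) (e - K.deg 0 c0) : S) = s
  rw [hw c0, K.deg_zero, sub_zero]
  exact decompose_of_mem_same 𝒜 hse

theorem mem_irrel_of_mem_of_ne {e : ℤ} (he : e ≠ 0) {s : S} (hs : s ∈ 𝒜 e) : s ∈ 𝔪 := by
  rcases lt_or_gt_of_ne he with h | h
  · rw [stdGr_neg k _ e h, Submodule.mem_bot] at hs
    rw [hs]; exact Ideal.zero_mem _
  · exact Ideal.subset_span ⟨e, h, hs⟩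

section Zero

variable (K : KRes k r) {N : Type v₁} [AddCommGroup N] [Module (MvPolynomial (Fin (r + 1)) k) N]
  {τ : Type v₂} [SetLike τ N]
  [AddSubgroupClass τ N] (𝒩 : ℤ → τ)
  (hN : GSMul (R := MvPolynomial (Fin (r + 1)) k) (GrSyz.stdGr k (Fin (r + 1))) 𝒩)
  {m : ℕ} (g : Fin m → N) (a : Fin m → ℤ) (hg : ∀ b, g b ∈ 𝒩 (a b))
  (hgen : ∀ (j : ℤ) (x : N), x ∈ 𝒩 j →
    ∃ s : Fin m → MvPolynomial (Fin (r + 1)) k,
      (∀ b, s b ∈ GrSyz.stdGr k (Fin (r + 1)) (j - a b)) ∧ ∑ b, s b • g b = x)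
  (hmin : ∀ c : Fin m → MvPolynomial (Fin (r + 1)) k, ∑ b, c b • g b = 0 →
    ∀ b, c b ∈ HomogeneousIdeal.toIdeal (GrSyz.irrel (GrSyz.stdGr k (Fin (r + 1)))))

include hN hg hgen in
theorem tvan_zero_of_ne (j : ℤ) (hj : ∀ b, a b ≠ j) : Tvan K.toCx 𝒩 0 j := by
  classical
  intro v hv _
  have hx : v K.c0 ∈ 𝒩 j := by
    have := hv K.c0
    rwa [K.deg_zero, sub_zero] at this
  obtain ⟨s, hs, hsx⟩ := hgen j _ hx
  have hsm : ∀ b, s b ∈ 𝔪 := fun b =>
    mem_irrel_of_mem_of_ne (sub_ne_zero.2 (hj b).symm) (hs b)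
  choose u hu hus using fun b => exists_div K (j - a b) (s b) (hsm b) (hs b)
  refine ⟨fun c => ∑ b, u b c • g b, ?_, ?_⟩
  · intro c
    refine sum_mem fun b _ => ?_
    have := hN _ _ _ _ (hu b c) (hg b)
    have e : j - a b - K.deg 1 c + a b = j - K.deg (0 + 1) c := by ring
    rw [e] at this
    exact this
  · funext c0'
    rw [K.eq_c0 c0', act_apply, ← hsx]
    simp only [Finset.smul_sum, smul_smul]
    rw [Finset.sum_comm]
    refine Finset.sum_congr rfl fun b _ => ?_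
    rw [← Finset.sum_smul]
    congr 1
    rw [← hus b K.c0]
    rfl

include hN hg hgen hmin in
theorem ne_of_tvan_zero (j : ℤ) (h : Tvan K.toCx 𝒩 0 j) : ∀ b, a b ≠ j := by
  classical
  intro b0 hb0
  have hv : InStr 𝒩 (K.deg 0) j (fun _ : Fin (K.rk 0) => g b0) := by
    intro c
    rw [K.deg_zero, sub_zero, ← hb0]
    exact hg b0
  obtain ⟨w, hw, hdw⟩ := h _ hv trivial
  choose t ht htw using fun c => hgen _ (w c) (hw c)
  have h1 : g b0 = ∑ b, (∑ c, K.d 0 K.c0 c * t c b) • g b := by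
    have := congrFun hdw K.c0
    rw [act_apply] at this
    rw [← this]
    simp only [Finset.sum_smul, mul_smul]
    rw [Finset.sum_comm]
    refine Finset.sum_congr rfl fun c _ => ?_
    rw [← Finset.smul_sum, htw c]
  have hγ : ∀ b, (∑ c, K.d 0 K.c0 c * t c b) ∈ 𝔪 := fun b =>
    Ideal.sum_mem _ fun c _ => Ideal.mul_mem_right _ _ (K.minimal 0 K.c0 c)
  have hrel : ∑ b, ((∑ c, K.d 0 K.c0 c * t c b) - (if b = b0 then 1 else 0)) • g b = 0 := by
    simp only [sub_smul, Finset.sum_sub_distrib, ite_smul, one_smul, zero_smul,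
      Finset.sum_ite_eq', Finset.mem_univ, if_true]
    rw [← h1, sub_self]
  have h2 := hmin _ hrel b0
  rw [if_pos rfl] at h2
  apply one_not_mem k (Fin (r + 1))
  have := Ideal.sub_mem _ (hγ b0) h2
  simpa using this

include hN hg hgen hmin in
theorem tvan_zero_iff (j : ℤ) : Tvan K.toCx 𝒩 0 j ↔ ∀ b, a b ≠ j :=
  ⟨ne_of_tvan_zero K 𝒩 hN g a hg hgen hmin j, tvan_zero_of_ne K 𝒩 hN g a hg hgen j⟩

end Zero

section Shift

variable (K : KRes k r) {m : ℕ} (a : Fin m → ℤ)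
  {N₁ : Type v₁} {N₃ : Type v₂} [AddCommGroup N₁] [Module (MvPolynomial (Fin (r + 1)) k) N₁]
  [AddCommGroup N₃] [Module (MvPolynomial (Fin (r + 1)) k) N₃]
  {τ₁ : Type v₃} {τ₃ : Type v₄} [SetLike τ₁ N₁] [SetLike τ₃ N₃] [AddSubgroupClass τ₁ N₁]
  [AddSubgroupClass τ₃ N₃]
  (𝒩₁ : ℤ → τ₁) (𝒩₃ : ℤ → τ₃)
  (f : N₁ →ₗ[MvPolynomial (Fin (r + 1)) k] (Fin m → MvPolynomial (Fin (r + 1)) k))
  (g : (Fin m → MvPolynomial (Fin (r + 1)) k) →ₗ[MvPolynomial (Fin (r + 1)) k] N₃)
  (h : GrSES 𝒩₁ (piece (GrSyz.stdGr k (Fin (r + 1))) a) 𝒩₃ f g)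
  (hmin : ∀ (x : N₁) (b : Fin m),
    f x b ∈ HomogeneousIdeal.toIdeal (GrSyz.irrel (GrSyz.stdGr k (Fin (r + 1)))))

include h hmin in
/-- dimension shifting along a minimal graded presentation. -/
theorem tvan_succ_iff (q : ℕ) (j : ℤ) : Tvan K.toCx 𝒩₃ (q + 1) j ↔ Tvan K.toCx 𝒩₁ q j := by
  constructor
  · intro h3
    cases q with
    | zero =>
      refine h.tvan₁_zero K.toCx (gsmul_piece a) j h3 ?_
      intro v hv
      have hz : f (v K.c0) ∈ piece 𝒜 a j := by
        have := h.f_mem _ _ (hv K.c0)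
        rwa [K.deg_zero, sub_zero] at this
      choose u hu hus using fun b => exists_div K (j - a b) (f (v K.c0) b) (hmin _ b)
        ((mem_piece 𝒜).1 hz b)
      refine ⟨fun c b => u b c, ?_, ?_⟩
      · intro c
        rw [mem_piece]
        intro b
        have := hu b c
        have e : j - a b - K.deg 1 c = j - K.deg (0 + 1) c - a b := by ring
        rw [e] at this
        exact this
      · funext c0' b
        rw [K.eq_c0 c0', act_apply, Finset.sum_apply]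
        simp only [Pi.smul_apply, smul_eq_mul, Function.comp_apply]
        rw [← hus b K.c0]
        rfl
    | succ q =>
      exact h.tvan₁ K.toCx (gsmul_piece a) (q + 1) j h3 (tvan_free K a q j)
  · intro h1
    exact h.tvan₃ K.toCx (gsmul_piece a) q j (tvan_free K a q j) h1

end Shift

end Groth.Agent.Helper7.GrTorS
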