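import Mathlib
import Groth.Prelude.Def_GrSyz
import Groth.Agent.Helper7.GrTorS

/-!
# Balancing: the graded Betti numbers of a minimal resolution via `K ⊗ M`
-/

set_option autoImplicit false
set_option linter.unusedSectionVars false
set_option linter.style.haveILetI false

open DirectSum MvPolynomial

namespace Groth.Agent.Helper7.GrTorBal

open Groth.Agent.Helper7.HilbFn Groth.Agent.Helper7.GrSyzMin Groth.Agent.Helper7.MinRes
  Groth.Agent.Helper7.GrTorV Groth.Agent.Helper7.GrTorS Groth.Agent.Helper7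

universe u

variable {k : Type u} [Field k] {r : ℕ}

local notation "S" => MvPolynomial (Fin (r + 1)) k
local notation "𝒜" => GrSyz.stdGr k (Fin (r + 1))
local notation "𝔪" => HomogeneousIdeal.toIdeal (GrSyz.irrel (GrSyz.stdGr k (Fin (r + 1))))

variable {M : Type u} [AddCommGroup M] [Module k M] [Module (MvPolynomial (Fin (r + 1)) k) M]
  [IsScalarTower k (MvPolynomial (Fin (r + 1)) k) M]
  {ℳ : ℤ → Submodule k M} [DirectSum.Decomposition ℳ]
  [SetLike.GradedSMul (GrSyz.stdGr k (Fin (r + 1))) ℳ]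
  (F : GrSyz.FreeRes (GrSyz.stdGr k (Fin (r + 1))) ℳ)

/-- the pieces of the syzygy modules. -/
noncomputable def Zgr (i : ℕ) (d : ℤ) : AddSubgroup (PdLen.Z F i) :=
  (piece 𝒜 (F.deg i) d).toAddSubgroup.comap (PdLen.Z F i).subtype.toAddMonoidHom

theorem mem_Zgr {i : ℕ} {d : ℤ} {x : PdLen.Z F i} :
    x ∈ Zgr F i d ↔ (x : Fin (F.rk i) → S) ∈ piece 𝒜 (F.deg i) d := Iff.rfl

theorem gsmul_M : GSMul (R := S) 𝒜 ℳ := by
  intro a b s x hs hx
  exact SetLike.GradedSMul.smul_mem hs hx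

theorem gsmul_Zgr (i : ℕ) : GSMul (R := S) 𝒜 (Zgr F i) := by
  intro a b s x hs hx
  rw [mem_Zgr] at hx ⊢
  exact gsmul_piece (F.deg i) a b s _ hs hx

theorem ses_zero : GrSES (Zgr F 0) (piece 𝒜 (F.deg 0)) ℳ (PdLen.Z F 0).subtype F.augLin where
  f_inj := Subtype.val_injective
  f_mem _ _ hx := hx
  f_strict _ _ hx := hx
  g_mem d v hv := linearCombination_mem 𝒜 ℳ (F.deg 0) F.aug F.aug_mem d v hv
  g_surj d m hm := by
    obtain ⟨v, rfl⟩ := F.aug_surjective m
    refine ⟨projv 𝒜 (F.deg 0) d v, projv_mem 𝒜 _ d v, ?_⟩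
    show Fintype.linearCombination S F.aug (projv 𝒜 (F.deg 0) d v) = _
    rw [← decompose_linearCombination 𝒜 ℳ (F.deg 0) F.aug F.aug_mem d v]
    exact decompose_of_mem_same ℳ hm
  comp_zero x := x.2
  exact y hy := ⟨⟨y, hy⟩, rfl⟩

theorem ses_succ (i : ℕ) : GrSES (Zgr F (i + 1)) (piece 𝒜 (F.deg (i + 1))) (Zgr F i)
    (PdLen.Z F (i + 1)).subtype (PdLen.q F i) where
  f_inj := Subtype.val_injective
  f_mem _ _ hx := hx
  f_strict _ _ hx := hx
  g_mem d v hv := by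
    rw [mem_Zgr]
    exact mulVec_mem 𝒜 (F.deg i) (F.deg (i + 1)) (F.d i) (F.d_mem i) d v hv
  g_surj d z hz := by
    obtain ⟨w, rfl⟩ := PdLen.q_surjective F i z
    rw [mem_Zgr] at hz
    refine ⟨projv 𝒜 (F.deg (i + 1)) d w, projv_mem 𝒜 _ d w, ?_⟩
    apply Subtype.ext
    show (F.d i).mulVec (projv 𝒜 (F.deg (i + 1)) d w) = (F.d i).mulVec w
    rw [← projv_mulVec 𝒜 (F.deg i) (F.deg (i + 1)) (F.d i) (F.d_mem i)]
    exact projv_of_mem 𝒜 hz
  comp_zero x := by
    apply Subtype.ext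
    exact x.2
  exact y hy := by
    refine ⟨⟨y, ?_⟩, rfl⟩
    have := congrArg Subtype.val hy
    exact this

variable (hF : F.IsMinimal (HomogeneousIdeal.toIdeal (GrSyz.irrel (GrSyz.stdGr k (Fin (r + 1))))))
include hF

theorem mem_irrel_of_mem_Z (i : ℕ) (x : PdLen.Z F i) (b : Fin (F.rk i)) :
    (x : Fin (F.rk i) → S) b ∈ 𝔪 := by
  have hx : (x : Fin (F.rk i) → S) ∈ LinearMap.range (F.dLin i) := by
    rw [← PdLen.Z_eq_range]; exact x.2
  obtain ⟨v, hv⟩ := hx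
  rw [← hv, Matrix.mulVecLin_apply, Matrix.mulVec, dotProduct]
  exact Ideal.sum_mem _ fun c _ => Ideal.mul_mem_right _ _ (hF i b c)

variable (K : KRes k r)

theorem tvan_M_succ_iff (q : ℕ) (j : ℤ) :
    Tvan K.toCx ℳ (q + 1) j ↔ Tvan K.toCx (Zgr F 0) q j :=
  tvan_succ_iff K (F.deg 0) (Zgr F 0) ℳ _ _ (ses_zero F) (mem_irrel_of_mem_Z F hF 0) q j

theorem tvan_Z_succ_iff (i q : ℕ) (j : ℤ) :
    Tvan K.toCx (Zgr F i) (q + 1) j ↔ Tvan K.toCx (Zgr F (i + 1)) q j :=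
  tvan_succ_iff K (F.deg (i + 1)) (Zgr F (i + 1)) (Zgr F i) _ _ (ses_succ F i)
    (mem_irrel_of_mem_Z F hF (i + 1)) q j

theorem tvan_Z_iff (q : ℕ) (j : ℤ) : ∀ i n : ℕ, n = i + q →
    (Tvan K.toCx (Zgr F i) q j ↔ Tvan K.toCx (Zgr F n) 0 j) := by
  induction q with
  | zero =>
    intro i n hn
    rw [Nat.add_zero] at hn
    subst hn
    exact Iff.rfl
  | succ q ih =>
    intro i n hn
    rw [tvan_Z_succ_iff F hF K i q j]
    exact ih (i + 1) n (by omega)

/-- generators of the syzygy modules. -/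
noncomputable def gen (i : ℕ) (b : Fin (F.rk (i + 1))) : PdLen.Z F i := PdLen.q F i (Pi.single b 1)

omit hF in
theorem sum_smul_gen (i : ℕ) (c : Fin (F.rk (i + 1)) → S) :
    ∑ b, c b • gen F i b = PdLen.q F i c := by
  classical
  unfold gen
  simp_rw [← map_smul]
  rw [← map_sum]
  congr 1
  funext b
  simp [Finset.sum_apply, Pi.single_apply]

theorem tvan_Z_zero_iff (i : ℕ) (j : ℤ) :
    Tvan K.toCx (Zgr F i) 0 j ↔ ∀ b, F.deg (i + 1) b ≠ j := by
  classical
  refine tvan_zero_iff K (Zgr F i) (gsmul_Zgr F i) (gen F i) (F.deg (i + 1)) ?_ ?_ ?_ j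
  · intro b
    rw [mem_Zgr]
    show (F.d i).mulVec (Pi.single b 1) ∈ _
    refine mulVec_mem 𝒜 (F.deg i) (F.deg (i + 1)) (F.d i) (F.d_mem i) _ _ ?_
    rw [mem_piece]
    intro b'
    by_cases hb : b' = b
    · subst hb
      rw [Pi.single_eq_same, sub_self]
      exact SetLike.GradedOne.one_mem
    · rw [Pi.single_eq_of_ne hb]
      exact zero_mem _
  · intro d x hx
    obtain ⟨w, hw, hwx⟩ := (ses_succ F i).g_surj d x hx
    refine ⟨w, (mem_piece 𝒜).1 hw, ?_⟩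
    rw [sum_smul_gen, hwx]
  · intro c hc b
    rw [sum_smul_gen] at hc
    have hc' : c ∈ LinearMap.ker (F.dLin i) := by
      have := congrArg Subtype.val hc
      exact this
    exact PdLen.mem_of_mem_ker F 𝔪 (one_not_mem k (Fin (r + 1))) hF i c hc' b

theorem tvan_M_zero_iff (j : ℤ) : Tvan K.toCx ℳ 0 j ↔ ∀ b, F.deg 0 b ≠ j := by
  classical
  refine tvan_zero_iff K ℳ gsmul_M F.aug (F.deg 0) F.aug_mem ?_ ?_ j
  · intro d x hx
    obtain ⟨w, hw, hwx⟩ := (ses_zero F).g_surj d x hx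
    refine ⟨w, (mem_piece 𝒜).1 hw, ?_⟩
    rw [← hwx]
    show _ = Fintype.linearCombination S F.aug w
    rw [Fintype.linearCombination_apply]
  · intro c hc b
    have hc' : c ∈ PdLen.Z F 0 := by
      show Fintype.linearCombination S F.aug c = 0
      rw [Fintype.linearCombination_apply]
      exact hc
    exact mem_irrel_of_mem_Z F hF 0 ⟨c, hc'⟩ b

/-- **Balancing** (vanishing form): `Tor_q(M, k)_j = 0` iff the minimal resolution has no
generator of degree `j` in homological degree `q`. -/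
theorem tvan_iff (q : ℕ) (j : ℤ) : Tvan K.toCx ℳ q j ↔ ∀ b, F.deg q b ≠ j := by
  cases q with
  | zero => exact tvan_M_zero_iff F hF K j
  | succ q =>
    rw [tvan_M_succ_iff F hF K q j, tvan_Z_iff F hF K q j 0 q (by omega)]
    exact tvan_Z_zero_iff F hF K q j

theorem betti_eq_zero_iff (q : ℕ) (j : ℤ) : F.betti q j = 0 ↔ Tvan K.toCx ℳ q j := by
  rw [tvan_iff F hF K q j, GrSyz.FreeRes.betti, Finset.card_eq_zero, Finset.filter_eq_empty_iff]
  simp

end Groth.Agent.Helper7.GrTorBal
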