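import Mathlib
import Groth.Prelude.Def_GrSyz
import Groth.Agent.Helper7.MinRes
import Groth.Agent.Helper7.PdLen

set_option autoImplicit false

open DirectSum MvPolynomial

namespace Groth.Agent.Helper7.MinUniq

open Groth.Agent.Helper7.HilbFn Groth.Agent.Helper7.GrSyzMin Groth.Agent.Helper7.MinRes

universe u

variable {k : Type u} [Field k] {r : ℕ}

local notation "S" => MvPolynomial (Fin (r + 1)) k
local notation "𝒜" => GrSyz.stdGr k (Fin (r + 1))
local notation "𝔪" => HomogeneousIdeal.toIdeal (GrSyz.irrel (GrSyz.stdGr k (Fin (r + 1))))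

/-- a degree-preserving endomorphism congruent to the identity mod `𝔪` has determinant one. -/
theorem det_eq_one {n : ℕ} (a : Fin n → ℤ) (E : Matrix (Fin n) (Fin n) S)
    (hE : ∀ i j, E i j ∈ 𝒜 (a j - a i)) (hE1 : ∀ i j, (E - 1) i j ∈ 𝔪) : E.det = 1 := by
  classical
  have hdeg : E.det ∈ 𝒜 0 := by
    rw [Matrix.det_apply]
    refine Submodule.sum_mem _ fun σ _ => ?_
    have hprod : ∏ i, E (σ i) i ∈ 𝒜 (∑ i, (a i - a (σ i))) :=
      SetLike.prod_mem_graded 𝒜 _ _ fun i _ => hE (σ i) i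
    have hsum : ∑ i, (a i - a (σ i)) = 0 := by
      rw [Finset.sum_sub_distrib, Equiv.sum_comp σ a, sub_self]
    rw [hsum] at hprod
    rcases Int.units_eq_one_or (Equiv.Perm.sign σ) with h | h
    · rw [h, one_smul]; exact hprod
    · rw [h, Units.neg_smul, one_smul]; exact Submodule.neg_mem _ hprod
  have hmem : E.det - 1 ∈ 𝔪 := by
    rw [← Ideal.Quotient.eq_zero_iff_mem, map_sub, map_one, RingHom.map_det]
    have : (Ideal.Quotient.mk 𝔪).mapMatrix E = 1 := by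
      ext i j
      have h := hE1 i j
      rw [← Ideal.Quotient.eq_zero_iff_mem] at h
      rw [Matrix.sub_apply, map_sub, sub_eq_zero] at h
      rw [RingHom.mapMatrix_apply, Matrix.map_apply, h]
      by_cases hij : i = j
      · subst hij; simp
      · simp [Matrix.one_apply_ne hij]
    rw [this, Matrix.det_one, sub_self]
  have h0 : E.det - 1 ∈ 𝒜 0 := Submodule.sub_mem _ hdeg (SetLike.GradedOne.one_mem)
  have := eq_zero_of_mem k (Fin (r + 1)) 0 le_rfl _ h0 hmem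
  exact sub_eq_zero.1 this

/-- matrix product of degree-preserving matrices is degree-preserving. -/
theorem mul_mem {n n' n'' : ℕ} (a : Fin n → ℤ) (a' : Fin n' → ℤ) (a'' : Fin n'' → ℤ)
    (A : Matrix (Fin n'') (Fin n') S) (B : Matrix (Fin n') (Fin n) S)
    (hA : ∀ i j, A i j ∈ 𝒜 (a' j - a'' i)) (hB : ∀ i j, B i j ∈ 𝒜 (a j - a' i)) :
    ∀ i j, (A * B) i j ∈ 𝒜 (a j - a'' i) := by
  intro i j
  rw [Matrix.mul_apply]
  refine Submodule.sum_mem _ fun l _ => ?_
  have := SetLike.GradedMul.mul_mem (hA i l) (hB l j)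
  have e : a' l - a'' i + (a j - a' l) = a j - a'' i := by ring
  rw [e] at this
  exact this

theorem bijective_of_mul {n n' : ℕ} (a : Fin n → ℤ) (a' : Fin n' → ℤ)
    (Θ : Matrix (Fin n') (Fin n) S) (Θ' : Matrix (Fin n) (Fin n') S)
    (hΘ : ∀ i j, Θ i j ∈ 𝒜 (a j - a' i)) (hΘ' : ∀ i j, Θ' i j ∈ 𝒜 (a' j - a i))
    (h1 : ∀ i j, (Θ' * Θ - (1 : Matrix (Fin n) (Fin n) S)) i j ∈ 𝔪)
    (h2 : ∀ i j, (Θ * Θ' - (1 : Matrix (Fin n') (Fin n') S)) i j ∈ 𝔪) :
    Function.Bijective (Matrix.mulVecLin Θ) := by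
  have d1 := det_eq_one a (Θ' * Θ) (mul_mem a a' a Θ' Θ hΘ' hΘ) h1
  have d2 := det_eq_one a' (Θ * Θ') (mul_mem a' a a' Θ Θ' hΘ hΘ') h2
  have u1 : IsUnit (Θ' * Θ) := (Matrix.isUnit_iff_isUnit_det _).2 (by rw [d1]; exact isUnit_one)
  have u2 : IsUnit (Θ * Θ') := (Matrix.isUnit_iff_isUnit_det _).2 (by rw [d2]; exact isUnit_one)
  constructor
  · obtain ⟨B, hB⟩ := (isUnit_iff_exists_inv' (a := Θ' * Θ)).1 u1
    have : Function.Injective (Matrix.mulVecLin (Θ' * Θ)) := by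
      intro v w hvw
      have := congrArg (fun x => B.mulVec x) hvw
      simpa [Matrix.mulVec_mulVec, hB] using this
    rw [Matrix.mulVecLin_mul, LinearMap.coe_comp] at this
    exact Function.Injective.of_comp this
  · have : Function.Surjective (Matrix.mulVecLin (Θ * Θ')) :=
      Matrix.mulVec_surjective_iff_isUnit.2 u2
    rw [Matrix.mulVecLin_mul, LinearMap.coe_comp] at this
    exact Function.Surjective.of_comp this

section Abstract

theorem exists_lift {N : Type u} [AddCommGroup N] [Module S N] (hom : ℤ → Set N)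
    (G3 : ∀ (n : ℕ) (g : Fin n → N) (a : Fin n → ℤ), (∀ b, g b ∈ hom (a b)) →
      ∀ (c : Fin n → S) (e : ℤ), ∑ b, c b • g b ∈ hom e →
        ∑ b, (decompose 𝒜 (c b) (e - a b) : S) • g b = ∑ b, c b • g b)
    {n n' : ℕ} (g : Fin n → N) (a : Fin n → ℤ) (hg : ∀ b, g b ∈ hom (a b))
    (g' : Fin n' → N) (a' : Fin n' → ℤ) (hg' : ∀ b, g' b ∈ hom (a' b))
    (hspan' : Submodule.span S (Set.range g') = ⊤) :
    ∃ Θ : Matrix (Fin n') (Fin n) S, (∀ i j, Θ i j ∈ 𝒜 (a j - a' i)) ∧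
      ∀ j, ∑ i, Θ i j • g' i = g j := by
  have h : ∀ j, ∃ c : Fin n' → S, ∑ i, c i • g' i = g j := by
    intro j
    have : g j ∈ Submodule.span S (Set.range g') := by rw [hspan']; trivial
    rwa [Submodule.mem_span_range_iff_exists_fun] at this
  choose c hc using h
  refine ⟨Matrix.of fun i j => (decompose 𝒜 (c j i) (a j - a' i) : S), fun i j => SetLike.coe_mem _,
    fun j => ?_⟩
  have := G3 n' g' a' hg' (c j) (a j) (by rw [hc j]; exact hg j)
  rw [hc j] at this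
  exact this

theorem sum_mulVec_smul {N : Type u} [AddCommGroup N] [Module S N]
    {n n' : ℕ} (g : Fin n → N) (g' : Fin n' → N)
    (Θ : Matrix (Fin n') (Fin n) S) (hΘ : ∀ j, ∑ i, Θ i j • g' i = g j) (c : Fin n → S) :
    ∑ i, (Θ.mulVec c) i • g' i = ∑ j, c j • g j := by
  simp only [Matrix.mulVec, dotProduct, Finset.sum_smul]
  rw [Finset.sum_comm]
  refine Finset.sum_congr rfl fun j _ => ?_
  rw [← hΘ j, Finset.smul_sum]
  refine Finset.sum_congr rfl fun i _ => ?_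
  rw [smul_smul, mul_comm]

theorem sub_one_mem {N : Type u} [AddCommGroup N] [Module S N]
    {n n' : ℕ} (g : Fin n → N) (g' : Fin n' → N)
    (Θ : Matrix (Fin n') (Fin n) S) (hΘ : ∀ j, ∑ i, Θ i j • g' i = g j)
    (Θ' : Matrix (Fin n) (Fin n') S) (hΘ' : ∀ j, ∑ i, Θ' i j • g i = g' j)
    (hmin : ∀ c : Fin n → S, ∑ b, c b • g b = 0 → ∀ b, c b ∈ 𝔪) :
    ∀ i j, (Θ' * Θ - (1 : Matrix (Fin n) (Fin n) S)) i j ∈ 𝔪 := by
  classical
  intro i j
  refine hmin (fun l => (Θ' * Θ - (1 : Matrix (Fin n) (Fin n) S)) l j) ?_ i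
  have h1 : ∑ l, ((Θ' * Θ) l j) • g l = g j := by
    have := sum_mulVec_smul g' g Θ' hΘ' (fun i => Θ i j)
    rw [hΘ j] at this
    rw [← this]
    refine Finset.sum_congr rfl fun l _ => ?_
    rw [Matrix.mul_apply]
    rfl
  simp only [Matrix.sub_apply, sub_smul, Finset.sum_sub_distrib, h1]
  simp [Matrix.one_apply, ite_smul, Finset.sum_ite_eq']

theorem exists_iso_of_minimal {N : Type u} [AddCommGroup N] [Module S N] (hom : ℤ → Set N)
    (G3 : ∀ (n : ℕ) (g : Fin n → N) (a : Fin n → ℤ), (∀ b, g b ∈ hom (a b)) →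
      ∀ (c : Fin n → S) (e : ℤ), ∑ b, c b • g b ∈ hom e →
        ∑ b, (decompose 𝒜 (c b) (e - a b) : S) • g b = ∑ b, c b • g b)
    {n n' : ℕ} (g : Fin n → N) (a : Fin n → ℤ) (hg : ∀ b, g b ∈ hom (a b))
    (g' : Fin n' → N) (a' : Fin n' → ℤ) (hg' : ∀ b, g' b ∈ hom (a' b))
    (hspan : Submodule.span S (Set.range g) = ⊤)
    (hspan' : Submodule.span S (Set.range g') = ⊤)
    (hmin : ∀ c : Fin n → S, ∑ b, c b • g b = 0 → ∀ b, c b ∈ 𝔪)
    (hmin' : ∀ c : Fin n' → S, ∑ b, c b • g' b = 0 → ∀ b, c b ∈ 𝔪) :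
    ∃ Θ : Matrix (Fin n') (Fin n) S, (∀ i j, Θ i j ∈ 𝒜 (a j - a' i)) ∧
      (∀ c : Fin n → S, ∑ i, (Θ.mulVec c) i • g' i = ∑ j, c j • g j) ∧
      Function.Bijective (Matrix.mulVecLin Θ) := by
  obtain ⟨Θ, hΘd, hΘ⟩ := exists_lift hom G3 g a hg g' a' hg' hspan'
  obtain ⟨Θ', hΘ'd, hΘ'⟩ := exists_lift hom G3 g' a' hg' g a hg hspan
  refine ⟨Θ, hΘd, sum_mulVec_smul g g' Θ hΘ, ?_⟩
  exact bijective_of_mul a a' Θ Θ' hΘd hΘ'd (sub_one_mem g g' Θ hΘ Θ' hΘ' hmin)
    (sub_one_mem g' g Θ' hΘ' Θ hΘ hmin')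

end Abstract

section Count

theorem constantCoeff_eq_zero_of_mem (d : ℤ) (hd : d ≠ 0) (x : S) (hx : x ∈ 𝒜 d) :
    constantCoeff x = 0 := by
  rw [constantCoeff_eq]
  rw [GrSyz.mem_stdGr_iff] at hx
  apply hx.coeff_eq_zero
  rw [map_zero]
  exact fun h => hd h.symm

theorem card_le_of_bijective {n n' : ℕ} (a : Fin n → ℤ) (a' : Fin n' → ℤ)
    (Θ : Matrix (Fin n') (Fin n) S) (hΘ : ∀ i j, Θ i j ∈ 𝒜 (a j - a' i))
    (hbij : Function.Bijective (Matrix.mulVecLin Θ)) (j : ℤ) :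
    (Finset.univ.filter fun b : Fin n => a b = j).card ≤
      (Finset.univ.filter fun b : Fin n' => a' b = j).card := by
  classical
  -- a two-sided inverse
  obtain ⟨B, hB⟩ := Matrix.mulVec_surjective_iff_exists_right_inverse.1 hbij.2
  have hB' : B * Θ = (1 : Matrix (Fin n) (Fin n) S) := by
    have h1 : Θ * (B * Θ) = Θ * (1 : Matrix (Fin n) (Fin n) S) := by
      rw [← Matrix.mul_assoc, hB, Matrix.one_mul, Matrix.mul_one]
    refine Matrix.ext fun i l => ?_
    have h2 : Matrix.mulVecLin Θ (fun i => (B * Θ) i l) =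
        Matrix.mulVecLin Θ (fun i => (1 : Matrix (Fin n) (Fin n) S) i l) := by
      funext m
      have := congrFun (congrFun h1 m) l
      simpa [Matrix.mulVec, dotProduct, Matrix.mul_apply] using this
    exact congrFun (hbij.1 h2) i
  -- reduce to the field
  set Θb : Matrix (Fin n') (Fin n) k := Θ.map constantCoeff with hΘb
  set Bb : Matrix (Fin n) (Fin n') k := B.map constantCoeff with hBb
  have hBΘ : Bb * Θb = 1 := by
    rw [hΘb, hBb, ← Matrix.map_mul, hB']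
    ext i l
    by_cases h : i = l
    · subst h; simp
    · simp [Matrix.one_apply_ne h]
  have hzero : ∀ i l, a l ≠ a' i → Θb i l = 0 := by
    intro i l h
    rw [hΘb, Matrix.map_apply]
    exact constantCoeff_eq_zero_of_mem _ (sub_ne_zero.2 h) _ (hΘ i l)
  -- the linear map between the blocks
  let ext0 : ({b : Fin n // a b = j} → k) →ₗ[k] (Fin n → k) :=
    { toFun := fun v b => if h : a b = j then v ⟨b, h⟩ else 0
      map_add' := fun v w => by funext b; by_cases h : a b = j <;> simp [h]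
      map_smul' := fun c v => by funext b; by_cases h : a b = j <;> simp [h] }
  let res : (Fin n' → k) →ₗ[k] ({b : Fin n' // a' b = j} → k) :=
    { toFun := fun w b => w b.1
      map_add' := fun _ _ => rfl
      map_smul' := fun _ _ => rfl }
  let f : ({b : Fin n // a b = j} → k) →ₗ[k] ({b : Fin n' // a' b = j} → k) :=
    res ∘ₗ Matrix.mulVecLin Θb ∘ₗ ext0
  have hinj : Function.Injective f := by
    rw [← LinearMap.ker_eq_bot, LinearMap.ker_eq_bot']
    intro v hv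
    have h0 : Θb.mulVec (ext0 v) = 0 := by
      funext i
      by_cases hi : a' i = j
      · exact congrFun hv ⟨i, hi⟩
      · rw [Matrix.mulVec, dotProduct, Pi.zero_apply]
        refine Finset.sum_eq_zero fun l _ => ?_
        by_cases hl : a l = j
        · rw [hzero i l (by rw [hl]; exact fun h => hi h.symm), zero_mul]
        · show Θb i l * (if h : a l = j then v ⟨l, h⟩ else 0) = 0
          rw [dif_neg hl, mul_zero]
    have h1 : ext0 v = 0 := by
      have := congrArg (fun x => Bb.mulVec x) h0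
      simpa [Matrix.mulVec_mulVec, hBΘ] using this
    funext b
    have := congrFun h1 b.1
    show v b = 0
    have h2 : ext0 v b.1 = v b := by
      show (if h : a b.1 = j then v ⟨b.1, h⟩ else 0) = v b
      rw [dif_pos b.2]
    rw [← h2, this]; rfl
  have := LinearMap.finrank_le_finrank_of_injective hinj
  rw [Module.finrank_fintype_fun_eq_card, Module.finrank_fintype_fun_eq_card,
    Fintype.card_subtype, Fintype.card_subtype] at this
  exact this

end Count

section Induct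

theorem map_ker_eq {R : Type*} [CommRing R] {A B C C' : Type*} [AddCommGroup A] [Module R A]
    [AddCommGroup B] [Module R B] [AddCommGroup C] [Module R C] [AddCommGroup C'] [Module R C']
    (Θ : A →ₗ[R] B) (p : A →ₗ[R] C) (p' : B →ₗ[R] C') (q : C →ₗ[R] C')
    (hq : Function.Injective q) (hΘ : Function.Surjective Θ) (hcomm : ∀ x, p' (Θ x) = q (p x)) :
    (LinearMap.ker p).map Θ = LinearMap.ker p' := by
  apply le_antisymm
  · rintro _ ⟨x, hx, rfl⟩
    rw [SetLike.mem_coe, LinearMap.mem_ker] at hx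
    rw [LinearMap.mem_ker, hcomm, hx, map_zero]
  · intro y hy
    obtain ⟨x, rfl⟩ := hΘ y
    refine ⟨x, ?_, rfl⟩
    rw [LinearMap.mem_ker, hcomm] at hy
    rw [SetLike.mem_coe, LinearMap.mem_ker]
    exact hq (by rw [hy, map_zero])

theorem G3_module (M : Type u) [AddCommGroup M] [Module k M] [Module S M]
    [IsScalarTower k S M]
    (ℳ : ℤ → Submodule k M) [DirectSum.Decomposition ℳ] [SetLike.GradedSMul 𝒜 ℳ] :
    ∀ (n : ℕ) (g : Fin n → M) (a : Fin n → ℤ), (∀ b, g b ∈ ((ℳ (a b) : Set M))) →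
      ∀ (c : Fin n → S) (e : ℤ), ∑ b, c b • g b ∈ ((ℳ e : Set M)) →
        ∑ b, (decompose 𝒜 (c b) (e - a b) : S) • g b = ∑ b, c b • g b := by
  intro n g a hg c e he
  have h1 := decompose_linearCombination 𝒜 ℳ a g hg e c
  rw [Fintype.linearCombination_apply, Fintype.linearCombination_apply,
    decompose_of_mem_same ℳ he] at h1
  exact h1.symm

theorem G3_sub {m : ℕ} (α : Fin m → ℤ) (K : Submodule S (Fin m → S)) :
    ∀ (n : ℕ) (g : Fin n → K) (a : Fin n → ℤ),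
      (∀ b, g b ∈ ({x : K | (x : Fin m → S) ∈ piece 𝒜 α (a b)} : Set K)) →
      ∀ (c : Fin n → S) (e : ℤ),
        ∑ b, c b • g b ∈ ({x : K | (x : Fin m → S) ∈ piece 𝒜 α e} : Set K) →
        ∑ b, (decompose 𝒜 (c b) (e - a b) : S) • g b = ∑ b, c b • g b := by
  intro n g a hg c e he
  apply Subtype.ext
  have hD : ∀ i j, (Matrix.of fun i b => (g b : Fin m → S) i) i j ∈ 𝒜 (a j - α i) :=
    fun i j => (mem_piece 𝒜).1 (hg j) i
  have h1 := coe_sum_smul K g c
  have h2 := coe_sum_smul K g (projv 𝒜 a e c)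
  rw [← projv_mulVec 𝒜 α a _ hD e c, ← h1, projv_of_mem 𝒜 he] at h2
  exact h2

/-- two minimal homogeneous presentations of the same graded submodule of a free module. -/
theorem exists_iso_sub {m n n' : ℕ} (α : Fin m → ℤ) (a : Fin n → ℤ) (a' : Fin n' → ℤ)
    (D : Matrix (Fin m) (Fin n) S) (D' : Matrix (Fin m) (Fin n') S)
    (hD : ∀ i j, D i j ∈ 𝒜 (a j - α i)) (hD' : ∀ i j, D' i j ∈ 𝒜 (a' j - α i))
    (hrange : LinearMap.range (Matrix.mulVecLin D) = LinearMap.range (Matrix.mulVecLin D'))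
    (hmin : ∀ c ∈ LinearMap.ker (Matrix.mulVecLin D), ∀ b, c b ∈ 𝔪)
    (hmin' : ∀ c ∈ LinearMap.ker (Matrix.mulVecLin D'), ∀ b, c b ∈ 𝔪) :
    ∃ Θ : Matrix (Fin n') (Fin n) S, (∀ i j, Θ i j ∈ 𝒜 (a j - a' i)) ∧
      (∀ c : Fin n → S, D'.mulVec (Θ.mulVec c) = D.mulVec c) ∧
      Function.Bijective (Matrix.mulVecLin Θ) := by
  classical
  obtain ⟨K, hK⟩ : ∃ K : Submodule S (Fin m → S), K = LinearMap.range (Matrix.mulVecLin D') :=
    ⟨_, rfl⟩
  have hrange' : LinearMap.range (Matrix.mulVecLin D) = K := by rw [hK, hrange]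
  let g : Fin n → K := fun b => ⟨Matrix.mulVecLin D (Pi.single b 1), by
    rw [← hrange']; exact ⟨_, rfl⟩⟩
  let g' : Fin n' → K := fun b => ⟨Matrix.mulVecLin D' (Pi.single b 1), by
    rw [hK]; exact ⟨_, rfl⟩⟩
  have hgcoe : ∀ b i, (g b : Fin m → S) i = D i b := by
    intro b i
    show (Matrix.mulVecLin D (Pi.single b 1)) i = D i b
    rw [Matrix.mulVecLin_apply, Matrix.mulVec_single_one]; rfl
  have hg'coe : ∀ b i, (g' b : Fin m → S) i = D' i b := by
    intro b i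
    show (Matrix.mulVecLin D' (Pi.single b 1)) i = D' i b
    rw [Matrix.mulVecLin_apply, Matrix.mulVec_single_one]; rfl
  have hMg : (Matrix.of fun i b => (g b : Fin m → S) i) = D :=
    Matrix.ext fun i b => hgcoe b i
  have hMg' : (Matrix.of fun i b => (g' b : Fin m → S) i) = D' :=
    Matrix.ext fun i b => hg'coe b i
  have hsum : ∀ c : Fin n → S, ((∑ b, c b • g b : K) : Fin m → S) = D.mulVec c := by
    intro c; rw [coe_sum_smul K g c, hMg]
  have hsum' : ∀ c : Fin n' → S, ((∑ b, c b • g' b : K) : Fin m → S) = D'.mulVec c := by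
    intro c; rw [coe_sum_smul K g' c, hMg']
  have hg : ∀ b, g b ∈ ({x : K | (x : Fin m → S) ∈ piece 𝒜 α (a b)} : Set K) := by
    intro b
    show (g b : Fin m → S) ∈ piece 𝒜 α (a b)
    rw [mem_piece]
    intro i
    rw [hgcoe]; exact hD i b
  have hg' : ∀ b, g' b ∈ ({x : K | (x : Fin m → S) ∈ piece 𝒜 α (a' b)} : Set K) := by
    intro b
    show (g' b : Fin m → S) ∈ piece 𝒜 α (a' b)
    rw [mem_piece]
    intro i
    rw [hg'coe]; exact hD' i b
  have hspan : Submodule.span S (Set.range g) = ⊤ := by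
    rw [eq_top_iff]
    rintro ⟨x, hx⟩ _
    have hx' : x ∈ LinearMap.range (Matrix.mulVecLin D) := by rw [hrange']; exact hx
    obtain ⟨c, rfl⟩ := hx'
    rw [Submodule.mem_span_range_iff_exists_fun]
    exact ⟨c, Subtype.ext (hsum c)⟩
  have hspan' : Submodule.span S (Set.range g') = ⊤ := by
    rw [eq_top_iff]
    rintro ⟨x, hx⟩ _
    have hx' : x ∈ LinearMap.range (Matrix.mulVecLin D') := by rw [← hK]; exact hx
    obtain ⟨c, rfl⟩ := hx'
    rw [Submodule.mem_span_range_iff_exists_fun]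
    exact ⟨c, Subtype.ext (hsum' c)⟩
  have hming : ∀ c : Fin n → S, ∑ b, c b • g b = 0 → ∀ b, c b ∈ 𝔪 := by
    intro c hc
    apply hmin
    rw [LinearMap.mem_ker, Matrix.mulVecLin_apply, ← hsum c, hc]; rfl
  have hming' : ∀ c : Fin n' → S, ∑ b, c b • g' b = 0 → ∀ b, c b ∈ 𝔪 := by
    intro c hc
    apply hmin'
    rw [LinearMap.mem_ker, Matrix.mulVecLin_apply, ← hsum' c, hc]; rfl
  obtain ⟨Θ, hΘd, hΘ, hΘbij⟩ := exists_iso_of_minimal
    (fun e => ({x : K | (x : Fin m → S) ∈ piece 𝒜 α e} : Set K)) (G3_sub α K)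
    g a hg g' a' hg' hspan hspan' hming hming'
  refine ⟨Θ, hΘd, fun c => ?_, hΘbij⟩
  rw [← hsum', ← hsum, hΘ c]

theorem exists_iso (M : Type u) [AddCommGroup M] [Module k M] [Module S M]
    [IsScalarTower k S M]
    (ℳ : ℤ → Submodule k M) [DirectSum.Decomposition ℳ] [SetLike.GradedSMul 𝒜 ℳ]
    (F F' : GrSyz.FreeRes 𝒜 ℳ) (hF : F.IsMinimal 𝔪) (hF' : F'.IsMinimal 𝔪) (i : ℕ) :
    ∃ Θ : Matrix (Fin (F'.rk i)) (Fin (F.rk i)) S,
      (∀ p q, Θ p q ∈ 𝒜 (F.deg i q - F'.deg i p)) ∧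
      Function.Bijective (Matrix.mulVecLin Θ) ∧
      (PdLen.Z F i).map (Matrix.mulVecLin Θ) = PdLen.Z F' i := by
  have h1 : (1 : S) ∉ 𝔪 := one_not_mem k (Fin (r + 1))
  induction i with
  | zero =>
    have hspan : ∀ G : GrSyz.FreeRes 𝒜 ℳ, Submodule.span S (Set.range G.aug) = ⊤ := by
      intro G
      rw [← Fintype.range_linearCombination, LinearMap.range_eq_top]
      exact G.aug_surjective
    have hmin : ∀ G : GrSyz.FreeRes 𝒜 ℳ, G.IsMinimal 𝔪 →
        ∀ c : Fin (G.rk 0) → S, ∑ b, c b • G.aug b = 0 → ∀ b, c b ∈ 𝔪 := by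
      intro G hG c hc b
      have hk : c ∈ LinearMap.ker G.augLin := by
        rw [LinearMap.mem_ker, Fintype.linearCombination_apply]; exact hc
      rw [G.exact_zero] at hk
      obtain ⟨v, rfl⟩ := hk
      rw [Matrix.mulVecLin_apply, Matrix.mulVec, dotProduct]
      exact Ideal.sum_mem _ fun l _ => Ideal.mul_mem_right _ _ (hG 0 b l)
    obtain ⟨Θ, hΘd, hΘ, hΘbij⟩ := exists_iso_of_minimal
      (fun e => ((ℳ e : Set M))) (G3_module M ℳ)
      F.aug (F.deg 0) F.aug_mem F'.aug (F'.deg 0) F'.aug_mem (hspan F) (hspan F')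
      (hmin F hF) (hmin F' hF')
    refine ⟨Θ, hΘd, hΘbij, ?_⟩
    refine map_ker_eq (Matrix.mulVecLin Θ) F.augLin F'.augLin LinearMap.id
      (fun _ _ h => h) hΘbij.2 ?_
    intro c
    rw [Fintype.linearCombination_apply, Matrix.mulVecLin_apply, hΘ c, LinearMap.id_apply,
      Fintype.linearCombination_apply]
  | succ i ih =>
    obtain ⟨Θi, hΘid, hΘibij, hΘiZ⟩ := ih
    have hDd := mul_mem (F.deg (i + 1)) (F.deg i) (F'.deg i) Θi (F.d i) hΘid (F.d_mem i)
    have hrange : LinearMap.range (Matrix.mulVecLin (Θi * F.d i)) =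
        LinearMap.range (Matrix.mulVecLin (F'.d i)) := by
      rw [Matrix.mulVecLin_mul, LinearMap.range_comp]
      have e1 : LinearMap.range (Matrix.mulVecLin (F.d i)) = PdLen.Z F i :=
        (PdLen.Z_eq_range F i).symm
      have e2 : LinearMap.range (Matrix.mulVecLin (F'.d i)) = PdLen.Z F' i :=
        (PdLen.Z_eq_range F' i).symm
      rw [e1, e2, hΘiZ]
    have hmin : ∀ c ∈ LinearMap.ker (Matrix.mulVecLin (Θi * F.d i)), ∀ b, c b ∈ 𝔪 := by
      intro c hc
      apply PdLen.mem_of_mem_ker F 𝔪 h1 hF i c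
      rw [LinearMap.mem_ker, Matrix.mulVecLin_mul, LinearMap.comp_apply] at hc
      rw [LinearMap.mem_ker]
      exact hΘibij.1 (by rw [hc, map_zero])
    have hmin' : ∀ c ∈ LinearMap.ker (Matrix.mulVecLin (F'.d i)), ∀ b, c b ∈ 𝔪 :=
      fun c hc => PdLen.mem_of_mem_ker F' 𝔪 h1 hF' i c hc
    obtain ⟨Θ, hΘd, hΘ, hΘbij⟩ := exists_iso_sub (F'.deg i) (F.deg (i + 1)) (F'.deg (i + 1))
      (Θi * F.d i) (F'.d i) hDd (F'.d_mem i) hrange hmin hmin'
    refine ⟨Θ, hΘd, hΘbij, ?_⟩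
    refine map_ker_eq (Matrix.mulVecLin Θ) (F.dLin i) (F'.dLin i) (Matrix.mulVecLin Θi)
      hΘibij.1 hΘbij.2 ?_
    intro c
    rw [Matrix.mulVecLin_apply, Matrix.mulVecLin_apply, hΘ c, Matrix.mulVecLin_apply,
      Matrix.mulVecLin_apply, Matrix.mulVec_mulVec]

theorem betti_le (M : Type u) [AddCommGroup M] [Module k M] [Module S M]
    [IsScalarTower k S M]
    (ℳ : ℤ → Submodule k M) [DirectSum.Decomposition ℳ] [SetLike.GradedSMul 𝒜 ℳ]
    (F F' : GrSyz.FreeRes 𝒜 ℳ) (hF : F.IsMinimal 𝔪) (hF' : F'.IsMinimal 𝔪) (i : ℕ) (j : ℤ) :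
    F.betti i j ≤ F'.betti i j := by
  obtain ⟨Θ, hΘd, hΘbij, -⟩ := exists_iso M ℳ F F' hF hF' i
  exact card_le_of_bijective (F.deg i) (F'.deg i) Θ hΘd hΘbij j

theorem betti_eq (M : Type u) [AddCommGroup M] [Module k M] [Module S M]
    [IsScalarTower k S M]
    (ℳ : ℤ → Submodule k M) [DirectSum.Decomposition ℳ] [SetLike.GradedSMul 𝒜 ℳ]
    (F F' : GrSyz.FreeRes 𝒜 ℳ) (hF : F.IsMinimal 𝔪) (hF' : F'.IsMinimal 𝔪) (i : ℕ) (j : ℤ) :
    F.betti i j = F'.betti i j :=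
  le_antisymm (betti_le M ℳ F F' hF hF' i j) (betti_le M ℳ F' F hF' hF i j)

end Induct

end Groth.Agent.Helper7.MinUniq
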