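import Mathlib
import Groth.Prelude.Def_GrSyz
import Groth.Agent.Helper7.MinUniq

set_option autoImplicit false

namespace Groth.Agent.Helper7.RegSup

open Groth.Agent.Helper7.MinUniq

universe u

/-- every extended integer is the infimum of the integers above it. -/
theorem iInf_ge_eq (s : WithBot (WithTop ℤ)) :
    (⨅ (r : ℤ) (_ : s ≤ ((r : WithTop ℤ) : WithBot (WithTop ℤ))), ((r : WithTop ℤ) : WithBot (WithTop ℤ))) = s := by
  apply le_antisymm
  · induction s using WithBot.recBotCoe with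
    | bot =>
      by_contra h
      have h1 : ∀ r : ℤ, (⨅ (r : ℤ) (_ : (⊥ : WithBot (WithTop ℤ)) ≤ ((r : WithTop ℤ) : WithBot (WithTop ℤ))),
          ((r : WithTop ℤ) : WithBot (WithTop ℤ))) ≤ ((r : WithTop ℤ) : WithBot (WithTop ℤ)) :=
        fun r => iInf₂_le (f := fun (r : ℤ) (_ : (⊥ : WithBot (WithTop ℤ)) ≤ ((r : WithTop ℤ) : WithBot (WithTop ℤ))) =>
          ((r : WithTop ℤ) : WithBot (WithTop ℤ))) r bot_le
      generalize (⨅ (r : ℤ) (_ : (⊥ : WithBot (WithTop ℤ)) ≤ ((r : WithTop ℤ) : WithBot (WithTop ℤ))),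
          ((r : WithTop ℤ) : WithBot (WithTop ℤ))) = y at h h1
      induction y using WithBot.recBotCoe with
      | bot => exact h le_rfl
      | coe w =>
        induction w using WithTop.recTopCoe with
        | top =>
          have := h1 0
          rw [WithBot.coe_le_coe] at this
          simp at this
        | coe t =>
          have := h1 (t - 1)
          rw [WithBot.coe_le_coe, WithTop.coe_le_coe] at this
          omega
    | coe w =>
      induction w using WithTop.recTopCoe with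
      | top => exact le_top
      | coe t => exact iInf₂_le (f := fun (r : ℤ) (_ : (((t : WithTop ℤ) : WithBot (WithTop ℤ))) ≤ ((r : WithTop ℤ) : WithBot (WithTop ℤ))) =>
          ((r : WithTop ℤ) : WithBot (WithTop ℤ))) t le_rfl
  · exact le_iInf₂ fun r hr => hr

section
variable {R : Type u} [CommRing R] {σ' : Type u} [SetLike σ' R] [AddSubgroupClass σ' R]
  {𝒜 : ℤ → σ'} {M : Type u} [AddCommGroup M] [Module R M] {τ : Type u} [SetLike τ M]
  [AddSubgroupClass τ M] {ℳ : ℤ → τ} [DirectSum.Decomposition ℳ] [SetLike.GradedSMul 𝒜 ℳ]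
  (F : GrSyz.FreeRes 𝒜 ℳ)

theorem map_le_iff (i : ℕ) (x : WithBot ℤ) (r : ℤ) :
    WithBot.map (fun t : ℤ => ((t - (i : ℤ) : ℤ) : WithTop ℤ)) x ≤ ((r : WithTop ℤ) : WithBot (WithTop ℤ)) ↔
      x ≤ ((r + i : ℤ) : WithBot ℤ) := by
  induction x using WithBot.recBotCoe with
  | bot => simp
  | coe t =>
    rw [WithBot.map_coe, WithBot.coe_le_coe, WithTop.coe_le_coe, WithBot.coe_le_coe]
    omega

theorem isGenLE_iff (r : ℤ) :
    F.IsGenLE r ↔ (⨆ i : ℕ, WithBot.map (fun t : ℤ => ((t - (i : ℤ) : ℤ) : WithTop ℤ)) (F.maxGenDeg i)) ≤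
      ((r : WithTop ℤ) : WithBot (WithTop ℤ)) := by
  rw [iSup_le_iff]
  unfold GrSyz.FreeRes.IsGenLE GrSyz.FreeRes.maxGenDeg
  refine forall_congr' fun i => ?_
  rw [map_le_iff, Finset.sup_le_iff]
  constructor
  · intro h b _
    exact WithBot.coe_le_coe.2 (h b)
  · intro h b
    exact WithBot.coe_le_coe.1 (h b (Finset.mem_univ b))

end

theorem reg_eq (k : Type u) [Field k] (r : ℕ)
    (M : Type u) [AddCommGroup M] [Module k M] [Module (MvPolynomial (Fin (r + 1)) k) M]
    [IsScalarTower k (MvPolynomial (Fin (r + 1)) k) M]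
    (ℳ : ℤ → Submodule k M) [DirectSum.Decomposition ℳ] [SetLike.GradedSMul (GrSyz.stdGr k (Fin (r + 1))) ℳ]
    (F : GrSyz.FreeRes (GrSyz.stdGr k (Fin (r + 1))) ℳ) (hF : F.IsMinimal (GrSyz.irrel (GrSyz.stdGr k (Fin (r + 1)))).toIdeal) :
    GrSyz.reg (GrSyz.stdGr k (Fin (r + 1))) ℳ (GrSyz.irrel (GrSyz.stdGr k (Fin (r + 1)))).toIdeal =
      ⨆ i : ℕ, WithBot.map (fun t : ℤ => ((t - (i : ℤ) : ℤ) : WithTop ℤ)) (F.maxGenDeg i) := by
  classical
  have key : ∀ d : ℤ, GrSyz.IsRegLE (GrSyz.stdGr k (Fin (r + 1))) ℳ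
      (GrSyz.irrel (GrSyz.stdGr k (Fin (r + 1)))).toIdeal d ↔ F.IsGenLE d := by
    intro d
    constructor
    · rintro ⟨F', hF', hgen⟩ i b
      have hb : 0 < F.betti i (F.deg i b) := by
        rw [GrSyz.FreeRes.betti, Finset.card_pos]
        exact ⟨b, by simp⟩
      rw [betti_eq M ℳ F F' hF hF' i (F.deg i b)] at hb
      rw [GrSyz.FreeRes.betti, Finset.card_pos] at hb
      obtain ⟨b', hb'⟩ := hb
      rw [Finset.mem_filter] at hb'
      rw [← hb'.2]
      exact hgen i b'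
    · intro h
      exact ⟨F, hF, h⟩
  unfold GrSyz.reg
  simp_rw [key, isGenLE_iff F]
  exact iInf_ge_eq _

end Groth.Agent.Helper7.RegSup
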