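import Mathlib
import Groth.Prelude.Def_GrSyz
import Groth.Prelude.Def_GrLC
import Groth.Agent.Helper7.GrTorBal
import Groth.Agent.Helper7.RegSup

/-!
# Existence of the resolution `K` of the residue field, and regularity via `Tor` vanishing
-/

set_option autoImplicit false
set_option linter.unusedSectionVars false
set_option linter.style.haveILetI false

open DirectSum MvPolynomial

namespace Groth.Agent.Helper7.GrTorK

open Groth.Agent.Helper7.HilbFn Groth.Agent.Helper7.GrSyzMin Groth.Agent.Helper7.MinRes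
  Groth.Agent.Helper7.GrTorV Groth.Agent.Helper7.GrTorS Groth.Agent.Helper7.GrTorBal
  Groth.Agent.Helper7

universe u

section Exists

variable (k : Type u) [Field k] (r : ℕ)

theorem mul_eq_zero_of_range_le_ker {R : Type*} [CommRing R] {a b c : ℕ}
    (A : Matrix (Fin a) (Fin b) R) (B : Matrix (Fin b) (Fin c) R)
    (h : LinearMap.range (Matrix.mulVecLin B) ≤ LinearMap.ker (Matrix.mulVecLin A)) :
    A * B = 0 := by
  classical
  have h1 : ∀ w, A.mulVec (B.mulVec w) = 0 := fun w => by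
    have : Matrix.mulVecLin B w ∈ LinearMap.ker (Matrix.mulVecLin A) := h ⟨w, rfl⟩
    exact this
  ext i j
  have := congrFun (h1 (Pi.single j 1)) i
  rw [Matrix.mulVec_mulVec, Matrix.mulVec_single_one] at this
  exact this

theorem exists_kres : Nonempty (KRes k r) := by
  classical
  let K0 : Submodule (MvPolynomial (Fin (r + 1)) k) (Fin 1 → MvPolynomial (Fin (r + 1)) k) :=
    Submodule.pi Set.univ (fun _ => (GrSyz.irrel (GrSyz.stdGr k (Fin (r + 1)))).toIdeal)
  have hK0 : ∀ v : Fin 1 → MvPolynomial (Fin (r + 1)) k, v ∈ K0 ↔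
      ∀ b, v b ∈ (GrSyz.irrel (GrSyz.stdGr k (Fin (r + 1)))).toIdeal := by
    intro v
    simp [K0, Submodule.mem_pi]
  let s0 : Stage k r := ⟨1, fun _ => 0, K0, by
    intro d v hv
    rw [hK0] at hv ⊢
    intro b
    exact (GrSyz.irrel (GrSyz.stdGr k (Fin (r + 1)))).isHomogeneous _ (hv b), fun v hv b => (hK0 v).1 hv b⟩
  have hex : ∀ q : ℕ, LinearMap.ker (Matrix.mulVecLin (stepData (stages s0 q)).D) =
      LinearMap.range (Matrix.mulVecLin (stepData (stages s0 (q + 1))).D) :=
    fun q => ((stepData (stages s0 (q + 1))).hrange).symm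
  refine ⟨{ rk := fun i => (stages s0 i).n
            deg := fun i => (stages s0 i).a
            d := fun i => (stepData (stages s0 i)).D
            d_mem := fun i => (stepData (stages s0 i)).hD
            d_comp := fun q => mul_eq_zero_of_range_le_ker _ _ (hex q).ge
            exact := hex
            rk_zero := rfl
            deg_zero := fun _ => rfl
            range_zero := ?_
            minimal := ?_ }⟩
  · intro s
    have hr : LinearMap.range (Matrix.mulVecLin (stepData (stages s0 0)).D) = K0 :=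
      (stepData (stages s0 0)).hrange
    constructor
    · intro hs
      have : (fun _ : Fin 1 => s) ∈ K0 := (hK0 _).2 fun _ => hs
      rw [← hr] at this
      obtain ⟨w, hw⟩ := this
      exact ⟨w, fun c => congrFun hw c⟩
    · rintro ⟨w, hw⟩
      have : Matrix.mulVecLin (stepData (stages s0 0)).D w ∈ K0 := by
        rw [← hr]; exact ⟨w, rfl⟩
      have h2 := (hK0 _).1 this 0
      rw [Matrix.mulVecLin_apply] at h2
      have h3 := hw (0 : Fin 1)
      rw [← h3]
      exact h2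
  · intro i a b
    have hcol : (Matrix.mulVecLin (stepData (stages s0 i)).D) (Pi.single b 1) ∈ (stages s0 i).K := by
      rw [← (stepData (stages s0 i)).hrange]
      exact ⟨_, rfl⟩
    have := (stages s0 i).minimal _ hcol a
    rw [Matrix.mulVecLin_apply, Matrix.mulVec_single_one] at this
    exact this

end Exists

variable {k : Type u} [Field k] {r : ℕ}

local notation "S" => MvPolynomial (Fin (r + 1)) k
local notation "𝒜" => GrSyz.stdGr k (Fin (r + 1))
local notation "𝔪" => HomogeneousIdeal.toIdeal (GrSyz.irrel (GrSyz.stdGr k (Fin (r + 1))))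

section Reg

variable (K : KRes k r)
  (M : Type u) [AddCommGroup M] [Module k M] [Module (MvPolynomial (Fin (r + 1)) k) M]
  [IsScalarTower k (MvPolynomial (Fin (r + 1)) k) M]
  (ℳ : ℤ → Submodule k M) [DirectSum.Decomposition ℳ]
  [SetLike.GradedSMul (GrSyz.stdGr k (Fin (r + 1))) ℳ]

/-- for a minimal resolution: generated in degrees `≤ ρ + q` iff `Tor` vanishes above. -/
theorem isGenLE_iff_tvan (F : GrSyz.FreeRes 𝒜 ℳ) (hF : F.IsMinimal 𝔪) (ρ : ℤ) :
    F.IsGenLE ρ ↔ ∀ (q : ℕ) (j : ℤ), ρ + q < j → Tvan K.toCx ℳ q j := by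
  constructor
  · intro h q j hj
    rw [tvan_iff F hF K q j]
    intro b hb
    have := h q b
    omega
  · intro h q b
    by_contra hcon
    push Not at hcon
    have := (tvan_iff F hF K q (F.deg q b)).1 (h q _ hcon) b
    exact this rfl

theorem isRegLE_iff_tvan [Module.Finite (MvPolynomial (Fin (r + 1)) k) M] (ρ : ℤ) :
    GrSyz.IsRegLE 𝒜 ℳ 𝔪 ρ ↔ ∀ (q : ℕ) (j : ℤ), ρ + q < j → Tvan K.toCx ℳ q j := by
  constructor
  · rintro ⟨F, hF, hgen⟩
    exact (isGenLE_iff_tvan K M ℳ F hF ρ).1 hgen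
  · intro h
    obtain ⟨F, hF⟩ := exists_minimal_res (k := k) (r := r) M ℳ
    exact ⟨F, hF, (isGenLE_iff_tvan K M ℳ F hF ρ).2 h⟩

end Reg

section Hom

variable {M₁ M₂ : Type u} [AddCommGroup M₁] [Module k M₁]
  [Module (MvPolynomial (Fin (r + 1)) k) M₁] [IsScalarTower k (MvPolynomial (Fin (r + 1)) k) M₁]
  [AddCommGroup M₂] [Module k M₂]
  [Module (MvPolynomial (Fin (r + 1)) k) M₂] [IsScalarTower k (MvPolynomial (Fin (r + 1)) k) M₂]
  (ℳ₁ : ℤ → Submodule k M₁) [DirectSum.Decomposition ℳ₁]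
  (ℳ₂ : ℤ → Submodule k M₂) [DirectSum.Decomposition ℳ₂]

theorem decompose_map (f : M₁ →ₗ[MvPolynomial (Fin (r + 1)) k] M₂) (hf : GrLC.IsGrHom ℳ₁ ℳ₂ f)
    (x : M₁) (e : ℤ) : (decompose ℳ₂ (f x) e : M₂) = f (decompose ℳ₁ x e : M₁) := by
  classical
  refine DirectSum.Decomposition.inductionOn ℳ₁ (motive := fun x =>
    (decompose ℳ₂ (f x) e : M₂) = f (decompose ℳ₁ x e : M₁)) ?_ ?_ ?_ x
  · simp
  · intro i a
    have h1 : f (a : M₁) ∈ ℳ₂ i := hf i _ a.2
    by_cases h : i = e
    · subst h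
      rw [decompose_of_mem_same ℳ₂ h1, decompose_of_mem_same ℳ₁ a.2]
    · rw [decompose_of_mem_ne ℳ₂ h1 h, decompose_of_mem_ne ℳ₁ a.2 h, map_zero]
  · intro a b ha hb
    simp only [map_add, decompose_add, DirectSum.add_apply, Submodule.coe_add, ha, hb]

end Hom

section SES

variable {M₁ M₂ M₃ : Type u} [AddCommGroup M₁] [Module k M₁]
  [Module (MvPolynomial (Fin (r + 1)) k) M₁] [IsScalarTower k (MvPolynomial (Fin (r + 1)) k) M₁]
  [AddCommGroup M₂] [Module k M₂]
  [Module (MvPolynomial (Fin (r + 1)) k) M₂] [IsScalarTower k (MvPolynomial (Fin (r + 1)) k) M₂]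
  [AddCommGroup M₃] [Module k M₃]
  [Module (MvPolynomial (Fin (r + 1)) k) M₃] [IsScalarTower k (MvPolynomial (Fin (r + 1)) k) M₃]
  (ℳ₁ : ℤ → Submodule k M₁) [DirectSum.Decomposition ℳ₁]
  (ℳ₂ : ℤ → Submodule k M₂) [DirectSum.Decomposition ℳ₂]
  (ℳ₃ : ℤ → Submodule k M₃) [DirectSum.Decomposition ℳ₃]

theorem grSES_of_exact (f : M₁ →ₗ[MvPolynomial (Fin (r + 1)) k] M₂)
    (g : M₂ →ₗ[MvPolynomial (Fin (r + 1)) k] M₃)
    (hf : Function.Injective f) (hg : Function.Surjective g)
    (hfg : LinearMap.range f = LinearMap.ker g)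
    (hfgr : GrLC.IsGrHom ℳ₁ ℳ₂ f) (hggr : GrLC.IsGrHom ℳ₂ ℳ₃ g) :
    GrSES ℳ₁ ℳ₂ ℳ₃ f g where
  f_inj := hf
  f_mem := hfgr
  f_strict d x hx := by
    classical
    have h1 : ∀ e, e ≠ d → (decompose ℳ₁ x e : M₁) = 0 := by
      intro e he
      apply hf
      rw [← decompose_map ℳ₁ ℳ₂ f hfgr, map_zero, decompose_of_mem_ne ℳ₂ hx (Ne.symm he)]
    rw [← DirectSum.sum_support_decompose ℳ₁ x]
    refine Submodule.sum_mem _ fun e _ => ?_
    by_cases he : e = d
    · subst he
      exact SetLike.coe_mem _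
    · rw [h1 e he]
      exact zero_mem _
  g_mem := hggr
  g_surj d z hz := by
    obtain ⟨y, rfl⟩ := hg z
    refine ⟨(decompose ℳ₂ y d : M₂), SetLike.coe_mem _, ?_⟩
    rw [← decompose_map ℳ₂ ℳ₃ g hggr]
    exact decompose_of_mem_same ℳ₃ hz
  comp_zero x := by
    have : f x ∈ LinearMap.ker g := by rw [← hfg]; exact ⟨x, rfl⟩
    exact this
  exact y hy := by
    have : y ∈ LinearMap.range f := by rw [hfg]; exact hy
    exact this

end SES

end Groth.Agent.Helper7.GrTorK
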