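import Mathlib
import Groth.Prelude.Def_GrSyz
import Groth.Agent.Helper7.GrTorK

/-!
# The minimal resolution of the residue field is linear of length `r + 1`
-/

set_option autoImplicit false
set_option linter.unusedSectionVars false
set_option linter.style.haveILetI false

open DirectSum MvPolynomial

namespace Groth.Agent.Helper7.GrTorKos

open Groth.Agent.Helper7.HilbFn Groth.Agent.Helper7.GrSyzMin Groth.Agent.Helper7.MinRes
  Groth.Agent.Helper7.GrTorV Groth.Agent.Helper7.GrTorS Groth.Agent.Helper7.GrTorBal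
  Groth.Agent.Helper7.GrTorK Groth.Agent.Helper7

universe u

variable {k : Type u} [Field k] {r : ℕ}

local notation "S" => MvPolynomial (Fin (r + 1)) k
local notation "𝒜" => GrSyz.stdGr k (Fin (r + 1))
local notation "𝔪" => HomogeneousIdeal.toIdeal (GrSyz.irrel (GrSyz.stdGr k (Fin (r + 1))))

/-- the pieces of a quotient of the polynomial ring. -/
noncomputable def qgr (I : Ideal (MvPolynomial (Fin (r + 1)) k)) (d : ℤ) :
    AddSubgroup (MvPolynomial (Fin (r + 1)) k ⧸ I) :=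
  (𝒜 d).toAddSubgroup.map I.mkQ.toAddMonoidHom

theorem mem_qgr {I : Ideal S} {d : ℤ} {x : S ⧸ I} :
    x ∈ qgr I d ↔ ∃ t ∈ 𝒜 d, I.mkQ t = x := by
  unfold qgr
  rw [AddSubgroup.mem_map]
  rfl

theorem gsmul_qgr (I : Ideal S) : GSMul (R := S) 𝒜 (qgr I) := by
  intro a b s x hs hx
  rw [mem_qgr] at hx ⊢
  obtain ⟨t, ht, rfl⟩ := hx
  refine ⟨s * t, SetLike.GradedMul.mul_mem hs ht, ?_⟩
  rw [← smul_eq_mul, map_smul]

theorem X_mem (c : Fin (r + 1)) : (X c : S) ∈ 𝒜 1 := by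
  rw [GrSyz.mem_stdGr_iff]
  exact isWeightedHomogeneous_X k _ c

section LemmaE

variable (K : KRes k r) (I : Ideal (MvPolynomial (Fin (r + 1)) k))
  (hI : HomogeneousIdeal.toIdeal (GrSyz.irrel (GrSyz.stdGr k (Fin (r + 1)))) ≤ I)
  (hI1 : (1 : MvPolynomial (Fin (r + 1)) k) ∉ I)

include hI in
theorem act_eq_zero {q : ℕ} (w : Fin (K.rk (q + 1)) → S ⧸ I) : act (K.d q) w = 0 := by
  funext i
  rw [act_apply]
  refine Finset.sum_eq_zero fun c _ => ?_
  obtain ⟨t, ht⟩ := I.mkQ_surjective (w c)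
  rw [← ht, ← map_smul]
  show Submodule.Quotient.mk _ = 0
  rw [Submodule.Quotient.mk_eq_zero, smul_eq_mul]
  exact I.mul_mem_right _ (hI (K.minimal q i c))

include hI hI1 in
theorem ne_of_tvan_residue (q : ℕ) (j : ℤ) (h : Tvan K.toCx (qgr I) q j) :
    ∀ c, K.deg q c ≠ j := by
  classical
  intro c1 hc1
  have hv : InStr (qgr I) (K.deg q) j (Pi.single c1 (I.mkQ 1)) := by
    intro c
    by_cases hc : c = c1
    · subst hc
      rw [Pi.single_eq_same, hc1, sub_self, mem_qgr]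
      exact ⟨1, SetLike.GradedOne.one_mem, rfl⟩
    · rw [Pi.single_eq_of_ne hc]
      exact zero_mem _
  have hcyc : IsCyc K.toCx q (Pi.single c1 (I.mkQ 1)) := by
    cases q with
    | zero => trivial
    | succ q => exact act_eq_zero K I hI _
  obtain ⟨w, _, hdw⟩ := h _ hv hcyc
  rw [act_eq_zero K I hI] at hdw
  have := congrFun hdw c1
  rw [Pi.single_eq_same, Pi.zero_apply] at this
  apply hI1
  have h2 : (Submodule.Quotient.mk (1 : S) : S ⧸ I) = 0 := this.symm
  rwa [Submodule.Quotient.mk_eq_zero] at h2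

end LemmaE

section Zero

variable (K : KRes k r) (I : Ideal (MvPolynomial (Fin (r + 1)) k))
  (hI : I ≤ HomogeneousIdeal.toIdeal (GrSyz.irrel (GrSyz.stdGr k (Fin (r + 1)))))

include hI in
theorem tvan_quot_zero (j : ℤ) (hj : j ≠ 0) : Tvan K.toCx (qgr I) 0 j := by
  refine tvan_zero_of_ne K (qgr I) (gsmul_qgr I) (fun _ : Fin 1 => I.mkQ 1) (fun _ => 0) ?_ ?_ j
    (fun _ => hj.symm)
  · intro _
    rw [mem_qgr]
    exact ⟨1, SetLike.GradedOne.one_mem, rfl⟩
  · intro d x hx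
    rw [mem_qgr] at hx
    obtain ⟨t, ht, rfl⟩ := hx
    refine ⟨fun _ => t, fun _ => by rwa [sub_zero], ?_⟩
    rw [Fin.sum_univ_one, ← map_smul, smul_eq_mul, mul_one]

end Zero

/-- the ideal generated by the first `i` variables. -/
noncomputable def Iv (k : Type u) [Field k] (r : ℕ) (i : ℕ) : Ideal (MvPolynomial (Fin (r + 1)) k) :=
  Ideal.span (X '' {c : Fin (r + 1) | c.val < i})

theorem Iv_le_irrel (i : ℕ) : Iv k r i ≤ 𝔪 := by
  unfold Iv
  rw [Ideal.span_le]
  rintro _ ⟨c, _, rfl⟩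
  exact Ideal.subset_span ⟨1, one_pos, X_mem c⟩

theorem Iv_zero : Iv k r 0 = ⊥ := by
  unfold Iv
  simp

theorem Iv_isHomogeneous (i : ℕ) : (Iv k r i).IsHomogeneous 𝒜 := by
  unfold Iv
  refine Ideal.homogeneous_span 𝒜 _ ?_
  rintro _ ⟨c, _, rfl⟩
  exact ⟨1, X_mem c⟩

theorem Iv_succ (i : ℕ) (hi : i < r + 1) :
    Iv k r (i + 1) = Iv k r i ⊔ Ideal.span {(X ⟨i, hi⟩ : S)} := by
  unfold Iv
  have : {c : Fin (r + 1) | c.val < i + 1} = {c : Fin (r + 1) | c.val < i} ∪ {⟨i, hi⟩} := by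
    ext c
    simp only [Set.mem_ofPred_eq, Set.union_singleton, Set.mem_insert_iff, Fin.ext_iff]
    omega
  rw [this, Set.image_union, Ideal.span_union, Set.image_singleton]

theorem mem_Iv_of_X_mul (i : ℕ) (hi : i < r + 1) (s : S)
    (h : (X (⟨i, hi⟩ : Fin (r + 1)) : S) * s ∈ Iv k r i) :
    s ∈ Iv k r i := by
  classical
  unfold Iv at h ⊢
  rw [mem_ideal_span_X_image] at h ⊢
  intro m hm
  have h1 : Finsupp.single (⟨i, hi⟩ : Fin (r + 1)) 1 + m ∈
      ((X (⟨i, hi⟩ : Fin (r + 1)) : S) * s).support := by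
    rw [mem_support_iff, coeff_X_mul]
    exact mem_support_iff.1 hm
  obtain ⟨c, hc, hmc⟩ := h _ h1
  refine ⟨c, hc, ?_⟩
  have hne : (⟨i, hi⟩ : Fin (r + 1)) ≠ c := by
    intro he
    rw [Set.mem_ofPred_eq, ← he] at hc
    exact lt_irrefl _ hc
  rw [Finsupp.add_apply, Finsupp.single_eq_of_ne' hne, zero_add] at hmc
  exact hmc

theorem Iv_top_eq : 𝔪 ≤ Iv k r (r + 1) := by
  change Ideal.span _ ≤ _
  rw [Ideal.span_le]
  rintro p ⟨n, hn, hp⟩
  unfold Iv
  rw [SetLike.mem_coe, mem_ideal_span_X_image]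
  intro m hm
  rw [GrSyz.mem_stdGr_iff] at hp
  have hm0 : m ≠ 0 := by
    rintro rfl
    have := hp (mem_support_iff.1 hm)
    rw [map_zero] at this
    omega
  obtain ⟨c, hc⟩ : ∃ c, m c ≠ 0 := by
    by_contra hcon
    push Not at hcon
    exact hm0 (Finsupp.ext hcon)
  exact ⟨c, c.isLt, hc⟩

theorem one_not_mem_Iv (i : ℕ) : (1 : S) ∉ Iv k r i := fun h =>
  one_not_mem k (Fin (r + 1)) (Iv_le_irrel i h)

section Chain

variable (i : ℕ) (hi : i < r + 1)

local notation "xi" => (X (Fin.mk i hi : Fin (r + 1)) : MvPolynomial (Fin (r + 1)) k)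

/-- multiplication by the `i`-th variable on `S / I_i`. -/
noncomputable def mulX : (S ⧸ Iv k r i) →ₗ[S] (S ⧸ Iv k r i) :=
  xi • LinearMap.id

/-- the projection `S / I_i → S / I_{i+1}`. -/
noncomputable def proj : (S ⧸ Iv k r i) →ₗ[S] (S ⧸ Iv k r (i + 1)) :=
  Submodule.mapQ (Iv k r i) (Iv k r (i + 1)) LinearMap.id (by
    rw [Iv_succ i hi]
    exact le_sup_left)

theorem mulX_mk (s : S) : mulX i hi ((Iv k r i).mkQ s) = (Iv k r i).mkQ (xi * s) := by
  unfold mulX
  rw [LinearMap.smul_apply, LinearMap.id_apply, ← map_smul, smul_eq_mul]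

theorem proj_mk (s : S) : proj i hi ((Iv k r i).mkQ s) = (Iv k r (i + 1)).mkQ s := by
  unfold proj
  rw [Submodule.mkQ_apply, Submodule.mapQ_apply]
  rfl

theorem ses_chain : GrSES (fun d => qgr (Iv k r i) (d - 1)) (qgr (Iv k r i)) (qgr (Iv k r (i + 1)))
    (mulX i hi) (proj i hi) where
  f_inj := by
    rw [← LinearMap.ker_eq_bot, eq_bot_iff]
    intro x hx
    obtain ⟨s, rfl⟩ := (Iv k r i).mkQ_surjective x
    rw [LinearMap.mem_ker, mulX_mk, Submodule.mkQ_apply, Submodule.Quotient.mk_eq_zero] at hx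
    rw [Submodule.mem_bot, Submodule.mkQ_apply, Submodule.Quotient.mk_eq_zero]
    exact mem_Iv_of_X_mul i hi s hx
  f_mem d x hx := by
    rw [mem_qgr] at hx ⊢
    obtain ⟨t, ht, rfl⟩ := hx
    refine ⟨xi * t, ?_, (mulX_mk i hi t).symm⟩
    have := SetLike.GradedMul.mul_mem (X_mem (k := k) (⟨i, hi⟩ : Fin (r + 1))) ht
    rwa [show (1 : ℤ) + (d - 1) = d by ring] at this
  f_strict d x hx := by
    classical
    obtain ⟨s, rfl⟩ := (Iv k r i).mkQ_surjective x
    rw [mem_qgr] at hx ⊢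
    obtain ⟨t, ht, hts⟩ := hx
    rw [mulX_mk, Submodule.mkQ_apply, Submodule.mkQ_apply, Submodule.Quotient.eq] at hts
    -- hts : t - X * s ∈ I
    refine ⟨(decompose 𝒜 s (d - 1) : S), SetLike.coe_mem _, ?_⟩
    rw [Submodule.mkQ_apply, Submodule.mkQ_apply, Submodule.Quotient.eq]
    have hcomp := Iv_isHomogeneous (k := k) (r := r) i d hts
    have e1 : (decompose 𝒜 (t - xi * s) d : S) =
        t - xi * (decompose 𝒜 s (d - 1) : S) := by
      rw [decompose_sub, DirectSum.sub_apply, AddSubgroupClass.coe_sub, decompose_of_mem_same 𝒜 ht]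
      congr 1
      have := coe_decompose_mul_add_of_left_mem 𝒜 (i := 1) (j := d - 1) (b := s)
        (X_mem (k := k) (⟨i, hi⟩ : Fin (r + 1)))
      rwa [show (1 : ℤ) + (d - 1) = d by ring] at this
    rw [e1] at hcomp
    apply mem_Iv_of_X_mul i hi
    have : xi * ((decompose 𝒜 s (d - 1) : S) - s) =
        (t - xi * s) - (t - xi * (decompose 𝒜 s (d - 1) : S)) := by ring
    rw [this]
    exact Ideal.sub_mem _ hts hcomp
  g_mem d y hy := by
    rw [mem_qgr] at hy ⊢
    obtain ⟨t, ht, rfl⟩ := hy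
    exact ⟨t, ht, (proj_mk i hi t).symm⟩
  g_surj d z hz := by
    rw [mem_qgr] at hz
    obtain ⟨t, ht, rfl⟩ := hz
    exact ⟨(Iv k r i).mkQ t, mem_qgr.2 ⟨t, ht, rfl⟩, proj_mk i hi t⟩
  comp_zero x := by
    obtain ⟨s, rfl⟩ := (Iv k r i).mkQ_surjective x
    rw [mulX_mk, proj_mk, Submodule.mkQ_apply, Submodule.Quotient.mk_eq_zero, Iv_succ i hi]
    exact Ideal.mul_mem_right _ _ (Ideal.mem_sup_right (Ideal.subset_span rfl))
  exact y hy := by
    obtain ⟨s, rfl⟩ := (Iv k r i).mkQ_surjective y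
    rw [proj_mk, Submodule.mkQ_apply, Submodule.Quotient.mk_eq_zero, Iv_succ i hi,
      Submodule.mem_sup] at hy
    obtain ⟨a, ha, b, hb, hab⟩ := hy
    rw [Ideal.mem_span_singleton'] at hb
    obtain ⟨b', rfl⟩ := hb
    refine ⟨(Iv k r i).mkQ b', ?_⟩
    rw [mulX_mk, Submodule.mkQ_apply, Submodule.mkQ_apply, Submodule.Quotient.eq, ← hab]
    have : xi * b' - (a + b' * xi) = -a := by ring
    rw [this]
    exact (Ideal.neg_mem_iff _).2 ha

end Chain

section Main

variable (K : KRes k r)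

/-- the base of the induction: `S / I_0 = S` is acyclic. -/
theorem tvan_base (q : ℕ) (j : ℤ) : Tvan K.toCx (qgr (Iv k r 0)) (q + 1) j := by
  have h0 : Iv k r 0 = ⊥ := Iv_zero
  let e : (Fin 1 → S) ≃ₗ[S] (S ⧸ Iv k r 0) :=
    (LinearEquiv.funUnique (Fin 1) S S).trans (Submodule.quotEquivOfEqBot (Iv k r 0) h0).symm
  have he : ∀ v : Fin 1 → S, e v = (Iv k r 0).mkQ (v 0) := fun v => rfl
  refine Tvan.of_equiv K.toCx e ?_ (tvan_free K (fun _ : Fin 1 => (0 : ℤ)) q j)
  intro d v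
  rw [he, mem_qgr, mem_piece]
  constructor
  · intro h
    have := h 0
    rw [sub_zero] at this
    exact ⟨v 0, this, rfl⟩
  · rintro ⟨t, ht, hts⟩ b
    rw [Submodule.mkQ_apply, Submodule.mkQ_apply, Submodule.Quotient.eq, h0, Submodule.mem_bot,
      sub_eq_zero] at hts
    rw [Fin.eq_zero b, sub_zero, ← hts]
    exact ht

theorem tvan_chain (i : ℕ) (hi : i ≤ r + 1) :
    ∀ (q : ℕ) (j : ℤ), ¬ (j = q ∧ q ≤ i) → Tvan K.toCx (qgr (Iv k r i)) q j := by
  induction i with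
  | zero =>
    intro q j hqj
    cases q with
    | zero =>
      refine tvan_quot_zero K _ (Iv_le_irrel 0) j ?_
      intro hj
      exact hqj ⟨by simpa using hj, le_rfl⟩
    | succ q => exact tvan_base K q j
  | succ i ih =>
    have hi' : i < r + 1 := hi
    intro q j hqj
    cases q with
    | zero =>
      refine tvan_quot_zero K _ (Iv_le_irrel (i + 1)) j ?_
      intro hj
      exact hqj ⟨by simpa using hj, Nat.zero_le _⟩
    | succ q =>
      refine (ses_chain i hi').tvan₃ K.toCx (gsmul_qgr _) q j (ih (le_of_lt hi') (q + 1) j ?_) ?_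
      · rintro ⟨h1, h2⟩
        exact hqj ⟨h1, by omega⟩
      · rw [tvan_shift]
        refine ih (le_of_lt hi') q (j - 1) ?_
        rintro ⟨h1, h2⟩
        refine hqj ⟨?_, by omega⟩
        push_cast
        omega

/-- **the resolution of the residue field is linear of length `r + 1`**. -/
theorem deg_eq (q : ℕ) (c : Fin (K.rk q)) : K.deg q c = q ∧ q ≤ r + 1 := by
  by_contra hcon
  have h1 := tvan_chain K (r + 1) le_rfl q (K.deg q c) hcon
  exact ne_of_tvan_residue K (Iv k r (r + 1)) Iv_top_eq (one_not_mem_Iv (k := k) (r + 1)) q _ h1 c rfl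

theorem rk_eq_zero (q : ℕ) (hq : r + 1 < q) : K.rk q = 0 := by
  by_contra h
  have c : Fin (K.rk q) := ⟨0, Nat.pos_of_ne_zero h⟩
  have := (deg_eq K q c).2
  omega

end Main

end Groth.Agent.Helper7.GrTorKos
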