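import Mathlib
import Groth.Prelude.Def_GrSyz
import Groth.Agent.Helper7.GrCoreg
import Groth.Agent.Helper7.GrStarDiv

/-!
# Ungraded Koszul-type homology `H_q(K ⊗ N)` for the resolution `K` of the residue field:
the two diagram chases along `0 → N → N → N/rN → 0`
-/

set_option autoImplicit false
set_option linter.unusedSectionVars false
set_option linter.style.haveILetI false

open DirectSum MvPolynomial
open scoped Pointwise

namespace Groth.Agent.Helper7.ABu

open Groth.Agent.Helper7.HilbFn Groth.Agent.Helper7.GrSyzMin Groth.Agent.Helper7.MinRes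
  Groth.Agent.Helper7.GrTorV Groth.Agent.Helper7.GrTorS Groth.Agent.Helper7.GrTorBal
  Groth.Agent.Helper7.GrTorK Groth.Agent.Helper7.GrTorKos Groth.Agent.Helper7.GrTorTop
  Groth.Agent.Helper7.GrKHtpy Groth.Agent.Helper7.GrCoreg Groth.Agent.Helper7

universe u v₁

variable {k : Type u} [Field k] {r : ℕ}

local notation "S" => MvPolynomial (Fin (r + 1)) k
local notation "𝒜" => GrSyz.stdGr k (Fin (r + 1))
local notation "𝔪" => HomogeneousIdeal.toIdeal (GrSyz.irrel (GrSyz.stdGr k (Fin (r + 1))))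

variable (K : KRes k r)

/-- ungraded vanishing of `H_q(K ⊗ N)` -/
def UT (N : Type v₁) [AddCommGroup N] [Module (MvPolynomial (Fin (r + 1)) k) N] (q : ℕ) : Prop :=
  ∀ v : Fin (K.rk q) → N, IsCyc K.toCx q v → ∃ w : Fin (K.rk (q + 1)) → N, act (K.d q) w = v

variable {N : Type v₁} [AddCommGroup N] [Module (MvPolynomial (Fin (r + 1)) k) N]

theorem x_smul_cyc (x : S) (hx : x ∈ 𝒜 1) (q : ℕ) (y : Fin (K.rk q) → N)
    (hcyc : IsCyc K.toCx q y) : ∃ u : Fin (K.rk (q + 1)) → N, act (K.d q) u = x • y := by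
  obtain ⟨s, g, _, heq, _, hg⟩ := exists_htpy.{u, v₁} K x hx q
  refine ⟨act s y, ?_⟩
  rw [← act_mul, eq_sub_of_add_eq heq]
  have : x • (1 : Matrix (Fin (K.rk q)) (Fin (K.rk q)) S) - g =
      x • (1 : Matrix (Fin (K.rk q)) (Fin (K.rk q)) S) + (-g) := sub_eq_add_neg _ _
  rw [this, act_matrix_add, act_smul_one]
  have h2 : act (-g) y = - act g y := by
    funext i
    simp [act_apply]
  rw [h2, hg N y hcyc, neg_zero, add_zero]

theorem isCyc_smul (s : S) (q : ℕ) (y : Fin (K.rk q) → N) (hcyc : IsCyc K.toCx q y) :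
    IsCyc K.toCx q (s • y) := by
  cases q with
  | zero => trivial
  | succ q =>
    show act (K.d q) (s • y) = 0
    rw [act_smul]
    have : act (K.d q) y = 0 := hcyc
    rw [this, smul_zero]

/-- multiplication by an element of the irrelevant ideal kills `H_q(K ⊗ N)` -/
theorem smul_cyc (s : S) (hs : s ∈ 𝔪) (q : ℕ) (y : Fin (K.rk q) → N)
    (hcyc : IsCyc K.toCx q y) : ∃ u : Fin (K.rk (q + 1)) → N, act (K.d q) u = s • y := by
  rw [GrStarDiv.irrel_eq_idealOfVars] at hs
  obtain ⟨c, hc⟩ := (Ideal.mem_span_range_iff_exists_fun).mp hs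
  choose u hu using fun v : Fin (r + 1) => x_smul_cyc K (X v : S) (X_mem v) q y hcyc
  refine ⟨∑ v, c v • u v, ?_⟩
  rw [act_sum, ← hc, Finset.sum_smul]
  refine Finset.sum_congr rfl fun v _ => ?_
  rw [act_smul, hu v, smul_smul]

section Quot

variable (r₀ : MvPolynomial (Fin (r + 1)) k)

theorem exists_lift {m : ℕ} (v' : Fin m → QuotSMulTop r₀ N) :
    ∃ v : Fin m → N, (Submodule.mkQ (r₀ • (⊤ : Submodule (MvPolynomial (Fin (r + 1)) k) N))) ∘ v = v' := by
  choose v hv using fun c => Submodule.mkQ_surjective (r₀ • (⊤ : Submodule (MvPolynomial (Fin (r + 1)) k) N)) (v' c)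
  exact ⟨v, funext hv⟩

theorem exists_smul_of_mk_eq_zero {m : ℕ} (x : Fin m → N)
    (hx : (Submodule.mkQ (r₀ • (⊤ : Submodule (MvPolynomial (Fin (r + 1)) k) N))) ∘ x = 0) :
    ∃ y : Fin m → N, x = r₀ • y := by
  have : ∀ c, ∃ yc : N, x c = r₀ • yc := by
    intro c
    have h1 := congrFun hx c
    simp only [Function.comp_apply, Pi.zero_apply, Submodule.mkQ_apply,
      Submodule.Quotient.mk_eq_zero] at h1
    obtain ⟨yc, -, hyc⟩ := (Submodule.mem_smul_pointwise_iff_exists _ _ _).mp h1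
    exact ⟨yc, hyc.symm⟩
  choose y hy using this
  exact ⟨y, funext hy⟩

theorem mk_comp_smul {m : ℕ} (y : Fin m → N) :
    (Submodule.mkQ (r₀ • (⊤ : Submodule (MvPolynomial (Fin (r + 1)) k) N))) ∘ (r₀ • y) = 0 := by
  funext c
  simp only [Function.comp_apply, Pi.smul_apply, Pi.zero_apply, Submodule.mkQ_apply,
    Submodule.Quotient.mk_eq_zero]
  exact Submodule.smul_mem_pointwise_smul _ _ _ Submodule.mem_top

variable {r₀}

theorem smul_cancel (hreg : IsSMulRegular N r₀) {m : ℕ} {a b : Fin m → N}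
    (h : r₀ • a = r₀ • b) : a = b := by
  funext c
  exact hreg (congrFun h c)

/-- chase A: vanishing for `N/r₀N` one step up gives vanishing for `N` -/
theorem ut_of_quot (hr₀ : r₀ ∈ 𝔪) (hreg : IsSMulRegular N r₀) (i : ℕ)
    (h : UT K (QuotSMulTop r₀ N) (i + 1)) : UT K N i := by
  intro v hv
  obtain ⟨w, hw⟩ := smul_cyc K r₀ hr₀ i v hv
  set π := Submodule.mkQ (r₀ • (⊤ : Submodule (MvPolynomial (Fin (r + 1)) k) N)) with hπ
  have hcyc : IsCyc K.toCx (i + 1) (π ∘ w) := by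
    show act (K.d i) (π ∘ w) = 0
    rw [act_map, hw]
    exact mk_comp_smul r₀ v
  obtain ⟨u', hu'⟩ := h _ hcyc
  obtain ⟨u, rfl⟩ := exists_lift r₀ u'
  have h0 : π ∘ (w - act (K.d (i + 1)) u) = 0 := by
    have : π ∘ (w - act (K.d (i + 1)) u) = π ∘ w - π ∘ act (K.d (i + 1)) u := by
      funext c; simp
    rw [this, ← act_map, hu', sub_self]
  obtain ⟨w', hw'⟩ := exists_smul_of_mk_eq_zero r₀ _ h0
  refine ⟨w', ?_⟩
  apply smul_cancel hreg
  rw [← act_smul, ← hw', act_sub, hw]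
  have : act (K.d i) (act (K.d (i + 1)) u) = 0 := by
    rw [← act_mul, K.d_comp, act_zero_matrix]
  rw [this, sub_zero]

/-- chase B: vanishing for `N` in two consecutive degrees gives vanishing for `N/r₀N` -/
theorem ut_quot (hreg : IsSMulRegular N r₀) (i : ℕ)
    (h1 : UT K N (i + 1)) (h0 : UT K N i) : UT K (QuotSMulTop r₀ N) (i + 1) := by
  intro v' hv'
  set π := Submodule.mkQ (r₀ • (⊤ : Submodule (MvPolynomial (Fin (r + 1)) k) N)) with hπ
  obtain ⟨v, rfl⟩ := exists_lift r₀ v'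
  have hv1 : π ∘ act (K.d i) v = 0 := by
    rw [← act_map]; exact hv'
  obtain ⟨u, hu⟩ := exists_smul_of_mk_eq_zero r₀ _ hv1
  have hucyc : IsCyc K.toCx i u := by
    cases i with
    | zero => trivial
    | succ i₀ =>
      show act (K.d i₀) u = 0
      apply smul_cancel hreg
      rw [← act_smul, ← hu, smul_zero, ← act_mul, K.d_comp, act_zero_matrix]
  obtain ⟨y, hy⟩ := h0 u hucyc
  have hcyc2 : IsCyc K.toCx (i + 1) (v - r₀ • y) := by
    show act (K.d i) (v - r₀ • y) = 0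
    rw [act_sub, act_smul, hy, hu, sub_self]
  obtain ⟨z, hz⟩ := h1 _ hcyc2
  refine ⟨π ∘ z, ?_⟩
  rw [act_map, hz]
  have : π ∘ (v - r₀ • y) = π ∘ v - π ∘ (r₀ • y) := by funext c; simp
  rw [this, mk_comp_smul, sub_zero]

end Quot

/-- beyond the length of `K` everything vanishes -/
theorem ut_of_gt (q : ℕ) (hq : r + 1 < q) : UT K N q := by
  intro v _
  have h0 : K.rk q = 0 := rk_eq_zero K q hq
  haveI : IsEmpty (Fin (K.rk q)) := by rw [h0]; infer_instance
  exact ⟨0, Subsingleton.elim _ _⟩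

/-- top vanishing kills the socle -/
theorem soc_eq_zero_of_ut_top (h : UT K N (r + 1)) (e : N) (he : IsSoc k r e) : e = 0 := by
  obtain ⟨w, hw⟩ := h (fun _ => e) (isCyc_top_of_isSoc K _ fun _ => he)
  have h0 : K.rk (r + 1 + 1) = 0 := rk_eq_zero K (r + 1 + 1) (by omega)
  haveI : IsEmpty (Fin (K.rk (r + 1 + 1))) := by rw [h0]; infer_instance
  have c₀ : Fin (K.rk (r + 1)) := ⟨0, Nat.pos_of_ne_zero (rk_top_ne_zero K)⟩
  have := congrFun hw c₀
  rw [act_apply, Finset.univ_eq_empty, Finset.sum_empty] at this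
  exact this.symm

end Groth.Agent.Helper7.ABu
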