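import Mathlib
import Groth.Prelude.Def_GrSyz
import Groth.Agent.Helper7.ABu1
import Groth.Agent.Helper7.GrTorBal

/-!
# Graded strands versus ungraded homology of `K ⊗ M`
-/

set_option autoImplicit false
set_option linter.unusedSectionVars false
set_option linter.style.haveILetI false

open DirectSum MvPolynomial
open scoped Pointwise

namespace Groth.Agent.Helper7.ABu

open Groth.Agent.Helper7.HilbFn Groth.Agent.Helper7.GrSyzMin Groth.Agent.Helper7.MinRes
  Groth.Agent.Helper7.GrTorV Groth.Agent.Helper7.GrTorS Groth.Agent.Helper7.GrTorBal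
  Groth.Agent.Helper7.GrTorK Groth.Agent.Helper7.GrTorKos Groth.Agent.Helper7.GrTorTop
  Groth.Agent.Helper7.GrKHtpy Groth.Agent.Helper7.GrCoreg Groth.Agent.Helper7

universe u

variable {k : Type u} [Field k] {r : ℕ}

local notation "S" => MvPolynomial (Fin (r + 1)) k
local notation "𝒜" => GrSyz.stdGr k (Fin (r + 1))
local notation "𝔪" => HomogeneousIdeal.toIdeal (GrSyz.irrel (GrSyz.stdGr k (Fin (r + 1))))

variable {M : Type u} [AddCommGroup M] [Module k M] [Module (MvPolynomial (Fin (r + 1)) k) M]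
  [IsScalarTower k (MvPolynomial (Fin (r + 1)) k) M]
  (ℳ : ℤ → Submodule k M) [DirectSum.Decomposition ℳ]
  [SetLike.GradedSMul (GrSyz.stdGr k (Fin (r + 1))) ℳ]

theorem decompose_smul' {s : S} {t : ℤ} (hs : s ∈ 𝒜 t) (y : M) (d : ℤ) :
    (decompose ℳ (s • y) (t + d) : M) = s • (decompose ℳ y d : M) := by
  classical
  refine DirectSum.Decomposition.inductionOn ℳ (motive := fun y =>
    (decompose ℳ (s • y) (t + d) : M) = s • (decompose ℳ y d : M)) ?_ ?_ ?_ y
  · simp
  · intro i x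
    have h1 : s • (x : M) ∈ ℳ (t + i) := by
      have := SetLike.GradedSMul.smul_mem (A := 𝒜) (B := ℳ) hs x.2
      rwa [vadd_eq_add] at this
    by_cases h : i = d
    · subst h
      rw [decompose_of_mem_same ℳ h1, decompose_of_mem_same ℳ x.2]
    · rw [decompose_of_mem_ne ℳ h1 (fun h' => h (add_left_cancel h')),
        decompose_of_mem_ne ℳ x.2 h, smul_zero]
  · intro x x' hx hx'
    simp only [smul_add, decompose_add, DirectSum.add_apply, Submodule.coe_add, hx, hx']

/-- projection of a vector to the strand of degree `j` -/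
noncomputable def strP {m : ℕ} (a : Fin m → ℤ) (j : ℤ) (v : Fin m → M) : Fin m → M :=
  fun c => (decompose ℳ (v c) (j - a c) : M)

theorem strP_inStr {m : ℕ} (a : Fin m → ℤ) (j : ℤ) (v : Fin m → M) :
    InStr ℳ a j (strP ℳ a j v) := fun c => (decompose ℳ (v c) (j - a c)).2

theorem strP_of_inStr {m : ℕ} (a : Fin m → ℤ) (j : ℤ) (v : Fin m → M) (hv : InStr ℳ a j v) :
    strP ℳ a j v = v := by
  funext c
  exact decompose_of_mem_same ℳ (hv c)

theorem strP_zero {m : ℕ} (a : Fin m → ℤ) (j : ℤ) : strP ℳ a j (0 : Fin m → M) = 0 := by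
  funext c
  simp [strP]

theorem decompose_sum_coe {ι : Type*} (s : Finset ι) (f : ι → M) (d : ℤ) :
    (decompose ℳ (∑ i ∈ s, f i) d : M) = ∑ i ∈ s, (decompose ℳ (f i) d : M) := by
  classical
  induction s using Finset.induction_on with
  | empty => simp
  | insert a s ha ih =>
    rw [Finset.sum_insert ha, Finset.sum_insert ha, decompose_add, DirectSum.add_apply,
      Submodule.coe_add, ih]

theorem act_strP {m m' : ℕ} (a : Fin m → ℤ) (a' : Fin m' → ℤ)
    (D : Matrix (Fin m) (Fin m') S) (hD : ∀ i c, D i c ∈ 𝒜 (a' c - a i)) (j : ℤ)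
    (w : Fin m' → M) : act D (strP ℳ a' j w) = strP ℳ a j (act D w) := by
  funext i
  show ∑ c, D i c • (decompose ℳ (w c) (j - a' c) : M) = (decompose ℳ (∑ c, D i c • w c) (j - a i) : M)
  rw [decompose_sum_coe]
  refine Finset.sum_congr rfl fun c _ => ?_
  have e : j - a i = (a' c - a i) + (j - a' c) := by ring
  rw [e, decompose_smul' ℳ (hD i c)]

theorem exists_finset_sum_strP {m : ℕ} (a : Fin m → ℤ) (v : Fin m → M) :
    ∃ J : Finset ℤ, v = ∑ j ∈ J, strP ℳ a j v := by
  classical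
  refine ⟨Finset.univ.biUnion fun c => ((decompose ℳ (v c)).support).image (· + a c), ?_⟩
  funext c
  rw [Finset.sum_apply]
  show v c = ∑ j ∈ _, (decompose ℳ (v c) (j - a c) : M)
  have hsub : ((decompose ℳ (v c)).support).image (· + a c) ⊆
      Finset.univ.biUnion fun c => ((decompose ℳ (v c)).support).image (· + a c) :=
    Finset.subset_biUnion_of_mem (fun c => ((decompose ℳ (v c)).support).image (· + a c))
      (Finset.mem_univ c)
  rw [← Finset.sum_subset hsub, Finset.sum_image]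
  · conv_lhs => rw [← DirectSum.sum_support_decompose ℳ (v c)]
    refine Finset.sum_congr rfl fun x _ => ?_
    rw [add_sub_cancel_right]
  · intro x _ y _ h
    exact add_right_cancel h
  · intro j _ hj
    have : j - a c ∉ (decompose ℳ (v c)).support := by
      intro h
      apply hj
      rw [Finset.mem_image]
      exact ⟨j - a c, h, by ring⟩
    rw [DFinsupp.notMem_support_iff] at this
    rw [this]
    rfl

variable {ℳ}
variable (F : GrSyz.FreeRes (GrSyz.stdGr k (Fin (r + 1))) ℳ) 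
  (hF : F.IsMinimal (HomogeneousIdeal.toIdeal (GrSyz.irrel (GrSyz.stdGr k (Fin (r + 1))))))
  (K : KRes k r)

include hF in
theorem not_ut_of_rk_ne_zero (ℓ : ℕ) (hℓ' : F.rk ℓ ≠ 0) : ¬ UT K M ℓ := by
  intro hUT
  have b : Fin (F.rk ℓ) := ⟨0, Nat.pos_of_ne_zero hℓ'⟩
  have hnot : ¬ Tvan K.toCx ℳ ℓ (F.deg ℓ b) := by
    rw [tvan_iff F hF K ℓ (F.deg ℓ b)]
    intro h
    exact h b rfl
  apply hnot
  intro v hv hcyc
  obtain ⟨w, hw⟩ := hUT v hcyc
  refine ⟨strP ℳ (K.deg (ℓ + 1)) (F.deg ℓ b) w, strP_inStr ℳ _ _ w, ?_⟩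
  rw [act_strP ℳ (K.deg ℓ) (K.deg (ℓ + 1)) (K.d ℓ) (K.d_mem ℓ), hw, strP_of_inStr ℳ _ _ v hv]

include hF in
theorem ut_of_rk_eq_zero (q : ℕ) (hq : F.rk q = 0) : UT K M q := by
  intro v hcyc
  have htv : ∀ j, Tvan K.toCx ℳ q j := by
    intro j
    rw [tvan_iff F hF K q j]
    intro b
    exact (Fin.elim0 (hq ▸ b))
  obtain ⟨J, hJ⟩ := exists_finset_sum_strP ℳ (K.deg q) v
  have hcycj : ∀ j, IsCyc K.toCx q (strP ℳ (K.deg q) j v) := by
    intro j
    cases q with
    | zero => trivial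
    | succ q₀ =>
      show act (K.d q₀) (strP ℳ (K.deg (q₀ + 1)) j v) = 0
      rw [act_strP ℳ (K.deg q₀) (K.deg (q₀ + 1)) (K.d q₀) (K.d_mem q₀)]
      have : act (K.d q₀) v = 0 := hcyc
      rw [this, strP_zero]
  choose w _ hw using fun j => htv j _ (strP_inStr ℳ (K.deg q) j v) (hcycj j)
  refine ⟨∑ j ∈ J, w j, ?_⟩
  have hsum : ∀ (T : Finset ℤ), act (K.d q) (∑ j ∈ T, w j) = ∑ j ∈ T, act (K.d q) (w j) := by
    intro T
    induction T using Finset.induction_on with
    | empty => simp [act_zero]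
    | insert a s ha ih => rw [Finset.sum_insert ha, Finset.sum_insert ha, act_add, ih]
  rw [hsum]
  conv_rhs => rw [hJ]
  exact Finset.sum_congr rfl fun j _ => hw j

end Groth.Agent.Helper7.ABu
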