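import Mathlib
import Groth.Prelude.Def_GrSyz
import Groth.Agent.Helper7.ABu1

/-!
# A regular element in the irrelevant ideal when the socle vanishes
-/

set_option autoImplicit false
set_option linter.unusedSectionVars false
set_option linter.style.haveILetI false

open DirectSum MvPolynomial
open scoped Pointwise

namespace Groth.Agent.Helper7.ABu

open Groth.Agent.Helper7.GrTorV Groth.Agent.Helper7.GrTorS
  Groth.Agent.Helper7.GrCoreg Groth.Agent.Helper7

universe u v₁

variable {k : Type u} [Field k] {r : ℕ}

local notation "S" => MvPolynomial (Fin (r + 1)) k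
local notation "𝒜" => GrSyz.stdGr k (Fin (r + 1))
local notation "𝔪" => HomogeneousIdeal.toIdeal (GrSyz.irrel (GrSyz.stdGr k (Fin (r + 1))))

variable {N : Type v₁} [AddCommGroup N] [Module (MvPolynomial (Fin (r + 1)) k) N]
  [Module.Finite (MvPolynomial (Fin (r + 1)) k) N]

theorem exists_regular_of_soc_eq_zero (hsoc : ∀ e : N, IsSoc k r e → e = 0) :
    ∃ r₀ : S, r₀ ∈ 𝔪 ∧ IsSMulRegular N r₀ := by
  classical
  by_contra hcon
  push Not at hcon
  have hfin := associatedPrimes.finite S N
  have hsub : ((𝔪 : Ideal S) : Set S) ⊆ ⋃ p ∈ ((hfin.toFinset : Finset (Ideal S)) : Set (Ideal S)),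
      ((id p : Ideal S) : Set S) := by
    intro s hs
    have h1 : s ∈ { r : S | IsSMulRegular N r }ᶜ := hcon s hs
    rw [← biUnion_associatedPrimes_eq_compl_regular S N] at h1
    simpa using h1
  rw [Ideal.subset_union_prime (R := S) (f := id) ⊤ ⊤] at hsub
  · obtain ⟨p, hp, hle⟩ := hsub
    rw [Set.Finite.mem_toFinset, AssociatedPrimes.mem_iff, isAssociatedPrime_iff] at hp
    obtain ⟨hprime, e, he⟩ := hp
    have hsoc' : IsSoc k r e := by
      intro s hs
      have : s ∈ (id p : Ideal S) := hle hs
      rw [id, he, Submodule.mem_colon_singleton, Submodule.mem_bot] at this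
      exact this
    have h0 := hsoc e hsoc'
    apply hprime.ne_top
    rw [he, h0]
    ext s
    simp [Submodule.mem_colon_singleton]
  · intro p hp _ _
    rw [Set.Finite.mem_toFinset] at hp
    exact hp.isPrime

end Groth.Agent.Helper7.ABu
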