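import Mathlib
import Groth.Prelude.Def_GrSyz
import Groth.Prelude.Def_CAlg
import Groth.Agent.Helper7.ABu1
import Groth.Agent.Helper7.ABu2
import Groth.Agent.Helper7.ABu3
import Groth.Agent.Helper7.GrTorK

/-!
# The graded Auslander–Buchsbaum formula over a polynomial ring
-/

set_option autoImplicit false
set_option linter.unusedSectionVars false
set_option linter.style.haveILetI false

open DirectSum MvPolynomial
open scoped Pointwise

namespace Groth.Agent.Helper7.ABu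

open Groth.Agent.Helper7.HilbFn Groth.Agent.Helper7.GrSyzMin Groth.Agent.Helper7.MinRes
  Groth.Agent.Helper7.GrTorV Groth.Agent.Helper7.GrTorS Groth.Agent.Helper7.GrTorBal
  Groth.Agent.Helper7.GrTorK Groth.Agent.Helper7.GrTorKos Groth.Agent.Helper7.GrTorTop
  Groth.Agent.Helper7.GrKHtpy Groth.Agent.Helper7.GrCoreg Groth.Agent.Helper7

universe u v₁

variable {k : Type u} [Field k] {r : ℕ}

local notation "S" => MvPolynomial (Fin (r + 1)) k
local notation "𝒜" => GrSyz.stdGr k (Fin (r + 1))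
local notation "𝔪" => HomogeneousIdeal.toIdeal (GrSyz.irrel (GrSyz.stdGr k (Fin (r + 1))))

variable (K : KRes k r)

theorem length_le_of_not_ut (rs : List (MvPolynomial (Fin (r + 1)) k)) :
    ∀ (N : Type v₁) [AddCommGroup N] [Module (MvPolynomial (Fin (r + 1)) k) N] (i : ℕ),
      RingTheory.Sequence.IsWeaklyRegular N rs → (∀ s ∈ rs, s ∈ 𝔪) → ¬ UT K N i →
      i + rs.length ≤ r + 1 := by
  induction rs with
  | nil =>
    intro N _ _ i _ _ hnot
    by_contra h
    exact hnot (ut_of_gt K i (by simpa using h))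
  | cons r₀ rs ih =>
    intro N _ _ i hreg hmem hnot
    rw [RingTheory.Sequence.isWeaklyRegular_cons_iff] at hreg
    have h1 : ¬ UT K (QuotSMulTop r₀ N) (i + 1) := fun h =>
      hnot (ut_of_quot K (hmem r₀ List.mem_cons_self) hreg.1 i h)
    have := ih (QuotSMulTop r₀ N) (i + 1) hreg.2
      (fun s hs => hmem s (List.mem_cons_of_mem _ hs)) h1
    simp only [List.length_cons]
    omega

theorem exists_regular_seq (d : ℕ) :
    ∀ (N : Type v₁) [AddCommGroup N] [Module (MvPolynomial (Fin (r + 1)) k) N]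
      [Module.Finite (MvPolynomial (Fin (r + 1)) k) N] (t : ℕ), t + d = r + 1 →
      (∀ i, t < i → UT K N i) →
      ∃ rs : List (MvPolynomial (Fin (r + 1)) k), rs.length = d ∧ (∀ s ∈ rs, s ∈ 𝔪) ∧
        RingTheory.Sequence.IsWeaklyRegular N rs := by
  induction d with
  | zero =>
    intro N _ _ _ t _ _
    exact ⟨[], rfl, by simp, RingTheory.Sequence.IsWeaklyRegular.nil _ _⟩
  | succ d ih =>
    intro N _ _ _ t ht hut
    have hsoc : ∀ e : N, IsSoc k r e → e = 0 :=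
      soc_eq_zero_of_ut_top K (hut (r + 1) (by omega))
    obtain ⟨r₀, hr₀, hreg⟩ := exists_regular_of_soc_eq_zero hsoc
    have hut' : ∀ i, t + 1 < i → UT K (QuotSMulTop r₀ N) i := by
      intro i hi
      obtain ⟨i', rfl⟩ : ∃ i', i = i' + 1 := ⟨i - 1, by omega⟩
      exact ut_quot K hreg i' (hut (i' + 1) (by omega)) (hut i' (by omega))
    obtain ⟨rs, hlen, hmem, hrs⟩ := ih (QuotSMulTop r₀ N) (t + 1) (by omega) hut'
    refine ⟨r₀ :: rs, by simp [hlen], ?_, ?_⟩
    · intro s hs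
      rcases List.mem_cons.1 hs with rfl | hs
      · exact hr₀
      · exact hmem s hs
    · exact (RingTheory.Sequence.isWeaklyRegular_cons_iff N r₀ rs).2 ⟨hreg, hrs⟩

variable {M : Type u} [AddCommGroup M] [Module k M] [Module (MvPolynomial (Fin (r + 1)) k) M]
  [IsScalarTower k (MvPolynomial (Fin (r + 1)) k) M]
  [Module.Finite (MvPolynomial (Fin (r + 1)) k) M]
  {ℳ : ℤ → Submodule k M} [DirectSum.Decomposition ℳ]
  [SetLike.GradedSMul (GrSyz.stdGr k (Fin (r + 1))) ℳ]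

theorem ut_of_smul_top_eq_top
    (h : 𝔪 • (⊤ : Submodule (MvPolynomial (Fin (r + 1)) k) M) = ⊤) (q : ℕ) : UT K M q := by
  obtain ⟨s, hs1, hs0⟩ := Submodule.exists_sub_one_mem_and_smul_eq_zero_of_fg_of_le_smul 𝔪
    (⊤ : Submodule (MvPolynomial (Fin (r + 1)) k) M) Module.Finite.fg_top (le_of_eq h.symm)
  intro v hv
  have hmem : (1 - s) ∈ 𝔪 := by
    have := neg_mem hs1
    rwa [neg_sub] at this
  obtain ⟨u, hu⟩ := smul_cyc K (1 - s) hmem q v hv
  refine ⟨u, ?_⟩
  rw [hu]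
  funext c
  simp only [Pi.smul_apply, sub_smul, one_smul, hs0 (v c) Submodule.mem_top, sub_zero]

theorem main (F : GrSyz.FreeRes (GrSyz.stdGr k (Fin (r + 1))) ℳ)
    (hF : F.IsMinimal (HomogeneousIdeal.toIdeal (GrSyz.irrel (GrSyz.stdGr k (Fin (r + 1))))))
    (ℓ : ℕ) (hℓ : F.HasLengthLE ℓ) (hℓ' : F.rk ℓ ≠ 0) :
    (ℓ : ℕ∞) + LocCoh.idealDepth (HomogeneousIdeal.toIdeal (GrSyz.irrel (GrSyz.stdGr k (Fin (r + 1))))) M
      = ((r + 1 : ℕ) : ℕ∞) := by
  obtain ⟨K⟩ := exists_kres k r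
  have hnot : ¬ UT K M ℓ := not_ut_of_rk_ne_zero F hF K ℓ hℓ'
  have hut : ∀ i, ℓ < i → UT K M i := fun i hi => ut_of_rk_eq_zero F hF K i (hℓ i hi)
  have hle : ℓ ≤ r + 1 := by
    have := length_le_of_not_ut K [] M ℓ (RingTheory.Sequence.IsWeaklyRegular.nil _ _) (by simp) hnot
    simpa using this
  have hne : 𝔪 • (⊤ : Submodule (MvPolynomial (Fin (r + 1)) k) M) ≠ ⊤ := fun h =>
    hnot (ut_of_smul_top_eq_top K h ℓ)
  have hsup : LocCoh.idealDepth 𝔪 M = ((r + 1 - ℓ : ℕ) : ℕ∞) := by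
    unfold LocCoh.idealDepth
    rw [if_neg hne]
    apply le_antisymm
    · refine iSup₂_le fun rs hrs => ?_
      have := length_le_of_not_ut K rs M ℓ hrs.1 hrs.2 hnot
      exact_mod_cast (by omega : rs.length ≤ r + 1 - ℓ)
    · obtain ⟨rs, hlen, hmem, hrs⟩ := exists_regular_seq K (r + 1 - ℓ) M ℓ (by omega) hut
      refine le_iSup₂_of_le rs ⟨hrs, hmem⟩ ?_
      rw [hlen]
  rw [hsup, ← Nat.cast_add]
  congr 1
  omega

end Groth.Agent.Helper7.ABu
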