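import Mathlib

set_option autoImplicit false

/-!
# Helper7: Adams–Riemann–Roch for an elementary projection, pure algebra part (a)

`pp u = ∏ (X - u_k)`, `qq j u = ∏_k Σ_{c<j} X^c u_k^{j-1-c}`; basic facts.
-/

namespace Groth.Agent.Helper7.ARR

open Polynomial

universe v

variable {A : Type v} [CommRing A]

/-- `p = ∏_k (X - u_k)` -/
noncomputable def pp {m : ℕ} (u : Fin m → A) : A[X] := ∏ k : Fin m, (X - C (u k))

/-- one factor `Σ_{c<j} X^c u^{j-1-c} = (X^j - u^j)/(X - u)` -/
noncomputable def qf (j : ℕ) (a : A) : A[X] := ∑ c ∈ Finset.range j, X ^ c * C a ^ (j - 1 - c)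

/-- `Q = ∏_k (X^j - u_k^j)/(X - u_k)` -/
noncomputable def qq {m : ℕ} (j : ℕ) (u : Fin m → A) : A[X] := ∏ k : Fin m, qf j (u k)

theorem qf_mul (j : ℕ) (a : A) : qf j a * (X - C a) = X ^ j - C a ^ j := by
  unfold qf
  exact geom_sum₂_mul X (C a) j

theorem pp_monic {m : ℕ} (u : Fin m → A) : (pp u).Monic :=
  monic_prod_X_sub_C u Finset.univ

theorem qf_monic (j : ℕ) (hj : 1 ≤ j) (a : A) : (qf j a).Monic := by
  have h1 : ((X - C a) * qf j a).Monic := by
    rw [mul_comm, qf_mul, ← C_pow]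
    exact monic_X_pow_sub_C _ (by omega)
  exact Monic.of_mul_monic_left (monic_X_sub_C a) h1

theorem qq_monic {m : ℕ} (j : ℕ) (hj : 1 ≤ j) (u : Fin m → A) : (qq j u).Monic :=
  monic_prod_of_monic _ _ fun k _ => qf_monic j hj (u k)

theorem pp_natDegree [Nontrivial A] {m : ℕ} (u : Fin m → A) : (pp u).natDegree = m := by
  unfold pp
  rw [natDegree_prod_of_monic _ _ fun k _ => monic_X_sub_C (u k)]
  simp

theorem qf_natDegree [Nontrivial A] (j : ℕ) (hj : 1 ≤ j) (a : A) : (qf j a).natDegree = j - 1 := by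
  have h1 : ((qf j a) * (X - C a)).natDegree = j := by
    rw [qf_mul, ← C_pow]
    exact natDegree_X_pow_sub_C
  rw [(qf_monic j hj a).natDegree_mul (monic_X_sub_C a), natDegree_X_sub_C] at h1
  omega

theorem qq_natDegree [Nontrivial A] {m : ℕ} (j : ℕ) (hj : 1 ≤ j) (u : Fin m → A) :
    (qq j u).natDegree = (j - 1) * m := by
  unfold qq
  rw [natDegree_prod_of_monic _ _ fun k _ => qf_monic j hj (u k)]
  simp [qf_natDegree j hj, mul_comm]

theorem pp_map {B : Type*} [CommRing B] (φ : A →+* B) {m : ℕ} (u : Fin m → A) :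
    (pp u).map φ = pp (fun k => φ (u k)) := by
  unfold pp
  rw [Polynomial.map_prod]
  simp

theorem qf_map {B : Type*} [CommRing B] (φ : A →+* B) (j : ℕ) (a : A) :
    (qf j a).map φ = qf j (φ a) := by
  unfold qf
  simp [Polynomial.map_sum]

theorem qq_map {B : Type*} [CommRing B] (φ : A →+* B) {m : ℕ} (j : ℕ) (u : Fin m → A) :
    (qq j u).map φ = qq j (fun k => φ (u k)) := by
  unfold qq
  rw [Polynomial.map_prod]
  simp [qf_map]

theorem pp_eval {m : ℕ} (u : Fin m → A) (k : Fin m) : (pp u).eval (u k) = 0 := by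
  unfold pp
  rw [eval_prod]
  exact Finset.prod_eq_zero (Finset.mem_univ k) (by simp)

theorem qf_eval_self (j : ℕ) (a : A) : (qf j a).eval a = j * a ^ (j - 1) := by
  unfold qf
  simp only [eval_finsetSum, eval_mul, eval_pow, eval_X, eval_C]
  exact geom_sum₂_self a j

theorem qf_eval_mul (j : ℕ) (a b : A) : (qf j a).eval b * (b - a) = b ^ j - a ^ j := by
  have := congrArg (eval b) (qf_mul j a)
  simpa using this

end Groth.Agent.Helper7.ARR
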