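import Mathlib
import Groth.Agent.Helper7.ARRa

set_option autoImplicit false

/-!
# Helper7: Adams–Riemann–Roch for an elementary projection, pure algebra part (b)

The generic computation over `Frac ℤ[u_1, …, u_m]`.
-/

namespace Groth.Agent.Helper7.ARR

open Polynomial

/-- the universal ring `ℤ[u_1, …, u_m]` -/
abbrev UU (m : ℕ) := MvPolynomial (Fin m) ℤ

/-- the universal roots -/
noncomputable def uU (m : ℕ) : Fin m → UU m := MvPolynomial.X

/-- the universal resultant -/
noncomputable def NU (m j : ℕ) : UU m := resultant (pp (uU m)) (qq j (uU m)) m ((j - 1) * m)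

theorem exists_bezout (m j : ℕ) (hm : 1 ≤ m) (hj : 1 ≤ j) :
    ∃ α Qs : (UU m)[X], pp (uU m) * α + qq j (uU m) * Qs = C (NU m j) := by
  obtain ⟨p, q, _, _, h⟩ := exists_mul_add_mul_eq_C_resultant (pp (uU m)) (qq j (uU m))
    (m := m) (n := (j - 1) * m) (by rw [pp_natDegree]) (by rw [qq_natDegree j hj])
    (Or.inl (by omega))
  exact ⟨p, q, h⟩

/-- Lagrange: the top coefficient of `X^(i-1)` through the nodes. -/
theorem lagrange_pow {F : Type*} [Field F] (m : ℕ) (hm : 1 ≤ m) (x : Fin m → F)
    (hx : Function.Injective x) (i : ℕ) (hi1 : 1 ≤ i) (hi : i ≤ m) :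
    ∑ k : Fin m, x k ^ (i - 1) / ∏ l ∈ Finset.univ.erase k, (x k - x l) =
      if i = m then 1 else 0 := by
  classical
  have hcard : (Finset.univ : Finset (Fin m)).card = m := by simp
  have hdeg : ((X : F[X]) ^ (i - 1)).degree < (Finset.univ : Finset (Fin m)).card := by
    rw [degree_X_pow, hcard]
    exact_mod_cast (by omega : i - 1 < m)
  have h := Lagrange.coeff_eq_sum (s := Finset.univ) (v := x) (hx.injOn) hdeg
  rw [hcard] at h
  simp only [eval_pow, eval_X] at h
  rw [← h, coeff_X_pow]
  by_cases him : i = m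
  · rw [if_pos him, if_pos (by omega)]
  · rw [if_neg him, if_neg (by omega)]

theorem generic_coeff (m j : ℕ) (hm : 1 ≤ m) (hj : 1 ≤ j) (α Qs : (UU m)[X])
    (hb : pp (uU m) * α + qq j (uU m) * Qs = C (NU m j)) (i : ℕ) (hi1 : 1 ≤ i) (hi : i ≤ m) :
    ((C (j : UU m) * X ^ (j * i - 1) * Qs) %ₘ pp (uU m)).coeff (m - 1) =
      if i = m then NU m j else 0 := by
  classical
  set F := FractionRing (UU m) with hF
  set ι : UU m →+* F := algebraMap (UU m) F with hι
  have hιinj : Function.Injective ι := IsFractionRing.injective (UU m) F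
  set v : Fin m → F := fun k => ι (uU m k) with hv
  have hvinj : Function.Injective v := by
    intro a b hab
    exact MvPolynomial.X_injective (hιinj hab)
  have hv0 : ∀ k, v k ≠ 0 := by
    intro k h
    have : uU m k = 0 := hιinj (by rw [map_zero]; exact h)
    exact MvPolynomial.X_ne_zero k this
  have hvjinj : Function.Injective (fun k => v k ^ j) := by
    intro a b hab
    simp only [hv, ← map_pow] at hab
    have h1 := hιinj hab
    unfold uU at h1
    rw [MvPolynomial.X_pow_eq_monomial, MvPolynomial.X_pow_eq_monomial] at h1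
    have h2 := MvPolynomial.monomial_left_injective (one_ne_zero) h1
    exact Finsupp.single_left_injective (by omega) h2
  have hj0 : (j : F) ≠ 0 := Nat.cast_ne_zero.mpr (by omega)
  -- the mapped polynomials
  set G := (C (j : UU m) * X ^ (j * i - 1) * Qs) %ₘ pp (uU m) with hG
  have hpF : (pp (uU m)).map ι = pp v := pp_map ι (uU m)
  have hqF : (qq j (uU m)).map ι = qq j v := qq_map ι j (uU m)
  set QsF := Qs.map ι with hQsF
  have hGF : G.map ι = (C (j : F) * X ^ (j * i - 1) * QsF) %ₘ pp v := by
    rw [hG, map_modByMonic ι (pp_monic (uU m)), hpF, Polynomial.map_mul, Polynomial.map_mul,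
      Polynomial.map_C, Polynomial.map_pow, Polynomial.map_X, map_natCast]
  have hbF : pp v * α.map ι + qq j v * QsF = C (ι (NU m j)) := by
    have := congrArg (Polynomial.map ι) hb
    rw [Polynomial.map_add, Polynomial.map_mul, Polynomial.map_mul, hpF, hqF, Polynomial.map_C] at this
    exact this
  have hcard : (Finset.univ : Finset (Fin m)).card = m := by simp
  have hdegG : (G.map ι).degree < (Finset.univ : Finset (Fin m)).card := by
    rw [hGF, hcard]
    have h1 := degree_modByMonic_lt (C (j : F) * X ^ (j * i - 1) * QsF) (pp_monic v)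
    rwa [degree_eq_natDegree (pp_monic v).ne_zero, pp_natDegree] at h1
  have hL := Lagrange.coeff_eq_sum (s := Finset.univ) (v := v) (hvinj.injOn) hdegG
  rw [hcard] at hL
  -- evaluate
  have hGev : ∀ k, (G.map ι).eval (v k) = (j : F) * v k ^ (j * i - 1) * QsF.eval (v k) := by
    intro k
    have h1 := modByMonic_add_div (C (j : F) * X ^ (j * i - 1) * QsF) (pp v)
    have h2 := congrArg (eval (v k)) h1
    rw [eval_add, eval_mul, pp_eval, zero_mul, add_zero, ← hGF] at h2
    rw [h2]
    simp
  have hQev : ∀ k, (qq j v).eval (v k) * QsF.eval (v k) = ι (NU m j) := by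
    intro k
    have h2 := congrArg (eval (v k)) hbF
    rw [eval_add, eval_mul, pp_eval, zero_mul, zero_add, eval_mul, eval_C] at h2
    exact h2
  have hqq : ∀ k, (qq j v).eval (v k) * ∏ l ∈ Finset.univ.erase k, (v k - v l) =
      (j : F) * v k ^ (j - 1) * ∏ l ∈ Finset.univ.erase k, (v k ^ j - v l ^ j) := by
    intro k
    unfold qq
    rw [eval_prod, ← Finset.mul_prod_erase Finset.univ _ (Finset.mem_univ k), qf_eval_self,
      mul_assoc, ← Finset.prod_mul_distrib]
    congr 1
    refine Finset.prod_congr rfl fun l _ => ?_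
    exact qf_eval_mul j (v l) (v k)
  have hD : ∀ k, ∏ l ∈ Finset.univ.erase k, (v k - v l) ≠ 0 := by
    intro k
    rw [Finset.prod_ne_zero_iff]
    intro l hl
    rw [Finset.mem_erase] at hl
    exact sub_ne_zero.mpr fun h => hl.1 (hvinj h).symm
  have hW : ∀ k, ∏ l ∈ Finset.univ.erase k, (v k ^ j - v l ^ j) ≠ 0 := by
    intro k
    rw [Finset.prod_ne_zero_iff]
    intro l hl
    rw [Finset.mem_erase] at hl
    exact sub_ne_zero.mpr fun h => hl.1 (hvjinj h).symm
  have hterm : ∀ k, (G.map ι).eval (v k) / ∏ l ∈ Finset.univ.erase k, (v k - v l) =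
      ι (NU m j) * ((v k ^ j) ^ (i - 1) / ∏ l ∈ Finset.univ.erase k, (v k ^ j - v l ^ j)) := by
    intro k
    rw [hGev, ← mul_div_assoc, div_eq_div_iff (hD k) (hW k), ← hQev k]
    have hpow : v k ^ (j * i - 1) = v k ^ (j - 1) * (v k ^ j) ^ (i - 1) := by
      rw [← pow_mul, ← pow_add]
      congr 1
      have : j * i = j * (i - 1) + j := by
        conv_lhs => rw [show i = (i - 1) + 1 by omega]
        ring
      omega
    rw [hpow]
    have := hqq k
    linear_combination (-(QsF.eval (v k) * (v k ^ j) ^ (i - 1))) * this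
  rw [Finset.sum_congr rfl fun k _ => hterm k, ← Finset.mul_sum,
    lagrange_pow m hm (fun k => v k ^ j) hvjinj i hi1 hi, coeff_map] at hL
  apply hιinj
  rw [hL]
  by_cases him : i = m
  · rw [if_pos him, if_pos him, mul_one]
  · rw [if_neg him, if_neg him, mul_zero, map_zero]

end Groth.Agent.Helper7.ARR
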