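import Mathlib
import Groth.Agent.Helper7.ARRb

set_option autoImplicit false

/-!
# Helper7: Adams–Riemann–Roch for an elementary projection, pure algebra part (c)

Transport of the generic identity to an arbitrary ring.
-/

namespace Groth.Agent.Helper7.ARR

open Polynomial

universe v

variable {A : Type v} [CommRing A]

/-- in a ring where `s ℓ = 1`, `ℓ^a s^b = ℓ^c s^d` when `a + d = c + b`. -/
theorem pow_mul_pow_eq {E : Type*} [CommRing E] (ℓ s : E) (hs : s * ℓ = 1) (a b c d : ℕ)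
    (h : a + d = c + b) : ℓ ^ a * s ^ b = ℓ ^ c * s ^ d := by
  have hu : IsUnit (ℓ ^ (b + d)) := by
    apply IsUnit.pow
    exact IsUnit.of_mul_eq_one s (by rw [mul_comm]; exact hs)
  apply hu.mul_right_cancel
  have h1 : ∀ k : ℕ, s ^ k * ℓ ^ k = 1 := fun k => by rw [← mul_pow, hs, one_pow]
  calc ℓ ^ a * s ^ b * ℓ ^ (b + d) = ℓ ^ a * (s ^ b * ℓ ^ b) * ℓ ^ d := by rw [pow_add]; ring
    _ = ℓ ^ (a + d) := by rw [h1, mul_one, pow_add]
    _ = ℓ ^ (c + b) := by rw [h]
    _ = ℓ ^ c * (s ^ d * ℓ ^ d) * ℓ ^ b := by rw [h1, mul_one, pow_add]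
    _ = ℓ ^ c * s ^ d * ℓ ^ (b + d) := by rw [pow_add]; ring

/-- the evaluation map from the universal ring -/
noncomputable def evU {m : ℕ} (u : Fin m → A) : UU m →+* A :=
  MvPolynomial.eval₂Hom (Int.castRingHom A) u

theorem evU_uU {m : ℕ} (u : Fin m → A) (k : Fin m) : evU u (uU m k) = u k := by
  unfold evU uU
  simp

theorem pp_evU {m : ℕ} (u : Fin m → A) : (pp (uU m)).map (evU u) = pp u := by
  rw [pp_map]
  congr 1
  funext k
  exact evU_uU u k

theorem qq_evU {m : ℕ} (j : ℕ) (u : Fin m → A) : (qq j (uU m)).map (evU u) = qq j u := by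
  rw [qq_map]
  congr 1
  funext k
  exact evU_uU u k

/-- the image of `Q` in `A[X]/(p)` in terms of `s = ℓ⁻¹`. -/
theorem theta_eq {m : ℕ} (j : ℕ) (hj : 1 ≤ j) (u : Fin m → A) (s : AdjoinRoot (pp u))
    (hs : s * AdjoinRoot.root (pp u) = 1) :
    ∏ k : Fin m, ∑ c ∈ Finset.range j, (AdjoinRoot.of (pp u) (u k) * s) ^ c =
      s ^ ((j - 1) * m) * AdjoinRoot.mk (pp u) (qq j u) := by
  unfold qq
  rw [map_prod]
  have h1 : s ^ ((j - 1) * m) = ∏ _k : Fin m, s ^ (j - 1) := by
    rw [Finset.prod_const, Finset.card_univ, Fintype.card_fin, ← pow_mul]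
  rw [h1, ← Finset.prod_mul_distrib]
  refine Finset.prod_congr rfl fun k _ => ?_
  unfold qf
  rw [map_sum, Finset.mul_sum, ← Finset.sum_range_reflect]
  refine Finset.sum_congr rfl fun c hc => ?_
  rw [Finset.mem_range] at hc
  rw [map_mul, map_pow, map_pow, AdjoinRoot.mk_X, AdjoinRoot.mk_C, mul_pow]
  have h2 : s ^ (j - 1) = s ^ (j - 1 - c) * s ^ c := by
    rw [← pow_add]; congr 1; omega
  have h3 : s ^ c * AdjoinRoot.root (pp u) ^ c = 1 := by rw [← mul_pow, hs, one_pow]
  rw [h2]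
  calc AdjoinRoot.of (pp u) (u k) ^ (j - 1 - c) * s ^ (j - 1 - c)
      = s ^ (j - 1 - c) * (s ^ c * AdjoinRoot.root (pp u) ^ c) *
          AdjoinRoot.of (pp u) (u k) ^ (j - 1 - c) := by rw [h3]; ring
    _ = _ := by ring

end Groth.Agent.Helper7.ARR

namespace Groth.Agent.Helper7.ARR

open Polynomial

universe v

variable {A : Type v} [CommRing A]

theorem mk_eq_sum {m : ℕ} (u : Fin m → A) (g : A[X]) (hg : g.natDegree < m) :
    AdjoinRoot.mk (pp u) g =
      ∑ c ∈ Finset.range m, g.coeff c • AdjoinRoot.root (pp u) ^ c := by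
  conv_lhs => rw [g.as_sum_range' m hg]
  rw [map_sum]
  refine Finset.sum_congr rfl fun c _ => ?_
  rw [← C_mul_X_pow_eq_monomial, map_mul, map_pow, AdjoinRoot.mk_C, AdjoinRoot.mk_X,
    Algebra.smul_def, AdjoinRoot.algebraMap_eq]

theorem main {m : ℕ} (j : ℕ) (hm : 1 ≤ m) (hj : 1 ≤ j) (u : Fin m → A)
    (s w : AdjoinRoot (pp u)) (hs : s * AdjoinRoot.root (pp u) = 1)
    (hw : w * ∏ k : Fin m, ∑ c ∈ Finset.range j, (AdjoinRoot.of (pp u) (u k) * s) ^ c = 1)
    (φ : AdjoinRoot (pp u) →ₗ[A] A) (hφ0 : φ 1 = 1)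
    (hφ : ∀ n, 1 ≤ n → n < m → φ (s ^ n) = 0) (n : ℕ) (hn : n < m) :
    φ ((j : AdjoinRoot (pp u)) * w * s ^ (j * n)) = if n = 0 then 1 else 0 := by
  classical
  rcases subsingleton_or_nontrivial A with hA | hA
  · exact Subsingleton.elim _ _
  set ℓ := AdjoinRoot.root (pp u) with hℓ
  set mk := AdjoinRoot.mk (pp u) with hmk
  have hmkp : mk (pp u) = 0 := AdjoinRoot.mk_self
  -- coprimality
  have hθ := theta_eq j hj u s hs
  rw [hθ] at hw
  have hcop : IsCoprime (pp u) (qq j u) := by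
    obtain ⟨a, ha⟩ := AdjoinRoot.mk_surjective (w * s ^ ((j - 1) * m))
    have h1 : mk (a * qq j u - 1) = 0 := by
      rw [map_sub, map_mul, map_one, hmk, ha, mul_assoc, hw, sub_self]
    rw [hmk, AdjoinRoot.mk_eq_zero] at h1
    obtain ⟨b, hb⟩ := h1
    exact ⟨-b, a, by linear_combination hb⟩
  have hres : resultant (pp u) (qq j u) = evU u (NU m j) := by
    unfold NU
    rw [← resultant_map_map, pp_evU, qq_evU]
    show resultant (pp u) (qq j u) (pp u).natDegree (qq j u).natDegree = _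
    rw [pp_natDegree, qq_natDegree j hj]
  set N := evU u (NU m j) with hN
  have hNunit : IsUnit N := by
    rw [← hres]
    exact (isUnit_resultant_iff_isCoprime (pp_monic u)).mpr hcop
  -- universal identities
  obtain ⟨α, Qs, hb⟩ := exists_bezout m j hm hj
  set i := m - n with hi
  have hi1 : 1 ≤ i := by omega
  have him : i ≤ m := by omega
  have hgen := generic_coeff m j hm hj α Qs hb i hi1 him
  set G := (C (j : UU m) * X ^ (j * i - 1) * Qs) %ₘ pp (uU m) with hG
  have hGdeg : G.natDegree < m := by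
    have h1 := natDegree_modByMonic_lt (C (j : UU m) * X ^ (j * i - 1) * Qs) (pp_monic (uU m))
      (by
        intro h
        have h2 := pp_natDegree (uU m)
        rw [h, natDegree_one] at h2
        omega)
    rwa [pp_natDegree] at h1
  have hdiv := modByMonic_add_div (C (j : UU m) * X ^ (j * i - 1) * Qs) (pp (uU m))
  rw [← hG] at hdiv
  -- map to A
  have hbA : pp u * α.map (evU u) + qq j u * Qs.map (evU u) = C N := by
    have := congrArg (Polynomial.map (evU u)) hb
    rwa [Polynomial.map_add, Polynomial.map_mul, Polynomial.map_mul, pp_evU, qq_evU,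
      Polynomial.map_C] at this
  obtain ⟨D, hD⟩ : ∃ D, G + pp (uU m) * D = C (j : UU m) * X ^ (j * i - 1) * Qs := ⟨_, hdiv⟩
  have hjA : evU u (j : UU m) = (j : A) := map_natCast _ _
  have hdivA : G.map (evU u) + pp u * D.map (evU u)
      = C (j : A) * X ^ (j * i - 1) * Qs.map (evU u) := by
    have := congrArg (Polynomial.map (evU u)) hD
    rwa [Polynomial.map_add, Polynomial.map_mul, pp_evU, Polynomial.map_mul, Polynomial.map_mul,
      Polynomial.map_C, Polynomial.map_pow, Polynomial.map_X, hjA] at this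
  -- in E
  have e1 : AdjoinRoot.of (pp u) N = mk (qq j u) * mk (Qs.map (evU u)) := by
    have := congrArg mk hbA
    rw [map_add, map_mul, map_mul, hmkp, zero_mul, zero_add] at this
    rw [this, hmk, AdjoinRoot.mk_C]
  have e2 : mk (G.map (evU u)) = (j : AdjoinRoot (pp u)) * ℓ ^ (j * i - 1) * mk (Qs.map (evU u)) := by
    have := congrArg mk hdivA
    rw [map_add, map_mul, hmkp, zero_mul, add_zero, map_mul, map_mul, map_pow] at this
    rw [this, hmk, AdjoinRoot.mk_C, AdjoinRoot.mk_X, map_natCast]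
  have e3 : w * mk (qq j u) = ℓ ^ ((j - 1) * m) := by
    have h1 : s ^ ((j - 1) * m) * ℓ ^ ((j - 1) * m) = 1 := by rw [← mul_pow, hs, one_pow]
    calc w * mk (qq j u) = (w * (s ^ ((j - 1) * m) * mk (qq j u))) * ℓ ^ ((j - 1) * m) := by
          rw [mul_assoc, mul_assoc, mul_comm (mk (qq j u)), ← mul_assoc (s ^ _), h1, one_mul]
      _ = ℓ ^ ((j - 1) * m) := by rw [hw, one_mul]
  have e4 : AdjoinRoot.of (pp u) N * ((j : AdjoinRoot (pp u)) * w * s ^ (j * n)) =
      mk (G.map (evU u)) * s ^ (m - 1) := by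
    rw [e1, e2]
    have h5 : ℓ ^ ((j - 1) * m) * s ^ (j * n) = ℓ ^ (j * i - 1) * s ^ (m - 1) := by
      apply pow_mul_pow_eq ℓ s hs
      have h6 : j * i = j * m - j * n := by rw [hi, Nat.mul_sub]
      have h7 : j * n ≤ j * m := Nat.mul_le_mul_left j (by omega)
      have h8 : 1 ≤ j * i := Nat.mul_pos (by omega) (by omega)
      have h9 : (j - 1) * m = j * m - m := by rw [Nat.sub_mul, one_mul]
      have h10 : m ≤ j * m := Nat.le_mul_of_pos_left m (by omega)
      omega
    calc mk (qq j u) * mk (Qs.map (evU u)) * ((j : AdjoinRoot (pp u)) * w * s ^ (j * n))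
        = (w * mk (qq j u)) * s ^ (j * n) * ((j : AdjoinRoot (pp u)) * mk (Qs.map (evU u))) := by ring
      _ = (ℓ ^ (j * i - 1) * s ^ (m - 1)) * ((j : AdjoinRoot (pp u)) * mk (Qs.map (evU u))) := by
          rw [e3, h5]
      _ = _ := by ring
  -- apply φ
  have hGA : (G.map (evU u)).natDegree < m := lt_of_le_of_lt natDegree_map_le hGdeg
  have e5 : φ (mk (G.map (evU u)) * s ^ (m - 1)) = (G.map (evU u)).coeff (m - 1) := by
    rw [hmk, mk_eq_sum u _ hGA, Finset.sum_mul, map_sum]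
    rw [Finset.sum_eq_single (m - 1)]
    · rw [smul_mul_assoc, map_smul, ← mul_pow, mul_comm, hs, one_pow, hφ0, smul_eq_mul, mul_one]
    · intro c hc hcm
      rw [Finset.mem_range] at hc
      rw [smul_mul_assoc, map_smul]
      have h1 : ℓ ^ c * s ^ (m - 1) = s ^ (m - 1 - c) := by
        have := pow_mul_pow_eq ℓ s hs c (m - 1) 0 (m - 1 - c) (by omega)
        rw [this, pow_zero, one_mul]
      rw [h1, hφ (m - 1 - c) (by omega) (by omega), smul_zero]
    · intro h
      exfalso; apply h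
      rw [Finset.mem_range]; omega
  have e6 := congrArg φ e4
  rw [e5, ← AdjoinRoot.algebraMap_eq, ← Algebra.smul_def, map_smul, coeff_map, hgen] at e6
  have e7 : N * φ ((j : AdjoinRoot (pp u)) * w * s ^ (j * n)) = N * (if n = 0 then 1 else 0) := by
    rw [← smul_eq_mul, e6]
    by_cases hn0 : n = 0
    · rw [if_pos hn0, if_pos (by omega), mul_one]
    · rw [if_neg hn0, if_neg (by omega), map_zero, mul_zero]
  exact hNunit.mul_left_cancel e7

end Groth.Agent.Helper7.ARR
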