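import Mathlib
import Groth.Prelude.Def_KRR
import Groth.Agent.Helper1.LambdaAdams3

set_option autoImplicit false

/-!
# Helper7: Adams–Riemann–Roch for an elementary projection, λ-ring lemmas (d)

`λ^i(u y) = u^i λ^i(y)` for a line element `u`.
-/

namespace Groth.Agent.Helper7.ARR

open LambdaRing Groth.Agent.Helper1.Lambda

universe u

variable {K : Type u} [CommRing K] [LambdaOps K] (P : PosStructure K)

theorem lamSeries_line_mul_line (a v : K) (ha : P.IsLine a) (hv : P.IsLine v) :
    lamSeries (a * v) = PowerSeries.rescale a (lamSeries v) := by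
  have hav := isLine_mul P a v ha hv
  ext n
  rw [PowerSeries.coeff_rescale, coeff_lamSeries, coeff_lamSeries]
  rcases n with _ | _ | n
  · simp [LambdaOps.lam_zero]
  · simp [LambdaOps.lam_one]
  · rw [lam_line P _ hav (n + 2) (by omega), lam_line P _ hv (n + 2) (by omega), mul_zero]

theorem lamSeries_line_mul_sum (a : K) (ha : P.IsLine a) (s : Multiset K)
    (hs : ∀ v ∈ s, P.IsLine v) :
    lamSeries (a * s.sum) = PowerSeries.rescale a (lamSeries s.sum) := by
  induction s using Multiset.induction_on with
  | empty =>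
    rw [Multiset.sum_zero, mul_zero, lamSeries_zero, map_one]
  | cons b s ih =>
    rw [Multiset.sum_cons, mul_add, lamSeries_add, lamSeries_add, map_mul,
      ih (fun v hv => hs v (Multiset.mem_cons_of_mem hv)),
      lamSeries_line_mul_line P a b ha (hs b (Multiset.mem_cons_self b s))]

theorem lamSeries_line_mul_pos (C : Set PosLambdaRing.{u}) (hC : SplitClass C)
    (L : PosLambdaRing.{u}) (hL : L ∈ C) (a e : L.carrier) (ha : L.posStr.IsLine a)
    (he : e ∈ L.posStr.pos) :
    lamSeries (a * e) = PowerSeries.rescale a (lamSeries e) := by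
  obtain ⟨L₁, _, f, hf, s, hs, hsum⟩ := hC L hL e he
  have hinj : Function.Injective (PowerSeries.map f) := by
    intro x y hxy
    ext n
    apply hf.injective
    rw [← PowerSeries.coeff_map, ← PowerSeries.coeff_map, hxy]
  apply hinj
  rw [map_lamSeries f hf.isLambdaHom, ← PowerSeries.rescale_map, map_lamSeries f hf.isLambdaHom,
    map_mul, ← hsum]
  exact lamSeries_line_mul_sum L₁.posStr (f a) (isLine_map L.posStr L₁.posStr f hf a ha) s hs

theorem lamSeries_line_mul (hK : HasSplitting K P) (a y : K) (ha : P.IsLine a) :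
    lamSeries (a * y) = PowerSeries.rescale a (lamSeries y) := by
  obtain ⟨C, hKC, hC⟩ := hK
  obtain ⟨e, f, he, hf, rfl⟩ := P.exists_sub y
  have h1 := lamSeries_line_mul_pos C hC ⟨K, P⟩ hKC a e ha he
  have h2 := lamSeries_line_mul_pos C hC ⟨K, P⟩ hKC a f ha hf
  change lamSeries (a * e) = PowerSeries.rescale a (lamSeries e) at h1
  change lamSeries (a * f) = PowerSeries.rescale a (lamSeries f) at h2
  have h3 : lamSeries (a * (e - f)) * lamSeries (a * f) = lamSeries (a * e) := by
    rw [← lamSeries_add]; congr 1; ring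
  have h4 : lamSeries (e - f) * lamSeries f = lamSeries e := by
    rw [← lamSeries_add]; congr 1; ring
  have h5 : PowerSeries.rescale a (lamSeries (e - f)) * lamSeries (a * f) = lamSeries (a * e) := by
    rw [h1, h2, ← map_mul, h4]
  exact (isUnit_lamSeries (a * f)).mul_right_cancel (h3.trans h5.symm)

theorem lam_line_mul (hK : HasSplitting K P) (a y : K) (ha : P.IsLine a) (i : ℕ) :
    LambdaOps.lam i (a * y) = a ^ i * LambdaOps.lam i y := by
  have := congrArg (PowerSeries.coeff i) (lamSeries_line_mul P hK a y ha)
  rwa [PowerSeries.coeff_rescale, coeff_lamSeries, coeff_lamSeries] at this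

end Groth.Agent.Helper7.ARR
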