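import Mathlib
import Groth.Prelude.Def_KRR
import Groth.Agent.Helper7.ARRd

set_option autoImplicit false

/-!
# Helper7: Adams–Riemann–Roch for an elementary projection (e)

Evaluation of Bott's polynomial.
-/

namespace Groth.Agent.Helper7.ARR

open LambdaRing

/-- evaluation of Bott's polynomial in a commutative ring -/
noncomputable def bottEval {S : Type*} [CommRing S] (j m : ℕ) (x : Fin m → S) : S :=
  MvPolynomial.aeval x (KRR.bottPoly j m)

theorem map_bottEval {S T : Type*} [CommRing S] [CommRing T] (g : S →+* T) (j m : ℕ)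
    (x : Fin m → S) : g (bottEval j m x) = bottEval j m (fun i => g (x i)) := by
  unfold bottEval
  exact MvPolynomial.comp_aeval_apply (R := ℤ) (f := x) g.toIntAlgHom (KRR.bottPoly j m)

theorem bottPoly_aeval_esymm (j m : ℕ) :
    bottEval j m (fun i : Fin m => MvPolynomial.esymm (Fin m) ℤ ((i : ℕ) + 1)) =
      KRR.bottSym j m := by
  unfold bottEval
  have h1 : (MvPolynomial.esymmAlgEquiv (Fin m) (R := ℤ) (Fintype.card_fin m)) (KRR.bottPoly j m) =
      ⟨KRR.bottSym j m, KRR.bottSym_isSymmetric j m⟩ := AlgEquiv.apply_symm_apply _ _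
  rw [MvPolynomial.esymmAlgEquiv_apply] at h1
  have h2 := congrArg Subtype.val h1
  rw [MvPolynomial.esymmAlgHom_apply] at h2
  exact h2

/-- evaluating Bott's polynomial at the elementary symmetric functions of `v`. -/
theorem bottEval_esymm {S : Type*} [CommRing S] (j m : ℕ) (v : Fin m → S) :
    bottEval j m (fun i : Fin m => (Finset.univ.val.map v).esymm ((i : ℕ) + 1)) =
      ∏ k : Fin m, ∑ c ∈ Finset.range j, v k ^ c := by
  have h1 := congrArg (MvPolynomial.eval₂Hom (Int.castRingHom S) v) (bottPoly_aeval_esymm j m)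
  rw [map_bottEval] at h1
  have h2 : ∀ n : ℕ, MvPolynomial.eval₂Hom (Int.castRingHom S) v (MvPolynomial.esymm (Fin m) ℤ n) =
      (Finset.univ.val.map v).esymm n := by
    intro n
    have := MvPolynomial.aeval_esymm_eq_multiset_esymm (Fin m) ℤ n v
    rw [← this]
    rfl
  simp only [h2] at h1
  rw [h1]
  unfold KRR.bottSym
  simp

theorem esymm_const_one (m n : ℕ) :
    (Finset.univ.val.map (fun _ : Fin m => (1 : ℤ))).esymm n = (m.choose n : ℤ) := by
  rw [Finset.esymm_map_val]
  simp

theorem bottEval_choose (j m : ℕ) :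
    bottEval j m (fun i : Fin m => ((m.choose ((i : ℕ) + 1) : ℕ) : ℤ)) = (j : ℤ) ^ m := by
  have h := bottEval_esymm j m (fun _ : Fin m => (1 : ℤ))
  simp only [esymm_const_one] at h
  rw [h]
  simp

universe u

variable {K : Type u} [CommRing K] [LambdaOps K]

theorem bott_eq (P : PosStructure K) (j : ℕ) (y : K) (m : ℕ) (hm : (P.aug y).toNat = m) :
    KRR.bott P j y = bottEval j m (fun i : Fin m => LambdaOps.lam ((i : ℕ) + 1) y) := by
  subst hm
  rfl

end Groth.Agent.Helper7.ARR
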