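import Mathlib
import Groth.Prelude.Def_KRR
import Groth.Agent.Helper7.ARRe
import Groth.Agent.Helper4.AdamsGamma2
import Groth.Agent.S3288

set_option autoImplicit false

/-!
# Helper7: Adams–Riemann–Roch for an elementary projection (f)

Facts in `K_e`: `λ^i(e ℓ⁻¹)`, the augmentation of Bott's class, invertibility after inverting `j`.
-/

namespace Groth.Agent.Helper7.ARR

open LambdaRing TensorProduct

universe v

variable {K : Type v} [CommRing K] [LambdaOps K] (P : PosStructure K) (e : K) (r : ℕ)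
  [inst : LambdaOps (AdjoinRoot (KRR.extPoly P e))]
  (Pe : PosStructure (AdjoinRoot (KRR.extPoly P e)))

theorem aug_linv (hline : Pe.IsLine (AdjoinRoot.root (KRR.extPoly P e)))
    (linv : AdjoinRoot (KRR.extPoly P e))
    (hlinv : linv * AdjoinRoot.root (KRR.extPoly P e) = 1) : Pe.aug linv = 1 := by
  have := congrArg Pe.aug hlinv
  rwa [map_mul, hline.2, mul_one, map_one] at this

theorem lam_e_linv (hext : IsExtension P Pe (AdjoinRoot.of (KRR.extPoly P e)))
    (hline : Pe.IsLine (AdjoinRoot.root (KRR.extPoly P e)))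
    (hsplit : HasSplitting (AdjoinRoot (KRR.extPoly P e)) Pe)
    (linv : AdjoinRoot (KRR.extPoly P e))
    (hlinv : linv * AdjoinRoot.root (KRR.extPoly P e) = 1) (i : ℕ) :
    LambdaOps.lam i (AdjoinRoot.of (KRR.extPoly P e) e * linv) =
      AdjoinRoot.of (KRR.extPoly P e) (LambdaOps.lam i e) * linv ^ i := by
  have h1 := lam_line_mul Pe hsplit (AdjoinRoot.root (KRR.extPoly P e))
    (AdjoinRoot.of (KRR.extPoly P e) e * linv) hline i
  have h2 : AdjoinRoot.root (KRR.extPoly P e) * (AdjoinRoot.of (KRR.extPoly P e) e * linv) =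
      AdjoinRoot.of (KRR.extPoly P e) e := by
    rw [mul_comm, mul_assoc, hlinv, mul_one]
  rw [h2, ← hext.isLambdaHom] at h1
  rw [h1]
  have h3 : AdjoinRoot.root (KRR.extPoly P e) ^ i * linv ^ i = 1 := by
    rw [← mul_pow, mul_comm, hlinv, one_pow]
  calc LambdaOps.lam i (AdjoinRoot.of (KRR.extPoly P e) e * linv)
      = (AdjoinRoot.root (KRR.extPoly P e) ^ i * linv ^ i) *
          LambdaOps.lam i (AdjoinRoot.of (KRR.extPoly P e) e * linv) := by rw [h3, one_mul]
    _ = _ := by ring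

theorem aug_e_linv (hr : P.aug e = r + 1)
    (hext : IsExtension P Pe (AdjoinRoot.of (KRR.extPoly P e)))
    (hline : Pe.IsLine (AdjoinRoot.root (KRR.extPoly P e)))
    (linv : AdjoinRoot (KRR.extPoly P e))
    (hlinv : linv * AdjoinRoot.root (KRR.extPoly P e) = 1) :
    (Pe.aug (AdjoinRoot.of (KRR.extPoly P e) e * linv)).toNat = r + 1 := by
  rw [map_mul, hext.aug_comp, aug_linv P e Pe hline linv hlinv, mul_one, hr]
  omega

theorem bott_e_linv (hr : P.aug e = r + 1)
    (hext : IsExtension P Pe (AdjoinRoot.of (KRR.extPoly P e)))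
    (hline : Pe.IsLine (AdjoinRoot.root (KRR.extPoly P e)))
    (hsplit : HasSplitting (AdjoinRoot (KRR.extPoly P e)) Pe)
    (linv : AdjoinRoot (KRR.extPoly P e))
    (hlinv : linv * AdjoinRoot.root (KRR.extPoly P e) = 1) (j : ℕ) :
    KRR.bott Pe j (AdjoinRoot.of (KRR.extPoly P e) e * linv) =
      bottEval j (r + 1) (fun i : Fin (r + 1) =>
        AdjoinRoot.of (KRR.extPoly P e) (LambdaOps.lam ((i : ℕ) + 1) e) * linv ^ ((i : ℕ) + 1)) := by
  rw [bott_eq Pe j _ (r + 1) (aug_e_linv P e r Pe hr hext hline linv hlinv)]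
  have : (fun i : Fin (r + 1) => LambdaOps.lam ((i : ℕ) + 1)
      (AdjoinRoot.of (KRR.extPoly P e) e * linv)) = fun i : Fin (r + 1) =>
        AdjoinRoot.of (KRR.extPoly P e) (LambdaOps.lam ((i : ℕ) + 1) e) * linv ^ ((i : ℕ) + 1) :=
    funext fun i => lam_e_linv P e Pe hext hline hsplit linv hlinv _
  rw [this]

theorem aug_bott_e_linv (hK : HasSplitting K P) (he : e ∈ P.pos) (hr : P.aug e = r + 1)
    (hext : IsExtension P Pe (AdjoinRoot.of (KRR.extPoly P e)))
    (hline : Pe.IsLine (AdjoinRoot.root (KRR.extPoly P e)))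
    (hsplit : HasSplitting (AdjoinRoot (KRR.extPoly P e)) Pe)
    (linv : AdjoinRoot (KRR.extPoly P e))
    (hlinv : linv * AdjoinRoot.root (KRR.extPoly P e) = 1) (j : ℕ) :
    Pe.aug (KRR.bott Pe j (AdjoinRoot.of (KRR.extPoly P e) e * linv)) = (j : ℤ) ^ (r + 1) := by
  rw [bott_e_linv P e r Pe hr hext hline hsplit linv hlinv j, map_bottEval,
    ← bottEval_choose j (r + 1)]
  congr 1
  funext i
  rw [map_mul, map_pow, aug_linv P e Pe hline linv hlinv, one_pow, mul_one, hext.aug_comp,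
    Groth.Agent.S3288.result K P hK e he, hr]
  congr 2

theorem mem_gammaFiltration_one (x : AdjoinRoot (KRR.extPoly P e)) (hx : Pe.aug x = 0) :
    x ∈ gammaFiltration Pe 1 := by
  unfold gammaFiltration
  rw [if_neg one_ne_zero]
  apply AddSubgroup.subset_closure
  refine ⟨[(1, x)], ?_, ?_, ?_⟩
  · intro p hp
    rw [List.mem_singleton] at hp
    rw [hp]; exact hx
  · simp
  · simp [Groth.Agent.Helper4.AdamsGamma.gamma_one'']

theorem isNilpotent_of_aug_eq_zero (N : ℕ) (hN : gammaFiltration Pe N = ⊥)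
    (x : AdjoinRoot (KRR.extPoly P e)) (hx : Pe.aug x = 0) : IsNilpotent x := by
  refine ⟨N, ?_⟩
  have h1 := Groth.Agent.Helper4.AdamsGamma.pow_mem' Pe (mem_gammaFiltration_one P e Pe x hx) N
  rw [mul_one, hN] at h1
  exact (AddSubgroup.mem_bot).mp h1

end Groth.Agent.Helper7.ARR
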