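import Mathlib
import Groth.Prelude.Def_KRR
import Groth.Agent.Helper7.ARRf

set_option autoImplicit false

/-!
# Helper7: Adams–Riemann–Roch for an elementary projection (g)

Invertibility of `1 ⊗ θ` in `R ⊗ K_e` when `j` is invertible in `R`.
-/

namespace Groth.Agent.Helper7.ARR

open LambdaRing TensorProduct

universe v

theorem exists_inv_tmul {R : Type*} [CommRing R] {E : Type v} [CommRing E] (j : ℕ) (m : ℕ)
    (hjR : IsUnit (j : R)) (θ : E) (hθ : IsNilpotent (θ - (j : E) ^ m)) :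
    ∃ w : R ⊗[ℤ] E, w * ((1 : R) ⊗ₜ[ℤ] θ) = 1 := by
  have h1 : ((1 : R) ⊗ₜ[ℤ] θ : R ⊗[ℤ] E) =
      ((j : R) ^ m) ⊗ₜ[ℤ] (1 : E) + (1 : R) ⊗ₜ[ℤ] (θ - (j : E) ^ m) := by
    rw [TensorProduct.tmul_sub]
    have h2 : ((j : R) ^ m) ⊗ₜ[ℤ] (1 : E) = (1 : R) ⊗ₜ[ℤ] ((j : E) ^ m) := by
      have e1 : ((j : R) ^ m) = ((j : ℤ) ^ m) • (1 : R) := by
        rw [zsmul_eq_mul, mul_one]; push_cast; rfl
      have e2 : ((j : E) ^ m) = ((j : ℤ) ^ m) • (1 : E) := by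
        rw [zsmul_eq_mul, mul_one]; push_cast; rfl
      rw [e1, e2, TensorProduct.smul_tmul]
    rw [h2]
    abel
  have hu : IsUnit (((j : R) ^ m) ⊗ₜ[ℤ] (1 : E) : R ⊗[ℤ] E) :=
    (hjR.pow m).map (Algebra.TensorProduct.includeLeft : R →ₐ[ℤ] R ⊗[ℤ] E)
  have hn : IsNilpotent ((1 : R) ⊗ₜ[ℤ] (θ - (j : E) ^ m) : R ⊗[ℤ] E) :=
    hθ.map (Algebra.TensorProduct.includeRight : E →ₐ[ℤ] R ⊗[ℤ] E)
  have h3 := hn.isUnit_add_left_of_commute hu (Commute.all _ _)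
  rw [← h1] at h3
  obtain ⟨w, hw⟩ := h3.exists_left_inv
  exact ⟨w, hw⟩

end Groth.Agent.Helper7.ARR
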