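import Mathlib
import Groth.Prelude.Def_KRR
import Groth.Agent.Helper7.ARRc
import Groth.Agent.Helper7.ARRg
import Groth.Agent.Helper4.ElemExt

set_option autoImplicit false

/-!
# Helper7: Adams–Riemann–Roch for an elementary projection (h)

Base change of the elementary extension to `R ⊗ L`, where `e` splits in `L`.
-/

namespace Groth.Agent.Helper7.ARR

open LambdaRing TensorProduct Polynomial

universe v w

theorem map_multiset_esymm' {A B : Type*} [CommSemiring A] [CommSemiring B] (g : A →+* B)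
    (m : Multiset A) (k : ℕ) : g (m.esymm k) = (m.map g).esymm k := by
  unfold Multiset.esymm
  rw [map_multiset_sum, Multiset.powersetCard_map, Multiset.map_map, Multiset.map_map]
  congr 1
  apply Multiset.map_congr rfl
  intro t _
  simp [map_multiset_prod]

theorem esymm_map_mul_right {S : Type*} [CommRing S] (m : Multiset S) (a : S) (n : ℕ) :
    (m.map (fun x => x * a)).esymm n = m.esymm n * a ^ n := by
  have h := Multiset.pow_smul_esymm a n m
  simp only [smul_eq_mul] at h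
  rw [mul_comm, h]
  congr 1
  apply Multiset.map_congr rfl
  intro x _
  ring

section

variable {K : Type v} [CommRing K] [LambdaOps K] (P : PosStructure K) (e : K)
  {L : Type v} [CommRing L] (ι₀ : K →+* L) (R : Type w) [CommRing R] {m : ℕ} (u : Fin m → L)

/-- `a ↦ 1 ⊗ ι₀ a` -/
noncomputable def g0 : K →+* R ⊗[ℤ] L :=
  (Algebra.TensorProduct.includeRight : L →ₐ[ℤ] R ⊗[ℤ] L).toRingHom.comp ι₀

omit [LambdaOps K] in
theorem g0_apply (a : K) : g0 ι₀ R a = (1 : R) ⊗ₜ[ℤ] ι₀ a := rfl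

/-- the roots in `R ⊗ L` -/
noncomputable def u' : Fin m → R ⊗[ℤ] L := fun k => (1 : R) ⊗ₜ[ℤ] u k

theorem extPoly_map (hm : (P.aug e).toNat = m)
    (hlam : ∀ i : ℕ, ι₀ (LambdaOps.lam i e) = (Finset.univ.val.map u).esymm i) :
    (KRR.extPoly P e).map (g0 ι₀ R) = pp (u' R u) := by
  unfold KRR.extPoly pp
  rw [hm, Polynomial.map_sum]
  have h1 : (∏ k : Fin m, (X - C (u' R u k))) =
      ((Finset.univ.val.map (u' R u)).map (fun t => X - C t)).prod := by
    rw [Multiset.map_map]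
    rfl
  rw [h1, Multiset.prod_X_sub_X_eq_sum_esymm]
  have hcard : Multiset.card (Finset.univ.val.map (u' R u)) = m := by simp
  rw [hcard]
  refine Finset.sum_congr rfl fun i _ => ?_
  rw [Polynomial.map_mul, Polynomial.map_C, Polynomial.map_pow, Polynomial.map_X, map_mul, map_pow,
    map_neg, map_one, g0_apply, hlam]
  have h2 : (1 : R) ⊗ₜ[ℤ] (Finset.univ.val.map u).esymm i =
      (Finset.univ.val.map (u' R u)).esymm i := by
    have := map_multiset_esymm'
      ((Algebra.TensorProduct.includeRight : L →ₐ[ℤ] R ⊗[ℤ] L).toRingHom)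
      (Finset.univ.val.map u) i
    rw [Multiset.map_map] at this
    exact this
  rw [h2, C_mul, C_pow, C_neg, C_1, mul_assoc]

variable (hm : (P.aug e).toNat = m)
  (hlam : ∀ i : ℕ, ι₀ (LambdaOps.lam i e) = (Finset.univ.val.map u).esymm i)

/-- the base change map `K_e → (R ⊗ L)[T]/(∏ (T - u_k))` -/
noncomputable def Phi0 : AdjoinRoot (KRR.extPoly P e) →+* AdjoinRoot (pp (u' R u)) :=
  AdjoinRoot.lift ((AdjoinRoot.of (pp (u' R u))).comp (g0 ι₀ R)) (AdjoinRoot.root (pp (u' R u)))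
    (by
      rw [← Polynomial.eval₂_map, extPoly_map P e ι₀ R u hm hlam]
      exact AdjoinRoot.eval₂_root _)

theorem Phi0_of (a : K) :
    Phi0 P e ι₀ R u hm hlam (AdjoinRoot.of _ a) = AdjoinRoot.of _ ((1 : R) ⊗ₜ[ℤ] ι₀ a) := by
  unfold Phi0
  rw [AdjoinRoot.lift_of]
  rfl

theorem Phi0_root :
    Phi0 P e ι₀ R u hm hlam (AdjoinRoot.root _) = AdjoinRoot.root _ := by
  unfold Phi0
  rw [AdjoinRoot.lift_root]

/-- the map `R ⊗ K_e → (R ⊗ L)[T]/(∏ (T - u_k))` -/
noncomputable def Phi : R ⊗[ℤ] AdjoinRoot (KRR.extPoly P e) →+* AdjoinRoot (pp (u' R u)) :=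
  (Algebra.TensorProduct.productMap
    (((AdjoinRoot.of (pp (u' R u))).comp
      (Algebra.TensorProduct.includeLeft : R →ₐ[ℤ] R ⊗[ℤ] L).toRingHom).toIntAlgHom)
    (Phi0 P e ι₀ R u hm hlam).toIntAlgHom).toRingHom

theorem Phi_tmul (c : R) (x : AdjoinRoot (KRR.extPoly P e)) :
    Phi P e ι₀ R u hm hlam (c ⊗ₜ[ℤ] x) =
      AdjoinRoot.of _ (c ⊗ₜ[ℤ] (1 : L)) * Phi0 P e ι₀ R u hm hlam x := by
  unfold Phi
  simp only [AlgHom.toRingHom_eq_coe, RingHom.coe_coe,
    Algebra.TensorProduct.productMap_apply_tmul]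
  rfl

end

end Groth.Agent.Helper7.ARR
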