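import Mathlib
import Groth.Prelude.Def_KRR
import Groth.Agent.Helper7.ARRh

set_option autoImplicit false

/-!
# Helper7: Adams–Riemann–Roch for an elementary projection (i)

The functional on the base-changed extension and its compatibility with `R ⊗ f`.
-/

namespace Groth.Agent.Helper7.ARR

open LambdaRing TensorProduct Polynomial

universe v w

section

variable {A : Type*} [CommRing A] {m : ℕ} (u : Fin m → A) (h : ℕ → A)

/-- the `A`-linear functional on `A[T]/(∏ (T - u_k))` with `ℓ^i ↦ h i` for `i < m`. -/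
noncomputable def fA : AdjoinRoot (pp u) →ₗ[A] A :=
  ∑ i ∈ Finset.range m, (h i) • ((Polynomial.lcoeff A i).comp (AdjoinRoot.modByMonicHom (pp_monic u)))

theorem fA_root_pow [Nontrivial A] (i : ℕ) (hi : i < m) :
    fA u h (AdjoinRoot.root (pp u) ^ i) = h i := by
  classical
  unfold fA
  have h1 : AdjoinRoot.root (pp u) ^ i = AdjoinRoot.mk (pp u) (X ^ i) := by
    rw [map_pow, AdjoinRoot.mk_X]
  have h2 : (X ^ i : A[X]) %ₘ pp u = X ^ i := by
    rw [modByMonic_eq_self_iff (pp_monic u), degree_X_pow,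
      degree_eq_natDegree (pp_monic u).ne_zero, pp_natDegree]
    exact_mod_cast hi
  rw [h1, LinearMap.sum_apply]
  simp only [LinearMap.smul_apply, LinearMap.comp_apply, AdjoinRoot.modByMonicHom_mk, h2,
    Polynomial.lcoeff_apply, coeff_X_pow, smul_eq_mul]
  rw [Finset.sum_eq_single i]
  · simp
  · intro b _ hb
    rw [if_neg hb, mul_zero]
  · intro hh
    exfalso; apply hh
    rw [Finset.mem_range]; exact hi

theorem fA_of_mul (a : A) (x : AdjoinRoot (pp u)) :
    fA u h (AdjoinRoot.of (pp u) a * x) = a * fA u h x := by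
  have h1 : AdjoinRoot.of (pp u) a * x = a • x := by
    rw [Algebra.smul_def, AdjoinRoot.algebraMap_eq]
  rw [h1, map_smul, smul_eq_mul]

end

end Groth.Agent.Helper7.ARR

namespace Groth.Agent.Helper7.ARR

open LambdaRing TensorProduct Polynomial

universe v w

section

variable {K : Type v} [CommRing K] [LambdaOps K] (P : PosStructure K) (e : K)
  {L : Type v} [CommRing L] (ι₀ : K →+* L) (R : Type w) [CommRing R] {m : ℕ} (u : Fin m → L)
  (hm : (P.aug e).toNat = m)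
  (hlam : ∀ i : ℕ, ι₀ (LambdaOps.lam i e) = (Finset.univ.val.map u).esymm i)
  (f : AdjoinRoot (KRR.extPoly P e) →ₗ[K] K)

/-- `R ⊗ ι₀` -/
noncomputable def JJ : R ⊗[ℤ] K →ₗ[ℤ] R ⊗[ℤ] L :=
  LinearMap.lTensor R ι₀.toAddMonoidHom.toIntLinearMap

/-- `R ⊗ f` -/
noncomputable def Tf : R ⊗[ℤ] AdjoinRoot (KRR.extPoly P e) →ₗ[ℤ] R ⊗[ℤ] K :=
  LinearMap.lTensor R f.toAddMonoidHom.toIntLinearMap

omit [LambdaOps K] in
theorem JJ_tmul (c : R) (a : K) : JJ ι₀ R (c ⊗ₜ[ℤ] a) = c ⊗ₜ[ℤ] ι₀ a := rfl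

theorem Tf_tmul (c : R) (x : AdjoinRoot (KRR.extPoly P e)) :
    Tf P e R f (c ⊗ₜ[ℤ] x) = c ⊗ₜ[ℤ] f x := rfl

/-- the values `1 ⊗ ι₀ σ^i(e)` -/
noncomputable def hsig (i : ℕ) : R ⊗[ℤ] L := (1 : R) ⊗ₜ[ℤ] ι₀ (KRR.sigma i e)

theorem Phi0_expansion (xs : ℕ → K) :
    Phi0 P e ι₀ R u hm hlam (∑ k ∈ Finset.range m, xs k • AdjoinRoot.root (KRR.extPoly P e) ^ k) =
      ∑ k ∈ Finset.range m,
        AdjoinRoot.of _ ((1 : R) ⊗ₜ[ℤ] ι₀ (xs k)) * AdjoinRoot.root (pp (u' R u)) ^ k := by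
  rw [map_sum]
  refine Finset.sum_congr rfl fun k _ => ?_
  rw [Algebra.smul_def, AdjoinRoot.algebraMap_eq, map_mul, map_pow, Phi0_of, Phi0_root]

theorem compat [Nontrivial (R ⊗[ℤ] L)]
    (hf : ∀ i, i < m → f (AdjoinRoot.root (KRR.extPoly P e) ^ i) = KRR.sigma i e)
    (z : R ⊗[ℤ] AdjoinRoot (KRR.extPoly P e)) :
    fA (u' R u) (hsig e ι₀ R) (Phi P e ι₀ R u hm hlam z) = JJ ι₀ R (Tf P e R f z) := by
  induction z using TensorProduct.induction_on with
  | zero => simp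
  | add x y hx hy => rw [map_add, map_add, map_add, map_add, hx, hy]
  | tmul c x =>
    obtain ⟨xs, hxs⟩ := Groth.Agent.Helper4.ElemExt.exists_expansion P e m hm x
    rw [Phi_tmul, Tf_tmul, JJ_tmul, hxs, Phi0_expansion, Finset.mul_sum, map_sum, map_sum, map_sum,
      TensorProduct.tmul_sum]
    refine Finset.sum_congr rfl fun k hk => ?_
    rw [Finset.mem_range] at hk
    rw [← mul_assoc, ← map_mul, fA_of_mul, fA_root_pow _ _ k hk, map_smul, hf k hk, smul_eq_mul,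
      map_mul]
    unfold hsig
    rw [Algebra.TensorProduct.tmul_mul_tmul, Algebra.TensorProduct.tmul_mul_tmul, mul_one, mul_one,
      one_mul]

end

end Groth.Agent.Helper7.ARR
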