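import Mathlib
import Groth.Prelude.Def_KRR
import Groth.Agent.Helper7.ARRi

set_option autoImplicit false

/-!
# Helper7: Adams–Riemann–Roch for an elementary projection (j)

The key vanishing `(R ⊗ f)(j w ℓ^{-jn}) = δ_{n0}`.
-/

namespace Groth.Agent.Helper7.ARR

open LambdaRing TensorProduct Polynomial

universe v w

section

variable {K : Type v} [CommRing K] [LambdaOps K] (P : PosStructure K) (e : K)
  {L : Type v} [CommRing L] (ι₀ : K →+* L) (R : Type w) [CommRing R] {m : ℕ} (u : Fin m → L)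
  (hm : (P.aug e).toNat = m)
  (hlam : ∀ i : ℕ, ι₀ (LambdaOps.lam i e) = (Finset.univ.val.map u).esymm i)
  (f : AdjoinRoot (KRR.extPoly P e) →ₗ[K] K)

omit [LambdaOps K] in
theorem tmul_esymm (i : ℕ) :
    (1 : R) ⊗ₜ[ℤ] (Finset.univ.val.map u).esymm i = (Finset.univ.val.map (u' R u)).esymm i := by
  have := map_multiset_esymm'
    ((Algebra.TensorProduct.includeRight : L →ₐ[ℤ] R ⊗[ℤ] L).toRingHom)
    (Finset.univ.val.map u) i
  rw [Multiset.map_map] at this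
  exact this

theorem Phi_one_tmul (x : AdjoinRoot (KRR.extPoly P e)) :
    Phi P e ι₀ R u hm hlam ((1 : R) ⊗ₜ[ℤ] x) = Phi0 P e ι₀ R u hm hlam x := by
  rw [Phi_tmul]
  have : ((1 : R) ⊗ₜ[ℤ] (1 : L)) = (1 : R ⊗[ℤ] L) := rfl
  rw [this, map_one, one_mul]

theorem Phi0_theta (linv : AdjoinRoot (KRR.extPoly P e)) (j : ℕ) :
    Phi0 P e ι₀ R u hm hlam (bottEval j m (fun i : Fin m =>
      AdjoinRoot.of (KRR.extPoly P e) (LambdaOps.lam ((i : ℕ) + 1) e) * linv ^ ((i : ℕ) + 1))) =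
    ∏ k : Fin m, ∑ c ∈ Finset.range j,
      (AdjoinRoot.of (pp (u' R u)) (u' R u k) * Phi0 P e ι₀ R u hm hlam linv) ^ c := by
  rw [map_bottEval, ← bottEval_esymm]
  congr 1
  funext i
  rw [map_mul, map_pow, Phi0_of, hlam, tmul_esymm, map_multiset_esymm', Multiset.map_map,
    ← esymm_map_mul_right, Multiset.map_map]
  rfl

include u hm hlam in
theorem claimA [Module.Flat ℤ R] (hι : Function.Injective ι₀) (hm1 : 1 ≤ m)
    (hvan : ∀ i, m < i → LambdaOps.lam i e = 0) (hunit : IsUnit (LambdaOps.lam m e))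
    (hf : ∀ i, i < m → f (AdjoinRoot.root (KRR.extPoly P e) ^ i) = KRR.sigma i e)
    (linv : AdjoinRoot (KRR.extPoly P e))
    (hlinv : linv * AdjoinRoot.root (KRR.extPoly P e) = 1) (j : ℕ) (hj : 1 ≤ j)
    (w : R ⊗[ℤ] AdjoinRoot (KRR.extPoly P e))
    (hw : w * ((1 : R) ⊗ₜ[ℤ] bottEval j m (fun i : Fin m =>
      AdjoinRoot.of (KRR.extPoly P e) (LambdaOps.lam ((i : ℕ) + 1) e) * linv ^ ((i : ℕ) + 1))) = 1)
    (n : ℕ) (hn : n < m) :
    Tf P e R f ((j : R ⊗[ℤ] AdjoinRoot (KRR.extPoly P e)) * w * ((1 : R) ⊗ₜ[ℤ] (linv ^ (j * n)))) =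
      if n = 0 then 1 else 0 := by
  have hJinj : Function.Injective (JJ ι₀ R) :=
    Module.Flat.lTensor_preserves_injective_linearMap (M := R)
      ι₀.toAddMonoidHom.toIntLinearMap hι
  rcases subsingleton_or_nontrivial (R ⊗[ℤ] L) with hA | hA
  · exact hJinj (Subsingleton.elim _ _)
  set Φ := Phi P e ι₀ R u hm hlam with hΦ
  set sA := Φ ((1 : R) ⊗ₜ[ℤ] linv) with hsA
  have hsA0 : sA = Phi0 P e ι₀ R u hm hlam linv := Phi_one_tmul P e ι₀ R u hm hlam linv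
  have hs : sA * AdjoinRoot.root (pp (u' R u)) = 1 := by
    rw [hsA0, ← Phi0_root P e ι₀ R u hm hlam, ← map_mul, hlinv, map_one]
  have hwA : Φ w * ∏ k : Fin m, ∑ c ∈ Finset.range j,
      (AdjoinRoot.of (pp (u' R u)) (u' R u k) * sA) ^ c = 1 := by
    have h1 := congrArg Φ hw
    rw [map_mul, map_one, hΦ, Phi_one_tmul, Phi0_theta, ← hsA0] at h1
    exact h1
  have hpow : ∀ k : ℕ, sA ^ k = Φ ((1 : R) ⊗ₜ[ℤ] (linv ^ k)) := by
    intro k
    rw [hsA, ← map_pow, Algebra.TensorProduct.tmul_pow, one_pow]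
  have hφ0 : fA (u' R u) (hsig e ι₀ R) 1 = 1 := by
    have := fA_root_pow (u' R u) (hsig e ι₀ R) 0 (by omega)
    rw [pow_zero] at this
    rw [this]
    unfold hsig
    rw [Groth.Agent.Helper4.ElemExt.sigma_zero, map_one]
    rfl
  have hφ : ∀ k, 1 ≤ k → k < m → fA (u' R u) (hsig e ι₀ R) (sA ^ k) = 0 := by
    intro k hk1 hkm
    rw [hpow, hΦ, compat P e ι₀ R u hm hlam f hf, Tf_tmul,
      Groth.Agent.Helper4.ElemExt.f_inv_pow P e m hm hm1 hvan f hf linv hlinv hunit k hk1 hkm,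
      TensorProduct.tmul_zero, map_zero]
  have hmain := main j hm1 hj (u' R u) sA (Φ w) hs hwA (fA (u' R u) (hsig e ι₀ R)) hφ0 hφ n hn
  have hΦz : Φ ((j : R ⊗[ℤ] AdjoinRoot (KRR.extPoly P e)) * w * ((1 : R) ⊗ₜ[ℤ] (linv ^ (j * n)))) =
      (j : AdjoinRoot (pp (u' R u))) * Φ w * sA ^ (j * n) := by
    rw [map_mul, map_mul, map_natCast, ← hpow]
  apply hJinj
  rw [← compat P e ι₀ R u hm hlam f hf, ← hΦ, hΦz, hmain]
  by_cases hn0 : n = 0
  · rw [if_pos hn0, if_pos hn0]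
    have : (1 : R ⊗[ℤ] K) = (1 : R) ⊗ₜ[ℤ] (1 : K) := rfl
    rw [this, JJ_tmul, map_one]
    rfl
  · rw [if_neg hn0, if_neg hn0, map_zero]

end

end Groth.Agent.Helper7.ARR
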