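import Mathlib
import Groth.Prelude.Def_KRR
import Groth.Agent.Helper7.ARRj
import Groth.Agent.Helper4.InvSplit
import Groth.Agent.Helper4.LamED

set_option autoImplicit false

/-!
# Helper7: Adams–Riemann–Roch for an elementary projection (k)

The final assembly, generic in the coefficient ring `R` (flat over `ℤ`).
-/

namespace Groth.Agent.Helper7.ARR

open LambdaRing TensorProduct Polynomial

universe v w

section

variable {K : Type v} [CommRing K] [LambdaOps K] (P : PosStructure K) (e : K)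
  (R : Type w) [CommRing R] (f : AdjoinRoot (KRR.extPoly P e) →ₗ[K] K)

theorem Tf_of_mul (a : K) (z : R ⊗[ℤ] AdjoinRoot (KRR.extPoly P e)) :
    Tf P e R f (((1 : R) ⊗ₜ[ℤ] AdjoinRoot.of (KRR.extPoly P e) a) * z) =
      ((1 : R) ⊗ₜ[ℤ] a) * Tf P e R f z := by
  induction z using TensorProduct.induction_on with
  | zero => simp
  | add x y hx hy => rw [mul_add, map_add, map_add, hx, hy, mul_add]
  | tmul c x =>
    rw [Algebra.TensorProduct.tmul_mul_tmul, Tf_tmul, Tf_tmul, Algebra.TensorProduct.tmul_mul_tmul,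
      one_mul]
    have : AdjoinRoot.of (KRR.extPoly P e) a * x = a • x := by
      rw [Algebra.smul_def, AdjoinRoot.algebraMap_eq]
    rw [this, map_smul, smul_eq_mul]

end

section

variable {K : Type v} [CommRing K] [LambdaOps K] (P : PosStructure K) (e : K) (r : ℕ)
  [inst : LambdaOps (AdjoinRoot (KRR.extPoly P e))]
  (Pe : PosStructure (AdjoinRoot (KRR.extPoly P e)))
  (R : Type w) [CommRing R] (f : AdjoinRoot (KRR.extPoly P e) →ₗ[K] K)

theorem adams_linv (hline : Pe.IsLine (AdjoinRoot.root (KRR.extPoly P e)))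
    (hsplit : HasSplitting (AdjoinRoot (KRR.extPoly P e)) Pe)
    (linv : AdjoinRoot (KRR.extPoly P e))
    (hlinv : linv * AdjoinRoot.root (KRR.extPoly P e) = 1) (j : ℕ) :
    adams Pe j linv = linv ^ j := by
  have h1 : adams Pe j linv * adams Pe j (AdjoinRoot.root (KRR.extPoly P e)) = 1 := by
    rw [← Groth.Agent.Helper1.Lambda.adams_mul Pe hsplit, hlinv,
      Groth.Agent.Helper1.Lambda.adams_one]
  rw [Groth.Agent.Helper1.Lambda.adams_line Pe _ hline] at h1
  have h2 : AdjoinRoot.root (KRR.extPoly P e) ^ j * linv ^ j = 1 := by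
    rw [← mul_pow, mul_comm, hlinv, one_pow]
  calc adams Pe j linv = adams Pe j linv * (AdjoinRoot.root (KRR.extPoly P e) ^ j * linv ^ j) := by
        rw [h2, mul_one]
    _ = (adams Pe j linv * AdjoinRoot.root (KRR.extPoly P e) ^ j) * linv ^ j := by ring
    _ = linv ^ j := by rw [h1, one_mul]

theorem arr_generic [Module.Flat ℤ R] (hK : HasSplitting K P) (he : e ∈ P.pos)
    (hr : P.aug e = r + 1)
    (hext : IsExtension P Pe (AdjoinRoot.of (KRR.extPoly P e)))
    (hline : Pe.IsLine (AdjoinRoot.root (KRR.extPoly P e)))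
    (hsplit : HasSplitting (AdjoinRoot (KRR.extPoly P e)) Pe)
    (hf : ∀ i : ℕ, i ≤ r → f (AdjoinRoot.root (KRR.extPoly P e) ^ i) = KRR.sigma i e)
    (linv : AdjoinRoot (KRR.extPoly P e))
    (hlinv : linv * AdjoinRoot.root (KRR.extPoly P e) = 1) (j : ℕ) (hj : 1 ≤ j)
    (w : R ⊗[ℤ] AdjoinRoot (KRR.extPoly P e))
    (hw : w * ((1 : R) ⊗ₜ[ℤ] KRR.bott Pe j (AdjoinRoot.of (KRR.extPoly P e) e * linv)) = 1)
    (x : AdjoinRoot (KRR.extPoly P e)) :
    (1 : R) ⊗ₜ[ℤ] adams P j (f x) =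
      Tf P e R f ((j : R ⊗[ℤ] AdjoinRoot (KRR.extPoly P e)) * w * ((1 : R) ⊗ₜ[ℤ] adams Pe j x)) := by
  classical
  set ℓ := AdjoinRoot.root (KRR.extPoly P e) with hℓ
  have hm : (P.aug e).toNat = r + 1 := by rw [hr]; omega
  have hvan : ∀ i, r + 1 < i → LambdaOps.lam i e = 0 := by
    intro i hi
    apply P.lam_eq_zero e he i
    rw [hr]; exact_mod_cast hi
  have hunit : IsUnit (LambdaOps.lam (r + 1) e) := by
    have := P.isUnit_lam e he
    rwa [hm] at this
  have hf' : ∀ i, i < r + 1 → f (ℓ ^ i) = KRR.sigma i e := fun i hi => hf i (by omega)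
  -- splitting of e
  obtain ⟨C, hKC, hC⟩ := hK
  obtain ⟨L, hL, ι₀, hι, s, hs, hsum⟩ := hC ⟨K, P⟩ hKC e he
  have hcard : Multiset.card s = r + 1 := by
    have h1 : L.posStr.aug (ι₀ e) = Multiset.card s := by
      rw [← hsum]
      exact Groth.Agent.Helper1.Lambda.aug_sum_lines L.posStr s hs
    have h2 : L.posStr.aug (ι₀ e) = P.aug e := hι.aug_comp e
    have h3 : ((Multiset.card s : ℕ) : ℤ) = ((r + 1 : ℕ) : ℤ) := by
      rw [← h1, h2, hr]; push_cast; ring
    exact_mod_cast h3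
  obtain ⟨u, hu⟩ := Groth.Agent.Helper4.LamED.exists_fn_of_card s (r + 1) hcard
  have hlam : ∀ i : ℕ, ι₀ (LambdaOps.lam i e) = (Finset.univ.val.map u).esymm i := by
    intro i
    have h1 : ι₀ (LambdaOps.lam i e) = LambdaOps.lam i (ι₀ e) := hι.isLambdaHom i e
    rw [h1, hu, ← hsum]
    exact Groth.Agent.Helper4.InvSplit.lam_sum_lines s
      (fun y hy k hk => Groth.Agent.Helper1.Lambda.lam_line L.posStr y (hs y hy) k hk) i
  rw [bott_e_linv P e r Pe hr hext hline hsplit linv hlinv j] at hw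
  have hA := claimA P e ι₀ R u hm hlam f hι.injective (by omega) hvan hunit hf' linv hlinv j hj w hw
  -- expansion of x in powers of linv
  have hℓl : ∀ k : ℕ, ℓ ^ k * linv ^ k = 1 := fun k => by
    rw [← mul_pow, mul_comm, hlinv, one_pow]
  obtain ⟨ys, hys⟩ := Groth.Agent.Helper4.ElemExt.exists_expansion P e (r + 1) hm (x * ℓ ^ r)
  have hx : x = ∑ k ∈ Finset.range (r + 1), AdjoinRoot.of (KRR.extPoly P e) (ys k) * linv ^ (r - k) := by
    have h1 : x = (x * ℓ ^ r) * linv ^ r := by rw [mul_assoc, hℓl, mul_one]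
    rw [h1, hys, Finset.sum_mul]
    refine Finset.sum_congr rfl fun k hk => ?_
    rw [Finset.mem_range] at hk
    rw [Algebra.smul_def, AdjoinRoot.algebraMap_eq, mul_assoc]
    congr 1
    have h2 : linv ^ r = linv ^ k * linv ^ (r - k) := by rw [← pow_add]; congr 1; omega
    rw [h2, ← mul_assoc, hℓl, one_mul]
  -- f x
  have hfx : f x = ys r := by
    rw [hx, map_sum, Finset.sum_eq_single r]
    · rw [Nat.sub_self, pow_zero, mul_one, ← mul_one (AdjoinRoot.of _ (ys r)),
        ← AdjoinRoot.algebraMap_eq, ← Algebra.smul_def, map_smul]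
      have h0 := hf' 0 (by omega)
      rw [pow_zero, Groth.Agent.Helper4.ElemExt.sigma_zero] at h0
      rw [h0, smul_eq_mul, mul_one]
    · intro k hk hkr
      rw [Finset.mem_range] at hk
      rw [← AdjoinRoot.algebraMap_eq, ← Algebra.smul_def, map_smul,
        Groth.Agent.Helper4.ElemExt.f_inv_pow P e (r + 1) hm (by omega) hvan f hf' linv hlinv hunit
          (r - k) (by omega) (by omega), smul_zero]
    · intro h; exfalso; apply h; rw [Finset.mem_range]; omega
  -- adams of x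
  have hψx : adams Pe j x = ∑ k ∈ Finset.range (r + 1),
      AdjoinRoot.of (KRR.extPoly P e) (adams P j (ys k)) * linv ^ (j * (r - k)) := by
    have h1 : adams Pe j x = Groth.Agent.Helper1.Lambda.adamsHom Pe hsplit j x := rfl
    rw [h1, hx, map_sum]
    refine Finset.sum_congr rfl fun k _ => ?_
    rw [map_mul, map_pow]
    show adams Pe j _ * adams Pe j linv ^ (r - k) = _
    rw [← Groth.Agent.Helper1.Lambda.map_adams P Pe _ hext, adams_linv P e Pe hline hsplit linv hlinv,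
      ← pow_mul]
  rw [hfx, hψx, TensorProduct.tmul_sum, Finset.mul_sum, map_sum]
  rw [Finset.sum_eq_single r]
  · have h2 : (j : R ⊗[ℤ] AdjoinRoot (KRR.extPoly P e)) * w *
        ((1 : R) ⊗ₜ[ℤ] (AdjoinRoot.of (KRR.extPoly P e) (adams P j (ys r)) * linv ^ (j * (r - r)))) =
        ((1 : R) ⊗ₜ[ℤ] AdjoinRoot.of (KRR.extPoly P e) (adams P j (ys r))) *
          ((j : R ⊗[ℤ] AdjoinRoot (KRR.extPoly P e)) * w * ((1 : R) ⊗ₜ[ℤ] (linv ^ (j * 0)))) := by
      rw [Nat.sub_self]
      have : (1 : R) ⊗ₜ[ℤ] (AdjoinRoot.of (KRR.extPoly P e) (adams P j (ys r)) * linv ^ (j * 0)) =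
          ((1 : R) ⊗ₜ[ℤ] AdjoinRoot.of (KRR.extPoly P e) (adams P j (ys r))) *
            ((1 : R) ⊗ₜ[ℤ] (linv ^ (j * 0))) := by
        rw [Algebra.TensorProduct.tmul_mul_tmul, one_mul]
      rw [this]; ring
    rw [h2, Tf_of_mul, hA 0 (by omega), if_pos rfl, mul_one]
  · intro k hk hkr
    rw [Finset.mem_range] at hk
    have h2 : (j : R ⊗[ℤ] AdjoinRoot (KRR.extPoly P e)) * w *
        ((1 : R) ⊗ₜ[ℤ] (AdjoinRoot.of (KRR.extPoly P e) (adams P j (ys k)) * linv ^ (j * (r - k)))) =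
        ((1 : R) ⊗ₜ[ℤ] AdjoinRoot.of (KRR.extPoly P e) (adams P j (ys k))) *
          ((j : R ⊗[ℤ] AdjoinRoot (KRR.extPoly P e)) * w * ((1 : R) ⊗ₜ[ℤ] (linv ^ (j * (r - k))))) := by
      have : (1 : R) ⊗ₜ[ℤ] (AdjoinRoot.of (KRR.extPoly P e) (adams P j (ys k)) * linv ^ (j * (r - k))) =
          ((1 : R) ⊗ₜ[ℤ] AdjoinRoot.of (KRR.extPoly P e) (adams P j (ys k))) *
            ((1 : R) ⊗ₜ[ℤ] (linv ^ (j * (r - k)))) := by
        rw [Algebra.TensorProduct.tmul_mul_tmul, one_mul]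
      rw [this]; ring
    rw [h2, Tf_of_mul, hA (r - k) (by omega), if_neg (by omega), mul_zero]
  · intro h; exfalso; apply h; rw [Finset.mem_range]; omega

end

end Groth.Agent.Helper7.ARR
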