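import Mathlib

/-!
# TotRamA: the ramification index of an extension of DVRs is bounded by the degree
-/

set_option autoImplicit false
universe u

namespace Groth.Agent.Helper7.TotRam

open IsLocalRing

section Descent

variable {R S : Type*} [CommRing R] [IsDomain R] [IsDiscreteValuationRing R]
  [CommRing S] [IsDomain S] [IsDiscreteValuationRing S] [Algebra R S]
  [IsLocalHom (algebraMap R S)]

/-- in a relation `∑_{i<e} a_i ϖ^i = 0` no coefficient is a unit -/
theorem no_unit_coeff {ϖ : S} (hϖ : Irreducible ϖ) {e : ℕ}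
    (hmap : ∀ a ∈ maximalIdeal R, ϖ ^ e ∣ algebraMap R S a)
    (a : Fin e → R) (h : ∑ i, algebraMap R S (a i) * ϖ ^ (i : ℕ) = 0) (i : Fin e) :
    ¬ IsUnit (a i) := by
  classical
  intro hi
  obtain ⟨i₀, hi₀mem, hi₀min⟩ := Finset.exists_min_image
    (Finset.univ.filter (fun i => IsUnit (a i))) id ⟨i, by simp [hi]⟩
  have hu : IsUnit (a i₀) := (Finset.mem_filter.1 hi₀mem).2
  have hlt : ∀ j, j < i₀ → a j ∈ maximalIdeal R := fun j hj => by
    rw [mem_maximalIdeal, mem_nonunits_iff]
    intro huj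
    exact absurd (hi₀min j (by simp [huj])) (not_le.2 hj)
  have hi₀e : (i₀ : ℕ) + 1 ≤ e := i₀.isLt
  have hdvd : ∀ j ∈ Finset.univ.erase i₀,
      ϖ ^ ((i₀ : ℕ) + 1) ∣ algebraMap R S (a j) * ϖ ^ (j : ℕ) := by
    intro j hj
    have hne := Finset.ne_of_mem_erase hj
    rcases lt_or_gt_of_ne hne with hjlt | hjgt
    · exact Dvd.dvd.mul_right ((pow_dvd_pow ϖ hi₀e).trans (hmap _ (hlt j hjlt))) _
    · have : (i₀ : ℕ) + 1 ≤ (j : ℕ) := Fin.lt_def.1 hjgt
      exact Dvd.dvd.mul_left (pow_dvd_pow ϖ this) _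
  rw [← Finset.add_sum_erase Finset.univ _ (Finset.mem_univ i₀)] at h
  have h2 : ϖ ^ ((i₀ : ℕ) + 1) ∣ algebraMap R S (a i₀) * ϖ ^ (i₀ : ℕ) := by
    rw [eq_neg_of_add_eq_zero_left h]
    exact (Finset.dvd_sum hdvd).neg_right
  rw [pow_succ, mul_comm (algebraMap R S (a i₀))] at h2
  have h3 : ϖ ∣ algebraMap R S (a i₀) :=
    (mul_dvd_mul_iff_left (pow_ne_zero _ hϖ.ne_zero)).1 h2
  exact hϖ.not_isUnit (isUnit_of_dvd_unit h3 (hu.map _))

theorem coeff_mem_pow (hinj : Function.Injective (algebraMap R S)) {ϖ : S} (hϖ : Irreducible ϖ)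
    {e : ℕ} (hmap : ∀ a ∈ maximalIdeal R, ϖ ^ e ∣ algebraMap R S a) (k : ℕ) :
    ∀ a : Fin e → R, ∑ i, algebraMap R S (a i) * ϖ ^ (i : ℕ) = 0 →
      ∀ i, a i ∈ maximalIdeal R ^ k := by
  induction k with
  | zero => intro a _ i; simp
  | succ k ih =>
    intro a h i
    obtain ⟨π, hπ⟩ := IsDiscreteValuationRing.exists_irreducible R
    have hm : maximalIdeal R = Ideal.span {π} := hπ.maximalIdeal_eq
    have hall : ∀ j, ∃ b, a j = π * b := fun j => by
      have : a j ∈ maximalIdeal R := by
        rw [mem_maximalIdeal, mem_nonunits_iff]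
        exact no_unit_coeff hϖ hmap a h j
      rw [hm, Ideal.mem_span_singleton] at this
      exact this
    choose b hb using hall
    have h' : ∑ i, algebraMap R S (b i) * ϖ ^ (i : ℕ) = 0 := by
      have : algebraMap R S π * ∑ i, algebraMap R S (b i) * ϖ ^ (i : ℕ) = 0 := by
        rw [Finset.mul_sum, ← h]
        refine Finset.sum_congr rfl (fun i _ => ?_)
        rw [hb i, map_mul]
        ring
      rcases mul_eq_zero.1 this with h0 | h0
      · exact absurd (hinj (h0.trans (map_zero _).symm)) hπ.ne_zero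
      · exact h0
    rw [pow_succ', hb i]
    exact Ideal.mul_mem_mul (by rw [hm]; exact Ideal.mem_span_singleton_self π) (ih b h' i)

theorem coeff_eq_zero (hinj : Function.Injective (algebraMap R S)) {ϖ : S} (hϖ : Irreducible ϖ)
    {e : ℕ} (hmap : ∀ a ∈ maximalIdeal R, ϖ ^ e ∣ algebraMap R S a)
    (a : Fin e → R) (h : ∑ i, algebraMap R S (a i) * ϖ ^ (i : ℕ) = 0) (i : Fin e) : a i = 0 := by
  have : a i ∈ ⨅ k, maximalIdeal R ^ k := by
    rw [Ideal.mem_iInf]
    exact fun k => coeff_mem_pow hinj hϖ hmap k a h i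
  rw [Ideal.iInf_pow_eq_bot_of_isLocalRing _ (maximalIdeal.isMaximal R).ne_top] at this
  exact this

/-- the ramification index is at most the degree -/
theorem le_finrank {F E : Type*} [Field F] [Field E] [Algebra R F] [IsFractionRing R F]
    [Algebra S E] [Algebra F E] [Algebra R E] [IsScalarTower R F E] [IsScalarTower R S E]
    [FiniteDimensional F E]
    (hinj : Function.Injective (algebraMap R S)) (hSE : Function.Injective (algebraMap S E))
    {ϖ : S} (hϖ : Irreducible ϖ) {e : ℕ}
    (hmap : ∀ a ∈ maximalIdeal R, ϖ ^ e ∣ algebraMap R S a) : e ≤ Module.finrank F E := by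
  classical
  have hli : LinearIndependent F (fun i : Fin e => (algebraMap S E ϖ) ^ (i : ℕ)) := by
    rw [Fintype.linearIndependent_iff]
    intro c hc i
    obtain ⟨r, hr⟩ := IsLocalization.exist_integer_multiples_of_finset (nonZeroDivisors R)
      (Finset.univ.image c)
    have hex : ∀ j, ∃ a : R, algebraMap R F a = (r : R) • c j := fun j =>
      hr (c j) (Finset.mem_image_of_mem _ (Finset.mem_univ j))
    choose a ha using hex
    have hsum : ∑ j, algebraMap R S (a j) * ϖ ^ (j : ℕ) = 0 := by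
      apply hSE
      rw [map_sum, map_zero]
      have hterm : ∀ j, algebraMap S E (algebraMap R S (a j) * ϖ ^ (j : ℕ)) =
          (r : R) • (c j • (algebraMap S E ϖ) ^ (j : ℕ)) := by
        intro j
        rw [map_mul, map_pow, ← IsScalarTower.algebraMap_apply R S E,
          IsScalarTower.algebraMap_apply R F E, ha j, Algebra.smul_def, Algebra.smul_def,
          Algebra.smul_def, map_mul, ← IsScalarTower.algebraMap_apply R F E]
        ring
      simp_rw [hterm]
      rw [← Finset.smul_sum, hc, smul_zero]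
    have h0 := coeff_eq_zero hinj hϖ hmap a hsum i
    have h1 : (r : R) • c i = 0 := by rw [← ha i, h0, map_zero]
    rw [Algebra.smul_def, mul_eq_zero] at h1
    rcases h1 with h1 | h1
    · exact absurd ((IsFractionRing.injective R F) (h1.trans (map_zero _).symm))
        (nonZeroDivisors.ne_zero r.2)
    · exact h1
  have := hli.fintype_card_le_finrank
  simpa using this

end Descent

end Groth.Agent.Helper7.TotRam
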