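import Mathlib
import Groth.Prelude.Def_EtRam
import Groth.Agent.Helper7.TotRamA

/-!
# TotRamB: a totally ramified extension has ramification index at least the degree
-/

set_option autoImplicit false
universe u

namespace Groth.Agent.Helper7.TotRam

open IsLocalRing

section Integral

variable {A K K₁ : Type u} [CommRing A] [IsDomain A] [IsDiscreteValuationRing A] [Field K]
  [Algebra A K] [IsFractionRing A K] [Field K₁] [Algebra K K₁] [Algebra A K₁]
  [IsScalarTower A K K₁]

omit [Field K] [Algebra A K] [IsFractionRing A K] [Field K₁] [Algebra K K₁] [Algebra A K₁]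
  [IsScalarTower A K K₁] in
theorem dvd_pow_of_mem (a : A) (ha : a ∈ maximalIdeal A) (s : A) (hs : s ≠ 0) :
    ∃ j : ℕ, s ∣ a ^ j := by
  obtain ⟨π, hπ⟩ := IsDiscreteValuationRing.exists_irreducible A
  obtain ⟨j, hj⟩ := IsDiscreteValuationRing.associated_pow_irreducible hs hπ
  have hπa : π ∣ a := by
    rw [hπ.maximalIdeal_eq, Ideal.mem_span_singleton] at ha
    exact ha
  exact ⟨j, hj.dvd.trans (pow_dvd_pow_of_dvd hπa j)⟩

include K in
theorem algebraMap_injective' : Function.Injective (algebraMap A K₁) := by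
  rw [IsScalarTower.algebraMap_eq A K K₁]
  exact (algebraMap K K₁).injective.comp (IsFractionRing.injective A K)

theorem range_le_of_unit (V' : ValuationSubring K₁) (hA : ∀ a : A, algebraMap A K₁ a ∈ V')
    (a : A) (ha : a ∈ maximalIdeal A) (hu : ¬ V'.valuation (algebraMap A K₁ a) < 1) (c : K) :
    algebraMap K K₁ c ∈ V' := by
  have hu' : algebraMap A K₁ a ∉ V'.nonunits := hu
  rw [ValuationSubring.mem_nonunits_iff_or, not_or, not_not] at hu'
  obtain ⟨hne, hinv⟩ := hu'
  obtain ⟨r, s, hs, rfl⟩ := IsFractionRing.div_surjective (A := A) c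
  obtain ⟨j, t, ht⟩ := dvd_pow_of_mem a ha s (nonZeroDivisors.ne_zero hs)
  have hgs : algebraMap A K₁ s ≠ 0 := fun h0 =>
    nonZeroDivisors.ne_zero hs (algebraMap_injective' (K := K) (h0.trans (map_zero _).symm))
  have h1 : algebraMap A K₁ a ^ j = algebraMap A K₁ s * algebraMap A K₁ t := by
    rw [← map_pow, ht, map_mul]
  have hgt : algebraMap A K₁ t ≠ 0 := by
    intro h0
    rw [h0, mul_zero] at h1
    exact hne (pow_eq_zero_iff (by
      rintro rfl
      rw [pow_zero] at h1
      exact one_ne_zero h1) |>.1 h1)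
  have : algebraMap K K₁ (algebraMap A K r / algebraMap A K s) =
      algebraMap A K₁ r * algebraMap A K₁ t * (algebraMap A K₁ a)⁻¹ ^ j := by
    rw [map_div₀, ← IsScalarTower.algebraMap_apply, ← IsScalarTower.algebraMap_apply, inv_pow, h1]
    field_simp
  rw [this]
  exact V'.mul_mem _ _ (V'.mul_mem _ _ (hA r) (hA t)) (pow_mem hinv j)

omit [CommRing A] [IsDomain A] [IsDiscreteValuationRing A] [Algebra A K] [IsFractionRing A K]
  [Algebra A K₁] [IsScalarTower A K K₁] in
theorem eq_top_of_range_le [Algebra.IsIntegral K K₁] (V' : ValuationSubring K₁)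
    (h : ∀ c : K, algebraMap K K₁ c ∈ V') (x : K₁) : x ∈ V' := by
  haveI : IsIntegrallyClosedIn V'.toSubring K₁ := inferInstanceAs (IsIntegrallyClosedIn V' K₁)
  have h1 : (integralClosure K K₁).toSubring ≤ V'.toSubring :=
    (Subring.integralClosure_le_iff).2 h
  have h2 : integralClosure K K₁ = ⊤ := integralClosure_eq_top_iff.2 inferInstance
  apply h1
  rw [h2]
  trivial

/-- a unique dominating valuation ring consists of integral elements -/
theorem isIntegral_of_mem [Algebra.IsIntegral K K₁] (V : ValuationSubring K₁)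
    (huniq : ∀ V' : ValuationSubring K₁, EtRam.Dominates A (algebraMap A K₁) V' → V' = V)
    (x : K₁) (hx : x ∈ V) : IsIntegral A x := by
  by_contra hni
  have hxR : x ∉ (integralClosure A K₁).toSubring := hni
  obtain ⟨V', hV', hxV'⟩ := Subring.exists_le_valuationSubring_of_isIntegrallyClosedIn hxR
  have hA : ∀ a : A, algebraMap A K₁ a ∈ V' := fun a =>
    hV' (isIntegral_algebraMap : IsIntegral A (algebraMap A K₁ a))
  by_cases hdom : ∀ a ∈ maximalIdeal A, V'.valuation (algebraMap A K₁ a) < 1
  · have := huniq V' ⟨hA, hdom⟩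
    exact hxV' (this ▸ hx)
  · obtain ⟨a, ha, hu⟩ : ∃ a ∈ maximalIdeal A, ¬ V'.valuation (algebraMap A K₁ a) < 1 := by
      by_contra hcon
      apply hdom
      intro a ha
      by_contra h
      exact hcon ⟨a, ha, h⟩
    exact hxV' (eq_top_of_range_le (K := K) V' (range_le_of_unit V' hA a ha hu) x)

omit [IsDiscreteValuationRing A] [IsFractionRing A K] in
/-- the integral closure lies in every valuation ring containing `A` -/
theorem mem_of_isIntegral (V : ValuationSubring K₁) (hA : ∀ a : A, algebraMap A K₁ a ∈ V)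
    (x : K₁) (hx : IsIntegral A x) : x ∈ V := by
  haveI : IsIntegrallyClosedIn V.toSubring K₁ := inferInstanceAs (IsIntegrallyClosedIn V K₁)
  have h1 : (integralClosure A K₁).toSubring ≤ V.toSubring :=
    (Subring.integralClosure_le_iff).2 hA
  exact h1 hx

end Integral

end Groth.Agent.Helper7.TotRam
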