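import Mathlib
import Groth.Prelude.Def_EtRam
import Groth.Agent.Helper7.TotRamB

set_option autoImplicit false

/-!
# A valuative machine for simple integral extensions of a DVR

`A` a DVR with uniformizer `π`, `L = K(y)` with `y` integral over `A`, `V` a valuation subring of `L`
dominating `A`.  Under the hypothesis `HStar` (every polynomial expression `P(y)` of positive
valuation becomes divisible by `π` after multiplication by a unit `Q(y)`, `Q ∈ S`), every element
of `V` is a fraction `P(y)/Q(y)` and the maximal ideal of `V` is generated by `π`.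
-/

namespace Groth.Agent.Helper7.ASch

open Polynomial IsLocalRing

universe u

section Machine

variable {A K L : Type u} [CommRing A] [IsDomain A] [IsDiscreteValuationRing A] [Field K]
  [Algebra A K] [IsFractionRing A K] [Field L] [Algebra K L] [Algebra A L] [IsScalarTower A K L]
  (π : A) (hπ : maximalIdeal A = Ideal.span {π})
  (y : L) (hgen : IntermediateField.adjoin K {y} = ⊤) (hy : IsIntegral A y)
  (V : ValuationSubring L) (hV : EtRam.Dominates A (algebraMap A L) V)
  (S : Submonoid A[X])

include hπ in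
theorem pi_ne_zero : π ≠ 0 := by
  intro h
  rw [h, Ideal.span_singleton_zero] at hπ
  exact IsDiscreteValuationRing.not_a_field A hπ

include K hπ in
theorem map_pi_ne_zero : algebraMap A L π ≠ 0 := by
  rw [IsScalarTower.algebraMap_apply A K L]
  intro h
  rw [map_eq_zero, IsFractionRing.to_map_eq_zero_iff] at h
  exact pi_ne_zero π hπ h

include hπ hV in
theorem val_pi_lt : V.valuation (algebraMap A L π) < 1 :=
  hV.2 π (by rw [hπ]; exact Ideal.mem_span_singleton_self π)

include hπ hV in
theorem val_pi_pow_lt (k : ℕ) : V.valuation (algebraMap A L π) ^ (k + 1) < 1 :=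
  pow_lt_one₀ zero_le (val_pi_lt π hπ V hV) (Nat.succ_ne_zero k)

include hy hV in
theorem y_mem : y ∈ V := TotRam.mem_of_isIntegral V hV.1 y hy

include hy hV in
theorem aeval_mem (P : A[X]) : aeval y P ∈ V := by
  induction P using Polynomial.induction_on with
  | C a => rw [aeval_C]; exact hV.1 a
  | add p q hp hq => rw [map_add]; exact add_mem hp hq
  | monomial k a _ =>
    rw [map_mul, aeval_C, map_pow, aeval_X]
    exact mul_mem (hV.1 a) (pow_mem (y_mem y hy V hV) _)

include hy hV in
theorem val_aeval_le (P : A[X]) : V.valuation (aeval y P) ≤ 1 :=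
  (V.valuation_le_one_iff _).2 (aeval_mem y hy V hV P)

include hπ in
/-- every element of `A` is a unit times a power of `π` -/
theorem exists_unit_mul_pow {a : A} (ha : a ≠ 0) : ∃ (u : Aˣ) (k : ℕ), a = u * π ^ k := by
  have hirr : Irreducible π := by
    have := (IsDiscreteValuationRing.irreducible_iff_uniformizer π).2 hπ
    exact this
  obtain ⟨k, u, hu⟩ := IsDiscreteValuationRing.eq_unit_mul_pow_irreducible ha hirr
  exact ⟨u, k, hu⟩

include hπ hgen hy in
/-- every element of `L` is `P(y)/πᵏ` -/
theorem exists_pow_mul_eq_aeval (x : L) :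
    ∃ (k : ℕ) (P : A[X]), x * algebraMap A L π ^ k = aeval y P := by
  have hyK : IsIntegral K y := hy.tower_top
  have hx : x ∈ (IntermediateField.adjoin K {y}).toSubalgebra := by
    rw [hgen]; trivial
  rw [IntermediateField.adjoin_simple_toSubalgebra_of_isAlgebraic hyK.isAlgebraic,
    Algebra.adjoin_singleton_eq_range_aeval] at hx
  obtain ⟨PK, rfl⟩ := hx
  obtain ⟨b, hbmem, hb⟩ := IsLocalization.integerNormalization_spec (nonZeroDivisors A) PK
  have hb0 : (b : A) ≠ 0 := nonZeroDivisors.ne_zero hbmem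
  obtain ⟨u, k, hu⟩ := exists_unit_mul_pow π hπ hb0
  set P0 := IsLocalization.integerNormalization (nonZeroDivisors A) PK with hP0
  have h1 : aeval y P0 = algebraMap A L b * aeval y PK := by
    have h2 : aeval y P0 = aeval y (P0.map (algebraMap A K)) := by
      rw [aeval_map_algebraMap]
    rw [h2]
    have h3 : P0.map (algebraMap A K) = C (algebraMap A K b) * PK := by
      rw [hb, Algebra.smul_def]
      rfl
    rw [h3, map_mul, aeval_C, ← IsScalarTower.algebraMap_apply]
  refine ⟨k, C ((u⁻¹ : Aˣ) : A) * P0, ?_⟩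
  rw [map_mul, aeval_C, h1, hu, map_mul, map_pow]
  have h4 : algebraMap A L ((u⁻¹ : Aˣ) : A) * algebraMap A L (u : A) = 1 := by
    rw [← map_mul, Units.inv_mul, map_one]
  calc aeval y PK * algebraMap A L π ^ k
      = (algebraMap A L ((u⁻¹ : Aˣ) : A) * algebraMap A L (u : A)) *
          (aeval y PK * algebraMap A L π ^ k) := by rw [h4, one_mul]
    _ = _ := by ring

/-- the key hypothesis of the machine -/
def HStar : Prop :=
  ∀ P : A[X], V.valuation (aeval y P) < 1 →
    ∃ Q ∈ S, ∃ P' : A[X], V.valuation (aeval y Q) = 1 ∧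
      aeval y Q * aeval y P = algebraMap A L π * aeval y P'

variable (hS : HStar π y V S)

include K hπ hy hV hS in
theorem exists_frac_aux (k : ℕ) : ∀ (x : L) (P : A[X]), x ∈ V →
    x * algebraMap A L π ^ k = aeval y P →
    ∃ Q ∈ S, ∃ P' : A[X], V.valuation (aeval y Q) = 1 ∧ x * aeval y Q = aeval y P' := by
  induction k with
  | zero =>
    intro x P _ hxP
    refine ⟨1, S.one_mem, P, by simp, ?_⟩
    rw [map_one, mul_one]
    rw [pow_zero, mul_one] at hxP
    exact hxP
  | succ k ih =>
    intro x P hx hxP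
    have hlt : V.valuation (aeval y P) < 1 := by
      rw [← hxP, map_mul, map_pow]
      calc V.valuation x * V.valuation (algebraMap A L π) ^ (k + 1)
          ≤ 1 * V.valuation (algebraMap A L π) ^ (k + 1) :=
            mul_le_mul_left ((V.valuation_le_one_iff _).2 hx) _
        _ = V.valuation (algebraMap A L π) ^ (k + 1) := one_mul _
        _ < 1 := val_pi_pow_lt π hπ V hV k
    obtain ⟨Q₁, hQ₁S, P₁, hQ₁, h1⟩ := hS P hlt
    have hQ₁mem : aeval y Q₁ ∈ V := aeval_mem y hy V hV Q₁
    have h2 : (x * aeval y Q₁) * algebraMap A L π ^ k = aeval y P₁ := by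
      have hπ0 : algebraMap A L π ≠ 0 := map_pi_ne_zero (K := K) π hπ
      apply mul_left_cancel₀ hπ0
      rw [← h1, ← hxP, pow_succ]
      ring
    obtain ⟨Q₂, hQ₂S, P₂, hQ₂, h3⟩ := ih (x * aeval y Q₁) P₁ (mul_mem hx hQ₁mem) h2
    refine ⟨Q₁ * Q₂, S.mul_mem hQ₁S hQ₂S, P₂, ?_, ?_⟩
    · rw [map_mul, map_mul, hQ₁, hQ₂, one_mul]
    · rw [map_mul, ← mul_assoc, h3]

include hπ hgen hy hV hS in
/-- every element of `V` is a fraction `P(y)/Q(y)` with `Q ∈ S` and `Q(y)` a unit of `V` -/
theorem exists_frac (x : L) (hx : x ∈ V) :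
    ∃ Q ∈ S, ∃ P' : A[X], V.valuation (aeval y Q) = 1 ∧ x * aeval y Q = aeval y P' := by
  obtain ⟨k, P, hkP⟩ := exists_pow_mul_eq_aeval π hπ y hgen hy x
  exact exists_frac_aux (K := K) π hπ y hy V hV S hS k x P hx hkP

include hπ hgen hy hV hS in
/-- the maximal ideal of `V` is generated by `π` -/
theorem exists_eq_pi_mul (x : L) (hx : V.valuation x < 1) :
    ∃ x' ∈ V, x = algebraMap A L π * x' := by
  have hxV : x ∈ V := (V.valuation_le_one_iff _).1 hx.le
  obtain ⟨Q, -, P, hQ, h1⟩ := exists_frac π hπ y hgen hy V hV S hS x hxV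
  have hlt : V.valuation (aeval y P) < 1 := by
    rw [← h1, map_mul, hQ, mul_one]; exact hx
  obtain ⟨Q', -, P', hQ', h2⟩ := hS P hlt
  have hQ0 : aeval y Q ≠ 0 := by
    intro h; rw [h, map_zero] at hQ; exact zero_ne_one hQ
  have hQ'0 : aeval y Q' ≠ 0 := by
    intro h; rw [h, map_zero] at hQ'; exact zero_ne_one hQ'
  refine ⟨aeval y P' / (aeval y Q * aeval y Q'), ?_, ?_⟩
  · rw [← V.valuation_le_one_iff, map_div₀, map_mul, hQ, hQ', one_mul, div_one]
    exact val_aeval_le y hy V hV P'
  · rw [mul_div_assoc', ← h2, ← h1]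
    field_simp

end Machine

end Groth.Agent.Helper7.ASch
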