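import Mathlib
import Groth.Prelude.Def_EtRam
import Groth.Agent.Helper7.ASchA

set_option autoImplicit false

/-!
# The valuative machine: residue field bridge and the two sources of `HStar`
-/

namespace Groth.Agent.Helper7.ASch

open Polynomial IsLocalRing

universe u

section Lift

variable {A : Type u} [CommRing A] [IsDomain A] [IsDiscreteValuationRing A]
  (π : A) (hπ : maximalIdeal A = Ideal.span {π})

include hπ in
/-- polynomials with the same reduction differ by a multiple of `π` -/
theorem exists_eq_add_C_mul (P P' : A[X])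
    (h : P.map (residue A) = P'.map (residue A)) : ∃ P₂ : A[X], P = P' + C π * P₂ := by
  have h1 : P - P' ∈ Ideal.map (C : A →+* A[X]) (maximalIdeal A) := by
    rw [Ideal.mem_map_C_iff]
    intro n
    rw [← residue_eq_zero_iff, coeff_sub, map_sub, ← coeff_map, ← coeff_map, h, sub_self]
  rw [hπ, Ideal.map_span, Set.image_singleton, Ideal.mem_span_singleton'] at h1
  obtain ⟨P₂, hP₂⟩ := h1
  exact ⟨P₂, by rw [mul_comm, hP₂]; ring⟩

theorem exists_map_eq (R : (ResidueField A)[X]) : ∃ P : A[X], P.map (residue A) = R :=
  Polynomial.map_surjective (residue A) residue_surjective R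

end Lift

section Factor

variable {A K L : Type u} [CommRing A] [IsDomain A] [IsDiscreteValuationRing A] [Field K]
  [Algebra A K] [IsFractionRing A K] [Field L] [Algebra K L] [Algebra A L] [IsScalarTower A K L]
  (π : A) (hπ : maximalIdeal A = Ideal.span {π})
  (y : L) (V : ValuationSubring L) (S : Submonoid A[X])

include hπ in
theorem hStar_of_factor (F q h r : A[X]) (hFy : aeval y F = 0) (hF : F = q * h + C π * r)
    (hq : ∀ P : A[X], V.valuation (aeval y P) < 1 →
      (q.map (residue A)) ∣ (P.map (residue A)))
    (hh : V.valuation (aeval y h) = 1) (hhS : h ∈ S) : HStar π y V S := by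
  intro P hP
  obtain ⟨R, hR⟩ := hq P hP
  obtain ⟨P₁, rfl⟩ := exists_map_eq R
  rw [← Polynomial.map_mul] at hR
  obtain ⟨P₂, hP₂⟩ := exists_eq_add_C_mul π hπ P (q * P₁) hR
  refine ⟨h, hhS, -(r * P₁) + h * P₂, hh, ?_⟩
  have h1 : aeval y q * aeval y h = -(algebraMap A L π * aeval y r) := by
    have := hFy
    rw [hF, map_add, map_mul, map_mul, aeval_C] at this
    exact eq_neg_of_add_eq_zero_left this
  rw [hP₂, map_add, map_mul, map_mul, aeval_C, map_add, map_neg, map_mul, map_mul]
  calc aeval y h * (aeval y q * aeval y P₁ + algebraMap A L π * aeval y P₂)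
      = (aeval y q * aeval y h) * aeval y P₁ +
          algebraMap A L π * (aeval y h * aeval y P₂) := by ring
    _ = _ := by rw [h1]; ring

end Factor

section Residue

variable {A K L : Type u} [CommRing A] [IsDomain A] [IsDiscreteValuationRing A] [Field K]
  [Algebra A K] [IsFractionRing A K] [Field L] [Algebra K L] [Algebra A L] [IsScalarTower A K L]
  (π : A) (hπ : maximalIdeal A = Ideal.span {π})
  (y : L) (hgen : IntermediateField.adjoin K {y} = ⊤) (hy : IsIntegral A y)
  (V : ValuationSubring L) [Algebra A V] [IsScalarTower A V L] [IsLocalHom (algebraMap A V)]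

theorem algebraMap_coe (a : A) : ((algebraMap A V a : V) : L) = algebraMap A L a := by
  rw [IsScalarTower.algebraMap_apply A V L]
  rfl

theorem dominates : EtRam.Dominates A (algebraMap A L) V := by
  refine ⟨fun a => ?_, fun a ha => ?_⟩
  · rw [← algebraMap_coe V a]; exact (algebraMap A V a).2
  · rw [← algebraMap_coe V a, ← V.valuation_lt_one_iff]
    intro hu
    exact ha (IsLocalHom.map_nonunit a hu)

/-- `y` as an element of `V` -/
noncomputable def yV : V := ⟨y, y_mem y hy V (dominates V)⟩

theorem coe_aeval (P : A[X]) : ((aeval (yV y hy V) P : V) : L) = aeval y P := by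
  have := Polynomial.aeval_algebraMap_apply L (yV y hy V) P
  exact this.symm

/-- the residue class of `y` -/
noncomputable def yBar : ResidueField V := residue V (yV y hy V)

theorem residue_aeval (P : A[X]) :
    residue V (aeval (yV y hy V) P) = aeval (yBar y hy V) (P.map (residue A)) := by
  have h1 : aeval (yBar y hy V) (P.map (residue A)) =
      aeval (yBar y hy V) P := by
    rw [← ResidueField.algebraMap_eq]
    exact aeval_map_algebraMap _ _ _
  have h2 : aeval (yBar y hy V) P =
      (IsScalarTower.toAlgHom A V (ResidueField V)) (aeval (yV y hy V) P) :=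
    (Polynomial.aeval_algHom_apply (IsScalarTower.toAlgHom A V (ResidueField V))
      (yV y hy V) P)
  rw [h1, h2]
  rfl

theorem val_lt_iff (P : A[X]) :
    V.valuation (aeval y P) < 1 ↔ aeval (yBar y hy V) (P.map (residue A)) = 0 := by
  rw [← residue_aeval, residue_eq_zero_iff, V.valuation_lt_one_iff, coe_aeval]

theorem val_eq_one_iff (P : A[X]) :
    V.valuation (aeval y P) = 1 ↔ aeval (yBar y hy V) (P.map (residue A)) ≠ 0 := by
  rw [← residue_aeval, residue_ne_zero_iff_isUnit, V.valuation_eq_one_iff, coe_aeval]

theorem isIntegral_yBar : IsIntegral (ResidueField A) (yBar y hy V) := by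
  have hy' := hy
  obtain ⟨F, hF, hFy⟩ := hy'
  refine ⟨F.map (residue A), hF.map _, ?_⟩
  have h1 : aeval y F = 0 := hFy
  have h2 : V.valuation (aeval y F) < 1 := by rw [h1, map_zero]; exact zero_lt_one
  have := (val_lt_iff y hy V F).1 h2
  exact this

include hπ hy in
/-- irreducible reduction: `HStar` with trivial denominators -/
theorem hStar_irr (G : A[X]) (hG : G.Monic) (hirr : Irreducible (G.map (residue A)))
    (hGy : aeval y G = 0) : HStar π y V ⊥ := by
  have h0 : aeval (yBar y hy V) (G.map (residue A)) = 0 := by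
    rw [← val_lt_iff, hGy, map_zero]; exact zero_lt_one
  have hmin : G.map (residue A) = minpoly (ResidueField A) (yBar y hy V) :=
    minpoly.eq_of_irreducible_of_monic hirr h0 (hG.map _)
  refine hStar_of_factor π hπ y V ⊥ G G 1 0 hGy (by simp) ?_ (by simp) (Submonoid.one_mem _)
  intro P hP
  rw [hmin]
  exact minpoly.dvd _ _ ((val_lt_iff y hy V P).1 hP)

include hπ hy in
/-- separable reduction at `ȳ`: `HStar` with arbitrary denominators -/
theorem hStar_sep (F : A[X]) (hFy : aeval y F = 0)
    (hsep : aeval (yBar y hy V) (derivative (F.map (residue A))) ≠ 0) : HStar π y V ⊤ := by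
  have h0 : aeval (yBar y hy V) (F.map (residue A)) = 0 := by
    rw [← val_lt_iff, hFy, map_zero]; exact zero_lt_one
  obtain ⟨η, hη⟩ := minpoly.dvd (ResidueField A) (yBar y hy V) h0
  obtain ⟨q, hq⟩ := exists_map_eq (minpoly (ResidueField A) (yBar y hy V))
  obtain ⟨h, hh⟩ := exists_map_eq η
  have hFqh : F.map (residue A) = (q * h).map (residue A) := by
    rw [Polynomial.map_mul, hq, hh, hη]
  obtain ⟨r, hr⟩ := exists_eq_add_C_mul π hπ F (q * h) hFqh
  refine hStar_of_factor π hπ y V ⊤ F q h r hFy hr ?_ ?_ (Submonoid.mem_top _)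
  · intro P hP
    rw [hq]
    exact minpoly.dvd _ _ ((val_lt_iff y hy V P).1 hP)
  · rw [val_eq_one_iff y hy V, hh]
    intro hη0
    apply hsep
    rw [hη, derivative_mul, map_add, map_mul, map_mul, hη0, minpoly.aeval, mul_zero, zero_mul,
      add_zero]

end Residue

end Groth.Agent.Helper7.ASch
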