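import Mathlib
import Groth.Prelude.Def_EtRam
import Groth.Agent.Helper7.ASchB

set_option autoImplicit false

/-!
# The valuative machine: conclusions
-/

namespace Groth.Agent.Helper7.ASch

open Polynomial IsLocalRing

universe u

section Concl

variable {A K L : Type u} [CommRing A] [IsDomain A] [IsDiscreteValuationRing A] [Field K]
  [Algebra A K] [IsFractionRing A K] [Field L] [Algebra K L] [Algebra A L] [IsScalarTower A K L]
  (π : A) (hπ : maximalIdeal A = Ideal.span {π})
  (y : L) (hgen : IntermediateField.adjoin K {y} = ⊤) (hy : IsIntegral A y)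
  (V : ValuationSubring L) [Algebra A V] [IsScalarTower A V L] [IsLocalHom (algebraMap A V)]
  (S : Submonoid A[X]) (hS : HStar π y V S)

include K hπ hgen hy hS in
theorem weaklyUnramified : EtRam.IsWeaklyUnramified A V := by
  unfold EtRam.IsWeaklyUnramified
  apply le_antisymm
  · rw [Ideal.map_le_iff_le_comap]
    intro a ha
    rw [Ideal.mem_comap]
    intro hu
    exact ha (IsLocalHom.map_nonunit a hu)
  · intro x hx
    have hlt : V.valuation (x : L) < 1 := (V.valuation_lt_one_iff x).1 hx
    obtain ⟨x', hx', hxx'⟩ := exists_eq_pi_mul π hπ y hgen hy V (dominates V) S hS (x : L) hlt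
    have h1 : x = algebraMap A V π * ⟨x', hx'⟩ := by
      apply Subtype.ext
      rw [MulMemClass.coe_mul, algebraMap_coe]
      exact hxx'
    rw [h1]
    apply Ideal.mul_mem_right
    apply Ideal.mem_map_of_mem
    rw [hπ]
    exact Ideal.mem_span_singleton_self π

include K hπ hgen hS in
theorem adjoin_yBar_eq_top :
    IntermediateField.adjoin (ResidueField A) {yBar y hy V} = ⊤ := by
  rw [eq_top_iff]
  intro xb _
  obtain ⟨x, rfl⟩ := residue_surjective xb
  obtain ⟨Q, -, P, hQ, hxQ⟩ :=
    exists_frac π hπ y hgen hy V (dominates V) S hS (x : L) x.2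
  have h1 : x * aeval (yV y hy V) Q = aeval (yV y hy V) P := by
    apply Subtype.ext
    rw [MulMemClass.coe_mul, coe_aeval, coe_aeval]
    exact hxQ
  have h2 := congrArg (residue V) h1
  rw [map_mul, residue_aeval, residue_aeval] at h2
  have hQ0 : aeval (yBar y hy V) (Q.map (residue A)) ≠ 0 := (val_eq_one_iff y hy V Q).1 hQ
  have h3 : residue V x = aeval (yBar y hy V) (P.map (residue A)) /
      aeval (yBar y hy V) (Q.map (residue A)) := by
    rw [eq_div_iff hQ0]; exact h2
  have hmem : ∀ R : (ResidueField A)[X], aeval (yBar y hy V) R ∈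
      IntermediateField.adjoin (ResidueField A) {yBar y hy V} := by
    intro R
    apply IntermediateField.algebra_adjoin_le_adjoin
    exact Polynomial.aeval_mem_adjoin_singleton _ _
  rw [h3]
  exact div_mem (hmem _) (hmem _)

include K hπ hgen hy in
/-- with trivial denominators, `V` is the set of polynomial expressions in `y` -/
theorem mem_iff_of_bot (hS' : HStar π y V ⊥) (x : L) : x ∈ V ↔ ∃ P : A[X], x = aeval y P := by
  constructor
  · intro hx
    obtain ⟨Q, hQ, P, -, hxQ⟩ := exists_frac π hπ y hgen hy V (dominates V) ⊥ hS' x hx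
    rw [Submonoid.mem_bot] at hQ
    rw [hQ, map_one, mul_one] at hxQ
    exact ⟨P, hxQ⟩
  · rintro ⟨P, rfl⟩
    exact aeval_mem y hy V (dominates V) P

/-- transfer of separability from `κ(ȳ)` -/
theorem isSeparable_of_adjoin_eq_top
    (htop : IntermediateField.adjoin (ResidueField A) {yBar y hy V} = ⊤)
    (hsep : IsSeparable (ResidueField A) (yBar y hy V)) :
    Algebra.IsSeparable (ResidueField A) (ResidueField V) := by
  haveI : Algebra.IsSeparable (ResidueField A)
      (IntermediateField.adjoin (ResidueField A) {yBar y hy V}) :=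
    (IntermediateField.isSeparable_adjoin_simple_iff_isSeparable _ _).2 hsep
  exact AlgEquiv.Algebra.isSeparable
    ((IntermediateField.equivOfEq htop).trans IntermediateField.topEquiv)

/-- `ȳ` is separable if the derivative of an annihilating polynomial does not vanish at `ȳ` -/
theorem isSeparable_yBar (R : (ResidueField A)[X]) (hR : aeval (yBar y hy V) R = 0)
    (hder : aeval (yBar y hy V) (derivative R) ≠ 0) :
    IsSeparable (ResidueField A) (yBar y hy V) := by
  have hR0 : R ≠ 0 := by
    rintro rfl
    simp at hder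
  have hint : IsIntegral (ResidueField A) (yBar y hy V) := ⟨R * C (R.leadingCoeff)⁻¹,
    monic_mul_leadingCoeff_inv hR0, by rw [← aeval_def, map_mul, hR, zero_mul]⟩
  obtain ⟨η, hη⟩ := minpoly.dvd (ResidueField A) (yBar y hy V) hR
  unfold IsSeparable
  rw [Polynomial.separable_iff_derivative_ne_zero (minpoly.irreducible hint)]
  intro h0
  apply hder
  rw [hη, derivative_mul, h0, zero_mul, zero_add, map_mul, minpoly.aeval, zero_mul]

end Concl

end Groth.Agent.Helper7.ASch
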