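import Mathlib
import Groth.Prelude.Def_EtRam
import Groth.Agent.Helper7.ASchA

set_option autoImplicit false

/-!
# Totally ramified machine: an element `ϖ` with `v(ϖ)ᵖ = v(π)` gives the `A`-basis `1, ϖ, …, ϖᵖ⁻¹`
-/

namespace Groth.Agent.Helper7.ASch

open Polynomial IsLocalRing

universe u

section Ram

variable {A K L : Type u} [CommRing A] [IsDomain A] [IsDiscreteValuationRing A] [Field K]
  [Algebra A K] [IsFractionRing A K] [Field L] [Algebra K L] [Algebra A L] [IsScalarTower A K L]
  (π : A) (hπ : maximalIdeal A = Ideal.span {π}) (p : ℕ)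
  (ϖ : L) (V : ValuationSubring L) (hV : EtRam.Dominates A (algebraMap A L) V)
  (hϖ : V.valuation ϖ ^ p = V.valuation (algebraMap A L π))

include hπ hV hϖ in
theorem val_varpi_lt : V.valuation ϖ < 1 := by
  by_contra h
  push Not at h
  have h1 : 1 ≤ V.valuation ϖ ^ p := one_le_pow₀ h
  rw [hϖ] at h1
  exact absurd (val_pi_lt π hπ V hV) (not_lt.2 h1)

include K hπ hV hϖ in
theorem val_varpi_ne_zero : V.valuation ϖ ≠ 0 := by
  intro h
  have h1 : V.valuation (algebraMap A L π) ≠ 0 := by
    rw [Valuation.ne_zero_iff]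
    exact map_pi_ne_zero (K := K) π hπ
  by_cases hp : p = 0
  · subst hp
    rw [pow_zero] at hϖ
    have h2 := val_pi_lt π hπ V hV
    rw [← hϖ] at h2
    exact lt_irrefl _ h2
  · rw [h, zero_pow hp] at hϖ
    exact h1 hϖ.symm

include hV in
theorem val_unit (a : A) (ha : IsUnit a) : V.valuation (algebraMap A L a) = 1 := by
  obtain ⟨u, rfl⟩ := ha
  have h1 : V.valuation (algebraMap A L (u : A)) ≤ 1 := (V.valuation_le_one_iff _).2 (hV.1 _)
  have h2 : V.valuation (algebraMap A L ((u⁻¹ : Aˣ) : A)) ≤ 1 :=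
    (V.valuation_le_one_iff _).2 (hV.1 _)
  have h3 : V.valuation (algebraMap A L (u : A)) * V.valuation (algebraMap A L ((u⁻¹ : Aˣ) : A))
      = 1 := by
    rw [← map_mul, ← map_mul, Units.mul_inv, map_one, map_one]
  apply le_antisymm h1
  by_contra hlt
  push Not at hlt
  have : V.valuation (algebraMap A L (u : A)) *
      V.valuation (algebraMap A L ((u⁻¹ : Aˣ) : A)) < 1 := by
    calc _ ≤ V.valuation (algebraMap A L (u : A)) * 1 := mul_le_mul_right h2 _
      _ = V.valuation (algebraMap A L (u : A)) := mul_one _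
      _ < 1 := hlt
  rw [h3] at this
  exact lt_irrefl _ this

include hπ hV in
theorem val_le_of_mem (a : A) (ha : a ∈ maximalIdeal A) :
    V.valuation (algebraMap A L a) ≤ V.valuation (algebraMap A L π) := by
  rw [hπ, Ideal.mem_span_singleton] at ha
  obtain ⟨b, rfl⟩ := ha
  rw [map_mul, map_mul]
  calc V.valuation (algebraMap A L π) * V.valuation (algebraMap A L b)
      ≤ V.valuation (algebraMap A L π) * 1 :=
        mul_le_mul_right ((V.valuation_le_one_iff _).2 (hV.1 b)) _
    _ = _ := mul_one _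

include K hπ hV hϖ in
/-- a combination with a unit coefficient has valuation strictly bigger than `v(π)` -/
theorem val_sum_gt (c : Fin p → A) (k : Fin p) (hk : IsUnit (c k)) :
    V.valuation (algebraMap A L π) <
      V.valuation (∑ i, algebraMap A L (c i) * ϖ ^ (i : ℕ)) := by
  classical
  set γ := V.valuation ϖ with hγ
  have hγ1 : γ < 1 := val_varpi_lt π hπ p ϖ V hV hϖ
  have hγ0 : γ ≠ 0 := val_varpi_ne_zero (K := K) π hπ p ϖ V hV hϖ
  have hγpos : 0 < γ := zero_lt_iff.2 hγ0
  obtain ⟨k₀, hk₀mem, hk₀min⟩ := Finset.exists_min_image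
    (Finset.univ.filter (fun i => IsUnit (c i))) id ⟨k, by simp [hk]⟩
  have hu : IsUnit (c k₀) := (Finset.mem_filter.1 hk₀mem).2
  have hT : ∀ i : Fin p, V.valuation (algebraMap A L (c i) * ϖ ^ (i : ℕ)) =
      V.valuation (algebraMap A L (c i)) * γ ^ (i : ℕ) := fun i => by
    rw [map_mul, map_pow]
  have hT0 : V.valuation (algebraMap A L (c k₀) * ϖ ^ (k₀ : ℕ)) = γ ^ (k₀ : ℕ) := by
    rw [hT, val_unit V hV _ hu, one_mul]
  have hTlt : ∀ i ∈ Finset.univ.erase k₀,
      V.valuation (algebraMap A L (c i) * ϖ ^ (i : ℕ)) < γ ^ (k₀ : ℕ) := by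
    intro i hi
    have hne : i ≠ k₀ := (Finset.mem_erase.1 hi).1
    rw [hT]
    rcases lt_or_gt_of_ne hne with hlt | hgt
    · -- `i < k₀`: `c i` is not a unit
      have hnu : ¬ IsUnit (c i) := by
        intro hiu
        have := hk₀min i (by simp [hiu])
        exact absurd hlt (not_lt.2 this)
      have h1 := val_le_of_mem π hπ V hV (c i) hnu
      rw [← hϖ] at h1
      calc V.valuation (algebraMap A L (c i)) * γ ^ (i : ℕ)
          ≤ γ ^ p * γ ^ (i : ℕ) := mul_le_mul_left h1 _
        _ ≤ γ ^ p * 1 := mul_le_mul_right (pow_le_one₀ zero_le hγ1.le) _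
        _ = γ ^ p := mul_one _
        _ < γ ^ (k₀ : ℕ) := pow_lt_pow_right_of_lt_one₀ hγpos hγ1 k₀.2
    · have h1 : V.valuation (algebraMap A L (c i)) ≤ 1 :=
        (V.valuation_le_one_iff _).2 (hV.1 _)
      calc V.valuation (algebraMap A L (c i)) * γ ^ (i : ℕ)
          ≤ 1 * γ ^ (i : ℕ) := mul_le_mul_left h1 _
        _ = γ ^ (i : ℕ) := one_mul _
        _ < γ ^ (k₀ : ℕ) := pow_lt_pow_right_of_lt_one₀ hγpos hγ1 hgt
  have hsum : V.valuation (∑ i ∈ Finset.univ.erase k₀, algebraMap A L (c i) * ϖ ^ (i : ℕ)) <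
      γ ^ (k₀ : ℕ) := Valuation.map_sum_lt _ (pow_ne_zero _ hγ0) hTlt
  have hsplit : ∑ i, algebraMap A L (c i) * ϖ ^ (i : ℕ) =
      algebraMap A L (c k₀) * ϖ ^ (k₀ : ℕ) +
        ∑ i ∈ Finset.univ.erase k₀, algebraMap A L (c i) * ϖ ^ (i : ℕ) :=
    (Finset.add_sum_erase _ _ (Finset.mem_univ k₀)).symm
  rw [hsplit, Valuation.map_add_eq_of_lt_left _ (by rw [hT0]; exact hsum), hT0, ← hϖ]
  exact pow_lt_pow_right_of_lt_one₀ hγpos hγ1 k₀.2

include K hπ hV hϖ in
theorem dvd_of_sum_eq (N : ℕ) : ∀ (c : Fin p → A) (x : L), x ∈ V →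
    x * algebraMap A L π ^ N = ∑ i, algebraMap A L (c i) * ϖ ^ (i : ℕ) →
    ∀ i, π ^ N ∣ c i := by
  induction N with
  | zero => intro c x _ _ i; simp
  | succ N ih =>
    intro c x hx hsum
    have hnu : ∀ i, ¬ IsUnit (c i) := by
      intro i hi
      have h1 := val_sum_gt (K := K) π hπ p ϖ V hV hϖ c i hi
      rw [← hsum, map_mul, map_pow, pow_succ] at h1
      have h2 : V.valuation x * (V.valuation (algebraMap A L π) ^ N *
          V.valuation (algebraMap A L π)) ≤ V.valuation (algebraMap A L π) := by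
        calc _ ≤ 1 * (V.valuation (algebraMap A L π) ^ N * V.valuation (algebraMap A L π)) :=
              mul_le_mul_left ((V.valuation_le_one_iff _).2 hx) _
          _ = V.valuation (algebraMap A L π) ^ N * V.valuation (algebraMap A L π) := one_mul _
          _ ≤ 1 * V.valuation (algebraMap A L π) :=
              mul_le_mul_left (pow_le_one₀ zero_le (val_pi_lt π hπ V hV).le) _
          _ = _ := one_mul _
      exact absurd h1 (not_lt.2 h2)
    have hex : ∀ i, ∃ b : A, c i = π * b := by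
      intro i
      have hmem : c i ∈ maximalIdeal A := hnu i
      rw [hπ, Ideal.mem_span_singleton] at hmem
      exact hmem
    choose c' hc' using hex
    have hπ0 : algebraMap A L π ≠ 0 := map_pi_ne_zero (K := K) π hπ
    have hsum' : x * algebraMap A L π ^ N = ∑ i, algebraMap A L (c' i) * ϖ ^ (i : ℕ) := by
      apply mul_left_cancel₀ hπ0
      rw [Finset.mul_sum]
      have : algebraMap A L π * (x * algebraMap A L π ^ N) = x * algebraMap A L π ^ (N + 1) := by
        rw [pow_succ]; ring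
      rw [this, hsum]
      apply Finset.sum_congr rfl
      intro i _
      rw [hc' i, map_mul]; ring
    intro i
    rw [hc' i, pow_succ, mul_comm (π ^ N)]
    exact mul_dvd_mul_left π (ih c' x hx hsum' i)

include hπ in
theorem eq_zero_of_forall_pow_dvd (a : A) (h : ∀ N : ℕ, π ^ N ∣ a) : a = 0 := by
  by_contra ha
  have hnu : ¬ IsUnit π := by
    intro hu
    have : π ∈ maximalIdeal A := by rw [hπ]; exact Ideal.mem_span_singleton_self π
    exact this hu
  have hfin : FiniteMultiplicity π a := FiniteMultiplicity.of_not_isUnit hnu ha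
  exact (FiniteMultiplicity.not_iff_forall.2 h) hfin

/-- clearing denominators of a finite family -/
theorem exists_clear (c : Fin p → K) : ∃ (r : A) (a : Fin p → A), r ≠ 0 ∧
    ∀ i, algebraMap A K (a i) = algebraMap A K r * c i := by
  classical
  obtain ⟨r, hr⟩ := IsLocalization.exist_integer_multiples_of_finset (nonZeroDivisors A)
    (Finset.univ.image c)
  have hex : ∀ j, ∃ a : A, algebraMap A K a = (r : A) • c j := fun j =>
    hr (c j) (Finset.mem_image_of_mem _ (Finset.mem_univ j))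
  choose a ha using hex
  exact ⟨r, a, nonZeroDivisors.ne_zero r.2, fun i => by rw [ha i, Algebra.smul_def]⟩

include K hπ hV hϖ in
theorem linearIndependent_pow : LinearIndependent K (fun i : Fin p => ϖ ^ (i : ℕ)) := by
  rw [Fintype.linearIndependent_iff]
  intro c hc i
  obtain ⟨r, a, hr0, ha⟩ := exists_clear (A := A) p c
  have hsum : (0 : L) = ∑ j, algebraMap A L (a j) * ϖ ^ (j : ℕ) := by
    have h1 : ∀ j, algebraMap A L (a j) * ϖ ^ (j : ℕ) =
        algebraMap A L r * (c j • ϖ ^ (j : ℕ)) := by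
      intro j
      rw [IsScalarTower.algebraMap_apply A K L, ha j, map_mul, Algebra.smul_def,
        ← IsScalarTower.algebraMap_apply A K L]
      ring
    simp_rw [h1]
    rw [← Finset.mul_sum, hc, mul_zero]
  have hdvd : ∀ N, π ^ N ∣ a i := fun N =>
    dvd_of_sum_eq (K := K) π hπ p ϖ V hV hϖ N a 0 (zero_mem V) (by rw [zero_mul]; exact hsum) i
  have hai : a i = 0 := eq_zero_of_forall_pow_dvd π hπ _ hdvd
  have h2 := ha i
  rw [hai, map_zero] at h2
  rcases mul_eq_zero.1 h2.symm with h3 | h3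
  · exact absurd ((map_eq_zero_iff _ (IsFractionRing.injective A K)).1 h3) hr0
  · exact h3

include K hπ hV hϖ in
/-- coefficients of an element of `V` in the basis `ϖⁱ` are integral -/
theorem coeff_mem (c : Fin p → K) (x : L) (hx : x ∈ V)
    (h : x = ∑ i, algebraMap K L (c i) * ϖ ^ (i : ℕ)) (i : Fin p) :
    ∃ b : A, algebraMap A K b = c i := by
  obtain ⟨r, a, hr0, ha⟩ := exists_clear (A := A) p c
  obtain ⟨u, N, hu⟩ := exists_unit_mul_pow π hπ hr0
  have hsum : (x * algebraMap A L (u : A)) * algebraMap A L π ^ N =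
      ∑ j, algebraMap A L (a j) * ϖ ^ (j : ℕ) := by
    have h1 : ∀ j, algebraMap A L (a j) * ϖ ^ (j : ℕ) =
        algebraMap A L r * (algebraMap K L (c j) * ϖ ^ (j : ℕ)) := by
      intro j
      rw [IsScalarTower.algebraMap_apply A K L, ha j, map_mul,
        ← IsScalarTower.algebraMap_apply A K L]
      ring
    simp_rw [h1]
    rw [← Finset.mul_sum, ← h, hu, map_mul, map_pow]
    ring
  obtain ⟨b, hb⟩ := dvd_of_sum_eq (K := K) π hπ p ϖ V hV hϖ N a _
    (mul_mem hx (hV.1 _)) hsum i
  refine ⟨((u⁻¹ : Aˣ) : A) * b, ?_⟩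
  have h2 := ha i
  rw [hb, hu] at h2
  have hπK : algebraMap A K π ^ N ≠ 0 := by
    apply pow_ne_zero
    intro h0
    exact pi_ne_zero π hπ ((map_eq_zero_iff _ (IsFractionRing.injective A K)).1 h0)
  have huK : algebraMap A K (u : A) ≠ 0 := by
    intro h0
    exact u.ne_zero ((map_eq_zero_iff _ (IsFractionRing.injective A K)).1 h0)
  simp only [map_mul, map_pow] at h2
  have h3 : algebraMap A K b = algebraMap A K (u : A) * c i := by
    apply mul_left_cancel₀ hπK
    rw [h2]; ring
  rw [map_mul, h3, ← mul_assoc, ← map_mul, Units.inv_mul, map_one, one_mul]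

end Ram

end Groth.Agent.Helper7.ASch
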