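import Mathlib

set_option autoImplicit false

/-!
# Field theory of an Artin–Schreier extension `L = K(z)`, `zᵖ - z = ξ`
-/

namespace Groth.Agent.Helper7.ASch

open Polynomial

universe u

section Field

variable (p : ℕ) [hp : Fact p.Prime] {K L : Type u} [Field K] [Field L] [Algebra K L] [CharP K p]
  (ξ : K) (z : L) (hz : z ^ p - z = algebraMap K L ξ)
  (hgen : IntermediateField.adjoin K {z} = ⊤)

/-- the Artin–Schreier polynomial -/
noncomputable def asPoly : K[X] := X ^ p - (X + C ξ)

theorem asPoly_monic : (asPoly p ξ).Monic := by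
  unfold asPoly
  apply monic_X_pow_sub
  have h1 : (X + C ξ : K[X]).degree = 1 := degree_X_add_C ξ
  rw [h1]
  exact_mod_cast hp.out.one_lt

theorem asPoly_natDegree : (asPoly p ξ).natDegree = p := by
  unfold asPoly
  have h1 : (X + C ξ : K[X]).natDegree = 1 := natDegree_X_add_C ξ
  rw [natDegree_sub_eq_left_of_natDegree_lt (by rw [h1, natDegree_X_pow]; exact hp.out.one_lt),
    natDegree_X_pow]

include hz in
theorem aeval_asPoly : aeval z (asPoly p ξ) = 0 := by
  unfold asPoly
  rw [map_sub, map_pow, aeval_X, map_add, aeval_X, aeval_C, ← sub_sub, hz, sub_self]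

theorem asPoly_separable : (asPoly p ξ).Separable := by
  rw [separable_def]
  have h1 : derivative (asPoly p ξ) = -1 := by
    unfold asPoly
    rw [derivative_sub, derivative_X_pow, derivative_add, derivative_X, derivative_C, add_zero,
      CharP.cast_eq_zero K p, map_zero, zero_mul, zero_sub]
  rw [h1]
  exact isCoprime_one_right.neg_right

include hz in
theorem isIntegral_z : IsIntegral K z :=
  ⟨asPoly p ξ, asPoly_monic p ξ, aeval_asPoly p ξ z hz⟩

include hz hgen in
theorem finiteDimensional : FiniteDimensional K L := by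
  haveI : FiniteDimensional K (IntermediateField.adjoin K {z}) :=
    IntermediateField.adjoin.finiteDimensional (isIntegral_z p ξ z hz)
  exact Module.Finite.equiv
    ((IntermediateField.equivOfEq hgen).trans IntermediateField.topEquiv).toLinearEquiv

include hz hgen in
theorem finrank_le : Module.finrank K L ≤ p := by
  have h1 : Module.finrank K L = Module.finrank K (IntermediateField.adjoin K {z}) := by
    rw [hgen, IntermediateField.finrank_top']
  rw [h1, IntermediateField.adjoin.finrank (isIntegral_z p ξ z hz)]
  calc (minpoly K z).natDegree ≤ (asPoly p ξ).natDegree :=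
        natDegree_le_of_dvd (minpoly.dvd K z (aeval_asPoly p ξ z hz)) (asPoly_monic p ξ).ne_zero
    _ = p := asPoly_natDegree p ξ

include K in
theorem charP_L : CharP L p := charP_of_injective_algebraMap (algebraMap K L).injective p

include hz in
theorem root_add (j : ZMod p) :
    haveI := charP_L p (K := K) (L := L)
    aeval (z + (ZMod.castHom (dvd_refl p) L) j) (asPoly p ξ) = 0 := by
  haveI := charP_L p (K := K) (L := L)
  unfold asPoly
  rw [map_sub, map_pow, aeval_X, map_add, aeval_X, aeval_C, add_pow_char, ← map_pow,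
    ZMod.pow_card]
  have : z ^ p = z + algebraMap K L ξ := by rw [← hz]; ring
  rw [this]
  ring

include hz in
theorem splits : ((asPoly p ξ).map (algebraMap K L)).Splits := by
  classical
  haveI := charP_L p (K := K) (L := L)
  rw [splits_iff_card_roots]
  have hmon : ((asPoly p ξ).map (algebraMap K L)).Monic := (asPoly_monic p ξ).map _
  have hdeg : ((asPoly p ξ).map (algebraMap K L)).natDegree = p := by
    rw [(asPoly_monic p ξ).natDegree_map, asPoly_natDegree]
  apply le_antisymm
  · exact card_roots' _
  · rw [hdeg]
    let ι : ZMod p →+* L := ZMod.castHom (dvd_refl p) L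
    have hinj : Function.Injective (fun j : ZMod p => z + ι j) := by
      intro a b hab
      exact ι.injective (add_left_cancel hab)
    let T : Finset L := Finset.univ.image (fun j : ZMod p => z + ι j)
    have hT : T.card = p := by
      rw [Finset.card_image_of_injective _ hinj, Finset.card_univ, ZMod.card]
    have hle : T.val ≤ ((asPoly p ξ).map (algebraMap K L)).roots := by
      rw [Multiset.le_iff_subset T.nodup]
      intro x hx
      have hx' : x ∈ T := hx
      obtain ⟨j, -, rfl⟩ := Finset.mem_image.1 hx'
      rw [mem_roots hmon.ne_zero, IsRoot.def, eval_map_algebraMap]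
      exact root_add p ξ z hz j
    calc p = T.val.card := hT.symm
      _ ≤ _ := Multiset.card_le_card hle

include hz hgen in
theorem isSplittingField : (asPoly p ξ).IsSplittingField K L := by
  refine ⟨splits p ξ z hz, ?_⟩
  rw [eq_top_iff]
  have h1 : (IntermediateField.adjoin K {z}).toSubalgebra = ⊤ := by
    rw [hgen]; rfl
  rw [IntermediateField.adjoin_simple_toSubalgebra_of_isAlgebraic
    (isIntegral_z p ξ z hz).isAlgebraic] at h1
  rw [← h1]
  apply Algebra.adjoin_mono
  rw [Set.singleton_subset_iff, mem_rootSet]
  exact ⟨(asPoly_monic p ξ).ne_zero, aeval_asPoly p ξ z hz⟩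

include hz hgen in
theorem isGalois : IsGalois K L := by
  haveI := isSplittingField p ξ z hz hgen
  exact IsGalois.of_separable_splitting_field (asPoly_separable p ξ)

include hz in
/-- an automorphism translates `z` by an element of `K` -/
theorem exists_smul_eq (σ : L ≃ₐ[K] L) : ∃ c : K, σ z = z + algebraMap K L c := by
  haveI := charP_L p (K := K) (L := L)
  have h1 : (σ z) ^ p - σ z = z ^ p - z := by
    rw [← map_pow, ← map_sub, hz, σ.commutes]
  have h2 : (σ z - z) ^ p = σ z - z := by
    rw [sub_pow_char]
    linear_combination h1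
  have h3 : σ z - z ∈ (⊥ : Subfield L) := (Subfield.mem_bot_iff_pow_eq_self L p).2 h2
  have h4 : (⊥ : Subfield L) ≤ (algebraMap K L).fieldRange := bot_le
  obtain ⟨c, hc⟩ := h4 h3
  exact ⟨c, by rw [hc]; ring⟩

include hz hgen in
theorem pow_eq_one (σ : L ≃ₐ[K] L) : σ ^ p = 1 := by
  haveI := charP_L p (K := K) (L := L)
  obtain ⟨c, hc⟩ := exists_smul_eq p ξ z hz σ
  have h1 : ∀ n : ℕ, (σ ^ n) z = z + n • algebraMap K L c := by
    intro n
    induction n with
    | zero => simp
    | succ n ih =>
      rw [pow_succ', AlgEquiv.mul_apply, ih, map_add, map_nsmul, σ.commutes, hc]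
      rw [succ_nsmul]
      ring
  have h2 : (σ ^ p) z = z := by
    rw [h1, nsmul_eq_mul, CharP.cast_eq_zero L p, zero_mul, add_zero]
  have h3 : z ∈ IntermediateField.fixedField (Subgroup.zpowers (σ ^ p)) := by
    rw [IntermediateField.mem_fixedField_iff]
    intro f hf
    obtain ⟨k, rfl⟩ := Subgroup.mem_zpowers_iff.1 hf
    have h4 : ∀ k : ℕ, ((σ ^ p) ^ k) z = z := by
      intro k
      induction k with
      | zero => simp
      | succ k ih => rw [pow_succ', AlgEquiv.mul_apply, ih, h2]
    rcases Int.eq_nat_or_neg k with ⟨m, rfl | rfl⟩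
    · rw [zpow_natCast]; exact h4 m
    · rw [zpow_neg, zpow_natCast]
      have := h4 m
      calc ((σ ^ p) ^ m)⁻¹ z = ((σ ^ p) ^ m)⁻¹ (((σ ^ p) ^ m) z) := by rw [this]
        _ = z := by
          rw [← AlgEquiv.mul_apply, inv_mul_cancel]; rfl
  have h5 : (⊤ : IntermediateField K L) ≤
      IntermediateField.fixedField (Subgroup.zpowers (σ ^ p)) := by
    rw [← hgen, IntermediateField.adjoin_simple_le_iff]
    exact h3
  ext x
  have h6 : x ∈ IntermediateField.fixedField (Subgroup.zpowers (σ ^ p)) := h5 trivial
  rw [IntermediateField.mem_fixedField_iff] at h6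
  exact h6 _ (Subgroup.mem_zpowers _)

include hz hgen in
/-- the degree of an Artin–Schreier extension is `1` or `p` -/
theorem finrank_eq_one_or : Module.finrank K L = 1 ∨ Module.finrank K L = p := by
  haveI := finiteDimensional p ξ z hz hgen
  haveI := isGalois p ξ z hz hgen
  have hcard : Nat.card (L ≃ₐ[K] L) = Module.finrank K L := IsGalois.card_aut_eq_finrank K L
  by_cases h1 : Module.finrank K L = 1
  · exact Or.inl h1
  · right
    have hne : ∃ σ : L ≃ₐ[K] L, σ ≠ 1 := by
      by_contra hcon
      push Not at hcon
      haveI : Subsingleton (L ≃ₐ[K] L) := ⟨fun a b => by rw [hcon a, hcon b]⟩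
      apply h1
      rw [← hcard]
      exact Nat.card_unique
    obtain ⟨σ, hσ⟩ := hne
    have hord : orderOf σ = p := orderOf_eq_prime (pow_eq_one p ξ z hz hgen σ) hσ
    have hdvd : p ∣ Module.finrank K L := by
      rw [← hcard, ← hord]
      exact orderOf_dvd_natCard σ
    have hpos : 0 < Module.finrank K L := Module.finrank_pos
    exact le_antisymm (finrank_le p ξ z hz hgen) (Nat.le_of_dvd hpos hdvd)

end Field

end Groth.Agent.Helper7.ASch
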