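import Mathlib
import Groth.Prelude.Def_EtRam
import Groth.Agent.Helper7.ASchC
import Groth.Agent.Helper7.ASchE
import Groth.Agent.Helper7.DomValA

set_option autoImplicit false

/-!
# Artin–Schreier extensions of a DVR: the integral case (unramified)
-/

namespace Groth.Agent.Helper7.ASch

open Polynomial IsLocalRing

universe u

section CaseA

variable (p : ℕ) [hp : Fact p.Prime] {A K L : Type u} [CommRing A] [IsDomain A]
  [IsDiscreteValuationRing A] [Field K] [Algebra A K] [IsFractionRing A K] [Field L] [Algebra K L]
  [Algebra A L] [IsScalarTower A K L] [CharP K p]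
  (π : A) (hπ : maximalIdeal A = Ideal.span {π})

include K in
theorem natCast_eq_zero_A : (p : A) = 0 := by
  apply IsFractionRing.injective A K
  rw [map_natCast, map_zero, CharP.cast_eq_zero K p]

/-- the integral Artin–Schreier polynomial -/
noncomputable def asPolyA (a : A) : A[X] := X ^ p - (X + C a)

theorem asPolyA_monic (a : A) : (asPolyA p a).Monic := by
  unfold asPolyA
  apply monic_X_pow_sub
  have h1 : (X + C a : A[X]).degree = 1 := degree_X_add_C a
  rw [h1]
  exact_mod_cast hp.out.one_lt

include K in
theorem derivative_asPolyA (a : A) : derivative (asPolyA p a) = -1 := by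
  unfold asPolyA
  rw [derivative_sub, derivative_X_pow, derivative_add, derivative_X, derivative_C, add_zero,
    natCast_eq_zero_A p (K := K), map_zero, zero_mul, zero_sub]

theorem aeval_asPolyA (a : A) (z : L) (hz : z ^ p - z = algebraMap A L a) :
    aeval z (asPolyA p a) = 0 := by
  unfold asPolyA
  rw [map_sub, map_pow, aeval_X, map_add, aeval_X, aeval_C, ← sub_sub, hz, sub_self]

include K hπ in
/-- `zᵖ - z = a ∈ A`: the extension is unramified at every place over `A` -/
theorem unramified_of_integral (a : A) (z : L) (hz : z ^ p - z = algebraMap A L a)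
    (hgen : IntermediateField.adjoin K {z} = ⊤) :
    EtRam.IsUnramifiedExt A (algebraMap A L) := by
  intro V hV
  letI : Algebra A V := (RingHom.codRestrict (algebraMap A L) V hV.1).toAlgebra
  intro hloc
  haveI : IsScalarTower A V L := IsScalarTower.of_algebraMap_eq' rfl
  have hFz := aeval_asPolyA p a z hz
  have hy : IsIntegral A z := ⟨asPolyA p a, asPolyA_monic p a, hFz⟩
  have hder : derivative ((asPolyA p a).map (residue A)) = -1 := by
    rw [derivative_map, derivative_asPolyA p (K := K), Polynomial.map_neg, Polynomial.map_one]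
  have hsep : aeval (yBar z hy V) (derivative ((asPolyA p a).map (residue A))) ≠ 0 := by
    rw [hder, map_neg, map_one]
    exact neg_ne_zero.2 one_ne_zero
  have hS : HStar π z V ⊤ := hStar_sep π hπ z hy V (asPolyA p a) hFz hsep
  refine ⟨weaklyUnramified (K := K) π hπ z hgen hy V ⊤ hS, ?_⟩
  have h0 : aeval (yBar z hy V) ((asPolyA p a).map (residue A)) = 0 := by
    rw [← val_lt_iff, hFz, map_zero]; exact zero_lt_one
  exact isSeparable_of_adjoin_eq_top z hy V
    (adjoin_yBar_eq_top (K := K) π hπ z hgen hy V ⊤ hS)
    (isSeparable_yBar z hy V _ h0 hsep)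

end CaseA

end Groth.Agent.Helper7.ASch
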