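import Mathlib

/-!
# TotRamD: composita `M = L·K₁`
-/

set_option autoImplicit false
universe u

namespace Groth.Agent.Helper7.TotRam

open TensorProduct

section Compositum

variable {K L K₁ M : Type u} [Field K] [Field L] [Field K₁] [Field M]
  [Algebra K L] [Algebra K K₁] [Algebra K M] [Algebra L M] [Algebra K₁ M]
  [IsScalarTower K L M] [IsScalarTower K K₁ M]

/-- the canonical map `L ⊗_K K₁ → M` -/
noncomputable def prodMap : L ⊗[K] K₁ →ₐ[L] M :=
  Algebra.TensorProduct.productLeftAlgHom (Algebra.ofId L M) (IsScalarTower.toAlgHom K K₁ M)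

theorem prodMap_tmul (l : L) (x : K₁) :
    prodMap (K := K) (M := M) (l ⊗ₜ[K] x) = algebraMap L M l * algebraMap K₁ M x := by
  simp [prodMap]

theorem prodMap_surjective (hadj : Algebra.adjoin L (Set.range (algebraMap K₁ M)) = ⊤) :
    Function.Surjective (prodMap (K := K) (L := L) (K₁ := K₁) (M := M)) := by
  rw [← AlgHom.range_eq_top, eq_top_iff, ← hadj, Algebra.adjoin_le_iff]
  rintro _ ⟨x, rfl⟩
  refine ⟨1 ⊗ₜ x, ?_⟩
  show prodMap (K := K) (M := M) ((1 : L) ⊗ₜ[K] x) = algebraMap K₁ M x
  rw [prodMap_tmul, map_one, one_mul]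

theorem finite_of_adjoin [FiniteDimensional K K₁]
    (hadj : Algebra.adjoin L (Set.range (algebraMap K₁ M)) = ⊤) :
    FiniteDimensional L M :=
  Module.Finite.of_surjective (prodMap (K := K) (L := L) (K₁ := K₁) (M := M)).toLinearMap
    (prodMap_surjective hadj)

theorem finrank_le_of_adjoin [FiniteDimensional K K₁]
    (hadj : Algebra.adjoin L (Set.range (algebraMap K₁ M)) = ⊤) :
    Module.finrank L M ≤ Module.finrank K K₁ := by
  have h := LinearMap.finrank_le_finrank_of_surjective
    (f := (prodMap (K := K) (L := L) (K₁ := K₁) (M := M)).toLinearMap) (prodMap_surjective hadj)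
  rwa [Module.finrank_baseChange] at h

theorem isSeparable_of_adjoin [Algebra.IsSeparable K K₁]
    (hadj : Algebra.adjoin L (Set.range (algebraMap K₁ M)) = ⊤) :
    Algebra.IsSeparable L M := by
  rw [← separableClosure.eq_top_iff, ← IntermediateField.toSubalgebra_injective.eq_iff,
    IntermediateField.top_toSubalgebra, eq_top_iff, ← hadj, Algebra.adjoin_le_iff]
  rintro _ ⟨x, rfl⟩
  show algebraMap K₁ M x ∈ separableClosure L M
  rw [mem_separableClosure_iff]
  have h1 : IsSeparable K x := Algebra.IsSeparable.isSeparable K x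
  have h2 : IsSeparable K (algebraMap K₁ M x) :=
    h1.map (IsScalarTower.toAlgHom K K₁ M) (algebraMap K₁ M).injective
  exact h2.tower_top (L := L)

end Compositum

end Groth.Agent.Helper7.TotRam
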