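import Mathlib

/-!
# TotRamE: ramification indices in a commutative square of DVRs
-/

set_option autoImplicit false
universe u

namespace Groth.Agent.Helper7.TotRam

open IsLocalRing

section DVR

variable {W : Type*} [CommRing W] [IsDomain W] [IsDiscreteValuationRing W]

theorem pow_eq_of_associated {ϖ : W} (h : Irreducible ϖ) {a b : ℕ}
    (hab : Associated (ϖ ^ a) (ϖ ^ b)) : a = b := by
  obtain ⟨u, hu⟩ := hab
  refine IsDiscreteValuationRing.unit_mul_pow_congr_pow h h u 1 a b ?_
  rw [Units.val_one, one_mul, ← hu, mul_comm]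

variable {A V : Type*} [CommRing A] [CommRing V] [IsDomain V] [IsDiscreteValuationRing V]

/-- In a tower `A → V → W`, if a uniformizer-like element `π` of `A` has order `n` in `V`, order
`eB ≤ n` in `W`, then `V → W` is unramified and `eB = n`. -/
theorem tower_unramified (φAV : A →+* V) (φVW : V →+* W) [IsLocalHom φVW]
    (hVWinj : Function.Injective φVW) (π : A)
    {ϖV : V} (hϖV : Irreducible ϖV) {n : ℕ} (hn : Associated (φAV π) (ϖV ^ n)) (hn1 : 1 ≤ n)
    {ϖW : W} (hϖW : Irreducible ϖW) {eB : ℕ} (heB : Associated (φVW (φAV π)) (ϖW ^ eB))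
    (hle : eB ≤ n) :
    Associated (φVW ϖV) ϖW ∧ eB = n := by
  have hne : φVW ϖV ≠ 0 := fun h0 => hϖV.ne_zero (hVWinj (h0.trans (map_zero _).symm))
  obtain ⟨e', he'⟩ := IsDiscreteValuationRing.associated_pow_irreducible hne hϖW
  have he'1 : 1 ≤ e' := by
    by_contra hcon
    have h0 : e' = 0 := by omega
    rw [h0, pow_zero] at he'
    have hu : IsUnit (φVW ϖV) := he'.symm.isUnit isUnit_one
    exact hϖV.not_isUnit (IsLocalHom.map_nonunit _ hu)
  have h1 : Associated (φVW (φAV π)) (ϖW ^ (e' * n)) := by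
    have := (hn.map φVW)
    rw [map_pow] at this
    refine this.trans ?_
    rw [pow_mul]
    exact he'.pow_pow
  have h2 : eB = e' * n := pow_eq_of_associated hϖW (heB.symm.trans h1)
  have he'eq : e' = 1 := by
    have : e' * n ≤ n := h2 ▸ hle
    nlinarith
  rw [he'eq, pow_one] at he'
  refine ⟨he', ?_⟩
  rw [h2, he'eq, one_mul]

end DVR

end Groth.Agent.Helper7.TotRam
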