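import Mathlib
import Groth.Prelude.Def_EtRam
import Groth.Agent.Helper7.TotRamB

/-!
# TotRamC: the degree of a totally ramified extension is at most the ramification index
-/

set_option autoImplicit false
universe u

namespace Groth.Agent.Helper7.TotRam

open IsLocalRing

section Expansion

variable {A K₁ : Type u} [CommRing A] [Field K₁] [Algebra A K₁]

/-- `P`-adic expansion with coefficients from `A` -/
theorem exists_expansion (V : ValuationSubring K₁)
    (hA : ∀ a : A, algebraMap A K₁ a ∈ V)
    (hres : ∀ x ∈ V, ∃ a : A, V.valuation (x - algebraMap A K₁ a) < 1)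
    (P : K₁) (hPgen : ∀ x ∈ V, V.valuation x < 1 → ∃ y ∈ V, x = P * y) (j : ℕ) :
    ∀ x ∈ V, ∃ (a : Fin j → A) (y : K₁), y ∈ V ∧
      x = ∑ i, algebraMap A K₁ (a i) * P ^ (i : ℕ) + P ^ j * y := by
  induction j with
  | zero =>
    intro x hx
    exact ⟨fun i => i.elim0, x, hx, by simp⟩
  | succ j ih =>
    intro x hx
    obtain ⟨a, y, hy, hxy⟩ := ih x hx
    obtain ⟨b, hb⟩ := hres y hy
    obtain ⟨y', hy', hyy'⟩ := hPgen (y - algebraMap A K₁ b) (sub_mem hy (hA b)) hb
    refine ⟨Fin.snoc a b, y', hy', ?_⟩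
    rw [Fin.sum_univ_castSucc]
    simp only [Fin.snoc_castSucc, Fin.snoc_last, Fin.val_castSucc, Fin.val_last]
    rw [hxy]
    have : y = algebraMap A K₁ b + P * y' := by rw [← hyy']; ring
    rw [this]
    ring

end Expansion

section Main

variable {A K K₁ : Type u} [CommRing A] [IsDomain A] [IsDiscreteValuationRing A] [Field K]
  [Algebra A K] [IsFractionRing A K] [Field K₁] [Algebra K K₁] [Algebra A K₁]
  [IsScalarTower A K K₁] [FiniteDimensional K K₁] [Algebra.IsSeparable K K₁]

theorem finrank_le_of_totallyRamified (V : ValuationSubring K₁)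
    (hA : ∀ a : A, algebraMap A K₁ a ∈ V)
    (huniq : ∀ V' : ValuationSubring K₁, EtRam.Dominates A (algebraMap A K₁) V' → V' = V)
    (hres : ∀ x ∈ V, ∃ a : A, V.valuation (x - algebraMap A K₁ a) < 1)
    (P : K₁) (hP : P ∈ V) (hPgen : ∀ x ∈ V, V.valuation x < 1 → ∃ y ∈ V, x = P * y)
    (π : A) (hπ : maximalIdeal A = Ideal.span {π}) (e : ℕ) (u : K₁) (hu' : u⁻¹ ∈ V)
    (hu0 : u ≠ 0) (hram : algebraMap A K₁ π = u * P ^ e) :
    Module.finrank K K₁ ≤ e := by
  classical
  haveI : Algebra.IsIntegral K K₁ := Algebra.IsIntegral.of_finite K K₁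
  have hint : ∀ x ∈ V, IsIntegral A x := fun x hx => isIntegral_of_mem (K := K) V huniq x hx
  let C := integralClosure A K₁
  haveI : Module.Finite A C := IsIntegralClosure.finite A K K₁ C
  -- the powers of `P` as elements of `C`
  let p : Fin e → C := fun i => ⟨P ^ (i : ℕ), hint _ (pow_mem hP _)⟩
  let N : Submodule A C := Submodule.span A (Set.range p)
  have hsup : (⊤ : Submodule A C) ≤ N ⊔ (maximalIdeal A) • (⊤ : Submodule A C) := by
    intro c _
    have hcV : (c : K₁) ∈ V := mem_of_isIntegral V hA c c.2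
    obtain ⟨a, y, hy, hcy⟩ := exists_expansion V hA hres P hPgen e c hcV
    have hy2 : u⁻¹ * y ∈ V := V.mul_mem _ _ hu' hy
    let y'' : C := ⟨u⁻¹ * y, hint _ hy2⟩
    have hc : c = ∑ i, a i • p i + π • y'' := by
      apply Subtype.ext
      rw [hcy, Subalgebra.coe_add, Subalgebra.coe_smul, AddSubmonoidClass.coe_finsetSum]
      simp only [Subalgebra.coe_smul]
      show _ = ∑ i, a i • (P ^ (i : ℕ)) + π • (u⁻¹ * y)
      simp only [Algebra.smul_def]
      rw [hram]
      field_simp
    rw [hc]
    refine Submodule.add_mem_sup (Submodule.sum_mem _ (fun i _ =>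
      Submodule.smul_mem _ _ (Submodule.subset_span ⟨i, rfl⟩))) ?_
    refine Submodule.smul_mem_smul ?_ Submodule.mem_top
    rw [hπ]
    exact Ideal.mem_span_singleton_self π
  have hN : N = ⊤ := by
    rw [eq_top_iff]
    refine Submodule.le_of_le_smul_of_le_jacobson_bot (Module.Finite.fg_top) ?_ hsup
    rw [IsLocalRing.jacobson_eq_maximalIdeal ⊥ bot_ne_top]
  -- the powers of `P` span `K₁` over `K`
  have hspan : Submodule.span K (Set.range fun i : Fin e => P ^ (i : ℕ)) = ⊤ := by
    rw [eq_top_iff]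
    intro y _
    have hyalg : IsAlgebraic A y := by
      haveI : Algebra.IsAlgebraic A K := IsLocalization.isAlgebraic K (nonZeroDivisors A)
      haveI : Algebra.IsAlgebraic K K₁ := Algebra.IsAlgebraic.of_finite K K₁
      exact (Algebra.IsAlgebraic.trans A K K₁).isAlgebraic y
    obtain ⟨r, hr0, hry⟩ := hyalg.exists_integral_multiple
    let c : C := ⟨r • y, hry⟩
    have hcN : c ∈ N := by rw [hN]; trivial
    -- elements of `N` lie in the `K`-span
    have hNle : N ≤ Submodule.comap (C.val.toLinearMap)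
        ((Submodule.span K (Set.range fun i : Fin e => P ^ (i : ℕ))).restrictScalars A) := by
      show Submodule.span A (Set.range p) ≤ _
      rw [Submodule.span_le]
      rintro _ ⟨i, rfl⟩
      exact Submodule.subset_span ⟨i, rfl⟩
    have h1 : (c : K₁) ∈ Submodule.span K (Set.range fun i : Fin e => P ^ (i : ℕ)) := hNle hcN
    have hrK : algebraMap A K r ≠ 0 := fun h0 =>
      hr0 (IsFractionRing.injective A K (h0.trans (map_zero _).symm))
    have : y = (algebraMap A K r)⁻¹ • (c : K₁) := by
      show y = (algebraMap A K r)⁻¹ • (r • y)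
      rw [← algebraMap_smul K r y, smul_smul, inv_mul_cancel₀ hrK, one_smul]
    rw [this]
    exact Submodule.smul_mem _ _ h1
  have h2 := finrank_range_le_card (R := K) (fun i : Fin e => P ^ (i : ℕ))
  rw [Set.finrank, hspan, finrank_top, Fintype.card_fin] at h2
  exact h2

end Main

end Groth.Agent.Helper7.TotRam
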