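import Mathlib
import Groth.Prelude.Def_EtRam
import Groth.Agent.Helper7.DomValA
import Groth.Agent.Helper7.TotRamC

/-!
# TotRamF: ramification index versus degree for dominating valuation subrings
-/

set_option autoImplicit false
universe u

namespace Groth.Agent.Helper7.TotRam

open IsLocalRing

section Bound

variable {B L M : Type u} [CommRing B] [IsDomain B] [IsDiscreteValuationRing B] [Field L]
  [Algebra B L] [IsFractionRing B L] [Field M] [Algebra L M] [Algebra B M] [IsScalarTower B L M]
  [FiniteDimensional L M]

/-- the ramification index of a dominating DVR is at most the degree -/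
theorem ramification_le_finrank (W : ValuationSubring M) [IsDiscreteValuationRing W]
    (hW : EtRam.Dominates B (algebraMap B M) W)
    {ϖ : W} (hϖ : Irreducible ϖ) {e : ℕ} (b : B) (hb : maximalIdeal B = Ideal.span {b})
    (he : Associated (RingHom.codRestrict (algebraMap B M) W hW.1 b) (ϖ ^ e)) :
    e ≤ Module.finrank L M := by
  letI algBW : Algebra B W := (RingHom.codRestrict (algebraMap B M) W hW.1).toAlgebra
  haveI : IsScalarTower B W M := IsScalarTower.of_algebraMap_eq' rfl
  haveI : IsLocalHom (algebraMap B W) := DomVal.isLocalHom_codRestrict _ W hW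
  have hBM : Function.Injective (algebraMap B M) := by
    rw [IsScalarTower.algebraMap_eq B L M]
    exact (algebraMap L M).injective.comp (IsFractionRing.injective B L)
  have hinj : Function.Injective (algebraMap B W) := by
    intro x y hxy
    apply hBM
    exact congrArg Subtype.val hxy
  have hSE : Function.Injective (algebraMap W M) := Subtype.val_injective
  refine le_finrank (R := B) (S := W) (F := L) (E := M) hinj hSE hϖ ?_
  intro a ha
  rw [hb, Ideal.mem_span_singleton] at ha
  obtain ⟨c, rfl⟩ := ha
  rw [map_mul]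
  exact Dvd.dvd.mul_right he.symm.dvd _

end Bound

section Equal

variable {A K K₁ : Type u} [CommRing A] [IsDomain A] [IsDiscreteValuationRing A] [Field K]
  [Algebra A K] [IsFractionRing A K] [Field K₁] [Algebra K K₁] [Algebra A K₁]
  [IsScalarTower A K K₁] [FiniteDimensional K K₁] [Algebra.IsSeparable K K₁]

/-- for a totally ramified extension the ramification index is the degree -/
theorem ramification_eq_finrank (V : ValuationSubring K₁) [IsDiscreteValuationRing V]
    (hV : EtRam.Dominates A (algebraMap A K₁) V)
    (huniq : ∀ V' : ValuationSubring K₁, EtRam.Dominates A (algebraMap A K₁) V' → V' = V)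
    (hres : Function.Surjective
      (fun a : A => IsLocalRing.residue V (RingHom.codRestrict (algebraMap A K₁) V hV.1 a)))
    {ϖ : V} (hϖ : Irreducible ϖ) {e : ℕ} (π : A) (hπ : maximalIdeal A = Ideal.span {π})
    (he : Associated (RingHom.codRestrict (algebraMap A K₁) V hV.1 π) (ϖ ^ e)) :
    e = Module.finrank K K₁ := by
  apply le_antisymm
  · exact ramification_le_finrank (L := K) V hV hϖ π hπ he
  · obtain ⟨u, hu⟩ := he
    have hmV : maximalIdeal V = Ideal.span {ϖ} := hϖ.maximalIdeal_eq
    refine finrank_le_of_totallyRamified (K := K) V hV.1 huniq ?_ (ϖ : K₁) ϖ.2 ?_ π hπ e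
      ((u⁻¹ : Vˣ) : V) ?_ ?_ ?_
    · intro x hx
      obtain ⟨a, ha⟩ := hres (IsLocalRing.residue V ⟨x, hx⟩)
      refine ⟨a, ?_⟩
      have h1 : (⟨x, hx⟩ : V) - RingHom.codRestrict (algebraMap A K₁) V hV.1 a ∈
          maximalIdeal V := by
        rw [← Ideal.Quotient.eq_zero_iff_mem, map_sub, sub_eq_zero]
        exact ha.symm
      exact (V.valuation_lt_one_iff _).1 h1
    · intro x hx hlt
      have h1 : (⟨x, hx⟩ : V) ∈ maximalIdeal V := (V.valuation_lt_one_iff _).2 hlt
      rw [hmV, Ideal.mem_span_singleton] at h1
      obtain ⟨y, hy⟩ := h1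
      exact ⟨y, y.2, congrArg Subtype.val hy⟩
    · have : ((((u⁻¹ : Vˣ) : V) : K₁))⁻¹ = ((u : V) : K₁) := by
        have h1 : ((u : V) : K₁) * (((u⁻¹ : Vˣ) : V) : K₁) = 1 := by
          exact congrArg Subtype.val u.mul_inv
        exact (eq_inv_of_mul_eq_one_left h1).symm
      rw [this]
      exact (u : V).2
    · intro h0
      have : ((u⁻¹ : Vˣ) : V) = 0 := Subtype.ext h0
      exact (u⁻¹).ne_zero this
    · have h1 : RingHom.codRestrict (algebraMap A K₁) V hV.1 π = ((u⁻¹ : Vˣ) : V) * ϖ ^ e := by
        rw [← hu]
        rw [mul_comm, mul_assoc, Units.mul_inv, mul_one]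
      have := congrArg Subtype.val h1
      simpa using this

end Equal

end Groth.Agent.Helper7.TotRam
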