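import Mathlib
import Groth.Prelude.Def_EtRam
import Groth.Agent.Helper7.DomValD
import Groth.Agent.Helper7.TotRamD
import Groth.Agent.Helper7.TotRamE
import Groth.Agent.Helper7.TotRamF

/-!
# TotRamG: the local extensions attached to a totally ramified extension
-/

set_option autoImplicit false
universe u

namespace Groth.Agent.Helper7.TotRam

open IsLocalRing TensorProduct

section Core

variable (A B K L : Type u) [CommRing A] [IsDomain A] [IsDiscreteValuationRing A]
  [CommRing B] [IsDomain B] [IsDiscreteValuationRing B] [Algebra A B] [IsLocalHom (algebraMap A B)]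
  [Field K] [Field L] [Algebra A K] [IsFractionRing A K] [Algebra B L] [IsFractionRing B L]
  [Algebra K L] [Algebra A L] [IsScalarTower A K L] [IsScalarTower A B L]
  (K₁ : Type u) [Field K₁] [Algebra K K₁] [FiniteDimensional K K₁] [Algebra.IsSeparable K K₁]

theorem core (hw : EtRam.IsWeaklyUnramified A B)
    (ht : EtRam.IsTotallyRamified A ((algebraMap K K₁).comp (algebraMap A K)))
    (M : Type u) [Field M] [Algebra K M] [Algebra L M] [Algebra K₁ M] [IsScalarTower K L M]
    [IsScalarTower K K₁ M]
    (hadj : Algebra.adjoin L (Set.range (algebraMap K₁ M)) = ⊤)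
    (W : ValuationSubring M)
    (hW : EtRam.Dominates B ((algebraMap L M).comp (algebraMap B L)) W) :
    DomVal.WU' W (algebraMap K₁ M) ∧ Module.finrank L M = Module.finrank K K₁ := by
  classical
  letI algAK₁ : Algebra A K₁ := ((algebraMap K K₁).comp (algebraMap A K)).toAlgebra
  haveI : IsScalarTower A K K₁ := IsScalarTower.of_algebraMap_eq' rfl
  letI algBM : Algebra B M := ((algebraMap L M).comp (algebraMap B L)).toAlgebra
  haveI : IsScalarTower B L M := IsScalarTower.of_algebraMap_eq' rfl
  haveI : FiniteDimensional L M := finite_of_adjoin (K := K) hadj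
  haveI : Algebra.IsSeparable L M := isSeparable_of_adjoin (K := K) hadj
  have hle := finrank_le_of_adjoin (K := K) (L := L) (K₁ := K₁) (M := M) hadj
  obtain ⟨-, huniq, hres⟩ := ht
  have hkey : ∀ a : A, algebraMap K₁ M (algebraMap A K₁ a) =
      algebraMap B M (algebraMap A B a) := by
    intro a
    show algebraMap K₁ M (algebraMap K K₁ (algebraMap A K a)) =
      algebraMap L M (algebraMap B L (algebraMap A B a))
    rw [← IsScalarTower.algebraMap_apply K K₁ M, IsScalarTower.algebraMap_apply K L M,
      ← IsScalarTower.algebraMap_apply A K L, ← IsScalarTower.algebraMap_apply A B L]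
  have hW' : EtRam.Dominates B (algebraMap B M) W := hW
  have hV : EtRam.Dominates A (algebraMap A K₁) (W.comap (algebraMap K₁ M)) := by
    refine ⟨fun a => ?_, fun a ha => ?_⟩
    · show algebraMap K₁ M _ ∈ W
      rw [hkey]
      exact hW'.1 _
    · rw [DomVal.valuation_comap_lt_one_iff, hkey]
      apply hW'.2
      rw [mem_maximalIdeal] at ha ⊢
      exact (map_mem_nonunits_iff (algebraMap A B) a).2 ha
  haveI : IsDiscreteValuationRing (W.comap (algebraMap K₁ M)) :=
    DomVal.isDVR_of_dominates (K := K) _ hV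
  haveI : IsDiscreteValuationRing W := DomVal.isDVR_of_dominates (K := L) W hW'
  obtain ⟨π, hπirr⟩ := IsDiscreteValuationRing.exists_irreducible A
  have hπ : maximalIdeal A = Ideal.span {π} := hπirr.maximalIdeal_eq
  have hb : maximalIdeal B = Ideal.span {algebraMap A B π} := by
    rw [← hw, hπ, Ideal.map_span, Set.image_singleton]
  obtain ⟨ϖV, hϖV⟩ := IsDiscreteValuationRing.exists_irreducible (W.comap (algebraMap K₁ M))
  obtain ⟨ϖW, hϖW⟩ := IsDiscreteValuationRing.exists_irreducible W
  have hAK₁ : Function.Injective (algebraMap A K₁) := algebraMap_injective' (K := K)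
  have hπV0 : RingHom.codRestrict (algebraMap A K₁) (W.comap (algebraMap K₁ M)) hV.1 π ≠ 0 := by
    intro h0
    have := congrArg Subtype.val h0
    exact hπirr.ne_zero (hAK₁ (this.trans (map_zero _).symm))
  obtain ⟨n, hn⟩ := IsDiscreteValuationRing.associated_pow_irreducible hπV0 hϖV
  have hnfin : n = Module.finrank K K₁ :=
    ramification_eq_finrank (K := K) _ hV (fun V' hV' => huniq V' _ hV' hV) (hres _ hV) hϖV π hπ hn
  have hcomp : (EtRam.inclOfComap W (algebraMap K₁ M))
      (RingHom.codRestrict (algebraMap A K₁) (W.comap (algebraMap K₁ M)) hV.1 π) =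
      RingHom.codRestrict (algebraMap B M) W hW'.1 (algebraMap A B π) := Subtype.ext (hkey π)
  have hιinj : Function.Injective (EtRam.inclOfComap W (algebraMap K₁ M)) := by
    intro x y hxy
    apply Subtype.ext
    exact (algebraMap K₁ M).injective (congrArg Subtype.val hxy)
  have hπW0 : RingHom.codRestrict (algebraMap B M) W hW'.1 (algebraMap A B π) ≠ 0 := by
    rw [← hcomp]
    intro h0
    exact hπV0 (hιinj (h0.trans (map_zero _).symm))
  obtain ⟨eB, heB⟩ := IsDiscreteValuationRing.associated_pow_irreducible hπW0 hϖW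
  have heBle : eB ≤ Module.finrank L M :=
    ramification_le_finrank (L := L) W hW' hϖW (algebraMap A B π) hb heB
  have hn1 : 1 ≤ n := by
    rw [hnfin]
    exact Module.finrank_pos
  obtain ⟨hassoc, heq⟩ := tower_unramified
    (RingHom.codRestrict (algebraMap A K₁) (W.comap (algebraMap K₁ M)) hV.1)
    (EtRam.inclOfComap W (algebraMap K₁ M)) hιinj π hϖV hn hn1 hϖW
    (by rw [hcomp]; exact heB) (by omega)
  refine ⟨?_, by omega⟩
  intro x hx
  obtain ⟨hxW, hxm⟩ := ValuationSubring.mem_nonunits_iff_exists_mem_maximalIdeal.1 hx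
  rw [hϖW.maximalIdeal_eq, Ideal.mem_span_singleton] at hxm
  obtain ⟨w, hw'⟩ := hxm
  obtain ⟨u, hu⟩ := hassoc
  refine ⟨(ϖV : K₁), ?_, ((u : W) * w : W), ((u : W) * w).2, ?_⟩
  · rw [← DomVal.mem_maximalIdeal_comap_iff, hϖV.maximalIdeal_eq]
    exact Ideal.mem_span_singleton_self ϖV
  · have h1 := congrArg Subtype.val hw'
    rw [← hu] at h1
    simp only [MulMemClass.coe_mul, EtRam.inclOfComap_apply_coe] at h1 ⊢
    rw [h1]
    ring

end Core

end Groth.Agent.Helper7.TotRam
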