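import Mathlib
import Groth.Prelude.Def_EtRam
import Groth.Agent.Helper7.TotRamG

/-!
# TotRamH: a totally ramified finite separable extension is a weak solution
-/

set_option autoImplicit false
universe u

namespace Groth.Agent.Helper7.TotRam

open IsLocalRing TensorProduct

section Exists

variable {B : Type u} [CommRing B] [IsLocalRing B] {M : Type u} [Field M]

/-- every local ring mapping to a field is dominated by a valuation subring -/
theorem exists_dominates (g : B →+* M) : ∃ W : ValuationSubring M, EtRam.Dominates B g W := by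
  obtain ⟨W, h, hloc⟩ := IsLocalRing.exists_factor_valuationRing g
  refine ⟨W, fun b => h b, fun b hb => ?_⟩
  have hmem : (⟨g b, h b⟩ : W) ∈ maximalIdeal W := by
    rw [mem_maximalIdeal, mem_nonunits_iff]
    intro hu
    exact hb (hloc.map_nonunit b hu)
  exact (W.valuation_lt_one_iff _).1 hmem

end Exists

section Main

variable (A B K L : Type u) [CommRing A] [IsDomain A] [IsDiscreteValuationRing A]
  [CommRing B] [IsDomain B] [IsDiscreteValuationRing B] [Algebra A B] [IsLocalHom (algebraMap A B)]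
  [Field K] [Field L] [Algebra A K] [IsFractionRing A K] [Algebra B L] [IsFractionRing B L]
  [Algebra K L] [Algebra A L] [IsScalarTower A K L] [IsScalarTower A B L]
  (K₁ : Type u) [Field K₁] [Algebra K K₁] [FiniteDimensional K K₁] [Algebra.IsSeparable K K₁]

theorem isWeakSolution (hw : EtRam.IsWeaklyUnramified A B)
    (ht : EtRam.IsTotallyRamified A ((algebraMap K K₁).comp (algebraMap A K))) :
    EtRam.IsWeakSolution B K L K₁ := by
  intro M _ _ _ _ _ _ hadj W hW
  show DomVal.WU W (algebraMap K₁ M)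
  rw [DomVal.wu_iff]
  exact (core A B K L K₁ hw ht M hadj W hW).1

theorem isField_tensor (hw : EtRam.IsWeaklyUnramified A B)
    (ht : EtRam.IsTotallyRamified A ((algebraMap K K₁).comp (algebraMap A K))) :
    IsField (L ⊗[K] K₁) := by
  classical
  have hfr : Module.finrank L (L ⊗[K] K₁) = Module.finrank K K₁ := Module.finrank_baseChange
  haveI : Nontrivial (L ⊗[K] K₁) := by
    have hpos : 0 < Module.finrank L (L ⊗[K] K₁) := by
      rw [hfr]
      exact Module.finrank_pos
    exact Module.nontrivial_of_finrank_pos (R := L) hpos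
  obtain ⟨𝔪, h𝔪⟩ := Ideal.exists_maximal (L ⊗[K] K₁)
  letI : Field ((L ⊗[K] K₁) ⧸ 𝔪) := Ideal.Quotient.field 𝔪
  letI algK₁ : Algebra K₁ ((L ⊗[K] K₁) ⧸ 𝔪) :=
    ((Ideal.Quotient.mk 𝔪).comp
      (Algebra.TensorProduct.includeRight : K₁ →ₐ[K] L ⊗[K] K₁).toRingHom).toAlgebra
  haveI : IsScalarTower K K₁ ((L ⊗[K] K₁) ⧸ 𝔪) := by
    refine IsScalarTower.of_algebraMap_eq' ?_
    ext c
    show algebraMap K ((L ⊗[K] K₁) ⧸ 𝔪) c = Ideal.Quotient.mk 𝔪
      ((Algebra.TensorProduct.includeRight : K₁ →ₐ[K] L ⊗[K] K₁) (algebraMap K K₁ c))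
    rw [AlgHom.commutes]
    rfl
  have hadj : Algebra.adjoin L (Set.range (algebraMap K₁ ((L ⊗[K] K₁) ⧸ 𝔪))) = ⊤ := by
    rw [eq_top_iff]
    rintro y -
    obtain ⟨t, rfl⟩ := Ideal.Quotient.mk_surjective y
    induction t using TensorProduct.induction_on with
    | zero => rw [map_zero]; exact Subalgebra.zero_mem _
    | tmul l x =>
      have : Ideal.Quotient.mk 𝔪 (l ⊗ₜ[K] x) =
          l • algebraMap K₁ ((L ⊗[K] K₁) ⧸ 𝔪) x := by
        show Ideal.Quotient.mkₐ L 𝔪 (l ⊗ₜ[K] x) = l • Ideal.Quotient.mkₐ L 𝔪 ((1 : L) ⊗ₜ[K] x)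
        rw [← map_smul, TensorProduct.smul_tmul', smul_eq_mul, mul_one]
      rw [this]
      exact Subalgebra.smul_mem _ (Algebra.subset_adjoin (Set.mem_range_self x)) l
    | add a b ha hb => rw [map_add]; exact Subalgebra.add_mem _ ha hb
  obtain ⟨W, hW⟩ := exists_dominates (B := B)
    ((algebraMap L ((L ⊗[K] K₁) ⧸ 𝔪)).comp (algebraMap B L))
  have hcore := (core A B K L K₁ hw ht ((L ⊗[K] K₁) ⧸ 𝔪) hadj W hW).2
  haveI : FiniteDimensional L ((L ⊗[K] K₁) ⧸ 𝔪) := finite_of_adjoin (K := K) hadj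
  have hsurj : Function.Surjective (Ideal.Quotient.mkₐ L 𝔪).toLinearMap :=
    Ideal.Quotient.mk_surjective
  have hinj : Function.Injective (Ideal.Quotient.mkₐ L 𝔪).toLinearMap :=
    (LinearMap.injective_iff_surjective_of_finrank_eq_finrank (hfr.trans hcore.symm)).2 hsurj
  have e : (L ⊗[K] K₁) ≃+* ((L ⊗[K] K₁) ⧸ 𝔪) :=
    RingEquiv.ofBijective (Ideal.Quotient.mk 𝔪) ⟨hinj, Ideal.Quotient.mk_surjective⟩
  exact e.toMulEquiv.isField (Field.toIsField _)

end Main

end Groth.Agent.Helper7.TotRam
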