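import Mathlib
import Groth.Prelude.Def_EtRam
import Groth.Agent.Helper7.ASchF
import Groth.Agent.Helper7.TotRamH

set_option autoImplicit false

/-!
# Artin–Schreier extensions of a DVR: pole of order divisible by `p`, non-`p`-th-power residue
-/

namespace Groth.Agent.Helper7.ASch

open Polynomial IsLocalRing

universe u

/-- the fourth case: a unique place, weakly unramified, purely inseparable residue extension of
degree `p` -/
def Case4 (p : ℕ) (A L : Type u) [CommRing A] [IsLocalRing A] [Field L] [Algebra A L] : Prop :=
  (∃ V : ValuationSubring L, EtRam.Dominates A (algebraMap A L) V) ∧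
  (∀ V V' : ValuationSubring L, EtRam.Dominates A (algebraMap A L) V →
    EtRam.Dominates A (algebraMap A L) V' → V = V') ∧
  ∀ (V : ValuationSubring L) (h : EtRam.Dominates A (algebraMap A L) V),
    letI : Algebra A V := (RingHom.codRestrict (algebraMap A L) V h.1).toAlgebra
    ∀ [IsLocalHom (algebraMap A V)],
      EtRam.IsWeaklyUnramified A V ∧
        IsPurelyInseparable (ResidueField A) (ResidueField V) ∧
        Module.finrank (ResidueField A) (ResidueField V) = p

section CaseC

variable (p : ℕ) [hp : Fact p.Prime] {A K L : Type u} [CommRing A] [IsDomain A]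
  [IsDiscreteValuationRing A] [Field K] [Algebra A K] [IsFractionRing A K] [Field L] [Algebra K L]
  [Algebra A L] [IsScalarTower A K L] [CharP K p]
  (π : A) (hπ : maximalIdeal A = Ideal.span {π})

/-- the rescaled polynomial `Xᵖ - c X - a` -/
noncomputable def asPolyC (c a : A) : A[X] := X ^ p - (C c * X + C a)

theorem asPolyC_monic (c a : A) : (asPolyC p c a).Monic := by
  unfold asPolyC
  apply monic_X_pow_sub
  calc (C c * X + C a : A[X]).degree ≤ 1 := by
        refine (degree_add_le _ _).trans (max_le ?_ ?_)
        · exact (degree_C_mul_X_le c)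
        · exact degree_C_le.trans zero_le_one
    _ < p := by exact_mod_cast hp.out.one_lt

theorem asPolyC_natDegree (c a : A) : (asPolyC p c a).natDegree = p := by
  unfold asPolyC
  have h1 : (C c * X + C a : A[X]).natDegree ≤ 1 := by
    refine (natDegree_add_le _ _).trans (max_le ?_ ?_)
    · exact (natDegree_C_mul_le c X).trans natDegree_X_le
    · rw [natDegree_C]; exact zero_le_one
  rw [natDegree_sub_eq_left_of_natDegree_lt
    (by rw [natDegree_X_pow]; exact lt_of_le_of_lt h1 hp.out.one_lt), natDegree_X_pow]

theorem asPolyC_map (c a : A) (hc : c ∈ maximalIdeal A) :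
    (asPolyC p c a).map (residue A) = X ^ p - C (residue A a) := by
  unfold asPolyC
  rw [Polynomial.map_sub, Polynomial.map_pow, map_X, Polynomial.map_add, Polynomial.map_mul,
    map_C, map_C, map_X, (residue_eq_zero_iff c).2 hc, map_zero, zero_mul, zero_add]

theorem asPolyC_irreducible (c a : A) (hc : c ∈ maximalIdeal A)
    (ha : ∀ r : A, residue A a ≠ residue A r ^ p) :
    Irreducible ((asPolyC p c a).map (residue A)) := by
  rw [asPolyC_map p c a hc]
  apply X_pow_sub_C_irreducible_of_prime hp.out
  intro b hb
  obtain ⟨r, rfl⟩ := residue_surjective b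
  exact ha r hb.symm

include K in
theorem charP_residue : CharP (ResidueField A) p := by
  obtain ⟨r, hr⟩ := CharP.exists (ResidueField A)
  have h0 : ((p : ℕ) : ResidueField A) = 0 := by
    have : ((p : A)) = 0 := natCast_eq_zero_A p (K := K)
    have h1 := congrArg (residue A) this
    rwa [map_natCast, map_zero] at h1
  have hdvd : r ∣ p := (CharP.cast_eq_zero_iff (ResidueField A) r p).1 h0
  rcases (Nat.dvd_prime hp.out).1 hdvd with h1 | h1
  · exact absurd h1 (CharP.char_ne_one (ResidueField A) r)
  · rw [← h1]; exact hr

include K hπ in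
theorem case4_of_pole (ξ : K) (z : L) (hz : z ^ p - z = algebraMap K L ξ)
    (hgen : IntermediateField.adjoin K {z} = ⊤)
    (m : ℕ) (hm : 0 < m) (a : A) (ha : ∀ r : A, residue A a ≠ residue A r ^ p)
    (hξ : ξ * algebraMap A K π ^ (p * m) = algebraMap A K a) : Case4 p A L := by
  obtain ⟨q, hq⟩ : ∃ q, p = q + 1 := ⟨p - 1, by have := hp.out.one_le; omega⟩
  have hq1 : 1 ≤ q := by have := hp.out.two_le; omega
  set πL : L := algebraMap A L π with hπL
  have hπL0 : πL ≠ 0 := map_pi_ne_zero (K := K) π hπ
  have hξL : algebraMap K L ξ * πL ^ (p * m) = algebraMap A L a := by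
    have := congrArg (algebraMap K L) hξ
    rw [map_mul, map_pow, ← IsScalarTower.algebraMap_apply, ← IsScalarTower.algebraMap_apply]
      at this
    exact this
  set y : L := z * πL ^ m with hy_def
  set c : A := π ^ (m * q) with hc_def
  have hc : c ∈ maximalIdeal A := by
    rw [hπ, hc_def]
    obtain ⟨j, hj⟩ : ∃ j, m * q = j + 1 := ⟨m * q - 1, by
      have : 0 < m * q := Nat.mul_pos hm hq1
      omega⟩
    rw [hj, pow_succ]
    exact Ideal.mul_mem_left _ _ (Ideal.mem_span_singleton_self π)
  have hGy : aeval y (asPolyC p c a) = 0 := by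
    unfold asPolyC
    rw [map_sub, map_pow, aeval_X, map_add, map_mul, aeval_C, aeval_X, aeval_C, hc_def, map_pow,
      ← hπL, ← hξL, ← hz, hy_def]
    have e1 : p * m = m * q + m := by rw [hq]; ring
    have e2 : (z * πL ^ m) ^ p = z ^ p * πL ^ (m * q + m) := by
      rw [mul_pow, ← pow_mul, ← e1, mul_comm m p]
    rw [e2, e1]
    ring
  have hy : IsIntegral A y := ⟨asPolyC p c a, asPolyC_monic p c a, hGy⟩
  have hirr := asPolyC_irreducible p c a hc ha
  have hgenY : IntermediateField.adjoin K {y} = ⊤ := by
    rw [eq_top_iff, ← hgen, IntermediateField.adjoin_simple_le_iff]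
    have h1 : z = y * (algebraMap K L (algebraMap A K π ^ m))⁻¹ := by
      rw [hy_def, map_pow, ← IsScalarTower.algebraMap_apply, ← hπL, mul_assoc,
        mul_inv_cancel₀ (pow_ne_zero _ hπL0), mul_one]
    rw [h1]
    exact mul_mem (IntermediateField.mem_adjoin_simple_self K y)
      (inv_mem (IntermediateField.algebraMap_mem _ _))
  -- the description of any dominating valuation ring
  have hdesc : ∀ (V : ValuationSubring L), EtRam.Dominates A (algebraMap A L) V →
      ∀ x : L, x ∈ V ↔ ∃ P : A[X], x = aeval y P := by
    intro V hV x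
    letI : Algebra A V := (RingHom.codRestrict (algebraMap A L) V hV.1).toAlgebra
    haveI : IsScalarTower A V L := IsScalarTower.of_algebraMap_eq' rfl
    haveI : IsLocalHom (algebraMap A V) := DomVal.isLocalHom_codRestrict _ V hV
    have hS : HStar π y V ⊥ :=
      hStar_irr π hπ y hy V (asPolyC p c a) (asPolyC_monic p c a) hirr hGy
    exact mem_iff_of_bot (K := K) π hπ y hgenY hy V hS x
  refine ⟨TotRam.exists_dominates (algebraMap A L), ?_, ?_⟩
  · intro V V' hV hV'
    ext x
    rw [hdesc V hV x, hdesc V' hV' x]
  · intro V hV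
    letI : Algebra A V := (RingHom.codRestrict (algebraMap A L) V hV.1).toAlgebra
    intro hloc
    haveI : IsScalarTower A V L := IsScalarTower.of_algebraMap_eq' rfl
    have hS : HStar π y V ⊥ :=
      hStar_irr π hπ y hy V (asPolyC p c a) (asPolyC_monic p c a) hirr hGy
    have htop := adjoin_yBar_eq_top (K := K) π hπ y hgenY hy V ⊥ hS
    have h0 : aeval (yBar y hy V) ((asPolyC p c a).map (residue A)) = 0 := by
      rw [← val_lt_iff, hGy, map_zero]; exact zero_lt_one
    have hmin : (asPolyC p c a).map (residue A) = minpoly (ResidueField A) (yBar y hy V) :=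
      minpoly.eq_of_irreducible_of_monic hirr h0 ((asPolyC_monic p c a).map _)
    have hpow : yBar y hy V ^ p = algebraMap (ResidueField A) (ResidueField V) (residue A a) := by
      rw [asPolyC_map p c a hc, map_sub, map_pow, aeval_X, aeval_C] at h0
      exact sub_eq_zero.1 h0
    haveI : CharP (ResidueField A) p := charP_residue p (K := K)
    haveI : ExpChar (ResidueField A) p := ExpChar.prime hp.out
    let e : IntermediateField.adjoin (ResidueField A) {yBar y hy V} ≃ₐ[ResidueField A]
        ResidueField V := (IntermediateField.equivOfEq htop).trans IntermediateField.topEquiv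
    refine ⟨weaklyUnramified (K := K) π hπ y hgenY hy V ⊥ hS, ?_, ?_⟩
    · haveI : IsPurelyInseparable (ResidueField A)
          (IntermediateField.adjoin (ResidueField A) {yBar y hy V}) := by
        rw [IntermediateField.isPurelyInseparable_adjoin_simple_iff_pow_mem _ _ p]
        exact ⟨1, by rw [pow_one, hpow]; exact ⟨_, rfl⟩⟩
      exact AlgEquiv.isPurelyInseparable e
    · rw [← e.toLinearEquiv.finrank_eq,
        IntermediateField.adjoin.finrank (isIntegral_yBar y hy V), ← hmin,
        (asPolyC_monic p c a).natDegree_map, asPolyC_natDegree]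

end CaseC

end Groth.Agent.Helper7.ASch
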