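import Mathlib
import Groth.Prelude.Def_EtRam
import Groth.Agent.Helper7.ASchD
import Groth.Agent.Helper7.ASchE
import Groth.Agent.Helper7.TotRamH

set_option autoImplicit false

/-!
# Artin–Schreier extensions of a DVR: pole of order prime to `p` (totally ramified)
-/

namespace Groth.Agent.Helper7.ASch

open Polynomial IsLocalRing

universe u

section CaseB

variable (p : ℕ) [hp : Fact p.Prime] {A K L : Type u} [CommRing A] [IsDomain A]
  [IsDiscreteValuationRing A] [Field K] [Algebra A K] [IsFractionRing A K] [Field L] [Algebra K L]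
  [Algebra A L] [IsScalarTower A K L] [CharP K p]
  (π : A) (hπ : maximalIdeal A = Ideal.span {π})

theorem exists_bezout (n : ℕ) (hn : ¬ p ∣ n) : ∃ α β : ℕ, p * β = n * α + 1 := by
  have hn0 : (n : ZMod p) ≠ 0 := by
    rw [Ne, ZMod.natCast_eq_zero_iff]; exact hn
  let a : ZMod p := -((n : ZMod p)⁻¹)
  have h1 : ((n * a.val + 1 : ℕ) : ZMod p) = 0 := by
    push_cast
    rw [ZMod.natCast_zmod_val]
    show (n : ZMod p) * -((n : ZMod p)⁻¹) + 1 = 0
    rw [mul_neg, mul_inv_cancel₀ hn0]
    ring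
  obtain ⟨β, hβ⟩ := (ZMod.natCast_eq_zero_iff _ _).1 h1
  exact ⟨a.val, β, hβ.symm⟩

include K hπ in
theorem val_varpi_pow (ξ : K) (z : L) (hz : z ^ p - z = algebraMap K L ξ)
    (n : ℕ) (hn0 : 0 < n) (u : Aˣ)
    (hξ : ξ * algebraMap A K π ^ n = algebraMap A K u) (α β : ℕ) (hαβ : p * β = n * α + 1)
    (V : ValuationSubring L) (hV : EtRam.Dominates A (algebraMap A L) V) :
    V.valuation (z ^ α * algebraMap A L π ^ β) ^ p = V.valuation (algebraMap A L π) := by
  obtain ⟨q, hq⟩ : ∃ q, p = q + 1 := ⟨p - 1, by have := hp.out.one_le; omega⟩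
  have hq1 : q ≠ 0 := by have := hp.out.two_le; omega
  set πL : L := algebraMap A L π with hπL
  have hξL : algebraMap K L ξ * πL ^ n = algebraMap A L (u : A) := by
    have := congrArg (algebraMap K L) hξ
    rw [map_mul, map_pow, ← IsScalarTower.algebraMap_apply, ← IsScalarTower.algebraMap_apply]
      at this
    exact this
  have hu1 : V.valuation (algebraMap A L (u : A)) = 1 := val_unit V hV _ u.isUnit
  have hprod : V.valuation (algebraMap K L ξ) * V.valuation πL ^ n = 1 := by
    rw [← map_pow, ← map_mul, hξL, hu1]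
  have hδ : V.valuation πL < 1 := val_pi_lt π hπ V hV
  have hδn : V.valuation πL ^ n < 1 := pow_lt_one₀ zero_le hδ hn0.ne'
  have hzgt : 1 < V.valuation z := by
    by_contra hcon
    push Not at hcon
    have h1 : V.valuation (z ^ p - z) ≤ 1 :=
      Valuation.map_sub_le _ (by rw [map_pow]; exact pow_le_one₀ zero_le hcon) hcon
    rw [hz] at h1
    have h2 : V.valuation (algebraMap K L ξ) * V.valuation πL ^ n < 1 := by
      calc _ ≤ 1 * V.valuation πL ^ n := mul_le_mul_left h1 _
        _ = V.valuation πL ^ n := one_mul _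
        _ < 1 := hδn
    rw [hprod] at h2
    exact lt_irrefl _ h2
  have hzpos : 0 < V.valuation z := lt_trans zero_lt_one hzgt
  have hzp : V.valuation z < V.valuation (z ^ p) := by
    rw [map_pow, hq, pow_succ]
    calc V.valuation z = 1 * V.valuation z := (one_mul _).symm
      _ < V.valuation z ^ q * V.valuation z :=
        mul_lt_mul_of_pos_right (one_lt_pow₀ hzgt hq1) hzpos
  have hval : V.valuation z ^ p = V.valuation (algebraMap K L ξ) := by
    rw [← hz, Valuation.map_sub_eq_of_lt_left _ hzp, map_pow]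
  rw [map_mul, map_pow, map_pow, mul_pow, ← pow_mul, ← pow_mul, mul_comm α p, pow_mul, hval,
    mul_comm β p, hαβ, pow_succ, pow_mul, ← mul_assoc, ← mul_pow, hprod, one_pow, one_mul]

include K hπ in
theorem case3_of_pole (ξ : K) (z : L) (hz : z ^ p - z = algebraMap K L ξ)
    (hgen : IntermediateField.adjoin K {z} = ⊤)
    (n : ℕ) (hn0 : 0 < n) (hn : ¬ p ∣ n) (u : Aˣ)
    (hξ : ξ * algebraMap A K π ^ n = algebraMap A K u) :
    EtRam.IsTotallyRamified A (algebraMap A L) ∧ Module.finrank K L = p := by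
  classical
  obtain ⟨α, β, hαβ⟩ := exists_bezout p n hn
  set ϖ : L := z ^ α * algebraMap A L π ^ β with hϖ_def
  have key : ∀ (V : ValuationSubring L), EtRam.Dominates A (algebraMap A L) V →
      V.valuation ϖ ^ p = V.valuation (algebraMap A L π) := fun V hV =>
    val_varpi_pow (K := K) p π hπ ξ z hz n hn0 u hξ α β hαβ V hV
  obtain ⟨V₀, hV₀⟩ := TotRam.exists_dominates (algebraMap A L)
  haveI := finiteDimensional p ξ z hz hgen
  have hli := linearIndependent_pow (K := K) π hπ p ϖ V₀ hV₀ (key V₀ hV₀)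
  have hfin : Module.finrank K L = p := by
    apply le_antisymm (finrank_le p ξ z hz hgen)
    have := hli.fintype_card_le_finrank
    simpa using this
  let b := basisOfLinearIndependentOfCardEqFinrank hli (by simp [hfin])
  have hexp : ∀ x : L, ∃ c : Fin p → K, x = ∑ i, algebraMap K L (c i) * ϖ ^ (i : ℕ) := by
    intro x
    refine ⟨fun i => b.repr x i, ?_⟩
    have h1 := b.sum_repr x
    have h2 : ∀ i, b i = ϖ ^ (i : ℕ) := fun i => by
      rw [coe_basisOfLinearIndependentOfCardEqFinrank]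
    calc x = ∑ i, b.repr x i • b i := h1.symm
      _ = _ := Finset.sum_congr rfl (fun i _ => by rw [Algebra.smul_def, h2])
  have hdesc : ∀ (V : ValuationSubring L), EtRam.Dominates A (algebraMap A L) V →
      ∀ x : L, x ∈ V ↔ ∃ a : Fin p → A, x = ∑ i, algebraMap A L (a i) * ϖ ^ (i : ℕ) := by
    intro V hV x
    constructor
    · intro hx
      obtain ⟨c, hc⟩ := hexp x
      have hmem := coeff_mem (K := K) π hπ p ϖ V hV (key V hV) c x hx hc
      choose a ha using hmem
      refine ⟨a, ?_⟩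
      rw [hc]
      apply Finset.sum_congr rfl
      intro i _
      rw [← ha i, ← IsScalarTower.algebraMap_apply]
    · rintro ⟨a, rfl⟩
      have hϖV : ϖ ∈ V := (V.valuation_le_one_iff _).1
        (val_varpi_lt π hπ p ϖ V hV (key V hV)).le
      exact sum_mem (fun i _ => mul_mem (hV.1 _) (pow_mem hϖV _))
  refine ⟨⟨⟨V₀, hV₀⟩, ?_, ?_⟩, hfin⟩
  · intro V V' hV hV'
    ext x
    rw [hdesc V hV x, hdesc V' hV' x]
  · intro V hV xb
    obtain ⟨x, rfl⟩ := residue_surjective xb
    obtain ⟨a, ha⟩ := (hdesc V hV (x : L)).1 x.2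
    let i0 : Fin p := ⟨0, hp.out.pos⟩
    refine ⟨a i0, ?_⟩
    show residue V (RingHom.codRestrict (algebraMap A L) V hV.1 (a i0)) = residue V x
    rw [← sub_eq_zero, ← map_sub, residue_eq_zero_iff, ← neg_mem_iff,
      V.valuation_lt_one_iff]
    have hγ1 : V.valuation ϖ < 1 := val_varpi_lt π hπ p ϖ V hV (key V hV)
    have h1 : ((-(RingHom.codRestrict (algebraMap A L) V hV.1 (a i0) - x) : V) : L) =
        ∑ i ∈ Finset.univ.erase i0, algebraMap A L (a i) * ϖ ^ (i : ℕ) := by
      have h2 : (x : L) = algebraMap A L (a i0) * ϖ ^ (i0 : ℕ) +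
          ∑ i ∈ Finset.univ.erase i0, algebraMap A L (a i) * ϖ ^ (i : ℕ) := by
        rw [ha]
        exact (Finset.add_sum_erase _ _ (Finset.mem_univ i0)).symm
      simp only [NegMemClass.coe_neg, AddSubgroupClass.coe_sub, RingHom.codRestrict_apply]
      rw [h2]
      show -(algebraMap A L (a i0) - (algebraMap A L (a i0) * ϖ ^ (0 : ℕ) + _)) = _
      rw [pow_zero, mul_one]
      ring
    rw [h1]
    apply Valuation.map_sum_lt _ one_ne_zero
    intro i hi
    have hne : i ≠ i0 := (Finset.mem_erase.1 hi).1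
    have hipos : (i : ℕ) ≠ 0 := fun h0 => hne (Fin.ext h0)
    rw [map_mul, map_pow]
    calc V.valuation (algebraMap A L (a i)) * V.valuation ϖ ^ (i : ℕ)
        ≤ 1 * V.valuation ϖ ^ (i : ℕ) :=
          mul_le_mul_left ((V.valuation_le_one_iff _).2 (hV.1 _)) _
      _ = V.valuation ϖ ^ (i : ℕ) := one_mul _
      _ < 1 := pow_lt_one₀ zero_le hγ1 hipos

end CaseB

end Groth.Agent.Helper7.ASch
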