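import Mathlib
import Groth.Prelude.Def_EtRam
import Groth.Agent.Helper7.ASchG
import Groth.Agent.Helper7.ASchH

set_option autoImplicit false

/-!
# Artin–Schreier extensions of a DVR: reduction to the three normal forms and assembly
-/

namespace Groth.Agent.Helper7.ASch

open Polynomial IsLocalRing

universe u

/-- the disjunction of the four cases -/
def Cases (p : ℕ) (A K L : Type u) [CommRing A] [IsLocalRing A] [Field K] [Field L] [Algebra K L]
    [Algebra A L] : Prop :=
  Module.finrank K L = 1 ∨
    (EtRam.IsUnramifiedExt A (algebraMap A L) ∧ Module.finrank K L = p) ∨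
    (EtRam.IsTotallyRamified A (algebraMap A L) ∧ Module.finrank K L = p) ∨ Case4 p A L

section Assembly

variable (p : ℕ) [hp : Fact p.Prime] {A K L : Type u} [CommRing A] [IsDomain A]
  [IsDiscreteValuationRing A] [Field K] [Algebra A K] [IsFractionRing A K] [Field L] [Algebra K L]
  [Algebra A L] [IsScalarTower A K L] [CharP K p]
  (π : A) (hπ : maximalIdeal A = Ideal.span {π})

include hπ in
theorem thmA (ξ : K) (z : L) (hz : z ^ p - z = algebraMap K L ξ)
    (hgen : IntermediateField.adjoin K {z} = ⊤) (a : A) (hξ : algebraMap A K a = ξ) :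
    Module.finrank K L = 1 ∨
      (EtRam.IsUnramifiedExt A (algebraMap A L) ∧ Module.finrank K L = p) := by
  have hz' : z ^ p - z = algebraMap A L a := by
    rw [hz, ← hξ, ← IsScalarTower.algebraMap_apply]
  have unr := unramified_of_integral (K := K) p π hπ a z hz' hgen
  rcases finrank_eq_one_or p ξ z hz hgen with h | h
  · exact Or.inl h
  · exact Or.inr ⟨unr, h⟩

include hπ in
theorem thmC (ξ : K) (z : L) (hz : z ^ p - z = algebraMap K L ξ)
    (hgen : IntermediateField.adjoin K {z} = ⊤) (n : ℕ) (a : A) (hn0 : 0 < n) (hn : p ∣ n)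
    (ha : ∀ r : A, residue A a ≠ residue A r ^ p)
    (hξ : ξ * algebraMap A K π ^ n = algebraMap A K a) : Case4 p A L := by
  obtain ⟨m, rfl⟩ := hn
  have hm : 0 < m := Nat.pos_of_mul_pos_left hn0
  exact case4_of_pole (K := K) p π hπ ξ z hz hgen m hm a ha hξ

include hπ in
theorem exists_pole (ξ : K) : ∃ (N : ℕ) (a : A), ξ * algebraMap A K π ^ N = algebraMap A K a := by
  obtain ⟨a, b, hb, rfl⟩ := IsFractionRing.div_surjective (A := A) ξ
  have hb0 : b ≠ 0 := nonZeroDivisors.ne_zero hb
  obtain ⟨u, N, hu⟩ := exists_unit_mul_pow π hπ hb0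
  refine ⟨N, ((u⁻¹ : Aˣ) : A) * a, ?_⟩
  have hπK : algebraMap A K π ^ N ≠ 0 := by
    apply pow_ne_zero
    intro h0
    exact pi_ne_zero π hπ ((map_eq_zero_iff _ (IsFractionRing.injective A K)).1 h0)
  have huK : algebraMap A K (u : A) ≠ 0 := fun h0 =>
    u.ne_zero ((map_eq_zero_iff _ (IsFractionRing.injective A K)).1 h0)
  have h1 : algebraMap A K ((u⁻¹ : Aˣ) : A) * algebraMap A K (u : A) = 1 := by
    rw [← map_mul, Units.inv_mul, map_one]
  rw [hu, map_mul, map_mul, map_pow]
  have h2 : algebraMap A K a / (algebraMap A K (u : A) * algebraMap A K π ^ N) *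
      algebraMap A K π ^ N = algebraMap A K a / algebraMap A K (u : A) := by
    field_simp
  rw [h2, div_eq_iff huK, mul_assoc, mul_comm (algebraMap A K a), ← mul_assoc, h1, one_mul]

include hπ in
theorem cases_of_pole (N : ℕ) : ∀ (ξ : K) (z : L), z ^ p - z = algebraMap K L ξ →
    IntermediateField.adjoin K {z} = ⊤ →
    (∃ a : A, ξ * algebraMap A K π ^ N = algebraMap A K a) → Cases p A K L := by
  induction N with
  | zero =>
    intro ξ z hz hgen ⟨a, ha⟩
    rw [pow_zero, mul_one] at ha
    rcases thmA p π hπ ξ z hz hgen a ha.symm with h | h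
    · exact Or.inl h
    · exact Or.inr (Or.inl h)
  | succ N ih =>
    intro ξ z hz hgen ⟨a, ha⟩
    have hP0 : algebraMap A K π ≠ 0 := fun h0 =>
      pi_ne_zero π hπ ((map_eq_zero_iff _ (IsFractionRing.injective A K)).1 h0)
    by_cases hu : IsUnit a
    · obtain ⟨u, rfl⟩ := hu
      by_cases hdvd : p ∣ N + 1
      · by_cases hpow : ∃ r : A, residue A (u : A) = residue A r ^ p
        · -- lower the pole order by an Artin–Schreier substitution
          obtain ⟨r, hr⟩ := hpow
          obtain ⟨m, hm⟩ := hdvd
          have hm1 : 1 ≤ m := by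
            rcases Nat.eq_zero_or_pos m with h0 | h0
            · rw [h0, mul_zero] at hm; omega
            · exact h0
          have hNm : m ≤ N := by
            have h2 : 2 ≤ p := hp.out.two_le
            have : 2 * m ≤ p * m := Nat.mul_le_mul_right m h2
            omega
          obtain ⟨j, hj⟩ : ∃ j, N = m + j := ⟨N - m, by omega⟩
          have hmem : (u : A) - r ^ p ∈ maximalIdeal A := by
            rw [← residue_eq_zero_iff, map_sub, map_pow, hr, sub_self]
          rw [hπ, Ideal.mem_span_singleton] at hmem
          obtain ⟨c, hc⟩ := hmem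
          set P : K := algebraMap A K π with hP
          set η : K := algebraMap A K r / P ^ m with hη
          haveI := charP_L p (K := K) (L := L)
          have hz' : (z - algebraMap K L η) ^ p - (z - algebraMap K L η) =
              algebraMap K L (ξ - (η ^ p - η)) := by
            rw [sub_pow_char, map_sub, map_sub, map_pow, ← hz]
            ring
          have hgen' : IntermediateField.adjoin K {z - algebraMap K L η} = ⊤ := by
            rw [eq_top_iff, ← hgen, IntermediateField.adjoin_simple_le_iff]
            have h := add_mem (IntermediateField.mem_adjoin_simple_self K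
              (z - algebraMap K L η))
              (IntermediateField.algebraMap_mem
                (IntermediateField.adjoin K {z - algebraMap K L η}) η)
            rwa [sub_add_cancel] at h
          apply ih (ξ - (η ^ p - η)) (z - algebraMap K L η) hz' hgen'
          refine ⟨c + r * π ^ j, ?_⟩
          have hPm : P ^ m ≠ 0 := pow_ne_zero _ hP0
          have h0 : η * P ^ m = algebraMap A K r := div_mul_cancel₀ _ hPm
          have h1 : ξ * P ^ (N + 1) = algebraMap A K (u : A) := ha
          have h2 : η ^ p * P ^ (N + 1) = algebraMap A K r ^ p := by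
            rw [hm, mul_comm p m, pow_mul, ← mul_pow, h0]
          have h3 : η * P ^ (N + 1) = algebraMap A K r * P ^ (j + 1) := by
            rw [hj, add_assoc, pow_add, ← mul_assoc, h0]
          have h4 : algebraMap A K (u : A) = algebraMap A K r ^ p + P * algebraMap A K c := by
            have := congrArg (algebraMap A K) hc
            rw [map_sub, map_mul, map_pow] at this
            rw [hP]
            linear_combination this
          apply mul_right_cancel₀ hP0
          rw [map_add, map_mul, map_pow, ← hP]
          have e1 : P ^ N * P = P ^ (N + 1) := (pow_succ P N).symm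
          have e2 : P ^ j * P = P ^ (j + 1) := (pow_succ P j).symm
          calc (ξ - (η ^ p - η)) * P ^ N * P
              = ξ * P ^ (N + 1) - η ^ p * P ^ (N + 1) + η * P ^ (N + 1) := by
                rw [mul_assoc, e1]; ring
            _ = (algebraMap A K c + algebraMap A K r * P ^ j) * P := by
                rw [h1, h2, h3, h4, add_mul, mul_assoc, e2]; ring
        · push Not at hpow
          exact Or.inr (Or.inr (Or.inr
            (thmC p π hπ ξ z hz hgen (N + 1) u (Nat.succ_pos N) hdvd hpow ha)))
      · exact Or.inr (Or.inr (Or.inl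
          (case3_of_pole (K := K) p π hπ ξ z hz hgen (N + 1) (Nat.succ_pos N) hdvd u ha)))
    · have hmem : a ∈ maximalIdeal A := hu
      rw [hπ, Ideal.mem_span_singleton] at hmem
      obtain ⟨a', rfl⟩ := hmem
      apply ih ξ z hz hgen
      refine ⟨a', ?_⟩
      apply mul_right_cancel₀ hP0
      rw [mul_assoc, ← pow_succ, ha, map_mul]
      ring

include hπ in
theorem cases_all (ξ : K) (z : L) (hz : z ^ p - z = algebraMap K L ξ)
    (hgen : IntermediateField.adjoin K {z} = ⊤) : Cases p A K L := by
  obtain ⟨N, a, ha⟩ := exists_pole π hπ ξ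
  exact cases_of_pole p π hπ N ξ z hz hgen ⟨a, ha⟩

end Assembly

end Groth.Agent.Helper7.ASch
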