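import Mathlib

/-!
# Highest weight theory for the adjoint representation of a simple Lie algebra with a basis
-/

namespace Groth.Agent.Helper7.AdjVar

open LieAlgebra LieModule Module

universe u v w

variable {ι : Type u} {K : Type v} {L : Type w} [Fintype ι] [Field K] [CharZero K]
  [LieRing L] [LieAlgebra K L] [FiniteDimensional K L]
  {H : LieSubalgebra K L} [H.IsCartanSubalgebra] (b : LieAlgebra.Basis ι H)

/-- iterated lowering of a vector -/
def lower (v : L) : List ι → L
  | [] => v
  | i :: l => ⁅b.f i, lower v l⁆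

/-- the weight of an iterated lowering -/
noncomputable def wt (χ : H → K) (l : List ι) : H → K := χ - (l.map (fun i => (b.baseSupp i : H → K))).sum

theorem f_mem_rootSpace (i : ι) : b.f i ∈ rootSpace H (-(b.baseSupp i : H → K)) :=
  (mem_genWeightSpace _ _ _).mpr fun ⟨z, hz⟩ ↦ ⟨1, by simp [← eq_neg_iff_add_eq_zero]⟩

theorem e_mem_rootSpace (i : ι) : b.e i ∈ rootSpace H (b.baseSupp i : H → K) :=
  (mem_genWeightSpace _ _ _).mpr fun ⟨z, hz⟩ ↦ ⟨1, by simp⟩

theorem lower_mem {χ : H → K} {v : L} (hv : v ∈ rootSpace H χ) (l : List ι) :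
    lower b v l ∈ rootSpace H (wt b χ l) := by
  induction l with
  | nil => simpa [lower, wt] using hv
  | cons i l ih =>
    have := lie_mem_genWeightSpace_of_mem_genWeightSpace (f_mem_rootSpace b i) ih
    have h2 : -(b.baseSupp i : H → K) + wt b χ l = wt b χ (i :: l) := by
      simp only [wt, List.map_cons, List.sum_cons]
      abel
    rw [h2] at this
    exact this

section HW

variable [IsKilling K L] [IsTriangularizable K H L]

/-- the span of the iterated lowerings of `v` -/
def lowSpan (v : L) : Submodule K L := Submodule.span K (Set.range (lower b v))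

theorem f_lie_mem_lowSpan (v : L) (i : ι) {y : L} (hy : y ∈ lowSpan b v) :
    ⁅b.f i, y⁆ ∈ lowSpan b v := by
  induction hy using Submodule.span_induction with
  | mem y hy =>
    obtain ⟨l, rfl⟩ := hy
    exact Submodule.subset_span ⟨i :: l, rfl⟩
  | zero => simp
  | add x y _ _ hx hy => rw [lie_add]; exact add_mem hx hy
  | smul c x _ hx => rw [lie_smul]; exact Submodule.smul_mem _ c hx

theorem cartan_lie_mem_lowSpan {χ : H → K} {v : L} (hv : v ∈ rootSpace H χ) (h : H) {y : L}
    (hy : y ∈ lowSpan b v) : ⁅(h : L), y⁆ ∈ lowSpan b v := by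
  induction hy using Submodule.span_induction with
  | mem y hy =>
    obtain ⟨l, rfl⟩ := hy
    have := IsKilling.lie_eq_smul_of_mem_rootSpace (lower_mem b hv l) h
    rw [← H.coe_bracket_of_module, this]
    exact Submodule.smul_mem _ _ (Submodule.subset_span ⟨l, rfl⟩)
  | zero => simp
  | add x y _ _ hx hy => rw [lie_add]; exact add_mem hx hy
  | smul c x _ hx => rw [lie_smul]; exact Submodule.smul_mem _ c hx

theorem e_lie_lower_mem {χ : H → K} {v : L} (hv : v ∈ rootSpace H χ)
    (hev : ∀ i, ⁅b.e i, v⁆ = 0) (i : ι) (l : List ι) : ⁅b.e i, lower b v l⁆ ∈ lowSpan b v := by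
  induction l with
  | nil => simp [lower, hev i]
  | cons j l ih =>
    rw [lower, leibniz_lie]
    refine add_mem ?_ (f_lie_mem_lowSpan b v j ih)
    by_cases hij : i = j
    · subst hij
      rw [(b.sl2 i).lie_e_f]
      exact cartan_lie_mem_lowSpan b hv (b.h' i) (Submodule.subset_span ⟨l, rfl⟩)
    · rw [b.lie_e_f_ne i j hij, zero_lie]
      exact zero_mem _

theorem e_lie_mem_lowSpan {χ : H → K} {v : L} (hv : v ∈ rootSpace H χ)
    (hev : ∀ i, ⁅b.e i, v⁆ = 0) (i : ι) {y : L} (hy : y ∈ lowSpan b v) :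
    ⁅b.e i, y⁆ ∈ lowSpan b v := by
  induction hy using Submodule.span_induction with
  | mem y hy =>
    obtain ⟨l, rfl⟩ := hy
    exact e_lie_lower_mem b hv hev i l
  | zero => simp
  | add x y _ _ hx hy => rw [lie_add]; exact add_mem hx hy
  | smul c x _ hx => rw [lie_smul]; exact Submodule.smul_mem _ c hx

/-- the stabiliser of a subspace, as a Lie subalgebra -/
def stab (T : Submodule K L) : LieSubalgebra K L where
  carrier := {x | ∀ y ∈ T, ⁅x, y⁆ ∈ T}
  add_mem' := by
    intro x x' hx hx' y hy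
    rw [add_lie]
    exact add_mem (hx y hy) (hx' y hy)
  zero_mem' := by
    intro y _
    simp
  smul_mem' := by
    intro c x hx y hy
    rw [smul_lie]
    exact Submodule.smul_mem _ c (hx y hy)
  lie_mem' := by
    intro x x' hx hx' y hy
    rw [lie_lie]
    exact sub_mem (hx _ (hx' y hy)) (hx' _ (hx y hy))

theorem mem_stab {T : Submodule K L} {x : L} : x ∈ stab T ↔ ∀ y ∈ T, ⁅x, y⁆ ∈ T := Iff.rfl

theorem stab_lowSpan_eq_top {χ : H → K} {v : L} (hv : v ∈ rootSpace H χ)
    (hev : ∀ i, ⁅b.e i, v⁆ = 0) : stab (lowSpan b v) = ⊤ := by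
  rw [eq_top_iff, ← b.span_ef, LieSubalgebra.lieSpan_le]
  rintro x (⟨i, rfl⟩ | ⟨i, rfl⟩)
  · exact fun y hy => e_lie_mem_lowSpan b hv hev i hy
  · exact fun y hy => f_lie_mem_lowSpan b v i hy

end HW

section Simple

variable [IsKilling K L] [IsTriangularizable K H L] [LieAlgebra.IsSimple K L]

theorem lowSpan_eq_top {χ : H → K} {v : L} (hv : v ∈ rootSpace H χ) (hv0 : v ≠ 0)
    (hev : ∀ i, ⁅b.e i, v⁆ = 0) : lowSpan b v = ⊤ := by
  have hstab := stab_lowSpan_eq_top b hv hev
  let I : LieIdeal K L :=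
    { toSubmodule := lowSpan b v
      lie_mem := fun {x y} hy => by
        have hx : x ∈ stab (lowSpan b v) := by rw [hstab]; trivial
        exact hx y hy }
  have hvI : v ∈ I := Submodule.subset_span ⟨[], rfl⟩
  rcases LieAlgebra.IsSimple.eq_bot_or_eq_top I with h | h
  · rw [h, LieSubmodule.mem_bot] at hvI
    exact absurd hvI hv0
  · have : (I : Submodule K L) = ⊤ := by rw [h]; rfl
    exact this

/-- **every weight of the adjoint representation lies below a highest weight** -/
theorem exists_list_of_rootSpace_ne_bot {χ : H → K} {v : L} (hv : v ∈ rootSpace H χ)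
    (hv0 : v ≠ 0) (hev : ∀ i, ⁅b.e i, v⁆ = 0) (μ : H → K) (hμ : rootSpace H μ ≠ ⊥) :
    ∃ l : List ι, μ = wt b χ l := by
  have hs : ⨆ ν ∈ Set.range (wt b χ), rootSpace H ν = ⊤ := by
    rw [eq_top_iff, ← LieSubmodule.toSubmodule_le_toSubmodule, LieSubmodule.top_toSubmodule,
      ← lowSpan_eq_top b hv hv0 hev, lowSpan, Submodule.span_le]
    rintro y ⟨l, rfl⟩
    exact LieSubmodule.mem_iSup_of_mem (wt b χ l)
      (LieSubmodule.mem_iSup_of_mem ⟨l, rfl⟩ (lower_mem b hv l))
  obtain ⟨l, hl⟩ := (iSupIndep_genWeightSpace K H L).mem_of_biSup_eq_top hs hμ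
  exact ⟨l, hl.symm⟩

end Simple

section Coef

/-- integral combinations of the simple roots -/
noncomputable def zwt (z : ι → ℤ) : H → K := fun h => ∑ i, (z i : K) * b.baseSupp i h

theorem zwt_add (z z' : ι → ℤ) : zwt b (z + z') = zwt b z + zwt b z' := by
  funext h
  simp only [zwt, Pi.add_apply, Int.cast_add, add_mul, Finset.sum_add_distrib]

theorem zwt_zero : zwt b (0 : ι → ℤ) = 0 := by
  funext h
  simp [zwt]

theorem zwt_single [DecidableEq ι] (i : ι) : zwt b (Pi.single i 1) = (b.baseSupp i : H → K) := by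
  funext h
  simp only [zwt]
  rw [Finset.sum_eq_single i]
  · simp
  · intro j _ hji
    simp [Pi.single_eq_of_ne hji]
  · intro hi
    exact absurd (Finset.mem_univ i) hi

theorem zwt_injective : Function.Injective (zwt b : (ι → ℤ) → H → K) := by
  intro z z' hzz
  have hli := b.linearIndependent_baseSupp
  rw [Fintype.linearIndependent_iff] at hli
  have h0 : ∑ i, ((z i - z' i : ℤ) : K) • b.baseSupp i = 0 := by
    apply LinearMap.ext
    intro h
    have := congrFun hzz h
    simp only [zwt] at this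
    simp only [LinearMap.coe_sum, Finset.sum_apply, LinearMap.smul_apply, smul_eq_mul,
      LinearMap.zero_apply, Int.cast_sub, sub_mul, Finset.sum_sub_distrib, this, sub_self]
  funext i
  have := hli (fun i => ((z i - z' i : ℤ) : K)) h0 i
  have h1 : z i - z' i = 0 := by exact_mod_cast this
  omega

theorem wt_eq [DecidableEq ι] (χ : H → K) (l : List ι) :
    wt b χ l = χ - zwt b (fun i => (l.count i : ℤ)) := by
  induction l with
  | nil =>
    simp only [wt, List.map_nil, List.sum_nil, sub_zero, List.count_nil, Nat.cast_zero]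
    have : (fun _ : ι => (0 : ℤ)) = 0 := rfl
    rw [this, zwt_zero, sub_zero]
  | cons j l ih =>
    have h1 : wt b χ (j :: l) = wt b χ l - (b.baseSupp j : H → K) := by
      simp only [wt, List.map_cons, List.sum_cons]
      abel
    have h2 : (fun i => ((j :: l).count i : ℤ)) = (fun i => (l.count i : ℤ)) + Pi.single j 1 := by
      funext i
      by_cases hij : j = i
      · subst hij
        simp
      · simp [List.count_cons_of_ne hij, Pi.single_eq_of_ne (Ne.symm hij)]
    rw [h1, ih, h2, zwt_add, zwt_single]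
    abel

end Coef

section Simple2

variable [IsKilling K L] [IsTriangularizable K H L] [LieAlgebra.IsSimple K L]

theorem exists_nat_of_rootSpace_ne_bot {χ : H → K} {v : L} (hv : v ∈ rootSpace H χ)
    (hv0 : v ≠ 0) (hev : ∀ i, ⁅b.e i, v⁆ = 0) (μ : H → K) (hμ : rootSpace H μ ≠ ⊥) :
    ∃ n : ι → ℕ, μ = χ - zwt b (fun i => (n i : ℤ)) := by
  classical
  obtain ⟨l, hl⟩ := exists_list_of_rootSpace_ne_bot b hv hv0 hev μ hμ
  exact ⟨fun i => l.count i, by rw [hl, wt_eq]⟩

/-- two highest weight vectors have the same weight -/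
theorem weight_eq_of_highest {χ χ' : H → K} {v v' : L} (hv : v ∈ rootSpace H χ) (hv0 : v ≠ 0)
    (hev : ∀ i, ⁅b.e i, v⁆ = 0) (hv' : v' ∈ rootSpace H χ') (hv0' : v' ≠ 0)
    (hev' : ∀ i, ⁅b.e i, v'⁆ = 0) : χ' = χ := by
  have h1 : rootSpace H χ ≠ ⊥ := by
    intro h; rw [h, LieSubmodule.mem_bot] at hv; exact hv0 hv
  have h2 : rootSpace H χ' ≠ ⊥ := by
    intro h; rw [h, LieSubmodule.mem_bot] at hv'; exact hv0' hv'
  obtain ⟨n, hn⟩ := exists_nat_of_rootSpace_ne_bot b hv hv0 hev χ' h2
  obtain ⟨n', hn'⟩ := exists_nat_of_rootSpace_ne_bot b hv' hv0' hev' χ h1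
  have h3 : zwt b ((fun i => (n i : ℤ)) + fun i => (n' i : ℤ)) = zwt b 0 := by
    rw [zwt_add, zwt_zero]
    have : χ = χ - zwt b (fun i => (n i : ℤ)) - zwt b (fun i => (n' i : ℤ)) := by
      rw [← hn]; exact hn'
    have h4 : χ - (zwt b (fun i => (n i : ℤ)) + zwt b (fun i => (n' i : ℤ))) = χ - 0 := by
      rw [sub_zero, ← sub_sub]; exact this.symm
    exact sub_right_injective h4
  have h5 := zwt_injective b h3
  have h6 : ∀ i, n i = 0 := by
    intro i
    have := congrFun h5 i
    simp only [Pi.add_apply, Pi.zero_apply] at this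
    omega
  rw [hn]
  have : (fun i => (n i : ℤ)) = 0 := by
    funext i; simp [h6 i]
  rw [this, zwt_zero, sub_zero]

end Simple2

end Groth.Agent.Helper7.AdjVar
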