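import Mathlib
import Groth.Agent.Helper7.AdjVarA

/-!
# The highest root of a simple Lie algebra: chains through the highest root
-/

namespace Groth.Agent.Helper7.AdjVar

open LieAlgebra LieModule Module

universe u v w

variable {ι : Type u} {K : Type v} {L : Type w} [Fintype ι] [Field K] [CharZero K]
  [LieRing L] [LieAlgebra K L] [FiniteDimensional K L]
  {H : LieSubalgebra K L} [H.IsCartanSubalgebra] (b : LieAlgebra.Basis ι H)
  [IsKilling K L] [IsTriangularizable K H L]

/-- the simple root `α_i` as a weight -/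
noncomputable def sroot (i : ι) : Weight K H L := ((b.baseSupp' i : H.root) : Weight K H L)

theorem coe_sroot (i : ι) : (sroot b i : H → K) = (b.baseSupp i : H → K) := rfl

theorem sroot_isNonZero (i : ι) : (sroot b i).IsNonZero :=
  LieSubalgebra.isNonZero_coe_root (b.baseSupp' i)

theorem coroot_sroot (i : ι) : IsKilling.coroot (sroot b i) = b.h' i := b.coroot_eq_h' i

section Top

variable (ρ : Module.Dual K H) (hρ : rootSpace H ρ ≠ ⊥)
  (htop : ∀ i, rootSpace H (ρ + b.baseSupp i) = ⊥)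

/-- `ρ` as a weight -/
def rhoW : Weight K H L := ⟨ρ, hρ⟩

theorem coe_rhoW : (rhoW ρ hρ : H → K) = (ρ : H → K) := rfl

include htop in
theorem chainTopCoeff_eq_zero (i : ι) : chainTopCoeff (sroot b i) (rhoW ρ hρ) = 0 := by
  have h := (IsKilling.rootSpace_zsmul_add_ne_bot_iff (sroot b i) (rhoW ρ hρ)
    (sroot_isNonZero b i) 1).not
  have h1 : ((1 : ℤ) • (sroot b i : H → K) + (rhoW ρ hρ : H → K)) =
      (ρ : H → K) + (b.baseSupp i : H → K) := by
    funext x
    simp [coe_sroot, coe_rhoW, add_comm]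
  rw [h1] at h
  have h2 := h.mp (by rw [not_not]; exact htop i)
  by_contra hne
  apply h2
  constructor
  · have : 1 ≤ chainTopCoeff (sroot b i : H → K) (rhoW ρ hρ) := Nat.one_le_iff_ne_zero.mpr hne
    exact_mod_cast this
  · have : (0 : ℤ) ≤ (chainBotCoeff (sroot b i : H → K) (rhoW ρ hρ) : ℤ) := Nat.cast_nonneg _
    omega

include htop in
theorem rho_apply_h' (i : ι) :
    ρ (b.h' i) = (chainBotCoeff (sroot b i : H → K) (rhoW ρ hρ) : K) := by
  have h := IsKilling.apply_coroot_eq_cast (sroot b i) (rhoW ρ hρ)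
  rw [coroot_sroot, chainTopCoeff_eq_zero b ρ hρ htop i] at h
  simp only [Nat.cast_zero, sub_zero, Int.cast_natCast] at h
  exact h

include hρ htop in
/-- `ρ - α_i` is a weight iff `ρ(h_i) ≠ 0` -/
theorem rootSpace_sub_ne_bot_iff (i : ι) :
    rootSpace H (ρ - b.baseSupp i) ≠ ⊥ ↔ ρ (b.h' i) ≠ 0 := by
  have h := IsKilling.rootSpace_zsmul_add_ne_bot_iff (sroot b i) (rhoW ρ hρ)
    (sroot_isNonZero b i) (-1)
  have h1 : ((-1 : ℤ) • (sroot b i : H → K) + (rhoW ρ hρ : H → K)) =
      (ρ : H → K) - (b.baseSupp i : H → K) := by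
    funext x
    simp [coe_sroot, coe_rhoW, sub_eq_neg_add]
  rw [h1] at h
  rw [h, rho_apply_h' b ρ hρ htop i, chainTopCoeff_eq_zero b ρ hρ htop i]
  simp only [Nat.cast_zero, neg_neg]
  constructor
  · rintro ⟨-, h2⟩
    have : chainBotCoeff (sroot b i : H → K) (rhoW ρ hρ) ≠ 0 := by
      intro h0; rw [h0] at h2; simp at h2
    exact_mod_cast this
  · intro h2
    refine ⟨by omega, ?_⟩
    have : chainBotCoeff (sroot b i : H → K) (rhoW ρ hρ) ≠ 0 := by
      intro h0; apply h2; rw [h0]; simp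
    have := Nat.one_le_iff_ne_zero.mpr this
    exact_mod_cast this

end Top

section High

variable [LieAlgebra.IsSimple K L] (ρ : Module.Dual K H) (hρ : rootSpace H ρ ≠ ⊥)
  (htop : ∀ i, rootSpace H (ρ + b.baseSupp i) = ⊥)

include hρ htop in
omit [LieAlgebra.IsSimple K L] [IsKilling K L] [IsTriangularizable K H L] in
theorem exists_highest_vector : ∃ v ∈ rootSpace H ρ, v ≠ 0 ∧ ∀ i, ⁅b.e i, v⁆ = 0 := by
  obtain ⟨v, hv, hv0⟩ : ∃ v ∈ rootSpace H ρ, v ≠ 0 := by
    by_contra hcon
    push Not at hcon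
    exact hρ ((LieSubmodule.eq_bot_iff _).mpr hcon)
  refine ⟨v, hv, hv0, fun i => ?_⟩
  have h1 := lie_mem_genWeightSpace_of_mem_genWeightSpace (e_mem_rootSpace b i) hv
  have h2 : ⁅b.e i, v⁆ ∈ rootSpace H (ρ + b.baseSupp i) := by
    rw [add_comm] at h1; exact h1
  rw [htop i, LieSubmodule.mem_bot] at h2
  exact h2

include hρ htop in
theorem weights_below (μ : H → K) (hμ : rootSpace H μ ≠ ⊥) :
    ∃ n : ι → ℕ, μ = ρ - zwt b (fun i => (n i : ℤ)) := by
  obtain ⟨v, hv, hv0, hev⟩ := exists_highest_vector b ρ hρ htop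
  exact exists_nat_of_rootSpace_ne_bot b hv hv0 hev μ hμ

include hρ in
omit [LieAlgebra.IsSimple K L] in
theorem rootSpace_eq_span (hρ0 : ρ ≠ 0) {v : L} (hv : v ∈ rootSpace H ρ) (hv0 : v ≠ 0) :
    ((rootSpace H ρ : LieSubmodule K H L) : Submodule K L) = Submodule.span K {v} := by
  have hnz : (rhoW ρ hρ).IsNonZero := by
    intro hz
    apply hρ0
    apply LinearMap.ext
    intro x
    have := congrFun hz x
    exact this
  have h1 := IsKilling.finrank_rootSpace_eq_one (rhoW ρ hρ) hnz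
  have h2 := (finrank_eq_one_iff_of_nonzero' (⟨v, hv⟩ : rootSpace H ρ)
    (by simpa [Subtype.ext_iff] using hv0)).mp h1
  apply le_antisymm
  · intro w hw
    obtain ⟨c, hc⟩ := h2 ⟨w, hw⟩
    have : c • v = w := congrArg Subtype.val hc
    rw [← this]
    exact Submodule.smul_mem _ c (Submodule.mem_span_singleton_self v)
  · rw [Submodule.span_singleton_le_iff_mem]
    exact hv

include hρ htop in
/-- a `𝔫⁺`-stable subspace containing a nonzero weight vector contains the highest root space -/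
theorem rootSpace_rho_le (hρ0 : ρ ≠ 0) (W : Submodule K L) (hE : ∀ i, ∀ w ∈ W, ⁅b.e i, w⁆ ∈ W)
    (μ : H → K) (w : L) (hwW : w ∈ W) (hwμ : w ∈ rootSpace H μ) (hw0 : w ≠ 0) :
    ((rootSpace H ρ : LieSubmodule K H L) : Submodule K L) ≤ W := by
  classical
  have hμ : rootSpace H μ ≠ ⊥ := by
    intro h; rw [h, LieSubmodule.mem_bot] at hwμ; exact hw0 hwμ
  obtain ⟨n, hn⟩ := weights_below b ρ hρ htop μ hμ
  obtain ⟨m, hm⟩ : ∃ m, ∑ i, n i = m := ⟨_, rfl⟩
  induction m generalizing μ w n with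
  | zero =>
    have hn0 : ∀ i, n i = 0 := fun i => by
      have := Finset.sum_eq_zero_iff.mp hm i (Finset.mem_univ i)
      exact this
    have : (fun i => (n i : ℤ)) = 0 := by funext i; simp [hn0 i]
    rw [this, zwt_zero, sub_zero] at hn
    subst hn
    rw [rootSpace_eq_span ρ hρ hρ0 hwμ hw0, Submodule.span_singleton_le_iff_mem]
    exact hwW
  | succ m ih =>
    by_cases hall : ∀ i, ⁅b.e i, w⁆ = 0
    · obtain ⟨v, hv, hv0, hev⟩ := exists_highest_vector b ρ hρ htop
      have := weight_eq_of_highest b hv hv0 hev hwμ hw0 hall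
      subst this
      rw [rootSpace_eq_span ρ hρ hρ0 hwμ hw0, Submodule.span_singleton_le_iff_mem]
      exact hwW
    · push Not at hall
      obtain ⟨i, hi⟩ := hall
      have h1 : ⁅b.e i, w⁆ ∈ rootSpace H ((b.baseSupp i : H → K) + μ) :=
        lie_mem_genWeightSpace_of_mem_genWeightSpace (e_mem_rootSpace b i) hwμ
      have hμ' : rootSpace H ((b.baseSupp i : H → K) + μ) ≠ ⊥ := by
        intro h; rw [h, LieSubmodule.mem_bot] at h1; exact hi h1
      obtain ⟨n', hn'⟩ := weights_below b ρ hρ htop _ hμ'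
      have h2 : zwt b (fun i => (n i : ℤ)) = zwt b ((fun i => (n' i : ℤ)) + Pi.single i 1) := by
        rw [zwt_add, zwt_single]
        have h3 : (b.baseSupp i : H → K) + ((ρ : H → K) - zwt b (fun i => (n i : ℤ))) =
            (ρ : H → K) - zwt b (fun i => (n' i : ℤ)) := by rw [← hn]; exact hn'
        have h4 : zwt b (fun i => (n i : ℤ)) = (b.baseSupp i : H → K) + (ρ : H → K) -
            ((ρ : H → K) - zwt b (fun i => (n' i : ℤ))) := by
          rw [← h3]; abel
        rw [h4]; abel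
      have h5 := zwt_injective b h2
      have h6 : ∑ k, n' k = m := by
        have h7 : ∀ k, (n k : ℤ) = (n' k : ℤ) + (Pi.single i 1 : ι → ℤ) k := fun k => congrFun h5 k
        have h8 : ∑ k, (n k : ℤ) = ∑ k, (n' k : ℤ) + 1 := by
          rw [Finset.sum_congr rfl (fun k _ => h7 k), Finset.sum_add_distrib]
          simp
        have h9 : ((∑ k, n k : ℕ) : ℤ) = ((∑ k, n' k : ℕ) : ℤ) + 1 := by
          push_cast; exact h8
        omega
      exact ih _ _ (hE i w hwW) h1 hi hμ' n' hn' h6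

end High

end Groth.Agent.Helper7.AdjVar
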