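import Mathlib
import Groth.Agent.Helper7.AdjVarB

/-!
# Borel-stable lines in the adjoint variety
-/

namespace Groth.Agent.Helper7.AdjVar

open LieAlgebra LieModule Module

universe u v w

variable {ι : Type u} {K : Type v} {L : Type w} [Fintype ι] [Field K] [CharZero K]
  [LieRing L] [LieAlgebra K L] [FiniteDimensional K L]
  {H : LieSubalgebra K L} [H.IsCartanSubalgebra] (b : LieAlgebra.Basis ι H)
  [IsKilling K L] [IsTriangularizable K H L]

omit [Fintype ι] in
/-- a one-dimensional weight space is spanned by any nonzero vector -/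
theorem rootSpace_eq_span' (χ : H → K) (hχ0 : χ ≠ 0) {v : L} (hv : v ∈ rootSpace H χ)
    (hv0 : v ≠ 0) :
    ((rootSpace H χ : LieSubmodule K H L) : Submodule K L) = Submodule.span K {v} := by
  have hχ : rootSpace H χ ≠ ⊥ := by
    intro h; rw [h, LieSubmodule.mem_bot] at hv; exact hv0 hv
  have hnz : (⟨χ, hχ⟩ : Weight K H L).IsNonZero := fun hz => hχ0 hz
  have h1 := IsKilling.finrank_rootSpace_eq_one (⟨χ, hχ⟩ : Weight K H L) hnz
  have h2 := (finrank_eq_one_iff_of_nonzero' (⟨v, hv⟩ : rootSpace H χ)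
    (by simpa [Subtype.ext_iff] using hv0)).mp h1
  apply le_antisymm
  · intro w hw
    obtain ⟨c, hc⟩ := h2 ⟨w, hw⟩
    have : c • v = w := congrArg Subtype.val hc
    rw [← this]
    exact Submodule.smul_mem _ c (Submodule.mem_span_singleton_self v)
  · rw [Submodule.span_singleton_le_iff_mem]
    exact hv

omit [Fintype ι] [CharZero K] [FiniteDimensional K L] [IsKilling K L]
  [IsTriangularizable K H L] in
/-- an element of a weight space lying in the sum of two other weight spaces vanishes -/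
theorem eq_zero_of_mem_sup {ν χ₁ χ₂ : H → K} (h1 : ν ≠ χ₁) (h2 : ν ≠ χ₂) {x : L}
    (hx : x ∈ rootSpace H ν) (hx' : x ∈ rootSpace H χ₁ ⊔ rootSpace H χ₂) : x = 0 := by
  have hind := iSupIndep_genWeightSpace K H L
  have hdis : Disjoint (rootSpace H ν) (rootSpace H χ₁ ⊔ rootSpace H χ₂) := by
    refine (hind ν).mono_right (sup_le ?_ ?_)
    · exact le_iSup₂_of_le χ₁ (Ne.symm h1) le_rfl
    · exact le_iSup₂_of_le χ₂ (Ne.symm h2) le_rfl
  have := disjoint_iff.mp hdis
  have hmem : x ∈ rootSpace H ν ⊓ (rootSpace H χ₁ ⊔ rootSpace H χ₂) := ⟨hx, hx'⟩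
  rw [this, LieSubmodule.mem_bot] at hmem
  exact hmem

section Data

variable [LieAlgebra.IsSimple K L] (ρ : Module.Dual K H) (hρ : rootSpace H ρ ≠ ⊥)
  (htop : ∀ i, rootSpace H (ρ + b.baseSupp i) = ⊥)
  (j : ι) (hN : ∀ i, ρ (b.h' i) ≠ 0 ↔ i = j) (hj : ρ (b.h' j) = 1)

include hj in
omit [IsKilling K L] [IsTriangularizable K H L] [LieAlgebra.IsSimple K L]
  [FiniteDimensional K L] [CharZero K] in
theorem rho_ne_zero : ρ ≠ 0 := by
  intro h
  rw [h, LinearMap.zero_apply] at hj
  exact zero_ne_one hj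

include hj in
omit [IsKilling K L] [IsTriangularizable K H L] [LieAlgebra.IsSimple K L] in
theorem rho_sub_ne_zero : ((ρ : H → K) - (b.baseSupp j : H → K)) ≠ 0 := by
  intro h
  have h1 := congrFun h (b.h' j)
  haveI : IsAddTorsionFree L := .of_isTorsionFree K L
  simp only [Pi.sub_apply, Pi.zero_apply, hj, b.baseSupp_apply_h', b.A_diag_eq_two] at h1
  norm_num at h1

include hρ htop hN in
/-- `ρ - α_j` is a root -/
theorem rootSpace_sub_ne_bot : rootSpace H (ρ - b.baseSupp j) ≠ ⊥ :=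
  (rootSpace_sub_ne_bot_iff b ρ hρ htop j).mpr ((hN j).mpr rfl)

include hρ htop in
/-- `ρ - α_j + α_i` is not a weight for `i ≠ j` -/
theorem rootSpace_add_sub_eq_bot (i : ι) (hij : i ≠ j) :
    rootSpace H ((b.baseSupp i : H → K) + ((ρ : H → K) - (b.baseSupp j : H → K))) = ⊥ := by
  classical
  by_contra hne
  obtain ⟨n, hn⟩ := weights_below b ρ hρ htop _ hne
  have h1 : zwt b (fun k => (n k : ℤ)) = zwt b (Pi.single j 1 - Pi.single i 1) := by
    have h2 : zwt b (Pi.single j 1 - Pi.single i 1) + zwt b (Pi.single i 1) =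
        zwt b (Pi.single j 1) := by
      rw [← zwt_add]; congr 1; abel
    rw [zwt_single, zwt_single] at h2
    have h3 : zwt b (fun k => (n k : ℤ)) = (ρ : H → K) -
        ((b.baseSupp i : H → K) + ((ρ : H → K) - (b.baseSupp j : H → K))) := by
      rw [hn]; abel
    rw [h3, ← h2]; abel
  have h4 := congrFun (zwt_injective b h1) i
  simp only [Pi.sub_apply, Pi.single_eq_same, Pi.single_eq_of_ne hij] at h4
  omega

end Data

section Back

variable [LieAlgebra.IsSimple K L] (ρ : Module.Dual K H) (hρ : rootSpace H ρ ≠ ⊥)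
  (htop : ∀ i, rootSpace H (ρ + b.baseSupp i) = ⊥)
  (j : ι) (hN : ∀ i, ρ (b.h' i) ≠ 0 ↔ i = j) (hj : ρ (b.h' j) = 1)

/-- the Borel-stable line -/
noncomputable def Wline : Submodule K L :=
  (rootSpace H ρ : Submodule K L) ⊔ (rootSpace H (ρ - b.baseSupp j) : Submodule K L)

include hρ htop in
theorem e_lie_mem_Wline (i : ι) {w : L} (hw : w ∈ Wline b ρ j) : ⁅b.e i, w⁆ ∈ Wline b ρ j := by
  obtain ⟨w₁, hw₁, w₂, hw₂, rfl⟩ := Submodule.mem_sup.mp hw
  rw [lie_add]
  refine add_mem ?_ ?_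
  · have h1 := lie_mem_genWeightSpace_of_mem_genWeightSpace (e_mem_rootSpace b i) hw₁
    have h2 : ⁅b.e i, w₁⁆ ∈ rootSpace H (ρ + b.baseSupp i) := by
      rw [add_comm] at h1; exact h1
    rw [htop i, LieSubmodule.mem_bot] at h2
    rw [h2]; exact zero_mem _
  · have h1 : ⁅b.e i, w₂⁆ ∈ rootSpace H ((b.baseSupp i : H → K) +
        ((ρ : H → K) - (b.baseSupp j : H → K))) :=
      lie_mem_genWeightSpace_of_mem_genWeightSpace (e_mem_rootSpace b i) hw₂
    by_cases hij : i = j
    · subst hij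
      have h3 : (b.baseSupp i : H → K) + ((ρ : H → K) - (b.baseSupp i : H → K)) = ρ := by abel
      rw [h3] at h1
      exact Submodule.mem_sup_left h1
    · rw [rootSpace_add_sub_eq_bot b ρ hρ htop j i hij, LieSubmodule.mem_bot] at h1
      rw [h1]; exact zero_mem _

omit [IsKilling K L] [IsTriangularizable K H L] [LieAlgebra.IsSimple K L]
  [CharZero K] [FiniteDimensional K L] in
theorem cartan_lie_mem_Wline {x : L} (hx : x ∈ H) {w : L} (hw : w ∈ Wline b ρ j) :
    ⁅x, w⁆ ∈ Wline b ρ j := by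
  obtain ⟨w₁, hw₁, w₂, hw₂, rfl⟩ := Submodule.mem_sup.mp hw
  rw [lie_add]
  refine add_mem (Submodule.mem_sup_left ?_) (Submodule.mem_sup_right ?_)
  · exact (rootSpace H ρ).lie_mem (x := ⟨x, hx⟩) hw₁
  · exact (rootSpace H (ρ - b.baseSupp j)).lie_mem (x := ⟨x, hx⟩) hw₂

include hρ htop in
theorem borel_lie_mem_Wline {x : L}
    (hx : x ∈ H.toSubmodule ⊔ (b.borelUpper : Submodule K L)) {w : L} (hw : w ∈ Wline b ρ j) :
    ⁅x, w⁆ ∈ Wline b ρ j := by
  obtain ⟨h, hh, u, hu, rfl⟩ := Submodule.mem_sup.mp hx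
  rw [add_lie]
  refine add_mem (cartan_lie_mem_Wline b ρ j hh hw) ?_
  have hu' : u ∈ LieSubalgebra.lieSpan K L (Set.range b.e) := by
    simpa [LieAlgebra.Basis.borelUpper] using hu
  have hle : LieSubalgebra.lieSpan K L (Set.range b.e) ≤ stab (Wline b ρ j) := by
    rw [LieSubalgebra.lieSpan_le]
    rintro _ ⟨i, rfl⟩
    exact fun y hy => e_lie_mem_Wline b ρ hρ htop j i hy
  exact hle hu' w hw

omit [Fintype ι] in
theorem finrank_rootSpace_coe (χ : H → K) (hχ : rootSpace H χ ≠ ⊥) (hχ0 : χ ≠ 0) :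
    finrank K ((rootSpace H χ : LieSubmodule K H L) : Submodule K L) = 1 := by
  have hnz : (⟨χ, hχ⟩ : Weight K H L).IsNonZero := fun hz => hχ0 hz
  exact IsKilling.finrank_rootSpace_eq_one (⟨χ, hχ⟩ : Weight K H L) hnz

include hρ htop hN hj in
theorem finrank_Wline : finrank K (Wline b ρ j) = 2 := by
  have h1 := finrank_rootSpace_coe (L := L) (ρ : H → K) hρ (fun h => rho_ne_zero b ρ j hj
    (LinearMap.ext (fun x => congrFun h x)))
  have h2 := finrank_rootSpace_coe (L := L) ((ρ : H → K) - (b.baseSupp j : H → K))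
    (rootSpace_sub_ne_bot b ρ hρ htop j hN) (rho_sub_ne_zero b ρ j hj)
  have hne : (ρ : H → K) ≠ (ρ : H → K) - (b.baseSupp j : H → K) := by
    intro h
    have h3 : (b.baseSupp j : H → K) = 0 := by
      have : (ρ : H → K) - ((ρ : H → K) - (b.baseSupp j : H → K)) = 0 := by rw [← h, sub_self]
      rwa [sub_sub_cancel] at this
    have h4 := congrFun h3 (b.h' j)
    haveI : IsAddTorsionFree L := .of_isTorsionFree K L
    simp only [b.baseSupp_apply_h', b.A_diag_eq_two, Pi.zero_apply] at h4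
    norm_num at h4
  have hdisj := disjoint_genWeightSpace K H L hne
  rw [← LieSubmodule.disjoint_toSubmodule, disjoint_iff] at hdisj
  have h5 := Submodule.finrank_sup_add_finrank_inf_eq
    ((rootSpace H ρ : LieSubmodule K H L) : Submodule K L)
    ((rootSpace H (ρ - b.baseSupp j) : LieSubmodule K H L) : Submodule K L)
  rw [hdisj, finrank_bot, add_zero, h1, h2] at h5
  exact h5

end Back

section Forth

variable [LieAlgebra.IsSimple K L] (ρ : Module.Dual K H) (hρ : rootSpace H ρ ≠ ⊥)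
  (htop : ∀ i, rootSpace H (ρ + b.baseSupp i) = ⊥)
  (j : ι) (hN : ∀ i, ρ (b.h' i) ≠ 0 ↔ i = j) (hj : ρ (b.h' j) = 1)

omit [IsKilling K L] [IsTriangularizable K H L] [CharZero K] [FiniteDimensional K L]
  [H.IsCartanSubalgebra] in
theorem e_mem_borel (i : ι) : b.e i ∈ H.toSubmodule ⊔ (b.borelUpper : Submodule K L) := by
  refine Submodule.mem_sup_right ?_
  have : b.e i ∈ LieSubalgebra.lieSpan K L (Set.range b.e) :=
    LieSubalgebra.subset_lieSpan ⟨i, rfl⟩
  simpa [LieAlgebra.Basis.borelUpper] using this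

/-- an `H`-stable subspace as a Lie submodule -/
def toLieSub (W : Submodule K L) (hH : ∀ (h : H), ∀ w ∈ W, ⁅h, w⁆ ∈ W) : LieSubmodule K H L :=
  { W with lie_mem := fun {h w} hw => hH h w hw }

omit [Fintype ι] [CharZero K] [IsKilling K L] in
/-- an `H`-stable subspace is the sum of its weight components; in particular, if nonzero it
contains a nonzero weight vector, and if not contained in `L_χ₀` it contains a nonzero weight
vector of weight `≠ χ₀` -/
theorem exists_weight_vector (W : Submodule K L) (hH : ∀ (h : H), ∀ w ∈ W, ⁅h, w⁆ ∈ W)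
    (χ₀ : H → K) (hnot : ¬ W ≤ ((rootSpace H χ₀ : LieSubmodule K H L) : Submodule K L)) :
    ∃ (μ : H → K) (w : L), μ ≠ χ₀ ∧ w ∈ W ∧ w ∈ rootSpace H μ ∧ w ≠ 0 := by
  by_contra hcon
  push Not at hcon
  apply hnot
  have hdec := LieModule.eq_iSup_inf_genWeightSpace K H L (toLieSub W hH)
  have hle : toLieSub W hH ≤ rootSpace H χ₀ := by
    refine le_trans (le_of_eq hdec) (iSup_le (fun χ => ?_))
    by_cases hχ : (χ : H → K) = χ₀
    · rw [hχ]; exact inf_le_right
    · intro w hw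
      have hw' : w ∈ toLieSub W hH ∧ w ∈ genWeightSpace L (χ : H → K) := hw
      by_contra hw0
      have : w ≠ 0 := by
        intro h0; apply hw0; rw [h0]; exact zero_mem _
      exact this (hcon (χ : H → K) w hχ hw'.1 hw'.2)
  exact hle

include hρ htop hN hj in
theorem eq_Wline_of_stable (W : Submodule K L) (hW : finrank K W = 2)
    (hst : ∀ x ∈ H.toSubmodule ⊔ (b.borelUpper : Submodule K L), ∀ w ∈ W, ⁅x, w⁆ ∈ W) :
    W = Wline b ρ j := by
  classical
  have hρ0 := rho_ne_zero b ρ j hj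
  have hρ0' : (ρ : H → K) ≠ 0 := fun h => hρ0 (LinearMap.ext (fun x => congrFun h x))
  have hE : ∀ i, ∀ w ∈ W, ⁅b.e i, w⁆ ∈ W := fun i w hw => hst (b.e i) (e_mem_borel b i) w hw
  have hH : ∀ (h : H), ∀ w ∈ W, ⁅h, w⁆ ∈ W := fun h w hw => by
    have h0 : ⁅h, w⁆ = ⁅(h : L), w⁆ := (LieSubalgebra.coe_bracket_of_module H h w)
    rw [h0]
    exact hst (h : L) (Submodule.mem_sup_left h.2) w hw
  have h1ρ := finrank_rootSpace_coe (L := L) (ρ : H → K) hρ hρ0'
  -- a weight vector of weight `≠ ρ`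
  have hnot : ¬ W ≤ ((rootSpace H ρ : LieSubmodule K H L) : Submodule K L) := by
    intro hle
    have := Submodule.finrank_mono hle
    omega
  obtain ⟨μ, w₂, hμρ, hw₂W, hw₂μ, hw₂0⟩ := exists_weight_vector W hH (ρ : H → K) hnot
  have hρW := rootSpace_rho_le b ρ hρ htop hρ0 W hE μ w₂ hw₂W hw₂μ hw₂0
  -- `W = L_ρ ⊔ K w₂`
  have hdisj : ((rootSpace H ρ : LieSubmodule K H L) : Submodule K L) ⊓ Submodule.span K {w₂} =
      ⊥ := by
    rw [eq_bot_iff]
    rintro x ⟨hx1, hx2⟩
    obtain ⟨c, rfl⟩ := Submodule.mem_span_singleton.mp hx2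
    have hx3 : c • w₂ ∈ rootSpace H μ := (rootSpace H μ).smul_mem c hw₂μ
    have := disjoint_iff.mp (disjoint_genWeightSpace K H L (Ne.symm hμρ))
    have hmem : c • w₂ ∈ rootSpace H (ρ : H → K) ⊓ rootSpace H μ := ⟨hx1, hx3⟩
    rw [this, LieSubmodule.mem_bot] at hmem
    rw [hmem]; exact zero_mem _
  have hS : finrank K ↥(((rootSpace H ρ : LieSubmodule K H L) : Submodule K L) ⊔
      Submodule.span K {w₂}) = 2 := by
    have h5 := Submodule.finrank_sup_add_finrank_inf_eq
      ((rootSpace H ρ : LieSubmodule K H L) : Submodule K L) (Submodule.span K {w₂})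
    rw [hdisj, finrank_bot, add_zero, h1ρ, finrank_span_singleton hw₂0] at h5
    exact h5
  have hSW : ((rootSpace H ρ : LieSubmodule K H L) : Submodule K L) ⊔ Submodule.span K {w₂} =
      W := by
    apply Submodule.eq_of_le_of_finrank_eq
    · exact sup_le hρW ((Submodule.span_singleton_le_iff_mem _ _).mpr hw₂W)
    · rw [hS, hW]
  -- `w₂` is not a highest weight vector
  obtain ⟨v, hv, hv0, hev⟩ := exists_highest_vector b ρ hρ htop
  have hex : ∃ i, ⁅b.e i, w₂⁆ ≠ 0 := by
    by_contra hall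
    push Not at hall
    exact hμρ (weight_eq_of_highest b hv hv0 hev hw₂μ hw₂0 hall)
  obtain ⟨i, hi⟩ := hex
  have hz1 : ⁅b.e i, w₂⁆ ∈ rootSpace H ((b.baseSupp i : H → K) + μ) :=
    lie_mem_genWeightSpace_of_mem_genWeightSpace (e_mem_rootSpace b i) hw₂μ
  have hz2 : ⁅b.e i, w₂⁆ ∈ rootSpace H (ρ : H → K) ⊔ rootSpace H μ := by
    have h6 : ⁅b.e i, w₂⁆ ∈ W := hE i w₂ hw₂W
    rw [← hSW] at h6
    obtain ⟨x, hx, y, hy, hxy⟩ := Submodule.mem_sup.mp h6
    rw [← hxy]
    refine add_mem (LieSubmodule.mem_sup_left hx) (LieSubmodule.mem_sup_right ?_)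
    obtain ⟨c, rfl⟩ := Submodule.mem_span_singleton.mp hy
    exact (rootSpace H μ).smul_mem c hw₂μ
  have hαi : (b.baseSupp i : H → K) ≠ 0 := by
    intro h
    have h4 := congrFun h (b.h' i)
    haveI : IsAddTorsionFree L := .of_isTorsionFree K L
    simp only [b.baseSupp_apply_h', b.A_diag_eq_two, Pi.zero_apply] at h4
    norm_num at h4
  have hsum : (b.baseSupp i : H → K) + μ = ρ := by
    by_contra hne
    have hne2 : (b.baseSupp i : H → K) + μ ≠ μ := by
      intro h; apply hαi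
      have : (b.baseSupp i : H → K) + μ - μ = 0 := by rw [h, sub_self]
      rwa [add_sub_cancel_right] at this
    exact hi (eq_zero_of_mem_sup hne hne2 hz1 hz2)
  have hμ : μ = (ρ : H → K) - (b.baseSupp i : H → K) := by
    rw [← hsum]; abel
  -- `i = j`
  have hij : i = j := by
    apply (hN i).mp
    apply (rootSpace_sub_ne_bot_iff b ρ hρ htop i).mp
    intro hbot
    have : w₂ ∈ rootSpace H (ρ - b.baseSupp i) := by rw [← hμ]; exact hw₂μ
    rw [hbot, LieSubmodule.mem_bot] at this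
    exact hw₂0 this
  subst hij
  have hspan : ((rootSpace H (ρ - b.baseSupp i) : LieSubmodule K H L) : Submodule K L) =
      Submodule.span K {w₂} := by
    apply rootSpace_eq_span' _ (rho_sub_ne_zero b ρ i hj) _ hw₂0
    rw [← hμ]; exact hw₂μ
  rw [Wline, hspan, hSW]

end Forth

end Groth.Agent.Helper7.AdjVar
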