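import Mathlib
import Groth.Agent.Helper7.AdjVarC

/-!
# Borel-stable planes in the adjoint variety
-/

namespace Groth.Agent.Helper7.AdjVar

open LieAlgebra LieModule Module

universe u v w

variable {ι : Type u} {K : Type v} {L : Type w} [Fintype ι] [Field K] [CharZero K]
  [LieRing L] [LieAlgebra K L] [FiniteDimensional K L]
  {H : LieSubalgebra K L} [H.IsCartanSubalgebra] (b : LieAlgebra.Basis ι H)
  [IsKilling K L] [IsTriangularizable K H L]

omit [Fintype ι] [CharZero K] [IsKilling K L] in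
/-- an `H`-stable subspace not contained in a Lie submodule `T` containing the weight spaces for
weights in `S` contains a nonzero weight vector of weight outside `S` -/
theorem exists_weight_vector_set (W : Submodule K L) (hH : ∀ (h : H), ∀ w ∈ W, ⁅h, w⁆ ∈ W)
    (S : Set (H → K)) (T : LieSubmodule K H L) (hT : ∀ χ ∈ S, rootSpace H χ ≤ T)
    (hnot : ¬ W ≤ (T : Submodule K L)) :
    ∃ (μ : H → K) (w : L), μ ∉ S ∧ w ∈ W ∧ w ∈ rootSpace H μ ∧ w ≠ 0 := by
  by_contra hcon
  push Not at hcon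
  apply hnot
  have hdec := LieModule.eq_iSup_inf_genWeightSpace K H L (toLieSub W hH)
  have hle : toLieSub W hH ≤ T := by
    refine le_trans (le_of_eq hdec) (iSup_le (fun χ => ?_))
    by_cases hχ : (χ : H → K) ∈ S
    · exact le_trans inf_le_right (hT _ hχ)
    · intro w hw
      have hw' : w ∈ toLieSub W hH ∧ w ∈ genWeightSpace L (χ : H → K) := hw
      by_contra hw0
      have : w ≠ 0 := by
        intro h0; apply hw0; rw [h0]; exact zero_mem _
      exact this (hcon (χ : H → K) w hχ hw'.1 hw'.2)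
  exact hle

omit [Fintype ι] [CharZero K] [IsKilling K L] [IsTriangularizable K H L] in
/-- nonzero weight vectors of distinct weights in a subspace bound its dimension from below -/
theorem card_le_finrank_of_weight_vectors {n : ℕ} (W : Submodule K L)
    (χ : Fin n → H → K)
    (hχ : Function.Injective χ) (v : Fin n → L) (hvW : ∀ i, v i ∈ W)
    (hv : ∀ i, v i ∈ rootSpace H (χ i)) (hv0 : ∀ i, v i ≠ 0) : n ≤ finrank K W := by
  have hind := iSupIndep_genWeightSpace K H L
  have hind2 : iSupIndep (fun μ : H → K =>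
      ((rootSpace H μ : LieSubmodule K H L) : Submodule K L)) :=
    LieSubmodule.iSupIndep_toSubmodule.mpr hind
  have hind3 := hind2.comp hχ
  have hli : LinearIndependent K v := hind3.linearIndependent _ hv hv0
  have hli' : LinearIndependent K (fun i => (⟨v i, hvW i⟩ : W)) := by
    apply LinearIndependent.of_comp W.subtype
    exact hli
  have := hli'.fintype_card_le_finrank
  simpa using this

theorem injective_vec4 {α : Type*} (a0 a1 a2 a3 : α) (h01 : a0 ≠ a1) (h02 : a0 ≠ a2)
    (h03 : a0 ≠ a3) (h12 : a1 ≠ a2) (h13 : a1 ≠ a3) (h23 : a2 ≠ a3) :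
    Function.Injective ![a0, a1, a2, a3] := by
  intro x y hxy
  fin_cases x <;> fin_cases y <;> simp_all

/-- simple roots are nonzero -/
theorem baseSupp_ne_zero (i : ι) : (b.baseSupp i : H → K) ≠ 0 := by
  intro h
  have h4 := congrFun h (b.h' i)
  haveI : IsAddTorsionFree L := .of_isTorsionFree K L
  simp only [b.baseSupp_apply_h', b.A_diag_eq_two, Pi.zero_apply] at h4
  norm_num at h4

/-- the sum of two simple roots is nonzero -/
theorem baseSupp_add_ne_zero (i i' : ι) :
    (b.baseSupp i : H → K) + (b.baseSupp i' : H → K) ≠ 0 := by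
  classical
  intro h
  have h1 : zwt b (Pi.single i 1 + Pi.single i' 1) = zwt b 0 := by
    rw [zwt_add, zwt_single, zwt_single, zwt_zero, h]
  have h2 := congrFun (zwt_injective b h1) i
  simp only [Pi.add_apply, Pi.single_eq_same, Pi.zero_apply, Pi.single_apply] at h2
  split_ifs at h2 <;> omega

/-- the Cartan matrix has symmetric zero pattern -/
theorem A_eq_zero_symm (i j : ι) : b.A i j = 0 ↔ b.A j i = 0 := by
  have h := b.cartanMatrix_base_eq
  have h1 : ∀ i j, b.A i j =
      b.base.cartanMatrix (b.baseSupportEquiv i) (b.baseSupportEquiv j) := by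
    intro i j
    rw [h]; simp [Matrix.reindex_apply]
  rw [h1, h1]
  exact RootPairing.Base.cartanMatrix_apply_eq_zero_iff_symm _

section Three

variable [LieAlgebra.IsSimple K L] (ρ : Module.Dual K H) (hρ : rootSpace H ρ ≠ ⊥)
  (htop : ∀ i, rootSpace H (ρ + b.baseSupp i) = ⊥)
  (j : ι) (hN : ∀ i, ρ (b.h' i) ≠ 0 ↔ i = j) (hj : ρ (b.h' j) = 1)

include hρ htop hj in
omit [LieAlgebra.IsSimple K L] in
/-- `ρ - 2α_j` is not a weight -/
theorem rootSpace_sub_two_eq_bot :
    rootSpace H ((ρ : H → K) - (b.baseSupp j : H → K) - (b.baseSupp j : H → K)) = ⊥ := by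
  by_contra hne
  have h := IsKilling.rootSpace_zsmul_add_ne_bot_iff (sroot b j) (rhoW ρ hρ)
    (sroot_isNonZero b j) (-2)
  have h1 : ((-2 : ℤ) • (sroot b j : H → K) + (rhoW ρ hρ : H → K)) =
      (ρ : H → K) - (b.baseSupp j : H → K) - (b.baseSupp j : H → K) := by
    funext x
    simp [coe_sroot, coe_rhoW]
    ring
  rw [h1] at h
  have h2 := (h.mp hne).2
  have h3 := rho_apply_h' b ρ hρ htop j
  rw [hj] at h3
  have h4 : chainBotCoeff (sroot b j : H → K) (rhoW ρ hρ) = 1 := by
    have : ((chainBotCoeff (sroot b j : H → K) (rhoW ρ hρ) : ℕ) : K) = ((1 : ℕ) : K) := by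
      rw [← h3]; simp
    exact Nat.cast_injective this
  rw [h4] at h2
  norm_num at h2

/-- `ρ - α_j` as a weight -/
noncomputable def betaW : Weight K H L :=
  ⟨(ρ : H → K) - (b.baseSupp j : H → K), rootSpace_sub_ne_bot b ρ hρ htop j hN⟩

theorem coe_betaW : (betaW b ρ hρ htop j hN : H → K) =
    (ρ : H → K) - (b.baseSupp j : H → K) := rfl

include hρ htop hN in
/-- if `ρ - α_j - α_i` is a weight (`i ≠ j`), then `α_i` and `α_j` are adjacent -/
theorem A_ne_zero_of_rootSpace_ne_bot (i : ι) (hij : i ≠ j)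
    (hroot : rootSpace H ((ρ : H → K) - (b.baseSupp j : H → K) - (b.baseSupp i : H → K)) ≠ ⊥) :
    b.A i j ≠ 0 := by
  have htop' : chainTopCoeff (sroot b i) (betaW b ρ hρ htop j hN) = 0 := by
    have h := (IsKilling.rootSpace_zsmul_add_ne_bot_iff (sroot b i) (betaW b ρ hρ htop j hN)
      (sroot_isNonZero b i) 1).not
    have h1 : ((1 : ℤ) • (sroot b i : H → K) + (betaW b ρ hρ htop j hN : H → K)) =
        (b.baseSupp i : H → K) + ((ρ : H → K) - (b.baseSupp j : H → K)) := by
      funext x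
      simp [coe_sroot, coe_betaW]
    rw [h1] at h
    have h2 := h.mp (by rw [not_not]; exact rootSpace_add_sub_eq_bot b ρ hρ htop j i hij)
    by_contra hne
    apply h2
    constructor
    · have : 1 ≤ chainTopCoeff (sroot b i : H → K) (betaW b ρ hρ htop j hN) :=
        Nat.one_le_iff_ne_zero.mpr hne
      exact_mod_cast this
    · have : (0 : ℤ) ≤ (chainBotCoeff (sroot b i : H → K) (betaW b ρ hρ htop j hN) : ℤ) :=
        Nat.cast_nonneg _
      omega
  have hbot : 1 ≤ chainBotCoeff (sroot b i : H → K) (betaW b ρ hρ htop j hN) := by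
    have h := IsKilling.rootSpace_zsmul_add_ne_bot_iff (sroot b i) (betaW b ρ hρ htop j hN)
      (sroot_isNonZero b i) (-1)
    have h1 : ((-1 : ℤ) • (sroot b i : H → K) + (betaW b ρ hρ htop j hN : H → K)) =
        (ρ : H → K) - (b.baseSupp j : H → K) - (b.baseSupp i : H → K) := by
      funext x
      simp [coe_sroot, coe_betaW]
      ring
    rw [h1] at h
    have h2 := (h.mp hroot).2
    simp only [neg_neg] at h2
    exact_mod_cast h2
  have h := IsKilling.apply_coroot_eq_cast (sroot b i) (betaW b ρ hρ htop j hN)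
  rw [coroot_sroot, htop'] at h
  simp only [Nat.cast_zero, sub_zero, Int.cast_natCast] at h
  have h3 : (betaW b ρ hρ htop j hN) (b.h' i) = ρ (b.h' i) - b.baseSupp j (b.h' i) := rfl
  rw [h3, b.baseSupp_apply_h'] at h
  have h4 : ρ (b.h' i) = 0 := by
    by_contra hne
    exact hij ((hN i).mp hne)
  rw [h4, zero_sub] at h
  intro hA
  have hA' : b.A j i = 0 := (A_eq_zero_symm b i j).mp hA
  rw [hA'] at h
  simp only [Int.cast_zero, neg_zero] at h
  have : (chainBotCoeff (sroot b i : H → K) (betaW b ρ hρ htop j hN) : ℕ) = 0 := by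
    exact_mod_cast h.symm
  omega

include hρ htop hN in
/-- climbing from a weight vector of a three-dimensional `𝔟`-stable subspace -/
theorem climb (W : Submodule K L) (hW : finrank K W = 3)
    (hE : ∀ i, ∀ w ∈ W, ⁅b.e i, w⁆ ∈ W)
    (hρW : ((rootSpace H ρ : LieSubmodule K H L) : Submodule K L) ≤ W)
    (μ : H → K) (w : L) (hwW : w ∈ W) (hwμ : w ∈ rootSpace H μ) (hw0 : w ≠ 0) (hμρ : μ ≠ ρ) :
    (μ = (ρ : H → K) - (b.baseSupp j : H → K) ∧ ⁅b.e j, w⁆ ≠ 0) ∨
    (∃ i, μ = (ρ : H → K) - (b.baseSupp j : H → K) - (b.baseSupp i : H → K) ∧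
      ⁅b.e i, w⁆ ≠ 0 ∧ ⁅b.e j, ⁅b.e i, w⁆⁆ ≠ 0) := by
  obtain ⟨v, hv, hv0, hev⟩ := exists_highest_vector b ρ hρ htop
  obtain ⟨i1, hi1⟩ : ∃ i, ⁅b.e i, w⁆ ≠ 0 := by
    by_contra hall
    push Not at hall
    exact hμρ (weight_eq_of_highest b hv hv0 hev hwμ hw0 hall)
  have hw1 : ⁅b.e i1, w⁆ ∈ rootSpace H ((b.baseSupp i1 : H → K) + μ) :=
    lie_mem_genWeightSpace_of_mem_genWeightSpace (e_mem_rootSpace b i1) hwμ
  by_cases h1 : (b.baseSupp i1 : H → K) + μ = ρ
  · left
    have hμ : μ = (ρ : H → K) - (b.baseSupp i1 : H → K) := by rw [← h1]; abel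
    have hij : i1 = j := by
      apply (hN i1).mp
      apply (rootSpace_sub_ne_bot_iff b ρ hρ htop i1).mp
      intro hbot
      have : w ∈ rootSpace H (ρ - b.baseSupp i1) := by rw [← hμ]; exact hwμ
      rw [hbot, LieSubmodule.mem_bot] at this
      exact hw0 this
    subst hij
    exact ⟨hμ, hi1⟩
  · right
    obtain ⟨i2, hi2⟩ : ∃ i, ⁅b.e i, ⁅b.e i1, w⁆⁆ ≠ 0 := by
      by_contra hall
      push Not at hall
      exact h1 (weight_eq_of_highest b hv hv0 hev hw1 hi1 hall)
    have hw2 : ⁅b.e i2, ⁅b.e i1, w⁆⁆ ∈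
        rootSpace H ((b.baseSupp i2 : H → K) + ((b.baseSupp i1 : H → K) + μ)) :=
      lie_mem_genWeightSpace_of_mem_genWeightSpace (e_mem_rootSpace b i2) hw1
    by_cases h2 : (b.baseSupp i2 : H → K) + ((b.baseSupp i1 : H → K) + μ) = ρ
    · have hμ1 : (b.baseSupp i1 : H → K) + μ = (ρ : H → K) - (b.baseSupp i2 : H → K) := by
        rw [← h2]; abel
      have hij : i2 = j := by
        apply (hN i2).mp
        apply (rootSpace_sub_ne_bot_iff b ρ hρ htop i2).mp
        intro hbot
        have : ⁅b.e i1, w⁆ ∈ rootSpace H (ρ - b.baseSupp i2) := by rw [← hμ1]; exact hw1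
        rw [hbot, LieSubmodule.mem_bot] at this
        exact hi1 this
      subst hij
      refine ⟨i1, ?_, hi1, hi2⟩
      rw [← h2]; abel
    · exfalso
      have h4 := card_le_finrank_of_weight_vectors (n := 4) W
        ![(ρ : H → K), μ, (b.baseSupp i1 : H → K) + μ,
          (b.baseSupp i2 : H → K) + ((b.baseSupp i1 : H → K) + μ)]
        ?_ ![v, w, ⁅b.e i1, w⁆, ⁅b.e i2, ⁅b.e i1, w⁆⁆] ?_ ?_ ?_
      · omega
      · apply injective_vec4
        · exact Ne.symm hμρ
        · exact Ne.symm h1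
        · exact Ne.symm h2
        · intro h
          apply baseSupp_ne_zero b i1
          have : (b.baseSupp i1 : H → K) + μ - μ = 0 := by rw [← h, sub_self]
          rwa [add_sub_cancel_right] at this
        · intro h
          apply baseSupp_add_ne_zero b i2 i1
          have : (b.baseSupp i2 : H → K) + ((b.baseSupp i1 : H → K) + μ) - μ = 0 := by
            rw [← h, sub_self]
          rw [← this]; abel
        · intro h
          apply baseSupp_ne_zero b i2
          have : (b.baseSupp i2 : H → K) + ((b.baseSupp i1 : H → K) + μ) -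
              ((b.baseSupp i1 : H → K) + μ) = 0 := by rw [← h, sub_self]
          rwa [add_sub_cancel_right] at this
      · intro i
        fin_cases i
        · exact hρW hv
        · exact hwW
        · exact hE i1 w hwW
        · exact hE i2 _ (hE i1 w hwW)
      · intro i
        fin_cases i
        · exact hv
        · exact hwμ
        · exact hw1
        · exact hw2
      · intro i
        fin_cases i
        · exact hv0
        · exact hw0
        · exact hi1
        · exact hi2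

include hρ htop hN hj in
/-- **Borel-stable planes**: structure of a three-dimensional `𝔟`-stable subspace -/
theorem three_dim_data (W : Submodule K L) (hW : finrank K W = 3)
    (hst : ∀ x ∈ H.toSubmodule ⊔ (b.borelUpper : Submodule K L), ∀ w ∈ W, ⁅x, w⁆ ∈ W) :
    Wline b ρ j ≤ W ∧ ∃ i : ι, i ≠ j ∧ b.A i j ≠ 0 ∧
      W = Wline b ρ j ⊔ (rootSpace H (ρ - b.baseSupp j - b.baseSupp i) : Submodule K L) ∧
      ∃ w₃ ∈ rootSpace H ((ρ : H → K) - (b.baseSupp j : H → K) - (b.baseSupp i : H → K)),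
        w₃ ≠ 0 ∧ ⁅b.e i, w₃⁆ ≠ 0 ∧ ⁅b.e j, ⁅b.e i, w₃⁆⁆ ≠ 0 := by
  classical
  have hρ0 := rho_ne_zero b ρ j hj
  have hρ0' : (ρ : H → K) ≠ 0 := fun h => hρ0 (LinearMap.ext (fun x => congrFun h x))
  have hE : ∀ i, ∀ w ∈ W, ⁅b.e i, w⁆ ∈ W := fun i w hw => hst (b.e i) (e_mem_borel b i) w hw
  have hH : ∀ (h : H), ∀ w ∈ W, ⁅h, w⁆ ∈ W := fun h w hw => by
    have h0 : ⁅h, w⁆ = ⁅(h : L), w⁆ := (LieSubalgebra.coe_bracket_of_module H h w)
    rw [h0]
    exact hst (h : L) (Submodule.mem_sup_left h.2) w hw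
  have h1ρ := finrank_rootSpace_coe (L := L) (ρ : H → K) hρ hρ0'
  have hnot : ¬ W ≤ ((rootSpace H ρ : LieSubmodule K H L) : Submodule K L) := by
    intro hle
    have := Submodule.finrank_mono hle
    omega
  obtain ⟨μ, w₂, hμρ, hw₂W, hw₂μ, hw₂0⟩ := exists_weight_vector W hH (ρ : H → K) hnot
  have hρW := rootSpace_rho_le b ρ hρ htop hρ0 W hE μ w₂ hw₂W hw₂μ hw₂0
  have hβ0 := rho_sub_ne_zero b ρ j hj
  have hβW : ((rootSpace H (ρ - b.baseSupp j) : LieSubmodule K H L) : Submodule K L) ≤ W := by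
    rcases climb b ρ hρ htop j hN W hW hE hρW μ w₂ hw₂W hw₂μ hw₂0 hμρ with
      ⟨hμ, -⟩ | ⟨i, hμ, hi1, -⟩
    · have h1 : w₂ ∈ rootSpace H (ρ - b.baseSupp j) := by rw [← hμ]; exact hw₂μ
      rw [rootSpace_eq_span' _ hβ0 h1 hw₂0, Submodule.span_singleton_le_iff_mem]
      exact hw₂W
    · have h1 : ⁅b.e i, w₂⁆ ∈ rootSpace H ((b.baseSupp i : H → K) + μ) :=
        lie_mem_genWeightSpace_of_mem_genWeightSpace (e_mem_rootSpace b i) hw₂μ
      have h2 : (b.baseSupp i : H → K) + μ = (ρ : H → K) - (b.baseSupp j : H → K) := by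
        rw [hμ]; abel
      rw [h2] at h1
      rw [rootSpace_eq_span' _ hβ0 h1 hi1, Submodule.span_singleton_le_iff_mem]
      exact hE i w₂ hw₂W
  have hWl : Wline b ρ j ≤ W := sup_le hρW hβW
  refine ⟨hWl, ?_⟩
  have h2W := finrank_Wline b ρ hρ htop j hN hj
  have hnot2 : ¬ W ≤ ((rootSpace H ρ ⊔ rootSpace H (ρ - b.baseSupp j) :
      LieSubmodule K H L) : Submodule K L) := by
    intro hle
    rw [LieSubmodule.sup_toSubmodule] at hle
    have := Submodule.finrank_mono hle
    unfold Wline at h2W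
    omega
  obtain ⟨μ₃, w₃, hμ₃, hw₃W, hw₃μ, hw₃0⟩ := exists_weight_vector_set W hH
    {(ρ : H → K), (ρ : H → K) - (b.baseSupp j : H → K)}
    (rootSpace H ρ ⊔ rootSpace H (ρ - b.baseSupp j))
    (by
      rintro χ (rfl | rfl)
      · exact le_sup_left
      · exact le_sup_right) hnot2
  have hμ₃ρ : μ₃ ≠ ρ := fun h => hμ₃ (Or.inl h)
  have hμ₃β : μ₃ ≠ (ρ : H → K) - (b.baseSupp j : H → K) := fun h => hμ₃ (Or.inr h)
  rcases climb b ρ hρ htop j hN W hW hE hρW μ₃ w₃ hw₃W hw₃μ hw₃0 hμ₃ρ with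
    ⟨hμ, -⟩ | ⟨i, hμ, hi1, hi2⟩
  · exact absurd hμ hμ₃β
  subst hμ
  have hroot : rootSpace H ((ρ : H → K) - (b.baseSupp j : H → K) - (b.baseSupp i : H → K)) ≠
      ⊥ := by
    intro h; rw [h, LieSubmodule.mem_bot] at hw₃μ; exact hw₃0 hw₃μ
  have hij : i ≠ j := by
    rintro rfl
    exact hroot (rootSpace_sub_two_eq_bot b ρ hρ htop i hj)
  have hA := A_ne_zero_of_rootSpace_ne_bot b ρ hρ htop j hN i hij hroot
  have hγ0 : (ρ : H → K) - (b.baseSupp j : H → K) - (b.baseSupp i : H → K) ≠ 0 := by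
    intro h0
    apply hij
    apply (hN i).mp
    apply (rootSpace_sub_ne_bot_iff b ρ hρ htop i).mp
    have h5 : (ρ : H → K) - (b.baseSupp i : H → K) = (b.baseSupp j : H → K) := by
      have : (ρ : H → K) - (b.baseSupp i : H → K) - (b.baseSupp j : H → K) = 0 := by
        rw [← h0]; abel
      exact sub_eq_zero.mp this
    show rootSpace H ((ρ : H → K) - (b.baseSupp i : H → K)) ≠ ⊥
    rw [h5]
    exact (sroot b j).genWeightSpace_ne_bot
  refine ⟨i, hij, hA, ?_, w₃, hw₃μ, hw₃0, hi1, hi2⟩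
  have hspan := rootSpace_eq_span' _ hγ0 hw₃μ hw₃0
  symm
  apply Submodule.eq_of_le_of_finrank_eq
  · refine sup_le hWl ?_
    rw [hspan, Submodule.span_singleton_le_iff_mem]; exact hw₃W
  · rw [hW]
    have hdisj : Wline b ρ j ⊓ Submodule.span K {w₃} = ⊥ := by
      rw [eq_bot_iff]
      rintro x ⟨hx1, hx2⟩
      obtain ⟨c, rfl⟩ := Submodule.mem_span_singleton.mp hx2
      have hx3 : c • w₃ ∈ rootSpace H
          ((ρ : H → K) - (b.baseSupp j : H → K) - (b.baseSupp i : H → K)) :=
        (rootSpace H _).smul_mem c hw₃μ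
      have hx4 : c • w₃ ∈ rootSpace H (ρ : H → K) ⊔
          rootSpace H ((ρ : H → K) - (b.baseSupp j : H → K)) := by
        have : c • w₃ ∈ ((rootSpace H ρ ⊔ rootSpace H (ρ - b.baseSupp j) :
            LieSubmodule K H L) : Submodule K L) := by
          rw [LieSubmodule.sup_toSubmodule]; exact hx1
        exact this
      have := eq_zero_of_mem_sup hμ₃ρ hμ₃β hx3 hx4
      rw [this]; exact zero_mem _
    have h5 := Submodule.finrank_sup_add_finrank_inf_eq (Wline b ρ j) (Submodule.span K {w₃})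
    rw [hdisj, finrank_bot, add_zero, h2W, finrank_span_singleton hw₃0] at h5
    rw [hspan]; exact h5

end Three

end Groth.Agent.Helper7.AdjVar
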