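import Mathlib
import Groth.Agent.Helper7.AdjVarD

/-!
# Borel-stable conics in the adjoint variety are double lines
-/

namespace Groth.Agent.Helper7.AdjVar

open LieAlgebra LieModule Module

universe u v w

section LinAlg

variable {K : Type*} [Field K] [CharZero K] {V : Type*} [AddCommGroup V] [Module K V]

omit [CharZero K] in
/-- polarisation of a semi-invariance identity -/
theorem polarize (q : QuadraticForm K V) (T : V → V) (hT : ∀ u w, T (u + w) = T u + T w) (c : K)
    (h : ∀ w, QuadraticMap.polar q (T w) w = c * q w) (u w : V) :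
    QuadraticMap.polar q (T u) w + QuadraticMap.polar q (T w) u =
      c * QuadraticMap.polar q u w := by
  have h1 := h (u + w)
  rw [hT, QuadraticMap.polar_add_left, QuadraticMap.polar_add_right,
    QuadraticMap.polar_add_right, h u, h w, QuadraticMap.map_add (⇑q) u w] at h1
  linear_combination h1

omit [CharZero K] in
theorem quad_diag (q : QuadraticForm K V) (B : Basis (Fin 3) K V)
    (h01 : QuadraticMap.polar q (B 0) (B 1) = 0) (h02 : QuadraticMap.polar q (B 0) (B 2) = 0)
    (h12 : QuadraticMap.polar q (B 1) (B 2) = 0) (w : V) :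
    q w = q (B 0) * (B.coord 0 w) ^ 2 + q (B 1) * (B.coord 1 w) ^ 2 +
      q (B 2) * (B.coord 2 w) ^ 2 := by
  have hw : w = B.coord 0 w • B 0 + B.coord 1 w • B 1 + B.coord 2 w • B 2 := by
    conv_lhs => rw [← B.sum_repr w, Fin.sum_univ_three]
    rfl
  obtain ⟨x0, hx0⟩ : ∃ x, x = B.coord 0 w := ⟨_, rfl⟩
  obtain ⟨x1, hx1⟩ : ∃ x, x = B.coord 1 w := ⟨_, rfl⟩
  obtain ⟨x2, hx2⟩ : ∃ x, x = B.coord 2 w := ⟨_, rfl⟩
  rw [← hx0, ← hx1, ← hx2] at hw ⊢
  rw [hw, QuadraticMap.map_add (⇑q), QuadraticMap.map_add (⇑q)]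
  simp only [QuadraticMap.map_smul, QuadraticMap.polar_add_left, QuadraticMap.polar_smul_left,
    QuadraticMap.polar_smul_right, h01, h02, h12, smul_eq_mul]
  ring

omit [CharZero K] in
theorem quad_rank_one (q : QuadraticForm K V) (B : Basis (Fin 3) K V)
    (h01 : QuadraticMap.polar q (B 0) (B 1) = 0) (h02 : QuadraticMap.polar q (B 0) (B 2) = 0)
    (h12 : QuadraticMap.polar q (B 1) (B 2) = 0)
    (hd01 : q (B 0) = 0 ∨ q (B 1) = 0) (hd02 : q (B 0) = 0 ∨ q (B 2) = 0)
    (hd12 : q (B 1) = 0 ∨ q (B 2) = 0) :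
    ∃ (ℓ : Module.Dual K V) (c : K), ∀ w : V, q w = c * ℓ w ^ 2 := by
  by_cases h0 : q (B 0) = 0
  · by_cases h1 : q (B 1) = 0
    · exact ⟨B.coord 2, q (B 2), fun w => by rw [quad_diag q B h01 h02 h12 w, h0, h1]; ring⟩
    · have h2 : q (B 2) = 0 := hd12.resolve_left h1
      exact ⟨B.coord 1, q (B 1), fun w => by rw [quad_diag q B h01 h02 h12 w, h0, h2]; ring⟩
  · have h1 := hd01.resolve_left h0
    have h2 := hd02.resolve_left h0
    exact ⟨B.coord 0, q (B 0), fun w => by rw [quad_diag q B h01 h02 h12 w, h1, h2]; ring⟩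

theorem injective_vec3 {α : Type*} (a0 a1 a2 : α) (h01 : a0 ≠ a1) (h02 : a0 ≠ a2)
    (h12 : a1 ≠ a2) : Function.Injective ![a0, a1, a2] := by
  intro x y hxy
  fin_cases x <;> fin_cases y <;> simp_all

end LinAlg

section Lie

variable {ι : Type u} {K : Type v} {L : Type w} [Fintype ι] [Field K] [CharZero K]
  [LieRing L] [LieAlgebra K L] [FiniteDimensional K L]
  {H : LieSubalgebra K L} [H.IsCartanSubalgebra] (b : LieAlgebra.Basis ι H)
  [IsKilling K L] [IsTriangularizable K H L]

omit [Fintype ι] [CharZero K] [IsKilling K L] [IsTriangularizable K H L] in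
/-- weight vectors of distinct weights in a subspace are linearly independent -/
theorem linearIndependent_of_weight_vectors {n : ℕ} (W : Submodule K L) (χ : Fin n → H → K)
    (hχ : Function.Injective χ) (v : Fin n → L) (hvW : ∀ i, v i ∈ W)
    (hv : ∀ i, v i ∈ rootSpace H (χ i)) (hv0 : ∀ i, v i ≠ 0) :
    LinearIndependent K (fun i => (⟨v i, hvW i⟩ : W)) := by
  have hind := iSupIndep_genWeightSpace K H L
  have hind2 : iSupIndep (fun μ : H → K =>
      ((rootSpace H μ : LieSubmodule K H L) : Submodule K L)) :=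
    LieSubmodule.iSupIndep_toSubmodule.mpr hind
  have hind3 := hind2.comp hχ
  have hli : LinearIndependent K v := hind3.linearIndependent _ hv hv0
  apply LinearIndependent.of_comp W.subtype
  exact hli

variable [LieAlgebra.IsSimple K L] (ρ : Module.Dual K H) (hρ : rootSpace H ρ ≠ ⊥)
  (htop : ∀ i, rootSpace H (ρ + b.baseSupp i) = ⊥)
  (j : ι) (hN : ∀ i, ρ (b.h' i) ≠ 0 ↔ i = j) (hj : ρ (b.h' j) = 1)

include hρ htop hN hj in
/-- **no smooth or reducible Borel-stable conics**: a `𝔟`-semi-invariant quadratic form on a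
three-dimensional `𝔟`-stable subspace is a multiple of the square of a linear form -/
theorem conic_main (W : Submodule K L) (hW : finrank K W = 3)
    (hst : ∀ x ∈ H.toSubmodule ⊔ (b.borelUpper : Submodule K L), ∀ w ∈ W, ⁅x, w⁆ ∈ W)
    (q : QuadraticForm K W)
    (hq : ∀ (x : L) (hx : x ∈ H.toSubmodule ⊔ (b.borelUpper : Submodule K L)), ∃ c : K,
      ∀ w : W, QuadraticMap.polar q ⟨⁅x, (w : L)⁆, hst x hx w w.property⟩ w = c * q w) :
    ∃ (ℓ : Module.Dual K W) (c : K), ∀ w : W, q w = c * ℓ w ^ 2 := by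
  classical
  obtain ⟨hWl, i, hij, hA, hWeq, w₃, hw₃, hw₃0, hi1, hi2⟩ :=
    three_dim_data b ρ hρ htop j hN hj W hW hst
  have hE : ∀ i, ∀ w ∈ W, ⁅b.e i, w⁆ ∈ W := fun i w hw => hst (b.e i) (e_mem_borel b i) w hw
  have hw₃W : w₃ ∈ W := by
    rw [hWeq]; exact Submodule.mem_sup_right hw₃
  have hv₁ : ⁅b.e i, w₃⁆ ∈ rootSpace H ((ρ : H → K) - (b.baseSupp j : H → K)) := by
    have h1 := lie_mem_genWeightSpace_of_mem_genWeightSpace (e_mem_rootSpace b i) hw₃
    have h2 : (b.baseSupp i : H → K) + ((ρ : H → K) - (b.baseSupp j : H → K) -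
        (b.baseSupp i : H → K)) = (ρ : H → K) - (b.baseSupp j : H → K) := by abel
    rw [h2] at h1; exact h1
  have hv₀ : ⁅b.e j, ⁅b.e i, w₃⁆⁆ ∈ rootSpace H (ρ : H → K) := by
    have h1 := lie_mem_genWeightSpace_of_mem_genWeightSpace (e_mem_rootSpace b j) hv₁
    have h2 : (b.baseSupp j : H → K) + ((ρ : H → K) - (b.baseSupp j : H → K)) = ρ := by abel
    rw [h2] at h1; exact h1
  -- the three weights are distinct
  have h01 : (ρ : H → K) ≠ (ρ : H → K) - (b.baseSupp j : H → K) := by
    intro h; apply baseSupp_ne_zero b j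
    have : (ρ : H → K) - ((ρ : H → K) - (b.baseSupp j : H → K)) = 0 := by rw [← h, sub_self]
    rwa [sub_sub_cancel] at this
  have h12 : (ρ : H → K) - (b.baseSupp j : H → K) ≠
      (ρ : H → K) - (b.baseSupp j : H → K) - (b.baseSupp i : H → K) := by
    intro h; apply baseSupp_ne_zero b i
    have : ((ρ : H → K) - (b.baseSupp j : H → K)) - ((ρ : H → K) - (b.baseSupp j : H → K) -
        (b.baseSupp i : H → K)) = 0 := by rw [← h, sub_self]
    rwa [sub_sub_cancel] at this
  have h02 : (ρ : H → K) ≠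
      (ρ : H → K) - (b.baseSupp j : H → K) - (b.baseSupp i : H → K) := by
    intro h; apply baseSupp_add_ne_zero b j i
    have : (ρ : H → K) - ((ρ : H → K) - (b.baseSupp j : H → K) -
        (b.baseSupp i : H → K)) = 0 := by rw [← h, sub_self]
    rw [← this]; abel
  -- the basis
  have hvW : ∀ k : Fin 3, ![⁅b.e j, ⁅b.e i, w₃⁆⁆, ⁅b.e i, w₃⁆, w₃] k ∈ W := by
    intro k
    fin_cases k
    · exact hE j _ (hE i _ hw₃W)
    · exact hE i _ hw₃W
    · exact hw₃W
  have hli := linearIndependent_of_weight_vectors W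
    ![(ρ : H → K), (ρ : H → K) - (b.baseSupp j : H → K),
      (ρ : H → K) - (b.baseSupp j : H → K) - (b.baseSupp i : H → K)]
    (injective_vec3 _ _ _ h01 h02 h12) ![⁅b.e j, ⁅b.e i, w₃⁆⁆, ⁅b.e i, w₃⁆, w₃] hvW
    (by
      intro k
      fin_cases k
      · exact hv₀
      · exact hv₁
      · exact hw₃)
    (by
      intro k
      fin_cases k
      · exact hi2
      · exact hi1
      · exact hw₃0)
  let B : Basis (Fin 3) K W := basisOfLinearIndependentOfCardEqFinrank hli (by simp [hW])
  have hB0 : ((B 0 : W) : L) = ⁅b.e j, ⁅b.e i, w₃⁆⁆ := by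
    simp only [B, coe_basisOfLinearIndependentOfCardEqFinrank]; rfl
  have hB1 : ((B 1 : W) : L) = ⁅b.e i, w₃⁆ := by
    simp only [B, coe_basisOfLinearIndependentOfCardEqFinrank]; rfl
  have hB2 : ((B 2 : W) : L) = w₃ := by
    simp only [B, coe_basisOfLinearIndependentOfCardEqFinrank]; rfl
  have hB0w : ((B 0 : W) : L) ∈ rootSpace H (ρ : H → K) := by rw [hB0]; exact hv₀
  have hB1w : ((B 1 : W) : L) ∈ rootSpace H ((ρ : H → K) - (b.baseSupp j : H → K)) := by
    rw [hB1]; exact hv₁
  have hB2w : ((B 2 : W) : L) ∈ rootSpace H ((ρ : H → K) - (b.baseSupp j : H → K) -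
      (b.baseSupp i : H → K)) := by
    rw [hB2]; exact hw₃
  -- polarised semi-invariance
  have hpol : ∀ (x : L) (hx : x ∈ H.toSubmodule ⊔ (b.borelUpper : Submodule K L)), ∃ c : K,
      ∀ u w : W, QuadraticMap.polar q ⟨⁅x, (u : L)⁆, hst x hx u u.property⟩ w +
        QuadraticMap.polar q ⟨⁅x, (w : L)⁆, hst x hx w w.property⟩ u =
        c * QuadraticMap.polar q u w := by
    intro x hx
    obtain ⟨c, hc⟩ := hq x hx
    refine ⟨c, fun u w => ?_⟩
    exact polarize q (fun w : W => ⟨⁅x, (w : L)⁆, hst x hx w w.property⟩)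
      (fun u w => Subtype.ext (by simp [lie_add])) c hc u w
  -- the Cartan part: nonzero entries have the same weight
  have hsum : ∀ (a a' a'' a''' : W) (χ χ' χ'' χ''' : H → K), (a : L) ∈ rootSpace H χ →
      (a' : L) ∈ rootSpace H χ' → (a'' : L) ∈ rootSpace H χ'' → (a''' : L) ∈ rootSpace H χ''' →
      QuadraticMap.polar q a a' ≠ 0 → QuadraticMap.polar q a'' a''' ≠ 0 →
      χ + χ' = χ'' + χ''' := by
    intro a a' a'' a''' χ χ' χ'' χ''' ha ha' ha'' ha''' hp hp'
    funext h
    obtain ⟨c, hc⟩ := hpol (h : L) (Submodule.mem_sup_left h.2)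
    have key : ∀ (a a' : W) (χ χ' : H → K), (a : L) ∈ rootSpace H χ →
        (a' : L) ∈ rootSpace H χ' → (χ h + χ' h) * QuadraticMap.polar q a a' =
          c * QuadraticMap.polar q a a' := by
      intro a a' χ χ' ha ha'
      have h1 := hc a a'
      have e1 : (⟨⁅(h : L), (a : L)⁆, hst (h : L) (Submodule.mem_sup_left h.2) a a.property⟩ : W) =
          χ h • a := by
        apply Subtype.ext
        have := IsKilling.lie_eq_smul_of_mem_rootSpace ha h
        simpa using this
      have e2 : (⟨⁅(h : L), (a' : L)⁆,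
          hst (h : L) (Submodule.mem_sup_left h.2) a' a'.property⟩ : W) = χ' h • a' := by
        apply Subtype.ext
        have := IsKilling.lie_eq_smul_of_mem_rootSpace ha' h
        simpa using this
      rw [e1, e2, QuadraticMap.polar_smul_left, QuadraticMap.polar_smul_left,
        QuadraticMap.polar_comm (⇑q) a' a] at h1
      simp only [smul_eq_mul] at h1
      linear_combination h1
    have k1 := key a a' χ χ' ha ha'
    have k2 := key a'' a''' χ'' χ''' ha'' ha'''
    have k1' := mul_right_cancel₀ hp k1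
    have k2' := mul_right_cancel₀ hp' k2
    simp only [Pi.add_apply]
    rw [k1', k2']
  -- the nilpotent part
  have hρi0 : ρ (b.h' i) = 0 := by
    by_contra hne
    exact hij ((hN i).mp hne)
  obtain ⟨cj, hcj⟩ := hpol (b.e j) (e_mem_borel b j)
  obtain ⟨ci, hci⟩ := hpol (b.e i) (e_mem_borel b i)
  have eT1 : (⟨⁅b.e j, ((B 1 : W) : L)⁆, hst (b.e j) (e_mem_borel b j) (B 1) (B 1).property⟩ : W) =
      B 0 := by
    apply Subtype.ext
    rw [hB0]
    show ⁅b.e j, ((B 1 : W) : L)⁆ = _
    rw [hB1]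
  have eT2 : (⟨⁅b.e j, ((B 2 : W) : L)⁆, hst (b.e j) (e_mem_borel b j) (B 2) (B 2).property⟩ : W) =
      0 := by
    apply Subtype.ext
    show ⁅b.e j, ((B 2 : W) : L)⁆ = 0
    have h1 : ⁅b.e j, ((B 2 : W) : L)⁆ ∈ rootSpace H ((b.baseSupp j : H → K) +
        ((ρ : H → K) - (b.baseSupp j : H → K) - (b.baseSupp i : H → K))) :=
      lie_mem_genWeightSpace_of_mem_genWeightSpace (e_mem_rootSpace b j) hB2w
    have h2 : (b.baseSupp j : H → K) + ((ρ : H → K) - (b.baseSupp j : H → K) -
        (b.baseSupp i : H → K)) = (ρ : H → K) - (b.baseSupp i : H → K) := by abel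
    rw [h2] at h1
    have h3 : rootSpace H ((ρ : H → K) - (b.baseSupp i : H → K)) = ⊥ :=
      not_not.mp ((rootSpace_sub_ne_bot_iff b ρ hρ htop i).not.mpr (not_not.mpr hρi0))
    rw [h3, LieSubmodule.mem_bot] at h1
    exact h1
  have eT3 : (⟨⁅b.e i, ((B 2 : W) : L)⁆, hst (b.e i) (e_mem_borel b i) (B 2) (B 2).property⟩ : W) =
      B 1 := by
    apply Subtype.ext
    rw [hB1]
    show ⁅b.e i, ((B 2 : W) : L)⁆ = _
    rw [hB2]
  have two_ne : (2 : K) ≠ 0 := two_ne_zero
  -- off-diagonal entries vanish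
  have P01 : QuadraticMap.polar q (B 0) (B 1) = 0 := by
    by_contra hne
    have P11 : QuadraticMap.polar q (B 1) (B 1) = 0 := by
      by_contra h11
      have := hsum (B 0) (B 1) (B 1) (B 1) _ _ _ _ hB0w hB1w hB1w hB1w hne h11
      exact h01 (add_right_cancel this)
    have h1 := hcj (B 1) (B 1)
    rw [eT1, P11, mul_zero] at h1
    apply hne
    have : (2 : K) * QuadraticMap.polar q (B 0) (B 1) = 0 := by linear_combination h1
    exact (mul_eq_zero.mp this).resolve_left two_ne
  have P02 : QuadraticMap.polar q (B 0) (B 2) = 0 := by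
    by_contra hne
    have P12 : QuadraticMap.polar q (B 1) (B 2) = 0 := by
      by_contra h12'
      have := hsum (B 0) (B 2) (B 1) (B 2) _ _ _ _ hB0w hB2w hB1w hB2w hne h12'
      exact h01 (add_right_cancel this)
    have h1 := hcj (B 1) (B 2)
    rw [eT1, eT2, QuadraticMap.polar_zero_left, P12, mul_zero, add_zero] at h1
    exact hne h1
  have P12 : QuadraticMap.polar q (B 1) (B 2) = 0 := by
    by_contra hne
    have P22 : QuadraticMap.polar q (B 2) (B 2) = 0 := by
      by_contra h22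
      have := hsum (B 1) (B 2) (B 2) (B 2) _ _ _ _ hB1w hB2w hB2w hB2w hne h22
      exact h12 (add_right_cancel this)
    have h1 := hci (B 2) (B 2)
    rw [eT3, P22, mul_zero] at h1
    apply hne
    have : (2 : K) * QuadraticMap.polar q (B 1) (B 2) = 0 := by linear_combination h1
    exact (mul_eq_zero.mp this).resolve_left two_ne
  -- at most one diagonal entry is nonzero
  have hdiag : ∀ (a a' : W) (χ χ' : H → K), (a : L) ∈ rootSpace H χ →
      (a' : L) ∈ rootSpace H χ' → χ ≠ χ' → q a = 0 ∨ q a' = 0 := by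
    intro a a' χ χ' ha ha' hne
    by_contra hcon
    push Not at hcon
    have p1 : QuadraticMap.polar q a a ≠ 0 := by
      rw [QuadraticMap.polar_self]
      simp only [nsmul_eq_mul, Nat.cast_ofNat]
      exact mul_ne_zero two_ne hcon.1
    have p2 : QuadraticMap.polar q a' a' ≠ 0 := by
      rw [QuadraticMap.polar_self]
      simp only [nsmul_eq_mul, Nat.cast_ofNat]
      exact mul_ne_zero two_ne hcon.2
    have := hsum a a a' a' χ χ χ' χ' ha ha ha' ha' p1 p2
    apply hne
    funext h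
    have h5 := congrFun this h
    simp only [Pi.add_apply] at h5
    have : (2 : K) * χ h = 2 * χ' h := by linear_combination h5
    exact mul_left_cancel₀ two_ne this
  exact quad_rank_one q B P01 P02 P12 (hdiag _ _ _ _ hB0w hB1w h01) (hdiag _ _ _ _ hB0w hB2w h02)
    (hdiag _ _ _ _ hB1w hB2w h12)

end Lie

end Groth.Agent.Helper7.AdjVar
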