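import Mathlib

set_option autoImplicit false

namespace Groth.Agent.Helper7.AdmSys

universe u v

theorem main (A : Type u) [CommRing A] [IsLocalRing A]
    (G : Type v) [Group G] [MulSemiringAction G A]
    (n : ℕ) (u : Fin n → A)
    (hu : Ideal.span (Set.range u) = IsLocalRing.maximalIdeal A)
    (htri : ∀ (σ : G) (i : Fin n),
      σ • u i ∈ Ideal.span (u '' {j | j ≤ i}) ⊔ IsLocalRing.maximalIdeal A ^ 2) :
    ∀ τ : Fin n → G,
      Ideal.span (Set.range fun i => τ i • u i) = IsLocalRing.maximalIdeal A := by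
  classical
  intro τ
  set m := IsLocalRing.maximalIdeal A with hm
  let M : Fin n → Ideal A := fun i => Ideal.span (u '' {j | j ≤ i}) ⊔ m ^ 2
  let M' : Fin n → Ideal A := fun i => Ideal.span (u '' {j | j < i}) ⊔ m ^ 2
  let N : Fin n → Ideal A := fun i => Ideal.span ((fun j => τ j • u j) '' {j | j ≤ i}) ⊔ m ^ 2
  let J : Ideal A := Ideal.span (Set.range fun i => τ i • u i)
  -- σ preserves m
  have hσm : ∀ σ : G, m ≤ m.comap (MulSemiringAction.toRingHom G A σ) := by
    intro σ a ha
    rw [Ideal.mem_comap, hm, IsLocalRing.mem_maximalIdeal, mem_nonunits_iff] at *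
    intro hunit
    apply ha
    have := hunit.map (MulSemiringAction.toRingHom G A σ⁻¹)
    simpa using this
  have hσm2 : ∀ σ : G, m ^ 2 ≤ (m ^ 2).comap (MulSemiringAction.toRingHom G A σ) := by
    intro σ
    exact (Ideal.pow_right_mono (hσm σ) 2).trans (Ideal.le_comap_pow _ 2)
  have hMmono : ∀ i j : Fin n, i ≤ j → M i ≤ M j := by
    intro i j hij
    apply sup_le_sup_right
    apply Ideal.span_mono
    apply Set.image_mono
    intro l hl
    exact le_trans hl hij
  have hMM' : ∀ i j : Fin n, j < i → M j ≤ M' i := by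
    intro i j hij
    apply sup_le_sup_right
    apply Ideal.span_mono
    apply Set.image_mono
    intro l hl
    exact lt_of_le_of_lt hl hij
  -- M' i is stable under σ
  have hM'stab : ∀ (σ : G) (i : Fin n), M' i ≤ (M' i).comap (MulSemiringAction.toRingHom G A σ) := by
    intro σ i
    apply sup_le
    · rw [Ideal.span_le]
      rintro _ ⟨j, hj, rfl⟩
      rw [SetLike.mem_coe, Ideal.mem_comap]
      exact hMM' i j hj (htri σ j)
    · exact (hσm2 σ).trans (Ideal.comap_mono le_sup_right)
  -- decomposition of M i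
  have hMdec : ∀ i : Fin n, M i = Ideal.span {u i} ⊔ M' i := by
    intro i
    have hset : {j : Fin n | j ≤ i} = {i} ∪ {j | j < i} := by
      ext j
      simp only [Set.mem_setOf_eq, Set.mem_union, Set.mem_singleton_iff]
      exact le_iff_eq_or_lt
    change Ideal.span (u '' {j | j ≤ i}) ⊔ m ^ 2 = Ideal.span {u i} ⊔ (Ideal.span (u '' {j | j < i}) ⊔ m ^ 2)
    rw [hset, Set.image_union, Set.image_singleton, Ideal.span_union, sup_assoc]
  -- Claim B
  have hB : ∀ i : Fin n, u i ∈ Ideal.span {τ i • u i} ⊔ M' i := by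
    intro i
    have h1 : (τ i)⁻¹ • u i ∈ M i := htri _ i
    rw [hMdec i] at h1
    obtain ⟨x, hx, y, hy, hxy⟩ := Submodule.mem_sup.mp h1
    obtain ⟨a, rfl⟩ := Ideal.mem_span_singleton'.mp hx
    have h2 : u i = τ i • (a * u i) + τ i • y := by
      rw [← smul_add, hxy, smul_inv_smul]
    have hgoal : τ i • (a * u i) + τ i • y ∈ Ideal.span {τ i • u i} ⊔ M' i := by
      apply Ideal.add_mem
      · rw [smul_mul']
        exact Ideal.mul_mem_left _ _ (Ideal.mem_sup_left (Ideal.mem_span_singleton_self _))
      · exact Ideal.mem_sup_right (hM'stab (τ i) i hy)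
    rwa [← h2] at hgoal
  -- Claim C
  have hNmono : ∀ i j : Fin n, i ≤ j → N i ≤ N j := by
    intro i j hij
    apply sup_le_sup_right
    apply Ideal.span_mono
    apply Set.image_mono
    intro l hl
    exact le_trans hl hij
  have hC : ∀ (k : ℕ) (i : Fin n), (i : ℕ) = k → M i ≤ N i := by
    intro k
    induction k using Nat.strong_induction_on with
    | _ k ih =>
      intro i hik
      have hM'N : M' i ≤ N i := by
        apply sup_le
        · rw [Ideal.span_le]
          rintro _ ⟨j, hj, rfl⟩
          have hjk : (j : ℕ) < k := by rw [← hik]; exact hj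
          have h1 : u j ∈ M j :=
            Ideal.mem_sup_left (Ideal.subset_span ⟨j, le_refl j, rfl⟩)
          exact hNmono j i (le_of_lt hj) (ih j hjk j rfl h1)
        · exact le_sup_right
      rw [hMdec i]
      apply sup_le
      · rw [Ideal.span_le, Set.singleton_subset_iff]
        have hτN : Ideal.span {τ i • u i} ≤ N i := by
          rw [Ideal.span_le, Set.singleton_subset_iff]
          exact Ideal.mem_sup_left (Ideal.subset_span ⟨i, le_refl i, rfl⟩)
        exact (sup_le hτN hM'N) (hB i)
      · exact hM'N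
  have hNJ : ∀ i, N i ≤ J ⊔ m ^ 2 := by
    intro i
    apply sup_le_sup_right
    apply Ideal.span_mono
    rintro _ ⟨j, _, rfl⟩
    exact ⟨j, rfl⟩
  have hJm : J ≤ m := by
    rw [Ideal.span_le]
    rintro _ ⟨i, rfl⟩
    have h1 : m ^ 2 ≤ m := Ideal.pow_le_self (by norm_num)
    have h2 : Ideal.span (u '' {j | j ≤ i}) ≤ m := by
      rw [← hu]
      exact Ideal.span_mono (Set.image_subset_range _ _)
    exact (sup_le h2 h1) (htri (τ i) i)
  have hmJ : m ≤ J ⊔ m • m := by
    rw [← hu, Ideal.span_le]
    rintro _ ⟨i, rfl⟩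
    have h1 : u i ∈ M i := Ideal.mem_sup_left (Ideal.subset_span ⟨i, le_refl i, rfl⟩)
    have h2 := hNJ i (hC i i rfl h1)
    rwa [pow_two, ← hu] at h2
  apply le_antisymm hJm
  have hfg : (m : Submodule A A).FG := by
    rw [← hu]
    exact Submodule.fg_span (Set.finite_range u)
  exact Submodule.le_of_le_smul_of_le_jacobson_bot hfg (IsLocalRing.maximalIdeal_le_jacobson _) hmJ

end Groth.Agent.Helper7.AdmSys
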