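import Mathlib
import Groth.Agent.Helper7.Admis1
import Groth.Agent.S3435

/-!
# `⋂ k_α(K^p) = k₀(K^p)` passes to extensions with finite imperfection module
-/

set_option autoImplicit false
set_option linter.unusedSectionVars false
universe u

namespace Groth.Agent.Helper7.Admis

open TensorProduct KaehlerDifferential EGA41 Groth.Agent.Helper1.PBasis
  Groth.Agent.Helper1.PBasisField Groth.Agent.Helper7.AdJac

section Nat

variable {R S k A : Type*} [CommRing R] [CommRing S] [CommRing k] [CommRing A]
  [Algebra R S] [Algebra S k] [Algebra R k] [IsScalarTower R S k]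
  [Algebra k A] [Algebra S A] [Algebra R A] [IsScalarTower S k A] [IsScalarTower R k A]
  [IsScalarTower R S A]

theorem map_map_nat' (ω : Ω[k⁄R]) :
    KaehlerDifferential.map R S A A (KaehlerDifferential.map R R k A ω) =
      KaehlerDifferential.map S S k A (KaehlerDifferential.map R S k k ω) := by
  have hs : ω ∈ Submodule.span k (Set.range (KaehlerDifferential.D R k)) := by
    rw [KaehlerDifferential.span_range_derivation]; trivial
  induction hs using Submodule.span_induction with
  | mem s hs =>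
    obtain ⟨a, rfl⟩ := hs
    rw [KaehlerDifferential.map_D, KaehlerDifferential.map_D, KaehlerDifferential.map_D,
      KaehlerDifferential.map_D]
    rfl
  | zero => simp only [map_zero]
  | add x y _ _ hx hy => simp only [map_add, hx, hy]
  | smul c s _ hs =>
    rw [map_smul, ← algebraMap_smul A c, map_smul, hs, map_smul, map_smul, algebraMap_smul]

theorem map_mapBaseChange' (x : A ⊗[k] Ω[k⁄R]) :
    KaehlerDifferential.map R S A A (mapBaseChange R k A x) =
      mapBaseChange S k A ((KaehlerDifferential.map R S k k).baseChange A x) := by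
  induction x using TensorProduct.induction_on with
  | zero => simp only [map_zero]
  | add x y hx hy => simp only [map_add, hx, hy]
  | tmul a ω =>
    rw [mapBaseChange_tmul, map_smul, LinearMap.baseChange_tmul, mapBaseChange_tmul, map_map_nat']

end Nat

section Main

variable (p : ℕ) [hp : Fact p.Prime] {k₀ K L : Type u} [Field k₀] [Field K] [Field L]
  [Algebra k₀ K] [Algebra K L] [Algebra k₀ L] [IsScalarTower k₀ K L] [CharP K p] [CharP L p]
  {ι : Type u} [Preorder ι] [IsDirected ι (· ≤ ·)] [Nonempty ι]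
  (k : ι → IntermediateField k₀ K)

theorem sep_of_finite (hk : Antitone k)
    (h : (⨅ i, k i ⊔ Pfield p (k₀ := k₀) (K := K)) = Pfield p)
    (hfin : Module.Finite L (imperfection k₀ K L))
    (ω : Ω[L⁄k₀]) (hω : ∀ i, KaehlerDifferential.map k₀ (k i) L L ω = 0) : ω = 0 := by
  -- Step 1
  have h1 : ω ∈ LinearMap.range (mapBaseChange k₀ K L) := by
    rw [range_mapBaseChange, LinearMap.mem_ker]
    obtain ⟨i⟩ := ‹Nonempty ι›
    rw [← map_map_eq (R := k₀) (R' := k i) (S := K) (K := L), hω i, map_zero]
  obtain ⟨η, rfl⟩ := h1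
  -- Step 2
  obtain ⟨i₀, hi₀⟩ := exists_admissible p k hk h L hfin
  -- Step 3
  have h3 : ∀ i, ∃ υ ∈ imperfection k₀ K L, gmap k L i (η - υ) = 0 := by
    intro i
    have hmem : gmap k L i η ∈ imperfection (k i) K L := by
      change mapBaseChange (k i) K L (gmap k L i η) = 0
      have := map_mapBaseChange' (R := k₀) (S := k i) (k := K) (A := L) η
      rw [hω i] at this
      exact this.symm
    obtain ⟨υ, hυ, hυ'⟩ := Groth.Agent.S3435.result k₀ (k i) K L _ hmem
    refine ⟨υ, hυ, ?_⟩
    rw [map_sub, sub_eq_zero]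
    exact hυ'.symm
  obtain ⟨υ, hυ, hυ0⟩ := h3 i₀
  have h4 : ∀ i, i₀ ≤ i → gmap k L i (η - υ) = 0 := by
    intro i hi
    obtain ⟨υi, hυi, hυi0⟩ := h3 i
    have e : υi - υ = 0 := by
      apply hi₀ _ (sub_mem hυi hυ)
      have e1 : υi - υ = (η - υ) - (η - υi) := by abel
      rw [e1, map_sub, hυ0, gmap_mono k hk L hi _ hυi0, sub_zero]
    rw [sub_eq_zero] at e
    rw [← e]
    exact hυi0
  have h5 : η - υ = 0 := by
    apply gmap_sep p k hk h L
    intro i
    obtain ⟨c, hic, hi₀c⟩ := directed_of (· ≤ ·) i i₀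
    exact gmap_mono k hk L hic _ (h4 c hi₀c)
  rw [sub_eq_zero] at h5
  rw [h5]
  exact hυ

theorem iInf_eq_of_finite (hk : Antitone k)
    (h : (⨅ i, k i ⊔ Pfield p (k₀ := k₀) (K := K)) = Pfield p)
    (hfin : Module.Finite L (imperfection k₀ K L)) :
    (⨅ i, (k i).map (IsScalarTower.toAlgHom k₀ K L) ⊔ Pfield p (k₀ := k₀) (K := L)) =
      Pfield p := by
  apply iInf_eq_of_injective p (fun i => (k i).map (IsScalarTower.toAlgHom k₀ K L))
  intro ω hω
  apply sep_of_finite p k hk h hfin ω
  intro i
  refine map_eq_zero_of_range_le (S := ((k i).map (IsScalarTower.toAlgHom k₀ K L))) ?_ ω (hω i)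
  rintro _ ⟨⟨s, t, ht, rfl⟩, rfl⟩
  exact ⟨⟨t, ht⟩, rfl⟩

end Main

end Groth.Agent.Helper7.Admis
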