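import Mathlib

set_option autoImplicit false
universe u v w
open TensorProduct

namespace Groth.Agent.Helper7.AlphaSimple

section Prim

variable {k : Type u} [Field k] {A : Type v} [CommRing A] [HopfAlgebra k A]

/-- `x` is primitive. -/
def Prim (x : A) : Prop := Coalgebra.comul (R := k) x = x ⊗ₜ[k] (1 : A) + (1 : A) ⊗ₜ[k] x

variable (k) in
lemma counit_prim [Nontrivial A] {x : A} (hx : Prim (k := k) x) : Coalgebra.counit (R := k) x = 0 := by
  have h1 := Coalgebra.rTensor_counit_comul (R := k) x
  rw [hx, map_add, LinearMap.rTensor_tmul, LinearMap.rTensor_tmul, Bialgebra.counit_one] at h1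
  have h2 : (Coalgebra.counit (R := k) x) ⊗ₜ[k] (1 : A) = 0 := by
    have := add_right_cancel (b := (1 : k) ⊗ₜ[k] x) (a := Coalgebra.counit (R := k) x ⊗ₜ[k] (1 : A))
      (c := 0) (by rw [zero_add]; exact h1)
    exact this
  have h3 := congrArg (TensorProduct.lid k A) h2
  rw [TensorProduct.lid_tmul, map_zero] at h3
  by_contra hne
  have : (1 : A) = 0 := by
    have := congrArg (fun a => (Coalgebra.counit (R := k) x)⁻¹ • a) h3
    simp [smul_smul, inv_mul_cancel₀ hne] at this
  exact one_ne_zero this

variable (k) in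
lemma antipode_prim [Nontrivial A] {x : A} (hx : Prim (k := k) x) :
    HopfAlgebra.antipode k x = -x := by
  have h1 := HopfAlgebra.mul_antipode_rTensor_comul_apply (R := k) x
  rw [hx, map_add, LinearMap.rTensor_tmul, LinearMap.rTensor_tmul, map_add,
    LinearMap.mul'_apply, LinearMap.mul'_apply, HopfAlgebra.antipode_one, counit_prim k hx,
    map_zero, mul_one, one_mul] at h1
  exact eq_neg_of_add_eq_zero_left h1

variable (k) in
lemma prim_pow_char (p : ℕ) [Fact p.Prime] [CharP k p] [Nontrivial A] {x : A}
    (hx : Prim (k := k) x) : Prim (k := k) (x ^ p) := by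
  have hinj : Function.Injective (algebraMap k (A ⊗[k] A)) := (algebraMap k (A ⊗[k] A)).injective
  have : CharP (A ⊗[k] A) p := charP_of_injective_algebraMap hinj p
  unfold Prim
  have h1 : Coalgebra.comul (R := k) (x ^ p) = (Coalgebra.comul (R := k) x) ^ p := by
    rw [← Bialgebra.comulAlgHom_apply, map_pow]
    rfl
  rw [h1, hx, add_pow_char, Algebra.TensorProduct.tmul_pow, Algebra.TensorProduct.tmul_pow,
    one_pow]

/-- The ideal generated by a primitive element is a Hopf ideal. -/
lemma isHopfIdeal_span_prim [Nontrivial A] {x : A} (hx : Prim (k := k) x) :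
    (Ideal.span ({x} : Set A)).IsHopfIdeal k := by
  have hc := counit_prim k hx
  refine { counit_eq_zero := ?_, map_mkQ_comul_eq_zero := ?_, antipode_mem := ?_ }
  · intro a ha
    obtain ⟨b, rfl⟩ := Ideal.mem_span_singleton'.1 ha
    change Coalgebra.counit (R := k) (b * x) = 0
    rw [Bialgebra.counit_mul, hc, mul_zero]
  · intro a ha
    obtain ⟨b, rfl⟩ := Ideal.mem_span_singleton'.1 ha
    set I := Ideal.span ({x} : Set A)
    change ((Algebra.TensorProduct.map (Ideal.Quotient.mkₐ k I) (Ideal.Quotient.mkₐ k I)).comp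
      (Bialgebra.comulAlgHom k A)) (b * x) = 0
    rw [map_mul]
    have : ((Algebra.TensorProduct.map (Ideal.Quotient.mkₐ k I) (Ideal.Quotient.mkₐ k I)).comp
      (Bialgebra.comulAlgHom k A)) x = 0 := by
      have hx0 : Ideal.Quotient.mk I x = 0 :=
        Ideal.Quotient.eq_zero_iff_mem.2 (Ideal.subset_span rfl)
      simp only [AlgHom.coe_comp, Function.comp_apply, Bialgebra.comulAlgHom_apply]
      rw [hx, map_add, Algebra.TensorProduct.map_tmul, Algebra.TensorProduct.map_tmul]
      simp only [Ideal.Quotient.mkₐ_eq_mk, hx0, TensorProduct.zero_tmul, TensorProduct.tmul_zero,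
        add_zero]
    rw [this, mul_zero]
  · intro a ha
    obtain ⟨b, rfl⟩ := Ideal.mem_span_singleton'.1 ha
    have : HopfAlgebra.antipode k (b * x) = HopfAlgebra.antipode k b * HopfAlgebra.antipode k x :=
      HopfAlgebra.antipode_mul_distrib b x
    rw [this, antipode_prim k hx, mul_neg]
    exact neg_mem (Ideal.mul_mem_left _ _ (Ideal.subset_span rfl))

end Prim


section Struct

open Polynomial

variable {k : Type u} [Field k] {A : Type v} [CommRing A] [Algebra k A] [Nontrivial A]

/-- The minimal polynomial of a nilpotent element is a power of `X`. -/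
lemma minpoly_eq_X_pow {x : A} {M : ℕ} (hM : x ^ M = 0) :
    ∃ d ≤ M, minpoly k x = X ^ d := by
  have hdvd : minpoly k x ∣ X ^ M := minpoly.dvd k x (by simp [hM])
  obtain ⟨d, hd, hass⟩ := (dvd_prime_pow Polynomial.prime_X M).1 hdvd
  have hint : IsIntegral k x := ⟨X ^ M, monic_X_pow M, by simp [hM]⟩
  exact ⟨d, hd, eq_of_monic_of_associated (minpoly.monic hint) (monic_X_pow d) hass⟩

/-- Nilpotency index data: `x^d = 0` and `1, …, x^(d-1)` linearly independent. -/
lemma exists_index {x : A} {M : ℕ} (hM : x ^ M = 0) :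
    ∃ d ≤ M, x ^ d = 0 ∧ LinearIndependent k (fun i : Fin d => x ^ (i : ℕ)) := by
  obtain ⟨d, hd, hmin⟩ := minpoly_eq_X_pow (k := k) hM
  refine ⟨d, hd, ?_, ?_⟩
  · have := minpoly.aeval k x
    rw [hmin] at this
    simpa using this
  · have h := linearIndependent_pow (K := k) x
    have hdeg : (minpoly k x).natDegree = d := by rw [hmin, natDegree_X_pow]
    rw [hdeg] at h
    exact h

end Struct


section Main

variable {k : Type u} [Field k] {A : Type v} [CommRing A] [HopfAlgebra k A]

lemma ker_counit_eq_maximalIdeal [IsLocalRing A] :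
    RingHom.ker (Bialgebra.counitAlgHom k A) = IsLocalRing.maximalIdeal A := by
  have hsurj : Function.Surjective (Bialgebra.counitAlgHom k A) := fun r =>
    ⟨algebraMap k A r, by simp⟩
  have : (RingHom.ker (Bialgebra.counitAlgHom k A)).IsMaximal :=
    RingHom.ker_isMaximal_of_surjective _ hsurj
  exact IsLocalRing.eq_maximalIdeal this

/-- comultiplication of a power of a primitive element, after applying `λ ⊗ id`. -/
lemma lid_rTensor_comul_pow {x : A} (hx : Prim (k := k) x) (lam : A →ₗ[k] k) (d : ℕ) :
    TensorProduct.lid k A (lam.rTensor A (Coalgebra.comul (R := k) (x ^ d))) =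
      ∑ i ∈ Finset.range (d + 1), (lam (x ^ i) * (d.choose i : k)) • x ^ (d - i) := by
  have h1 : Coalgebra.comul (R := k) (x ^ d) = (Coalgebra.comul (R := k) x) ^ d := by
    rw [← Bialgebra.comulAlgHom_apply, map_pow]
    rfl
  rw [h1, hx, (Commute.all _ _).add_pow, map_sum, map_sum]
  apply Finset.sum_congr rfl
  intro i _
  rw [Algebra.TensorProduct.tmul_pow, Algebra.TensorProduct.tmul_pow, one_pow, one_pow,
    Algebra.TensorProduct.tmul_mul_tmul, mul_one, one_mul]
  have : ((x ^ i) ⊗ₜ[k] (x ^ (d - i)) : A ⊗[k] A) * (d.choose i : A ⊗[k] A) =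
      (d.choose i : k) • ((x ^ i) ⊗ₜ[k] (x ^ (d - i))) := by
    rw [mul_comm, ← nsmul_eq_mul, Nat.cast_smul_eq_nsmul]
  rw [this, map_smul, map_smul, LinearMap.rTensor_tmul, TensorProduct.lid_tmul, smul_smul, mul_comm]

theorem main (p : ℕ) [Fact p.Prime] [CharP k p] [FiniteDimensional k A] [IsLocalRing A]
    (hsimple : ∀ I : Ideal A, I.IsHopfIdeal k →
      I = ⊥ ∨ I = RingHom.ker (Bialgebra.counitAlgHom k A))
    (x : A) (hx0 : x ≠ 0) (hx : Prim (k := k) x) :
    x ^ p = 0 ∧ LinearIndependent k (fun i : Fin p => x ^ (i : ℕ)) ∧ Module.finrank k A = p := by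
  have hp := (Fact.out : p.Prime)
  have hm := ker_counit_eq_maximalIdeal (k := k) (A := A)
  have hxm : x ∈ IsLocalRing.maximalIdeal A := by
    rw [← hm]
    exact counit_prim k hx
  -- `(x) = m`
  have hspan : Ideal.span ({x} : Set A) = RingHom.ker (Bialgebra.counitAlgHom k A) := by
    rcases hsimple _ (isHopfIdeal_span_prim hx) with h | h
    · exfalso
      apply hx0
      have : x ∈ Ideal.span ({x} : Set A) := Ideal.subset_span rfl
      rw [h] at this
      exact this
    · exact h
  -- `x^p = 0`
  have hxp : x ^ p = 0 := by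
    rcases hsimple _ (isHopfIdeal_span_prim (prim_pow_char k p hx)) with h | h
    · have : x ^ p ∈ Ideal.span ({x ^ p} : Set A) := Ideal.subset_span rfl
      rw [h] at this
      exact this
    · exfalso
      apply hx0
      have h1 : x ∈ Ideal.span ({x ^ p} : Set A) := by
        rw [h, ← hspan]
        exact Ideal.subset_span rfl
      obtain ⟨c, hc⟩ := Ideal.mem_span_singleton'.1 h1
      have h2 : x * (1 - c * x ^ (p - 1)) = 0 := by
        have : x ^ p = x ^ (p - 1) * x := by
          rw [← pow_succ]
          congr 1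
          have := hp.two_le
          omega
        rw [this] at hc
        rw [mul_sub, mul_one, sub_eq_zero]
        conv_lhs => rw [← hc]
        ring
      have h3 : c * x ^ (p - 1) ∈ IsLocalRing.maximalIdeal A := by
        apply Ideal.mul_mem_left
        apply Ideal.pow_mem_of_mem _ hxm
        have := hp.two_le
        omega
      have h4 : IsUnit (1 - c * x ^ (p - 1)) := by
        have := IsLocalRing.isUnit_one_sub_self_of_mem_nonunits _ h3
        exact this
      exact h4.mul_left_eq_zero.1 h2
  obtain ⟨d, hdp, hxd, hli⟩ := exists_index (k := k) hxp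
  have hd2 : 2 ≤ d := by
    by_contra hlt
    push Not at hlt
    interval_cases d
    · rw [pow_zero] at hxd
      exact one_ne_zero hxd
    · rw [pow_one] at hxd
      exact hx0 hxd
  -- the functional dual to `x`
  have hinj : LinearMap.ker (Fintype.linearCombination k (fun i : Fin d => x ^ (i : ℕ))) = ⊥ := by
    rw [LinearMap.ker_eq_bot, injective_iff_map_eq_zero]
    intro c hc
    rw [Fintype.linearCombination_apply] at hc
    funext i
    exact Fintype.linearIndependent_iff.1 hli c hc i
  obtain ⟨g, hg⟩ := LinearMap.exists_leftInverse_of_injective _ hinj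
  let lam : A →ₗ[k] k := (LinearMap.proj (⟨1, by omega⟩ : Fin d)) ∘ₗ g
  have hlam : ∀ i : Fin d, lam (x ^ (i : ℕ)) = if (i : ℕ) = 1 then 1 else 0 := by
    intro i
    have h1 : Fintype.linearCombination k (fun i : Fin d => x ^ (i : ℕ)) (Pi.single i 1) = x ^ (i : ℕ) := by
      simp [Fintype.linearCombination_apply]
    have h2 := congrArg (fun f => f (Pi.single i (1 : k))) hg
    simp only [LinearMap.coe_comp, Function.comp_apply, LinearMap.id_coe, id_eq] at h2
    rw [h1] at h2
    change (g (x ^ (i : ℕ))) ⟨1, _⟩ = _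
    rw [h2, Pi.single_apply]
    by_cases hi : (i : ℕ) = 1
    · rw [if_pos hi, if_pos]
      exact Fin.ext hi.symm
    · rw [if_neg hi, if_neg]
      intro h
      exact hi (by rw [← h])
  have hsum := lid_rTensor_comul_pow hx lam d
  rw [hxd, map_zero, map_zero, map_zero] at hsum
  have hsum2 : ∑ i ∈ Finset.range (d + 1), (lam (x ^ i) * (d.choose i : k)) • x ^ (d - i) =
      (d : k) • x ^ (d - 1) := by
    rw [Finset.sum_eq_single 1]
    · have := hlam ⟨1, by omega⟩
      rw [pow_one] at this ⊢
      rw [this, if_pos rfl, one_mul, Nat.choose_one_right]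
    · intro i hi hi1
      rw [Finset.mem_range] at hi
      rcases Nat.lt_succ_iff_lt_or_eq.1 hi with h | h
      · have := hlam ⟨i, h⟩
        simp only at this
        rw [this, if_neg hi1, zero_mul, zero_smul]
      · rw [h, hxd, map_zero, zero_mul, zero_smul]
    · intro h
      exfalso
      apply h
      rw [Finset.mem_range]
      omega
  rw [hsum2] at hsum
  have hne : x ^ (d - 1) ≠ 0 := hli.ne_zero (⟨d - 1, by omega⟩ : Fin d)
  have hd0 : (d : k) = 0 := by
    rcases smul_eq_zero.1 hsum.symm with h | h
    · exact h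
    · exact absurd h hne
  have hpd : p ∣ d := (CharP.cast_eq_zero_iff k p d).1 hd0
  have hdp' : d = p := le_antisymm hdp (Nat.le_of_dvd (by omega) hpd)
  subst hdp'
  refine ⟨hxp, hli, ?_⟩
  -- spanning
  have hspan_top : ⊤ ≤ Submodule.span k (Set.range (fun i : Fin d => x ^ (i : ℕ))) := by
    have key : ∀ j : ℕ, j ≤ d → ∀ a : A, ∃ s ∈ Submodule.span k (Set.range (fun i : Fin d => x ^ (i : ℕ))),
        ∃ b : A, a = s + x ^ j * b := by
      intro j
      induction j with
      | zero => intro _ a; exact ⟨0, Submodule.zero_mem _, a, by simp⟩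
      | succ j ih =>
        intro hj a
        obtain ⟨s, hs, b, hab⟩ := ih (by omega) a
        have hb : b - algebraMap k A (Coalgebra.counit (R := k) b) ∈ Ideal.span ({x} : Set A) := by
          rw [hspan, RingHom.mem_ker]
          simp
        obtain ⟨c, hc⟩ := Ideal.mem_span_singleton'.1 hb
        refine ⟨s + (Coalgebra.counit (R := k) b) • x ^ j, ?_, c, ?_⟩
        · apply Submodule.add_mem _ hs
          apply Submodule.smul_mem
          apply Submodule.subset_span
          exact ⟨⟨j, by omega⟩, rfl⟩
        · rw [hab]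
          have : b = algebraMap k A (Coalgebra.counit (R := k) b) + c * x := by rw [hc]; ring
          conv_lhs => rw [this]
          rw [Algebra.smul_def, pow_succ]
          ring
    rintro a -
    obtain ⟨s, hs, b, hab⟩ := key d le_rfl a
    rw [hab, hxp, zero_mul, add_zero]
    exact hs
  have := Module.finrank_eq_card_basis (Module.Basis.mk hli hspan_top)
  rw [this, Fintype.card_fin]

end Main

end Groth.Agent.Helper7.AlphaSimple
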