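import Mathlib
import Groth.Agent.Helper7.MilnorGlue
import Groth.Agent.Helper7.MilnorFlat

/-! Flatness over Artinian local rings, tested on the residue field. -/

universe u v

open TensorProduct

namespace Groth.Agent.Helper7.ArtFlat

open Groth.Agent.Helper7.MilnorGlue Groth.Agent.Helper7.MilnorFlat Groth.Agent.Helper7.FlatMilnor2

section

variable (A : Type u) [CommRing A] [IsLocalRing A] [IsArtinianRing A]

/-- Lemma A: if `N` is flat and `k ⊗ M → k ⊗ N` is injective then `T ⊗ M → T ⊗ N` is injective
for every finitely generated `T`. -/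
theorem lTensor_injective_of_residue {M N : Type v} [AddCommGroup M] [Module A M]
    [AddCommGroup N] [Module A N] [Module.Flat A N] (f : M →ₗ[A] N)
    (hk : Function.Injective (f.lTensor (IsLocalRing.ResidueField A)))
    (T : Type u) [AddCommGroup T] [Module A T] (hT : Module.Finite A T) :
    Function.Injective (f.lTensor T) := by
  induction hT using IsNoetherianRing.induction_on_isQuotientEquivQuotientPrime A with
  | subsingleton T =>
    intro x y _
    exact Subsingleton.elim _ _
  | quotient T p e =>
    have hp : p.asIdeal = IsLocalRing.maximalIdeal A :=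
      IsLocalRing.eq_maximalIdeal (IsArtinianRing.isMaximal_of_isPrime p.asIdeal)
    let e' : T ≃ₗ[A] IsLocalRing.ResidueField A :=
      e ≪≫ₗ (Submodule.quotEquivOfEq _ _ hp)
    have hcomm : (LinearMap.rTensor N e'.toLinearMap) ∘ₗ (f.lTensor T) =
        (f.lTensor (IsLocalRing.ResidueField A)) ∘ₗ (LinearMap.rTensor M e'.toLinearMap) := by
      rw [LinearMap.rTensor_comp_lTensor, LinearMap.lTensor_comp_rTensor]
    have h1 : Function.Injective ((f.lTensor (IsLocalRing.ResidueField A)) ∘
        (LinearMap.rTensor M e'.toLinearMap)) :=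
      hk.comp (LinearEquiv.rTensor M e').injective
    rw [← LinearMap.coe_comp, ← hcomm, LinearMap.coe_comp] at h1
    exact Function.Injective.of_comp h1
  | exact T₁ T₂ T₃ i q hi hq hiq h₁ h₃ =>
    rw [injective_iff_map_eq_zero]
    intro x hx
    have h3 : LinearMap.rTensor M q x = 0 := by
      apply h₃
      rw [map_zero, ← LinearMap.comp_apply, LinearMap.lTensor_comp_rTensor,
        ← LinearMap.rTensor_comp_lTensor, LinearMap.comp_apply, hx, map_zero]
    obtain ⟨x', rfl⟩ := (rTensor_exact M hiq hq x).1 h3
    have h4 : LinearMap.rTensor N i (f.lTensor T₁ x') = 0 := by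
      rw [← LinearMap.comp_apply, LinearMap.rTensor_comp_lTensor, ← LinearMap.lTensor_comp_rTensor,
        LinearMap.comp_apply, hx]
    have h5 : f.lTensor T₁ x' = 0 :=
      (Module.Flat.rTensor_preserves_injective_linearMap i hi) (by rw [h4, map_zero])
    have h6 : x' = 0 := h₁ (by rw [h5, map_zero])
    rw [h6, map_zero]

/-- injectivity can be tested on the residue field (target flat) -/
theorem injective_of_residue {M N : Type v} [AddCommGroup M] [Module A M]
    [AddCommGroup N] [Module A N] [Module.Flat A N] (f : M →ₗ[A] N)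
    (hk : Function.Injective (f.lTensor (IsLocalRing.ResidueField A))) :
    Function.Injective f := by
  have h := lTensor_injective_of_residue A f hk A inferInstance
  intro x y hxy
  have : f.lTensor A ((1 : A) ⊗ₜ[A] x) = f.lTensor A ((1 : A) ⊗ₜ[A] y) := by
    rw [LinearMap.lTensor_tmul, LinearMap.lTensor_tmul, hxy]
  have h2 := h this
  have h3 := congrArg (TensorProduct.lid A M) h2
  simpa using h3

lemma ker_residue : RingHom.ker (algebraMap A (IsLocalRing.ResidueField A)) =
    IsLocalRing.maximalIdeal A := by
  ext x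
  rw [RingHom.mem_ker]
  exact IsLocalRing.residue_eq_zero_iff x

lemma residue_surjective : Function.Surjective (algebraMap A (IsLocalRing.ResidueField A)) :=
  IsLocalRing.residue_surjective

/-- Nakayama for the nilpotent maximal ideal, arbitrary modules -/
theorem eq_bot_of_top_le_smul {C : Type v} [AddCommGroup C] [Module A C]
    (h : (⊤ : Submodule A C) ≤ (IsLocalRing.maximalIdeal A) • (⊤ : Submodule A C)) :
    Subsingleton C := by
  have hnil : IsNilpotent (IsLocalRing.maximalIdeal A) := by
    rw [← IsLocalRing.jacobson_eq_maximalIdeal (⊥ : Ideal A) bot_ne_top]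
    exact IsArtinianRing.isNilpotent_jacobson_bot
  obtain ⟨n, hn⟩ := hnil
  have hpow : ∀ m : ℕ, (⊤ : Submodule A C) ≤ (IsLocalRing.maximalIdeal A) ^ m • (⊤ : Submodule A C) := by
    intro m
    induction m with
    | zero => rw [pow_zero, Ideal.one_eq_top, Submodule.top_smul]
    | succ m ih =>
      calc (⊤ : Submodule A C) ≤ (IsLocalRing.maximalIdeal A) • (⊤ : Submodule A C) := h
        _ ≤ (IsLocalRing.maximalIdeal A) • ((IsLocalRing.maximalIdeal A) ^ m • (⊤ : Submodule A C)) :=
          smul_mono_right _ ih
        _ = (IsLocalRing.maximalIdeal A) ^ (m + 1) • (⊤ : Submodule A C) := by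
          rw [← Submodule.mul_smul, ← pow_succ']
  have := hpow n
  rw [hn, Ideal.zero_eq_bot, Submodule.bot_smul] at this
  have h0 : ∀ c : C, c = 0 := fun c => (Submodule.mem_bot A).1 (this trivial)
  exact ⟨fun a b => by rw [h0 a, h0 b]⟩

/-- surjectivity can be tested on the residue field -/
theorem surjective_of_residue {M N : Type v} [AddCommGroup M] [Module A M]
    [AddCommGroup N] [Module A N] (f : M →ₗ[A] N)
    (hk : Function.Surjective (f.lTensor (IsLocalRing.ResidueField A))) :
    Function.Surjective f := by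
  have hC : Subsingleton (N ⧸ LinearMap.range f) := by
    apply eq_bot_of_top_le_smul A
    rintro c -
    obtain ⟨l, rfl⟩ := Submodule.mkQ_surjective _ c
    obtain ⟨z, hz⟩ := hk ((1 : IsLocalRing.ResidueField A) ⊗ₜ[A] l)
    obtain ⟨p, rfl⟩ := exists_one_tmul (residue_surjective A) z
    rw [LinearMap.lTensor_tmul] at hz
    have h0 : ((1 : IsLocalRing.ResidueField A) ⊗ₜ[A] (l - f p) :
        IsLocalRing.ResidueField A ⊗[A] N) = 0 := by
      rw [TensorProduct.tmul_sub, hz, sub_self]
    have hmem := mem_ker_smul_top_of_one_tmul_eq_zero (residue_surjective A) _ h0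
    rw [ker_residue] at hmem
    have h1 : (LinearMap.range f).mkQ l = (LinearMap.range f).mkQ (l - f p) := by
      rw [map_sub, eq_comm, sub_eq_self]
      exact (Submodule.Quotient.mk_eq_zero _).2 (LinearMap.mem_range_self f p)
    rw [h1]
    have h2 := Submodule.mem_map_of_mem (f := (LinearMap.range f).mkQ) hmem
    rw [Submodule.map_smul''] at h2
    have hle : (IsLocalRing.maximalIdeal A) • Submodule.map (LinearMap.range f).mkQ ⊤ ≤
        (IsLocalRing.maximalIdeal A) • (⊤ : Submodule A (N ⧸ LinearMap.range f)) :=
      smul_mono_right _ le_top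
    exact hle h2
  rw [← LinearMap.range_eq_top]
  exact Submodule.Quotient.subsingleton_iff.1 hC

end

/-- Lemma B: for `0 → M → N → P → 0` exact with `N` flat, if `(R/I) ⊗ M → (R/I) ⊗ N` is injective for
every ideal `I` then `P` is flat. -/
theorem flat_of_quotient_lTensor_injective {R : Type u} [CommRing R] {M N P : Type v}
    [AddCommGroup M] [Module R M] [AddCommGroup N] [Module R N] [AddCommGroup P] [Module R P]
    [Module.Flat R N] (f : M →ₗ[R] N) (g : N →ₗ[R] P) (hg : Function.Surjective g)
    (hfg : Function.Exact f g)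
    (hI : ∀ I : Ideal R, Function.Injective (f.lTensor (R ⧸ I))) : Module.Flat R P := by
  rw [Module.Flat.iff_rTensor_injective']
  intro I
  rw [injective_iff_map_eq_zero]
  intro z hz
  obtain ⟨y, rfl⟩ := LinearMap.lTensor_surjective I hg z
  have h1 : g.lTensor R (LinearMap.rTensor N I.subtype y) = 0 := by
    rw [← LinearMap.comp_apply, LinearMap.lTensor_comp_rTensor, ← LinearMap.rTensor_comp_lTensor,
      LinearMap.comp_apply, hz]
  obtain ⟨m', hm'⟩ := (lTensor_exact R hfg hg _).1 h1
  have h2 : LinearMap.rTensor M I.mkQ m' = 0 := by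
    apply hI I
    rw [map_zero, ← LinearMap.comp_apply, LinearMap.lTensor_comp_rTensor,
      ← LinearMap.rTensor_comp_lTensor, LinearMap.comp_apply, hm', ← LinearMap.rTensor_comp_apply]
    have : I.mkQ ∘ₗ I.subtype = 0 := by
      ext x
      exact Ideal.Quotient.eq_zero_iff_mem.2 x.2
    rw [this, LinearMap.rTensor_zero, LinearMap.zero_apply]
  obtain ⟨x, rfl⟩ := (rTensor_exact M (LinearMap.exact_subtype_mkQ I)
    (Submodule.mkQ_surjective I) m').1 h2
  have h3 : LinearMap.rTensor N I.subtype (f.lTensor I x) = LinearMap.rTensor N I.subtype y := by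
    rw [← hm', ← LinearMap.comp_apply, LinearMap.rTensor_comp_lTensor,
      ← LinearMap.lTensor_comp_rTensor, LinearMap.comp_apply]
  have h4 : f.lTensor I x = y :=
    (Module.Flat.rTensor_preserves_injective_linearMap I.subtype Subtype.val_injective) h3
  rw [← h4, ← LinearMap.lTensor_comp_apply]
  have : g ∘ₗ f = 0 := by
    ext m; exact hfg.apply_apply_eq_zero m
  rw [this, LinearMap.lTensor_zero, LinearMap.zero_apply]

section

variable (A : Type u) [CommRing A] [IsLocalRing A] [IsArtinianRing A]

theorem flat_of_residue_injective {M N P : Type v} [AddCommGroup M] [Module A M]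
    [AddCommGroup N] [Module A N] [AddCommGroup P] [Module A P] [Module.Flat A N]
    (f : M →ₗ[A] N) (g : N →ₗ[A] P) (hg : Function.Surjective g) (hfg : Function.Exact f g)
    (hk : Function.Injective (f.lTensor (IsLocalRing.ResidueField A))) : Module.Flat A P :=
  flat_of_quotient_lTensor_injective f g hg hfg
    (fun I => lTensor_injective_of_residue A f hk (A ⧸ I) inferInstance)

theorem flat_quotient_iff (M N P : Type v) [AddCommGroup M] [Module A M] [AddCommGroup N] [Module A N]
    [AddCommGroup P] [Module A P] [Module.Flat A N] (f : M →ₗ[A] N) (g : N →ₗ[A] P)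
    (hf : Function.Injective f) (hg : Function.Surjective g) (hfg : Function.Exact f g) :
    (Function.Injective (f.lTensor (IsLocalRing.ResidueField A)) → Module.Flat A P) ∧
    (Module.Flat A P → Module.Flat A M ∧ Function.Injective (f.lTensor (IsLocalRing.ResidueField A))) := by
  refine ⟨fun hk => flat_of_residue_injective A f g hg hfg hk, fun hP => ⟨?_, ?_⟩⟩
  · exact flat_of_exact f g hf hg hfg
  · exact lTensor_injective_of_flat_quotient f g hf hg hfg _

theorem flat_and_exact (P Q R M : Type v) [AddCommGroup P] [Module A P] [AddCommGroup Q] [Module A Q]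
    [AddCommGroup R] [Module A R] [AddCommGroup M] [Module A M]
    [Module.Flat A Q] [Module.Flat A R]
    (f : P →ₗ[A] Q) (g : Q →ₗ[A] R) (h : R →ₗ[A] M)
    (hfg : g ∘ₗ f = 0) (hgh : Function.Exact g h) (hh : Function.Surjective h)
    (hred : Function.Exact (f.lTensor (IsLocalRing.ResidueField A)) (g.lTensor (IsLocalRing.ResidueField A))) :
    Module.Flat A M ∧ Function.Exact f g := by
  set k := IsLocalRing.ResidueField A
  set R' := LinearMap.range g with hR'
  set ι : R' →ₗ[A] R := R'.subtype with hι
  set g' : Q →ₗ[A] R' := g.rangeRestrict with hg'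
  have hg'surj : Function.Surjective g' := LinearMap.surjective_rangeRestrict g
  have hιg' : ι ∘ₗ g' = g := LinearMap.subtype_comp_codRestrict _ _ _
  have hgf : ∀ p, g (f p) = 0 := fun p => congrArg (fun φ => φ p) hfg
  have hg'f : g' ∘ₗ f = 0 := by
    ext p
    exact hgf p
  -- step 1
  have h1 : Function.Injective (ι.lTensor k) := by
    rw [injective_iff_map_eq_zero]
    intro y hy
    obtain ⟨q, rfl⟩ := LinearMap.lTensor_surjective k hg'surj y
    rw [← LinearMap.lTensor_comp_apply, hιg'] at hy
    obtain ⟨p, rfl⟩ := (hred q).1 hy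
    rw [← LinearMap.lTensor_comp_apply, hg'f, LinearMap.lTensor_zero, LinearMap.zero_apply]
  -- step 2
  have hex1 : Function.Exact ι h := by
    intro r
    rw [hgh r]
    constructor
    · rintro ⟨q, rfl⟩
      exact ⟨⟨g q, q, rfl⟩, rfl⟩
    · rintro ⟨⟨r', q, rfl⟩, rfl⟩
      exact ⟨q, rfl⟩
  have hM : Module.Flat A M := flat_of_residue_injective A ι h hh hex1 h1
  have hR'flat : Module.Flat A R' := flat_of_exact ι h Subtype.val_injective hh hex1
  refine ⟨hM, ?_⟩
  -- step 3
  set K := LinearMap.ker g with hK
  set j : K →ₗ[A] Q := K.subtype with hj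
  have hex2 : Function.Exact j g' := by
    intro q
    constructor
    · intro hq
      have : g q = 0 := congrArg Subtype.val hq
      exact ⟨⟨q, this⟩, rfl⟩
    · rintro ⟨⟨q, hq⟩, rfl⟩
      apply Subtype.ext
      exact hq
  have h3 : Function.Injective (j.lTensor k) :=
    lTensor_injective_of_flat_quotient j g' Subtype.val_injective hg'surj hex2 k
  -- step 4
  set f' : P →ₗ[A] K := f.codRestrict K (fun p => hgf p) with hf'
  have hjf' : j ∘ₗ f' = f := LinearMap.subtype_comp_codRestrict _ _ _
  have hgj : g ∘ₗ j = 0 := by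
    ext x
    exact x.2
  have h4 : Function.Surjective (f'.lTensor k) := by
    intro w
    have : g.lTensor k (j.lTensor k w) = 0 := by
      rw [← LinearMap.lTensor_comp_apply, hgj, LinearMap.lTensor_zero, LinearMap.zero_apply]
    obtain ⟨p, hp⟩ := (hred _).1 this
    refine ⟨p, h3 ?_⟩
    rw [← LinearMap.lTensor_comp_apply, hjf', hp]
  -- step 5
  have h5 : Function.Surjective f' := surjective_of_residue A f' h4
  intro q
  constructor
  · intro hq
    obtain ⟨p, hp⟩ := h5 ⟨q, hq⟩
    exact ⟨p, by rw [← hjf']; exact congrArg Subtype.val hp⟩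
  · rintro ⟨p, rfl⟩
    exact hgf p

end

end Groth.Agent.Helper7.ArtFlat
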