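import Mathlib
import Groth.Agent.Helper7.ArtFlatOld

/-!
# Flat modules over Artinian local rings: colon ideals, regular elements, a flatness criterion
-/

set_option autoImplicit false
set_option linter.style.haveILetI false
set_option linter.unusedSectionVars false

namespace Groth.Agent.Helper7.ArtFlat

open IsLocalRing TensorProduct

universe u v

section Colon

variable {A : Type u} [CommRing A] {M : Type v} [AddCommGroup M] [Module A M]

/-- For a flat module `M`, `(J M : ε) = (J : ε) M`. -/
theorem mem_colon_smul_top [Module.Flat A M] (J K : Ideal A) (ε : A)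
    (hK : ∀ r, ε * r ∈ J → r ∈ K) (x : M) (hx : ε • x ∈ J • (⊤ : Submodule A M)) :
    x ∈ K • (⊤ : Submodule A M) := by
  classical
  have h1 : (⊤ : Submodule A M) = Submodule.span A (Set.range (id : M → M)) := by
    simp
  rw [h1, Submodule.mem_ideal_smul_span_iff_exists_sum] at hx
  obtain ⟨a, ha, hsum⟩ := hx
  -- the relation
  let f : Option a.support → A := fun o => o.elim ε (fun i => - a i)
  let X : Option a.support → M := fun o => o.elim x (fun i => (i : M))
  have hrel : ∑ o, f o • X o = 0 := by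
    rw [Fintype.sum_option]
    simp only [f, X, Option.elim_none, Option.elim_some, neg_smul, Finset.sum_neg_distrib]
    rw [← hsum, Finsupp.sum, ← Finset.sum_coe_sort a.support (fun i => a i • id i)]
    simp
  obtain ⟨k, a', y, hxy, hfa⟩ := Module.Flat.isTrivialRelation_of_sum_smul_eq_zero hrel
  have hx' : x = ∑ j, a' none j • y j := hxy none
  rw [hx']
  refine Submodule.sum_mem _ fun j _ => Submodule.smul_mem_smul ?_ trivial
  apply hK
  have h2 := hfa j
  rw [Fintype.sum_option] at h2
  simp only [f, Option.elim_none, Option.elim_some, neg_mul, Finset.sum_neg_distrib] at h2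
  rw [add_neg_eq_zero] at h2
  rw [h2]
  exact Ideal.sum_mem _ fun i _ => Ideal.mul_mem_right _ _ (ha _)

end Colon

section Decomp

variable {A : Type u} [CommRing A] [IsLocalRing A]

/-- In an Artinian local ring every ideal strictly below the maximal ideal admits a "socle"
element. -/
theorem exists_up [IsArtinianRing A] (I : Ideal A) (hI : I < maximalIdeal A) :
    ∃ ε ∈ maximalIdeal A, ε ∉ I ∧ ∀ a ∈ maximalIdeal A, a * ε ∈ I := by
  classical
  have hnil : IsNilpotent (maximalIdeal A) := by
    have := IsArtinianRing.isNilpotent_jacobson_bot (R := A)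
    rwa [IsLocalRing.jacobson_eq_maximalIdeal ⊥ bot_ne_top] at this
  have hex : ∃ n, maximalIdeal A ^ n ≤ I := by
    obtain ⟨n, hn⟩ := hnil
    exact ⟨n, by rw [hn]; exact bot_le⟩
  set n := Nat.find hex with hn
  have hn1 : maximalIdeal A ^ n ≤ I := Nat.find_spec hex
  have hn0 : n ≠ 0 := by
    intro h0
    rw [h0, pow_zero, Ideal.one_eq_top] at hn1
    exact absurd (lt_of_lt_of_le hI (le_top.trans hn1)) (lt_irrefl _)
  obtain ⟨k, hk⟩ := Nat.exists_eq_succ_of_ne_zero hn0
  have hk1 : ¬ maximalIdeal A ^ k ≤ I := Nat.find_min hex (by omega)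
  have hk0 : k ≠ 0 := by
    intro h0
    apply hk1
    have : maximalIdeal A ^ 1 ≤ I := by
      have := hn1
      rw [hk, h0] at this
      exact this
    rw [h0, pow_zero, Ideal.one_eq_top]
    rw [pow_one] at this
    exact absurd this (not_le_of_gt hI)
  obtain ⟨ε, hεk, hεI⟩ := Set.not_subset.1 hk1
  refine ⟨ε, ?_, hεI, ?_⟩
  · exact Ideal.pow_le_self hk0 hεk
  · intro a ha
    apply hn1
    rw [hk, pow_succ']
    exact Ideal.mul_mem_mul ha hεk

/-- In a Noetherian local ring every nonzero ideal is obtained from a strictly smaller ideal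
containing `𝔪 I` by adjoining one element. -/
theorem exists_down [IsNoetherianRing A] (I : Ideal A) (hI : I ≠ ⊥) :
    ∃ (I' : Ideal A) (ε : A), I' < I ∧ ε ∈ I ∧ ε ∉ I' ∧ I = I' ⊔ Ideal.span {ε} ∧
      ∀ a ∈ maximalIdeal A, ∀ b ∈ I, a * b ∈ I' := by
  classical
  have hne : {J : Ideal A | J < I}.Nonempty := ⟨⊥, bot_lt_iff_ne_bot.2 hI⟩
  obtain ⟨I', hI'lt, hmax⟩ := set_has_maximal_iff_noetherian.2 inferInstance _ hne
  have hI'lt' : I' < I := hI'lt
  obtain ⟨ε, hεI, hεI'⟩ := Set.exists_of_ssubset hI'lt'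
  have hsup_le : I' ⊔ Ideal.span {ε} ≤ I :=
    sup_le hI'lt'.le ((Ideal.span_singleton_le_iff_mem I).2 hεI)
  have hsup : I' ⊔ Ideal.span {ε} = I := by
    by_contra hne'
    have hlt : I' ⊔ Ideal.span {ε} < I := lt_of_le_of_ne hsup_le hne'
    have := hmax _ hlt
    have h2 : ¬ I' < I' ⊔ Ideal.span {ε} := this
    apply h2
    refine lt_of_le_of_ne le_sup_left ?_
    intro heq
    apply hεI'
    rw [heq]
    exact Ideal.mem_sup_right (Ideal.mem_span_singleton_self ε)
  refine ⟨I', ε, hI'lt', hεI, hεI', hsup.symm, ?_⟩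
  -- `𝔪 I ≤ I'`
  have hle : I' ⊔ maximalIdeal A • I ≤ I := sup_le hI'lt'.le Submodule.smul_le_right
  have hne' : I' ⊔ maximalIdeal A • I ≠ I := by
    intro heq
    have h3 : I ≤ I' := by
      refine Submodule.le_of_le_smul_of_le_jacobson_bot (I := maximalIdeal A)
        (IsNoetherian.noetherian I) (IsLocalRing.maximalIdeal_le_jacobson _) ?_
      rw [heq]
    exact (not_le_of_gt hI'lt') h3
  have hlt : I' ⊔ maximalIdeal A • I < I := lt_of_le_of_ne hle hne'
  have h4 : ¬ I' < I' ⊔ maximalIdeal A • I := hmax _ hlt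
  have h5 : I' ⊔ maximalIdeal A • I = I' := by
    by_contra h6
    exact h4 (lt_of_le_of_ne le_sup_left (Ne.symm h6))
  intro a ha b hb
  rw [← h5]
  exact Ideal.mem_sup_right (Submodule.smul_mem_smul ha hb)

end Decomp

section Reg

variable {A : Type u} [CommRing A] [IsLocalRing A] [IsArtinianRing A]
  {M : Type v} [AddCommGroup M] [Module A M]

lemma map_mem_smul_top (T : M →ₗ[A] M) (I : Ideal A) {w : M}
    (hw : w ∈ I • (⊤ : Submodule A M)) : T w ∈ I • (⊤ : Submodule A M) := by
  refine Submodule.smul_induction_on hw ?_ ?_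
  · intro a ha x _
    rw [map_smul]
    exact Submodule.smul_mem_smul ha trivial
  · intro x y hx hy
    rw [map_add]
    exact add_mem hx hy

lemma smul_mem_of_mem_max (I : Ideal A) (ε : A) (hε : ∀ a ∈ maximalIdeal A, a * ε ∈ I) {v : M}
    (hv : v ∈ maximalIdeal A • (⊤ : Submodule A M)) : ε • v ∈ I • (⊤ : Submodule A M) := by
  refine Submodule.smul_induction_on hv ?_ ?_
  · intro a ha x _
    rw [smul_smul, mul_comm]
    exact Submodule.smul_mem_smul (hε a ha) trivial
  · intro x y hx hy
    rw [smul_add]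
    exact add_mem hx hy

lemma colon_le_max (I : Ideal A) (ε : A) (hε : ε ∉ I) : ∀ r, ε * r ∈ I → r ∈ maximalIdeal A := by
  intro r hr
  by_contra hrm
  have hu : IsUnit r := by
    by_contra hnu
    exact hrm ((mem_maximalIdeal r).2 hnu)
  obtain ⟨u, rfl⟩ := hu
  apply hε
  have : ε = (ε * (u : A)) * ((u⁻¹ : Aˣ) : A) := by
    rw [mul_assoc, Units.mul_inv, mul_one]
  rw [this]
  exact Ideal.mul_mem_right _ _ hr

/-- If `M` is flat over the Artinian local ring `A` and `T` is an endomorphism of `M` which is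
injective modulo `𝔪 M`, then it is injective modulo `I M` for every ideal `I`. -/
theorem regular_mod_all [Module.Flat A M] (T : M →ₗ[A] M)
    (hT : ∀ w, T w ∈ maximalIdeal A • (⊤ : Submodule A M) →
      w ∈ maximalIdeal A • (⊤ : Submodule A M)) (I : Ideal A) :
    ∀ w, T w ∈ I • (⊤ : Submodule A M) → w ∈ I • (⊤ : Submodule A M) := by
  induction I using IsNoetherian.induction with
  | hgt I ih =>
    intro w hw
    by_cases htop : I = ⊤
    · rw [htop, Submodule.top_smul]; trivial
    have hIm : I ≤ maximalIdeal A := IsLocalRing.le_maximalIdeal htop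
    by_cases hIeq : I = maximalIdeal A
    · rw [hIeq] at hw ⊢
      exact hT w hw
    have hlt : I < maximalIdeal A := lt_of_le_of_ne hIm hIeq
    obtain ⟨ε, hεm, hεI, hε⟩ := exists_up I hlt
    set I₂ := I ⊔ Ideal.span {ε} with hI₂
    have hlt₂ : I < I₂ := by
      refine lt_of_le_of_ne le_sup_left ?_
      intro heq
      apply hεI
      rw [heq]
      exact Ideal.mem_sup_right (Ideal.mem_span_singleton_self ε)
    have h1 : w ∈ I₂ • (⊤ : Submodule A M) := by
      apply ih I₂ hlt₂
      exact Submodule.smul_mono_left le_sup_left hw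
    rw [hI₂, Submodule.sup_smul, Submodule.mem_sup] at h1
    obtain ⟨j, hj, v', hv', rfl⟩ := h1
    rw [Submodule.ideal_span_singleton_smul, Submodule.mem_smul_pointwise_iff_exists] at hv'
    obtain ⟨v, -, rfl⟩ := hv'
    have h2 : ε • T v ∈ I • (⊤ : Submodule A M) := by
      have h3 : T (j + ε • v) = T j + ε • T v := by rw [map_add, map_smul]
      rw [h3] at hw
      exact (Submodule.add_mem_iff_right _ (map_mem_smul_top T I hj)).1 hw
    have h4 : T v ∈ maximalIdeal A • (⊤ : Submodule A M) :=
      mem_colon_smul_top I (maximalIdeal A) ε (colon_le_max I ε hεI) (T v) h2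
    have h5 := hT v h4
    exact add_mem hj (smul_mem_of_mem_max I ε hε h5)

end Reg

section FlatCrit

variable {A : Type u} [CommRing A] [IsLocalRing A] [IsArtinianRing A]
  {M : Type v} [AddCommGroup M] [Module A M]

/-- The canonical map `I ⊗ M → M`. -/
noncomputable abbrev mulMap (I : Ideal A) : I ⊗[A] M →ₗ[A] M :=
  TensorProduct.lift ((LinearMap.lsmul A M).comp I.subtype)

lemma mulMap_mem (I : Ideal A) (ζ : I ⊗[A] M) : mulMap I ζ ∈ I • (⊤ : Submodule A M) := by
  induction ζ using TensorProduct.induction_on with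
  | zero => simp
  | tmul a x =>
    simp only [mulMap, TensorProduct.lift.tmul, LinearMap.coe_comp, Function.comp_apply,
      Submodule.subtype_apply, LinearMap.lsmul_apply]
    exact Submodule.smul_mem_smul a.2 trivial
  | add a b ha hb => rw [map_add]; exact add_mem ha hb

lemma mulMap_incl {I' I : Ideal A} (h : I' ≤ I) (ζ : I' ⊗[A] M) :
    mulMap I (LinearMap.rTensor M (Submodule.inclusion h) ζ) = mulMap I' ζ := by
  induction ζ using TensorProduct.induction_on with
  | zero => simp
  | tmul a x => simp [mulMap]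
  | add a b ha hb => simp only [map_add, ha, hb]

/-- A flatness criterion over an Artinian local ring in terms of colon conditions. -/
theorem flat_of_colon
    (H : ∀ (I' : Ideal A) (ε : A), ε ∈ maximalIdeal A → ε ∉ I' →
      (∀ a ∈ maximalIdeal A, a * ε ∈ I') →
      ∀ b : M, ε • b ∈ I' • (⊤ : Submodule A M) → b ∈ maximalIdeal A • (⊤ : Submodule A M)) :
    Module.Flat A M := by
  rw [Module.Flat.iff_lift_lsmul_comp_subtype_injective]
  intro I _
  induction I using IsArtinian.induction with
  | hgt I ih =>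
    by_cases hbot : I = ⊥
    · subst hbot
      intro a b _
      exact Subsingleton.elim _ _
    obtain ⟨I', ε, hlt, hεI, hεI', hsup, hmI⟩ := exists_down I hbot
    have ihI' := ih I' hlt (IsNoetherian.noetherian I')
    have hcol : ∀ b : M, ε • b ∈ I' • (⊤ : Submodule A M) →
        b ∈ maximalIdeal A • (⊤ : Submodule A M) := by
      by_cases hεm : ε ∈ maximalIdeal A
      · exact H I' ε hεm hεI' (fun a ha => hmI a ha ε hεI)
      · intro b hb
        have hu : IsUnit ε := by
          by_contra hnu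
          exact hεm ((mem_maximalIdeal ε).2 hnu)
        obtain ⟨u, rfl⟩ := hu
        have hI'top : I' ≠ ⊤ := fun h => (lt_of_lt_of_le hlt le_top).ne h
        have hI'm : I' ≤ maximalIdeal A := IsLocalRing.le_maximalIdeal hI'top
        have : b = ((u⁻¹ : Aˣ) : A) • ((u : A) • b) := by
          rw [smul_smul, Units.inv_mul, one_smul]
        rw [this]
        exact Submodule.smul_mem _ _ (Submodule.smul_mono_left hI'm hb)
    set ι := LinearMap.rTensor M (Submodule.inclusion hlt.le) with hι
    -- decomposition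
    have hdec : ∀ ζ : I ⊗[A] M, ∃ (ζ' : I' ⊗[A] M) (b : M),
        ζ = ι ζ' + (⟨ε, hεI⟩ : I) ⊗ₜ[A] b := by
      intro ζ
      induction ζ using TensorProduct.induction_on with
      | zero => exact ⟨0, 0, by simp⟩
      | tmul a x =>
        obtain ⟨a, ha⟩ := a
        have ha' := ha
        rw [hsup, Submodule.mem_sup] at ha'
        obtain ⟨a₁, ha₁, a₂, ha₂, hsum⟩ := ha'
        rw [Ideal.mem_span_singleton'] at ha₂
        obtain ⟨c, rfl⟩ := ha₂
        refine ⟨(⟨a₁, ha₁⟩ : I') ⊗ₜ[A] x, c • x, ?_⟩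
        have h1 : (⟨a, ha⟩ : I) = Submodule.inclusion hlt.le ⟨a₁, ha₁⟩ + c • (⟨ε, hεI⟩ : I) := by
          ext
          simp [hsum]
        rw [h1, TensorProduct.add_tmul, hι, LinearMap.rTensor_tmul, TensorProduct.smul_tmul]
      | add a b ha hb =>
        obtain ⟨ζ₁, b₁, h₁⟩ := ha
        obtain ⟨ζ₂, b₂, h₂⟩ := hb
        refine ⟨ζ₁ + ζ₂, b₁ + b₂, ?_⟩
        rw [h₁, h₂, map_add, TensorProduct.tmul_add]
        abel
    -- elements `ε ⊗ b` with `b ∈ 𝔪 M` come from `I' ⊗ M`
    have hrange : ∀ b : M, b ∈ maximalIdeal A • (⊤ : Submodule A M) →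
        (⟨ε, hεI⟩ : I) ⊗ₜ[A] b ∈ LinearMap.range ι := by
      intro b hb
      refine Submodule.smul_induction_on hb ?_ ?_
      · intro a ha x _
        refine ⟨(⟨a * ε, hmI a ha ε hεI⟩ : I') ⊗ₜ[A] x, ?_⟩
        rw [hι, LinearMap.rTensor_tmul, ← TensorProduct.smul_tmul]
        congr 1
      · intro x y hx hy
        rw [TensorProduct.tmul_add]
        exact add_mem hx hy
    rw [injective_iff_map_eq_zero]
    intro ζ hζ
    obtain ⟨ζ', b, rfl⟩ := hdec ζ
    have h1 : mulMap I' ζ' + ε • b = 0 := by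
      have h2 : mulMap I (ι ζ' + (⟨ε, hεI⟩ : I) ⊗ₜ[A] b) = 0 := hζ
      rw [map_add, hι, mulMap_incl] at h2
      simpa [mulMap] using h2
    have h3 : ε • b ∈ I' • (⊤ : Submodule A M) := by
      have : ε • b = - mulMap I' ζ' := by
        rw [eq_neg_iff_add_eq_zero, add_comm]; exact h1
      rw [this]
      exact neg_mem (mulMap_mem I' ζ')
    obtain ⟨ζ'', hζ''⟩ := hrange b (hcol b h3)
    have h4 : ι ζ' + (⟨ε, hεI⟩ : I) ⊗ₜ[A] b = ι (ζ' + ζ'') := by
      rw [map_add, hζ'']
    rw [h4] at hζ ⊢
    have h5 : mulMap I' (ζ' + ζ'') = 0 := by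
      have h6 : mulMap I (ι (ζ' + ζ'')) = 0 := hζ
      rwa [hι, mulMap_incl] at h6
    have h7 : ζ' + ζ'' = 0 := by
      apply ihI'
      rw [map_zero]
      exact h5
    rw [h7, map_zero]

end FlatCrit

end Groth.Agent.Helper7.ArtFlat
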