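import Mathlib
import Groth.Agent.Helper7.ArtFlat

/-! Complex version of flatness over Artinian local rings. -/

universe u

open CategoryTheory MonoidalCategory TensorProduct

namespace Groth.Agent.Helper7.ArtCx

open Groth.Agent.Helper7.ArtFlat Groth.Agent.Helper7.MilnorFlat

variable (A : Type u) [CommRing A] [IsLocalRing A] [IsArtinianRing A]

lemma exact_succ (C : CochainComplex (ModuleCat.{u} A) ℕ) (i : ℕ)
    (h : (((MonoidalCategory.tensorLeft (ModuleCat.of A (IsLocalRing.ResidueField A))).mapHomologicalComplex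
        (ComplexShape.up ℕ)).obj C).ExactAt (i + 1)) :
    Function.Exact ((C.d i (i + 1)).hom.lTensor (IsLocalRing.ResidueField A))
      ((C.d (i + 1) (i + 1 + 1)).hom.lTensor (IsLocalRing.ResidueField A)) := by
  rw [HomologicalComplex.exactAt_iff' _ i (i + 1) (i + 1 + 1) (by simp) (by simp)] at h
  exact (ShortComplex.ShortExact.moduleCat_exact_iff_function_exact _).1 h

lemma injective_zero (C : CochainComplex (ModuleCat.{u} A) ℕ)
    (h : (((MonoidalCategory.tensorLeft (ModuleCat.of A (IsLocalRing.ResidueField A))).mapHomologicalComplex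
        (ComplexShape.up ℕ)).obj C).ExactAt 0) :
    Function.Injective ((C.d 0 1).hom.lTensor (IsLocalRing.ResidueField A)) := by
  rw [HomologicalComplex.exactAt_iff' _ 0 0 1 (by simp) (by simp)] at h
  have h2 := (ShortComplex.ShortExact.moduleCat_exact_iff_function_exact _).1 h
  rw [injective_iff_map_eq_zero]
  intro z hz
  obtain ⟨w, hw⟩ := (h2 z).1 hz
  rw [← hw]
  have h0 : (((MonoidalCategory.tensorLeft (ModuleCat.of A (IsLocalRing.ResidueField A))).mapHomologicalComplex
        (ComplexShape.up ℕ)).obj C).d 0 0 = 0 := HomologicalComplex.shape _ 0 0 (by simp)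
  show (ConcreteCategory.hom ((((MonoidalCategory.tensorLeft (ModuleCat.of A (IsLocalRing.ResidueField A))).mapHomologicalComplex
        (ComplexShape.up ℕ)).obj C).d 0 0)) w = 0
  rw [h0]
  rfl

theorem complex_flat (n : ℕ) (hn : 0 < n)
    (C : CochainComplex (ModuleCat.{u} A) ℕ)
    (hflat : ∀ i, i ≤ n → Module.Flat A (C.X (i + 1)))
    (hred : ∀ j, j ≤ n →
      (((MonoidalCategory.tensorLeft (ModuleCat.of A (IsLocalRing.ResidueField A))).mapHomologicalComplex
        (ComplexShape.up ℕ)).obj C).ExactAt j) :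
    Module.Flat A (C.X 0) ∧ Module.Flat A (C.X (n + 1) ⧸ LinearMap.range (C.d n (n + 1)).hom) := by
  constructor
  · haveI := hflat 0 (Nat.zero_le _)
    have hinj_k := injective_zero A C (hred 0 (Nat.zero_le _))
    have hinj := injective_of_residue A (C.d 0 1).hom hinj_k
    haveI hQ : Module.Flat A (C.X 1 ⧸ LinearMap.range (C.d 0 1).hom) :=
      flat_of_residue_injective A (C.d 0 1).hom (LinearMap.range (C.d 0 1).hom).mkQ
        (Submodule.mkQ_surjective _) (LinearMap.exact_map_mkQ_range _) hinj_k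
    exact flat_of_exact (C.d 0 1).hom (LinearMap.range (C.d 0 1).hom).mkQ hinj
      (Submodule.mkQ_surjective _) (LinearMap.exact_map_mkQ_range _)
  · obtain ⟨m, rfl⟩ : ∃ m, n = m + 1 := ⟨n - 1, by omega⟩
    haveI := hflat m (by omega)
    haveI := hflat (m + 1) le_rfl
    have hex := exact_succ A C m (hred (m + 1) le_rfl)
    have hcomp : (C.d (m + 1) (m + 1 + 1)).hom ∘ₗ (C.d m (m + 1)).hom = 0 := by
      have := C.d_comp_d m (m + 1) (m + 1 + 1)
      rw [← ModuleCat.hom_comp, this]
      rfl
    exact (flat_and_exact A (C.X m) (C.X (m + 1)) (C.X (m + 1 + 1)) _ (C.d m (m + 1)).hom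
      (C.d (m + 1) (m + 1 + 1)).hom (LinearMap.range (C.d (m + 1) (m + 1 + 1)).hom).mkQ hcomp
      (LinearMap.exact_map_mkQ_range _) (Submodule.mkQ_surjective _) hex).1

end Groth.Agent.Helper7.ArtCx
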