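import Mathlib
import Groth.Prelude.Def_CAlg
import Groth.Prelude.Def_Wider
import Groth.Agent.S0299
import Groth.Agent.S0308

/-!
# An Artinian local ring with simple socle is Gorenstein (helper7)
-/

set_option autoImplicit false
set_option linter.style.haveILetI false
universe u

namespace Groth.Agent.Helper7.ArtGor

open IsLocalRing CategoryTheory

/-- **an Artinian local ring whose socle is generated by one element is self-injective** -/
theorem injective_self_of_simple_socle (A : Type u) [CommRing A] [IsLocalRing A]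
    [IsNoetherianRing A] (hnil : IsNilpotent (maximalIdeal A)) (σ : A) (hσ0 : σ ≠ 0)
    (hσ : ∀ b ∈ maximalIdeal A, b * σ = 0)
    (hsoc : ∀ x : A, (∀ b ∈ maximalIdeal A, b * x = 0) → ∃ c : A, x = c * σ) :
    Module.Injective A A := by
  haveI : IsArtinianRing A := (isArtinianRing_iff_isNilpotent_maximalIdeal A).2 hnil
  obtain ⟨E, _, _, f₀, hf₀⟩ := Groth.Agent.S0299.result A (ResidueField A)
  -- the socle map `κ → A`
  have hle : (maximalIdeal A : Submodule A A) ≤ LinearMap.ker (LinearMap.toSpanSingleton A A σ) := by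
    intro b hb
    rw [LinearMap.mem_ker, LinearMap.toSpanSingleton_apply, smul_eq_mul]
    exact hσ b hb
  let ι : ResidueField A →ₗ[A] A :=
    Submodule.liftQ (maximalIdeal A) (LinearMap.toSpanSingleton A A σ) hle
  have hι1 : ι (1 : ResidueField A) = σ := by
    show LinearMap.toSpanSingleton A A σ 1 = σ
    rw [LinearMap.toSpanSingleton_apply, one_smul]
  have hιinj : Function.Injective ι := by
    rw [← LinearMap.ker_eq_bot]
    apply Submodule.ker_liftQ_eq_bot
    intro b hb
    rw [LinearMap.mem_ker, LinearMap.toSpanSingleton_apply, smul_eq_mul] at hb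
    by_contra hbm
    have hu : IsUnit b := by
      by_contra hnu
      exact hbm ((mem_maximalIdeal b).2 hnu)
    exact hσ0 (hu.mul_left_cancel (b := σ) (c := 0) (by rw [hb, mul_zero]))
  obtain ⟨ψ, hψ⟩ := hf₀.isInjective.out ι hιinj f₀
  have hψσ : ψ σ ≠ 0 := by
    rw [← hι1, hψ]
    intro h
    have h1 : (1 : ResidueField A) = 0 := hf₀.injective (by rw [h, map_zero])
    exact one_ne_zero h1
  -- `ψ` is injective
  have hψinj : Function.Injective ψ := by
    rw [injective_iff_map_eq_zero]
    intro x hx
    by_contra hx0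
    obtain ⟨N, hN⟩ := hnil
    have hex : ∃ j : ℕ, ∀ y ∈ (maximalIdeal A) ^ j, y * x = 0 := by
      refine ⟨N, fun y hy => ?_⟩
      rw [hN] at hy
      rw [(Submodule.mem_bot A).1 hy, zero_mul]
    classical
    have hj0 : Nat.find hex ≠ 0 := by
      intro h0
      have := Nat.find_spec hex
      rw [h0, pow_zero, Ideal.one_eq_top] at this
      exact hx0 (by simpa using this 1 trivial)
    obtain ⟨j', hj'⟩ := Nat.exists_eq_succ_of_ne_zero hj0
    have hmin := Nat.find_min hex (m := j') (by omega)
    push Not at hmin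
    obtain ⟨y, hy, hyx⟩ := hmin
    have hsocle : ∀ b ∈ maximalIdeal A, b * (y * x) = 0 := by
      intro b hb
      rw [← mul_assoc]
      apply Nat.find_spec hex
      rw [hj', pow_succ']
      exact Ideal.mul_mem_mul hb hy
    obtain ⟨c, hc⟩ := hsoc (y * x) hsocle
    have hcu : IsUnit c := by
      by_contra hnu
      apply hyx
      rw [hc]
      exact hσ c ((mem_maximalIdeal c).2 hnu)
    apply hψσ
    have h1 : ψ (c * σ) = 0 := by
      rw [← hc, ← smul_eq_mul, map_smul, hx, smul_zero]
    rw [← smul_eq_mul, map_smul] at h1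
    obtain ⟨d, hd⟩ := hcu.exists_left_inv
    have : ψ σ = d • (c • ψ σ) := by rw [smul_smul, hd, one_smul]
    rw [this, h1, smul_zero]
  -- lengths
  have hlen : Module.length A E = Module.length A A := by
    rw [← Groth.Agent.S0308.result A E f₀ hf₀ A]
    exact (LinearMap.ringLmapEquivSelf A A E).symm.length_eq
  have hfinA : Module.length A A ≠ ⊤ := Module.length_ne_top
  have hfinE : IsFiniteLength A E := Module.length_ne_top_iff.1 (hlen ▸ hfinA)
  obtain ⟨hnoe, hart⟩ := isFiniteLength_iff_isNoetherian_isArtinian.1 hfinE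
  have hsurj : LinearMap.range ψ = ⊤ := by
    by_contra hne
    have h1 := Submodule.length_lt hne
    have h2 : Module.length A (LinearMap.range ψ) = Module.length A A :=
      (LinearEquiv.ofInjective ψ hψinj).symm.length_eq
    rw [h2, hlen] at h1
    exact lt_irrefl _ h1
  let e : A ≃ₗ[A] E := LinearEquiv.ofBijective ψ ⟨hψinj, LinearMap.range_eq_top.1 hsurj⟩
  exact (Module.Baer.of_equiv e.symm (Module.Baer.of_injective hf₀.isInjective)).injective

/-- **an Artinian local ring whose socle is generated by one element is Gorenstein** -/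
theorem gorLocal_of_simple_socle (A : Type u) [CommRing A] [IsLocalRing A]
    [IsNoetherianRing A] (hnil : IsNilpotent (maximalIdeal A)) (σ : A) (hσ0 : σ ≠ 0)
    (hσ : ∀ b ∈ maximalIdeal A, b * σ = 0)
    (hsoc : ∀ x : A, (∀ b ∈ maximalIdeal A, b * x = 0) → ∃ c : A, x = c * σ) :
    LocCoh.IsGorensteinLocalRing A := by
  have hinj := injective_self_of_simple_socle A hnil σ hσ0 hσ hsoc
  haveI : Injective (ModuleCat.of A A) := Module.injective_object_of_injective_module A A
  exact { exists_hasInjectiveDimensionLT := ⟨1, injective_iff_hasInjectiveDimensionLT_one.1 inferInstance⟩ }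

end Groth.Agent.Helper7.ArtGor
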