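import Groth.Agent.Helper6.ArtFunTorsor

set_option autoImplicit false
universe u v
open CategoryTheory

namespace Groth.Agent.Helper7.ArtHomog

open ArtFun ArtFun.Art Groth.Agent.Helper6

variable {Λ : Type u} {k : Type u} [CommRing Λ] [Field k] [Algebra Λ k]

/-- hom applied to elements from an equality of morphisms -/
theorem hom_congr {A B : Art Λ k} {f g : A ⟶ B} (h : f = g) (a : A) : f a = g a := by
  rw [h]

/-- Injectivity of the comparison map for a square with `f''` a small extension. -/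
theorem injective_cmp_of_smallExt (F : Art Λ k ⥤ Type v)
    (h0 : H0 F) (hS1 : S1 F) (h2 : Heps F) (h4 : HSq F)
    {B A A' A'' : Art Λ k} (p' : B ⟶ A') (p'' : B ⟶ A'') (f' : A' ⟶ A) (p : A'' ⟶ A)
    (h : IsFibreProd p' p'' f' p) (hp : IsSmallExt p) : Function.Injective (cmp F h) := by
  intro z₁ z₂ hz
  have hz1 : F.map p' z₁ = F.map p' z₂ := congrArg (fun t => t.1.1) hz
  have hz2 : F.map p'' z₁ = F.map p'' z₂ := congrArg (fun t => t.1.2) hz
  obtain ⟨D, pr₁, pr₂, α, hD1, hD2, hα⟩ := exists_torsor_square p hp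
  have hbase : Function.Surjective (toBase (dual Λ k)) := dual_toBase_surjective
  -- D' = B ×_k k[ε]
  let D' : Art Λ k := pbObj (toBase B) (toBase (dual Λ k)) hbase
  let pr₁' : D' ⟶ B := pbFst (toBase B) (toBase (dual Λ k)) hbase
  let pr₂' : D' ⟶ dual Λ k := pbSnd (toBase B) (toBase (dual Λ k)) hbase
  have hD1' : IsFibreProd pr₁' pr₂' (toBase B) (toBase (dual Λ k)) :=
    pb_isFibreProd (toBase B) (toBase (dual Λ k)) hbase
  -- g : D' → D
  obtain ⟨g, hg1, hg2⟩ := IsFibreProd.exists_hom_lift hD1 (pr₁' ≫ p'') pr₂'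
    (by rw [eq_toBase ((pr₁' ≫ p'') ≫ toBase A''), eq_toBase (pr₂' ≫ toBase (dual Λ k))])
  -- α' : D' → B
  obtain ⟨α', hα'1, hα'2⟩ := IsFibreProd.exists_hom_lift h (pr₁' ≫ p') (g ≫ α)
    (by rw [Category.assoc, Category.assoc, ← hD2.w, ← Category.assoc g, hg1, Category.assoc,
      h.w])
  have hD2' : IsFibreProd pr₁' α' p' p' :=
    { w := hα'1.symm
      inj := fun x y hxy1 hxy2 => by
        apply hD1'.inj _ _ hxy1
        have e : g x = g y := by
          apply hD2.inj
          · rw [← Art.comp_apply, ← Art.comp_apply, hg1, Art.comp_apply, Art.comp_apply, hxy1]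
          · rw [← Art.comp_apply g α, ← Art.comp_apply g α, ← hα'2, Art.comp_apply, Art.comp_apply, hxy2]
        rw [← hg2, Art.comp_apply, Art.comp_apply, e]
      surj := fun b₁ b₂ hb => by
        have hpa : p (p'' b₁) = p (p'' b₂) := by
          rw [← h.w_apply, ← h.w_apply, hb]
        obtain ⟨d, hd1, hd2⟩ := hD2.surj _ _ hpa
        have hres : (toBase B) b₁ = (toBase (dual Λ k)) (pr₂ d) := by
          rw [← hD1.w_apply d, hd1]
          exact (res_app p'' b₁).symm
        obtain ⟨x, hx1, hx2⟩ := hD1'.surj b₁ (pr₂ d) hres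
        have hgx : g x = d := by
          apply hD1.inj
          · rw [← Art.comp_apply, hg1, Art.comp_apply, hx1, hd1]
          · rw [← Art.comp_apply, hg2, hx2]
        refine ⟨x, hx1, ?_⟩
        apply h.inj
        · rw [← Art.comp_apply, hα'1, Art.comp_apply, hx1, hb]
        · rw [← Art.comp_apply, hα'2, Art.comp_apply, hgx, hd2] }
  have hp' : Function.Surjective p' := IsFibreProd.surjective_fst h hp.1
  obtain ⟨d', hd'⟩ := hS1 pr₁' α' p' p' hD2' hp' ⟨(z₁, z₂), hz1⟩
  have hd'1 : F.map pr₁' d' = z₁ := congrArg (fun t => t.1.1) hd'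
  have hd'2 : F.map α' d' = z₂ := congrArg (fun t => t.1.2) hd'
  -- sections
  obtain ⟨σ, hσ1, hσ2⟩ := IsFibreProd.exists_hom_lift hD1 (𝟙 A'') (toBase A'' ≫ baseToDual)
    (by rw [eq_toBase (𝟙 A'' ≫ toBase A''),
      eq_toBase ((toBase A'' ≫ baseToDual) ≫ toBase (dual Λ k))])
  have hσα : σ ≫ α = 𝟙 A'' := by
    apply Art.hom_ext
    apply AlgHom.ext
    intro b
    change α (σ b) = b
    have e1 : pr₁ (σ b) = b := hom_congr hσ1 b
    have e2 : pr₂ (σ b) = (toBase A'' ≫ baseToDual) b := hom_congr hσ2 b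
    rw [hα (σ b), e1]
    rw [e2]
    rfl
  obtain ⟨σ', hσ'1, hσ'2⟩ := IsFibreProd.exists_hom_lift hD1' (𝟙 B) (toBase B ≫ baseToDual)
    (by rw [eq_toBase (𝟙 B ≫ toBase B), eq_toBase ((toBase B ≫ baseToDual) ≫ toBase (dual Λ k))])
  have hσ'g : σ' ≫ g = p'' ≫ σ := by
    apply IsFibreProd.hom_ext hD1
    · rw [Category.assoc, hg1, ← Category.assoc, hσ'1, Category.id_comp, Category.assoc, hσ1,
        Category.comp_id]
    · rw [Category.assoc, hg2, hσ'2, Category.assoc, hσ2, ← Category.assoc,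
        eq_toBase (p'' ≫ toBase A'')]
  have hσ'α' : σ' ≫ α' = 𝟙 B := by
    apply IsFibreProd.hom_ext h
    · rw [Category.assoc, hα'1, ← Category.assoc, hσ'1]
    · rw [Category.assoc, hα'2, ← Category.assoc, hσ'g, Category.assoc, hσα, Category.id_comp,
        Category.comp_id]
  -- d = F(g) d'
  have hsub := h0.2
  have hd : F.map g d' = F.map σ (F.map p'' z₁) := by
    apply (h4 pr₁ α p hD2 hp).1
    apply FibProd.ext
    · change F.map pr₁ (F.map g d') = F.map pr₁ (F.map σ (F.map p'' z₁))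
      rw [← Functor.map_comp_apply, hg1, Functor.map_comp_apply, hd'1, ← Functor.map_comp_apply F σ,
        hσ1, Functor.map_id_apply]
    · change F.map α (F.map g d') = F.map α (F.map σ (F.map p'' z₁))
      rw [← Functor.map_comp_apply, ← hα'2, Functor.map_comp_apply, hd'2,
        ← Functor.map_comp_apply F σ, hσα, Functor.map_id_apply, hz2]
  have hd'σ : d' = F.map σ' z₁ := by
    apply (h2 pr₁' pr₂' hD1').1
    apply FibProd.ext
    · change F.map pr₁' d' = F.map pr₁' (F.map σ' z₁)
      rw [hd'1, ← Functor.map_comp_apply, hσ'1, Functor.map_id_apply]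
    · change F.map pr₂' d' = F.map pr₂' (F.map σ' z₁)
      have e1 : F.map pr₂' d' = F.map pr₂ (F.map g d') := by
        rw [← Functor.map_comp_apply, hg2]
      have e2 : F.map pr₂' (F.map σ' z₁) = F.map baseToDual (F.map (toBase B) z₁) := by
        rw [← Functor.map_comp_apply F σ' pr₂', hσ'2, Functor.map_comp_apply]
      have e3 : F.map pr₂ (F.map σ (F.map p'' z₁)) =
          F.map baseToDual (F.map (toBase A'') (F.map p'' z₁)) := by
        rw [← Functor.map_comp_apply F σ pr₂, hσ2, Functor.map_comp_apply]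
      rw [e1, hd, e3, e2]
      congr 1
      exact Subsingleton.elim _ _
  rw [← hd'2, hd'σ, ← Functor.map_comp_apply, hσ'α', Functor.map_id_apply]

/-- `(H0)`, `(S1)`, `(H2)`, `(H4)` imply injectivity of all comparison maps with `f''` surjective. -/
theorem injective_cmp (F : Art Λ k ⥤ Type v)
    (h0 : H0 F) (hS1 : S1 F) (h2 : Heps F) (h4 : HSq F)
    ⦃B A A' A'' : Art Λ k⦄ (p' : B ⟶ A') (p'' : B ⟶ A'') (f' : A' ⟶ A) (f'' : A'' ⟶ A)
    (h : IsFibreProd p' p'' f' f'') (hf : Function.Surjective f'') :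
    Function.Injective (cmp F h) := by
  have key := surjective_induction_smallExt
    (fun (A A'' : Art Λ k) (f'' : A'' ⟶ A) => Function.Surjective f'' ∧
      ∀ (A' : Art Λ k) (f' : A' ⟶ A) (B : Art Λ k) (p' : B ⟶ A') (p'' : B ⟶ A'')
        (h : IsFibreProd p' p'' f' f''), Function.Injective (cmp F h))
    ?_ ?_ ?_ f'' hf
  · exact key.2 A' f' B p' p'' h
  · -- isomorphisms
    intro A A'' e he
    refine ⟨surjective_of_isIso e, ?_⟩
    intro A' f' B p' p'' h z₁ z₂ hz
    have hz1 : F.map p' z₁ = F.map p' z₂ := congrArg (fun t => t.1.1) hz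
    obtain ⟨l, hl1, hl2⟩ := IsFibreProd.exists_hom_lift h (𝟙 A') (f' ≫ inv e)
      (by rw [Category.id_comp, Category.assoc, IsIso.inv_hom_id, Category.comp_id])
    have hl : p' ≫ l = 𝟙 B := by
      apply IsFibreProd.hom_ext h
      · rw [Category.assoc, hl1, Category.comp_id, Category.id_comp]
      · rw [Category.assoc, hl2, ← Category.assoc, h.w, Category.assoc, IsIso.hom_inv_id,
          Category.comp_id, Category.id_comp]
    have e1 : F.map l (F.map p' z₁) = z₁ := by
      rw [← Functor.map_comp_apply, hl, Functor.map_id_apply]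
    have e2 : F.map l (F.map p' z₂) = z₂ := by
      rw [← Functor.map_comp_apply, hl, Functor.map_id_apply]
    rw [← e1, ← e2, hz1]
  · -- small extensions
    intro A A'' p hp
    exact ⟨hp.1, fun A' f' B p' p'' h =>
      injective_cmp_of_smallExt F h0 hS1 h2 h4 p' p'' f' p h hp⟩
  · -- composites
    intro A B₀ C p q hp hq
    refine ⟨surjective_comp p q hp.1 hq.1, ?_⟩
    intro A' f' B p' p'' h z₁ z₂ hz
    have hz1 : F.map p' z₁ = F.map p' z₂ := congrArg (fun t => t.1.1) hz
    have hz2 : F.map p'' z₁ = F.map p'' z₂ := congrArg (fun t => t.1.2) hz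
    have hB₁ := pb_isFibreProd f' q hq.1
    obtain ⟨r, hr1, hr2⟩ := IsFibreProd.exists_hom_lift hB₁ p' (p'' ≫ p)
      (by rw [h.w, Category.assoc])
    have hr1' : ∀ b, (pbFst f' q hq.1) (r b) = p' b := fun b => hom_congr hr1 b
    have hr2' : ∀ b, (pbSnd f' q hq.1) (r b) = p (p'' b) := fun b => hom_congr hr2 b
    have hsq : IsFibreProd r p'' (pbSnd f' q hq.1) p :=
      { w := hr2
        inj := fun b₁ b₂ h1 h2 => by
          apply h.inj _ _ _ h2
          rw [← hr1', ← hr1', h1]
        surj := fun x c hx => by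
          have hx' : f' ((pbFst f' q hq.1) x) = (p ≫ q) c := by
            rw [hB₁.w_apply x, hx]; rfl
          obtain ⟨b, hb1, hb2⟩ := h.surj _ c hx'
          refine ⟨b, ?_, hb2⟩
          apply hB₁.inj
          · rw [hr1', hb1]
          · rw [hr2', hb2, hx] }
    have hr : F.map r z₁ = F.map r z₂ := by
      apply hq.2 A' f' _ _ _ hB₁
      apply FibProd.ext
      · change F.map (pbFst f' q hq.1) (F.map r z₁) = F.map (pbFst f' q hq.1) (F.map r z₂)
        rw [← Functor.map_comp_apply, ← Functor.map_comp_apply, hr1, hz1]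
      · change F.map (pbSnd f' q hq.1) (F.map r z₁) = F.map (pbSnd f' q hq.1) (F.map r z₂)
        rw [← Functor.map_comp_apply, ← Functor.map_comp_apply, hr2, Functor.map_comp_apply,
          Functor.map_comp_apply, hz2]
    apply hp.2 _ _ B r p'' hsq
    exact FibProd.ext hr hz2

end Groth.Agent.Helper7.ArtHomog
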