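import Groth.Agent.Helper6.ArtFunTorsor

set_option autoImplicit false
universe u v
open CategoryTheory

namespace Groth.Agent.Helper7.ArtL

open ArtFun ArtFun.Art Groth.Agent.Helper6

variable {Λ : Type u} {k : Type u} [CommRing Λ] [Field k] [Algebra Λ k]

theorem hom_congr {A B : Art Λ k} {f g : A ⟶ B} (h : f = g) (a : A) : f a = g a := by
  rw [h]

theorem main (F : Art Λ k ⥤ Type v)
    (h2' : ∀ ⦃P A' A'' : Art Λ k⦄ (p' : P ⟶ A') (p'' : P ⟶ A'')
      (h : IsFibreProd p' p'' (toBase A') (toBase A'')),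
      Function.Bijective (cmp F h))
    ⦃B A : Art Λ k⦄ (f : B ⟶ A) (hf : Function.Surjective f)
    ⦃P : Art Λ k⦄ (p₁ p₂ : P ⟶ B)
    (hP : IsFibreProd p₁ p₂ (toBase B) (toBase B))
    ⦃Q : Art Λ k⦄ (q₁ q₂ : Q ⟶ A)
    (hQ : IsFibreProd q₁ q₂ (toBase A) (toBase A))
    (r : P ⟶ Q) (hr₁ : r ≫ q₁ = p₁ ≫ f) (hr₂ : r ≫ q₂ = p₂ ≫ f)
    (hK : Ideal.span {z : P | p₁ z = p₂ z ∧ f (p₁ z) = 0} ≤ IsLocalRing.maximalIdeal P)
    (hKr : Ideal.span {z : P | p₁ z = p₂ z ∧ f (p₁ z) = 0} ≤ RingHom.ker r.toAlgHom)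
    (y : F.obj Q) (hy : F.map q₁ y = F.map q₂ y) :
    ∃ z : F.obj (quot P (Ideal.span {z : P | p₁ z = p₂ z ∧ f (p₁ z) = 0}) hK),
      F.map (quotFactor hK r hKr) z = y := by
  -- diagonals
  obtain ⟨ΔB, hΔB1, hΔB2⟩ := IsFibreProd.exists_hom_lift hP (𝟙 B) (𝟙 B) rfl
  obtain ⟨ΔA, hΔA1, hΔA2⟩ := IsFibreProd.exists_hom_lift hQ (𝟙 A) (𝟙 A) rfl
  have hKf : RingHom.ker f.toAlgHom ≤ IsLocalRing.maximalIdeal B := ker_le_maximalIdeal f
  let φ : quot B (RingHom.ker f.toAlgHom) hKf ⟶ A := quotFactor hKf f le_rfl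
  have hφ : Function.Bijective φ := by
    constructor
    · intro x x' hxx
      obtain ⟨b, rfl⟩ := Ideal.Quotient.mk_surjective x
      obtain ⟨b', rfl⟩ := Ideal.Quotient.mk_surjective x'
      have : f b = f b' := hxx
      apply (Ideal.Quotient.eq).mpr
      rw [RingHom.mem_ker, map_sub, this, sub_self]
    · intro a
      obtain ⟨b, rfl⟩ := hf a
      exact ⟨Ideal.Quotient.mk _ b, rfl⟩
  haveI : IsIso φ := isIso_of_bijective φ hφ
  have hle : RingHom.ker f.toAlgHom ≤ RingHom.ker (ΔB ≫ quotMk P _ hK).toAlgHom := by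
    intro b hb
    rw [RingHom.mem_ker]
    change Ideal.Quotient.mk _ (ΔB b) = 0
    rw [Ideal.Quotient.eq_zero_iff_mem]
    apply Ideal.subset_span
    have e1 : p₁ (ΔB b) = b := hom_congr hΔB1 b
    have e2 : p₂ (ΔB b) = b := hom_congr hΔB2 b
    refine ⟨by rw [e1, e2], ?_⟩
    rw [e1]
    exact hb
  let ψ : quot B (RingHom.ker f.toAlgHom) hKf ⟶ quot P _ hK :=
    quotFactor hKf (ΔB ≫ quotMk P _ hK) hle
  have hψ : ψ ≫ quotFactor hK r hKr = φ ≫ ΔA := by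
    apply Art.hom_ext
    apply AlgHom.ext
    intro x
    obtain ⟨b, rfl⟩ := Ideal.Quotient.mk_surjective x
    change r (ΔB b) = ΔA (f b)
    have e1 : p₁ (ΔB b) = b := hom_congr hΔB1 b
    have e2 : p₂ (ΔB b) = b := hom_congr hΔB2 b
    apply hQ.inj
    · have := hom_congr hr₁ (ΔB b)
      rw [Art.comp_apply, Art.comp_apply, e1] at this
      rw [this]
      exact (hom_congr hΔA1 (f b)).symm
    · have := hom_congr hr₂ (ΔB b)
      rw [Art.comp_apply, Art.comp_apply, e2] at this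
      rw [this]
      exact (hom_congr hΔA2 (f b)).symm
  have hs : (inv φ ≫ ψ) ≫ quotFactor hK r hKr = ΔA := by
    rw [Category.assoc, hψ, IsIso.inv_hom_id_assoc]
  have hyΔ : y = F.map ΔA (F.map q₁ y) := by
    apply (h2' q₁ q₂ hQ).1
    apply FibProd.ext
    · change F.map q₁ y = F.map q₁ (F.map ΔA (F.map q₁ y))
      rw [← Functor.map_comp_apply F ΔA q₁, hΔA1, Functor.map_id_apply]
    · change F.map q₂ y = F.map q₂ (F.map ΔA (F.map q₁ y))
      rw [← Functor.map_comp_apply F ΔA q₂, hΔA2, Functor.map_id_apply, hy]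
  refine ⟨F.map (inv φ ≫ ψ) (F.map q₁ y), ?_⟩
  rw [← Functor.map_comp_apply, hs, ← hyΔ]

end Groth.Agent.Helper7.ArtL
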