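import Mathlib
import Groth.Agent.Helper8.GeomReg1
import Groth.Agent.Lead.RegLocal

set_option autoImplicit false
set_option linter.style.haveILetI false
set_option linter.unusedSectionVars false
open TensorProduct IsLocalRing

/-! S18056: a flat formally smooth homomorphism of Artinian local rings preserves length. -/

namespace Groth.Agent.Helper7.ArtLen

universe u v

section local_hom
variable {A : Type u} {B : Type v} [CommRing A] [CommRing B] [IsLocalRing A] [IsLocalRing B]
  [IsArtinianRing A] [Algebra A B]

theorem isLocalHom_of_artinian : IsLocalHom (algebraMap A B) := by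
  refine ⟨fun a ha => ?_⟩
  by_contra hna
  have hmem : a ∈ maximalIdeal A := (mem_maximalIdeal a).mpr hna
  have hnil : IsNilpotent a := by
    have h := IsArtinianRing.isNilpotent_jacobson_bot (R := A)
    rw [IsLocalRing.jacobson_eq_maximalIdeal ⊥ bot_ne_top] at h
    obtain ⟨n, hn⟩ := h
    refine ⟨n, ?_⟩
    have := Ideal.pow_mem_pow hmem n
    rwa [hn] at this
  obtain ⟨n, hn⟩ := hnil.map (algebraMap A B)
  have := ha.pow n
  rw [hn] at this
  exact not_isUnit_zero this

end local_hom

section fs
variable {A : Type u} {B : Type v} [CommRing A] [CommRing B] [IsLocalRing A]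
  [Algebra A B] [Algebra.FormallySmooth A B]

/-- The fibre `B/𝔞B` is (adically) formally smooth over the image of `A`. -/
theorem adicFS_aux (𝔞 : Ideal A) (I : Ideal B) (hI : I = 𝔞.map (algebraMap A B))
    (𝔫 : Ideal (B ⧸ I)) :
    CAlgX.IsAdicFormallySmooth ((algebraMap A (B ⧸ I)).range) (B ⧸ I) 𝔫 := by
  intro C _ _ J hJ ψ _
  let ρ : A →+* (algebraMap A (B ⧸ I)).range := (algebraMap A (B ⧸ I)).rangeRestrict
  have hρ : ∀ a, ((ρ a : (algebraMap A (B ⧸ I)).range) : B ⧸ I) =
      Ideal.Quotient.mk I (algebraMap A B a) := fun a => rfl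
  have hρsurj : Function.Surjective ρ := (algebraMap A (B ⧸ I)).rangeRestrict_surjective
  letI : Algebra A (algebraMap A (B ⧸ I)).range := ρ.toAlgebra
  letI : Algebra A C := ((algebraMap (algebraMap A (B ⧸ I)).range C).comp ρ).toAlgebra
  haveI : IsScalarTower A (algebraMap A (B ⧸ I)).range C :=
    IsScalarTower.of_algebraMap_eq fun a => rfl
  let ψ' : B →ₐ[A] C ⧸ J :=
    { toRingHom := (ψ : (B ⧸ I) →+* C ⧸ J).comp (Ideal.Quotient.mk I)
      commutes' := fun a => by
        change ψ (Ideal.Quotient.mk I (algebraMap A B a)) = _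
        rw [← hρ a]
        exact ψ.commutes (ρ a) }
  obtain ⟨χ', hχ'⟩ := Algebra.FormallySmooth.comp_surjective A B J hJ ψ'
  have hkill : I ≤ RingHom.ker (χ' : B →+* C) := by
    rw [hI, Ideal.map_le_iff_le_comap]
    intro a ha
    rw [Ideal.mem_comap, RingHom.mem_ker]
    change χ' (algebraMap A B a) = 0
    rw [χ'.commutes]
    change algebraMap (algebraMap A (B ⧸ I)).range C (ρ a) = 0
    have : ρ a = 0 := by
      apply Subtype.ext
      rw [hρ]
      change _ = (0 : B ⧸ I)
      rw [Ideal.Quotient.eq_zero_iff_mem, hI]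
      exact Ideal.mem_map_of_mem _ ha
    rw [this, map_zero]
  let χ : (B ⧸ I) →ₐ[(algebraMap A (B ⧸ I)).range] C :=
    { toRingHom := Ideal.Quotient.lift I (χ' : B →+* C) (fun b hb => hkill hb)
      commutes' := fun x => by
        obtain ⟨a, rfl⟩ := hρsurj x
        change Ideal.Quotient.lift I (χ' : B →+* C) _
          ((ρ a : (algebraMap A (B ⧸ I)).range) : B ⧸ I) = _
        rw [hρ, Ideal.Quotient.lift_mk]
        change χ' (algebraMap A B a) = _
        rw [χ'.commutes]
        rfl }
  refine ⟨χ, ?_⟩
  apply AlgHom.ext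
  intro y
  obtain ⟨b, rfl⟩ := Ideal.Quotient.mk_surjective y
  have := DFunLike.congr_fun hχ' b
  exact this

omit [Algebra.FormallySmooth A B] in
theorem isField_range (hI : (maximalIdeal A).map (algebraMap A B) ≠ ⊤) :
    IsField ((algebraMap A (B ⧸ (maximalIdeal A).map (algebraMap A B))).range) := by
  set I := (maximalIdeal A).map (algebraMap A B) with hI'
  haveI : Nontrivial (B ⧸ I) := Ideal.Quotient.nontrivial_iff.mpr hI
  have hker : RingHom.ker (algebraMap A (B ⧸ I)) = maximalIdeal A := by
    symm
    apply (maximalIdeal.isMaximal A).eq_of_le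
    · exact RingHom.ker_ne_top _
    · intro a ha
      rw [RingHom.mem_ker]
      change Ideal.Quotient.mk I (algebraMap A B a) = 0
      rw [Ideal.Quotient.eq_zero_iff_mem]
      exact Ideal.mem_map_of_mem _ ha
  have e := RingHom.quotientKerEquivRange (algebraMap A (B ⧸ I))
  have hf : IsField (A ⧸ RingHom.ker (algebraMap A (B ⧸ I))) := by
    rw [← Ideal.Quotient.maximal_ideal_iff_isField_quotient, hker]
    infer_instance
  exact MulEquiv.isField hf e.symm.toMulEquiv

end fs

section main
variable {A : Type u} {B : Type v} [CommRing A] [CommRing B] [IsLocalRing A] [IsLocalRing B]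
  [IsArtinianRing A] [IsArtinianRing B] [Algebra A B] [Algebra.FormallySmooth A B]

theorem isMaximal_map : ((maximalIdeal A).map (algebraMap A B)).IsMaximal := by
  haveI := isLocalHom_of_artinian (A := A) (B := B)
  have hne : (maximalIdeal A).map (algebraMap A B) ≠ ⊤ :=
    (map_maximalIdeal_lt_top (algebraMap A B)).ne
  haveI : Nontrivial (B ⧸ (maximalIdeal A).map (algebraMap A B)) :=
    Ideal.Quotient.nontrivial_iff.mpr hne
  haveI : IsLocalRing (B ⧸ (maximalIdeal A).map (algebraMap A B)) :=
    IsLocalRing.of_surjective' (Ideal.Quotient.mk _) Ideal.Quotient.mk_surjective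
  letI : Field ((algebraMap A (B ⧸ (maximalIdeal A).map (algebraMap A B))).range) :=
    (isField_range hne).toField
  have hreg : IsRegularLocalRing (B ⧸ (maximalIdeal A).map (algebraMap A B)) :=
    Groth.Agent.Helper8.GeomReg.isRegularLocalRing_of_adic
      (k := (algebraMap A (B ⧸ (maximalIdeal A).map (algebraMap A B))).range)
      (adicFS_aux (maximalIdeal A) _ rfl _)
  haveI : IsDomain (B ⧸ (maximalIdeal A).map (algebraMap A B)) :=
    Groth.Agent.Lead.RegLocal.isDomain_of_isRegularLocalRing _
  exact Ideal.Quotient.maximal_of_isField _ (IsArtinianRing.isField_of_isDomain _)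

theorem s18056 [Module.Flat A B] : Module.length A A = Module.length B B := by
  haveI := isLocalHom_of_artinian (A := A) (B := B)
  have h1 := IsLocalRing.length_baseChange A B A
  have h2 : Module.length B (B ⊗[A] A) = Module.length B B :=
    (AlgebraTensorModule.rid A B B).length_eq
  have hmax : ((maximalIdeal A).map (algebraMap A B)).IsMaximal := isMaximal_map
  have h3 : Module.length B (B ⧸ (maximalIdeal A).map (algebraMap A B)) = 1 := by
    rw [Module.length_eq_one_iff]
    exact isSimpleModule_iff_quot_maximal.mpr ⟨_, hmax, ⟨LinearEquiv.refl _ _⟩⟩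
  rw [h2, h3, mul_one] at h1
  exact h1.symm

end main

end Groth.Agent.Helper7.ArtLen
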