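import Groth.Agent.Helper6.ArtFunTorsor

set_option autoImplicit false
universe u v
open CategoryTheory

namespace Groth.Agent.Helper7.ArtOnePt

open ArtFun ArtFun.Art Groth.Agent.Helper6

variable {Λ : Type u} {k : Type u} [CommRing Λ] [Field k] [Algebra Λ k]

/-- Along a small extension, `F.map p` is injective when the tangent space is a point. -/
theorem injective_map_of_smallExt (F : Art Λ k ⥤ Type v)
    (h1 : Hbar F) (h2 : Heps F) (ht : Subsingleton (TangentSpace F))
    {A B : Art Λ k} (p : B ⟶ A) (hp : IsSmallExt p) : Function.Injective (F.map p) := by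
  intro f₁ f₂ h12
  obtain ⟨D, pr₁, pr₂, α, hD1, hD2, hα⟩ := exists_torsor_square p hp
  obtain ⟨d, hd⟩ := h1 pr₁ α p p hD2 hp ⟨(f₁, f₂), h12⟩
  have hd1 : F.map pr₁ d = f₁ := congrArg (fun t => t.1.1) hd
  have hd2 : F.map α d = f₂ := congrArg (fun t => t.1.2) hd
  -- the section σ : B → D
  obtain ⟨σ, hσ1, hσ2⟩ := Groth.Agent.Helper6.IsFibreProd.exists_hom_lift hD1 (𝟙 B) (toBase B ≫ baseToDual)
    (by rw [eq_toBase (𝟙 B ≫ toBase B), eq_toBase ((toBase B ≫ baseToDual) ≫ toBase (dual Λ k))])
  have hασ : σ ≫ α = 𝟙 B := by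
    apply Art.hom_ext
    apply AlgHom.ext
    intro b
    change α (σ b) = b
    have e1 : pr₁ (σ b) = b := congrArg (fun t : B ⟶ B => t.toAlgHom b) hσ1
    have e2 : pr₂ (σ b) = (toBase B ≫ baseToDual) b :=
      congrArg (fun t : B ⟶ dual Λ k => t.toAlgHom b) hσ2
    rw [hα (σ b), e1]
    rw [e2]
    rfl
  have hdσ : d = F.map σ f₁ := by
    apply (h2 pr₁ pr₂ hD1).1
    apply FibProd.ext
    · change F.map pr₁ d = F.map pr₁ (F.map σ f₁)
      rw [hd1, ← Functor.map_comp_apply, hσ1, Functor.map_id_apply]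
    · exact @Subsingleton.elim _ ht _ _
  rw [← hd2, hdσ, ← Functor.map_comp_apply, hασ, Functor.map_id_apply]

theorem injective_map_of_surjective (F : Art Λ k ⥤ Type v)
    (h1 : Hbar F) (h2 : Heps F) (ht : Subsingleton (TangentSpace F))
    {A B : Art Λ k} (p : B ⟶ A) (hp : Function.Surjective p) : Function.Injective (F.map p) := by
  refine surjective_induction_smallExt (fun A B f => Function.Injective (F.map f)) ?_ ?_ ?_ p hp
  · intro A B e he
    have : IsIso (F.map e) := inferInstance
    exact ((isIso_iff_bijective (F.map e)).mp this).1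
  · intro A B p hp
    exact injective_map_of_smallExt F h1 h2 ht p hp
  · intro A B C p q hp hq
    rw [F.map_comp]
    intro x y hxy
    exact hp (hq hxy)

/-- the structure map `k → A` as a morphism from the base object (case `Λ = k`). -/
def fromBase {k : Type u} [Field k] (A : Art k k) : base k k ⟶ A :=
  ⟨Algebra.ofId k A, by
    apply AlgHom.ext
    intro c
    change A.res (algebraMap k A c) = c
    rw [AlgHom.commutes]; rfl⟩

theorem main {k : Type u} [Field k] (F : Art k k ⥤ Type v)
    (h0 : H0 F) (h1 : Hbar F) (h2 : Heps F)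
    (ht : Subsingleton (TangentSpace F)) (A : Art k k) :
    Nonempty (F.obj A) ∧ Subsingleton (F.obj A) := by
  obtain ⟨⟨x0⟩, hs⟩ := h0
  refine ⟨⟨F.map (fromBase A) x0⟩, ⟨fun x y => ?_⟩⟩
  exact injective_map_of_surjective F h1 h2 ht (toBase A) A.res_surjective
    (@Subsingleton.elim _ hs _ _)

end Groth.Agent.Helper7.ArtOnePt
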