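import Mathlib

namespace Groth.Agent.Helper7.ArtPow

universe u

theorem isArtinian_quot_pow (R : Type u) [CommRing R] (I : Ideal R) (hI : I.FG)
    [IsArtinianRing (R ⧸ I)] (n : ℕ) : IsArtinian R (R ⧸ I ^ n) := by
  induction n with
  | zero =>
    have : Subsingleton (R ⧸ I ^ 0) := by
      rw [pow_zero, Ideal.one_eq_top]
      exact Ideal.Quotient.subsingleton_iff.mpr rfl
    infer_instance
  | succ n ih =>
    set q : R →ₗ[R] R ⧸ I ^ (n + 1) := Submodule.mkQ (I ^ (n + 1)) with hq
    set N' : Submodule R (R ⧸ I ^ (n + 1)) := Submodule.map q (I ^ n) with hN'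
    have hle : I ^ (n + 1) ≤ I ^ n := Ideal.pow_le_pow_right (Nat.le_succ n)
    set g : (R ⧸ I ^ (n + 1)) →ₗ[R] (R ⧸ I ^ n) :=
      Submodule.mapQ (I ^ (n + 1)) (I ^ n) LinearMap.id hle with hg
    have htors : Module.IsTorsionBySet R N' I := by
      rintro ⟨x, hx⟩ ⟨a, ha⟩
      obtain ⟨r, hr, rfl⟩ := hx
      apply Subtype.ext
      simp only [Submodule.coe_smul, Submodule.coe_zero]
      rw [← map_smul, hq, Submodule.mkQ_apply, Submodule.Quotient.mk_eq_zero, smul_eq_mul, pow_succ']
      exact Ideal.mul_mem_mul ha hr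
    letI : Module (R ⧸ I) N' := htors.module
    haveI : IsScalarTower R (R ⧸ I) N' := htors.isScalarTower
    haveI : Module.Finite R N' :=
      Module.Finite.iff_fg.mpr (Submodule.FG.map q (Ideal.FG.pow hI))
    haveI : Module.Finite (R ⧸ I) N' := Module.Finite.of_restrictScalars_finite R (R ⧸ I) N'
    haveI : IsArtinian (R ⧸ I) N' := inferInstance
    haveI : IsArtinian R N' :=
      isArtinian_of_surjective_algebraMap (S := R) (R := R ⧸ I) (M := N')
        Ideal.Quotient.mk_surjective
    refine isArtinian_of_range_eq_ker N'.subtype g ?_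
    rw [Submodule.range_subtype]
    ext x
    obtain ⟨r, rfl⟩ := Submodule.mkQ_surjective (I ^ (n + 1)) x
    rw [LinearMap.mem_ker, hg, Submodule.mkQ_apply, Submodule.mapQ_apply, LinearMap.id_apply,
      Submodule.Quotient.mk_eq_zero, hN']
    constructor
    · rintro ⟨r', hr', h⟩
      rw [hq, Submodule.mkQ_apply, Submodule.Quotient.eq] at h
      have := Submodule.add_mem _ (hle h) hr'
      rw [show r' - r + r' = r' - r + r' from rfl] at this
      have h2 : r = r' - (r' - r) := by ring
      rw [h2]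
      exact Submodule.sub_mem _ hr' (hle h)
    · intro hr
      exact ⟨r, hr, rfl⟩

theorem result (R : Type u) [CommRing R] (I : Ideal R) (hI : I.FG) [IsArtinianRing (R ⧸ I)]
    (n : ℕ) : IsArtinianRing (R ⧸ I ^ n) :=
  isArtinian_of_tower R (isArtinian_quot_pow R I hI n)

end Groth.Agent.Helper7.ArtPow
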