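import Mathlib

set_option autoImplicit false
universe u v

namespace Groth.Agent.Helper7.ArtinSchreier

open Polynomial Module

/-- A Galois extension of degree `p` in characteristic `p` has an Artin–Schreier generator. -/
theorem exists_artinSchreier (K : Type u) [Field K] (p : ℕ) [Fact p.Prime] [CharP K p]
    (L : Type v) [Field L] [Algebra K L] [IsGalois K L] (hL : Module.finrank K L = p) :
    ∃ (θ : L) (σ : L ≃ₐ[K] L), σ θ = θ + 1 ∧ θ ^ p - θ ∈ Set.range (algebraMap K L) := by
  have hp : p.Prime := Fact.out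
  have hfd : FiniteDimensional K L := Module.finite_of_finrank_pos (by rw [hL]; exact hp.pos)
  have hcharL : CharP L p := charP_of_injective_algebraMap (algebraMap K L).injective p
  have hcard : Nat.card (L ≃ₐ[K] L) = p := by rw [IsGalois.card_aut_eq_finrank, hL]
  have hfin : Finite (L ≃ₐ[K] L) := Nat.finite_of_card_ne_zero (by rw [hcard]; exact hp.ne_zero)
  obtain ⟨σ, hσ⟩ : ∃ σ : L ≃ₐ[K] L, σ ≠ 1 := by
    have : Nontrivial (L ≃ₐ[K] L) := by
      rw [← Finite.one_lt_card_iff_nontrivial, hcard]
      exact hp.one_lt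
    exact exists_ne 1
  have htop : Subgroup.zpowers σ = ⊤ := zpowers_eq_top_of_prime_card hcard hσ
  have hfix : ∀ x : L, σ x = x → x ∈ Set.range (algebraMap K L) := by
    intro x hx
    rw [IsGalois.mem_range_algebraMap_iff_fixed]
    intro f
    have hf : f ∈ Subgroup.zpowers σ := by rw [htop]; exact Subgroup.mem_top f
    obtain ⟨k, rfl⟩ := Subgroup.mem_zpowers_iff.1 hf
    have hmem : σ ∈ MulAction.stabilizer (L ≃ₐ[K] L) x := hx
    have := Subgroup.zpow_mem _ hmem k
    exact this
  have hσp : σ ^ p = 1 := by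
    rw [← hcard]
    exact pow_card_eq_one'
  -- the nilpotent operator σ - 1
  have hcharE : CharP (Module.End K L) p :=
    charP_of_injective_algebraMap (algebraMap K (Module.End K L)).injective p
  set N : Module.End K L := σ.toLinearMap - 1 with hN
  have hNp : N ^ p = 0 := by
    have hcomm : Commute (σ.toLinearMap : Module.End K L) 1 := Commute.one_right _
    rw [hN, sub_pow_char_of_commute p hcomm, one_pow]
    have : (σ.toLinearMap : Module.End K L) ^ p = 1 := by
      ext x
      rw [Module.End.pow_apply]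
      have h1 : ∀ k : ℕ, (σ.toLinearMap)^[k] x = (σ ^ k) x := by
        intro k
        induction k with
        | zero => rfl
        | succ k ih =>
          rw [Function.iterate_succ_apply', ih, pow_succ']
          rfl
      rw [h1, hσp]
      rfl
    rw [this, sub_self]
  have hNapp : ∀ x : L, N x = σ x - x := fun x => rfl
  obtain ⟨x, hx⟩ : ∃ x : L, σ x ≠ x := by
    by_contra h
    push Not at h
    exact hσ (AlgEquiv.ext h)
  have hex : ∃ k : ℕ, (N ^ (k + 1)) x = 0 := ⟨p - 1, by
    rw [Nat.sub_add_cancel hp.pos, hNp]; rfl⟩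
  classical
  set k := Nat.find hex with hk
  have hk1 : (N ^ (k + 1)) x = 0 := Nat.find_spec hex
  have hkpos : 0 < k := by
    rcases Nat.eq_zero_or_pos k with h0 | h0
    · exfalso
      rw [h0, zero_add, pow_one, hNapp, sub_eq_zero] at hk1
      exact hx hk1
    · exact h0
  have hk0 : (N ^ k) x ≠ 0 := by
    have := Nat.find_min hex (m := k - 1) (by omega)
    rw [Nat.sub_add_cancel hkpos] at this
    exact this
  set c := (N ^ k) x with hc
  have hσc : σ c = c := by
    have : N c = 0 := by
      rw [hc, ← Module.End.mul_apply, ← pow_succ']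
      exact hk1
    rw [hNapp, sub_eq_zero] at this
    exact this
  set y := (N ^ (k - 1)) x with hy
  have hNy : N y = c := by
    rw [hy, hc, ← Module.End.mul_apply, ← pow_succ', Nat.sub_add_cancel hkpos]
  have hσy : σ y = y + c := by
    rw [← hNy, hNapp]
    ring
  refine ⟨c⁻¹ * y, σ, ?_, ?_⟩
  · rw [map_mul, map_inv₀, hσc, hσy, mul_add, inv_mul_cancel₀ hk0]
  · apply hfix
    have h1 : σ (c⁻¹ * y) = c⁻¹ * y + 1 := by
      rw [map_mul, map_inv₀, hσc, hσy, mul_add, inv_mul_cancel₀ hk0]
    rw [map_sub, map_pow, h1, add_pow_char, one_pow]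
    ring

end Groth.Agent.Helper7.ArtinSchreier
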