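import Mathlib
import Groth.Agent.Helper7.ZNPurP
import Groth.Agent.Helper3.CHR5
import Groth.Agent.Helper5.ComplDVR

set_option autoImplicit false
universe u v w x

/-!
# Group actions on finite normal extensions of complete regular local rings, étale on the punctured
spectrum: the residue field extension is Galois with the same group
-/

namespace Groth.Agent.Helper7.AutLift

open IsLocalRing Groth.Agent.Helper3.CHR Groth.Agent.Helper7.ZNPur
open scoped Pointwise

attribute [local instance] Ideal.Quotient.field

section Transfer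

/-- A field without Galois extensions of degree `p` (in its own universe) has no such extensions
in any universe, and the same holds for every field isomorphic to it. -/
theorem false_of_galois_of_bijective (p : ℕ) (k : Type v) [Field k] (κ₀ : Type u) [Field κ₀]
    [Algebra k κ₀] (hbij : Function.Bijective (algebraMap k κ₀))
    (hkp : ∀ (L : Type v) [Field L] [Algebra k L], IsGalois k L → Module.finrank k L ≠ p)
    (κ : Type w) [Field κ] [Algebra κ₀ κ] [FiniteDimensional κ₀ κ] [IsGalois κ₀ κ]
    (h : Module.finrank κ₀ κ = p) : False := by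
  letI : Algebra k κ := ((algebraMap κ₀ κ).comp (algebraMap k κ₀)).toAlgebra
  haveI : IsScalarTower k κ₀ κ := IsScalarTower.of_algebraMap_eq (fun _ => rfl)
  let e : κ₀ ≃+* k := (RingEquiv.ofBijective (algebraMap k κ₀) hbij).symm
  have hcomp : (algebraMap k κ).comp (e : κ₀ →+* k) =
      ((RingEquiv.refl κ : κ ≃+* κ) : κ →+* κ).comp (algebraMap κ₀ κ) := by
    ext x
    obtain ⟨c, rfl⟩ := hbij.2 x
    have : e (algebraMap k κ₀ c) = c := (RingEquiv.ofBijective (algebraMap k κ₀) hbij).symm_apply_apply c
    simp only [RingHom.comp_apply, RingHom.coe_coe, this, RingEquiv.refl_apply]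
    rfl
  haveI : IsGalois k κ := IsGalois.of_equiv_equiv (f := e) (g := RingEquiv.refl κ) hcomp
  have hfr : Module.finrank k κ = p := by
    rw [← h]
    exact (Algebra.finrank_eq_of_equiv_equiv e (RingEquiv.refl κ) hcomp).symm
  haveI : FiniteDimensional k κ := by
    apply Module.finite_of_finrank_pos
    rw [hfr, h.symm]
    exact Module.finrank_pos
  let f : κ →ₐ[k] AlgebraicClosure k := IsAlgClosed.lift
  let e' : κ ≃ₐ[k] f.fieldRange := AlgEquiv.ofInjectiveField f
  haveI : IsGalois k f.fieldRange := IsGalois.of_algEquiv e'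
  exact hkp f.fieldRange inferInstance (by rw [← hfr]; exact e'.toLinearEquiv.finrank_eq.symm)

end Transfer

section Main

variable (A : Type u) [CommRing A] [IsRegularLocalRing A]
    [IsAdicComplete (maximalIdeal A) A]
    (E : Type v) [CommRing E] [IsDomain E] [IsIntegrallyClosed E] [Algebra A E] [Module.Finite A E]
    (Γ : Type w) [Group Γ] [Finite Γ] [MulSemiringAction Γ E] [SMulCommClass Γ A E]
    [Algebra.IsInvariant A E Γ] [FaithfulSMul Γ E]

/-- purity: trivial inertia off the closed point implies étale -/
theorem etale_of_free (hdim : (2 : WithBot ℕ∞) ≤ ringKrullDim A)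
    (hinj : Function.Injective (algebraMap A E))
    (hQ : ∀ Q : Ideal E, Q.IsPrime → Q.comap (algebraMap A E) ≠ maximalIdeal A →
        ∀ γ : Γ, γ ≠ 1 → ∃ x : E, γ • x - x ∉ Q) : Algebra.Etale A E := by
  apply etale_of_etPunct_univ A E hdim hinj
  intro q _ hq
  exact formallyEtale_atPrime A E Γ hinj q (hQ q inferInstance hq)

include A in
omit [IsIntegrallyClosed E] in
theorem isLocalRing_of_finite : IsLocalRing E := by
  haveI : IsNoetherianRing A := inferInstance
  obtain ⟨M, hM, huniq⟩ :=
    Groth.Agent.Helper5.ComplDVR.existsUnique_isMaximal_of_finite_of_complete A E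
  exact IsLocalRing.of_unique_max_ideal ⟨M, hM, huniq⟩

/-- The key contradiction: a group of order `p` acting on a finite normal extension `E` of a
complete regular local ring `A` of dimension `≥ 2` with invariants `A` and free off the closed
point produces a Galois extension of degree `p` of the residue field. -/
theorem false_of_card_eq (p : ℕ) (hdim : (2 : WithBot ℕ∞) ≤ ringKrullDim A)
    (hinj : Function.Injective (algebraMap A E))
    (hQ : ∀ Q : Ideal E, Q.IsPrime → Q.comap (algebraMap A E) ≠ maximalIdeal A →
        ∀ γ : Γ, γ ≠ 1 → ∃ x : E, γ • x - x ∉ Q)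
    (hcard : Nat.card Γ = p)
    (k : Type x) [Field k] [Algebra k A]
    (hk : Function.Surjective (IsLocalRing.residue A ∘ algebraMap k A))
    (hkp : ∀ (L : Type x) [Field L] [Algebra k L], IsGalois k L → Module.finrank k L ≠ p) :
    False := by
  haveI : Algebra.Etale A E := etale_of_free A E Γ hdim hinj hQ
  haveI : IsLocalRing E := isLocalRing_of_finite A E
  haveI : IsNoetherianRing E := IsNoetherianRing.of_finite A E
  haveI : Algebra.IsIntegral A E := Algebra.IsIntegral.of_finite A E
  set P := maximalIdeal A with hP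
  set Q := maximalIdeal E with hQdef
  haveI hover : Q.LiesOver P := ⟨by
    have : (Q.comap (algebraMap A E)).IsMaximal :=
      Ideal.isMaximal_comap_of_isIntegral_of_isMaximal Q
    exact (IsLocalRing.eq_maximalIdeal this).symm⟩
  haveI : Algebra.FormallyUnramified A E := inferInstance
  haveI : Algebra.FormallyUnramified A (E ⧸ Q) := .comp A E (E ⧸ Q)
  haveI : Algebra.FormallyUnramified (A ⧸ P) (E ⧸ Q) := .of_restrictScalars A _ _
  haveI : Module.Finite (A ⧸ P) (E ⧸ Q) :=
    Module.Finite.of_restrictScalars_finite A (A ⧸ P) (E ⧸ Q)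
  haveI : Algebra.IsSeparable (A ⧸ P) (E ⧸ Q) := Algebra.FormallyUnramified.isSeparable _ _
  haveI : Normal (A ⧸ P) (E ⧸ Q) := Ideal.Quotient.normal Γ P Q
  haveI : IsGalois (A ⧸ P) (E ⧸ Q) := ⟨⟩
  -- the inertia group of the closed point is trivial
  have hin : ∀ γ : Γ, (∀ x : E, γ • x - x ∈ Q) → γ = 1 := by
    intro γ hγ
    have h1 : (MulSemiringAction.toAlgHom A E γ) = AlgHom.id A E := by
      apply Algebra.FormallyUnramified.ext_of_iInf (I := Q)
        (Ideal.iInf_pow_eq_bot_of_isLocalRing _ (maximalIdeal.isMaximal E).ne_top)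
      intro x
      rw [Ideal.Quotient.eq]
      exact hγ x
    apply FaithfulSMul.eq_of_smul_eq_smul (α := E)
    intro x
    rw [one_smul]
    exact AlgHom.congr_fun h1 x
  have hstab : MulAction.stabilizer Γ Q = ⊤ := by
    rw [eq_top_iff]
    intro γ _
    rw [MulAction.mem_stabilizer_iff]
    have : (γ • Q).IsMaximal := by
      rw [Ideal.pointwise_smul_eq_comap]
      exact Ideal.comap_isMaximal_of_surjective _
        (MulSemiringAction.toRingEquiv Γ E γ⁻¹).surjective
    exact IsLocalRing.eq_maximalIdeal this
  have hinj' : Function.Injective (Ideal.Quotient.stabilizerHom Q P Γ) := by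
    rw [← MonoidHom.ker_eq_bot_iff, Ideal.Quotient.ker_stabilizerHom, eq_bot_iff]
    intro γ hγ
    rw [Subgroup.mem_bot]
    apply Subtype.ext
    apply hin
    intro x
    exact hγ x
  have hsurj := Ideal.Quotient.stabilizerHom_surjective Γ P Q
  have hcardAut : Nat.card ((E ⧸ Q) ≃ₐ[A ⧸ P] (E ⧸ Q)) = Nat.card Γ := by
    rw [← Nat.card_congr (Equiv.ofBijective _ ⟨hinj', hsurj⟩)]
    exact (Subgroup.card_eq_iff_eq_top _).mpr hstab
  have hfr : Module.finrank (A ⧸ P) (E ⧸ Q) = p := by
    rw [← IsGalois.card_aut_eq_finrank, hcardAut, hcard]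
  have hbij : Function.Bijective (algebraMap k (A ⧸ P)) := by
    refine ⟨(algebraMap k (A ⧸ P)).injective, ?_⟩
    intro x
    obtain ⟨c, hc⟩ := hk x
    exact ⟨c, hc⟩
  exact false_of_galois_of_bijective p k (A ⧸ P) hbij hkp (E ⧸ Q) hfr

end Main

end Groth.Agent.Helper7.AutLift
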