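import Mathlib

set_option autoImplicit false
universe u v w

/-!
# Field theory for lifting automorphisms: twisting a finite Galois extension `L/K` by an
automorphism of `K`
-/

namespace Groth.Agent.Helper7.AutLift

open Polynomial

section Factor

/-- factor a ring hom through an injective ring hom containing its range -/
theorem exists_factor {R S T : Type*} [CommRing R] [CommRing S] [CommRing T] (i : S →+* T)
    (hi : Function.Injective i) (g : R →+* T) (h : ∀ x, g x ∈ i.range) :
    ∃ g' : R →+* S, ∀ x, i (g' x) = g x := by
  let e : S ≃+* i.range := RingEquiv.ofBijective i.rangeRestrict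
    ⟨fun a b hab => hi (congrArg Subtype.val hab), i.rangeRestrict_surjective⟩
  refine ⟨(e.symm : i.range →+* S).comp (g.codRestrict i.range h), fun x => ?_⟩
  have h1 : e (e.symm (g.codRestrict i.range h x)) = g.codRestrict i.range h x :=
    e.apply_symm_apply _
  exact congrArg Subtype.val h1

end Factor

section Twist

variable {K L : Type u} [Field K] [Field L] [Algebra K L] (φ : K ≃+* K)

/-- the twisted minimal polynomial -/
noncomputable def tw (x : L) : L[X] := ((minpoly K x).map (φ : K →+* K)).map (algebraMap K L)

variable {T : Type v} [Field T] [Algebra L T] (j : L →+* T)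
  (hj : ∀ c : K, j (algebraMap K L c) = algebraMap L T (algebraMap K L (φ c)))

include hj in
lemma tw_map (x : L) :
    (tw φ x).map (algebraMap L T) = ((minpoly K x).map (algebraMap K L)).map j := by
  rw [tw, Polynomial.map_map, Polynomial.map_map, Polynomial.map_map]
  congr 1
  ext c
  simp [hj]

include hj in
lemma aeval_tw (x : L) : aeval (j x) (tw φ x) = 0 := by
  rw [← Polynomial.eval_map_algebraMap, tw_map φ j hj, Polynomial.eval_map, Polynomial.eval₂_hom,
    Polynomial.eval_map_algebraMap, minpoly.aeval, map_zero]

variable [FiniteDimensional K L]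

lemma tw_monic (x : L) : (tw φ x).Monic := by
  have h : IsIntegral K x := Algebra.IsIntegral.isIntegral x
  exact ((minpoly.monic h).map _).map _

variable [IsGalois K L]

lemma tw_separable (x : L) : (tw φ x).Separable := by
  have h : (minpoly K x).Separable := Algebra.IsSeparable.isSeparable K x
  exact (h.map).map

include hj in
lemma mem_range_of_aeval_tw (x : L) (z : T) (hz : aeval z (tw φ x) = 0) : z ∈ j.range := by
  have h : IsIntegral K x := Algebra.IsIntegral.isIntegral x
  have hsp : ((minpoly K x).map (algebraMap K L)).Splits := Normal.splits inferInstance x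
  have hne : (minpoly K x).map (algebraMap K L) ≠ 0 := ((minpoly.monic h).map _).ne_zero
  apply hsp.mem_range_of_isRoot hne (i := j) (x := z)
  rw [← tw_map φ j hj, Polynomial.IsRoot, Polynomial.eval_map_algebraMap]
  exact hz

end Twist

section Hom

variable {K L : Type u} [Field K] [Field L] [Algebra K L] [FiniteDimensional K L] [IsGalois K L]
  (φ : K ≃+* K) {F : Type v} [Field F] [Algebra L F] (j : L →+* F)
  (hj : ∀ c : K, j (algebraMap K L c) = algebraMap L F (algebraMap K L (φ c)))

include hj in
/-- every `L`-automorphism of `F` preserves the twisted copy `j(L)` and induces a `K`-automorphism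
of `L` -/
theorem exists_hom (hgen : ∀ γ : F ≃ₐ[L] F, (∀ x, γ (j x) = j x) → γ = 1) :
    ∃ f : (F ≃ₐ[L] F) →* (L ≃ₐ[K] L), Function.Injective f ∧ ∀ γ x, j (f γ x) = γ (j x) := by
  have key : ∀ γ : F ≃ₐ[L] F, ∃ σ : L ≃ₐ[K] L, ∀ x, j (σ x) = γ (j x) := by
    intro γ
    obtain ⟨g, hg⟩ := exists_factor j j.injective ((γ : F →+* F).comp j) (by
      intro x
      apply mem_range_of_aeval_tw φ j hj x
      have h1 : aeval (γ (j x)) (tw φ x) = γ (aeval (j x) (tw φ x)) :=
        Polynomial.aeval_algHom_apply (γ : F →ₐ[L] F) (j x) (tw φ x)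
      change aeval (γ (j x)) (tw φ x) = 0
      rw [h1, aeval_tw φ j hj, map_zero])
    have hg' : ∀ x, j (g x) = γ (j x) := hg
    let g' : L →ₐ[K] L :=
      { g with
        commutes' := fun c => by
          apply j.injective
          change j (g (algebraMap K L c)) = j (algebraMap K L c)
          rw [hg', hj, γ.commutes] }
    refine ⟨AlgEquiv.ofBijective g' (Algebra.IsAlgebraic.algHom_bijective g'), fun x => ?_⟩
    exact hg' x
  choose s hs using key
  refine ⟨{ toFun := s, map_one' := ?_, map_mul' := ?_ }, ?_, hs⟩
  · ext x
    apply j.injective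
    rw [hs]
    simp
  · intro γ γ'
    ext x
    apply j.injective
    rw [hs, AlgEquiv.mul_apply, AlgEquiv.mul_apply, hs, hs]
  · intro γ γ' h
    have h1 : ∀ x, γ (j x) = γ' (j x) := by
      intro x
      rw [← hs, ← hs]
      exact congrArg j (AlgEquiv.congr_fun h x)
    have h2 : γ'⁻¹ * γ = 1 := by
      apply hgen
      intro x
      rw [AlgEquiv.mul_apply, h1]
      exact γ'.symm_apply_apply _
    calc γ = γ' * (γ'⁻¹ * γ) := by group
      _ = γ' := by rw [h2, mul_one]

end Hom

end Groth.Agent.Helper7.AutLift
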