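import Mathlib
import Groth.Agent.Helper7.AutLiftB

set_option autoImplicit false
universe u v w

/-!
# The compositum of a finite Galois extension with its twist by an automorphism of the base
-/

namespace Groth.Agent.Helper7.AutLift

open Polynomial IntermediateField

section Closure

variable (K L : Type u) [Field K] [Field L] [Algebra K L] [FiniteDimensional K L] [IsGalois K L]
  (φ : K ≃+* K) (Ω : Type v) [Field Ω] [IsAlgClosed Ω] [Algebra L Ω]

theorem exists_embedding :
    ∃ j : L →+* Ω, ∀ c : K, j (algebraMap K L c) = algebraMap L Ω (algebraMap K L (φ c)) := by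
  letI : Algebra K Ω := ((algebraMap L Ω).comp ((algebraMap K L).comp (φ : K →+* K))).toAlgebra
  let f : L →ₐ[K] Ω := IsAlgClosed.lift
  exact ⟨f.toRingHom, fun c => f.commutes c⟩

/-- the compositum `F = L · j(L)` of `L` with its `φ`-twist, as a finite Galois extension of `L` -/
theorem exists_field : ∃ (F : IntermediateField L Ω) (j : L →+* F),
    FiniteDimensional L F ∧ IsGalois L F ∧
    (∀ c : K, j (algebraMap K L c) = algebraMap L F (algebraMap K L (φ c))) ∧
    ∀ γ : F ≃ₐ[L] F, (∀ x, γ (j x) = j x) → γ = 1 := by
  obtain ⟨j, hj⟩ := exists_embedding K L φ Ω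
  obtain ⟨t, ht⟩ := Field.exists_primitive_element K L
  have htint : IsIntegral K t := Algebra.IsIntegral.isIntegral t
  have hadj : Algebra.adjoin K {t} = ⊤ := by
    rw [← IntermediateField.adjoin_simple_toSubalgebra_of_isAlgebraic htint.isAlgebraic, ht,
      IntermediateField.top_toSubalgebra]
  set q := tw φ t with hq
  have hsplit : (q.map (algebraMap L Ω)).Splits := IsAlgClosed.splits _
  have hroot : ∀ z ∈ q.rootSet Ω, z ∈ j.range := by
    intro z hz
    exact mem_range_of_aeval_tw φ j hj t z (Polynomial.mem_rootSet.1 hz).2
  refine ⟨IntermediateField.adjoin L (q.rootSet Ω), ?_⟩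
  set F := IntermediateField.adjoin L (q.rootSet Ω) with hF
  haveI : q.IsSplittingField L F := IntermediateField.adjoin_rootSet_isSplittingField hsplit
  haveI : IsGalois L F := IsGalois.of_separable_splitting_field (tw_separable φ t)
  haveI : FiniteDimensional L F := Polynomial.IsSplittingField.finiteDimensional F q
  have hjt : j t ∈ F :=
    IntermediateField.subset_adjoin L _
      (Polynomial.mem_rootSet.2 ⟨(tw_monic φ t).ne_zero, aeval_tw φ j hj t⟩)
  let S : Subalgebra K L :=
    { carrier := {x | j x ∈ F}
      mul_mem' := fun {a b} ha hb => by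
        change j (a * b) ∈ F
        rw [map_mul]
        exact mul_mem ha hb
      add_mem' := fun {a b} ha hb => by
        change j (a + b) ∈ F
        rw [map_add]
        exact add_mem ha hb
      algebraMap_mem' := fun c => by
        change j (algebraMap K L c) ∈ F
        rw [hj]
        exact F.algebraMap_mem _ }
  have hS : (⊤ : Subalgebra K L) ≤ S := by
    rw [← hadj]
    apply Algebra.adjoin_le
    intro x hx
    rw [Set.mem_singleton_iff] at hx
    subst hx
    exact hjt
  have hjF : ∀ x, j x ∈ F := fun x => hS (Algebra.mem_top (x := x))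
  refine ⟨j.codRestrict F hjF, inferInstance, inferInstance, ?_, ?_⟩
  · intro c
    apply Subtype.ext
    exact hj c
  · intro γ hγ
    have h1 : (F.val.comp (γ : F →ₐ[L] F)) = F.val := by
      apply IntermediateField.adjoin_algHom_ext
      intro z hz
      obtain ⟨x, hx⟩ := hroot z hz
      have h2 : (⟨z, IntermediateField.subset_adjoin L _ hz⟩ : F) = j.codRestrict F hjF x := by
        apply Subtype.ext
        exact hx.symm
      rw [h2]
      change ((γ (j.codRestrict F hjF x) : F) : Ω) = _
      rw [hγ]
      rfl
    ext y
    have h3 := AlgHom.congr_fun h1 y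
    exact h3

end Closure

end Groth.Agent.Helper7.AutLift
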