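import Mathlib
import Groth.Agent.Helper7.AutLiftA
import Groth.Agent.Helper7.AutLiftC
import Groth.Agent.Helper4.RegNormal
import Groth.Agent.Lead.RegLocal

set_option autoImplicit false
universe u v w x

/-!
# Lifting automorphisms of the ring of invariants: the ring-level argument
-/

namespace Groth.Agent.Helper7.AutLift

open IsLocalRing Polynomial
open scoped Pointwise

section Integral

/-- integrality is preserved by a twisted ring homomorphism -/
theorem isIntegralElem_twist {B L F : Type*} [CommRing B] [CommRing L] [CommRing F]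
    (g : B →+* L) (g' : B →+* F) (φ : B →+* B) (j : L →+* F) (h : j.comp g = g'.comp φ)
    (x : L) (hx : g.IsIntegralElem x) : g'.IsIntegralElem (j x) := by
  obtain ⟨P, hP, hPx⟩ := hx
  refine ⟨P.map φ, hP.map φ, ?_⟩
  rw [Polynomial.eval₂_map, ← h, ← Polynomial.hom_eval₂, hPx, map_zero]

end Integral

section Ring

variable (p : ℕ) [Fact p.Prime]
  (A : Type u) [CommRing A] [IsRegularLocalRing A] [IsAdicComplete (maximalIdeal A) A]
  (B : Type u) [CommRing B] [Algebra B A]
  (G : Type w) [Group G] [Finite G] [MulSemiringAction G A] [IsGaloisGroup G B A]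
  (K L : Type u) [Field K] [Field L] [Algebra K L] [Algebra B K] [Algebra A L] [Algebra B L]
  [IsFractionRing B K] [IsFractionRing A L] [IsScalarTower B K L] [IsScalarTower B A L]
  [MulSemiringAction G L] [SMulDistribClass G A L]

include p in
/-- the non-split case is impossible -/
theorem false_of_twist (hdim : (2 : WithBot ℕ∞) ≤ ringKrullDim A)
    (hram : ∀ P : Ideal A, P.IsPrime → P ≠ maximalIdeal A → P.inertia G = ⊥)
    (k : Type x) [Field k] [Algebra k A]
    (hk : Function.Surjective (IsLocalRing.residue A ∘ algebraMap k A))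
    (hkp : ∀ (M : Type x) [Field M] [Algebra k M], IsGalois k M → Module.finrank k M ≠ p)
    (φ : B ≃+* B)
    (F : Type u) [Field F] [Algebra L F] [FiniteDimensional L F] [IsGalois L F]
    (j : L →+* F)
    (hj : ∀ b : B, j (algebraMap B L b) = algebraMap L F (algebraMap B L (φ b)))
    (f : (F ≃ₐ[L] F) →* (L ≃ₐ[K] L)) (hf : Function.Injective f)
    (hfj : ∀ γ x, j (f γ x) = γ (j x))
    (hF : Module.finrank L F = p) : False := by
  haveI : IsDomain A := Groth.Agent.Lead.RegLocal.isDomain_of_isRegularLocalRing A
  haveI : IsIntegrallyClosed A := Groth.Agent.Helper4.RegNormal.isIntegrallyClosed_of_isRegularLocalRing A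
  haveI : IsNoetherianRing A := inferInstance
  haveI hGKL : IsGaloisGroup G K L := IsGaloisGroup.to_isFractionRing G B A K L
  haveI : Algebra.IsIntegral B A := Algebra.IsInvariant.isIntegral B A G
  letI : Algebra A F := ((algebraMap L F).comp (algebraMap A L)).toAlgebra
  haveI : IsScalarTower A L F := IsScalarTower.of_algebraMap_eq (fun _ => rfl)
  let E := integralClosure A F
  haveI : IsIntegralClosure E A F := integralClosure.isIntegralClosure A F
  haveI : IsFractionRing E F := integralClosure.isFractionRing_of_finite_extension L F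
  haveI : IsIntegrallyClosed E := integralClosure.isIntegrallyClosedOfFiniteExtension L
  haveI : Module.Finite A E := IsIntegralClosure.finite A L F E
  haveI : Algebra.IsIntegral A E := Algebra.IsIntegral.of_finite A E
  have hinjAF : Function.Injective (algebraMap A F) :=
    (algebraMap L F).injective.comp (IsFractionRing.injective A L)
  have hinj : Function.Injective (algebraMap A E) := by
    intro a b hab
    apply hinjAF
    rw [IsScalarTower.algebraMap_apply A E F, hab, ← IsScalarTower.algebraMap_apply A E F]
  -- the twisted embedding of `A` into `E`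
  have hjint : ∀ a : A, j (algebraMap A L a) ∈ E := by
    intro a
    have h1 : (algebraMap B L).IsIntegralElem (algebraMap A L a) := by
      have h2 : IsIntegral B a := Algebra.IsIntegral.isIntegral a
      have h3 := h2.map (IsScalarTower.toAlgHom B A L)
      exact h3
    have h4 := isIntegralElem_twist (algebraMap B L) ((algebraMap A F).comp (algebraMap B A))
      (φ : B →+* B) j (by
        ext b
        simp only [RingHom.comp_apply, RingHom.coe_coe]
        rw [hj, IsScalarTower.algebraMap_apply B A L]
        rfl) _ h1
    exact RingHom.isIntegralElem.of_comp _ _ h4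
  let jA : A →+* E := (j.comp (algebraMap A L)).codRestrict E hjint
  have hjA : ∀ a : A, algebraMap E F (jA a) = j (algebraMap A L a) := fun a => rfl
  have hjAB : ∀ b : B, jA (algebraMap B A b) = algebraMap A E (algebraMap B A (φ b)) := by
    intro b
    apply IsFractionRing.injective E F
    rw [hjA, ← IsScalarTower.algebraMap_apply B A L, hj, ← IsScalarTower.algebraMap_apply A E F,
      IsScalarTower.algebraMap_apply B A L]
    rfl
  -- `E` is integral over `jA(A)`
  have hjAint : jA.IsIntegral := by
    have h1 : ((algebraMap A E).comp (algebraMap B A)).IsIntegral :=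
      RingHom.IsIntegral.trans _ _ (algebraMap_isIntegral_iff.mpr inferInstance)
        (algebraMap_isIntegral_iff.mpr inferInstance)
    have h2 : (algebraMap A E).comp (algebraMap B A) =
        jA.comp ((algebraMap B A).comp (φ.symm : B →+* B)) := by
      ext b
      simp only [RingHom.comp_apply, RingHom.coe_coe]
      rw [hjAB, RingEquiv.apply_symm_apply]
    rw [h2] at h1
    exact RingHom.IsIntegral.tower_top _ _ h1
  -- the group
  let e := galRestrict A L F E
  haveI : Finite (E ≃ₐ[A] E) := Finite.of_equiv _ e.toEquiv
  haveI : Algebra.IsInvariant A E (E ≃ₐ[A] E) := Algebra.isInvariant_of_isGalois' A L F E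
  have hcardΓ : Nat.card (E ≃ₐ[A] E) = p := by
    rw [← Nat.card_congr e.toEquiv, IsGalois.card_aut_eq_finrank, hF]
  apply false_of_card_eq A E (E ≃ₐ[A] E) p hdim hinj ?_ hcardΓ k hk hkp
  intro Q hQ hQne γE hγE
  set γ := e.symm γE with hγ
  have hγe : γE = e γ := (e.apply_symm_apply γE).symm
  have hγ1 : γ ≠ 1 := by
    intro h
    apply hγE
    rw [hγe, h, map_one]
  have hσ1 : f γ ≠ 1 := fun h => hγ1 (hf (h.trans (map_one f).symm))
  let eG := IsGaloisGroup.mulEquivAlgEquiv G K L
  set g := eG.symm (f γ) with hg
  have hgeG : eG g = f γ := eG.apply_symm_apply _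
  have hg1 : g ≠ 1 := by
    intro h
    apply hσ1
    rw [← hgeG, h, map_one]
  have hgx : ∀ y : L, g • y = f γ y := by
    intro y
    rw [← hgeG]
    rfl
  -- the prime
  have hP'ne : Q.comap jA ≠ maximalIdeal A := by
    intro h
    have hmax : (Q.comap jA).IsMaximal := h ▸ maximalIdeal.isMaximal A
    have hQmax : Q.IsMaximal :=
      Ideal.isMaximal_of_isIntegral_of_isMaximal_comap' jA hjAint Q hmax
    have : (Q.comap (algebraMap A E)).IsMaximal :=
      Ideal.isMaximal_comap_of_isIntegral_of_isMaximal Q
    exact hQne (IsLocalRing.eq_maximalIdeal this)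
  have hin := hram (Q.comap jA) (Ideal.comap_isPrime _ _) hP'ne
  have hgnot : ¬ ∀ a : A, g • a - a ∈ Q.comap jA := by
    intro hall
    have hmem : g ∈ (Q.comap jA).inertia G := hall
    rw [hin, Subgroup.mem_bot] at hmem
    exact hg1 hmem
  push Not at hgnot
  obtain ⟨a, ha⟩ := hgnot
  refine ⟨jA a, ?_⟩
  have hkey : γE (jA a) = jA (g • a) := by
    apply IsFractionRing.injective E F
    have h1 : algebraMap A L (g • a) = g • algebraMap A L a := algebraMap.coe_smul' g a L
    rw [hjA, h1, hgx, hfj, ← hjA, hγe, algebraMap_galRestrict_apply]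
  change γE (jA a) - jA a ∉ Q
  rw [hkey, ← map_sub]
  exact ha

include p K L in
/-- **Lifting**: every ring automorphism of the invariants extends to a ring endomorphism of `A`. -/
theorem exists_ringHom_extends (hdim : (2 : WithBot ℕ∞) ≤ ringKrullDim A)
    (hcard : Nat.card G = p)
    (hram : ∀ P : Ideal A, P.IsPrime → P ≠ maximalIdeal A → P.inertia G = ⊥)
    (k : Type x) [Field k] [Algebra k A]
    (hk : Function.Surjective (IsLocalRing.residue A ∘ algebraMap k A))
    (hkp : ∀ (M : Type x) [Field M] [Algebra k M], IsGalois k M → Module.finrank k M ≠ p)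
    (φ : B ≃+* B) :
    ∃ ψ : A →+* A, ∀ b : B, ψ (algebraMap B A b) = algebraMap B A (φ b) := by
  haveI : IsDomain A := Groth.Agent.Lead.RegLocal.isDomain_of_isRegularLocalRing A
  haveI : IsIntegrallyClosed A := Groth.Agent.Helper4.RegNormal.isIntegrallyClosed_of_isRegularLocalRing A
  haveI hGKL : IsGaloisGroup G K L := IsGaloisGroup.to_isFractionRing G B A K L
  haveI : Algebra.IsIntegral B A := Algebra.IsInvariant.isIntegral B A G
  haveI : IsGalois K L := IsGaloisGroup.isGalois G K L
  haveI : FiniteDimensional K L := IsGaloisGroup.finiteDimensional G K L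
  have hfin : Module.finrank K L = p := by rw [← IsGaloisGroup.card_eq_finrank G K L, hcard]
  let φK : K ≃+* K := IsFractionRing.ringEquivOfRingEquiv φ
  have hφK : ∀ b : B, φK (algebraMap B K b) = algebraMap B K (φ b) :=
    fun b => IsFractionRing.ringEquivOfRingEquiv_algebraMap φ b
  obtain ⟨F, j, hFfin, hFgal, hj, hgen⟩ := exists_field K L φK (AlgebraicClosure L)
  haveI := hFfin
  haveI := hFgal
  obtain ⟨f, hf, hfj⟩ := exists_hom φK j hj hgen
  have hjB : ∀ b : B, j (algebraMap B L b) = algebraMap L F (algebraMap B L (φ b)) := by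
    intro b
    rw [IsScalarTower.algebraMap_apply B K L, hj, hφK, ← IsScalarTower.algebraMap_apply B K L]
  have hdvd : Nat.card (F ≃ₐ[L] F) ∣ p := by
    have := Subgroup.card_dvd_of_injective f hf
    rwa [IsGalois.card_aut_eq_finrank K L, hfin] at this
  rw [IsGalois.card_aut_eq_finrank L F] at hdvd
  rcases (Nat.dvd_prime (Fact.out)).mp hdvd with h1 | hp
  · -- the split case
    have hbot : (⊥ : Subalgebra L F) = ⊤ := Subalgebra.bot_eq_top_of_finrank_eq_one h1
    have hrange : ∀ x : L, j x ∈ (algebraMap L F).range := by
      intro x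
      have : j x ∈ (⊥ : Subalgebra L F) := by rw [hbot]; exact Algebra.mem_top
      exact Algebra.mem_bot.mp this
    obtain ⟨ψL, hψL⟩ := exists_factor (algebraMap L F) (algebraMap L F).injective j hrange
    have hψLB : ∀ b : B, ψL (algebraMap B L b) = algebraMap B L (φ b) := by
      intro b
      apply (algebraMap L F).injective
      rw [hψL, hjB]
    have hrangeA : ∀ a : A, (ψL.comp (algebraMap A L)) a ∈ (algebraMap A L).range := by
      intro a
      have h1 : (algebraMap B L).IsIntegralElem (algebraMap A L a) := by
        have h2 : IsIntegral B a := Algebra.IsIntegral.isIntegral a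
        exact h2.map (IsScalarTower.toAlgHom B A L)
      have h4 := isIntegralElem_twist (algebraMap B L) (algebraMap B L)
        (φ : B →+* B) ψL (by
          ext b
          simp only [RingHom.comp_apply, RingHom.coe_coe]
          rw [hψLB]) _ h1
      rw [IsScalarTower.algebraMap_eq B A L] at h4
      have h5 : IsIntegral A (ψL (algebraMap A L a)) := RingHom.isIntegralElem.of_comp _ _ h4
      obtain ⟨y, hy⟩ := IsIntegrallyClosed.algebraMap_eq_of_integral h5
      exact ⟨y, hy⟩
    obtain ⟨ψ, hψ⟩ := exists_factor (algebraMap A L) (IsFractionRing.injective A L)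
      (ψL.comp (algebraMap A L)) hrangeA
    refine ⟨ψ, fun b => ?_⟩
    apply IsFractionRing.injective A L
    rw [hψ, RingHom.comp_apply, ← IsScalarTower.algebraMap_apply B A L, hψLB,
      IsScalarTower.algebraMap_apply B A L]
  · exact (false_of_twist p A B G K L hdim hram k hk hkp φ F j hjB f hf hfj hp).elim

end Ring

end Groth.Agent.Helper7.AutLift
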