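import Mathlib
import Groth.Agent.Helper7.AutLiftD

set_option autoImplicit false
universe u v w x

/-!
# Lifting automorphisms of the ring of invariants: assembly
-/

namespace Groth.Agent.Helper7.AutLift

open IsLocalRing Polynomial
open scoped Pointwise

section Bij

/-- a ring endomorphism of an integral domain fixing a subring over which it is integral is
bijective -/
theorem bijective_of_fixes {B A : Type*} [CommRing B] [CommRing A] [IsDomain A] [Algebra B A]
    [Algebra.IsIntegral B A] (hBA : Function.Injective (algebraMap B A))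
    (θ : A →+* A) (hθ : ∀ b : B, θ (algebraMap B A b) = algebraMap B A b) :
    Function.Bijective θ := by
  haveI : IsDomain B := Function.Injective.isDomain (algebraMap B A) hBA
  haveI : FaithfulSMul B A := (faithfulSMul_iff_algebraMap_injective B A).mpr hBA
  have hinj : Function.Injective θ := by
    rw [RingHom.injective_iff_ker_eq_bot]
    apply Ideal.eq_bot_of_comap_eq_bot (R := B)
    rw [eq_bot_iff]
    intro b hb
    rw [Ideal.mem_comap, RingHom.mem_ker, hθ] at hb
    rw [Ideal.mem_bot]
    exact hBA (hb.trans (map_zero _).symm)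
  refine ⟨hinj, fun b => ?_⟩
  let θ' : A →ₐ[B] A := { θ with commutes' := hθ }
  obtain ⟨P, hP, he⟩ := Algebra.IsIntegral.isIntegral (R := B) b
  let f' : P.rootSet A → P.rootSet A :=
    (Polynomial.rootSet_maps_to' (fun x ↦ x) θ').restrict θ' _ _
  have hsurj : f'.Surjective := Finite.injective_iff_surjective.1
    fun _ _ h ↦ Subtype.ext <| hinj <| Subtype.ext_iff.1 h
  obtain ⟨a, ha⟩ := hsurj ⟨b, Polynomial.mem_rootSet.2 ⟨hP.ne_zero, he⟩⟩
  exact ⟨a, Subtype.ext_iff.1 ha⟩

end Bij

section Final

variable (p : ℕ) [Fact p.Prime] (A : Type u) [CommRing A] [IsRegularLocalRing A]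
    [IsAdicComplete (IsLocalRing.maximalIdeal A) A]
    (k : Type v) [Field k] [Algebra k A]
    (G : Type w) [Group G] [Finite G] [MulSemiringAction G A] [SMulCommClass G k A]

omit [IsAdicComplete (IsLocalRing.maximalIdeal A) A] in
/-- the action is faithful as soon as the generic point has trivial inertia -/
theorem faithful_of_ram (hdim : (2 : WithBot ℕ∞) ≤ ringKrullDim A)
    (hram : ∀ P : Ideal A, P.IsPrime → P ≠ IsLocalRing.maximalIdeal A → P.inertia G = ⊥) :
    FaithfulSMul G A := by
  haveI : IsDomain A := Groth.Agent.Lead.RegLocal.isDomain_of_isRegularLocalRing A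
  have hne : (⊥ : Ideal A) ≠ maximalIdeal A := by
    intro h
    have hf : IsField A := IsLocalRing.isField_iff_maximalIdeal_eq.mpr h.symm
    rw [ringKrullDim_eq_zero_of_isField hf] at hdim
    exact absurd hdim (by decide)
  have h0 := hram ⊥ Ideal.isPrime_bot hne
  refine ⟨fun {g₁ g₂} h => ?_⟩
  have hmem : g₂⁻¹ * g₁ ∈ (⊥ : Ideal A).inertia G := by
    intro x
    rw [mul_smul, h, inv_smul_smul, sub_self]
    exact zero_mem _
  rw [h0, Subgroup.mem_bot] at hmem
  calc g₁ = g₂ * (g₂⁻¹ * g₁) := by group
    _ = g₂ := by rw [hmem, mul_one]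

theorem main (hdim : (2 : WithBot ℕ∞) ≤ ringKrullDim A)
    (hk : Function.Surjective (IsLocalRing.residue A ∘ algebraMap k A))
    (hkp : ∀ (M : Type v) [Field M] [Algebra k M], IsGalois k M → Module.finrank k M ≠ p)
    (hcard : Nat.card G = p)
    (hram : ∀ P : Ideal A, P.IsPrime → P ≠ IsLocalRing.maximalIdeal A → P.inertia G = ⊥)
    (φ : FixedPoints.subalgebra k A G ≃ₐ[k] FixedPoints.subalgebra k A G) :
    ∃ ψ : A ≃ₐ[k] A, ∀ x : FixedPoints.subalgebra k A G, ψ x = φ x := by
  haveI : IsDomain A := Groth.Agent.Lead.RegLocal.isDomain_of_isRegularLocalRing A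
  haveI hfaith : FaithfulSMul G A := faithful_of_ram A G hdim hram
  let B := FixedPoints.subalgebra k A G
  haveI : IsGaloisGroup G B A := ⟨hfaith, inferInstance, ⟨fun x h => ⟨⟨x, h⟩, rfl⟩⟩⟩
  haveI : Algebra.IsIntegral B A := Algebra.IsInvariant.isIntegral B A G
  letI := FractionRing.liftAlgebra B (FractionRing A)
  letI := IsFractionRing.mulSemiringAction G A (FractionRing A)
  have key : ∀ φ' : B ≃+* B, ∃ ψ : A →+* A, ∀ b : B, ψ (algebraMap B A b) = algebraMap B A (φ' b) :=
    fun φ' => exists_ringHom_extends p A B G (FractionRing B) (FractionRing A) hdim hcard hram k hk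
      hkp φ'
  obtain ⟨ψ₀, hψ₀⟩ := key φ.toRingEquiv
  obtain ⟨ψ₁, hψ₁⟩ := key φ.symm.toRingEquiv
  have hBA : Function.Injective (algebraMap B A) := Subtype.val_injective
  have h10 : Function.Bijective (ψ₁.comp ψ₀) := by
    apply bijective_of_fixes hBA
    intro b
    rw [RingHom.comp_apply, hψ₀, hψ₁]
    congr 1
    exact φ.symm_apply_apply b
  have h01 : Function.Bijective (ψ₀.comp ψ₁) := by
    apply bijective_of_fixes hBA
    intro b
    rw [RingHom.comp_apply, hψ₁, hψ₀]
    congr 1
    exact φ.apply_symm_apply b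
  have hbij : Function.Bijective ψ₀ := by
    refine ⟨?_, ?_⟩
    · have := h10.1
      rw [RingHom.coe_comp] at this
      exact Function.Injective.of_comp this
    · have := h01.2
      rw [RingHom.coe_comp] at this
      exact Function.Surjective.of_comp this
  let ψ' : A →ₐ[k] A :=
    { ψ₀ with
      commutes' := fun c => by
        have h1 : algebraMap k A c = algebraMap B A (algebraMap k B c) := rfl
        change ψ₀ (algebraMap k A c) = algebraMap k A c
        rw [h1, hψ₀]
        congr 1
        exact φ.commutes c }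
  refine ⟨AlgEquiv.ofBijective ψ' hbij, fun x => ?_⟩
  exact hψ₀ x

end Final

end Groth.Agent.Helper7.AutLift
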