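import Mathlib
import Groth.Agent.Helper7.AutLiftE

set_option autoImplicit false
universe u v w x

/-!
# Counting automorphisms: `Frac(A)/Frac(R)` is Galois when `Frac(A^G)/Frac(R)` is
-/

namespace Groth.Agent.Helper7.AutLift

open IsLocalRing Polynomial nonZeroDivisors
open scoped Pointwise

section Upper

attribute [local instance] FractionRing.liftAlgebra in
/-- the automorphism group of a finite extension of domains is finite of order at most the rank -/
theorem card_algEquiv_le (R : Type*) (A : Type*) [CommRing R] [CommRing A] [IsDomain A]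
    [Algebra R A] [Module.Finite R A] (hinj : Function.Injective (algebraMap R A)) :
    Finite (A ≃ₐ[R] A) ∧ Nat.card (A ≃ₐ[R] A) ≤ Module.finrank R A := by
  haveI : IsDomain R := Function.Injective.isDomain (algebraMap R A) hinj
  haveI : FaithfulSMul R A := (faithfulSMul_iff_algebraMap_injective R A).mpr hinj
  haveI : Algebra.IsIntegral R A := Algebra.IsIntegral.of_finite R A
  haveI : Algebra.IsAlgebraic R A := inferInstance
  haveI : FiniteDimensional (FractionRing R) (FractionRing A) := .of_isLocalization R A R⁰
  have hinj' := IsFractionRing.fieldEquivOfAlgEquivHom_injective R A (FractionRing R)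
    (FractionRing A)
  haveI : Finite (A ≃ₐ[R] A) := Finite.of_injective _ hinj'
  refine ⟨inferInstance, ?_⟩
  calc Nat.card (A ≃ₐ[R] A) ≤ Nat.card (FractionRing A ≃ₐ[FractionRing R] FractionRing A) :=
        Nat.card_le_card_of_injective _ hinj'
    _ ≤ Module.finrank (FractionRing R) (FractionRing A) := by
        rw [Nat.card_eq_fintype_card]
        exact AlgEquiv.card_le
    _ = Module.finrank R A := IsFractionRing.finrank_eq R (FractionRing R) A (FractionRing A)

end Upper

section Count

variable (p : ℕ) [Fact p.Prime] (A : Type u) [CommRing A] [IsRegularLocalRing A]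
    [IsAdicComplete (IsLocalRing.maximalIdeal A) A]
    (k : Type v) [Field k] [Algebra k A]
    (G : Type w) [Group G] [Finite G] [MulSemiringAction G A] [SMulCommClass G k A]

theorem main_count (hdim : (2 : WithBot ℕ∞) ≤ ringKrullDim A)
    (hk : Function.Surjective (IsLocalRing.residue A ∘ algebraMap k A))
    (hkp : ∀ (M : Type v) [Field M] [Algebra k M], IsGalois k M → Module.finrank k M ≠ p)
    (hcard : Nat.card G = p)
    (hram : ∀ P : Ideal A, P.IsPrime → P ≠ IsLocalRing.maximalIdeal A → P.inertia G = ⊥)
    (R : Type x) [CommRing R] [Algebra R A] [Module.Finite R A]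
    (hRinj : Function.Injective (algebraMap R A))
    (hRG : ∀ (σ : G) (r : R), σ • algebraMap R A r = algebraMap R A r)
    (hgal : p * Nat.card {φ : FixedPoints.subalgebra k A G ≃ₐ[k] FixedPoints.subalgebra k A G //
        ∀ b : FixedPoints.subalgebra k A G, (b : A) ∈ Set.range (algebraMap R A) → (φ b : A) = b} =
      Module.finrank R A) :
    Nat.card (A ≃ₐ[R] A) = Module.finrank R A := by
  haveI : IsDomain A := Groth.Agent.Lead.RegLocal.isDomain_of_isRegularLocalRing A
  haveI hfaith : FaithfulSMul G A := faithful_of_ram A G hdim hram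
  obtain ⟨hfin, hle⟩ := card_algEquiv_le R A hRinj
  haveI := hfin
  refine le_antisymm hle ?_
  have hlift : ∀ φ : {φ : FixedPoints.subalgebra k A G ≃ₐ[k] FixedPoints.subalgebra k A G //
        ∀ b : FixedPoints.subalgebra k A G, (b : A) ∈ Set.range (algebraMap R A) → (φ b : A) = b},
      ∃ ψ : A ≃ₐ[k] A, ∀ x : FixedPoints.subalgebra k A G, ψ x = φ.1 x :=
    fun φ => main p A k G hdim hk hkp hcard hram φ.1
  choose Ψ hΨ using hlift
  have hfixR : ∀ φ (r : R), Ψ φ (algebraMap R A r) = algebraMap R A r := by
    intro φ r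
    have hb : ∀ σ : G, σ • algebraMap R A r = algebraMap R A r := fun σ => hRG σ r
    have h1 := hΨ φ ⟨algebraMap R A r, hb⟩
    have h2 := φ.2 ⟨algebraMap R A r, hb⟩ ⟨r, rfl⟩
    exact h1.trans h2
  let T : {φ : FixedPoints.subalgebra k A G ≃ₐ[k] FixedPoints.subalgebra k A G //
        ∀ b : FixedPoints.subalgebra k A G, (b : A) ∈ Set.range (algebraMap R A) → (φ b : A) = b} × G →
      (A ≃ₐ[R] A) := fun x =>
    AlgEquiv.ofRingEquiv
      (f := (MulSemiringAction.toRingEquiv G A x.2).trans (Ψ x.1).toRingEquiv) (by
        intro r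
        change Ψ x.1 (x.2 • algebraMap R A r) = algebraMap R A r
        rw [hRG, hfixR])
  have hT : ∀ x a, T x a = Ψ x.1 (x.2 • a) := fun x a => rfl
  have hTinj : Function.Injective T := by
    rintro ⟨φ, g⟩ ⟨φ', g'⟩ h
    have h1 : ∀ a : A, Ψ φ (g • a) = Ψ φ' (g' • a) := by
      intro a
      have := AlgEquiv.congr_fun h a
      rw [hT, hT] at this
      exact this
    have hφ : φ = φ' := by
      apply Subtype.ext
      ext b
      have h2 := h1 (b : A)
      rw [b.2 g, b.2 g', hΨ, hΨ] at h2
      exact h2
    subst hφ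
    have hg : g = g' := by
      apply FaithfulSMul.eq_of_smul_eq_smul (α := A)
      intro a
      exact (Ψ φ).injective (h1 a)
    rw [hg]
  have hcount := Nat.card_le_card_of_injective T hTinj
  rw [Nat.card_prod, hcard, mul_comm, hgal] at hcount
  exact hcount

end Count

end Groth.Agent.Helper7.AutLift
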