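import Mathlib
import Groth.Agent.Helper7.AutLiftA

set_option autoImplicit false
universe u v w x

/-!
# The residue field extension of a free-off-the-closed-point Galois cover of a complete regular
local ring is non-trivial
-/

namespace Groth.Agent.Helper7.AutLift

open IsLocalRing Groth.Agent.Helper3.CHR Groth.Agent.Helper7.ZNPur
open scoped Pointwise

attribute [local instance] Ideal.Quotient.field

section Main

variable (A : Type u) [CommRing A] [IsRegularLocalRing A]
    [IsAdicComplete (maximalIdeal A) A]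
    (E : Type v) [CommRing E] [IsDomain E] [IsIntegrallyClosed E] [Algebra A E] [Module.Finite A E]
    (Γ : Type w) [Group Γ] [Finite Γ] [MulSemiringAction Γ E] [SMulCommClass Γ A E]
    [Algebra.IsInvariant A E Γ] [FaithfulSMul Γ E]

/-- a non-trivial group acting on a finite normal extension `E` of a complete regular local ring
`A` of dimension `≥ 2` with invariants `A`, free off the closed point: the residue field of `E` is
strictly bigger than that of `A`. -/
theorem not_residue_surjective (hdim : (2 : WithBot ℕ∞) ≤ ringKrullDim A)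
    (hinj : Function.Injective (algebraMap A E))
    (hQ : ∀ Q : Ideal E, Q.IsPrime → Q.comap (algebraMap A E) ≠ maximalIdeal A →
        ∀ γ : Γ, γ ≠ 1 → ∃ x : E, γ • x - x ∉ Q)
    (hcard : 1 < Nat.card Γ) (Q₀ : Ideal E) [hQ₀ : Q₀.IsMaximal] :
    ¬ ∀ e : E, ∃ a : A, e - algebraMap A E a ∈ Q₀ := by
  intro hres
  haveI : Algebra.Etale A E := etale_of_free A E Γ hdim hinj hQ
  haveI : IsLocalRing E := isLocalRing_of_finite A E
  haveI : IsNoetherianRing E := IsNoetherianRing.of_finite A E
  haveI : Algebra.IsIntegral A E := Algebra.IsIntegral.of_finite A E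
  set P := maximalIdeal A with hP
  set Q := maximalIdeal E with hQdef
  have hQ₀Q : Q₀ = Q := IsLocalRing.eq_maximalIdeal hQ₀
  haveI hover : Q.LiesOver P := ⟨by
    have : (Q.comap (algebraMap A E)).IsMaximal :=
      Ideal.isMaximal_comap_of_isIntegral_of_isMaximal Q
    exact (IsLocalRing.eq_maximalIdeal this).symm⟩
  haveI : Algebra.FormallyUnramified A E := inferInstance
  haveI : Algebra.FormallyUnramified A (E ⧸ Q) := .comp A E (E ⧸ Q)
  haveI : Algebra.FormallyUnramified (A ⧸ P) (E ⧸ Q) := .of_restrictScalars A _ _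
  haveI : Module.Finite (A ⧸ P) (E ⧸ Q) :=
    Module.Finite.of_restrictScalars_finite A (A ⧸ P) (E ⧸ Q)
  haveI : Algebra.IsSeparable (A ⧸ P) (E ⧸ Q) := Algebra.FormallyUnramified.isSeparable _ _
  haveI : Normal (A ⧸ P) (E ⧸ Q) := Ideal.Quotient.normal Γ P Q
  haveI : IsGalois (A ⧸ P) (E ⧸ Q) := ⟨⟩
  have hin : ∀ γ : Γ, (∀ x : E, γ • x - x ∈ Q) → γ = 1 := by
    intro γ hγ
    have h1 : (MulSemiringAction.toAlgHom A E γ) = AlgHom.id A E := by
      apply Algebra.FormallyUnramified.ext_of_iInf (I := Q)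
        (Ideal.iInf_pow_eq_bot_of_isLocalRing _ (maximalIdeal.isMaximal E).ne_top)
      intro x
      rw [Ideal.Quotient.eq]
      exact hγ x
    apply FaithfulSMul.eq_of_smul_eq_smul (α := E)
    intro x
    rw [one_smul]
    exact AlgHom.congr_fun h1 x
  have hstab : MulAction.stabilizer Γ Q = ⊤ := by
    rw [eq_top_iff]
    intro γ _
    rw [MulAction.mem_stabilizer_iff]
    have : (γ • Q).IsMaximal := by
      rw [Ideal.pointwise_smul_eq_comap]
      exact Ideal.comap_isMaximal_of_surjective _
        (MulSemiringAction.toRingEquiv Γ E γ⁻¹).surjective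
    exact IsLocalRing.eq_maximalIdeal this
  have hinj' : Function.Injective (Ideal.Quotient.stabilizerHom Q P Γ) := by
    rw [← MonoidHom.ker_eq_bot_iff, Ideal.Quotient.ker_stabilizerHom, eq_bot_iff]
    intro γ hγ
    rw [Subgroup.mem_bot]
    apply Subtype.ext
    apply hin
    intro x
    exact hγ x
  have hsurj := Ideal.Quotient.stabilizerHom_surjective Γ P Q
  have hcardAut : Nat.card ((E ⧸ Q) ≃ₐ[A ⧸ P] (E ⧸ Q)) = Nat.card Γ := by
    rw [← Nat.card_congr (Equiv.ofBijective _ ⟨hinj', hsurj⟩)]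
    exact (Subgroup.card_eq_iff_eq_top _).mpr hstab
  have hfr : Module.finrank (A ⧸ P) (E ⧸ Q) = Nat.card Γ := by
    rw [← IsGalois.card_aut_eq_finrank, hcardAut]
  have hbt : (⊥ : Subalgebra (A ⧸ P) (E ⧸ Q)) = ⊤ := by
    rw [eq_top_iff]
    rintro y -
    obtain ⟨e, rfl⟩ := Ideal.Quotient.mk_surjective y
    obtain ⟨a, ha⟩ := hres e
    rw [hQ₀Q] at ha
    rw [Algebra.mem_bot]
    refine ⟨Ideal.Quotient.mk P a, ?_⟩
    rw [Ideal.Quotient.algebraMap_mk_of_liesOver, eq_comm, Ideal.Quotient.eq]
    exact ha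
  have h1 := Subalgebra.bot_eq_top_iff_finrank_eq_one.mp hbt
  omega

end Main

end Groth.Agent.Helper7.AutLift
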