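import Mathlib
import Groth.Agent.Helper7.AutLiftG

set_option autoImplicit false
universe u v w x

/-!
# A `G`-stable normal subring of `A` through which every element factors up to `p`-powers
-/

namespace Groth.Agent.Helper7.AutLift

open IsLocalRing
open scoped Pointwise

section Core

variable (p : ℕ) [Fact p.Prime]
  (P : Type v) [CommRing P] [IsRegularLocalRing P] [IsAdicComplete (maximalIdeal P) P]
  (A : Type u) [CommRing A] [IsDomain A] [IsLocalRing A] [CharP A p]
  [Algebra P A] [Module.Finite P A]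
  (G : Type w) [Group G] [Finite G] [MulSemiringAction G A] [SMulCommClass G P A]
  [FaithfulSMul G A]

include p in
theorem false_of_subring (hdim : (2 : WithBot ℕ∞) ≤ ringKrullDim P)
    (hinj : Function.Injective (algebraMap P A))
    (hres : ∀ a : A, ∃ r : P, a - algebraMap P A r ∈ maximalIdeal A)
    (hG : 1 < Nat.card G)
    (hram : ∀ Q : Ideal A, Q.IsPrime → Q ≠ maximalIdeal A → ∀ g : G, g ≠ 1 →
      ∃ a : A, g • a - a ∉ Q)
    (C : Subring A) (c1 : ∀ r : P, algebraMap P A r ∈ C) (c2 : ∀ (g : G), ∀ a ∈ C, g • a ∈ C)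
    (c3 : ∀ a : A, ∃ m : ℕ, a ^ p ^ m ∈ C) [IsIntegrallyClosed C]
    (c5 : ∀ c ∈ C, (∀ g : G, g • c = c) → c ∈ Set.range (algebraMap P A)) : False := by
  haveI : IsNoetherianRing P := inferInstance
  haveI : IsInvariantSubring G C := ⟨fun g x hx => c2 g x hx⟩
  letI : Algebra P C := ((algebraMap P A).codRestrict C c1).toAlgebra
  haveI : IsScalarTower P C A := IsScalarTower.of_algebraMap_eq (fun _ => rfl)
  haveI : SMulCommClass G P C := ⟨fun g r c => by
    apply Subtype.ext
    change g • (algebraMap P A r * (c : A)) = algebraMap P A r * g • (c : A)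
    rw [smul_mul', smul_algebraMap]⟩
  have hinjPC : Function.Injective (algebraMap P C) := by
    intro a b hab
    apply hinj
    exact congrArg Subtype.val hab
  haveI : IsNoetherian P A := isNoetherian_of_isNoetherianRing_of_finite P A
  haveI : Module.Finite P C :=
    Module.Finite.of_injective (IsScalarTower.toAlgHom P C A).toLinearMap Subtype.val_injective
  haveI : Algebra.IsInvariant P C G := ⟨fun c hc => by
    obtain ⟨r, hr⟩ := c5 c.1 c.2 (fun g => congrArg Subtype.val (hc g))
    exact ⟨r, Subtype.ext hr⟩⟩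
  haveI : ExpChar A p := ExpChar.prime Fact.out
  haveI : FaithfulSMul G C := ⟨fun {g₁ g₂} h => by
    apply FaithfulSMul.eq_of_smul_eq_smul (α := A)
    intro a
    obtain ⟨m, hm⟩ := c3 a
    have h1 := congrArg Subtype.val (h ⟨a ^ p ^ m, hm⟩)
    change g₁ • (a ^ p ^ m) = g₂ • (a ^ p ^ m) at h1
    rw [smul_pow', smul_pow'] at h1
    exact iterateFrobenius_inj A p m (by simpa [iterateFrobenius_def] using h1)⟩
  haveI : Algebra.IsIntegral P A := Algebra.IsIntegral.of_finite P A
  haveI : Algebra.IsIntegral C A := Algebra.IsIntegral.tower_top (R := P)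
  have hmaxP : (maximalIdeal A).comap (algebraMap P A) = maximalIdeal P := by
    have : ((maximalIdeal A).comap (algebraMap P A)).IsMaximal :=
      Ideal.isMaximal_comap_of_isIntegral_of_isMaximal _
    exact IsLocalRing.eq_maximalIdeal this
  set Q₀ : Ideal C := (maximalIdeal A).comap (algebraMap C A) with hQ₀
  haveI : Q₀.IsMaximal := Ideal.isMaximal_comap_of_isIntegral_of_isMaximal _
  apply not_residue_surjective P C G hdim hinjPC ?_ hG Q₀
  · intro e
    obtain ⟨r, hr⟩ := hres (e : A)
    exact ⟨r, hr⟩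
  · intro Q hQ hQne g hg
    obtain ⟨Q', -, hQ'prime, hQ'⟩ := Ideal.exists_ideal_over_prime_of_isIntegral Q (⊥ : Ideal A)
      (by
        rw [Ideal.comap_bot_of_injective _ Subtype.val_injective]
        exact bot_le)
    have hQ'ne : Q' ≠ maximalIdeal A := by
      intro h
      apply hQne
      rw [← hQ', h, Ideal.comap_comap, ← IsScalarTower.algebraMap_eq, hmaxP]
    obtain ⟨a, ha⟩ := hram Q' hQ'prime hQ'ne g hg
    obtain ⟨m, hm⟩ := c3 a
    refine ⟨⟨a ^ p ^ m, hm⟩, ?_⟩
    rw [← hQ', Ideal.mem_comap]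
    change g • (a ^ p ^ m) - a ^ p ^ m ∉ Q'
    rw [smul_pow', ← sub_pow_expChar_pow]
    intro hmem
    exact ha (hQ'prime.mem_of_pow_mem _ hmem)

end Core

end Groth.Agent.Helper7.AutLift
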