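import Mathlib
import Groth.Agent.Helper7.AutLiftI

set_option autoImplicit false
universe u v w x

/-!
# The separable closure of `Frac P` in `Frac A`, intersected with `A`
-/

namespace Groth.Agent.Helper7.AutLift

open IsLocalRing nonZeroDivisors
open scoped Pointwise

section Field

variable (p : ℕ) {K L : Type*} [Field K] [Field L] [Algebra K L] [Algebra.IsAlgebraic K L]
  [ExpChar K p]

theorem exists_pow_mem_separableClosure (x : L) :
    ∃ m : ℕ, x ^ p ^ m ∈ separableClosure K L := by
  haveI : ExpChar (separableClosure K L) p :=
    expChar_of_injective_algebraMap (algebraMap K (separableClosure K L)).injective p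
  obtain ⟨n, y, hy⟩ := (isPurelyInseparable_iff_pow_mem (separableClosure K L) p).mp
    (separableClosure.isPurelyInseparable K L) x
  exact ⟨n, hy ▸ y.2⟩

theorem mem_range_of_mem_separableClosure_of_pow_mem {x : L} (hx : x ∈ separableClosure K L)
    (e : ℕ) (he : x ^ p ^ e ∈ (algebraMap K L).range) : x ∈ (algebraMap K L).range := by
  have h1 : x ∈ perfectClosure K L := (mem_perfectClosure_iff_pow_mem p).mpr ⟨e, he⟩
  have h2 : x ∈ separableClosure K L ⊓ perfectClosure K L := ⟨hx, h1⟩
  rw [separableClosure_inf_perfectClosure, IntermediateField.mem_bot] at h2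
  exact h2

omit [Algebra.IsAlgebraic K L] [ExpChar K p] in
theorem smul_mem_separableClosure {G : Type*} [Group G] [MulSemiringAction G L]
    [SMulCommClass G K L] (g : G) {x : L} (hx : x ∈ separableClosure K L) :
    g • x ∈ separableClosure K L := by
  rw [mem_separableClosure_iff] at hx ⊢
  have h1 : minpoly K (g • x) = minpoly K x :=
    minpoly.algEquiv_eq (MulSemiringAction.toAlgEquiv K L g) x
  unfold IsSeparable
  rw [h1]
  exact hx

end Field

section Construct

variable (p : ℕ) [Fact p.Prime]
  (P : Type v) [CommRing P] [IsDomain P] [IsIntegrallyClosed P]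
  (A : Type u) [CommRing A] [IsDomain A] [IsIntegrallyClosed A] [CharP A p]
  [Algebra P A] [Module.Finite P A]
  (G : Type w) [Group G] [Finite G] [MulSemiringAction G A] [SMulCommClass G P A]

attribute [local instance] FractionRing.liftAlgebra in
include p in
theorem exists_subring (hinj : Function.Injective (algebraMap P A))
    (H : ∀ y : A, (∀ g : G, g • y = y) → ∃ e : ℕ, y ^ p ^ e ∈ Set.range (algebraMap P A)) :
    ∃ C : Subring A, (∀ r, algebraMap P A r ∈ C) ∧ (∀ (g : G), ∀ a ∈ C, g • a ∈ C) ∧
      (∀ a : A, ∃ m : ℕ, a ^ p ^ m ∈ C) ∧ IsIntegrallyClosed C ∧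
      (∀ c ∈ C, (∀ g : G, g • c = c) → c ∈ Set.range (algebraMap P A)) := by
  haveI : FaithfulSMul P A := (faithfulSMul_iff_algebraMap_injective P A).mpr hinj
  haveI : Algebra.IsIntegral P A := Algebra.IsIntegral.of_finite P A
  haveI : Algebra.IsAlgebraic P A := inferInstance
  let K := FractionRing P
  let L := FractionRing A
  haveI : FiniteDimensional K L := .of_isLocalization P A P⁰
  letI := IsFractionRing.mulSemiringAction G A L
  haveI : SMulCommClass G K L := IsFractionRing.smulCommClass G P A K L
  haveI : CharP L p := charP_of_injective_algebraMap (IsFractionRing.injective A L) p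
  haveI : ExpChar L p := ExpChar.prime Fact.out
  haveI : ExpChar K p := RingHom.expChar (algebraMap K L) (algebraMap K L).injective p
  let M := separableClosure K L
  refine ⟨M.toSubfield.toSubring.comap (algebraMap A L), ?_, ?_, ?_, ?_, ?_⟩
  · intro r
    change algebraMap A L (algebraMap P A r) ∈ M
    rw [← IsScalarTower.algebraMap_apply P A L, IsScalarTower.algebraMap_apply P K L]
    exact M.algebraMap_mem _
  · intro g a ha
    change algebraMap A L (g • a) ∈ M
    have h1 : algebraMap A L (g • a) = g • algebraMap A L a := algebraMap.coe_smul' g a L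
    rw [h1]
    exact smul_mem_separableClosure g ha
  · intro a
    obtain ⟨m, hm⟩ := exists_pow_mem_separableClosure (K := K) p (algebraMap A L a)
    refine ⟨m, ?_⟩
    change algebraMap A L (a ^ p ^ m) ∈ M
    rw [map_pow]
    exact hm
  · set C := M.toSubfield.toSubring.comap (algebraMap A L) with hC
    let ι : C →+* M := ((algebraMap A L).comp C.subtype).codRestrict M (fun c => c.2)
    letI : Algebra C M := ι.toAlgebra
    have hι : ∀ c : C, ((algebraMap C M c : M) : L) = algebraMap A L (c : A) := fun c => rfl
    haveI : FaithfulSMul C M := (faithfulSMul_iff_algebraMap_injective C M).mpr (by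
      intro a b hab
      apply Subtype.ext
      apply IsFractionRing.injective A L
      exact congrArg Subtype.val hab)
    haveI : Algebra.IsAlgebraic P L := IsFractionRing.comap_isAlgebraic_iff.mpr
      (inferInstance : Algebra.IsAlgebraic K L)
    haveI : IsFractionRing C M := IsFractionRing.of_field C M (fun z => by
      have hzalg : IsAlgebraic P (z : L) := Algebra.IsAlgebraic.isAlgebraic _
      obtain ⟨r, hr0, hint⟩ := hzalg.exists_integral_multiple
      have hintA : IsIntegral A (r • (z : L)) := hint.tower_top
      obtain ⟨a, ha⟩ := IsIntegrallyClosed.algebraMap_eq_of_integral hintA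
      have hrz : r • (z : L) = algebraMap A L (algebraMap P A r) * (z : L) := by
        rw [Algebra.smul_def, IsScalarTower.algebraMap_apply P A L]
      have haC : a ∈ C := by
        change algebraMap A L a ∈ M
        rw [ha, hrz]
        refine M.mul_mem ?_ z.2
        rw [← IsScalarTower.algebraMap_apply P A L, IsScalarTower.algebraMap_apply P K L]
        exact M.algebraMap_mem _
      have hrC : algebraMap P A r ∈ C := by
        change algebraMap A L (algebraMap P A r) ∈ M
        rw [← IsScalarTower.algebraMap_apply P A L, IsScalarTower.algebraMap_apply P K L]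
        exact M.algebraMap_mem _
      refine ⟨⟨a, haC⟩, ⟨algebraMap P A r, hrC⟩, ?_⟩
      apply Subtype.ext
      have hne : algebraMap A L (algebraMap P A r) ≠ 0 := by
        rw [Ne, map_eq_zero_iff _ (IsFractionRing.injective A L), map_eq_zero_iff _ hinj]
        exact hr0
      push_cast
      rw [hι, hι]
      change (z : L) = algebraMap A L a / algebraMap A L (algebraMap P A r)
      rw [ha, hrz, mul_div_cancel_left₀ _ hne])
    rw [isIntegrallyClosed_iff M]
    intro x hx
    obtain ⟨f, hf, hfx⟩ := hx
    have hxA : IsIntegral A (x : L) := by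
      refine ⟨f.map C.subtype, hf.map _, ?_⟩
      rw [Polynomial.eval₂_map]
      have h1 : (algebraMap A L).comp C.subtype =
          (algebraMap M L).comp (algebraMap C M) := by
        ext c
        rfl
      rw [h1]
      have h2 := Polynomial.hom_eval₂ f (algebraMap C M) (algebraMap M L) x
      rw [hfx, map_zero] at h2
      exact h2.symm
    obtain ⟨a, ha⟩ := IsIntegrallyClosed.algebraMap_eq_of_integral hxA
    have haC : a ∈ C := by
      change algebraMap A L a ∈ M
      rw [ha]
      exact x.2
    refine ⟨⟨a, haC⟩, ?_⟩
    apply Subtype.ext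
    rw [hι]
    exact ha
  · intro c hc hfix
    obtain ⟨e, r, hr⟩ := H c hfix
    have h1 : (algebraMap A L c) ^ p ^ e ∈ (algebraMap K L).range := by
      refine ⟨algebraMap P K r, ?_⟩
      rw [← map_pow, ← hr, ← IsScalarTower.algebraMap_apply P K L,
        ← IsScalarTower.algebraMap_apply P A L]
    have hc' : algebraMap A L c ∈ separableClosure K L := hc
    obtain ⟨z, hz⟩ := mem_range_of_mem_separableClosure_of_pow_mem (K := K) (L := L) p
      (x := algebraMap A L c) hc' e h1
    have hzint : IsIntegral P z := by
      have h2 : IsIntegral P (algebraMap A L c) :=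
        (Algebra.IsIntegral.isIntegral (R := P) c).map (IsScalarTower.toAlgHom P A L)
      rw [← hz] at h2
      exact (isIntegral_algebraMap_iff (algebraMap K L).injective).mp h2
    obtain ⟨r', hr'⟩ := IsIntegrallyClosed.algebraMap_eq_of_integral hzint
    refine ⟨r', ?_⟩
    apply IsFractionRing.injective A L
    rw [← IsScalarTower.algebraMap_apply P A L, IsScalarTower.algebraMap_apply P K L, hr', hz]

end Construct

end Groth.Agent.Helper7.AutLift
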