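import Mathlib
import Groth.Agent.Helper7.AutLiftJ
import Groth.Agent.Helper7.AutLiftE
import Groth.Agent.Helper7.WqInvB
import Groth.Agent.Helper7.CohenT1

set_option autoImplicit false
universe u v w x

/-!
# `Frac(A^G)` is not purely inseparable over the fraction field of the norm subring
-/

namespace Groth.Agent.Helper7.AutLift

open IsLocalRing nonZeroDivisors Groth.Agent.Helper7.WqInv
open scoped Pointwise

theorem main_norm (p : ℕ) [Fact p.Prime] (A : Type u) [CommRing A] [IsRegularLocalRing A]
    [CharP A p] [IsAdicComplete (IsLocalRing.maximalIdeal A) A] (n : ℕ)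
    (hn : ringKrullDim A = n) (h2 : 2 ≤ n)
    (k : Type v) [Field k] [Algebra k A]
    (hk : Function.Surjective (IsLocalRing.residue A ∘ algebraMap k A))
    (G : Type w) [Group G] [Fintype G] [MulSemiringAction G A] (hcard : Fintype.card G = p)
    [SMulCommClass G k A]
    (hram : ∀ P : Ideal A, P.IsPrime → P ≠ IsLocalRing.maximalIdeal A → P.inertia G = ⊥)
    (u : Fin n → A)
    (hu : ∀ τ : Fin n → G,
      Ideal.span (Set.range fun i => τ i • u i) = IsLocalRing.maximalIdeal A)
    (φ : MvPowerSeries (Fin n) k →ₐ[k] A) (hφ : ∀ i, φ (MvPowerSeries.X i) = ∏ σ : G, σ • u i) :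
    ∃ y : A, (∀ σ : G, σ • y = y) ∧ ∀ e : ℕ, y ^ p ^ e ∉ Set.range φ := by
  by_contra hcon
  push Not at hcon
  haveI : IsDomain A := Groth.Agent.Lead.RegLocal.isDomain_of_isRegularLocalRing A
  haveI : IsIntegrallyClosed A :=
    Groth.Agent.Helper4.RegNormal.isIntegrallyClosed_of_isRegularLocalRing A
  have hdimA : (2 : WithBot ℕ∞) ≤ ringKrullDim A := by
    rw [hn]
    exact_mod_cast h2
  haveI hfaith : FaithfulSMul G A := faithful_of_ram A G hdimA hram
  -- the norms
  have hu1 : Ideal.span (Set.range u) = maximalIdeal A := by simpa using hu (fun _ => 1)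
  set x : Fin n → A := fun i => ∏ σ : G, σ • u i with hxdef
  have hxfix : ∀ (τ : G) i, τ • x i = x i := fun τ i => smul_prod_eq τ (u i)
  have hum : ∀ i, u i ∈ maximalIdeal A := fun i => by
    rw [← hu1]; exact Ideal.subset_span ⟨i, rfl⟩
  have hxm : ∀ i, x i ∈ maximalIdeal A := fun i => by
    have : (1 : G) • u i ∈ maximalIdeal A := by rw [one_smul]; exact hum i
    exact Ideal.prod_mem (f := fun σ : G => σ • u i) _ (Finset.mem_univ (1 : G)) this
  have hx : (Ideal.span (Set.range x)).radical = maximalIdeal A := by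
    apply le_antisymm
    · rw [Ideal.IsPrime.radical_le_iff (inferInstance : (maximalIdeal A).IsPrime), Ideal.span_le]
      rintro _ ⟨i, rfl⟩
      exact hxm i
    · exact (Groth.Agent.S15790.result A G n u hu1).mpr
        (fun τ => by rw [hu τ]; exact Ideal.le_radical)
  -- φ lands in the invariants
  have hφfix : ∀ (σ : G) (r : MvPowerSeries (Fin n) k), σ • φ r = φ r := by
    intro σ r
    let σA : A →ₐ[k] A :=
      { MulSemiringAction.toRingHom G A σ with commutes' := fun c => smul_algebraMap σ c }
    have h1 : σA.comp φ = φ := by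
      haveI : IsHausdorff (maximalIdeal A) A := inferInstance
      apply algHom_ext_of_isHausdorff (maximalIdeal A)
      · intro i
        rw [AlgHom.comp_apply, hφ i]
        exact hxfix σ i
      · intro i
        rw [AlgHom.comp_apply, hφ i]
        change σ • x i ∈ maximalIdeal A
        rw [hxfix σ i]
        exact hxm i
    exact AlgHom.congr_fun h1 r
  letI algPA : Algebra (MvPowerSeries (Fin n) k) A := φ.toRingHom.toAlgebra
  haveI : IsScalarTower k (MvPowerSeries (Fin n) k) A :=
    IsScalarTower.of_algebraMap_eq (fun c => (φ.commutes c).symm)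
  have hφ' : ∀ i, algebraMap (MvPowerSeries (Fin n) k) A (MvPowerSeries.X i) = x i := hφ
  haveI hfinPA : Module.Finite (MvPowerSeries (Fin n) k) A :=
    Groth.Agent.Helper7.SopFree.finite_P hk x hx hφ'
  haveI hfreePA : Module.Free (MvPowerSeries (Fin n) k) A :=
    Groth.Agent.Helper7.SopFree.free_P hn hk x hx hφ'
  haveI : IsRegularLocalRing (MvPowerSeries (Fin n) k) :=
    Groth.Agent.Helper5.MvPSDim.isRegular k n
  haveI : IsAdicComplete (maximalIdeal k) k := by
    rw [IsLocalRing.maximalIdeal_eq_bot]; infer_instance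
  haveI : IsAdicComplete (maximalIdeal (MvPowerSeries (Fin n) k)) (MvPowerSeries (Fin n) k) :=
    Groth.Agent.Helper7.Cohen.isAdicComplete_mvPowerSeries (0 : k)
      (by rw [IsLocalRing.maximalIdeal_eq_bot]; simp) n
  haveI : IsDomain (MvPowerSeries (Fin n) k) :=
    Groth.Agent.Lead.RegLocal.isDomain_of_isRegularLocalRing _
  haveI : IsIntegrallyClosed (MvPowerSeries (Fin n) k) :=
    Groth.Agent.Helper4.RegNormal.isIntegrallyClosed_of_isRegularLocalRing _
  have hinj : Function.Injective (algebraMap (MvPowerSeries (Fin n) k) A) :=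
    FaithfulSMul.algebraMap_injective _ _
  have hdimP : (2 : WithBot ℕ∞) ≤ ringKrullDim (MvPowerSeries (Fin n) k) := by
    refine le_trans ?_ (Groth.Agent.Helper5.MvPSDim.le_ringKrullDim k n)
    exact_mod_cast h2
  haveI : SMulCommClass G (MvPowerSeries (Fin n) k) A := ⟨fun g r a => by
    rw [Algebra.smul_def, smul_mul', Algebra.smul_def]
    congr 1
    exact hφfix g r⟩
  have hres := Groth.Agent.Helper7.SopFree.hres_P (n := n) hk
  have hG : 1 < Nat.card G := by
    rw [Nat.card_eq_fintype_card, hcard]
    exact (Fact.out : p.Prime).one_lt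
  have hram' : ∀ Q : Ideal A, Q.IsPrime → Q ≠ maximalIdeal A → ∀ g : G, g ≠ 1 →
      ∃ a : A, g • a - a ∉ Q := by
    intro Q hQ hQne g hg
    by_contra hall
    push Not at hall
    have hmem : g ∈ Q.inertia G := hall
    rw [hram Q hQ hQne, Subgroup.mem_bot] at hmem
    exact hg hmem
  obtain ⟨C, c1, c2, c3, c4, c5⟩ := exists_subring p (MvPowerSeries (Fin n) k) A G hinj hcon
  haveI := c4
  exact false_of_subring p (MvPowerSeries (Fin n) k) A G hdimP hinj hres hG hram' C c1 c2 c3 c5

end Groth.Agent.Helper7.AutLift
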