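import Groth.Agent.Helper7.AwnGlue

set_option autoImplicit false
universe u
open AlgebraicGeometry CategoryTheory

namespace Groth.Agent.Helper7.AwnAff

open Groth.Agent.Helper7.AwnR Groth.Agent.Helper7.AwnLoc HTop

theorem isSeminormalRing_of_ringEquiv {B W : Type u} [CommRing B] [CommRing W] (e : B ≃+* W)
    (hW : IsSeminormalRing W) : IsSeminormalRing B := by
  intro x y hxy
  obtain ⟨a, ⟨h2, h3⟩, huniq⟩ := hW (e x) (e y) (by rw [← map_pow, ← map_pow, hxy])
  refine ⟨e.symm a, ⟨?_, ?_⟩, ?_⟩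
  · apply e.injective; rw [map_pow, e.apply_symm_apply, h2]
  · apply e.injective; rw [map_pow, e.apply_symm_apply, h3]
  · rintro a' ⟨h2', h3'⟩
    rw [← huniq (e a') ⟨by rw [← map_pow, ← h2'], by rw [← map_pow, ← h3']⟩, e.symm_apply_apply]

theorem isSeminormalRing_affine {X : Scheme.{u}} (hX : IsSeminormal X) (V : X.affineOpens) :
    IsSeminormalRing Γ(X, V) := by
  choose U hxU hU using hX
  refine of_affine_open_cover (P := fun W => IsSeminormalRing Γ(X, W)) U ?_ V ?_ ?_ hU
  · rw [eq_top_iff]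
    intro x _
    exact TopologicalSpace.Opens.mem_iSup.2 ⟨x, hxU x⟩
  · intro W f hW
    haveI : IsLocalization.Away f Γ(X, X.basicOpen f) := W.2.isLocalization_basicOpen f
    exact isSeminormalRing_of_isLocalization (Submonoid.powers f) Γ(X, X.basicOpen f) hW
  · intro W s hs h
    apply isSeminormalRing_of_span s hs
    intro f hf
    haveI : IsLocalization.Away f Γ(X, X.basicOpen f) := W.2.isLocalization_basicOpen f
    exact isSeminormalRing_of_ringEquiv
      (IsLocalization.algEquiv (Submonoid.powers f) (Localization.Away f)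
        Γ(X, X.basicOpen f)).toRingEquiv (h ⟨f, hf⟩)

theorem isAWNRing_affine {X : Scheme.{u}} (hX : IsAWN X) (V : X.affineOpens) :
    IsAWNRing Γ(X, V) := by
  choose U hxU hU using hX
  refine of_affine_open_cover (P := fun W => IsAWNRing Γ(X, W)) U ?_ V ?_ ?_ hU
  · rw [eq_top_iff]
    intro x _
    exact TopologicalSpace.Opens.mem_iSup.2 ⟨x, hxU x⟩
  · intro W f hW
    haveI : IsLocalization.Away f Γ(X, X.basicOpen f) := W.2.isLocalization_basicOpen f
    exact isAWNRing_of_isLocalization (Submonoid.powers f) Γ(X, X.basicOpen f) hW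
  · intro W s hs h
    apply isAWNRing_of_span s hs
    intro f hf
    haveI : IsLocalization.Away f Γ(X, X.basicOpen f) := W.2.isLocalization_basicOpen f
    exact isAWNRing_of_ringEquiv
      (IsLocalization.algEquiv (Submonoid.powers f) (Localization.Away f)
        Γ(X, X.basicOpen f)).toRingEquiv (h ⟨f, hf⟩)

theorem s7420 (X : Scheme.{u}) :
    (HTop.IsSeminormal X ↔ ∀ U : X.affineOpens, HTop.IsSeminormalRing Γ(X, U)) ∧
    (HTop.IsAWN X ↔ ∀ U : X.affineOpens, HTop.IsAWNRing Γ(X, U)) := by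
  constructor
  · refine ⟨fun h U => isSeminormalRing_affine h U, fun h x => ?_⟩
    obtain ⟨U, hU⟩ := TopologicalSpace.Opens.mem_iSup.1
      ((iSup_affineOpens_eq_top X).ge (Set.mem_univ x))
    exact ⟨U, hU, h U⟩
  · refine ⟨fun h U => isAWNRing_affine h U, fun h x => ?_⟩
    obtain ⟨U, hU⟩ := TopologicalSpace.Opens.mem_iSup.1
      ((iSup_affineOpens_eq_top X).ge (Set.mem_univ x))
    exact ⟨U, hU, h U⟩

end Groth.Agent.Helper7.AwnAff
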