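import Groth.Agent.Helper7.AwnLoc
import Groth.Agent.Helper5.AwnRing
import Groth.Agent.Lead.UnivHomeo

set_option autoImplicit false
universe u
open AlgebraicGeometry CategoryTheory TensorProduct

namespace Groth.Agent.Helper7.AwnFun

open Groth.Agent.Helper7.UHRing Groth.Agent.Helper7.AwnR Groth.Agent.Helper7.AwnLoc HTop

section basic

variable {A C R : Type u} [CommRing A] [CommRing C] [CommRing R]

/-- Maps out of a universal homeomorphism into a reduced ring are determined on the base. -/
theorem hom_ext_reduced {ψ : A →+* C} (hψ : IsUH ψ) [IsReduced R] (f g : C →+* R)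
    (h : f.comp ψ = g.comp ψ) : f = g := by
  ext c
  apply eq_of_forall_residueField
  intro Q _
  have := hψ.2.1 Q.ResidueField ((algebraMap R Q.ResidueField).comp f)
    ((algebraMap R Q.ResidueField).comp g) (by rw [RingHom.comp_assoc, h, RingHom.comp_assoc])
  exact RingHom.congr_fun this c

/-- Base change of a ring-level universal homeomorphism. -/
theorem isUH_includeLeft (A A' C : Type u) [CommRing A] [CommRing A'] [CommRing C] [Algebra A A']
    [Algebra A C] (h : IsUH (algebraMap A C)) :
    IsUH (Algebra.TensorProduct.includeLeftRingHom : A' →+* A' ⊗[A] C) := by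
  rw [isUH_iff] at h ⊢
  have hpo := CommRingCat.isPushout_tensorProduct A A' C
  have hpb := isPullback_SpecMap_of_isPushout _ _ _ _ hpo
  exact MorphismProperty.of_isPullback hpb.flip h

end basic

section functoriality

variable {A A' W W' : Type u} [CommRing A] [CommRing A'] [CommRing W] [CommRing W']

theorem existsUnique_awn_map (r : A →+* A') (η : A →+* W) (hη : IsRingAWN η) (η' : A' →+* W')
    (hη' : IsRingAWN η') : ∃! g : W →+* W', g.comp η = η'.comp r := by
  haveI := isReduced_of_isRingAWN η' hη'
  have hηU : IsUH η := (isUH_iff η).2 hη.1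
  letI := r.toAlgebra
  letI := η.toAlgebra
  have hU : IsUH (Algebra.TensorProduct.includeLeftRingHom : A' →+* A' ⊗[A] W) :=
    isUH_includeLeft A A' W hηU
  obtain ⟨χ, hχ, -⟩ := hη'.2 (A' ⊗[A] W) _ ((isUH_iff _).1 hU)
  refine ⟨χ.comp (Algebra.TensorProduct.includeRight : W →ₐ[A] A' ⊗[A] W).toRingHom, ?_, ?_⟩
  · ext a
    have h1 : (Algebra.TensorProduct.includeRight : W →ₐ[A] A' ⊗[A] W) (η a) =
        (Algebra.TensorProduct.includeLeftRingHom : A' →+* A' ⊗[A] W) (r a) := by
      show (1 : A') ⊗ₜ[A] (algebraMap A W a) = (algebraMap A A' a) ⊗ₜ[A] (1 : W)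
      rw [Algebra.algebraMap_eq_smul_one, Algebra.algebraMap_eq_smul_one, TensorProduct.smul_tmul]
    have h2 := RingHom.congr_fun hχ (r a)
    simp only [RingHom.comp_apply] at h2 ⊢
    rw [← h2]
    exact congrArg χ h1
  · intro g' hg'
    apply hom_ext_reduced hηU
    rw [hg']
    ext a
    have h1 : (Algebra.TensorProduct.includeRight : W →ₐ[A] A' ⊗[A] W) (η a) =
        (Algebra.TensorProduct.includeLeftRingHom : A' →+* A' ⊗[A] W) (r a) := by
      show (1 : A') ⊗ₜ[A] (algebraMap A W a) = (algebraMap A A' a) ⊗ₜ[A] (1 : W)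
      rw [Algebra.algebraMap_eq_smul_one, Algebra.algebraMap_eq_smul_one, TensorProduct.smul_tmul]
    have h2 := RingHom.congr_fun hχ (r a)
    simp only [RingHom.comp_apply] at h2 ⊢
    rw [← h2]
    exact (congrArg χ h1).symm

end functoriality

section localization

variable {A A' W W' : Type u} [CommRing A] [CommRing A'] [CommRing W] [CommRing W'] [Algebra A A']

/-- Localizing a universal homeomorphism at an element of the base. -/
theorem isUH_awayLift (f : A) [IsLocalization.Away f A'] (η : A →+* W) (hη : IsUH η)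
    (L : Type u) [CommRing L] [Algebra W L] [IsLocalization.Away (η f) L] (ρ : A' →+* L)
    (hρ : ρ.comp (algebraMap A A') = (algebraMap W L).comp η) : IsUH ρ := by
  have hρ' : ∀ a, ρ (algebraMap A A' a) = algebraMap W L (η a) := fun a => RingHom.congr_fun hρ a
  refine ⟨?_, ?_, ?_⟩
  · intro x
    obtain ⟨n, w, hw⟩ := IsLocalization.Away.surj (η f) x
    have h1 : ρ.IsIntegralElem (algebraMap W L w) := by
      have := (hη.1 w).map (algebraMap W L)
      rw [← hρ] at this
      exact this.of_comp
    obtain ⟨u, hu⟩ := ((IsLocalization.Away.algebraMap_isUnit (S := A') f).pow n).exists_right_inv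
    refine RingHom.IsIntegralElem.of_mul_unit ρ x (algebraMap W L (η f) ^ n) u ?_ (hw ▸ h1)
    rw [← hρ', ← map_pow, ← map_mul, mul_comm, hu, map_one]
  · intro K _ h₁ h₂ h
    have h' : (h₁.comp (algebraMap W L)).comp η = (h₂.comp (algebraMap W L)).comp η := by
      rw [RingHom.comp_assoc, RingHom.comp_assoc, ← hρ, ← RingHom.comp_assoc, ← RingHom.comp_assoc, h]
    have := hη.2.1 K _ _ h'
    exact IsLocalization.ringHom_ext (Submonoid.powers (η f)) this
  · intro a' ha'
    obtain ⟨n, a, ha⟩ := IsLocalization.Away.surj f a'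
    have h1 : algebraMap W L (η a) = 0 := by
      rw [← hρ', ← ha, map_mul, ha', zero_mul]
    obtain ⟨⟨_, m, rfl⟩, hm⟩ := (IsLocalization.map_eq_zero_iff (Submonoid.powers (η f)) L _).1 h1
    have h2 : η (f ^ m * a) = 0 := by rw [map_mul, map_pow]; exact hm
    obtain ⟨k, hk⟩ := hη.2.2 _ h2
    have h3 : IsNilpotent (algebraMap A A' (f ^ m * a)) := ⟨k, by rw [← map_pow, hk, map_zero]⟩
    have hunit : IsUnit (algebraMap A A' f ^ m * algebraMap A A' f ^ n) :=
      ((IsLocalization.Away.algebraMap_isUnit (S := A') f).pow m).mul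
        ((IsLocalization.Away.algebraMap_isUnit (S := A') f).pow n)
    have h4 : algebraMap A A' (f ^ m * a) = (algebraMap A A' f ^ m * algebraMap A A' f ^ n) * a' := by
      rw [map_mul, map_pow, ← ha]; ring
    rw [h4] at h3
    obtain ⟨k, hk⟩ := h3
    refine ⟨k, ?_⟩
    rw [mul_pow] at hk
    exact (hunit.pow k).mul_right_eq_zero.1 hk

/-- The absolute weak normalization commutes with localization at an element. -/
theorem isLocalization_awn (f : A) [IsLocalization.Away f A'] (η : A →+* W) (hη : IsRingAWN η)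
    (η' : A' →+* W') (hη' : IsRingAWN η') (g : W →+* W')
    (hg : g.comp η = η'.comp (algebraMap A A')) :
    letI := g.toAlgebra
    IsLocalization.Away (η f) W' := by
  letI := g.toAlgebra
  have hηU : IsUH η := (isUH_iff η).2 hη.1
  haveI := isReduced_of_isRingAWN η' hη'
  let L := Localization.Away (η f)
  have hL : IsAWNRing L :=
    isAWNRing_of_isLocalization (Submonoid.powers (η f)) L (isAWNRing_of_isRingAWN η hη)
  let ρ : A' →+* L := IsLocalization.Away.lift f (g := (algebraMap W L).comp η)
    (IsLocalization.Away.algebraMap_isUnit (η f))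
  have hρ : ρ.comp (algebraMap A A') = (algebraMap W L).comp η :=
    IsLocalization.Away.lift_comp _ _
  have hρU : IsUH ρ := isUH_awayLift f η hηU L ρ hρ
  obtain ⟨χ, hχ, -⟩ := hη'.2 L ρ ((isUH_iff ρ).1 hρU)
  have hbij : Function.Bijective χ := (s7423 η' hη' ρ ((isUH_iff ρ).1 hρU) χ hχ).2 hL
  have hχg : χ.comp (algebraMap W L) = g := by
    apply hom_ext_reduced hηU
    rw [RingHom.comp_assoc, ← hρ, ← RingHom.comp_assoc, hχ, hg]
  let e : L ≃ₐ[W] W' :=
    { RingEquiv.ofBijective χ hbij with
      commutes' := fun w => RingHom.congr_fun hχg w }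
  exact IsLocalization.isLocalization_of_algEquiv (Submonoid.powers (η f)) e

end localization

end Groth.Agent.Helper7.AwnFun
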