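import Groth.Agent.Helper7.AwnLoc

set_option autoImplicit false
universe u

namespace Groth.Agent.Helper7.AwnLoc

open Groth.Agent.Helper7.AwnR HTop Localization IsLocalization

variable {A : Type u} [CommRing A]

theorem isReduced_of_span (s : Finset A) (hs : Ideal.span (s : Set A) = ⊤)
    (h : ∀ f ∈ s, IsReduced (Localization.Away f)) : IsReduced A := by
  haveI : ∀ a : (s : Set A), IsReduced (Localization.Away a.1) := fun a => h a.1 a.2
  exact isReduced_of_injective (algebraMap A (Π a : (s : Set A), Away a.1))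
    (algebraMap_injective_of_span_eq_top (s : Set A) hs)

theorem eq_of_span (s : Finset A) (hs : Ideal.span (s : Set A) = ⊤) {u v : A}
    (h : ∀ a : (s : Set A), algebraMap A (Away a.1) u = algebraMap A (Away a.1) v) : u = v :=
  algebraMap_injective_of_span_eq_top (s : Set A) hs (funext h)

theorem isSeminormalRing_of_span (s : Finset A) (hs : Ideal.span (s : Set A) = ⊤)
    (h : ∀ f ∈ s, IsSeminormalRing (Localization.Away f)) : IsSeminormalRing A := by
  haveI hred : IsReduced A := isReduced_of_span s hs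
    (fun f hf => isReduced_of_isSeminormalRing (h f hf))
  intro x y hxy
  have hsol : ∀ a : (s : Set A), ∃ u : Away a.1,
      algebraMap A (Away a.1) x = u ^ 2 ∧ algebraMap A (Away a.1) y = u ^ 3 := by
    intro a
    obtain ⟨u, hu, -⟩ := h a.1 a.2 (algebraMap A _ x) (algebraMap A _ y)
      (by rw [← map_pow, ← map_pow, hxy])
    exact ⟨u, hu⟩
  choose f hf using hsol
  obtain ⟨r, hr, -⟩ := existsUnique_algebraMap_eq_of_span_eq_top (s : Set A) hs f (by
    intro a b
    apply eq_of_sq_cube
    · rw [← map_pow, ← map_pow, ← (hf a).1, ← (hf b).1, Away.awayToAwayRight_eq,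
        Away.awayToAwayLeft_eq]
    · rw [← map_pow, ← map_pow, ← (hf a).2, ← (hf b).2, Away.awayToAwayRight_eq,
        Away.awayToAwayLeft_eq])
  refine ⟨r, ⟨?_, ?_⟩, ?_⟩
  · apply eq_of_span s hs
    intro a
    rw [map_pow, hr a, (hf a).1]
  · apply eq_of_span s hs
    intro a
    rw [map_pow, hr a, (hf a).2]
  · rintro r' ⟨h2, h3⟩
    apply eq_of_sq_cube
    · rw [← h2]
      apply eq_of_span s hs
      intro a
      rw [map_pow, hr a, (hf a).1]
    · rw [← h3]
      apply eq_of_span s hs
      intro a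
      rw [map_pow, hr a, (hf a).2]

theorem isAWNRing_of_span (s : Finset A) (hs : Ideal.span (s : Set A) = ⊤)
    (h : ∀ f ∈ s, IsAWNRing (Localization.Away f)) : IsAWNRing A := by
  haveI hred : IsReduced A := isReduced_of_span s hs
    (fun f hf => isReduced_of_isSeminormalRing (h f hf).1)
  refine ⟨isSeminormalRing_of_span s hs (fun f hf => (h f hf).1), ?_⟩
  intro p hp x y hxy
  have hsol : ∀ a : (s : Set A), ∃ u : Away a.1,
      algebraMap A (Away a.1) x = u ^ p ∧ algebraMap A (Away a.1) y = (p : Away a.1) * u := by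
    intro a
    obtain ⟨u, hu, -⟩ := (h a.1 a.2).2 p hp (algebraMap A _ x) (algebraMap A _ y)
      (by rw [← map_pow, ← hxy, map_mul, map_pow, map_natCast])
    exact ⟨u, hu⟩
  choose f hf using hsol
  obtain ⟨r, hr, -⟩ := existsUnique_algebraMap_eq_of_span_eq_top (s : Set A) hs f (by
    intro a b
    apply eq_of_prime hp
    · have e1 : ((p : ℕ) : Away (a.1 * b.1)) * Away.awayToAwayRight a.1 b.1 (f a) =
          Away.awayToAwayRight a.1 b.1 ((p : Away a.1) * f a) := by
        rw [map_mul, map_natCast]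
      have e2 : ((p : ℕ) : Away (a.1 * b.1)) * Away.awayToAwayLeft b.1 a.1 (f b) =
          Away.awayToAwayLeft b.1 a.1 ((p : Away b.1) * f b) := by
        rw [map_mul, map_natCast]
      rw [e1, e2, ← (hf a).2, ← (hf b).2, Away.awayToAwayRight_eq, Away.awayToAwayLeft_eq]
    · rw [← map_pow, ← map_pow, ← (hf a).1, ← (hf b).1, Away.awayToAwayRight_eq,
        Away.awayToAwayLeft_eq])
  have hx : x = r ^ p := by
    apply eq_of_span s hs
    intro a
    rw [map_pow, hr a, (hf a).1]
  have hy : y = (p : A) * r := by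
    apply eq_of_span s hs
    intro a
    rw [map_mul, map_natCast, hr a, (hf a).2]
  refine ⟨r, ⟨hx, hy⟩, ?_⟩
  rintro r' ⟨h2, h3⟩
  apply eq_of_prime hp
  · rw [← h3, ← hy]
  · rw [← h2, ← hx]

theorem s7418 :
    (∀ (A : Type u) [CommRing A] (f : A), HTop.IsSeminormalRing A →
      HTop.IsSeminormalRing (Localization.Away f)) ∧
    ∀ (A : Type u) [CommRing A] (s : Finset A), Ideal.span (s : Set A) = ⊤ →
      (∀ f ∈ s, HTop.IsSeminormalRing (Localization.Away f)) → HTop.IsSeminormalRing A :=
  ⟨fun A _ f hA => isSeminormalRing_of_isLocalization (Submonoid.powers f) _ hA,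
    fun A _ s hs h => isSeminormalRing_of_span s hs h⟩

theorem s7419 :
    (∀ (A : Type u) [CommRing A] (f : A), HTop.IsAWNRing A →
      HTop.IsAWNRing (Localization.Away f)) ∧
    ∀ (A : Type u) [CommRing A] (s : Finset A), Ideal.span (s : Set A) = ⊤ →
      (∀ f ∈ s, HTop.IsAWNRing (Localization.Away f)) → HTop.IsAWNRing A :=
  ⟨fun A _ f hA => isAWNRing_of_isLocalization (Submonoid.powers f) _ hA,
    fun A _ s hs h => isAWNRing_of_span s hs h⟩

end Groth.Agent.Helper7.AwnLoc
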