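import Groth.Agent.Helper7.AwnR

set_option autoImplicit false
universe u

namespace Groth.Agent.Helper7.AwnLoc

open Groth.Agent.Helper7.AwnR HTop

variable {A : Type u} [CommRing A] (M : Submonoid A) (A' : Type u) [CommRing A'] [Algebra A A']
  [IsLocalization M A']

/-- Clearing denominators of a pair with weights `d + 1`, `e + 1`. -/
theorem exists_clear (x y : A') (d e : ℕ) :
    ∃ (s : M) (x₀ y₀ : A), algebraMap A A' x₀ = x * algebraMap A A' s ^ (d + 1) ∧
      algebraMap A A' y₀ = y * algebraMap A A' s ^ (e + 1) := by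
  obtain ⟨⟨x₁, s₁⟩, hx⟩ := IsLocalization.surj M x
  obtain ⟨⟨y₁, s₂⟩, hy⟩ := IsLocalization.surj M y
  dsimp only at hx hy
  refine ⟨s₁ * s₂, x₁ * s₁ ^ d * s₂ ^ (d + 1), y₁ * s₂ ^ e * s₁ ^ (e + 1), ?_, ?_⟩
  · simp only [map_mul, map_pow, Submonoid.coe_mul]
    rw [← hx]
    ring
  · simp only [map_mul, map_pow, Submonoid.coe_mul]
    rw [← hy]
    ring

/-- Lifting a weighted homogeneous relation to the base ring after clearing denominators. -/
theorem exists_lift_rel (x y : A') (c : A) (d e k l : ℕ) (hk : 0 < k)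
    (hw : (d + 1) * k = (e + 1) * l) (h : algebraMap A A' c * x ^ k = y ^ l) :
    ∃ (t : M) (x₀ y₀ : A), algebraMap A A' x₀ = x * algebraMap A A' t ^ (d + 1) ∧
      algebraMap A A' y₀ = y * algebraMap A A' t ^ (e + 1) ∧ c * x₀ ^ k = y₀ ^ l := by
  obtain ⟨s, x₁, y₁, hx₁, hy₁⟩ := exists_clear M A' x y d e
  have h1 : algebraMap A A' (c * x₁ ^ k) = algebraMap A A' (y₁ ^ l) := by
    rw [map_mul, map_pow, map_pow, hx₁, hy₁, mul_pow, mul_pow, ← mul_assoc, h, ← pow_mul,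
      ← pow_mul, hw]
  obtain ⟨m, hm⟩ := (IsLocalization.eq_iff_exists M A').1 h1
  refine ⟨s * m, x₁ * m ^ (d + 1), y₁ * m ^ (e + 1), ?_, ?_, ?_⟩
  · simp only [map_mul, map_pow, Submonoid.coe_mul]
    rw [hx₁]
    ring
  · simp only [map_mul, map_pow, Submonoid.coe_mul]
    rw [hy₁]
    ring
  · obtain ⟨w, hw'⟩ : ∃ w, (d + 1) * k = w + 1 :=
      Nat.exists_eq_succ_of_ne_zero (Nat.mul_ne_zero (Nat.succ_ne_zero d) hk.ne')
    calc c * (x₁ * (m : A) ^ (d + 1)) ^ k = ((m : A) * (c * x₁ ^ k)) * (m : A) ^ w := by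
          rw [mul_pow, ← pow_mul, hw', pow_succ]; ring
      _ = ((m : A) * y₁ ^ l) * (m : A) ^ w := by rw [hm]
      _ = (y₁ * (m : A) ^ (e + 1)) ^ l := by
          rw [mul_pow, ← pow_mul, ← hw, hw', pow_succ]; ring

include M in
theorem isSeminormalRing_of_isLocalization (hA : IsSeminormalRing A) : IsSeminormalRing A' := by
  haveI : IsReduced A := isReduced_of_isSeminormalRing hA
  haveI : IsReduced A' := isReduced_localizationPreserves M A' inferInstance
  intro x y hxy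
  obtain ⟨t, x₀, y₀, hx₀, hy₀, hrel⟩ := exists_lift_rel M A' x y 1 1 2 3 2 (by norm_num)
    (by norm_num) (by rw [map_one, one_mul]; exact hxy)
  rw [one_mul] at hrel
  obtain ⟨a₀, ⟨h2, h3⟩, -⟩ := hA x₀ y₀ hrel
  obtain ⟨u, hu⟩ := IsLocalization.map_units A' t
  refine ⟨algebraMap A A' a₀ * ↑u⁻¹, ⟨?_, ?_⟩, ?_⟩
  · have : x * (u : A') ^ 2 = (algebraMap A A' a₀) ^ 2 := by
      rw [hu, ← hx₀, h2, map_pow]
    calc x = x * (u : A') ^ 2 * (↑u⁻¹ : A') ^ 2 := by
          rw [mul_assoc, ← mul_pow, Units.mul_inv, one_pow, mul_one]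
      _ = _ := by rw [this, mul_pow]
  · have : y * (u : A') ^ 3 = (algebraMap A A' a₀) ^ 3 := by
      rw [hu, ← hy₀, h3, map_pow]
    calc y = y * (u : A') ^ 3 * (↑u⁻¹ : A') ^ 3 := by
          rw [mul_assoc, ← mul_pow, Units.mul_inv, one_pow, mul_one]
      _ = _ := by rw [this, mul_pow]
  · rintro a' ⟨h2', h3'⟩
    apply eq_of_sq_cube
    · rw [← h2']
      have : x * (u : A') ^ 2 = (algebraMap A A' a₀) ^ 2 := by
        rw [hu, ← hx₀, h2, map_pow]
      rw [mul_pow, ← this, mul_assoc, ← mul_pow, Units.mul_inv, one_pow, mul_one]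
    · rw [← h3']
      have : y * (u : A') ^ 3 = (algebraMap A A' a₀) ^ 3 := by
        rw [hu, ← hy₀, h3, map_pow]
      rw [mul_pow, ← this, mul_assoc, ← mul_pow, Units.mul_inv, one_pow, mul_one]

include M in
theorem isAWNRing_of_isLocalization (hA : IsAWNRing A) : IsAWNRing A' := by
  haveI : IsReduced A := isReduced_of_isSeminormalRing hA.1
  haveI : IsReduced A' := isReduced_localizationPreserves M A' inferInstance
  refine ⟨isSeminormalRing_of_isLocalization M A' hA.1, ?_⟩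
  intro p hp x y hxy
  obtain ⟨d, hd⟩ : ∃ d, p = d + 1 := Nat.exists_eq_succ_of_ne_zero hp.ne_zero
  obtain ⟨t, x₀, y₀, hx₀, hy₀, hrel⟩ := exists_lift_rel M A' x y ((p : A) ^ p) d 0 1 p
    (by norm_num) (by rw [mul_one, zero_add, one_mul, hd])
    (by rw [map_pow, map_natCast, pow_one]; exact hxy)
  rw [pow_one] at hrel
  rw [← hd] at hx₀
  rw [zero_add, pow_one] at hy₀
  obtain ⟨a₀, ⟨h2, h3⟩, -⟩ := hA.2 p hp x₀ y₀ hrel
  obtain ⟨u, hu⟩ := IsLocalization.map_units A' t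
  have e1 : x * (u : A') ^ p = (algebraMap A A' a₀) ^ p := by
    rw [hu, ← hx₀, h2, map_pow]
  have e2 : y * (u : A') = (p : A') * algebraMap A A' a₀ := by
    rw [hu, ← hy₀, h3, map_mul, map_natCast]
  have hx' : x = (algebraMap A A' a₀ * ↑u⁻¹) ^ p := by
    calc x = x * (u : A') ^ p * (↑u⁻¹ : A') ^ p := by
          rw [mul_assoc, ← mul_pow, Units.mul_inv, one_pow, mul_one]
      _ = _ := by rw [e1, mul_pow]
  have hy' : y = (p : A') * (algebraMap A A' a₀ * ↑u⁻¹) := by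
    calc y = y * (u : A') * (↑u⁻¹ : A') := by
          rw [mul_assoc, Units.mul_inv, mul_one]
      _ = _ := by rw [e2, mul_assoc]
  refine ⟨algebraMap A A' a₀ * ↑u⁻¹, ⟨hx', hy'⟩, ?_⟩
  rintro a' ⟨h2', h3'⟩
  apply eq_of_prime hp
  · rw [← h3', ← hy']
  · rw [← h2', ← hx']

end Groth.Agent.Helper7.AwnLoc
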