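import Groth.Agent.Helper7.UHElem

set_option autoImplicit false
universe u
open AlgebraicGeometry CategoryTheory Polynomial

namespace Groth.Agent.Helper7.AwnR

open Groth.Agent.Helper7.UHTower Groth.Agent.Helper7.UHRing HTop

/-- Equality in a reduced ring is tested on residue fields. -/
theorem eq_of_forall_residueField {R : Type u} [CommRing R] [IsReduced R] {u w : R}
    (h : ∀ (Q : Ideal R) [Q.IsPrime],
      algebraMap R Q.ResidueField u = algebraMap R Q.ResidueField w) : u = w := by
  rw [← sub_eq_zero]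
  apply IsReduced.eq_zero
  rw [← mem_nilradical, nilradical_eq_sInf, Ideal.mem_sInf]
  intro Q hQ
  have : Q.IsPrime := hQ
  rw [← Ideal.algebraMap_residueField_eq_zero, map_sub, sub_eq_zero]
  exact h Q

theorem eq_of_sq_cube {R : Type u} [CommRing R] [IsReduced R] {u w : R} (h2 : u ^ 2 = w ^ 2)
    (h3 : u ^ 3 = w ^ 3) : u = w := by
  apply eq_of_forall_residueField
  intro Q _
  apply field_sq_cube
  · rw [← map_pow, ← map_pow, h2]
  · rw [← map_pow, ← map_pow, h3]

theorem eq_of_prime {R : Type u} [CommRing R] [IsReduced R] {u w : R} {p : ℕ} (hp : p.Prime)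
    (h2 : (p : R) * u = (p : R) * w) (h3 : u ^ p = w ^ p) : u = w := by
  apply eq_of_forall_residueField
  intro Q _
  apply field_prime hp
  · have := congrArg (algebraMap R Q.ResidueField) h2
    rw [map_mul, map_mul, map_natCast] at this
    exact this
  · rw [← map_pow, ← map_pow, h3]

theorem isReduced_of_isSeminormalRing {B : Type u} [CommRing B] (hB : IsSeminormalRing B) :
    IsReduced B := by
  have key : ∀ n : B, n ^ 2 = 0 → n = 0 := by
    intro n hn
    obtain ⟨a, -, ha⟩ := hB 0 0 (by ring)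
    have h0 := ha 0 ⟨by ring, by ring⟩
    have h1 := ha n ⟨hn.symm, by rw [pow_succ, hn, zero_mul]⟩
    rw [h1, h0]
  constructor
  intro x ⟨k, hk⟩
  induction k using Nat.strong_induction_on generalizing x with
  | _ k ih =>
    rcases Nat.lt_or_ge k 2 with h2 | h2
    · interval_cases k
      · rw [pow_zero] at hk
        have : x = x * 1 := (mul_one x).symm
        rw [this, hk, mul_zero]
      · rwa [pow_one] at hk
    · -- x^(k) = 0 with k ≥ 2: then (x^(k-1))^2 = 0
      have h1 : (x ^ (k - 1)) ^ 2 = 0 := by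
        rw [← pow_mul]
        have : (k - 1) * 2 = k + (k - 2) := by omega
        rw [this, pow_add, hk, zero_mul]
      have h3 := key _ h1
      exact ih (k - 1) (by omega) x h3

variable {A W : Type u} [CommRing A] [CommRing W]

theorem isReduced_of_isRingAWN (φ : A →+* W) (hφ : IsRingAWN φ) : IsReduced W := by
  obtain ⟨hU, hfin⟩ := hφ
  have hφU : IsUH φ := (isUH_iff φ).2 hU
  let π := Ideal.Quotient.mk (nilradical W)
  have hπ : IsUH π := IsUH.of_surjective Ideal.Quotient.mk_surjective (fun z hz => by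
    rw [Ideal.Quotient.eq_zero_iff_mem, mem_nilradical] at hz
    exact hz)
  obtain ⟨ρ, hρ, -⟩ := hfin (W ⧸ nilradical W) (π.comp φ) ((isUH_iff _).1 (hφU.comp hπ))
  obtain ⟨χ, -, huniq⟩ := hfin W φ hU
  have h1 : ρ.comp π = χ := huniq _ (by
    show (ρ.comp π).comp φ = φ
    rw [RingHom.comp_assoc]; exact hρ)
  have h2 : RingHom.id W = χ := huniq _ (RingHom.id_comp φ)
  have hinj : Function.Injective π := by
    intro x y hxy
    have := congrArg ρ hxy
    have e : ∀ z, ρ (π z) = z := fun z => by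
      have := RingHom.congr_fun (h1.trans h2.symm) z
      exact this
    rw [e, e] at this
    exact this
  constructor
  intro x hx
  apply hinj
  rw [map_zero, Ideal.Quotient.eq_zero_iff_mem, mem_nilradical]
  exact hx

/-- A retraction onto `W` of any universal homeomorphism out of `W`. -/
theorem exists_retraction (φ : A →+* W) (hφ : IsRingAWN φ) {C : Type u} [CommRing C]
    (ι : W →+* C) (hι : IsUH ι) : ∃ ρ : C →+* W, ρ.comp ι = RingHom.id W := by
  obtain ⟨hU, hfin⟩ := hφ
  have hφU : IsUH φ := (isUH_iff φ).2 hU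
  obtain ⟨ρ, hρ, -⟩ := hfin C (ι.comp φ) ((isUH_iff _).1 (hφU.comp hι))
  obtain ⟨χ, -, huniq⟩ := hfin W φ hU
  have h1 : ρ.comp ι = χ := huniq _ (by
    show (ρ.comp ι).comp φ = φ
    rw [RingHom.comp_assoc]; exact hρ)
  have h2 : RingHom.id W = χ := huniq _ (RingHom.id_comp φ)
  exact ⟨ρ, h1.trans h2.symm⟩

theorem isAWNRing_of_isRingAWN (φ : A →+* W) (hφ : IsRingAWN φ) : IsAWNRing W := by
  have hred := isReduced_of_isRingAWN φ hφ
  constructor
  · intro x y hxy
    set I := Ideal.span ({X ^ 2 - C x, X ^ 3 - C y} : Set W[X]) with hI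
    obtain ⟨ρ, hρ⟩ := exists_retraction φ hφ (algebraMap W (W[X] ⧸ I)) (sqCube_ext x y hxy).1
    have hρ' : ∀ w : W, ρ (Ideal.Quotient.mk I (C w)) = w := fun w => RingHom.congr_fun hρ w
    refine ⟨ρ (Ideal.Quotient.mk I X), ⟨?_, ?_⟩, ?_⟩
    · rw [← map_pow, ← map_pow, ← hρ' x]
      congr 1
      exact (Ideal.Quotient.eq.2 (Ideal.subset_span (by simp))).symm
    · rw [← map_pow, ← map_pow, ← hρ' y]
      congr 1
      exact (Ideal.Quotient.eq.2 (Ideal.subset_span (by simp))).symm
    · rintro a' ⟨h2, h3⟩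
      apply eq_of_sq_cube
      · rw [← h2, ← map_pow, ← map_pow, ← hρ' x]
        congr 1
        exact (Ideal.Quotient.eq.2 (Ideal.subset_span (by simp))).symm
      · rw [← h3, ← map_pow, ← map_pow, ← hρ' y]
        congr 1
        exact (Ideal.Quotient.eq.2 (Ideal.subset_span (by simp))).symm
  · intro p hp x y hxy
    set I := Ideal.span ({X ^ p - C x, C (p : W) * X - C y} : Set W[X]) with hI
    obtain ⟨ρ, hρ⟩ := exists_retraction φ hφ (algebraMap W (W[X] ⧸ I)) (prime_ext p hp x y hxy)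
    have hρ' : ∀ w : W, ρ (Ideal.Quotient.mk I (C w)) = w := fun w => RingHom.congr_fun hρ w
    have e1 : ρ (Ideal.Quotient.mk I X) ^ p = x := by
      rw [← map_pow, ← map_pow, ← hρ' x]
      congr 1
      exact Ideal.Quotient.eq.2 (Ideal.subset_span (by simp))
    have e2 : (p : W) * ρ (Ideal.Quotient.mk I X) = y := by
      have : (p : W) = ρ (Ideal.Quotient.mk I (C (p : W))) := (hρ' _).symm
      rw [this, ← map_mul, ← map_mul, ← hρ' y]
      congr 1
      exact Ideal.Quotient.eq.2 (Ideal.subset_span (by simp))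
    refine ⟨ρ (Ideal.Quotient.mk I X), ⟨e1.symm, e2.symm⟩, ?_⟩
    rintro a' ⟨h2, h3⟩
    apply eq_of_prime hp
    · rw [e2, ← h3]
    · rw [e1, ← h2]

/-- A universal homeomorphism from an absolutely weakly normal ring to a reduced ring is
bijective. -/
theorem bijective_of_isAWNRing {B C : Type u} [CommRing B] [CommRing C] (hB : IsAWNRing B)
    [IsReduced C] (χ : B →+* C) (hχ : IsUH χ) : Function.Bijective χ := by
  have hBred := isReduced_of_isSeminormalRing hB.1
  have hinj : Function.Injective χ := by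
    rw [injective_iff_map_eq_zero]
    intro b hb
    exact IsReduced.eq_zero b (hχ.2.2 b hb)
  refine ⟨hinj, ?_⟩
  letI := χ.toAlgebra
  have htop : towerClosure (sqCubeOrPrime B C) = ⊤ :=
    towerClosure_eq_top_of_isUnivHomeo ((isUH_iff χ).1 hχ)
  have hle : towerClosure (sqCubeOrPrime B C) ≤ (⊥ : Subalgebra B C) := by
    apply towerClosure_le
    intro D c hD hc
    rcases hc with ⟨h2, h3⟩ | ⟨p, hp, h2, h3⟩
    · obtain ⟨x, hx⟩ := hD h2
      obtain ⟨y, hy⟩ := hD h3
      have hx' : χ x = c ^ 2 := hx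
      have hy' : χ y = c ^ 3 := hy
      have hxy : x ^ 3 = y ^ 2 := by
        apply hinj
        rw [map_pow, map_pow, hx', hy']
        ring
      obtain ⟨a, ⟨ha2, ha3⟩, -⟩ := hB.1 x y hxy
      refine ⟨a, ?_⟩
      change χ a = c
      apply eq_of_sq_cube
      · rw [← map_pow, ← ha2, hx']
      · rw [← map_pow, ← ha3, hy']
    · obtain ⟨y, hy⟩ := hD h2
      obtain ⟨x, hx⟩ := hD h3
      have hx' : χ x = c ^ p := hx
      have hy' : χ y = (p : C) * c := hy
      have hxy : (p : B) ^ p * x = y ^ p := by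
        apply hinj
        rw [map_mul, map_pow, map_pow, map_natCast, hx', hy']
        ring
      obtain ⟨a, ⟨ha2, ha3⟩, -⟩ := hB.2 p hp x y hxy
      refine ⟨a, ?_⟩
      change χ a = c
      apply eq_of_prime hp
      · rw [← hy', ha3, map_mul, map_natCast]
      · rw [← map_pow, ← ha2, hx']
  intro c
  have hc : c ∈ towerClosure (sqCubeOrPrime B C) := by rw [htop]; trivial
  obtain ⟨b, hb⟩ := hle hc
  exact ⟨b, hb⟩

theorem isAWNRing_of_ringEquiv {B : Type u} [CommRing B] (e : B ≃+* W) (hW : IsAWNRing W) :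
    IsAWNRing B := by
  constructor
  · intro x y hxy
    obtain ⟨a, ⟨h2, h3⟩, huniq⟩ := hW.1 (e x) (e y) (by rw [← map_pow, ← map_pow, hxy])
    refine ⟨e.symm a, ⟨?_, ?_⟩, ?_⟩
    · apply e.injective; rw [map_pow, e.apply_symm_apply, h2]
    · apply e.injective; rw [map_pow, e.apply_symm_apply, h3]
    · rintro a' ⟨h2', h3'⟩
      rw [← huniq (e a') ⟨by rw [← map_pow, ← h2'], by rw [← map_pow, ← h3']⟩, e.symm_apply_apply]
  · intro p hp x y hxy
    obtain ⟨a, ⟨h2, h3⟩, huniq⟩ := hW.2 p hp (e x) (e y) (by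
      rw [← map_pow, ← hxy, map_mul, map_pow, map_natCast])
    refine ⟨e.symm a, ⟨?_, ?_⟩, ?_⟩
    · apply e.injective; rw [map_pow, e.apply_symm_apply, h2]
    · apply e.injective; rw [map_mul, map_natCast, e.apply_symm_apply, h3]
    · rintro a' ⟨h2', h3'⟩
      rw [← huniq (e a') ⟨by rw [← map_pow, ← h2'], by rw [h3', map_mul, map_natCast]⟩,
        e.symm_apply_apply]

theorem s7423 {B : Type u} [CommRing B] (φ : A →+* W) (hφ : HTop.IsRingAWN φ) (ψ : A →+* B)
    (hψ : FlatMor.IsUnivHomeo (Spec.map (CommRingCat.ofHom ψ))) (χ : B →+* W)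
    (hχ : χ.comp ψ = φ) : Function.Bijective χ ↔ HTop.IsAWNRing B := by
  have hred := isReduced_of_isRingAWN φ hφ
  have hχU : IsUH χ := IsUH.of_comp ((isUH_iff ψ).2 hψ) (by rw [hχ]; exact (isUH_iff φ).2 hφ.1)
  constructor
  · intro hbij
    exact isAWNRing_of_ringEquiv (RingEquiv.ofBijective χ hbij) (isAWNRing_of_isRingAWN φ hφ)
  · intro hB
    exact bijective_of_isAWNRing hB χ hχU

end Groth.Agent.Helper7.AwnR
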