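import Groth.Agent.Helper7.PPowUH
import Groth.Agent.Helper7.AwnR

set_option autoImplicit false
universe u
open AlgebraicGeometry CategoryTheory

namespace Groth.Agent.Helper7.AwnPerf

open Groth.Agent.Helper7.UHRing Groth.Agent.Helper7.UHStep HTop

theorem isUH_of_isPRadical {A B : Type u} [CommRing A] [CommRing B] (φ : A →+* B) (p : ℕ)
    [hp : Fact p.Prime] [CharP B p] [h : IsPRadical φ p] : IsUH φ := by
  apply Groth.Agent.Helper7.PPowUH.isUH_of_good φ p hp.out
  · intro a ha
    have := IsPRadical.ker_le φ p ha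
    rw [mem_pNilradical] at this
    obtain ⟨n, hn⟩ := this
    exact ⟨p ^ n, hn⟩
  · intro b
    obtain ⟨n, y, hy⟩ := IsPRadical.pow_mem φ p b
    refine ⟨n + 1, ⟨0, ?_⟩, ⟨y ^ p, ?_⟩⟩
    · rw [map_zero, pow_succ, CharP.cast_eq_zero B p, mul_zero, zero_mul]
    · rw [map_pow, hy, pow_succ, pow_mul]

theorem s8993 (p : ℕ) [Fact p.Prime] (A : Type u) [CommRing A] [CharP A p] :
    HTop.IsRingAWN (PerfectClosure.of A p) := by
  have hp : p.Prime := Fact.out
  have hof : IsUH (PerfectClosure.of A p) := isUH_of_isPRadical _ p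
  refine ⟨(isUH_iff _).1 hof, ?_⟩
  intro C _ ψ hψ
  have hψU : IsUH ψ := (isUH_iff ψ).2 hψ
  -- `C` has characteristic `p`
  have hA : Nontrivial A := by
    by_contra hcon
    rw [not_nontrivial_iff_subsingleton] at hcon
    have h1 : ((1 : ℕ) : A) = 0 := Subsingleton.elim _ _
    have := (CharP.cast_eq_zero_iff A p 1).1 h1
    exact hp.one_lt.ne' (Nat.dvd_one.1 this)
  have hC : Nontrivial C := by
    by_contra hcon
    rw [not_nontrivial_iff_subsingleton] at hcon
    have h1 : ψ 1 = 0 := Subsingleton.elim _ _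
    obtain ⟨n, hn⟩ := hψU.2.2 1 h1
    rw [one_pow] at hn
    exact one_ne_zero hn
  have hp0 : (p : C) = 0 := by
    have : (p : C) = ψ (p : A) := (map_natCast ψ p).symm
    rw [this, CharP.cast_eq_zero A p, map_zero]
  haveI : CharP C p := (CharP.charP_iff_prime_eq_zero hp).2 hp0
  -- the comparison of perfect closures
  let θ : PerfectClosure A p →+* PerfectClosure C p :=
    PerfectClosure.lift A p (PerfectClosure C p) ((PerfectClosure.of C p).comp ψ)
  have hθ : θ.comp (PerfectClosure.of A p) = (PerfectClosure.of C p).comp ψ := by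
    ext a
    simp only [θ, RingHom.comp_apply, PerfectClosure.lift, Equiv.coe_fn_mk, RingHom.coe_mk,
      MonoidHom.coe_mk, OneHom.coe_mk, PerfectClosure.of_apply, PerfectClosure.liftOn_mk,
      Function.iterate_zero, id_eq]
  have hofC : IsUH (PerfectClosure.of C p) := isUH_of_isPRadical _ p
  have hθU : IsUH θ := IsUH.of_comp hof (by rw [hθ]; exact hψU.comp hofC)
  have hθbij : Function.Bijective θ :=
    bijective_of_isUnivHomeo_of_perfect p θ ((isUH_iff θ).1 hθU)
  let e := RingEquiv.ofBijective θ hθbij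
  refine ⟨e.symm.toRingHom.comp (PerfectClosure.of C p), ?_, ?_⟩
  · ext a
    simp only [RingHom.comp_apply, RingEquiv.toRingHom_eq_coe, RingHom.coe_coe]
    rw [e.symm_apply_eq]
    exact (RingHom.congr_fun hθ a).symm
  · intro χ hχ
    ext c
    obtain ⟨n, a, ha⟩ := exists_pow_mem_range_of_isUnivHomeo p ψ hψ c
    apply iterateFrobenius_inj (PerfectClosure A p) p n
    rw [iterateFrobenius_def, iterateFrobenius_def, ← map_pow, ← map_pow, ← ha]
    simp only [RingHom.comp_apply, RingEquiv.toRingHom_eq_coe, RingHom.coe_coe]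
    have h1 : χ (ψ a) = PerfectClosure.of A p a := RingHom.congr_fun hχ a
    rw [h1, eq_comm, e.symm_apply_eq]
    exact (RingHom.congr_fun hθ a).symm

end Groth.Agent.Helper7.AwnPerf
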