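import Groth.Agent.Helper7.AwnFun
import Groth.Agent.Helper5.UnivHomeo1

set_option autoImplicit false
universe u
open AlgebraicGeometry CategoryTheory Limits

namespace Groth.Agent.Helper7.AwnSch

open Groth.Agent.Helper7.UHRing Groth.Agent.Helper7.AwnR Groth.Agent.Helper7.AwnLoc HTop
open Groth.Agent.Helper7.AwnFun

section ring

variable (A : Type u) [CommRing A]

/-- A chosen absolute weak normalization of a ring. -/
abbrev Awn : Type u := Groth.Agent.Helper5.Awn.awn A

noncomputable def toAwn : A →+* Awn A := Groth.Agent.Helper5.Awn.toAwn A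

theorem isRingAWN_toAwn : IsRingAWN (toAwn A) :=
  ⟨(Groth.Agent.Helper5.Awn.uh_iff _).2 Groth.Agent.Helper5.Awn.uh_toAwn, fun C _ ψ hψ =>
    Groth.Agent.Helper5.Awn.final ψ ((Groth.Agent.Helper5.Awn.uh_iff ψ).1 hψ)⟩

theorem isUH_toAwn : IsUH (toAwn A) := (isUH_iff _).2 (isRingAWN_toAwn A).1

instance : IsReduced (Awn A) := isReduced_of_isRingAWN _ (isRingAWN_toAwn A)

theorem isAWNRing_awn : IsAWNRing (Awn A) := isAWNRing_of_isRingAWN _ (isRingAWN_toAwn A)

variable {A} {A' A'' : Type u} [CommRing A'] [CommRing A'']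

noncomputable def awnMap (r : A →+* A') : Awn A →+* Awn A' :=
  (existsUnique_awn_map r (toAwn A) (isRingAWN_toAwn A) (toAwn A') (isRingAWN_toAwn A')).exists.choose

theorem awnMap_comp_toAwn (r : A →+* A') : (awnMap r).comp (toAwn A) = (toAwn A').comp r :=
  (existsUnique_awn_map r (toAwn A) (isRingAWN_toAwn A) (toAwn A')
    (isRingAWN_toAwn A')).exists.choose_spec

theorem awnMap_unique (r : A →+* A') (g : Awn A →+* Awn A')
    (hg : g.comp (toAwn A) = (toAwn A').comp r) : g = awnMap r :=
  (existsUnique_awn_map r (toAwn A) (isRingAWN_toAwn A) (toAwn A') (isRingAWN_toAwn A')).unique hg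
    (awnMap_comp_toAwn r)

theorem awnMap_id : awnMap (RingHom.id A) = RingHom.id (Awn A) :=
  (awnMap_unique _ _ (by rw [RingHom.id_comp, RingHom.comp_id])).symm

theorem awnMap_comp (r : A →+* A') (r' : A' →+* A'') :
    awnMap (r'.comp r) = (awnMap r').comp (awnMap r) :=
  (awnMap_unique _ _ (by
    rw [RingHom.comp_assoc, awnMap_comp_toAwn, ← RingHom.comp_assoc, awnMap_comp_toAwn,
      RingHom.comp_assoc])).symm

end ring

/-- The absolute weak normalization as an endofunctor of commutative rings. -/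
noncomputable def awnFunctor : CommRingCat.{u} ⥤ CommRingCat.{u} where
  obj R := CommRingCat.of (Awn R)
  map f := CommRingCat.ofHom (awnMap f.hom)
  map_id R := by
    rw [CommRingCat.hom_id, awnMap_id]; rfl
  map_comp f g := by
    rw [CommRingCat.hom_comp, awnMap_comp]; rfl

noncomputable def awnNat : 𝟭 CommRingCat.{u} ⟶ awnFunctor where
  app R := CommRingCat.ofHom (toAwn R)
  naturality R S f := by
    ext x
    exact (RingHom.congr_fun (awnMap_comp_toAwn f.hom) x).symm

end Groth.Agent.Helper7.AwnSch
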