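import Groth.Agent.Helper7.AwnSch1

set_option autoImplicit false
universe u
open AlgebraicGeometry CategoryTheory Limits

namespace Groth.Agent.Helper7.AwnSch

open Groth.Agent.Helper7.UHRing Groth.Agent.Helper7.AwnR Groth.Agent.Helper7.AwnLoc HTop
open Groth.Agent.Helper7.AwnFun Scheme.AffineZariskiSite

variable (X : Scheme.{u})

/-- The presheaf of absolute weak normalizations on the small affine Zariski site. -/
noncomputable def awnDiagram : X.AffineZariskiSiteᵒᵖ ⥤ CommRingCat.{u} :=
  ((toOpensFunctor X).op ⋙ X.presheaf) ⋙ awnFunctor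

noncomputable def awnDiagramMap : (toOpensFunctor X).op ⋙ X.presheaf ⟶ awnDiagram X where
  app U := awnNat.app _
  naturality _ _ f := awnNat.naturality _

theorem coequifibered_awnDiagramMap : (awnDiagramMap X).Coequifibered := by
  refine coequifibered_iff_forall_isLocalizationAway.mpr fun U f ↦ ?_
  letI : Algebra Γ(X, U.1) Γ(X, X.basicOpen f) :=
    (X.presheaf.map (homOfLE (X.basicOpen_le f)).op).hom.toAlgebra
  haveI : IsLocalization.Away f Γ(X, X.basicOpen f) := U.2.isLocalization_basicOpen f
  exact isLocalization_awn f (toAwn Γ(X, U.1)) (isRingAWN_toAwn _) (toAwn Γ(X, X.basicOpen f))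
    (isRingAWN_toAwn _) (awnMap (algebraMap Γ(X, U.1) Γ(X, X.basicOpen f)))
    (awnMap_comp_toAwn _)

/-- The gluing data for the absolute weak normalization. -/
noncomputable def awnGlueData := relativeGluingData (coequifibered_awnDiagramMap X)

instance : ((awnGlueData X).functor ⋙ Scheme.forget).IsLocallyDirected :=
  Scheme.Cover.RelativeGluingData.instIsLocallyDirectedI₀CompFunctorForgetOfIsThin ..

/-- The absolute weak normalization of a scheme. -/
noncomputable def awn : Scheme.{u} := (awnGlueData X).glued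

/-- The cover of `awn X` by the spectra of the ring-level absolute weak normalizations. -/
noncomputable def awnOpenCover : (awn X).OpenCover := (awnGlueData X).cover

/-- The structure morphism `awn X ⟶ X`. -/
noncomputable def fromAwn : awn X ⟶ X := (awnGlueData X).toBase

theorem ι_fromAwn (U : X.affineOpens) :
    (awnOpenCover X).f U ≫ fromAwn X =
      Spec.map ((awnDiagramMap X).app (.op U)) ≫ U.2.fromSpec :=
  colimit.ι_desc _ _

theorem isPullback_fromAwn (U : X.affineOpens) :
    IsPullback ((awnGlueData X).natTrans.app U) ((awnOpenCover X).f U) U.1.ι (fromAwn X) :=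
  (awnGlueData X).isPullback_natTrans_ι_toBase U

/-- Universal homeomorphisms may be checked on an open cover of the target. -/
theorem isUnivHomeo_of_isPullback_cover {X Y : Scheme.{u}} (f : X ⟶ Y) (𝒰 : Y.OpenCover)
    (V : 𝒰.I₀ → Scheme.{u}) (g : ∀ i, V i ⟶ 𝒰.X i) (j : ∀ i, V i ⟶ X)
    (h : ∀ i, IsPullback (g i) (j i) (𝒰.f i) f) (H : ∀ i, FlatMor.IsUnivHomeo (g i)) :
    FlatMor.IsUnivHomeo f := by
  rw [Groth.Agent.Helper5.UnivHomeo.isUnivHomeo_iff]
  have key : ∀ (P : MorphismProperty Scheme.{u}) [IsZariskiLocalAtTarget P],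
      (∀ i, P (g i)) → P f := by
    intro P _ hP
    refine IsZariskiLocalAtTarget.of_openCover 𝒰 fun i => ?_
    have e : (h i).flip.isoPullback.hom ≫ pullback.snd f (𝒰.f i) = g i :=
      (h i).flip.isoPullback_hom_snd
    show P (pullback.snd f (𝒰.f i))
    have h3 := hP i
    rw [← e] at h3
    exact (MorphismProperty.cancel_left_of_respectsIso P (h i).flip.isoPullback.hom _).1 h3
  exact ⟨key @IsIntegralHom fun i => ((Groth.Agent.Helper5.UnivHomeo.isUnivHomeo_iff _).1 (H i)).1,
    key @UniversallyInjective fun i =>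
      ((Groth.Agent.Helper5.UnivHomeo.isUnivHomeo_iff _).1 (H i)).2.1,
    key @Surjective fun i => ((Groth.Agent.Helper5.UnivHomeo.isUnivHomeo_iff _).1 (H i)).2.2⟩

theorem isUnivHomeo_natTrans_app (U : X.affineOpens) :
    FlatMor.IsUnivHomeo ((awnGlueData X).natTrans.app U) := by
  have h1 : FlatMor.IsUnivHomeo (Spec.map ((awnDiagramMap X).app (.op U))) :=
    (isRingAWN_toAwn Γ(X, U.1)).1
  have h2 : (awnGlueData X).natTrans.app U =
      Spec.map ((awnDiagramMap X).app (.op U)) ≫ (restrictIsoSpec X).inv.app U := rfl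
  rw [h2]
  exact (MorphismProperty.cancel_right_of_respectsIso _ _ _).2 h1

theorem isUnivHomeo_fromAwn : FlatMor.IsUnivHomeo (fromAwn X) :=
  isUnivHomeo_of_isPullback_cover (fromAwn X) (directedCover X) _ _ _ (isPullback_fromAwn X)
    (isUnivHomeo_natTrans_app X)

end Groth.Agent.Helper7.AwnSch
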