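import Groth.Agent.Helper7.AwnSch2

set_option autoImplicit false
universe u
open AlgebraicGeometry CategoryTheory Limits

namespace Groth.Agent.Helper7.AwnSch

open Groth.Agent.Helper7.UHRing Groth.Agent.Helper7.AwnR Groth.Agent.Helper7.AwnLoc HTop
open Groth.Agent.Helper7.AwnFun Scheme.AffineZariskiSite

/-- Two morphisms from a reduced scheme into the source of a universal homeomorphism agree as
soon as they agree after composing with it. -/
theorem hom_ext_of_isUnivHomeo {Z Y X : Scheme.{u}} [IsReduced Z] (π : Y ⟶ X)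
    (hπ : FlatMor.IsUnivHomeo π) (h₁ h₂ : Z ⟶ Y) (h : h₁ ≫ π = h₂ ≫ π) : h₁ = h₂ := by
  obtain ⟨hint, hinj, -⟩ := (Groth.Agent.Helper5.UnivHomeo.isUnivHomeo_iff π).1 hπ
  have hK : ∀ (K : Type u) [Field K],
      Function.Injective (fun g : Spec (.of K) ⟶ Y ↦ g ≫ π) :=
    ((tfae_universallyInjective π).out 0 1).1 hinj
  refine ext_of_fromSpecResidueField_eq h₁ h₂ π Set.univ dense_univ (fun x _ => ?_) h
  apply hK
  show (Z.fromSpecResidueField x ≫ h₁) ≫ π = (Z.fromSpecResidueField x ≫ h₂) ≫ π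
  rw [Category.assoc, Category.assoc, h]

theorem isUnivHomeo_SpecMap_app {Y X : Scheme.{u}} (π : Y ⟶ X) (hπ : FlatMor.IsUnivHomeo π)
    (U : X.Opens) (hU : IsAffineOpen U) (hU' : IsAffineOpen (π ⁻¹ᵁ U)) :
    FlatMor.IsUnivHomeo (Spec.map (π.app U)) := by
  have H : hU'.fromSpec ≫ π = Spec.map (π.app U) ≫ hU.fromSpec := by
    rw [Scheme.Hom.app_eq_appLE, IsAffineOpen.SpecMap_appLE_fromSpec]
  have H' : π ⁻¹ᵁ hU.fromSpec.opensRange = hU'.fromSpec.opensRange := by
    rw [hU.opensRange_fromSpec, hU'.opensRange_fromSpec]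
  have hpb := IsOpenImmersion.isPullback (Spec.map (π.app U)) hU'.fromSpec hU.fromSpec π H H'
  exact MorphismProperty.of_isPullback hpb.flip hπ

variable {X : Scheme.{u}}

instance isReduced_awn : IsReduced (awn X) := by
  have (i : _) : IsReduced ((awnOpenCover X).X i) := by
    have : _root_.IsReduced ((awnDiagram X).obj (.op i)) :=
      inferInstanceAs (_root_.IsReduced (Awn _))
    show IsReduced (Spec ((awnDiagram X).obj (.op i)))
    infer_instance
  exact .of_openCover _ (awnOpenCover X)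

section desc

variable {Y : Scheme.{u}} (π : Y ⟶ X) (hπ : FlatMor.IsUnivHomeo π)

include hπ in
theorem isAffineOpen_preimage (U : X.AffineZariskiSite) : IsAffineOpen (π ⁻¹ᵁ U.1) := by
  haveI : IsIntegralHom π := ((Groth.Agent.Helper5.UnivHomeo.isUnivHomeo_iff π).1 hπ).1
  exact U.2.preimage π

include hπ in
theorem isUH_app (U : X.AffineZariskiSite) : IsUH (π.app U.1).hom :=
  (isUH_iff _).2 (isUnivHomeo_SpecMap_app π hπ U.1 U.2 (isAffineOpen_preimage π hπ U))

/-- The local comparison map `Γ(Y, π⁻¹U) → Γ(X, U)^awn`. -/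
noncomputable def descRing (U : X.AffineZariskiSite) : Γ(Y, π ⁻¹ᵁ U.1) →+* Awn Γ(X, U.1) :=
  ((isRingAWN_toAwn Γ(X, U.1)).2 Γ(Y, π ⁻¹ᵁ U.1) (π.app U.1).hom
    ((isUH_iff _).1 (isUH_app π hπ U))).exists.choose

theorem descRing_comp (U : X.AffineZariskiSite) :
    (descRing π hπ U).comp (π.app U.1).hom = toAwn Γ(X, U.1) :=
  ((isRingAWN_toAwn Γ(X, U.1)).2 Γ(Y, π ⁻¹ᵁ U.1) (π.app U.1).hom
    ((isUH_iff _).1 (isUH_app π hπ U))).exists.choose_spec

theorem descRing_unique (U : X.AffineZariskiSite) (χ : Γ(Y, π ⁻¹ᵁ U.1) →+* Awn Γ(X, U.1))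
    (hχ : χ.comp (π.app U.1).hom = toAwn Γ(X, U.1)) : χ = descRing π hπ U :=
  ((isRingAWN_toAwn Γ(X, U.1)).2 Γ(Y, π ⁻¹ᵁ U.1) (π.app U.1).hom
    ((isUH_iff _).1 (isUH_app π hπ U))).unique hχ (descRing_comp π hπ U)

theorem descRing_naturality {U V : X.AffineZariskiSite} (i : U ⟶ V) :
    (awnMap (X.presheaf.map (homOfLE (toOpens_mono i.le)).op).hom).comp (descRing π hπ V) =
      (descRing π hπ U).comp
        (Y.presheaf.map (homOfLE (π.preimage_mono (toOpens_mono i.le))).op).hom := by
  apply hom_ext_reduced (isUH_app π hπ V)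
  rw [RingHom.comp_assoc, descRing_comp, awnMap_comp_toAwn, RingHom.comp_assoc]
  have h1 : (Y.presheaf.map (homOfLE (π.preimage_mono (toOpens_mono i.le))).op).hom.comp
      (π.app V.1).hom = (π.app U.1).hom.comp
        (X.presheaf.map (homOfLE (toOpens_mono i.le)).op).hom := by
    have := π.naturality (homOfLE (toOpens_mono i.le)).op
    exact congrArg CommRingCat.Hom.hom this.symm
  rw [h1, ← RingHom.comp_assoc, descRing_comp]

theorem awnDesc_naturality {U V : X.AffineZariskiSite} (i : U ⟶ V) :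
    (awnGlueData X).functor.map i ≫ Spec.map (CommRingCat.ofHom (descRing π hπ V)) ≫
      (isAffineOpen_preimage π hπ V).fromSpec =
    Spec.map (CommRingCat.ofHom (descRing π hπ U)) ≫
      (isAffineOpen_preimage π hπ U).fromSpec := by
  have h2 : CommRingCat.ofHom (descRing π hπ V) ≫ CommRingCat.ofHom
        (awnMap (X.presheaf.map (homOfLE (toOpens_mono i.le)).op).hom) =
      Y.presheaf.map (homOfLE (π.preimage_mono (toOpens_mono i.le))).op ≫
        CommRingCat.ofHom (descRing π hπ U) :=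
    CommRingCat.hom_ext (descRing_naturality π hπ i)
  calc (awnGlueData X).functor.map i ≫ Spec.map (CommRingCat.ofHom (descRing π hπ V)) ≫
        (isAffineOpen_preimage π hπ V).fromSpec
      = (Spec.map (CommRingCat.ofHom
          (awnMap (X.presheaf.map (homOfLE (toOpens_mono i.le)).op).hom)) ≫
          Spec.map (CommRingCat.ofHom (descRing π hπ V))) ≫
            (isAffineOpen_preimage π hπ V).fromSpec := (Category.assoc _ _ _).symm
    _ = Spec.map (CommRingCat.ofHom (descRing π hπ V) ≫ CommRingCat.ofHom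
          (awnMap (X.presheaf.map (homOfLE (toOpens_mono i.le)).op).hom)) ≫
            (isAffineOpen_preimage π hπ V).fromSpec := by rw [Spec.map_comp]
    _ = Spec.map (Y.presheaf.map (homOfLE (π.preimage_mono (toOpens_mono i.le))).op ≫
          CommRingCat.ofHom (descRing π hπ U)) ≫
            (isAffineOpen_preimage π hπ V).fromSpec := by rw [h2]
    _ = Spec.map (CommRingCat.ofHom (descRing π hπ U)) ≫
          (Spec.map (Y.presheaf.map (homOfLE (π.preimage_mono (toOpens_mono i.le))).op) ≫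
            (isAffineOpen_preimage π hπ V).fromSpec) := by
          rw [Spec.map_comp, Category.assoc]
    _ = _ := by rw [IsAffineOpen.map_fromSpec]

/-- The morphism `awn X ⟶ Y` induced by a universal homeomorphism `Y ⟶ X`. -/
noncomputable def awnDesc : awn X ⟶ Y :=
  colimit.desc (awnGlueData X).functor
    { pt := Y
      ι :=
        { app := fun U => Spec.map (CommRingCat.ofHom (descRing π hπ U)) ≫
            (isAffineOpen_preimage π hπ U).fromSpec
          naturality := fun U V i =>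
            (awnDesc_naturality π hπ i).trans (Category.comp_id _).symm } }

theorem ι_awnDesc (U : X.AffineZariskiSite) :
    (awnOpenCover X).f U ≫ awnDesc π hπ = Spec.map (CommRingCat.ofHom (descRing π hπ U)) ≫
      (isAffineOpen_preimage π hπ U).fromSpec :=
  colimit.ι_desc _ _

theorem ι_awnDesc_comp (U : X.AffineZariskiSite) :
    (awnOpenCover X).f U ≫ awnDesc π hπ ≫ π = (awnOpenCover X).f U ≫ fromAwn X := by
  have h2 : π.app U.1 ≫ CommRingCat.ofHom (descRing π hπ U) =
      (awnDiagramMap X).app (.op U) :=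
    CommRingCat.hom_ext (descRing_comp π hπ U)
  have h3 : (isAffineOpen_preimage π hπ U).fromSpec ≫ π = Spec.map (π.app U.1) ≫ U.2.fromSpec := by
    rw [Scheme.Hom.app_eq_appLE, IsAffineOpen.SpecMap_appLE_fromSpec]
  refine Eq.trans ?_ ((congrArg (fun t => Spec.map t ≫ U.2.fromSpec) h2).trans
    (ι_fromAwn X U).symm)
  calc (awnOpenCover X).f U ≫ awnDesc π hπ ≫ π
      = ((awnOpenCover X).f U ≫ awnDesc π hπ) ≫ π := (Category.assoc _ _ _).symm
    _ = (Spec.map (CommRingCat.ofHom (descRing π hπ U)) ≫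
          (isAffineOpen_preimage π hπ U).fromSpec) ≫ π :=
          congrArg (· ≫ π) (ι_awnDesc π hπ U)
    _ = Spec.map (CommRingCat.ofHom (descRing π hπ U)) ≫
          (Spec.map (π.app U.1) ≫ U.2.fromSpec) := by rw [Category.assoc, h3]
    _ = Spec.map (π.app U.1 ≫ CommRingCat.ofHom (descRing π hπ U)) ≫ U.2.fromSpec := by
          rw [Spec.map_comp, Category.assoc]

theorem awnDesc_comp : awnDesc π hπ ≫ π = fromAwn X :=
  (awnOpenCover X).hom_ext _ _ fun U => ι_awnDesc_comp π hπ U

include hπ in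
theorem existsUnique_awnDesc : ∃! h : awn X ⟶ Y, h ≫ π = fromAwn X :=
  ⟨awnDesc π hπ, awnDesc_comp π hπ, fun h hh =>
    hom_ext_of_isUnivHomeo π hπ _ _ (hh.trans (awnDesc_comp π hπ).symm)⟩

end desc

variable (X) in
theorem isAWNormalization_fromAwn : IsAWNormalization (fromAwn X) :=
  ⟨isUnivHomeo_fromAwn X, fun _ π hπ => existsUnique_awnDesc π hπ⟩

variable (X) in
theorem s7424 : ∃ (X' : Scheme.{u}) (ν : X' ⟶ X), HTop.IsAWNormalization ν :=
  ⟨awn X, fromAwn X, isAWNormalization_fromAwn X⟩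

end Groth.Agent.Helper7.AwnSch
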