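import Groth.Agent.Helper7.AwnSch3

set_option autoImplicit false
universe u
open AlgebraicGeometry CategoryTheory Limits

namespace Groth.Agent.Helper7.AwnSch

open Groth.Agent.Helper7.UHRing Groth.Agent.Helper7.AwnR Groth.Agent.Helper7.AwnLoc HTop
open Groth.Agent.Helper7.AwnFun Scheme.AffineZariskiSite

/-- A scheme covered by spectra of absolutely weakly normal rings is absolutely weakly normal. -/
theorem isAWN_of_openCover {Z : Scheme.{u}} (𝒰 : Z.OpenCover) [∀ i, IsAffine (𝒰.X i)]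
    (h : ∀ i, IsAWNRing Γ(𝒰.X i, ⊤)) : IsAWN Z := by
  intro x
  obtain ⟨i, y, rfl⟩ := 𝒰.exists_eq x
  refine ⟨⟨(𝒰.f i) ''ᵁ ⊤, (isAffineOpen_top (𝒰.X i)).image_of_isOpenImmersion (𝒰.f i)⟩,
    ⟨y, trivial, rfl⟩, ?_⟩
  exact isAWNRing_of_ringEquiv ((𝒰.f i).appIso ⊤).commRingCatIsoToRingEquiv (h i)

theorem isAWN_awn (X : Scheme.{u}) : IsAWN (awn X) := by
  haveI : ∀ i, IsAffine ((awnOpenCover X).X i) := fun i =>
    inferInstanceAs (IsAffine (Spec ((awnDiagram X).obj (.op i))))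
  apply isAWN_of_openCover (awnOpenCover X)
  intro i
  show IsAWNRing Γ(Spec ((awnDiagram X).obj (.op i)), ⊤)
  exact isAWNRing_of_ringEquiv (Scheme.ΓSpecIso ((awnDiagram X).obj (.op i))).commRingCatIsoToRingEquiv
    (isAWNRing_awn _)

theorem isAWN_of_iso {X Y : Scheme.{u}} (e : X ≅ Y) (h : IsAWN Y) : IsAWN X := by
  intro x
  obtain ⟨V, hxV, hV⟩ := h (e.hom x)
  refine ⟨⟨e.hom ⁻¹ᵁ V.1, V.2.preimage_of_isIso e.hom⟩, hxV, ?_⟩
  exact isAWNRing_of_ringEquiv (asIso (e.hom.app V.1)).symm.commRingCatIsoToRingEquiv hV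

/-- A universal homeomorphism from a reduced scheme to an absolutely weakly normal scheme is an
isomorphism. -/
theorem isIso_of_isUnivHomeo_of_isAWN {Z Y : Scheme.{u}} [IsReduced Z] (h : Z ⟶ Y)
    (hh : FlatMor.IsUnivHomeo h) (hY : IsAWN Y) : IsIso h := by
  haveI : IsIntegralHom h := ((Groth.Agent.Helper5.UnivHomeo.isUnivHomeo_iff h).1 hh).1
  choose V hxV hV using hY
  have hcov : (⨆ y, (V y).1 : Y.Opens) = ⊤ := by
    rw [eq_top_iff]
    intro y _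
    exact TopologicalSpace.Opens.mem_iSup.2 ⟨y, hxV y⟩
  show MorphismProperty.isomorphisms Scheme h
  refine (IsZariskiLocalAtTarget.iff_of_iSup_eq_top (P := .isomorphisms _) _ hcov).2 fun y => ?_
  show IsIso (h ∣_ (V y).1)
  rw [isIso_morphismRestrict_iff_isIso_app h (V y).2]
  have hbij : Function.Bijective (h.app (V y).1).hom :=
    bijective_of_isAWNRing (hV y) _ (isUH_app h hh (V y))
  exact (ConcreteCategory.isIso_iff_bijective _).2 hbij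

/-- Two absolute weak normalizations of the same scheme are uniquely isomorphic. -/
theorem awnz_exists_iso {X X₁ X₂ : Scheme.{u}} {ν₁ : X₁ ⟶ X} {ν₂ : X₂ ⟶ X}
    (h₁ : IsAWNormalization ν₁) (h₂ : IsAWNormalization ν₂) :
    ∃ e : X₁ ≅ X₂, e.hom ≫ ν₂ = ν₁ := by
  obtain ⟨a, ha, -⟩ := h₁.2 X₂ ν₂ h₂.1
  obtain ⟨b, hb, -⟩ := h₂.2 X₁ ν₁ h₁.1
  obtain ⟨c, -, hc⟩ := h₁.2 X₁ ν₁ h₁.1
  obtain ⟨d, -, hd⟩ := h₂.2 X₂ ν₂ h₂.1
  refine ⟨⟨a, b, ?_, ?_⟩, ha⟩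
  · rw [hc (a ≫ b) (by show (a ≫ b) ≫ ν₁ = ν₁; rw [Category.assoc, hb, ha]), hc (𝟙 _) (Category.id_comp ν₁)]
  · rw [hd (b ≫ a) (by show (b ≫ a) ≫ ν₂ = ν₂; rw [Category.assoc, ha, hb]), hd (𝟙 _) (Category.id_comp ν₂)]

theorem awnz_of_iso {X X₁ X₂ : Scheme.{u}} {ν₂ : X₂ ⟶ X}
    (h₂ : IsAWNormalization ν₂) (e : X₁ ≅ X₂) : IsAWNormalization (e.hom ≫ ν₂) := by
  refine ⟨MorphismProperty.comp_mem _ _ _ (Groth.Agent.Lead.isUnivHomeo_of_isIso e.hom)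
    h₂.1, fun Y π hπ => ?_⟩
  obtain ⟨a, ha, hu⟩ := h₂.2 Y π hπ
  refine ⟨e.hom ≫ a, by show (e.hom ≫ a) ≫ π = e.hom ≫ ν₂; rw [Category.assoc, ha], fun b hb => ?_⟩
  have hb' : b ≫ π = e.hom ≫ ν₂ := hb
  have := hu (e.inv ≫ b) (by show (e.inv ≫ b) ≫ π = ν₂; rw [Category.assoc, hb', e.inv_hom_id_assoc])
  rw [← this, e.hom_inv_id_assoc]

theorem awnz_isAWN {X X' : Scheme.{u}} {ν : X' ⟶ X} (h : IsAWNormalization ν) :
    IsAWN X' := by
  obtain ⟨e, -⟩ := awnz_exists_iso h (isAWNormalization_fromAwn X)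
  exact isAWN_of_iso e (isAWN_awn X)

theorem awnz_isReduced {X X' : Scheme.{u}} {ν : X' ⟶ X} (h : IsAWNormalization ν) :
    IsReduced X' := by
  obtain ⟨e, -⟩ := awnz_exists_iso h (isAWNormalization_fromAwn X)
  exact isReduced_of_isOpenImmersion e.hom

theorem s7425 {X X' Y : Scheme.{u}} (ν : X' ⟶ X)
    (hν : HTop.IsAWNormalization ν) (π : Y ⟶ X) (hπ : FlatMor.IsUnivHomeo π) (h : X' ⟶ Y)
    (hh : h ≫ π = ν) : IsIso h ↔ HTop.IsAWN Y := by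
  constructor
  · intro hiso
    exact isAWN_of_iso (asIso h).symm (awnz_isAWN hν)
  · intro hY
    haveI := awnz_isReduced hν
    have hhU : FlatMor.IsUnivHomeo h :=
      MorphismProperty.of_postcomp (W := FlatMor.IsUnivHomeo) (W' := FlatMor.IsUnivHomeo) h π hπ
        (hh ▸ hν.1)
    exact isIso_of_isUnivHomeo_of_isAWN h hhU hY

theorem s7426 (X : Scheme.{u}) :
    (HTop.IsAWN X ↔ HTop.IsAWNormalization (𝟙 X)) ∧
    (HTop.IsAWN X ↔ ∀ (Y : Scheme.{u}) (π : Y ⟶ X), FlatMor.IsUnivHomeo π →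
      AlgebraicGeometry.IsReduced Y → IsIso π) := by
  refine ⟨⟨fun hX => ?_, fun h => awnz_isAWN h⟩, ⟨fun hX Y π hπ hY =>
    isIso_of_isUnivHomeo_of_isAWN π hπ hX, fun h => ?_⟩⟩
  · haveI : IsIso (fromAwn X) := isIso_of_isUnivHomeo_of_isAWN _ (isUnivHomeo_fromAwn X) hX
    have := awnz_of_iso (isAWNormalization_fromAwn X) (asIso (fromAwn X)).symm
    simpa using this
  · haveI : IsIso (fromAwn X) := h _ _ (isUnivHomeo_fromAwn X) inferInstance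
    exact isAWN_of_iso (asIso (fromAwn X)).symm (isAWN_awn X)

end Groth.Agent.Helper7.AwnSch
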