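import Mathlib
import Groth.Agent.Helper9.AzuBC
set_option autoImplicit false
open TensorProduct LinearMap
universe u v w

namespace Groth.Agent.Helper7.AzuSurj

section
variable (R : Type u) [CommRing R] (S : Type v) [CommRing S] [Algebra R S]
  (hS : Function.Surjective (PrimeSpectrum.comap (algebraMap R S)))

include hS in
/-- L1 -/
lemma subsingleton_of_tensor (M : Type w) [AddCommGroup M] [Module R M] [Module.Finite R M]
    [Subsingleton (S ⊗[R] M)] : Subsingleton M := by
  by_contra hcon
  rw [not_subsingleton_iff_nontrivial] at hcon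
  obtain ⟨I, f, hI, hf⟩ := Module.exists_surjective_quotient_of_finite R M
  obtain ⟨m, hm, hIm⟩ := Ideal.exists_le_maximal I hI
  obtain ⟨q, hq⟩ := hS ⟨m, hm.isPrime⟩
  have hqm : q.asIdeal.comap (algebraMap R S) = m := congrArg PrimeSpectrum.asIdeal hq
  have hle : I ≤ LinearMap.ker (Algebra.linearMap R (S ⧸ q.asIdeal)) := by
    intro a ha
    rw [LinearMap.mem_ker, Algebra.linearMap_apply, IsScalarTower.algebraMap_apply R S (S ⧸ q.asIdeal),
      Ideal.Quotient.algebraMap_eq, Ideal.Quotient.eq_zero_iff_mem]
    have : a ∈ q.asIdeal.comap (algebraMap R S) := by rw [hqm]; exact hIm ha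
    exact this
  let g₀ : (R ⧸ I) →ₗ[R] (S ⧸ q.asIdeal) := Submodule.liftQ I _ hle
  let ψ : S ⊗[R] M →ₗ[R] (S ⧸ q.asIdeal) :=
    TensorProduct.lift ((LinearMap.mul R (S ⧸ q.asIdeal)).compl₁₂
      (Ideal.Quotient.mkₐ R q.asIdeal).toLinearMap (g₀ ∘ₗ f))
  obtain ⟨x₀, hx₀⟩ := hf 1
  have h1 : ψ ((1 : S) ⊗ₜ x₀) = 1 := by
    simp only [ψ, TensorProduct.lift.tmul, LinearMap.compl₁₂_apply, LinearMap.mul_apply',
      AlgHom.toLinearMap_apply, map_one, one_mul, LinearMap.comp_apply, hx₀]
    show g₀ (Submodule.Quotient.mk 1) = 1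
    simp only [g₀, Submodule.liftQ_apply, Algebra.linearMap_apply, map_one]
  have h2 : ((1 : S) ⊗ₜ[R] x₀) = 0 := Subsingleton.elim _ _
  rw [h2, map_zero] at h1
  have : Nontrivial (S ⧸ q.asIdeal) := Ideal.Quotient.nontrivial_iff.2 q.2.ne_top
  exact zero_ne_one h1

include hS in
/-- L2 -/
lemma bijective_of_baseChange {P : Type*} {Q : Type*} [AddCommGroup P] [Module R P] [Module.Finite R P]
    [AddCommGroup Q] [Module R Q] [Module.Finite R Q] [Module.Projective R Q] (φ : P →ₗ[R] Q)
    (hφ : Function.Bijective (φ.baseChange S)) : Function.Bijective φ := by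
  -- surjective
  have hsurj : Function.Surjective φ := by
    set C := Q ⧸ LinearMap.range φ
    have hC : Subsingleton (S ⊗[R] C) := by
      refine ⟨fun a b => ?_⟩
      have key : ∀ y : S ⊗[R] C, y = 0 := by
        intro y
        obtain ⟨z, rfl⟩ := LinearMap.lTensor_surjective S (LinearMap.range φ).mkQ_surjective y
        have hz : ∃ z', lTensor S φ z' = z := by
          have := hφ.2 z
          rwa [LinearMap.baseChange_eq_ltensor] at this
        obtain ⟨z', rfl⟩ := hz
        rw [← LinearMap.comp_apply, ← LinearMap.lTensor_comp]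
        have : (LinearMap.range φ).mkQ ∘ₗ φ = 0 := by
          ext p
          simp
        rw [this, LinearMap.lTensor_zero, LinearMap.zero_apply]
      rw [key a, key b]
    have := subsingleton_of_tensor R S hS C
    rw [← LinearMap.range_eq_top]
    exact Submodule.Quotient.subsingleton_iff.1 this
  refine ⟨?_, hsurj⟩
  -- injective
  obtain ⟨σ, hσ⟩ := Module.projective_lifting_property φ LinearMap.id hsurj
  set K := LinearMap.ker φ
  let π : P →ₗ[R] P := LinearMap.id - σ ∘ₗ φ
  have hπK : ∀ p, π p ∈ K := by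
    intro p
    rw [LinearMap.mem_ker]
    have := LinearMap.congr_fun hσ (φ p)
    simp only [π, LinearMap.sub_apply, LinearMap.id_apply, LinearMap.comp_apply, map_sub] at this ⊢
    rw [this, sub_self]
  let ρ : P →ₗ[R] K := π.codRestrict K hπK
  have hρsurj : Function.Surjective ρ := by
    rintro ⟨k, hk⟩
    refine ⟨k, Subtype.ext ?_⟩
    have : φ k = 0 := hk
    simp [ρ, π, this]
  have hKfin : Module.Finite R K := Module.Finite.of_surjective ρ hρsurj
  have hρi : ρ ∘ₗ K.subtype = LinearMap.id := by
    ext ⟨k, hk⟩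
    have : φ k = 0 := hk
    simp [ρ, π, this]
  have hK : Subsingleton (S ⊗[R] K) := by
    refine ⟨fun a b => ?_⟩
    have key : ∀ t : S ⊗[R] K, t = 0 := by
      intro t
      have h1 : lTensor S φ (lTensor S K.subtype t) = 0 := by
        rw [← LinearMap.comp_apply, ← LinearMap.lTensor_comp]
        have : φ ∘ₗ K.subtype = 0 := by
          ext x; exact x.2
        rw [this, LinearMap.lTensor_zero, LinearMap.zero_apply]
      have hinj : Function.Injective (lTensor S φ) := by
        have := hφ.1
        rwa [LinearMap.baseChange_eq_ltensor] at this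
      have h2 : lTensor S K.subtype t = 0 := hinj (by rw [h1, map_zero])
      have h3 : lTensor S ρ (lTensor S K.subtype t) = t := by
        rw [← LinearMap.comp_apply, ← LinearMap.lTensor_comp, hρi, LinearMap.lTensor_id,
          LinearMap.id_apply]
      rw [← h3, h2, map_zero]
    rw [key a, key b]
  have := subsingleton_of_tensor R S hS K
  rw [← LinearMap.ker_eq_bot]
  exact Submodule.eq_bot_of_subsingleton

end

section Faith
variable (R : Type u) [CommRing R] (S : Type v) [CommRing S] [Algebra R S]
  (hS : Function.Surjective (PrimeSpectrum.comap (algebraMap R S)))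
  (B : Type w) [AddCommGroup B] [Module R B] [Module.Finite R B] [Module.Projective R B]

/-- the trace ideal -/
def traceIdeal : Ideal R := Ideal.span {r : R | ∃ (φ : Module.Dual R B) (a : B), φ a = r}

lemma lin_mem (lam : B →ₗ[R] S) (b : B) :
    (lam b) ⊗ₜ[R] (Ideal.Quotient.mk (traceIdeal R B) 1) = (0 : S ⊗[R] (R ⧸ traceIdeal R B)) := by
  obtain ⟨s, hs⟩ := (Module.projective_def'.mp (inferInstance : Module.Projective R B))
  have hx : b = Finsupp.linearCombination R id (s b) := by
    have := LinearMap.congr_fun hs b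
    simpa using this.symm
  rw [hx, Finsupp.linearCombination_apply, Finsupp.sum, map_sum, TensorProduct.sum_tmul]
  refine Finset.sum_eq_zero ?_
  intro c _
  rw [id_eq, map_smul, TensorProduct.smul_tmul]
  have hmem : (s b) c ∈ traceIdeal R B :=
    Ideal.subset_span ⟨(Finsupp.lapply c) ∘ₗ s, b, rfl⟩
  have : (s b) c • (Ideal.Quotient.mk (traceIdeal R B) 1) = 0 := by
    rw [← Ideal.Quotient.eq_zero_iff_mem] at hmem
    rw [Algebra.smul_def, map_one, mul_one]
    exact hmem
  rw [this, TensorProduct.tmul_zero]

include hS in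
lemma traceIdeal_eq_top [FaithfulSMul S (S ⊗[R] B)] : traceIdeal R B = ⊤ := by
  have htop := Groth.Agent.Helper9.AzuBC.trace_top S (S ⊗[R] B)
  have key : ∀ t ∈ Ideal.span {r : S | ∃ (φ : Module.Dual S (S ⊗[R] B)) (a : S ⊗[R] B), φ a = r},
      t ⊗ₜ[R] (Ideal.Quotient.mk (traceIdeal R B) 1) = (0 : S ⊗[R] (R ⧸ traceIdeal R B)) := by
    intro t ht
    induction ht using Submodule.span_induction with
    | mem t ht =>
      obtain ⟨ψ, x, rfl⟩ := ht
      induction x using TensorProduct.induction_on with
      | zero => simp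
      | add a b ha hb => rw [map_add, TensorProduct.add_tmul, ha, hb, add_zero]
      | tmul s b =>
        have h1 : ψ (s ⊗ₜ[R] b) = s * ψ ((1 : S) ⊗ₜ[R] b) := by
          rw [← smul_eq_mul, ← map_smul, TensorProduct.smul_tmul', smul_eq_mul, mul_one]
        let lam : B →ₗ[R] S := (ψ.restrictScalars R) ∘ₗ (TensorProduct.mk R S B 1)
        have h2 := lin_mem R S B lam b
        have h3 : lam b = ψ ((1 : S) ⊗ₜ[R] b) := rfl
        rw [h1, ← smul_eq_mul, ← TensorProduct.smul_tmul', ← h3, h2, smul_zero]
    | zero => simp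
    | add a b _ _ ha hb => rw [TensorProduct.add_tmul, ha, hb, add_zero]
    | smul s t _ ht => rw [← TensorProduct.smul_tmul', ht, smul_zero]
  have h1 : (1 : S) ⊗ₜ[R] (Ideal.Quotient.mk (traceIdeal R B) 1) =
      (0 : S ⊗[R] (R ⧸ traceIdeal R B)) := key 1 (by rw [htop]; trivial)
  have hsub : Subsingleton (S ⊗[R] (R ⧸ traceIdeal R B)) := by
    refine ⟨fun a b => ?_⟩
    have hz : ∀ y : S ⊗[R] (R ⧸ traceIdeal R B), y = 0 := by
      intro y
      induction y using TensorProduct.induction_on with
      | zero => rfl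
      | add a b ha hb => rw [ha, hb, add_zero]
      | tmul s r =>
        obtain ⟨r, rfl⟩ := Ideal.Quotient.mk_surjective r
        have : s ⊗ₜ[R] (Ideal.Quotient.mk (traceIdeal R B) r) =
            s • (r • ((1 : S) ⊗ₜ[R] (Ideal.Quotient.mk (traceIdeal R B) 1))) := by
          rw [← TensorProduct.tmul_smul, TensorProduct.smul_tmul', smul_eq_mul, mul_one,
            Algebra.smul_def, map_one, mul_one]
          rfl
        rw [this, h1, smul_zero, smul_zero]
    rw [hz a, hz b]
  have := subsingleton_of_tensor R S hS (R ⧸ traceIdeal R B)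
  exact Ideal.Quotient.subsingleton_iff.1 this

include hS in
lemma faithful_of_baseChange [FaithfulSMul S (S ⊗[R] B)] : FaithfulSMul R B := by
  have hT := traceIdeal_eq_top R S hS B
  constructor
  intro r r' h
  have hd : ∀ t ∈ traceIdeal R B, (r - r') * t = 0 := by
    intro t ht
    unfold traceIdeal at ht
    induction ht using Submodule.span_induction with
    | mem t ht =>
      obtain ⟨φ, b, rfl⟩ := ht
      rw [← smul_eq_mul, ← map_smul, sub_smul, h b, sub_self, map_zero]
    | zero => simp
    | add a b _ _ ha hb => rw [mul_add, ha, hb, add_zero]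
    | smul s t _ ht => rw [smul_eq_mul, mul_left_comm, ht, mul_zero]
  have := hd 1 (by rw [hT]; trivial)
  rw [mul_one] at this
  exact sub_eq_zero.1 this

end Faith

open Groth.Agent.Helper9 in
theorem isAzumaya_of_surjective_comap (R : Type u) [CommRing R]
    (S : Type v) [CommRing S] [Algebra R S]
    (hS : Function.Surjective (PrimeSpectrum.comap (algebraMap R S)))
    (B : Type w) [Ring B] [Algebra R B] [Module.Finite R B] [Module.Projective R B]
    [IsAzumaya S (S ⊗[R] B)] : IsAzumaya R B := by
  have hfaith : FaithfulSMul R B := faithful_of_baseChange R S hS B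
  refine { bij := ?_ }
  have hk := AzuBC.key R S B
  have hθ := AzuBC.theta_bijective R S B
  have hSb : Function.Bijective (AlgHom.mulLeftRight S (S ⊗[R] B)) := IsAzumaya.bij
  have h1 : Function.Bijective ((AlgHom.mulLeftRight S (S ⊗[R] B)).toLinearMap ∘ₗ
      (AzuBC.rho R S B).toLinearMap) := by
    rw [LinearMap.coe_comp]
    exact hSb.comp (AzuBC.rho R S B).bijective
  rw [hk, LinearMap.coe_comp] at h1
  have h2 : Function.Bijective ((AlgHom.mulLeftRight R B).toLinearMap.baseChange S) :=
    (Function.Bijective.of_comp_iff' hθ _).1 h1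
  have : Module.Finite R (Module.End R B) := Module.Finite.equiv (dualTensorHomEquiv R B B)
  have : Module.Projective R (Module.End R B) :=
    Module.Projective.of_equiv (dualTensorHomEquiv R B B)
  exact bijective_of_baseChange R S hS (AlgHom.mulLeftRight R B).toLinearMap h2

end Groth.Agent.Helper7.AzuSurj
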