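import Mathlib
import Groth.Agent.Helper7.AzuSurj
import Groth.Agent.Helper7.FlatMilnor2
set_option autoImplicit false
open TensorProduct LinearMap
universe u v w

namespace Groth.Agent.Helper7.AzuMilnor
open Groth.Agent.Helper7.AzuSurj

section Pieces
variable (R : Type u) [CommRing R] (S : Type v) [CommRing S] [Algebra R S]

lemma tensor_quot_traceIdeal_subsingleton (B : Type w) [AddCommGroup B] [Module R B]
    [Module.Finite R B] [Module.Projective R B] [FaithfulSMul S (S ⊗[R] B)] :
    Subsingleton (S ⊗[R] (R ⧸ traceIdeal R B)) := by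
  have htop := Groth.Agent.Helper9.AzuBC.trace_top S (S ⊗[R] B)
  have key : ∀ t ∈ Ideal.span {r : S | ∃ (φ : Module.Dual S (S ⊗[R] B)) (a : S ⊗[R] B), φ a = r},
      t ⊗ₜ[R] (Ideal.Quotient.mk (traceIdeal R B) 1) = (0 : S ⊗[R] (R ⧸ traceIdeal R B)) := by
    intro t ht
    induction ht using Submodule.span_induction with
    | mem t ht =>
      obtain ⟨ψ, x, rfl⟩ := ht
      induction x using TensorProduct.induction_on with
      | zero => simp
      | add a b ha hb => rw [map_add, TensorProduct.add_tmul, ha, hb, add_zero]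
      | tmul s b =>
        have h1 : ψ (s ⊗ₜ[R] b) = s * ψ ((1 : S) ⊗ₜ[R] b) := by
          rw [← smul_eq_mul, ← map_smul, TensorProduct.smul_tmul', smul_eq_mul, mul_one]
        let lam : B →ₗ[R] S := (ψ.restrictScalars R) ∘ₗ (TensorProduct.mk R S B 1)
        have h2 := lin_mem R S B lam b
        have h3 : lam b = ψ ((1 : S) ⊗ₜ[R] b) := rfl
        rw [h1, ← smul_eq_mul, ← TensorProduct.smul_tmul', ← h3, h2, smul_zero]
    | zero => simp
    | add a b _ _ ha hb => rw [TensorProduct.add_tmul, ha, hb, add_zero]
    | smul s t _ ht => rw [← TensorProduct.smul_tmul', ht, smul_zero]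
  have h1 : (1 : S) ⊗ₜ[R] (Ideal.Quotient.mk (traceIdeal R B) 1) =
      (0 : S ⊗[R] (R ⧸ traceIdeal R B)) := key 1 (by rw [htop]; trivial)
  refine ⟨fun a b => ?_⟩
  have hz : ∀ y : S ⊗[R] (R ⧸ traceIdeal R B), y = 0 := by
    intro y
    induction y using TensorProduct.induction_on with
    | zero => rfl
    | add a b ha hb => rw [ha, hb, add_zero]
    | tmul s r =>
      obtain ⟨r, rfl⟩ := Ideal.Quotient.mk_surjective r
      have : s ⊗ₜ[R] (Ideal.Quotient.mk (traceIdeal R B) r) =
          s • (r • ((1 : S) ⊗ₜ[R] (Ideal.Quotient.mk (traceIdeal R B) 1))) := by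
        rw [← TensorProduct.tmul_smul, TensorProduct.smul_tmul', smul_eq_mul, mul_one,
          Algebra.smul_def, map_one, mul_one]
        rfl
      rw [this, h1, smul_zero, smul_zero]
  rw [hz a, hz b]

lemma faithful_of_traceIdeal_eq_top (B : Type w) [AddCommGroup B] [Module R B]
    (hT : traceIdeal R B = ⊤) : FaithfulSMul R B := by
  constructor
  intro r r' h
  have hd : ∀ t ∈ traceIdeal R B, (r - r') * t = 0 := by
    intro t ht
    unfold traceIdeal at ht
    induction ht using Submodule.span_induction with
    | mem t ht =>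
      obtain ⟨φ, b, rfl⟩ := ht
      rw [← smul_eq_mul, ← map_smul, sub_smul, h b, sub_self, map_zero]
    | zero => simp
    | add a b _ _ ha hb => rw [mul_add, ha, hb, add_zero]
    | smul s t _ ht => rw [smul_eq_mul, mul_left_comm, ht, mul_zero]
  have := hd 1 (by rw [hT]; trivial)
  rw [mul_one] at this
  exact sub_eq_zero.1 this

variable {R}

lemma tensor_coker_subsingleton {P : Type*} {Q : Type*} [AddCommGroup P] [Module R P]
    [AddCommGroup Q] [Module R Q] (φ : P →ₗ[R] Q)
    (hφ : Function.Surjective (φ.baseChange S)) :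
    Subsingleton (S ⊗[R] (Q ⧸ LinearMap.range φ)) := by
  refine ⟨fun a b => ?_⟩
  have key : ∀ y : S ⊗[R] (Q ⧸ LinearMap.range φ), y = 0 := by
    intro y
    obtain ⟨z, rfl⟩ := LinearMap.lTensor_surjective S (LinearMap.range φ).mkQ_surjective y
    have hz : ∃ z', lTensor S φ z' = z := by
      have := hφ z
      rwa [LinearMap.baseChange_eq_ltensor] at this
    obtain ⟨z', rfl⟩ := hz
    rw [← LinearMap.comp_apply, ← LinearMap.lTensor_comp]
    have : (LinearMap.range φ).mkQ ∘ₗ φ = 0 := by
      ext p
      simp
    rw [this, LinearMap.lTensor_zero, LinearMap.zero_apply]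
  rw [key a, key b]

lemma tensor_ker_subsingleton {P : Type*} {Q : Type*} [AddCommGroup P] [Module R P]
    [AddCommGroup Q] [Module R Q] (φ : P →ₗ[R] Q) (σ : Q →ₗ[R] P) (hσ : φ ∘ₗ σ = LinearMap.id)
    (hφ : Function.Injective (φ.baseChange S)) :
    Subsingleton (S ⊗[R] LinearMap.ker φ) := by
  set K := LinearMap.ker φ
  let π : P →ₗ[R] P := LinearMap.id - σ ∘ₗ φ
  have hπK : ∀ p, π p ∈ K := by
    intro p
    rw [LinearMap.mem_ker]
    have := LinearMap.congr_fun hσ (φ p)
    simp only [π, LinearMap.sub_apply, LinearMap.id_apply, LinearMap.comp_apply, map_sub] at this ⊢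
    rw [this, sub_self]
  let ρ : P →ₗ[R] K := π.codRestrict K hπK
  have hρi : ρ ∘ₗ K.subtype = LinearMap.id := by
    ext ⟨k, hk⟩
    have : φ k = 0 := hk
    simp [ρ, π, this]
  refine ⟨fun a b => ?_⟩
  have key : ∀ t : S ⊗[R] K, t = 0 := by
    intro t
    have h1 : lTensor S φ (lTensor S K.subtype t) = 0 := by
      rw [← LinearMap.comp_apply, ← LinearMap.lTensor_comp]
      have : φ ∘ₗ K.subtype = 0 := by
        ext x; exact x.2
      rw [this, LinearMap.lTensor_zero, LinearMap.zero_apply]
    have hinj : Function.Injective (lTensor S φ) := by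
      have := hφ
      rwa [LinearMap.baseChange_eq_ltensor] at this
    have h2 : lTensor S K.subtype t = 0 := hinj (by rw [h1, map_zero])
    have h3 : lTensor S ρ (lTensor S K.subtype t) = t := by
      rw [← LinearMap.comp_apply, ← LinearMap.lTensor_comp, hρi, LinearMap.lTensor_id,
        LinearMap.id_apply]
    rw [← h3, h2, map_zero]
  rw [key a, key b]

end Pieces

section Milnor
variable (B' B A' A : Type u) [CommRing B'] [CommRing B] [CommRing A'] [CommRing A]
    [Algebra B' B] [Algebra B' A'] [Algebra B A] [Algebra A' A] [Algebra B' A] [IsScalarTower B' B A]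
    [IsScalarTower B' A' A]

open Groth.Agent.Helper9 Groth.Agent.Helper7.FlatMilnor Groth.Agent.Helper7.FlatMilnor2 in
theorem isAzumaya_iff (hsq : EtMil.IsFibreSquare B' B A' A)
    (D' : Type u) [Ring D'] [Algebra B' D'] :
    IsAzumaya B' D' ↔ IsAzumaya B (B ⊗[B'] D') ∧ IsAzumaya A' (A' ⊗[B'] D') := by
  constructor
  · intro h
    exact ⟨AzuBC.baseChange B' B D', AzuBC.baseChange B' A' D'⟩
  · rintro ⟨h1, h2⟩
    have hfpB : Module.FinitePresentation B (B ⊗[B'] D') := Module.finitePresentation_of_projective B _
    have hfpA : Module.FinitePresentation A' (A' ⊗[B'] D') :=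
      Module.finitePresentation_of_projective A' _
    have hflat : Module.Flat B' D' := flat_of_fibreSquare B' B A' A hsq D'
    have hfp : Module.FinitePresentation B' D' := fp_of_fibreSquare B' B A' A hsq D'
    have hproj : Module.Projective B' D' := Module.Flat.projective_of_finitePresentation
    have hfin : Module.Finite B' D' := inferInstance
    -- faithful
    have hT : traceIdeal B' D' = ⊤ := by
      have s1 := tensor_quot_traceIdeal_subsingleton B' B D'
      have s2 := tensor_quot_traceIdeal_subsingleton B' A' D'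
      have := subsingleton_of_fibreSquare B' B A' A hsq (B' ⧸ traceIdeal B' D')
      exact Ideal.Quotient.subsingleton_iff.1 this
    have hfaith : FaithfulSMul B' D' := faithful_of_traceIdeal_eq_top B' D' hT
    refine { bij := ?_ }
    -- bijectivity after both base changes
    have hbc : ∀ (S : Type u) [CommRing S] [Algebra B' S] [IsAzumaya S (S ⊗[B'] D')],
        Function.Bijective ((AlgHom.mulLeftRight B' D').toLinearMap.baseChange S) := by
      intro S _ _ _
      have hk := AzuBC.key B' S D'
      have hθ := AzuBC.theta_bijective B' S D'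
      have hSb : Function.Bijective (AlgHom.mulLeftRight S (S ⊗[B'] D')) := IsAzumaya.bij
      have h1 : Function.Bijective ((AlgHom.mulLeftRight S (S ⊗[B'] D')).toLinearMap ∘ₗ
          (AzuBC.rho B' S D').toLinearMap) := by
        rw [LinearMap.coe_comp]
        exact hSb.comp (AzuBC.rho B' S D').bijective
      rw [hk, LinearMap.coe_comp] at h1
      exact (Function.Bijective.of_comp_iff' hθ _).1 h1
    have hbB := hbc B
    have hbA := hbc A'
    set μ := (AlgHom.mulLeftRight B' D').toLinearMap with hμ
    have : Module.Projective B' (Module.End B' D') :=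
      Module.Projective.of_equiv (dualTensorHomEquiv B' D' D')
    have hsurj : Function.Surjective μ := by
      have c1 := tensor_coker_subsingleton B μ hbB.2
      have c2 := tensor_coker_subsingleton A' μ hbA.2
      have := subsingleton_of_fibreSquare B' B A' A hsq (Module.End B' D' ⧸ LinearMap.range μ)
      rw [← LinearMap.range_eq_top]
      exact Submodule.Quotient.subsingleton_iff.1 this
    obtain ⟨σ, hσ⟩ := Module.projective_lifting_property μ LinearMap.id hsurj
    have hinj : Function.Injective μ := by
      have k1 := tensor_ker_subsingleton B μ σ hσ hbB.1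
      have k2 := tensor_ker_subsingleton A' μ σ hσ hbA.1
      have := subsingleton_of_fibreSquare B' B A' A hsq (LinearMap.ker μ)
      rw [← LinearMap.ker_eq_bot]
      exact Submodule.eq_bot_of_subsingleton
    exact ⟨hinj, hsurj⟩

end Milnor

end Groth.Agent.Helper7.AzuMilnor
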