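import Mathlib
import Groth.Prelude.Def_EtMil
import Groth.Agent.Helper7.MilnorGlue
import Groth.Agent.Helper7.AzuMilnor

/-! Glueing Azumaya algebras along a Milnor square. -/

universe u

open TensorProduct

namespace Groth.Agent.Helper7.AzuGlue

open Groth.Agent.Helper7.MilnorGlue

theorem isAzumaya_of_glue_pair (B' B A' A : Type u) [CommRing B'] [CommRing B] [CommRing A'] [CommRing A]
    [Algebra B' B] [Algebra B' A'] [Algebra B A] [Algebra A' A] [Algebra B' A] [IsScalarTower B' B A] [IsScalarTower B' A' A]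
    (hsq : EtMil.IsFibreSquare B' B A' A)
    (N : Type u) [Ring N] [Algebra B N] [Algebra B' N] [IsScalarTower B' B N] [IsAzumaya B N]
    (M' : Type u) [Ring M'] [Algebra A' M'] [Algebra B' M'] [IsScalarTower B' A' M'] [IsAzumaya A' M']
    (φ : A ⊗[B] N ≃ₐ[A] A ⊗[A'] M')
    (D' : Type u) [Ring D'] [Algebra B' D'] (π₁ : D' →ₐ[B'] N) (π₂ : D' →ₐ[B'] M')
    (hinj : ∀ d : D', π₁ d = 0 → π₂ d = 0 → d = 0)
    (himg : ∀ (n : N) (m' : M'), φ ((1 : A) ⊗ₜ[B] n) = (1 : A) ⊗ₜ[A'] m' ↔ ∃ d : D', π₁ d = n ∧ π₂ d = m') :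
    IsAzumaya B' D' := by
  set φl : A ⊗[B] N ≃ₗ[A] A ⊗[A'] M' := φ.toLinearEquiv with hφl
  -- the linear equivalence `D' ≃ glue`
  have hmem : ∀ d : D', (π₁.toLinearMap.prod π₂.toLinearMap) d ∈ EtMil.glue B' φl := by
    intro d
    exact (himg (π₁ d) (π₂ d)).2 ⟨d, rfl, rfl⟩
  let e₀ : D' →ₗ[B'] EtMil.glue B' φl :=
    LinearMap.codRestrict (EtMil.glue B' φl) (π₁.toLinearMap.prod π₂.toLinearMap) hmem
  have he₀ : Function.Bijective e₀ := by
    constructor
    · rw [injective_iff_map_eq_zero]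
      intro d hd
      have h := congrArg Subtype.val hd
      have h1 : π₁ d = 0 := congrArg Prod.fst h
      have h2 : π₂ d = 0 := congrArg Prod.snd h
      exact hinj d h1 h2
    · intro g
      obtain ⟨d, hd1, hd2⟩ := (himg g.1.1 g.1.2).1 g.2
      exact ⟨d, Subtype.ext (Prod.ext hd1 hd2)⟩
  let e : D' ≃ₗ[B'] EtMil.glue B' φl := LinearEquiv.ofBijective e₀ he₀
  have he1 : ∀ d : D', (e d).1.1 = π₁ d := fun d => rfl
  have he2 : ∀ d : D', (e d).1.2 = π₂ d := fun d => rfl
  -- first base change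
  let F₁ : B ⊗[B'] D' →ₐ[B] N :=
    Algebra.TensorProduct.lift (Algebra.ofId B N) π₁ (fun b d => Algebra.commutes b (π₁ d))
  have hF₁ : ∀ x : B ⊗[B'] D', F₁ x =
      rho1 B' φl ((TensorProduct.congr (LinearEquiv.refl B' B) e) x) := by
    intro x
    induction x with
    | zero => rw [map_zero, map_zero, map_zero]
    | add x y hx hy => rw [map_add, map_add, map_add, hx, hy]
    | tmul b d =>
      rw [TensorProduct.congr_tmul, LinearEquiv.refl_apply, LinearMap.liftBaseChange_tmul]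
      show F₁ (b ⊗ₜ[B'] d) = b • (e d).1.1
      rw [he1, Algebra.TensorProduct.lift_tmul, Algebra.smul_def]
      rfl
  have hF₁bij : Function.Bijective F₁ := by
    have : (F₁ : B ⊗[B'] D' → N) =
        (rho1 B' φl) ∘ (TensorProduct.congr (LinearEquiv.refl B' B) e) := funext hF₁
    rw [this]
    exact (rho1_bijective B' φl hsq).comp (LinearEquiv.bijective _)
  have : IsAzumaya B (B ⊗[B'] D') :=
    IsAzumaya.of_AlgEquiv B N (B ⊗[B'] D') (AlgEquiv.ofBijective F₁ hF₁bij).symm
  -- second base change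
  let F₂ : A' ⊗[B'] D' →ₐ[A'] M' :=
    Algebra.TensorProduct.lift (Algebra.ofId A' M') π₂ (fun b d => Algebra.commutes b (π₂ d))
  have hF₂ : ∀ x : A' ⊗[B'] D', F₂ x =
      rho B' φl ((TensorProduct.congr (LinearEquiv.refl B' A') e) x) := by
    intro x
    induction x with
    | zero => rw [map_zero, map_zero, map_zero]
    | add x y hx hy => rw [map_add, map_add, map_add, hx, hy]
    | tmul b d =>
      rw [TensorProduct.congr_tmul, LinearEquiv.refl_apply, LinearMap.liftBaseChange_tmul]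
      show F₂ (b ⊗ₜ[B'] d) = b • (e d).1.2
      rw [he2, Algebra.TensorProduct.lift_tmul, Algebra.smul_def]
      rfl
  have hF₂bij : Function.Bijective F₂ := by
    have : (F₂ : A' ⊗[B'] D' → M') =
        (rho B' φl) ∘ (TensorProduct.congr (LinearEquiv.refl B' A') e) := funext hF₂
    rw [this]
    exact (rho_bijective B' φl hsq).comp (LinearEquiv.bijective _)
  have : IsAzumaya A' (A' ⊗[B'] D') :=
    IsAzumaya.of_AlgEquiv A' M' (A' ⊗[B'] D') (AlgEquiv.ofBijective F₂ hF₂bij).symm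
  exact (Groth.Agent.Helper7.AzuMilnor.isAzumaya_iff B' B A' A hsq D').2 ⟨inferInstance, inferInstance⟩

end Groth.Agent.Helper7.AzuGlue
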