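import Mathlib
import Groth.Prelude.Def_CoactBr2
import Groth.Prelude.Def_Hoch

set_option autoImplicit false
set_option linter.unusedSectionVars false
universe u v w w'
open HopfRep TensorProduct

namespace Groth.Agent.Helper7.BCInt

variable (R : Type u) (S : Type v) (A : Type w) (B : Type w')
    [CommRing R] [CommRing S] [Algebra R S] [CommRing A] [HopfAlgebra R A]
    [CommRing B] [Algebra R B] [HopfRep.Comod R A B]

lemma key (α : A →ₗ[R] B) (s : S) (z : A ⊗[R] A) :
    AlgebraTensorModule.tensorTensorTensorComm R S R S S S B A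
        (((1 : S) ⊗ₜ[S] s) ⊗ₜ[R] (LinearMap.rTensor A α z)) =
      (LinearMap.rTensor (S ⊗[R] A) (α.baseChange S))
        (AlgebraTensorModule.tensorTensorTensorComm R S R S S S A A
          (((1 : S) ⊗ₜ[S] s) ⊗ₜ[R] z)) := by
  induction z using TensorProduct.induction_on with
  | zero => simp
  | tmul a b => simp
  | add x y hx hy => simp only [TensorProduct.tmul_add, map_add, hx, hy]

theorem main (htame : ∃ α : A →ₗ[R] B, Hoch.IsComodHom A α ∧ α 1 = 1) :
    ∃ α' : TensorProduct R S A →ₗ[S] TensorProduct R S B,
      @Hoch.IsComodHom S _ (TensorProduct R S A) _ _ _ (TensorProduct R S A) _ _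
        (HopfRep.Comod.regular S (TensorProduct R S A)) (TensorProduct R S B) _ _
        (CoactBr.Comod.baseChange R S A B) α' ∧ α' 1 = 1 := by
  obtain ⟨α, hα, h1⟩ := htame
  refine ⟨α.baseChange S, ?_, ?_⟩
  · unfold Hoch.IsComodHom
    apply TensorProduct.AlgebraTensorModule.ext
    intro s a
    have h := LinearMap.congr_fun hα a
    simp only [LinearMap.coe_comp, Function.comp_apply] at h
    simp only [LinearMap.coe_comp, Function.comp_apply, LinearMap.baseChange_tmul]
    rw [CoactBr.baseChange_coact_tmul, h]
    exact key R S A B α s _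
  · rw [Algebra.TensorProduct.one_def, LinearMap.baseChange_tmul, h1]
    rfl

end Groth.Agent.Helper7.BCInt
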