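import Mathlib
import Groth.Prelude.Def_W4c2gerbepatchBitors

set_option autoImplicit false
universe w v u

namespace Groth.Agent.Helper7.BT

open CategoryTheory Opposite Bitors

variable {C : Type u} [Category.{v} C] {J : GrothendieckTopology C}
  {G H : Sheaf J GrpCat.{w}} {P : NonAbH1.GSheaf G}

theorem isomFamily_ext (φ₁ φ₂ : IsomFamily P H)
    (h : ∀ (U : Cᵒᵖ) (p : P.P.obj.obj U) (x : H.obj.obj U), φ₁.φ p x = φ₂.φ p x) : φ₁ = φ₂ := by
  have : @IsomFamily.φ _ _ _ _ _ _ φ₁ = @IsomFamily.φ _ _ _ _ _ _ φ₂ := by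
    funext U p
    exact MulEquiv.ext (h U p)
  cases φ₁; cases φ₂
  simp only at this
  subst this
  rfl

theorem rightStr_ext (ρ₁ ρ₂ : RightStr P H)
    (h : ∀ (U : Cᵒᵖ) (p : P.P.obj.obj U) (x : H.obj.obj U), ρ₁.rsmul p x = ρ₂.rsmul p x) : ρ₁ = ρ₂ := by
  have : @RightStr.rsmul _ _ _ _ _ _ ρ₁ = @RightStr.rsmul _ _ _ _ _ _ ρ₂ := by
    funext U p x
    exact h U p x
  cases ρ₁; cases ρ₂
  simp only at this
  subst this
  rfl

theorem smul_inv_smul' {U : Cᵒᵖ} (γ : G.obj.obj U) (p : P.P.obj.obj U) :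
    P.smul γ⁻¹ (P.smul γ p) = p := by
  rw [← P.mul_smul, inv_mul_cancel, P.one_smul]

/-- the isomorphism family of a right structure -/
noncomputable def famOf (hP : P.IsPseudoTorsor) (ρ : RightStr P H) : IsomFamily P H where
  φ {U} p :=
    { toFun := fun h => Classical.choose (hP U p (ρ.rsmul p h)).exists
      invFun := fun γ => Classical.choose (ρ.existsUnique_rsmul p (P.smul γ p)).exists
      left_inv := by
        intro h
        have hs := Classical.choose_spec (hP U p (ρ.rsmul p h)).exists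
        exact (ρ.existsUnique_rsmul p (P.smul _ p)).unique
          (Classical.choose_spec (ρ.existsUnique_rsmul p (P.smul _ p)).exists) hs.symm
      right_inv := by
        intro γ
        have hs := Classical.choose_spec (ρ.existsUnique_rsmul p (P.smul γ p)).exists
        exact (hP U p (ρ.rsmul p _)).unique
          (Classical.choose_spec (hP U p (ρ.rsmul p _)).exists) hs.symm
      map_mul' := by
        intro h h'
        have hs := Classical.choose_spec (hP U p (ρ.rsmul p (h * h'))).exists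
        have h1 := Classical.choose_spec (hP U p (ρ.rsmul p h)).exists
        have h2 := Classical.choose_spec (hP U p (ρ.rsmul p h')).exists
        refine (hP U p (ρ.rsmul p (h * h'))).unique hs ?_
        rw [P.mul_smul, h2, ← ρ.smul_rsmul, h1, ρ.rsmul_mul] }
  map_φ {U V} f p h := by
    have hs := Classical.choose_spec (hP U p (ρ.rsmul p h)).exists
    have hs' := Classical.choose_spec (hP V (P.P.obj.map f p) (ρ.rsmul (P.P.obj.map f p) (H.obj.map f h))).exists
    refine (hP V (P.P.obj.map f p) (ρ.rsmul (P.P.obj.map f p) (H.obj.map f h))).unique ?_ hs'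
    show P.smul (G.obj.map f (Classical.choose (hP U p (ρ.rsmul p h)).exists)) (P.P.obj.map f p) = _
    rw [← P.map_smul, hs, ρ.map_rsmul]
  φ_smul {U} γ p h := by
    have hs := Classical.choose_spec (hP U p (ρ.rsmul p h)).exists
    have hs' := Classical.choose_spec (hP U (P.smul γ p) (ρ.rsmul (P.smul γ p) h)).exists
    refine (hP U (P.smul γ p) (ρ.rsmul (P.smul γ p) h)).unique hs' ?_
    show P.smul (γ * Classical.choose (hP U p (ρ.rsmul p h)).exists * γ⁻¹) (P.smul γ p) = _
    rw [P.mul_smul, smul_inv_smul', P.mul_smul, hs, ρ.smul_rsmul]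

theorem famOf_spec (hP : P.IsPseudoTorsor) (ρ : RightStr P H) (U : Cᵒᵖ) (p : P.P.obj.obj U)
    (h : H.obj.obj U) : ρ.rsmul p h = P.smul ((famOf hP ρ).φ p h) p :=
  (Classical.choose_spec (hP U p (ρ.rsmul p h)).exists).symm

/-- the right structure of an isomorphism family -/
def strOf (hP : P.IsPseudoTorsor) (φ : IsomFamily P H) : RightStr P H where
  rsmul {U} p h := P.smul (φ.φ p h) p
  rsmul_one p := by rw [map_one, P.one_smul]
  rsmul_mul p h h' := by
    rw [map_mul, φ.φ_smul, P.mul_smul, P.mul_smul, smul_inv_smul', ← P.mul_smul]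
  map_rsmul f p h := by
    rw [P.map_smul, φ.map_φ]
  smul_rsmul γ p h := by
    rw [φ.φ_smul, P.mul_smul, smul_inv_smul', P.mul_smul]
  existsUnique_rsmul {U} p q := by
    obtain ⟨γ, hγ, huniq⟩ := hP U p q
    refine ⟨(φ.φ p).symm γ, ?_, ?_⟩
    · show P.smul (φ.φ p ((φ.φ p).symm γ)) p = q
      rw [MulEquiv.apply_symm_apply, hγ]
    · intro h hh
      have : φ.φ p h = γ := huniq _ hh
      rw [← this, MulEquiv.symm_apply_apply]

theorem main (G H : Sheaf J GrpCat.{w}) (P : NonAbH1.GSheaf G) (hP : P.IsPseudoTorsor) :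
    (∀ ρ : Bitors.RightStr P H, ∃! φ : Bitors.IsomFamily P H,
        ∀ (U : Cᵒᵖ) (p : P.P.obj.obj U) (h : H.obj.obj U), ρ.rsmul p h = P.smul (φ.φ p h) p) ∧
    (∀ φ : Bitors.IsomFamily P H, ∃! ρ : Bitors.RightStr P H,
        ∀ (U : Cᵒᵖ) (p : P.P.obj.obj U) (h : H.obj.obj U), ρ.rsmul p h = P.smul (φ.φ p h) p) := by
  constructor
  · intro ρ
    refine ⟨famOf hP ρ, famOf_spec hP ρ, ?_⟩
    intro φ' hφ'
    apply isomFamily_ext
    intro U p x
    have h1 := famOf_spec hP ρ U p x
    have h2 := hφ' U p x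
    exact (hP U p (ρ.rsmul p x)).unique h2.symm h1.symm
  · intro φ
    refine ⟨strOf hP φ, fun U p h => rfl, ?_⟩
    intro ρ' hρ'
    apply rightStr_ext
    intro U p x
    rw [hρ' U p x]
    rfl

end Groth.Agent.Helper7.BT
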