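import Mathlib
import Groth.Prelude.Def_BT

set_option autoImplicit false
universe u v
open CategoryTheory CategoryTheory.Limits MonoidalCategory CartesianMonoidalCategory MonObj GrpObj AlgebraicGeometry
open BTGrp

namespace Groth.Agent.Helper7.BTk

section general

variable {C : Type u} [Category.{v} C] [CartesianMonoidalCategory C]

theorem isPullback_iff {N G Q : C} [MonObj Q] (i : N ⟶ G) (q : G ⟶ Q) :
    IsPullback i (toUnit N) q η[Q] ↔
      (Mono i ∧ i ≫ q = 1 ∧ ∀ (T : C) (g : T ⟶ G), g ≫ q = 1 → ∃ g' : T ⟶ N, g' ≫ i = g) := by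
  constructor
  · intro hp
    have hmono : Mono i := by
      constructor
      intro Z a b hab
      apply hp.hom_ext hab
      exact toUnit_unique _ _
    refine ⟨hmono, ?_, ?_⟩
    · rw [hp.w, Hom.one_def]
    · intro T g hg
      refine ⟨hp.lift g (toUnit T) (by rw [hg, Hom.one_def]), ?_⟩
      exact hp.lift_fst _ _ _
  · rintro ⟨hmono, h1, h2⟩
    have h3 : ∀ s : PullbackCone q η[Q], s.fst ≫ q = 1 := by
      intro s
      rw [s.condition, Hom.one_def]
      congr 1
      exact toUnit_unique _ _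
    refine ⟨⟨by rw [h1, Hom.one_def]⟩, ⟨PullbackCone.IsLimit.mk _
      (fun s => (h2 _ s.fst (h3 s)).choose) ?_ ?_ ?_⟩⟩
    · intro s
      exact (h2 _ s.fst (h3 s)).choose_spec
    · intro s
      exact toUnit_unique _ _
    · intro s m hm _
      rw [← cancel_mono i, hm]
      exact ((h2 _ s.fst (h3 s)).choose_spec).symm

end general

variable {S : Scheme.{u}}

theorem isKernel_iff {N G Q : Over S} [GrpObj Q] (i : N ⟶ G) (q : G ⟶ Q) :
    AlgGrp.IsKernel i q ↔
      (Mono i ∧ i ≫ q = 1 ∧ ∀ (T : Over S) (g : T ⟶ G), g ≫ q = 1 → ∃ g' : T ⟶ N, g' ≫ i = g) :=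
  isPullback_iff i q

theorem main (ℓ h : ℕ) [Fact ℓ.Prime] (G : BTGrp.ProBT ℓ S h)
    (i : (t : ℕ) → (G.G 1 ⟶ G.G (t + 1))) (hi0 : i 0 = 𝟙 (G.G 1))
    (hi : ∀ t : ℕ, i (t + 1) = i t ≫ G.incl (t + 1)) (t : ℕ) :
    AlgGrp.IsKernel (i t) ((𝟙 (G.G (t + 1))) ^ ℓ) := by
  have hk := fun ν => (isKernel_iff _ _).mp (G.isKernel ν)
  have hmono : ∀ ν, Mono (G.incl ν) := fun ν => (hk ν).1
  induction t with
  | zero =>
    rw [isKernel_iff, hi0]
    refine ⟨inferInstance, ?_, fun T g _ => ⟨g, Category.comp_id g⟩⟩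
    rw [Category.id_comp]
    have h1 := (hk 1).2.1
    rw [pow_one, comp_pow, Category.comp_id] at h1
    rw [← cancel_mono (G.incl 1), pow_comp, Category.id_comp, h1, one_comp]
  | succ t ih =>
    rw [isKernel_iff] at ih ⊢
    obtain ⟨ihm, ih1, ih2⟩ := ih
    refine ⟨?_, ?_, ?_⟩
    · rw [hi]
      have := hmono (t + 1)
      exact mono_comp _ _
    · rw [hi, comp_pow, Category.comp_id, ← pow_comp, ← Category.comp_id (i t), ← comp_pow, ih1,
        one_comp]
    · intro T g hg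
      rw [comp_pow, Category.comp_id] at hg
      have h1 : g ≫ (𝟙 (G.G (t + 1 + 1))) ^ (ℓ ^ (t + 1)) = 1 := by
        rw [comp_pow, Category.comp_id, pow_succ, pow_mul', hg, one_pow]
      obtain ⟨g', hg'⟩ := (hk (t + 1)).2.2 T g h1
      have h2 : g' ≫ (𝟙 (G.G (t + 1))) ^ ℓ = 1 := by
        rw [comp_pow, Category.comp_id]
        have := hmono (t + 1)
        rw [← cancel_mono (G.incl (t + 1)), pow_comp, hg', hg, one_comp]
      obtain ⟨g'', hg''⟩ := ih2 T g' h2
      refine ⟨g'', ?_⟩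
      rw [hi, ← Category.assoc, hg'', hg']

end Groth.Agent.Helper7.BTk
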