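import Mathlib
import Groth.Agent.S0193
import Groth.Agent.Lead.CSA7

set_option autoImplicit false
universe u v w

namespace Groth.Agent.Helper7.BrauerBasic

open Module

/-- Wedderburn with centrality. -/
theorem wedderburn (k : Type u) [Field k] (A : Type v) [Ring A] [Algebra k A]
    [Algebra.IsCentral k A] [IsSimpleRing A] [FiniteDimensional k A] :
    ∃ (n : ℕ) (_ : NeZero n) (D : Type v) (_ : DivisionRing D) (_ : Algebra k D)
      (_ : FiniteDimensional k D) (_ : Algebra.IsCentral k D),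
      Nonempty (A ≃ₐ[k] Matrix (Fin n) (Fin n) D) := by
  have : IsArtinianRing A := IsArtinianRing.of_finite k A
  obtain ⟨n, hn, D, hD, hkD, hfin, ⟨e⟩⟩ := IsSimpleRing.exists_algEquiv_matrix_divisionRing_finite k A
  have hc : Algebra.IsCentral k (Matrix (Fin n) (Fin n) D) := by
    constructor
    intro z hz
    have hz' : e.symm z ∈ Subalgebra.center k A := by
      rw [Subalgebra.mem_center_iff]
      intro b
      have := (Subalgebra.mem_center_iff.mp hz) (e b)
      apply e.injective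
      simpa using this
    obtain ⟨r, hr⟩ := Algebra.IsCentral.out (K := k) hz'
    refine ⟨r, ?_⟩
    have := congrArg e hr
    simpa [Algebra.ofId_apply] using this
  exact ⟨n, hn, D, hD, hkD, hfin, Groth.Agent.Lead.CSA.isCentral_of_matrix k D n, ⟨e⟩⟩

/-- matrices of matrices -/
noncomputable def matComp (k : Type u) [Field k] (D : Type v) [Ring D] [Algebra k D] (n a : ℕ) :
    Matrix (Fin n) (Fin n) (Matrix (Fin a) (Fin a) D) ≃ₐ[k] Matrix (Fin (n * a)) (Fin (n * a)) D :=
  (Matrix.compAlgEquiv (Fin n) (Fin a) D k).trans (Matrix.reindexAlgEquiv k D finProdFinEquiv)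

theorem finrank_matrix' (k : Type u) [Field k] (D : Type v) [Ring D] [Algebra k D]
    [FiniteDimensional k D] (n : ℕ) :
    finrank k (Matrix (Fin n) (Fin n) D) = n * n * finrank k D := by
  rw [Module.finrank_matrix]; simp

/-- uniqueness in Wedderburn's theorem. -/
theorem matrix_unique (k : Type u) [Field k]
    (D : Type v) [DivisionRing D] [Algebra k D] [Algebra.IsCentral k D] [FiniteDimensional k D]
    (D' : Type w) [DivisionRing D'] [Algebra k D'] [Algebra.IsCentral k D'] [FiniteDimensional k D']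
    (n m : ℕ) (hn : n ≠ 0) (hm : m ≠ 0)
    (e : Matrix (Fin n) (Fin n) D ≃ₐ[k] Matrix (Fin m) (Fin m) D') :
    Nonempty (D ≃ₐ[k] D') ∧ n = m := by
  obtain ⟨f⟩ := Groth.Agent.S0193.result k D D' n m hn hm e
  refine ⟨⟨f⟩, ?_⟩
  have h1 := e.toLinearEquiv.finrank_eq
  rw [finrank_matrix', finrank_matrix', ← f.toLinearEquiv.finrank_eq] at h1
  have hD : 0 < finrank k D := Module.finrank_pos
  have h2 : n * n = m * m := Nat.eq_of_mul_eq_mul_right hD h1
  exact Nat.mul_self_inj.1 h2

/-- S13268 -/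
theorem cancel_matrix (k : Type u) [Field k]
    (A : Type v) [Ring A] [Algebra k A] [Algebra.IsCentral k A] [IsSimpleRing A] [FiniteDimensional k A]
    (A' : Type w) [Ring A'] [Algebra k A'] [Algebra.IsCentral k A'] [IsSimpleRing A'] [FiniteDimensional k A']
    (n n' : ℕ) (hn : n ≠ 0) (hn' : n' ≠ 0) (hdim : finrank k A = finrank k A')
    (e : Matrix (Fin n) (Fin n) A ≃ₐ[k] Matrix (Fin n') (Fin n') A') :
    Nonempty (A ≃ₐ[k] A') := by
  obtain ⟨a, ha, D, _, _, _, _, ⟨eA⟩⟩ := wedderburn k A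
  obtain ⟨b, hb, D', _, _, _, _, ⟨eA'⟩⟩ := wedderburn k A'
  let E : Matrix (Fin (n * a)) (Fin (n * a)) D ≃ₐ[k] Matrix (Fin (n' * b)) (Fin (n' * b)) D' :=
    (matComp k D n a).symm.trans ((eA.symm.mapMatrix (m := Fin n)).trans
      (e.trans ((eA'.mapMatrix (m := Fin n')).trans (matComp k D' n' b))))
  obtain ⟨⟨f⟩, hnm⟩ := matrix_unique k D D' (n * a) (n' * b) (Nat.mul_ne_zero hn ha.out)
    (Nat.mul_ne_zero hn' hb.out) E
  have h1 := eA.toLinearEquiv.finrank_eq
  have h2 := eA'.toLinearEquiv.finrank_eq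
  rw [finrank_matrix'] at h1 h2
  have hD : 0 < finrank k D := Module.finrank_pos
  have hab : a = b := by
    have h3 : a * a * finrank k D = b * b * finrank k D := by
      rw [← h1, hdim, h2, f.toLinearEquiv.finrank_eq]
    exact Nat.mul_self_inj.1 (Nat.eq_of_mul_eq_mul_right hD h3)
  subst hab
  exact ⟨eA.trans ((f.mapMatrix (m := Fin a)).trans eA'.symm)⟩

theorem result13268 (k : Type u) [Field k]
    (A : Type v) [Ring A] [Algebra k A] [Algebra.IsCentral k A] [IsSimpleRing A] [FiniteDimensional k A]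
    (A' : Type w) [Ring A'] [Algebra k A'] [Algebra.IsCentral k A'] [IsSimpleRing A'] [FiniteDimensional k A']
    (n : ℕ) (hn : n ≠ 0) (e : Matrix (Fin n) (Fin n) A ≃ₐ[k] Matrix (Fin n) (Fin n) A') :
    Nonempty (A ≃ₐ[k] A') := by
  refine cancel_matrix k A A' n n hn hn ?_ e
  have h1 := e.toLinearEquiv.finrank_eq
  rw [finrank_matrix', finrank_matrix'] at h1
  exact Nat.eq_of_mul_eq_mul_left (Nat.mul_pos (Nat.pos_of_ne_zero hn) (Nat.pos_of_ne_zero hn)) h1

end Groth.Agent.Helper7.BrauerBasic
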