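import Mathlib
import Groth.Agent.Helper7.BrauerBasic

set_option autoImplicit false
universe u v w

namespace Groth.Agent.Helper7.BddFinA

open Polynomial Module

theorem exists_primitiveRoot {K : Type u} [Field K]
    (hK : ∀ n : ℕ, 0 < n → (X ^ n - 1 : K[X]).Splits) (d : ℕ) (hd : 0 < d) (hdK : (d : K) ≠ 0) :
    ∃ ζ : K, IsPrimitiveRoot ζ d := by
  haveI : NeZero (d : K) := ⟨hdK⟩
  have h1 : (cyclotomic d K).Splits :=
    (hK d hd).of_dvd (monic_X_pow_sub_C (1 : K) hd.ne').ne_zero
      (by simpa using cyclotomic.dvd_X_pow_sub_one d K)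
  have h2 : (cyclotomic d K).degree ≠ 0 := by
    rw [degree_cyclotomic]
    exact_mod_cast (Nat.totient_pos.2 hd).ne'
  obtain ⟨ζ, hζ⟩ := h1.exists_eval_eq_zero h2
  exact ⟨ζ, (isRoot_cyclotomic_iff).1 hζ⟩

theorem result15183
    (K : Type u) [Field K] (hK : ∀ n : ℕ, 0 < n → (X ^ n - 1 : K[X]).Splits)
    (A : Type v) [Ring A] [Algebra K A] [Algebra.IsCentral K A] [IsSimpleRing A] [FiniteDimensional K A]
    (hA : ∃ y : A, y ≠ 0 ∧ ¬ IsUnit y) (d : ℕ) (hd : 0 < d) (hdK : (d : K) ≠ 0) :
    ∃ x : A, IsUnit x ∧ x ^ d ∈ (algebraMap K A).range ∧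
      ∀ k : ℕ, 0 < k → k < d → x ^ k ∉ (algebraMap K A).range := by
  classical
  obtain ⟨ζ, hζ⟩ := exists_primitiveRoot hK d hd hdK
  obtain ⟨s, hs, D, _, _, _, _, ⟨e⟩⟩ := Groth.Agent.Helper7.BrauerBasic.wedderburn K A
  have hs2 : 2 ≤ s := by
    by_contra hlt
    have hs1 : s = 1 := by have := hs.out; omega
    subst hs1
    obtain ⟨y, hy0, hyu⟩ := hA
    apply hyu
    have h1 : e y 0 0 ≠ 0 := by
      intro h0
      apply hy0
      apply e.injective
      rw [map_zero]
      ext i j
      rw [Subsingleton.elim i 0, Subsingleton.elim j 0, h0]; rfl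
    refine ⟨⟨y, e.symm (Matrix.of fun _ _ => (e y 0 0)⁻¹), ?_, ?_⟩, rfl⟩
    · apply e.injective
      rw [map_mul, e.apply_symm_apply, map_one]
      ext i j
      rw [Subsingleton.elim i 0, Subsingleton.elim j 0]
      simp [Matrix.mul_apply, mul_inv_cancel₀ h1]
    · apply e.injective
      rw [map_mul, e.apply_symm_apply, map_one]
      ext i j
      rw [Subsingleton.elim i 0, Subsingleton.elim j 0]
      simp [Matrix.mul_apply, inv_mul_cancel₀ h1]
  let i0 : Fin s := ⟨0, by omega⟩
  let i1 : Fin s := ⟨1, by omega⟩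
  have hi01 : i1 ≠ i0 := by simp [i0, i1, Fin.ext_iff]
  let v : Fin s → D := fun i => if i = i0 then algebraMap K D ζ else 1
  let x : A := e.symm (Matrix.diagonal v)
  have hxpow : ∀ k : ℕ, x ^ k = e.symm (Matrix.diagonal (fun i => v i ^ k)) := by
    intro k
    rw [← map_pow, Matrix.diagonal_pow]
    rfl
  have hxd : x ^ d = 1 := by
    rw [hxpow]
    apply e.injective
    rw [e.apply_symm_apply, map_one, ← Matrix.diagonal_one]
    congr 1
    ext i
    simp only [v]
    split_ifs
    · rw [← map_pow, hζ.pow_eq_one, map_one]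
    · simp
  refine ⟨x, ?_, ?_, ?_⟩
  · obtain ⟨d', rfl⟩ := Nat.exists_eq_succ_of_ne_zero hd.ne'
    exact ⟨⟨x, x ^ d', by rw [← pow_succ', hxd], by rw [← pow_succ, hxd]⟩, rfl⟩
  · exact ⟨1, by rw [map_one, hxd]⟩
  · rintro k hk0 hkd ⟨c, hc⟩
    rw [hxpow] at hc
    have h1 := congrArg e hc
    rw [e.apply_symm_apply, AlgEquiv.commutes] at h1
    have h2 := congrFun (congrFun h1 i0) i0
    have h3 := congrFun (congrFun h1 i1) i1
    rw [Matrix.algebraMap_matrix_apply, Matrix.diagonal_apply_eq, if_pos rfl] at h2 h3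
    simp only [v, if_pos, if_neg hi01, one_pow] at h2 h3
    rw [h3, ← map_pow] at h2
    have h4 : ζ ^ k = 1 := by
      have := (algebraMap K D).injective (h2.symm.trans (map_one _).symm)
      exact this
    have := hζ.dvd_of_pow_eq_one k h4
    exact absurd (Nat.le_of_dvd hk0 this) (by omega)

section insep

/-- an abstract counting lemma: a central subgroup `Z`, finitely many pairwise commuting elements
`g a` whose `p`-th powers lie in `Z` and which are pairwise distinct modulo `Z`. -/
theorem exists_large_relIndex {G : Type*} [Group G] (Z : Subgroup G) [Z.Normal] (p : ℕ)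
    (hp : 0 < p) {ι : Type*} (T : Finset ι) (g : ι → G)
    (hcomm : ∀ a ∈ T, ∀ b ∈ T, g a * g b = g b * g a)
    (hpow : ∀ a ∈ T, g a ^ p ∈ Z)
    (hinj : ∀ a ∈ T, ∀ b ∈ T, (g a)⁻¹ * g b ∈ Z → a = b) :
    ∃ H : Subgroup G, Z ≤ H ∧ T.card ≤ Z.relIndex H ∧ Z.relIndex H ≠ 0 := by
  classical
  let π := QuotientGroup.mk' Z
  let S : Set (G ⧸ Z) := (fun a => π (g a)) '' (T : Set ι)
  have hSfin : S.Finite := (Finset.finite_toSet T).image _
  have hScomm : ∀ x ∈ S, ∀ y ∈ S, x * y = y * x := by
    rintro _ ⟨a, ha, rfl⟩ _ ⟨b, hb, rfl⟩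
    rw [← map_mul, ← map_mul, hcomm a ha b hb]
  letI : CommGroup ↥(Subgroup.closure S) := Subgroup.closureCommGroupOfComm hScomm
  haveI : Finite S := hSfin
  haveI : Group.FG ↥(Subgroup.closure S) := Group.closure_finite_fg S
  have htors : IsMulTorsion ↥(Subgroup.closure S) := by
    have hker : (powMonoidHom p : ↥(Subgroup.closure S) →* ↥(Subgroup.closure S)).ker = ⊤ := by
      rw [eq_top_iff, ← Subgroup.closure_closure_coe_preimage, Subgroup.closure_le]
      rintro ⟨x, hx⟩ hxS
      obtain ⟨a, ha, rfl⟩ : x ∈ S := hxS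
      rw [SetLike.mem_coe, MonoidHom.mem_ker]
      apply Subtype.ext
      change (π (g a)) ^ p = 1
      rw [← map_pow]
      exact (QuotientGroup.eq_one_iff _).2 (hpow a ha)
    intro x
    have : x ∈ (powMonoidHom p : ↥(Subgroup.closure S) →* ↥(Subgroup.closure S)).ker := by
      rw [hker]; trivial
    exact isOfFinOrder_iff_pow_eq_one.2 ⟨p, hp, MonoidHom.mem_ker.1 this⟩
  have hCfin : Finite ↥(Subgroup.closure S) := CommGroup.finite_of_fg_isMulTorsion _ htors
  let H : Subgroup G := Z ⊔ Subgroup.closure (g '' (T : Set ι))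
  let f : ↥H →* G ⧸ Z := π.comp H.subtype
  have hker : f.ker = Z.subgroupOf H := by
    ext x
    rw [MonoidHom.mem_ker, Subgroup.mem_subgroupOf]
    exact QuotientGroup.eq_one_iff _
  have hrange : f.range = Subgroup.closure S := by
    have h1 : (⊤ : Subgroup ↥H).map H.subtype = H := by
      rw [← MonoidHom.range_eq_map, Subgroup.range_subtype]
    rw [MonoidHom.range_eq_map, ← Subgroup.map_map, h1, Subgroup.map_sup,
      QuotientGroup.map_mk'_self, bot_sup_eq, MonoidHom.map_closure, Set.image_image]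
  have hrel : Z.relIndex H = Nat.card ↥(Subgroup.closure S) := by
    rw [Subgroup.relIndex, ← hker, Subgroup.index_ker, hrange]
  refine ⟨H, le_sup_left, ?_, ?_⟩
  · rw [hrel]
    let j : ↥T → ↥(Subgroup.closure S) := fun a =>
      ⟨π (g a), Subgroup.subset_closure ⟨a, a.2, rfl⟩⟩
    have hj : Function.Injective j := by
      intro a b hab
      have h1 : π (g a) = π (g b) := congrArg Subtype.val hab
      have h2 : (g a)⁻¹ * g b ∈ Z := QuotientGroup.eq.1 h1
      exact Subtype.ext (hinj a a.2 b b.2 h2)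
    have := Nat.card_le_card_of_injective j hj
    rwa [Nat.card_eq_fintype_card, Fintype.card_coe] at this
  · rw [hrel]
    exact Nat.card_pos.ne'

theorem infinite_of_roots {K : Type u} [Field K]
    (hK : ∀ n : ℕ, 0 < n → (X ^ n - 1 : K[X]).Splits) : Infinite K := by
  by_contra hfin
  rw [not_infinite_iff_finite] at hfin
  letI := Fintype.ofFinite K
  have h1 : ((Fintype.card K + 1 : ℕ) : K) ≠ 0 := by
    rw [Nat.cast_add, FiniteField.cast_card_eq_zero, zero_add, Nat.cast_one]
    exact one_ne_zero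
  obtain ⟨ζ, hζ⟩ := exists_primitiveRoot hK (Fintype.card K + 1) (Nat.succ_pos _) h1
  have h2 : ζ ^ Fintype.card K = ζ := FiniteField.pow_card ζ
  have h3 : ζ ≠ 0 := hζ.ne_zero (Nat.succ_ne_zero _)
  have h4 : ζ ^ (Fintype.card K - 1) = 1 := by
    have hc : 0 < Fintype.card K := Fintype.card_pos
    have : ζ ^ (Fintype.card K - 1) * ζ = 1 * ζ := by
      rw [← pow_succ, Nat.sub_add_cancel hc, h2, one_mul]
    exact mul_right_cancel₀ h3 this
  have h5 := hζ.dvd_of_pow_eq_one _ h4
  have hc : 1 < Fintype.card K := Fintype.one_lt_card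
  have := Nat.le_of_dvd (by omega) h5
  omega

theorem result15173
    (K : Type u) [Field K] (p : ℕ) [Fact p.Prime] [CharP K p]
    (hK : ∀ n : ℕ, 0 < n → (X ^ n - 1 : K[X]).Splits)
    (A : Type v) [DivisionRing A] [Algebra K A]
    (w : A) (hw : w ^ p ∈ (algebraMap K A).range) (hwK : w ∉ (algebraMap K A).range) (N : ℕ) :
    ∃ H : Subgroup Aˣ, (Units.map (algebraMap K A : K →* A)).range ≤ H ∧
      N < ((Units.map (algebraMap K A : K →* A)).range).relIndex H := by
  classical
  have hp : p.Prime := Fact.out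
  haveI : Infinite K := infinite_of_roots hK
  haveI : CharP A p := charP_of_injective_algebraMap (algebraMap K A).injective p
  obtain ⟨c₀, hc₀⟩ := hw
  have hne : ∀ a : K, (1 + a • w : A) ≠ 0 := by
    intro a h0
    have ha : a ≠ 0 := by
      rintro rfl
      rw [zero_smul, add_zero] at h0
      exact one_ne_zero h0
    apply hwK
    refine ⟨-a⁻¹, ?_⟩
    have h1 : a • w = -1 := eq_neg_of_add_eq_zero_right h0
    have h2 : w = a⁻¹ • (a • w) := by rw [smul_smul, inv_mul_cancel₀ ha, one_smul]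
    rw [h2, h1, map_neg, Algebra.algebraMap_eq_smul_one, smul_neg]
  let g : K → Aˣ := fun a => Units.mk0 (1 + a • w) (hne a)
  set Z : Subgroup Aˣ := (Units.map (algebraMap K A : K →* A)).range with hZ
  haveI : Z.Normal := by
    refine ⟨fun n hn x => ?_⟩
    obtain ⟨c, rfl⟩ := hn
    refine ⟨c, ?_⟩
    apply Units.ext
    simp only [Units.coe_map, MonoidHom.coe_coe, Units.val_mul]
    rw [← Algebra.commutes, mul_assoc, Units.mul_inv, mul_one]
  obtain ⟨T, hT⟩ := Infinite.exists_subset_card_eq K (N + 1)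
  have hcomm' : ∀ a ∈ T, ∀ b ∈ T, g a * g b = g b * g a := by
    intro a _ b _
    apply Units.ext
    simp only [g, Units.val_mul, Units.val_mk0]
    have : Commute (1 + a • w) (1 + b • w) :=
      (Commute.one_left _).add_left
        ((Commute.one_right _).add_right (((Commute.refl w).smul_left a).smul_right b))
    exact this
  have hpow' : ∀ a ∈ T, g a ^ p ∈ Z := by
    intro a _
    have h1 : (1 + a • w : A) ^ p = algebraMap K A (1 + a ^ p * c₀) := by
      rw [add_pow_char_of_commute p (Commute.one_left _), one_pow, _root_.smul_pow, ← hc₀, map_add,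
        map_one, map_mul, Algebra.smul_def, map_pow]
    have h2 : (1 + a ^ p * c₀ : K) ≠ 0 := by
      intro h0
      rw [h0, map_zero] at h1
      exact hne a (pow_eq_zero_iff hp.ne_zero |>.1 h1)
    refine ⟨Units.mk0 _ h2, ?_⟩
    apply Units.ext
    simp only [g, Units.coe_map, MonoidHom.coe_coe, Units.val_mk0, Units.val_pow_eq_pow_val]
    exact h1.symm
  have hinj' : ∀ a ∈ T, ∀ b ∈ T, (g a)⁻¹ * g b ∈ Z → a = b := by
    intro a _ b _ hab
    obtain ⟨c, hc⟩ := hab
    have h1 : algebraMap K A (c : K) = (1 + a • w)⁻¹ * (1 + b • w) := by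
      have := congrArg Units.val hc
      simpa [g] using this
    have h2 : (1 + a • w) * algebraMap K A (c : K) = 1 + b • w := by
      rw [h1, ← mul_assoc, mul_inv_cancel₀ (hne a), one_mul]
    have h3 : ((c : K) - 1) • (1 : A) = (b - c * a) • w := by
      have : (1 + a • w) * algebraMap K A (c : K) = (c : K) • (1 : A) + ((c : K) * a) • w := by
        rw [Algebra.algebraMap_eq_smul_one, add_mul, one_mul, smul_mul_assoc, mul_smul_comm,
          mul_one, smul_smul, mul_comm a]
      rw [this] at h2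
      rw [sub_smul, sub_smul, one_smul, sub_eq_sub_iff_add_eq_add, h2, add_comm]
    by_cases hb : b - c * a = 0
    · rw [hb, zero_smul] at h3
      have h4 : ((c : K) - 1) = 0 := by
        by_contra hne'
        have := congrArg (fun z => ((c : K) - 1)⁻¹ • z) h3
        simp only [smul_smul, inv_mul_cancel₀ hne', one_smul, smul_zero] at this
        exact one_ne_zero this
      have h5 : (c : K) = 1 := sub_eq_zero.1 h4
      rw [h5, one_mul] at hb
      exact (sub_eq_zero.1 hb).symm
    · exfalso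
      apply hwK
      refine ⟨(b - c * a)⁻¹ * ((c : K) - 1), ?_⟩
      have := congrArg (fun z => (b - c * a)⁻¹ • z) h3
      simp only [smul_smul, inv_mul_cancel₀ hb, one_smul] at this
      rw [← this, Algebra.algebraMap_eq_smul_one]
  obtain ⟨H, hZH, hcard, -⟩ := exists_large_relIndex Z p hp.pos T g hcomm' hpow' hinj'
  exact ⟨H, hZH, by omega⟩

end insep

end Groth.Agent.Helper7.BddFinA
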