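import Mathlib

/-!
# A splitting lemma: kernel of a map of projectives whose image has projective cokernel
-/

set_option autoImplicit false

namespace Groth.Agent.Helper7.BettiProj1

universe u v

variable {R : Type u} [CommRing R] {Z X C H : Type v}
  [AddCommGroup Z] [Module R Z] [AddCommGroup X] [Module R X]
  [AddCommGroup C] [Module R C] [AddCommGroup H] [Module R H]

theorem finite_projective_ker (f : Z →ₗ[R] X) (π : X →ₗ[R] C) (ι : H →ₗ[R] Z)
    (hπ : Function.Surjective π) (hex : LinearMap.ker π = LinearMap.range f)
    (hι : Function.Injective ι) (hιf : LinearMap.range ι = LinearMap.ker f)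
    [Module.Projective R C] [Module.Projective R X] [Module.Projective R Z] [Module.Finite R Z] :
    Module.Finite R H ∧ Module.Projective R H := by
  obtain ⟨s, hs⟩ := Module.projective_lifting_property π LinearMap.id hπ
  have hs' : ∀ c, π (s c) = c := fun c => LinearMap.congr_fun hs c
  set K := LinearMap.ker π with hK
  let q : X →ₗ[R] K := LinearMap.codRestrict K (LinearMap.id - s ∘ₗ π) (by
    intro x
    simp [hK, hs'])
  have hq : ∀ x : K, q (x : X) = x := by
    intro x
    apply Subtype.ext
    have hx : π (x : X) = 0 := x.2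
    simp [q, hx]
  have : Module.Projective R K := Module.Projective.of_split K.subtype q (by
    ext x
    simp [hq])
  let f' : Z →ₗ[R] K := LinearMap.codRestrict K f (by
    intro z
    rw [hex]
    exact LinearMap.mem_range_self f z)
  have hf' : Function.Surjective f' := by
    rintro ⟨x, hx⟩
    have hx' : x ∈ LinearMap.range f := hex ▸ hx
    obtain ⟨z, rfl⟩ := hx'
    exact ⟨z, rfl⟩
  obtain ⟨t, ht⟩ := Module.projective_lifting_property f' LinearMap.id hf'
  have ht' : ∀ x, f' (t x) = x := fun x => LinearMap.congr_fun ht x
  let e : Z →ₗ[R] Z := LinearMap.id - t ∘ₗ f'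
  have he : ∀ z, e z ∈ LinearMap.range ι := by
    intro z
    rw [hιf, LinearMap.mem_ker]
    have h1 : f' (e z) = 0 := by
      simp [e, ht']
    have h2 := congrArg (Subtype.val) h1
    exact h2
  let r : Z →ₗ[R] H := (LinearEquiv.ofInjective ι hι).symm.toLinearMap ∘ₗ
    LinearMap.codRestrict (LinearMap.range ι) e he
  have hr : ∀ z, ι (r z) = e z := by
    intro z
    simp [r]
  have hrι : ∀ h, r (ι h) = h := by
    intro h
    apply hι
    rw [hr]
    have h1 : f (ι h) = 0 := by
      have : ι h ∈ LinearMap.ker f := hιf ▸ LinearMap.mem_range_self ι h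
      exact this
    have h2 : f' (ι h) = 0 := Subtype.ext h1
    simp [e, h2]
  refine ⟨Module.Finite.of_surjective r (fun h => ⟨ι h, hrι h⟩), ?_⟩
  exact Module.Projective.of_split ι r (by ext h; simp [hrι])

end Groth.Agent.Helper7.BettiProj1
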