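import Mathlib
import Groth.Agent.Helper1.FlatCxDRank
import Groth.Agent.Helper1.FibreDim2
import Groth.Agent.Helper7.BettiProj1

/-!
# Locally constant Betti numbers over a reduced ring force projective cohomology
-/

set_option autoImplicit false

namespace Groth.Agent.Helper7.BettiProj2

open CategoryTheory CategoryTheory.Limits Groth.Agent.Helper1.FibreDim Groth.Agent.Helper1.FlatCx
  Topology

universe u

variable {R : Type u} [CommRing R] (P : CochainComplex (ModuleCat.{u} R) ℤ)

lemma finite_opcycles (i : ℤ) [Module.Finite R (P.X i)] : Module.Finite R (P.opcycles i) :=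
  Module.Finite.of_surjective (P.pOpcycles i).hom
    ((ModuleCat.epi_iff_surjective _).mp inferInstance)

lemma ker_pOpcycles (i j : ℤ) (hj : (ComplexShape.up ℤ).prev j = i) :
    LinearMap.ker (P.pOpcycles j).hom = LinearMap.range (P.d i j).hom := by
  have hex : (ShortComplex.mk (P.d i j) (P.pOpcycles j) (P.d_pOpcycles i j)).Exact :=
    ShortComplex.exact_of_g_is_cokernel _ (P.opcyclesIsCokernel i j hj)
  exact hex.moduleCat_range_eq_ker.symm

lemma finitePresentation_opcycles (hP : ∀ j, Module.Finite R (P.X j) ∧ Module.Free R (P.X j))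
    (j : ℤ) : Module.FinitePresentation R (P.opcycles j) := by
  have := (hP j).1
  have := (hP j).2
  have := (hP (j - 1)).1
  have : Module.FinitePresentation R (P.X j) := Module.finitePresentation_of_projective R _
  refine Module.finitePresentation_of_surjective (P.pOpcycles j).hom
    ((ModuleCat.epi_iff_surjective _).mp inferInstance) ?_
  rw [ker_pOpcycles P (j - 1) j (by simp)]
  rw [LinearMap.range_eq_map]
  exact Submodule.FG.map _ (Module.Finite.fg_top)

lemma eventually_eq (hP : ∀ j, Module.Finite R (P.X j) ∧ Module.Free R (P.X j)) (i : ℤ)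
    (x : PrimeSpectrum R) (h : ∀ᶠ y in 𝓝 x, CohIII.dRank P i y = CohIII.dRank P i x) :
    ∀ᶠ y in 𝓝 x, fibreDim (P.opcycles i) y = fibreDim (P.opcycles i) x ∧
      fibreDim (P.opcycles (i + 1)) y = fibreDim (P.opcycles (i + 1)) x := by
  have hfin : ∀ j, Module.Finite R (P.X j) := fun j => (hP j).1
  have hfree : ∀ j, Module.Free R (P.X j) := fun j => (hP j).2
  have hfo : ∀ j, Module.Finite R (P.opcycles j) := fun j => finite_opcycles P j
  have hfp : ∀ j, Module.FinitePresentation R (P.X j) := fun j =>
    Module.finitePresentation_of_projective R _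
  filter_upwards [h, fibreDim_eventually_le (P.opcycles i) x,
    fibreDim_eventually_le (P.opcycles (i + 1)) x,
    fibreDim_eventually_eq (P.X (i + 1)) x] with y h3 h4 h5 h6
  have f1 := dRank_add P i (i + 1) (by simp) (by simp) y
  have f2 := dRank_add P i (i + 1) (by simp) (by simp) x
  omega

theorem main [IsReduced R] (hP : ∀ j : ℤ, Module.Finite R (P.X j) ∧ Module.Free R (P.X j)) (i : ℤ)
    (hconst : IsLocallyConstant (CohIII.dRank P i)) :
    Module.Finite R (P.homology i) ∧ Module.Projective R (P.homology i) := by
  rw [IsLocallyConstant.iff_eventually_eq] at hconst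
  have hfin : ∀ j, Module.Finite R (P.X j) := fun j => (hP j).1
  have hfree : ∀ j, Module.Free R (P.X j) := fun j => (hP j).2
  have hfo : ∀ j, Module.Finite R (P.opcycles j) := fun j => finite_opcycles P j
  have hfpo : ∀ j, Module.FinitePresentation R (P.opcycles j) := fun j =>
    finitePresentation_opcycles P hP j
  have hflat1 : Module.Flat R (P.opcycles i) := by
    apply flat_of_fibreDim_eventually_eq
    intro x
    exact (eventually_eq P hP i x (hconst x)).mono fun y hy => hy.1
  have hflat2 : Module.Flat R (P.opcycles (i + 1)) := by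
    apply flat_of_fibreDim_eventually_eq
    intro x
    exact (eventually_eq P hP i x (hconst x)).mono fun y hy => hy.2
  have hproj1 : Module.Projective R (P.opcycles i) := Module.Flat.projective_of_finitePresentation
  have hproj2 : Module.Projective R (P.opcycles (i + 1)) :=
    Module.Flat.projective_of_finitePresentation
  have hπ : Function.Surjective (P.pOpcycles (i + 1)).hom :=
    (ModuleCat.epi_iff_surjective _).mp inferInstance
  have hπi : Function.Surjective (P.pOpcycles i).hom :=
    (ModuleCat.epi_iff_surjective _).mp inferInstance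
  have hex : LinearMap.ker (P.pOpcycles (i + 1)).hom =
      LinearMap.range (P.fromOpcycles i (i + 1)).hom := by
    rw [ker_pOpcycles P i (i + 1) (by simp)]
    have hd : (P.d i (i + 1)).hom = (P.fromOpcycles i (i + 1)).hom ∘ₗ (P.pOpcycles i).hom := by
      rw [← ModuleCat.hom_comp, P.p_fromOpcycles]
    rw [hd, LinearMap.range_comp, LinearMap.range_eq_top.2 hπi, Submodule.map_top]
  have hι : Function.Injective (P.homologyι i).hom :=
    (ModuleCat.mono_iff_injective _).mp inferInstance
  have hιf : LinearMap.range (P.homologyι i).hom =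
      LinearMap.ker (P.fromOpcycles i (i + 1)).hom := by
    have hex2 : (ShortComplex.mk (P.homologyι i) (P.fromOpcycles i (i + 1))
        (P.homologyι_comp_fromOpcycles i (i + 1))).Exact :=
      ShortComplex.exact_of_f_is_kernel _ (P.homologyIsKernel i (i + 1) (by simp))
    exact hex2.moduleCat_range_eq_ker
  exact Groth.Agent.Helper7.BettiProj1.finite_projective_ker
    (P.fromOpcycles i (i + 1)).hom (P.pOpcycles (i + 1)).hom (P.homologyι i).hom hπ hex hι hιf

end Groth.Agent.Helper7.BettiProj2
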