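import Mathlib

namespace Groth.Agent.Helper7.BilNondeg

universe u

open Matrix LinearMap

variable {k V : Type u} [Field k] [AddCommGroup V] [Module k V]

theorem exists_of_matrix {ι : Type*} [Fintype ι] [DecidableEq ι] (b : Module.Basis ι k V)
    (M : Matrix ι ι k) (hM : (M + Mᵀ).det ≠ 0) :
    ∃ B : LinearMap.BilinForm k V, (B + B.flip).Nondegenerate := by
  refine ⟨Matrix.toBilin b M, ?_⟩
  rw [← LinearMap.BilinForm.nondegenerate_toMatrix_iff b, Matrix.nondegenerate_iff_det_ne_zero]
  convert hM using 2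
  ext i j
  rw [LinearMap.BilinForm.toMatrix_apply, LinearMap.add_apply, LinearMap.add_apply]
  have h1 : ((Matrix.toBilin b M).flip (b i)) (b j) = (Matrix.toBilin b M) (b j) (b i) := rfl
  rw [h1, ← LinearMap.BilinForm.toMatrix_apply b, ← LinearMap.BilinForm.toMatrix_apply b,
    LinearMap.BilinForm.toMatrix_toBilin, Matrix.add_apply, Matrix.transpose_apply]

theorem result [FiniteDimensional k V] (h : Even (Module.finrank k V) ∨ ringChar k ≠ 2) :
    ∃ B : LinearMap.BilinForm k V, (B + B.flip).Nondegenerate := by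
  rcases h with ⟨m, hm⟩ | h2
  · let b : Module.Basis (Fin m ⊕ Fin m) k V :=
      (Module.finBasisOfFinrankEq k V hm).reindex finSumFinEquiv.symm
    apply exists_of_matrix b (Matrix.fromBlocks (0 : Matrix (Fin m) (Fin m) k) (1 : Matrix (Fin m) (Fin m) k) 0 0)
    have hsq : (Matrix.fromBlocks (0 : Matrix (Fin m) (Fin m) k) (1 : Matrix (Fin m) (Fin m) k) 0 0 +
        (Matrix.fromBlocks (0 : Matrix (Fin m) (Fin m) k) (1 : Matrix (Fin m) (Fin m) k) 0 0)ᵀ) *
        (Matrix.fromBlocks (0 : Matrix (Fin m) (Fin m) k) (1 : Matrix (Fin m) (Fin m) k) 0 0 +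
        (Matrix.fromBlocks (0 : Matrix (Fin m) (Fin m) k) (1 : Matrix (Fin m) (Fin m) k) 0 0)ᵀ) = 1 := by
      rw [Matrix.fromBlocks_transpose, Matrix.fromBlocks_add, Matrix.fromBlocks_multiply]
      simp [Matrix.fromBlocks_one]
    intro h0
    have := congrArg Matrix.det hsq
    rw [Matrix.det_mul, h0, mul_zero, Matrix.det_one] at this
    exact zero_ne_one this
  · let b : Module.Basis (Fin (Module.finrank k V)) k V := Module.finBasis k V
    apply exists_of_matrix b 1
    have h2' : (2 : k) ≠ 0 := Ring.two_ne_zero h2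
    have : (1 : Matrix (Fin (Module.finrank k V)) (Fin (Module.finrank k V)) k) + 1ᵀ =
        Matrix.diagonal (fun _ => (2 : k)) := by
      rw [Matrix.transpose_one]
      ext i j
      by_cases hij : i = j
      · subst hij; simp; norm_num
      · simp [hij]
    rw [this, Matrix.det_diagonal]
    simp [h2']

end Groth.Agent.Helper7.BilNondeg
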