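import Mathlib

set_option autoImplicit false
universe u

/-!
# Blowing up a two-generated ideal inside the total ring of fractions (algebraic core)

For `s ∈ Q` (an `R`-algebra) satisfying a polynomial relation `∑_{k ≤ c} w_k s^k = 0` one of whose
coefficients is a unit, the stabiliser ring `R' = (N_c : N_c)` of `N_c = R + Rs + ⋯ + Rs^c`
contains the Horner elements `e_k`, and the `R'`-module `R' + R's` is invertible with inverse
generated by the `e_k`.
-/

namespace Groth.Agent.Helper7.BlowOne

open Finset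
open scoped Pointwise

section Core
variable {R : Type u} [CommRing R] {Q : Type u} [CommRing Q] [Algebra R Q]

/-- `N_c = R + R s + ⋯ + R s^c` -/
def Nc (s : Q) (c : ℕ) : Submodule R Q :=
  Submodule.span R (Set.range fun j : Fin (c + 1) => s ^ (j : ℕ))

lemma pow_mem_Nc (s : Q) (c : ℕ) {j : ℕ} (hj : j ≤ c) : s ^ j ∈ Nc (R := R) s c :=
  Submodule.subset_span ⟨⟨j, by omega⟩, rfl⟩

lemma one_mem_Nc (s : Q) (c : ℕ) : (1 : Q) ∈ Nc (R := R) s c := by
  have := pow_mem_Nc (R := R) s c (Nat.zero_le c)
  simpa using this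

lemma Nc_fg (s : Q) (c : ℕ) : (Nc (R := R) s c).FG :=
  Submodule.fg_span (Set.finite_range _)

/-- the stabiliser subalgebra `(N : N)` -/
def stab (N : Submodule R Q) : Subalgebra R Q where
  carrier := {q | ∀ n ∈ N, q * n ∈ N}
  mul_mem' := fun {x y} hx hy n hn => by rw [mul_assoc]; exact hx _ (hy _ hn)
  one_mem' := fun n hn => by simpa using hn
  add_mem' := fun {x y} hx hy n hn => by rw [add_mul]; exact N.add_mem (hx _ hn) (hy _ hn)
  zero_mem' := fun n hn => by simp
  algebraMap_mem' := fun r n hn => by rw [← Algebra.smul_def]; exact N.smul_mem r hn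

lemma mem_stab {N : Submodule R Q} {q : Q} : q ∈ stab N ↔ ∀ n ∈ N, q * n ∈ N := Iff.rfl

lemma stab_le {N : Submodule R Q} (h1 : (1 : Q) ∈ N) : Subalgebra.toSubmodule (stab N) ≤ N := by
  intro q hq
  have := hq 1 h1
  simpa using this

lemma mem_stab_Nc {s : Q} {c : ℕ} {q : Q} (h : ∀ j ≤ c, q * s ^ j ∈ Nc (R := R) s c) :
    q ∈ stab (Nc (R := R) s c) := by
  intro n hn
  induction hn using Submodule.span_induction with
  | mem x hx => obtain ⟨j, rfl⟩ := hx; exact h j (by omega)
  | zero => simp
  | add x y _ _ hx hy => rw [mul_add]; exact add_mem hx hy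
  | smul r x _ hx => rw [mul_smul_comm]; exact Submodule.smul_mem _ _ hx

/-- Horner elements `e_k = ∑_{j ≤ c - k} w_{k+j} s^j` -/
def horner (w : ℕ → R) (s : Q) (c k : ℕ) : Q :=
  ∑ j ∈ range (c + 1 - k), algebraMap R Q (w (k + j)) * s ^ j

lemma horner_succ (w : ℕ → R) (s : Q) (c : ℕ) {k : ℕ} (hk : k ≤ c) :
    horner w s c k = algebraMap R Q (w k) + s * horner w s c (k + 1) := by
  unfold horner
  have h : c + 1 - k = (c + 1 - (k + 1)) + 1 := by omega
  rw [h, sum_range_succ', mul_sum]
  simp only [pow_zero, mul_one, add_zero]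
  rw [add_comm]
  congr 1
  apply sum_congr rfl
  intro j _
  have h2 : k + (j + 1) = k + 1 + j := by ring
  rw [pow_succ, h2]
  ring

lemma horner_of_lt (w : ℕ → R) (s : Q) (c : ℕ) {k : ℕ} (hk : c < k) : horner w s c k = 0 := by
  unfold horner
  have h : c + 1 - k = 0 := by omega
  rw [h]
  simp

lemma pow_mul_horner (w : ℕ → R) (s : Q) (c : ℕ) :
    ∀ k, k ≤ c + 1 → s ^ k * horner w s c k =
      horner w s c 0 - ∑ i ∈ range k, algebraMap R Q (w i) * s ^ i := by
  intro k
  induction k with
  | zero => intro _; simp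
  | succ k ih =>
    intro hk
    have h1 := ih (by omega)
    have h2 := horner_succ w s c (k := k) (by omega)
    rw [sum_range_succ, ← sub_sub, ← h1, h2]
    ring

lemma horner_mem_stab {w : ℕ → R} {s : Q} {c : ℕ} (h0 : horner w s c 0 = 0) (k : ℕ) :
    horner w s c k ∈ stab (Nc (R := R) s c) := by
  by_cases hk : c < k
  · rw [horner_of_lt w s c hk]; exact (stab _).zero_mem
  rw [not_lt] at hk
  apply mem_stab_Nc
  intro j hj
  by_cases hjk : j ≤ k
  · unfold horner
    rw [sum_mul]
    refine Submodule.sum_mem _ fun i hi => ?_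
    rw [mem_range] at hi
    rw [mul_assoc, ← pow_add, ← Algebra.smul_def]
    exact Submodule.smul_mem _ _ (pow_mem_Nc s c (by omega))
  · rw [not_le] at hjk
    have h1 := pow_mul_horner w s c k (by omega)
    rw [h0, zero_sub] at h1
    have h2 : horner w s c k * s ^ j = s ^ (j - k) * (s ^ k * horner w s c k) := by
      rw [← mul_assoc, ← pow_add, mul_comm]
      congr 2
      omega
    rw [h2, h1, mul_neg, mul_sum]
    refine Submodule.neg_mem _ (Submodule.sum_mem _ fun i hi => ?_)
    rw [mem_range] at hi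
    rw [mul_left_comm, ← pow_add, ← Algebra.smul_def]
    exact Submodule.smul_mem _ _ (pow_mem_Nc s c (by omega))

lemma s_mul_horner_mem_stab {w : ℕ → R} {s : Q} {c : ℕ} (h0 : horner w s c 0 = 0) (k : ℕ) :
    s * horner w s c k ∈ stab (Nc (R := R) s c) := by
  cases k with
  | zero => rw [h0, mul_zero]; exact (stab _).zero_mem
  | succ k =>
    by_cases hk : k ≤ c
    · have h2 := horner_succ w s c hk
      have h3 : s * horner w s c (k + 1) = horner w s c k - algebraMap R Q (w k) := by
        rw [h2]; ring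
      rw [h3]
      exact (stab _).sub_mem (horner_mem_stab h0 k) ((stab _).algebraMap_mem _)
    · rw [not_le] at hk
      rw [horner_of_lt w s c (by omega), mul_zero]
      exact (stab _).zero_mem

/-- invertibility of `R' + R' s` -/
theorem span_mul_span_eq_one {w : ℕ → R} {s : Q} {c : ℕ} (h0 : horner w s c 0 = 0)
    {k₀ : ℕ} (hk₀ : k₀ ≤ c) (hu : IsUnit (w k₀)) :
    (Submodule.span (stab (Nc (R := R) s c)) ({1, s} : Set Q)) *
      Submodule.span (stab (Nc (R := R) s c))
        (Set.range fun k : Fin (c + 2) => horner w s c k) = 1 := by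
  rw [Submodule.span_mul_span]
  apply le_antisymm
  · rw [Submodule.span_le]
    rintro _ ⟨x, hx, _, ⟨k, rfl⟩, rfl⟩
    rw [SetLike.mem_coe, Submodule.mem_one]
    rcases hx with rfl | rfl
    · exact ⟨⟨_, horner_mem_stab h0 k⟩, by simp⟩
    · exact ⟨⟨_, s_mul_horner_mem_stab h0 k⟩, rfl⟩
  · rw [Submodule.one_le]
    obtain ⟨u, hu'⟩ := hu
    have h2 := horner_succ w s c hk₀
    have hmem : algebraMap R Q (w k₀) ∈ Submodule.span (stab (Nc (R := R) s c))
        (({1, s} : Set Q) * Set.range fun k : Fin (c + 2) => horner w s c k) := by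
      have h3 : algebraMap R Q (w k₀) = 1 * horner w s c k₀ - s * horner w s c (k₀ + 1) := by
        rw [h2]; ring
      rw [h3]
      refine Submodule.sub_mem _ (Submodule.subset_span ?_) (Submodule.subset_span ?_)
      · exact Set.mul_mem_mul (by simp) ⟨⟨k₀, by omega⟩, rfl⟩
      · exact Set.mul_mem_mul (by simp) ⟨⟨k₀ + 1, by omega⟩, rfl⟩
    have h4 : (1 : Q) = (algebraMap R (stab (Nc (R := R) s c)) (↑u⁻¹ : R)) •
        algebraMap R Q (w k₀) := by
      rw [Subalgebra.smul_def, Subalgebra.coe_algebraMap, smul_eq_mul, ← map_mul, ← hu', Units.inv_mul, map_one]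
    have h5 := Submodule.smul_mem _ (algebraMap R (stab (Nc (R := R) s c)) (↑u⁻¹ : R)) hmem
    rw [← h4] at h5
    exact h5

end Core

end Groth.Agent.Helper7.BlowOne
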