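import Mathlib
import Groth.Agent.Helper7.BlowOneA

set_option autoImplicit false
universe u

namespace Groth.Agent.Helper7.BlowOne

open Finset
open scoped Pointwise nonZeroDivisors

section Princ
variable {R : Type u} [CommRing R] {Q : Type u} [CommRing Q] [Algebra R Q] [IsFractionRing R Q]

/-- `Q` is also a localization of any subalgebra -/
lemma isLocalization_subalgebra (R' : Subalgebra R Q) :
    IsLocalization (Algebra.algebraMapSubmonoid R' R⁰) Q := by
  rw [isLocalization_iff]
  refine ⟨?_, ?_, ?_⟩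
  · rintro ⟨y, r, hr, rfl⟩
    exact IsLocalization.map_units Q (⟨r, hr⟩ : R⁰)
  · intro z
    obtain ⟨⟨r, d⟩, h⟩ := IsLocalization.surj R⁰ z
    exact ⟨(algebraMap R R' r, ⟨algebraMap R R' d, d, d.2, rfl⟩), h⟩
  · intro x y h
    exact ⟨1, by rw [Subtype.ext h]⟩

lemma algebraMapSubmonoid_le (R' : Subalgebra R Q) :
    Algebra.algebraMapSubmonoid R' R⁰ ≤ R'⁰ := by
  rintro _ ⟨r, hr, rfl⟩
  rw [mem_nonZeroDivisors_iff_right]
  intro z hz
  have h1 : (z : Q) * algebraMap R Q r = 0 := congrArg Subtype.val hz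
  have h2 : IsUnit (algebraMap R Q r) := IsLocalization.map_units Q (⟨r, hr⟩ : R⁰)
  exact Subtype.ext (h2.mul_left_eq_zero.mp h1)

theorem exists_principal {w : ℕ → R} {s : Q} {c : ℕ} (h0 : horner w s c 0 = 0)
    {k₀ : ℕ} (hk₀ : k₀ ≤ c) (hu : IsUnit (w k₀))
    (hfin : {I : Ideal (stab (Nc (R := R) s c)) | I.IsMaximal}.Finite) :
    ∃ g : Q, Submodule.span (stab (Nc (R := R) s c)) ({1, s} : Set Q) =
      Submodule.span (stab (Nc (R := R) s c)) {g} := by
  haveI := isLocalization_subalgebra (R := R) (Q := Q) (stab (Nc (R := R) s c))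
  let S := Algebra.algebraMapSubmonoid (stab (Nc (R := R) s c)) R⁰
  let I : FractionalIdeal S Q :=
    ⟨Submodule.span (stab (Nc (R := R) s c)) ({1, s} : Set Q),
      FractionalIdeal.isFractional_of_fg (Submodule.fg_span (by simp))⟩
  let I' : FractionalIdeal S Q :=
    ⟨Submodule.span (stab (Nc (R := R) s c)) (Set.range fun k : Fin (c + 2) => horner w s c k),
      FractionalIdeal.isFractional_of_fg (Submodule.fg_span (Set.finite_range _))⟩
  have hinv : I * I' = 1 := by
    apply FractionalIdeal.coeToSubmodule_injective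
    beta_reduce
    rw [FractionalIdeal.coe_mul, FractionalIdeal.coe_one]
    exact span_mul_span_eq_one h0 hk₀ hu
  have hp := FractionalIdeal.isPrincipal.of_finite_maximals_of_inv
    (algebraMapSubmonoid_le _) hfin I I' hinv
  obtain ⟨g, hg⟩ := hp.principal
  exact ⟨g, hg⟩

end Princ

end Groth.Agent.Helper7.BlowOne
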