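import Mathlib

set_option autoImplicit false
universe u v

/-!
# Relative lengths of submodules (chains `A ≤ B ≤ C`), lengths of `Hom` into an injective module
-/

namespace Groth.Agent.Helper7.CanDu

open Function

section RL
variable {R : Type*} [CommRing R] {M : Type*} [AddCommGroup M] [Module R M]

/-- relative length `ℓ(B/A)` (meaningful when `A ≤ B`) -/
noncomputable def rl (A B : Submodule R M) : ℕ∞ :=
  Module.length R (↥B ⧸ Submodule.comap B.subtype A)

theorem rl_def (A B : Submodule R M) :
    rl A B = Module.length R (↥B ⧸ Submodule.comap B.subtype A) := rfl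

theorem rl_self (A : Submodule R M) : rl A A = 0 := by
  rw [rl_def, Module.length_eq_zero_iff]
  refine ⟨fun x y => ?_⟩
  obtain ⟨x, rfl⟩ := Submodule.Quotient.mk_surjective _ x
  obtain ⟨y, rfl⟩ := Submodule.Quotient.mk_surjective _ y
  rw [Submodule.Quotient.eq]
  show ((x - y : ↥A) : M) ∈ A
  exact (x - y).2

theorem rl_add {A B C : Submodule R M} (h1 : A ≤ B) (h2 : B ≤ C) :
    rl A C = rl A B + rl B C := by
  unfold rl
  let f : (↥B ⧸ Submodule.comap B.subtype A) →ₗ[R] (↥C ⧸ Submodule.comap C.subtype A) :=
    Submodule.mapQ _ _ (Submodule.inclusion h2) (fun x hx => hx)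
  let g : (↥C ⧸ Submodule.comap C.subtype A) →ₗ[R] (↥C ⧸ Submodule.comap C.subtype B) :=
    Submodule.mapQ _ _ LinearMap.id (fun x hx => h1 hx)
  refine Module.length_eq_add_of_exact f g ?_ ?_ ?_
  · rw [injective_iff_map_eq_zero]
    intro x hx
    obtain ⟨x, rfl⟩ := Submodule.Quotient.mk_surjective _ x
    rw [Submodule.Quotient.mk_eq_zero]
    have : f (Submodule.Quotient.mk x) = Submodule.Quotient.mk (Submodule.inclusion h2 x) := rfl
    rw [this, Submodule.Quotient.mk_eq_zero] at hx
    exact hx
  · intro y
    obtain ⟨y, rfl⟩ := Submodule.Quotient.mk_surjective _ y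
    exact ⟨Submodule.Quotient.mk y, rfl⟩
  · intro y
    obtain ⟨y, rfl⟩ := Submodule.Quotient.mk_surjective _ y
    have hg : g (Submodule.Quotient.mk y) = Submodule.Quotient.mk y := rfl
    rw [hg, Submodule.Quotient.mk_eq_zero]
    constructor
    · intro hy
      refine ⟨Submodule.Quotient.mk ⟨(y : M), hy⟩, ?_⟩
      rfl
    · rintro ⟨x, hx⟩
      obtain ⟨x, rfl⟩ := Submodule.Quotient.mk_surjective _ x
      have : f (Submodule.Quotient.mk x) = Submodule.Quotient.mk (Submodule.inclusion h2 x) := rfl
      rw [this, Submodule.Quotient.eq] at hx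
      have hx' : ((Submodule.inclusion h2 x - y : ↥C) : M) ∈ A := hx
      have e : (y : M) = (x : M) - ((Submodule.inclusion h2 x - y : ↥C) : M) := by
        simp
      show (y : M) ∈ B
      rw [e]
      exact B.sub_mem x.2 (h1 hx')

theorem rl_le_right {A B C : Submodule R M} (h1 : A ≤ B) (h2 : B ≤ C) : rl A B ≤ rl A C := by
  rw [rl_add h1 h2]; exact le_self_add

theorem rl_le_left {A B C : Submodule R M} (h1 : A ≤ B) (h2 : B ≤ C) : rl B C ≤ rl A C := by
  rw [rl_add h1 h2]; exact le_add_self

/-- invariance under injective linear maps -/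
theorem rl_map {M' : Type*} [AddCommGroup M'] [Module R M'] (e : M →ₗ[R] M')
    (he : Injective e) (A B : Submodule R M) : rl (A.map e) (B.map e) = rl A B := by
  unfold rl
  symm
  refine (Submodule.Quotient.equiv _ _ (Submodule.equivMapOfInjective e he B) ?_).length_eq
  ext ⟨y, hy⟩
  simp only [Submodule.mem_map, Submodule.mem_comap, Submodule.subtype_apply]
  constructor
  · rintro ⟨x, hx, hxy⟩
    refine ⟨(x : M), hx, ?_⟩
    have := congrArg Subtype.val hxy
    simpa using this
  · rintro ⟨a, ha, hay⟩
    obtain ⟨b, hb, hby⟩ := hy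
    have hab : a = b := he (hay.trans hby.symm)
    subst hab
    refine ⟨⟨a, hb⟩, ha, ?_⟩
    apply Subtype.ext
    simpa using hay

theorem rl_eq_zero_iff {A B : Submodule R M} (h : A ≤ B) : rl A B = 0 ↔ A = B := by
  rw [rl_def, Module.length_eq_zero_iff]
  constructor
  · intro hs
    refine le_antisymm h (fun x hx => ?_)
    have := (Submodule.Quotient.mk_eq_zero (Submodule.comap B.subtype A) (x := ⟨x, hx⟩)).1
      (Subsingleton.elim _ _)
    exact this
  · rintro rfl
    rw [← Module.length_eq_zero_iff (R := R)]
    exact rl_self A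

end RL

section Hom

open IsLocalRing

variable {R : Type u} [CommRing R] [IsLocalRing R]

/-- a simple module over a local ring is isomorphic to the residue field -/
lemma nonempty_equiv_residueField (S : Type u) [AddCommGroup S] [Module R S]
    [IsSimpleModule R S] : Nonempty (S ≃ₗ[R] ResidueField R) := by
  obtain ⟨I, hI, ⟨e⟩⟩ := (isSimpleModule_iff_quot_maximal (R := R) (M := S)).1 inferInstance
  have hIm : I = maximalIdeal R := IsLocalRing.eq_maximalIdeal hI
  subst hIm
  have e2 : (R ⧸ maximalIdeal R) ≃ₗ[R] ResidueField R :=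
    { toFun := fun x => x
      invFun := fun x => x
      map_add' := fun _ _ => rfl
      map_smul' := fun r x => by
        obtain ⟨a, rfl⟩ := Ideal.Quotient.mk_surjective x
        rfl
      left_inv := fun _ => rfl
      right_inv := fun _ => rfl }
  exact ⟨e.trans e2⟩

/-- length of `Hom(M, E)` for injective `E`: multiplicative in the socle length -/
lemma length_hom {E : Type u} [AddCommGroup E] [Module R E] (hinj : Module.Injective R E) :
    ∀ (M : Type u) [AddCommGroup M] [Module R M], IsFiniteLength R M →
      Module.length R (M →ₗ[R] E) =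
        Module.length R (ResidueField R →ₗ[R] E) * Module.length R M := by
  intro M _ _ hM
  induction hM with
  | @of_subsingleton M _ _ _ =>
    have : Subsingleton (M →ₗ[R] E) := ⟨fun φ ψ => LinearMap.ext fun x => by
      rw [Subsingleton.elim x 0, map_zero, map_zero]⟩
    rw [Module.length_eq_zero (M := M →ₗ[R] E), Module.length_eq_zero (M := M), mul_zero]
  | @of_simple_quotient M _ _ N hS hN ih =>
    let f : (M ⧸ N →ₗ[R] E) →ₗ[R] (M →ₗ[R] E) := LinearMap.lcomp R E N.mkQ
    let g : (M →ₗ[R] E) →ₗ[R] (N →ₗ[R] E) := LinearMap.lcomp R E N.subtype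
    have hf : Function.Injective f := by
      intro φ ψ h
      ext x
      exact LinearMap.congr_fun h x
    have hg : Function.Surjective g := by
      intro φ
      obtain ⟨ψ, hψ⟩ := Module.Injective.extension_property R E N M N.subtype
        N.injective_subtype φ
      exact ⟨ψ, hψ⟩
    have hex : Function.Exact f g := by
      intro φ
      constructor
      · intro h
        have hker : N ≤ LinearMap.ker φ := by
          intro x hx
          rw [LinearMap.mem_ker]
          exact LinearMap.congr_fun h ⟨x, hx⟩
        refine ⟨N.liftQ φ hker, ?_⟩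
        ext x
        rfl
      · rintro ⟨ψ, rfl⟩
        ext x
        change ψ (N.mkQ (x : M)) = 0
        rw [Submodule.mkQ_apply, (Submodule.Quotient.mk_eq_zero N).2 x.2, map_zero]
    have h1 := Module.length_eq_add_of_exact f g hf hg hex
    have h2 := Module.length_eq_add_of_exact N.subtype N.mkQ N.injective_subtype
      N.mkQ_surjective (LinearMap.exact_subtype_mkQ N)
    obtain ⟨e⟩ := nonempty_equiv_residueField (R := R) (M ⧸ N)
    have hs : Module.length R (M ⧸ N →ₗ[R] E) = Module.length R (ResidueField R →ₗ[R] E) :=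
      (LinearEquiv.congrLeft E R e).length_eq
    rw [h1, h2, ih, hs, Module.length_eq_one R (M ⧸ N), mul_add, mul_one, add_comm]

/-- without injectivity: `ℓ(Hom(M,E)) ≤ s · ℓ(M)` -/
lemma length_hom_le {E : Type u} [AddCommGroup E] [Module R E] :
    ∀ (M : Type u) [AddCommGroup M] [Module R M], IsFiniteLength R M →
      Module.length R (M →ₗ[R] E) ≤
        Module.length R (ResidueField R →ₗ[R] E) * Module.length R M := by
  intro M _ _ hM
  induction hM with
  | @of_subsingleton M _ _ _ =>
    have : Subsingleton (M →ₗ[R] E) := ⟨fun φ ψ => LinearMap.ext fun x => by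
      rw [Subsingleton.elim x 0, map_zero, map_zero]⟩
    rw [Module.length_eq_zero (M := M →ₗ[R] E)]
    simp
  | @of_simple_quotient M _ _ N hS hN ih =>
    let f : (M ⧸ N →ₗ[R] E) →ₗ[R] (M →ₗ[R] E) := LinearMap.lcomp R E N.mkQ
    let g : (M →ₗ[R] E) →ₗ[R] (N →ₗ[R] E) := LinearMap.lcomp R E N.subtype
    have hf : Function.Injective f := by
      intro φ ψ h
      ext x
      exact LinearMap.congr_fun h x
    have hex : Function.Exact f g := by
      intro φ
      constructor
      · intro h
        have hker : N ≤ LinearMap.ker φ := by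
          intro x hx
          rw [LinearMap.mem_ker]
          exact LinearMap.congr_fun h ⟨x, hx⟩
        refine ⟨N.liftQ φ hker, ?_⟩
        ext x
        rfl
      · rintro ⟨ψ, rfl⟩
        ext x
        change ψ (N.mkQ (x : M)) = 0
        rw [Submodule.mkQ_apply, (Submodule.Quotient.mk_eq_zero N).2 x.2, map_zero]
    have h1 := Module.length_eq_add_of_exact f g.rangeRestrict hf g.surjective_rangeRestrict
      (by
        intro φ
        rw [← hex φ]
        constructor
        · intro h
          exact congrArg Subtype.val h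
        · intro h
          exact Subtype.ext h)
    have h2 := Module.length_eq_add_of_exact N.subtype N.mkQ N.injective_subtype
      N.mkQ_surjective (LinearMap.exact_subtype_mkQ N)
    obtain ⟨e⟩ := nonempty_equiv_residueField (R := R) (M ⧸ N)
    have hs : Module.length R (M ⧸ N →ₗ[R] E) = Module.length R (ResidueField R →ₗ[R] E) :=
      (LinearEquiv.congrLeft E R e).length_eq
    have h3 : Module.length R (LinearMap.range g) ≤ Module.length R (N →ₗ[R] E) :=
      Module.length_le_of_injective (LinearMap.range g).subtype (Submodule.injective_subtype _)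
    rw [h1, h2, hs, Module.length_eq_one R (M ⧸ N), mul_add, mul_one, add_comm]
    gcongr
    exact h3.trans ih

end Hom

end Groth.Agent.Helper7.CanDu
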