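import Mathlib
import Groth.Prelude.Def_CycAlg
import Groth.Agent.Helper7.BlowOneB
import Groth.Agent.Helper7.BlowOneC

set_option autoImplicit false
universe u

namespace Groth.Agent.Helper7.BlowOne

open Finset IsLocalRing
open scoped nonZeroDivisors

section Main
variable {R : Type u} [CommRing R] [IsNoetherianRing R] [IsLocalRing R]

/-- a finite algebra over a local ring is semilocal -/
lemma finite_maximal_of_finite (A' : Type u) [CommRing A'] [Algebra R A'] [Module.Finite R A'] :
    {Q : Ideal A' | Q.IsMaximal}.Finite := by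
  haveI : Algebra.IsIntegral R A' := Algebra.IsIntegral.of_finite R A'
  have hsl : {I : Ideal R | I.IsMaximal}.Finite := by
    have : {I : Ideal R | I.IsMaximal} = {maximalIdeal R} := by
      ext I
      rw [Set.mem_singleton_iff]
      show I.IsMaximal ↔ _
      exact ⟨fun h => IsLocalRing.eq_maximalIdeal h, fun h => h ▸ maximalIdeal.isMaximal R⟩
    rw [this]
    exact Set.finite_singleton _
  refine Set.Finite.subset (Set.Finite.biUnion hsl
    (fun m _ => Algebra.QuasiFinite.finite_primesOver (S := A') m)) ?_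
  intro Q hQ
  have hQ' : Q.IsMaximal := hQ
  have hm : (Q.comap (algebraMap R A')).IsMaximal :=
    Ideal.isMaximal_comap_of_isIntegral_of_isMaximal Q
  exact Set.mem_biUnion (show Q.comap (algebraMap R A') ∈ {I : Ideal R | I.IsMaximal} from hm)
    ⟨hQ'.isPrime, ⟨rfl⟩⟩

theorem main (hR : ringKrullDim R = 1) (a b : R) (ha : a ∈ R⁰) (hb : b ∈ R⁰) :
    ∃ (R' : Type u) (_ : CommRing R') (_ : Algebra R R'),
      CycAlg.IsFinExt R R' (maximalIdeal R) ∧ ∃ t a' b' : R', t ∈ R'⁰ ∧ a' ∈ R'⁰ ∧ b' ∈ R'⁰ ∧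
        algebraMap R R' a = t * a' ∧ algebraMap R R' b = t * b' ∧ Ideal.span {a', b'} = ⊤ := by
  by_cases hau : IsUnit a
  · refine ⟨R, inferInstance, inferInstance, ⟨Function.injective_id, inferInstance, 0, ?_⟩,
      1, a, b, one_mem _, ha, hb, (one_mul _).symm, (one_mul _).symm, ?_⟩
    · intro r _ x
      exact ⟨r • x, rfl⟩
    · exact Ideal.eq_top_of_isUnit_mem _ (Ideal.subset_span (by simp)) hau
  have ham : a ∈ maximalIdeal R := (mem_maximalIdeal a).mpr hau
  obtain ⟨c, v, hrel, i₀, hi₀⟩ := exists_unit_relation hR.le b ha ham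
  -- the fraction ring
  let Q := FractionRing R
  let A : Q := algebraMap R Q a
  have hA : IsUnit A := IsLocalization.map_units Q (⟨a, ha⟩ : R⁰)
  have hBu : IsUnit (algebraMap R Q b) := IsLocalization.map_units Q (⟨b, hb⟩ : R⁰)
  let s : Q := IsLocalization.mk' Q b (⟨a, ha⟩ : R⁰)
  have hsA : s * A = algebraMap R Q b := IsLocalization.mk'_spec Q b (⟨a, ha⟩ : R⁰)
  let w : ℕ → R := fun k => if h : k < c + 1 then v ⟨k, h⟩ else 0
  have hw : ∀ i : Fin (c + 1), w i = v i := fun i => by
    simp only [w]; rw [dif_pos i.2]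
  have h0 : horner w s c 0 = 0 := by
    unfold horner
    rw [Nat.sub_zero, Finset.sum_range (fun j => algebraMap R Q (w (0 + j)) * s ^ j)]
    have h1 := congrArg (algebraMap R Q) hrel
    rw [map_sum, map_zero] at h1
    have h2 : ∀ i : Fin (c + 1), algebraMap R Q (v i * (a ^ (c - (i : ℕ)) * b ^ (i : ℕ))) =
        A ^ c * (algebraMap R Q (w (0 + i)) * s ^ (i : ℕ)) := by
      intro i
      have hi : (i : ℕ) ≤ c := by have := i.2; omega
      rw [zero_add, hw, map_mul, map_mul, map_pow, map_pow, ← hsA, mul_pow]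
      have : A ^ c = A ^ (c - (i : ℕ)) * A ^ (i : ℕ) := by rw [← pow_add]; congr 1; omega
      rw [this]
      ring
    rw [Finset.sum_congr rfl (fun i _ => h2 i), ← Finset.mul_sum] at h1
    exact (hA.pow c).mul_right_eq_zero.mp h1
  have hk₀ : (i₀ : ℕ) ≤ c := by have := i₀.2; omega
  have hu : IsUnit (w i₀) := by rw [hw]; exact hi₀
  -- the ring
  let R' := stab (Nc (R := R) s c)
  have hinj : Function.Injective (algebraMap R R') := by
    intro y z hyz
    have : algebraMap R Q y = algebraMap R Q z := congrArg Subtype.val hyz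
    exact IsFractionRing.injective R Q this
  have hfin : Module.Finite R R' := by
    have h1 : (Subalgebra.toSubmodule R').FG :=
      Submodule.FG.of_le (Nc_fg s c) (stab_le (one_mem_Nc s c))
    have h2 : Module.Finite R (Subalgebra.toSubmodule R') := Module.Finite.iff_fg.mpr h1
    exact h2
  -- denominators
  have hden : ∀ y ∈ Nc (R := R) s c, ∃ r : R, A ^ c * y = algebraMap R Q r := by
    intro y hy
    induction hy using Submodule.span_induction with
    | mem x hx =>
      obtain ⟨j, rfl⟩ := hx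
      have hj : (j : ℕ) ≤ c := by have := j.2; omega
      refine ⟨a ^ (c - (j : ℕ)) * b ^ (j : ℕ), ?_⟩
      rw [map_mul, map_pow, map_pow, ← hsA, mul_pow]
      have : A ^ c = A ^ (c - (j : ℕ)) * A ^ (j : ℕ) := by rw [← pow_add]; congr 1; omega
      rw [this]
      ring
    | zero => exact ⟨0, by simp⟩
    | add x y _ _ hx hy =>
      obtain ⟨r1, h1⟩ := hx
      obtain ⟨r2, h2⟩ := hy
      exact ⟨r1 + r2, by rw [mul_add, h1, h2, map_add]⟩
    | smul r x _ hx =>
      obtain ⟨r1, h1⟩ := hx
      exact ⟨r * r1, by rw [mul_smul_comm, h1, Algebra.smul_def, map_mul]⟩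
  haveI := artinian_quot hR.le ha
  obtain ⟨n₁, hn₁⟩ := exists_maximalIdeal_pow_le_of_isArtinianRing_quotient (Ideal.span {a})
  have hkill : ∀ r ∈ maximalIdeal R ^ (n₁ * c), ∀ q : R', r • q ∈ (algebraMap R R').range := by
    intro r hr q
    have h1 : maximalIdeal R ^ (n₁ * c) ≤ Ideal.span {a ^ c} := by
      rw [pow_mul, ← Ideal.span_singleton_pow]
      exact Ideal.pow_right_mono hn₁ c
    obtain ⟨r', rfl⟩ := Ideal.mem_span_singleton'.mp (h1 hr)
    obtain ⟨r₂, hr₂⟩ := hden q (stab_le (one_mem_Nc s c) q.2)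
    refine ⟨r' * r₂, ?_⟩
    apply Subtype.ext
    show algebraMap R Q (r' * r₂) = (r' * a ^ c) • (q : Q)
    rw [map_mul, ← hr₂, Algebra.smul_def, map_mul, map_pow]
    ring
  haveI := hfin
  have hmax := finite_maximal_of_finite (R := R) R'
  obtain ⟨g, hg⟩ := exists_principal h0 hk₀ hu hmax
  -- extract
  have hg1 : g ∈ Submodule.span R' ({1, s} : Set Q) := by
    rw [hg]; exact Submodule.mem_span_singleton_self g
  obtain ⟨p, q, hpq⟩ := Submodule.mem_span_pair.mp hg1
  have h1g : (1 : Q) ∈ Submodule.span R' {g} := by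
    rw [← hg]; exact Submodule.subset_span (by simp)
  have hsg : s ∈ Submodule.span R' {g} := by
    rw [← hg]; exact Submodule.subset_span (by simp)
  obtain ⟨α, hα⟩ := Submodule.mem_span_singleton.mp h1g
  obtain ⟨β, hβ⟩ := Submodule.mem_span_singleton.mp hsg
  rw [Subalgebra.smul_def, smul_eq_mul] at hα hβ
  rw [Subalgebra.smul_def, Subalgebra.smul_def, smul_eq_mul, smul_eq_mul, mul_one] at hpq
  let t : R' := p * algebraMap R R' a + q * algebraMap R R' b
  have ht : (t : Q) = A * g := by
    show (p : Q) * algebraMap R Q a + (q : Q) * algebraMap R Q b = A * g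
    rw [← hpq, ← hsA]
    ring
  have hta : algebraMap R R' a = t * α := by
    apply Subtype.ext
    show A = (t : Q) * (α : Q)
    rw [ht, mul_assoc, mul_comm g, hα, mul_one]
  have htb : algebraMap R R' b = t * β := by
    apply Subtype.ext
    show algebraMap R Q b = (t : Q) * (β : Q)
    rw [ht, mul_assoc, mul_comm g, hβ, ← hsA, mul_comm]
  have hnzd : ∀ z : R', IsUnit (z : Q) → z ∈ R'⁰ := by
    intro z hz
    rw [mem_nonZeroDivisors_iff_right]
    intro y hy
    have h1 : (y : Q) * (z : Q) = 0 := congrArg Subtype.val hy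
    exact Subtype.ext (hz.mul_left_eq_zero.mp h1)
  have htα : IsUnit ((t : Q) * (α : Q)) := by
    have : (t : Q) * (α : Q) = A := (congrArg Subtype.val hta).symm
    rw [this]; exact hA
  have htβ : IsUnit ((t : Q) * (β : Q)) := by
    have : (t : Q) * (β : Q) = algebraMap R Q b := (congrArg Subtype.val htb).symm
    rw [this]; exact hBu
  have hone : p * α + q * β = 1 := by
    apply Subtype.ext
    show (p : Q) * (α : Q) + (q : Q) * (β : Q) = 1
    have h1 : ((p : Q) * (α : Q) + (q : Q) * (β : Q)) * g = g := by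
      rw [add_mul, mul_assoc, mul_assoc, hα, hβ, mul_one]
      exact hpq
    calc (p : Q) * (α : Q) + (q : Q) * (β : Q)
        = ((p : Q) * (α : Q) + (q : Q) * (β : Q)) * g * (α : Q) := by
          rw [mul_assoc, mul_comm g, hα, mul_one]
      _ = g * (α : Q) := by rw [h1]
      _ = 1 := by rw [mul_comm, hα]
  refine ⟨R', inferInstance, inferInstance, ⟨hinj, hfin, n₁ * c, hkill⟩, t, α, β,
    hnzd t (isUnit_of_mul_isUnit_left htα), hnzd α (isUnit_of_mul_isUnit_right htα),
    hnzd β (isUnit_of_mul_isUnit_right htβ), hta, htb, ?_⟩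
  rw [Ideal.eq_top_iff_one, Ideal.mem_span_pair]
  exact ⟨p, q, hone⟩

end Main

end Groth.Agent.Helper7.BlowOne
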