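import Mathlib
import Groth.Agent.Helper7.BlowOneA

set_option autoImplicit false
universe u

/-!
# Semilocal version of the blow-up lemma: generalities

* `isLocalization_subalgebra'`: if `Q` is a localization of `R` at `M ≤ R⁰`, it is a localization
  of any `R`-subalgebra `R' ⊆ Q`.
* `exists_principal'`: principal-ness of `R' + R's` given such a localization structure.
* `exists_coeff_one`: if for every maximal ideal there is a polynomial relation for `s` with a
  coefficient outside it, there is a polynomial relation with a coefficient equal to `1`.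
-/

namespace Groth.Agent.Helper7.BlowOne

open Finset
open scoped Pointwise nonZeroDivisors

section Loc
variable {R : Type u} [CommRing R] {Q : Type u} [CommRing Q] [Algebra R Q]
  (M : Submonoid R) [IsLocalization M Q]

lemma isLocalization_subalgebra' (R' : Subalgebra R Q) :
    IsLocalization (Algebra.algebraMapSubmonoid R' M) Q := by
  rw [isLocalization_iff]
  refine ⟨?_, ?_, ?_⟩
  · rintro ⟨y, r, hr, rfl⟩
    exact IsLocalization.map_units Q (⟨r, hr⟩ : M)
  · intro z
    obtain ⟨⟨r, d⟩, h⟩ := IsLocalization.surj M z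
    exact ⟨(algebraMap R R' r, ⟨algebraMap R R' d, d, d.2, rfl⟩), h⟩
  · intro x y h
    exact ⟨1, by rw [Subtype.ext h]⟩

lemma algebraMapSubmonoid_le' (R' : Subalgebra R Q) :
    Algebra.algebraMapSubmonoid R' M ≤ R'⁰ := by
  rintro _ ⟨r, hr, rfl⟩
  rw [mem_nonZeroDivisors_iff_right]
  intro z hz
  have h1 : (z : Q) * algebraMap R Q r = 0 := congrArg Subtype.val hz
  have h2 : IsUnit (algebraMap R Q r) := IsLocalization.map_units Q (⟨r, hr⟩ : M)
  exact Subtype.ext (h2.mul_left_eq_zero.mp h1)

include M in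
theorem exists_principal' {w : ℕ → R} {s : Q} {c : ℕ} (h0 : horner w s c 0 = 0)
    {k₀ : ℕ} (hk₀ : k₀ ≤ c) (hu : IsUnit (w k₀))
    (hfin : {I : Ideal (stab (Nc (R := R) s c)) | I.IsMaximal}.Finite) :
    ∃ g : Q, Submodule.span (stab (Nc (R := R) s c)) ({1, s} : Set Q) =
      Submodule.span (stab (Nc (R := R) s c)) {g} := by
  haveI := isLocalization_subalgebra' (R := R) (Q := Q) M (stab (Nc (R := R) s c))
  let S := Algebra.algebraMapSubmonoid (stab (Nc (R := R) s c)) M
  let I : FractionalIdeal S Q :=
    ⟨Submodule.span (stab (Nc (R := R) s c)) ({1, s} : Set Q),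
      FractionalIdeal.isFractional_of_fg (Submodule.fg_span (by simp))⟩
  let I' : FractionalIdeal S Q :=
    ⟨Submodule.span (stab (Nc (R := R) s c)) (Set.range fun k : Fin (c + 2) => horner w s c k),
      FractionalIdeal.isFractional_of_fg (Submodule.fg_span (Set.finite_range _))⟩
  have hinv : I * I' = 1 := by
    apply FractionalIdeal.coeToSubmodule_injective
    beta_reduce
    rw [FractionalIdeal.coe_mul, FractionalIdeal.coe_one]
    exact span_mul_span_eq_one h0 hk₀ hu
  have hp := FractionalIdeal.isPrincipal.of_finite_maximals_of_inv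
    (algebraMapSubmonoid_le' M _) hfin I I' hinv
  obtain ⟨g, hg⟩ := hp.principal
  exact ⟨g, hg⟩

end Loc

section Content
variable {B : Type u} [CommRing B] {Q : Type u} [CommRing Q] [Algebra B Q]

/-- the set of coefficients of polynomial relations for `s` is an ideal -/
def contentIdeal (s : Q) : Ideal B where
  carrier := {b | ∃ G : Polynomial B, Polynomial.aeval s G = 0 ∧ ∃ k, G.coeff k = b}
  zero_mem' := ⟨0, by simp, 0, by simp⟩
  add_mem' := by
    rintro b b' ⟨G, hG, k, rfl⟩ ⟨H, hH, j, rfl⟩
    refine ⟨Polynomial.X ^ j * G + Polynomial.X ^ k * H, ?_, k + j, ?_⟩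
    · rw [map_add, map_mul, map_mul, hG, hH, mul_zero, mul_zero, add_zero]
    · rw [Polynomial.coeff_add, Polynomial.coeff_X_pow_mul, add_comm k j,
        Polynomial.coeff_X_pow_mul]
  smul_mem' := by
    rintro r b ⟨G, hG, k, rfl⟩
    refine ⟨Polynomial.C r * G, ?_, k, ?_⟩
    · rw [map_mul, hG, mul_zero]
    · rw [Polynomial.coeff_C_mul, smul_eq_mul]

theorem exists_coeff_one (s : Q)
    (h : ∀ n : Ideal B, n.IsMaximal →
      ∃ G : Polynomial B, Polynomial.aeval s G = 0 ∧ ∃ k, G.coeff k ∉ n) :
    ∃ G : Polynomial B, Polynomial.aeval s G = 0 ∧ ∃ k, G.coeff k = 1 := by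
  have htop : contentIdeal (B := B) s = ⊤ := by
    by_contra hne
    obtain ⟨n, hn, hle⟩ := Ideal.exists_le_maximal _ hne
    obtain ⟨G, hG, k, hk⟩ := h n hn
    exact hk (hle ⟨G, hG, k, rfl⟩)
  have h1 : (1 : B) ∈ contentIdeal (B := B) s := by rw [htop]; trivial
  exact h1

end Content

end Groth.Agent.Helper7.BlowOne
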