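import Mathlib
import Groth.Agent.Helper7.BlowOneC
import Groth.Agent.Helper7.BlowOneE

set_option autoImplicit false
universe u

namespace Groth.Agent.Helper7.BlowOne

open Finset Groth.Agent.Helper7.CanDu
open scoped nonZeroDivisors

section RelN
variable {R : Type u} [CommRing R] [IsNoetherianRing R]

/-- a homogeneous relation between `a, b` with a coefficient outside the maximal ideal `n` -/
theorem exists_relation_not_mem (hR : ringKrullDim R ≤ 1) (n : Ideal R) [hn : n.IsMaximal]
    {a : R} (b : R) (ha : a ∈ R⁰) (ham : a ∈ n) :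
    ∃ (c : ℕ) (v : Fin (c + 1) → R),
      (∑ i, v i * (a ^ (c - (i : ℕ)) * b ^ (i : ℕ)) = 0) ∧ ∃ i, v i ∉ n := by
  classical
  obtain ⟨c, hc⟩ := ENat.ne_top_iff_exists.mp (rl_span_ne_top hR ha)
  refine ⟨c, ?_⟩
  by_contra hcon
  push Not at hcon
  set x : Fin (c + 1) → R := fun i => a ^ (c - (i : ℕ)) * b ^ (i : ℕ) with hx
  set Φ : (Fin (c + 1) → R) →ₗ[R] R := Fintype.linearCombination R x with hΦ
  have hΦa : ∀ v, Φ v = ∑ i, v i * x i := fun v => by
    rw [hΦ, Fintype.linearCombination_apply]; rfl
  set J : Ideal R := LinearMap.range Φ with hJ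
  -- the chain
  let B : ℕ → Submodule R (Fin (c + 1) → R) := fun i =>
    Submodule.pi Set.univ (fun j : Fin (c + 1) => if (j : ℕ) < i then ⊤ else n)
  have hB : ∀ i v, v ∈ B i ↔ ∀ j : Fin (c + 1), i ≤ (j : ℕ) → v j ∈ n := by
    intro i v
    simp only [B, Submodule.mem_pi, Set.mem_univ, true_imp_iff]
    constructor
    · intro h j hj
      have := h j
      rwa [if_neg (by omega)] at this
    · intro h j
      by_cases hj : (j : ℕ) < i
      · rw [if_pos hj]; trivial
      · rw [if_neg hj]; exact h j (by omega)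
  let A : ℕ → Ideal R := fun i => (B i).map Φ
  have hAmono : ∀ i, A i ≤ A (i + 1) := by
    intro i
    apply Submodule.map_mono
    intro v hv
    rw [hB] at hv ⊢
    intro j hj
    exact hv j (by omega)
  have hAtop : A (c + 1) = J := by
    have : B (c + 1) = ⊤ := by
      rw [eq_top_iff]
      intro v _
      rw [hB]
      intro j hj
      exact absurd j.2 (by omega)
    show (B (c + 1)).map Φ = J
    rw [this, Submodule.map_top]
  have hAle : ∀ i, A i ≤ J := fun i => by
    show (B i).map Φ ≤ LinearMap.range Φ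
    exact LinearMap.map_le_range
  -- strictness
  have hstrict : ∀ i, i ≤ c → A i ≠ A (i + 1) := by
    intro i hi heq
    have h1 : x ⟨i, by omega⟩ ∈ A (i + 1) := by
      refine ⟨Pi.single ⟨i, by omega⟩ 1, ?_, ?_⟩
      · rw [SetLike.mem_coe, hB]
        intro j hj
        have : j ≠ ⟨i, by omega⟩ := by
          intro h
          rw [h] at hj
          simp at hj
        rw [Pi.single_eq_of_ne this]
        exact zero_mem _
      · rw [hΦa, Finset.sum_eq_single ⟨i, by omega⟩]
        · simp
        · intro j _ hj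
          rw [Pi.single_eq_of_ne hj, zero_mul]
        · intro h; exact absurd (Finset.mem_univ _) h
    rw [← heq] at h1
    obtain ⟨v, hv, hvx⟩ := h1
    rw [SetLike.mem_coe, hB] at hv
    have h2 : Φ (Pi.single ⟨i, by omega⟩ 1 - v) = 0 := by
      rw [map_sub, hvx, hΦa, Finset.sum_eq_single ⟨i, by omega⟩]
      · simp
      · intro j _ hj
        rw [Pi.single_eq_of_ne hj, zero_mul]
      · intro h; exact absurd (Finset.mem_univ _) h
    rw [hΦa] at h2
    have h3 : ((Pi.single (⟨i, by omega⟩ : Fin (c + 1)) (1 : R) - v : Fin (c + 1) → R))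
        ⟨i, by omega⟩ ∈ n := hcon _ h2 ⟨i, by omega⟩
    have h4 : v ⟨i, by omega⟩ ∈ n := hv ⟨i, by omega⟩ le_rfl
    have h5 : ((Pi.single (⟨i, by omega⟩ : Fin (c + 1)) (1 : R) - v : Fin (c + 1) → R))
        ⟨i, by omega⟩ = 1 - v ⟨i, by omega⟩ := by
      simp
    rw [h5] at h3
    have h8 : (1 : R) ∈ n := by
      have := n.add_mem h3 h4
      simpa using this
    exact (Ideal.ne_top_iff_one _).mp hn.ne_top h8
  have hchain : ∀ i, i ≤ c + 1 → (i : ℕ∞) ≤ rl (A 0) (A i) := by
    intro i
    induction i with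
    | zero => intro _; simp
    | succ i ih =>
      intro hi
      have h1 := ih (by omega)
      have hle : A 0 ≤ A i := by
        clear h1 ih hi
        induction i with
        | zero => exact le_rfl
        | succ i ih => exact ih.trans (hAmono i)
      rw [rl_add hle (hAmono i)]
      have h2 : rl (A i) (A (i + 1)) ≠ 0 := by
        rw [Ne, rl_eq_zero_iff (hAmono i)]
        exact hstrict i (by omega)
      have h3 : (1 : ℕ∞) ≤ rl (A i) (A (i + 1)) := Order.one_le_iff_ne_zero.mpr h2
      push_cast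
      exact add_le_add h1 h3
  have hfinal := hchain (c + 1) le_rfl
  rw [hAtop] at hfinal
  -- the upper bound
  let e : R →ₗ[R] R := LinearMap.lsmul R R a
  have he : Function.Injective e := by
    intro y z hyz
    have : a * y = a * z := hyz
    exact (mul_cancel_left_mem_nonZeroDivisors ha).mp this
  have haJ_le_A0 : Submodule.map e J ≤ A 0 := by
    rintro _ ⟨_, ⟨v, rfl⟩, rfl⟩
    refine ⟨a • v, ?_, ?_⟩
    · rw [SetLike.mem_coe, hB]
      intro j _
      exact Ideal.mul_mem_right _ _ ham
    · rw [map_smul]; rfl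
  have haJ_le_J : Submodule.map e J ≤ J := haJ_le_A0.trans (hAle 0)
  have haR : Submodule.map e (⊤ : Ideal R) = Ideal.span {a} := by
    ext y
    rw [Ideal.mem_span_singleton']
    constructor
    · rintro ⟨z, -, rfl⟩; exact ⟨z, mul_comm _ _⟩
    · rintro ⟨z, rfl⟩; exact ⟨z, trivial, mul_comm _ _⟩
  have hacJ : Ideal.span {a ^ c} ≤ J := by
    rw [Ideal.span_le, Set.singleton_subset_iff]
    refine ⟨Pi.single 0 1, ?_⟩
    rw [hΦa, Finset.sum_eq_single 0]
    · simp [hx]
    · intro j _ hj
      rw [Pi.single_eq_of_ne hj, zero_mul]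
    · intro h; exact absurd (Finset.mem_univ _) h
  have hJfin : rl J ⊤ ≠ ⊤ := by
    have h1 : rl J ⊤ ≤ rl (Ideal.span {a ^ c}) (⊤ : Ideal R) := rl_le_left hacJ le_top
    have h2 := rl_span_ne_top hR (pow_mem ha c)
    exact ne_top_of_le_ne_top h2 h1
  have hkey : rl (Submodule.map e J) J = c := by
    have h1 : rl (Submodule.map e J) ⊤ = rl (Submodule.map e J) J + rl J ⊤ := rl_add haJ_le_J le_top
    have h2 : rl (Submodule.map e J) ⊤ = rl (Submodule.map e J) (Submodule.map e (⊤ : Ideal R)) + rl (Submodule.map e (⊤ : Ideal R)) ⊤ :=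
      rl_add (Submodule.map_mono le_top) le_top
    rw [rl_map e he, haR, ← hc] at h2
    rw [h2, add_comm] at h1
    obtain ⟨n, hn⟩ := ENat.ne_top_iff_exists.mp hJfin
    rw [← hn] at h1
    exact (ENat.add_left_injective_of_ne_top (ENat.natCast_ne_top n) h1).symm
  have hub : rl (A 0) J ≤ c := by
    rw [← hkey]
    exact rl_le_left haJ_le_A0 (hAle 0)
  have : ((c + 1 : ℕ) : ℕ∞) ≤ (c : ℕ∞) := hfinal.trans hub
  have : c + 1 ≤ c := by exact_mod_cast this
  omega

end RelN


section Poly
variable {B : Type u} [CommRing B] [IsNoetherianRing B] {Q : Type u} [CommRing Q] [Algebra B Q]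

/-- for `s = y / x` there is a polynomial relation over `B` with a coefficient equal to `1` -/
theorem exists_poly_coeff_one (hB : ringKrullDim B ≤ 1) {x y : B} (hx : x ∈ B⁰)
    (hX : IsUnit (algebraMap B Q x)) (s : Q) (hs : s * algebraMap B Q x = algebraMap B Q y) :
    ∃ G : Polynomial B, Polynomial.aeval s G = 0 ∧ ∃ k, G.coeff k = 1 := by
  classical
  apply exists_coeff_one
  intro n hn
  by_cases hxn : x ∈ n
  · obtain ⟨c, v, hrel, i₀, hi₀⟩ := exists_relation_not_mem hB n y hx hxn
    refine ⟨∑ i : Fin (c + 1), Polynomial.monomial (i : ℕ) (v i), ?_, (i₀ : ℕ), ?_⟩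
    · rw [map_sum]
      simp only [Polynomial.aeval_monomial]
      have h1 := congrArg (algebraMap B Q) hrel
      rw [map_sum, map_zero] at h1
      have h2 : ∀ i : Fin (c + 1), algebraMap B Q (v i * (x ^ (c - (i : ℕ)) * y ^ (i : ℕ))) =
          algebraMap B Q x ^ c * (algebraMap B Q (v i) * s ^ (i : ℕ)) := by
        intro i
        have hi : (i : ℕ) ≤ c := by have := i.2; omega
        rw [map_mul, map_mul, map_pow, map_pow, ← hs, mul_pow]
        have : algebraMap B Q x ^ c =
            algebraMap B Q x ^ (c - (i : ℕ)) * algebraMap B Q x ^ (i : ℕ) := by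
          rw [← pow_add]; congr 1; omega
        rw [this]
        ring
      rw [Finset.sum_congr rfl (fun i _ => h2 i), ← Finset.mul_sum] at h1
      exact (hX.pow c).mul_right_eq_zero.mp h1
    · rw [Polynomial.finsetSum_coeff]
      simp only [Polynomial.coeff_monomial]
      rw [Finset.sum_eq_single i₀]
      · rw [if_pos rfl]; exact hi₀
      · intro j _ hj
        rw [if_neg]
        intro h
        exact hj (Fin.ext h)
      · intro h; exact absurd (Finset.mem_univ _) h
  · refine ⟨Polynomial.C x * Polynomial.X - Polynomial.C y, ?_, 1, ?_⟩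
    · rw [map_sub, map_mul, Polynomial.aeval_C, Polynomial.aeval_C, Polynomial.aeval_X,
        mul_comm, hs, sub_self]
    · rw [Polynomial.coeff_sub, Polynomial.coeff_C_mul, Polynomial.coeff_X_one, mul_one,
        Polynomial.coeff_C, if_neg one_ne_zero, sub_zero]
      exact hxn

end Poly

end Groth.Agent.Helper7.BlowOne
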