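import Mathlib
import Groth.Agent.Helper7.BlowOneD
import Groth.Agent.Helper7.BlowOneF

set_option autoImplicit false
universe u

namespace Groth.Agent.Helper7.BlowOne

open Finset IsLocalRing
open scoped nonZeroDivisors

section Dim
variable {R S : Type*} [CommRing R] [CommRing S] [Algebra R S] [Algebra.IsIntegral R S]

theorem ringKrullDim_le_of_isIntegral' : ringKrullDim S ≤ ringKrullDim R := by
  apply Order.krullDim_le_of_strictMono (PrimeSpectrum.comap (algebraMap R S))
  intro P Q hPQ
  have h : P.asIdeal < Q.asIdeal := hPQ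
  have := Ideal.IsIntegral.comap_lt_comap (R := R) h
  exact this

end Dim

section Blow
variable {A : Type u} [CommRing A] [IsNoetherianRing A] [IsLocalRing A]
  {Q : Type u} [CommRing Q] [Algebra A Q] [IsFractionRing A Q]

/-- semilocal blow-up: for a finite `A`-subalgebra `B` of `Q = Frac A` and `x, y ∈ B` with `x`
regular, there is a bigger finite subalgebra in which `(x, y)` becomes principal. -/
theorem exists_blowup (hA : ringKrullDim A ≤ 1) (B : Subalgebra A Q)
    (hB : (Subalgebra.toSubmodule B).FG) {x y : Q} (hx : x ∈ B) (hy : y ∈ B) (hxu : IsUnit x) :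
    ∃ B' : Subalgebra A Q, B ≤ B' ∧ (Subalgebra.toSubmodule B').FG ∧
      ∃ t x' y' p q : Q, t ∈ B' ∧ x' ∈ B' ∧ y' ∈ B' ∧ p ∈ B' ∧ q ∈ B' ∧
        x = t * x' ∧ y = t * y' ∧ p * x' + q * y' = 1 := by
  haveI hBfin : Module.Finite A B := by
    have h2 : Module.Finite A (Subalgebra.toSubmodule B) := Module.Finite.iff_fg.mpr hB
    exact h2
  haveI : IsNoetherianRing B := IsNoetherianRing.of_finite A B
  haveI : Algebra.IsIntegral A B := Algebra.IsIntegral.of_finite A B
  have hdimB : ringKrullDim B ≤ 1 := (ringKrullDim_le_of_isIntegral' (R := A) (S := B)).trans hA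
  haveI : Nontrivial Q := (IsFractionRing.injective A Q).nontrivial
  let xB : B := ⟨x, hx⟩
  let yB : B := ⟨y, hy⟩
  have hxB : xB ∈ (B : Type u)⁰ := by
    rw [mem_nonZeroDivisors_iff_right]
    intro z hz
    have h1 : (z : Q) * x = 0 := congrArg Subtype.val hz
    exact Subtype.ext (hxu.mul_left_eq_zero.mp h1)
  obtain ⟨u, hu⟩ := hxu
  let s : Q := y * (↑u⁻¹ : Q)
  have hs : s * algebraMap B Q xB = algebraMap B Q yB := by
    show y * (↑u⁻¹ : Q) * x = y
    rw [← hu, mul_assoc, Units.inv_mul, mul_one]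
  have hX : IsUnit (algebraMap B Q xB) := ⟨u, hu⟩
  obtain ⟨G, hG, k, hk⟩ := exists_poly_coeff_one hdimB hxB hX s hs
  let w : ℕ → B := fun j => G.coeff j
  let c := G.natDegree
  have h0 : horner w s c 0 = 0 := by
    unfold horner
    rw [Nat.sub_zero, ← hG, Polynomial.aeval_eq_sum_range]
    apply Finset.sum_congr rfl
    intro j _
    rw [zero_add, Algebra.smul_def]
  have hk₀ : k ≤ c := by
    apply Polynomial.le_natDegree_of_ne_zero
    rw [hk]
    exact one_ne_zero
  have hu1 : IsUnit (w k) := by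
    show IsUnit (G.coeff k)
    rw [hk]; exact isUnit_one
  -- the ring
  let R'' := stab (Nc (R := B) s c)
  have hfinB : Module.Finite B R'' := by
    have h1 : (Subalgebra.toSubmodule R'').FG :=
      Submodule.FG.of_le (Nc_fg s c) (stab_le (one_mem_Nc s c))
    have h2 : Module.Finite B (Subalgebra.toSubmodule R'') := Module.Finite.iff_fg.mpr h1
    exact h2
  haveI hfinA : Module.Finite A R'' := Module.Finite.trans B R''
  have hmax := finite_maximal_of_finite (R := A) R''
  haveI := isLocalization_subalgebra' (R := A) (Q := Q) A⁰ B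
  obtain ⟨g, hg⟩ := exists_principal' (R := B) (Algebra.algebraMapSubmonoid B A⁰) h0 hk₀ hu1 hmax
  -- extract
  have hg1 : g ∈ Submodule.span R'' ({1, s} : Set Q) := by
    rw [hg]; exact Submodule.mem_span_singleton_self g
  obtain ⟨p, q, hpq⟩ := Submodule.mem_span_pair.mp hg1
  have h1g : (1 : Q) ∈ Submodule.span R'' {g} := by
    rw [← hg]; exact Submodule.subset_span (by simp)
  have hsg : s ∈ Submodule.span R'' {g} := by
    rw [← hg]; exact Submodule.subset_span (by simp)
  obtain ⟨α, hα⟩ := Submodule.mem_span_singleton.mp h1g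
  obtain ⟨β, hβ⟩ := Submodule.mem_span_singleton.mp hsg
  rw [Subalgebra.smul_def, smul_eq_mul] at hα hβ
  rw [Subalgebra.smul_def, Subalgebra.smul_def, smul_eq_mul, smul_eq_mul, mul_one] at hpq
  have hsx : s * x = y := hs
  have hxR : x ∈ R'' := R''.algebraMap_mem xB
  have hyR : y ∈ R'' := R''.algebraMap_mem yB
  have ht : (p : Q) * x + (q : Q) * y = x * g := by
    rw [← hpq, ← hsx]; ring
  have hFG : (Subalgebra.toSubmodule (R''.restrictScalars A)).FG := by
    have h2 : Module.Finite A (Subalgebra.toSubmodule (R''.restrictScalars A)) := hfinA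
    exact Module.Finite.iff_fg.mp h2
  refine ⟨R''.restrictScalars A, ?_, hFG, (p : Q) * x + (q : Q) * y, α, β, p, q,
    ?_, α.2, β.2, p.2, q.2, ?_, ?_, ?_⟩
  · intro b hb
    exact R''.algebraMap_mem ⟨b, hb⟩
  · exact R''.add_mem (R''.mul_mem p.2 hxR) (R''.mul_mem q.2 hyR)
  · rw [ht, mul_assoc, mul_comm g, hα, mul_one]
  · rw [ht, mul_assoc, mul_comm g, hβ, ← hsx, mul_comm]
  · have h1 : ((p : Q) * (α : Q) + (q : Q) * (β : Q)) * g = g := by
      rw [add_mul, mul_assoc, mul_assoc, hα, hβ, mul_one]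
      exact hpq
    calc (p : Q) * (α : Q) + (q : Q) * (β : Q)
        = ((p : Q) * (α : Q) + (q : Q) * (β : Q)) * g * (α : Q) := by
          rw [mul_assoc, mul_comm g, hα, mul_one]
      _ = g * (α : Q) := by rw [h1]
      _ = 1 := by rw [mul_comm, hα]

end Blow

end Groth.Agent.Helper7.BlowOne
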