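import Mathlib
import Groth.Agent.Helper7.BlowOneC

set_option autoImplicit false
universe u

/-!
# Degrees `ℓ_A(C / zC)` of regular elements of finite subalgebras `C ⊆ Frac A`
-/

namespace Groth.Agent.Helper7.BlowOne

open Finset Groth.Agent.Helper7.CanDu
open scoped nonZeroDivisors

section Len
variable {A : Type u} [CommRing A] [IsNoetherianRing A]

lemma length_quot_span_ne_top (hA : ringKrullDim A ≤ 1) {d : A} (hd : d ∈ A⁰) :
    Module.length A (A ⧸ Ideal.span {d}) ≠ ⊤ := by
  have := rl_span_ne_top hA hd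
  rwa [rl_top'] at this

/-- a finite module killed by a non-zero-divisor has finite length (dimension `≤ 1`) -/
lemma length_ne_top_of_smul_zero (hA : ringKrullDim A ≤ 1) {M : Type u} [AddCommGroup M]
    [Module A M] [Module.Finite A M] {d : A} (hd : d ∈ A⁰) (h : ∀ m : M, d • m = 0) :
    Module.length A M ≠ ⊤ := by
  classical
  obtain ⟨n, f, hf⟩ := Module.Finite.exists_fin (R := A) (M := M)
  have hker : ∀ i, Ideal.span {d} ≤ LinearMap.ker (LinearMap.toSpanSingleton A M (f i)) := by
    intro i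
    rw [Ideal.span_le, Set.singleton_subset_iff]
    show (LinearMap.toSpanSingleton A M (f i)) d = 0
    rw [LinearMap.toSpanSingleton_apply]
    exact h _
  let ψ : (Fin n → A ⧸ Ideal.span {d}) →ₗ[A] M :=
    ∑ i, ((Ideal.span {d}).liftQ (LinearMap.toSpanSingleton A M (f i)) (hker i)).comp
      (LinearMap.proj i)
  have hψ : Function.Surjective ψ := by
    intro m
    have hm : m ∈ Submodule.span A (Set.range f) := by rw [hf]; trivial
    obtain ⟨r, hr⟩ := (Submodule.mem_span_range_iff_exists_fun A).mp hm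
    refine ⟨fun i => Ideal.Quotient.mk _ (r i), ?_⟩
    rw [← hr]
    simp only [ψ, LinearMap.sum_apply, LinearMap.comp_apply, LinearMap.proj_apply]
    apply Finset.sum_congr rfl
    intro i _
    show (Ideal.span {d}).liftQ (LinearMap.toSpanSingleton A M (f i)) (hker i)
      (Submodule.Quotient.mk (r i)) = _
    rw [Submodule.liftQ_apply, LinearMap.toSpanSingleton_apply]
  have h1 := Module.length_le_of_surjective ψ hψ
  have h2 : Module.length A (Fin n → A ⧸ Ideal.span {d}) ≠ ⊤ := by
    rw [Module.length_pi_of_fintype]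
    simp only [Finset.sum_const, Finset.card_univ, Fintype.card_fin, nsmul_eq_mul]
    exact WithTop.mul_ne_top (ENat.natCast_ne_top n) (length_quot_span_ne_top hA hd)
  exact ne_top_of_le_ne_top h2 h1

end Len

section Deg
variable {A : Type u} [CommRing A] [IsNoetherianRing A]
  {Q : Type u} [CommRing Q] [Algebra A Q] [IsFractionRing A Q]

lemma rl_ne_top_of_smul_le (hA : ringKrullDim A ≤ 1) {L L' : Submodule A Q} (hL' : L'.FG)
    {r : A} (hr : r ∈ A⁰) (h : ∀ y ∈ L', r • y ∈ L) : rl L L' ≠ ⊤ := by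
  rw [rl_def]
  haveI : Module.Finite A L' := Module.Finite.iff_fg.mpr hL'
  refine length_ne_top_of_smul_zero hA hr ?_
  intro m
  obtain ⟨y, rfl⟩ := Submodule.Quotient.mk_surjective _ m
  rw [← Submodule.Quotient.mk_smul, Submodule.Quotient.mk_eq_zero]
  exact h y.1 y.2

/-- a unit of `Frac A` is a quotient of two regular elements -/
lemma exists_regular_of_isUnit {z : Q} (hz : IsUnit z) :
    ∃ r ∈ A⁰, ∃ d ∈ A⁰, z * algebraMap A Q d = algebraMap A Q r := by
  obtain ⟨⟨r, d⟩, h⟩ := IsLocalization.surj A⁰ z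
  refine ⟨r, ?_, d, d.2, h⟩
  rw [mem_nonZeroDivisors_iff_right]
  intro a ha
  have h1 : algebraMap A Q a * algebraMap A Q r = 0 := by rw [← map_mul, ha, map_zero]
  rw [← h, ← mul_assoc] at h1
  have hd : IsUnit (algebraMap A Q (d : A)) := IsLocalization.map_units Q d
  have h2 : algebraMap A Q a * z = 0 := hd.mul_left_eq_zero.mp h1
  have h3 : algebraMap A Q a = 0 := hz.mul_left_eq_zero.mp h2
  exact (IsFractionRing.injective A Q) (by rw [h3, map_zero])

/-- the lattice `z C` -/
def zC (z : Q) (C : Subalgebra A Q) : Submodule A Q :=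
  (Subalgebra.toSubmodule C).map (LinearMap.mulLeft A z)

lemma mem_zC {z : Q} {C : Subalgebra A Q} {y : Q} : y ∈ zC z C ↔ ∃ c ∈ C, z * c = y := by
  unfold zC
  rw [Submodule.mem_map]
  rfl

lemma zC_le {z : Q} {C : Subalgebra A Q} (hz : z ∈ C) : zC z C ≤ Subalgebra.toSubmodule C := by
  intro y hy
  obtain ⟨c, hc, rfl⟩ := mem_zC.mp hy
  exact C.mul_mem hz hc

lemma mulLeft_injective {z : Q} (hz : IsUnit z) : Function.Injective (LinearMap.mulLeft A z) := by
  intro a b hab
  exact hz.mul_left_cancel hab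

lemma zC_mul (z z' : Q) (C : Subalgebra A Q) :
    zC (z * z') C = (zC z' C).map (LinearMap.mulLeft A z) := by
  unfold zC
  rw [← Submodule.map_comp]
  congr 1
  ext y
  simp

/-- `ℓ_A(C / zC)` as a natural number -/
noncomputable def deg (C : Subalgebra A Q) (z : Q) : ℕ := (rl (zC z C) (Subalgebra.toSubmodule C)).toNat

lemma rl_zC_ne_top (hA : ringKrullDim A ≤ 1) {C : Subalgebra A Q}
    (hC : (Subalgebra.toSubmodule C).FG) {z : Q} (hzu : IsUnit z) :
    rl (zC z C) (Subalgebra.toSubmodule C) ≠ ⊤ := by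
  obtain ⟨r, hr, d, hd, h⟩ := exists_regular_of_isUnit (A := A) hzu
  refine rl_ne_top_of_smul_le hA hC hr ?_
  intro y hy
  rw [mem_zC]
  refine ⟨d • y, C.smul_mem hy d, ?_⟩
  rw [Algebra.smul_def, Algebra.smul_def, ← mul_assoc, mul_comm z, ← h]
  ring

lemma coe_deg (hA : ringKrullDim A ≤ 1) {C : Subalgebra A Q}
    (hC : (Subalgebra.toSubmodule C).FG) {z : Q} (hzu : IsUnit z) :
    (deg C z : ℕ∞) = rl (zC z C) (Subalgebra.toSubmodule C) :=
  ENat.natCast_toNat (rl_zC_ne_top hA hC hzu)

/-- a bigger finite subalgebra has finite colength -/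
lemma rl_subalgebra_ne_top (hA : ringKrullDim A ≤ 1) {C C' : Subalgebra A Q}
    (hC' : (Subalgebra.toSubmodule C').FG) :
    rl (Subalgebra.toSubmodule C) (Subalgebra.toSubmodule C') ≠ ⊤ := by
  classical
  obtain ⟨T, hT⟩ := hC'
  obtain ⟨b, hb⟩ := IsLocalization.exist_integer_multiples_of_finset A⁰ T
  refine rl_ne_top_of_smul_le hA ⟨T, hT⟩ b.2 ?_
  intro y hy
  rw [← hT] at hy
  induction hy using Submodule.span_induction with
  | mem x hx =>
    obtain ⟨a, ha⟩ := hb x hx
    have : (b : A) • x = algebraMap A Q a := ha.symm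
    rw [this]
    exact C.algebraMap_mem a
  | zero => rw [smul_zero]; exact zero_mem _
  | add x y _ _ hx hy => rw [smul_add]; exact add_mem hx hy
  | smul r x _ hx => rw [smul_comm]; exact Submodule.smul_mem _ _ hx

/-- invariance of the degree under finite extension of the ring -/
lemma deg_ext (hA : ringKrullDim A ≤ 1) {C C' : Subalgebra A Q} (hCC' : C ≤ C')
    (hC' : (Subalgebra.toSubmodule C').FG) {z : Q} (hz : z ∈ C) (hzu : IsUnit z) :
    deg C' z = deg C z := by
  unfold deg
  congr 1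
  have hle : Subalgebra.toSubmodule C ≤ Subalgebra.toSubmodule C' := hCC'
  have h1 : rl (zC z C) (Subalgebra.toSubmodule C') =
      rl (zC z C) (Subalgebra.toSubmodule C) + rl (Subalgebra.toSubmodule C) (Subalgebra.toSubmodule C') :=
    rl_add (zC_le hz) hle
  have h2 : rl (zC z C) (Subalgebra.toSubmodule C') =
      rl (zC z C) (zC z C') + rl (zC z C') (Subalgebra.toSubmodule C') :=
    rl_add (Submodule.map_mono hle) (zC_le (hCC' hz))
  have h3 : rl (zC z C) (zC z C') = rl (Subalgebra.toSubmodule C) (Subalgebra.toSubmodule C') :=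
    rl_map _ (mulLeft_injective hzu) _ _
  rw [h3, h1, add_comm] at h2
  obtain ⟨n, hn⟩ := ENat.ne_top_iff_exists.mp (rl_subalgebra_ne_top (C := C) hA hC')
  rw [← hn] at h2
  exact (ENat.add_right_injective_of_ne_top (ENat.natCast_ne_top n) h2).symm

/-- additivity of the degree -/
lemma deg_mul (hA : ringKrullDim A ≤ 1) {C : Subalgebra A Q}
    (hC : (Subalgebra.toSubmodule C).FG) {z z' : Q} (hz : z ∈ C) (hz' : z' ∈ C)
    (hzu : IsUnit z) (hzu' : IsUnit z') : deg C (z * z') = deg C z + deg C z' := by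
  have h1 : rl (zC (z * z') C) (Subalgebra.toSubmodule C) =
      rl (zC (z * z') C) (zC z C) + rl (zC z C) (Subalgebra.toSubmodule C) := by
    refine rl_add ?_ (zC_le hz)
    rw [zC_mul]
    exact Submodule.map_mono (zC_le hz')
  have h2 : rl (zC (z * z') C) (zC z C) = rl (zC z' C) (Subalgebra.toSubmodule C) := by
    rw [zC_mul]
    exact rl_map _ (mulLeft_injective hzu) _ _
  rw [h2, ← coe_deg hA hC (hzu.mul hzu'), ← coe_deg hA hC hzu, ← coe_deg hA hC hzu'] at h1
  have : deg C (z * z') = deg C z' + deg C z := by exact_mod_cast h1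
  omega

/-- degree zero means invertible in `C` -/
lemma exists_inv_of_deg_eq_zero (hA : ringKrullDim A ≤ 1) {C : Subalgebra A Q}
    (hC : (Subalgebra.toSubmodule C).FG) {z : Q} (hz : z ∈ C) (hzu : IsUnit z)
    (h : deg C z = 0) : ∃ w ∈ C, z * w = 1 := by
  have h1 : rl (zC z C) (Subalgebra.toSubmodule C) = 0 := by
    rw [← coe_deg hA hC hzu, h]; rfl
  rw [rl_eq_zero_iff (zC_le hz)] at h1
  have h2 : (1 : Q) ∈ zC z C := by rw [h1]; exact C.one_mem
  exact mem_zC.mp h2

end Deg

end Groth.Agent.Helper7.BlowOne
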