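import Mathlib
import Groth.Agent.Helper7.BlowOneG
import Groth.Agent.Helper7.BlowOneH

set_option autoImplicit false
universe u

/-!
# Making a finite family of regular elements pairwise comaximal by repeated blow-ups
-/

namespace Groth.Agent.Helper7.BlowOne

open Finset IsLocalRing
open scoped nonZeroDivisors

section Ind
variable {A : Type u} [CommRing A] [IsNoetherianRing A] [IsLocalRing A]
  {Q : Type u} [CommRing Q] [Algebra A Q] [IsFractionRing A Q]

/-- `S` is a finite set of regular elements of the finite subalgebra `C` -/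
def Good (C : Subalgebra A Q) (S : Finset Q) : Prop :=
  (Subalgebra.toSubmodule C).FG ∧ ∀ z ∈ S, z ∈ C ∧ IsUnit z

/-- total degree -/
noncomputable def mu (C : Subalgebra A Q) (S : Finset Q) : ℕ := ∑ z ∈ S, deg C z

/-- pairwise comaximality inside `C` -/
def Comax (C : Subalgebra A Q) (S : Finset Q) : Prop :=
  ∀ z ∈ S, ∀ z' ∈ S, z ≠ z' → ∃ p ∈ C, ∃ q ∈ C, p * z + q * z' = 1

omit [IsNoetherianRing A] [IsLocalRing A] [IsFractionRing A Q] in
/-- lying over: a non-comaximal pair stays non-comaximal in a finite extension -/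
lemma not_unit_of_bad {C C₁ : Subalgebra A Q} (hCC₁ : C ≤ C₁)
    (hC₁ : (Subalgebra.toSubmodule C₁).FG) {z z' : Q} (hz : z ∈ C) (hz' : z' ∈ C)
    (hbad : ∀ p ∈ C, ∀ q ∈ C, p * z + q * z' ≠ 1)
    {t p q : Q} (ht : t ∈ C₁) (hp : p ∈ C₁) (hq : q ∈ C₁) (hpq : t = p * z + q * z') :
    ¬ ∃ w ∈ C₁, t * w = 1 := by
  rintro ⟨w, hw, htw⟩
  haveI : Module.Finite A C₁ := by
    have h2 : Module.Finite A (Subalgebra.toSubmodule C₁) := Module.Finite.iff_fg.mpr hC₁
    exact h2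
  letI : Algebra C C₁ := (Subalgebra.inclusion hCC₁).toRingHom.toAlgebra
  haveI : IsScalarTower A C C₁ := IsScalarTower.of_algebraMap_eq (fun a => rfl)
  haveI : Algebra.IsIntegral A C₁ := Algebra.IsIntegral.of_finite A C₁
  haveI : Algebra.IsIntegral C C₁ := Algebra.IsIntegral.tower_top (R := A)
  let I : Ideal C := Ideal.span {⟨z, hz⟩, ⟨z', hz'⟩}
  have hI : I ≠ ⊤ := by
    intro h
    have h1 : (1 : C) ∈ I := by rw [h]; trivial
    obtain ⟨p', q', h2⟩ := Ideal.mem_span_pair.mp h1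
    have h3 : (p' : Q) * z + (q' : Q) * z' = 1 := congrArg Subtype.val h2
    exact hbad p' p'.2 q' q'.2 h3
  obtain ⟨n, hn, hIn⟩ := Ideal.exists_le_maximal I hI
  have hker : RingHom.ker (algebraMap C C₁) ≤ n := by
    intro x hx
    have h1 : (algebraMap C C₁) x = 0 := hx
    have h2 : (x : Q) = 0 := congrArg Subtype.val h1
    have h3 : x = 0 := Subtype.ext h2
    rw [h3]; exact zero_mem _
  obtain ⟨n₁, hn₁, hover⟩ := Ideal.exists_ideal_over_maximal_of_isIntegral (S := C₁) n hker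
  have hzn : algebraMap C C₁ ⟨z, hz⟩ ∈ n₁ := by
    have : (⟨z, hz⟩ : C) ∈ n₁.comap (algebraMap C C₁) := by
      rw [hover]; exact hIn (Ideal.subset_span (by simp))
    exact this
  have hzn' : algebraMap C C₁ ⟨z', hz'⟩ ∈ n₁ := by
    have : (⟨z', hz'⟩ : C) ∈ n₁.comap (algebraMap C C₁) := by
      rw [hover]; exact hIn (Ideal.subset_span (by simp))
    exact this
  have htn : (⟨t, ht⟩ : C₁) ∈ n₁ := by
    have h1 : (⟨t, ht⟩ : C₁) = ⟨p, hp⟩ * algebraMap C C₁ ⟨z, hz⟩ + ⟨q, hq⟩ * algebraMap C C₁ ⟨z', hz'⟩ :=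
      Subtype.ext hpq
    rw [h1]
    exact n₁.add_mem (n₁.mul_mem_left _ hzn) (n₁.mul_mem_left _ hzn')
  have h1n : (1 : C₁) ∈ n₁ := by
    have h1 : (1 : C₁) = ⟨t, ht⟩ * ⟨w, hw⟩ := Subtype.ext htw.symm
    rw [h1]
    exact n₁.mul_mem_right _ htn
  exact (Ideal.ne_top_iff_one _).mp hn₁.ne_top h1n

omit [IsNoetherianRing A] [IsLocalRing A] [IsFractionRing A Q] in
lemma sum_insert_le' (f : Q → ℕ) (a : Q) (s : Finset Q) [DecidableEq Q] :
    ∑ w ∈ insert a s, f w ≤ f a + ∑ w ∈ s, f w := by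
  by_cases ha : a ∈ s
  · rw [Finset.insert_eq_of_mem ha]; omega
  · rw [Finset.sum_insert ha]

/-- one blow-up step -/
lemma step (hA : ringKrullDim A ≤ 1) {C : Subalgebra A Q} {S : Finset Q} (hG : Good C S)
    (hbad : ¬ Comax C S) :
    ∃ (C₁ : Subalgebra A Q) (S₁ : Finset Q), C ≤ C₁ ∧ Good C₁ S₁ ∧
      (S : Set Q) ⊆ Submonoid.closure (S₁ : Set Q) ∧ mu C₁ S₁ + 1 ≤ mu C S := by
  classical
  unfold Comax at hbad
  push Not at hbad
  obtain ⟨z, hzS, z', hzS', hne, hbad⟩ := hbad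
  obtain ⟨hz, hzu⟩ := hG.2 z hzS
  obtain ⟨hz', hzu'⟩ := hG.2 z' hzS'
  obtain ⟨C₁, hCC₁, hC₁, t, x', y', p, q, ht, hx', hy', hp, hq, hzt, hzt', hpq⟩ :=
    exists_blowup hA C hG.1 hz hz' hzu
  have htu : IsUnit t := isUnit_of_mul_isUnit_left (hzt ▸ hzu)
  have hxu' : IsUnit x' := isUnit_of_mul_isUnit_right (hzt ▸ hzu)
  have hyu' : IsUnit y' := isUnit_of_mul_isUnit_right (hzt' ▸ hzu')
  let S₁ : Finset Q := ((S.erase z).erase z') ∪ {t, x', y'}
  have hG₁ : Good C₁ S₁ := by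
    refine ⟨hC₁, ?_⟩
    intro w hw
    rw [Finset.mem_union] at hw
    rcases hw with hw | hw
    · have hwS : w ∈ S := Finset.mem_of_mem_erase (Finset.mem_of_mem_erase hw)
      exact ⟨hCC₁ (hG.2 w hwS).1, (hG.2 w hwS).2⟩
    · simp only [Finset.mem_insert, Finset.mem_singleton] at hw
      rcases hw with rfl | rfl | rfl
      · exact ⟨ht, htu⟩
      · exact ⟨hx', hxu'⟩
      · exact ⟨hy', hyu'⟩
  have hcl : (S : Set Q) ⊆ Submonoid.closure (S₁ : Set Q) := by
    intro w hw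
    have hw' : w ∈ S := hw
    have htS : t ∈ (S₁ : Set Q) := by simp [S₁]
    have hxS : x' ∈ (S₁ : Set Q) := by simp [S₁]
    have hyS : y' ∈ (S₁ : Set Q) := by simp [S₁]
    by_cases h1 : w = z
    · rw [h1, hzt]
      exact mul_mem (Submonoid.subset_closure htS) (Submonoid.subset_closure hxS)
    by_cases h2 : w = z'
    · rw [h2, hzt']
      exact mul_mem (Submonoid.subset_closure htS) (Submonoid.subset_closure hyS)
    apply Submonoid.subset_closure
    show w ∈ S₁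
    rw [Finset.mem_union]
    left
    exact Finset.mem_erase.mpr ⟨h2, Finset.mem_erase.mpr ⟨h1, hw'⟩⟩
  refine ⟨C₁, S₁, hCC₁, hG₁, hcl, ?_⟩
  -- the measure
  have htpos : 1 ≤ deg C₁ t := by
    by_contra h
    have h0 : deg C₁ t = 0 := by omega
    have := exists_inv_of_deg_eq_zero hA hC₁ ht htu h0
    have htpq : t = p * z + q * z' := by
      rw [hzt, hzt']
      calc t = t * (p * x' + q * y') := by rw [hpq, mul_one]
        _ = p * (t * x') + q * (t * y') := by ring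
    exact not_unit_of_bad hCC₁ hC₁ hz hz' hbad ht hp hq htpq this
  have hmuS : mu C S = ∑ w ∈ S, deg C₁ w := by
    unfold mu
    apply Finset.sum_congr rfl
    intro w hw
    exact (deg_ext hA hCC₁ hC₁ (hG.2 w hw).1 (hG.2 w hw).2).symm
  have hz'mem : z' ∈ S.erase z := Finset.mem_erase.mpr ⟨fun h => hne h.symm, hzS'⟩
  have hsplit : ∑ w ∈ S, deg C₁ w =
      deg C₁ z + (deg C₁ z' + ∑ w ∈ (S.erase z).erase z', deg C₁ w) := by
    rw [Finset.add_sum_erase _ _ hz'mem, Finset.add_sum_erase _ _ hzS]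
  have hdz : deg C₁ z = deg C₁ t + deg C₁ x' := by
    rw [hzt]; exact deg_mul hA hC₁ ht hx' htu hxu'
  have hdz' : deg C₁ z' = deg C₁ t + deg C₁ y' := by
    rw [hzt']; exact deg_mul hA hC₁ ht hy' htu hyu'
  have hunion : mu C₁ S₁ ≤ ∑ w ∈ (S.erase z).erase z', deg C₁ w +
      (deg C₁ t + (deg C₁ x' + deg C₁ y')) := by
    unfold mu
    have h1 := Finset.sum_union_inter (s₁ := (S.erase z).erase z') (s₂ := ({t, x', y'} : Finset Q))
      (f := fun w => deg C₁ w)
    have h2 : ∑ w ∈ ({t, x', y'} : Finset Q), deg C₁ w ≤ deg C₁ t + (deg C₁ x' + deg C₁ y') := by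
      refine (sum_insert_le' _ _ _).trans ?_
      refine Nat.add_le_add_left ?_ _
      refine (sum_insert_le' _ _ _).trans ?_
      rw [Finset.sum_singleton]
    show ∑ w ∈ ((S.erase z).erase z') ∪ {t, x', y'}, deg C₁ w ≤ _
    omega
  rw [hmuS, hsplit, hdz, hdz']
  omega

/-- the main induction -/
theorem exists_comax (hA : ringKrullDim A ≤ 1) : ∀ n : ℕ, ∀ (C : Subalgebra A Q) (S : Finset Q),
    Good C S → mu C S ≤ n → ∃ (C' : Subalgebra A Q) (S' : Finset Q), C ≤ C' ∧ Good C' S' ∧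
      Comax C' S' ∧ (S : Set Q) ⊆ Submonoid.closure (S' : Set Q) := by
  intro n
  induction n with
  | zero =>
    intro C S hG hmu
    by_cases hc : Comax C S
    · exact ⟨C, S, le_rfl, hG, hc, Submonoid.subset_closure⟩
    · obtain ⟨C₁, S₁, -, -, -, h⟩ := step hA hG hc
      omega
  | succ n ih =>
    intro C S hG hmu
    by_cases hc : Comax C S
    · exact ⟨C, S, le_rfl, hG, hc, Submonoid.subset_closure⟩
    · obtain ⟨C₁, S₁, hCC₁, hG₁, hcl, h⟩ := step hA hG hc
      obtain ⟨C', S', hC₁C', hG', hc', hcl'⟩ := ih C₁ S₁ hG₁ (by omega)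
      refine ⟨C', S', hCC₁.trans hC₁C', hG', hc', ?_⟩
      exact hcl.trans (Submonoid.closure_le.mpr hcl')

end Ind

end Groth.Agent.Helper7.BlowOne
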