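import Mathlib
import Groth.Prelude.Def_CycAlg
import Groth.Agent.Helper7.BlowOneI

set_option autoImplicit false
universe u

/-!
# Local factorizations after a finite extension
-/

namespace Groth.Agent.Helper7.BlowOne

open Finset IsLocalRing
open scoped nonZeroDivisors

section Final
variable {A : Type u} [CommRing A] [IsNoetherianRing A] [IsLocalRing A]
  {Q : Type u} [CommRing Q] [Algebra A Q] [IsFractionRing A Q]

/-- a finite subalgebra of `Frac A` is a finite extension in the sense of `CycAlg.IsFinExt` -/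
lemma isFinExt_of_fg (hA : ringKrullDim A ≤ 1) (C : Subalgebra A Q)
    (hC : (Subalgebra.toSubmodule C).FG) : CycAlg.IsFinExt A C (maximalIdeal A) := by
  classical
  have hinj : Function.Injective (algebraMap A C) := by
    intro y z hyz
    have : algebraMap A Q y = algebraMap A Q z := congrArg Subtype.val hyz
    exact IsFractionRing.injective A Q this
  have hfin : Module.Finite A C := by
    have h2 : Module.Finite A (Subalgebra.toSubmodule C) := Module.Finite.iff_fg.mpr hC
    exact h2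
  obtain ⟨T, hT⟩ := hC
  obtain ⟨b, hb⟩ := IsLocalization.exist_integer_multiples_of_finset A⁰ T
  have hbT : ∀ y ∈ Submodule.span A (T : Set Q), ∃ a : A, (b : A) • y = algebraMap A Q a := by
    intro y hy'
    induction hy' using Submodule.span_induction with
    | mem x hx =>
      obtain ⟨a, ha⟩ := hb x hx
      exact ⟨a, ha.symm⟩
    | zero => exact ⟨0, by simp⟩
    | add x y _ _ hx hy =>
      obtain ⟨a1, h1⟩ := hx
      obtain ⟨a2, h2⟩ := hy
      exact ⟨a1 + a2, by rw [smul_add, h1, h2, map_add]⟩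
    | smul r x _ hx =>
      obtain ⟨a1, h1⟩ := hx
      exact ⟨r * a1, by rw [smul_comm, h1, Algebra.smul_def, map_mul]⟩
  have hbC : ∀ y ∈ C, ∃ a : A, (b : A) • y = algebraMap A Q a := by
    intro y hy
    exact hbT y (by rw [hT]; exact hy)
  haveI := artinian_quot hA b.2
  obtain ⟨n, hn⟩ := exists_maximalIdeal_pow_le_of_isArtinianRing_quotient (Ideal.span {(b : A)})
  refine ⟨hinj, hfin, n, ?_⟩
  intro r hr q
  obtain ⟨r', rfl⟩ := Ideal.mem_span_singleton'.mp (hn hr)
  obtain ⟨a, ha⟩ := hbC q q.2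
  refine ⟨r' * a, ?_⟩
  apply Subtype.ext
  show algebraMap A Q (r' * a) = (r' * (b : A)) • (q : Q)
  rw [map_mul, ← ha, mul_smul, Algebra.smul_def r']

/-- local factorisation of the elements of the closure of a pairwise comaximal good set -/
lemma local_factor {C : Subalgebra A Q} {S : Finset Q} (hG : Good C S) (hc : Comax C S)
    (q : MaximalSpectrum C) :
    ∃ π : Localization.AtPrime q.asIdeal, π ∈ nonZeroDivisors (Localization.AtPrime q.asIdeal) ∧
      ∀ w ∈ Submonoid.closure (S : Set Q), ∀ hw : w ∈ C,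
        ∃ (v : (Localization.AtPrime q.asIdeal)ˣ) (e : ℕ),
          algebraMap C (Localization.AtPrime q.asIdeal) ⟨w, hw⟩ =
            (v : Localization.AtPrime q.asIdeal) * π ^ e := by
  classical
  set L := Localization.AtPrime q.asIdeal with hL
  have hSC : Submonoid.closure (S : Set Q) ≤ C.toSubmonoid :=
    Submonoid.closure_le.mpr (fun w hw => (hG.2 w hw).1)
  -- the general induction
  have key : ∀ π : L, (∀ w ∈ S, ∀ hw : w ∈ C,
      (∃ v : Lˣ, algebraMap C L ⟨w, hw⟩ = (v : L)) ∨ algebraMap C L ⟨w, hw⟩ = π) →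
      ∀ w ∈ Submonoid.closure (S : Set Q), ∀ hw : w ∈ C,
        ∃ (v : Lˣ) (e : ℕ), algebraMap C L ⟨w, hw⟩ = (v : L) * π ^ e := by
    intro π hπ w hw
    induction hw using Submonoid.closure_induction with
    | mem x hx =>
      intro hxC
      rcases hπ x hx hxC with ⟨v, hv⟩ | h
      · exact ⟨v, 0, by rw [hv, pow_zero, mul_one]⟩
      · exact ⟨1, 1, by rw [h, Units.val_one, one_mul, pow_one]⟩
    | one =>
      intro h1
      refine ⟨1, 0, ?_⟩
      have : (⟨1, h1⟩ : C) = 1 := rfl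
      rw [this, map_one, Units.val_one, one_mul, pow_zero]
    | mul x y hx hy ihx ihy =>
      intro hxy
      obtain ⟨v1, e1, h1⟩ := ihx (hSC hx)
      obtain ⟨v2, e2, h2⟩ := ihy (hSC hy)
      refine ⟨v1 * v2, e1 + e2, ?_⟩
      have : (⟨x * y, hxy⟩ : C) = ⟨x, hSC hx⟩ * ⟨y, hSC hy⟩ := rfl
      rw [this, map_mul, h1, h2, Units.val_mul, pow_add]
      ring
  have hunit : ∀ w : C, w ∉ q.asIdeal → ∃ v : Lˣ, algebraMap C L w = (v : L) := by
    intro w hw
    have := IsLocalization.map_units L (⟨w, hw⟩ : q.asIdeal.primeCompl)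
    exact ⟨this.unit, rfl⟩
  by_cases hex : ∃ z₀ ∈ S, ∃ hz₀ : z₀ ∈ C, (⟨z₀, hz₀⟩ : C) ∈ q.asIdeal
  · obtain ⟨z₀, hz₀S, hz₀, hz₀q⟩ := hex
    refine ⟨algebraMap C L ⟨z₀, hz₀⟩, ?_, ?_⟩
    · apply IsLocalization.map_nonZeroDivisors_le q.asIdeal.primeCompl L
      refine ⟨⟨z₀, hz₀⟩, ?_, rfl⟩
      rw [SetLike.mem_coe, mem_nonZeroDivisors_iff_right]
      intro y hy
      have h1 : (y : Q) * z₀ = 0 := congrArg Subtype.val hy
      exact Subtype.ext ((hG.2 z₀ hz₀S).2.mul_left_eq_zero.mp h1)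
    · apply key
      intro w hwS hw
      by_cases hwz : w = z₀
      · right
        subst hwz
        rfl
      · left
        apply hunit
        intro hwq
        obtain ⟨p, hp, r, hr, hpr⟩ := hc w hwS z₀ hz₀S hwz
        have h1 : (1 : C) = ⟨p, hp⟩ * ⟨w, hw⟩ + ⟨r, hr⟩ * ⟨z₀, hz₀⟩ := Subtype.ext hpr.symm
        have h2 : (1 : C) ∈ q.asIdeal := by
          rw [h1]
          exact q.asIdeal.add_mem (q.asIdeal.mul_mem_left _ hwq) (q.asIdeal.mul_mem_left _ hz₀q)
        exact (Ideal.ne_top_iff_one _).mp q.isMaximal.ne_top h2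
  · push Not at hex
    refine ⟨1, one_mem _, ?_⟩
    apply key
    intro w hwS hw
    left
    exact hunit _ (hex w hwS hw)

/-- S1836 inside `Frac A` -/
theorem main2 (hA : ringKrullDim A ≤ 1) {r : ℕ} (a : Fin r → A) (ha : ∀ i, a i ∈ A⁰) :
    ∃ C : Subalgebra A Q, CycAlg.IsFinExt A C (maximalIdeal A) ∧
      ∀ q : MaximalSpectrum C, ∃ π : Localization.AtPrime q.asIdeal,
        π ∈ nonZeroDivisors (Localization.AtPrime q.asIdeal) ∧
        ∀ i, ∃ (v : (Localization.AtPrime q.asIdeal)ˣ) (e : ℕ),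
          algebraMap A (Localization.AtPrime q.asIdeal) (a i) =
            (v : Localization.AtPrime q.asIdeal) * π ^ e := by
  classical
  let S : Finset Q := Finset.univ.image (fun i => algebraMap A Q (a i))
  have hG : Good (⊥ : Subalgebra A Q) S := by
    refine ⟨?_, ?_⟩
    · rw [Algebra.toSubmodule_bot, Submodule.one_eq_span]
      exact Submodule.fg_span (Set.finite_singleton (1 : Q))
    · intro z hz
      obtain ⟨i, -, rfl⟩ := Finset.mem_image.mp hz
      exact ⟨Subalgebra.algebraMap_mem _ _, IsLocalization.map_units Q (⟨a i, ha i⟩ : A⁰)⟩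
  obtain ⟨C, S', -, hG', hc', hcl⟩ := exists_comax hA (mu (⊥ : Subalgebra A Q) S) ⊥ S hG le_rfl
  refine ⟨C, isFinExt_of_fg hA C hG'.1, ?_⟩
  intro q
  obtain ⟨π, hπ, hfac⟩ := local_factor hG' hc' q
  refine ⟨π, hπ, ?_⟩
  intro i
  have hmem : algebraMap A Q (a i) ∈ Submonoid.closure (S' : Set Q) := by
    apply hcl
    show algebraMap A Q (a i) ∈ S
    exact Finset.mem_image.mpr ⟨i, Finset.mem_univ _, rfl⟩
  obtain ⟨v, e, h⟩ := hfac _ hmem (Subalgebra.algebraMap_mem C (a i))
  refine ⟨v, e, ?_⟩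
  rw [IsScalarTower.algebraMap_apply A C (Localization.AtPrime q.asIdeal)]
  exact h

end Final

end Groth.Agent.Helper7.BlowOne
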