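import Mathlib

namespace Groth.Agent.Helper7.BlowPres

open MvPolynomial

universe u

variable {A : Type u} [CommRing A] {n : ℕ} (a : Fin (n + 1) → A)

/-- the ideal `(a_0, …, a_k)` -/
def Ik (k : ℕ) : Ideal A := Ideal.ofList ((List.ofFn a).take (k + 1))

lemma mem_Ik {k : ℕ} (j : Fin (n + 1)) (hj : (j : ℕ) ≤ k) : a j ∈ Ik a k := by
  apply Ideal.subset_span
  show a j ∈ (List.ofFn a).take (k + 1)
  rw [List.mem_take_iff_getElem]
  refine ⟨j, ?_, ?_⟩
  · simp only [List.length_ofFn, lt_inf_iff]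
    exact ⟨by omega, j.2⟩
  · simp only [List.getElem_ofFn, Fin.eta]

lemma Ik_le {k : ℕ} (I : Ideal A) (h : ∀ j : Fin (n + 1), (j : ℕ) ≤ k → a j ∈ I) : Ik a k ≤ I := by
  apply Ideal.span_le.2
  intro x hx
  have hx' : x ∈ (List.ofFn a).take (k + 1) := hx
  rw [List.mem_take_iff_getElem] at hx'
  obtain ⟨i, hi, rfl⟩ := hx'
  simp only [List.length_ofFn, lt_inf_iff] at hi
  simp only [List.getElem_ofFn]
  exact h ⟨i, hi.2⟩ (by simp; omega)

lemma regular_step (ha : RingTheory.Sequence.IsWeaklyRegular A (List.ofFn a)) {k : ℕ}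
    (hk : k + 1 < n + 1) (x : A) (hx : a ⟨k + 1, hk⟩ * x ∈ Ik a k) : x ∈ Ik a k := by
  have h := ha.regular_mod_prev (k + 1) (by simpa using hk)
  have h0 : (Ideal.ofList ((List.ofFn a).take (k + 1)) • ⊤ : Submodule A A) = Ik a k := by
    rw [smul_eq_mul, Ideal.mul_top]; rfl
  have h1 : (List.ofFn a)[k + 1]'(by simpa using hk) = a ⟨k + 1, hk⟩ := by simp
  rw [h1] at h
  have h2 := @h (Submodule.Quotient.mk x) 0 (by
    simp only [smul_zero]
    rw [← Submodule.Quotient.mk_smul, Submodule.Quotient.mk_eq_zero, h0]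
    simpa [smul_eq_mul] using hx)
  rw [Submodule.Quotient.mk_eq_zero, h0] at h2
  exact h2

lemma regular_zero (ha : RingTheory.Sequence.IsWeaklyRegular A (List.ofFn a))
    (x : A) (hx : a 0 * x = 0) : x = 0 := by
  have h := ha.regular_mod_prev 0 (by simp)
  have h1 : (List.ofFn a)[0]'(by simp) = a 0 := by simp
  rw [h1] at h
  have h0 : (Ideal.ofList ((List.ofFn a).take 0) • ⊤ : Submodule A A) = ⊥ := by
    simp
  have h2 := @h (Submodule.Quotient.mk x) 0 (by
    simp only [smul_zero]
    rw [← Submodule.Quotient.mk_smul, Submodule.Quotient.mk_eq_zero, h0]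
    simpa [smul_eq_mul] using hx)
  rw [Submodule.Quotient.mk_eq_zero, h0] at h2
  simpa using h2


/-- generators of the presentation ideal -/
noncomputable def gen (i : Fin n) : MvPolynomial (Fin n) A := C (a 0) * X i - C (a i.succ)

/-- partial ideals -/
noncomputable def Jk (k : ℕ) : Ideal (MvPolynomial (Fin n) A) :=
  Ideal.span (gen a '' {i : Fin n | (i : ℕ) < k})

lemma Jk_mono {k l : ℕ} (h : k ≤ l) : Jk a k ≤ Jk a l :=
  Ideal.span_mono (Set.image_mono (fun _ hi => lt_of_lt_of_le hi h))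

lemma gen_mem_Jk {k : ℕ} (i : Fin n) (hi : (i : ℕ) < k) : gen a i ∈ Jk a k :=
  Ideal.subset_span ⟨i, hi, rfl⟩

lemma Jk_succ (k : ℕ) (hk : k < n) : Jk a (k + 1) = Jk a k ⊔ Ideal.span {gen a ⟨k, hk⟩} := by
  have : {i : Fin n | (i : ℕ) < k + 1} = {i : Fin n | (i : ℕ) < k} ∪ {⟨k, hk⟩} := by
    ext i
    simp only [Set.mem_ofPred_eq, Set.union_singleton, Set.mem_insert_iff, Fin.ext_iff]
    omega
  rw [Jk, this, Set.image_union, Ideal.span_union, Set.image_singleton]
  rfl

lemma mapC_le (k : ℕ) :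
    Ideal.map (C : A →+* MvPolynomial (Fin n) A) (Ik a k) ≤ Ideal.span {C (a 0)} ⊔ Jk a k := by
  rw [Ideal.map_le_iff_le_comap]
  apply Ik_le
  intro j hj
  rw [Ideal.mem_comap]
  induction j using Fin.cases with
  | zero => exact Ideal.mem_sup_left (Ideal.subset_span rfl)
  | succ i =>
    have hi : (i : ℕ) < k := by simp at hj; omega
    have : (C (a i.succ) : MvPolynomial (Fin n) A) = C (a 0) * X i - gen a i := by
      simp [gen]
    rw [this]
    refine Ideal.sub_mem _ (Ideal.mem_sup_left ?_) (Ideal.mem_sup_right (gen_mem_Jk a i hi))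
    exact Ideal.mul_mem_right _ _ (Ideal.subset_span rfl)

lemma le_mapC (k : ℕ) :
    Ideal.span {C (a 0)} ⊔ Jk a k ≤ Ideal.map (C : A →+* MvPolynomial (Fin n) A) (Ik a k) := by
  refine sup_le ?_ ?_
  · rw [Ideal.span_le]
    rintro _ rfl
    exact Ideal.mem_map_of_mem _ (mem_Ik a 0 (by simp))
  · rw [Jk, Ideal.span_le]
    rintro _ ⟨i, hi, rfl⟩
    refine Ideal.sub_mem _ (Ideal.mul_mem_right _ _ ?_) ?_
    · exact Ideal.mem_map_of_mem _ (mem_Ik a 0 (by simp))
    · exact Ideal.mem_map_of_mem _ (mem_Ik a i.succ (by simp at hi ⊢; omega))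

theorem cancel_a0 (ha : RingTheory.Sequence.IsWeaklyRegular A (List.ofFn a)) :
    ∀ k, k ≤ n → ∀ g : MvPolynomial (Fin n) A, C (a 0) * g ∈ Jk a k → g ∈ Jk a k := by
  intro k
  induction k with
  | zero =>
    intro _ g hg
    have h0 : Jk a 0 = ⊥ := by simp [Jk]
    rw [h0, Ideal.mem_bot] at hg ⊢
    ext m
    have := congrArg (coeff m) hg
    rw [coeff_C_mul, coeff_zero] at this
    rw [coeff_zero]
    exact regular_zero a ha _ this
  | succ k ih =>
    intro hk g hg
    have hk' : k < n := hk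
    rw [Jk_succ a k hk', Submodule.mem_sup] at hg
    obtain ⟨j, hj, z, hz, hsum⟩ := hg
    obtain ⟨h, rfl⟩ := Ideal.mem_span_singleton'.1 hz
    -- a_{k+1} h ∈ (a_0) + J_k
    have h1 : C (a ⟨k + 1, by omega⟩) * h ∈
        Ideal.map (C : A →+* MvPolynomial (Fin n) A) (Ik a k) := by
      apply le_mapC a k
      have : C (a ⟨k + 1, by omega⟩) * h = C (a 0) * (X ⟨k, hk'⟩ * h - g) + j := by
        have e1 : gen a ⟨k, hk'⟩ = C (a 0) * X ⟨k, hk'⟩ - C (a ⟨k + 1, by omega⟩) := rfl
        rw [e1] at hsum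
        linear_combination (-1 : MvPolynomial (Fin n) A) * hsum
      rw [this]
      exact Ideal.add_mem _ (Ideal.mem_sup_left (Ideal.mul_mem_right _ _ (Ideal.subset_span rfl)))
        (Ideal.mem_sup_right hj)
    have h2 : h ∈ Ideal.map (C : A →+* MvPolynomial (Fin n) A) (Ik a k) := by
      rw [mem_map_C_iff] at h1 ⊢
      intro m
      have := h1 m
      rw [coeff_C_mul] at this
      exact regular_step a ha (by omega) _ this
    have h3 := mapC_le a k h2
    rw [Submodule.mem_sup] at h3
    obtain ⟨y, hy, j', hj', hsum'⟩ := h3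
    obtain ⟨h', rfl⟩ := Ideal.mem_span_singleton'.1 hy
    have h4 : C (a 0) * (g - h' * gen a ⟨k, hk'⟩) ∈ Jk a k := by
      have : C (a 0) * (g - h' * gen a ⟨k, hk'⟩) = j + j' * gen a ⟨k, hk'⟩ := by
        rw [← hsum'] at hsum
        linear_combination (-1 : MvPolynomial (Fin n) A) * hsum
      rw [this]
      exact Ideal.add_mem _ hj (Ideal.mul_mem_right _ _ hj')
    have h5 := ih (by omega) _ h4
    have h6 : g = (g - h' * gen a ⟨k, hk'⟩) + h' * gen a ⟨k, hk'⟩ := by ring
    rw [h6]
    refine Ideal.add_mem _ (Jk_mono a (Nat.le_succ k) h5) ?_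
    exact Ideal.mul_mem_left _ _ (gen_mem_Jk a ⟨k, hk'⟩ (by simp))


lemma Jk_top : Jk a n = Ideal.span (Set.range (gen a)) := by
  have : {i : Fin n | (i : ℕ) < n} = Set.univ := by
    ext i; simp
  rw [Jk, this, Set.image_univ]

theorem main (ha : RingTheory.Sequence.IsWeaklyRegular A (List.ofFn a)) :
    RingHom.ker (MvPolynomial.aeval (R := A) (S₁ := Localization.Away (a 0))
      (fun i : Fin n => IsLocalization.mk' (Localization.Away (a 0)) (a i.succ)
        (⟨a 0, Submonoid.mem_powers (a 0)⟩ : Submonoid.powers (a 0)))) =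
      Ideal.span (Set.range fun i : Fin n =>
        MvPolynomial.C (a 0) * MvPolynomial.X i - MvPolynomial.C (a i.succ)) := by
  set φ := (MvPolynomial.aeval (R := A) (S₁ := Localization.Away (a 0))
      (fun i : Fin n => IsLocalization.mk' (Localization.Away (a 0)) (a i.succ)
        (⟨a 0, Submonoid.mem_powers (a 0)⟩ : Submonoid.powers (a 0)))) with hφ
  change RingHom.ker φ = Ideal.span (Set.range (gen a))
  set J := Ideal.span (Set.range (gen a)) with hJdef
  have hJ : J = Jk a n := (Jk_top a).symm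
  have hgen : ∀ i, φ (gen a i) = 0 := by
    intro i
    simp only [gen, map_sub, map_mul, hφ, aeval_C, aeval_X]
    rw [sub_eq_zero]
    exact IsLocalization.mk'_spec' (Localization.Away (a 0)) (a i.succ)
      (⟨a 0, Submonoid.mem_powers (a 0)⟩ : Submonoid.powers (a 0))
  have hle : J ≤ RingHom.ker φ := by
    rw [hJdef, Ideal.span_le]
    rintro _ ⟨i, rfl⟩
    exact hgen i
  refine le_antisymm ?_ hle
  intro f hf
  let B := MvPolynomial (Fin n) A ⧸ J
  let u : B := Ideal.Quotient.mk J (C (a 0))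
  have hu : u ∈ nonZeroDivisors B := by
    rw [mem_nonZeroDivisors_iff_right]
    intro x hx
    obtain ⟨g, rfl⟩ := Ideal.Quotient.mk_surjective x
    rw [← map_mul, Ideal.Quotient.eq_zero_iff_mem] at hx
    rw [Ideal.Quotient.eq_zero_iff_mem, hJ]
    apply cancel_a0 a ha n le_rfl
    rw [← hJ, mul_comm]; exact hx
  let B' := Localization.Away u
  let φr : MvPolynomial (Fin n) A →+* Localization.Away (a 0) := φ.toRingHom
  have hle' : ∀ x ∈ J, φr x = 0 := fun x hx => RingHom.mem_ker.1 (hle hx)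
  let ψ : B →+* Localization.Away (a 0) := Ideal.Quotient.lift J φr hle'
  have hψ : ∀ g, ψ (Ideal.Quotient.mk J g) = φr g := fun g => Ideal.Quotient.lift_mk J φr hle'
  have hunit : IsUnit (((algebraMap B B').comp ((Ideal.Quotient.mk J).comp C)) (a 0)) :=
    IsLocalization.Away.algebraMap_isUnit (S := B') u
  let θ : Localization.Away (a 0) →+* B' :=
    IsLocalization.Away.lift (a 0) hunit
  have hcomp : (θ.comp ψ).comp (Ideal.Quotient.mk J) = (algebraMap B B').comp (Ideal.Quotient.mk J) := by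
    apply MvPolynomial.ringHom_ext
    · intro r
      simp only [RingHom.comp_apply]
      rw [hψ]
      have : φr (C r) = algebraMap A (Localization.Away (a 0)) r := by
        simp [φr, hφ]
      rw [this]
      exact IsLocalization.Away.lift_eq (a 0) hunit r
    · intro i
      simp only [RingHom.comp_apply]
      rw [hψ]
      have h1 : φr (X i) = IsLocalization.mk' (Localization.Away (a 0)) (a i.succ)
        (⟨a 0, Submonoid.mem_powers (a 0)⟩ : Submonoid.powers (a 0)) := by
        simp [φr, hφ]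
      rw [h1]
      apply hunit.mul_left_cancel
      have h2 : ((algebraMap B B').comp ((Ideal.Quotient.mk J).comp C)) (a 0) =
          θ (algebraMap A (Localization.Away (a 0)) (a 0)) :=
        (IsLocalization.Away.lift_eq (a 0) hunit (a 0)).symm
      have h3 : algebraMap A (Localization.Away (a 0)) (a 0) *
          IsLocalization.mk' (Localization.Away (a 0)) (a i.succ)
            (⟨a 0, Submonoid.mem_powers (a 0)⟩ : Submonoid.powers (a 0)) =
          algebraMap A (Localization.Away (a 0)) (a i.succ) :=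
        IsLocalization.mk'_spec' (Localization.Away (a 0)) (a i.succ)
          (⟨a 0, Submonoid.mem_powers (a 0)⟩ : Submonoid.powers (a 0))
      conv_lhs => rw [h2, ← map_mul, h3]
      rw [IsLocalization.Away.lift_eq (a 0) hunit]
      simp only [RingHom.comp_apply]
      rw [← map_mul, ← map_mul]
      congr 1
      rw [← sub_eq_zero, ← map_sub, Ideal.Quotient.eq_zero_iff_mem, hJdef]
      have : C (a i.succ) - C (a 0) * X i = - gen a i := by simp [gen]
      rw [this]
      exact Ideal.neg_mem_iff _ |>.2 (Ideal.subset_span ⟨i, rfl⟩)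
  have h0 : algebraMap B B' (Ideal.Quotient.mk J f) = 0 := by
    have := congrArg (fun g => g f) hcomp
    simp only [RingHom.comp_apply] at this
    rw [← this]
    have : ψ (Ideal.Quotient.mk J f) = 0 := by
      rw [hψ]
      exact hf
    rw [this, map_zero]
  have hinj : Function.Injective (algebraMap B B') :=
    IsLocalization.injective B' (Submonoid.powers_le.2 hu)
  have := hinj (h0.trans (map_zero _).symm)
  exact Ideal.Quotient.eq_zero_iff_mem.1 this

end Groth.Agent.Helper7.BlowPres
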