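import Mathlib
import Groth.Prelude.Def_W4c2arithlefschetzGraph

set_option autoImplicit false
open ArLef ArLef.BlowupGraph
open Classical

namespace Groth.Agent.Helper7.Blowup

variable {n : ℕ} (G : ArLef.BlowupGraph n)
theorem tt_of_lt (k m : Fin n) (h : m < k) : G.tt k m = 0 := by
  unfold BlowupGraph.tt
  rw [BlowupGraph.ttN]
  have : m.1 < k.1 := h
  simp [this]

theorem tt_self (k : Fin n) : G.tt k k = 1 := by
  unfold BlowupGraph.tt
  rw [BlowupGraph.ttN]
  simp

theorem tt_of_gt (k m : Fin n) (h : k < m) : G.tt k m = ∑ p ∈ G.par m, G.tt k p := by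
  unfold BlowupGraph.tt
  rw [BlowupGraph.ttN]
  have h1 : ¬ m.1 < k.1 := by have : k.1 < m.1 := h; omega
  have h2 : ¬ m.1 = k.1 := by have : k.1 < m.1 := h; omega
  rw [if_neg h1, if_neg h2]
  rw [Finset.sum_attach (G.parN m.1) (fun p => G.ttN k.1 p)]
  have : G.parN m.1 = (G.par m).map Fin.valEmbedding := by
    unfold BlowupGraph.parN
    rw [dif_pos m.2]
  rw [this, Finset.sum_map]
  rfl

/-- stage-`s` adjacency -/
def AdjS (s : ℕ) (p q : Fin n) : Prop :=
  (p ∈ G.par q ∧ ∀ m : Fin n, q < m → m.1 < s → G.par m ≠ {p, q}) ∨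
  (q ∈ G.par p ∧ ∀ m : Fin n, p < m → m.1 < s → G.par m ≠ {q, p})

/-- stage-`s` count of later centres on `p` -/
noncomputable def cnt (s : ℕ) (p : Fin n) : ℚ :=
  ∑ m : Fin n, (if m.1 < s ∧ p ∈ G.par m then (1:ℚ) else 0)

/-- stage-`s` intersection matrix (zero outside the first `s` indices) -/
noncomputable def Ms (s : ℕ) : Matrix (Fin n) (Fin n) ℚ := fun p q =>
  if p.1 < s ∧ q.1 < s then
    (if p = q then -1 - cnt G s p
     else if AdjS G s p q then 1 else 0)
  else 0

theorem Ms_diag (s : ℕ) (p : Fin n) (hp : p.1 < s) : Ms G s p p = -1 - cnt G s p := by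
  unfold Ms
  rw [if_pos ⟨hp, hp⟩, if_pos rfl]

theorem Ms_offdiag (s : ℕ) (p q : Fin n) (hp : p.1 < s) (hq : q.1 < s) (hpq : p ≠ q) :
    Ms G s p q = if AdjS G s p q then 1 else 0 := by
  unfold Ms
  rw [if_pos ⟨hp, hq⟩, if_neg hpq]

theorem Ms_out_left (s : ℕ) (p q : Fin n) (hp : s ≤ p.1) : Ms G s p q = 0 := by
  unfold Ms
  rw [if_neg (fun H => by omega)]

theorem Ms_out_right (s : ℕ) (p q : Fin n) (hq : s ≤ q.1) : Ms G s p q = 0 := by
  unfold Ms
  rw [if_neg (fun H => by omega)]

/-- the vector `c - e_S` -/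
noncomputable def uvec (S : Fin n) (a : Fin n) : ℚ :=
  (if a ∈ G.par S then (1:ℚ) else 0) - (if a = S then 1 else 0)

theorem count_succ (s : ℕ) (h : s < n) (p : Fin n) :
    cnt G (s+1) p = cnt G s p + (if p ∈ G.par ⟨s, h⟩ then 1 else 0) := by
  unfold cnt
  have : ∀ m : Fin n, (if m.1 < s + 1 ∧ p ∈ G.par m then (1:ℚ) else 0) =
      (if m.1 < s ∧ p ∈ G.par m then (1:ℚ) else 0) +
        (if m = ⟨s, h⟩ then (if p ∈ G.par ⟨s, h⟩ then (1:ℚ) else 0) else 0) := by
    intro m
    by_cases hm : m = ⟨s, h⟩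
    · subst hm
      simp
    · have hm' : m.1 ≠ s := fun e => hm (Fin.ext e)
      rw [if_neg hm, add_zero]
      have : (m.1 < s + 1) ↔ m.1 < s := by omega
      simp only [this]
  rw [Finset.sum_congr rfl (fun m _ => this m), Finset.sum_add_distrib, Finset.sum_ite_eq']
  simp

theorem adjS_succ_iff (s : ℕ) (h : s < n) (p q : Fin n) (hp : p.1 < s) (hq : q.1 < s) :
    AdjS G (s+1) p q ↔ AdjS G s p q ∧ G.par ⟨s, h⟩ ≠ {p, q} := by
  have key : ∀ a b : Fin n, b.1 < s →
      ((∀ m : Fin n, b < m → m.1 < s + 1 → G.par m ≠ {a, b}) ↔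
        ((∀ m : Fin n, b < m → m.1 < s → G.par m ≠ {a, b}) ∧ G.par ⟨s, h⟩ ≠ {a, b})) := by
    intro a b hb
    constructor
    · intro H
      refine ⟨fun m hm hms => H m hm (by omega), H ⟨s, h⟩ (by exact hb) (by simp)⟩
    · rintro ⟨H1, H2⟩ m hm hms
      by_cases e : m.1 = s
      · have : m = ⟨s, h⟩ := Fin.ext e
        rw [this]; exact H2
      · exact H1 m hm (by omega)
  unfold AdjS
  rw [key p q hq, key q p hp, Finset.pair_comm q p]
  tauto

theorem Ms_succ (s : ℕ) (h : s < n) (p q : Fin n) :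
    Ms G (s+1) p q = Ms G s p q - uvec G ⟨s,h⟩ p * uvec G ⟨s,h⟩ q := by
  have hnot : ∀ a : Fin n, s ≤ a.1 → a ∉ G.par ⟨s, h⟩ := fun a ha hmem => by
    have := G.par_lt ⟨s, h⟩ a hmem
    have : a.1 < s := this
    omega
  have hnot' : ∀ a : Fin n, a.1 ≤ s → (⟨s, h⟩ : Fin n) ∉ G.par a := fun a ha hmem => by
    have := G.par_lt a ⟨s, h⟩ hmem
    have : s < a.1 := this
    omega
  have hu_gt : ∀ a : Fin n, s < a.1 → uvec G ⟨s, h⟩ a = 0 := by
    intro a ha
    unfold uvec
    rw [if_neg (hnot a ha.le), if_neg (show ¬ a = ⟨s, h⟩ from fun e => by rw [e] at ha; simp at ha)]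
    simp
  have hu_eq : uvec G ⟨s, h⟩ ⟨s, h⟩ = -1 := by
    unfold uvec
    rw [if_neg (hnot ⟨s, h⟩ le_rfl), if_pos rfl]; simp
  have hu_lt : ∀ a : Fin n, a.1 < s → uvec G ⟨s, h⟩ a = if a ∈ G.par ⟨s, h⟩ then 1 else 0 := by
    intro a ha
    unfold uvec
    rw [if_neg (show ¬ a = ⟨s, h⟩ from fun e => by rw [e] at ha; simp at ha)]
    simp
  rcases lt_trichotomy p.1 s with hp | hp | hp
  · rcases lt_trichotomy q.1 s with hq | hq | hq
    · -- both < s
      rw [hu_lt p hp, hu_lt q hq]
      by_cases hpq : p = q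
      · subst hpq
        rw [Ms_diag G (s+1) p (by omega), Ms_diag G s p hp, count_succ G s h p]
        by_cases hmem : p ∈ G.par ⟨s, h⟩ <;> simp [hmem] <;> ring
      · rw [Ms_offdiag G (s+1) p q (by omega) (by omega) hpq, Ms_offdiag G s p q hp hq hpq]
        by_cases hboth : p ∈ G.par ⟨s, h⟩ ∧ q ∈ G.par ⟨s, h⟩
        · obtain ⟨h1, h2⟩ := hboth
          have hpar : G.par ⟨s, h⟩ = {p, q} := by
            symm
            apply Finset.eq_of_subset_of_card_le
            · intro x hx
              rcases Finset.mem_insert.mp hx with rfl | hx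
              · exact h1
              · rw [Finset.mem_singleton] at hx; rw [hx]; exact h2
            · rw [Finset.card_pair hpq]; exact G.card_le_two _
          have hS : AdjS G s p q := by
            rcases lt_or_gt_of_ne hpq with hlt | hlt
            · left
              obtain ⟨a, b⟩ := G.meet_of_two ⟨s, h⟩ p q h1 h2 hlt
              exact ⟨a, fun m hm hms => b m hm hms⟩
            · right
              obtain ⟨a, b⟩ := G.meet_of_two ⟨s, h⟩ q p h2 h1 hlt
              exact ⟨a, fun m hm hms => b m hm hms⟩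
          have hS' : ¬ AdjS G (s+1) p q := by
            rw [adjS_succ_iff G s h p q hp hq]
            exact fun H => H.2 hpar
          rw [if_neg hS', if_pos hS, if_pos h1, if_pos h2]; norm_num
        · have hpar : G.par ⟨s, h⟩ ≠ {p, q} := by
            intro e
            apply hboth
            rw [e]; simp
          have : AdjS G (s+1) p q ↔ AdjS G s p q := by
            rw [adjS_succ_iff G s h p q hp hq]
            exact ⟨fun H => H.1, fun H => ⟨H, hpar⟩⟩
          have hz : (if p ∈ G.par ⟨s, h⟩ then (1:ℚ) else 0) * (if q ∈ G.par ⟨s, h⟩ then (1:ℚ) else 0) = 0 := by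
            by_cases h1 : p ∈ G.par ⟨s, h⟩
            · have h2 : q ∉ G.par ⟨s, h⟩ := fun h2 => hboth ⟨h1, h2⟩
              simp [h2]
            · simp [h1]
          rw [hz, sub_zero]
          by_cases hA : AdjS G s p q
          · rw [if_pos hA, if_pos (this.mpr hA)]
          · rw [if_neg hA, if_neg (fun H => hA (this.mp H))]
    · -- p < s, q = s
      have hq' : q = ⟨s, h⟩ := Fin.ext hq
      subst hq'
      rw [hu_lt p hp, hu_eq]
      have hpq : p ≠ ⟨s, h⟩ := fun e => by rw [e] at hp; simp at hp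
      rw [Ms_offdiag G (s+1) p ⟨s, h⟩ (by omega) (by simp) hpq, Ms_out_right G s p ⟨s, h⟩ le_rfl]
      have : AdjS G (s+1) p ⟨s, h⟩ ↔ p ∈ G.par ⟨s, h⟩ := by
        unfold AdjS
        constructor
        · rintro (H | H)
          · exact H.1
          · exact absurd H.1 (hnot' p hp.le)
        · intro H
          left
          refine ⟨H, fun m hm hms => ?_⟩
          have : s < m.1 := hm
          omega
      by_cases hmem : p ∈ G.par ⟨s, h⟩
      · rw [if_pos (this.mpr hmem), if_pos hmem]; norm_num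
      · rw [if_neg (fun H => hmem (this.mp H)), if_neg hmem]; norm_num
    · -- q > s
      rw [hu_gt q hq, Ms_out_right G (s+1) p q (by omega), Ms_out_right G s p q (by omega)]; simp
  · have hp' : p = ⟨s, h⟩ := Fin.ext hp
    subst hp'
    rcases lt_trichotomy q.1 s with hq | hq | hq
    · rw [hu_lt q hq, hu_eq]
      have hpq : (⟨s, h⟩ : Fin n) ≠ q := fun e => by rw [← e] at hq; simp at hq
      rw [Ms_offdiag G (s+1) ⟨s, h⟩ q (by simp) (by omega) hpq, Ms_out_left G s ⟨s, h⟩ q le_rfl]
      have : AdjS G (s+1) ⟨s, h⟩ q ↔ q ∈ G.par ⟨s, h⟩ := by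
        unfold AdjS
        constructor
        · rintro (H | H)
          · exact absurd H.1 (hnot' q hq.le)
          · exact H.1
        · intro H
          right
          refine ⟨H, fun m hm hms => ?_⟩
          have : s < m.1 := hm
          omega
      by_cases hmem : q ∈ G.par ⟨s, h⟩
      · rw [if_pos (this.mpr hmem), if_pos hmem]; norm_num
      · rw [if_neg (fun H => hmem (this.mp H)), if_neg hmem]; norm_num
    · have hq' : q = ⟨s, h⟩ := Fin.ext hq
      subst hq'
      rw [hu_eq, Ms_diag G (s+1) ⟨s, h⟩ (by simp), Ms_out_left G s ⟨s, h⟩ ⟨s, h⟩ le_rfl]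
      have : cnt G (s+1) ⟨s, h⟩ = 0 := by
        unfold cnt
        apply Finset.sum_eq_zero
        intro m _
        rw [if_neg]
        rintro ⟨h1, h2⟩
        exact hnot' m (by omega) h2
      rw [this]; norm_num
    · rw [hu_gt q hq, Ms_out_right G (s+1) ⟨s, h⟩ q (by omega), Ms_out_right G s ⟨s, h⟩ q (by omega)]; simp
  · rw [hu_gt p hp, Ms_out_left G (s+1) p q (by omega), Ms_out_left G s p q (by omega)]; simp


/-- the matrix of total transforms over `ℚ` -/
noncomputable def Tm : Matrix (Fin n) (Fin n) ℚ := fun k m => (G.tt k m : ℚ)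

theorem Tu (S : Fin n) (k : Fin n) :
    ∑ a : Fin n, Tm G k a * uvec G S a = if k = S then -1 else 0 := by
  have h1 : ∑ a : Fin n, Tm G k a * uvec G S a = (∑ a ∈ G.par S, Tm G k a) - Tm G k S := by
    unfold uvec
    simp only [mul_sub, Finset.sum_sub_distrib, mul_ite, mul_one, mul_zero]
    rw [Finset.sum_ite_eq', if_pos (Finset.mem_univ _), Finset.sum_ite_mem, Finset.univ_inter]
  rw [h1]
  rcases lt_trichotomy k S with hk | hk | hk
  · rw [if_neg (ne_of_lt hk)]
    unfold Tm
    rw [tt_of_gt G k S hk]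
    push_cast
    ring
  · subst hk
    rw [if_pos rfl]
    have : ∑ a ∈ G.par k, Tm G k a = 0 := by
      apply Finset.sum_eq_zero
      intro a ha
      unfold Tm
      rw [tt_of_lt G k a (G.par_lt k a ha)]; simp
    rw [this]
    unfold Tm
    rw [tt_self]; simp
  · rw [if_neg (ne_of_gt hk)]
    have : ∑ a ∈ G.par S, Tm G k a = 0 := by
      apply Finset.sum_eq_zero
      intro a ha
      unfold Tm
      rw [tt_of_lt G k a (lt_trans (G.par_lt S a ha) hk)]; simp
    rw [this]
    unfold Tm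
    rw [tt_of_lt G k S hk]; simp

theorem TMT (s : ℕ) (hs : s ≤ n) (k l : Fin n) :
    ∑ a : Fin n, ∑ b : Fin n, Tm G k a * Ms G s a b * Tm G l b =
      if k = l ∧ k.1 < s then -1 else 0 := by
  induction s with
  | zero =>
    simp only [Nat.not_lt_zero, and_false, if_false]
    apply Finset.sum_eq_zero
    intro a _
    apply Finset.sum_eq_zero
    intro b _
    rw [Ms_out_left G 0 a b (Nat.zero_le _)]; ring
  | succ s ih =>
    have h : s < n := hs
    have ih' := ih (le_of_lt h)
    have hsplit : ∑ a : Fin n, ∑ b : Fin n, Tm G k a * Ms G (s+1) a b * Tm G l b =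
        (∑ a : Fin n, ∑ b : Fin n, Tm G k a * Ms G s a b * Tm G l b) -
          (∑ a : Fin n, Tm G k a * uvec G ⟨s, h⟩ a) * (∑ b : Fin n, Tm G l b * uvec G ⟨s, h⟩ b) := by
      rw [Finset.sum_mul_sum, ← Finset.sum_sub_distrib]
      apply Finset.sum_congr rfl
      intro a _
      rw [← Finset.sum_sub_distrib]
      apply Finset.sum_congr rfl
      intro b _
      rw [Ms_succ G s h a b]; ring
    rw [hsplit, ih', Tu, Tu]
    by_cases hk : k = ⟨s, h⟩
    · by_cases hl : l = ⟨s, h⟩
      · subst hk; subst hl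
        simp
      · rw [if_pos hk, if_neg hl]
        have : k ≠ l := fun e => hl (e ▸ hk)
        simp [this]
    · rw [if_neg hk]
      have hks : k.1 ≠ s := fun e => hk (Fin.ext e)
      have : (k.1 < s + 1) ↔ k.1 < s := by omega
      simp only [this]
      simp

theorem cnt_top (p : Fin n) :
    cnt G n p = ((Finset.univ.filter fun m => p ∈ G.par m).card : ℚ) := by
  unfold cnt
  simp only [Fin.is_lt, true_and]
  rw [Finset.sum_boole]

theorem adjS_top (p q : Fin n) : AdjS G n p q ↔ G.Adj p q := by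
  unfold AdjS BlowupGraph.Adj
  simp only [Fin.is_lt, forall_const]

theorem mat_eq_Ms : G.mat = Ms G n := by
  ext p q
  unfold BlowupGraph.mat
  by_cases hpq : p = q
  · subst hpq
    rw [if_pos rfl, Ms_diag G n p p.2, cnt_top]
    unfold BlowupGraph.selfInt
    push_cast
    ring
  · rw [if_neg hpq, Ms_offdiag G n p q p.2 q.2 hpq]
    simp only [adjS_top]

/-- `N = -(Tᵀ T)`, the inverse of the intersection matrix. -/
noncomputable def Nm : Matrix (Fin n) (Fin n) ℚ := -((Tm G).transpose * Tm G)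

theorem Nm_apply (i j : Fin n) : Nm G i j = -(G.mult i j : ℚ) := by
  unfold Nm BlowupGraph.mult
  rw [Matrix.neg_apply, Matrix.mul_apply]
  push_cast
  rfl

theorem T_mul_mat : Tm G * (G.mat * (Tm G).transpose) = -1 := by
  ext k l
  rw [Matrix.mul_apply]
  have := TMT G n le_rfl k l
  rw [← mat_eq_Ms] at this
  simp only [Matrix.mul_apply, Matrix.transpose_apply, Finset.mul_sum, Matrix.neg_apply, Matrix.one_apply]
  simp only [Fin.is_lt, and_true] at this
  rw [← neg_eq_iff_eq_neg] 
  rw [show (-∑ a, ∑ b, Tm G k a * (G.mat a b * Tm G l b)) = -(∑ a, ∑ b, Tm G k a * G.mat a b * Tm G l b) from by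
    congr 1; apply Finset.sum_congr rfl; intro a _; apply Finset.sum_congr rfl; intro b _; ring]
  rw [this]
  split_ifs <;> simp

theorem mat_mul_Nm : G.mat * Nm G = 1 := by
  have h1 : Tm G * (-(G.mat * (Tm G).transpose)) = 1 := by
    rw [Matrix.mul_neg, T_mul_mat, neg_neg]
  have h2 := (mul_eq_one_comm).mp h1
  unfold Nm
  rw [Matrix.mul_neg, ← Matrix.mul_assoc, ← Matrix.neg_mul]
  exact h2

theorem Nm_mul_mat : Nm G * G.mat = 1 := (mul_eq_one_comm).mp (mat_mul_Nm G)


theorem Nm_symm (i j : Fin n) : Nm G i j = Nm G j i := by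
  unfold Nm
  simp only [Matrix.neg_apply, Matrix.mul_apply, Matrix.transpose_apply]
  congr 1
  apply Finset.sum_congr rfl
  intro k _
  ring

theorem negmat_posDef : (-G.mat).PosDef := by
  have hleft : (-(G.mat * (Tm G).transpose)) * Tm G = 1 := by
    have h1 : Tm G * (-(G.mat * (Tm G).transpose)) = 1 := by
      rw [Matrix.mul_neg, T_mul_mat, neg_neg]
    exact (mul_eq_one_comm).mp h1
  have hT : Function.Injective (Tm G).mulVec := by
    rw [Matrix.mulVec_injective_iff_isUnit]
    exact IsUnit.of_mul_eq_one_right _ hleft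
  have h1 : ((Tm G).conjTranspose * Tm G).PosDef := Matrix.PosDef.conjTranspose_mul_self _ hT
  have h2 := h1.inv
  have h3 : ((Tm G).conjTranspose * Tm G)⁻¹ = -G.mat := by
    apply Matrix.inv_eq_right_inv
    rw [Matrix.conjTranspose_eq_transpose_of_trivial, Matrix.mul_neg, ← Matrix.neg_mul]
    exact Nm_mul_mat G
  rwa [h3] at h2

theorem sub_isUnit (I : Finset (Fin n)) :
    IsUnit (G.mat.submatrix (fun x : I => x.1) (fun x : I => x.1)).det := by
  have h := (negmat_posDef G).submatrix (e := fun x : I => x.1) Subtype.val_injective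
  have h2 := h.isUnit
  rw [Matrix.submatrix_neg] at h2
  rw [← Matrix.isUnit_iff_isUnit_det]
  simpa using h2

theorem sum_split (I : Finset (Fin n)) (f : Fin n → ℚ) :
    ∑ j, f j = ∑ j : I, f j.1 + ∑ j ∈ Finset.univ.filter (fun j => j ∉ I), f j := by
  rw [Finset.sum_coe_sort I f]
  rw [← Finset.sum_filter_add_sum_filter_not Finset.univ (fun j => j ∈ I) f]
  congr 1
  simp

theorem schur (I : Finset (Fin n)) (a i : Fin n) (hi : i ∉ I) :
    ∑ j ∈ Finset.univ.filter (fun j => j ∉ I), G.pairing I a j * Nm G j i =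
      if a = i then 1 else 0 := by
  set A := G.mat.submatrix (fun x : I => x.1) (fun x : I => x.1) with hA
  have hAi : A⁻¹ * A = 1 := Matrix.nonsing_inv_mul A (sub_isUnit G I)
  have hMN : ∀ c i : Fin n, ∑ j, G.mat c j * Nm G j i = if c = i then 1 else 0 := by
    intro c i
    have := congrFun (congrFun (mat_mul_Nm G) c) i
    rw [Matrix.mul_apply, Matrix.one_apply] at this
    exact this
  -- vectors
  set r : I → ℚ := fun b => G.mat a b.1 with hr
  set v : I → ℚ := fun d => Nm G d.1 i with hv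
  set w : I → ℚ := fun c => ∑ j ∈ Finset.univ.filter (fun j => j ∉ I), G.mat c.1 j * Nm G j i with hw
  have hwv : w = -(A.mulVec v) := by
    funext c
    have h1 := hMN c.1 i
    rw [sum_split I] at h1
    have hci : c.1 ≠ i := fun e => hi (e ▸ c.2)
    rw [if_neg hci] at h1
    simp only [hw, Pi.neg_apply, Matrix.mulVec, dotProduct, hA, Matrix.submatrix_apply, hv]
    linarith
  have hAw : A⁻¹.mulVec w = -v := by
    rw [hwv, Matrix.mulVec_neg, Matrix.mulVec_mulVec, hAi, Matrix.one_mulVec]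
  have hpair : ∀ j, G.pairing I a j = G.mat a j - ∑ b : I, ∑ c : I, r b * A⁻¹ b c * G.mat c.1 j := by
    intro j
    rfl
  have h2 : ∑ j ∈ Finset.univ.filter (fun j => j ∉ I), G.pairing I a j * Nm G j i =
      ∑ j ∈ Finset.univ.filter (fun j => j ∉ I), G.mat a j * Nm G j i - r ⬝ᵥ (A⁻¹.mulVec w) := by
    simp only [hpair, sub_mul, Finset.sum_sub_distrib]
    congr 1
    simp only [dotProduct, Matrix.mulVec, hw, Finset.mul_sum, Finset.sum_mul]
    rw [Finset.sum_comm]
    apply Finset.sum_congr rfl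
    intro b _
    rw [Finset.sum_comm]
    apply Finset.sum_congr rfl
    intro c _
    apply Finset.sum_congr rfl
    intro j _
    ring
  rw [h2, hAw]
  have h3 := hMN a i
  rw [sum_split I] at h3
  rw [← h3]
  simp only [dotProduct, hr, hv, Pi.neg_apply, mul_neg, Finset.sum_neg_distrib]
  ring

theorem main (I : Finset (Fin n)) (σ : Equiv.Perm (Fin n)) :
    G.lNum I σ = ArLef.BlowupGraph.rNum I σ := by
  unfold BlowupGraph.lNum BlowupGraph.rNum
  have h1 : ∀ i ∈ Finset.univ.filter (fun i => i ∉ I),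
      ∑ j ∈ Finset.univ.filter (fun j => j ∉ I), (G.mult i j : ℚ) * G.pairing I (σ i) j =
        -(if σ i = i then (1:ℚ) else 0) := by
    intro i hi
    have hi' : i ∉ I := (Finset.mem_filter.mp hi).2
    rw [← schur G I (σ i) i hi', ← Finset.sum_neg_distrib]
    apply Finset.sum_congr rfl
    intro j _
    rw [Nm_symm G j i, Nm_apply]
    ring
  rw [Finset.sum_congr rfl h1, Finset.sum_neg_distrib, Finset.sum_boole, Finset.filter_filter]

end Groth.Agent.Helper7.Blowup
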