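import Mathlib
import Groth.Agent.Helper7.BrauerBasic
import Groth.Agent.S0190
import Groth.Agent.S0192
import Groth.Agent.Lead.CSA6
import Groth.Prelude.Def_Curves

set_option autoImplicit false
universe u v w x

namespace Groth.Agent.Helper7.BrauerSplit

open Module TensorProduct Groth.Agent.Helper7.BrauerBasic

section cancel
variable (k : Type*) (K : Type*) (L : Type*) (A : Type*) [CommRing k] [CommRing K] [CommRing L]
  [Ring A] [Algebra k K] [Algebra k L] [Algebra K L] [IsScalarTower k K L] [Algebra k A]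

/-- `L ⊗[K] (K ⊗[k] A) ≃ₐ[L] L ⊗[k] A` for noncommutative `A`. -/
noncomputable def cancelBC : L ⊗[K] (K ⊗[k] A) ≃ₐ[L] L ⊗[k] A :=
  AlgEquiv.symm <| AlgEquiv.ofLinearEquiv
    (TensorProduct.AlgebraTensorModule.cancelBaseChange k K L L A).symm
    (by simp [Algebra.TensorProduct.one_def]) <|
      LinearMap.map_mul_of_map_mul_tmul (fun _ _ _ _ ↦ by simp)

end cancel

section bc
variable (k : Type u) [Field k] (L : Type w) [Field L] [Algebra k L]

/-- `L ⊗[k] M_m(X) ≃ₐ[L] M_m(L ⊗[k] X)` -/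
noncomputable def bcMatrix (X : Type v) [Ring X] [Algebra k X] (m : ℕ) :
    L ⊗[k] Matrix (Fin m) (Fin m) X ≃ₐ[L] Matrix (Fin m) (Fin m) (L ⊗[k] X) :=
  (Algebra.TensorProduct.congr (Matrix.uniqueAlgEquiv (m := Unit) (A := L) (R := L)).symm
    (AlgEquiv.refl (R := k) (A₁ := Matrix (Fin m) (Fin m) X))).trans
  ((Matrix.kroneckerTMulAlgEquiv Unit (Fin m) k L L X).trans
    (Matrix.reindexAlgEquiv L (L ⊗[k] X) (Equiv.uniqueProd (Fin m) Unit)))

variable {k L}

theorem splits_of_algEquiv {A : Type v} {B : Type x} [Ring A] [Algebra k A] [Ring B] [Algebra k B]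
    (e : A ≃ₐ[k] B) (h : Curves.Splits k A L) : Curves.Splits k B L := by
  obtain ⟨n, hn, ⟨f⟩⟩ := h
  exact ⟨n, hn, ⟨(Algebra.TensorProduct.congr (AlgEquiv.refl (R := L) (A₁ := L)) e.symm).trans f⟩⟩

theorem splits_matrix {X : Type v} [Ring X] [Algebra k X] (m : ℕ) (hm : m ≠ 0)
    (h : Curves.Splits k X L) : Curves.Splits k (Matrix (Fin m) (Fin m) X) L := by
  obtain ⟨n, hn, ⟨f⟩⟩ := h
  refine ⟨m * n, Nat.mul_ne_zero hm hn, ⟨?_⟩⟩
  exact (bcMatrix k L X m).trans ((f.mapMatrix (m := Fin m)).trans (matComp L L m n))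

instance isCentral_bc (X : Type v) [Ring X] [Algebra k X] [Algebra.IsCentral k X] :
    Algebra.IsCentral L (L ⊗[k] X) := Groth.Agent.Lead.CSA.isCentral_baseChange k L X

instance isSimple_bc (X : Type v) [Ring X] [Algebra k X] [Algebra.IsCentral k X] [IsSimpleRing X]
    [FiniteDimensional k X] :
    IsSimpleRing (L ⊗[k] X) := Groth.Agent.S0190.result k L X

theorem splits_of_splits_matrix {X : Type v} [Ring X] [Algebra k X] [Algebra.IsCentral k X]
    [IsSimpleRing X] [FiniteDimensional k X] (m : ℕ) (hm : m ≠ 0)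
    (h : Curves.Splits k (Matrix (Fin m) (Fin m) X) L) : Curves.Splits k X L := by
  obtain ⟨N, hN, ⟨f⟩⟩ := h
  obtain ⟨x, hx⟩ := Groth.Agent.S0192.result k X
  -- dimension count: N = m * x
  have h1 : finrank L (L ⊗[k] Matrix (Fin m) (Fin m) X) = N * N := by
    rw [f.toLinearEquiv.finrank_eq, Module.finrank_matrix]; simp
  have h2 : finrank L (L ⊗[k] Matrix (Fin m) (Fin m) X) = m * m * (x * x) := by
    rw [Module.finrank_baseChange, finrank_matrix', hx]
  have hNmx : N = m * x := by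
    have : N * N = (m * x) * (m * x) := by rw [← h1, h2]; ring
    exact Nat.mul_self_inj.1 this
  have hx0 : x ≠ 0 := by
    rintro rfl
    simp at hNmx
    exact hN hNmx
  subst hNmx
  let E : Matrix (Fin m) (Fin m) (L ⊗[k] X) ≃ₐ[L]
      Matrix (Fin m) (Fin m) (Matrix (Fin x) (Fin x) L) :=
    (bcMatrix k L X m).symm.trans (f.trans (matComp L L m x).symm)
  have hdim : finrank L (L ⊗[k] X) = finrank L (Matrix (Fin x) (Fin x) L) := by
    rw [Module.finrank_baseChange, hx, Module.finrank_matrix]; simp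
  have : NeZero x := ⟨hx0⟩
  obtain ⟨g⟩ := cancel_matrix L (L ⊗[k] X) (Matrix (Fin x) (Fin x) L) m m hm hm hdim E
  exact ⟨x, hx0, ⟨g⟩⟩

theorem splits_of_brauer {X : Type v} {Y : Type x} [Ring X] [Algebra k X] [Ring Y] [Algebra k Y]
    [Algebra.IsCentral k Y] [IsSimpleRing Y] [FiniteDimensional k Y] (n m : ℕ) (hn : n ≠ 0)
    (hm : m ≠ 0) (e : Matrix (Fin n) (Fin n) X ≃ₐ[k] Matrix (Fin m) (Fin m) Y)
    (h : Curves.Splits k X L) : Curves.Splits k Y L :=
  splits_of_splits_matrix m hm (splits_of_algEquiv e (splits_matrix n hn h))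

end bc

end Groth.Agent.Helper7.BrauerSplit
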