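import Mathlib
import Groth.Agent.Helper7.BrauerDVR
import Groth.Agent.Helper7.BrauerBasic
import Groth.Agent.Lead.CSA6
import Groth.Agent.S0200

set_option autoImplicit false
universe u v

namespace Groth.Agent.Helper7.BrSepAlg

open Module TensorProduct IntermediateField

/-- if every central division algebra over `F'` is trivial then `F'` splits every central simple
algebra over a subfield. -/
theorem splits_of_trivial (E : Type u) [Field E] (D : Type u) [Ring D] [Algebra E D]
    [Algebra.IsCentral E D] [IsSimpleRing D] [FiniteDimensional E D]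
    (F' : Type u) [Field F'] [Algebra E F']
    (h : ∀ (D' : Type u) [DivisionRing D'] [Algebra F' D'] [Algebra.IsCentral F' D']
      [FiniteDimensional F' D'], finrank F' D' = 1) : Curves.Splits E D F' := by
  have hc : Algebra.IsCentral F' (F' ⊗[E] D) := Groth.Agent.Lead.CSA.isCentral_baseChange E F' D
  have hs : IsSimpleRing (F' ⊗[E] D) := Groth.Agent.S0190.result E F' D
  obtain ⟨n, hn, D', _, _, _, _, ⟨e⟩⟩ := Groth.Agent.Helper7.BrauerBasic.wedderburn F' (F' ⊗[E] D)
  have hD : finrank F' D' = 1 := h D'
  have hbij : Function.Bijective (Algebra.ofId F' D') := by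
    have hinj : Function.Injective (Algebra.ofId F' D') := (algebraMap F' D').injective
    refine ⟨hinj, ?_⟩
    have h1 : finrank F' F' = finrank F' D' := by rw [hD, Module.finrank_self]
    exact (LinearMap.injective_iff_surjective_of_finrank_eq_finrank h1
      (f := (Algebra.ofId F' D').toLinearMap)).1 hinj
  let g : F' ≃ₐ[F'] D' := AlgEquiv.ofBijective (Algebra.ofId F' D') hbij
  exact ⟨n, NeZero.ne n, ⟨e.trans (g.symm.mapMatrix (m := Fin n))⟩⟩

section ab
variable (K F : Type u) [Field K] [Field F] [Algebra K F] [Algebra.IsSeparable K F]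

theorem dirAB
    (ha : ∀ (F' : Type u) [Field F'] [Algebra F F'] [FiniteDimensional F F']
        [Algebra.IsSeparable F F']
        (D : Type u) [DivisionRing D] [Algebra F' D] [Algebra.IsCentral F' D]
        [FiniteDimensional F' D], finrank F' D = 1)
    (E : Type u) [Field E] [Algebra K E] [FiniteDimensional K E] [Algebra.IsSeparable K E]
    (D : Type u) [DivisionRing D] [Algebra E D] [Algebra.IsCentral E D] [FiniteDimensional E D]
    (M : Type u) [Field M] [Algebra K M] [Algebra E M] [Algebra F M] [IsScalarTower K E M]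
    [IsScalarTower K F M] :
    ∃ n : ℕ, Nonempty ((M ⊗[E] D) ≃ₐ[M] Matrix (Fin n) (Fin n) M) := by
  classical
  let bE := Module.finBasis K E
  let S₀ : Set M := Set.range (fun i => algebraMap E M (bE i))
  let F' : IntermediateField F M := IntermediateField.adjoin F S₀
  have hint : ∀ e : E, IsIntegral F (algebraMap E M e) := by
    intro e
    have h1 : IsIntegral K e := Algebra.IsIntegral.isIntegral e
    have h2 : IsIntegral K (algebraMap E M e) := h1.map (IsScalarTower.toAlgHom K E M)
    exact h2.tower_top
  have hsep : ∀ e : E, IsSeparable F (algebraMap E M e) := by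
    intro e
    have h1 : IsSeparable K e := Algebra.IsSeparable.isSeparable K e
    have h2 : IsSeparable K (algebraMap E M e) := by
      have := h1.map (IsScalarTower.toAlgHom K E M) (IsScalarTower.toAlgHom K E M).injective
      exact this
    exact h2.tower_top F
  have hS₀fin : Finite S₀ := Set.finite_range _
  have hfd : FiniteDimensional F F' :=
    IntermediateField.finiteDimensional_adjoin (fun x hx => by
      obtain ⟨i, rfl⟩ := hx
      exact hint _)
  have hsepF' : Algebra.IsSeparable F F' := by
    rw [IntermediateField.isSeparable_adjoin_iff_isSeparable]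
    rintro x ⟨i, rfl⟩
    exact hsep _
  have hmem : ∀ e : E, algebraMap E M e ∈ F' := by
    intro e
    rw [← bE.sum_repr e, map_sum]
    refine sum_mem (fun i _ => ?_)
    rw [Algebra.smul_def, map_mul, ← IsScalarTower.algebraMap_apply,
      IsScalarTower.algebraMap_apply K F M]
    exact mul_mem (F'.algebraMap_mem _) (IntermediateField.subset_adjoin F S₀ ⟨i, rfl⟩)
  let ι₀ : E →+* F' :=
    { toFun := fun e => ⟨algebraMap E M e, hmem e⟩
      map_one' := Subtype.ext (map_one _)
      map_mul' := fun x y => Subtype.ext (map_mul _ x y)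
      map_zero' := Subtype.ext (map_zero _)
      map_add' := fun x y => Subtype.ext (map_add _ x y) }
  letI : Algebra E F' := ι₀.toAlgebra
  have hsplit : Curves.Splits E D F' := splits_of_trivial E D F' (fun D' _ _ _ _ => ha F' D')
  let j : F' →ₐ[E] M :=
    { F'.val.toRingHom with
      commutes' := fun e => rfl }
  obtain ⟨n, -, h⟩ := Groth.Agent.Helper7.BrauerDVR.splits_of_fieldHom E D F' M j hsplit
  exact ⟨n, h⟩

end ab

section ba
variable (K F : Type u) [Field K] [Field F] [Algebra K F] [Algebra.IsSeparable K F]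

theorem dirBA
    (hb : ∀ (E : Type u) [Field E] [Algebra K E] [FiniteDimensional K E] [Algebra.IsSeparable K E]
        (D : Type u) [DivisionRing D] [Algebra E D] [Algebra.IsCentral E D] [FiniteDimensional E D]
        (M : Type u) [Field M] [Algebra K M] [Algebra E M] [Algebra F M] [IsScalarTower K E M]
        [IsScalarTower K F M],
        ∃ n : ℕ, Nonempty ((M ⊗[E] D) ≃ₐ[M] Matrix (Fin n) (Fin n) M))
    (F' : Type u) [Field F'] [Algebra F F'] [FiniteDimensional F F'] [Algebra.IsSeparable F F']
    (D : Type u) [DivisionRing D] [Algebra F' D] [Algebra.IsCentral F' D] [FiniteDimensional F' D] :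
    finrank F' D = 1 := by
  classical
  letI : Algebra K F' := ((algebraMap F F').comp (algebraMap K F)).toAlgebra
  have tKFF' : IsScalarTower K F F' := IsScalarTower.of_algebraMap_eq (fun _ => rfl)
  have hsepKF' : Algebra.IsSeparable K F' := Algebra.IsSeparable.trans K F F'
  let bD := Module.finBasis F' D
  let S : Set F' := Set.range (fun t : Fin (finrank F' D) × Fin (finrank F' D) × Fin (finrank F' D) =>
      bD.repr (bD t.1 * bD t.2.1) t.2.2) ∪ Set.range (fun l => bD.repr 1 l)
  have hSfin : S.Finite := (Set.finite_range _).union (Set.finite_range _)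
  have : Finite S := hSfin
  let E : IntermediateField K F' := IntermediateField.adjoin K S
  have hEfd : FiniteDimensional K E :=
    IntermediateField.finiteDimensional_adjoin (fun x _ => Algebra.IsIntegral.isIntegral x)
  have hEsep : Algebra.IsSeparable K E := Algebra.isSeparable_tower_bot_of_isSeparable K E F'
  have hc : ∀ i j l, bD.repr (bD i * bD j) l ∈ E := fun i j l =>
    IntermediateField.subset_adjoin K S (Or.inl ⟨(i, j, l), rfl⟩)
  have hu : ∀ l, bD.repr 1 l ∈ E := fun l =>
    IntermediateField.subset_adjoin K S (Or.inr ⟨l, rfl⟩)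
  -- the E-subalgebra spanned by the basis
  let p : Submodule E D := Submodule.span E (Set.range bD)
  have hsm : ∀ (x : F') (hx : x ∈ E) (d : D), d ∈ p → x • d ∈ p := by
    intro x hx d hd
    have : x • d = (⟨x, hx⟩ : E) • d := rfl
    rw [this]
    exact p.smul_mem _ hd
  have hone : (1 : D) ∈ p := by
    rw [← bD.sum_repr 1]
    exact Submodule.sum_mem _ (fun l _ => hsm _ (hu l) _ (Submodule.subset_span ⟨l, rfl⟩))
  have hmul : ∀ x y : D, x ∈ p → y ∈ p → x * y ∈ p := by
    intro x y hx hy
    induction hx, hy using Submodule.span_induction₂ with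
    | mem_mem x y hx hy =>
      obtain ⟨i, rfl⟩ := hx
      obtain ⟨j, rfl⟩ := hy
      rw [← bD.sum_repr (bD i * bD j)]
      exact Submodule.sum_mem _ (fun l _ => hsm _ (hc i j l) _ (Submodule.subset_span ⟨l, rfl⟩))
    | zero_left y _ => rw [zero_mul]; exact p.zero_mem
    | zero_right x _ => rw [mul_zero]; exact p.zero_mem
    | add_left x y z _ _ _ hx hy => rw [add_mul]; exact p.add_mem hx hy
    | add_right x y z _ _ _ hx hy => rw [mul_add]; exact p.add_mem hx hy
    | smul_left r x y _ _ h => rw [smul_mul_assoc]; exact p.smul_mem r h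
    | smul_right r x y _ _ h => rw [mul_smul_comm]; exact p.smul_mem r h
  let DE : Subalgebra E D := Submodule.toSubalgebra p hone hmul
  have hli : LinearIndependent E (bD : Fin (finrank F' D) → D) :=
    LinearIndependent.restrict_scalars' E bD.linearIndependent
  have hrankDE : finrank E DE = finrank F' D := by
    have h1 : finrank E p = Fintype.card (Fin (finrank F' D)) := finrank_span_eq_card hli
    rw [Fintype.card_fin] at h1
    exact h1
  have hfdDE : FiniteDimensional E DE := by
    apply Module.finite_of_finrank_pos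
    rw [hrankDE]
    exact Module.finrank_pos
  letI : DivisionRing DE := divisionRingOfFiniteDimensional E DE
  -- base change back to F'
  let ψ : F' ⊗[E] DE →ₐ[F'] D :=
    Algebra.TensorProduct.lift (Algebra.ofId F' D) DE.val (fun x y => Algebra.commutes x _)
  have hψsurj : Function.Surjective ψ := by
    have hrange : (LinearMap.range ψ.toLinearMap) = ⊤ := by
      rw [eq_top_iff, ← bD.span_eq]
      apply Submodule.span_le.2
      rintro _ ⟨i, rfl⟩
      refine ⟨(1 : F') ⊗ₜ[E] (⟨bD i, Submodule.subset_span ⟨i, rfl⟩⟩ : DE), ?_⟩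
      simp [ψ]
    exact LinearMap.range_eq_top.1 hrange
  have hdim : finrank F' (F' ⊗[E] DE) = finrank F' D := by
    rw [Module.finrank_baseChange, hrankDE]
  have hψbij : Function.Bijective ψ :=
    ⟨(LinearMap.injective_iff_surjective_of_finrank_eq_finrank hdim
      (f := ψ.toLinearMap)).2 hψsurj, hψsurj⟩
  let Ψ : F' ⊗[E] DE ≃ₐ[F'] D := AlgEquiv.ofBijective ψ hψbij
  have hcen' : Algebra.IsCentral F' (F' ⊗[E] DE) := Groth.Agent.S0200.isCentral_of_algEquiv' Ψ
  have hcenDE : Algebra.IsCentral E DE := Groth.Agent.Lead.CSA.isCentral_of_baseChange E F' DE hcen'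
  obtain ⟨n, ⟨φ⟩⟩ := hb E DE F'
  let e : D ≃ₐ[F'] Matrix (Fin n) (Fin n) F' := Ψ.symm.trans φ
  have hn0 : n ≠ 0 := by
    rintro rfl
    have h1 := e.toLinearEquiv.finrank_eq
    rw [Module.finrank_matrix] at h1
    have h2 : 0 < finrank F' D := Module.finrank_pos
    simp at h1
    omega
  let e1 : Matrix (Fin 1) (Fin 1) D ≃ₐ[F'] Matrix (Fin n) (Fin n) F' :=
    ((Matrix.reindexAlgEquiv F' D (Equiv.ofUnique (Fin 1) Unit)).trans
      (Matrix.uniqueAlgEquiv (m := Unit) (A := D) (R := F'))).trans e
  obtain ⟨-, hn1⟩ := Groth.Agent.Helper7.BrauerBasic.matrix_unique F' D F' 1 n one_ne_zero hn0 e1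
  have h1 := e.toLinearEquiv.finrank_eq
  rw [Module.finrank_matrix, ← hn1] at h1
  simpa using h1

end ba

end Groth.Agent.Helper7.BrSepAlg
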