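import Mathlib
import Groth.Agent.Helper7.BrauerSplit

set_option autoImplicit false
universe u u' v w x

namespace Groth.Agent.Helper7.BrauerTensor

open Module TensorProduct Matrix

section distrib
variable (k : Type*) (K : Type*) (A B : Type*) [CommRing k] [CommRing K] [Algebra k K]
  [Ring A] [Ring B] [Algebra k A] [Algebra k B]

/-- the algebra hom underlying `distribBC`. -/
noncomputable def distribHom : K ⊗[k] (A ⊗[k] B) →ₐ[K] (K ⊗[k] A) ⊗[K] (K ⊗[k] B) :=
  Algebra.TensorProduct.lift (Algebra.ofId K _)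
    (Algebra.TensorProduct.lift
      ((Algebra.TensorProduct.includeLeft (R := K) (S := k) (A := K ⊗[k] A) (B := K ⊗[k] B)).comp
        (Algebra.TensorProduct.includeRight (R := k) (A := K) (B := A)))
      (((Algebra.TensorProduct.includeRight (R := K) (A := K ⊗[k] A) (B := K ⊗[k] B)).restrictScalars k).comp
        (Algebra.TensorProduct.includeRight (R := k) (A := K) (B := B)))
      (fun a b => by
        show Commute (((1 : K) ⊗ₜ[k] a) ⊗ₜ[K] (1 : K ⊗[k] B)) ((1 : K ⊗[k] A) ⊗ₜ[K] ((1 : K) ⊗ₜ[k] b))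
        rw [Commute, SemiconjBy, Algebra.TensorProduct.tmul_mul_tmul, Algebra.TensorProduct.tmul_mul_tmul]
        simp))
    (fun x y => Algebra.commutes _ _)

theorem distribHom_tmul (x : K) (a : A) (b : B) :
    distribHom k K A B (x ⊗ₜ[k] (a ⊗ₜ[k] b)) = (x ⊗ₜ[k] a) ⊗ₜ[K] ((1 : K) ⊗ₜ[k] b) := by
  simp [distribHom, Algebra.ofId_apply, Algebra.TensorProduct.algebraMap_apply,
    Algebra.TensorProduct.tmul_mul_tmul]

/-- `K ⊗ (A ⊗ B) ≃ₐ[K] (K ⊗ A) ⊗[K] (K ⊗ B)` for noncommutative `A`, `B`. -/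
noncomputable def distribBC : K ⊗[k] (A ⊗[k] B) ≃ₐ[K] (K ⊗[k] A) ⊗[K] (K ⊗[k] B) :=
  AlgEquiv.ofBijective (distribHom k K A B) (by
    have h : ⇑(distribHom k K A B) =
        ⇑(TensorProduct.AlgebraTensorModule.distribBaseChange k K A B) := by
      have h' : (distribHom k K A B).toLinearMap =
          (TensorProduct.AlgebraTensorModule.distribBaseChange k K A B).toLinearMap := by
        ext a b
        simp [distribHom_tmul]
      exact congrArg DFunLike.coe h'
    rw [h]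
    exact LinearEquiv.bijective _)

@[simp] theorem distribBC_tmul (x : K) (a : A) (b : B) :
    distribBC k K A B (x ⊗ₜ[k] (a ⊗ₜ[k] b)) = (x ⊗ₜ[k] a) ⊗ₜ[K] ((1 : K) ⊗ₜ[k] b) :=
  distribHom_tmul k K A B x a b

end distrib

section split
variable (k : Type u) (K : Type u') (A : Type v) (B : Type w) [CommRing k] [CommRing K] [Algebra k K]
  [Ring A] [Ring B] [Algebra k A] [Algebra k B]
variable {ι κ : Type*} [Fintype ι] [Fintype κ] [DecidableEq ι] [DecidableEq κ]

/-- splitting of a tensor product from splittings of the factors. -/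
noncomputable def splitTensor (φA : K ⊗[k] A ≃ₐ[K] Matrix ι ι K) (φB : K ⊗[k] B ≃ₐ[K] Matrix κ κ K) :
    K ⊗[k] (A ⊗[k] B) ≃ₐ[K] Matrix (ι × κ) (ι × κ) K :=
  (distribBC k K A B).trans ((Algebra.TensorProduct.congr φA φB).trans (Matrix.kroneckerAlgEquiv ι κ K))

theorem splitTensor_tmul (φA : K ⊗[k] A ≃ₐ[K] Matrix ι ι K) (φB : K ⊗[k] B ≃ₐ[K] Matrix κ κ K)
    (x : K) (a : A) (b : B) :
    splitTensor k K A B φA φB (x ⊗ₜ[k] (a ⊗ₜ[k] b)) =
      Matrix.kroneckerMap (· * ·) (φA (x ⊗ₜ[k] a)) (φB ((1 : K) ⊗ₜ[k] b)) := by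
  simp [splitTensor]

end split

theorem splits_tensor (k : Type u) [Field k] (K : Type u') [Field K] [Algebra k K]
    (A : Type v) [Ring A] [Algebra k A] (B : Type w) [Ring B] [Algebra k B]
    (hA : Curves.Splits k A K) (hB : Curves.Splits k B K) : Curves.Splits k (A ⊗[k] B) K := by
  obtain ⟨n, hn, ⟨f⟩⟩ := hA
  obtain ⟨m, hm, ⟨g⟩⟩ := hB
  exact ⟨n * m, Nat.mul_ne_zero hn hm,
    ⟨(splitTensor k K A B f g).trans (Matrix.reindexAlgEquiv K K finProdFinEquiv)⟩⟩

end Groth.Agent.Helper7.BrauerTensor
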