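import Mathlib
import Groth.Agent.Helper7.BrauerTensor

set_option autoImplicit false
universe u u' v w x

namespace Groth.Agent.Helper7.BrauerCoc

open Module TensorProduct Matrix Groth.Agent.Helper7.BrauerTensor

section defs
variable (k : Type u) (K : Type u') [Field k] [Field K] [Algebra k K]

/-- the Galois action on the first factor of `K ⊗ A`. -/
noncomputable def gal (A : Type v) [Ring A] [Algebra k A] (σ : K ≃ₐ[k] K) : K ⊗[k] A →ₐ[k] K ⊗[k] A :=
  Algebra.TensorProduct.map (σ : K →ₐ[k] K) (AlgHom.id k A)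

@[simp] theorem gal_tmul (A : Type v) [Ring A] [Algebra k A] (σ : K ≃ₐ[k] K) (x : K) (a : A) :
    gal k K A σ (x ⊗ₜ[k] a) = σ x ⊗ₜ[k] a := by
  simp [gal]

theorem gal_smul (A : Type v) [Ring A] [Algebra k A] (σ : K ≃ₐ[k] K) (x : K) (z : K ⊗[k] A) :
    gal k K A σ (x • z) = σ x • gal k K A σ z := by
  induction z using TensorProduct.induction_on with
  | zero => simp
  | tmul y a => simp [TensorProduct.smul_tmul']
  | add z w hz hw => rw [smul_add, map_add, hz, hw, map_add, smul_add]

theorem gal_mul (A : Type v) [Ring A] [Algebra k A] (σ τ : K ≃ₐ[k] K) (z : K ⊗[k] A) :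
    gal k K A (σ * τ) z = gal k K A σ (gal k K A τ z) := by
  induction z using TensorProduct.induction_on with
  | zero => simp
  | tmul y a => simp
  | add z w hz hw => rw [map_add, hz, hw, map_add, map_add]

theorem gal_one (A : Type v) [Ring A] [Algebra k A] (z : K ⊗[k] A) :
    gal k K A 1 z = z := by
  induction z using TensorProduct.induction_on with
  | zero => simp
  | tmul y a => simp
  | add z w hz hw => rw [map_add, hz, hw]

/-- A splitting `φ` of `A` over `K` together with matrices `g σ` implementing the Galois action,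
multiplicative up to the 2-cochain `c`. -/
structure Rep (c : (K ≃ₐ[k] K) → (K ≃ₐ[k] K) → K) (A : Type v) [Ring A] [Algebra k A]
    (ι : Type w) [Fintype ι] [DecidableEq ι] where
  φ : K ⊗[k] A ≃ₐ[K] Matrix ι ι K
  g : (K ≃ₐ[k] K) → Matrix ι ι K
  gi : (K ≃ₐ[k] K) → Matrix ι ι K
  hg : ∀ σ, g σ * gi σ = 1
  hφ : ∀ σ x, φ (gal k K A σ x) = g σ * (φ x).map σ * gi σ
  hmul : ∀ σ τ, g (σ * τ) = c σ τ • (g σ * (g τ).map σ)

/-- `A` is represented by the cochain `c`. -/
def IsRep (c : (K ≃ₐ[k] K) → (K ≃ₐ[k] K) → K) (A : Type v) [Ring A] [Algebra k A] : Prop :=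
  ∃ (ι : Type) (_ : Fintype ι) (_ : DecidableEq ι), Nonempty ι ∧ Nonempty (Rep k K c A ι)

end defs

section basic
variable {k : Type u} {K : Type u'} [Field k] [Field K] [Algebra k K]
variable {c c' : (K ≃ₐ[k] K) → (K ≃ₐ[k] K) → K}

theorem gal_congr {A : Type v} [Ring A] [Algebra k A] {A' : Type w} [Ring A'] [Algebra k A']
    (e : A ≃ₐ[k] A') (σ : K ≃ₐ[k] K) (z : K ⊗[k] A) :
    Algebra.TensorProduct.congr (AlgEquiv.refl (R := K) (A₁ := K)) e (gal k K A σ z) =
      gal k K A' σ (Algebra.TensorProduct.congr (AlgEquiv.refl (R := K) (A₁ := K)) e z) := by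
  induction z using TensorProduct.induction_on with
  | zero => simp
  | tmul y a => simp
  | add z w hz hw => simp only [map_add, hz, hw]

/-- transport along an isomorphism. -/
noncomputable def Rep.congr {A : Type v} [Ring A] [Algebra k A] {A' : Type w} [Ring A'] [Algebra k A']
    {ι : Type x} [Fintype ι] [DecidableEq ι] (R : Rep k K c A ι) (e : A ≃ₐ[k] A') : Rep k K c A' ι where
  φ := (Algebra.TensorProduct.congr (AlgEquiv.refl (R := K) (A₁ := K)) e.symm).trans R.φ
  g := R.g
  gi := R.gi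
  hg := R.hg
  hφ σ z := by
    rw [AlgEquiv.trans_apply, gal_congr, R.hφ]
    rfl
  hmul := R.hmul

theorem IsRep.congr {A : Type v} [Ring A] [Algebra k A] {A' : Type w} [Ring A'] [Algebra k A']
    (h : IsRep k K c A) (e : A ≃ₐ[k] A') : IsRep k K c A' := by
  obtain ⟨ι, _, _, hne, ⟨R⟩⟩ := h
  exact ⟨ι, _, _, hne, ⟨R.congr e⟩⟩

theorem map_kronecker {ι κ : Type*} {F : Type*} [FunLike F K K] [RingHomClass F K K] (σ : F)
    (M : Matrix ι ι K) (N : Matrix κ κ K) :
    (Matrix.kroneckerMap (· * ·) M N).map σ =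
      Matrix.kroneckerMap (· * ·) (M.map σ) (N.map σ) := by
  ext ⟨i, j⟩ ⟨i', j'⟩
  simp

/-- tensor product of representations. -/
noncomputable def Rep.tensor {A : Type v} [Ring A] [Algebra k A] {B : Type w} [Ring B] [Algebra k B]
    {ι κ : Type*} [Fintype ι] [DecidableEq ι] [Fintype κ] [DecidableEq κ]
    (R : Rep k K c A ι) (S : Rep k K c' B κ) : Rep k K (c * c') (A ⊗[k] B) (ι × κ) where
  φ := splitTensor k K A B R.φ S.φ
  g σ := Matrix.kroneckerMap (· * ·) (R.g σ) (S.g σ)
  gi σ := Matrix.kroneckerMap (· * ·) (R.gi σ) (S.gi σ)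
  hg σ := by
    rw [← Matrix.mul_kronecker_mul, R.hg, S.hg, Matrix.one_kronecker_one]
  hφ σ z := by
    induction z using TensorProduct.induction_on with
    | zero => simp
    | add z w hz hw =>
      simp only [map_add, hz, hw]
      rw [Matrix.map_add _ (fun a b => map_add σ a b)]
      simp only [Matrix.mul_add, Matrix.add_mul]
    | tmul y ab =>
      induction ab using TensorProduct.induction_on with
      | zero => simp
      | add z w hz hw =>
        rw [TensorProduct.tmul_add]
        simp only [map_add, hz, hw]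
        rw [Matrix.map_add _ (fun a b => map_add σ a b)]
        simp only [Matrix.mul_add, Matrix.add_mul]
      | tmul a b =>
        rw [gal_tmul, splitTensor_tmul, splitTensor_tmul]
        have h1 : R.φ (σ y ⊗ₜ[k] a) = R.g σ * (R.φ (y ⊗ₜ[k] a)).map σ * R.gi σ := by
          rw [← R.hφ, gal_tmul]
        have h2 : S.φ ((1 : K) ⊗ₜ[k] b) = S.g σ * (S.φ ((1 : K) ⊗ₜ[k] b)).map σ * S.gi σ := by
          rw [← S.hφ, gal_tmul, map_one]
        rw [h1]
        conv_lhs => rw [h2]
        rw [Matrix.mul_kronecker_mul, Matrix.mul_kronecker_mul]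
        congr 2
        exact (map_kronecker σ _ _).symm
  hmul σ τ := by
    rw [R.hmul, S.hmul, Matrix.smul_kronecker, Matrix.kronecker_smul, smul_smul,
      Matrix.mul_kronecker_mul]
    rw [map_kronecker σ, Pi.mul_apply, Pi.mul_apply]

theorem IsRep.tensor {A : Type v} [Ring A] [Algebra k A] {B : Type w} [Ring B] [Algebra k B]
    (hA : IsRep k K c A) (hB : IsRep k K c' B) : IsRep k K (c * c') (A ⊗[k] B) := by
  obtain ⟨ι, _, _, hne, ⟨R⟩⟩ := hA
  obtain ⟨κ, _, _, hne', ⟨S⟩⟩ := hB
  exact ⟨ι × κ, inferInstance, inferInstance, inferInstance, ⟨R.tensor S⟩⟩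

section trivial
variable (k K)

/-- the standard splitting of a matrix algebra. -/
noncomputable def matSplit (m : ℕ) :
    K ⊗[k] Matrix (Fin m) (Fin m) k ≃ₐ[K] Matrix (Fin m) (Fin m) K :=
  AlgEquiv.ofRingEquiv (f := (matrixEquivTensor (Fin m) k K).symm.toRingEquiv) (by
    intro x
    show (matrixEquivTensor (Fin m) k K).symm (x ⊗ₜ[k] 1) = _
    rw [matrixEquivTensor_apply_symm]
    ext i j
    simp [Matrix.algebraMap_matrix_apply, Matrix.one_apply])

theorem matSplit_tmul (m : ℕ) (x : K) (M : Matrix (Fin m) (Fin m) k) :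
    matSplit k K m (x ⊗ₜ[k] M) = x • M.map (algebraMap k K) :=
  matrixEquivTensor_apply_symm (Fin m) k K x M

/-- matrix algebras over `k` are represented by the trivial cochain. -/
noncomputable def Rep.matrix (m : ℕ) : Rep k K 1 (Matrix (Fin m) (Fin m) k) (Fin m) where
  φ := matSplit k K m
  g _ := 1
  gi _ := 1
  hg _ := by simp
  hφ σ z := by
    induction z using TensorProduct.induction_on with
    | zero => simp
    | add z w hz hw =>
      simp only [map_add, hz, hw]
      rw [Matrix.map_add _ (fun a b => map_add σ a b)]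
      simp only [Matrix.mul_add, Matrix.add_mul]
    | tmul y M =>
      rw [gal_tmul, matSplit_tmul, matSplit_tmul, one_mul, mul_one]
      ext i j
      simp
  hmul σ τ := by simp

theorem IsRep.matrix (m : ℕ) (hm : m ≠ 0) : IsRep k K 1 (Matrix (Fin m) (Fin m) k) :=
  ⟨Fin m, inferInstance, inferInstance, ⟨⟨0, Nat.pos_of_ne_zero hm⟩⟩, ⟨Rep.matrix k K m⟩⟩

end trivial

section det

theorem Rep.det_mul {A : Type v} [Ring A] [Algebra k A] {ι : Type w} [Fintype ι] [DecidableEq ι]
    (R : Rep k K c A ι) (σ τ : K ≃ₐ[k] K) :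
    (R.g (σ * τ)).det = c σ τ ^ Fintype.card ι * ((R.g σ).det * σ (R.g τ).det) := by
  rw [R.hmul, Matrix.det_smul, Matrix.det_mul]
  congr 2
  exact ((σ : K →+* K).map_det (R.g τ)).symm

theorem Rep.det_ne_zero {A : Type v} [Ring A] [Algebra k A] {ι : Type w} [Fintype ι] [DecidableEq ι]
    (R : Rep k K c A ι) (σ : K ≃ₐ[k] K) : (R.g σ).det ≠ 0 := by
  intro h
  have := congrArg Matrix.det (R.hg σ)
  rw [Matrix.det_mul, h, zero_mul, Matrix.det_one] at this
  exact zero_ne_one this

end det

end basic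

end Groth.Agent.Helper7.BrauerCoc
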