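import Mathlib
import Groth.Agent.Helper7.BrauerCoc
import Groth.Agent.Helper5.CSA2

set_option autoImplicit false
universe u u' v w x

namespace Groth.Agent.Helper7.BrauerCoc

open Module TensorProduct Matrix Groth.Agent.Helper7.BrauerTensor

section exist
variable {k : Type u} {K : Type u'} [Field k] [Field K] [Algebra k K]
variable {A : Type v} [Ring A] [Algebra k A] {ι : Type w} [Fintype ι] [DecidableEq ι]

theorem map_map_symm (σ : K ≃ₐ[k] K) (M : Matrix ι ι K) : (M.map σ).map σ.symm = M := by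
  ext i j; simp

theorem map_symm_map (σ : K ≃ₐ[k] K) (M : Matrix ι ι K) : (M.map σ.symm).map σ = M := by
  ext i j; simp

theorem map_mul' (σ : K ≃ₐ[k] K) (M N : Matrix ι ι K) : (M * N).map σ = M.map σ * N.map σ := by
  ext i j; simp [Matrix.mul_apply, map_sum]

theorem map_one' (σ : K ≃ₐ[k] K) : (1 : Matrix ι ι K).map σ = 1 := by
  ext i j
  by_cases h : i = j <;> simp [Matrix.one_apply, h]

/-- the endomorphism of the matrix algebra measuring the failure of `φ` to be Galois equivariant. -/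
noncomputable def thetaHom (φ : K ⊗[k] A ≃ₐ[K] Matrix ι ι K) (σ : K ≃ₐ[k] K) :
    Matrix ι ι K →ₐ[K] Matrix ι ι K :=
  { toRingHom := (φ : K ⊗[k] A →+* Matrix ι ι K).comp
      (((gal k K A σ) : K ⊗[k] A →+* K ⊗[k] A).comp
        ((φ.symm : Matrix ι ι K →+* K ⊗[k] A).comp ((σ.symm : K →+* K).mapMatrix)))
    commutes' := fun x => by
      show φ (gal k K A σ (φ.symm ((algebraMap K (Matrix ι ι K) x).map σ.symm))) = _
      have h1 : (algebraMap K (Matrix ι ι K) x).map σ.symm =
          algebraMap K (Matrix ι ι K) (σ.symm x) := by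
        ext i j
        by_cases h : i = j <;> simp [Matrix.algebraMap_matrix_apply, h]
      rw [h1, AlgEquiv.commutes, Algebra.TensorProduct.algebraMap_apply, gal_tmul,
        Algebra.algebraMap_self, RingHom.id_apply,
        AlgEquiv.apply_symm_apply, ← Algebra.algebraMap_self_apply x,
        ← Algebra.TensorProduct.algebraMap_apply, AlgEquiv.commutes]
      rfl }

theorem thetaHom_apply (φ : K ⊗[k] A ≃ₐ[K] Matrix ι ι K) (σ : K ≃ₐ[k] K) (M : Matrix ι ι K) :
    thetaHom φ σ M = φ (gal k K A σ (φ.symm (M.map σ.symm))) := rfl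

theorem exists_conj [Nonempty ι] (φ : K ⊗[k] A ≃ₐ[K] Matrix ι ι K) (σ : K ≃ₐ[k] K) :
    ∃ u : (Matrix ι ι K)ˣ, ∀ z, φ (gal k K A σ z) = (u : Matrix ι ι K) * (φ z).map σ *
      ((u⁻¹ : (Matrix ι ι K)ˣ) : Matrix ι ι K) := by
  have hinj : Function.Injective (thetaHom φ σ) :=
    (thetaHom φ σ : Matrix ι ι K →+* Matrix ι ι K).injective
  have hbij : Function.Bijective (thetaHom φ σ) :=
    ⟨hinj, (LinearMap.injective_iff_surjective (f := (thetaHom φ σ).toLinearMap)).1 hinj⟩
  obtain ⟨u, hu⟩ := Groth.Agent.Helper5.CSA.skolem_noether K (Matrix ι ι K)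
    (AlgEquiv.ofBijective (thetaHom φ σ) hbij)
  refine ⟨u, fun z => ?_⟩
  have := hu ((φ z).map σ)
  rw [AlgEquiv.coe_ofBijective, thetaHom_apply, map_map_symm, AlgEquiv.symm_apply_apply] at this
  exact this

theorem exists_rep [Nonempty ι] (φ : K ⊗[k] A ≃ₐ[K] Matrix ι ι K) :
    ∃ (c : (K ≃ₐ[k] K) → (K ≃ₐ[k] K) → K) (R : Rep k K c A ι), R.φ = φ := by
  choose u hu using exists_conj φ
  have hc : ∀ σ τ : K ≃ₐ[k] K, ∃ c : K, (u (σ * τ) : Matrix ι ι K) =
      c • ((u σ : Matrix ι ι K) * (u τ : Matrix ι ι K).map σ) := by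
    intro σ τ
    set P : Matrix ι ι K := (u σ : Matrix ι ι K) * (u τ : Matrix ι ι K).map σ with hP
    set Pi : Matrix ι ι K := (((u τ)⁻¹ : (Matrix ι ι K)ˣ) : Matrix ι ι K).map σ *
      (((u σ)⁻¹ : (Matrix ι ι K)ˣ) : Matrix ι ι K) with hPi
    have hmm : ((u τ : Matrix ι ι K).map σ) * ((((u τ)⁻¹ : (Matrix ι ι K)ˣ) : Matrix ι ι K).map σ)
        = 1 := by
      rw [← map_mul', Units.mul_inv, map_one']
    have hPPi : P * Pi = 1 := by
      rw [hP, hPi]
      calc (u σ : Matrix ι ι K) * (u τ : Matrix ι ι K).map σ *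
            ((((u τ)⁻¹ : (Matrix ι ι K)ˣ) : Matrix ι ι K).map σ *
              (((u σ)⁻¹ : (Matrix ι ι K)ˣ) : Matrix ι ι K))
          = (u σ : Matrix ι ι K) * ((u τ : Matrix ι ι K).map σ *
            ((((u τ)⁻¹ : (Matrix ι ι K)ˣ) : Matrix ι ι K).map σ)) *
              (((u σ)⁻¹ : (Matrix ι ι K)ˣ) : Matrix ι ι K) := by
            simp only [Matrix.mul_assoc]
        _ = 1 := by rw [hmm, Matrix.mul_one, Units.mul_inv]
    have hPiP : Pi * P = 1 := mul_eq_one_comm.1 hPPi
    -- conjugation identity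
    have hconj : ∀ M : Matrix ι ι K, (u (σ * τ) : Matrix ι ι K) * M *
        (((u (σ * τ))⁻¹ : (Matrix ι ι K)ˣ) : Matrix ι ι K) = P * M * Pi := by
      intro M
      have h1 := hu (σ * τ) (φ.symm (M.map (σ * τ).symm))
      rw [AlgEquiv.apply_symm_apply, map_symm_map, gal_mul, hu σ, hu τ,
        AlgEquiv.apply_symm_apply] at h1
      have h2 : ((M.map (σ * τ).symm).map τ).map σ = M := by
        ext i j
        simp only [Matrix.map_apply]
        rw [← AlgEquiv.mul_apply, AlgEquiv.apply_symm_apply]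
      rw [← h1, hP, hPi, map_mul', map_mul', h2]
      simp only [Matrix.mul_assoc]
    set z : Matrix ι ι K := Pi * (u (σ * τ) : Matrix ι ι K) with hz
    have hzc : z ∈ Subalgebra.center K (Matrix ι ι K) := by
      rw [Subalgebra.mem_center_iff]
      intro M
      have h1 := hconj M
      have h2 : Pi * ((u (σ * τ) : Matrix ι ι K) * M *
          (((u (σ * τ))⁻¹ : (Matrix ι ι K)ˣ) : Matrix ι ι K)) * (u (σ * τ) : Matrix ι ι K) =
          Pi * (P * M * Pi) * (u (σ * τ) : Matrix ι ι K) := by rw [h1]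
      have h3 : Pi * ((u (σ * τ) : Matrix ι ι K) * M *
          (((u (σ * τ))⁻¹ : (Matrix ι ι K)ˣ) : Matrix ι ι K)) * (u (σ * τ) : Matrix ι ι K) =
          z * M := by
        rw [hz]
        simp only [Matrix.mul_assoc, Units.inv_mul, Matrix.mul_one]
      have h4 : Pi * (P * M * Pi) * (u (σ * τ) : Matrix ι ι K) = M * z := by
        rw [hz]
        calc Pi * (P * M * Pi) * (u (σ * τ) : Matrix ι ι K)
            = (Pi * P) * M * (Pi * (u (σ * τ) : Matrix ι ι K)) := by simp only [Matrix.mul_assoc]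
          _ = M * (Pi * (u (σ * τ) : Matrix ι ι K)) := by rw [hPiP, Matrix.one_mul]
      rw [← h3, ← h4, h2]
    rw [Algebra.IsCentral.center_eq_bot, Algebra.mem_bot] at hzc
    obtain ⟨c, hcz⟩ := hzc
    refine ⟨c, ?_⟩
    have : (u (σ * τ) : Matrix ι ι K) = P * z := by
      rw [hz, ← Matrix.mul_assoc, hPPi, Matrix.one_mul]
    rw [this, ← hcz, Algebra.algebraMap_eq_smul_one, Matrix.mul_smul, Matrix.mul_one]
  choose c hc using hc
  exact ⟨c, { φ := φ
              g := fun σ => (u σ : Matrix ι ι K)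
              gi := fun σ => (((u σ)⁻¹ : (Matrix ι ι K)ˣ) : Matrix ι ι K)
              hg := fun σ => (u σ).mul_inv
              hφ := hu
              hmul := hc }, rfl⟩

end exist

end Groth.Agent.Helper7.BrauerCoc
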