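import Mathlib

set_option autoImplicit false
set_option linter.unusedSectionVars false
universe u v w x

namespace Groth.Agent.Helper7.GalDescent

open scoped TensorProduct

variable {k : Type u} {K : Type v} [Field k] [Field K] [Algebra k K]
variable {M : Type w} [AddCommGroup M] [Module K M] [Module k M] [IsScalarTower k K M]

/-- A semilinear action of the Galois group, given as a bare function with laws. -/
structure IsSemiAction (ρ : (K ≃ₐ[k] K) → M → M) : Prop where
  add : ∀ σ x y, ρ σ (x + y) = ρ σ x + ρ σ y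
  smul : ∀ σ (c : K) x, ρ σ (c • x) = σ c • ρ σ x
  mul : ∀ σ τ x, ρ (σ * τ) x = ρ σ (ρ τ x)
  one : ∀ x, ρ 1 x = x

namespace IsSemiAction

variable {ρ : (K ≃ₐ[k] K) → M → M} (hρ : IsSemiAction ρ)

include hρ

omit [Module k M] [IsScalarTower k K M] in
theorem zero (σ : K ≃ₐ[k] K) : ρ σ 0 = 0 := by
  have h := hρ.add σ 0 0
  rw [add_zero] at h
  exact left_eq_add.1 h

/-- ρ σ as an additive hom. -/
def hom (σ : K ≃ₐ[k] K) : M →+ M where
  toFun := ρ σ
  map_zero' := hρ.zero σ
  map_add' := hρ.add σ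

theorem hom_apply (σ : K ≃ₐ[k] K) (x : M) : hρ.hom σ x = ρ σ x := rfl

theorem sum {ι : Type*} (σ : K ≃ₐ[k] K) (s : Finset ι) (f : ι → M) :
    ρ σ (∑ i ∈ s, f i) = ∑ i ∈ s, ρ σ (f i) := by
  rw [← hρ.hom_apply, map_sum]
  rfl

variable [FiniteDimensional k K]

theorem avg_fixed (x : M) (τ : K ≃ₐ[k] K) : ρ τ (∑ σ : K ≃ₐ[k] K, ρ σ x) = ∑ σ : K ≃ₐ[k] K, ρ σ x := by
  rw [hρ.sum]
  simp only [← hρ.mul]
  exact Fintype.sum_equiv (Equiv.mulLeft τ) _ _ (fun σ => rfl)

theorem mem_span_fixed (x : M) : x ∈ Submodule.span K {y : M | ∀ σ, ρ σ y = y} := by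
  classical
  by_contra hx
  obtain ⟨f, hfx, hf⟩ := Submodule.exists_dual_map_eq_bot_of_notMem hx inferInstance
  have hf0 : ∀ y ∈ Submodule.span K {y : M | ∀ σ, ρ σ y = y}, f y = 0 := by
    intro y hy
    have : f y ∈ Submodule.map f (Submodule.span K {y : M | ∀ σ, ρ σ y = y}) :=
      Submodule.mem_map_of_mem hy
    rw [hf] at this
    exact this
  have hT : ∀ c : K, ∑ σ : K ≃ₐ[k] K, f (ρ σ x) * σ c = 0 := by
    intro c
    have h1 := hf0 _ (Submodule.subset_span (hρ.avg_fixed (c • x)))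
    rw [map_sum] at h1
    rw [← h1]
    refine Finset.sum_congr rfl fun σ _ => ?_
    rw [hρ.smul, map_smul, smul_eq_mul, mul_comm]
  have hli := (linearIndependent_toLinearMap k K K).comp
    (fun σ : K ≃ₐ[k] K => (σ : K →ₐ[k] K)) (fun σ τ h => by
      ext c
      exact DFunLike.congr_fun h c)
  have h2 := Fintype.linearIndependent_iff.1 hli (fun σ => f (ρ σ x)) (by
    ext c
    simp only [Function.comp_apply, LinearMap.coe_sum, Finset.sum_apply, LinearMap.smul_apply,
      AlgHom.toLinearMap_apply, smul_eq_mul, LinearMap.zero_apply]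
    exact hT c) 1
  apply hfx
  rw [← hρ.one x]
  exact h2

variable [IsGalois k K]

theorem lift_injective {W : Type x} [AddCommGroup W] [Module k W] (ι : W →ₗ[k] M)
    (hι : Function.Injective ι) (hfix : ∀ w σ, ρ σ (ι w) = ι w) :
    Function.Injective (LinearMap.liftBaseChange K ι) := by
  classical
  rw [injective_iff_map_eq_zero]
  intro z hz
  let b := Module.finBasis k K
  obtain ⟨c, rfl⟩ := TensorProduct.eq_repr_basis_left b z
  have h1 : ∑ j, b j • ι (c j) = 0 := by
    rw [Finsupp.sum_fintype _ _ (fun i => by rw [TensorProduct.tmul_zero]), map_sum] at hz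
    simpa only [LinearMap.liftBaseChange_tmul] using hz
  suffices hc : c = 0 by
    rw [hc, Finsupp.sum_zero_index]
  ext i
  apply hι
  rw [Finsupp.zero_apply, map_zero]
  have h2 : ∑ σ : K ≃ₐ[k] K, ρ σ (b.traceDual i • ∑ j, b j • ι (c j)) = 0 := by
    rw [h1, smul_zero]
    simp only [hρ.zero, Finset.sum_const_zero]
  have h3 : ∀ σ : K ≃ₐ[k] K, ρ σ (b.traceDual i • ∑ j, b j • ι (c j)) =
      ∑ j, σ (b.traceDual i * b j) • ι (c j) := by
    intro σ
    rw [Finset.smul_sum, hρ.sum]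
    refine Finset.sum_congr rfl fun j _ => ?_
    rw [smul_smul, hρ.smul, hfix]
  simp only [h3] at h2
  rw [Finset.sum_comm] at h2
  simp only [← Finset.sum_smul, ← trace_eq_sum_automorphisms,
    Module.Basis.trace_traceDual_mul] at h2
  rw [Finset.sum_eq_single i] at h2
  · rw [if_pos rfl, map_one, one_smul] at h2
    exact h2
  · intro j _ hj
    rw [if_neg hj, map_zero, zero_smul]
  · intro h
    exact absurd (Finset.mem_univ i) h

theorem lift_surjective {W : Type x} [AddCommGroup W] [Module k W] (ι : W →ₗ[k] M)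
    (hsurj : ∀ y, (∀ σ, ρ σ y = y) → y ∈ LinearMap.range ι) :
    Function.Surjective (LinearMap.liftBaseChange K ι) := by
  rw [← LinearMap.range_eq_top, eq_top_iff]
  intro x _
  have hx := hρ.mem_span_fixed x
  refine Submodule.span_le.2 ?_ hx
  intro y hy
  obtain ⟨w, rfl⟩ := hsurj y hy
  exact ⟨(1 : K) ⊗ₜ[k] w, by rw [LinearMap.liftBaseChange_tmul, one_smul]⟩

theorem lift_bijective {W : Type x} [AddCommGroup W] [Module k W] (ι : W →ₗ[k] M)
    (hι : Function.Injective ι) (hrange : ∀ y, y ∈ LinearMap.range ι ↔ ∀ σ, ρ σ y = y) :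
    Function.Bijective (LinearMap.liftBaseChange K ι) :=
  ⟨hρ.lift_injective ι hι (fun w σ => (hrange (ι w)).1 ⟨w, rfl⟩ σ),
    hρ.lift_surjective ι (fun y hy => (hrange y).2 hy)⟩

end IsSemiAction

end Groth.Agent.Helper7.GalDescent
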