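import Mathlib

set_option autoImplicit false
universe u v w x

namespace Groth.Agent.Helper7.GalInv

open scoped TensorProduct

variable {k : Type u} {K : Type v} [Field k] [Field K] [Algebra k K]
variable {W : Type w} [AddCommGroup W] [Module k W]

theorem tmul_one_injective : Function.Injective (fun w : W => (1 : K) ⊗ₜ[k] w) := by
  classical
  let b := Module.Basis.ofVectorSpace k W
  let E := TensorProduct.equivFinsuppOfBasisRight (M := K) b
  intro w w' h
  apply b.repr.injective
  ext i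
  have h1 : E ((1 : K) ⊗ₜ[k] w) i = E ((1 : K) ⊗ₜ[k] w') i := by
    have h' : ((1 : K) ⊗ₜ[k] w) = (1 : K) ⊗ₜ[k] w' := h
    rw [h']
  rw [TensorProduct.equivFinsuppOfBasisRight_apply_tmul_apply,
    TensorProduct.equivFinsuppOfBasisRight_apply_tmul_apply, Algebra.smul_def, Algebra.smul_def,
    mul_one, mul_one] at h1
  exact (algebraMap k K).injective h1

theorem inv_exists [FiniteDimensional k K] [IsGalois k K] (z : K ⊗[k] W)
    (hz : ∀ σ : K ≃ₐ[k] K, σ • z = z) : ∃ w : W, z = (1 : K) ⊗ₜ[k] w := by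
  classical
  let b := Module.Basis.ofVectorSpace k W
  let E := TensorProduct.equivFinsuppOfBasisRight (M := K) b
  have hE : ∀ (σ : K ≃ₐ[k] K) (y : K ⊗[k] W) i, E (σ • y) i = σ (E y i) := by
    intro σ y i
    induction y using TensorProduct.induction_on with
    | zero => simp
    | tmul c w =>
      rw [TensorProduct.smul_tmul', TensorProduct.equivFinsuppOfBasisRight_apply_tmul_apply,
        TensorProduct.equivFinsuppOfBasisRight_apply_tmul_apply, AlgEquiv.smul_def, map_smul]
    | add y y' hy hy' =>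
      rw [smul_add, map_add, map_add, Finsupp.add_apply, Finsupp.add_apply, map_add, hy, hy']
  have hfix : ∀ i, ∃ d : k, algebraMap k K d = E z i := by
    intro i
    have : E z i ∈ Set.range (algebraMap k K) := by
      rw [IsGalois.mem_range_algebraMap_iff_fixed]
      intro σ
      rw [← hE, hz]
    exact this
  choose d hd using hfix
  let dd : _ →₀ k := Finsupp.onFinset (E z).support d (by
    intro i hi
    rw [Finsupp.mem_support_iff]
    intro h0
    apply hi
    have := hd i
    rw [h0] at this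
    apply (algebraMap k K).injective
    rw [hd i, h0, map_zero])
  refine ⟨b.repr.symm dd, ?_⟩
  apply E.injective
  ext i
  rw [TensorProduct.equivFinsuppOfBasisRight_apply_tmul_apply, LinearEquiv.apply_symm_apply,
    Finsupp.onFinset_apply, Algebra.smul_def, mul_one, hd]

theorem descend_equiv [FiniteDimensional k K] [IsGalois k K] {W' : Type x} [AddCommGroup W']
    [Module k W'] (F : K ⊗[k] W ≃ₗ[K] K ⊗[k] W')
    (hF : ∀ (σ : K ≃ₐ[k] K) (z : K ⊗[k] W), F (σ • z) = σ • F z) :
    ∃ e : W ≃ₗ[k] W', ∀ w, F ((1 : K) ⊗ₜ[k] w) = (1 : K) ⊗ₜ[k] e w := by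
  have hFs : ∀ (σ : K ≃ₐ[k] K) (y : K ⊗[k] W'), F.symm (σ • y) = σ • F.symm y := by
    intro σ y
    apply F.injective
    rw [hF, LinearEquiv.apply_symm_apply, LinearEquiv.apply_symm_apply]
  have hone : ∀ (σ : K ≃ₐ[k] K) (w : W), σ • ((1 : K) ⊗ₜ[k] w) = (1 : K) ⊗ₜ[k] w := by
    intro σ w
    rw [TensorProduct.smul_tmul', AlgEquiv.smul_def, map_one]
  have hone' : ∀ (σ : K ≃ₐ[k] K) (w : W'), σ • ((1 : K) ⊗ₜ[k] w) = (1 : K) ⊗ₜ[k] w := by
    intro σ w
    rw [TensorProduct.smul_tmul', AlgEquiv.smul_def, map_one]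
  have h0 : ∀ w : W, ∃ w' : W', F ((1 : K) ⊗ₜ[k] w) = (1 : K) ⊗ₜ[k] w' := by
    intro w
    apply inv_exists (k := k) (K := K)
    intro σ
    rw [← hF, hone]
  have h1 : ∀ w' : W', ∃ w : W, F.symm ((1 : K) ⊗ₜ[k] w') = (1 : K) ⊗ₜ[k] w := by
    intro w'
    apply inv_exists (k := k) (K := K)
    intro σ
    rw [← hFs, hone']
  choose e0 he0 using h0
  choose e1 he1 using h1
  have hFk : ∀ (r : k) (y : K ⊗[k] W), F (r • y) = r • F y := by
    intro r y
    rw [← algebraMap_smul K r y, map_smul, algebraMap_smul]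
  refine ⟨{ toFun := e0
            map_add' := ?_
            map_smul' := ?_
            invFun := e1
            left_inv := ?_
            right_inv := ?_ }, fun w => he0 w⟩
  · intro w w'
    apply tmul_one_injective (k := k) (K := K)
    show (1 : K) ⊗ₜ[k] e0 (w + w') = (1 : K) ⊗ₜ[k] (e0 w + e0 w')
    rw [← he0, TensorProduct.tmul_add, map_add, he0, he0, TensorProduct.tmul_add]
  · intro r w
    apply tmul_one_injective (k := k) (K := K)
    show (1 : K) ⊗ₜ[k] e0 (r • w) = (1 : K) ⊗ₜ[k] (r • e0 w)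
    rw [← he0, TensorProduct.tmul_smul, hFk, he0, TensorProduct.tmul_smul]
  · intro w
    apply tmul_one_injective (k := k) (K := K)
    show (1 : K) ⊗ₜ[k] e1 (e0 w) = (1 : K) ⊗ₜ[k] w
    rw [← he1, ← he0, LinearEquiv.symm_apply_apply]
  · intro w'
    apply tmul_one_injective (k := k) (K := K)
    show (1 : K) ⊗ₜ[k] e0 (e1 w') = (1 : K) ⊗ₜ[k] w'
    rw [← he0, ← he1, LinearEquiv.apply_symm_apply]

end Groth.Agent.Helper7.GalInv
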