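import Mathlib
import Groth.Agent.Helper7.BrauerCocE
import Groth.Agent.Helper7.GalDescent
import Groth.Agent.Helper7.GalInv
import Groth.Prelude.Def_GSzCSA

set_option autoImplicit false
universe u u' v w x

namespace Groth.Agent.Helper7.BrauerCoc

open Module TensorProduct Matrix Groth.Agent.Helper7.BrauerTensor Groth.Agent.Helper7.GalDescent

section conj

/-- conjugation by a unit as an algebra automorphism. -/
def conjAlgEquiv {R : Type*} {S : Type*} [CommSemiring R] [Semiring S] [Algebra R S] (U : Sˣ) :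
    S ≃ₐ[R] S where
  toFun x := ((U⁻¹ : Sˣ) : S) * x * (U : S)
  invFun x := (U : S) * x * ((U⁻¹ : Sˣ) : S)
  left_inv x := by simp [mul_assoc]
  right_inv x := by simp [mul_assoc]
  map_mul' x y := by simp [mul_assoc]
  map_add' x y := by simp [mul_add, add_mul]
  commutes' r := by
    rw [← Algebra.commutes, mul_assoc, Units.inv_mul, mul_one]

@[simp] theorem conjAlgEquiv_apply {R : Type*} {S : Type*} [CommSemiring R] [Semiring S]
    [Algebra R S] (U : Sˣ) (x : S) :
    conjAlgEquiv (R := R) U x = ((U⁻¹ : Sˣ) : S) * x * (U : S) := rfl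

end conj

section h90
variable {k : Type u} {K : Type u'} [Field k] [Field K] [Algebra k K]
variable {ι : Type w} [Fintype ι] [DecidableEq ι]

theorem map_smul' (σ : K ≃ₐ[k] K) (x : K) (M : Matrix ι ι K) : (x • M).map σ = σ x • M.map σ := by
  ext i j; simp

theorem map_id' (M : Matrix ι ι K) : M.map (1 : K ≃ₐ[k] K) = M := by
  ext i j; simp

theorem map_mulVec' (σ : K ≃ₐ[k] K) (M : Matrix ι ι K) (v : ι → K) :
    (M.map σ) *ᵥ (σ ∘ v) = σ ∘ (M *ᵥ v) := by
  ext i
  simp [Matrix.mulVec, dotProduct, map_sum]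

/-- Hilbert 90 for `GL_n`: a 1-cocycle is a coboundary. -/
theorem h90 [FiniteDimensional k K] [IsGalois k K] (g gi : (K ≃ₐ[k] K) → Matrix ι ι K)
    (hg : ∀ σ, g σ * gi σ = 1) (hmul : ∀ σ τ, g (σ * τ) = g σ * (g τ).map σ) :
    ∃ h hi : Matrix ι ι K, h * hi = 1 ∧ ∀ σ, g σ * h.map σ = h := by
  classical
  have hgi : ∀ σ, gi σ * g σ = 1 := fun σ => mul_eq_one_comm.1 (hg σ)
  have hg1 : g 1 = 1 := by
    have h1 := hmul 1 1
    rw [mul_one, map_id'] at h1
    calc g 1 = gi 1 * (g 1 * g 1) := by rw [← Matrix.mul_assoc, hgi, Matrix.one_mul]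
      _ = 1 := by rw [← h1, hgi]
  let ρ : (K ≃ₐ[k] K) → (ι → K) → (ι → K) := fun σ v => g σ *ᵥ (σ ∘ v)
  have hρ : IsSemiAction (k := k) (K := K) (M := ι → K) ρ :=
    { add := fun σ x y => by
        show g σ *ᵥ (σ ∘ (x + y)) = g σ *ᵥ (σ ∘ x) + g σ *ᵥ (σ ∘ y)
        rw [← Matrix.mulVec_add]
        congr 1
        ext i; simp
      smul := fun σ c x => by
        show g σ *ᵥ (σ ∘ (c • x)) = σ c • (g σ *ᵥ (σ ∘ x))
        rw [← Matrix.mulVec_smul]
        congr 1
        ext i; simp
      mul := fun σ τ x => by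
        show g (σ * τ) *ᵥ ((σ * τ) ∘ x) = g σ *ᵥ (σ ∘ (g τ *ᵥ (τ ∘ x)))
        rw [hmul, ← map_mulVec', Matrix.mulVec_mulVec]
        rfl
      one := fun x => by
        show g 1 *ᵥ ((1 : K ≃ₐ[k] K) ∘ x) = x
        rw [hg1, Matrix.one_mulVec]
        rfl }
  -- the fixed subspace
  let W : Submodule k (ι → K) :=
    { carrier := {v | ∀ σ, ρ σ v = v}
      add_mem' := fun {x y} hx hy σ => by rw [hρ.add, hx σ, hy σ]
      zero_mem' := fun σ => hρ.zero σ
      smul_mem' := fun a x hx σ => by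
        rw [← algebraMap_smul K a x, hρ.smul, hx σ, AlgEquiv.commutes] }
  have hbij := hρ.lift_bijective W.subtype Subtype.val_injective (fun y => by
    constructor
    · rintro ⟨w, rfl⟩
      exact w.2
    · intro hy
      exact ⟨⟨y, hy⟩, rfl⟩)
  let E : K ⊗[k] W ≃ₗ[K] (ι → K) := LinearEquiv.ofBijective _ hbij
  have hfr : finrank k W = Fintype.card ι := by
    have h1 : finrank K (K ⊗[k] W) = finrank k W := Module.finrank_baseChange
    rw [← h1, E.finrank_eq, Module.finrank_pi]
  have : Module.Finite k (ι → K) := Module.Finite.pi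
  let bW : Basis ι k W := (Module.finBasisOfFinrankEq k W hfr).reindex (Fintype.equivFin ι).symm
  let bK : Basis ι K (ι → K) := (bW.baseChange K).map E
  have hbK : ∀ j, bK j = (bW j : ι → K) := by
    intro j
    show E ((bW.baseChange K) j) = _
    rw [Module.Basis.baseChange_apply]
    show LinearMap.liftBaseChange K W.subtype ((1 : K) ⊗ₜ[k] bW j) = _
    rw [LinearMap.liftBaseChange_tmul, one_smul]
    rfl
  refine ⟨(Pi.basisFun K ι).toMatrix bK, bK.toMatrix (Pi.basisFun K ι),
    Module.Basis.toMatrix_mul_toMatrix_flip _ _, fun σ => ?_⟩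
  ext i j
  have hfix : ρ σ (bK j) = bK j := by
    rw [hbK]; exact (bW j).2 σ
  have := congrFun hfix i
  simp only [Matrix.mul_apply, Matrix.map_apply, Module.Basis.toMatrix_apply, Pi.basisFun_repr]
  simpa [ρ, Matrix.mulVec, dotProduct] using this

theorem exists_descended_matrix [FiniteDimensional k K] [IsGalois k K] (M : Matrix ι ι K)
    (hM : ∀ σ : K ≃ₐ[k] K, M.map σ = M) :
    ∃ N : Matrix ι ι k, N.map (algebraMap k K) = M := by
  have : ∀ i j, ∃ n : k, algebraMap k K n = M i j := by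
    intro i j
    have h1 : M i j ∈ Set.range (algebraMap k K) := by
      rw [IsGalois.mem_range_algebraMap_iff_fixed]
      intro σ
      have := congrFun (congrFun (hM σ) i) j
      simpa using this
    exact h1
  choose N hN using this
  exact ⟨Matrix.of N, by ext i j; simp [hN]⟩

/-- A representation whose cochain is a coboundary descends to a splitting over `k`. -/
theorem Rep.split_of_coboundary [FiniteDimensional k K] [IsGalois k K] {A : Type v} [Ring A]
    [Algebra k A] {c : (K ≃ₐ[k] K) → (K ≃ₐ[k] K) → K} (R : Rep k K c A ι)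
    (b : (K ≃ₐ[k] K) → K) (hb : ∀ σ, b σ ≠ 0)
    (hc : ∀ σ τ, c σ τ * b (σ * τ) = b σ * σ (b τ)) :
    Nonempty (A ≃ₐ[k] Matrix ι ι k) := by
  classical
  have hgi : ∀ σ, R.gi σ * R.g σ = 1 := fun σ => mul_eq_one_comm.1 (R.hg σ)
  obtain ⟨h, hi, hhi, hfix⟩ := h90 (k := k) (fun σ => b σ • R.g σ) (fun σ => (b σ)⁻¹ • R.gi σ)
    (fun σ => by
      show (b σ • R.g σ) * ((b σ)⁻¹ • R.gi σ) = 1
      rw [Matrix.smul_mul, Matrix.mul_smul, smul_smul, R.hg, mul_inv_cancel₀ (hb σ), one_smul])
    (fun σ τ => by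
      show b (σ * τ) • R.g (σ * τ) = (b σ • R.g σ) * (b τ • R.g τ).map σ
      rw [R.hmul, smul_smul, mul_comm, hc, map_smul', Matrix.smul_mul, Matrix.mul_smul, smul_smul])
  have hih : hi * h = 1 := mul_eq_one_comm.1 hhi
  have hmm : ∀ σ : K ≃ₐ[k] K, h.map σ * hi.map σ = 1 := fun σ => by
    rw [← map_mul', hhi, map_one']
  have E1 : ∀ σ, R.g σ * h.map σ = (b σ)⁻¹ • h := by
    intro σ
    have := hfix σ
    rw [Matrix.smul_mul] at this
    calc R.g σ * h.map σ = (b σ)⁻¹ • (b σ • (R.g σ * h.map σ)) := by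
          rw [smul_smul, inv_mul_cancel₀ (hb σ), one_smul]
      _ = (b σ)⁻¹ • h := by rw [this]
  have E2 : ∀ σ, R.gi σ * h = b σ • h.map σ := by
    intro σ
    have := hfix σ
    rw [Matrix.smul_mul] at this
    conv_lhs => rw [← this]
    rw [Matrix.mul_smul, ← Matrix.mul_assoc, hgi, Matrix.one_mul]
  have E3 : ∀ σ, hi * R.g σ = (b σ)⁻¹ • hi.map σ := by
    intro σ
    calc hi * R.g σ = hi * R.g σ * (h.map σ * hi.map σ) := by rw [hmm, Matrix.mul_one]
      _ = hi * (R.g σ * h.map σ) * hi.map σ := by simp only [Matrix.mul_assoc]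
      _ = (b σ)⁻¹ • hi.map σ := by
        rw [E1, Matrix.mul_smul, hih, Matrix.smul_mul, Matrix.one_mul]
  let U : (Matrix ι ι K)ˣ := ⟨h, hi, hhi, hih⟩
  let φ' : K ⊗[k] A ≃ₐ[K] Matrix ι ι K := R.φ.trans (conjAlgEquiv U)
  have hφ'def : ∀ z, φ' z = hi * R.φ z * h := fun z => rfl
  have hφ' : ∀ (σ : K ≃ₐ[k] K) z, φ' (gal k K A σ z) = (φ' z).map σ := by
    intro σ z
    rw [hφ'def, hφ'def, R.hφ, map_mul', map_mul']
    calc hi * (R.g σ * (R.φ z).map σ * R.gi σ) * h
        = (hi * R.g σ) * (R.φ z).map σ * (R.gi σ * h) := by simp only [Matrix.mul_assoc]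
      _ = hi.map σ * (R.φ z).map σ * h.map σ := by
        rw [E2, E3, Matrix.smul_mul, Matrix.smul_mul, Matrix.mul_smul, smul_smul,
          inv_mul_cancel₀ (hb σ), one_smul]
  let ψ : A →ₐ[k] Matrix ι ι K :=
    (φ'.toAlgHom.restrictScalars k).comp Algebra.TensorProduct.includeRight
  have hψdef : ∀ a, ψ a = φ' ((1 : K) ⊗ₜ[k] a) := fun a => rfl
  have hψ : ∀ a (σ : K ≃ₐ[k] K), (ψ a).map σ = ψ a := by
    intro a σ
    rw [hψdef, ← hφ', gal_tmul, map_one]
  have hjinj : Function.Injective (fun N : Matrix ι ι k => N.map (algebraMap k K)) := by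
    intro N N' hNN
    ext i j
    have := congrFun (congrFun hNN i) j
    exact (algebraMap k K).injective (by simpa using this)
  choose f hf using fun a => exists_descended_matrix (ψ a) (hψ a)
  let F : A →ₐ[k] Matrix ι ι k :=
    { toFun := f
      map_one' := hjinj (by
        show (f 1).map (algebraMap k K) = (1 : Matrix ι ι k).map (algebraMap k K)
        rw [hf, map_one]
        ext i j
        by_cases hij : i = j <;> simp [Matrix.one_apply, hij])
      map_mul' := fun x y => hjinj (by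
        show (f (x * y)).map (algebraMap k K) = (f x * f y).map (algebraMap k K)
        rw [hf, Matrix.map_mul, hf, hf, map_mul])
      map_zero' := hjinj (by
        show (f 0).map (algebraMap k K) = (0 : Matrix ι ι k).map (algebraMap k K)
        rw [hf, map_zero]
        ext i j; simp)
      map_add' := fun x y => hjinj (by
        show (f (x + y)).map (algebraMap k K) = (f x + f y).map (algebraMap k K)
        rw [hf, Matrix.map_add _ (fun a b => map_add (algebraMap k K) a b), hf, hf, map_add])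
      commutes' := fun r => hjinj (by
        show (f (algebraMap k A r)).map (algebraMap k K) =
          (algebraMap k (Matrix ι ι k) r).map (algebraMap k K)
        rw [hf, AlgHom.commutes]
        ext i j
        by_cases hij : i = j <;> simp [Matrix.algebraMap_matrix_apply, hij]) }
  have hF : ∀ a, (F a).map (algebraMap k K) = ψ a := hf
  refine ⟨AlgEquiv.ofBijective F ⟨?_, ?_⟩⟩
  · intro a a' haa
    have h1 : ψ a = ψ a' := by rw [← hF, ← hF, haa]
    rw [hψdef, hψdef] at h1
    exact Groth.Agent.Helper7.GalInv.tmul_one_injective (k := k) (K := K) (φ'.injective h1)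
  · intro N
    set z := φ'.symm (N.map (algebraMap k K)) with hz
    have hzfix : ∀ σ : K ≃ₐ[k] K, σ • z = z := by
      intro σ
      rw [CSAGal.smul_eq_map]
      apply φ'.injective
      have := hφ' σ z
      rw [gal] at this
      rw [this, hz, AlgEquiv.apply_symm_apply]
      ext i j; simp
    obtain ⟨a, ha⟩ := Groth.Agent.Helper7.GalInv.inv_exists z hzfix
    refine ⟨a, hjinj ?_⟩
    show (F a).map (algebraMap k K) = N.map (algebraMap k K)
    rw [hF, hψdef, ← ha, hz, AlgEquiv.apply_symm_apply]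

end h90

end Groth.Agent.Helper7.BrauerCoc
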