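import Mathlib
import Groth.Agent.Helper7.BrauerSplit

set_option autoImplicit false
universe u u' v w x

namespace Groth.Agent.Helper7.BrauerIdx

open Module TensorProduct Matrix Groth.Agent.Helper7.BrauerBasic Groth.Agent.Helper7.BrauerSplit

theorem finrank_dvd_of_matrix_rep (k : Type u) [Field k] (K : Type u') [Field K] [Algebra k K]
    [FiniteDimensional k K]
    (D : Type v) [DivisionRing D] [Algebra k D] [FiniteDimensional k D]
    (E : Type w) [Ring E] [Algebra K E] [FiniteDimensional K E] (r : ℕ)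
    (φ : D →+* Matrix (Fin r) (Fin r) E)
    (hφ : ∀ (c : k) (x : D), φ (c • x) = (algebraMap k K c) • φ x) :
    finrank k D ∣ finrank k K * (r * finrank K E) := by
  let W := Fin r → E
  letI : Module k W := Module.compHom W (algebraMap k K)
  haveI : IsScalarTower k K W := ⟨fun c x w => by
    change (c • x) • w = algebraMap k K c • (x • w)
    rw [Algebra.smul_def c x, mul_smul]⟩
  letI : Module D W := Module.compHom W φ
  haveI : IsScalarTower k D W := ⟨fun c x w => by
    change φ (c • x) *ᵥ w = algebraMap k K c • (φ x *ᵥ w)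
    rw [hφ, Matrix.smul_mulVec]⟩
  have h1 : finrank k D * finrank D W = finrank k W := Module.finrank_mul_finrank k D W
  have h2 : finrank k K * finrank K W = finrank k W := Module.finrank_mul_finrank k K W
  have h3 : finrank K W = r * finrank K E := by
    change finrank K (Fin r → E) = _
    rw [Module.finrank_pi_fintype]; simp
  exact ⟨finrank D W, by rw [h1, ← h2, h3]⟩

theorem matrix_size_ne_zero {k : Type u} [Field k] {A : Type v} [Ring A] [Algebra k A] [Nontrivial A]
    {D : Type w} [Ring D] [Algebra k D] {m : ℕ} (iso : A ≃ₐ[k] Matrix (Fin m) (Fin m) D) : m ≠ 0 := by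
  rintro rfl
  have : Subsingleton A := iso.toEquiv.subsingleton
  exact not_subsingleton A this

theorem result7748 (k : Type u) [Field k] (K : Type u) [Field K] [Algebra k K]
    [FiniteDimensional k K]
    (A : Type v) [Ring A] [Algebra k A] [Algebra.IsCentral k A] [IsSimpleRing A] [FiniteDimensional k A]
    (D : Type v) [DivisionRing D] [Algebra k D] [Algebra.IsCentral k D] [FiniteDimensional k D]
    (m : ℕ) (iso : A ≃ₐ[k] Matrix (Fin m) (Fin m) D) (d : ℕ) (hd : Module.finrank k D = d ^ 2)
    (D' : Type w) [DivisionRing D'] [Algebra K D'] [Algebra.IsCentral K D'] [FiniteDimensional K D']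
    (m' : ℕ) (iso' : (K ⊗[k] A) ≃ₐ[K] Matrix (Fin m') (Fin m') D') (d' : ℕ)
    (hd' : Module.finrank K D' = d' ^ 2) : d' ∣ d ∧ d ∣ Module.finrank k K * d' := by
  have hm : m ≠ 0 := matrix_size_ne_zero iso
  have hm' : m' ≠ 0 := matrix_size_ne_zero iso'
  obtain ⟨r, hr, D'', _, _, _, _, ⟨eD⟩⟩ := wedderburn K (K ⊗[k] D)
  let E : Matrix (Fin (m * r)) (Fin (m * r)) D'' ≃ₐ[K] Matrix (Fin m') (Fin m') D' :=
    (matComp K D'' m r).symm.trans ((eD.mapMatrix (m := Fin m)).symm.trans
      ((bcMatrix k K D m).symm.trans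
        ((Algebra.TensorProduct.congr (AlgEquiv.refl (R := K) (A₁ := K)) iso.symm).trans iso')))
  obtain ⟨⟨g⟩, hmr⟩ := matrix_unique K D'' D' (m * r) m' (Nat.mul_ne_zero hm hr.ne) hm' E
  have h1 : finrank K (K ⊗[k] D) = d ^ 2 := by rw [Module.finrank_baseChange, hd]
  have h2 : finrank K (K ⊗[k] D) = r * r * d' ^ 2 := by
    rw [eD.toLinearEquiv.finrank_eq, finrank_matrix', g.toLinearEquiv.finrank_eq, hd']
  have hdr : d = r * d' := by
    have : d ^ 2 = (r * d') ^ 2 := by rw [← h1, h2]; ring
    exact Nat.pow_left_injective (n := 2) (by norm_num) this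
  refine ⟨⟨r, by rw [hdr, mul_comm]⟩, ?_⟩
  let φ : D →+* Matrix (Fin r) (Fin r) D'' :=
    (eD : K ⊗[k] D →+* Matrix (Fin r) (Fin r) D'').comp
      (Algebra.TensorProduct.includeRight : D →ₐ[k] K ⊗[k] D).toRingHom
  have hφ : ∀ (c : k) (x : D), φ (c • x) = algebraMap k K c • φ x := by
    intro c x
    change eD ((1 : K) ⊗ₜ[k] (c • x)) = algebraMap k K c • eD ((1 : K) ⊗ₜ[k] x)
    rw [← map_smul, TensorProduct.tmul_smul, algebraMap_smul]
  have h3 := finrank_dvd_of_matrix_rep k K D D'' r φ hφ
  rw [hd, g.toLinearEquiv.finrank_eq, hd'] at h3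
  have hr0 : 0 < r := Nat.pos_of_ne_zero hr.ne
  have hd0' : 0 < d' := by
    rcases Nat.eq_zero_or_pos d' with h | h
    · subst h
      have : 0 < finrank K D' := Module.finrank_pos
      omega
    · exact h
  have h4 : (r * d') * d ∣ (r * d') * (finrank k K * d') := by
    have e1 : (r * d') * d = d ^ 2 := by rw [← hdr]; ring
    have e2 : (r * d') * (finrank k K * d') = finrank k K * (r * d' ^ 2) := by ring
    rw [e1, e2]; exact h3
  exact (Nat.mul_dvd_mul_iff_left (Nat.mul_pos hr0 hd0')).1 h4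

end Groth.Agent.Helper7.BrauerIdx
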