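import Mathlib

set_option autoImplicit false
universe u v w x

namespace Groth.Agent.Helper7.TPow

open TensorProduct PiTensorProduct

section general
variable {k : Type u} [CommRing k] {ι : Type w} {A : ι → Type v} [∀ i, Ring (A i)]
  [∀ i, Algebra k (A i)]

theorem map_mul_of_tprod {B : Type x} [Ring B] [Algebra k B] (f : (⨂[k] i, A i) →ₗ[k] B)
    (h : ∀ x y : Π i, A i, f (tprod k (x * y)) = f (tprod k x) * f (tprod k y)) :
    ∀ u v, f (u * v) = f u * f v := by
  intro u v
  induction u using PiTensorProduct.induction_on with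
  | smul_tprod r x =>
    induction v using PiTensorProduct.induction_on with
    | smul_tprod s y =>
      rw [smul_mul_smul_comm, tprod_mul_tprod, map_smul, h, map_smul, map_smul,
        smul_mul_smul_comm]
    | add v1 v2 h1 h2 => rw [mul_add, map_add, h1, h2, map_add, mul_add]
  | add u1 u2 h1 h2 => rw [add_mul, map_add, h1, h2, map_add, add_mul]

end general

section consts
variable (k : Type u) [CommRing k] (A : Type v) [Ring A] [Algebra k A]

/-- reindexing as an algebra isomorphism. -/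
noncomputable def reindexAlg {ι : Type w} {ι' : Type x} (e : ι ≃ ι') :
    (⨂[k] _ : ι, A) ≃ₐ[k] ⨂[k] _ : ι', A :=
  AlgEquiv.ofLinearEquiv (PiTensorProduct.reindex k (fun _ : ι => A) e)
    (by rw [PiTensorProduct.one_def, PiTensorProduct.reindex_tprod]; rfl)
    (map_mul_of_tprod _ (fun x y => by
      show PiTensorProduct.reindex k (fun _ : ι => A) e (tprod k (x * y)) =
        PiTensorProduct.reindex k (fun _ : ι => A) e (tprod k x) *
          PiTensorProduct.reindex k (fun _ : ι => A) e (tprod k y)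
      rw [PiTensorProduct.reindex_tprod, PiTensorProduct.reindex_tprod,
        PiTensorProduct.reindex_tprod, tprod_mul_tprod]
      rfl))

/-- the tensor product over a sum type. -/
noncomputable def sumAlg (ι : Type w) (ι' : Type x) :
    (⨂[k] _ : ι ⊕ ι', A) ≃ₐ[k] (⨂[k] _ : ι, A) ⊗[k] (⨂[k] _ : ι', A) :=
  AlgEquiv.ofLinearEquiv (PiTensorProduct.tmulEquiv (ι := ι) (ι₂ := ι') k A).symm
    (by rw [PiTensorProduct.one_def, PiTensorProduct.tmulEquiv_symm_apply]; rfl)
    (map_mul_of_tprod _ (fun x y => by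
      show (PiTensorProduct.tmulEquiv (ι := ι) (ι₂ := ι') k A).symm (tprod k (x * y)) =
        (PiTensorProduct.tmulEquiv (ι := ι) (ι₂ := ι') k A).symm (tprod k x) *
          (PiTensorProduct.tmulEquiv (ι := ι) (ι₂ := ι') k A).symm (tprod k y)
      rw [PiTensorProduct.tmulEquiv_symm_apply, PiTensorProduct.tmulEquiv_symm_apply,
        PiTensorProduct.tmulEquiv_symm_apply, Algebra.TensorProduct.tmul_mul_tmul,
        tprod_mul_tprod, tprod_mul_tprod]
      rfl))

/-- the tensor product over a one-element type. -/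
noncomputable def singleAlg : (⨂[k] _ : Fin 1, A) ≃ₐ[k] A :=
  AlgEquiv.ofLinearEquiv (PiTensorProduct.subsingletonEquiv (s := fun _ : Fin 1 => A) (0 : Fin 1))
    (by rw [PiTensorProduct.one_def, PiTensorProduct.subsingletonEquiv_apply_tprod]; rfl)
    (map_mul_of_tprod _ (fun x y => by
      show PiTensorProduct.subsingletonEquiv (s := fun _ : Fin 1 => A) (0 : Fin 1) (tprod k (x * y)) =
        PiTensorProduct.subsingletonEquiv (s := fun _ : Fin 1 => A) (0 : Fin 1) (tprod k x) *
          PiTensorProduct.subsingletonEquiv (s := fun _ : Fin 1 => A) (0 : Fin 1) (tprod k y)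
      rw [PiTensorProduct.subsingletonEquiv_apply_tprod,
        PiTensorProduct.subsingletonEquiv_apply_tprod,
        PiTensorProduct.subsingletonEquiv_apply_tprod]
      rfl))

/-- the empty tensor product. -/
noncomputable def tpowZero : (⨂[k] _ : Fin 0, A) ≃ₐ[k] k :=
  AlgEquiv.ofLinearEquiv (PiTensorProduct.isEmptyEquiv (s := fun _ : Fin 0 => A) (Fin 0))
    (by rw [PiTensorProduct.one_def, PiTensorProduct.isEmptyEquiv_apply_tprod])
    (map_mul_of_tprod _ (fun x y => by
      show PiTensorProduct.isEmptyEquiv (s := fun _ : Fin 0 => A) (Fin 0) (tprod k (x * y)) =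
        PiTensorProduct.isEmptyEquiv (s := fun _ : Fin 0 => A) (Fin 0) (tprod k x) *
          PiTensorProduct.isEmptyEquiv (s := fun _ : Fin 0 => A) (Fin 0) (tprod k y)
      rw [PiTensorProduct.isEmptyEquiv_apply_tprod, PiTensorProduct.isEmptyEquiv_apply_tprod,
        PiTensorProduct.isEmptyEquiv_apply_tprod, mul_one]))

/-- `A^{⊗(a+b)} ≃ A^{⊗a} ⊗ A^{⊗b}`. -/
noncomputable def tpowAdd (a b : ℕ) :
    (⨂[k] _ : Fin (a + b), A) ≃ₐ[k] (⨂[k] _ : Fin a, A) ⊗[k] (⨂[k] _ : Fin b, A) :=
  (reindexAlg k A finSumFinEquiv.symm).trans (sumAlg k A (Fin a) (Fin b))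

/-- `A^{⊗(n+1)} ≃ A ⊗ A^{⊗n}`. -/
noncomputable def tpowSucc (n : ℕ) :
    (⨂[k] _ : Fin (n + 1), A) ≃ₐ[k] A ⊗[k] (⨂[k] _ : Fin n, A) :=
  (tpowAdd k A n 1).trans
    ((Algebra.TensorProduct.congr AlgEquiv.refl (singleAlg k A)).trans
      (Algebra.TensorProduct.comm k _ A))

/-- `A^{⊗1} ≃ A`. -/
noncomputable def tpowOne : (⨂[k] _ : Fin 1, A) ≃ₐ[k] A := singleAlg k A

/-- cast along an equality of exponents. -/
noncomputable def tpowCast {a b : ℕ} (h : a = b) :
    (⨂[k] _ : Fin a, A) ≃ₐ[k] ⨂[k] _ : Fin b, A :=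
  reindexAlg k A (finCongr h)

end consts

end Groth.Agent.Helper7.TPow
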