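import Mathlib
import Groth.Agent.Helper7.TPow
import Groth.Agent.Helper7.BrauerTensor
import Groth.Agent.Helper7.BrauerIdx
import Groth.Agent.Helper5.CSA2
import Groth.Agent.S0200

set_option autoImplicit false
universe u u' v w x

namespace Groth.Agent.Helper7.TPow

open TensorProduct PiTensorProduct Module Groth.Agent.Helper7.BrauerSplit
  Groth.Agent.Helper7.BrauerTensor Groth.Agent.Helper7.BrauerBasic

section central

theorem isCentral_tensor (k : Type u) [Field k] (A : Type v) [Ring A] [Algebra k A]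
    (B : Type w) [Ring B] [Algebra k B] [Algebra.IsCentral k A] [Algebra.IsCentral k B] :
    Algebra.IsCentral k (A ⊗[k] B) := by
  constructor
  intro z hz
  rcases subsingleton_or_nontrivial A with hA | hA
  · refine ⟨0, ?_⟩
    have h1 : (1 : A ⊗[k] B) = 0 := by
      rw [Algebra.TensorProduct.one_def, Subsingleton.elim (1 : A) 0, TensorProduct.zero_tmul]
    rw [map_zero, ← mul_one z, h1, mul_zero]
  rw [Subalgebra.mem_center_iff] at hz
  obtain ⟨b, hb⟩ := Groth.Agent.Helper5.CSA.exists_eq_one_tmul_of_commute z (fun a => hz _)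
  have hinj : Function.Injective (fun b : B => (1 : A) ⊗ₜ[k] b) :=
    Algebra.TensorProduct.includeRight_injective (R := k) (A := A) (B := B)
      (FaithfulSMul.algebraMap_injective k A)
  have hbc : b ∈ Subalgebra.center k B := by
    rw [Subalgebra.mem_center_iff]
    intro b'
    apply hinj
    show (1 : A) ⊗ₜ[k] (b' * b) = (1 : A) ⊗ₜ[k] (b * b')
    have := hz ((1 : A) ⊗ₜ[k] b')
    rw [hb, Algebra.TensorProduct.tmul_mul_tmul, Algebra.TensorProduct.tmul_mul_tmul, one_mul] at this
    exact this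
  obtain ⟨c, hc⟩ := Algebra.IsCentral.out (K := k) hbc
  refine ⟨c, ?_⟩
  rw [hb, ← hc]
  show algebraMap k (A ⊗[k] B) c = _
  rw [Algebra.algebraMap_eq_smul_one, Algebra.TensorProduct.one_def, ← TensorProduct.tmul_smul,
    ← Algebra.algebraMap_eq_smul_one]
  rfl

/-- the three CSA properties bundled, for transport. -/
def IsCSA (k : Type u) [Field k] (A : Type v) [Ring A] [Algebra k A] : Prop :=
  Algebra.IsCentral k A ∧ IsSimpleRing A ∧ FiniteDimensional k A

theorem IsCSA.congr {k : Type u} [Field k] {A : Type v} [Ring A] [Algebra k A]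
    {B : Type w} [Ring B] [Algebra k B] (h : IsCSA k A) (e : A ≃ₐ[k] B) : IsCSA k B := by
  obtain ⟨h1, h2, h3⟩ := h
  exact ⟨Groth.Agent.S0200.isCentral_of_algEquiv' e.symm,
    IsSimpleRing.of_ringEquiv e.toRingEquiv h2, Module.Finite.equiv e.toLinearEquiv⟩

theorem IsCSA.tensor {k : Type u} [Field k] {A : Type v} [Ring A] [Algebra k A]
    {B : Type w} [Ring B] [Algebra k B] (hA : IsCSA k A) (hB : IsCSA k B) : IsCSA k (A ⊗[k] B) := by
  obtain ⟨h1, h2, h3⟩ := hA
  obtain ⟨h1', h2', h3'⟩ := hB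
  exact ⟨isCentral_tensor k A B, Groth.Agent.Helper5.CSA.isSimpleRing_tensor k A B, inferInstance⟩

theorem isCSA_self (k : Type u) [Field k] : IsCSA k k :=
  ⟨inferInstance, inferInstance, inferInstance⟩

theorem isCSA_tpow (k : Type u) [Field k] (A : Type v) [Ring A] [Algebra k A] (hA : IsCSA k A)
    (n : ℕ) : IsCSA k (⨂[k] _ : Fin n, A) := by
  induction n with
  | zero => exact (isCSA_self k).congr (tpowZero k A).symm
  | succ n ih => exact (hA.tensor ih).congr (tpowSucc k A n).symm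

instance (k : Type u) [Field k] (A : Type v) [Ring A] [Algebra k A] [Algebra.IsCentral k A]
    [IsSimpleRing A] [FiniteDimensional k A] (n : ℕ) : Algebra.IsCentral k (⨂[k] _ : Fin n, A) :=
  (isCSA_tpow k A ⟨inferInstance, inferInstance, inferInstance⟩ n).1

instance (k : Type u) [Field k] (A : Type v) [Ring A] [Algebra k A] [Algebra.IsCentral k A]
    [IsSimpleRing A] [FiniteDimensional k A] (n : ℕ) : IsSimpleRing (⨂[k] _ : Fin n, A) :=
  (isCSA_tpow k A ⟨inferInstance, inferInstance, inferInstance⟩ n).2.1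

instance (k : Type u) [Field k] (A : Type v) [Ring A] [Algebra k A] [Algebra.IsCentral k A]
    [IsSimpleRing A] [FiniteDimensional k A] (n : ℕ) : FiniteDimensional k (⨂[k] _ : Fin n, A) :=
  (isCSA_tpow k A ⟨inferInstance, inferInstance, inferInstance⟩ n).2.2

end central

section more
variable (k : Type u) [Field k]

theorem tpowCongr {A : Type v} [Ring A] [Algebra k A] {B : Type w} [Ring B] [Algebra k B]
    (e : A ≃ₐ[k] B) (n : ℕ) :
    Nonempty ((⨂[k] _ : Fin n, A) ≃ₐ[k] ⨂[k] _ : Fin n, B) := by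
  induction n with
  | zero => exact ⟨(tpowZero k A).trans (tpowZero k B).symm⟩
  | succ n ih =>
    obtain ⟨f⟩ := ih
    exact ⟨(tpowSucc k A n).trans ((Algebra.TensorProduct.congr e f).trans (tpowSucc k B n).symm)⟩

theorem tpowMul (A : Type v) [Ring A] [Algebra k A] (r j : ℕ) :
    Nonempty ((⨂[k] _ : Fin j, (⨂[k] _ : Fin r, A)) ≃ₐ[k] ⨂[k] _ : Fin (r * j), A) := by
  induction j with
  | zero =>
    exact ⟨(tpowZero k (⨂[k] _ : Fin r, A)).trans
      ((tpowZero k A).symm.trans (tpowCast k A (Nat.mul_zero r).symm))⟩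
  | succ j ih =>
    obtain ⟨f⟩ := ih
    exact ⟨(tpowSucc k (⨂[k] _ : Fin r, A) j).trans
      ((Algebra.TensorProduct.congr AlgEquiv.refl f).trans
        ((tpowAdd k A r (r * j)).symm.trans (tpowCast k A (Nat.mul_succ r j ▸ Nat.add_comm _ _))))⟩

variable {k}

theorem splits_self_iff {A : Type v} [Ring A] [Algebra k A] :
    Curves.Splits k A k ↔ ∃ n : ℕ, n ≠ 0 ∧ Nonempty (A ≃ₐ[k] Matrix (Fin n) (Fin n) k) := by
  constructor
  · rintro ⟨n, hn, ⟨f⟩⟩
    exact ⟨n, hn, ⟨(Algebra.TensorProduct.lid k A).symm.trans f⟩⟩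
  · rintro ⟨n, hn, ⟨f⟩⟩
    exact ⟨n, hn, ⟨(Algebra.TensorProduct.lid k A).trans f⟩⟩

theorem splits_self (L : Type u') [Field L] [Algebra k L] : Curves.Splits k k L :=
  ⟨1, one_ne_zero, ⟨(Algebra.TensorProduct.rid k L L).trans
    ((Matrix.uniqueAlgEquiv (m := Unit) (A := L) (R := L)).symm.trans
      (Matrix.reindexAlgEquiv L L (Equiv.ofUnique Unit (Fin 1))))⟩⟩

theorem splits_tpow {A : Type v} [Ring A] [Algebra k A] (L : Type u') [Field L] [Algebra k L]
    (h : Curves.Splits k A L) (n : ℕ) : Curves.Splits k (⨂[k] _ : Fin n, A) L := by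
  induction n with
  | zero => exact splits_of_algEquiv (tpowZero k A).symm (splits_self L)
  | succ n ih => exact splits_of_algEquiv (tpowSucc k A n).symm (splits_tensor k L _ _ h ih)

theorem splits_tpow_add {A : Type v} [Ring A] [Algebra k A] (L : Type u') [Field L] [Algebra k L]
    (a b : ℕ) (ha : Curves.Splits k (⨂[k] _ : Fin a, A) L)
    (hb : Curves.Splits k (⨂[k] _ : Fin b, A) L) : Curves.Splits k (⨂[k] _ : Fin (a + b), A) L :=
  splits_of_algEquiv (tpowAdd k A a b).symm (splits_tensor k L _ _ ha hb)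

theorem splits_tpow_mul {A : Type v} [Ring A] [Algebra k A] (L : Type u') [Field L] [Algebra k L]
    (a j : ℕ) (ha : Curves.Splits k (⨂[k] _ : Fin a, A) L) :
    Curves.Splits k (⨂[k] _ : Fin (a * j), A) L := by
  induction j with
  | zero => exact splits_of_algEquiv (tpowZero k A).symm (splits_self L)
  | succ j ih => exact splits_tpow_add L (a * j) a ih ha

theorem splits_tpow_sub {A : Type v} [Ring A] [Algebra k A] [Algebra.IsCentral k A] [IsSimpleRing A]
    [FiniteDimensional k A] (a b : ℕ) (hab : Curves.Splits k (⨂[k] _ : Fin (a + b), A) k)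
    (hb : Curves.Splits k (⨂[k] _ : Fin b, A) k) : Curves.Splits k (⨂[k] _ : Fin a, A) k := by
  obtain ⟨m, hm, ⟨f⟩⟩ := splits_self_iff.1 hb
  have h1 : Curves.Splits k (Matrix (Fin m) (Fin m) (⨂[k] _ : Fin a, A)) k :=
    splits_of_algEquiv ((tpowAdd k A a b).trans ((Algebra.TensorProduct.congr AlgEquiv.refl f).trans
      (matrixEquivTensor (Fin m) k (⨂[k] _ : Fin a, A)).symm)) hab
  exact splits_of_splits_matrix m hm h1

theorem tpowBC (k : Type u) [Field k] (F : Type u') [Field F] [Algebra k F]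
    (A : Type v) [Ring A] [Algebra k A] (n : ℕ) :
    Nonempty (F ⊗[k] (⨂[k] _ : Fin n, A) ≃ₐ[F] ⨂[F] _ : Fin n, (F ⊗[k] A)) := by
  induction n with
  | zero =>
    exact ⟨(Algebra.TensorProduct.congr (AlgEquiv.refl (R := F) (A₁ := F)) (tpowZero k A)).trans
      ((Algebra.TensorProduct.rid k F F).trans (tpowZero F (F ⊗[k] A)).symm)⟩
  | succ n ih =>
    obtain ⟨f⟩ := ih
    exact ⟨(Algebra.TensorProduct.congr (AlgEquiv.refl (R := F) (A₁ := F)) (tpowSucc k A n)).trans
      ((distribBC k F A _).trans ((Algebra.TensorProduct.congr AlgEquiv.refl f).trans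
        (tpowSucc F (F ⊗[k] A) n).symm))⟩

end more

end Groth.Agent.Helper7.TPow
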