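import Mathlib
import Groth.Agent.Helper7.TPow2
import Groth.Agent.Helper7.BrauerCocH
import Groth.Agent.S0201

set_option autoImplicit false
universe u u' v w x

namespace Groth.Agent.Helper7.BrauerPer

open TensorProduct PiTensorProduct Module Groth.Agent.Helper7.BrauerSplit
  Groth.Agent.Helper7.BrauerTensor Groth.Agent.Helper7.BrauerBasic Groth.Agent.Helper7.BrauerCoc
  Groth.Agent.Helper7.TPow Groth.Agent.Helper7.BrauerIdx

section
variable {k : Type u} {K : Type u'} [Field k] [Field K] [Algebra k K]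

theorem isRep_self : IsRep k K 1 k :=
  (IsRep.matrix k K 1 one_ne_zero).congr
    ((Matrix.reindexAlgEquiv k k (Equiv.ofUnique (Fin 1) Unit)).trans
      (Matrix.uniqueAlgEquiv (m := Unit) (A := k) (R := k)))

theorem isRep_tpow {c : (K ≃ₐ[k] K) → (K ≃ₐ[k] K) → K} {A : Type v} [Ring A] [Algebra k A]
    (h : IsRep k K c A) (n : ℕ) : IsRep k K (c ^ n) (⨂[k] _ : Fin n, A) := by
  induction n with
  | zero =>
    rw [pow_zero]
    exact isRep_self.congr (tpowZero k A).symm
  | succ n ih =>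
    rw [pow_succ']
    exact (h.tensor ih).congr (tpowSucc k A n).symm

theorem splits_of_isRep_coboundary [FiniteDimensional k K] [IsGalois k K]
    {c : (K ≃ₐ[k] K) → (K ≃ₐ[k] K) → K} {A : Type v} [Ring A] [Algebra k A]
    (h : IsRep k K c A) (b : (K ≃ₐ[k] K) → K) (hb : ∀ σ, b σ ≠ 0)
    (hc : ∀ σ τ, c σ τ * b (σ * τ) = b σ * σ (b τ)) : Curves.Splits k A k := by
  classical
  obtain ⟨ι, _, _, hne, ⟨T⟩⟩ := h
  obtain ⟨f⟩ := T.split_of_coboundary b hb hc
  rw [splits_self_iff]
  exact ⟨Fintype.card ι, Fintype.card_ne_zero,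
    ⟨f.trans (Matrix.reindexAlgEquiv k k (Fintype.equivFin ι))⟩⟩

end

/-- the index kills the Brauer class: `A^{⊗ ind A}` is split. -/
theorem splits_tpow_index (k : Type u) [Field k]
    (A : Type v) [Ring A] [Algebra k A] [Algebra.IsCentral k A] [IsSimpleRing A] [FiniteDimensional k A]
    (D : Type w) [DivisionRing D] [Algebra k D] [Algebra.IsCentral k D] [FiniteDimensional k D]
    (m : ℕ) (e : A ≃ₐ[k] Matrix (Fin m) (Fin m) D) (d : ℕ) (hd : Module.finrank k D = d ^ 2) :
    Curves.Splits k (⨂[k] _ : Fin d, A) k := by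
  classical
  obtain ⟨K, _, _, hfd, hgal, ⟨n, hn, ⟨φ⟩⟩⟩ := Groth.Agent.S0201.result k D
  have hnd : n = d := by
    have h1 : finrank K (K ⊗[k] D) = d ^ 2 := by rw [Module.finrank_baseChange, hd]
    have h2 : finrank K (K ⊗[k] D) = n ^ 2 := by
      rw [φ.toLinearEquiv.finrank_eq, Module.finrank_matrix]; simp [pow_two]
    exact Nat.pow_left_injective (n := 2) (by norm_num) (h2.symm.trans h1)
  subst hnd
  have : Nonempty (Fin n) := ⟨⟨0, Nat.pos_of_ne_zero hn⟩⟩
  obtain ⟨c, R, -⟩ := exists_rep φ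
  have hRD : IsRep k K c D := ⟨Fin n, inferInstance, inferInstance, inferInstance, ⟨R⟩⟩
  have hm : m ≠ 0 := matrix_size_ne_zero e
  have hRA : IsRep k K c A := by
    have := (hRD.tensor (IsRep.matrix k K m hm)).congr
      ((matrixEquivTensor (Fin m) k D).symm.trans e.symm)
    rwa [mul_one] at this
  refine splits_of_isRep_coboundary (isRep_tpow hRA n) (fun σ => ((R.g σ).det)⁻¹)
    (fun σ => inv_ne_zero (R.det_ne_zero σ)) (fun σ τ => ?_)
  have h1 := R.det_mul σ τ
  rw [Fintype.card_fin] at h1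
  have h2 := R.det_ne_zero σ
  have h3 := R.det_ne_zero τ
  have h4 := R.det_ne_zero (σ * τ)
  have h5 : σ (R.g τ).det ≠ 0 := by
    rw [Ne, map_eq_zero_iff σ σ.injective]; exact h3
  rw [Pi.pow_apply, Pi.pow_apply, h1, map_inv₀]
  have h6 : c σ τ ^ n ≠ 0 := by
    intro h0
    rw [h0, zero_mul] at h1
    exact h4 h1
  field_simp

end Groth.Agent.Helper7.BrauerPer
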