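import Mathlib
import Groth.Agent.Helper7.BrauerPer

set_option autoImplicit false
universe u u' v w x

namespace Groth.Agent.Helper7.BrauerPrime

open TensorProduct PiTensorProduct Module Groth.Agent.Helper7.BrauerSplit
  Groth.Agent.Helper7.BrauerTensor Groth.Agent.Helper7.BrauerBasic Groth.Agent.Helper7.BrauerCoc
  Groth.Agent.Helper7.TPow Groth.Agent.Helper7.BrauerIdx Groth.Agent.Helper7.BrauerPer

/-- the index divides the degree of any finite splitting field. -/
theorem index_dvd_of_splits (k : Type u) [Field k]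
    (A : Type v) [Ring A] [Algebra k A]
    (D : Type w) [DivisionRing D] [Algebra k D] [Algebra.IsCentral k D] [FiniteDimensional k D]
    (m : ℕ) (e : A ≃ₐ[k] Matrix (Fin m) (Fin m) D) (hm : m ≠ 0) (d : ℕ)
    (hd : Module.finrank k D = d ^ 2)
    (L : Type u') [Field L] [Algebra k L] [FiniteDimensional k L] (hs : Curves.Splits k A L) :
    d ∣ Module.finrank k L := by
  have hD : Curves.Splits k D L := splits_of_splits_matrix m hm (splits_of_algEquiv e hs)
  obtain ⟨n, hn, ⟨φ⟩⟩ := hD
  have hnd : n = d := by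
    have h1 : finrank L (L ⊗[k] D) = d ^ 2 := by rw [Module.finrank_baseChange, hd]
    have h2 : finrank L (L ⊗[k] D) = n ^ 2 := by
      rw [φ.toLinearEquiv.finrank_eq, Module.finrank_matrix]; simp [pow_two]
    exact Nat.pow_left_injective (n := 2) (by norm_num) (h2.symm.trans h1)
  subst hnd
  let ρ : D →+* Matrix (Fin n) (Fin n) L :=
    (φ : L ⊗[k] D →+* Matrix (Fin n) (Fin n) L).comp
      (Algebra.TensorProduct.includeRight : D →ₐ[k] L ⊗[k] D).toRingHom
  have hρ : ∀ (c : k) (x : D), ρ (c • x) = algebraMap k L c • ρ x := by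
    intro c x
    change φ ((1 : L) ⊗ₜ[k] (c • x)) = algebraMap k L c • φ ((1 : L) ⊗ₜ[k] x)
    rw [← map_smul, TensorProduct.tmul_smul, algebraMap_smul]
  have h3 := finrank_dvd_of_matrix_rep k L D L n ρ hρ
  rw [hd, Module.finrank_self, mul_one] at h3
  have hn0 : 0 < n := Nat.pos_of_ne_zero hn
  have h4 : n * n ∣ n * finrank k L := by
    rw [← pow_two, mul_comm n (finrank k L)]; exact h3
  exact (Nat.mul_dvd_mul_iff_left hn0).1 h4

/-- a set of naturals containing `0`, closed under `+` and relative `-`, is closed under `gcd`. -/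
theorem gcd_mem (S : ℕ → Prop) (h0 : S 0) (hadd : ∀ a b, S a → S b → S (a + b))
    (hsub : ∀ a b, S (a + b) → S b → S a) : ∀ m n, S m → S n → S (Nat.gcd m n) := by
  have hmul : ∀ a j, S a → S (a * j) := by
    intro a j ha
    induction j with
    | zero => simpa using h0
    | succ j ih => rw [Nat.mul_succ]; exact hadd _ _ ih ha
  intro m n
  induction m, n using Nat.gcd.induction with
  | H0 n => intro _ hn; rwa [Nat.gcd_zero_left]
  | H1 m n hm ih =>
    intro hSm hSn
    rw [Nat.gcd_rec]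
    refine ih ?_ hSm
    have h1 : n % m + m * (n / m) = n := Nat.mod_add_div n m
    exact hsub (n % m) (m * (n / m)) (by rw [h1]; exact hSn) (hmul m _ hSm)

/-- core of the prime-factor argument, with the fixed field of a Sylow subgroup abstracted. -/
theorem prime_core (k : Type u) [Field k] (F : Type u) [Field F] [Algebra k F]
    [FiniteDimensional k F] (K : Type u') [Field K] [Algebra k K] [Algebra F K] [IsScalarTower k F K]
    [FiniteDimensional F K]
    (A : Type v) [Ring A] [Algebra k A] [Algebra.IsCentral k A] [IsSimpleRing A] [FiniteDimensional k A]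
    (D : Type v) [DivisionRing D] [Algebra k D] [Algebra.IsCentral k D] [FiniteDimensional k D]
    (m : ℕ) (iso : A ≃ₐ[k] Matrix (Fin m) (Fin m) D) (d : ℕ) (hd : Module.finrank k D = d ^ 2)
    (e : ℕ) (hsplit : Curves.Splits k (⨂[k] _i : Fin e, A) k)
    (p : ℕ) (hp : p.Prime) (hpd : p ∣ d) (hK : Curves.Splits k A K) (a : ℕ)
    (hKF : finrank F K = p ^ a) (hFk : ¬ p ∣ finrank k F) : p ∣ e := by
  classical
  by_contra hpe
  obtain ⟨m', hm', DF, _, _, _, _, ⟨isoF⟩⟩ := wedderburn F (F ⊗[k] A)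
  obtain ⟨dF, hdF⟩ := Groth.Agent.S0192.result F DF
  have hdF' : finrank F DF = dF ^ 2 := by rw [hdF, pow_two]
  have h7748 := (result7748 k F A D m iso d hd DF m' isoF dF hdF').2
  have hpdF : p ∣ dF := (hp.dvd_mul.1 (hpd.trans h7748)).resolve_left hFk
  have hKsplit : Curves.Splits F (F ⊗[k] A) K := by
    obtain ⟨n, hn, ⟨φ⟩⟩ := hK
    exact ⟨n, hn, ⟨(cancelBC k F K A).trans φ⟩⟩
  have hdFdvd : dF ∣ finrank F K :=
    index_dvd_of_splits F (F ⊗[k] A) DF m' isoF hm'.ne dF hdF' K hKsplit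
  rw [hKF] at hdFdvd
  obtain ⟨b, hb, rfl⟩ := (Nat.dvd_prime_pow hp).1 hdFdvd
  have hf := splits_tpow_index F (F ⊗[k] A) DF m' isoF (p ^ b) hdF'
  have hg : Curves.Splits F (⨂[F] _ : Fin e, (F ⊗[k] A)) F := by
    obtain ⟨N, hN, ⟨ψ⟩⟩ := splits_self_iff.1 hsplit
    obtain ⟨bc⟩ := tpowBC k F A e
    rw [splits_self_iff]
    exact ⟨N, hN, ⟨bc.symm.trans ((Algebra.TensorProduct.congr AlgEquiv.refl ψ).trans
      (matSplit k F N))⟩⟩
  have hgcd := gcd_mem (fun n => Curves.Splits F (⨂[F] _ : Fin n, (F ⊗[k] A)) F)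
    (splits_of_algEquiv (tpowZero F (F ⊗[k] A)).symm (splits_self F))
    (fun a b ha hb => splits_tpow_add F a b ha hb)
    (fun a b hab hb => splits_tpow_sub a b hab hb) e (p ^ b) hg hf
  have hcop : Nat.gcd e (p ^ b) = 1 :=
    Nat.Coprime.pow_right b ((Nat.Prime.coprime_iff_not_dvd hp).2 hpe).symm
  rw [hcop] at hgcd
  have hAF : Curves.Splits F (F ⊗[k] A) F := splits_of_algEquiv (tpowOne F _) hgcd
  have := index_dvd_of_splits F (F ⊗[k] A) DF m' isoF hm'.ne (p ^ b) hdF' F hAF
  rw [Module.finrank_self] at this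
  exact hp.one_lt.ne' (Nat.dvd_one.1 (hpdF.trans this))

/-- every prime factor of the index divides every exponent killing the class. -/
theorem prime_dvd_of_splits_tpow (k : Type u) [Field k]
    (A : Type v) [Ring A] [Algebra k A] [Algebra.IsCentral k A] [IsSimpleRing A] [FiniteDimensional k A]
    (D : Type v) [DivisionRing D] [Algebra k D] [Algebra.IsCentral k D] [FiniteDimensional k D]
    (m : ℕ) (iso : A ≃ₐ[k] Matrix (Fin m) (Fin m) D) (d : ℕ) (hd : Module.finrank k D = d ^ 2)
    (e : ℕ) (hsplit : Curves.Splits k (⨂[k] _i : Fin e, A) k)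
    (p : ℕ) (hp : p.Prime) (hpd : p ∣ d) : p ∣ e := by
  classical
  haveI : Fact p.Prime := ⟨hp⟩
  obtain ⟨K, _, _, hfd, hgal, hK⟩ := Groth.Agent.S0201.result k A
  let P : Sylow p (K ≃ₐ[k] K) := default
  let F : IntermediateField k K := IntermediateField.fixedField (P : Subgroup (K ≃ₐ[k] K))
  have hKF : finrank F K = Nat.card (P : Subgroup (K ≃ₐ[k] K)) :=
    IntermediateField.finrank_fixedField_eq_card _
  obtain ⟨a, ha⟩ := IsPGroup.iff_card.1 P.isPGroup'
  have hFk : ¬ p ∣ finrank k F := by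
    have h1 : finrank k F * finrank F K = finrank k K := Module.finrank_mul_finrank k F K
    have h2 : Nat.card (K ≃ₐ[k] K) = finrank k K := IsGalois.card_aut_eq_finrank k K
    have h3 : Nat.card (P : Subgroup (K ≃ₐ[k] K)) * (P : Subgroup (K ≃ₐ[k] K)).index =
        Nat.card (K ≃ₐ[k] K) := Subgroup.card_mul_index _
    have hpos : 0 < Nat.card (P : Subgroup (K ≃ₐ[k] K)) := Nat.card_pos
    have h4 : finrank k F = (P : Subgroup (K ≃ₐ[k] K)).index := by
      have : Nat.card (P : Subgroup (K ≃ₐ[k] K)) * finrank k F =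
          Nat.card (P : Subgroup (K ≃ₐ[k] K)) * (P : Subgroup (K ≃ₐ[k] K)).index := by
        rw [h3, h2, ← h1, hKF, mul_comm]
      exact Nat.eq_of_mul_eq_mul_left hpos this
    rw [h4]
    exact P.not_dvd_index
  exact prime_core k F K A D m iso d hd e hsplit p hp hpd hK a (hKF.trans ha) hFk

end Groth.Agent.Helper7.BrauerPrime
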