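import Mathlib
import Groth.Agent.Helper7.BrauerPrime
import Groth.Agent.S0196
import Groth.Agent.S0198

set_option autoImplicit false
universe u u' v w x

namespace Groth.Agent.Helper7.BrauerMax

open TensorProduct Module Groth.Agent.Helper7.BrauerSplit
  Groth.Agent.Helper7.BrauerTensor Groth.Agent.Helper7.BrauerBasic

section selfcent
variable {k : Type u} [Field k] {B : Type v} [Ring B] [Algebra k B] {L : Type w} [Field L]
  [Algebra k L]

/-- `B` as an `L`-vector space via right multiplication. -/
def RV (_ι : L →ₐ[k] B) : Type v := B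

/-- view a vector as an element of `B`. -/
def RV.toB {ι : L →ₐ[k] B} (v : RV ι) : B := v
/-- view an element of `B` as a vector. -/
def RV.ofB (ι : L →ₐ[k] B) (b : B) : RV ι := b

instance (ι : L →ₐ[k] B) : AddCommGroup (RV ι) := inferInstanceAs (AddCommGroup B)
instance (ι : L →ₐ[k] B) : Module k (RV ι) := inferInstanceAs (Module k B)

/-- right multiplication as a ring hom (`L` is commutative). -/
def rhom (ι : L →ₐ[k] B) : L →+* Module.End k B where
  toFun l := LinearMap.mulRight k (ι l)
  map_one' := by ext; simp
  map_mul' a b := by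
    ext v
    simp only [LinearMap.mulRight_apply, Module.End.mul_apply]
    rw [mul_comm a b, map_mul, mul_assoc]
  map_zero' := by ext; simp
  map_add' a b := by ext; simp [mul_add]

instance (ι : L →ₐ[k] B) : Module L (RV ι) := Module.compHom B (rhom ι)

theorem smul_def (ι : L →ₐ[k] B) (l : L) (v : RV ι) :
    l • v = RV.ofB ι (v.toB * ι l) := rfl

instance (ι : L →ₐ[k] B) : IsScalarTower k L (RV ι) :=
  ⟨fun c l v => by
    show v.toB * ι (c • l) = c • (v.toB * ι l)
    rw [map_smul, mul_smul_comm]⟩

/-- left multiplication by `B` on `RV ι`. -/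
def lmul (ι : L →ₐ[k] B) : B →ₐ[k] Module.End L (RV ι) where
  toFun b :=
    { toFun := fun v => RV.ofB ι (b * v.toB)
      map_add' := fun v w => mul_add b v.toB w.toB
      map_smul' := fun l v => by
        show b * (v.toB * ι l) = (b * v.toB) * ι l
        rw [mul_assoc] }
  map_one' := by ext v; exact one_mul v.toB
  map_mul' a b := by ext v; exact mul_assoc a b v.toB
  map_zero' := by ext v; exact zero_mul v.toB
  map_add' a b := by ext v; exact add_mul a b v.toB
  commutes' c := by
    ext v
    show algebraMap k B c * v.toB = c • v.toB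
    rw [Algebra.smul_def]

/-- the comparison map `L ⊗ B → End_L(B)`. -/
noncomputable def compMap (ι : L →ₐ[k] B) : L ⊗[k] B →ₐ[L] Module.End L (RV ι) :=
  Algebra.TensorProduct.lift (Algebra.ofId L (Module.End L (RV ι))) (lmul ι)
    (fun l b => Algebra.commutes' l (lmul ι b))

/-- A subfield `L` of a central simple algebra `B` with `dim B = [L:k]²` splits `B`. -/
theorem splits_of_selfCentralizing [Algebra.IsCentral k B] [IsSimpleRing B] [FiniteDimensional k B]
    [FiniteDimensional k L] (ι : L →ₐ[k] B) (hdim : finrank k B = finrank k L ^ 2) :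
    Curves.Splits k B L := by
  classical
  have hn0 : 0 < finrank k L := Module.finrank_pos
  set n := finrank k L with hn
  have : Module.Finite k (RV ι) := inferInstanceAs (Module.Finite k B)
  have : Module.Finite L (RV ι) := Module.Finite.of_restrictScalars_finite k L (RV ι)
  have hV : finrank L (RV ι) = n := by
    have h1 : finrank k L * finrank L (RV ι) = finrank k (RV ι) := Module.finrank_mul_finrank k L _
    have h2 : finrank k (RV ι) = n ^ 2 := hdim
    rw [h2, ← hn, pow_two] at h1
    exact Nat.eq_of_mul_eq_mul_left hn0 h1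
  have hE : finrank L (Module.End L (RV ι)) = n ^ 2 := by
    rw [Module.finrank_linearMap, hV, pow_two]
  have hT : finrank L (L ⊗[k] B) = n ^ 2 := by rw [Module.finrank_baseChange, hdim]
  have : Nontrivial (RV ι) := Module.nontrivial_of_finrank_pos (R := L) (by rw [hV]; exact hn0)
  have hinj : Function.Injective (compMap ι) :=
    (compMap ι : L ⊗[k] B →+* Module.End L (RV ι)).injective
  have hbij : Function.Bijective (compMap ι) :=
    ⟨hinj, (LinearMap.injective_iff_surjective_of_finrank_eq_finrank
      (f := (compMap ι).toLinearMap) (hT.trans hE.symm)).1 hinj⟩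
  let b : Basis (Fin n) L (RV ι) := Module.finBasisOfFinrankEq L (RV ι) hV
  exact ⟨n, hn0.ne', ⟨(AlgEquiv.ofBijective (compMap ι) hbij).trans (algEquivMatrix b)⟩⟩

end selfcent

section maxsub
variable (k : Type u) [Field k] (D : Type v) [DivisionRing D] [Algebra k D]
  [FiniteDimensional k D]

theorem isField_of_comm (L₀ : Subalgebra k D) (hcomm : ∀ x ∈ L₀, ∀ y ∈ L₀, x * y = y * x) :
    IsField L₀ where
  exists_pair_ne := ⟨0, 1, zero_ne_one⟩
  mul_comm a b := Subtype.ext (hcomm a a.2 b b.2)
  mul_inv_cancel := by
    intro a ha
    let f : L₀ →ₗ[k] L₀ := LinearMap.mulLeft k a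
    have hinj : Function.Injective f := by
      rw [injective_iff_map_eq_zero]
      intro x hx
      have : a * x = 0 := hx
      rcases mul_eq_zero.1 this with h | h
      · exact absurd h ha
      · exact h
    obtain ⟨b, hb⟩ := (LinearMap.injective_iff_surjective.1 hinj) 1
    exact ⟨b, hb⟩

/-- a central division algebra of index `d` is split by a separable subfield of degree `d`. -/
theorem exists_splitting_subfield [Algebra.IsCentral k D] (d : ℕ) (hd : finrank k D = d ^ 2) :
    ∃ (L : Type v) (_ : Field L) (_ : Algebra k L) (_ : FiniteDimensional k L) (_ : L →ₐ[k] D),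
      finrank k L = d ∧ Algebra.IsSeparable k L ∧ Curves.Splits k D L := by
  classical
  obtain ⟨L₀, hcomm, hmax, hsep⟩ := Groth.Agent.S0198.result k D
  have h196 := Groth.Agent.S0196.result k D L₀ hcomm hmax
  letI : Field L₀ := (isField_of_comm k D L₀ hcomm).toField
  have hfr : finrank k L₀ = d := by
    rw [hd] at h196
    exact (Nat.pow_left_injective (n := 2) (by norm_num) h196).symm
  exact ⟨L₀, inferInstance, inferInstance, inferInstance, L₀.val, hfr, hsep,
    splits_of_selfCentralizing L₀.val h196⟩

end maxsub

end Groth.Agent.Helper7.BrauerMax
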