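import Mathlib
import Groth.Agent.Helper7.BrauerMax
import Groth.Agent.S0187
import Groth.Agent.S0188
import Groth.Agent.S0189
import Groth.Agent.S0194

set_option autoImplicit false
universe u u' v w x

namespace Groth.Agent.Helper7.BrauerEmb

open TensorProduct Module Matrix Groth.Agent.Helper7.BrauerSplit
  Groth.Agent.Helper7.BrauerTensor Groth.Agent.Helper7.BrauerBasic

section
variable {k : Type u} [Field k] {K : Type v} [Field K] [Algebra k K]
variable {A : Type w} [Ring A] [Algebra k A] {n : ℕ}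

/-- the action of `A` on `Kⁿ` coming from a splitting. -/
noncomputable def rho (φ : K ⊗[k] A ≃ₐ[K] Matrix (Fin n) (Fin n) K) :
    A →ₐ[k] Module.End k (Fin n → K) where
  toFun a :=
    { toFun := fun v => φ ((1 : K) ⊗ₜ[k] a) *ᵥ v
      map_add' := fun v w => Matrix.mulVec_add _ v w
      map_smul' := fun c v => Matrix.mulVec_smul _ c v }
  map_one' := by
    refine LinearMap.ext (fun v => ?_)
    show φ ((1 : K) ⊗ₜ[k] (1 : A)) *ᵥ v = v
    rw [← Algebra.TensorProduct.one_def, map_one, Matrix.one_mulVec]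
  map_mul' a b := by
    refine LinearMap.ext (fun v => ?_)
    show φ ((1 : K) ⊗ₜ[k] (a * b)) *ᵥ v = φ ((1 : K) ⊗ₜ[k] a) *ᵥ (φ ((1 : K) ⊗ₜ[k] b) *ᵥ v)
    rw [Matrix.mulVec_mulVec, ← map_mul, Algebra.TensorProduct.tmul_mul_tmul, one_mul]
  map_zero' := by
    refine LinearMap.ext (fun v => ?_)
    show φ ((1 : K) ⊗ₜ[k] (0 : A)) *ᵥ v = 0
    rw [TensorProduct.tmul_zero, map_zero, Matrix.zero_mulVec]
  map_add' a b := by
    refine LinearMap.ext (fun v => ?_)
    show φ ((1 : K) ⊗ₜ[k] (a + b)) *ᵥ v = φ ((1 : K) ⊗ₜ[k] a) *ᵥ v + φ ((1 : K) ⊗ₜ[k] b) *ᵥ v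
    rw [TensorProduct.tmul_add, map_add, Matrix.add_mulVec]
  commutes' c := by
    refine LinearMap.ext (fun v => ?_)
    show φ ((1 : K) ⊗ₜ[k] (algebraMap k A c)) *ᵥ v = c • v
    rw [Algebra.algebraMap_eq_smul_one, TensorProduct.tmul_smul, ← Algebra.TensorProduct.one_def,
      ← algebraMap_smul K c (1 : K ⊗[k] A), map_smul, map_one, Matrix.smul_mulVec,
      Matrix.one_mulVec, algebraMap_smul]

theorem rho_apply (φ : K ⊗[k] A ≃ₐ[K] Matrix (Fin n) (Fin n) K) (a : A) (v : Fin n → K) :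
    rho φ a v = φ ((1 : K) ⊗ₜ[k] a) *ᵥ v := rfl

/-- scalar action of `K` on `Kⁿ` by `k`-linear endomorphisms. -/
noncomputable def sK (n : ℕ) : K →ₐ[k] Module.End k (Fin n → K) := Algebra.lsmul k k (Fin n → K)

theorem sK_apply (x : K) (v : Fin n → K) : sK (k := k) n x v = x • v := rfl

theorem rho_comm (φ : K ⊗[k] A ≃ₐ[K] Matrix (Fin n) (Fin n) K) (a : A) (x : K) :
    rho φ a * sK n x = sK n x * rho φ a := by
  refine LinearMap.ext (fun v => ?_)
  show φ ((1 : K) ⊗ₜ[k] a) *ᵥ (x • v) = x • (φ ((1 : K) ⊗ₜ[k] a) *ᵥ v)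
  rw [Matrix.mulVec_smul]

end

/-- Universe-polymorphic transport of centrality (semiring version). -/
theorem isCentral_of_algEquiv'' {K : Type u} [CommSemiring K] {B : Type v} {C : Type w} [Semiring B]
    [Semiring C] [Algebra K B] [Algebra K C] (e : C ≃ₐ[K] B) [hB : Algebra.IsCentral K B] :
    Algebra.IsCentral K C := by
  constructor
  intro z hz
  have hz' : e z ∈ Subalgebra.center K B := by
    rw [Subalgebra.mem_center_iff]
    intro b
    have := (Subalgebra.mem_center_iff.mp hz) (e.symm b)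
    have h2 := congrArg e this
    simpa using h2
  obtain ⟨r, hr⟩ := hB.out hz'
  refine ⟨r, ?_⟩
  apply e.injective
  rw [← hr]
  simp [Algebra.ofId_apply]

/-- If `X ⊗ C` is a matrix algebra over `k` then `X` is Brauer equivalent to `Cᵐᵒᵖ`. -/
theorem brauer_of_tensor_split (k : Type u) [Field k] (X : Type v) [Ring X] [Algebra k X]
    (C : Type w) [Ring C] [Algebra k C] [Algebra.IsCentral k C] [IsSimpleRing C]
    [FiniteDimensional k C] (N : ℕ) (T : X ⊗[k] C ≃ₐ[k] Matrix (Fin N) (Fin N) k) :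
    Nonempty (Matrix (Fin (finrank k C)) (Fin (finrank k C)) X ≃ₐ[k]
      Matrix (Fin N) (Fin N) Cᵐᵒᵖ) := by
  classical
  let e1 : Matrix (Fin (finrank k C)) (Fin (finrank k C)) X ≃ₐ[k]
      X ⊗[k] Matrix (Fin (finrank k C)) (Fin (finrank k C)) k :=
    matrixEquivTensor (Fin (finrank k C)) k X
  let e2 : Module.End k C ≃ₐ[k] Matrix (Fin (finrank k C)) (Fin (finrank k C)) k :=
    algEquivMatrix (Module.finBasis k C)
  let e3 : C ⊗[k] Cᵐᵒᵖ ≃ₐ[k] Module.End k C :=
    AlgEquiv.ofBijective (AlgHom.mulLeftRight k C)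
      (Groth.Agent.Helper5.CSA.mulLeftRight_bijective k C)
  let e4 : X ⊗[k] Matrix (Fin (finrank k C)) (Fin (finrank k C)) k ≃ₐ[k] X ⊗[k] (C ⊗[k] Cᵐᵒᵖ) :=
    Algebra.TensorProduct.congr AlgEquiv.refl (e3.trans e2).symm
  let e5 : X ⊗[k] (C ⊗[k] Cᵐᵒᵖ) ≃ₐ[k] (X ⊗[k] C) ⊗[k] Cᵐᵒᵖ :=
    (Algebra.TensorProduct.assoc k k k X C Cᵐᵒᵖ).symm
  let e6 : (X ⊗[k] C) ⊗[k] Cᵐᵒᵖ ≃ₐ[k] Matrix (Fin N) (Fin N) k ⊗[k] Cᵐᵒᵖ :=
    Algebra.TensorProduct.congr T AlgEquiv.refl
  let e7 : Matrix (Fin N) (Fin N) k ⊗[k] Cᵐᵒᵖ ≃ₐ[k] Cᵐᵒᵖ ⊗[k] Matrix (Fin N) (Fin N) k :=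
    Algebra.TensorProduct.comm k _ _
  let e8 : Cᵐᵒᵖ ⊗[k] Matrix (Fin N) (Fin N) k ≃ₐ[k] Matrix (Fin N) (Fin N) Cᵐᵒᵖ :=
    (matrixEquivTensor (Fin N) k Cᵐᵒᵖ).symm
  exact ⟨e1.trans (e4.trans (e5.trans (e6.trans (e7.trans e8))))⟩

/-- A finite splitting field `K` of `A` embeds in a Brauer-equivalent algebra of degree `[K:k]`. -/
theorem exists_embedding_of_splits (k : Type u) [Field k] (K : Type v) [Field K] [Algebra k K]
    [FiniteDimensional k K]
    (A : Type w) [Ring A] [Algebra k A] [Algebra.IsCentral k A] [IsSimpleRing A] [FiniteDimensional k A]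
    (hA : Curves.Splits k A K) :
    ∃ (B : Type v) (_ : Ring B) (_ : Algebra k B) (_ : Algebra.IsCentral k B) (_ : IsSimpleRing B)
      (_ : FiniteDimensional k B) (_ : K →ₐ[k] B),
      finrank k B = finrank k K ^ 2 ∧ ∃ a b : ℕ, a ≠ 0 ∧ b ≠ 0 ∧
        Nonempty (Matrix (Fin a) (Fin a) A ≃ₐ[k] Matrix (Fin b) (Fin b) B) := by
  classical
  obtain ⟨n, hn, ⟨φ⟩⟩ := hA
  have hn0 : 0 < n := Nat.pos_of_ne_zero hn
  haveI : Nonempty (Fin n) := ⟨⟨0, hn0⟩⟩
  have hm0 : 0 < finrank k K := Module.finrank_pos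
  -- the ambient algebra
  have hV : finrank k (Fin n → K) = n * finrank k K := by
    rw [Module.finrank_pi_fintype]; simp
  have hV0 : 0 < finrank k (Fin n → K) := by rw [hV]; positivity
  haveI : NeZero (finrank k (Fin n → K)) := ⟨hV0.ne'⟩
  let eE : Module.End k (Fin n → K) ≃ₐ[k]
      Matrix (Fin (finrank k (Fin n → K))) (Fin (finrank k (Fin n → K))) k :=
    algEquivMatrix (Module.finBasis k (Fin n → K))
  haveI : IsSimpleRing (Module.End k (Fin n → K)) :=
    IsSimpleRing.of_ringEquiv eE.symm.toRingEquiv inferInstance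
  -- the image of A
  have hρinj : Function.Injective (rho φ) := (rho φ : A →+* Module.End k (Fin n → K)).injective
  let eA : A ≃ₐ[k] (rho φ).range := AlgEquiv.ofInjective (rho φ) hρinj
  haveI : IsSimpleRing (rho φ).range := IsSimpleRing.of_ringEquiv eA.toRingEquiv inferInstance
  haveI : Algebra.IsCentral k (rho φ).range := isCentral_of_algEquiv'' eA.symm
  set C := Subalgebra.centralizer k (((rho φ).range : Subalgebra k _) : Set (Module.End k (Fin n → K)))
    with hC
  haveI hCs : IsSimpleRing C := Groth.Agent.S0187.result k _ (rho φ).range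
  have h188 := Groth.Agent.S0188.result k (Module.End k (Fin n → K)) (rho φ).range
  have h189 := Groth.Agent.S0189.result k (Module.End k (Fin n → K)) (rho φ).range
  have h194 := Groth.Agent.S0194.result k (Module.End k (Fin n → K)) (rho φ).range
  -- dimensions
  have hdA : finrank k A = n ^ 2 := by
    have h1 : finrank K (K ⊗[k] A) = finrank k A := Module.finrank_baseChange
    rw [← h1, φ.toLinearEquiv.finrank_eq, Module.finrank_matrix]; simp [pow_two]
  have hdE : finrank k (Module.End k (Fin n → K)) = (n * finrank k K) ^ 2 := by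
    rw [Module.finrank_linearMap, hV, pow_two]
  have hdC : finrank k C = finrank k K ^ 2 := by
    rw [hdE, ← eA.toLinearEquiv.finrank_eq, hdA] at h188
    have h2 : n ^ 2 * finrank k K ^ 2 = n ^ 2 * finrank k C := by rw [← h188]; ring
    exact (Nat.eq_of_mul_eq_mul_left (by positivity) h2).symm
  -- centrality of C
  haveI hCc : Algebra.IsCentral k C := by
    constructor
    intro z hz
    rw [Subalgebra.mem_center_iff] at hz
    have hz1 : (z : Module.End k (Fin n → K)) ∈
        Subalgebra.centralizer k ((C : Subalgebra k _) : Set (Module.End k (Fin n → K))) := by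
      rw [Subalgebra.mem_centralizer_iff]
      intro g hg
      have := hz ⟨g, hg⟩
      exact congrArg Subtype.val this
    rw [h189] at hz1
    obtain ⟨a, ha⟩ := hz1
    -- a is central in A
    have hac : a ∈ Subalgebra.center k A := by
      rw [Subalgebra.mem_center_iff]
      intro a'
      apply hρinj
      rw [map_mul, map_mul]
      have hzC := (Subalgebra.mem_centralizer_iff k).1
        (show (z : Module.End k (Fin n → K)) ∈ Subalgebra.centralizer k
          (((rho φ).range : Subalgebra k _) : Set (Module.End k (Fin n → K))) from z.2)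
      have h3 := hzC (rho φ a') ⟨a', rfl⟩
      have ha' : rho φ a = (z : Module.End k (Fin n → K)) := ha
      rw [ha']
      exact h3
    obtain ⟨c, hc⟩ := Algebra.IsCentral.out (K := k) hac
    refine Algebra.mem_bot.2 ⟨c, Subtype.ext ?_⟩
    have ha' : rho φ a = (z : Module.End k (Fin n → K)) := ha
    rw [← ha', ← hc]
    show algebraMap k (Module.End k (Fin n → K)) c = rho φ (algebraMap k A c)
    rw [AlgHom.commutes]
  haveI : FiniteDimensional k C := inferInstance
  -- the embedding of K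
  let jK : K →ₐ[k] C := (sK n).codRestrict C (fun x => by
    rw [hC, Subalgebra.mem_centralizer_iff]
    rintro g ⟨a, rfl⟩
    exact rho_comm φ a x)
  let jK' : K →ₐ[k] Cᵐᵒᵖ := jK.toOpposite (fun x y => by
    show jK x * jK y = jK y * jK x
    rw [← map_mul, ← map_mul, mul_comm])
  -- Brauer equivalence
  let T1 : A ⊗[k] C ≃ₐ[k] Module.End k (Fin n → K) :=
    (Algebra.TensorProduct.congr eA AlgEquiv.refl).trans (AlgEquiv.ofBijective _ h194)
  obtain ⟨e⟩ := brauer_of_tensor_split k A C _ (T1.trans eE)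
  haveI h1 : IsSimpleRing Cᵐᵒᵖ := inferInstance
  refine ⟨Cᵐᵒᵖ, inferInstance, inferInstance, inferInstance, h1, inferInstance, jK',
    ?_, finrank k C, finrank k (Fin n → K), ?_, hV0.ne', ⟨e⟩⟩
  · rw [← hdC]
    exact (MulOpposite.opLinearEquiv k : C ≃ₗ[k] Cᵐᵒᵖ).symm.finrank_eq
  · rw [hdC]; positivity

end Groth.Agent.Helper7.BrauerEmb
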