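import Mathlib
import Groth.Agent.Helper7.BrauerPeriod

set_option autoImplicit false
universe u u' v w x

namespace Groth.Agent.Helper7.BrauerPeriod

open TensorProduct PiTensorProduct Module Groth.Agent.Helper7.BrauerSplit
  Groth.Agent.Helper7.BrauerTensor Groth.Agent.Helper7.BrauerBasic Groth.Agent.Helper7.BrauerCoc
  Groth.Agent.Helper7.TPow Groth.Agent.Helper7.BrauerIdx Groth.Agent.Helper7.BrauerPer
  Groth.Agent.Helper7.BrauerPrime

theorem period_tpow (k : Type u) [Field k] (A : Type v) [Ring A] [Algebra k A]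
    [Algebra.IsCentral k A] [IsSimpleRing A] [FiniteDimensional k A] (p : ℕ)
    (hp : CSAGal.IsPeriod k A p) (r : ℕ) (hr : 0 < r) :
    CSAGal.IsPeriod k (CSAGal.tpow k A r) (p / Nat.gcd p r) := by
  have hp0 : 0 < p := hp.1
  set g := Nat.gcd p r with hg
  have hg0 : 0 < g := Nat.gcd_pos_of_pos_left r hp0
  set q := p / g with hq
  have hpq : p = g * q := (Nat.mul_div_cancel' (Nat.gcd_dvd_left p r)).symm
  have hq0 : 0 < q := Nat.div_pos (Nat.le_of_dvd hp0 (Nat.gcd_dvd_left p r)) hg0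
  have hrg : r = g * (r / g) := (Nat.mul_div_cancel' (Nat.gcd_dvd_right p r)).symm
  have hcop : Nat.Coprime q (r / g) := Nat.coprime_div_gcd_div_gcd hg0
  have key : ∀ j : ℕ, Curves.Splits k (⨂[k] _ : Fin j, (⨂[k] _ : Fin r, A)) k ↔ q ∣ j := by
    intro j
    obtain ⟨f⟩ := tpowMul k A r j
    have h1 : Curves.Splits k (⨂[k] _ : Fin j, (⨂[k] _ : Fin r, A)) k ↔
        Curves.Splits k (⨂[k] _ : Fin (r * j), A) k :=
      ⟨fun h => splits_of_algEquiv f h, fun h => splits_of_algEquiv f.symm h⟩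
    rw [h1, splits_tpow_iff_dvd hp]
    constructor
    · intro h
      have h2 : g * q ∣ g * ((r / g) * j) := by
        rw [← hpq, ← mul_assoc, ← hrg]; exact h
      have h3 : q ∣ (r / g) * j := (Nat.mul_dvd_mul_iff_left hg0).1 h2
      exact hcop.dvd_of_dvd_mul_left h3
    · rintro ⟨t, rfl⟩
      rw [hpq]
      refine ⟨(r / g) * t, ?_⟩
      calc r * (q * t) = (g * (r / g)) * (q * t) := by rw [← hrg]
        _ = g * q * (r / g * t) := by ring
  refine ⟨hq0, (key q).2 dvd_rfl, fun e' he' hlt hs => ?_⟩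
  have := Nat.le_of_dvd he' ((key e').1 hs)
  omega

end Groth.Agent.Helper7.BrauerPeriod
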