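import Mathlib
import Groth.Agent.Helper7.BrauerPeriod

set_option autoImplicit false
universe u u' v w x

namespace Groth.Agent.Helper7.BrauerPeriod

open TensorProduct PiTensorProduct Module Groth.Agent.Helper7.BrauerSplit
  Groth.Agent.Helper7.BrauerTensor Groth.Agent.Helper7.BrauerBasic Groth.Agent.Helper7.BrauerCoc
  Groth.Agent.Helper7.TPow Groth.Agent.Helper7.BrauerIdx Groth.Agent.Helper7.BrauerPer
  Groth.Agent.Helper7.BrauerPrime

/-- index under finite base change: `d' ∣ d` and `d ∣ [L:k] d'`. -/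
theorem index_baseChange (k : Type u) [Field k] (L : Type u) [Field L] [Algebra k L]
    [FiniteDimensional k L] (A : Type v) [Ring A] [Algebra k A] [Algebra.IsCentral k A]
    [IsSimpleRing A] [FiniteDimensional k A] (d d' : ℕ) (hd : CSAGal.IsIndex k A d)
    (hd' : CSAGal.IsIndex L (L ⊗[k] A) d') : d' ∣ d ∧ d ∣ finrank k L * d' := by
  obtain ⟨m, D, _, _, _, _, hm, hfin, ⟨e⟩⟩ := isIndex_unpack k A d hd
  obtain ⟨m', D', _, _, _, _, hm', hfin', ⟨e'⟩⟩ := isIndex_unpack L (L ⊗[k] A) d' hd'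
  exact result7748 k L A D m e d hfin D' m' e' d' hfin'

theorem coprime_of_prime_dvd {d n N : ℕ} (hcop : Nat.Coprime n N)
    (h : ∀ q : ℕ, q.Prime → q ∣ d → q ∣ n) : Nat.Coprime d N := by
  refine Nat.coprime_of_dvd (fun q hq hqd hqN => ?_)
  have h1 : q ∣ Nat.gcd n N := Nat.dvd_gcd (h q hq hqd) hqN
  rw [hcop] at h1
  exact hq.one_lt.ne' (Nat.dvd_one.1 h1)

theorem result13840 (κ : Type u) [Field κ] (L : Type u) [Field L] [Algebra κ L]
    [FiniteDimensional κ L] (A : Type v) [Ring A] [Algebra κ A] [Algebra.IsCentral κ A] [IsSimpleRing A]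
    [FiniteDimensional κ A] (n : ℕ) (hn : 0 < n) (hcop : Nat.Coprime n (Module.finrank κ L))
    (hper : Curves.Splits κ (CSAGal.tpow κ A n) κ) :
    (∃ d : ℕ, CSAGal.IsIndex κ A d ∧ d ∣ n) ↔ (∃ d' : ℕ, CSAGal.IsIndex L (L ⊗[κ] A) d' ∧ d' ∣ n) := by
  constructor
  · rintro ⟨d, hd, hdn⟩
    obtain ⟨d', hd'⟩ := exists_isIndex L (L ⊗[κ] A)
    exact ⟨d', hd', ((index_baseChange κ L A d d' hd hd').1).trans hdn⟩
  · rintro ⟨d', hd', hd'n⟩
    obtain ⟨d, hd⟩ := exists_isIndex κ A
    refine ⟨d, hd, ?_⟩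
    have h1 := (index_baseChange κ L A d d' hd hd').2
    have h2 : Nat.Coprime d (finrank κ L) := by
      refine coprime_of_prime_dvd hcop (fun q hq hqd => ?_)
      obtain ⟨m, D, _, _, _, _, hm, hfin, ⟨e⟩⟩ := isIndex_unpack κ A d hd
      exact prime_dvd_of_splits_tpow κ A D m e d hfin n hper q hq hqd
    exact (h2.dvd_of_dvd_mul_left h1).trans hd'n

theorem result13841 (k : Type u) [Field k] (A : Type v) [Ring A] [Algebra k A]
    [Algebra.IsCentral k A] [IsSimpleRing A] [FiniteDimensional k A] (n : ℕ)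
    (hper : CSAGal.IsPeriod k A n) :
    CSAGal.IsIndex k A n ↔
      ∃ (k' : Type u) (_ : Field k') (_ : Algebra k k') (_ : FiniteDimensional k k'),
        Nat.Coprime n (Module.finrank k k') ∧
          ∃ d' : ℕ, CSAGal.IsIndex k' (k' ⊗[k] A) d' ∧ d' ∣ n := by
  constructor
  · rintro ⟨hn, m, D, _, _, hm, hfin, ⟨e⟩⟩
    refine ⟨k, inferInstance, inferInstance, inferInstance, ?_, n, ?_, dvd_rfl⟩
    · rw [Module.finrank_self]; exact Nat.coprime_one_right n
    · refine ⟨hn, m, ULift.{u} D, inferInstance, inferInstance, hm, ?_, ⟨?_⟩⟩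
      · rw [← hfin]
        exact (ULift.moduleEquiv (R := k) (M := D)).finrank_eq
      · exact (Algebra.TensorProduct.lid k A).trans
          (e.trans (ULift.algEquiv (R := k) (A := D)).symm.mapMatrix)
  · rintro ⟨k', _, _, _, hcop, d', hd', hd'n⟩
    obtain ⟨d, hd⟩ := exists_isIndex k A
    have h1 := (index_baseChange k k' A d d' hd hd').2
    have h2 : Nat.Coprime d (finrank k k') :=
      coprime_of_prime_dvd hcop (fun q hq hqd => prime_dvd_period hper hd q hq hqd)
    have h3 : d ∣ n := (h2.dvd_of_dvd_mul_left h1).trans hd'n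
    have h4 : n ∣ d := period_dvd_index hper hd
    have : d = n := Nat.dvd_antisymm h3 h4
    rw [← this]; exact hd

end Groth.Agent.Helper7.BrauerPeriod
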