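import Mathlib

set_option autoImplicit false
universe u

namespace Groth.Agent.Helper7.CCa

variable {k V : Type u} [Field k] [AddCommGroup V] [Module k V]

theorem exists_notMem_two (U₁ U₂ : Submodule k V) (h₁ : U₁ ≠ ⊤) (h₂ : U₂ ≠ ⊤) :
    ∃ v : V, v ∉ U₁ ∧ v ∉ U₂ := by
  obtain ⟨a, ha⟩ : ∃ a, a ∉ U₁ := by
    by_contra hcon
    push Not at hcon
    exact h₁ (eq_top_iff.mpr fun x _ => hcon x)
  obtain ⟨b, hb⟩ : ∃ b, b ∉ U₂ := by
    by_contra hcon
    push Not at hcon
    exact h₂ (eq_top_iff.mpr fun x _ => hcon x)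
  by_cases ha2 : a ∈ U₂
  · by_cases hb1 : b ∈ U₁
    · refine ⟨a + b, ?_, ?_⟩
      · intro h
        exact ha ((Submodule.add_mem_iff_left _ hb1).mp h)
      · intro h
        exact hb ((Submodule.add_mem_iff_right _ ha2).mp h)
    · exact ⟨b, hb1, hb⟩
  · exact ⟨a, ha, ha2⟩

theorem finrank_sup_span [FiniteDimensional k V] (U : Submodule k V) (v : V) (hv : v ∉ U) :
    Module.finrank k (U ⊔ Submodule.span k {v} : Submodule k V) = Module.finrank k U + 1 := by
  have hv0 : v ≠ 0 := fun h => hv (h ▸ U.zero_mem)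
  have h1 := Submodule.finrank_sup_add_finrank_inf_eq U (Submodule.span k {v})
  have h2 : U ⊓ Submodule.span k {v} = ⊥ := by
    rw [← disjoint_iff]
    exact (Submodule.disjoint_span_singleton' hv0).mpr hv
  rw [h2, finrank_bot, add_zero, finrank_span_singleton hv0] at h1
  exact h1

theorem isCompl_sup_span (U C' : Submodule k V) (v : V) (hv : v ∉ U)
    (h : IsCompl (U ⊔ Submodule.span k {v}) C') : IsCompl U (C' ⊔ Submodule.span k {v}) := by
  constructor
  · rw [Submodule.disjoint_def]
    intro x hx hxC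
    obtain ⟨c, hc, w, hw, rfl⟩ := Submodule.mem_sup.mp hxC
    obtain ⟨a, rfl⟩ := Submodule.mem_span_singleton.mp hw
    have h1 : c ∈ U ⊔ Submodule.span k {v} := by
      have : c = (c + a • v) - a • v := by abel
      rw [this]
      exact Submodule.sub_mem _ (Submodule.mem_sup_left hx)
        (Submodule.mem_sup_right (Submodule.smul_mem _ _ (Submodule.mem_span_singleton_self v)))
    have h2 : c = 0 := (Submodule.disjoint_def.mp h.disjoint) c h1 hc
    rw [h2, zero_add] at hx ⊢
    by_cases ha : a = 0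
    · rw [ha, zero_smul]
    · exfalso
      apply hv
      have := U.smul_mem a⁻¹ hx
      rwa [smul_smul, inv_mul_cancel₀ ha, one_smul] at this
  · rw [codisjoint_iff]
    have := h.sup_eq_top
    rw [← this]
    rw [sup_comm C', ← sup_assoc]

theorem exists_common_compl [FiniteDimensional k V] :
    ∀ (m : ℕ) (U₁ U₂ : Submodule k V), Module.finrank k U₁ = Module.finrank k U₂ →
      Module.finrank k V - Module.finrank k U₁ = m →
      ∃ C : Submodule k V, IsCompl U₁ C ∧ IsCompl U₂ C := by
  intro m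
  induction m with
  | zero =>
    intro U₁ U₂ h hm
    have h1 : Module.finrank k U₁ = Module.finrank k V :=
      le_antisymm (Submodule.finrank_le U₁) (by omega)
    have h2 : Module.finrank k U₂ = Module.finrank k V := by rw [← h, h1]
    rw [Submodule.eq_top_of_finrank_eq h1, Submodule.eq_top_of_finrank_eq h2]
    exact ⟨⊥, isCompl_top_bot, isCompl_top_bot⟩
  | succ m ih =>
    intro U₁ U₂ h hm
    have h1 : U₁ ≠ ⊤ := by
      rintro rfl
      rw [finrank_top] at hm
      omega
    have h2 : U₂ ≠ ⊤ := by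
      rintro rfl
      rw [finrank_top] at h
      omega
    obtain ⟨v, hv1, hv2⟩ := exists_notMem_two U₁ U₂ h1 h2
    obtain ⟨C', hC1, hC2⟩ := ih (U₁ ⊔ Submodule.span k {v}) (U₂ ⊔ Submodule.span k {v})
      (by rw [finrank_sup_span U₁ v hv1, finrank_sup_span U₂ v hv2, h])
      (by rw [finrank_sup_span U₁ v hv1]; omega)
    exact ⟨C' ⊔ Submodule.span k {v}, isCompl_sup_span U₁ C' v hv1 hC1,
      isCompl_sup_span U₂ C' v hv2 hC2⟩

end Groth.Agent.Helper7.CCa
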