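import Mathlib
import Groth.Agent.Helper7.CCa

set_option autoImplicit false
universe u

namespace Groth.Agent.Helper7.CCb

open Groth.Agent.Helper7 Module

variable {k V : Type u} [Field k] [AddCommGroup V] [Module k V] [FiniteDimensional k V]
variable (T : Submodule k (V × Module.Dual k V))

/-- second projection restricted to `T` -/
noncomputable def s : T →ₗ[k] Module.Dual k V := (LinearMap.snd k V (Module.Dual k V)) ∘ₗ T.subtype

/-- `V₁ ≃ ker s` -/
noncomputable def e : (T.comap (LinearMap.inl k V (Module.Dual k V))) ≃ₗ[k] LinearMap.ker (s T) :=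
  LinearEquiv.ofBijective
    { toFun := fun v => ⟨⟨(v.1, 0), v.2⟩, rfl⟩
      map_add' := by
        intro a b
        apply Subtype.ext
        apply Subtype.ext
        simp
      map_smul' := by
        intro c a
        apply Subtype.ext
        apply Subtype.ext
        simp }
    (by
      constructor
      · intro a b hab
        apply Subtype.ext
        have := congrArg (fun z : LinearMap.ker (s T) => (z.1.1 : V × Module.Dual k V).1) hab
        exact this
      · rintro ⟨⟨⟨v, ξ⟩, hmem⟩, hker⟩
        have hξ : ξ = 0 := hker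
        subst hξ
        exact ⟨⟨v, hmem⟩, rfl⟩)

theorem finrank_eq (hT : finrank k T = finrank k V) :
    finrank k (T.comap (LinearMap.inl k V (Module.Dual k V))) =
      finrank k (LinearMap.range (s T)).dualCoannihilator := by
  have h1 := LinearMap.finrank_range_add_finrank_ker (K := k) (V := T) (V₂ := Module.Dual k V) (s T)
  have h2 := Subspace.finrank_add_finrank_dualCoannihilator_eq (LinearMap.range (s T))
  have h3 := (e T).finrank_eq
  omega

theorem main (hT : finrank k T = finrank k V) :
    ∃ (V₂ : Submodule k V) (h : IsCompl (T.comap (LinearMap.inl k V (Module.Dual k V))) V₂),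
      ∀ A₁ : T.comap (LinearMap.inl k V (Module.Dual k V)) →ₗ[k]
          Module.Dual k (T.comap (LinearMap.inl k V (Module.Dual k V))),
        Function.Injective A₁ →
          LinearMap.graph ((Submodule.projectionOnto _ V₂ h).dualMap ∘ₗ A₁ ∘ₗ
              Submodule.projectionOnto _ V₂ h) ⊓ T = ⊥ := by
  obtain ⟨V₂, h1, h2⟩ := CCa.exists_common_compl _ _ _ (finrank_eq T hT) rfl
  refine ⟨V₂, h1, ?_⟩
  intro A₁ hA₁
  rw [eq_bot_iff]
  rintro ⟨v, ξ⟩ ⟨hgraph, hmemT⟩
  rw [SetLike.mem_coe, LinearMap.mem_graph_iff] at hgraph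
  simp only at hgraph
  set p := Submodule.projectionOnto _ V₂ h1 with hp
  -- ξ vanishes on V₂
  have hξV₂ : ∀ w ∈ V₂, ξ w = 0 := by
    intro w hw
    rw [hgraph]
    simp only [LinearMap.comp_apply, LinearMap.dualMap_apply]
    rw [hp, Submodule.projectionOnto_apply_of_mem_right h1 hw, map_zero]
  -- ξ vanishes on Ξ_⊥
  have hξΞ : ∀ w ∈ (LinearMap.range (s T)).dualCoannihilator, ξ w = 0 := by
    intro w hw
    rw [Submodule.mem_dualCoannihilator] at hw
    exact hw ξ ⟨⟨(v, ξ), hmemT⟩, rfl⟩
  have hξ : ξ = 0 := by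
    ext w
    have hw : w ∈ (LinearMap.range (s T)).dualCoannihilator ⊔ V₂ := by
      rw [h2.sup_eq_top]; trivial
    obtain ⟨a, ha, b, hb, rfl⟩ := Submodule.mem_sup.mp hw
    rw [map_add, hξΞ a ha, hξV₂ b hb, add_zero, LinearMap.zero_apply]
  subst hξ
  -- v ∈ V₁
  have hv1 : v ∈ T.comap (LinearMap.inl k V (Module.Dual k V)) := hmemT
  -- A₁ (p v) = 0
  have hA0 : A₁ (p v) = 0 := by
    ext w
    obtain ⟨w', rfl⟩ := Submodule.projectionOnto_surjective h1 w
    have := LinearMap.congr_fun hgraph w'
    simp only [LinearMap.comp_apply, LinearMap.dualMap_apply, LinearMap.zero_apply] at this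
    exact this.symm
  have hpv : p v = 0 := by
    apply hA₁
    rw [hA0, map_zero]
  rw [hp, Submodule.projectionOnto_apply_of_mem_left h1 hv1] at hpv
  have hv0 : v = 0 := congrArg Subtype.val hpv
  subst hv0
  rfl

end Groth.Agent.Helper7.CCb
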