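import Mathlib
import Groth.Agent.Helper7.CCvA

/-!
# CCvB: `R[X]/(Xⁿ - s)` is a regular ring (non-local base)
-/

set_option autoImplicit false
universe u
open Polynomial

namespace Groth.Agent.Helper7.CCv

section Etale

variable {R : Type u} [CommRing R] (s : R) (n : ℕ)

/-- away from the root, `R[X]/(Xⁿ - s)` is étale over `R` (for `n` invertible) -/
theorem etale_away (hn0 : 0 < n) (hn : IsUnit (n : R)) :
    Algebra.Etale R (Localization.Away (AdjoinRoot.root (pol s n))) := by
  obtain ⟨ν, hν⟩ := hn.exists_right_inv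
  have hder : derivative (pol s n) = C (n : R) * X ^ (n - 1) := by
    rw [pol, derivative_sub, derivative_X_pow, derivative_C, sub_zero]
  let P : StandardEtalePair R := ⟨pol s n, pol_monic s n hn0, X, ⟨C ν * X, 0, n, by
    rw [hder, mul_zero, add_zero]
    obtain ⟨m, rfl⟩ : ∃ m, n = m + 1 := ⟨n - 1, by omega⟩
    have : C ((m + 1 : ℕ) : R) * X ^ (m + 1 - 1) * (C ν * X) =
        C (((m + 1 : ℕ) : R) * ν) * X ^ (m + 1) := by
      rw [Nat.add_sub_cancel, C_mul, pow_succ]
      ring
    rw [this, hν, C_1, one_mul]⟩⟩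
  exact Algebra.Etale.of_equiv P.equivAwayAdjoinRoot

end Etale

section Reg

variable (R : Type u) [CommRing R] [IsRegularRing R] (s : R) (n : ℕ)

theorem regular_atPrime_of_root_notMem (hn0 : 0 < n) (hn : IsUnit (n : R))
    (Q : Ideal (AdjoinRoot (pol s n))) [hQ : Q.IsPrime] (hx : AdjoinRoot.root (pol s n) ∉ Q) :
    IsRegularLocalRing (Localization.AtPrime Q) := by
  set T := AdjoinRoot (pol s n)
  set x : T := AdjoinRoot.root (pol s n)
  haveI := etale_away s n hn0 hn
  have hdisj : Disjoint (Submonoid.powers x : Set T) (Q : Set T) := by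
    rw [Set.disjoint_left]
    rintro y ⟨m, rfl⟩ hy
    exact hx (hQ.mem_of_pow_mem m hy)
  let Q' : Ideal (Localization.Away x) := Q.map (algebraMap T (Localization.Away x))
  haveI hQ' : Q'.IsPrime :=
    IsLocalization.isPrime_of_isPrime_disjoint (Submonoid.powers x) _ Q hQ hdisj
  have hcm : Q'.comap (algebraMap T (Localization.Away x)) = Q :=
    IsLocalization.comap_map_of_isPrime_disjoint (Submonoid.powers x) _ hQ hdisj
  have h1 : IsRegularLocalRing (Localization.AtPrime Q') := by
    rw [← Groth.Agent.Helper8.RegEt.main R (Localization.Away x) Q']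
    infer_instance
  have e := IsLocalization.localizationLocalizationAtPrimeIsoLocalization (Submonoid.powers x) Q'
  have key : ∀ (Q'' : Ideal T) [Q''.IsPrime], Q'' = Q →
      (Localization.AtPrime Q'' ≃ₐ[T] Localization.AtPrime Q') →
      IsRegularLocalRing (Localization.AtPrime Q) := by
    intro Q'' _ h e'
    subst h
    exact IsRegularLocalRing.of_ringEquiv e'.symm.toRingEquiv
  exact key _ hcm e

theorem isRegularRing_adjoinRoot (hs : IsSMulRegular R s)
    (hq : IsRegularRing (R ⧸ Ideal.span {s})) (hn0 : 0 < n) (hn : IsUnit (n : R)) :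
    IsRegularRing (AdjoinRoot (pol s n)) := by
  haveI : Module.Finite R (AdjoinRoot (pol s n)) := finite_adj s n hn0
  haveI : IsNoetherianRing (AdjoinRoot (pol s n)) := IsNoetherianRing.of_finite R _
  rw [isRegularRing_iff]
  intro Q hQ
  by_cases hx : AdjoinRoot.root (pol s n) ∈ Q
  · apply regular_atPrime_of_quotient (AdjoinRoot (pol s n)) (AdjoinRoot.root (pol s n))
      (root_isSMulRegular s n hn0 hs) Q hx
    have e1 : (AdjoinRoot (pol s n) ⧸ Ideal.span {AdjoinRoot.root (pol s n)}) ≃+*
        (R ⧸ Ideal.span {s}) :=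
      (Ideal.quotEquivOfEq (Groth.Agent.Helper8.RegAdj.ker_toQuot s n hn0).symm).trans
        (RingHom.quotientKerEquivOfSurjective (Groth.Agent.Helper8.RegAdj.toQuot_surjective s n hn0))
    exact IsRegularRing.of_ringEquiv e1.symm
  · exact regular_atPrime_of_root_notMem R s n hn0 hn Q hx

end Reg

end Groth.Agent.Helper7.CCv
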