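import Mathlib
import Groth.Agent.Helper4.RegNormal
import Groth.Agent.Lead.RegLocal

/-!
# CCvC: a regular ring is integrally closed in its localization away from a regular element
-/

set_option autoImplicit false
universe u
open Polynomial

namespace Groth.Agent.Helper7.CCv

section Normal

variable (R : Type u) [CommRing R] (K' : Type u) [CommRing K'] [Algebra R K'] (f : R)
  [IsLocalization.Away f K']

/-- if all localizations of `R` at maximal ideals are integrally closed domains and `f` is a regular
element then `R` is integrally closed in `R[1/f]` -/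
theorem mem_range_of_isIntegral
    (h : ∀ (M : Ideal R) [M.IsMaximal], IsDomain (Localization.AtPrime M) ∧
      IsIntegrallyClosed (Localization.AtPrime M))
    (hf : IsSMulRegular R f) (x : K') (hx : IsIntegral R x) :
    x ∈ Set.range (algebraMap R K') := by
  classical
  let I : Ideal R :=
    { carrier := {r | ∃ y, algebraMap R K' y = algebraMap R K' r * x}
      add_mem' := by
        rintro a b ⟨ya, ha⟩ ⟨yb, hb⟩
        exact ⟨ya + yb, by rw [map_add, map_add, ha, hb, add_mul]⟩
      zero_mem' := ⟨0, by rw [map_zero, zero_mul]⟩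
      smul_mem' := by
        rintro c a ⟨ya, ha⟩
        exact ⟨c * ya, by rw [smul_eq_mul, map_mul, map_mul, ha, mul_assoc]⟩ }
  by_cases hI : I = ⊤
  · have h1 : (1 : R) ∈ I := by rw [hI]; trivial
    obtain ⟨y, hy⟩ := h1
    exact ⟨y, by rw [hy, map_one, one_mul]⟩
  exfalso
  obtain ⟨M, hM, hIM⟩ := Ideal.exists_le_maximal I hI
  obtain ⟨hdom, hic⟩ := h M
  set L := Localization.AtPrime M
  set F := FractionRing L
  have hfL : algebraMap R L f ≠ 0 := by
    intro h0
    rw [IsLocalization.map_eq_zero_iff M.primeCompl] at h0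
    obtain ⟨t, ht⟩ := h0
    have : (t : R) = 0 := by
      apply hf
      simp only [smul_eq_mul, mul_zero]
      rw [mul_comm]; exact ht
    exact t.2 (this ▸ M.zero_mem)
  have hfF : IsUnit (algebraMap R F f) := by
    rw [IsScalarTower.algebraMap_apply R L F]
    apply IsUnit.mk0
    intro h0
    exact hfL ((map_eq_zero_iff _ (IsFractionRing.injective L F)).1 h0)
  let ρ : K' →+* F := IsLocalization.Away.lift f hfF
  have hρ : ∀ a : R, ρ (algebraMap R K' a) = algebraMap R F a := fun a =>
    IsLocalization.Away.lift_eq f hfF a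
  -- `ρ x` is integral over `R`
  obtain ⟨p, hp, hpx⟩ := hx
  have hint : IsIntegral R (ρ x) := by
    refine ⟨p, hp, ?_⟩
    have h2 : (ρ.comp (algebraMap R K')) = algebraMap R F := RingHom.ext hρ
    rw [← h2, ← Polynomial.hom_eval₂, hpx, map_zero]
  have hintL : IsIntegral L (ρ x) := hint.tower_top
  obtain ⟨z, hz⟩ := (IsIntegrallyClosed.isIntegral_iff (R := L) (K := F)).1 hintL
  obtain ⟨⟨r, t⟩, rfl⟩ := IsLocalization.mk'_surjective M.primeCompl z
  obtain ⟨⟨y, ⟨_, ⟨m, rfl⟩⟩⟩, hxy⟩ := IsLocalization.mk'_surjective (Submonoid.powers f) x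
  -- equations in `K'` and `F`
  have hx1 : x * algebraMap R K' (f ^ m) = algebraMap R K' y := by
    rw [← hxy]
    exact IsLocalization.mk'_spec K' y ⟨f ^ m, (Submonoid.mem_powers_iff _ _).2 ⟨m, rfl⟩⟩
  have hF1 : ρ x * algebraMap R F (f ^ m) = algebraMap R F y := by
    rw [← hρ, ← map_mul, hx1, hρ]
  have hF2 : ρ x * algebraMap R F (t : R) = algebraMap R F r := by
    rw [← hz, IsScalarTower.algebraMap_apply R L F, IsScalarTower.algebraMap_apply R L F,
      ← map_mul, IsLocalization.mk'_spec]
  have hF3 : algebraMap R F (r * f ^ m) = algebraMap R F (y * t) := by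
    rw [map_mul, map_mul, ← hF2, ← hF1]
    ring
  have hL3 : algebraMap R L (r * f ^ m) = algebraMap R L (y * t) := by
    apply IsFractionRing.injective L F
    rw [← IsScalarTower.algebraMap_apply, ← IsScalarTower.algebraMap_apply]
    exact hF3
  obtain ⟨c, hc⟩ := (IsLocalization.eq_iff_exists M.primeCompl L).1 hL3
  have hmem : (c : R) * t ∈ I := by
    refine ⟨c * r, ?_⟩
    have hu : IsUnit (algebraMap R K' (f ^ m)) := by
      rw [map_pow]
      exact (IsLocalization.Away.algebraMap_isUnit f).pow m
    apply hu.mul_right_cancel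
    have : algebraMap R K' ((c : R) * t) * x * algebraMap R K' (f ^ m) =
        algebraMap R K' ((c : R) * t * y) := by
      rw [mul_assoc, hx1, ← map_mul]
    rw [this, ← map_mul]
    congr 1
    calc (c : R) * r * f ^ m = c * (r * f ^ m) := by ring
      _ = c * (y * t) := hc
      _ = c * t * y := by ring
  have hcM := hIM hmem
  rcases hM.isPrime.mem_or_mem hcM with h1 | h1
  · exact c.2 h1
  · exact t.2 h1

/-- a regular ring is integrally closed in its localization away from a regular element -/
theorem mem_range_of_isIntegral_of_isRegularRing [IsRegularRing R]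
    (hf : IsSMulRegular R f) (x : K') (hx : IsIntegral R x) :
    x ∈ Set.range (algebraMap R K') := by
  apply mem_range_of_isIntegral R K' f _ hf x hx
  intro M hM
  haveI : IsRegularLocalRing (Localization.AtPrime M) :=
    IsRegularRing.isRegularLocalRing_localization M
  exact ⟨Groth.Agent.Lead.RegLocal.isDomain_of_isRegularLocalRing _,
    Groth.Agent.Helper4.RegNormal.isIntegrallyClosed_of_isRegularLocalRing _⟩

end Normal

end Groth.Agent.Helper7.CCv
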