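import Mathlib
import Groth.Agent.Helper7.CCvB

/-!
# CCvD: the tower `B[W]/(W^g - u)[S]/(S^N' - W^{-a} f₁)` and its regularity
-/

set_option autoImplicit false
universe u
open Polynomial

namespace Groth.Agent.Helper7.CCv

theorem isRegularRing_of_subsingleton (R : Type u) [CommRing R] [Subsingleton R] :
    IsRegularRing R := by
  haveI : IsNoetherianRing R := inferInstance
  rw [isRegularRing_iff]
  intro p hp
  exact absurd (Subsingleton.elim p ⊤) hp.ne_top

theorem isRegularRing_quot_unit (R : Type u) [CommRing R] (v : R) (hv : IsUnit v) :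
    IsRegularRing (R ⧸ Ideal.span {v}) := by
  haveI : Subsingleton (R ⧸ Ideal.span {v}) :=
    Ideal.Quotient.subsingleton_iff.2 (Ideal.span_singleton_eq_top.2 hv)
  exact isRegularRing_of_subsingleton _

section Tower

variable {B : Type u} [CommRing B] (u : Bˣ) (f₁ : B) (g N' a : ℕ)

/-- first floor `B[W]/(W^g - u)` -/
abbrev B1 : Type u := AdjoinRoot (pol (u : B) g)

/-- the root `W` -/
noncomputable def W : B1 u g := AdjoinRoot.root _

/-- the inverse of `W` -/
noncomputable def Wi : B1 u g := W u g ^ (g - 1) * AdjoinRoot.of _ ((u⁻¹ : Bˣ) : B)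

theorem W_pow : W u g ^ g = AdjoinRoot.of _ (u : B) := root_pow (u : B) g

theorem W_mul_Wi (hg : 0 < g) : W u g * Wi u g = 1 := by
  unfold Wi
  obtain ⟨m, rfl⟩ : ∃ m, g = m + 1 := ⟨g - 1, by omega⟩
  rw [Nat.add_sub_cancel, ← mul_assoc, ← pow_succ', W_pow, ← map_mul, Units.mul_inv, map_one]

theorem isUnit_Wi (hg : 0 < g) : IsUnit (Wi u g) :=
  .of_mul_eq_one _ (by rw [mul_comm]; exact W_mul_Wi u g hg)

/-- the element `W^{-a} f₁` -/
noncomputable def fT : B1 u g := Wi u g ^ a * AdjoinRoot.of _ f₁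

/-- second floor -/
abbrev CC : Type u := AdjoinRoot (pol (fT u f₁ g a) N')

/-- the root `S` -/
noncomputable def SS : CC u f₁ g N' a := AdjoinRoot.root _

theorem SS_pow : SS u f₁ g N' a ^ N' = AdjoinRoot.of _ (fT u f₁ g a) := root_pow _ N'

theorem finite_B1 (hg : 0 < g) : Module.Finite B (B1 u g) := finite_adj _ g hg

theorem free_B1 (hg : 0 < g) : Module.Free B (B1 u g) := free_adj _ g hg

theorem finite_CC (hg : 0 < g) (hN' : 0 < N') : Module.Finite B (CC u f₁ g N' a) := by
  haveI := finite_B1 u g hg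
  haveI : Module.Finite (B1 u g) (CC u f₁ g N' a) := finite_adj _ N' hN'
  exact Module.Finite.trans (B1 u g) _

theorem free_CC (hg : 0 < g) (hN' : 0 < N') : Module.Free B (CC u f₁ g N' a) := by
  haveI := free_B1 u g hg
  haveI : Module.Free (B1 u g) (CC u f₁ g N' a) := free_adj _ N' hN'
  exact Module.Free.trans (R := B) (S := B1 u g)

theorem isRegularRing_B1 [IsRegularRing B] (hg : 0 < g) (hgu : IsUnit (g : B)) :
    IsRegularRing (B1 u g) :=
  isRegularRing_adjoinRoot B (u : B) g (u.isUnit.isSMulRegular B)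
    (isRegularRing_quot_unit B _ u.isUnit) hg hgu

theorem fT_isSMulRegular (hg : 0 < g) (hf : IsSMulRegular B f₁) :
    IsSMulRegular (B1 u g) (fT u f₁ g a) := by
  unfold fT
  exact (((isUnit_Wi u g hg).pow a).isSMulRegular (B1 u g)).mul (of_isSMulRegular _ g hg f₁ hf)

theorem span_fT (hg : 0 < g) :
    Ideal.span {fT u f₁ g a} = (Ideal.span {f₁}).map (AdjoinRoot.of (pol (u : B) g)) := by
  unfold fT
  rw [Ideal.map_span, Set.image_singleton]
  exact Ideal.span_singleton_mul_left_unit ((isUnit_Wi u g hg).pow a) _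

theorem isRegularRing_quot_fT (hg : 0 < g) (hgu : IsUnit (g : B))
    (hq : IsRegularRing (B ⧸ Ideal.span {f₁})) :
    IsRegularRing (B1 u g ⧸ Ideal.span {fT u f₁ g a}) := by
  have e1 : (B1 u g ⧸ Ideal.span {fT u f₁ g a}) ≃+*
      (B1 u g ⧸ (Ideal.span {f₁}).map (AdjoinRoot.of (pol (u : B) g))) :=
    Ideal.quotEquivOfEq (span_fT u f₁ g a hg)
  have e2 := (AdjoinRoot.quotEquivQuotMap (pol (u : B) g) (Ideal.span {f₁})).toRingEquiv
  have hmap : Polynomial.map (Ideal.Quotient.mk (Ideal.span {f₁})) (pol (u : B) g) =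
      pol (Ideal.Quotient.mk (Ideal.span {f₁}) (u : B)) g := by
    rw [pol, Polynomial.map_sub, Polynomial.map_pow, Polynomial.map_X, Polynomial.map_C]
  rw [hmap] at e2
  have hu' : IsUnit (Ideal.Quotient.mk (Ideal.span {f₁}) (u : B)) := u.isUnit.map _
  have h3 : IsRegularRing (AdjoinRoot (pol (Ideal.Quotient.mk (Ideal.span {f₁}) (u : B)) g)) :=
    isRegularRing_adjoinRoot (B ⧸ Ideal.span {f₁}) _ g (hu'.isSMulRegular _)
      (isRegularRing_quot_unit _ _ hu') hg (by
        have := hgu.map (Ideal.Quotient.mk (Ideal.span {f₁}))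
        rwa [map_natCast] at this)
  haveI h4 : IsRegularRing ((B ⧸ Ideal.span {f₁})[X] ⧸
      Ideal.span {pol (Ideal.Quotient.mk (Ideal.span {f₁}) (u : B)) g}) := h3
  exact IsRegularRing.of_ringEquiv (R := ((B ⧸ Ideal.span {f₁})[X] ⧸
      Ideal.span {pol (Ideal.Quotient.mk (Ideal.span {f₁}) (u : B)) g})) (e1.trans e2).symm

theorem isRegularRing_CC [IsRegularRing B] (hg : 0 < g) (hN' : 0 < N') (hgu : IsUnit (g : B))
    (hN'u : IsUnit (N' : B)) (hf : IsSMulRegular B f₁)
    (hq : IsRegularRing (B ⧸ Ideal.span {f₁})) :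
    IsRegularRing (CC u f₁ g N' a) := by
  haveI := isRegularRing_B1 u g hg hgu
  exact isRegularRing_adjoinRoot (B1 u g) (fT u f₁ g a) N' (fT_isSMulRegular u f₁ g a hg hf)
    (isRegularRing_quot_fT u f₁ g a hg hgu hq) hN' (by
      have := hN'u.map (algebraMap B (B1 u g))
      rwa [map_natCast] at this)

/-- `f₁` is a regular element of the tower -/
theorem f₁_isSMulRegular_CC (hg : 0 < g) (hN' : 0 < N') (hf : IsSMulRegular B f₁) :
    IsSMulRegular (CC u f₁ g N' a) (algebraMap B (CC u f₁ g N' a) f₁) := by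
  haveI := free_CC u f₁ g N' a hg hN'
  exact IsSMulRegular.of_flat (S := CC u f₁ g N' a) hf

end Tower

end Groth.Agent.Helper7.CCv
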