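import Mathlib
import Groth.Agent.Helper7.CCvD

/-!
# CCvE: identities in the tower and the map from `B[t]/(t^N - u f₁^α)`
-/

set_option autoImplicit false
universe u
open Polynomial

namespace Groth.Agent.Helper7.CCv

/-- ring homs out of `R[X]/(f)` agreeing on `R` and on the root are equal -/
theorem adj_ringHom_ext {R X : Type*} [CommRing R] [Semiring X] {f : R[X]}
    {h₁ h₂ : AdjoinRoot f →+* X} (hof : ∀ r : R, h₁ (AdjoinRoot.of f r) = h₂ (AdjoinRoot.of f r))
    (hroot : h₁ (AdjoinRoot.root f) = h₂ (AdjoinRoot.root f)) : h₁ = h₂ := by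
  apply Ideal.Quotient.ringHom_ext
  apply Polynomial.ringHom_ext
  · intro r
    exact hof r
  · exact hroot

section Ident

variable {B : Type u} [CommRing B] (u : Bˣ) (f₁ : B) (g N' a b α' N α : ℕ)

/-- the image of `W` in the second floor -/
noncomputable def om : CC u f₁ g N' a := AdjoinRoot.of _ (W u g)

/-- the image of `t` -/
noncomputable def tau : CC u f₁ g N' a := SS u f₁ g N' a ^ α' * om u f₁ g N' a ^ b

/-- `f₁` in the tower -/
noncomputable def FC : CC u f₁ g N' a := algebraMap B (CC u f₁ g N' a) f₁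

theorem FC_eq : FC u f₁ g N' a =
    AdjoinRoot.of (pol (fT u f₁ g a) N') (AdjoinRoot.of (pol (u : B) g) f₁) := rfl

theorem fT_pow_mul (hg : 0 < g) (k : ℕ) :
    fT u f₁ g a ^ k * W u g ^ (a * k) = AdjoinRoot.of _ f₁ ^ k := by
  have h1 : fT u f₁ g a ^ k * W u g ^ (a * k) =
      (W u g * Wi u g) ^ (a * k) * AdjoinRoot.of _ f₁ ^ k := by
    unfold fT
    ring
  rw [h1, W_mul_Wi u g hg, one_pow, one_mul]

theorem tau_pow_N' (hg : 0 < g) (hab : b * N' = 1 + a * α') :
    tau u f₁ g N' a b α' ^ N' = FC u f₁ g N' a ^ α' * om u f₁ g N' a := by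
  have h1 : tau u f₁ g N' a b α' ^ N' =
      (SS u f₁ g N' a ^ N') ^ α' * om u f₁ g N' a ^ (b * N') := by
    unfold tau
    ring
  rw [h1, SS_pow, hab, FC_eq, om, ← map_pow, ← map_pow, ← map_pow, ← map_mul, ← map_mul,
    ← fT_pow_mul u f₁ g a hg α']
  congr 1
  ring

theorem tau_pow_N (hg : 0 < g) (hab : b * N' = 1 + a * α') (hN : N = g * N')
    (hα : α = g * α') :
    tau u f₁ g N' a b α' ^ N = algebraMap B (CC u f₁ g N' a) ((u : B) * f₁ ^ α) := by
  have h1 : tau u f₁ g N' a b α' ^ N = (tau u f₁ g N' a b α' ^ N') ^ g := by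
    rw [hN, ← pow_mul, mul_comm]
  rw [h1, tau_pow_N' u f₁ g N' a b α' hg hab, mul_pow, ← pow_mul, om, ← map_pow, W_pow, map_mul,
    map_pow, hα, mul_comm α' g]
  rw [mul_comm]
  rfl

theorem SS_mul_tau_pow (hg : 0 < g) (hab : b * N' = 1 + a * α') :
    SS u f₁ g N' a * tau u f₁ g N' a b α' ^ a = FC u f₁ g N' a ^ b := by
  have h1 : SS u f₁ g N' a * tau u f₁ g N' a b α' ^ a =
      SS u f₁ g N' a ^ (1 + a * α') * om u f₁ g N' a ^ (a * b) := by
    unfold tau
    ring
  rw [h1, ← hab, mul_comm b N', pow_mul, SS_pow, FC_eq, om, ← map_pow, ← map_pow, ← map_pow,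
    ← map_mul, fT_pow_mul u f₁ g a hg b]

/-- the map `B[t]/(t^N - u f₁^α) → tower` -/
noncomputable def psi (hg : 0 < g) (hab : b * N' = 1 + a * α') (hN : N = g * N')
    (hα : α = g * α') :
    AdjoinRoot (pol ((u : B) * f₁ ^ α) N) →ₐ[B] CC u f₁ g N' a :=
  AdjoinRoot.liftAlgHom _ (Algebra.ofId B (CC u f₁ g N' a)) (tau u f₁ g N' a b α') (by
    show eval₂ _ _ ((X : B[X]) ^ N - C ((u : B) * f₁ ^ α)) = 0
    rw [eval₂_sub, eval₂_pow, eval₂_X, eval₂_C, tau_pow_N u f₁ g N' a b α' N α hg hab hN hα,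
      sub_eq_zero]
    rfl)

theorem psi_root (hg : 0 < g) (hab : b * N' = 1 + a * α') (hN : N = g * N')
    (hα : α = g * α') :
    psi u f₁ g N' a b α' N α hg hab hN hα (AdjoinRoot.root _) = tau u f₁ g N' a b α' := by
  unfold psi
  rw [AdjoinRoot.liftAlgHom_root]

end Ident

end Groth.Agent.Helper7.CCv
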