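import Mathlib
import Groth.Agent.Helper7.CCvE

/-!
# CCvF: the map from the tower to a `B`-algebra `K` containing `t` with `t^N = u f₁^α` and `f₁⁻¹`
-/

set_option autoImplicit false
universe u
open Polynomial

namespace Groth.Agent.Helper7.CCv

section KSide

variable {B : Type u} [CommRing B] (u : Bˣ) (f₁ : B) (g N' a b α' N α : ℕ)
  {K : Type u} [CommRing K] [Algebra B K] (t fi : K)

/-- the inverse of `t` -/
noncomputable def tiK : K := t ^ (N - 1) * algebraMap B K ((u⁻¹ : Bˣ) : B) * fi ^ α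

/-- `w = t^N' f₁^{-α'}` -/
noncomputable def wK : K := t ^ N' * fi ^ α'

/-- the inverse of `w` -/
noncomputable def wiK : K := tiK u N α t fi ^ N' * algebraMap B K f₁ ^ α'

/-- `s = t^{-a} f₁^b` -/
noncomputable def sK : K := tiK u N α t fi ^ a * algebraMap B K f₁ ^ b

variable (ht : t ^ N = algebraMap B K ((u : B) * f₁ ^ α)) (hfi : algebraMap B K f₁ * fi = 1)
  (hg : 0 < g) (hN' : 0 < N') (hab : b * N' = 1 + a * α') (hN : N = g * N') (hα : α = g * α')

include ht hfi hg hN' hN in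
theorem t_mul_tiK : t * tiK u N α t fi = 1 := by
  have hNpos : 0 < N := by rw [hN]; exact Nat.mul_pos hg hN'
  obtain ⟨m, rfl⟩ : ∃ m, N = m + 1 := ⟨N - 1, by omega⟩
  unfold tiK
  rw [Nat.add_sub_cancel]
  have h1 : t * (t ^ m * algebraMap B K ((u⁻¹ : Bˣ) : B) * fi ^ α) =
      t ^ (m + 1) * algebraMap B K ((u⁻¹ : Bˣ) : B) * fi ^ α := by ring
  rw [h1, ht, map_mul, map_pow]
  have h2 : algebraMap B K (u : B) * algebraMap B K f₁ ^ α * algebraMap B K ((u⁻¹ : Bˣ) : B) * fi ^ α =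
      (algebraMap B K (u : B) * algebraMap B K ((u⁻¹ : Bˣ) : B)) * (algebraMap B K f₁ * fi) ^ α := by
    ring
  rw [h2, hfi, one_pow, mul_one, ← map_mul, Units.mul_inv, map_one]

include ht hfi hg hN' hN in
theorem wK_mul_wiK : wK N' α' t fi * wiK u f₁ N' α' N α t fi = 1 := by
  unfold wK wiK
  have h1 : t ^ N' * fi ^ α' * (tiK u N α t fi ^ N' * algebraMap B K f₁ ^ α') =
      (t * tiK u N α t fi) ^ N' * (algebraMap B K f₁ * fi) ^ α' := by ring
  rw [h1, t_mul_tiK u f₁ g N' N α t fi ht hfi hg hN' hN, hfi, one_pow, one_pow, one_mul]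

include ht hfi hN hα in
theorem wK_pow : wK N' α' t fi ^ g = algebraMap B K (u : B) := by
  unfold wK
  have h1 : (t ^ N' * fi ^ α') ^ g = t ^ (g * N') * fi ^ (g * α') := by ring
  rw [h1, ← hN, ← hα, ht, map_mul, map_pow, mul_assoc, ← mul_pow, hfi, one_pow, mul_one]

/-- the map on the first floor -/
noncomputable def phi1 : B1 u g →ₐ[B] K :=
  AdjoinRoot.liftAlgHom _ (Algebra.ofId B K) (wK N' α' t fi) (by
    show eval₂ _ _ ((X : B[X]) ^ g - C (u : B)) = 0
    rw [eval₂_sub, eval₂_pow, eval₂_X, eval₂_C, wK_pow u f₁ g N' α' N α t fi ht hfi hN hα, sub_eq_zero]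
    rfl)

theorem phi1_W : phi1 u f₁ g N' α' N α t fi ht hfi hN hα (W u g) = wK N' α' t fi := by
  unfold phi1 W
  rw [AdjoinRoot.liftAlgHom_root]

theorem phi1_of (r : B) :
    phi1 u f₁ g N' α' N α t fi ht hfi hN hα (AdjoinRoot.of _ r) = algebraMap B K r := by
  unfold phi1
  rw [AdjoinRoot.liftAlgHom_of]
  rfl

include hg hN' in
theorem phi1_Wi : phi1 u f₁ g N' α' N α t fi ht hfi hN hα (Wi u g) = wiK u f₁ N' α' N α t fi := by
  have h1 : phi1 u f₁ g N' α' N α t fi ht hfi hN hα (Wi u g) * wK N' α' t fi = 1 := by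
    rw [← phi1_W u f₁ g N' α' N α t fi ht hfi hN hα, ← map_mul, mul_comm, W_mul_Wi u g hg, map_one]
  exact left_inv_eq_right_inv h1 (wK_mul_wiK u f₁ g N' α' N α t fi ht hfi hg hN' hN)

include hg hN' in
theorem phi1_fT : phi1 u f₁ g N' α' N α t fi ht hfi hN hα (fT u f₁ g a) =
    wiK u f₁ N' α' N α t fi ^ a * algebraMap B K f₁ := by
  unfold fT
  rw [map_mul, map_pow, phi1_Wi u f₁ g N' α' N α t fi ht hfi hg hN' hN hα, phi1_of]

include hab in
theorem sK_pow : sK u f₁ a b N α t fi ^ N' =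
    wiK u f₁ N' α' N α t fi ^ a * algebraMap B K f₁ := by
  unfold sK wiK
  have h1 : (tiK u N α t fi ^ a * algebraMap B K f₁ ^ b) ^ N' =
      tiK u N α t fi ^ (a * N') * algebraMap B K f₁ ^ (b * N') := by ring
  rw [h1, hab]
  ring

/-- the map from the tower to `K` -/
noncomputable def phi : CC u f₁ g N' a →ₐ[B] K :=
  AdjoinRoot.liftAlgHom _ (phi1 u f₁ g N' α' N α t fi ht hfi hN hα) (sK u f₁ a b N α t fi) (by
    show eval₂ _ _ ((X : (B1 u g)[X]) ^ N' - C (fT u f₁ g a)) = 0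
    rw [eval₂_sub, eval₂_pow, eval₂_X, eval₂_C, sub_eq_zero,
      sK_pow u f₁ N' a b α' N α t fi hab]
    exact (phi1_fT u f₁ g N' a α' N α t fi ht hfi hg hN' hN hα).symm)

theorem phi_SS : phi u f₁ g N' a b α' N α t fi ht hfi hg hN' hab hN hα (SS u f₁ g N' a) =
    sK u f₁ a b N α t fi := by
  unfold phi SS
  rw [AdjoinRoot.liftAlgHom_root]

theorem phi_of (x : B1 u g) :
    phi u f₁ g N' a b α' N α t fi ht hfi hg hN' hab hN hα (AdjoinRoot.of _ x) =
      phi1 u f₁ g N' α' N α t fi ht hfi hN hα x := by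
  unfold phi
  rw [AdjoinRoot.liftAlgHom_of]

theorem phi_om : phi u f₁ g N' a b α' N α t fi ht hfi hg hN' hab hN hα (om u f₁ g N' a) =
    wK N' α' t fi := by
  unfold om
  rw [phi_of, phi1_W]

include ht hfi hg hN' hab hN in
theorem sK_wK : sK u f₁ a b N α t fi ^ α' * wK N' α' t fi ^ b = t := by
  unfold sK wK
  have h1 : (tiK u N α t fi ^ a * algebraMap B K f₁ ^ b) ^ α' * (t ^ N' * fi ^ α') ^ b =
      t ^ (b * N') * tiK u N α t fi ^ (a * α') * (algebraMap B K f₁ * fi) ^ (b * α') := by ring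
  rw [h1, hab, hfi, one_pow, mul_one]
  have h2 : t ^ (1 + a * α') * tiK u N α t fi ^ (a * α') =
      t * (t * tiK u N α t fi) ^ (a * α') := by ring
  rw [h2, t_mul_tiK u f₁ g N' N α t fi ht hfi hg hN' hN, one_pow, mul_one]

include ht hfi hg hN' hN in
theorem sK_mul_t_pow : sK u f₁ a b N α t fi * t ^ a = algebraMap B K f₁ ^ b := by
  unfold sK
  have h1 : tiK u N α t fi ^ a * algebraMap B K f₁ ^ b * t ^ a =
      (t * tiK u N α t fi) ^ a * algebraMap B K f₁ ^ b := by ring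
  rw [h1, t_mul_tiK u f₁ g N' N α t fi ht hfi hg hN' hN, one_pow, one_mul]

theorem phi_tau : phi u f₁ g N' a b α' N α t fi ht hfi hg hN' hab hN hα (tau u f₁ g N' a b α') = t := by
  unfold tau
  rw [map_mul, map_pow, map_pow, phi_SS, phi_om]
  exact sK_wK u f₁ g N' a b α' N α t fi ht hfi hg hN' hab hN

end KSide

end Groth.Agent.Helper7.CCv
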