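import Mathlib
import Groth.Agent.Helper7.CCvF
import Groth.Agent.Helper7.CCvC

/-!
# CCvG: the tower embeds into `K = A'[1/f₁]` and is its own integral closure there
-/

set_option autoImplicit false
universe u
open Polynomial

namespace Groth.Agent.Helper7.CCv

section Emb

variable {B : Type u} [CommRing B] (u : Bˣ) (f₁ : B) (g N' a b α' N α : ℕ)
  {K : Type u} [CommRing K] [Algebra B K]
  [Algebra (AdjoinRoot (pol ((u : B) * f₁ ^ α) N)) K]
  [IsScalarTower B (AdjoinRoot (pol ((u : B) * f₁ ^ α) N)) K]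
  [IsLocalization.Away (algebraMap B (AdjoinRoot (pol ((u : B) * f₁ ^ α) N)) f₁) K]
  (fi : K) (hfi : algebraMap B K f₁ * fi = 1)
  (hg : 0 < g) (hN' : 0 < N') (hab : b * N' = 1 + a * α') (hN : N = g * N') (hα : α = g * α')

/-- the image of `t` in `K` -/
noncomputable def tK : K :=
  algebraMap (AdjoinRoot (pol ((u : B) * f₁ ^ α) N)) K (AdjoinRoot.root _)

omit [IsLocalization.Away (algebraMap B (AdjoinRoot (pol ((u : B) * f₁ ^ α) N)) f₁) K] in
theorem tK_pow : tK u f₁ N α (K := K) ^ N = algebraMap B K ((u : B) * f₁ ^ α) := by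
  unfold tK
  rw [← map_pow, root_pow, IsScalarTower.algebraMap_apply B (AdjoinRoot (pol ((u : B) * f₁ ^ α) N)) K]
  rfl

/-- the embedding of the tower -/
noncomputable def Phi : CC u f₁ g N' a →ₐ[B] K :=
  phi u f₁ g N' a b α' N α (tK u f₁ N α) fi (tK_pow u f₁ N α) hfi hg hN' hab hN hα

omit [IsLocalization.Away (algebraMap B (AdjoinRoot (pol ((u : B) * f₁ ^ α) N)) f₁) K] in
theorem Phi_psi (x : AdjoinRoot (pol ((u : B) * f₁ ^ α) N)) :
    Phi u f₁ g N' a b α' N α fi hfi hg hN' hab hN hα (psi u f₁ g N' a b α' N α hg hab hN hα x) =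
      algebraMap _ K x := by
  have h1 : (Phi u f₁ g N' a b α' N α fi hfi hg hN' hab hN hα).comp
      (psi u f₁ g N' a b α' N α hg hab hN hα) =
      IsScalarTower.toAlgHom B (AdjoinRoot (pol ((u : B) * f₁ ^ α) N)) K := by
    apply AdjoinRoot.algHom_ext
    rw [AlgHom.comp_apply, psi_root]
    exact phi_tau u f₁ g N' a b α' N α (tK u f₁ N α) fi (tK_pow u f₁ N α) hfi hg hN' hab hN hα
  exact congrArg (fun h => h x) h1

/-- the localisation of the tower -/
abbrev Cf : Type u := Localization.Away (FC u f₁ g N' a)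

/-- the inverse map `K → C[1/f₁]` -/
noncomputable def psiK : K →+* Cf u f₁ g N' a :=
  IsLocalization.Away.lift (algebraMap B (AdjoinRoot (pol ((u : B) * f₁ ^ α) N)) f₁)
    (g := (algebraMap (CC u f₁ g N' a) (Cf u f₁ g N' a)).comp
      (psi u f₁ g N' a b α' N α hg hab hN hα).toRingHom) (by
    show IsUnit (algebraMap (CC u f₁ g N' a) (Cf u f₁ g N' a)
      (psi u f₁ g N' a b α' N α hg hab hN hα (algebraMap B _ f₁)))
    rw [AlgHom.commutes]
    exact IsLocalization.Away.algebraMap_isUnit (FC u f₁ g N' a))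

omit [Algebra B K] [IsScalarTower B (AdjoinRoot (pol ((u : B) * f₁ ^ α) N)) K] in
theorem psiK_algebraMap (x : AdjoinRoot (pol ((u : B) * f₁ ^ α) N)) :
    psiK u f₁ g N' a b α' N α hg hab hN hα (algebraMap _ K x) =
      algebraMap (CC u f₁ g N' a) (Cf u f₁ g N' a) (psi u f₁ g N' a b α' N α hg hab hN hα x) := by
  unfold psiK
  rw [IsLocalization.Away.lift_eq]
  rfl

theorem psiK_algebraMap_B (r : B) :
    psiK u f₁ g N' a b α' N α hg hab hN hα (algebraMap B K r) =
      algebraMap (CC u f₁ g N' a) (Cf u f₁ g N' a) (algebraMap B _ r) := by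
  rw [IsScalarTower.algebraMap_apply B (AdjoinRoot (pol ((u : B) * f₁ ^ α) N)) K,
    psiK_algebraMap u f₁ g N' a b α' N α hg hab hN hα, AlgHom.commutes]

omit [Algebra B K] [IsScalarTower B (AdjoinRoot (pol ((u : B) * f₁ ^ α) N)) K] in
theorem psiK_tK : psiK (K := K) u f₁ g N' a b α' N α hg hab hN hα (tK u f₁ N α) =
    algebraMap (CC u f₁ g N' a) (Cf u f₁ g N' a) (tau u f₁ g N' a b α') := by
  unfold tK
  rw [psiK_algebraMap u f₁ g N' a b α' N α hg hab hN hα, psi_root]

include hfi in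
theorem psiK_wK : psiK u f₁ g N' a b α' N α hg hab hN hα (wK N' α' (tK u f₁ N α) fi) =
    algebraMap (CC u f₁ g N' a) (Cf u f₁ g N' a) (om u f₁ g N' a) := by
  have hu : IsUnit (algebraMap (CC u f₁ g N' a) (Cf u f₁ g N' a) (FC u f₁ g N' a) ^ α') :=
    (IsLocalization.Away.algebraMap_isUnit (FC u f₁ g N' a)).pow α'
  apply hu.mul_left_cancel
  have h1 : algebraMap B K f₁ ^ α' * wK N' α' (tK u f₁ N α) fi = tK u f₁ N α ^ N' := by
    unfold wK
    have : algebraMap B K f₁ ^ α' * (tK u f₁ N α ^ N' * fi ^ α') =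
        tK u f₁ N α ^ N' * (algebraMap B K f₁ * fi) ^ α' := by ring
    rw [this, hfi, one_pow, mul_one]
  have h2 : psiK u f₁ g N' a b α' N α hg hab hN hα (algebraMap B K f₁) =
      algebraMap (CC u f₁ g N' a) (Cf u f₁ g N' a) (FC u f₁ g N' a) :=
    psiK_algebraMap_B u f₁ g N' a b α' N α hg hab hN hα f₁
  calc algebraMap (CC u f₁ g N' a) (Cf u f₁ g N' a) (FC u f₁ g N' a) ^ α' *
        psiK u f₁ g N' a b α' N α hg hab hN hα (wK N' α' (tK u f₁ N α) fi)
      = psiK u f₁ g N' a b α' N α hg hab hN hα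
          (algebraMap B K f₁ ^ α' * wK N' α' (tK u f₁ N α) fi) := by
        rw [map_mul, map_pow, h2]
    _ = psiK u f₁ g N' a b α' N α hg hab hN hα (tK u f₁ N α ^ N') := by rw [h1]
    _ = algebraMap (CC u f₁ g N' a) (Cf u f₁ g N' a) (tau u f₁ g N' a b α' ^ N') := by
        rw [map_pow, psiK_tK u f₁ g N' a b α' N α hg hab hN hα, map_pow]
    _ = _ := by rw [tau_pow_N' u f₁ g N' a b α' hg hab, map_mul, map_pow]

include hfi hN' in
theorem psiK_sK : psiK u f₁ g N' a b α' N α hg hab hN hα (sK u f₁ a b N α (tK u f₁ N α) fi) =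
    algebraMap (CC u f₁ g N' a) (Cf u f₁ g N' a) (SS u f₁ g N' a) := by
  have htu : IsUnit (tK u f₁ N α (K := K)) :=
    .of_mul_eq_one _ (t_mul_tiK u f₁ g N' N α (tK u f₁ N α) fi (tK_pow u f₁ N α) hfi hg hN' hN)
  have hu : IsUnit (algebraMap (CC u f₁ g N' a) (Cf u f₁ g N' a) (tau u f₁ g N' a b α') ^ a) := by
    rw [← psiK_tK (K := K) u f₁ g N' a b α' N α hg hab hN hα]
    exact (htu.map _).pow a
  apply hu.mul_right_cancel
  have h2 : psiK u f₁ g N' a b α' N α hg hab hN hα (algebraMap B K f₁) =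
      algebraMap (CC u f₁ g N' a) (Cf u f₁ g N' a) (FC u f₁ g N' a) :=
    psiK_algebraMap_B u f₁ g N' a b α' N α hg hab hN hα f₁
  calc psiK u f₁ g N' a b α' N α hg hab hN hα (sK u f₁ a b N α (tK u f₁ N α) fi) *
        algebraMap (CC u f₁ g N' a) (Cf u f₁ g N' a) (tau u f₁ g N' a b α') ^ a
      = psiK u f₁ g N' a b α' N α hg hab hN hα
          (sK u f₁ a b N α (tK u f₁ N α) fi * tK u f₁ N α ^ a) := by
        rw [map_mul, map_pow, psiK_tK u f₁ g N' a b α' N α hg hab hN hα]
    _ = psiK u f₁ g N' a b α' N α hg hab hN hα (algebraMap B K f₁ ^ b) := by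
        rw [sK_mul_t_pow u f₁ g N' a b N α (tK u f₁ N α) fi (tK_pow u f₁ N α) hfi hg hN' hN]
    _ = algebraMap (CC u f₁ g N' a) (Cf u f₁ g N' a) (FC u f₁ g N' a ^ b) := by
        rw [map_pow, h2, map_pow]
    _ = algebraMap (CC u f₁ g N' a) (Cf u f₁ g N' a)
          (SS u f₁ g N' a * tau u f₁ g N' a b α' ^ a) := by
        rw [SS_mul_tau_pow u f₁ g N' a b α' hg hab]
    _ = _ := by rw [map_mul, map_pow]

include hfi hN' in
theorem psiK_Phi (c : CC u f₁ g N' a) :
    psiK u f₁ g N' a b α' N α hg hab hN hα (Phi u f₁ g N' a b α' N α fi hfi hg hN' hab hN hα c) =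
      algebraMap (CC u f₁ g N' a) (Cf u f₁ g N' a) c := by
  have h1 : (psiK u f₁ g N' a b α' N α hg hab hN hα).comp
      (Phi u f₁ g N' a b α' N α fi hfi hg hN' hab hN hα).toRingHom =
      algebraMap (CC u f₁ g N' a) (Cf u f₁ g N' a) := by
    apply adj_ringHom_ext
    · intro x
      have h2 : ((psiK u f₁ g N' a b α' N α hg hab hN hα).comp
          (Phi u f₁ g N' a b α' N α fi hfi hg hN' hab hN hα).toRingHom).comp (AdjoinRoot.of _) =
          (algebraMap (CC u f₁ g N' a) (Cf u f₁ g N' a)).comp (AdjoinRoot.of _) := by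
        apply adj_ringHom_ext
        · intro r
          show psiK u f₁ g N' a b α' N α hg hab hN hα
            (Phi u f₁ g N' a b α' N α fi hfi hg hN' hab hN hα (algebraMap B _ r)) = _
          rw [AlgHom.commutes, psiK_algebraMap_B]
          rfl
        · show psiK u f₁ g N' a b α' N α hg hab hN hα
            (Phi u f₁ g N' a b α' N α fi hfi hg hN' hab hN hα (om u f₁ g N' a)) = _
          unfold Phi
          rw [phi_om]
          exact psiK_wK u f₁ g N' a b α' N α fi hfi hg hab hN hα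
      exact congrArg (fun h => h x) h2
    · show psiK u f₁ g N' a b α' N α hg hab hN hα
        (Phi u f₁ g N' a b α' N α fi hfi hg hN' hab hN hα (SS u f₁ g N' a)) = _
      unfold Phi
      rw [phi_SS]
      exact psiK_sK u f₁ g N' a b α' N α fi hfi hg hN' hab hN hα
  exact congrArg (fun h => h c) h1

include hfi hN' in
theorem Phi_injective (hf : IsSMulRegular B f₁) :
    Function.Injective (Phi u f₁ g N' a b α' N α fi hfi hg hN' hab hN hα) := by
  have hinj : Function.Injective (algebraMap (CC u f₁ g N' a) (Cf u f₁ g N' a)) := by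
    apply IsLocalization.injective (Cf u f₁ g N' a) (M := Submonoid.powers (FC u f₁ g N' a))
    apply Submonoid.powers_le.2
    have hreg := f₁_isSMulRegular_CC u f₁ g N' a hg hN' hf
    rw [mem_nonZeroDivisors_iff_right]
    intro z hz
    apply hreg
    simp only [smul_eq_mul, mul_zero]
    rw [mul_comm]
    exact hz
  intro x y hxy
  apply hinj
  rw [← psiK_Phi u f₁ g N' a b α' N α fi hfi hg hN' hab hN hα,
    ← psiK_Phi u f₁ g N' a b α' N α fi hfi hg hN' hab hN hα, hxy]

end Emb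

end Groth.Agent.Helper7.CCv
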