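import Mathlib

/-!
# CCvH: arithmetic data for the cyclic cover
-/

set_option autoImplicit false

namespace Groth.Agent.Helper7.CCv

/-- for coprime `n, m` with `0 < n` there are `a b` with `b n = 1 + a m` -/
theorem exists_bezout_nat (n m : ℕ) (hn : 0 < n) (h : Nat.Coprime n m) :
    ∃ a b : ℕ, b * n = 1 + a * m := by
  rcases Nat.eq_zero_or_pos m with rfl | hm
  · rw [Nat.coprime_zero_right] at h
    subst h
    exact ⟨0, 1, by simp⟩
  · rcases Nat.lt_or_ge 1 m with h1 | h1
    · obtain ⟨b, hb⟩ := Nat.exists_mul_mod_eq_one_of_coprime h h1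
      refine ⟨n * b / m, b, ?_⟩
      have := Nat.div_add_mod (n * b) m
      rw [hb.2] at this
      calc b * n = n * b := mul_comm _ _
        _ = m * (n * b / m) + 1 := this.symm
        _ = 1 + n * b / m * m := by ring
    · have : m = 1 := by omega
      subst this
      exact ⟨n - 1, 1, by omega⟩

/-- the arithmetic data attached to `(N, α)` -/
theorem exists_data (N α : ℕ) (hN : 0 < N) :
    ∃ g N' α' a b : ℕ, 0 < g ∧ 0 < N' ∧ N = g * N' ∧ α = g * α' ∧ b * N' = 1 + a * α' := by
  have hg : 0 < Nat.gcd N α := Nat.gcd_pos_of_pos_left α hN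
  obtain ⟨N', hN'⟩ := Nat.gcd_dvd_left N α
  obtain ⟨α', hα'⟩ := Nat.gcd_dvd_right N α
  have hN'pos : 0 < N' := by
    rcases Nat.eq_zero_or_pos N' with h | h
    · rw [h, mul_zero] at hN'; omega
    · exact h
  have hcop : Nat.Coprime N' α' := by
    have h1 := Nat.coprime_div_gcd_div_gcd hg (m := N) (n := α)
    have h2 : N / Nat.gcd N α = N' := Nat.div_eq_of_eq_mul_right hg hN'
    have h3 : α / Nat.gcd N α = α' := Nat.div_eq_of_eq_mul_right hg hα'
    rwa [h2, h3] at h1
  obtain ⟨a, b, hab⟩ := exists_bezout_nat N' α' hN'pos hcop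
  exact ⟨Nat.gcd N α, N', α', a, b, hg, hN'pos, hN', hα', hab⟩

/-- the exponent inequality for monomials -/
theorem exponent_le (N α i c m : ℕ) (hN : 0 < N) (h : m * N ≤ i * α + c * N) :
    m ≤ i / N * α + c + i % N * α / N := by
  by_contra hcon
  push Not at hcon
  have h1 : (i / N * α + c + i % N * α / N + 1) * N ≤ m * N := Nat.mul_le_mul_right N hcon
  have h2 : i % N * α < N * (i % N * α / N + 1) := Nat.lt_mul_div_succ _ hN
  have h3 : i = N * (i / N) + i % N := (Nat.div_add_mod i N).symm
  have h4 : i * α = N * (i / N) * α + i % N * α := by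
    conv_lhs => rw [h3]
    ring
  nlinarith

end Groth.Agent.Helper7.CCv
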