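import Mathlib
import Groth.Agent.Helper7.CCvG
import Groth.Agent.Helper7.CCvH

/-!
# CCvI: monomials in the cyclic cover algebra; the tower lands in it
-/

set_option autoImplicit false
universe u
open Polynomial

namespace Groth.Agent.Helper7.CCv

/-- a ring hom out of `R[X]/(f)` lands in a subring if it does so on `R` and on the root -/
theorem adj_mem_of {R X : Type*} [CommRing R] [CommRing X] {f : R[X]} (h : AdjoinRoot f →+* X)
    (T : Subring X) (hof : ∀ r, h (AdjoinRoot.of f r) ∈ T) (hroot : h (AdjoinRoot.root f) ∈ T)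
    (x : AdjoinRoot f) : h x ∈ T := by
  induction x using AdjoinRoot.induction_on with
  | ih p =>
    induction p using Polynomial.induction_on with
    | C a => rw [AdjoinRoot.mk_C]; exact hof a
    | add p q hp hq => rw [map_add, map_add]; exact T.add_mem hp hq
    | monomial n a ih =>
      rw [pow_succ, ← mul_assoc, map_mul, map_mul, AdjoinRoot.mk_X]
      exact T.mul_mem ih hroot

section Mono

variable {B : Type u} [CommRing B] (u : Bˣ) (f₁ : B) (N α : ℕ) {K : Type u} [CommRing K] [Algebra B K]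
  (t fi : K) (ht : t ^ N = algebraMap B K ((u : B) * f₁ ^ α))
  (hfi : algebraMap B K f₁ * fi = 1) (hNpos : 0 < N)
  (A : Subalgebra B K) (hA : ∀ r : ℕ, r < N → t ^ r * fi ^ (r * α / N) ∈ A)

include ht hfi hNpos hA in
/-- monomials `t^i f₁^c f₁^{-m}` of non-negative valuation lie in `A` -/
theorem mono_mem (i c m : ℕ) (h : m * N ≤ i * α + c * N) :
    t ^ i * algebraMap B K f₁ ^ c * fi ^ m ∈ A := by
  have hle := exponent_le N α i c m hNpos h
  set q := i / N with hq
  set r := i % N with hr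
  set e := r * α / N with he
  obtain ⟨k, hk⟩ : ∃ k, k + m = q * α + c + e := ⟨q * α + c + e - m, by omega⟩
  have hF : algebraMap B K f₁ ^ (q * α + c) * fi ^ m = algebraMap B K f₁ ^ k * fi ^ e := by
    calc algebraMap B K f₁ ^ (q * α + c) * fi ^ m
        = algebraMap B K f₁ ^ (q * α + c) * fi ^ m * (algebraMap B K f₁ * fi) ^ e := by
          rw [hfi, one_pow, mul_one]
      _ = algebraMap B K f₁ ^ (q * α + c + e) * fi ^ m * fi ^ e := by ring
      _ = algebraMap B K f₁ ^ (k + m) * fi ^ m * fi ^ e := by rw [hk]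
      _ = algebraMap B K f₁ ^ k * (algebraMap B K f₁ * fi) ^ m * fi ^ e := by ring
      _ = algebraMap B K f₁ ^ k * fi ^ e := by rw [hfi, one_pow, mul_one]
  have key : t ^ i * algebraMap B K f₁ ^ c * fi ^ m =
      algebraMap B K ((u : B) ^ q) * algebraMap B K f₁ ^ k * (t ^ r * fi ^ e) := by
    calc t ^ i * algebraMap B K f₁ ^ c * fi ^ m
        = (t ^ N) ^ q * t ^ r * algebraMap B K f₁ ^ c * fi ^ m := by
          rw [← pow_mul, ← pow_add, hq, hr, Nat.div_add_mod]
      _ = algebraMap B K ((u : B) ^ q) * t ^ r *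
            (algebraMap B K f₁ ^ (q * α + c) * fi ^ m) := by
          rw [ht, map_mul, map_pow, map_pow]
          ring
      _ = algebraMap B K ((u : B) ^ q) * t ^ r * (algebraMap B K f₁ ^ k * fi ^ e) := by rw [hF]
      _ = _ := by ring
  rw [key]
  exact A.mul_mem (A.mul_mem (A.algebraMap_mem _) (pow_mem (A.algebraMap_mem f₁) k))
    (hA r (Nat.mod_lt i hNpos))

end Mono

section Range

variable {B : Type u} [CommRing B] (u : Bˣ) (f₁ : B) (g N' a b α' N α : ℕ)
  {K : Type u} [CommRing K] [Algebra B K] (t fi : K)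
  (ht : t ^ N = algebraMap B K ((u : B) * f₁ ^ α)) (hfi : algebraMap B K f₁ * fi = 1)
  (hg : 0 < g) (hN' : 0 < N') (hab : b * N' = 1 + a * α') (hN : N = g * N') (hα : α = g * α')
  (A : Subalgebra B K) (hA : ∀ r : ℕ, r < N → t ^ r * fi ^ (r * α / N) ∈ A)

include hA hg hN' hN hα ht hfi in
theorem wK_mem : wK N' α' t fi ∈ A := by
  have hNpos : 0 < N := by rw [hN]; exact Nat.mul_pos hg hN'
  have := mono_mem u f₁ N α t fi ht hfi hNpos A hA N' 0 α' (by
    rw [hN, hα]
    nlinarith)
  rwa [pow_zero, mul_one] at this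

include hA hg hN' hN hα hab ht hfi in
theorem sK_mem : sK u f₁ a b N α t fi ∈ A := by
  have hNpos : 0 < N := by rw [hN]; exact Nat.mul_pos hg hN'
  have h1 := mono_mem u f₁ N α t fi ht hfi hNpos A hA (a * (N - 1)) b (a * α) (by
    obtain ⟨M, rfl⟩ : ∃ M, N = M + 1 := ⟨N - 1, by omega⟩
    rw [Nat.add_sub_cancel]
    have h2 : b * (M + 1) = g + a * α := by
      rw [hN, hα]
      calc b * (g * N') = g * (b * N') := by ring
        _ = g * (1 + a * α') := by rw [hab]
        _ = g + a * (g * α') := by ring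
    nlinarith)
  have h2 : sK u f₁ a b N α t fi =
      algebraMap B K (((u⁻¹ : Bˣ) : B) ^ a) *
        (t ^ (a * (N - 1)) * algebraMap B K f₁ ^ b * fi ^ (a * α)) := by
    unfold sK tiK
    rw [map_pow]
    ring
  rw [h2]
  exact A.mul_mem (A.algebraMap_mem _) h1

include hA in
theorem phi_mem (c : CC u f₁ g N' a) :
    phi u f₁ g N' a b α' N α t fi ht hfi hg hN' hab hN hα c ∈ A := by
  have h1 : ∀ x : B1 u g, phi1 u f₁ g N' α' N α t fi ht hfi hN hα x ∈ A.toSubring := by
    intro x
    apply adj_mem_of (phi1 u f₁ g N' α' N α t fi ht hfi hN hα).toRingHom A.toSubring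
    · intro r
      show phi1 u f₁ g N' α' N α t fi ht hfi hN hα (AdjoinRoot.of _ r) ∈ A
      rw [phi1_of]
      exact A.algebraMap_mem r
    · show phi1 u f₁ g N' α' N α t fi ht hfi hN hα (W u g) ∈ A
      rw [phi1_W]
      exact wK_mem u f₁ g N' α' N α t fi ht hfi hg hN' hN hα A hA
  apply adj_mem_of (phi u f₁ g N' a b α' N α t fi ht hfi hg hN' hab hN hα).toRingHom A.toSubring
  · intro x
    show phi u f₁ g N' a b α' N α t fi ht hfi hg hN' hab hN hα (AdjoinRoot.of _ x) ∈ A
    rw [phi_of]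
    exact h1 x
  · show phi u f₁ g N' a b α' N α t fi ht hfi hg hN' hab hN hα (SS u f₁ g N' a) ∈ A
    rw [phi_SS]
    exact sK_mem u f₁ g N' a b α' N α t fi ht hfi hg hN' hab hN hα A hA

include ht hfi in
/-- the generators are integral over `B` -/
theorem gen_isIntegral (hNpos : 0 < N) (r : ℕ) : IsIntegral B (t ^ r * fi ^ (r * α / N)) := by
  apply IsIntegral.of_pow hNpos
  have hle : r * α / N * N ≤ r * α := Nat.div_mul_le_self _ _
  generalize r * α / N = e at hle ⊢
  obtain ⟨k, hk⟩ : ∃ k, k + e * N = r * α := ⟨r * α - e * N, by omega⟩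
  have h1 : (t ^ r * fi ^ e) ^ N = algebraMap B K ((u : B) ^ r * f₁ ^ k) := by
    calc (t ^ r * fi ^ e) ^ N = (t ^ N) ^ r * fi ^ (e * N) := by ring
      _ = algebraMap B K ((u : B) ^ r) * algebraMap B K f₁ ^ (r * α) * fi ^ (e * N) := by
          rw [ht, map_mul, map_pow, map_pow]
          ring
      _ = algebraMap B K ((u : B) ^ r) * algebraMap B K f₁ ^ k *
            (algebraMap B K f₁ * fi) ^ (e * N) := by
          rw [← hk]
          ring
      _ = _ := by rw [hfi, one_pow, mul_one, map_mul, map_pow (algebraMap B K) f₁]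
  rw [h1]
  exact isIntegral_algebraMap

end Range

end Groth.Agent.Helper7.CCv
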