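import Mathlib
import Groth.Agent.Helper7.CCvI

/-!
# CCvJ: the cyclic cover algebra is finite, integrally closed and regular
-/

set_option autoImplicit false
universe u
open Polynomial

namespace Groth.Agent.Helper7.CCv

section Main

variable {B : Type u} [CommRing B] (u : Bˣ) (f₁ : B) (g N' a b α' N α : ℕ)
  {K : Type u} [CommRing K] [Algebra B K]
  [Algebra (AdjoinRoot (pol ((u : B) * f₁ ^ α) N)) K]
  [IsScalarTower B (AdjoinRoot (pol ((u : B) * f₁ ^ α) N)) K]
  [IsLocalization.Away (algebraMap B (AdjoinRoot (pol ((u : B) * f₁ ^ α) N)) f₁) K]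
  (fi : K) (hfi : algebraMap B K f₁ * fi = 1)
  (hg : 0 < g) (hN' : 0 < N') (hab : b * N' = 1 + a * α') (hN : N = g * N') (hα : α = g * α')

include hfi hN' in
/-- `K` is the localisation of the tower away from `f₁` -/
theorem isLocalization_Phi (hf : IsSMulRegular B f₁) :
    letI : Algebra (CC u f₁ g N' a) K :=
      (Phi u f₁ g N' a b α' N α fi hfi hg hN' hab hN hα).toRingHom.toAlgebra
    IsLocalization.Away (FC u f₁ g N' a) K := by
  letI : Algebra (CC u f₁ g N' a) K :=
    (Phi u f₁ g N' a b α' N α fi hfi hg hN' hab hN hα).toRingHom.toAlgebra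
  have hFC : algebraMap (CC u f₁ g N' a) K (FC u f₁ g N' a) = algebraMap B K f₁ :=
    (Phi u f₁ g N' a b α' N α fi hfi hg hN' hab hN hα).commutes f₁
  rw [IsLocalization.Away, isLocalization_iff]
  refine ⟨?_, ?_, ?_⟩
  · rintro ⟨_, n, rfl⟩
    show IsUnit (algebraMap (CC u f₁ g N' a) K (FC u f₁ g N' a ^ n))
    rw [map_pow, hFC]
    exact (IsUnit.of_mul_eq_one _ hfi).pow n
  · intro z
    obtain ⟨n, x, hx⟩ := IsLocalization.Away.surj
      (algebraMap B (AdjoinRoot (pol ((u : B) * f₁ ^ α) N)) f₁) z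
    refine ⟨⟨psi u f₁ g N' a b α' N α hg hab hN hα x,
      ⟨FC u f₁ g N' a ^ n, ⟨n, rfl⟩⟩⟩, ?_⟩
    show z * algebraMap (CC u f₁ g N' a) K (FC u f₁ g N' a ^ n) =
      Phi u f₁ g N' a b α' N α fi hfi hg hN' hab hN hα (psi u f₁ g N' a b α' N α hg hab hN hα x)
    rw [Phi_psi, ← hx, map_pow, hFC,
      IsScalarTower.algebraMap_apply B (AdjoinRoot (pol ((u : B) * f₁ ^ α) N)) K]
  · intro x y hxy
    exact ⟨1, by
      rw [Phi_injective u f₁ g N' a b α' N α fi hfi hg hN' hab hN hα hf hxy]⟩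

include hfi hN' in
/-- elements of `K` integral over `B` come from the tower -/
theorem mem_range_Phi [IsRegularRing B] (hgu : IsUnit (g : B)) (hN'u : IsUnit (N' : B))
    (hf : IsSMulRegular B f₁) (hq : IsRegularRing (B ⧸ Ideal.span {f₁}))
    (x : K) (hx : IsIntegral B x) :
    x ∈ Set.range (Phi u f₁ g N' a b α' N α fi hfi hg hN' hab hN hα) := by
  letI : Algebra (CC u f₁ g N' a) K :=
    (Phi u f₁ g N' a b α' N α fi hfi hg hN' hab hN hα).toRingHom.toAlgebra
  haveI : IsScalarTower B (CC u f₁ g N' a) K := IsScalarTower.of_algebraMap_eq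
    (fun r => ((Phi u f₁ g N' a b α' N α fi hfi hg hN' hab hN hα).commutes r).symm)
  haveI := isLocalization_Phi u f₁ g N' a b α' N α fi hfi hg hN' hab hN hα hf
  haveI := isRegularRing_CC u f₁ g N' a hg hN' hgu hN'u hf hq
  exact mem_range_of_isIntegral_of_isRegularRing (CC u f₁ g N' a) K (FC u f₁ g N' a)
    (f₁_isSMulRegular_CC u f₁ g N' a hg hN' hf) x hx.tower_top

end Main

end Groth.Agent.Helper7.CCv
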