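import Mathlib
import Groth.Agent.Helper7.CCvJ

/-!
# CCvK: main theorem on the cyclic cover algebra
-/

set_option autoImplicit false
universe u
open Polynomial

namespace Groth.Agent.Helper7.CCv

/-- Let `B` be a regular ring, `u` a unit, `f₁` a regular element with `B/f₁` regular, `N > 0`
invertible in `B`.  With `A' = B[t]/(t^N - u f₁^α)` and `K = A'[1/f₁]`, the `B`-subalgebra `A` of `K`
generated by `t^i f₁^{-⌊iα/N⌋}` is finite over `B`, is the integral closure of `A'` in `K`, and is a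
regular ring. -/
theorem main {B : Type u} [CommRing B] [IsRegularRing B] (u : Bˣ) (f₁ : B)
    (hf : IsSMulRegular B f₁) (hq : IsRegularRing (B ⧸ Ideal.span {f₁}))
    (N α : ℕ) (hNpos : 0 < N) (hNu : IsUnit (N : B))
    {K : Type u} [CommRing K] [Algebra B K]
    [Algebra (AdjoinRoot (pol ((u : B) * f₁ ^ α) N)) K]
    [IsScalarTower B (AdjoinRoot (pol ((u : B) * f₁ ^ α) N)) K]
    [IsLocalization.Away (algebraMap B (AdjoinRoot (pol ((u : B) * f₁ ^ α) N)) f₁) K]
    (fi : K) (hfi : algebraMap B K f₁ * fi = 1) (A : Subalgebra B K)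
    (hA : A = Algebra.adjoin B (Set.range fun i : Fin N =>
      algebraMap (AdjoinRoot (pol ((u : B) * f₁ ^ α) N)) K (AdjoinRoot.root _ ^ (i : ℕ)) *
        fi ^ ((i : ℕ) * α / N))) :
    Module.Finite B A ∧ IsIntegralClosure A (AdjoinRoot (pol ((u : B) * f₁ ^ α) N)) K ∧
      IsRegularRing A := by
  obtain ⟨g, N', α', a, b, hg, hN', hN, hα, hab⟩ := exists_data N α hNpos
  have hcast : (N : B) = (g : B) * (N' : B) := by rw [hN, Nat.cast_mul]
  rw [hcast] at hNu
  have hgu : IsUnit (g : B) := isUnit_of_mul_isUnit_left hNu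
  have hN'u : IsUnit (N' : B) := isUnit_of_mul_isUnit_right hNu
  have hinj := Phi_injective u f₁ g N' a b α' N α fi hfi hg hN' hab hN hα hf
  have hgen : ∀ r, r < N → tK u f₁ N α ^ r * fi ^ (r * α / N) ∈ A := by
    intro r hr
    rw [hA]
    apply Algebra.subset_adjoin
    refine ⟨⟨r, hr⟩, ?_⟩
    simp only [map_pow]
    rfl
  have h1 : ∀ c, Phi u f₁ g N' a b α' N α fi hfi hg hN' hab hN hα c ∈ A := fun c =>
    phi_mem u f₁ g N' a b α' N α (tK u f₁ N α) fi (tK_pow u f₁ N α) hfi hg hN' hab hN hα A hgen c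
  have h2 : ∀ x : K, IsIntegral B x →
      x ∈ Set.range (Phi u f₁ g N' a b α' N α fi hfi hg hN' hab hN hα) :=
    mem_range_Phi u f₁ g N' a b α' N α fi hfi hg hN' hab hN hα hgu hN'u hf hq
  have h3 : A = (Phi u f₁ g N' a b α' N α fi hfi hg hN' hab hN hα).range := by
    apply le_antisymm
    · rw [hA]
      apply Algebra.adjoin_le
      rintro _ ⟨i, rfl⟩
      apply h2
      beta_reduce
      rw [map_pow]
      exact gen_isIntegral u f₁ N α _ fi (tK_pow u f₁ N α) hfi hNpos i
    · rintro _ ⟨c, rfl⟩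
      exact h1 c
  let e : CC u f₁ g N' a ≃ₐ[B] A :=
    (AlgEquiv.ofInjective _ hinj).trans (Subalgebra.equivOfEq _ _ h3.symm)
  haveI hfinC := finite_CC u f₁ g N' a hg hN'
  haveI hregC := isRegularRing_CC u f₁ g N' a hg hN' hgu hN'u hf hq
  refine ⟨Module.Finite.equiv e.toLinearEquiv, ?_, IsRegularRing.of_ringEquiv e.toRingEquiv⟩
  haveI : Module.Finite B (AdjoinRoot (pol ((u : B) * f₁ ^ α) N)) := finite_adj _ N hNpos
  haveI : Algebra.IsIntegral B (AdjoinRoot (pol ((u : B) * f₁ ^ α) N)) :=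
    Algebra.IsIntegral.of_finite B _
  haveI : Algebra.IsIntegral B (CC u f₁ g N' a) := Algebra.IsIntegral.of_finite B _
  refine ⟨Subtype.val_injective, ?_⟩
  intro x
  constructor
  · intro hx
    have hxB : IsIntegral B x := isIntegral_trans x hx
    have hxA : x ∈ A := by
      rw [h3]
      exact h2 x hxB
    exact ⟨⟨x, hxA⟩, rfl⟩
  · rintro ⟨y, rfl⟩
    have hy : (y : K) ∈ (Phi u f₁ g N' a b α' N α fi hfi hg hN' hab hN hα).range := h3 ▸ y.2
    obtain ⟨c, hc⟩ := (AlgHom.mem_range _).1 hy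
    have hi : IsIntegral B (Phi u f₁ g N' a b α' N α fi hfi hg hN' hab hN hα c) :=
      (Algebra.IsIntegral.isIntegral c).map _
    rw [hc] at hi
    exact hi.tower_top

end Groth.Agent.Helper7.CCv
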