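import Mathlib

set_option autoImplicit false

/-!
# Dimension shifting for `Ext` along short exact sequences, as additive isomorphisms
-/

namespace Groth.Agent.Helper7.ExtDu

open CategoryTheory Abelian

universe w v u

section Coker

/-- comparing cokernels -/
theorem nonempty_coker_equiv {A B C A' B' C' : Type*} [AddCommGroup A] [AddCommGroup B]
    [AddCommGroup C] [AddCommGroup A'] [AddCommGroup B'] [AddCommGroup C']
    (f : A →+ B) (g : B →+ C) (f' : A' →+ B') (g' : B' →+ C')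
    (hg : Function.Surjective g) (hg' : Function.Surjective g')
    (hex : ∀ b, g b = 0 ↔ b ∈ f.range) (hex' : ∀ b', g' b' = 0 ↔ b' ∈ f'.range)
    (β : B ≃+ B') (hβ : ∀ b, b ∈ f.range ↔ β b ∈ f'.range) : Nonempty (C ≃+ C') := by
  have e1 : B ⧸ g.ker ≃+ C := QuotientAddGroup.quotientKerEquivOfSurjective g hg
  have e2 : B' ⧸ g'.ker ≃+ C' := QuotientAddGroup.quotientKerEquivOfSurjective g' hg'
  have hk : AddSubgroup.map (β : B →+ B') g.ker = g'.ker := by
    ext b'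
    rw [AddSubgroup.mem_map, AddMonoidHom.mem_ker]
    constructor
    · rintro ⟨b, hb, rfl⟩
      rw [AddMonoidHom.mem_ker] at hb
      exact (hex' _).2 ((hβ b).1 ((hex b).1 hb))
    · intro hb'
      refine ⟨β.symm b', ?_, by simp⟩
      rw [AddMonoidHom.mem_ker, hex, hβ, AddEquiv.apply_symm_apply]
      exact (hex' b').1 hb'
  have e3 : B ⧸ g.ker ≃+ B' ⧸ g'.ker := QuotientAddGroup.congr g.ker g'.ker β hk
  exact ⟨e1.symm.trans (e3.trans e2)⟩

end Coker

variable {C : Type u} [Category.{v} C] [Abelian C] [HasExt.{w} C]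

/-- contravariant dimension shift -/
theorem bijective_extClass_precomp {S : ShortComplex C} (hS : S.ShortExact) (Y : C) (i : ℕ)
    (h1 : Subsingleton (Ext.{w} S.X₂ Y i)) (h2 : Subsingleton (Ext.{w} S.X₂ Y (i + 1))) :
    Function.Bijective (hS.extClass.precomp Y (add_comm 1 i)) := by
  constructor
  · rw [injective_iff_map_eq_zero]
    intro x₁ hx₁
    obtain ⟨x₂, rfl⟩ := Ext.contravariant_sequence_exact₁ hS Y x₁ (add_comm 1 i) hx₁
    rw [Subsingleton.elim x₂ 0, Ext.comp_zero]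
  · intro x₃
    obtain ⟨x₁, hx₁⟩ := Ext.contravariant_sequence_exact₃ hS Y x₃
      (Subsingleton.elim _ _) (add_comm 1 i)
    exact ⟨x₁, hx₁⟩

/-- covariant dimension shift -/
theorem bijective_extClass_postcomp {S : ShortComplex C} (hS : S.ShortExact) (X : C) (i : ℕ)
    (h1 : Subsingleton (Ext.{w} X S.X₂ i)) (h2 : Subsingleton (Ext.{w} X S.X₂ (i + 1))) :
    Function.Bijective (hS.extClass.postcomp X (rfl : i + 1 = i + 1)) := by
  constructor
  · rw [injective_iff_map_eq_zero]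
    intro x₃ hx₃
    obtain ⟨x₂, rfl⟩ := Ext.covariant_sequence_exact₃ X hS x₃ rfl hx₃
    rw [Subsingleton.elim x₂ 0, Ext.zero_comp]
  · intro x₁
    obtain ⟨x₃, hx₃⟩ := Ext.covariant_sequence_exact₁ X hS x₁ (Subsingleton.elim _ _) rfl
    exact ⟨x₃, hx₃⟩

/-- contravariant: `Ext⁰(X₂,Y) → Ext⁰(X₁,Y) → Ext¹(X₃,Y) → 0` -/
theorem contravariant_coker {S : ShortComplex C} (hS : S.ShortExact) (Y : C)
    (h2 : Subsingleton (Ext.{w} S.X₂ Y 1)) :
    Function.Surjective (hS.extClass.precomp Y (add_zero 1)) ∧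
      ∀ x₁ : Ext.{w} S.X₁ Y 0, hS.extClass.precomp Y (add_zero 1) x₁ = 0 ↔
        x₁ ∈ ((Ext.mk₀ S.f).precomp Y (zero_add 0)).range := by
  constructor
  · intro x₃
    obtain ⟨x₁, hx₁⟩ := Ext.contravariant_sequence_exact₃ hS Y x₃
      (Subsingleton.elim _ _) (add_zero 1)
    exact ⟨x₁, hx₁⟩
  · intro x₁
    constructor
    · intro hx₁
      obtain ⟨x₂, hx₂⟩ := Ext.contravariant_sequence_exact₁ hS Y x₁ (add_zero 1) hx₁
      exact ⟨x₂, hx₂⟩
    · rintro ⟨x₂, rfl⟩
      exact hS.extClass_comp_assoc x₂ (h := add_zero 1)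

/-- covariant: `Ext⁰(X,X₂) → Ext⁰(X,X₃) → Ext¹(X,X₁) → 0` -/
theorem covariant_coker {S : ShortComplex C} (hS : S.ShortExact) (X : C)
    (h2 : Subsingleton (Ext.{w} X S.X₂ 1)) :
    Function.Surjective (hS.extClass.postcomp X (zero_add 1)) ∧
      ∀ x₃ : Ext.{w} X S.X₃ 0, hS.extClass.postcomp X (zero_add 1) x₃ = 0 ↔
        x₃ ∈ ((Ext.mk₀ S.g).postcomp X (add_zero 0)).range := by
  constructor
  · intro x₁
    obtain ⟨x₃, hx₃⟩ := Ext.covariant_sequence_exact₁ X hS x₁ (Subsingleton.elim _ _)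
      (zero_add 1)
    exact ⟨x₃, hx₃⟩
  · intro x₃
    constructor
    · intro hx₃
      obtain ⟨x₂, hx₂⟩ := Ext.covariant_sequence_exact₃ X hS x₃ (zero_add 1) hx₃
      exact ⟨x₂, hx₂⟩
    · rintro ⟨x₂, rfl⟩
      show (x₂.comp (Ext.mk₀ S.g) (add_zero 0)).comp hS.extClass (zero_add 1) = 0
      rw [Ext.comp_assoc x₂ (Ext.mk₀ S.g) hS.extClass (add_zero 0) (zero_add 1)
        (by omega : 0 + 0 + 1 = 1), hS.comp_extClass, Ext.comp_zero]

end Groth.Agent.Helper7.ExtDu
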