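import Mathlib
import Groth.Agent.Helper7.ExtDuA

set_option autoImplicit false

/-!
# A length formula for `Ext¹(M, N)` when `M` contains a free cyclic submodule `R e` with
`x M ⊆ R e` and `x` is `N`-regular.

`ℓ(Ext¹(M,N)) + ℓ(N / {φ e}) = ℓ(Hom(M/Re, N/xN))`.
-/

namespace Groth.Agent.Helper7.MonExt

open CategoryTheory Abelian Function
open Groth.Agent.Helper7.ExtDu

universe u

variable {R : Type u} [CommRing R]

/-- `Ext⁰` as linear maps -/
noncomputable def ext0Equiv (X Y : ModuleCat.{u} R) : Ext X Y 0 ≃ₗ[R] (X →ₗ[R] Y) :=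
  (Ext.linearEquiv₀ (R := R)).trans (ModuleCat.homLinearEquiv (S := R))

theorem ext0Equiv_apply {X Y : ModuleCat.{u} R} (a : Ext X Y 0) :
    ext0Equiv X Y a = (Ext.addEquiv₀ a).hom := rfl

theorem ext0Equiv_mk₀ {X Y : ModuleCat.{u} R} (f : X ⟶ Y) :
    ext0Equiv X Y (Ext.mk₀ f) = f.hom := by
  rw [ext0Equiv_apply]
  congr 1
  exact Ext.addEquiv₀.apply_symm_apply f

section Main

variable (M N : Type u) [AddCommGroup M] [Module R M] [AddCommGroup N] [Module R N]
  (e : M) (x : R)

/-- the first short complex `R → M → M / R e` -/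
noncomputable def sc1 : ShortComplex (ModuleCat.{u} R) :=
  ShortComplex.mk (ModuleCat.ofHom (LinearMap.toSpanSingleton R M e))
    (ModuleCat.ofHom (Submodule.mkQ (Submodule.span R {e}))) (by
      apply ModuleCat.hom_ext
      apply LinearMap.ext
      intro r
      show Submodule.mkQ _ (LinearMap.toSpanSingleton R M e r) = 0
      rw [Submodule.mkQ_apply, Submodule.Quotient.mk_eq_zero, LinearMap.toSpanSingleton_apply]
      exact Submodule.smul_mem _ _ (Submodule.mem_span_singleton_self e))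

theorem sc1_shortExact (he : Injective (fun r : R => r • e)) : (sc1 (R := R) M e).ShortExact := by
  refine ShortComplex.ShortExact.mk' ?_ ?_ ?_
  · rw [ShortComplex.ShortExact.moduleCat_exact_iff_function_exact]
    intro (y : M)
    show Submodule.mkQ (Submodule.span R {e}) y = 0 ↔ _
    rw [Submodule.mkQ_apply, Submodule.Quotient.mk_eq_zero, Submodule.mem_span_singleton]
    constructor
    · rintro ⟨r, hr⟩
      exact ⟨r, hr⟩
    · rintro ⟨r, hr⟩
      exact ⟨r, hr⟩
  · exact (ModuleCat.mono_iff_injective _).mpr he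
  · exact (ModuleCat.epi_iff_surjective _).mpr (Submodule.mkQ_surjective _)

/-- the second short complex `N →x N → N / xN` -/
noncomputable def sc2 : ShortComplex (ModuleCat.{u} R) :=
  ShortComplex.mk (ModuleCat.ofHom (LinearMap.lsmul R N x))
    (ModuleCat.ofHom (Submodule.mkQ (LinearMap.range (LinearMap.lsmul R N x)))) (by
      apply ModuleCat.hom_ext
      apply LinearMap.ext
      intro n
      show Submodule.mkQ _ (LinearMap.lsmul R N x n) = 0
      rw [Submodule.mkQ_apply, Submodule.Quotient.mk_eq_zero]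
      exact LinearMap.mem_range_self _ n)

theorem sc2_shortExact (hxN : ∀ n : N, x • n = 0 → n = 0) : (sc2 (R := R) N x).ShortExact := by
  refine ShortComplex.ShortExact.mk' ?_ ?_ ?_
  · rw [ShortComplex.ShortExact.moduleCat_exact_iff_function_exact]
    intro (y : N)
    show Submodule.mkQ (LinearMap.range (LinearMap.lsmul R N x)) y = 0 ↔ _
    rw [Submodule.mkQ_apply, Submodule.Quotient.mk_eq_zero]
    rfl
  · refine (ModuleCat.mono_iff_injective _).mpr ?_
    intro (a : N) (b : N) hab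
    have h : x • (a - b) = 0 := by
      rw [smul_sub, sub_eq_zero]
      exact hab
    exact sub_eq_zero.1 (hxN _ h)
  · exact (ModuleCat.epi_iff_surjective _).mpr (Submodule.mkQ_surjective _)

/-- `Hom(Q, N/xN) ≃ Ext¹(Q, N)` when `x` kills `Q` and is `N`-regular -/
theorem nonempty_hom_equiv_ext (Q : Type u) [AddCommGroup Q] [Module R Q]
    (hxQ : ∀ q : Q, x • q = 0) (hxN : ∀ n : N, x • n = 0 → n = 0) :
    Nonempty ((Q →ₗ[R] (N ⧸ LinearMap.range (LinearMap.lsmul R N x))) ≃ₗ[R]
      Ext (ModuleCat.of R Q) (ModuleCat.of R N) 1) := by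
  have hS := sc2_shortExact (R := R) N x hxN
  let δ : Ext (ModuleCat.of R Q) (sc2 (R := R) N x).X₃ 0 →ₗ[R]
      Ext (ModuleCat.of R Q) (sc2 (R := R) N x).X₁ 1 :=
    hS.extClass.postcompOfLinear R (ModuleCat.of R Q) (zero_add 1)
  have hinj : Injective δ := by
    rw [injective_iff_map_eq_zero]
    intro x₃ hx₃
    obtain ⟨x₂, rfl⟩ := Ext.covariant_sequence_exact₃ _ hS x₃ (zero_add 1) hx₃
    have h0' : ∀ y₂ : Ext (ModuleCat.of R Q) (ModuleCat.of R N) 0, y₂ = 0 := by
      intro y₂
      apply (ext0Equiv (ModuleCat.of R Q) (ModuleCat.of R N)).injective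
      rw [map_zero]
      let φ : Q →ₗ[R] N := ext0Equiv (ModuleCat.of R Q) (ModuleCat.of R N) y₂
      show φ = 0
      apply LinearMap.ext
      intro q
      apply hxN
      have h1 : x • φ q = φ (x • q) := (φ.map_smul x q).symm
      rw [h1, hxQ q, map_zero]
    have h0 : x₂ = 0 := h0' x₂
    rw [h0, Ext.zero_comp]
  have hsurj : Surjective δ := by
    intro x₁
    have key : ∀ (y₁ : Ext (ModuleCat.of R Q) (ModuleCat.of R N) 1),
        y₁.comp (Ext.mk₀ (x • 𝟙 (ModuleCat.of R N))) (add_zero 1) = 0 := by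
      intro y₁
      rw [← Ext.smul_eq_comp_mk₀]
      have h1 : x • y₁ = (Ext.mk₀ (x • 𝟙 (ModuleCat.of R Q))).comp y₁ (zero_add 1) := by
        rw [Ext.mk₀_smul, Ext.smul_comp, Ext.mk₀_id_comp]
      rw [h1]
      have h2 : x • 𝟙 (ModuleCat.of R Q) = 0 := by
        apply ModuleCat.hom_ext
        apply LinearMap.ext
        intro q
        exact hxQ q
      rw [h2, Ext.mk₀_zero, Ext.zero_comp]
    have h0 : x₁.comp (Ext.mk₀ (sc2 (R := R) N x).f) (add_zero 1) = 0 := key x₁
    obtain ⟨x₃, hx₃⟩ := Ext.covariant_sequence_exact₁ _ hS x₁ h0 (zero_add 1)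
    exact ⟨x₃, hx₃⟩
  exact ⟨(ext0Equiv (ModuleCat.of R Q) (sc2 (R := R) N x).X₃).symm.trans
    (LinearEquiv.ofBijective δ ⟨hinj, hsurj⟩)⟩

/-- the submodule of values `φ e` of homomorphisms `φ : M → N` -/
def evalRange : Submodule R N :=
  LinearMap.range (LinearMap.applyₗ e : (M →ₗ[R] N) →ₗ[R] N)

theorem mem_evalRange {n : N} : n ∈ evalRange (R := R) M N e ↔ ∃ φ : M →ₗ[R] N, φ e = n :=
  Iff.rfl

/-- `ℓ Ext¹(M/Re, N) = ℓ(N/evalRange) + ℓ Ext¹(M, N)` -/
theorem length_ext_quot (he : Injective (fun r : R => r • e)) :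
    Module.length R (Ext (ModuleCat.of R (M ⧸ Submodule.span R {e})) (ModuleCat.of R N) 1) =
      Module.length R (N ⧸ evalRange (R := R) M N e) +
        Module.length R (Ext (ModuleCat.of R M) (ModuleCat.of R N) 1) := by
  have hS := sc1_shortExact (R := R) M e he
  let fM : ModuleCat.of R R ⟶ ModuleCat.of R M :=
    ModuleCat.ofHom (LinearMap.toSpanSingleton R M e)
  let gM : ModuleCat.of R M ⟶ ModuleCat.of R (M ⧸ Submodule.span R {e}) :=
    ModuleCat.ofHom (Submodule.mkQ (Submodule.span R {e}))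
  let δ : Ext (ModuleCat.of R R) (ModuleCat.of R N) 0 →ₗ[R]
      Ext (ModuleCat.of R (M ⧸ Submodule.span R {e})) (ModuleCat.of R N) 1 :=
    hS.extClass.precompOfLinear R (ModuleCat.of R N) (add_zero 1)
  let g' : Ext (ModuleCat.of R (M ⧸ Submodule.span R {e})) (ModuleCat.of R N) 1 →ₗ[R]
      Ext (ModuleCat.of R M) (ModuleCat.of R N) 1 :=
    (Ext.mk₀ gM).precompOfLinear R (ModuleCat.of R N) (zero_add 1)
  let f' : Ext (ModuleCat.of R M) (ModuleCat.of R N) 0 →ₗ[R]
      Ext (ModuleCat.of R R) (ModuleCat.of R N) 0 :=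
    (Ext.mk₀ fM).precompOfLinear R (ModuleCat.of R N) (zero_add 0)
  have hg'surj : Surjective g' := by
    intro x₂
    haveI : Projective (ModuleCat.of R R) := (IsProjective.iff_projective _).1 inferInstance
    obtain ⟨x₃, hx₃⟩ := Ext.contravariant_sequence_exact₂ hS (ModuleCat.of R N) x₂
      (Ext.eq_zero_of_projective (P := ModuleCat.of R R) _)
    exact ⟨x₃, hx₃⟩
  have hex : Exact δ g' := by
    intro y
    constructor
    · intro hy
      obtain ⟨x₁, hx₁⟩ := Ext.contravariant_sequence_exact₃ hS (ModuleCat.of R N) y hy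
        (add_zero 1)
      exact ⟨x₁, hx₁⟩
    · rintro ⟨x₁, rfl⟩
      exact hS.comp_extClass_assoc x₁ (add_zero 1)
  have hker : LinearMap.ker δ = LinearMap.range f' := by
    ext x₁
    rw [LinearMap.mem_ker, LinearMap.mem_range]
    constructor
    · intro hx₁
      obtain ⟨x₂, hx₂⟩ := Ext.contravariant_sequence_exact₁ hS (ModuleCat.of R N) x₁
        (add_zero 1) hx₁
      exact ⟨x₂, hx₂⟩
    · rintro ⟨x₂, rfl⟩
      exact hS.extClass_comp_assoc x₂ (h := add_zero 1)
  -- length additivity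
  have h1 := Module.length_eq_add_of_exact (LinearMap.range δ).subtype g'.rangeRestrict
    (Submodule.subtype_injective _) (LinearMap.surjective_rangeRestrict g') (by
      intro y
      constructor
      · intro hy
        have : g' y = 0 := congrArg Subtype.val hy
        obtain ⟨x₁, hx₁⟩ := (hex y).1 this
        exact ⟨⟨y, ⟨x₁, hx₁⟩⟩, rfl⟩
      · rintro ⟨⟨y', hy'⟩, rfl⟩
        apply Subtype.ext
        exact (hex y').2 hy')
  have h2 : Module.length R ↥(LinearMap.range g') =
      Module.length R (Ext (ModuleCat.of R M) (ModuleCat.of R N) 1) := by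
    rw [LinearMap.range_eq_top.2 hg'surj]
    exact Module.length_top
  have hf'mk : ∀ φ : M →ₗ[R] N, f' (Ext.mk₀ (ModuleCat.ofHom φ)) =
      Ext.mk₀ (fM ≫ ModuleCat.ofHom φ) := by
    intro φ
    show (Ext.mk₀ fM).comp (Ext.mk₀ (ModuleCat.ofHom φ)) (zero_add 0) = _
    rw [Ext.mk₀_comp_mk₀]
  have h3 : Module.length R ↥(LinearMap.range δ) =
      Module.length R (N ⧸ evalRange (R := R) M N e) := by
    rw [← (LinearMap.quotKerEquivRange δ).length_eq, hker]
    -- transport along `Ext R N 0 ≃ N`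
    let ε : Ext (ModuleCat.of R R) (ModuleCat.of R N) 0 ≃ₗ[R] N :=
      (ext0Equiv (ModuleCat.of R R) (ModuleCat.of R N)).trans
        (LinearMap.ringLmapEquivSelf R R N)
    have hε : ∀ φ : M →ₗ[R] N, ε (f' (Ext.mk₀ (ModuleCat.ofHom φ))) = φ e := by
      intro φ
      rw [hf'mk]
      show (LinearMap.ringLmapEquivSelf R R N)
        (ext0Equiv (ModuleCat.of R R) (ModuleCat.of R N) (Ext.mk₀ _)) = _
      rw [ext0Equiv_mk₀]
      show (LinearMap.ringLmapEquivSelf R R N) (φ.comp (LinearMap.toSpanSingleton R M e)) = _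
      rw [LinearMap.ringLmapEquivSelf_apply, LinearMap.comp_apply,
        LinearMap.toSpanSingleton_apply, one_smul]
    refine (Submodule.Quotient.equiv _ _ ε ?_).length_eq
    ext n
    rw [Submodule.mem_map, mem_evalRange]
    constructor
    · rintro ⟨_, ⟨x₂, rfl⟩, rfl⟩
      obtain ⟨φ, rfl⟩ : ∃ φ : M →ₗ[R] N, x₂ = Ext.mk₀ (ModuleCat.ofHom φ) := by
        refine ⟨ext0Equiv (ModuleCat.of R M) (ModuleCat.of R N) x₂, ?_⟩
        apply (ext0Equiv (ModuleCat.of R M) (ModuleCat.of R N)).injective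
        rw [ext0Equiv_mk₀]
        rfl
      exact ⟨φ, (hε φ).symm⟩
    · rintro ⟨φ, rfl⟩
      exact ⟨f' (Ext.mk₀ (ModuleCat.ofHom φ)), ⟨_, rfl⟩, hε φ⟩
  rw [h1, h2, h3]

/-- the main length formula -/
theorem length_ext_one (he : Injective (fun r : R => r • e))
    (hxM : ∀ m : M, x • m ∈ Submodule.span R {e}) (hxN : ∀ n : N, x • n = 0 → n = 0) :
    Module.length R (Ext (ModuleCat.of R M) (ModuleCat.of R N) 1) +
        Module.length R (N ⧸ evalRange (R := R) M N e) =
      Module.length R ((M ⧸ Submodule.span R {e}) →ₗ[R]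
        (N ⧸ LinearMap.range (LinearMap.lsmul R N x))) := by
  obtain ⟨ε⟩ := nonempty_hom_equiv_ext (R := R) N x (M ⧸ Submodule.span R {e}) (by
    intro q
    obtain ⟨m, rfl⟩ := Submodule.Quotient.mk_surjective _ q
    rw [← Submodule.Quotient.mk_smul, Submodule.Quotient.mk_eq_zero]
    exact hxM m) hxN
  rw [ε.length_eq, length_ext_quot (R := R) M N e he, add_comm]

end Main

end Groth.Agent.Helper7.MonExt
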