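import Mathlib
import Groth.Agent.Helper7.MonExtA

set_option autoImplicit false

/-!
# `Ext¹(M, R)` of a module with a presentation `0 → Rᵐ → Rⁿ → M → 0`
-/

namespace Groth.Agent.Helper7.CIFit

open CategoryTheory Abelian Function
open Groth.Agent.Helper7.ExtDu Groth.Agent.Helper7.MonExt

universe u

variable {R : Type u} [CommRing R] {M : Type u} [AddCommGroup M] [Module R M] {m n : ℕ}
  (σ : (Fin m → R) →ₗ[R] (Fin n → R)) (q : (Fin n → R) →ₗ[R] M)

/-- the short complex `Rᵐ → Rⁿ → M` -/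
noncomputable def presSC (hker : LinearMap.ker q = LinearMap.range σ) :
    ShortComplex (ModuleCat.{u} R) :=
  ShortComplex.mk (ModuleCat.ofHom σ) (ModuleCat.ofHom q) (by
    apply ModuleCat.hom_ext
    apply LinearMap.ext
    intro x
    show q (σ x) = 0
    rw [← LinearMap.mem_ker, hker]
    exact ⟨x, rfl⟩)

theorem presSC_shortExact (hker : LinearMap.ker q = LinearMap.range σ)
    (hσ : Injective σ) (hq : Surjective q) :
    (presSC σ q hker).ShortExact := by
  refine ShortComplex.ShortExact.mk' ?_ ?_ ?_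
  · rw [ShortComplex.ShortExact.moduleCat_exact_iff_function_exact]
    intro (y : Fin n → R)
    show q y = 0 ↔ _
    rw [← LinearMap.mem_ker, hker]
    rfl
  · exact (ModuleCat.mono_iff_injective _).mpr hσ
  · exact (ModuleCat.epi_iff_surjective _).mpr hq

theorem ext_one_equiv_coker (hker : LinearMap.ker q = LinearMap.range σ)
    (hσ : Injective σ) (hq : Surjective q) :
    Nonempty (Ext (ModuleCat.of R M) (ModuleCat.of R R) 1 ≃ₗ[R]
      (Module.Dual R (Fin m → R) ⧸ LinearMap.range σ.dualMap)) := by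
  have hS := presSC_shortExact σ q hker hσ hq
  haveI : Projective (ModuleCat.of R (Fin n → R)) :=
    (IsProjective.iff_projective _).1 inferInstance
  let fM : ModuleCat.of R (Fin m → R) ⟶ ModuleCat.of R (Fin n → R) := ModuleCat.ofHom σ
  let δ : Ext (ModuleCat.of R (Fin m → R)) (ModuleCat.of R R) 0 →ₗ[R]
      Ext (ModuleCat.of R M) (ModuleCat.of R R) 1 :=
    hS.extClass.precompOfLinear R (ModuleCat.of R R) (add_zero 1)
  let f' : Ext (ModuleCat.of R (Fin n → R)) (ModuleCat.of R R) 0 →ₗ[R]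
      Ext (ModuleCat.of R (Fin m → R)) (ModuleCat.of R R) 0 :=
    (Ext.mk₀ fM).precompOfLinear R (ModuleCat.of R R) (zero_add 0)
  have hδsurj : Surjective δ := by
    intro x₃
    obtain ⟨x₁, hx₁⟩ := Ext.contravariant_sequence_exact₃ hS (ModuleCat.of R R) x₃
      (Ext.eq_zero_of_projective (P := ModuleCat.of R (Fin n → R)) _) (add_zero 1)
    exact ⟨x₁, hx₁⟩
  have hkerδ : LinearMap.ker δ = LinearMap.range f' := by
    ext x₁
    rw [LinearMap.mem_ker, LinearMap.mem_range]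
    constructor
    · intro hx₁
      obtain ⟨x₂, hx₂⟩ := Ext.contravariant_sequence_exact₁ hS (ModuleCat.of R R) x₁
        (add_zero 1) hx₁
      exact ⟨x₂, hx₂⟩
    · rintro ⟨x₂, rfl⟩
      exact hS.extClass_comp_assoc x₂ (h := add_zero 1)
  have hf'mk : ∀ φ : (Fin n → R) →ₗ[R] R, f' (Ext.mk₀ (ModuleCat.ofHom φ)) =
      Ext.mk₀ (fM ≫ ModuleCat.ofHom φ) := by
    intro φ
    show (Ext.mk₀ fM).comp (Ext.mk₀ (ModuleCat.ofHom φ)) (zero_add 0) = _
    rw [Ext.mk₀_comp_mk₀]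
  let ε : Ext (ModuleCat.of R (Fin m → R)) (ModuleCat.of R R) 0 ≃ₗ[R]
      Module.Dual R (Fin m → R) :=
    ext0Equiv (ModuleCat.of R (Fin m → R)) (ModuleCat.of R R)
  have hε : ∀ φ : (Fin n → R) →ₗ[R] R, ε (f' (Ext.mk₀ (ModuleCat.ofHom φ))) = σ.dualMap φ := by
    intro φ
    rw [hf'mk]
    show ext0Equiv (ModuleCat.of R (Fin m → R)) (ModuleCat.of R R) (Ext.mk₀ _) = _
    rw [ext0Equiv_mk₀]
    rfl
  have hmap : Submodule.map (ε : _ →ₗ[R] Module.Dual R (Fin m → R)) (LinearMap.ker δ) =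
      LinearMap.range σ.dualMap := by
    rw [hkerδ]
    ext ψ
    rw [Submodule.mem_map]
    constructor
    · rintro ⟨_, ⟨x₂, rfl⟩, rfl⟩
      obtain ⟨φ, rfl⟩ : ∃ φ : (Fin n → R) →ₗ[R] R, x₂ = Ext.mk₀ (ModuleCat.ofHom φ) := by
        refine ⟨ext0Equiv (ModuleCat.of R (Fin n → R)) (ModuleCat.of R R) x₂, ?_⟩
        apply (ext0Equiv (ModuleCat.of R (Fin n → R)) (ModuleCat.of R R)).injective
        rw [ext0Equiv_mk₀]
        rfl
      exact ⟨φ, (hε φ).symm⟩
    · rintro ⟨φ, rfl⟩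
      exact ⟨f' (Ext.mk₀ (ModuleCat.ofHom φ)), ⟨_, rfl⟩, hε φ⟩
  exact ⟨(LinearMap.quotKerEquivOfSurjective δ hδsurj).symm.trans
    (Submodule.Quotient.equiv _ _ ε hmap)⟩

end Groth.Agent.Helper7.CIFit
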