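import Mathlib
import Groth.Agent.Helper8.Idx13
import Groth.Agent.Helper5.FtDim5

set_option autoImplicit false

/-!
# Fibre dimension of `Ω` at a minimal prime of a reduced algebra of finite type over a perfect field
-/

namespace Groth.Agent.Helper7.CIFit

open TensorProduct

universe u

section field
variable {B : Type u} [CommRing B] [IsReduced B] (p : Ideal B) [p.IsPrime]

theorem isField_localization_of_minimal (hp : p ∈ minimalPrimes B) :
    IsField (Localization.AtPrime p) := by
  haveI : Ring.KrullDimLE 0 (Localization.AtPrime p) := by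
    rw [Ring.krullDimLE_iff, IsLocalization.AtPrime.ringKrullDim_eq_height p,
      Ideal.height_eq_zero_iff.mpr hp]
    rfl
  exact Ring.KrullDimLE.isField_of_isReduced

theorem bijective_residue_of_minimal (hp : p ∈ minimalPrimes B) :
    Function.Bijective (algebraMap (Localization.AtPrime p) p.ResidueField) := by
  have hF := isField_localization_of_minimal p hp
  refine ⟨?_, IsLocalRing.residue_surjective⟩
  rw [injective_iff_map_eq_zero]
  intro x hx
  have hx' : x ∈ IsLocalRing.maximalIdeal (Localization.AtPrime p) :=
    (IsLocalRing.residue_eq_zero_iff x).mp hx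
  by_contra hne
  obtain ⟨y, hy⟩ := hF.mul_inv_cancel hne
  exact hx' (IsUnit.of_mul_eq_one y hy)

theorem formallyEtale_residueField_of_minimal (hp : p ∈ minimalPrimes B) :
    Algebra.FormallyEtale B p.ResidueField := by
  haveI : Algebra.FormallyEtale B (Localization.AtPrime p) :=
    Algebra.FormallyEtale.of_isLocalization p.primeCompl
  haveI : Algebra.FormallyEtale (Localization.AtPrime p) p.ResidueField :=
    Algebra.FormallyEtale.of_equiv
      (AlgEquiv.ofBijective (Algebra.ofId (Localization.AtPrime p) p.ResidueField)
        (bijective_residue_of_minimal p hp))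
  exact Algebra.FormallyEtale.comp B (Localization.AtPrime p) p.ResidueField

end field

section dim
variable (k : Type u) [Field k] [PerfectField k] (B : Type u) [CommRing B] [Algebra k B]
  [Algebra.FiniteType k B] [IsReduced B] (p : Ideal B) [p.IsPrime]

theorem finrank_fibre_kaehler_of_minimal (hp : p ∈ minimalPrimes B) :
    ∃ d : ℕ, ringKrullDim (B ⧸ p) = d ∧
      Module.finrank p.ResidueField (p.ResidueField ⊗[B] Ω[B⁄k]) = d := by
  haveI := formallyEtale_residueField_of_minimal p hp
  have e := KaehlerDifferential.tensorKaehlerEquivOfFormallyEtale k B p.ResidueField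
  haveI : Algebra.EssFiniteType k p.ResidueField := by
    haveI : Algebra.EssFiniteType B p.ResidueField := inferInstance
    exact Algebra.EssFiniteType.comp k B p.ResidueField
  obtain ⟨hfin, -, hc⟩ := Groth.Agent.Helper8.Idx.cartier_h1 (K := k) (L := p.ResidueField)
  obtain ⟨d, hd1, hd2⟩ := Groth.Agent.Helper5.FtDim.dim_eq_trdeg k (B ⧸ p) p.ResidueField
  refine ⟨d, hd1, ?_⟩
  rw [e.finrank_eq]
  haveI : Algebra.FormallySmooth k p.ResidueField := Algebra.FormallySmooth.of_perfectField
  haveI : Subsingleton (Algebra.H1Cotangent k p.ResidueField) :=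
    Algebra.FormallySmooth.subsingleton_h1Cotangent
  have h0 : Module.finrank p.ResidueField (Algebra.H1Cotangent k p.ResidueField) = 0 :=
    Module.finrank_zero_of_subsingleton
  rw [h0, hd2] at hc
  simp only [Cardinal.toNat_natCast] at hc
  omega

end dim

end Groth.Agent.Helper7.CIFit
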