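import Mathlib
import Groth.Agent.Helper7.Fitt3

set_option linter.style.haveILetI false
set_option linter.unusedSectionVars false

namespace Groth.Agent.Helper7.FittLib

open Matrix

universe u v

theorem fitt_coker_dual_shift (R : Type u) [CommRing R] (m n : ℕ)
    (σ : (Fin m → R) →ₗ[R] (Fin n → R)) (hσ : Function.Injective σ) :
    (∀ j : ℕ, Fitt.ideal R ((Fin n → R) ⧸ LinearMap.range σ) (n - m + j) =
        Fitt.ideal R (Module.Dual R (Fin m → R) ⧸ LinearMap.range σ.dualMap) j) ∧
      ∀ i : ℕ, i < n - m → Fitt.ideal R ((Fin n → R) ⧸ LinearMap.range σ) i = ⊥ := by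
  classical
  rcases subsingleton_or_nontrivial R with hR | hR
  · exact ⟨fun j => Subsingleton.elim _ _, fun i _ => Subsingleton.elim _ _⟩
  have hmn : m ≤ n := by simpa using card_le_of_injective R σ hσ
  let A : Matrix (Fin n) (Fin m) R := Matrix.of fun i k => σ (Pi.single k 1) i
  have hM : ∀ r, Fitt.ideal R ((Fin n → R) ⧸ LinearMap.range σ) r =
      minors (Set.range Aᵀ) (n - r) := by
    intro r
    have hspan : Submodule.span R (Set.range fun k : Fin m => σ (Pi.single k 1)) =
        LinearMap.range σ := by
      have : (Set.range fun k : Fin m => σ (Pi.single k 1)) =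
          σ '' Set.range (Pi.basisFun R (Fin m)) := by
        rw [← Set.range_comp]
        congr 1
        funext k
        simp
      rw [this, ← Submodule.map_span, (Pi.basisFun R (Fin m)).span_eq, Submodule.map_top]
    have := fitt_quotient_basis (Pi.basisFun R (Fin n)) (LinearMap.range σ) _ hspan r
    rw [this, Fintype.card_fin]
    congr 1
    rw [← Set.range_comp]
    congr 1
  have hK : ∀ r, Fitt.ideal R (Module.Dual R (Fin m → R) ⧸ LinearMap.range σ.dualMap) r =
      minors (Set.range A) (m - r) := by
    intro r
    have hspan : Submodule.span R (Set.range fun i : Fin n =>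
        σ.dualMap ((Pi.basisFun R (Fin n)).dualBasis i)) = LinearMap.range σ.dualMap := by
      have : (Set.range fun i : Fin n => σ.dualMap ((Pi.basisFun R (Fin n)).dualBasis i)) =
          σ.dualMap '' Set.range (Pi.basisFun R (Fin n)).dualBasis := by
        rw [← Set.range_comp]
        rfl
      rw [this, ← Submodule.map_span, ((Pi.basisFun R (Fin n)).dualBasis).span_eq, Submodule.map_top]
    have := fitt_quotient_basis (Pi.basisFun R (Fin m)).dualBasis (LinearMap.range σ.dualMap) _ hspan r
    rw [this, Fintype.card_fin]
    congr 1
    rw [← Set.range_comp]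
    congr 1
    funext i
    funext k
    simp [A, Module.Basis.dualBasis_equivFun]
  constructor
  · intro j
    rw [hM, hK, minors_range_transpose_eq]
    congr 1
    omega
  · intro i hi
    rw [hM]
    apply minors_range_eq_bot
    simp
    omega

end Groth.Agent.Helper7.FittLib
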