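import Mathlib
import Groth.Agent.Helper7.FittDual

set_option autoImplicit false

/-!
# Injectivity of a presentation matrix from Fitting ideals at minimal primes
-/

namespace Groth.Agent.Helper7.CIFit

open Matrix Groth.Agent.Helper7.FittLib

universe u

variable {R : Type u} [CommRing R] {m n : ℕ} (σ : (Fin m → R) →ₗ[R] (Fin n → R))

theorem fitt_coker_eq_minors (r : ℕ) :
    Fitt.ideal R ((Fin n → R) ⧸ LinearMap.range σ) r =
      minors (Set.range (Matrix.of fun i k => σ (Pi.single k 1) i : Matrix (Fin n) (Fin m) R)ᵀ)
        (n - r) := by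
  classical
  have hspan : Submodule.span R (Set.range fun k : Fin m => σ (Pi.single k 1)) =
      LinearMap.range σ := by
    have : (Set.range fun k : Fin m => σ (Pi.single k 1)) =
        σ '' Set.range (Pi.basisFun R (Fin m)) := by
      rw [← Set.range_comp]
      congr 1
      funext k
      simp
    rw [this, ← Submodule.map_span, (Pi.basisFun R (Fin m)).span_eq, Submodule.map_top]
  have := fitt_quotient_basis (Pi.basisFun R (Fin n)) (LinearMap.range σ) _ hspan r
  rw [this, Fintype.card_fin]
  congr 1
  rw [← Set.range_comp]
  congr 1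

theorem fitt_le_annihilator_ker (hmn : m ≤ n) :
    Fitt.ideal R ((Fin n → R) ⧸ LinearMap.range σ) (n - m) ≤ (LinearMap.ker σ).annihilator := by
  classical
  rw [fitt_coker_eq_minors, show n - (n - m) = m by omega, minors_le_iff]
  intro z e hz
  choose j hj using hz
  have hzj : ∀ a b, z a (e b) = σ (Pi.single (j a) 1) (e b) := by
    intro a b
    rw [← hj a]
    rfl
  by_cases hinj : Function.Injective j
  · have hbij : Function.Bijective j := Finite.injective_iff_bijective.mp hinj
    rw [Submodule.mem_annihilator]
    intro x hx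
    rw [LinearMap.mem_ker] at hx
    set N : Matrix (Fin m) (Fin m) R := Matrix.of fun a b => z a (e b) with hN
    let v : Fin m → R := fun a => x (j a)
    have hv : Nᵀ.mulVec v = 0 := by
      funext b
      rw [Matrix.mulVec, dotProduct]
      have h1 : ∀ a, Nᵀ b a * v a = σ (Pi.single (j a) 1) (e b) * x (j a) := by
        intro a
        rw [Matrix.transpose_apply, hN, Matrix.of_apply, hzj]
      rw [Finset.sum_congr rfl (fun a _ => h1 a)]
      have h5 := (Equiv.ofBijective j hbij).sum_comp (fun l => σ (Pi.single l 1) (e b) * x l)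
      simp only [Equiv.ofBijective_apply] at h5
      rw [h5]
      have h2 : σ x (e b) = ∑ l, σ (Pi.single l 1) (e b) * x l := by
        have h3 : x = ∑ l, x l • (Pi.single l 1 : Fin m → R) := by
          funext i
          rw [Finset.sum_apply, Finset.sum_eq_single i]
          · rw [Pi.smul_apply, Pi.single_eq_same, smul_eq_mul, mul_one]
          · intro l _ hli
            rw [Pi.smul_apply, Pi.single_eq_of_ne (Ne.symm hli), smul_zero]
          · intro h
            exact absurd (Finset.mem_univ _) h
        conv_lhs => rw [h3]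
        rw [map_sum, Finset.sum_apply]
        apply Finset.sum_congr rfl
        intro l _
        rw [map_smul, Pi.smul_apply, smul_eq_mul, mul_comm]
      rw [← h2, hx]
      rfl
    have hdet : N.det • v = 0 := by
      have h4 : (Nᵀ.adjugate * Nᵀ).mulVec v = Nᵀ.adjugate.mulVec (Nᵀ.mulVec v) :=
        (Matrix.mulVec_mulVec v Nᵀ.adjugate Nᵀ).symm
      rw [hv, Matrix.mulVec_zero, Matrix.adjugate_mul, Matrix.smul_mulVec, Matrix.one_mulVec,
        Matrix.det_transpose] at h4
      exact h4
    funext l
    obtain ⟨a, rfl⟩ := hbij.2 l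
    have := congrFun hdet a
    simpa [v] using this
  · have hne : ∃ a a', a ≠ a' ∧ j a = j a' := by
      by_contra hcon
      apply hinj
      intro a a' haa'
      by_contra hne
      exact hcon ⟨a, a', hne, haa'⟩
    obtain ⟨a, a', hne, haa'⟩ := hne
    have : (Matrix.of fun a b => z a (e b)).det = 0 := by
      apply Matrix.det_zero_of_row_eq hne
      funext b
      rw [Matrix.of_apply, Matrix.of_apply, hzj, hzj, haa']
    rw [this]
    exact Submodule.zero_mem _

theorem injective_of_fitt_not_le [IsReduced R] (hmn : m ≤ n)
    (h : ∀ p ∈ minimalPrimes R,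
      ¬ Fitt.ideal R ((Fin n → R) ⧸ LinearMap.range σ) (n - m) ≤ p) :
    Function.Injective σ := by
  rw [injective_iff_map_eq_zero]
  intro x hx
  funext l
  have hmem : x l ∈ nilradical R := by
    rw [nilradical, ← Ideal.sInf_minimalPrimes, Ideal.mem_sInf]
    intro p hp
    obtain ⟨d, hd, hdp⟩ := SetLike.not_le_iff_exists.mp (h p hp)
    have hann := fitt_le_annihilator_ker σ hmn hd
    rw [Submodule.mem_annihilator] at hann
    have h0 : d • x = 0 := hann x (LinearMap.mem_ker.mpr hx)
    have h1 : d * x l = 0 := by
      have := congrFun h0 l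
      simpa using this
    have hpp : p.IsPrime := hp.1.1
    rcases hpp.mem_or_mem (show d * x l ∈ p by rw [h1]; exact p.zero_mem) with h2 | h2
    · exact absurd h2 hdp
    · exact h2
  rw [nilradical_eq_zero] at hmem
  exact hmem

end Groth.Agent.Helper7.CIFit
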