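import Mathlib
import Groth.Agent.Helper7.CIFitA
import Groth.Agent.Helper7.CIFitB
import Groth.Agent.Helper7.CIFitC
import Groth.Agent.Helper7.Fitt10
import Groth.Agent.Helper5.FtDim4
import Groth.Agent.S16235

set_option autoImplicit false

/-!
# `Fitt_{r-c}(Ω_B) = Fitt_0(Ext¹(Ω_B, B))` for a reduced complete intersection
-/

namespace Groth.Agent.Helper7.CIFit

open Groth.Agent.Helper7.FittLib TensorProduct

universe u

section pres
variable {k : Type u} [Field k] {r c : ℕ} {B : Type u} [CommRing B] [Algebra k B]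

/-- the presentation of `B` given by `φ` and the relations `a`. -/
noncomputable def mkPres (φ : MvPolynomial (Fin r) k →ₐ[k] B) (hφ : Function.Surjective φ)
    (a : Fin c → MvPolynomial (Fin r) k)
    (hker : RingHom.ker φ.toRingHom = Ideal.span (Set.range a)) :
    Algebra.Presentation k B (Fin r) (Fin c) where
  __ := Algebra.Generators.ofAlgHom φ hφ
  relation := a
  span_range_relation_eq_ker := by
    rw [← hker, Algebra.Generators.ker_eq_ker_aeval_val]
    have : MvPolynomial.aeval (Algebra.Generators.ofAlgHom φ hφ).val = φ := by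
      ext i
      simp [Algebra.Generators.ofAlgHom]
    rw [this]
    rfl

theorem exists_pres (pres : Algebra.Presentation k B (Fin r) (Fin c)) :
    ∃ (σ : (Fin c → B) →ₗ[B] (Fin r → B)) (q : (Fin r → B) →ₗ[B] Ω[B⁄k]),
      Function.Surjective q ∧ LinearMap.ker q = LinearMap.range σ := by
  let eR : (Fin r →₀ B) ≃ₗ[B] (Fin r → B) := Finsupp.linearEquivFunOnFinite B B (Fin r)
  let eC : (Fin c →₀ B) ≃ₗ[B] (Fin c → B) := Finsupp.linearEquivFunOnFinite B B (Fin c)
  let σ' : (Fin c →₀ B) →ₗ[B] (Fin r →₀ B) := pres.differentialsRelations.map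
  let q' : (Fin r →₀ B) →ₗ[B] Ω[B⁄k] := pres.differentialsSolution.π
  have hex : Function.Exact σ' q' := pres.differentialsSolution_isPresentation.exact
  have hsurj : Function.Surjective q' := pres.differentialsSolution_isPresentation.surjective_π
  refine ⟨eR.toLinearMap ∘ₗ σ' ∘ₗ eC.symm.toLinearMap, q' ∘ₗ eR.symm.toLinearMap, ?_, ?_⟩
  · exact hsurj.comp eR.symm.surjective
  · ext y
    rw [LinearMap.mem_ker, LinearMap.mem_range]
    constructor
    · intro hy
      obtain ⟨w, hw⟩ := (hex (eR.symm y)).mp hy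
      refine ⟨eC w, ?_⟩
      simp only [LinearMap.comp_apply, LinearEquiv.coe_coe, LinearEquiv.symm_apply_apply]
      rw [hw, LinearEquiv.apply_symm_apply]
    · rintro ⟨w, rfl⟩
      simp only [LinearMap.comp_apply, LinearEquiv.coe_coe, LinearEquiv.symm_apply_apply]
      exact (hex _).mpr ⟨_, rfl⟩

end pres

section main

theorem main (k : Type u) [Field k] [IsAlgClosed k] (r c : ℕ)
    (B : Type u) [CommRing B] [Algebra k B] [IsReduced B]
    (φ : MvPolynomial (Fin r) k →ₐ[k] B) (hφ : Function.Surjective φ)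
    (a : Fin c → MvPolynomial (Fin r) k)
    (ha : RingTheory.Sequence.IsRegular (MvPolynomial (Fin r) k) (List.ofFn a))
    (hker : RingHom.ker φ.toRingHom = Ideal.span (Set.range a)) :
    Fitt.ideal B (KaehlerDifferential k B) (r - c) =
      Fitt.ideal B (CategoryTheory.Abelian.Ext.{u} (ModuleCat.of B (KaehlerDifferential k B))
        (ModuleCat.of B B) 1) 0 := by
  haveI : Algebra.FiniteType k B := Algebra.FiniteType.of_surjective φ hφ
  obtain ⟨σ, q, hq, hkq⟩ := exists_pres (mkPres φ hφ a hker)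
  have hset : Set.range a = {x | x ∈ List.ofFn a} := by
    ext x; simp [List.mem_ofFn]
  have hItop : Ideal.span (Set.range a) ≠ ⊤ := by
    intro h
    apply ha.top_ne_smul
    rw [Ideal.ofList, ← hset, h]
    simp
  have hht : (Ideal.span (Set.range a)).height = c :=
    Groth.Agent.S16235.result (MvPolynomial (Fin r) k) c a ha.toIsWeaklyRegular hItop
  have hdimP : ringKrullDim (MvPolynomial (Fin r) k) = r :=
    Groth.Agent.Helper5.DimBC.dim_mvPolynomial k r
  have hcr : c ≤ r := by
    have h1 := Ideal.height_le_ringKrullDim_of_ne_top hItop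
    rw [hht, hdimP] at h1
    exact_mod_cast h1
  -- the comparison of `Ω` with the cokernel of `σ`
  let e : ((Fin r → B) ⧸ LinearMap.range σ) ≃ₗ[B] Ω[B⁄k] :=
    (Submodule.quotEquivOfEq _ _ hkq.symm).trans (q.quotKerEquivOfSurjective hq)
  have hfit : ∀ p ∈ minimalPrimes B,
      ¬ Fitt.ideal B ((Fin r → B) ⧸ LinearMap.range σ) (r - c) ≤ p := by
    intro p hp
    haveI hpp : p.IsPrime := hp.1.1
    rw [fitt_congr e (r - c)]
    obtain ⟨d, hd1, hd2⟩ := finrank_fibre_kaehler_of_minimal k B p hp
    refine (fitt_not_le_iff (Ω[B⁄k]) (r - c) p).1.mpr ?_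
    rw [hd2]
    -- the dimension count
    let Q : Ideal (MvPolynomial (Fin r) k) := p.comap φ.toRingHom
    haveI : Q.IsPrime := Ideal.comap_isPrime _ _
    have hIQ : Ideal.span (Set.range a) ≤ Q := by
      rw [← hker]
      exact Ideal.comap_mono bot_le
    have hcQ : (c : ℕ∞) ≤ Q.height := hht ▸ Ideal.height_mono hIQ
    have hsum := Groth.Agent.Helper5.FtDim.height_add_dim_quotient k (MvPolynomial (Fin r) k) Q
    have hle : ringKrullDim (B ⧸ p) ≤ ringKrullDim (MvPolynomial (Fin r) k ⧸ Q) :=
      ringKrullDim_le_of_surjective (Ideal.quotientMap p φ.toRingHom le_rfl)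
        (Ideal.quotientMap_surjective hφ)
    have h2 : ((c : ℕ) : WithBot ℕ∞) + (d : ℕ) ≤ (r : ℕ) := by
      calc ((c : ℕ) : WithBot ℕ∞) + (d : ℕ)
          ≤ (Q.height : WithBot ℕ∞) + ringKrullDim (MvPolynomial (Fin r) k ⧸ Q) := by
            refine add_le_add ?_ (hd1 ▸ hle)
            exact_mod_cast hcQ
        _ = (r : ℕ) := by rw [hsum, hdimP]
    have h3 : c + d ≤ r := by exact_mod_cast h2
    omega
  have hσ : Function.Injective σ := injective_of_fitt_not_le σ hcr hfit
  obtain ⟨e1⟩ := ext_one_equiv_coker σ q hkq hσ hq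
  rw [← fitt_congr e (r - c), fitt_congr e1 0]
  have := (fitt_coker_dual_shift B c r σ hσ).1 0
  rw [add_zero] at this
  exact this

end main

end Groth.Agent.Helper7.CIFit
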