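import Mathlib
set_option linter.style.haveILetI false
set_option linter.unusedSectionVars false
set_option linter.unusedVariables false
open Polynomial IntermediateField
universe u
namespace Groth.Agent.Helper7.CKd

section derfield
variable {L : Type u} [Field L] (p : ℕ) [hp : Fact p.Prime] [CharP L p]

/-- the minimal polynomial of an element `t ∉ F` with `t^p ∈ F`. -/
theorem minpoly_eq_of_pow_mem (F : Subfield L) (t : L) (ht : t ∉ F) (htp : t ^ p ∈ F) :
    minpoly F t = X ^ p - C (⟨t ^ p, htp⟩ : F) := by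
  have hirr : Irreducible (X ^ p - C (⟨t ^ p, htp⟩ : F) : F[X]) := by
    apply X_pow_sub_C_irreducible_of_prime hp.out
    intro b hb
    apply ht
    have h1 : (b : L) ^ p = t ^ p := by
      have := congrArg (Subtype.val) hb
      simpa using this
    rw [← frobenius_inj L p h1]
    exact b.2
  symm
  apply minpoly.eq_of_irreducible_of_monic hirr
  · rw [map_sub, map_pow, aeval_X, aeval_C]
    exact sub_self _
  · exact monic_X_pow_sub_C _ hp.out.ne_zero

theorem isIntegral_of_pow_mem (F : Subfield L) (t : L) (htp : t ^ p ∈ F) : IsIntegral F t := by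
  refine ⟨X ^ p - C (⟨t ^ p, htp⟩ : F), monic_X_pow_sub_C _ hp.out.ne_zero, ?_⟩
  rw [← aeval_def, map_sub, map_pow, aeval_X, aeval_C]
  exact sub_self _

theorem finrank_adjoin_of_pow_mem (F : Subfield L) (t : L) (ht : t ∉ F) (htp : t ^ p ∈ F) :
    Module.finrank F F⟮t⟯ = p := by
  rw [adjoin.finrank (isIntegral_of_pow_mem p F t htp), minpoly_eq_of_pow_mem p F t ht htp,
    natDegree_X_pow_sub_C]

/-- `d/df` on `F(f)` when `f^p ∈ F`, `f ∉ F`. -/
theorem exists_derivation_of_adjoin_eq_top (F : Subfield L) (f : L) (hf : f ∉ F) (hfp : f ^ p ∈ F)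
    (htop : F⟮f⟯ = ⊤) : ∃ D : Derivation ℤ L L, D f = 1 ∧ ∀ x ∈ F, D x = 0 := by
  haveI : CharP F p := RingHom.charP F.subtype F.subtype.injective p
  have halg : IsAlgebraic F f := (isIntegral_of_pow_mem p F f hfp).isAlgebraic
  have hsurj : ∀ x : L, ∃ P : F[X], aeval f P = x := by
    intro x
    have hx : x ∈ F⟮f⟯.toSubalgebra := by rw [htop]; trivial
    rw [adjoin_simple_toSubalgebra_of_isAlgebraic halg,
      Algebra.adjoin_singleton_eq_range_aeval] at hx
    exact hx
  have hkey : ∀ P : F[X], aeval f P = 0 → aeval f (derivative P) = 0 := by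
    intro P hP
    obtain ⟨G, rfl⟩ := minpoly.dvd F f hP
    rw [minpoly_eq_of_pow_mem p F f hf hfp]
    have h1 : aeval f (X ^ p - C (⟨f ^ p, hfp⟩ : F) : F[X]) = 0 := by
      rw [map_sub, map_pow, aeval_X, aeval_C]
      exact sub_self _
    have h2 : derivative (X ^ p - C (⟨f ^ p, hfp⟩ : F) : F[X]) = 0 := by
      rw [derivative_sub, derivative_C, derivative_X_pow, sub_zero, CharP.cast_eq_zero F p,
        map_zero, zero_mul]
    rw [derivative_mul, map_add, map_mul, map_mul, h1, h2, map_zero, zero_mul, zero_mul, add_zero]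
  choose Pof hPof using hsurj
  have hwd : ∀ P : F[X], aeval f (derivative (Pof (aeval f P))) = aeval f (derivative P) := by
    intro P
    have h0 : aeval f (Pof (aeval f P) - P) = 0 := by rw [map_sub, hPof, sub_self]
    have h1 := hkey _ h0
    rw [derivative_sub, map_sub, sub_eq_zero] at h1
    exact h1
  let Dfun : L → L := fun x => aeval f (derivative (Pof x))
  have hDfun : ∀ P : F[X], Dfun (aeval f P) = aeval f (derivative P) := hwd
  let D₀ : L →+ L :=
    { toFun := Dfun
      map_zero' := by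
        have := hDfun 0
        rwa [map_zero, derivative_zero, map_zero] at this
      map_add' := fun x y => by
        have := hDfun (Pof x + Pof y)
        rw [map_add, hPof, hPof, derivative_add, map_add] at this
        exact this }
  have hD₀ : ∀ P : F[X], D₀ (aeval f P) = aeval f (derivative P) := hwd
  refine ⟨Derivation.mk' D₀.toIntLinearMap ?_, ?_, ?_⟩
  · intro a b
    show D₀ (a * b) = a • D₀ b + b • D₀ a
    have h1 : aeval f (Pof a * Pof b) = a * b := by rw [map_mul, hPof, hPof]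
    have h2 := hD₀ (Pof a * Pof b)
    rw [h1, derivative_mul, map_add] at h2
    have h3 : aeval f (derivative (Pof a) * Pof b) = aeval f (derivative (Pof a)) * b := by
      rw [map_mul, hPof]
    have h4 : aeval f (Pof a * derivative (Pof b)) = a * aeval f (derivative (Pof b)) := by
      rw [map_mul, hPof]
    rw [h3, h4] at h2
    rw [h2, smul_eq_mul, smul_eq_mul]
    have ha : D₀ a = aeval f (derivative (Pof a)) := rfl
    have hb : D₀ b = aeval f (derivative (Pof b)) := rfl
    rw [ha, hb]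
    ring
  · show D₀ f = 1
    have := hD₀ X
    rwa [aeval_X, derivative_X, map_one] at this
  · intro x hx
    show D₀ x = 0
    have := hD₀ (C (⟨x, hx⟩ : F))
    rw [aeval_C, derivative_C, map_zero] at this
    exact this

/-- **Field lemma.** If `L^p ⊆ E` and `f ∉ E`, some derivation of `L` vanishing on `E` does not
kill `f`. -/
theorem exists_derivation_of_not_mem (E : Subfield L) (hE : ∀ x : L, x ^ p ∈ E) (f : L)
    (hf : f ∉ E) : ∃ D : Derivation ℤ L L, D f ≠ 0 ∧ ∀ x ∈ E, D x = 0 := by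
  have hz : ∀ c ⊆ {F : Subfield L | E ≤ F ∧ f ∉ F}, IsChain (· ≤ ·) c → ∀ y ∈ c,
      ∃ ub ∈ {F : Subfield L | E ≤ F ∧ f ∉ F}, ∀ z ∈ c, z ≤ ub := by
    intro c hc hchain y hy
    refine ⟨sSup c, ⟨?_, ?_⟩, fun z hz => le_sSup hz⟩
    · exact (hc hy).1.trans (le_sSup hy)
    · intro hmem
      rw [Subfield.mem_sSup_of_directedOn ⟨y, hy⟩ hchain.directedOn] at hmem
      obtain ⟨s, hs, hfs⟩ := hmem
      exact (hc hs).2 hfs
  obtain ⟨F, hEF, hmax⟩ := zorn_le_nonempty₀ {F : Subfield L | E ≤ F ∧ f ∉ F} hz E ⟨le_rfl, hf⟩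
  obtain ⟨⟨hEF', hfF⟩, hmax'⟩ := hmax
  have hfp : f ^ p ∈ F := hEF' (hE f)
  have htop : F⟮f⟯ = ⊤ := by
    rw [eq_top_iff]
    intro t _
    by_cases ht : t ∈ F
    · exact IntermediateField.algebraMap_mem F⟮f⟯ (⟨t, ht⟩ : F)
    · have htp : t ^ p ∈ F := hEF' (hE t)
      have hle : F ≤ F⟮t⟯.toSubfield := fun x hx => IntermediateField.algebraMap_mem F⟮t⟯ (⟨x, hx⟩ : F)
      have hfmem : f ∈ F⟮t⟯ := by
        by_contra hcon
        have h1 : F⟮t⟯.toSubfield ≤ F :=
          hmax' (y := F⟮t⟯.toSubfield) ⟨hEF'.trans hle, hcon⟩ hle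
        exact ht (h1 (mem_adjoin_simple_self F t))
      have hle2 : F⟮f⟯ ≤ F⟮t⟯ := adjoin_simple_le_iff.mpr hfmem
      haveI : FiniteDimensional F F⟮t⟯ :=
        adjoin.finiteDimensional (isIntegral_of_pow_mem p F t htp)
      have heq := eq_of_le_of_finrank_eq hle2 (by
        rw [finrank_adjoin_of_pow_mem p F f hfF hfp, finrank_adjoin_of_pow_mem p F t ht htp])
      rw [heq]
      exact mem_adjoin_simple_self F t
  obtain ⟨D, hD1, hD2⟩ := exists_derivation_of_adjoin_eq_top p F f hfF hfp htop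
  exact ⟨D, by rw [hD1]; exact one_ne_zero, fun x hx => hD2 x (hEF' hx)⟩

end derfield

end Groth.Agent.Helper7.CKd
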