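import Mathlib
set_option linter.style.haveILetI false
set_option linter.unusedSectionVars false
set_option linter.unusedVariables false
universe u
namespace Groth.Agent.Helper7.CKd

/-- **Clearing denominators.** A derivation of `Frac B` vanishing on the image of `A`, where `B` is a
finitely generated `A`-algebra, gives (after multiplying by a nonzero element) a derivation of `B`. -/
theorem exists_derivation_of_fraction {A B L : Type u} [CommRing A] [CommRing B] [IsDomain B]
    [Algebra A B] [Algebra.FiniteType A B] [Field L] [Algebra B L] [IsFractionRing B L]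
    (D : Derivation ℤ L L) (hD : ∀ a : A, D (algebraMap B L (algebraMap A B a)) = 0) (f : B)
    (hf : D (algebraMap B L f) ≠ 0) : ∃ D' : Derivation ℤ B B, D' f ≠ 0 := by
  classical
  obtain ⟨s, hs⟩ := (Algebra.FiniteType.out : (⊤ : Subalgebra A B).FG)
  have hinj := IsFractionRing.injective B L
  have hden : ∀ b : B, ∃ d : B, d ≠ 0 ∧
      ∃ y : B, algebraMap B L y = algebraMap B L d * D (algebraMap B L b) := by
    intro b
    obtain ⟨n, d, hd, h⟩ := IsFractionRing.div_surjective (A := B) (D (algebraMap B L b))
    have hd0 : d ≠ 0 := nonZeroDivisors.ne_zero hd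
    have hd0' : algebraMap B L d ≠ 0 := fun h0 => hd0 (hinj (by rw [h0, map_zero]))
    refine ⟨d, hd0, n, ?_⟩
    rw [← h]
    field_simp
  choose den hden0 hdeny using hden
  let d : B := ∏ b ∈ s, den b
  have hd0 : d ≠ 0 := Finset.prod_ne_zero_iff.mpr (fun b _ => hden0 b)
  let T : Subalgebra A B :=
    { carrier := {x | ∃ y : B, algebraMap B L y = algebraMap B L d * D (algebraMap B L x)}
      mul_mem' := by
        rintro x x' ⟨y, hy⟩ ⟨y', hy'⟩
        refine ⟨x * y' + x' * y, ?_⟩
        rw [map_add (algebraMap B L), map_mul (algebraMap B L) x y', map_mul (algebraMap B L) x' y,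
          hy, hy', map_mul (algebraMap B L) x x', Derivation.leibniz, smul_eq_mul, smul_eq_mul]
        ring
      add_mem' := by
        rintro x x' ⟨y, hy⟩ ⟨y', hy'⟩
        refine ⟨y + y', ?_⟩
        rw [map_add, hy, hy', map_add, map_add, mul_add]
      algebraMap_mem' := by
        intro a
        refine ⟨0, ?_⟩
        rw [hD, mul_zero, map_zero] }
  have hT : T = ⊤ := by
    rw [eq_top_iff, ← hs]
    apply Algebra.adjoin_le
    intro b hb
    obtain ⟨y, hy⟩ := hdeny b
    refine ⟨(∏ b' ∈ s.erase b, den b') * y, ?_⟩
    have hb' : b ∈ s := hb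
    rw [map_mul, hy, ← mul_assoc, ← map_mul, Finset.prod_erase_mul s den hb']
  have hall : ∀ x : B, ∃ y : B, algebraMap B L y = algebraMap B L d * D (algebraMap B L x) := by
    intro x
    have : x ∈ T := by rw [hT]; exact Algebra.mem_top
    exact this
  choose D' hD' using hall
  let D₀ : B →+ B :=
    { toFun := D'
      map_zero' := by
        apply hinj
        rw [hD', map_zero, map_zero, mul_zero]
      map_add' := fun x y => by
        apply hinj
        rw [hD', map_add, map_add, mul_add, map_add, hD', hD'] }
  refine ⟨Derivation.mk' D₀.toIntLinearMap ?_, ?_⟩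
  · intro a b
    show D' (a * b) = a • D' b + b • D' a
    apply hinj
    rw [hD', smul_eq_mul, smul_eq_mul, map_add (algebraMap B L), map_mul (algebraMap B L) a (D' b),
      map_mul (algebraMap B L) b (D' a), hD', hD', map_mul (algebraMap B L) a b,
      Derivation.leibniz, smul_eq_mul, smul_eq_mul]
    ring
  · show D' f ≠ 0
    intro h0
    have h1 := hD' f
    rw [h0, map_zero] at h1
    have hd0' : algebraMap B L d ≠ 0 := fun h0 => hd0 (hinj (by rw [h0, map_zero]))
    exact (mul_ne_zero hd0' hf) h1.symm

end Groth.Agent.Helper7.CKd
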