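import Mathlib
set_option linter.style.haveILetI false
set_option linter.unusedSectionVars false
set_option linter.unusedVariables false
universe u
namespace Groth.Agent.Helper7.CKd

section lincomb
variable {M L : Type u} [Field M] [Field L] [Algebra M L]

/-- linear combinations with coefficients in `M`. -/
noncomputable def lc {m : ℕ} (c : Fin m → M) (w : Fin m → L) : L := ∑ j, algebraMap M L (c j) * w j

theorem lc_add {m : ℕ} (c c' : Fin m → M) (w : Fin m → L) : lc (c + c') w = lc c w + lc c' w := by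
  unfold lc
  rw [← Finset.sum_add_distrib]
  refine Finset.sum_congr rfl fun j _ => ?_
  rw [Pi.add_apply, map_add, add_mul]

theorem lc_sub {m : ℕ} (c c' : Fin m → M) (w : Fin m → L) : lc (c - c') w = lc c w - lc c' w := by
  unfold lc
  rw [← Finset.sum_sub_distrib]
  refine Finset.sum_congr rfl fun j _ => ?_
  rw [Pi.sub_apply, map_sub, sub_mul]

theorem lc_neg {m : ℕ} (c : Fin m → M) (w : Fin m → L) : lc (-c) w = - lc c w := by
  unfold lc
  rw [← Finset.sum_neg_distrib]
  refine Finset.sum_congr rfl fun j _ => ?_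
  rw [Pi.neg_apply, map_neg, neg_mul]

theorem lc_smul {m : ℕ} (a : M) (c : Fin m → M) (w : Fin m → L) :
    lc (fun j => a * c j) w = algebraMap M L a * lc c w := by
  unfold lc
  rw [Finset.mul_sum]
  refine Finset.sum_congr rfl fun j _ => ?_
  rw [map_mul, mul_assoc]

theorem lc_snoc {m : ℕ} (c : Fin m → M) (a : M) (w : Fin (m + 1) → L) :
    lc (Fin.snoc c a : Fin (m + 1) → M) w =
      lc c (fun j => w j.castSucc) + algebraMap M L a * w (Fin.last m) := by
  unfold lc
  rw [Fin.sum_univ_castSucc]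
  simp only [Fin.snoc_castSucc, Fin.snoc_last]

theorem lc_castSucc {m : ℕ} (c : Fin (m + 1) → M) (w : Fin (m + 1) → L) :
    lc c w = lc (fun j => c j.castSucc) (fun j => w j.castSucc) +
      algebraMap M L (c (Fin.last m)) * w (Fin.last m) := by
  unfold lc
  rw [Fin.sum_univ_castSucc]

/-- independence over a subfield of `M`. -/
def Ind (E' : Subfield M) {m : ℕ} (w : Fin m → L) : Prop :=
  ∀ c : Fin m → M, (∀ j, c j ∈ E') → lc c w = 0 → ∀ j, c j = 0

theorem Ind.mono {E₁ E₂ : Subfield M} (h : E₁ ≤ E₂) {m : ℕ} {w : Fin m → L} (hw : Ind E₂ w) :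
    Ind E₁ w := fun c hc h0 => hw c (fun j => h (hc j)) h0

theorem Ind.eq_of_lc_eq {E' : Subfield M} {m : ℕ} {w : Fin m → L} (hw : Ind E' w)
    {c c' : Fin m → M} (hc : ∀ j, c j ∈ E') (hc' : ∀ j, c' j ∈ E') (h : lc c w = lc c' w) :
    c = c' := by
  funext j
  have := hw (c - c') (fun j => E'.sub_mem (hc j) (hc' j)) (by rw [lc_sub, h, sub_self]) j
  rwa [Pi.sub_apply, sub_eq_zero] at this

end lincomb

section stab
variable {M L : Type u} [Field M] [Field L] [Algebra M L]
  {ι : Type*} [Nonempty ι] (E : ι → Subfield M) (E₀ : Subfield M)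
  (hdir : ∀ a b, ∃ c, E c ≤ E a ⊓ E b)
  (hE : ∀ x : M, (∀ i, x ∈ E i) → x ∈ E₀)

include hdir hE in
/-- a family independent over the intersection `E₀` is independent over some member. -/
theorem exists_ind : ∀ (m : ℕ) (w : Fin m → L), Ind E₀ w → ∃ i, Ind (E i) w := by
  intro m
  induction m with
  | zero =>
    intro w _
    exact ⟨Classical.arbitrary ι, fun c _ _ j => j.elim0⟩
  | succ m ih =>
    intro w hw
    set w' : Fin m → L := fun j => w j.castSucc with hw'
    have hw'ind : Ind E₀ w' := by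
      intro c hc h0 j
      have h1 := hw (Fin.snoc c 0) (fun j => by
        refine Fin.lastCases ?_ (fun j => ?_) j
        · rw [Fin.snoc_last]; exact E₀.zero_mem
        · rw [Fin.snoc_castSucc]; exact hc j) (by
        rw [lc_snoc, map_zero, zero_mul, add_zero]; exact h0) j.castSucc
      rwa [Fin.snoc_castSucc] at h1
    obtain ⟨i₁, hi₁⟩ := ih w' hw'ind
    by_contra H
    push Not at H
    -- for each `i` below `i₁` the last vector is a combination of the others over `E i`
    have key : ∀ i, E i ≤ E i₁ → ∃ d : Fin m → M, (∀ j, d j ∈ E i) ∧ w (Fin.last m) = lc d w' := by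
      intro i hi
      have hni := H i
      unfold Ind at hni
      push Not at hni
      obtain ⟨c, hc, hc0, j₀, hj₀⟩ := hni
      have hlast : c (Fin.last m) ≠ 0 := by
        intro hl
        rw [lc_castSucc, hl, map_zero, zero_mul, add_zero] at hc0
        have h2 := hi₁ (fun j => c j.castSucc) (fun j => hi (hc _)) hc0
        revert hj₀
        refine Fin.lastCases ?_ (fun j => ?_) j₀
        · intro h; exact h hl
        · intro h; exact h (h2 j)
      refine ⟨fun j => -(c (Fin.last m))⁻¹ * c j.castSucc, fun j =>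
        (E i).mul_mem ((E i).neg_mem ((E i).inv_mem (hc _))) (hc _), ?_⟩
      rw [lc_smul]
      rw [lc_castSucc] at hc0
      have h3 : lc (fun j => c j.castSucc) w' = - (algebraMap M L (c (Fin.last m)) * w (Fin.last m)) :=
        eq_neg_of_add_eq_zero_left hc0
      rw [h3, map_neg, map_inv₀]
      have h4 : algebraMap M L (c (Fin.last m)) ≠ 0 := by
        rw [Ne, map_eq_zero]; exact hlast
      field_simp
    obtain ⟨d₁, hd₁, hd₁w⟩ := key i₁ le_rfl
    have hd₁all : ∀ j, d₁ j ∈ E₀ := by
      intro j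
      apply hE
      intro i
      obtain ⟨i', hi'⟩ := hdir i i₁
      obtain ⟨d', hd', hd'w⟩ := key i' (hi'.trans inf_le_right)
      have heq : d₁ = d' := hi₁.eq_of_lc_eq hd₁ (fun j => (hi'.trans inf_le_right) (hd' j))
        (by rw [← hd₁w, ← hd'w])
      rw [heq]
      exact (hi'.trans inf_le_left) (hd' j)
    have h5 := hw (Fin.snoc (-d₁) 1) (fun j => by
        refine Fin.lastCases ?_ (fun j => ?_) j
        · rw [Fin.snoc_last]; exact E₀.one_mem
        · rw [Fin.snoc_castSucc]; exact E₀.neg_mem (hd₁all j)) (by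
        rw [lc_snoc, map_one, one_mul, lc_neg, hd₁w]; exact neg_add_cancel _) (Fin.last m)
    rw [Fin.snoc_last] at h5
    exact one_ne_zero h5

end stab

section finext
variable {M L : Type u} [Field M] [Field L] [Algebra M L]
  (p : ℕ) [hp : Fact p.Prime] [CharP M p] [CharP L p] {n : ℕ} (b : Module.Basis (Fin n) M L)

/-- `x^p = Σ (coord_j x)^p (b_j)^p`. -/
theorem pow_eq_lc (x : L) : x ^ p = lc (fun j => (b.repr x j) ^ p) (fun j => b j ^ p) := by
  conv_lhs => rw [← b.sum_repr x]
  rw [sum_pow_char]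
  unfold lc
  refine Finset.sum_congr rfl fun j _ => ?_
  rw [Algebra.smul_def, mul_pow, map_pow]

theorem lc_pow_eq (a : Fin n → M) :
    lc (fun j => a j ^ p) (fun j => b j ^ p) = (∑ j, a j • b j) ^ p := by
  rw [pow_eq_lc p b (∑ j, a j • b j)]
  congr 1
  funext j
  rw [b.repr_sum_self]

/-- membership in the `E'`-span of the `b_j^p`. -/
def InW (E' : Subfield M) (x : L) : Prop :=
  ∃ c : Fin n → M, (∀ j, c j ∈ E') ∧ x = lc c (fun j => b j ^ p)

variable (E' : Subfield M)

theorem inW_zero : InW p b E' 0 := ⟨0, fun j => E'.zero_mem, by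
  unfold lc; simp⟩

theorem inW_add {x y : L} (hx : InW p b E' x) (hy : InW p b E' y) : InW p b E' (x + y) := by
  obtain ⟨c, hc, rfl⟩ := hx
  obtain ⟨d, hd, rfl⟩ := hy
  exact ⟨c + d, fun j => E'.add_mem (hc j) (hd j), (lc_add _ _ _).symm⟩

theorem inW_neg {x : L} (hx : InW p b E' x) : InW p b E' (-x) := by
  obtain ⟨c, hc, rfl⟩ := hx
  exact ⟨-c, fun j => E'.neg_mem (hc j), (lc_neg _ _).symm⟩

theorem inW_smul {x : L} (a : M) (ha : a ∈ E') (hx : InW p b E' x) :
    InW p b E' (algebraMap M L a * x) := by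
  obtain ⟨c, hc, rfl⟩ := hx
  exact ⟨fun j => a * c j, fun j => E'.mul_mem ha (hc j), (lc_smul _ _ _).symm⟩

theorem inW_sum {κ : Type*} (s : Finset κ) (f : κ → L) (hf : ∀ j ∈ s, InW p b E' (f j)) :
    InW p b E' (∑ j ∈ s, f j) := by
  classical
  induction s using Finset.induction_on with
  | empty => rw [Finset.sum_empty]; exact inW_zero p b E'
  | insert a s ha ih =>
    rw [Finset.sum_insert ha]
    exact inW_add p b E' (hf a (Finset.mem_insert_self a s))
      (ih fun j hj => hf j (Finset.mem_insert_of_mem hj))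

variable (hpow : ∀ y : M, y ^ p ∈ E')
include hpow

theorem inW_pow (y : L) : InW p b E' (y ^ p) := ⟨_, fun j => hpow _, pow_eq_lc p b y⟩

theorem inW_one : InW p b E' 1 := by
  have := inW_pow p b E' hpow 1
  rwa [one_pow] at this

theorem inW_mul {x y : L} (hx : InW p b E' x) (hy : InW p b E' y) : InW p b E' (x * y) := by
  obtain ⟨c, hc, rfl⟩ := hx
  obtain ⟨d, hd, rfl⟩ := hy
  unfold lc
  rw [Finset.sum_mul]
  apply inW_sum
  intro j _
  rw [mul_assoc]
  apply inW_smul p b E' _ (hc j)
  rw [Finset.mul_sum]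
  apply inW_sum
  intro l _
  rw [mul_left_comm]
  apply inW_smul p b E' _ (hd l)
  rw [← mul_pow]
  exact inW_pow p b E' hpow _

theorem inW_npow {x : L} (hx : InW p b E' x) (k : ℕ) : InW p b E' (x ^ k) := by
  induction k with
  | zero => rw [pow_zero]; exact inW_one p b E' hpow
  | succ k ih => rw [pow_succ]; exact inW_mul p b E' hpow ih hx

theorem inW_inv {x : L} (hx : InW p b E' x) : InW p b E' x⁻¹ := by
  by_cases h0 : x = 0
  · rw [h0, inv_zero]; exact inW_zero p b E'
  · have h1 : x⁻¹ = x ^ (p - 1) * (x⁻¹) ^ p := by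
      have hp1 : p - 1 + 1 = p := Nat.sub_add_cancel hp.out.one_le
      rw [inv_pow]
      field_simp
      rw [← pow_succ', hp1]
    rw [h1]
    exact inW_mul p b E' hpow (inW_npow p b E' hpow hx _) (inW_pow p b E' hpow _)

theorem inW_of_mem_closure {x : L}
    (hx : x ∈ Subfield.closure (((frobenius L p).fieldRange : Set L) ∪
      (algebraMap M L) '' (E' : Set M))) : InW p b E' x := by
  induction hx using Subfield.closure_induction with
  | mem x hx =>
    rcases hx with ⟨y, rfl⟩ | ⟨a, ha, rfl⟩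
    · rw [frobenius_def]; exact inW_pow p b E' hpow y
    · have := inW_smul p b E' a ha (inW_one p b E' hpow)
      rwa [mul_one] at this
  | one => exact inW_one p b E' hpow
  | add x y _ _ hx hy => exact inW_add p b E' hx hy
  | neg x _ hx => exact inW_neg p b E' hx
  | inv x _ hx => exact inW_inv p b E' hpow hx
  | mul x y _ _ hx hy => exact inW_mul p b E' hpow hx hy

end finext

section main
variable {M L : Type u} [Field M] [Field L] [Algebra M L] [FiniteDimensional M L]
  (p : ℕ) [hp : Fact p.Prime] [CharP M p] [CharP L p]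

/-- **Finite extensions preserve admissibility** (Stacks 07P3-like): if `(E i)` is a directed family
of subfields of `M` containing `M^p` with intersection `M^p`, and `L/M` is finite, then the
intersection of the composita `L^p (E i)` is `L^p`. -/
theorem exists_pow_eq_of_forall_mem_closure {ι : Type*} [Nonempty ι] (E : ι → Subfield M)
    (hdir : ∀ a b, ∃ c, E c ≤ E a ⊓ E b) (hpow : ∀ i, ∀ y : M, y ^ p ∈ E i)
    (hE : ∀ x : M, (∀ i, x ∈ E i) → ∃ y : M, y ^ p = x) (x : L)
    (hx : ∀ i, x ∈ Subfield.closure (((frobenius L p).fieldRange : Set L) ∪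
      (algebraMap M L) '' (E i : Set M))) : ∃ y : L, y ^ p = x := by
  let b := Module.finBasis M L
  set E₀ : Subfield M := (frobenius M p).fieldRange with hE₀
  have hE' : ∀ x : M, (∀ i, x ∈ E i) → x ∈ E₀ := by
    intro x hx
    obtain ⟨y, hy⟩ := hE x hx
    exact ⟨y, by rw [frobenius_def, hy]⟩
  have hroot : ∀ c : Fin (Module.finrank M L) → M, (∀ j, c j ∈ E₀) →
      ∃ a : Fin (Module.finrank M L) → M, c = fun j => a j ^ p := by
    intro c hc
    choose a ha using hc
    exact ⟨a, funext fun j => by rw [← ha j, frobenius_def]⟩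
  have hind₀ : Ind E₀ (fun j => b j ^ p) := by
    intro c hc h0
    obtain ⟨a, rfl⟩ := hroot c hc
    rw [lc_pow_eq] at h0
    have h1 : ∑ j, a j • b j = 0 := by
      have := pow_eq_zero_iff (hp.out.ne_zero) |>.mp h0
      exact this
    have h2 := Fintype.linearIndependent_iff.mp b.linearIndependent a h1
    intro j
    show a j ^ p = 0
    rw [h2 j, zero_pow hp.out.ne_zero]
  obtain ⟨i₀, hi₀⟩ := exists_ind E E₀ hdir hE' _ _ hind₀
  have hW : ∀ i, InW p b (E i) x := fun i => inW_of_mem_closure p b (E i) (hpow i) (hx i)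
  obtain ⟨c₀, hc₀, hc₀x⟩ := hW i₀
  have hc₀all : ∀ j, c₀ j ∈ E₀ := by
    intro j
    apply hE'
    intro i
    obtain ⟨i', hi'⟩ := hdir i i₀
    obtain ⟨c', hc', hc'x⟩ := hW i'
    have heq : c₀ = c' := hi₀.eq_of_lc_eq hc₀ (fun j => (hi'.trans inf_le_right) (hc' j))
      (by rw [← hc₀x, ← hc'x])
    rw [heq]
    exact (hi'.trans inf_le_left) (hc' j)
  obtain ⟨a, rfl⟩ := hroot c₀ hc₀all
  exact ⟨∑ j, a j • b j, by rw [hc₀x, lc_pow_eq]⟩

end main

end Groth.Agent.Helper7.CKd
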