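import Mathlib
set_option linter.style.haveILetI false
set_option linter.unusedSectionVars false
set_option linter.unusedVariables false
open MvPolynomial
universe u v
namespace Groth.Agent.Helper7.CKd

section iotaQ
variable {K : Type u} [Field K] (p : ℕ) [hp : Fact p.Prime] [CharP K p] (σ : Type v)

/-- the embedding `K'[Y] → K[Y]`, `Y_i ↦ Y_i^p`. -/
noncomputable def iotaQ (K' : Subfield K) : MvPolynomial σ K' →+* MvPolynomial σ K :=
  (MvPolynomial.expand p : MvPolynomial σ K →ₐ[K] MvPolynomial σ K).toRingHom.comp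
    (MvPolynomial.map K'.subtype)

theorem iotaQ_apply (K' : Subfield K) (g : MvPolynomial σ K') :
    iotaQ p σ K' g = MvPolynomial.expand p (MvPolynomial.map K'.subtype g) := rfl

theorem iotaQ_monomial (K' : Subfield K) (e : σ →₀ ℕ) (a : K') :
    iotaQ p σ K' (monomial e a) = monomial (p • e) (a : K) := by
  rw [iotaQ_apply, map_monomial, expand_monomial]
  rfl

theorem iotaQ_C (K' : Subfield K) (a : K') : iotaQ p σ K' (C a) = C (a : K) := by
  rw [iotaQ_apply, map_C, expand_C]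
  rfl

theorem coeff_iotaQ_smul (K' : Subfield K) (g : MvPolynomial σ K') (e : σ →₀ ℕ) :
    coeff (p • e) (iotaQ p σ K' g) = ((coeff e g : K') : K) := by
  rw [iotaQ_apply, coeff_expand_smul p hp.out.ne_zero, coeff_map]
  rfl

theorem coeff_iotaQ_of_not_dvd (K' : Subfield K) (g : MvPolynomial σ K') {e : σ →₀ ℕ}
    {i : σ} (h : ¬ p ∣ e i) : coeff e (iotaQ p σ K' g) = 0 := by
  rw [iotaQ_apply]
  exact coeff_expand_of_not_dvd _ h

theorem iotaQ_injective (K' : Subfield K) : Function.Injective (iotaQ p σ K') := by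
  intro g₁ g₂ h
  apply MvPolynomial.ext
  intro e
  have := congrArg (coeff (p • e)) h
  rw [coeff_iotaQ_smul, coeff_iotaQ_smul] at this
  exact Subtype.ext this

/-- exponent vectors divisible by `p`. -/
theorem smul_div_eq (e : σ →₀ ℕ) (h : ∀ i, p ∣ e i) :
    p • (e.mapRange (· / p) (by simp)) = e := by
  ext i
  simp only [Finsupp.smul_apply, Finsupp.mapRange_apply, smul_eq_mul]
  exact Nat.mul_div_cancel' (h i)

theorem mem_range_iotaQ_iff (K' : Subfield K) (f : MvPolynomial σ K) :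
    f ∈ Set.range (iotaQ p σ K') ↔
      (∀ e, coeff e f ∈ K') ∧ ∀ e : σ →₀ ℕ, (∃ i, ¬ p ∣ e i) → coeff e f = 0 := by
  constructor
  · rintro ⟨g, rfl⟩
    refine ⟨fun e => ?_, fun e ⟨i, hi⟩ => coeff_iotaQ_of_not_dvd p σ K' g hi⟩
    by_cases h : ∀ i, p ∣ e i
    · rw [← smul_div_eq p σ e h, coeff_iotaQ_smul]
      exact (coeff _ g).2
    · push Not at h
      obtain ⟨i, hi⟩ := h
      rw [coeff_iotaQ_of_not_dvd p σ K' g hi]
      exact zero_mem _
  · rintro ⟨h1, h2⟩
    refine ⟨∑ e ∈ f.support, monomial (e.mapRange (· / p) (by simp)) ⟨coeff e f, h1 e⟩, ?_⟩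
    rw [map_sum]
    conv_rhs => rw [← support_sum_monomial_coeff f]
    refine Finset.sum_congr rfl fun e he => ?_
    rw [iotaQ_monomial]
    have hdiv : ∀ i, p ∣ e i := by
      by_contra hcon
      push Not at hcon
      exact (mem_support_iff.mp he) (h2 e hcon)
    rw [smul_div_eq p σ e hdiv]

theorem range_iotaQ_mono {K₁ K₂ : Subfield K} (h : K₁ ≤ K₂) :
    Set.range (iotaQ p σ K₁) ⊆ Set.range (iotaQ p σ K₂) := by
  intro f hf
  rw [mem_range_iotaQ_iff] at hf ⊢
  exact ⟨fun e => h (hf.1 e), hf.2⟩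

theorem pow_eq_expand (x : MvPolynomial σ K) :
    x ^ p = MvPolynomial.expand p (MvPolynomial.map (frobenius K p) x) := by
  rw [← MvPolynomial.map_expand, MvPolynomial.map_frobenius_expand]

theorem pow_mem_range_iotaQ (K' : Subfield K) (hK' : ∀ y : K, y ^ p ∈ K')
    (x : MvPolynomial σ K) : x ^ p ∈ Set.range (iotaQ p σ K') := by
  have h1 := pow_eq_expand p σ x
  rw [mem_range_iotaQ_iff]
  constructor
  · intro e
    by_cases h : ∀ i, p ∣ e i
    · rw [← smul_div_eq p σ e h, h1, coeff_expand_smul p hp.out.ne_zero, coeff_map, frobenius_def]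
      exact hK' _
    · push Not at h
      obtain ⟨i, hi⟩ := h
      rw [h1, coeff_expand_of_not_dvd _ hi]
      exact zero_mem _
  · rintro e ⟨i, hi⟩
    rw [h1, coeff_expand_of_not_dvd _ hi]

/-- a polynomial in every `K_i[Y^p]`, with `⋂ K_i = K^p`, is a `p`-th power. -/
theorem exists_pow_eq_of_forall_mem_range_iotaQ {ι : Type*} [Nonempty ι] (E : ι → Subfield K)
    (hE : ∀ x : K, (∀ i, x ∈ E i) → ∃ y : K, y ^ p = x)
    (f : MvPolynomial σ K) (hf : ∀ i, f ∈ Set.range (iotaQ p σ (E i))) :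
    ∃ g : MvPolynomial σ K, g ^ p = f := by
  have h1 : ∀ e, ∃ y : K, y ^ p = coeff e f := fun e =>
    hE _ fun i => ((mem_range_iotaQ_iff p σ (E i) f).mp (hf i)).1 _
  choose y hy using h1
  refine ⟨∑ e ∈ f.support, monomial (e.mapRange (· / p) (by simp)) (y e), ?_⟩
  rw [pow_eq_expand, map_sum, map_sum]
  conv_rhs => rw [← support_sum_monomial_coeff f]
  refine Finset.sum_congr rfl fun e he => ?_
  rw [map_monomial, expand_monomial, frobenius_def, hy]
  have hdiv : ∀ i, p ∣ e i := by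
    by_contra hcon
    push Not at hcon
    obtain ⟨j⟩ := ‹Nonempty ι›
    exact (mem_support_iff.mp he) (((mem_range_iotaQ_iff p σ (E j) f).mp (hf j)).2 e hcon)
  rw [smul_div_eq p σ e hdiv]

end iotaQ

section Mfld
variable {K : Type u} [Field K] (p : ℕ) [hp : Fact p.Prime] [CharP K p] (σ : Type v)
  (MM : Type*) [Field MM] [Algebra (MvPolynomial σ K) MM] [IsFractionRing (MvPolynomial σ K) MM]
  [CharP MM p]

local notation "PP" => MvPolynomial σ K

/-- the ring map `K'[Y] → Frac K[Y]`. -/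
noncomputable def jQ (K' : Subfield K) : MvPolynomial σ K' →+* MM :=
  (algebraMap PP MM).comp (iotaQ p σ K')

theorem jQ_injective (K' : Subfield K) : Function.Injective (jQ p σ MM K') :=
  (IsFractionRing.injective PP MM).comp (iotaQ_injective p σ K')

/-- the subfield `Frac(K'[Y^p])` of `Frac(K[Y])`. -/
noncomputable def Mfld (K' : Subfield K) : Subfield MM :=
  Subfield.closure (Set.range (jQ p σ MM K'))

theorem mem_Mfld_iff (K' : Subfield K) (x : MM) :
    x ∈ Mfld p σ MM K' ↔ ∃ a b : MvPolynomial σ K', jQ p σ MM K' a / jQ p σ MM K' b = x := by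
  unfold Mfld
  rw [Subfield.mem_closure_iff]
  have h1 : Subring.closure (Set.range (jQ p σ MM K')) = (jQ p σ MM K').range := by
    rw [← RingHom.coe_range, Subring.closure_eq]
  rw [h1]
  constructor
  · rintro ⟨y, ⟨a, rfl⟩, z, ⟨b, rfl⟩, rfl⟩
    exact ⟨a, b, rfl⟩
  · rintro ⟨a, b, rfl⟩
    exact ⟨_, ⟨a, rfl⟩, _, ⟨b, rfl⟩, rfl⟩

theorem jQ_mem_Mfld (K' : Subfield K) (a : MvPolynomial σ K') : jQ p σ MM K' a ∈ Mfld p σ MM K' :=
  Subfield.subset_closure ⟨a, rfl⟩

theorem algebraMap_C_mem_Mfld (K' : Subfield K) (a : K) (ha : a ∈ K') :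
    algebraMap PP MM (C a) ∈ Mfld p σ MM K' := by
  have := jQ_mem_Mfld p σ MM K' (C (⟨a, ha⟩ : K'))
  unfold jQ at this
  rwa [RingHom.comp_apply, iotaQ_C] at this

theorem Mfld_mono {K₁ K₂ : Subfield K} (h : K₁ ≤ K₂) : Mfld p σ MM K₁ ≤ Mfld p σ MM K₂ := by
  unfold Mfld
  apply Subfield.closure_mono
  rintro _ ⟨a, rfl⟩
  obtain ⟨b, hb⟩ := range_iotaQ_mono p σ h ⟨a, rfl⟩
  exact ⟨b, by unfold jQ; rw [RingHom.comp_apply, RingHom.comp_apply, hb]⟩

theorem algebraMap_pow_mem_Mfld (K' : Subfield K) (hK' : ∀ y : K, y ^ p ∈ K') (x : PP) :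
    algebraMap PP MM (x ^ p) ∈ Mfld p σ MM K' := by
  obtain ⟨g, hg⟩ := pow_mem_range_iotaQ p σ K' hK' x
  rw [← hg]
  exact jQ_mem_Mfld p σ MM K' g

theorem pow_mem_Mfld (K' : Subfield K) (hK' : ∀ y : K, y ^ p ∈ K') (x : MM) :
    x ^ p ∈ Mfld p σ MM K' := by
  obtain ⟨a, b, hb, rfl⟩ := IsFractionRing.div_surjective (A := PP) x
  rw [div_pow, ← map_pow, ← map_pow]
  exact (Mfld p σ MM K').div_mem (algebraMap_pow_mem_Mfld p σ MM K' hK' a)
    (algebraMap_pow_mem_Mfld p σ MM K' hK' b)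

/-- `Frac(K'[Y^p]) ∩ K[Y] = K'[Y^p]`. -/
theorem mem_range_of_mem_Mfld (K' : Subfield K) (hK' : ∀ y : K, y ^ p ∈ K') (x : PP)
    (hx : algebraMap PP MM x ∈ Mfld p σ MM K') : x ∈ Set.range (iotaQ p σ K') := by
  rw [mem_Mfld_iff] at hx
  obtain ⟨a, b, hab⟩ := hx
  by_cases hb : b = 0
  · rw [hb, map_zero, div_zero] at hab
    have : x = 0 := (IsFractionRing.injective PP MM) (by rw [← hab, map_zero])
    exact ⟨0, by rw [map_zero, this]⟩
  let J : FractionRing (MvPolynomial σ K') →+* MM :=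
    IsFractionRing.lift (jQ_injective p σ MM K')
  have hJ : ∀ a : MvPolynomial σ K', J (algebraMap _ _ a) = jQ p σ MM K' a := fun a =>
    IsFractionRing.lift_algebraMap _ a
  set y : FractionRing (MvPolynomial σ K') :=
    algebraMap (MvPolynomial σ K') _ a / algebraMap (MvPolynomial σ K') _ b with hy
  have hJy : J y = algebraMap PP MM x := by
    rw [hy, map_div₀, hJ, hJ, hab]
  obtain ⟨g, hg⟩ := pow_mem_range_iotaQ p σ K' hK' x
  have hyp : y ^ p = algebraMap (MvPolynomial σ K') _ g := by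
    apply J.injective
    rw [map_pow, hJy, hJ, ← map_pow, ← hg]
    rfl
  have hint : IsIntegral (MvPolynomial σ K') y := by
    refine ⟨Polynomial.X ^ p - Polynomial.C g, Polynomial.monic_X_pow_sub_C g hp.out.ne_zero, ?_⟩
    rw [Polynomial.eval₂_sub, Polynomial.eval₂_pow, Polynomial.eval₂_X, Polynomial.eval₂_C, hyp,
      sub_self]
  obtain ⟨y₀, hy₀⟩ := IsIntegrallyClosed.isIntegral_iff.mp hint
  refine ⟨y₀, ?_⟩
  apply IsFractionRing.injective PP MM
  rw [← hJy, ← hy₀, hJ]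
  rfl

/-- **Polynomial layer of admissibility**: if `⋂ E i = K^p` (with `K^p ⊆ E i`) then
`⋂ Frac((E i)[Y^p]) = Frac(K[Y])^p`. -/
theorem exists_pow_eq_of_forall_mem_Mfld {ι : Type*} [Nonempty ι] (E : ι → Subfield K)
    (hpow : ∀ i, ∀ y : K, y ^ p ∈ E i)
    (hE : ∀ x : K, (∀ i, x ∈ E i) → ∃ y : K, y ^ p = x) (x : MM)
    (hx : ∀ i, x ∈ Mfld p σ MM (E i)) : ∃ y : MM, y ^ p = x := by
  obtain ⟨u, w, hw, rfl⟩ := IsFractionRing.div_surjective (A := PP) x
  have hw0 : w ≠ 0 := nonZeroDivisors.ne_zero hw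
  have hw0' : algebraMap PP MM w ≠ 0 := by
    intro h
    exact hw0 ((IsFractionRing.injective PP MM) (by rw [h, map_zero]))
  have hp1 : p - 1 + 1 = p := Nat.sub_add_cancel hp.out.one_le
  have hmem : ∀ i, u * w ^ (p - 1) ∈ Set.range (iotaQ p σ (E i)) := by
    intro i
    apply mem_range_of_mem_Mfld p σ MM (E i) (hpow i)
    have h1 : algebraMap PP MM (u * w ^ (p - 1)) =
        (algebraMap PP MM u / algebraMap PP MM w) * algebraMap PP MM (w ^ p) := by
      rw [map_mul, map_pow, map_pow]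
      field_simp
      rw [mul_assoc, ← pow_succ, hp1]
    rw [h1]
    exact (Mfld p σ MM (E i)).mul_mem (hx i) (algebraMap_pow_mem_Mfld p σ MM (E i) (hpow i) w)
  obtain ⟨g, hg⟩ := exists_pow_eq_of_forall_mem_range_iotaQ p σ E hE _ hmem
  refine ⟨algebraMap PP MM g / algebraMap PP MM w, ?_⟩
  rw [div_pow, ← map_pow, hg, map_mul, map_pow]
  field_simp
  rw [mul_assoc, ← pow_succ, hp1]

end Mfld

end Groth.Agent.Helper7.CKd
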