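import Mathlib
set_option linter.style.haveILetI false
set_option linter.unusedSectionVars false
set_option linter.unusedVariables false
open MvPolynomial
universe u
namespace Groth.Agent.Helper7.CKd

/-- a finitely generated field extension is finite over the purely transcendental subextension
generated by a transcendence basis. -/
theorem finiteDimensional_of_transcendenceBasis {KK L : Type u} [Field KK] [Field L] [Algebra KK L]
    {ι : Type u} (x : ι → L) (hx : IsTranscendenceBasis KK x)
    (M₀ : Type u) [Field M₀] [Algebra (MvPolynomial ι KK) M₀]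
    [IsFractionRing (MvPolynomial ι KK) M₀]
    [Algebra M₀ L] [Algebra (MvPolynomial ι KK) L] [IsScalarTower (MvPolynomial ι KK) M₀ L]
    (hP : ∀ q, algebraMap (MvPolynomial ι KK) L q = MvPolynomial.aeval x q)
    (s : Finset L)
    (hs : ∀ z : L, z ∈ Subfield.closure (Set.range (algebraMap KK L) ∪ (s : Set L))) :
    FiniteDimensional M₀ L := by
  haveI h1 : Algebra.IsAlgebraic (Algebra.adjoin KK (Set.range x)) L := hx.isAlgebraic
  haveI h2 : Algebra.IsAlgebraic (MvPolynomial ι KK) L := by
    refine Algebra.IsAlgebraic.of_ringHom_of_comp_eq (S := Algebra.adjoin KK (Set.range x)) (B := L)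
      (hx.1.aevalEquiv : MvPolynomial ι KK →+* _) (RingHom.id L) hx.1.aevalEquiv.surjective
      Function.injective_id ?_
    ext q
    · simp only [RingHom.comp_apply, RingHom.id_apply]
      rw [hP]
      rfl
    · simp only [RingHom.comp_apply, RingHom.id_apply]
      rw [hP]
      rfl
  haveI h3 : Algebra.IsAlgebraic M₀ L :=
    Algebra.IsAlgebraic.extendScalars (R := MvPolynomial ι KK)
      (IsFractionRing.injective (MvPolynomial ι KK) M₀)
  have htop : IntermediateField.adjoin M₀ (s : Set L) = ⊤ := by
    rw [eq_top_iff]
    intro z _
    have hle : Subfield.closure (Set.range (algebraMap KK L) ∪ (s : Set L)) ≤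
        (IntermediateField.adjoin M₀ (s : Set L)).toSubfield := by
      rw [Subfield.closure_le]
      rintro y (⟨c, rfl⟩ | hy)
      · have : algebraMap KK L c = algebraMap M₀ L (algebraMap (MvPolynomial ι KK) M₀ (C c)) := by
          rw [← IsScalarTower.algebraMap_apply, hP, aeval_C]
        rw [this]
        exact IntermediateField.algebraMap_mem _ _
      · exact IntermediateField.subset_adjoin M₀ _ hy
    exact hle (hs z)
  haveI : FiniteDimensional M₀ (IntermediateField.adjoin M₀ (s : Set L)) :=
    IntermediateField.finiteDimensional_adjoin fun y _ =>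
      (Algebra.IsAlgebraic.isAlgebraic y).isIntegral
  rw [htop] at this
  exact Module.Finite.equiv (IntermediateField.topEquiv (F := M₀) (E := L)).toLinearEquiv

end Groth.Agent.Helper7.CKd
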