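import Mathlib
import Groth.Agent.Helper7.CKm2
import Groth.Agent.Helper7.CKm3
import Groth.Agent.Helper7.CKm4
import Groth.Agent.Helper7.CKB1
import Groth.Agent.Helper7.CKB2
import Groth.Agent.Helper7.CKB3
import Groth.Agent.Helper7.CKB4
import Groth.Agent.Helper7.CKB5
set_option linter.style.haveILetI false
set_option linter.unusedSectionVars false
set_option linter.unusedVariables false
open MvPolynomial
universe u
namespace Groth.Agent.Helper7.CKd

section core
variable {k : Type u} [Field k] (p : ℕ) [hp : Fact p.Prime] [CharP k p] (r : ℕ)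
  {B : Type u} [CommRing B] [IsDomain B] [CharP B p]
  [Algebra (MvPowerSeries (Fin r) k) B] [Algebra.FiniteType (MvPowerSeries (Fin r) k) B]

local notation "R₀" => MvPowerSeries (Fin r) k
local notation "LL" => FractionRing B
local notation "KK" => FractionRing (MvPowerSeries (Fin r) k)

set_option maxHeartbeats 1600000 in
/-- the core case of Stacks 07PE: `B` of finite type over `k[[x]]`. -/
theorem exists_derivation_core
    (hinj : Function.Injective (algebraMap (MvPowerSeries (Fin r) k) B))
    (f : B) (hf : ∀ x : FractionRing B, x ^ p ≠ algebraMap B (FractionRing B) f) :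
    ∃ D : Derivation ℤ B B, D f ≠ 0 := by
  classical
  haveI : CharP LL p := charP_of_injective_algebraMap (IsFractionRing.injective B LL) p
  haveI : IsDomain R₀ := hinj.isDomain _
  have hinjL : Function.Injective (algebraMap R₀ LL) := by
    rw [IsScalarTower.algebraMap_eq R₀ B LL]
    exact (IsFractionRing.injective B LL).comp hinj
  letI algKL : Algebra KK LL := (IsFractionRing.lift hinjL).toAlgebra
  haveI : IsScalarTower R₀ KK LL :=
    IsScalarTower.of_algebraMap_eq (fun y => (IsFractionRing.lift_algebraMap hinjL y).symm)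
  haveI : CharP KK p := RingHom.charP (algebraMap KK LL) (algebraMap KK LL).injective p
  -- transcendence basis
  obtain ⟨ι, x, hx⟩ := exists_isTranscendenceBasis' (R := KK) (A := LL)
  letI algPL : Algebra (MvPolynomial ι KK) LL := (aeval x : MvPolynomial ι KK →ₐ[KK] LL).toRingHom.toAlgebra
  have hP : ∀ q, algebraMap (MvPolynomial ι KK) LL q = aeval x q := fun q => rfl
  have hinjP : Function.Injective (algebraMap (MvPolynomial ι KK) LL) := hx.1
  letI algML : Algebra (FractionRing (MvPolynomial ι KK)) LL := (IsFractionRing.lift hinjP).toAlgebra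
  haveI : IsScalarTower (MvPolynomial ι KK) (FractionRing (MvPolynomial ι KK)) LL :=
    IsScalarTower.of_algebraMap_eq (fun y => (IsFractionRing.lift_algebraMap hinjP y).symm)
  haveI : CharP (FractionRing (MvPolynomial ι KK)) p :=
    RingHom.charP (algebraMap (FractionRing (MvPolynomial ι KK)) LL)
      (algebraMap (FractionRing (MvPolynomial ι KK)) LL).injective p
  -- generators
  obtain ⟨s, hs⟩ := (Algebra.FiniteType.out : (⊤ : Subalgebra R₀ B).FG)
  have hRK : ∀ y : R₀, algebraMap B LL (algebraMap R₀ B y) = algebraMap KK LL (algebraMap R₀ KK y) :=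
    fun y => by rw [← IsScalarTower.algebraMap_apply, ← IsScalarTower.algebraMap_apply]
  have hKM : ∀ c : KK, algebraMap KK LL c = algebraMap (FractionRing (MvPolynomial ι KK)) LL
      (algebraMap (MvPolynomial ι KK) (FractionRing (MvPolynomial ι KK)) (C c)) := fun c => by
    rw [← IsScalarTower.algebraMap_apply, hP, aeval_C]
  have hgenB : ∀ b : B, algebraMap B LL b ∈
      Subfield.closure (Set.range (algebraMap KK LL) ∪ ((s.image (algebraMap B LL) : Finset LL) : Set LL)) := by
    intro b
    have hb : b ∈ Algebra.adjoin R₀ (s : Set B) := by rw [hs]; exact Algebra.mem_top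
    induction hb using Algebra.adjoin_induction with
    | mem b hb =>
      apply Subfield.subset_closure
      right
      exact Finset.mem_coe.mpr (Finset.mem_image_of_mem _ hb)
    | algebraMap y =>
      apply Subfield.subset_closure
      left
      exact ⟨algebraMap R₀ KK y, (hRK y).symm⟩
    | add a b _ _ ha hb => rw [map_add]; exact Subfield.add_mem _ ha hb
    | mul a b _ _ ha hb => rw [map_mul]; exact Subfield.mul_mem _ ha hb
  have hgen : ∀ z : LL, z ∈
      Subfield.closure (Set.range (algebraMap KK LL) ∪ ((s.image (algebraMap B LL) : Finset LL) : Set LL)) := by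
    intro z
    obtain ⟨a, b, hb, rfl⟩ := IsFractionRing.div_surjective (A := B) z
    exact Subfield.div_mem _ (hgenB a) (hgenB b)
  haveI hfd : FiniteDimensional (FractionRing (MvPolynomial ι KK)) LL :=
    finiteDimensional_of_transcendenceBasis x hx (FractionRing (MvPolynomial ι KK)) hP _ hgen
  -- the family of subfields
  obtain ⟨ι', _, _, _, kk, hanti, hkpow, hkfin, hkint⟩ := exists_family (k := k) p
  have hKpow : ∀ α, ∀ y : KK, y ^ p ∈ Kf p r (kk α) := fun α y =>
    frobenius_le_Kf p r (kk α) (hkpow α) ⟨y, frobenius_def _ _⟩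
  have hKint : ∀ z : KK, (∀ α, z ∈ Kf p r (kk α)) → ∃ y : KK, y ^ p = z := by
    intro z hz
    have h1 : z ∈ ⨅ α, (Kf p r (kk α) ⊔ (frobenius KK p).fieldRange) := by
      rw [Subfield.mem_iInf]
      intro α
      exact (le_sup_left : Kf p r (kk α) ≤ _) (hz α)
    rw [iInf_Kf p r kk hkpow hkint] at h1
    obtain ⟨y, hy⟩ := h1
    exact ⟨y, by rw [← hy, frobenius_def]⟩
  set E : ι' → Subfield (FractionRing (MvPolynomial ι KK)) := fun α =>
    Mfld p ι (FractionRing (MvPolynomial ι KK)) (Kf p r (kk α)) with hEdef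
  have hEdir : ∀ a b, ∃ c, E c ≤ E a ⊓ E b := by
    intro a b
    obtain ⟨c, hac, hbc⟩ := directed_of (· ≤ ·) a b
    exact ⟨c, le_inf (Mfld_mono p ι _ (Kf_mono p r (hanti hac)))
      (Mfld_mono p ι _ (Kf_mono p r (hanti hbc)))⟩
  have hEpow : ∀ α, ∀ y : FractionRing (MvPolynomial ι KK), y ^ p ∈ E α := fun α y =>
    pow_mem_Mfld p ι _ (Kf p r (kk α)) (hKpow α) y
  have hEint : ∀ z : FractionRing (MvPolynomial ι KK), (∀ α, z ∈ E α) → ∃ y, y ^ p = z :=
    fun z hz => exists_pow_eq_of_forall_mem_Mfld p ι _ (fun α => Kf p r (kk α)) hKpow hKint z hz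
  have hLint := exists_pow_eq_of_forall_mem_closure (M := FractionRing (MvPolynomial ι KK))
    (L := LL) p E hEdir hEpow hEint
  obtain ⟨α, hα⟩ : ∃ α, algebraMap B LL f ∉
      Subfield.closure (((frobenius LL p).fieldRange : Set LL) ∪
        (algebraMap (FractionRing (MvPolynomial ι KK)) LL) '' (E α : Set _)) := by
    by_contra hcon
    push Not at hcon
    obtain ⟨y, hy⟩ := hLint _ hcon
    exact hf y hy
  -- the derivation of `Frac B`
  obtain ⟨D, hDf, hD0⟩ := exists_derivation_of_not_mem (L := LL) p
    (Subfield.closure (((frobenius LL p).fieldRange : Set LL) ∪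
        (algebraMap (FractionRing (MvPolynomial ι KK)) LL) '' (E α : Set _)))
    (fun z => Subfield.subset_closure (Or.inl ⟨z, frobenius_def _ _⟩)) (algebraMap B LL f) hα
  -- descend to `B`
  haveI := hkfin α
  letI algAR : Algebra (MvPowerSeries (Fin r) (kk α)) R₀ := (iota p r (kk α)).toAlgebra
  letI algAB : Algebra (MvPowerSeries (Fin r) (kk α)) B :=
    ((algebraMap R₀ B).comp (iota p r (kk α))).toAlgebra
  haveI : IsScalarTower (MvPowerSeries (Fin r) (kk α)) R₀ B :=
    IsScalarTower.of_algebraMap_eq (fun _ => rfl)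
  haveI : Module.Finite (MvPowerSeries (Fin r) (kk α)) R₀ := iota_finite p r (kk α)
  haveI : Algebra.FiniteType (MvPowerSeries (Fin r) (kk α)) B :=
    Algebra.FiniteType.trans (inferInstance : Algebra.FiniteType (MvPowerSeries (Fin r) (kk α)) R₀)
      inferInstance
  refine exists_derivation_of_fraction (A := MvPowerSeries (Fin r) (kk α)) D ?_ f hDf
  intro a
  apply hD0
  apply Subfield.subset_closure
  right
  refine ⟨algebraMap (MvPolynomial ι KK) (FractionRing (MvPolynomial ι KK))
    (C (jmap p r (kk α) a)), ?_, ?_⟩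
  · exact algebraMap_C_mem_Mfld p ι _ (Kf p r (kk α)) _ (jmap_mem_Kf p r (kk α) a)
  · rw [← hKM]
    show algebraMap KK LL (algebraMap R₀ KK (iota p r (kk α) a)) = _
    rw [← hRK]
    rfl

end core

end Groth.Agent.Helper7.CKd
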