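import Mathlib
import Groth.Agent.Helper7.CKB6
import Groth.Agent.Helper7.CKm7
import Groth.Agent.Helper7.CohenV1
import Groth.Agent.S0581
set_option linter.style.haveILetI false
set_option linter.unusedSectionVars false
set_option linter.unusedVariables false
open IsLocalRing
universe u
namespace Groth.Agent.Helper7.CKd

/-- Stacks 07PE: derivations detect non-`p`-th powers in finite type domains over complete local
rings. -/
theorem s2048 {R B : Type u} [CommRing R] [IsLocalRing R]
    [IsNoetherianRing R] [IsAdicComplete (IsLocalRing.maximalIdeal R) R] [CommRing B] [IsDomain B]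
    [Algebra R B] [Algebra.FiniteType R B] (p : ℕ) [hp : Fact p.Prime] [CharP B p] (f : B)
    (hf : ∀ x : FractionRing B, x ^ p ≠ algebraMap B (FractionRing B) f) :
    ∃ D : Derivation ℤ B B, D f ≠ 0 := by
  let φ : R →+* B := algebraMap R B
  haveI : (RingHom.ker φ).IsPrime := RingHom.ker_isPrime φ
  haveI : IsLocalRing (R ⧸ RingHom.ker φ) :=
    IsLocalRing.of_surjective' (Ideal.Quotient.mk (RingHom.ker φ)) Ideal.Quotient.mk_surjective
  haveI : IsAdicComplete (maximalIdeal (R ⧸ RingHom.ker φ)) (R ⧸ RingHom.ker φ) :=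
    Groth.Agent.Helper7.Cohen.isAdicComplete_quotient _
  letI : Algebra (R ⧸ RingHom.ker φ) B := (RingHom.kerLift φ).toAlgebra
  haveI : IsScalarTower R (R ⧸ RingHom.ker φ) B := IsScalarTower.of_algebraMap_eq (fun a => rfl)
  haveI : Algebra.FiniteType (R ⧸ RingHom.ker φ) B :=
    Algebra.FiniteType.of_restrictScalars_finiteType R (R ⧸ RingHom.ker φ) B
  have hinj' : Function.Injective (algebraMap (R ⧸ RingHom.ker φ) B) := RingHom.kerLift_injective φ
  haveI : CharP (R ⧸ RingHom.ker φ) p := RingHom.charP _ hinj' p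
  obtain ⟨Λ, _, n, g, hΛ, hginj, hgfin, -⟩ := Groth.Agent.S0581.result (R ⧸ RingHom.ker φ)
  haveI : CharP (MvPowerSeries (Fin n) Λ) p := RingHom.charP g hginj p
  haveI : CharP Λ p := RingHom.charP (MvPowerSeries.C (σ := Fin n) (R := Λ))
    MvPowerSeries.C_injective p
  rcases hΛ with h | h
  · letI : Field Λ := h.toField
    letI : Algebra (MvPowerSeries (Fin n) Λ) (R ⧸ RingHom.ker φ) := g.toAlgebra
    letI : Algebra (MvPowerSeries (Fin n) Λ) B :=
      ((algebraMap (R ⧸ RingHom.ker φ) B).comp g).toAlgebra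
    haveI : IsScalarTower (MvPowerSeries (Fin n) Λ) (R ⧸ RingHom.ker φ) B :=
      IsScalarTower.of_algebraMap_eq (fun _ => rfl)
    haveI : Module.Finite (MvPowerSeries (Fin n) Λ) (R ⧸ RingHom.ker φ) := hgfin
    haveI : Algebra.FiniteType (MvPowerSeries (Fin n) Λ) B :=
      Algebra.FiniteType.trans
        (inferInstance : Algebra.FiniteType (MvPowerSeries (Fin n) Λ) (R ⧸ RingHom.ker φ))
        inferInstance
    exact exists_derivation_core p n (hinj'.comp hginj) f hf
  · exact (not_charP_of_isCohenRing Λ h p hp.out).elim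

end Groth.Agent.Helper7.CKd
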