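import Mathlib
import Groth.Prelude
import Groth.Agent.Helper7.J2E
import Groth.Agent.Helper7.GenSmooth
import Groth.Agent.Helper1.FieldSmooth7
import Groth.Agent.Helper7.J2B
import Groth.Agent.Helper8.GenFree6

/-!
# Nonempty open subsets of the regular locus: ascent along separable finite type extensions
-/

set_option autoImplicit false
set_option linter.style.haveILetI false
set_option linter.unusedSectionVars false
universe u

namespace Groth.Agent.Helper7.J2

open TensorProduct PrimeSpectrum

theorem s2688 (A A' : Type u) [CommRing A] [CommRing A'] [IsDomain A] [IsDomain A']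
    [IsNoetherianRing A] [Algebra A A']
    [FaithfulSMul A A'] [Algebra.FiniteType A A'] [Algebra (FractionRing A) (FractionRing A')]
    [IsScalarTower A (FractionRing A) (FractionRing A')]
    [Algebra.IsGeometricallyReduced (FractionRing A) (FractionRing A')]
    (h : ∃ U : Set (PrimeSpectrum A), IsOpen U ∧ U.Nonempty ∧ U ⊆ EGA4.regLocus A) :
    ∃ U' : Set (PrimeSpectrum A'), IsOpen U' ∧ U'.Nonempty ∧ U' ⊆ EGA4.regLocus A' := by
  classical
  obtain ⟨U, hU, hne, hsub⟩ := h
  obtain ⟨a, ha0, hareg⟩ := exists_basicOpen_of_open U hU hne hsub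
  haveI : Algebra.FormallySmooth (FractionRing A) (FractionRing A') :=
    Groth.Agent.Helper1.FieldSmooth.formallySmooth_iff_isGeometricallyReduced.mpr inferInstance
  haveI : Algebra.FormallyEtale A (FractionRing A) :=
    Algebra.FormallyEtale.of_isLocalization (nonZeroDivisors A)
  haveI : Algebra.FormallySmooth A (FractionRing A') :=
    Algebra.FormallySmooth.comp A (FractionRing A) (FractionRing A')
  haveI : Algebra.FinitePresentation A A' := Algebra.FinitePresentation.of_finiteType.mp inferInstance
  obtain ⟨g, hg0, hsm⟩ := GenSmooth.exists_away' A A' (FractionRing A')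
  haveI : Algebra.Smooth A (Localization.Away g) := hsm _
  have hinj : Function.Injective (algebraMap A A') := FaithfulSMul.algebraMap_injective A A'
  have ha' : algebraMap A A' a ≠ 0 := fun h0 => ha0 (hinj (h0.trans (map_zero _).symm))
  apply exists_open_of_basicOpen (g * algebraMap A A' a) (mul_ne_zero hg0 ha')
  intro Q hQ hgQ
  have hgQ' : g ∉ Q := fun h => hgQ (Q.mul_mem_right _ h)
  have haQ : algebraMap A A' a ∉ Q := fun h => hgQ (Q.mul_mem_left _ h)
  -- the prime of the localization
  have hdisj : Disjoint (Submonoid.powers g : Set A') (Q : Set A') := by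
    rw [Set.disjoint_left]
    rintro _ ⟨n, rfl⟩ hQn
    exact hgQ' (Ideal.IsPrime.mem_of_pow_mem inferInstance n hQn)
  set Q' := Q.map (algebraMap A' (Localization.Away g)) with hQ'
  haveI : Q'.IsPrime :=
    IsLocalization.isPrime_of_isPrime_disjoint (Submonoid.powers g) _ Q inferInstance hdisj
  have hcomap : Q'.comap (algebraMap A' (Localization.Away g)) = Q :=
    IsLocalization.under_map_of_isPrime_disjoint (Submonoid.powers g) _ inferInstance hdisj
  have hcomapA : Q'.comap (algebraMap A (Localization.Away g)) = Q.comap (algebraMap A A') := by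
    rw [IsScalarTower.algebraMap_eq A A' (Localization.Away g), ← Ideal.comap_comap, hcomap]
  have hP : IsRegularLocalRing
      (Localization.AtPrime (Q'.comap (algebraMap A (Localization.Away g)))) := by
    have h1 : IsRegularLocalRing (Localization.AtPrime (Q.comap (algebraMap A A'))) :=
      hareg _ (fun h => haQ h)
    exact Groth.Agent.Helper2.RegHom.transport hcomapA.symm h1
  have hQ'reg : IsRegularLocalRing (Localization.AtPrime Q') :=
    regular_of_smooth_at A (Localization.Away g) Q' hP
  obtain ⟨e⟩ := Groth.Agent.Helper2.SepAlg.nonempty_locEquiv (Submonoid.powers g)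
    (Localization.Away g) Q'
  have h1 : IsRegularLocalRing
      (Localization.AtPrime (Q'.comap (algebraMap A' (Localization.Away g)))) :=
    IsRegularLocalRing.of_ringEquiv (R := Localization.AtPrime Q') e.symm
  exact Groth.Agent.Helper2.RegHom.transport hcomap h1

theorem s9255 (R S : Type u) [CommRing R]
    [IsDomain R] [IsNoetherianRing R] [CommRing S] [IsDomain S] [Algebra R S] [Algebra.FiniteType R S]
    (hinj : Function.Injective (algebraMap R S))
    (hS : ∃ U : Set (PrimeSpectrum S), IsOpen U ∧ U.Nonempty ∧ U ⊆ EGA4.regLocus S) :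
    ∃ U : Set (PrimeSpectrum R), IsOpen U ∧ U.Nonempty ∧ U ⊆ EGA4.regLocus R := by
  classical
  obtain ⟨U, hU, hne, hsub⟩ := hS
  obtain ⟨s, hs0, hsreg⟩ := exists_basicOpen_of_open U hU hne hsub
  haveI : IsNoetherianRing S := Algebra.FiniteType.isNoetherianRing R S
  set B := Localization.Away s with hB
  haveI : IsRegularRing B := by
    apply isRegularRing_away (Submonoid.powers s) B
    intro Q hQ hdisj
    apply hsreg Q
    intro hsQ
    exact Set.disjoint_left.mp hdisj ⟨1, pow_one s⟩ hsQ
  have hsle : Submonoid.powers s ≤ nonZeroDivisors S :=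
    powers_le_nonZeroDivisors_of_noZeroDivisors hs0
  haveI : IsDomain B := IsLocalization.isDomain_localization hsle
  haveI : Algebra.FiniteType S B := IsLocalization.finiteType_of_monoid_fg (Submonoid.powers s) B
  haveI : Algebra.FiniteType R B := Algebra.FiniteType.trans (R := R) (S := S) (A := B) inferInstance inferInstance
  have hinjB : Function.Injective (algebraMap R B) := by
    rw [IsScalarTower.algebraMap_eq R S B]
    exact (IsLocalization.injective B hsle).comp hinj
  obtain ⟨g, hg0, hGF⟩ := Groth.Agent.Helper8.GenFree.genericFreeness R B B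
  apply exists_open_of_basicOpen g hg0
  set M := Submonoid.powers g with hM
  set S' := Localization (Algebra.algebraMapSubmonoid B M) with hS'
  haveI : IsLocalizedModule M (IsScalarTower.toAlgHom R B S').toLinearMap :=
    (isLocalizedModule_iff_isLocalization).mpr inferInstance
  haveI : Module.Free (Localization M) S' :=
    hGF.free_of_isLocalizedModule (Localization M) S' (IsScalarTower.toAlgHom R B S').toLinearMap
  haveI : IsDomain S' := by
    apply IsLocalization.isDomain_localization (M := Algebra.algebraMapSubmonoid B M)
    rintro _ ⟨_, ⟨n, rfl⟩, rfl⟩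
    rw [mem_nonZeroDivisors_iff_ne_zero]
    intro h0
    exact pow_ne_zero n hg0 (hinjB (h0.trans (map_zero _).symm))
  haveI : Module.FaithfullyFlat (Localization M) S' := inferInstance
  haveI : IsRegularRing S' :=
    Groth.Agent.Helper2.SepAlg.isRegularRing_of_isLocalization (Algebra.algebraMapSubmonoid B M) S'
  haveI : IsRegularRing (Localization.Away g) :=
    Groth.Agent.Helper2.RegDescent.isRegularRing_of_faithfullyFlat (Localization M) S'
  intro q hq hgq
  exact regular_of_away g q hgq

end Groth.Agent.Helper7.J2
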