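import Mathlib
import Groth.Prelude
import Groth.Agent.Helper7.J2H
import Groth.Agent.Helper2.SepAlg
set_option linter.style.haveILetI false
set_option linter.unusedSectionVars false
set_option linter.unusedVariables false
universe u
namespace Groth.Agent.Helper7.CKd

open Groth.Agent.Helper7.J2

/-- the regular locus contains a nonempty basic open. -/
def J0 (A : Type u) [CommRing A] : Prop :=
  ∃ a : A, a ≠ 0 ∧ ∀ (Q : Ideal A) [Q.IsPrime], a ∉ Q →
    IsRegularLocalRing (Localization.AtPrime Q)

theorem J0.exists_open {A : Type u} [CommRing A] [IsDomain A] (h : J0 A) :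
    ∃ U : Set (PrimeSpectrum A), IsOpen U ∧ U.Nonempty ∧ U ⊆ EGA4.regLocus A := by
  obtain ⟨a, ha, h⟩ := h
  exact exists_open_of_basicOpen a ha h

theorem J0.of_open {A : Type u} [CommRing A] [IsDomain A]
    (h : ∃ U : Set (PrimeSpectrum A), IsOpen U ∧ U.Nonempty ∧ U ⊆ EGA4.regLocus A) : J0 A := by
  obtain ⟨U, hU, hne, hsub⟩ := h
  exact exists_basicOpen_of_open U hU hne hsub

theorem J0.of_isRegularRing (A : Type u) [CommRing A] [IsDomain A] [IsRegularRing A] : J0 A := by
  refine ⟨1, one_ne_zero, fun Q hQ _ => ?_⟩
  exact (isRegularRing_iff.mp inferInstance) Q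

/-- descent of `J0` along an injective finite type map. -/
theorem J0.descent (R S : Type u) [CommRing R] [IsDomain R] [IsNoetherianRing R] [CommRing S]
    [IsDomain S] [Algebra R S] [Algebra.FiniteType R S]
    (hinj : Function.Injective (algebraMap R S)) (hS : J0 S) : J0 R :=
  J0.of_open (s9255 R S hinj hS.exists_open)

theorem J0.of_ringEquiv {A A' : Type u} [CommRing A] [CommRing A'] [IsDomain A] [IsDomain A']
    [IsNoetherianRing A'] (e : A ≃+* A') (h : J0 A) : J0 A' := by
  letI : Algebra A' A := e.symm.toRingHom.toAlgebra
  haveI : Algebra.FiniteType A' A := Algebra.FiniteType.of_surjective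
    (Algebra.ofId A' A) e.symm.surjective
  exact J0.descent A' A e.symm.injective h

/-- ascent of `J0` along an injective finite type map which is separable algebraic on fraction
fields. -/
theorem J0.ascent_sep (A A' : Type u) [CommRing A] [CommRing A'] [IsDomain A] [IsDomain A']
    [IsNoetherianRing A] [Algebra A A'] [FaithfulSMul A A'] [Algebra.FiniteType A A']
    [Algebra (FractionRing A) (FractionRing A')]
    [IsScalarTower A (FractionRing A) (FractionRing A')]
    [Algebra.IsSeparable (FractionRing A) (FractionRing A')] (h : J0 A) : J0 A' := by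
  haveI : Algebra.IsGeometricallyReduced (FractionRing A) (FractionRing A') :=
    Groth.Agent.Helper2.SepAlg.isGeometricallyReduced _ _
  exact J0.of_open (s2688 A A' h.exists_open)

end Groth.Agent.Helper7.CKd
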