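import Mathlib
set_option linter.style.haveILetI false
set_option linter.unusedSectionVars false
set_option linter.unusedVariables false
open TensorProduct KaehlerDifferential Polynomial
universe u
namespace Groth.Agent.Helper7.CKd

/-- a derivation extends to a localization. -/
theorem exists_derivation_localization {S T : Type u} [CommRing S] [CommRing T] [Algebra S T]
    (M : Submonoid S) [IsLocalization M T] (D : Derivation ℤ S S) :
    ∃ D' : Derivation ℤ T T, ∀ s, D' (algebraMap S T s) = algebraMap S T (D s) := by
  haveI := Algebra.FormallyEtale.of_isLocalization (Rₘ := T) M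
  let e := KaehlerDifferential.tensorKaehlerEquivOfFormallyEtale ℤ S T
  let ℓ : Ω[S⁄ℤ] →ₗ[S] T := (Algebra.linearMap S T).comp D.liftKaehlerDifferential
  let ℓ' : T ⊗[S] Ω[S⁄ℤ] →ₗ[T] T := LinearMap.liftBaseChange T ℓ
  let D' : Derivation ℤ T T := (ℓ'.comp e.symm.toLinearMap).compDer (KaehlerDifferential.D ℤ T)
  refine ⟨D', fun s => ?_⟩
  show ℓ' (e.symm (KaehlerDifferential.D ℤ T (algebraMap S T s))) = _
  rw [KaehlerDifferential.tensorKaehlerEquivOfFormallyEtale_symm_D_algebraMap]
  simp [ℓ', ℓ]

/-- coefficientwise extension of a derivation to the polynomial ring. -/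
theorem exists_derivation_polynomial {A : Type u} [CommRing A] (D : Derivation ℤ A A) :
    ∃ D' : Derivation ℤ A[X] A[X], (∀ a, D' (C a) = C (D a)) ∧ D' X = 0 := by
  letI : Differential A := ⟨D⟩
  exact ⟨Differential.mapCoeffs, fun a => Differential.mapCoeffs_C a, Differential.mapCoeffs_X⟩

theorem smooth_polynomial (A : Type u) [CommRing A] : Algebra.Smooth A A[X] := by
  haveI : Algebra.FormallySmooth A A[X] :=
    Algebra.FormallySmooth.of_equiv (MvPolynomial.uniqueAlgEquiv A PUnit.{1})
  haveI : Algebra.FinitePresentation A A[X] := inferInstance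
  exact ⟨inferInstance, inferInstance⟩

end Groth.Agent.Helper7.CKd
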