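import Mathlib
import Groth.Prelude
import Groth.Agent.Helper2.RegSeq3

set_option linter.style.haveILetI false
set_option linter.unusedSectionVars false

namespace Groth.Agent.Helper7.JacReg

open IsLocalRing

universe u

/-- A derivation maps the square of an ideal into the ideal. -/
theorem deriv_mem_of_mem_sq {R : Type u} [CommRing R] (I : Ideal R) (D : Derivation ℤ R R)
    {y : R} (hy : y ∈ I ^ 2) : D y ∈ I := by
  rw [pow_two] at hy
  refine Submodule.mul_induction_on hy ?_ ?_
  · intro a ha b hb
    rw [Derivation.leibniz]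
    exact I.add_mem (I.mul_mem_right _ ha) (I.mul_mem_right _ hb)
  · intro a b ha hb
    rw [map_add]
    exact I.add_mem ha hb

theorem linearIndependent_of_det {R : Type u} [CommRing R] [IsLocalRing R] (m : ℕ)
    (f : Fin m → R)
    (hf : ∀ i, f i ∈ maximalIdeal R) (D : Fin m → Derivation ℤ R R)
    (hdet : IsUnit (Matrix.det (Matrix.of (fun i j : Fin m => D i (f j))))) :
    LinearIndependent (ResidueField R)
      (fun i => (maximalIdeal R).toCotangent (⟨f i, hf i⟩ : maximalIdeal R)) := by
  classical
  rw [Fintype.linearIndependent_iff]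
  intro g hg
  -- lift coefficients
  have hsurj : Function.Surjective (residue R) := Ideal.Quotient.mk_surjective
  choose c hc using fun j => hsurj (g j)
  set x : Fin m → maximalIdeal R := fun i => ⟨f i, hf i⟩ with hx
  have h1 : (maximalIdeal R).toCotangent (∑ j, c j • x j) = 0 := by
    rw [map_sum, ← hg]
    refine Finset.sum_congr rfl fun j _ => ?_
    rw [map_smul, ← hc j]
    rfl
  rw [Ideal.toCotangent_eq_zero] at h1
  have h2 : (∑ j, c j * f j) ∈ maximalIdeal R ^ 2 := by
    convert h1 using 1
    simp [hx]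
  set M : Matrix (Fin m) (Fin m) R := Matrix.of (fun i j : Fin m => D i (f j)) with hM
  -- M.mulVec c ∈ m
  have h3 : ∀ i, (M.mulVec c) i ∈ maximalIdeal R := by
    intro i
    have h4 := deriv_mem_of_mem_sq (maximalIdeal R) (D i) h2
    rw [map_sum] at h4
    have h5 : ∑ j, (D i) (c j * f j) = (M.mulVec c) i + ∑ j, f j * D i (c j) := by
      simp only [Matrix.mulVec, dotProduct, hM, Matrix.of_apply, Derivation.leibniz, smul_eq_mul]
      rw [← Finset.sum_add_distrib]
      refine Finset.sum_congr rfl fun j _ => ?_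
      ring
    rw [h5] at h4
    have h6 : ∑ j, f j * D i (c j) ∈ maximalIdeal R :=
      Ideal.sum_mem _ fun j _ => Ideal.mul_mem_right _ _ (hf j)
    exact (Ideal.add_mem_iff_left _ h6).1 h4
  have hMu : IsUnit M := (Matrix.isUnit_iff_isUnit_det M).2 hdet
  have h7 : c = M⁻¹.mulVec (M.mulVec c) := by
    rw [Matrix.mulVec_mulVec, Matrix.nonsing_inv_mul _ hdet, Matrix.one_mulVec]
  intro j
  rw [← hc j]
  change residue R (c j) = 0
  rw [residue_eq_zero_iff]
  rw [h7]
  simp only [Matrix.mulVec, dotProduct]
  exact Ideal.sum_mem _ fun i _ => Ideal.mul_mem_left _ _ (h3 i)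

theorem main (R : Type u) [CommRing R]
    [IsRegularLocalRing R] (m : ℕ) (f : Fin m → R)
    (hf : ∀ i, f i ∈ IsLocalRing.maximalIdeal R) (D : Fin m → Derivation ℤ R R)
    (hdet : IsUnit (Matrix.det (Matrix.of (fun i j : Fin m => D i (f j))))) :
    IsRegularLocalRing (R ⧸ Ideal.span (Set.range f)) ∧
      RingTheory.Sequence.IsRegular R (List.ofFn f) := by
  have hli := linearIndependent_of_det m f hf D hdet
  have h1 := Groth.Agent.Helper2.RegSeq3.isRegular_ofFn m (fun i => (⟨f i, hf i⟩ : maximalIdeal R)) hli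
  have h2 := Groth.Agent.Helper2.RegSeq.quotient_regular_of_indep m
    (fun i => (⟨f i, hf i⟩ : maximalIdeal R)) hli
  exact ⟨h2.2, h1.1⟩

end Groth.Agent.Helper7.JacReg
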