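import Mathlib
import Groth.Agent.Helper7.CKC1
import Groth.Agent.Helper7.CKC2
import Groth.Agent.S9226
set_option linter.style.haveILetI false
set_option linter.unusedSectionVars false
set_option linter.unusedVariables false
open Polynomial IsLocalRing
universe u
namespace Groth.Agent.Helper7.CKd

section step
variable {A : Type u} [CommRing A] [IsDomain A] [IsNoetherianRing A]
  (p : ℕ) [hp : Fact p.Prime] [CharP A p] (f : A)

local notation "FF" => (X ^ p - C f : A[X])
local notation "II" => (Ideal.span {(X ^ p - C f : A[X])} : Ideal A[X])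
local notation "CC" => (A[X] ⧸ (Ideal.span {(X ^ p - C f : A[X])} : Ideal A[X]))

/-- Jacobian step: the local rings of `A[X]/(X^p - f)` at primes over regular points of `A` where
`D f` is invertible are regular. -/
theorem regular_quot_of_derivation (D : Derivation ℤ A A)
    (Q : Ideal CC) [Q.IsPrime]
    (hreg : IsRegularLocalRing (Localization.AtPrime (Q.comap (algebraMap A CC))))
    (hDf : algebraMap A CC (D f) ∉ Q) :
    IsRegularLocalRing (Localization.AtPrime Q) := by
  haveI hQt : (Q.comap (Ideal.Quotient.mk II)).IsPrime := Ideal.comap_isPrime _ _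
  haveI := smooth_polynomial A
  haveI hP : IsRegularLocalRing (Localization.AtPrime (Q.comap (Ideal.Quotient.mk II))) :=
    Groth.Agent.Helper7.J2.regular_of_smooth_at A A[X] (Q.comap (Ideal.Quotient.mk II)) hreg
  obtain ⟨Dt, hDtC, hDtX⟩ := exists_derivation_polynomial D
  obtain ⟨D₁, hD₁⟩ := exists_derivation_localization
    (T := Localization.AtPrime (Q.comap (Ideal.Quotient.mk II)))
    (Q.comap (Ideal.Quotient.mk II)).primeCompl Dt
  have hDtF : Dt FF = - C (D f) := by
    rw [map_sub, Derivation.leibniz_pow, hDtX, smul_zero, smul_zero, hDtC, zero_sub]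
  have hFQ : FF ∈ Q.comap (Ideal.Quotient.mk II) := by
    show Ideal.Quotient.mk II FF ∈ Q
    rw [Ideal.Quotient.eq_zero_iff_mem.mpr (Ideal.mem_span_singleton_self _)]
    exact zero_mem _
  have hFmem : algebraMap A[X] (Localization.AtPrime (Q.comap (Ideal.Quotient.mk II))) FF ∈
      maximalIdeal (Localization.AtPrime (Q.comap (Ideal.Quotient.mk II))) :=
    (IsLocalization.AtPrime.to_map_mem_maximal_iff _ (Q.comap (Ideal.Quotient.mk II)) FF).mpr hFQ
  have hval : D₁ (algebraMap A[X] (Localization.AtPrime (Q.comap (Ideal.Quotient.mk II))) FF) =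
      algebraMap A[X] (Localization.AtPrime (Q.comap (Ideal.Quotient.mk II))) (- C (D f)) :=
    (hD₁ FF).trans (congrArg _ hDtF)
  have hunit : IsUnit
      (D₁ (algebraMap A[X] (Localization.AtPrime (Q.comap (Ideal.Quotient.mk II))) FF)) := by
    rw [hval]
    apply IsLocalization.map_units (Localization.AtPrime (Q.comap (Ideal.Quotient.mk II)))
      (⟨- C (D f), ?_⟩ : (Q.comap (Ideal.Quotient.mk II)).primeCompl)
    show - C (D f) ∉ Q.comap (Ideal.Quotient.mk II)
    intro hmem
    rw [neg_mem_iff] at hmem
    exact hDf hmem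
  have h9 := (Groth.Agent.S9226.result
    (Localization.AtPrime (Q.comap (Ideal.Quotient.mk II))) 1 le_rfl
    ![algebraMap A[X] (Localization.AtPrime (Q.comap (Ideal.Quotient.mk II))) FF]
    (fun i => by fin_cases i; exact hFmem) ![D₁]
    (by rw [Matrix.det_fin_one]; simpa using hunit)).1
  have hrange :
      Set.range ![algebraMap A[X] (Localization.AtPrime (Q.comap (Ideal.Quotient.mk II))) FF] =
      {algebraMap A[X] (Localization.AtPrime (Q.comap (Ideal.Quotient.mk II))) FF} := by
    simp
  have hmap : Ideal.map (algebraMap A[X] (Localization.AtPrime (Q.comap (Ideal.Quotient.mk II)))) II =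
      Ideal.span (Set.range
        ![algebraMap A[X] (Localization.AtPrime (Q.comap (Ideal.Quotient.mk II))) FF]) := by
    rw [hrange, Ideal.map_span, Set.image_singleton]
  have hloc : IsLocalization
      (Algebra.algebraMapSubmonoid CC (Q.comap (Ideal.Quotient.mk II)).primeCompl)
      (Localization.AtPrime (Q.comap (Ideal.Quotient.mk II)) ⧸
        Ideal.map (algebraMap A[X] (Localization.AtPrime (Q.comap (Ideal.Quotient.mk II)))) II) :=
    inferInstance
  have hsub : Algebra.algebraMapSubmonoid CC (Q.comap (Ideal.Quotient.mk II)).primeCompl =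
      Q.primeCompl := by
    ext z
    constructor
    · rintro ⟨a, ha, rfl⟩
      exact ha
    · intro hz
      obtain ⟨a, rfl⟩ := Ideal.Quotient.mk_surjective z
      exact ⟨a, hz, rfl⟩
  rw [hsub] at hloc
  let e := IsLocalization.algEquiv Q.primeCompl (Localization.AtPrime Q)
    (Localization.AtPrime (Q.comap (Ideal.Quotient.mk II)) ⧸
      Ideal.map (algebraMap A[X] (Localization.AtPrime (Q.comap (Ideal.Quotient.mk II)))) II)
  haveI : IsRegularLocalRing
      (Localization.AtPrime (Q.comap (Ideal.Quotient.mk II)) ⧸
        Ideal.map (algebraMap A[X] (Localization.AtPrime (Q.comap (Ideal.Quotient.mk II)))) II) := by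
    rw [hmap]; exact h9
  exact IsRegularLocalRing.of_ringEquiv
    (R := Localization.AtPrime (Q.comap (Ideal.Quotient.mk II)) ⧸
        Ideal.map (algebraMap A[X] (Localization.AtPrime (Q.comap (Ideal.Quotient.mk II)))) II)
    e.symm.toRingEquiv

end step

end Groth.Agent.Helper7.CKd
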