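import Mathlib
import Groth.Agent.Helper7.CKC1
import Groth.Agent.Helper7.CKC3
set_option linter.style.haveILetI false
set_option linter.unusedSectionVars false
set_option linter.unusedVariables false
open Polynomial IsLocalRing
universe u
namespace Groth.Agent.Helper7.CKd

section sep
variable {A A' : Type u} [CommRing A] [CommRing A'] [IsDomain A] [IsDomain A']
  [IsNoetherianRing A] [Algebra A A'] [FaithfulSMul A A']
  [Algebra (FractionRing A) (FractionRing A')]
  [IsScalarTower A (FractionRing A) (FractionRing A')]

/-- the fraction field of `A[S]` is generated by the image of `S`. -/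
theorem adjoin_image_eq_top (S : Set A') (hS : Algebra.adjoin A S = ⊤) :
    IntermediateField.adjoin (FractionRing A) ((algebraMap A' (FractionRing A')) '' S) = ⊤ := by
  rw [eq_top_iff]
  intro z _
  have hA' : ∀ b : A', algebraMap A' (FractionRing A') b ∈
      IntermediateField.adjoin (FractionRing A) ((algebraMap A' (FractionRing A')) '' S) := by
    intro b
    have hb : b ∈ Algebra.adjoin A S := by rw [hS]; exact Algebra.mem_top
    induction hb using Algebra.adjoin_induction with
    | mem b hb => exact IntermediateField.subset_adjoin _ _ ⟨b, hb, rfl⟩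
    | algebraMap y =>
      rw [← IsScalarTower.algebraMap_apply, IsScalarTower.algebraMap_apply A (FractionRing A)]
      exact IntermediateField.algebraMap_mem _ _
    | add a b _ _ ha hb => rw [map_add]; exact add_mem ha hb
    | mul a b _ _ ha hb => rw [map_mul]; exact mul_mem ha hb
  obtain ⟨a, b, hb, rfl⟩ := IsFractionRing.div_surjective (A := A') z
  exact div_mem (hA' a) (hA' b)

/-- ascent of `J0` along an extension generated by finitely many elements separable over the
fraction field. -/
theorem J0.ascent_adjoin_sep (S : Set A') (hSfin : S.Finite) (hS : Algebra.adjoin A S = ⊤)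
    (hsep : ∀ s ∈ S, IsSeparable (FractionRing A) (algebraMap A' (FractionRing A') s))
    (h : J0 A) : J0 A' := by
  haveI : Algebra.FiniteType A A' :=
    ⟨⟨hSfin.toFinset, by rw [Set.Finite.coe_toFinset]; exact hS⟩⟩
  haveI : Algebra.IsSeparable (FractionRing A) (FractionRing A') := by
    rw [← IntermediateField.isSeparable_top, ← adjoin_image_eq_top S hS,
      IntermediateField.isSeparable_adjoin_iff_isSeparable]
    rintro _ ⟨s, hs, rfl⟩
    exact hsep s hs
  exact J0.ascent_sep A A' h

end sep

section pstep
variable {A A' : Type u} [CommRing A] [CommRing A'] [IsDomain A] [IsDomain A']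
  [IsNoetherianRing A] [Algebra A A'] [FaithfulSMul A A']
  [Algebra (FractionRing A) (FractionRing A')]
  [IsScalarTower A (FractionRing A) (FractionRing A')]
  (p : ℕ) [hp : Fact p.Prime] [CharP A p]

/-- the kernel of `A[X] → A[t]` when `t^p = f` has no `p`-th root in the fraction field. -/
theorem ker_aeval_eq (t : A') (f : A) (htf : t ^ p = algebraMap A A' f)
    (hf : ∀ x : FractionRing A, x ^ p ≠ algebraMap A (FractionRing A) f) :
    RingHom.ker (aeval t : A[X] →ₐ[A] A').toRingHom = Ideal.span {(X ^ p - C f : A[X])} := by
  have hmonic : (X ^ p - C f : A[X]).Monic := monic_X_pow_sub_C f hp.out.ne_zero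
  have hF0 : aeval t (X ^ p - C f : A[X]) = 0 := by
    rw [map_sub, map_pow, aeval_X, aeval_C, htf, sub_self]
  apply le_antisymm
  · intro g hg
    have hg' : aeval t g = 0 := hg
    have hdiv := modByMonic_add_div g (q := (X ^ p - C f : A[X]))
    have hr0 : aeval t (g %ₘ (X ^ p - C f)) = 0 := by
      have h1 := congrArg (aeval t) hdiv
      rw [map_add, map_mul, hF0, zero_mul, add_zero] at h1
      rw [h1]; exact hg'
    have hrdeg : (g %ₘ (X ^ p - C f)).degree < (X ^ p - C f : A[X]).degree :=
      degree_modByMonic_lt g hmonic
    have hzero : g %ₘ (X ^ p - C f) = 0 := by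
      by_contra hne
      have hirr : Irreducible (X ^ p - C (algebraMap A (FractionRing A) f) : (FractionRing A)[X]) :=
        X_pow_sub_C_irreducible_of_prime hp.out hf
      have hmin : minpoly (FractionRing A) (algebraMap A' (FractionRing A') t) =
          X ^ p - C (algebraMap A (FractionRing A) f) := by
        symm
        apply minpoly.eq_of_irreducible_of_monic hirr _ (monic_X_pow_sub_C _ hp.out.ne_zero)
        rw [map_sub, map_pow, aeval_X, aeval_C, ← map_pow, htf, ← IsScalarTower.algebraMap_apply,
          ← IsScalarTower.algebraMap_apply, sub_self]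
      have hr' : aeval (algebraMap A' (FractionRing A') t)
          ((g %ₘ (X ^ p - C f)).map (algebraMap A (FractionRing A))) = 0 := by
        rw [aeval_map_algebraMap, aeval_algebraMap_apply, hr0, map_zero]
      have hdvd := minpoly.dvd (FractionRing A) _ hr'
      have hmapne : (g %ₘ (X ^ p - C f)).map (algebraMap A (FractionRing A)) ≠ 0 :=
        (Polynomial.map_ne_zero_iff (IsFractionRing.injective A (FractionRing A))).mpr hne
      have hle := degree_le_of_dvd hdvd hmapne
      rw [hmin, degree_X_pow_sub_C hp.out.pos,
        degree_map_eq_of_injective (IsFractionRing.injective A (FractionRing A))] at hle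
      rw [degree_X_pow_sub_C hp.out.pos] at hrdeg
      exact absurd hrdeg (not_lt.mpr hle)
    rw [← hdiv, hzero, zero_add]
    exact Ideal.mul_mem_right _ _ (Ideal.mem_span_singleton_self _)
  · rw [Ideal.span_le, Set.singleton_subset_iff]
    exact hF0

/-- ascent of `J0` along the adjunction of a `p`-th root, given enough derivations. -/
theorem J0.ascent_adjoin_pth_root [IsNoetherianRing A'] (t : A') (ht : Algebra.adjoin A {t} = ⊤)
    (f : A) (htf : t ^ p = algebraMap A A' f)
    (H : (∀ x : FractionRing A, x ^ p ≠ algebraMap A (FractionRing A) f) →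
      ∃ D : Derivation ℤ A A, D f ≠ 0)
    (h : J0 A) : J0 A' := by
  by_cases hroot : ∃ x : FractionRing A, x ^ p = algebraMap A (FractionRing A) f
  · obtain ⟨x, hx⟩ := hroot
    refine J0.ascent_adjoin_sep {t} (Set.finite_singleton t) ht ?_ h
    intro s hs
    rw [Set.mem_singleton_iff] at hs
    subst hs
    have hinjA : Function.Injective (algebraMap A (FractionRing A')) := by
      rw [IsScalarTower.algebraMap_eq A A' (FractionRing A')]
      exact (IsFractionRing.injective A' (FractionRing A')).comp
        (FaithfulSMul.algebraMap_injective A A')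
    haveI : CharP (FractionRing A') p := charP_of_injective_algebraMap hinjA p
    have heq : algebraMap A' (FractionRing A') s =
        algebraMap (FractionRing A) (FractionRing A') x := by
      apply frobenius_inj (FractionRing A') p
      rw [frobenius_def, frobenius_def, ← map_pow, ← map_pow, htf, hx,
        ← IsScalarTower.algebraMap_apply, ← IsScalarTower.algebraMap_apply]
    rw [heq]
    exact isSeparable_algebraMap x
  · push Not at hroot
    obtain ⟨D, hD⟩ := H hroot
    have hker := ker_aeval_eq p t f htf hroot
    have hsurj : Function.Surjective (aeval t : A[X] →ₐ[A] A').toRingHom := by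
      show Function.Surjective (aeval t : A[X] →ₐ[A] A')
      rw [← AlgHom.range_eq_top, ← Algebra.adjoin_singleton_eq_range_aeval, ht]
    let e : (A[X] ⧸ Ideal.span {(X ^ p - C f : A[X])}) ≃+* A' :=
      (Ideal.quotEquivOfEq hker.symm).trans (RingHom.quotientKerEquivOfSurjective hsurj)
    have he : ∀ y : A, e (algebraMap A _ y) = algebraMap A A' y := by
      intro y
      show (aeval t : A[X] →ₐ[A] A') (C y) = _
      rw [aeval_C]
    haveI : IsDomain (A[X] ⧸ Ideal.span {(X ^ p - C f : A[X])}) := e.toMulEquiv.isDomain
    refine J0.of_ringEquiv e ?_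
    obtain ⟨a, ha0, hareg⟩ := h
    refine ⟨algebraMap A _ (a * D f), ?_, ?_⟩
    · intro h0
      have h1 : algebraMap A A' (a * D f) = 0 := by
        rw [← he, h0, map_zero]
      exact mul_ne_zero ha0 hD
        (FaithfulSMul.algebraMap_injective A A' (h1.trans (map_zero _).symm))
    · intro Q hQ hgQ
      apply regular_quot_of_derivation p f D Q
      · apply hareg
        intro haQ
        apply hgQ
        rw [map_mul]
        exact Ideal.mul_mem_right _ _ haQ
      · intro hDQ
        apply hgQ
        rw [map_mul]
        exact Ideal.mul_mem_left _ _ hDQ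

end pstep

end Groth.Agent.Helper7.CKd
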