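import Mathlib
import Groth.Agent.Helper7.CKC4
set_option linter.style.haveILetI false
set_option linter.unusedSectionVars false
set_option linter.unusedVariables false
open Polynomial IsLocalRing
universe u
namespace Groth.Agent.Helper7.CKd

section chain
variable {R₀ D : Type u} [CommRing R₀] [IsDomain R₀] [IsNoetherianRing R₀] [CommRing D] [IsDomain D]
  [Algebra R₀ D] [Module.Finite R₀ D]

theorem isNoetherianRing_subalgebra (B : Subalgebra R₀ D) : IsNoetherianRing ↥B := by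
  haveI : IsNoetherian R₀ D := isNoetherian_of_isNoetherianRing_of_finite R₀ D
  haveI : Module.Finite R₀ ↥B :=
    Module.Finite.of_injective B.val.toLinearMap Subtype.val_injective
  exact IsNoetherianRing.of_finite R₀ ↥B

/-- `J0` for a subalgebra. -/
def SJ0 (B : Subalgebra R₀ D) : Prop := J0 ↥B

/-- `B[x]` is generated by `x` over `B`. -/
theorem adjoin_sup_eq_top (B : Subalgebra R₀ D) (x : D) :
    letI : Algebra ↥B ↥(B ⊔ Algebra.adjoin R₀ {x}) :=
      (Subalgebra.inclusion (le_sup_left : B ≤ B ⊔ Algebra.adjoin R₀ {x})).toRingHom.toAlgebra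
    Algebra.adjoin ↥B {(⟨x, (le_sup_right : Algebra.adjoin R₀ {x} ≤ B ⊔ Algebra.adjoin R₀ {x})
      (Algebra.self_mem_adjoin_singleton R₀ x)⟩ : ↥(B ⊔ Algebra.adjoin R₀ {x}))} = ⊤ := by
  letI : Algebra ↥B ↥(B ⊔ Algebra.adjoin R₀ {x}) :=
    (Subalgebra.inclusion (le_sup_left : B ≤ B ⊔ Algebra.adjoin R₀ {x})).toRingHom.toAlgebra
  rw [eq_top_iff]
  have key : ∀ z : D, z ∈ Algebra.adjoin R₀ ((B : Set D) ∪ {x}) →
      ∃ hz'' : z ∈ B ⊔ Algebra.adjoin R₀ {x},
      (⟨z, hz''⟩ : ↥(B ⊔ Algebra.adjoin R₀ {x})) ∈ Algebra.adjoin ↥B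
        {(⟨x, (le_sup_right : Algebra.adjoin R₀ {x} ≤ B ⊔ Algebra.adjoin R₀ {x})
          (Algebra.self_mem_adjoin_singleton R₀ x)⟩ : ↥(B ⊔ Algebra.adjoin R₀ {x}))} := by
    intro z hz'
    induction hz' using Algebra.adjoin_induction with
    | mem y hy =>
      rcases hy with hy | hy
      · refine ⟨(le_sup_left : B ≤ _) hy, ?_⟩
        exact Subalgebra.algebraMap_mem _ (⟨y, hy⟩ : ↥B)
      · rw [Set.mem_singleton_iff] at hy
        subst hy
        exact ⟨_, Algebra.subset_adjoin rfl⟩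
    | algebraMap r =>
      refine ⟨Subalgebra.algebraMap_mem _ r, ?_⟩
      exact Subalgebra.algebraMap_mem _ (algebraMap R₀ ↥B r)
    | add a b _ _ ha hb =>
      obtain ⟨ha1, ha2⟩ := ha
      obtain ⟨hb1, hb2⟩ := hb
      exact ⟨add_mem ha1 hb1, add_mem ha2 hb2⟩
    | mul a b _ _ ha hb =>
      obtain ⟨ha1, ha2⟩ := ha
      obtain ⟨hb1, hb2⟩ := hb
      exact ⟨mul_mem ha1 hb1, mul_mem ha2 hb2⟩
  rintro ⟨z, hz⟩ -
  have hz' : z ∈ Algebra.adjoin R₀ ((B : Set D) ∪ {x}) := by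
    rw [Algebra.adjoin_union, Algebra.adjoin_eq]
    exact hz
  obtain ⟨_, h2⟩ := key z hz'
  exact h2

section steps
variable (p : ℕ) [hp : Fact p.Prime] [CharP D p]
  (H : ∀ (B : Subalgebra R₀ D) (f : B),
    (∀ x : FractionRing B, x ^ p ≠ algebraMap B (FractionRing B) f) →
      ∃ Δ : Derivation ℤ B B, Δ f ≠ 0)
include H

/-- adjoining a `p`-th root of an element of `B`. -/
theorem SJ0.step (B : Subalgebra R₀ D) (hB : SJ0 B) (x : D) (hx : x ^ p ∈ B) :
    SJ0 (B ⊔ Algebra.adjoin R₀ {x}) := by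
  letI alg : Algebra ↥B ↥(B ⊔ Algebra.adjoin R₀ {x}) :=
    (Subalgebra.inclusion (le_sup_left : B ≤ B ⊔ Algebra.adjoin R₀ {x})).toRingHom.toAlgebra
  have hinj : Function.Injective (algebraMap ↥B ↥(B ⊔ Algebra.adjoin R₀ {x})) :=
    Subalgebra.inclusion_injective _
  haveI : FaithfulSMul ↥B ↥(B ⊔ Algebra.adjoin R₀ {x}) :=
    (faithfulSMul_iff_algebraMap_injective _ _).mpr hinj
  haveI : CharP ↥B p := RingHom.charP B.val.toRingHom Subtype.val_injective p
  haveI := isNoetherianRing_subalgebra B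
  haveI := isNoetherianRing_subalgebra (B ⊔ Algebra.adjoin R₀ {x})
  haveI : FaithfulSMul ↥B (FractionRing ↥(B ⊔ Algebra.adjoin R₀ {x})) := by
    rw [faithfulSMul_iff_algebraMap_injective,
      IsScalarTower.algebraMap_eq ↥B ↥(B ⊔ Algebra.adjoin R₀ {x})]
    exact (IsFractionRing.injective ↥(B ⊔ Algebra.adjoin R₀ {x})
      (FractionRing ↥(B ⊔ Algebra.adjoin R₀ {x}))).comp hinj
  letI := FractionRing.liftAlgebra ↥B (FractionRing ↥(B ⊔ Algebra.adjoin R₀ {x}))
  exact J0.ascent_adjoin_pth_root (A := ↥B) (A' := ↥(B ⊔ Algebra.adjoin R₀ {x})) p _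
    (adjoin_sup_eq_top B x) ⟨x ^ p, hx⟩ (Subtype.ext rfl) (H B ⟨x ^ p, hx⟩) hB

theorem SJ0.step_pow : ∀ (n : ℕ) (B : Subalgebra R₀ D), SJ0 B → ∀ x : D, x ^ (p ^ n) ∈ B →
    SJ0 (B ⊔ Algebra.adjoin R₀ {x}) := by
  intro n
  induction n with
  | zero =>
    intro B hB x hx
    rw [pow_zero, pow_one] at hx
    have : B ⊔ Algebra.adjoin R₀ {x} = B :=
      sup_eq_left.mpr (Algebra.adjoin_le (Set.singleton_subset_iff.mpr hx))
    rw [this]
    exact hB
  | succ n ih =>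
    intro B hB x hx
    have h1 : SJ0 (B ⊔ Algebra.adjoin R₀ {x ^ p}) := by
      apply ih B hB
      rw [← pow_mul, ← pow_succ']
      exact hx
    have h2 := SJ0.step p H _ h1 x
      ((le_sup_right : Algebra.adjoin R₀ {x ^ p} ≤ B ⊔ Algebra.adjoin R₀ {x ^ p})
        (Algebra.self_mem_adjoin_singleton R₀ _))
    have h3 : B ⊔ Algebra.adjoin R₀ {x ^ p} ⊔ Algebra.adjoin R₀ {x} =
        B ⊔ Algebra.adjoin R₀ {x} := by
      rw [sup_assoc]
      congr 1
      exact sup_eq_right.mpr (Algebra.adjoin_le (Set.singleton_subset_iff.mpr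
        (pow_mem (Algebra.self_mem_adjoin_singleton R₀ x) p)))
    rw [h3] at h2
    exact h2

theorem SJ0.sup_adjoin_finset (e : ℕ) (B : Subalgebra R₀ D) (hB : SJ0 B) (T : Finset D)
    (hT : ∀ d ∈ T, d ^ (p ^ e) ∈ B) : SJ0 (B ⊔ Algebra.adjoin R₀ (T : Set D)) := by
  classical
  induction T using Finset.induction_on with
  | empty =>
    rw [Finset.coe_empty, Algebra.adjoin_empty, sup_bot_eq]
    exact hB
  | insert d T hd ih =>
    have h1 := ih (fun d' hd' => hT d' (Finset.mem_insert_of_mem hd'))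
    have h2 := SJ0.step_pow p H e _ h1 d
      ((le_sup_left : B ≤ _) (hT d (Finset.mem_insert_self d T)))
    have h3 : B ⊔ Algebra.adjoin R₀ (T : Set D) ⊔ Algebra.adjoin R₀ {d} =
        B ⊔ Algebra.adjoin R₀ ((insert d T : Finset D) : Set D) := by
      rw [sup_assoc, ← Algebra.adjoin_union, Finset.coe_insert, Set.union_singleton]
    rw [h3] at h2
    exact h2

end steps

end chain

end Groth.Agent.Helper7.CKd
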