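import Mathlib
import Groth.Agent.Helper7.CKC5
set_option linter.style.haveILetI false
set_option linter.unusedSectionVars false
set_option linter.unusedVariables false
open Polynomial IsLocalRing
universe u
namespace Groth.Agent.Helper7.CKd

section base
variable {R₀ D : Type u} [CommRing R₀] [IsDomain R₀] [IsNoetherianRing R₀] [CommRing D] [IsDomain D]
  [Algebra R₀ D] [Module.Finite R₀ D]
  [Algebra (FractionRing R₀) (FractionRing D)]
  [IsScalarTower R₀ (FractionRing R₀) (FractionRing D)]

/-- the subalgebra generated by finitely many elements separable over the fraction field. -/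
theorem SJ0.adjoin_of_separable (hinj : Function.Injective (algebraMap R₀ D)) (hR₀ : J0 R₀)
    (S₀ : Set D) (hfin : S₀.Finite)
    (hsep : ∀ s ∈ S₀, IsSeparable (FractionRing R₀) (algebraMap D (FractionRing D) s)) :
    SJ0 (Algebra.adjoin R₀ S₀) := by
  have hinjB : Function.Injective (algebraMap R₀ ↥(Algebra.adjoin R₀ S₀)) := by
    intro a b hab
    apply hinj
    exact congrArg Subtype.val hab
  haveI : FaithfulSMul R₀ ↥(Algebra.adjoin R₀ S₀) :=
    (faithfulSMul_iff_algebraMap_injective _ _).mpr hinjB
  haveI : FaithfulSMul R₀ (FractionRing ↥(Algebra.adjoin R₀ S₀)) := by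
    rw [faithfulSMul_iff_algebraMap_injective,
      IsScalarTower.algebraMap_eq R₀ ↥(Algebra.adjoin R₀ S₀)]
    exact (IsFractionRing.injective ↥(Algebra.adjoin R₀ S₀)
      (FractionRing ↥(Algebra.adjoin R₀ S₀))).comp hinjB
  letI := FractionRing.liftAlgebra R₀ (FractionRing ↥(Algebra.adjoin R₀ S₀))
  -- the embedding of the fraction field into `Frac D`
  let g : ↥(Algebra.adjoin R₀ S₀) →+* FractionRing D :=
    (algebraMap D (FractionRing D)).comp (Algebra.adjoin R₀ S₀).val.toRingHom
  have hg : Function.Injective g :=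
    (IsFractionRing.injective D (FractionRing D)).comp Subtype.val_injective
  let ι₀ : FractionRing ↥(Algebra.adjoin R₀ S₀) →+* FractionRing D := IsFractionRing.lift hg
  have hι₀ : ∀ b : ↥(Algebra.adjoin R₀ S₀),
      ι₀ (algebraMap _ _ b) = algebraMap D (FractionRing D) b.val :=
    fun b => IsFractionRing.lift_algebraMap hg b
  have hcomm : ι₀.comp (algebraMap (FractionRing R₀) (FractionRing ↥(Algebra.adjoin R₀ S₀))) =
      algebraMap (FractionRing R₀) (FractionRing D) := by
    apply IsLocalization.ringHom_ext (nonZeroDivisors R₀)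
    ext r
    simp only [RingHom.comp_apply]
    rw [← IsScalarTower.algebraMap_apply R₀ (FractionRing R₀),
      IsScalarTower.algebraMap_apply R₀ ↥(Algebra.adjoin R₀ S₀), hι₀,
      ← IsScalarTower.algebraMap_apply R₀ (FractionRing R₀)]
    rw [IsScalarTower.algebraMap_apply R₀ D (FractionRing D)]
    rfl
  let ι : FractionRing ↥(Algebra.adjoin R₀ S₀) →ₐ[FractionRing R₀] FractionRing D :=
    { ι₀ with commutes' := fun c => RingHom.congr_fun hcomm c }
  refine J0.ascent_adjoin_sep (A := R₀) (A' := ↥(Algebra.adjoin R₀ S₀))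
    (((↑) : ↥(Algebra.adjoin R₀ S₀) → D) ⁻¹' S₀)
    (hfin.preimage Subtype.val_injective.injOn) Algebra.adjoin_adjoin_coe_preimage ?_ hR₀
  intro s hs
  apply IsSeparable.of_algHom ι
  show IsSeparable (FractionRing R₀) (ι₀ (algebraMap _ _ s))
  rw [hι₀]
  exact hsep s.val hs

end base

end Groth.Agent.Helper7.CKd
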