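import Mathlib
import Groth.Agent.Helper7.CKC6
set_option linter.style.haveILetI false
set_option linter.unusedSectionVars false
set_option linter.unusedVariables false
open Polynomial IsLocalRing
universe u
namespace Groth.Agent.Helper7.CKd

section mainp
variable {R₀ D : Type u} [CommRing R₀] [IsDomain R₀] [IsNoetherianRing R₀] [CommRing D] [IsDomain D]
  [Algebra R₀ D] [Module.Finite R₀ D]

theorem isAlgebraic_fractionRing (hinj : Function.Injective (algebraMap R₀ D))
    [Algebra (FractionRing R₀) (FractionRing D)]
    [IsScalarTower R₀ (FractionRing R₀) (FractionRing D)] :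
    Algebra.IsAlgebraic (FractionRing R₀) (FractionRing D) := by
  haveI : FaithfulSMul R₀ D := (faithfulSMul_iff_algebraMap_injective _ _).mpr hinj
  haveI : Algebra.IsIntegral R₀ D := Algebra.IsIntegral.of_finite R₀ D
  haveI : Algebra.IsAlgebraic R₀ D := Algebra.IsIntegral.isAlgebraic
  haveI : FaithfulSMul R₀ (FractionRing D) := by
    rw [faithfulSMul_iff_algebraMap_injective, IsScalarTower.algebraMap_eq R₀ D]
    exact (IsFractionRing.injective D (FractionRing D)).comp hinj
  have h1 : Algebra.IsAlgebraic R₀ (FractionRing D) :=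
    (IsFractionRing.isAlgebraic_iff' R₀ D (FractionRing D)).mp inferInstance
  exact (IsFractionRing.comap_isAlgebraic_iff (A := R₀) (K := FractionRing R₀)).mp h1

/-- **Characteristic `p`**: a domain finite over a J-0 Noetherian domain `R₀` is J-0, provided
subalgebras have enough derivations. -/
theorem J0_of_finite_charP (hinj : Function.Injective (algebraMap R₀ D)) (hR₀ : J0 R₀)
    (p : ℕ) [hp : Fact p.Prime] [CharP D p]
    (H : ∀ (B : Subalgebra R₀ D) (f : B),
      (∀ x : FractionRing B, x ^ p ≠ algebraMap B (FractionRing B) f) →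
        ∃ Δ : Derivation ℤ B B, Δ f ≠ 0) : J0 D := by
  classical
  haveI : FaithfulSMul R₀ D := (faithfulSMul_iff_algebraMap_injective _ _).mpr hinj
  haveI : FaithfulSMul R₀ (FractionRing D) := by
    rw [faithfulSMul_iff_algebraMap_injective, IsScalarTower.algebraMap_eq R₀ D]
    exact (IsFractionRing.injective D (FractionRing D)).comp hinj
  letI := FractionRing.liftAlgebra R₀ (FractionRing D)
  haveI := isAlgebraic_fractionRing (R₀ := R₀) (D := D) hinj
  haveI : CharP R₀ p := RingHom.charP _ hinj p
  haveI : CharP (FractionRing R₀) p :=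
    charP_of_injective_algebraMap (IsFractionRing.injective R₀ (FractionRing R₀)) p
  haveI : ExpChar (FractionRing R₀) p := ExpChar.prime hp.out
  haveI : ExpChar (separableClosure (FractionRing R₀) (FractionRing D)) p :=
    expChar_of_injective_algebraMap (algebraMap (FractionRing R₀)
      (separableClosure (FractionRing R₀) (FractionRing D))).injective p
  obtain ⟨T, hT⟩ := (inferInstance : Algebra.FiniteType R₀ D).out
  have hpi := separableClosure.isPurelyInseparable (FractionRing R₀) (FractionRing D)
  have hpow : ∀ z : FractionRing D, ∃ n : ℕ,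
      z ^ p ^ n ∈ separableClosure (FractionRing R₀) (FractionRing D) := by
    intro z
    obtain ⟨n, ⟨y, hy⟩⟩ := (isPurelyInseparable_iff_pow_mem
      (separableClosure (FractionRing R₀) (FractionRing D)) p).mp hpi z
    exact ⟨n, hy ▸ y.2⟩
  choose n hn using hpow
  set e := T.sup (fun d => n (algebraMap D (FractionRing D) d)) with he
  have hmem : ∀ d ∈ T, algebraMap D (FractionRing D) (d ^ p ^ e) ∈
      separableClosure (FractionRing R₀) (FractionRing D) := by
    intro d hd
    have hle : n (algebraMap D (FractionRing D) d) ≤ e :=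
      Finset.le_sup (f := fun d => n (algebraMap D (FractionRing D) d)) hd
    have h1 : p ^ e = p ^ n (algebraMap D (FractionRing D) d) *
        p ^ (e - n (algebraMap D (FractionRing D) d)) := by
      rw [← pow_add, Nat.add_sub_cancel' hle]
    rw [map_pow, h1, pow_mul]
    exact pow_mem (hn _) _
  have hB₀ : SJ0 (Algebra.adjoin R₀ ((fun d => d ^ p ^ e) '' (T : Set D))) := by
    apply SJ0.adjoin_of_separable hinj hR₀ _ (T.finite_toSet.image _)
    rintro _ ⟨d, hd, rfl⟩
    exact hmem d hd
  have h1 := SJ0.sup_adjoin_finset p H e _ hB₀ T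
    (fun d hd => Algebra.subset_adjoin ⟨d, hd, rfl⟩)
  rw [hT, sup_top_eq] at h1
  haveI : IsNoetherianRing D := IsNoetherianRing.of_finite R₀ D
  exact J0.of_ringEquiv (Subalgebra.topEquiv : (⊤ : Subalgebra R₀ D) ≃ₐ[R₀] D).toRingEquiv h1

end mainp

end Groth.Agent.Helper7.CKd
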