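import Mathlib
import Groth.Prelude.Def_EGA41
import Groth.Agent.Helper1.ResExtMain
import Groth.Agent.Helper1.FieldSmooth7
import Groth.Agent.Helper6.ComplDim
import Groth.Agent.Helper7.CohenO

set_option autoImplicit false
set_option linter.style.haveILetI false
set_option linter.unusedSectionVars false
universe u v w

namespace Groth.Agent.Helper7.Cohen

open IsLocalRing

/-- existence of Cohen algebras with prescribed separable residue field -/
theorem exists_cohen_algebra {A : Type u} [CommRing A] [IsLocalRing A] [IsNoetherianRing A]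
    (K : Type u) [Field K] [Algebra (ResidueField A) K]
    [Algebra.IsGeometricallyReduced (ResidueField A) K] :
    ∃ (B : Type u) (_ : CommRing B) (_ : IsLocalRing B) (_ : Algebra A B)
      (_ : IsLocalHom (algebraMap A B)),
      EGA41.IsCohenAlgebra A B ∧ Nonempty (ResidueField B ≃ₐ[ResidueField A] K) := by
  obtain ⟨B₀, _, _, hloc, ρ, hsurj, hker, hcomm, hflat, hmax, hlh, hnoeth⟩ :=
    Groth.Agent.Helper1.ResExt.main A K
  haveI := hloc
  haveI : IsNoetherianRing B₀ := hnoeth inferInstance
  haveI := hflat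
  haveI := hlh
  haveI : IsNoetherianRing (AdicCompletion (maximalIdeal B₀) B₀) :=
    Groth.Agent.Helper6.ComplDim.instNoeth B₀ (maximalIdeal B₀)
  haveI : IsScalarTower A B₀ (AdicCompletion (maximalIdeal B₀) B₀) := inferInstance
  have hmB : maximalIdeal (AdicCompletion (maximalIdeal B₀) B₀) =
      (maximalIdeal B₀).map (algebraMap B₀ (AdicCompletion (maximalIdeal B₀) B₀)) :=
    AdicCompletion.maximalIdeal_eq_map
  haveI : IsLocalHom (algebraMap A (AdicCompletion (maximalIdeal B₀) B₀)) := by
    rw [IsScalarTower.algebraMap_eq A B₀ (AdicCompletion (maximalIdeal B₀) B₀)]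
    exact RingHom.isLocalHom_comp _ _
  -- the residue field
  let ρ' : B₀ ⧸ maximalIdeal B₀ →+* K := Ideal.Quotient.lift (maximalIdeal B₀) ρ (fun b hb => by
    rw [← hker] at hb; exact hb)
  let φ : AdicCompletion (maximalIdeal B₀) B₀ →+* K :=
    ρ'.comp (AdicCompletion.evalOneₐ (maximalIdeal B₀)).toRingHom
  have hφalg : ∀ b : B₀, φ (algebraMap B₀ _ b) = ρ b := by
    intro b
    change ρ' ((AdicCompletion.evalOneₐ (maximalIdeal B₀)) (algebraMap B₀ _ b)) = ρ b
    rw [AlgHom.commutes]
    rfl
  have hφsurj : Function.Surjective φ := by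
    intro y
    obtain ⟨b, rfl⟩ := hsurj y
    exact ⟨algebraMap B₀ _ b, hφalg b⟩
  have hφker : RingHom.ker φ = maximalIdeal (AdicCompletion (maximalIdeal B₀) B₀) :=
    IsLocalRing.eq_maximalIdeal (RingHom.ker_isMaximal_of_surjective φ hφsurj)
  let e₀ : ResidueField (AdicCompletion (maximalIdeal B₀) B₀) ≃+* K :=
    (Ideal.quotEquivOfEq hφker.symm).trans (RingHom.quotientKerEquivOfSurjective hφsurj)
  have he₀ : ∀ x, e₀ (residue _ x) = φ x := fun x => rfl
  let e : ResidueField (AdicCompletion (maximalIdeal B₀) B₀) ≃ₐ[ResidueField A] K :=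
    AlgEquiv.ofRingEquiv (f := e₀) (fun r => by
      obtain ⟨a, rfl⟩ := residue_surjective r
      have h1 : algebraMap (ResidueField A) (ResidueField (AdicCompletion (maximalIdeal B₀) B₀))
          (residue A a) = residue _ (algebraMap A (AdicCompletion (maximalIdeal B₀) B₀) a) := rfl
      rw [h1, he₀, IsScalarTower.algebraMap_apply A B₀ (AdicCompletion (maximalIdeal B₀) B₀),
        hφalg, hcomm])
  refine ⟨AdicCompletion (maximalIdeal B₀) B₀, inferInstance, inferInstance, inferInstance,
    inferInstance, ⟨inferInstance, inferInstance, inferInstance, ?_, ?_, ?_⟩, ⟨e⟩⟩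
  · exact Module.Flat.trans A B₀ (AdicCompletion (maximalIdeal B₀) B₀)
  · rw [IsScalarTower.algebraMap_eq A B₀ (AdicCompletion (maximalIdeal B₀) B₀), ← Ideal.map_map,
      hmax, hmB]
  · exact Algebra.IsGeometricallyReduced.of_injective e.toAlgHom e.injective

/-- surjective ring endomorphisms of Noetherian rings are injective -/
theorem injective_of_surjective_endo {B : Type*} [CommRing B] [IsNoetherianRing B] (f : B →+* B)
    (hf : Function.Surjective f) : Function.Injective f := by
  let K : ℕ →o Ideal B := ⟨fun n => RingHom.ker (f ^ n), fun m n hmn x hx => by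
    obtain ⟨d, rfl⟩ := Nat.exists_eq_add_of_le hmn
    rw [RingHom.mem_ker] at hx ⊢
    rw [add_comm, pow_add, RingHom.mul_def, RingHom.comp_apply, hx, map_zero]⟩
  obtain ⟨n, hn⟩ := monotone_stabilizes_iff_noetherian.mpr (inferInstance : IsNoetherian B B) K
  rw [injective_iff_map_eq_zero]
  intro x hx
  have hsurjn : Function.Surjective (f ^ n) := by
    rw [RingHom.coe_pow]; exact hf.iterate n
  obtain ⟨y, rfl⟩ := hsurjn x
  have h1 : y ∈ K (n + 1) := by
    change (f ^ (n + 1)) y = 0
    rw [pow_succ', RingHom.mul_def, RingHom.comp_apply]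
    exact hx
  rw [← hn (n + 1) (Nat.le_succ n)] at h1
  exact h1

/-- a surjection of residue fields between Cohen algebras lifts to a surjective algebra map -/
theorem exists_surj_lift {A B B' : Type u} [CommRing A] [IsLocalRing A] [CommRing B] [IsLocalRing B]
    [Algebra A B] [IsLocalHom (algebraMap A B)]
    [CommRing B'] [IsLocalRing B'] [Algebra A B'] [IsLocalHom (algebraMap A B')]
    (hB : EGA41.IsCohenAlgebra A B) (hB' : EGA41.IsCohenAlgebra A B')
    (σ : ResidueField B →ₐ[ResidueField A] ResidueField B') (hσ : Function.Surjective σ) :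
    ∃ w : B →ₐ[A] B', Function.Surjective w := by
  obtain ⟨-, hBn, hBc, hflat, hm, hsep⟩ := hB
  obtain ⟨-, hBn', hBc', hflat', hm', hsep'⟩ := hB'
  haveI := hflat
  haveI := hBc
  haveI := hBc'
  haveI : Algebra.FormallySmooth (ResidueField A) (ResidueField B) :=
    Groth.Agent.Helper1.FieldSmooth.formallySmooth_iff_isGeometricallyReduced.mpr hsep
  let u₁ : B →ₐ[A] B' ⧸ maximalIdeal B' :=
    { (σ : ResidueField B →+* ResidueField B').comp (residue B) with
      commutes' := fun a => by
        change σ (algebraMap (ResidueField A) (ResidueField B) (residue A a)) =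
          algebraMap (ResidueField A) (ResidueField B') (residue A a)
        exact σ.commutes _ }
  have hL : ∀ n : ℕ, ∀ g : B →ₐ[A] B' ⧸ maximalIdeal B' ^ (n + 1),
      ∃ g' : B →ₐ[A] B' ⧸ maximalIdeal B' ^ (n + 1 + 1),
        (Ideal.Quotient.factorₐ A (Ideal.pow_le_pow_right (Nat.le_succ (n + 1)))).comp g' = g := by
    intro n g
    refine cohen_lift_surj hm (Ideal.Quotient.factorₐ A (Ideal.pow_le_pow_right
      (I := maximalIdeal B') (Nat.le_succ (n + 1))))
      (Ideal.Quotient.factor_surjective (Ideal.pow_le_pow_right (Nat.le_succ (n + 1))))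
      ?_ (n + 1 + 1) ?_ g
    · refine ⟨n + 1 + 1, ?_⟩
      rw [Ideal.zero_eq_bot]
      refine le_bot_iff.mp ((Ideal.pow_right_mono (?_ : _ ≤ (maximalIdeal B').map
        (Ideal.Quotient.mk (maximalIdeal B' ^ (n + 1 + 1)))) _).trans ?_)
      · intro x hx
        obtain ⟨c, rfl⟩ := Ideal.Quotient.mk_surjective x
        have h2 : Ideal.Quotient.mk (maximalIdeal B' ^ (n + 1)) c = 0 := hx
        rw [Ideal.Quotient.eq_zero_iff_mem] at h2
        exact Ideal.mem_map_of_mem _ (Ideal.pow_le_self (Nat.succ_ne_zero n) h2)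
      · rw [← Ideal.map_pow, Ideal.map_quotient_self]
    · have h1 : algebraMap A (B' ⧸ maximalIdeal B' ^ (n + 1 + 1)) =
          (Ideal.Quotient.mk _).comp (algebraMap A B') := rfl
      rw [h1, ← Ideal.map_map, Ideal.map_pow, hm', Ideal.map_quotient_self]
  obtain ⟨w, hw⟩ := exists_algHom_lift_of_complete (maximalIdeal B') hL u₁
  have hres : ∀ b : B, residue B' (w b) = σ (residue B b) := fun b => AlgHom.congr_fun hw b
  have hmapw : (maximalIdeal B).map (w : B →+* B') = maximalIdeal B' := by
    rw [← hm, Ideal.map_map, ← hm']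
    congr 1
    ext a
    exact w.commutes a
  refine ⟨w, ?_⟩
  haveI : IsHausdorff ((maximalIdeal B).map (w : B →+* B')) B' := by
    rw [hmapw]; infer_instance
  apply surjective_of_mk_map_comp_surjective (I := maximalIdeal B) (w : B →+* B')
  rw [hmapw]
  intro y
  obtain ⟨z, rfl⟩ := hσ y
  obtain ⟨b, rfl⟩ := residue_surjective z
  exact ⟨b, hres b⟩

theorem s2455 {A : Type u} [CommRing A] [IsLocalRing A] [IsNoetherianRing A]
    (K : Type u) [Field K] [Algebra (ResidueField A) K]
    [Algebra.IsGeometricallyReduced (ResidueField A) K] :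
    (∃ (B : Type u) (_ : CommRing B) (_ : IsLocalRing B) (_ : Algebra A B)
        (_ : IsLocalHom (algebraMap A B)),
      EGA41.IsCohenAlgebra A B ∧ Nonempty (ResidueField B ≃ₐ[ResidueField A] K)) ∧
    ∀ (B B' : Type u) [CommRing B] [IsLocalRing B] [Algebra A B] [IsLocalHom (algebraMap A B)]
      [CommRing B'] [IsLocalRing B'] [Algebra A B'] [IsLocalHom (algebraMap A B')],
      EGA41.IsCohenAlgebra A B → EGA41.IsCohenAlgebra A B' →
      Nonempty (ResidueField B ≃ₐ[ResidueField A] K) →
      Nonempty (ResidueField B' ≃ₐ[ResidueField A] K) →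
      Nonempty (B ≃ₐ[A] B') := by
  refine ⟨exists_cohen_algebra K, ?_⟩
  intro B B' _ _ _ _ _ _ _ _ hB hB' ⟨e⟩ ⟨e'⟩
  obtain ⟨w, hw⟩ := exists_surj_lift hB hB' (e.trans e'.symm).toAlgHom (e.trans e'.symm).surjective
  obtain ⟨w', hw'⟩ := exists_surj_lift hB' hB (e'.trans e.symm).toAlgHom (e'.trans e.symm).surjective
  haveI : IsNoetherianRing B := hB.2.1
  have hinj : Function.Injective w := by
    have h1 : Function.Injective ((w' : B' →+* B).comp (w : B →+* B')) :=
      injective_of_surjective_endo _ (hw'.comp hw)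
    exact Function.Injective.of_comp (f := w') h1
  exact ⟨AlgEquiv.ofBijective w ⟨hinj, hw⟩⟩

end Groth.Agent.Helper7.Cohen
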