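import Mathlib
import Groth.Prelude
import Groth.Agent.Helper7.CKC7
import Groth.Agent.S2048
import Groth.Agent.S0581
import Groth.Agent.Helper7.CohenV1
import Groth.Agent.Helper2.PSReg
import Groth.Agent.Helper8.Schl21
set_option linter.style.haveILetI false
set_option linter.unusedSectionVars false
set_option linter.unusedVariables false
open Polynomial IsLocalRing
universe u
namespace Groth.Agent.Helper7.CKd

/-- a domain finite over a complete regular local domain is J-0. -/
theorem J0_of_finite_complete (R₀ D : Type u) [CommRing R₀] [IsDomain R₀] [IsLocalRing R₀]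
    [IsRegularRing R₀] [IsAdicComplete (maximalIdeal R₀) R₀] [CommRing D] [IsDomain D]
    [Algebra R₀ D] [Module.Finite R₀ D] (hinj : Function.Injective (algebraMap R₀ D)) : J0 D := by
  have hR₀ : J0 R₀ := J0.of_isRegularRing R₀
  obtain ⟨c, hc⟩ := CharP.exists D
  rcases CharP.char_is_prime_or_zero D c with hprime | h0
  · haveI : Fact c.Prime := ⟨hprime⟩
    refine J0_of_finite_charP hinj hR₀ c ?_
    intro B f hf
    haveI : IsNoetherian R₀ D := isNoetherian_of_isNoetherianRing_of_finite R₀ D
    haveI : Module.Finite R₀ ↥B :=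
      Module.Finite.of_injective B.val.toLinearMap Subtype.val_injective
    haveI : CharP ↥B c := RingHom.charP B.val.toRingHom Subtype.val_injective c
    exact Groth.Agent.S2048.result (R := R₀) (B := ↥B) c f hf
  · subst h0
    haveI : CharZero D := CharP.charP_to_charZero D
    haveI : FaithfulSMul R₀ D := (faithfulSMul_iff_algebraMap_injective _ _).mpr hinj
    haveI : FaithfulSMul R₀ (FractionRing D) := by
      rw [faithfulSMul_iff_algebraMap_injective, IsScalarTower.algebraMap_eq R₀ D]
      exact (IsFractionRing.injective D (FractionRing D)).comp hinj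
    letI := FractionRing.liftAlgebra R₀ (FractionRing D)
    haveI := isAlgebraic_fractionRing (R₀ := R₀) (D := D) hinj
    haveI : CharZero R₀ := RingHom.charZero (algebraMap R₀ D)
    haveI : CharZero (FractionRing R₀) :=
      charZero_of_injective_algebraMap (IsFractionRing.injective R₀ (FractionRing R₀))
    haveI : Algebra.IsSeparable (FractionRing R₀) (FractionRing D) := inferInstance
    exact J0.ascent_sep R₀ D hR₀

/-- **Complete Noetherian local rings are J-2.** -/
theorem s2622 (A : Type u) [CommRing A] [IsNoetherianRing A] [IsLocalRing A]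
    [IsAdicComplete (maximalIdeal A) A] : EGA4.IsJ2 A := by
  refine (Groth.Agent.Helper7.J2.s2617 A).mpr ?_
  intro A' _ _ _ hfin
  haveI := hfin
  apply J0.exists_open
  let φ : A →+* A' := algebraMap A A'
  haveI : (RingHom.ker φ).IsPrime := RingHom.ker_isPrime φ
  haveI : IsLocalRing (A ⧸ RingHom.ker φ) :=
    IsLocalRing.of_surjective' (Ideal.Quotient.mk (RingHom.ker φ)) Ideal.Quotient.mk_surjective
  haveI : IsAdicComplete (maximalIdeal (A ⧸ RingHom.ker φ)) (A ⧸ RingHom.ker φ) :=
    Groth.Agent.Helper7.Cohen.isAdicComplete_quotient _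
  letI : Algebra (A ⧸ RingHom.ker φ) A' := (RingHom.kerLift φ).toAlgebra
  haveI : IsScalarTower A (A ⧸ RingHom.ker φ) A' := IsScalarTower.of_algebraMap_eq (fun a => rfl)
  haveI : Module.Finite (A ⧸ RingHom.ker φ) A' :=
    Module.Finite.of_restrictScalars_finite A (A ⧸ RingHom.ker φ) A'
  have hinj' : Function.Injective (algebraMap (A ⧸ RingHom.ker φ) A') :=
    RingHom.kerLift_injective φ
  obtain ⟨Λ, _, n, g, hΛ, hginj, hgfin, -⟩ := Groth.Agent.S0581.result (A ⧸ RingHom.ker φ)
  have hregΛ : IsRegularRing Λ := by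
    rcases hΛ with h | h
    · haveI : IsDomain Λ := h.isDomain
      haveI : IsPrincipalIdealRing Λ := h.isPrincipalIdealRing
      infer_instance
    · obtain ⟨hd, hdvr, -⟩ := h
      infer_instance
  haveI : IsLocalRing Λ := by
    rcases hΛ with h | h
    · letI := h.toField
      infer_instance
    · obtain ⟨hd, hdvr, -⟩ := h
      infer_instance
  haveI : IsAdicComplete (maximalIdeal Λ) Λ := by
    rcases hΛ with h | h
    · letI := h.toField
      rw [IsLocalRing.maximalIdeal_eq_bot]
      infer_instance
    · obtain ⟨hd, hdvr, hc, -⟩ := h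
      exact hc
  haveI : IsRegularRing (MvPowerSeries (Fin n) Λ) :=
    Groth.Agent.Helper2.PSReg.isRegularRing_mvPowerSeries Λ n
  haveI : IsDomain (MvPowerSeries (Fin n) Λ) := hginj.isDomain g
  haveI : IsAdicComplete (maximalIdeal (MvPowerSeries (Fin n) Λ)) (MvPowerSeries (Fin n) Λ) :=
    Groth.Agent.Helper8.Schl.ps_isAdicComplete n
  letI : Algebra (MvPowerSeries (Fin n) Λ) (A ⧸ RingHom.ker φ) := g.toAlgebra
  letI : Algebra (MvPowerSeries (Fin n) Λ) A' :=
    ((algebraMap (A ⧸ RingHom.ker φ) A').comp g).toAlgebra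
  haveI : IsScalarTower (MvPowerSeries (Fin n) Λ) (A ⧸ RingHom.ker φ) A' :=
    IsScalarTower.of_algebraMap_eq (fun _ => rfl)
  haveI : Module.Finite (MvPowerSeries (Fin n) Λ) (A ⧸ RingHom.ker φ) := hgfin
  haveI : Module.Finite (MvPowerSeries (Fin n) Λ) A' :=
    Module.Finite.trans (A ⧸ RingHom.ker φ) A'
  exact J0_of_finite_complete (MvPowerSeries (Fin n) Λ) A' (hinj'.comp hginj)

/-- the regular locus of a complete Noetherian local ring is open. -/
theorem s2621 (A : Type u) [CommRing A] [IsNoetherianRing A] [IsLocalRing A]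
    [IsAdicComplete (maximalIdeal A) A] : IsOpen (EGA4.regLocus A) :=
  s2622 A A inferInstance

end Groth.Agent.Helper7.CKd
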