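import Mathlib
import Groth.Prelude
import Groth.Agent.Helper7.CKC10
import Groth.Agent.Helper7.CKu5
import Groth.Agent.Helper2.RegBC
import Groth.Agent.S2773
set_option linter.style.haveILetI false
set_option linter.unusedSectionVars false
set_option linter.unusedVariables false
open IsLocalRing TensorProduct
universe u
namespace Groth.Agent.Helper7.CKd

/-- a Noetherian local ring with regular completion map is J-2 (Matsumura, Theorem 76). -/
theorem isJ2_of_isRegularHom_cpl (S : Type u) [CommRing S] [IsNoetherianRing S] [IsLocalRing S]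
    (hS : CAlg.IsRegularHom S (EGA4.Cpl S)) : EGA4.IsJ2 S := by
  intro T _ _ hT
  haveI := hT
  haveI := Groth.Agent.Helper2.CplIff.noeth S
  haveI := Groth.Agent.Helper2.CplIff.ff S
  haveI : IsNoetherianRing T := Algebra.FiniteType.isNoetherianRing S T
  have hreg : CAlg.IsRegularHom T (T ⊗[S] EGA4.Cpl S) :=
    Groth.Agent.Helper2.RegBC.isRegularHom_baseChange (A := S) (A' := T) (B := EGA4.Cpl S)
      (Or.inr inferInstance) hS
  letI : Algebra (EGA4.Cpl S) (T ⊗[S] EGA4.Cpl S) := Algebra.TensorProduct.rightAlgebra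
  let f : EGA4.Cpl S ⊗[S] T →ₐ[EGA4.Cpl S] T ⊗[S] EGA4.Cpl S :=
    { (Algebra.TensorProduct.comm S (EGA4.Cpl S) T).toAlgHom.toRingHom with
      commutes' := fun c => by
        show (Algebra.TensorProduct.comm S (EGA4.Cpl S) T) (c ⊗ₜ[S] (1 : T)) = _
        rw [Algebra.TensorProduct.comm_tmul]
        rfl }
  haveI : Algebra.FiniteType (EGA4.Cpl S) (T ⊗[S] EGA4.Cpl S) :=
    Algebra.FiniteType.of_surjective f (Algebra.TensorProduct.comm S (EGA4.Cpl S) T).surjective
  have hopen : IsOpen (EGA4.regLocus (T ⊗[S] EGA4.Cpl S)) :=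
    s2622 (EGA4.Cpl S) (T ⊗[S] EGA4.Cpl S) inferInstance
  haveI : IsNoetherianRing (T ⊗[S] EGA4.Cpl S) :=
    Algebra.FiniteType.isNoetherianRing (EGA4.Cpl S) _
  haveI : Module.FaithfullyFlat T (T ⊗[S] EGA4.Cpl S) := inferInstance
  have hq : Topology.IsQuotientMap
      (PrimeSpectrum.comap (algebraMap T (T ⊗[S] EGA4.Cpl S))) :=
    PrimeSpectrum.isQuotientMap_of_generalizingMap
      PrimeSpectrum.comap_surjective_of_faithfullyFlat
      (RingHom.Flat.generalizingMap_comap (f := algebraMap T (T ⊗[S] EGA4.Cpl S))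
        (RingHom.flat_algebraMap_iff.mpr inferInstance))
  rw [← hq.isOpen_preimage]
  convert hopen using 1
  ext Q
  exact (regular_iff_of_isRegularHom T (T ⊗[S] EGA4.Cpl S) hreg Q.asIdeal).symm

/-- a Noetherian local G-ring is J-2. -/
theorem isJ2_of_isGRing (S : Type u) [CommRing S] [IsNoetherianRing S] [IsLocalRing S]
    (hS : CAlg.IsGRing S) : EGA4.IsJ2 S :=
  isJ2_of_isRegularHom_cpl S (isRegularHom_cpl_of_isGRing S hS)

/-- the henselization of an excellent local ring is excellent. -/
theorem s5042 (R S : Type u) [CommRing R] [IsLocalRing R]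
    [CommRing S] [IsLocalRing S] [Algebra R S] [IsLocalHom (algebraMap R S)]
    [Hensel.IsHenselization R S]
    (h : EGA4.IsExcellent R) : EGA4.IsExcellent S := by
  obtain ⟨hN, hUC, hG, hJ⟩ := h
  haveI := hN
  haveI := Groth.Agent.Helper1.Hens.isNoetherianRing_of_isHenselization R S
  have hGS : CAlg.IsGRing S := s2045 hG
  exact ⟨inferInstance, Groth.Agent.S2773.result R S hUC, hGS, isJ2_of_isGRing S hGS⟩

end Groth.Agent.Helper7.CKd
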