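import Groth.Agent.Helper7.CKL9
set_option linter.style.haveILetI false
set_option linter.unusedSectionVars false
set_option linter.unusedVariables false
set_option autoImplicit false
open TensorProduct IsLocalRing
universe u
namespace Groth.Agent.Helper7.CKd

section cf
variable (A Â C : Type u) [CommRing A] [CommRing Â] [CommRing C] [IsLocalRing A] [IsLocalRing Â]
  [Algebra A Â] [Algebra Â C] [Algebra A C] [IsScalarTower A Â C]

/-- the closed fibre does not change when the base is replaced by a local ring with the same
residue field and maximal ideal generated by that of the base (e.g. the completion). -/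
theorem geomNormal_closed_fibre_of_residue_iso
    (hmax : maximalIdeal Â = (maximalIdeal A).map (algebraMap A Â))
    (hD : ∀ x : Â, ∃ a : A, x - algebraMap A Â a ∈ maximalIdeal Â)
    (h : EGA4.IsGeomNormal (maximalIdeal A).ResidueField ((maximalIdeal A).Fiber C)) :
    EGA4.IsGeomNormal (maximalIdeal Â).ResidueField ((maximalIdeal Â).Fiber C) := by
  intro K' _ _ hfin
  haveI := hfin
  letI algÂK : Algebra Â K' :=
    ((algebraMap (maximalIdeal Â).ResidueField K').comp
      (algebraMap Â (maximalIdeal Â).ResidueField)).toAlgebra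
  haveI : IsScalarTower Â (maximalIdeal Â).ResidueField K' :=
    IsScalarTower.of_algebraMap_eq (fun _ => rfl)
  letI algAK : Algebra A K' := ((algebraMap Â K').comp (algebraMap A Â)).toAlgebra
  haveI : IsScalarTower A Â K' := IsScalarTower.of_algebraMap_eq (fun _ => rfl)
  have hkill : ∀ μ ∈ maximalIdeal Â, algebraMap Â K' μ = 0 := by
    intro μ hμ
    change algebraMap (maximalIdeal Â).ResidueField K'
      (algebraMap Â (maximalIdeal Â).ResidueField μ) = 0
    rw [Ideal.algebraMap_residueField_eq_zero.mpr hμ, map_zero]
  have hkillA : ∀ a ∈ maximalIdeal A, algebraMap A K' a = 0 := by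
    intro a ha
    have : algebraMap A Â a ∈ maximalIdeal Â := by
      rw [hmax]
      exact Ideal.mem_map_of_mem _ ha
    exact hkill _ this
  have hf₁ : maximalIdeal A ≤ RingHom.ker (algebraMap A K') := fun a ha => hkillA a ha
  have hf₂ : (maximalIdeal A).primeCompl ≤ (IsUnit.submonoid K').comap (algebraMap A K') := by
    intro a ha
    have hu : IsUnit a := by
      by_contra hnu
      exact ha ((mem_maximalIdeal a).mpr hnu)
    exact hu.map (algebraMap A K')
  letI : Algebra (maximalIdeal A).ResidueField K' :=
    (Ideal.ResidueField.lift (maximalIdeal A) (algebraMap A K') hf₁ hf₂).toAlgebra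
  haveI : IsScalarTower A (maximalIdeal A).ResidueField K' :=
    IsScalarTower.of_algebraMap_eq (fun a => by
      change algebraMap A K' a =
        Ideal.ResidueField.lift _ _ _ _ (algebraMap A (maximalIdeal A).ResidueField a)
      rw [Ideal.ResidueField.lift_algebraMap])
  -- the key compatibility
  have step1 : ∀ μ ∈ maximalIdeal Â, ∀ (c : Â) (m : K') (n : C),
      m ⊗ₜ[A] ((c * μ) • n) = 0 := by
    intro μ hμ
    rw [hmax] at hμ
    refine Submodule.span_induction (p := fun μ _ => ∀ (c : Â) (m : K') (n : C),
      m ⊗ₜ[A] ((c * μ) • n) = 0) ?_ ?_ ?_ ?_ hμ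
    · rintro _ ⟨a, ha, rfl⟩ c m n
      have e1 : (c * algebraMap A Â a) • n = a • (c • n) := by
        rw [mul_comm, mul_smul, algebraMap_smul]
      rw [e1, ← TensorProduct.smul_tmul, Algebra.smul_def, hkillA a ha, zero_mul,
        TensorProduct.zero_tmul]
    · intro c m n
      rw [mul_zero, zero_smul, TensorProduct.tmul_zero]
    · intro x y _ _ hx hy c m n
      rw [mul_add, add_smul, TensorProduct.tmul_add, hx, hy, add_zero]
    · intro d x _ hx c m n
      rw [smul_eq_mul, ← mul_assoc]
      exact hx (c * d) m n
  haveI : TensorProduct.CompatibleSMul A Â K' C := by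
    refine ⟨fun r m n => ?_⟩
    obtain ⟨a, ha⟩ := hD r
    have hr : r = algebraMap A Â a + (r - algebraMap A Â a) := by ring
    have h1 : r • m = a • m := by
      rw [Algebra.smul_def, Algebra.smul_def]
      conv_lhs => rw [hr]
      rw [map_add, hkill _ ha, add_zero]
      rfl
    have h2 : m ⊗ₜ[A] (r • n) = m ⊗ₜ[A] (a • n) := by
      conv_lhs => rw [hr]
      rw [add_smul, TensorProduct.tmul_add, algebraMap_smul]
      have := step1 _ ha 1 m n
      rw [one_mul] at this
      rw [this, add_zero]
    rw [h1, h2, TensorProduct.smul_tmul]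
  -- finiteness
  haveI : Module.Finite Â K' := Module.Finite.trans (maximalIdeal Â).ResidueField K'
  haveI : Module.Finite A K' := by
    obtain ⟨s, hs⟩ := (Module.Finite.fg_top : (⊤ : Submodule Â K').FG)
    refine ⟨⟨s, ?_⟩⟩
    rw [eq_top_iff]
    intro x _
    have hx : x ∈ Submodule.span Â (s : Set K') := by rw [hs]; exact Submodule.mem_top
    refine Submodule.span_induction (p := fun x _ => x ∈ Submodule.span A (s : Set K'))
      ?_ ?_ ?_ ?_ hx
    · intro y hy
      exact Submodule.subset_span hy
    · exact zero_mem _
    · intro y z _ _ hy hz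
      exact add_mem hy hz
    · intro r y _ hy
      obtain ⟨a, ha⟩ := hD r
      have h1 : r • y = a • y := by
        have hr : r = algebraMap A Â a + (r - algebraMap A Â a) := by ring
        rw [Algebra.smul_def, Algebra.smul_def]
        conv_lhs => rw [hr]
        rw [map_add, hkill _ ha, add_zero]
        rfl
      rw [h1]
      exact Submodule.smul_mem _ a hy
  haveI : Module.Finite (maximalIdeal A).ResidueField K' :=
    Module.Finite.of_restrictScalars_finite A (maximalIdeal A).ResidueField K'
  have h1 : EGA4.IsNormalRing (K' ⊗[(maximalIdeal A).ResidueField]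
      ((maximalIdeal A).ResidueField ⊗[A] C)) := h K' inferInstance
  let e1 : K' ⊗[(maximalIdeal A).ResidueField] ((maximalIdeal A).ResidueField ⊗[A] C) ≃+*
      K' ⊗[A] C :=
    (Algebra.TensorProduct.cancelBaseChange A (maximalIdeal A).ResidueField
      (maximalIdeal A).ResidueField K' C).toRingEquiv
  let e2 : K' ⊗[Â] C ≃+* K' ⊗[A] C :=
    (Algebra.TensorProduct.equivOfCompatibleSMul A Â A K' C).toRingEquiv
  let e3 : K' ⊗[(maximalIdeal Â).ResidueField] ((maximalIdeal Â).ResidueField ⊗[Â] C) ≃+*
      K' ⊗[Â] C :=
    (Algebra.TensorProduct.cancelBaseChange Â (maximalIdeal Â).ResidueField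
      (maximalIdeal Â).ResidueField K' C).toRingEquiv
  exact Groth.Agent.Helper2.GeomNor.isNormalRing_of_ringEquiv
    ((e1.trans e2.symm).trans e3.symm) h1

end cf

end Groth.Agent.Helper7.CKd
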