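import Groth.Agent.Helper7.CKL10
import Groth.Agent.Helper2.CplMap
import Groth.Agent.Helper2.CplIff
import Groth.Agent.Helper3.ComplFlat
import Groth.Agent.Helper2.CplDesc
set_option linter.style.haveILetI false
set_option linter.unusedSectionVars false
set_option linter.unusedVariables false
set_option autoImplicit false
open TensorProduct IsLocalRing
universe u
namespace Groth.Agent.Helper7.CKd

section s4745
variable (A B : Type u) [CommRing A] [CommRing B]
    [IsNoetherianRing A] [IsNoetherianRing B] [IsLocalRing A] [IsLocalRing B] [Algebra A B]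
    [IsLocalHom (algebraMap A B)]

theorem isScalarTower_cpl' :
    letI : Algebra (EGA4.Cpl A) (EGA4.Cpl B) := (Groth.Agent.Helper2.CplMap.ψ A B).toAlgebra
    IsScalarTower A (EGA4.Cpl A) (EGA4.Cpl B) := by
  letI : Algebra (EGA4.Cpl A) (EGA4.Cpl B) := (Groth.Agent.Helper2.CplMap.ψ A B).toAlgebra
  exact IsScalarTower.of_algebraMap_eq' (by
    rw [RingHom.algebraMap_toAlgebra, Groth.Agent.Helper2.CplMap.ψ_comp,
      ← IsScalarTower.algebraMap_eq])

/-- finiteness of the residue field of `B̂` over `Â`. -/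
theorem finite_cpl_residue' [Module.Finite (ResidueField A) (ResidueField B)] :
    letI : Algebra (EGA4.Cpl A) (EGA4.Cpl B) := (Groth.Agent.Helper2.CplMap.ψ A B).toAlgebra
    Module.Finite (EGA4.Cpl A) (EGA4.Cpl B ⧸ maximalIdeal (EGA4.Cpl B)) := by
  letI : Algebra (EGA4.Cpl A) (EGA4.Cpl B) := (Groth.Agent.Helper2.CplMap.ψ A B).toAlgebra
  haveI hst : IsScalarTower A (EGA4.Cpl A) (EGA4.Cpl B) := isScalarTower_cpl' A B
  haveI : Module.Finite A (ResidueField A) :=
    Module.Finite.of_surjective (Algebra.linearMap A (ResidueField A)) residue_surjective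
  haveI : Module.Finite A (ResidueField B) := Module.Finite.trans (ResidueField A) (ResidueField B)
  let f : B →ₐ[A] (EGA4.Cpl B ⧸ maximalIdeal (EGA4.Cpl B)) :=
    (Ideal.Quotient.mkₐ A (maximalIdeal (EGA4.Cpl B))).comp (IsScalarTower.toAlgHom A B (EGA4.Cpl B))
  have hf : Function.Surjective f := by
    intro y
    obtain ⟨x, hx⟩ := (AdicCompletion.residueField_map_bijective B).2 y
    obtain ⟨b, rfl⟩ := residue_surjective x
    exact ⟨b, hx⟩
  have hker : ∀ x ∈ maximalIdeal B, f x = 0 := by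
    intro x hx
    change Ideal.Quotient.mk _ (algebraMap B (EGA4.Cpl B) x) = 0
    rw [Ideal.Quotient.eq_zero_iff_mem, mem_maximalIdeal, mem_nonunits_iff]
    intro hu
    exact hx (isUnit_of_map_unit (algebraMap B (EGA4.Cpl B)) _ hu)
  let g : (B ⧸ maximalIdeal B) →ₐ[A] (EGA4.Cpl B ⧸ maximalIdeal (EGA4.Cpl B)) :=
    Ideal.Quotient.liftₐ (maximalIdeal B) f hker
  have hg : Function.Surjective g := by
    intro y
    obtain ⟨b, rfl⟩ := hf y
    exact ⟨Ideal.Quotient.mk _ b, rfl⟩
  haveI : Module.Finite A (B ⧸ maximalIdeal B) := ‹Module.Finite A (ResidueField B)›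
  haveI : Module.Finite A (EGA4.Cpl B ⧸ maximalIdeal (EGA4.Cpl B)) :=
    Module.Finite.of_surjective g.toLinearMap hg
  exact Module.Finite.of_restrictScalars_finite A (EGA4.Cpl A) _


/-- **S4745**. -/
theorem s4745 [Module.Flat A B] [Module.Finite (ResidueField A) (ResidueField B)]
    (hA : EGA4.HasGeomNormalFormalFibres A)
    (h : EGA4.IsGeomNormal (maximalIdeal A).ResidueField
      ((maximalIdeal A).Fiber (EGA4.Cpl B))) : EGA4.IsNormalHom A B := by
  letI : Algebra (EGA4.Cpl A) (EGA4.Cpl B) := (Groth.Agent.Helper2.CplMap.ψ A B).toAlgebra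
  haveI hst : IsScalarTower A (EGA4.Cpl A) (EGA4.Cpl B) := isScalarTower_cpl' A B
  haveI nA : IsNoetherianRing (EGA4.Cpl A) := Groth.Agent.Helper2.CplIff.noeth A
  haveI nB : IsNoetherianRing (EGA4.Cpl B) := Groth.Agent.Helper2.CplIff.noeth B
  haveI : IsLocalHom (algebraMap (EGA4.Cpl A) (EGA4.Cpl B)) :=
    Groth.Agent.Helper2.CplMap.ψ_isLocalHom A B
  haveI : Module.Flat (EGA4.Cpl A) (EGA4.Cpl B) :=
    Groth.Agent.Helper3.ComplFlat.flat_completion_map A B (Groth.Agent.Helper2.CplMap.ψ A B)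
      (Groth.Agent.Helper2.CplMap.ψ_comp A B)
  have hfin := finite_cpl_residue' A B
  have hD : ∀ x : EGA4.Cpl A, ∃ a : A, x - algebraMap A (EGA4.Cpl A) a ∈
      maximalIdeal (EGA4.Cpl A) := by
    intro x
    obtain ⟨y, hy⟩ := (AdicCompletion.residueField_map_bijective A).2 (residue _ x)
    obtain ⟨a, rfl⟩ := residue_surjective y
    refine ⟨a, ?_⟩
    rw [← residue_eq_zero_iff, map_sub, ← hy, IsLocalRing.ResidueField.map_residue, sub_self]
  have hcf : EGA4.IsGeomNormal (maximalIdeal (EGA4.Cpl A)).ResidueField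
      ((maximalIdeal (EGA4.Cpl A)).Fiber (EGA4.Cpl B)) :=
    geomNormal_closed_fibre_of_residue_iso A (EGA4.Cpl A) (EGA4.Cpl B)
      AdicCompletion.maximalIdeal_eq_map hD h
  have h1 : EGA4.IsNormalHom (EGA4.Cpl A) (EGA4.Cpl B) :=
    ⟨inferInstance, fun q _ => geomNormal_fibre (EGA4.Cpl A) (EGA4.Cpl B) hfin hcf q⟩
  haveI : Module.Flat A (EGA4.Cpl A) := AdicCompletion.flat_of_isNoetherian _
  have h0 : EGA4.IsNormalHom A (EGA4.Cpl A) := ⟨inferInstance, hA⟩
  have h2 : EGA4.IsNormalHom A (EGA4.Cpl B) :=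
    Groth.Agent.Helper2.NorComp.isNormalHom_comp A (EGA4.Cpl A) (EGA4.Cpl B) h0 h1
  haveI : Module.FaithfullyFlat B (EGA4.Cpl B) := Groth.Agent.Helper2.CplIff.ff B
  exact Groth.Agent.Helper2.CplDesc.isNormalHom_descent A B (EGA4.Cpl B) h2

end s4745

end Groth.Agent.Helper7.CKd
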