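import Groth.Agent.Helper7.CKL7
import Groth.Agent.Helper3.Chevalley
import Groth.Agent.Helper2.NagataCompl
import Groth.Agent.Helper2.NagataCompl2
set_option linter.style.haveILetI false
set_option linter.unusedSectionVars false
set_option linter.unusedVariables false
set_option autoImplicit false
open IsLocalRing
universe u
namespace Groth.Agent.Helper7.CKd

section chev
variable {A : Type u} [CommRing A] [IsNoetherianRing A] [IsLocalRing A]

/-- a nonempty family of ideals has a member minimal modulo `𝔪^k`. -/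
theorem exists_min_mod_pow (F : Set (Ideal A)) (hne : F.Nonempty) (k : ℕ) :
    ∃ I ∈ F, ∀ J ∈ F, J ≤ I → I ≤ J ⊔ maximalIdeal A ^ k := by
  cases k with
  | zero =>
    obtain ⟨I, hI⟩ := hne
    exact ⟨I, hI, fun J _ _ => by simp⟩
  | succ k =>
    haveI := Groth.Agent.Helper3.Chevalley.artinian_quot (A := A) k
    obtain ⟨M, ⟨I, hI, rfl⟩, hmin⟩ := IsArtinian.set_has_minimal
      ((fun I : Ideal A => I.map (Ideal.Quotient.mk (maximalIdeal A ^ (k + 1)))) '' F)
      (hne.image _)
    refine ⟨I, hI, fun J hJ hJI => ?_⟩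
    have h1 : J.map (Ideal.Quotient.mk (maximalIdeal A ^ (k + 1))) =
        I.map (Ideal.Quotient.mk (maximalIdeal A ^ (k + 1))) := by
      by_contra hne'
      exact hmin _ ⟨J, hJ, rfl⟩ (lt_of_le_of_ne (Ideal.map_mono hJI) hne')
    have h2 := congrArg (Ideal.comap (Ideal.Quotient.mk (maximalIdeal A ^ (k + 1)))) h1
    rw [Ideal.comap_map_of_surjective _ Ideal.Quotient.mk_surjective,
      Ideal.comap_map_of_surjective _ Ideal.Quotient.mk_surjective,
      ← RingHom.ker_eq_comap_bot, Ideal.mk_ker] at h2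
    exact le_sup_left.trans h2.ge

/-- **Chevalley's lemma** for a family of ideals closed under finite intersections. -/
theorem chevalley_directed [IsAdicComplete (maximalIdeal A) A] (F : Set (Ideal A))
    (hne : F.Nonempty) (hinf : ∀ I ∈ F, ∀ J ∈ F, I ⊓ J ∈ F) (h0 : sInf F = ⊥) (n : ℕ) :
    ∃ I ∈ F, I ≤ maximalIdeal A ^ n := by
  choose I hIF hI using exists_min_mod_pow F hne
  let a : ℕ → Ideal A := fun k => Nat.rec (I 0) (fun k ak => ak ⊓ I (k + 1)) k
  have has : ∀ k, a (k + 1) = a k ⊓ I (k + 1) := fun k => rfl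
  have haF : ∀ k, a k ∈ F := by
    intro k
    induction k with
    | zero => exact hIF 0
    | succ k ih => rw [has]; exact hinf _ ih _ (hIF _)
  have haI : ∀ k, a k ≤ I k := by
    intro k
    cases k with
    | zero => exact le_rfl
    | succ k => rw [has]; exact inf_le_right
  have hanti : Antitone a := antitone_nat_of_succ_le (fun k => by rw [has]; exact inf_le_left)
  have hbot : ⨅ k, a k = ⊥ := by
    rw [eq_bot_iff, ← h0]
    refine le_sInf (fun J hJ => ?_)
    intro x hx
    rw [Submodule.mem_iInf] at hx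
    apply Groth.Agent.Helper3.Chevalley.mem_of_forall_mem_sup_pow
    intro k
    have h1 : I k ≤ (a k ⊓ J) ⊔ maximalIdeal A ^ k :=
      hI k (a k ⊓ J) (hinf _ (haF k) _ hJ) (inf_le_left.trans (haI k))
    have h2 : (a k ⊓ J) ⊔ maximalIdeal A ^ k ≤ J ⊔ maximalIdeal A ^ k :=
      sup_le_sup_right inf_le_right _
    exact h2 (h1 (haI k (hx k)))
  obtain ⟨m, hm⟩ := Groth.Agent.Helper3.Chevalley.chevalley a hanti hbot n
  exact ⟨a m, haF m, hm⟩

/-- primes of coheight one. -/
def CohtOne (P : Ideal A) : Prop :=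
  P.IsPrime ∧ P ≠ maximalIdeal A ∧ ∀ Q : Ideal A, Q.IsPrime → P < Q → Q = maximalIdeal A

/-- the punctured spectrum of a Noetherian local ring is Jacobson. -/
theorem exists_cohtOne_not_mem (P : Ideal A) [hPp : P.IsPrime] (hP : P ≠ maximalIdeal A)
    (x : A) (hx : x ∉ P) : ∃ Q, CohtOne Q ∧ P ≤ Q ∧ x ∉ Q := by
  have hlt : P < maximalIdeal A := lt_of_le_of_ne (le_maximalIdeal hPp.ne_top) hP
  obtain ⟨f0, hf0m, hf0P⟩ := SetLike.exists_of_lt hlt
  have hfP : x * f0 ∉ P := fun h => (hPp.mem_or_mem h).elim hx hf0P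
  obtain ⟨Q, ⟨hQp, hPQ, hfQ⟩, hmax⟩ := set_has_maximal_iff_noetherian.mpr
    (inferInstance : IsNoetherian A A) {Q : Ideal A | Q.IsPrime ∧ P ≤ Q ∧ x * f0 ∉ Q}
    ⟨P, hPp, le_rfl, hfP⟩
  haveI := hQp
  refine ⟨Q, ⟨hQp, ?_, ?_⟩, hPQ, fun h => hfQ (Ideal.mul_mem_right _ _ h)⟩
  · intro h
    exact hfQ (h ▸ Ideal.mul_mem_left _ _ hf0m)
  · exact coheight_one_of_forall_mem A Q (x * f0) hfQ (fun Q' hQ' hlt' => by
      by_contra hf
      exact hmax Q' ⟨hQ', hPQ.trans hlt'.le, hf⟩ hlt')

/-- in a reduced Noetherian local ring which is not a field, the coheight-one primes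
intersect in zero. -/
theorem sInf_cohtOne_eq_bot [IsReduced A] (hA : ¬ IsField A) :
    sInf {P : Ideal A | CohtOne P} = ⊥ := by
  rw [eq_bot_iff]
  intro x hx
  rw [Submodule.mem_sInf] at hx
  have hex : ∃ P0 : Ideal A, P0.IsPrime ∧ P0 ≠ maximalIdeal A := by
    by_contra hcon
    push Not at hcon
    apply hA
    rw [IsLocalRing.isField_iff_maximalIdeal_eq, eq_bot_iff]
    intro y hy
    have : y ∈ nilradical A := by
      rw [nilradical_eq_sInf, Submodule.mem_sInf]
      intro P hP
      rw [hcon P hP]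
      exact hy
    rw [nilradical_eq_zero] at this
    exact this
  have hxn : x ∈ nilradical A := by
    rw [nilradical_eq_sInf, Submodule.mem_sInf]
    intro P hP
    have hP' : Ideal.IsPrime P := hP
    haveI := hP'
    by_cases hPm : P = maximalIdeal A
    · obtain ⟨P0, hP0, hP0m⟩ := hex
      haveI := hP0
      obtain ⟨Q, hQ, -, -⟩ := exists_cohtOne_not_mem P0 hP0m 1
        (fun h => hP0.ne_top ((Ideal.eq_top_iff_one _).mpr h))
      rw [hPm]
      exact le_maximalIdeal hQ.1.ne_top (hx Q hQ)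
    · by_contra hxP
      obtain ⟨Q, hQ, -, hxQ⟩ := exists_cohtOne_not_mem P hPm x hxP
      exact hxQ (hx Q hQ)
  rw [nilradical_eq_zero] at hxn
  exact hxn

end chev

section dvr

/-- a normal Noetherian local domain integral over a one-dimensional local domain is a DVR. -/
theorem isDVR_of_integral_dim_one (B V : Type u) [CommRing B] [IsDomain B] [IsLocalRing B]
    [CommRing V] [IsDomain V] [IsLocalRing V] [IsNoetherianRing V] [IsIntegrallyClosed V]
    [Algebra B V] [Algebra.IsIntegral B V] (hinj : Function.Injective (algebraMap B V))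
    (hB : ¬ IsField B) (hdim : ∀ Q : Ideal B, Q.IsPrime → Q ≠ ⊥ → Q = maximalIdeal B) :
    IsDiscreteValuationRing V := by
  have hV : ¬ IsField V := fun h => hB (isField_of_isIntegral_of_isField hinj h)
  have hiff := (IsDiscreteValuationRing.TFAE V hV).out 0 3
  rw [hiff]
  refine ⟨inferInstance, maximalIdeal V, ⟨?_, inferInstance⟩, ?_⟩
  · intro h
    exact hV (IsLocalRing.isField_iff_maximalIdeal_eq.mpr h)
  · rintro Q ⟨hQ0, hQp⟩
    haveI := hQp
    have h1 : Q.comap (algebraMap B V) ≠ ⊥ := fun h => hQ0 (Ideal.eq_bot_of_comap_eq_bot h)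
    have h2 := hdim _ (Ideal.comap_isPrime _ _) h1
    have h3 : (Q.comap (algebraMap B V)).IsMaximal := h2 ▸ inferInstance
    have h4 := Ideal.isMaximal_of_isIntegral_of_isMaximal_comap Q h3
    exact IsLocalRing.eq_maximalIdeal h4

/-- the normalisation of a one-dimensional complete Noetherian local domain is a DVR,
finite over it. -/
theorem exists_dvr_of_dim_one (B : Type u) [CommRing B] [IsDomain B] [IsNoetherianRing B]
    [IsLocalRing B] [IsAdicComplete (maximalIdeal B) B] (hB : ¬ IsField B)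
    (hdim : ∀ Q : Ideal B, Q.IsPrime → Q ≠ ⊥ → Q = maximalIdeal B) :
    ∃ (V : Type u) (_ : CommRing V) (_ : IsDomain V) (_ : IsDiscreteValuationRing V)
      (ψ : B →+* V), Function.Injective ψ ∧ ψ.Finite := by
  have hN2 := Groth.Agent.Helper2.NagataCompl.isN2_of_complete B
  have hfin : Module.Finite B (integralClosure B (FractionRing B)) :=
    hN2 (FractionRing B) inferInstance
  have hinj : Function.Injective (algebraMap B (integralClosure B (FractionRing B))) := by
    intro x y h
    apply IsFractionRing.injective B (FractionRing B)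
    have := congrArg (algebraMap (integralClosure B (FractionRing B)) (FractionRing B)) h
    rwa [← IsScalarTower.algebraMap_apply, ← IsScalarTower.algebraMap_apply] at this
  haveI hIC : IsIntegrallyClosed (integralClosure B (FractionRing B)) :=
    integralClosure.isIntegrallyClosedOfFiniteExtension (FractionRing B)
  refine ⟨integralClosure B (FractionRing B), inferInstance, inferInstance, ?_,
    algebraMap B _, hinj, (RingHom.finite_algebraMap).mpr hfin⟩
  have key : ∀ (V : Type u) [CommRing V] [IsDomain V] [Algebra B V] [Module.Finite B V]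
      [IsIntegrallyClosed V], Function.Injective (algebraMap B V) →
      IsDiscreteValuationRing V := by
    intro V _ _ _ _ _ hinjV
    obtain ⟨hloc, -⟩ := Groth.Agent.Helper2.NagataCompl2.local_complete_of_finite B V
    haveI : IsNoetherianRing V := IsNoetherianRing.of_finite B V
    haveI : Algebra.IsIntegral B V := Algebra.IsIntegral.of_finite B V
    exact isDVR_of_integral_dim_one B V hinjV hB hdim
  exact key _ hinj

/-- a coheight-one prime of a complete Noetherian local ring is the kernel of a finite local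
homomorphism to a DVR. -/
theorem exists_dvr_of_cohtOne {A : Type u} [CommRing A] [IsNoetherianRing A] [IsLocalRing A]
    [IsAdicComplete (maximalIdeal A) A] (P : Ideal A) (hP : CohtOne P) :
    ∃ (V : Type u) (_ : CommRing V) (_ : IsDomain V) (_ : IsDiscreteValuationRing V)
      (φ : A →+* V), IsLocalHom φ ∧ φ.Finite ∧ RingHom.ker φ = P := by
  haveI := hP.1
  have hsurj : Function.Surjective (Ideal.Quotient.mk P) := Ideal.Quotient.mk_surjective
  haveI : IsLocalRing (A ⧸ P) := IsLocalRing.of_surjective' (Ideal.Quotient.mk P) hsurj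
  obtain ⟨_, hcomp⟩ := Groth.Agent.Helper2.NagataCompl2.local_complete_of_finite A (A ⧸ P)
  haveI := hcomp
  have hmax : (maximalIdeal A).map (Ideal.Quotient.mk P) = maximalIdeal (A ⧸ P) :=
    IsLocalRing.map_maximalIdeal_of_surjective (Ideal.Quotient.mk P) hsurj
  have hB : ¬ IsField (A ⧸ P) := by
    intro h
    have := (Ideal.Quotient.maximal_ideal_iff_isField_quotient P).mpr h
    exact hP.2.1 (IsLocalRing.eq_maximalIdeal this)
  have hdim : ∀ Q : Ideal (A ⧸ P), Q.IsPrime → Q ≠ ⊥ → Q = maximalIdeal (A ⧸ P) := by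
    intro Q hQ hQ0
    have hle : P ≤ Q.comap (Ideal.Quotient.mk P) := by
      intro b hb
      show Ideal.Quotient.mk P b ∈ Q
      rw [Ideal.Quotient.eq_zero_iff_mem.mpr hb]
      exact zero_mem _
    have hne' : P ≠ Q.comap (Ideal.Quotient.mk P) := by
      intro h
      apply hQ0
      rw [← Ideal.map_comap_of_surjective _ hsurj Q, ← h, Ideal.map_quotient_self]
    have h2 := hP.2.2 _ (Ideal.comap_isPrime _ _) (lt_of_le_of_ne hle hne')
    rw [← Ideal.map_comap_of_surjective _ hsurj Q, h2, hmax]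
  obtain ⟨V, i1, i2, i3, ψ, hψinj, hψfin⟩ := exists_dvr_of_dim_one (A ⧸ P) hB hdim
  refine ⟨V, i1, i2, i3, ψ.comp (Ideal.Quotient.mk P), ?_, ?_, ?_⟩
  · haveI : IsLocalHom ψ := RingHom.IsIntegral.isLocalHom hψfin.to_isIntegral hψinj
    haveI : IsLocalHom (Ideal.Quotient.mk P) := IsLocalHom.of_surjective _ hsurj
    exact RingHom.isLocalHom_comp _ _
  · exact hψfin.comp (RingHom.Finite.of_surjective _ hsurj)
  · rw [← RingHom.comap_ker, (RingHom.injective_iff_ker_eq_bot ψ).mp hψinj,
      ← RingHom.ker_eq_comap_bot, Ideal.mk_ker]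

theorem s3450 (A : Type u) [CommRing A] [IsNoetherianRing A] [IsLocalRing A] [IsReduced A]
    [IsAdicComplete (maximalIdeal A) A] (hA : ¬ IsField A) (n : ℕ) :
    ∃ (k : ℕ) (V : Fin k → Type u) (_ : ∀ i, CommRing (V i)) (_ : ∀ i, IsDomain (V i))
      (_ : ∀ i, IsDiscreteValuationRing (V i)) (φ : ∀ i, A →+* V i),
      (∀ i, IsLocalHom (φ i) ∧ (φ i).Finite) ∧
        ⨅ i, RingHom.ker (φ i) ≤ maximalIdeal A ^ n := by
  classical
  let F : Set (Ideal A) := {I | ∃ s : Finset (Ideal A), (∀ P ∈ s, CohtOne P) ∧ I = s.inf id}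
  have hne : F.Nonempty := ⟨⊤, ∅, by simp, by simp⟩
  have hinf : ∀ I ∈ F, ∀ J ∈ F, I ⊓ J ∈ F := by
    rintro I ⟨s, hs, rfl⟩ J ⟨t, ht, rfl⟩
    exact ⟨s ∪ t, fun P hP => (Finset.mem_union.mp hP).elim (hs P) (ht P),
      (Finset.inf_union).symm⟩
  have h0 : sInf F = ⊥ := by
    rw [eq_bot_iff, ← sInf_cohtOne_eq_bot hA]
    refine le_sInf (fun P hP => sInf_le ⟨{P}, ?_, by simp⟩)
    intro P' hP'
    rw [Finset.mem_singleton] at hP'
    rw [hP']
    exact hP
  obtain ⟨I, ⟨s, hs, rfl⟩, hI⟩ := chevalley_directed F hne hinf h0 n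
  have key : ∀ i : Fin s.card, ∃ (V : Type u) (_ : CommRing V) (_ : IsDomain V)
      (_ : IsDiscreteValuationRing V) (φ : A →+* V),
      IsLocalHom φ ∧ φ.Finite ∧ RingHom.ker φ = (s.equivFin.symm i).1 :=
    fun i => exists_dvr_of_cohtOne _ (hs _ (s.equivFin.symm i).2)
  choose V i1 i2 i3 φ hφ using key
  refine ⟨s.card, V, i1, i2, i3, φ, fun i => ⟨(hφ i).1, (hφ i).2.1⟩, ?_⟩
  refine le_trans ?_ hI
  refine Finset.le_inf (fun P hP => ?_)
  have := iInf_le (fun i => RingHom.ker (φ i)) (s.equivFin ⟨P, hP⟩)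
  rw [(hφ _).2.2, Equiv.symm_apply_apply] at this
  exact this

end dvr

end Groth.Agent.Helper7.CKd
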