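import Mathlib
import Groth.Prelude
import Groth.Agent.Helper7.CKO16
import Groth.Agent.Helper4.AdicFlat
set_option linter.style.haveILetI false
set_option linter.unusedSectionVars false
set_option linter.unusedVariables false
set_option autoImplicit false
open TensorProduct Function
universe u
namespace Groth.Agent.Helper7.CKd

section splitX

variable {R : Type u} [CommRing R] (I : Ideal R)

/-- Lemma X: a surjection onto a flat module with projective reduction, whose kernel is killed by `I`,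
splits. -/
theorem exists_section_of_ker_killed {E M : Type u} [AddCommGroup E] [Module R E]
    [AddCommGroup M] [Module R M]
    [Module.Flat R M] [Module.Projective (R ⧸ I) (M ⧸ (I • ⊤ : Submodule R M))]
    (q : E →ₗ[R] M) (hq : Surjective q) (hker : ∀ r ∈ I, ∀ e, q e = 0 → r • e = 0) :
    ∃ s : M →ₗ[R] E, q ∘ₗ s = LinearMap.id := by
  -- Step 1
  have h1 : ∀ e, q e = 0 → e ∈ (I • ⊤ : Submodule R E) → e = 0 := by
    intro e he hmem
    have hex : Function.Exact (LinearMap.ker q).subtype q := by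
      intro x
      constructor
      · intro hx
        exact ⟨⟨x, hx⟩, rfl⟩
      · rintro ⟨y, rfl⟩
        exact y.2
    have h2 := mem_smul_top_of_flat_coker' I (LinearMap.ker q).subtype q
      (Submodule.injective_subtype _) hq hex ⟨e, he⟩ hmem
    have h3 : ∀ k ∈ (I • ⊤ : Submodule R (LinearMap.ker q)), k = 0 := by
      intro k hk
      refine Submodule.smul_induction_on hk ?_ ?_
      · intro r hr k _
        apply Subtype.ext
        exact hker r hr k.1 k.2
      · intro x y hx hy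
        rw [hx, hy, add_zero]
    have := h3 _ h2
    exact congrArg Subtype.val this
  -- Step 2
  let qbar : (E ⧸ (I • ⊤ : Submodule R E)) →ₗ[R ⧸ I] (M ⧸ (I • ⊤ : Submodule R M)) :=
    q.reduceModIdeal I
  have hqbar : Surjective qbar := by
    intro x
    obtain ⟨m, rfl⟩ := Submodule.Quotient.mk_surjective _ x
    obtain ⟨e, rfl⟩ := hq m
    exact ⟨Submodule.Quotient.mk e, rfl⟩
  obtain ⟨τ, hτ⟩ := Module.projective_lifting_property qbar LinearMap.id hqbar
  have hτ' : ∀ x, qbar (τ x) = x := fun x => LinearMap.congr_fun hτ x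
  -- Step 3
  let E' : Submodule R E := Submodule.comap (Submodule.mkQ (I • ⊤ : Submodule R E))
    (LinearMap.range (τ.restrictScalars R))
  let q' : E' →ₗ[R] M := q ∘ₗ E'.subtype
  have hImap : (I • ⊤ : Submodule R M) = Submodule.map q (I • ⊤ : Submodule R E) := by
    rw [Submodule.map_smul'', Submodule.map_top, LinearMap.range_eq_top.mpr hq]
  have hinj : Injective q' := by
    rw [← LinearMap.ker_eq_bot, eq_bot_iff]
    rintro ⟨e, he⟩ hx
    rw [LinearMap.mem_ker] at hx
    have hqe : q e = 0 := hx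
    obtain ⟨x, hx'⟩ := he
    have hx'' : τ x = Submodule.Quotient.mk e := hx'
    have : x = 0 := by
      rw [← hτ' x, hx'']
      show Submodule.Quotient.mk (q e) = 0
      rw [hqe]; rfl
    rw [this, map_zero] at hx''
    have hmem : e ∈ (I • ⊤ : Submodule R E) := by
      rw [← Submodule.Quotient.mk_eq_zero]
      exact hx''.symm
    rw [Submodule.mem_bot]
    apply Subtype.ext
    exact h1 e hqe hmem
  have hsurj : Surjective q' := by
    intro m
    obtain ⟨e₀, he₀⟩ := Submodule.Quotient.mk_surjective _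
      (τ (Submodule.Quotient.mk m : M ⧸ (I • ⊤ : Submodule R M)))
    have h2 : (Submodule.Quotient.mk (q e₀) : M ⧸ (I • ⊤ : Submodule R M)) =
        Submodule.Quotient.mk m := by
      have := hτ' (Submodule.Quotient.mk m)
      rw [← he₀] at this
      exact this
    have h3 : m - q e₀ ∈ (I • ⊤ : Submodule R M) := by
      rw [← Submodule.Quotient.mk_eq_zero, Submodule.Quotient.mk_sub, h2, sub_self]
    rw [hImap] at h3
    obtain ⟨e₁, he₁, he₁'⟩ := h3
    have hmem : e₀ + e₁ ∈ E' := by
      refine ⟨Submodule.Quotient.mk m, ?_⟩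
      show τ _ = Submodule.Quotient.mk (e₀ + e₁)
      rw [Submodule.Quotient.mk_add, (Submodule.Quotient.mk_eq_zero _).mpr he₁, add_zero, he₀]
    refine ⟨⟨e₀ + e₁, hmem⟩, ?_⟩
    show q (e₀ + e₁) = m
    rw [map_add, he₁']
    abel
  let eq : E' ≃ₗ[R] M := LinearEquiv.ofBijective q' ⟨hinj, hsurj⟩
  refine ⟨E'.subtype ∘ₗ eq.symm.toLinearMap, ?_⟩
  ext m
  show q' (eq.symm m) = m
  exact eq.apply_symm_apply m

end splitX

section splitY

variable {R : Type u} [CommRing R] (I : Ideal R)

theorem smul_eq_zero_of_mem_pow_smul_top {A : Type u} [AddCommGroup A] [Module R A] (n : ℕ)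
    (hA : ∀ r ∈ I ^ (n + 1), ∀ a : A, r • a = 0) (r : R) (hr : r ∈ I) (a : A)
    (ha : a ∈ (I ^ n • ⊤ : Submodule R A)) : r • a = 0 := by
  refine Submodule.smul_induction_on ha ?_ ?_
  · intro s hs a' _
    rw [smul_smul]
    apply hA
    rw [pow_succ']
    exact Ideal.mul_mem_mul hr hs
  · intro x y hx hy
    rw [smul_add, hx, hy, add_zero]

/-- Lemma Y: lifting maps from `M` along surjections of `I`-power torsion modules. -/
theorem exists_lift_of_pow_killed {M : Type u} [AddCommGroup M] [Module R M]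
    [Module.Flat R M] [Module.Projective (R ⧸ I) (M ⧸ (I • ⊤ : Submodule R M))] (n : ℕ) :
    ∀ {A B : Type u} [AddCommGroup A] [Module R A] [AddCommGroup B] [Module R B]
    (f : A →ₗ[R] B) (hf : Surjective f) (hA : ∀ r ∈ I ^ n, ∀ a : A, r • a = 0)
    (h : M →ₗ[R] B), ∃ l : M →ₗ[R] A, f ∘ₗ l = h := by
  induction n with
  | zero =>
    intro A B _ _ _ _ f hf hA h
    have hA0 : ∀ a : A, a = 0 := by
      intro a
      have := hA 1 (by rw [pow_zero, Ideal.one_eq_top]; exact Submodule.mem_top) a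
      rwa [one_smul] at this
    refine ⟨0, ?_⟩
    ext m
    obtain ⟨a, ha⟩ := hf (h m)
    rw [← ha, hA0 a, map_zero]
    simp
  | succ n ih =>
    intro A B _ _ _ _ f hf hA h
    let A₁ := A ⧸ (I ^ n • ⊤ : Submodule R A)
    let B₁ := B ⧸ (I ^ n • ⊤ : Submodule R B)
    have hle : (I ^ n • ⊤ : Submodule R A) ≤ Submodule.comap f (I ^ n • ⊤ : Submodule R B) := by
      rw [← Submodule.map_le_iff_le_comap, Submodule.map_smul'']
      exact smul_mono_right _ le_top
    let f₁ : A₁ →ₗ[R] B₁ := Submodule.mapQ _ _ f hle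
    have hf₁ : Surjective f₁ := by
      intro x
      obtain ⟨b, rfl⟩ := Submodule.Quotient.mk_surjective _ x
      obtain ⟨a, rfl⟩ := hf b
      exact ⟨Submodule.Quotient.mk a, rfl⟩
    have hA₁ : ∀ r ∈ I ^ n, ∀ a : A₁, r • a = 0 := by
      intro r hr a
      obtain ⟨a, rfl⟩ := Submodule.Quotient.mk_surjective _ a
      rw [← Submodule.Quotient.mk_smul, Submodule.Quotient.mk_eq_zero]
      exact Submodule.smul_mem_smul hr Submodule.mem_top
    obtain ⟨l₁, hl₁⟩ := ih f₁ hf₁ hA₁ ((Submodule.mkQ _) ∘ₗ h)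
    have hl₁' : ∀ m, f₁ (l₁ m) = Submodule.Quotient.mk (h m) := fun m => LinearMap.congr_fun hl₁ m
    -- the fibre product
    let φ : (A × M) →ₗ[R] (A₁ × B) :=
      ((Submodule.mkQ _) ∘ₗ LinearMap.fst R A M).prod (f ∘ₗ LinearMap.fst R A M)
    let ψ : (A × M) →ₗ[R] (A₁ × B) :=
      (l₁ ∘ₗ LinearMap.snd R A M).prod (h ∘ₗ LinearMap.snd R A M)
    let E : Submodule R (A × M) := LinearMap.eqLocus φ ψ
    have hE : ∀ x : A × M, x ∈ E ↔ (Submodule.Quotient.mk x.1 = l₁ x.2 ∧ f x.1 = h x.2) := by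
      intro x
      show φ x = ψ x ↔ _
      exact Prod.ext_iff
    let q : E →ₗ[R] M := LinearMap.snd R A M ∘ₗ E.subtype
    have hImap : (I ^ n • ⊤ : Submodule R B) = Submodule.map f (I ^ n • ⊤ : Submodule R A) := by
      rw [Submodule.map_smul'', Submodule.map_top, LinearMap.range_eq_top.mpr hf]
    have hq : Surjective q := by
      intro m
      obtain ⟨a₀, ha₀⟩ := Submodule.Quotient.mk_surjective _ (l₁ m)
      have h2 : (Submodule.Quotient.mk (f a₀) : B₁) = Submodule.Quotient.mk (h m) := by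
        rw [← hl₁' m, ← ha₀]
        rfl
      have h3 : h m - f a₀ ∈ (I ^ n • ⊤ : Submodule R B) := by
        rw [← Submodule.Quotient.mk_eq_zero, Submodule.Quotient.mk_sub, h2, sub_self]
      rw [hImap] at h3
      obtain ⟨a₁, ha₁, ha₁'⟩ := h3
      have hmem : ((a₀ + a₁, m) : A × M) ∈ E := by
        rw [hE]
        refine ⟨?_, ?_⟩
        · show Submodule.Quotient.mk (a₀ + a₁) = l₁ m
          rw [Submodule.Quotient.mk_add, (Submodule.Quotient.mk_eq_zero _).mpr ha₁, add_zero, ha₀]
        · show f (a₀ + a₁) = h m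
          rw [map_add, ha₁']
          abel
      exact ⟨⟨_, hmem⟩, rfl⟩
    have hker : ∀ r ∈ I, ∀ e, q e = 0 → r • e = 0 := by
      rintro r hr ⟨⟨a, m⟩, he⟩ hqe
      have hm : m = 0 := hqe
      subst hm
      rw [hE] at he
      have ha : a ∈ (I ^ n • ⊤ : Submodule R A) := by
        rw [← Submodule.Quotient.mk_eq_zero]
        have := he.1
        rw [map_zero] at this
        exact this
      apply Subtype.ext
      show r • ((a, 0) : A × M) = 0
      rw [Prod.smul_mk, smul_zero, smul_eq_zero_of_mem_pow_smul_top I n hA r hr a ha]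
      rfl
    obtain ⟨σ, hσ⟩ := exists_section_of_ker_killed I q hq hker
    have hσ' : ∀ m, q (σ m) = m := fun m => LinearMap.congr_fun hσ m
    refine ⟨LinearMap.fst R A M ∘ₗ E.subtype ∘ₗ σ, ?_⟩
    ext m
    show f (σ m).1.1 = h m
    have h4 := ((hE _).mp (σ m).2).2
    rw [h4]
    congr 1
    exact hσ' m

/-- Lemma Y': version for non-surjective maps. -/
theorem exists_lift_of_pow_killed' {M : Type u} [AddCommGroup M] [Module R M]
    [Module.Flat R M] [Module.Projective (R ⧸ I) (M ⧸ (I • ⊤ : Submodule R M))] (n : ℕ)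
    {A B : Type u} [AddCommGroup A] [Module R A] [AddCommGroup B] [Module R B]
    (f : A →ₗ[R] B) (hA : ∀ r ∈ I ^ n, ∀ a : A, r • a = 0)
    (h : M →ₗ[R] B) (hh : ∀ m, h m ∈ LinearMap.range f) : ∃ l : M →ₗ[R] A, f ∘ₗ l = h := by
  obtain ⟨l, hl⟩ := exists_lift_of_pow_killed I n f.rangeRestrict f.surjective_rangeRestrict hA
    (h.codRestrict (LinearMap.range f) hh)
  refine ⟨l, ?_⟩
  ext m
  have := LinearMap.congr_fun hl m
  exact congrArg Subtype.val this

end splitY

section splitZ

variable {R : Type u} [CommRing R] (I : Ideal R)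
variable {P M : Type u} [AddCommGroup P] [Module R P] [AddCommGroup M] [Module R M]

theorem quot_pow_killed (n : ℕ) : ∀ r ∈ I ^ n, ∀ a : P ⧸ (I ^ n • ⊤ : Submodule R P), r • a = 0 := by
  intro r hr a
  obtain ⟨a, rfl⟩ := Submodule.Quotient.mk_surjective _ a
  rw [← Submodule.Quotient.mk_smul, Submodule.Quotient.mk_eq_zero]
  exact Submodule.smul_mem_smul hr Submodule.mem_top

theorem exists_next_section [Module.Flat R M]
    [Module.Projective (R ⧸ I) (M ⧸ (I • ⊤ : Submodule R M))]
    (g : P →ₗ[R] M) (hg : Surjective g) (n : ℕ)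
    (t : M →ₗ[R] P ⧸ (I ^ n • ⊤ : Submodule R P))
    (ht : ∀ m, g.reduceModIdeal (I ^ n) (t m) = Submodule.Quotient.mk m) :
    ∃ t' : M →ₗ[R] P ⧸ (I ^ (n + 1) • ⊤ : Submodule R P),
      (∀ m, g.reduceModIdeal (I ^ (n + 1)) (t' m) = Submodule.Quotient.mk m) ∧
      ∀ m, AdicCompletion.transitionMap I P (Nat.le_succ n) (t' m) = t m := by
  let f : (P ⧸ (I ^ (n + 1) • ⊤ : Submodule R P)) →ₗ[R]
      (M ⧸ (I ^ (n + 1) • ⊤ : Submodule R M)) × (P ⧸ (I ^ n • ⊤ : Submodule R P)) :=
    ((g.reduceModIdeal (I ^ (n + 1))).restrictScalars R).prod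
      (AdicCompletion.transitionMap I P (Nat.le_succ n))
  let h : M →ₗ[R]
      (M ⧸ (I ^ (n + 1) • ⊤ : Submodule R M)) × (P ⧸ (I ^ n • ⊤ : Submodule R P)) :=
    (Submodule.mkQ _).prod t
  have hImap : (I ^ n • ⊤ : Submodule R M) = Submodule.map g (I ^ n • ⊤ : Submodule R P) := by
    rw [Submodule.map_smul'', Submodule.map_top, LinearMap.range_eq_top.mpr hg]
  have hh : ∀ m, h m ∈ LinearMap.range f := by
    intro m
    obtain ⟨p, hp⟩ := Submodule.Quotient.mk_surjective _ (t m)
    have h2 : (Submodule.Quotient.mk (g p) : M ⧸ (I ^ n • ⊤ : Submodule R M)) =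
        Submodule.Quotient.mk m := by
      rw [← ht m, ← hp]
      rfl
    have h3 : m - g p ∈ (I ^ n • ⊤ : Submodule R M) := by
      rw [← Submodule.Quotient.mk_eq_zero, Submodule.Quotient.mk_sub, h2, sub_self]
    rw [hImap] at h3
    obtain ⟨p₁, hp₁, hp₁'⟩ := h3
    refine ⟨Submodule.Quotient.mk (p + p₁), ?_⟩
    apply Prod.ext
    · show Submodule.Quotient.mk (g (p + p₁)) = Submodule.Quotient.mk m
      rw [map_add, hp₁']
      congr 1
      abel
    · show Submodule.Quotient.mk (p + p₁) = t m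
      rw [Submodule.Quotient.mk_add, (Submodule.Quotient.mk_eq_zero _).mpr hp₁, add_zero, hp]
  obtain ⟨l, hl⟩ := exists_lift_of_pow_killed' I (n + 1) f (quot_pow_killed I (n + 1)) h hh
  have hl' : ∀ m, f (l m) = h m := fun m => LinearMap.congr_fun hl m
  refine ⟨l, fun m => ?_, fun m => ?_⟩
  · exact congrArg Prod.fst (hl' m)
  · exact congrArg Prod.snd (hl' m)

theorem exists_compatible_sections [Module.Flat R M]
    [Module.Projective (R ⧸ I) (M ⧸ (I • ⊤ : Submodule R M))]
    (g : P →ₗ[R] M) (hg : Surjective g) :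
    ∃ t : ∀ n, M →ₗ[R] P ⧸ (I ^ n • ⊤ : Submodule R P),
      (∀ n m, g.reduceModIdeal (I ^ n) (t n m) = Submodule.Quotient.mk m) ∧
      ∀ n m, AdicCompletion.transitionMap I P (Nat.le_succ n) (t (n + 1) m) = t n m := by
  let S : ℕ → Type u := fun n => {t : M →ₗ[R] P ⧸ (I ^ n • ⊤ : Submodule R P) //
    ∀ m, g.reduceModIdeal (I ^ n) (t m) = Submodule.Quotient.mk m}
  have base : ∀ m, g.reduceModIdeal (I ^ 0)
      ((0 : M →ₗ[R] P ⧸ (I ^ 0 • ⊤ : Submodule R P)) m) = Submodule.Quotient.mk m := by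
    intro m
    rw [LinearMap.zero_apply, map_zero]
    symm
    rw [Submodule.Quotient.mk_eq_zero, pow_zero, Ideal.one_eq_top, Submodule.top_smul]
    exact Submodule.mem_top
  let step : ∀ n, S n → S (n + 1) := fun n s =>
    ⟨Classical.choose (exists_next_section I g hg n s.1 s.2),
      (Classical.choose_spec (exists_next_section I g hg n s.1 s.2)).1⟩
  let seq : ∀ n, S n := fun n => Nat.rec (motive := S) ⟨0, base⟩ step n
  refine ⟨fun n => (seq n).1, fun n => (seq n).2, fun n m => ?_⟩
  exact (Classical.choose_spec (exists_next_section I g hg n (seq n).1 (seq n).2)).2 m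

theorem compatible_of_succ (t : ∀ n, M →ₗ[R] P ⧸ (I ^ n • ⊤ : Submodule R P))
    (ht : ∀ n m, AdicCompletion.transitionMap I P (Nat.le_succ n) (t (n + 1) m) = t n m)
    {k n : ℕ} (hkn : k ≤ n) (m : M) :
    AdicCompletion.transitionMap I P hkn (t n m) = t k m := by
  induction n, hkn using Nat.le_induction with
  | base =>
    obtain ⟨p, hp⟩ := Submodule.Quotient.mk_surjective _ (t k m)
    rw [← hp]
    rfl
  | succ n hkn ih =>
    rw [← ih, ← ht n m]
    obtain ⟨p, hp⟩ := Submodule.Quotient.mk_surjective _ (t (n + 1) m)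
    rw [← hp]
    rfl

end splitZ

section splitW

variable {R : Type u} [CommRing R] (I : Ideal R)
variable {P M : Type u} [AddCommGroup P] [Module R P] [AddCommGroup M] [Module R M]

/-- A compatible family of linear maps modulo powers of `I` induces a map of completions. -/
noncomputable def mapOfFamily
    (τ : ∀ n, (M ⧸ (I ^ n • ⊤ : Submodule R M)) →ₗ[R ⧸ I ^ n] (P ⧸ (I ^ n • ⊤ : Submodule R P)))
    (hτ : ∀ {m n : ℕ} (hmn : m ≤ n),
      AdicCompletion.transitionMap I P hmn ∘ₗ ((τ n).restrictScalars R) =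
        ((τ m).restrictScalars R) ∘ₗ AdicCompletion.transitionMap I M hmn) :
    AdicCompletion I M →ₗ[AdicCompletion I R] AdicCompletion I P where
  __ := AdicCompletion.lift I (fun n ↦ (τ n).restrictScalars R ∘ₗ AdicCompletion.eval I M n)
    (fun {m n} hmn ↦ by
      rw [← LinearMap.comp_assoc, hτ hmn, LinearMap.comp_assoc,
        AdicCompletion.transitionMap_comp_eval])
  map_smul' r x := by
    ext
    dsimp
    rw [AdicCompletion.val_smul_eq_evalₐ_smul, AdicCompletion.val_smul_eq_evalₐ_smul, map_smul]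

theorem mapOfFamily_val
    (τ : ∀ n, (M ⧸ (I ^ n • ⊤ : Submodule R M)) →ₗ[R ⧸ I ^ n] (P ⧸ (I ^ n • ⊤ : Submodule R P)))
    (hτ : ∀ {m n : ℕ} (hmn : m ≤ n),
      AdicCompletion.transitionMap I P hmn ∘ₗ ((τ n).restrictScalars R) =
        ((τ m).restrictScalars R) ∘ₗ AdicCompletion.transitionMap I M hmn)
    (x : AdicCompletion I M) (n : ℕ) : (mapOfFamily I τ hτ x).val n = τ n (x.val n) := rfl

theorem exists_completion_section [Module.Flat R M]
    [Module.Projective (R ⧸ I) (M ⧸ (I • ⊤ : Submodule R M))]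
    (g : P →ₗ[R] M) (hg : Surjective g) :
    ∃ s : AdicCompletion I M →ₗ[AdicCompletion I R] AdicCompletion I P,
      AdicCompletion.map I g ∘ₗ s = LinearMap.id := by
  obtain ⟨t, ht1, ht2⟩ := exists_compatible_sections I g hg
  have hker : ∀ n, (I ^ n • ⊤ : Submodule R M) ≤ LinearMap.ker (t n) := by
    intro n m hm
    refine Submodule.smul_induction_on hm ?_ ?_
    · intro r hr m' _
      rw [LinearMap.mem_ker, map_smul]
      exact quot_pow_killed I n r hr _
    · intro x y hx hy
      exact Submodule.add_mem _ hx hy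
  let τ : ∀ n, (M ⧸ (I ^ n • ⊤ : Submodule R M)) →ₗ[R ⧸ I ^ n]
      (P ⧸ (I ^ n • ⊤ : Submodule R P)) :=
    fun n => LinearMap.extendScalarsOfSurjective Ideal.Quotient.mk_surjective
      (Submodule.liftQ _ (t n) (hker n))
  have hτ_mk : ∀ n m, τ n (Submodule.Quotient.mk m) = t n m := fun n m => rfl
  have hτ : ∀ {m n : ℕ} (hmn : m ≤ n),
      AdicCompletion.transitionMap I P hmn ∘ₗ ((τ n).restrictScalars R) =
        ((τ m).restrictScalars R) ∘ₗ AdicCompletion.transitionMap I M hmn := by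
    intro k n hkn
    apply LinearMap.ext
    intro x
    obtain ⟨m, rfl⟩ := Submodule.Quotient.mk_surjective _ x
    show AdicCompletion.transitionMap I P hkn (τ n (Submodule.Quotient.mk m)) =
      τ k (Submodule.Quotient.mk m)
    rw [hτ_mk, hτ_mk]
    exact compatible_of_succ I t ht2 hkn m
  refine ⟨mapOfFamily I τ hτ, ?_⟩
  apply LinearMap.ext
  intro x
  apply AdicCompletion.ext
  intro n
  show g.reduceModIdeal (I ^ n) (τ n (x.val n)) = x.val n
  obtain ⟨m, hm⟩ := Submodule.Quotient.mk_surjective _ (x.val n)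
  rw [← hm, hτ_mk]
  exact ht1 n m

theorem s9131 (R : Type u) [CommRing R] (I : Ideal R)
    (K P M : Type u) [AddCommGroup K] [Module R K] [AddCommGroup P] [Module R P]
    [AddCommGroup M] [Module R M] (f : K →ₗ[R] P) (g : P →ₗ[R] M)
    (hf : Function.Injective f) (hg : Function.Surjective g) (hfg : Function.Exact f g)
    [Module.Flat R M] [Module.Projective (R ⧸ I) (M ⧸ (I • ⊤ : Submodule R M))] :
    Function.Injective (AdicCompletion.map I f) ∧
      Function.Exact (AdicCompletion.map I f) (AdicCompletion.map I g) ∧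
      ∃ s : AdicCompletion I M →ₗ[AdicCompletion I R] AdicCompletion I P,
        AdicCompletion.map I g ∘ₗ s = LinearMap.id := by
  have hp : ∀ (n : ℕ) (x : K), f x ∈ I ^ (n + 0) • (⊤ : Submodule R P) →
      x ∈ I ^ n • (⊤ : Submodule R K) := fun n x hx =>
    Helper4.AdicFlat.pure_of_flat (I ^ n) f g hf hg hfg x hx
  exact ⟨Helper4.AdicFlat.map_injective_of_shift I f 0 hp,
    Helper4.AdicFlat.map_exact_of_shift I f g 0 hp hg hfg,
    exists_completion_section I g hg⟩

end splitW

end Groth.Agent.Helper7.CKd
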