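import Mathlib
import Groth.Prelude
import Groth.Agent.Helper7.CKO17
import Groth.Agent.Helper5.ComplPure3
set_option linter.style.haveILetI false
set_option linter.unusedSectionVars false
set_option linter.unusedVariables false
set_option autoImplicit false
open TensorProduct Function
universe u
namespace Groth.Agent.Helper7.CKd

section splitV

theorem s1198 (R : Type u) [CommRing R] [IsNoetherianRing R] (I : Ideal R) [IsAdicComplete I R]
    (M : Type u) [AddCommGroup M] [Module R M] [Module.Flat R M]
    [Module.Projective (R ⧸ I) (M ⧸ (I • ⊤ : Submodule R M))] :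
    Module.Flat R (AdicCompletion I M) ∧ CAlg.IsMittagLeffler R (AdicCompletion I M) := by
  let g : (M →₀ R) →ₗ[R] M := Finsupp.linearCombination R id
  have hg : Surjective g := Finsupp.linearCombination_id_surjective R M
  obtain ⟨s, hs⟩ := exists_completion_section I g hg
  let i : AdicCompletion I M →ₗ[R] AdicCompletion I (M →₀ R) := s.restrictScalars R
  let r : AdicCompletion I (M →₀ R) →ₗ[R] AdicCompletion I M :=
    (AdicCompletion.map I g).restrictScalars R
  have hri : r ∘ₗ i = LinearMap.id := by
    apply LinearMap.ext
    intro x
    exact LinearMap.congr_fun hs x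
  obtain ⟨hflat, hML⟩ := Groth.Agent.Helper5.ComplPure.s1197 R I M
  refine ⟨Module.Flat.of_retract i r hri, ?_⟩
  apply Groth.Agent.Helper5.ComplPure.isML_of_rTensor_injective i _ hML
  intro Q _ _
  have h1 : (r.rTensor Q) ∘ₗ (i.rTensor Q) = LinearMap.id := by
    rw [← LinearMap.rTensor_comp, hri, LinearMap.rTensor_id]
  exact Function.LeftInverse.injective (g := r.rTensor Q) (fun x => LinearMap.congr_fun h1 x)

end splitV

end Groth.Agent.Helper7.CKd
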