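import Mathlib
import Groth.Prelude
import Groth.Agent.Helper7.CKO17
import Groth.Agent.Helper2.TorOne
import Groth.Agent.S0542
set_option linter.style.haveILetI false
set_option linter.unusedSectionVars false
set_option linter.unusedVariables false
set_option autoImplicit false
open TensorProduct Function
universe u
namespace Groth.Agent.Helper7.CKd

section adicPi

variable {A : Type u} [CommRing A] (𝔞 : Ideal A)

theorem mem_smul_top_pi_iff {ι : Type*} [Fintype ι] [DecidableEq ι] (N : Type*) [AddCommGroup N]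
    [Module A N] (J : Ideal A) (x : ι → N) :
    x ∈ (J • ⊤ : Submodule A (ι → N)) ↔ ∀ i, x i ∈ (J • ⊤ : Submodule A N) := by
  constructor
  · intro hx i
    have h1 : Submodule.map (LinearMap.proj (R := A) (φ := fun _ : ι => N) i)
        (J • ⊤ : Submodule A (ι → N)) ≤ (J • ⊤ : Submodule A N) := by
      rw [Submodule.map_smul'']
      exact smul_mono_right _ le_top
    exact h1 ⟨x, hx, rfl⟩
  · intro hx
    have h2 : x = ∑ i, Pi.single i (x i) := (Finset.univ_sum_single x).symm
    rw [h2]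
    refine Submodule.sum_mem _ (fun i _ => ?_)
    have h1 : Submodule.map (LinearMap.single A (fun _ : ι => N) i)
        (J • ⊤ : Submodule A N) ≤ (J • ⊤ : Submodule A (ι → N)) := by
      rw [Submodule.map_smul'']
      exact smul_mono_right _ le_top
    exact h1 ⟨x i, hx i, rfl⟩

theorem isHausdorff_pi {ι : Type*} [Fintype ι] [DecidableEq ι] (N : Type*) [AddCommGroup N]
    [Module A N] [IsHausdorff 𝔞 N] : IsHausdorff 𝔞 (ι → N) := by
  refine ⟨fun x hx => ?_⟩
  funext i
  apply IsHausdorff.haus ‹IsHausdorff 𝔞 N›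
  intro n
  have := hx n
  rw [SModEq.zero] at this ⊢
  exact (mem_smul_top_pi_iff N (𝔞 ^ n) x).mp this i

theorem isPrecomplete_pi {ι : Type*} [Fintype ι] [DecidableEq ι] (N : Type*) [AddCommGroup N]
    [Module A N] [IsPrecomplete 𝔞 N] : IsPrecomplete 𝔞 (ι → N) := by
  refine ⟨fun f hf => ?_⟩
  have h1 : ∀ i, ∃ L : N, ∀ n, f n i ≡ L [SMOD (𝔞 ^ n • ⊤ : Submodule A N)] := by
    intro i
    apply IsPrecomplete.prec ‹IsPrecomplete 𝔞 N›
    intro m n hmn
    have := hf hmn
    rw [SModEq.sub_mem] at this ⊢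
    exact (mem_smul_top_pi_iff N (𝔞 ^ m) _).mp this i
  choose L hL using h1
  refine ⟨L, fun n => ?_⟩
  rw [SModEq.sub_mem, mem_smul_top_pi_iff]
  intro i
  have := hL i n
  rw [SModEq.sub_mem] at this
  exact this

theorem isHausdorff_of_linearEquiv {M M' : Type*} [AddCommGroup M] [Module A M] [AddCommGroup M']
    [Module A M'] (e : M ≃ₗ[A] M') [IsHausdorff 𝔞 M'] : IsHausdorff 𝔞 M := by
  refine ⟨fun x hx => ?_⟩
  apply e.injective
  rw [map_zero]
  apply IsHausdorff.haus ‹IsHausdorff 𝔞 M'›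
  intro n
  have := hx n
  rw [SModEq.zero] at this ⊢
  have h1 : Submodule.map e.toLinearMap (𝔞 ^ n • ⊤ : Submodule A M) ≤
      (𝔞 ^ n • ⊤ : Submodule A M') := by
    rw [Submodule.map_smul'']
    exact smul_mono_right _ le_top
  exact h1 ⟨x, this, rfl⟩

theorem isPrecomplete_of_linearEquiv {M M' : Type*} [AddCommGroup M] [Module A M]
    [AddCommGroup M'] [Module A M'] (e : M ≃ₗ[A] M') [IsPrecomplete 𝔞 M'] : IsPrecomplete 𝔞 M := by
  refine ⟨fun f hf => ?_⟩
  have h1 : ∀ n, Submodule.map e.toLinearMap (𝔞 ^ n • ⊤ : Submodule A M) ≤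
      (𝔞 ^ n • ⊤ : Submodule A M') := by
    intro n
    rw [Submodule.map_smul'']
    exact smul_mono_right _ le_top
  have h2 : ∀ n, Submodule.map e.symm.toLinearMap (𝔞 ^ n • ⊤ : Submodule A M') ≤
      (𝔞 ^ n • ⊤ : Submodule A M) := by
    intro n
    rw [Submodule.map_smul'']
    exact smul_mono_right _ le_top
  obtain ⟨L, hL⟩ := IsPrecomplete.prec ‹IsPrecomplete 𝔞 M'› (f := fun n => e (f n)) (by
    intro m n hmn
    have := hf hmn
    rw [SModEq.sub_mem] at this ⊢
    rw [← map_sub]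
    exact h1 m ⟨_, this, rfl⟩)
  refine ⟨e.symm L, fun n => ?_⟩
  have := hL n
  rw [SModEq.sub_mem] at this ⊢
  have h3 := h2 n ⟨_, this, rfl⟩
  simpa using h3

theorem isHausdorff_pi_tensor (r : ℕ) (N : Type u) [AddCommGroup N] [Module A N]
    [IsHausdorff 𝔞 N] : IsHausdorff 𝔞 ((Fin r → A) ⊗[A] N) := by
  haveI := isHausdorff_pi 𝔞 (ι := Fin r) N
  exact isHausdorff_of_linearEquiv 𝔞
    ((TensorProduct.comm A (Fin r → A) N).trans (TensorProduct.piScalarRight A A N (Fin r)))

theorem isPrecomplete_pi_tensor (r : ℕ) (N : Type u) [AddCommGroup N] [Module A N]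
    [IsPrecomplete 𝔞 N] : IsPrecomplete 𝔞 ((Fin r → A) ⊗[A] N) := by
  haveI := isPrecomplete_pi 𝔞 (ι := Fin r) N
  exact isPrecomplete_of_linearEquiv 𝔞
    ((TensorProduct.comm A (Fin r → A) N).trans (TensorProduct.piScalarRight A A N (Fin r)))

end adicPi

section relFlat

variable {A : Type u} [CommRing A] (𝔞 : Ideal A) (N : Type u) [AddCommGroup N] [Module A N]

/-- `N` is flat relative to modules killed by a power of `𝔞`. -/
def RelFlat : Prop :=
  ∀ (m : ℕ) (P' P : Type u) [AddCommGroup P'] [Module A P'] [AddCommGroup P] [Module A P]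
    (g : P' →ₗ[A] P), Injective g → (∀ a ∈ 𝔞 ^ m, ∀ p : P, a • p = 0) →
    Injective (g.rTensor N)

variable {𝔞 N}

theorem tensor_killed {P : Type u} [AddCommGroup P] [Module A P] (J : Ideal A)
    (hP : ∀ a ∈ J, ∀ p : P, a • p = 0) (a : A) (ha : a ∈ J) (t : P ⊗[A] N) : a • t = 0 := by
  induction t using TensorProduct.induction_on with
  | zero => simp
  | add x y hx hy => rw [smul_add, hx, hy, add_zero]
  | tmul p n => rw [TensorProduct.smul_tmul', hP a ha p, TensorProduct.zero_tmul]

theorem exists_shift_tensor [IsNoetherianRing A] (hRF : RelFlat 𝔞 N) {F : Type u} [AddCommGroup F]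
    [Module A F] [Module.Finite A F] (K : Submodule A F) :
    ∃ c : ℕ, ∀ n : ℕ, ∀ w : K ⊗[A] N,
      (K.subtype.rTensor N) w ∈ (𝔞 ^ (n + c) • ⊤ : Submodule A (F ⊗[A] N)) →
      w ∈ (𝔞 ^ n • ⊤ : Submodule A (K ⊗[A] N)) := by
  obtain ⟨c, hc⟩ := Ideal.exists_pow_inf_eq_pow_smul 𝔞 K
  refine ⟨c, fun n w hw => ?_⟩
  set m := n + c with hm
  have hAR : ∀ z : F, z ∈ K → z ∈ (𝔞 ^ m • ⊤ : Submodule A F) → z ∈ 𝔞 ^ n • K := by
    intro z hzK hz
    have h1 : z ∈ (𝔞 ^ m • ⊤ ⊓ K : Submodule A F) := ⟨hz, hzK⟩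
    rw [hc m (by omega)] at h1
    have h2 : m - c = n := by omega
    rw [h2] at h1
    exact (smul_mono_right _ inf_le_right : _ ≤ 𝔞 ^ n • K) h1
  let P := F ⧸ (𝔞 ^ m • ⊤ : Submodule A F)
  let K' : Submodule A K := Submodule.comap K.subtype (𝔞 ^ m • ⊤ : Submodule A F)
  let P' := K ⧸ K'
  let g : P' →ₗ[A] P := Submodule.mapQ K' (𝔞 ^ m • ⊤ : Submodule A F) K.subtype le_rfl
  have hg : Injective g := by
    rw [← LinearMap.ker_eq_bot, eq_bot_iff]
    intro x hx
    obtain ⟨z, rfl⟩ := Submodule.Quotient.mk_surjective _ x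
    rw [LinearMap.mem_ker] at hx
    have h1 : (Submodule.Quotient.mk (K.subtype z) : P) = 0 := hx
    rw [Submodule.Quotient.mk_eq_zero] at h1
    rw [Submodule.mem_bot, Submodule.Quotient.mk_eq_zero]
    exact h1
  have hP : ∀ a ∈ 𝔞 ^ m, ∀ p : P, a • p = 0 := quot_pow_killed 𝔞 m
  have hgN := hRF m P' P g hg hP
  have hcomp : g ∘ₗ K'.mkQ = (Submodule.mkQ (𝔞 ^ m • ⊤ : Submodule A F)) ∘ₗ K.subtype := by
    ext z; rfl
  have h0 : ((Submodule.mkQ (𝔞 ^ m • ⊤ : Submodule A F)).rTensor N)
      ((K.subtype.rTensor N) w) = 0 := by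
    refine Submodule.smul_induction_on hw ?_ ?_
    · intro a ha t _
      rw [map_smul]
      exact tensor_killed (𝔞 ^ m) hP a ha _
    · intro x y hx hy
      rw [map_add, hx, hy, add_zero]
  have h1 : (K'.mkQ.rTensor N) w = 0 := by
    apply hgN
    rw [map_zero, ← LinearMap.comp_apply, ← LinearMap.rTensor_comp, hcomp,
      LinearMap.rTensor_comp, LinearMap.comp_apply, h0]
  have hex := rTensor_exact N (LinearMap.exact_subtype_mkQ K') (Submodule.mkQ_surjective K')
  obtain ⟨v, rfl⟩ := (hex w).1 h1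
  clear hw h0 h1
  induction v using TensorProduct.induction_on with
  | zero => simp
  | add a c ha hc => rw [map_add]; exact Submodule.add_mem _ ha hc
  | tmul z x =>
    obtain ⟨⟨z, hzK⟩, hz'⟩ := z
    rw [LinearMap.rTensor_tmul]
    change (⟨z, hzK⟩ : K) ⊗ₜ[A] x ∈ _
    have hz2 := hAR z hzK hz'
    have hz3 : (⟨z, hzK⟩ : K) ∈ (𝔞 ^ n) • (⊤ : Submodule A K) :=
      (Submodule.mem_smul_top_iff (𝔞 ^ n) K ⟨z, hzK⟩).2 hz2
    refine Submodule.smul_induction_on hz3 ?_ ?_
    · intro r hr z' _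
      rw [← TensorProduct.smul_tmul']
      exact Submodule.smul_mem_smul hr Submodule.mem_top
    · intro z1 z2 h1 h2
      rw [TensorProduct.add_tmul]
      exact Submodule.add_mem _ h1 h2

end relFlat

section flatMain

variable {A : Type u} [CommRing A] {𝔞 : Ideal A} {N : Type u} [AddCommGroup N] [Module A N]

theorem flat_of_relFlat [IsNoetherianRing A] (hRF : RelFlat 𝔞 N) [IsHausdorff 𝔞 N]
    [IsPrecomplete 𝔞 N] : Module.Flat A N := by
  rw [Module.Flat.iff_rTensor_injective']
  intro b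
  rw [injective_iff_map_eq_zero]
  intro x hx
  haveI : Module.Finite A b := Module.Finite.of_fg (IsNoetherian.noetherian b)
  obtain ⟨r, a, ha⟩ := Module.Finite.exists_fin' A b
  let K := LinearMap.ker a
  haveI : Module.Finite A K := Module.Finite.of_fg (IsNoetherian.noetherian K)
  obtain ⟨s, k, hk⟩ := Module.Finite.exists_fin' A K
  let aN := a.rTensor N
  let ιN := K.subtype.rTensor N
  let kN := k.rTensor N
  have haN : Surjective aN := LinearMap.rTensor_surjective N ha
  have hkN : Surjective kN := LinearMap.rTensor_surjective N hk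
  have hex : Function.Exact ιN aN := rTensor_exact N (LinearMap.exact_subtype_ker_map a) ha
  haveI := isHausdorff_pi_tensor 𝔞 r N
  haveI := isPrecomplete_pi_tensor 𝔞 s N
  obtain ⟨c₀, hc₀⟩ := exists_shift_tensor hRF (F := A) b
  have hx_mem : ∀ n, x ∈ (𝔞 ^ n • ⊤ : Submodule A (b ⊗[A] N)) := fun n =>
    hc₀ n x (by rw [hx]; exact zero_mem _)
  obtain ⟨y, rfl⟩ := haN x
  have hmap : ∀ n, (𝔞 ^ n • ⊤ : Submodule A (b ⊗[A] N)) = Submodule.map aN (𝔞 ^ n • ⊤) := by
    intro n
    rw [Submodule.map_smul'', Submodule.map_top, LinearMap.range_eq_top.mpr haN]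
  have claim1 : ∀ n, ∃ u : K ⊗[A] N,
      y - ιN u ∈ (𝔞 ^ n • ⊤ : Submodule A ((Fin r → A) ⊗[A] N)) := by
    intro n
    have h1 := hx_mem n
    rw [hmap n] at h1
    obtain ⟨y', hy', hy'eq⟩ := h1
    have h2 : aN (y - y') = 0 := by rw [map_sub, hy'eq, sub_self]
    obtain ⟨u, hu⟩ := (hex _).1 h2
    refine ⟨u, ?_⟩
    rw [hu]
    simpa using hy'
  obtain ⟨c, hc⟩ := exists_shift_tensor hRF K
  choose u hu using fun n => claim1 (n + c)
  have hdiff : ∀ n, u (n + 1) - u n ∈ (𝔞 ^ n • ⊤ : Submodule A (K ⊗[A] N)) := by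
    intro n
    apply hc n
    rw [map_sub]
    have e1 : ιN (u (n + 1)) - ιN (u n) = (y - ιN (u n)) - (y - ιN (u (n + 1))) := by abel
    rw [e1]
    refine Submodule.sub_mem _ (hu n) ?_
    have hle : (𝔞 ^ (n + 1 + c) • ⊤ : Submodule A ((Fin r → A) ⊗[A] N)) ≤ 𝔞 ^ (n + c) • ⊤ :=
      Submodule.smul_mono_left (Ideal.pow_le_pow_right (by omega))
    exact hle (hu (n + 1))
  have hmapK : ∀ n, (𝔞 ^ n • ⊤ : Submodule A (K ⊗[A] N)) = Submodule.map kN (𝔞 ^ n • ⊤) := by
    intro n
    rw [Submodule.map_smul'', Submodule.map_top, LinearMap.range_eq_top.mpr hkN]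
  have hd : ∀ n, ∃ d : (Fin s → A) ⊗[A] N,
      d ∈ (𝔞 ^ n • ⊤ : Submodule A ((Fin s → A) ⊗[A] N)) ∧ kN d = u (n + 1) - u n := by
    intro n
    have h1 := hdiff n
    rw [hmapK n] at h1
    obtain ⟨d, hd, hd'⟩ := h1
    exact ⟨d, hd, hd'⟩
  choose d hd1 hd2 using hd
  obtain ⟨v₀, hv₀⟩ := hkN (u 0)
  let v : ℕ → (Fin s → A) ⊗[A] N := fun n => v₀ + ∑ j ∈ Finset.range n, d j
  have hv : ∀ n, kN (v n) = u n := by
    intro n
    simp only [v, map_add, map_sum, hv₀, hd2]
    rw [Finset.sum_range_sub]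
    abel
  have hcauchy : ∀ {m n}, m ≤ n →
      v m ≡ v n [SMOD (𝔞 ^ m • ⊤ : Submodule A ((Fin s → A) ⊗[A] N))] := by
    intro m n hmn
    rw [SModEq.sub_mem]
    have h1 : v n - v m = ∑ j ∈ Finset.Ico m n, d j := by
      simp only [v]
      rw [add_sub_add_left_eq_sub, Finset.sum_Ico_eq_sub _ hmn]
    rw [← neg_sub, h1]
    apply Submodule.neg_mem
    refine Submodule.sum_mem _ (fun j hj => ?_)
    have hle : (𝔞 ^ j • ⊤ : Submodule A ((Fin s → A) ⊗[A] N)) ≤ 𝔞 ^ m • ⊤ :=
      Submodule.smul_mono_left (Ideal.pow_le_pow_right (Finset.mem_Ico.mp hj).1)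
    exact hle (hd1 j)
  obtain ⟨L, hL⟩ := IsPrecomplete.prec ‹IsPrecomplete 𝔞 ((Fin s → A) ⊗[A] N)› hcauchy
  have hy : ιN (kN L) = y := by
    rw [← sub_eq_zero]
    apply IsHausdorff.haus ‹IsHausdorff 𝔞 ((Fin r → A) ⊗[A] N)›
    intro n
    rw [SModEq.zero]
    have e1 : ιN (kN L) - y = ιN (kN (L - v n)) - (y - ιN (u n)) := by
      rw [map_sub, map_sub, hv]
      abel
    rw [e1]
    refine Submodule.sub_mem _ ?_ ?_
    · have h1 := hL n
      rw [SModEq.sub_mem] at h1
      have h2 : L - v n ∈ (𝔞 ^ n • ⊤ : Submodule A ((Fin s → A) ⊗[A] N)) := by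
        rw [← neg_sub]
        exact Submodule.neg_mem _ h1
      have h3 : Submodule.map (ιN ∘ₗ kN) (𝔞 ^ n • ⊤ : Submodule A ((Fin s → A) ⊗[A] N)) ≤
          𝔞 ^ n • ⊤ := by
        rw [Submodule.map_smul'']
        exact smul_mono_right _ le_top
      exact h3 ⟨_, h2, rfl⟩
    · have hle : (𝔞 ^ (n + c) • ⊤ : Submodule A ((Fin r → A) ⊗[A] N)) ≤ 𝔞 ^ n • ⊤ :=
        Submodule.smul_mono_left (Ideal.pow_le_pow_right (by omega))
      exact hle (hu n)
  rw [← hy]
  exact hex.apply_apply_eq_zero _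

end flatMain

section complFlat

variable {R : Type u} [CommRing R] (I : Ideal R)

theorem lTensor_bijective_of_killed {P X Y : Type u} [AddCommGroup P] [Module R P]
    [AddCommGroup X] [Module R X] [AddCommGroup Y] [Module R Y] (m : ℕ)
    (hP : ∀ i ∈ I ^ m, ∀ p : P, i • p = 0) (q : X →ₗ[R] Y) (hq : Surjective q)
    (hker : LinearMap.ker q ≤ (I ^ m • ⊤ : Submodule R X)) : Bijective (q.lTensor P) := by
  refine ⟨?_, LinearMap.lTensor_surjective P hq⟩
  rw [injective_iff_map_eq_zero]
  intro t ht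
  have hex := lTensor_exact P (LinearMap.exact_subtype_ker_map q) hq
  obtain ⟨v, rfl⟩ := (hex t).1 ht
  clear ht
  induction v using TensorProduct.induction_on with
  | zero => simp
  | add a c ha hc => rw [map_add, ha, hc, add_zero]
  | tmul p x =>
    obtain ⟨x, hx⟩ := x
    rw [LinearMap.lTensor_tmul]
    change p ⊗ₜ[R] x = 0
    have hx' := hker hx
    refine Submodule.smul_induction_on hx' ?_ ?_
    · intro i hi x' _
      rw [TensorProduct.tmul_smul, TensorProduct.smul_tmul',
        hP i hi p, TensorProduct.zero_tmul]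
    · intro x1 x2 h1 h2
      rw [TensorProduct.tmul_add, h1, h2, add_zero]

theorem lTensor_of_bijective (hI : I.FG) {P : Type u} [AddCommGroup P] [Module R P]
    (M : Type u) [AddCommGroup M] [Module R M] (m : ℕ)
    (hP : ∀ i ∈ I ^ m, ∀ p : P, i • p = 0) :
    Bijective ((AdicCompletion.of I M).lTensor P) := by
  have h1 := lTensor_bijective_of_killed I (P := P) m hP
    (Submodule.mkQ (I ^ m • ⊤ : Submodule R M)) (Submodule.mkQ_surjective _)
    (by rw [Submodule.ker_mkQ])
  have h2 := lTensor_bijective_of_killed I (P := P) m hP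
    (AdicCompletion.eval I M m) (AdicCompletion.eval_surjective I M m)
    (by rw [AdicCompletion.pow_smul_top_eq_ker_eval hI])
  have h3 : (AdicCompletion.eval I M m).lTensor P ∘ₗ (AdicCompletion.of I M).lTensor P =
      (Submodule.mkQ (I ^ m • ⊤ : Submodule R M)).lTensor P := by
    rw [← LinearMap.lTensor_comp, AdicCompletion.eval_comp_of]
  have h4 : Bijective (⇑((AdicCompletion.eval I M m).lTensor P) ∘
      ⇑((AdicCompletion.of I M).lTensor P)) := by
    rw [← LinearMap.coe_comp, h3]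
    exact h1
  exact (Function.Bijective.of_comp_iff' h2 _).mp h4

end complFlat

section complFlat2

variable {R : Type u} [CommRing R] (I : Ideal R)

theorem exists_sub_algebraMap_mem (hI : I.FG) (m : ℕ) (a : AdicCompletion I R) :
    ∃ r : R, a - algebraMap R (AdicCompletion I R) r ∈
      (I ^ m • ⊤ : Submodule R (AdicCompletion I R)) := by
  obtain ⟨r, hr⟩ := Submodule.Quotient.mk_surjective _ (AdicCompletion.eval I R m a)
  refine ⟨r, ?_⟩
  rw [AdicCompletion.pow_smul_top_eq_ker_eval hI, LinearMap.mem_ker, map_sub, ← hr]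
  have : AdicCompletion.eval I R m (algebraMap R (AdicCompletion I R) r) =
      Submodule.Quotient.mk r := rfl
  rw [this, sub_self]

theorem compat_of_killed (hI : I.FG) (M : Type u) [AddCommGroup M] [Module R M]
    {P : Type u} [AddCommGroup P] [Module R P] [Module (AdicCompletion I R) P]
    [IsScalarTower R (AdicCompletion I R) P] (m : ℕ) (hP : ∀ i ∈ I ^ m, ∀ p : P, i • p = 0)
    (a : AdicCompletion I R) (p : P) (n : AdicCompletion I M) :
    (a • p) ⊗ₜ[R] n = p ⊗ₜ[R] (a • n) := by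
  obtain ⟨r, hr⟩ := exists_sub_algebraMap_mem I hI m a
  have key1 : ∀ a' ∈ (I ^ m • ⊤ : Submodule R (AdicCompletion I R)), a' • p = 0 := by
    intro a' ha'
    refine Submodule.smul_induction_on ha' ?_ ?_
    · intro i hi a'' _
      rw [smul_assoc, hP i hi]
    · intro x y hx hy
      rw [add_smul, hx, hy, add_zero]
  have key2 : ∀ a' ∈ (I ^ m • ⊤ : Submodule R (AdicCompletion I R)),
      p ⊗ₜ[R] (a' • n) = 0 := by
    intro a' ha'
    refine Submodule.smul_induction_on ha' ?_ ?_
    · intro i hi a'' _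
      rw [smul_assoc, TensorProduct.tmul_smul, TensorProduct.smul_tmul', hP i hi,
        TensorProduct.zero_tmul]
    · intro x y hx hy
      rw [add_smul, TensorProduct.tmul_add, hx, hy, add_zero]
  have ha : a = algebraMap R (AdicCompletion I R) r + (a - algebraMap R (AdicCompletion I R) r) := by
    ring
  rw [ha, add_smul, add_smul, key1 _ hr, add_zero, TensorProduct.tmul_add, key2 _ hr, add_zero,
    algebraMap_smul, algebraMap_smul, TensorProduct.smul_tmul]

theorem relFlat_completion (hI : I.FG) (M : Type u) [AddCommGroup M] [Module R M]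
    [Module.Flat (R ⧸ I) (M ⧸ (I • ⊤ : Submodule R M))]
    (hT : Injective (TensorProduct.lift ((LinearMap.lsmul R M).comp (Submodule.subtype I)))) :
    RelFlat (I.map (algebraMap R (AdicCompletion I R))) (AdicCompletion I M) := by
  intro m P' P _ _ _ _ g hg hP
  letI : Module R P := Module.compHom P (algebraMap R (AdicCompletion I R))
  letI : Module R P' := Module.compHom P' (algebraMap R (AdicCompletion I R))
  haveI : IsScalarTower R (AdicCompletion I R) P :=
    IsScalarTower.of_algebraMap_smul (fun r x => rfl)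
  haveI : IsScalarTower R (AdicCompletion I R) P' :=
    IsScalarTower.of_algebraMap_smul (fun r x => rfl)
  have hPR : ∀ i ∈ I ^ m, ∀ p : P, i • p = 0 := by
    intro i hi p
    show algebraMap R (AdicCompletion I R) i • p = 0
    apply hP
    rw [← Ideal.map_pow]
    exact Ideal.mem_map_of_mem _ hi
  let gR : P' →ₗ[R] P := g.restrictScalars R
  have hgR : Injective gR := hg
  have hP'R : ∀ i ∈ I ^ m, ∀ p : P', i • p = 0 := by
    intro i hi p
    apply hgR
    rw [map_smul, hPR i hi, map_zero]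
  have e : ((R ⧸ I) ⊗[R] M) ≃ₗ[R ⧸ I] (M ⧸ (I • (⊤ : Submodule R M))) :=
    (TensorProduct.quotTensorEquivQuotSMul M I).extendScalarsOfSurjective
      Ideal.Quotient.mk_surjective
  haveI : Module.Flat (R ⧸ I) ((R ⧸ I) ⊗[R] M) := Module.Flat.of_linearEquiv e
  have hmu : Injective (Groth.Agent.Helper2.TorReg.muI (M := M) I) := by
    have h1 : Groth.Agent.Helper2.TorReg.muI (M := M) I =
        TensorProduct.lift ((LinearMap.lsmul R M).comp (Submodule.subtype I)) := by
      apply TensorProduct.ext'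
      intro i x
      simp
    rw [h1]
    exact hT
  have h1 : Injective (gR.rTensor M) :=
    Groth.Agent.Helper2.TorOne.rTensor_injective_of_pow_smul_mem_range I hmu m gR hgR
      (fun r hr n => by rw [hPR r hr n]; exact zero_mem _)
  have h2 : Injective (gR.rTensor (AdicCompletion I M)) := by
    have hb' := lTensor_of_bijective I hI (P := P') M m hP'R
    have hb := lTensor_of_bijective I hI (P := P) M m hPR
    have hsq : gR.rTensor (AdicCompletion I M) ∘ₗ (AdicCompletion.of I M).lTensor P' =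
        (AdicCompletion.of I M).lTensor P ∘ₗ gR.rTensor M := by
      rw [LinearMap.rTensor_comp_lTensor, LinearMap.lTensor_comp_rTensor]
    rw [injective_iff_map_eq_zero]
    intro t ht
    obtain ⟨t₀, rfl⟩ := hb'.2 t
    have h3 : (AdicCompletion.of I M).lTensor P (gR.rTensor M t₀) = 0 := by
      rw [← LinearMap.comp_apply, ← hsq, LinearMap.comp_apply, ht]
    have h4 : gR.rTensor M t₀ = 0 := by
      apply hb.1
      rw [h3, map_zero]
    have h5 : t₀ = 0 := by
      apply h1
      rw [h4, map_zero]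
    rw [h5, map_zero]
  haveI : TensorProduct.CompatibleSMul R (AdicCompletion I R) P (AdicCompletion I M) :=
    ⟨compat_of_killed I hI M m hPR⟩
  haveI : TensorProduct.CompatibleSMul R (AdicCompletion I R) P' (AdicCompletion I M) :=
    ⟨compat_of_killed I hI M m hP'R⟩
  let dP := TensorProduct.mapOfCompatibleSMul R (AdicCompletion I R) (AdicCompletion I R) P
    (AdicCompletion I M)
  let dP' := TensorProduct.equivOfCompatibleSMul R (AdicCompletion I R) (AdicCompletion I R) P'
    (AdicCompletion I M)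
  have hsq : ∀ t, dP (g.rTensor (AdicCompletion I M) t) =
      gR.rTensor (AdicCompletion I M) (dP' t) := by
    intro t
    induction t using TensorProduct.induction_on with
    | zero => simp
    | add x y hx hy => simp only [map_add, hx, hy]
    | tmul p n => rfl
  rw [injective_iff_map_eq_zero]
  intro t ht
  have h3 : gR.rTensor (AdicCompletion I M) (dP' t) = 0 := by
    rw [← hsq, ht, map_zero]
  have h4 : dP' t = 0 := by
    apply h2
    rw [h3, map_zero]
  exact dP'.injective (by rw [h4, map_zero])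

theorem s0551 (R : Type u) [CommRing R] (I : Ideal R) (hI : I.FG)
    [IsNoetherianRing (R ⧸ I)] (M : Type u) [AddCommGroup M] [Module R M]
    [Module.Flat (R ⧸ I) (M ⧸ (I • ⊤ : Submodule R M))]
    (hT : Function.Injective (TensorProduct.lift ((LinearMap.lsmul R M).comp (Submodule.subtype I)))) :
    Module.Flat (AdicCompletion I R) (AdicCompletion I M) := by
  haveI : IsNoetherianRing (AdicCompletion I R) := Groth.Agent.S0542.result R I hI
  haveI hc : IsAdicComplete I (AdicCompletion I M) := AdicCompletion.isAdicComplete hI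
  haveI : IsAdicComplete (I.map (algebraMap R (AdicCompletion I R))) (AdicCompletion I M) :=
    (IsAdicComplete.map_algebraMap_iff I (AdicCompletion I M)).mpr hc
  exact flat_of_relFlat (relFlat_completion I hI M hT)

end complFlat2

end Groth.Agent.Helper7.CKd
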