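import Groth.Agent.Helper7.CohenI
import Groth.Agent.Helper7.CohenT1
import Groth.Agent.Helper7.CohenT2
set_option linter.style.haveILetI false
set_option linter.unusedSectionVars false
set_option linter.unusedVariables false
set_option autoImplicit false
open IsLocalRing
universe u
namespace Groth.Agent.Helper7.CKd

section fp
variable {R₁ R₂ T : Type u} [CommRing R₁] [CommRing R₂] [CommRing T]
  (π₁ : R₁ →+* T) (π₂ : R₂ →+* T)

/-- the fibre product ring `R₁ ×_T R₂`. -/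
abbrev FP : Type u :=
  ↥(RingHom.eqLocus (π₁.comp (RingHom.fst R₁ R₂)) (π₂.comp (RingHom.snd R₁ R₂)))

/-- first projection -/
def fpFst : FP π₁ π₂ →+* R₁ := (RingHom.fst R₁ R₂).comp (Subring.subtype _)

/-- second projection -/
def fpSnd : FP π₁ π₂ →+* R₂ := (RingHom.snd R₁ R₂).comp (Subring.subtype _)

theorem fp_comm : π₁.comp (fpFst π₁ π₂) = π₂.comp (fpSnd π₁ π₂) := by
  ext z
  exact z.2

theorem fp_comm_apply (z : FP π₁ π₂) : π₁ (fpFst π₁ π₂ z) = π₂ (fpSnd π₁ π₂ z) := z.2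

/-- constructor -/
def fpMk (a : R₁) (b : R₂) (h : π₁ a = π₂ b) : FP π₁ π₂ := ⟨(a, b), h⟩

@[simp] theorem fpFst_mk (a : R₁) (b : R₂) (h : π₁ a = π₂ b) : fpFst π₁ π₂ (fpMk π₁ π₂ a b h) = a := rfl
@[simp] theorem fpSnd_mk (a : R₁) (b : R₂) (h : π₁ a = π₂ b) : fpSnd π₁ π₂ (fpMk π₁ π₂ a b h) = b := rfl

theorem fp_ext {z w : FP π₁ π₂} (h1 : fpFst π₁ π₂ z = fpFst π₁ π₂ w)
    (h2 : fpSnd π₁ π₂ z = fpSnd π₁ π₂ w) : z = w := by
  apply Subtype.ext
  exact Prod.ext h1 h2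

variable {π₁ π₂}

theorem fpFst_surjective (hπ₂ : Function.Surjective π₂) : Function.Surjective (fpFst π₁ π₂) := by
  intro a
  obtain ⟨b, hb⟩ := hπ₂ (π₁ a)
  exact ⟨fpMk π₁ π₂ a b hb.symm, rfl⟩

theorem fpSnd_surjective (hπ₁ : Function.Surjective π₁) : Function.Surjective (fpSnd π₁ π₂) := by
  intro b
  obtain ⟨a, ha⟩ := hπ₁ (π₂ b)
  exact ⟨fpMk π₁ π₂ a b ha, rfl⟩

variable [IsLocalRing R₁] [IsLocalRing R₂] [Nontrivial T]

theorem fp_isLocalHom_fst (hπ₂ : Function.Surjective π₂) : IsLocalHom (fpFst π₁ π₂) := by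
  haveI : IsLocalHom π₂ := IsLocalHom.of_surjective π₂ hπ₂
  refine ⟨fun z hz => ?_⟩
  have h2 : IsUnit (fpSnd π₁ π₂ z) := by
    apply isUnit_of_map_unit π₂
    rw [← fp_comm_apply]
    exact hz.map π₁
  obtain ⟨u, hu⟩ := hz
  obtain ⟨v, hv⟩ := h2
  have hinv : π₁ (↑u⁻¹ : R₁) = π₂ (↑v⁻¹ : R₂) := by
    have h3 : π₁ (↑u : R₁) = π₂ (↑v : R₂) := by rw [hu, hv]; exact fp_comm_apply π₁ π₂ z
    have h4 : π₁ (↑u⁻¹ : R₁) * π₁ (↑u : R₁) = 1 := by rw [← map_mul]; simp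
    have h5 : π₂ (↑v⁻¹ : R₂) * π₂ (↑v : R₂) = 1 := by rw [← map_mul]; simp
    calc π₁ (↑u⁻¹ : R₁) = π₁ (↑u⁻¹ : R₁) * (π₂ (↑v : R₂) * π₂ (↑v⁻¹ : R₂)) := by
          rw [mul_comm (π₂ (↑v : R₂)), h5, mul_one]
      _ = (π₁ (↑u⁻¹ : R₁) * π₁ (↑u : R₁)) * π₂ (↑v⁻¹ : R₂) := by rw [← h3]; ring
      _ = π₂ (↑v⁻¹ : R₂) := by rw [h4, one_mul]
  refine IsUnit.of_mul_eq_one (fpMk π₁ π₂ _ _ hinv) ?_
  apply fp_ext
  · rw [map_mul, fpFst_mk, map_one, ← hu]; simp
  · rw [map_mul, fpSnd_mk, map_one, ← hv]; simp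

theorem fp_isLocalRing (hπ₂ : Function.Surjective π₂) : IsLocalRing (FP π₁ π₂) := by
  haveI := fp_isLocalHom_fst (π₁ := π₁) hπ₂
  exact RingHom.domain_isLocalRing (fpFst π₁ π₂)

end fp

section fp2
variable {R₁ R₂ T : Type u} [CommRing R₁] [CommRing R₂] [CommRing T] [IsLocalRing R₁]
  [IsLocalRing R₂] [Nontrivial T] {π₁ : R₁ →+* T} {π₂ : R₂ →+* T}
  [IsLocalRing (FP π₁ π₂)]

theorem fp_map_fst_pow (hπ₂ : Function.Surjective π₂) (N : ℕ) :
    (maximalIdeal (FP π₁ π₂) ^ N).map (fpFst π₁ π₂) = maximalIdeal R₁ ^ N := by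
  rw [Ideal.map_pow, IsLocalRing.map_maximalIdeal_of_surjective _ (fpFst_surjective hπ₂)]

theorem fp_map_snd_pow (hπ₁ : Function.Surjective π₁) (N : ℕ) :
    (maximalIdeal (FP π₁ π₂) ^ N).map (fpSnd π₁ π₂) = maximalIdeal R₂ ^ N := by
  rw [Ideal.map_pow, IsLocalRing.map_maximalIdeal_of_surjective _ (fpSnd_surjective hπ₁)]

theorem fp_mem_maximalIdeal_iff (hπ₂ : Function.Surjective π₂) (z : FP π₁ π₂) :
    z ∈ maximalIdeal (FP π₁ π₂) ↔ fpFst π₁ π₂ z ∈ maximalIdeal R₁ := by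
  haveI := IsLocalHom.of_surjective _ (fpFst_surjective (π₁ := π₁) hπ₂)
  rw [← IsLocalRing.maximalIdeal_comap (fpFst π₁ π₂), Ideal.mem_comap]

/-- the maximal ideal of the fibre product is finitely generated. -/
theorem fp_maximalIdeal_fg (hπ₁ : Function.Surjective π₁) (hπ₂ : Function.Surjective π₂)
    (h1 : (maximalIdeal R₁).FG) (h2 : (RingHom.ker π₂).FG) :
    (maximalIdeal (FP π₁ π₂)).FG := by
  classical
  obtain ⟨n, x, hx⟩ := Submodule.fg_iff_exists_fin_generating_family.mp h1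
  obtain ⟨m, k, hk⟩ := Submodule.fg_iff_exists_fin_generating_family.mp h2
  have hkmem : ∀ j, π₂ (k j) = 0 := fun j => by
    have : k j ∈ RingHom.ker π₂ := hk ▸ Submodule.subset_span ⟨j, rfl⟩
    exact this
  choose zx hzx using fun i => fpFst_surjective (π₁ := π₁) hπ₂ (x i)
  let zk : Fin m → FP π₁ π₂ := fun j => fpMk π₁ π₂ 0 (k j) (by rw [map_zero, hkmem])
  have hspan : maximalIdeal (FP π₁ π₂) = Ideal.span (Set.range zx ∪ Set.range zk) := by
    apply le_antisymm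
    · intro z hz
      rw [fp_mem_maximalIdeal_iff hπ₂, ← hx] at hz
      obtain ⟨c, hc⟩ := (Submodule.mem_span_range_iff_exists_fun R₁).mp hz
      choose w hw using fun i => fpFst_surjective (π₁ := π₁) hπ₂ (c i)
      have hz'1 : fpFst π₁ π₂ (z - ∑ i, w i * zx i) = 0 := by
        rw [map_sub, map_sum, ← hc, sub_eq_zero]
        refine Finset.sum_congr rfl (fun i _ => ?_)
        rw [map_mul, hw, hzx, smul_eq_mul]
      have hz'2 : fpSnd π₁ π₂ (z - ∑ i, w i * zx i) ∈ RingHom.ker π₂ := by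
        rw [RingHom.mem_ker, ← fp_comm_apply, hz'1, map_zero]
      rw [← hk] at hz'2
      obtain ⟨d, hd⟩ := (Submodule.mem_span_range_iff_exists_fun R₂).mp hz'2
      choose u hu using fun j => fpSnd_surjective (π₂ := π₂) hπ₁ (d j)
      have hz'' : z - ∑ i, w i * zx i = ∑ j, u j * zk j := by
        apply fp_ext
        · rw [hz'1, map_sum]
          symm
          refine Finset.sum_eq_zero (fun j _ => ?_)
          rw [map_mul]
          show _ * (0 : R₁) = 0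
          rw [mul_zero]
        · rw [← hd, map_sum]
          refine Finset.sum_congr rfl (fun j _ => ?_)
          rw [map_mul, hu, smul_eq_mul]
          rfl
      have : z = ∑ i, w i * zx i + ∑ j, u j * zk j := by rw [← hz'']; ring
      rw [this]
      refine Ideal.add_mem _ (Ideal.sum_mem _ (fun i _ => ?_)) (Ideal.sum_mem _ (fun j _ => ?_))
      · exact Ideal.mul_mem_left _ _ (Ideal.subset_span (Or.inl ⟨i, rfl⟩))
      · exact Ideal.mul_mem_left _ _ (Ideal.subset_span (Or.inr ⟨j, rfl⟩))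
    · rw [Ideal.span_le]
      rintro z (⟨i, rfl⟩ | ⟨j, rfl⟩)
      · rw [SetLike.mem_coe, fp_mem_maximalIdeal_iff hπ₂, hzx, ← hx]
        exact Submodule.subset_span ⟨i, rfl⟩
      · rw [SetLike.mem_coe, fp_mem_maximalIdeal_iff hπ₂]
        show (0 : R₁) ∈ _
        exact zero_mem _
  rw [hspan]
  exact ⟨(Set.finite_range zx |>.union (Set.finite_range zk)).toFinset, by simp⟩

/-- elements of `0 × 𝔪₂^N K₂` lie in `𝔪_P^N`. -/
theorem fp_exists_of_mem_smul (hπ₁ : Function.Surjective π₁) (N : ℕ) (y : R₂)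
    (hy : y ∈ maximalIdeal R₂ ^ N • (RingHom.ker π₂ : Submodule R₂ R₂)) :
    ∃ w ∈ maximalIdeal (FP π₁ π₂) ^ N, fpFst π₁ π₂ w = 0 ∧ fpSnd π₁ π₂ w = y := by
  refine Submodule.smul_induction_on hy (fun t ht k hk => ?_) (fun y₁ y₂ h₁ h₂ => ?_)
  · have ht' : t ∈ (maximalIdeal (FP π₁ π₂) ^ N).map (fpSnd π₁ π₂) := by
      rw [fp_map_snd_pow hπ₁]; exact ht
    obtain ⟨u, hu, rfl⟩ := (Ideal.mem_map_iff_of_surjective _ (fpSnd_surjective hπ₁)).mp ht'
    have hk0 : π₂ k = 0 := hk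
    refine ⟨u * fpMk π₁ π₂ 0 k (by rw [map_zero, hk0]), Ideal.mul_mem_right _ _ hu, ?_, ?_⟩
    · rw [map_mul]
      show _ * (0 : R₁) = 0
      rw [mul_zero]
    · rw [map_mul, smul_eq_mul]
      rfl
  · obtain ⟨w₁, hw₁, h11, h12⟩ := h₁
    obtain ⟨w₂, hw₂, h21, h22⟩ := h₂
    exact ⟨w₁ + w₂, Ideal.add_mem _ hw₁ hw₂, by rw [map_add, h11, h21, add_zero],
      by rw [map_add, h12, h22]⟩

/-- Artin–Rees: the `𝔪_P`-adic topology is induced from the product topology. -/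
theorem fp_exists_shift [IsNoetherianRing R₂] (hπ₁ : Function.Surjective π₁)
    (hπ₂ : Function.Surjective π₂) :
    ∃ c : ℕ, ∀ (N : ℕ) (z : FP π₁ π₂), fpFst π₁ π₂ z ∈ maximalIdeal R₁ ^ (N + c) →
      fpSnd π₁ π₂ z ∈ maximalIdeal R₂ ^ (N + c) → z ∈ maximalIdeal (FP π₁ π₂) ^ N := by
  obtain ⟨c, hc⟩ := Ideal.exists_pow_inf_eq_pow_smul (maximalIdeal R₂)
    (RingHom.ker π₂ : Submodule R₂ R₂)
  refine ⟨c, fun N z h1 h2 => ?_⟩
  have h1' : fpFst π₁ π₂ z ∈ (maximalIdeal (FP π₁ π₂) ^ (N + c)).map (fpFst π₁ π₂) := by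
    rw [fp_map_fst_pow hπ₂]; exact h1
  obtain ⟨z', hz', hzz'⟩ := (Ideal.mem_map_iff_of_surjective _ (fpFst_surjective hπ₂)).mp h1'
  have hy1 : fpSnd π₁ π₂ z - fpSnd π₁ π₂ z' ∈ RingHom.ker π₂ := by
    rw [RingHom.mem_ker, map_sub, ← fp_comm_apply, ← fp_comm_apply, hzz', sub_self]
  have hy2 : fpSnd π₁ π₂ z - fpSnd π₁ π₂ z' ∈ maximalIdeal R₂ ^ (N + c) := by
    refine Ideal.sub_mem _ h2 ?_
    rw [← fp_map_snd_pow (π₁ := π₁) (π₂ := π₂) hπ₁]
    exact Ideal.mem_map_of_mem _ hz'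
  have hy3 : fpSnd π₁ π₂ z - fpSnd π₁ π₂ z' ∈
      (maximalIdeal R₂ ^ (N + c) • ⊤ ⊓ (RingHom.ker π₂ : Submodule R₂ R₂) : Submodule R₂ R₂) := by
    refine ⟨?_, hy1⟩
    rw [smul_eq_mul, Ideal.mul_top]
    exact hy2
  rw [hc (N + c) (Nat.le_add_left c N), Nat.add_sub_cancel] at hy3
  have hy4 : fpSnd π₁ π₂ z - fpSnd π₁ π₂ z' ∈
      maximalIdeal R₂ ^ N • (RingHom.ker π₂ : Submodule R₂ R₂) :=
    Submodule.smul_mono le_rfl inf_le_right hy3
  obtain ⟨w, hw, hw1, hw2⟩ := fp_exists_of_mem_smul hπ₁ N _ hy4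
  have hz : z = z' + w := by
    apply fp_ext
    · rw [map_add, hw1, add_zero, hzz']
    · rw [map_add, hw2]; ring
  rw [hz]
  exact Ideal.add_mem _ (Ideal.pow_le_pow_right (Nat.le_add_right N c) hz') hw

/-- the fibre product of complete local rings over a separated local ring is complete. -/
theorem fp_isAdicComplete [IsNoetherianRing R₂] [IsAdicComplete (maximalIdeal R₁) R₁]
    [IsAdicComplete (maximalIdeal R₂) R₂] [IsLocalRing T] [IsHausdorff (maximalIdeal T) T]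
    (hπ₁ : Function.Surjective π₁) (hπ₂ : Function.Surjective π₂) :
    IsAdicComplete (maximalIdeal (FP π₁ π₂)) (FP π₁ π₂) := by
  haveI : IsLocalHom π₁ := IsLocalHom.of_surjective π₁ hπ₁
  haveI : IsLocalHom π₂ := IsLocalHom.of_surjective π₂ hπ₂
  have hmap1 : ∀ N (z : FP π₁ π₂), z ∈ maximalIdeal (FP π₁ π₂) ^ N →
      fpFst π₁ π₂ z ∈ maximalIdeal R₁ ^ N := fun N z hz => by
    rw [← fp_map_fst_pow (π₁ := π₁) (π₂ := π₂) hπ₂]
    exact Ideal.mem_map_of_mem _ hz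
  have hmap2 : ∀ N (z : FP π₁ π₂), z ∈ maximalIdeal (FP π₁ π₂) ^ N →
      fpSnd π₁ π₂ z ∈ maximalIdeal R₂ ^ N := fun N z hz => by
    rw [← fp_map_snd_pow (π₁ := π₁) (π₂ := π₂) hπ₁]
    exact Ideal.mem_map_of_mem _ hz
  have hH1 : ∀ a : R₁, (∀ n, a ∈ maximalIdeal R₁ ^ n) → a = 0 := fun a ha =>
    IsHausdorff.haus (inferInstance : IsHausdorff (maximalIdeal R₁) R₁) a (fun n => by
      rw [SModEq.zero, smul_eq_mul, Ideal.mul_top]; exact ha n)
  have hH2 : ∀ a : R₂, (∀ n, a ∈ maximalIdeal R₂ ^ n) → a = 0 := fun a ha =>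
    IsHausdorff.haus (inferInstance : IsHausdorff (maximalIdeal R₂) R₂) a (fun n => by
      rw [SModEq.zero, smul_eq_mul, Ideal.mul_top]; exact ha n)
  have hHT : ∀ a : T, (∀ n, a ∈ maximalIdeal T ^ n) → a = 0 := fun a ha =>
    IsHausdorff.haus (inferInstance : IsHausdorff (maximalIdeal T) T) a (fun n => by
      rw [SModEq.zero, smul_eq_mul, Ideal.mul_top]; exact ha n)
  haveI : IsHausdorff (maximalIdeal (FP π₁ π₂)) (FP π₁ π₂) := by
    refine ⟨fun x hx => ?_⟩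
    have hx' : ∀ n, x ∈ maximalIdeal (FP π₁ π₂) ^ n := fun n => by
      have := hx n
      rwa [SModEq.zero, smul_eq_mul, Ideal.mul_top] at this
    apply fp_ext
    · rw [map_zero]; exact hH1 _ (fun n => hmap1 n x (hx' n))
    · rw [map_zero]; exact hH2 _ (fun n => hmap2 n x (hx' n))
  haveI : IsPrecomplete (maximalIdeal (FP π₁ π₂)) (FP π₁ π₂) := by
    rw [Groth.Agent.Helper7.Cohen.isPrecomplete_iff_ring]
    intro f hf
    obtain ⟨c, hc⟩ := fp_exists_shift (π₁ := π₁) (π₂ := π₂) hπ₁ hπ₂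
    obtain ⟨La, hLa⟩ := (Groth.Agent.Helper7.Cohen.isPrecomplete_iff_ring (maximalIdeal R₁)).mp
      inferInstance (fun n => fpFst π₁ π₂ (f n)) (fun m n hmn => by
        rw [← map_sub]; exact hmap1 m _ (hf m n hmn))
    obtain ⟨Lb, hLb⟩ := (Groth.Agent.Helper7.Cohen.isPrecomplete_iff_ring (maximalIdeal R₂)).mp
      inferInstance (fun n => fpSnd π₁ π₂ (f n)) (fun m n hmn => by
        rw [← map_sub]; exact hmap2 m _ (hf m n hmn))
    have hL : π₁ La = π₂ Lb := by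
      rw [← sub_eq_zero]
      apply hHT
      intro n
      have e : π₁ La - π₂ Lb = π₂ (fpSnd π₁ π₂ (f n) - Lb) - π₁ (fpFst π₁ π₂ (f n) - La) := by
        rw [map_sub, map_sub, fp_comm_apply]; ring
      rw [e]
      refine Ideal.sub_mem _ ?_ ?_
      · have := Ideal.mem_map_of_mem π₂ (hLb n)
        rw [Ideal.map_pow] at this
        exact Ideal.pow_right_mono (IsLocalRing.map_maximalIdeal_le π₂) n this
      · have := Ideal.mem_map_of_mem π₁ (hLa n)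
        rw [Ideal.map_pow] at this
        exact Ideal.pow_right_mono (IsLocalRing.map_maximalIdeal_le π₁) n this
    refine ⟨fpMk π₁ π₂ La Lb hL, fun n => ?_⟩
    have e : f n - fpMk π₁ π₂ La Lb hL = (f n - f (n + c)) + (f (n + c) - fpMk π₁ π₂ La Lb hL) := by
      ring
    rw [e]
    refine Ideal.add_mem _ (hf n (n + c) (Nat.le_add_right n c)) (hc n _ ?_ ?_)
    · rw [map_sub, fpFst_mk]; exact hLa (n + c)
    · rw [map_sub, fpSnd_mk]; exact hLb (n + c)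
  exact ⟨⟩

end fp2

/-- two surjections from complete Noetherian local rings onto a separated local ring are
dominated by a common complete regular local ring. -/
theorem exists_dominating {R₁ R₂ T : Type u} [CommRing R₁] [CommRing R₂] [CommRing T]
    [IsLocalRing R₁] [IsLocalRing R₂] [IsNoetherianRing R₁] [IsNoetherianRing R₂]
    [IsAdicComplete (maximalIdeal R₁) R₁] [IsAdicComplete (maximalIdeal R₂) R₂]
    [IsLocalRing T] [IsHausdorff (maximalIdeal T) T]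
    (π₁ : R₁ →+* T) (π₂ : R₂ →+* T) (hπ₁ : Function.Surjective π₁)
    (hπ₂ : Function.Surjective π₂) :
    ∃ (R₃ : Type u) (_ : CommRing R₃) (_ : IsRegularLocalRing R₃) (φ₁ : R₃ →+* R₁)
      (φ₂ : R₃ →+* R₂), Function.Surjective φ₁ ∧ Function.Surjective φ₂ ∧
      π₁.comp φ₁ = π₂.comp φ₂ := by
  haveI := fp_isLocalRing (π₁ := π₁) hπ₂
  haveI := fp_isAdicComplete (π₁ := π₁) (π₂ := π₂) hπ₁ hπ₂
  have hfg := fp_maximalIdeal_fg (π₁ := π₁) (π₂ := π₂) hπ₁ hπ₂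
    (maximalIdeal R₁).fg_of_isNoetherianRing (RingHom.ker π₂).fg_of_isNoetherianRing
  obtain ⟨Λ, _, n, f, hΛ, hf⟩ := Groth.Agent.Helper7.Cohen.s0580 (FP π₁ π₂) hfg
  have hregΛ : IsRegularRing Λ := by
    rcases hΛ with h | h
    · haveI : IsDomain Λ := h.isDomain
      haveI : IsPrincipalIdealRing Λ := h.isPrincipalIdealRing
      infer_instance
    · obtain ⟨hd, hdvr, -⟩ := h
      infer_instance
  haveI : IsLocalRing Λ := by
    rcases hΛ with h | h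
    · letI := h.toField
      infer_instance
    · obtain ⟨hd, hdvr, -⟩ := h
      infer_instance
  have hreg : IsRegularLocalRing (MvPowerSeries (Fin n) Λ) :=
    Groth.Agent.Helper7.Cohen.isRegularLocalRing_mvPowerSeries Λ n
  refine ⟨_, inferInstance, hreg, (fpFst π₁ π₂).comp f, (fpSnd π₁ π₂).comp f,
    (fpFst_surjective hπ₂).comp hf, (fpSnd_surjective hπ₁).comp hf, ?_⟩
  rw [← RingHom.comp_assoc, fp_comm, RingHom.comp_assoc]

end Groth.Agent.Helper7.CKd
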