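import Groth.Agent.Helper7.CKO2
import Groth.Agent.Helper5.CIP1
set_option linter.style.haveILetI false
set_option linter.unusedSectionVars false
set_option linter.unusedVariables false
set_option autoImplicit false
open IsLocalRing RingTheory.Sequence
universe u
namespace Groth.Agent.Helper7.CKd
open Groth.Agent.Helper5.CIP

/-- presentation independence for complete regular presentations. -/
theorem genReg_ker_complete {R₁ R₂ T : Type u} [CommRing R₁] [CommRing R₂] [CommRing T]
    [IsRegularLocalRing R₁] [IsRegularLocalRing R₂]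
    [IsAdicComplete (maximalIdeal R₁) R₁] [IsAdicComplete (maximalIdeal R₂) R₂]
    [IsLocalRing T] [IsHausdorff (maximalIdeal T) T]
    (π₁ : R₁ →+* T) (π₂ : R₂ →+* T) (hπ₁ : Function.Surjective π₁)
    (hπ₂ : Function.Surjective π₂) (h : GenReg (RingHom.ker π₂)) : GenReg (RingHom.ker π₁) := by
  obtain ⟨R₃, _, _, φ₁, φ₂, hφ₁, hφ₂, hcomm⟩ := exists_dominating π₁ π₂ hπ₁ hπ₂
  exact genReg_ker_of_genReg_ker φ₁ hφ₁ φ₂ hφ₂ π₁ π₂ hcomm h

section GR
variable {R : Type u} [CommRing R] [IsRegularLocalRing R]

/-- Krull: `dim R ≤ dim R/I + μ(I)`. -/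
theorem dim_le_dim_quot_add_spanFinrank (I : Ideal R) (hI : I ≠ ⊤) :
    ringKrullDim R ≤ ringKrullDim (R ⧸ I) + I.spanFinrank := by
  apply ringKrullDim_le_ringKrullDim_quotient_add_spanFinrank
  rw [IsLocalRing.ringJacobson_eq_maximalIdeal]
  exact le_maximalIdeal hI

/-- an ideal of a regular local ring is generated by a regular sequence iff
`dim R/I + μ(I) ≤ dim R`. -/
theorem genReg_iff_dim (I : Ideal R) (hI : I ≠ ⊤) :
    GenReg I ↔ ringKrullDim (R ⧸ I) + I.spanFinrank ≤ ringKrullDim R := by
  classical
  constructor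
  · rintro ⟨rs, hrs, hreg⟩
    have hdim := ringKrullDim_add_length_eq_ringKrullDim_of_isRegular rs hreg
    rw [hrs] at hdim
    rw [← hdim]
    have hle : I.spanFinrank ≤ rs.length := by
      have h1 : I = Submodule.span R (rs.toFinset : Set R) := by
        rw [← hrs, Ideal.ofList]
        congr 1
        ext x
        simp
      rw [h1]
      refine le_trans (Submodule.spanFinrank_span_le_ncard_of_finite (Finset.finite_toSet _)) ?_
      rw [Set.ncard_coe_finset]
      exact List.toFinset_card_le rs
    gcongr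
  · intro h
    have hfg : I.FG := I.fg_of_isNoetherianRing
    obtain ⟨s, hcard, hspan⟩ := Submodule.FG.exists_span_finset_card_eq_spanFinrank hfg
    let f : Fin s.card → R := fun i => (s.equivFin.symm i).1
    have hrange : Set.range f = (s : Set R) := by
      ext x
      constructor
      · rintro ⟨i, rfl⟩
        exact (s.equivFin.symm i).2
      · intro hx
        exact ⟨s.equivFin ⟨x, hx⟩, by simp [f]⟩
    have hspan' : Ideal.span (Set.range f) = I := by rw [hrange]; exact hspan
    have hm : ∀ i, f i ∈ maximalIdeal R := fun i =>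
      le_maximalIdeal hI (hspan' ▸ Ideal.subset_span ⟨i, rfl⟩)
    have hdim : ringKrullDim (R ⧸ Ideal.span (Set.range f)) + s.card = ringKrullDim R := by
      rw [hspan', hcard]
      exact le_antisymm h (dim_le_dim_quot_add_spanFinrank I hI)
    refine ⟨List.ofFn f, ?_, Groth.Agent.Helper2.CIConormal.isRegular_ofFn_of_dim f hm hdim⟩
    rw [← hspan', Ideal.ofList]
    congr 1
    ext x
    rw [Set.mem_ofPred_eq, List.mem_ofFn', Set.mem_range]

end GR

end Groth.Agent.Helper7.CKd
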