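import Groth.Agent.Helper7.CKO3
import Groth.Agent.Helper2.CplMap
import Groth.Agent.Helper2.CplIff
import Groth.Agent.Helper3.Chevalley
import Groth.Agent.S0547
import Groth.Agent.S0548
set_option linter.style.haveILetI false
set_option linter.unusedSectionVars false
set_option linter.unusedVariables false
set_option autoImplicit false
open IsLocalRing RingTheory.Sequence
universe u
namespace Groth.Agent.Helper7.CKd
open Groth.Agent.Helper5.CIP Groth.Agent.Helper2.CplMap

section cplLift
variable (R T : Type u) [CommRing R] [CommRing T] [IsLocalRing R] [IsNoetherianRing R]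
  [IsLocalRing T] [IsAdicComplete (maximalIdeal T) T] [Algebra R T]
  [IsLocalHom (algebraMap R T)]

/-- the extension of a local homomorphism to a complete local ring to the completion. -/
noncomputable def cplLift : AdicCompletion (maximalIdeal R) R →+* T :=
  IsAdicComplete.liftRingHom (maximalIdeal T) (f R T) (f_compat R T)

theorem mk_cplLift (n : ℕ) (x : AdicCompletion (maximalIdeal R) R) :
    Ideal.Quotient.mk (maximalIdeal T ^ n) (cplLift R T x) = f R T n x :=
  IsAdicComplete.mk_liftRingHom _ _ _ n x

theorem eq_of_forall_mk_eq (a b : T)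
    (h : ∀ n, Ideal.Quotient.mk (maximalIdeal T ^ n) a = Ideal.Quotient.mk (maximalIdeal T ^ n) b) :
    a = b := by
  rw [← sub_eq_zero]
  apply IsHausdorff.haus (inferInstance : IsHausdorff (maximalIdeal T) T)
  intro n
  rw [SModEq.zero, smul_eq_mul, Ideal.mul_top, ← Ideal.Quotient.mk_eq_mk_iff_sub_mem]
  exact h n

theorem cplLift_algebraMap (r : R) :
    cplLift R T (algebraMap R (AdicCompletion (maximalIdeal R) R) r) = algebraMap R T r := by
  apply eq_of_forall_mk_eq
  intro n
  rw [mk_cplLift]
  have h1 : algebraMap R (AdicCompletion (maximalIdeal R) R) r =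
      AdicCompletion.of (maximalIdeal R) R r := rfl
  rw [h1]
  simp only [f, RingHom.coe_comp, RingHom.coe_coe, Function.comp_apply, AdicCompletion.evalₐ_of,
    Ideal.quotientMap_mk]

theorem cplLift_surjective (h : Function.Surjective (algebraMap R T)) :
    Function.Surjective (cplLift R T) := by
  intro t
  obtain ⟨r, rfl⟩ := h t
  exact ⟨_, cplLift_algebraMap R T r⟩

omit [IsLocalRing T] [IsAdicComplete (maximalIdeal T) T] [Algebra R T]
  [IsLocalHom (algebraMap R T)] in
theorem mem_pow_of_evalₐ_eq_zero (n : ℕ) (x : AdicCompletion (maximalIdeal R) R)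
    (hx : AdicCompletion.evalₐ (maximalIdeal R) n x = 0) :
    x ∈ maximalIdeal (AdicCompletion (maximalIdeal R) R) ^ n := by
  have hx' : x ∈ (maximalIdeal R ^ n • ⊤ : Submodule R (AdicCompletion (maximalIdeal R) R)) := by
    rw [AdicCompletion.pow_smul_top_eq_ker_eval (maximalIdeal R).fg_of_isNoetherianRing,
      LinearMap.mem_ker, ← AdicCompletion.factor_evalₐ_eq_eval _ x (by simp), hx, _root_.map_zero]
  rw [Ideal.smul_top_eq_map, Submodule.restrictScalars_mem, Ideal.map_pow,
    ← AdicCompletion.maximalIdeal_eq_map] at hx'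
  exact hx'

theorem ker_cplLift [IsNoetherianRing T] (h : Function.Surjective (algebraMap R T)) :
    RingHom.ker (cplLift R T) =
      (RingHom.ker (algebraMap R T)).map (algebraMap R (AdicCompletion (maximalIdeal R) R)) := by
  haveI : IsNoetherianRing (AdicCompletion (maximalIdeal R) R) := Groth.Agent.S0543.result R _
  apply le_antisymm
  · intro x hx
    rw [RingHom.mem_ker] at hx
    apply Groth.Agent.Helper3.Chevalley.mem_of_forall_mem_sup_pow
    intro n
    obtain ⟨a', ha'⟩ := Ideal.Quotient.mk_surjective (AdicCompletion.evalₐ (maximalIdeal R) n x)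
    have h1 : AdicCompletion.evalₐ (maximalIdeal R) n
        (x - algebraMap R (AdicCompletion (maximalIdeal R) R) a') = 0 := by
      rw [map_sub, AdicCompletion.algebraMap_apply, AdicCompletion.evalₐ_of, Algebra.algebraMap_self,
        RingHom.id_apply, ha', sub_self]
    have h2 : algebraMap R T a' ∈ maximalIdeal T ^ n := by
      have h3 := mk_cplLift R T n (x - algebraMap R (AdicCompletion (maximalIdeal R) R) a')
      rw [map_sub, hx, cplLift_algebraMap, zero_sub, map_neg] at h3
      have h4 : f R T n (x - algebraMap R (AdicCompletion (maximalIdeal R) R) a') = 0 := by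
        simp only [f, RingHom.coe_comp, RingHom.coe_coe, Function.comp_apply]
        rw [h1, map_zero]
      rw [h4, neg_eq_zero, Ideal.Quotient.eq_zero_iff_mem] at h3
      exact h3
    rw [← IsLocalRing.map_maximalIdeal_of_surjective (algebraMap R T) h, ← Ideal.map_pow] at h2
    obtain ⟨b, hb, hba⟩ := (Ideal.mem_map_iff_of_surjective _ h).mp h2
    have hk : a' - b ∈ RingHom.ker (algebraMap R T) := by
      rw [RingHom.mem_ker, map_sub, hba, sub_self]
    have e : x = algebraMap R (AdicCompletion (maximalIdeal R) R) (a' - b) +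
        ((x - algebraMap R (AdicCompletion (maximalIdeal R) R) a') +
          algebraMap R (AdicCompletion (maximalIdeal R) R) b) := by
      rw [map_sub]; ring
    rw [e]
    refine Submodule.add_mem_sup (Ideal.mem_map_of_mem _ hk) (Ideal.add_mem _ ?_ ?_)
    · exact mem_pow_of_evalₐ_eq_zero R n _ h1
    · rw [AdicCompletion.maximalIdeal_eq_map, ← Ideal.map_pow]
      exact Ideal.mem_map_of_mem _ hb
  · rw [Ideal.map_le_iff_le_comap]
    intro a ha
    rw [Ideal.mem_comap, RingHom.mem_ker, cplLift_algebraMap]
    exact ha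

end cplLift

section mu

/-- the minimal number of generators does not drop along a faithfully flat local extension with
trivial residue extension. -/
theorem spanFinrank_le_spanFinrank_map (R S : Type u) [CommRing R] [CommRing S] [IsLocalRing R]
    [IsNoetherianRing R] [IsLocalRing S] [IsNoetherianRing S] [Algebra R S]
    [Module.FaithfullyFlat R S]
    (hres : ∀ s : S, ∃ r : R, s - algebraMap R S r ∈ maximalIdeal S) (K : Ideal R) :
    K.spanFinrank ≤ (K.map (algebraMap R S)).spanFinrank := by
  classical
  set J := K.map (algebraMap R S) with hJ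
  obtain ⟨t, hcard, hspan⟩ :=
    Submodule.FG.exists_span_finset_card_eq_spanFinrank (J.fg_of_isNoetherianRing)
  obtain ⟨n, a, ha⟩ := Submodule.fg_iff_exists_fin_generating_family.mp K.fg_of_isNoetherianRing
  have ha' : Ideal.span (Set.range a) = K := ha
  have hJspan : J = Ideal.span (Set.range (fun i => algebraMap R S (a i))) := by
    rw [hJ, ← ha', Ideal.map_span, ← Set.range_comp]
    rfl
  -- coefficients
  have hcoef : ∀ b ∈ t, ∃ v : Fin n → S, ∑ i, v i • algebraMap R S (a i) = b := by
    intro b hb
    have hbJ : b ∈ J := hspan ▸ Submodule.subset_span hb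
    rw [hJspan] at hbJ
    exact (Submodule.mem_span_range_iff_exists_fun S).mp hbJ
  choose! v hv using hcoef
  choose r hr using hres
  let b' : S → R := fun b => ∑ i, r (v b i) * a i
  have hb'K : ∀ b, b' b ∈ K := fun b => by
    refine Ideal.sum_mem _ (fun i _ => Ideal.mul_mem_left _ _ ?_)
    rw [← ha']
    exact Ideal.subset_span ⟨i, rfl⟩
  set K' : Ideal R := Ideal.span (b' '' (t : Set S)) with hK'
  have hK'K : K' ≤ K := by
    rw [hK', Ideal.span_le]
    rintro _ ⟨b, -, rfl⟩
    exact hb'K b
  have hdiff : ∀ b ∈ t, b - algebraMap R S (b' b) ∈ maximalIdeal S • J := by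
    intro b hb
    have e : b - algebraMap R S (b' b) =
        ∑ i, (v b i - algebraMap R S (r (v b i))) • algebraMap R S (a i) := by
      have e1 : b - algebraMap R S (b' b) =
          ∑ i, v b i • algebraMap R S (a i) - algebraMap R S (b' b) := by rw [hv b hb]
      rw [e1, map_sum, ← Finset.sum_sub_distrib]
      refine Finset.sum_congr rfl (fun i _ => ?_)
      rw [map_mul, smul_eq_mul, smul_eq_mul]
      ring
    rw [e]
    refine Ideal.sum_mem _ (fun i _ => ?_)
    rw [smul_eq_mul]
    refine Ideal.mul_mem_mul (hr _) ?_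
    rw [hJspan]
    exact Ideal.subset_span ⟨i, rfl⟩
  have hle : J ≤ K'.map (algebraMap R S) := by
    apply Submodule.le_of_le_smul_of_le_jacobson_bot (I := maximalIdeal S) J.fg_of_isNoetherianRing
    · rw [IsLocalRing.jacobson_eq_maximalIdeal ⊥ bot_ne_top]
    · conv_lhs => rw [← hspan]
      rw [Ideal.span_le] 
      intro b hb
      have e : b = algebraMap R S (b' b) + (b - algebraMap R S (b' b)) := by ring
      rw [e]
      refine Submodule.add_mem_sup (Ideal.mem_map_of_mem _ ?_) (hdiff b hb)
      exact Ideal.subset_span ⟨b, hb, rfl⟩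
  have hmapeq : K'.map (algebraMap R S) = K.map (algebraMap R S) :=
    le_antisymm (Ideal.map_mono hK'K) hle
  have hKK' : K' = K := by
    rw [← Ideal.comap_map_eq_self_of_faithfullyFlat (B := S) K',
      ← Ideal.comap_map_eq_self_of_faithfullyFlat (B := S) K, hmapeq]
  rw [← hKK', hK', ← hcard]
  refine le_trans (Submodule.spanFinrank_span_le_ncard_of_finite
    ((Finset.finite_toSet t).image b')) ?_
  refine le_trans (Set.ncard_image_le (Finset.finite_toSet t)) ?_
  rw [Set.ncard_coe_finset]

theorem spanFinrank_map_cpl (R : Type u) [CommRing R] [IsLocalRing R] [IsNoetherianRing R]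
    (K : Ideal R) :
    (K.map (algebraMap R (AdicCompletion (maximalIdeal R) R))).spanFinrank = K.spanFinrank := by
  haveI : IsNoetherianRing (AdicCompletion (maximalIdeal R) R) := Groth.Agent.S0543.result R _
  haveI : Module.FaithfullyFlat R (AdicCompletion (maximalIdeal R) R) :=
    Groth.Agent.Helper2.CplIff.ff R
  apply le_antisymm (Ideal.spanFinrank_map_le_of_fg _ K.fg_of_isNoetherianRing)
  apply spanFinrank_le_spanFinrank_map
  intro s
  obtain ⟨r, hr⟩ := Ideal.Quotient.mk_surjective (AdicCompletion.evalₐ (maximalIdeal R) 1 s)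
  refine ⟨r, ?_⟩
  have h1 : AdicCompletion.evalₐ (maximalIdeal R) 1
      (s - algebraMap R (AdicCompletion (maximalIdeal R) R) r) = 0 := by
    rw [map_sub, AdicCompletion.algebraMap_apply, AdicCompletion.evalₐ_of, Algebra.algebraMap_self,
      RingHom.id_apply, hr, sub_self]
  have := mem_pow_of_evalₐ_eq_zero R 1 _ h1
  rwa [pow_one] at this

end mu

end Groth.Agent.Helper7.CKd
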