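import Groth.Agent.Helper7.CKO5
set_option linter.style.haveILetI false
set_option linter.unusedSectionVars false
set_option linter.unusedVariables false
set_option autoImplicit false
open IsLocalRing RingTheory.Sequence
universe u
namespace Groth.Agent.Helper7.CKd
open Groth.Agent.Helper5.CIP Groth.Agent.Helper2.CplMap

section cplSurj

theorem ker_ψ_quot (R : Type u) [CommRing R] [IsLocalRing R] [IsNoetherianRing R] (I : Ideal R)
    [Nontrivial (R ⧸ I)] :
    RingHom.ker (ψ R (R ⧸ I)) = I.map (algebraMap R (AdicCompletion (maximalIdeal R) R)) := by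
  apply le_antisymm (Groth.Agent.Helper2.CplQuot.ker_ψ_le R I)
  rw [Ideal.map_le_iff_le_comap]
  intro a ha
  rw [Ideal.mem_comap, RingHom.mem_ker]
  have h1 := RingHom.congr_fun (ψ_comp R (R ⧸ I)) a
  rw [RingHom.comp_apply, RingHom.comp_apply] at h1
  rw [h1]
  have h2 : algebraMap R (R ⧸ I) a = 0 := Ideal.Quotient.eq_zero_iff_mem.mpr ha
  rw [h2, map_zero]

/-- a surjection of Noetherian local rings induces a surjection of completions whose kernel is the
extended kernel. -/
theorem exists_cpl_surj {R A : Type u} [CommRing R] [CommRing A] [IsLocalRing R]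
    [IsNoetherianRing R] [IsLocalRing A] [IsNoetherianRing A] (π : R →+* A)
    (hπ : Function.Surjective π) :
    ∃ πh : AdicCompletion (maximalIdeal R) R →+* AdicCompletion (maximalIdeal A) A,
      Function.Surjective πh ∧
      RingHom.ker πh = (RingHom.ker π).map (algebraMap R (AdicCompletion (maximalIdeal R) R)) := by
  haveI : Nontrivial (R ⧸ RingHom.ker π) :=
    Ideal.Quotient.nontrivial_iff.mpr (RingHom.ker_ne_top π)
  let σ : R ⧸ RingHom.ker π ≃+* A := RingHom.quotientKerEquivOfSurjective hπ
  letI : Algebra (R ⧸ RingHom.ker π) A := σ.toRingHom.toAlgebra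
  haveI : IsLocalHom (algebraMap (R ⧸ RingHom.ker π) A) :=
    IsLocalHom.of_surjective _ σ.surjective
  haveI : Module.Flat (R ⧸ RingHom.ker π) A := RingHom.Flat.of_bijective σ.bijective
  have hm : Ideal.map (algebraMap (R ⧸ RingHom.ker π) A) (maximalIdeal (R ⧸ RingHom.ker π)) =
      maximalIdeal A := IsLocalRing.map_maximalIdeal_of_surjective _ σ.surjective
  have hk : Function.Bijective (ResidueField.map (algebraMap (R ⧸ RingHom.ker π) A)) := by
    refine ⟨RingHom.injective _, fun y => ?_⟩
    obtain ⟨b, rfl⟩ := residue_surjective y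
    obtain ⟨a, rfl⟩ := σ.surjective b
    exact ⟨residue _ a, by rw [ResidueField.map_residue]; rfl⟩
  have hbij := Groth.Agent.Helper3.ComplIso2.completion_bijective (R ⧸ RingHom.ker π) A
    (ψ (R ⧸ RingHom.ker π) A) (ψ_comp (R ⧸ RingHom.ker π) A) hm hk
  refine ⟨(ψ (R ⧸ RingHom.ker π) A).comp (ψ R (R ⧸ RingHom.ker π)),
    hbij.2.comp (Groth.Agent.Helper2.CplQuot.ψ_surjective R (RingHom.ker π)), ?_⟩
  rw [← ker_ψ_quot R (RingHom.ker π)]
  ext x
  rw [RingHom.mem_ker, RingHom.mem_ker, RingHom.comp_apply]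
  constructor
  · intro h
    exact hbij.1 (by rw [h, map_zero])
  · intro h
    rw [h, map_zero]

end cplSurj

section muadd

/-- removing a minimal generator lowers the minimal number of generators by one. -/
theorem spanFinrank_step {R : Type u} [CommRing R] [IsLocalRing R] [IsNoetherianRing R]
    (I : Ideal R) (x : R) (hx : x ∈ I) (hx' : x ∉ maximalIdeal R * I) :
    (I.map (Ideal.Quotient.mk (Ideal.span {x}))).spanFinrank + 1 = I.spanFinrank := by
  classical
  have hsurj : Function.Surjective (Ideal.Quotient.mk (Ideal.span {x})) :=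
    Ideal.Quotient.mk_surjective
  apply le_antisymm
  · -- exchange
    obtain ⟨s, hcard, hspan⟩ :=
      Submodule.FG.exists_span_finset_card_eq_spanFinrank I.fg_of_isNoetherianRing
    have hpos : 0 < s.card := by
      rw [Finset.card_pos]
      by_contra hne
      rw [Finset.not_nonempty_iff_eq_empty] at hne
      rw [hne, Finset.coe_empty, Submodule.span_empty] at hspan
      apply hx'
      rw [← hspan] at hx ⊢
      rw [Submodule.mem_bot] at hx
      rw [hx]
      exact zero_mem _
    obtain ⟨ℓ, hℓ⟩ : ∃ ℓ, s.card = ℓ + 1 := ⟨s.card - 1, by omega⟩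
    let g : Fin (ℓ + 1) → R := fun i => (s.equivFin.symm (Fin.cast hℓ.symm i)).1
    have hrange : Set.range g = (s : Set R) := by
      ext y
      constructor
      · rintro ⟨i, rfl⟩
        exact (s.equivFin.symm _).2
      · intro hy
        refine ⟨Fin.cast hℓ (s.equivFin ⟨y, hy⟩), ?_⟩
        simp [g]
    have hg : Ideal.span (Set.range g) = I := by rw [hrange]; exact hspan
    obtain ⟨j, hj⟩ := exists_span_map_mk ℓ g x (hg ▸ hx) (hg ▸ hx')
    rw [hg] at hj
    rw [hj, ← hcard, hℓ]
    gcongr
    refine le_trans (Submodule.spanFinrank_span_le_ncard_of_finite (Set.finite_range _)) ?_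
    rw [← Set.image_univ]
    refine le_trans (Set.ncard_image_le Set.finite_univ) ?_
    rw [Set.ncard_univ, Nat.card_eq_fintype_card, Fintype.card_fin]
  · obtain ⟨t, hcard, hspan⟩ := Submodule.FG.exists_span_finset_card_eq_spanFinrank
      (I.map (Ideal.Quotient.mk (Ideal.span {x}))).fg_of_isNoetherianRing
    have hlift : ∀ y ∈ t, ∃ z ∈ I, Ideal.Quotient.mk (Ideal.span {x}) z = y := by
      intro y hy
      have : y ∈ I.map (Ideal.Quotient.mk (Ideal.span {x})) := hspan ▸ Submodule.subset_span hy
      exact (Ideal.mem_map_iff_of_surjective _ hsurj).mp this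
    choose! z hzI hz using hlift
    set J : Ideal R := Ideal.span (z '' (t : Set _) ∪ {x}) with hJ
    have hJI : J ≤ I := by
      rw [hJ, Ideal.span_le]
      rintro _ (⟨y, hy, rfl⟩ | rfl)
      · exact hzI y hy
      · exact hx
    have hxJ : Ideal.span {x} ≤ J := Ideal.span_mono (Set.subset_union_right)
    have hmap : I.map (Ideal.Quotient.mk (Ideal.span {x})) ≤
        J.map (Ideal.Quotient.mk (Ideal.span {x})) := by
      conv_lhs => rw [← hspan]
      rw [Ideal.span_le]
      intro y hy
      rw [← hz y hy]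
      exact Ideal.mem_map_of_mem _ (Ideal.subset_span (Or.inl ⟨y, hy, rfl⟩))
    have hIJ : I ≤ J := by
      have h1 := Ideal.comap_mono (f := Ideal.Quotient.mk (Ideal.span {x})) hmap
      rw [Ideal.comap_map_of_surjective _ hsurj, Ideal.comap_map_of_surjective _ hsurj,
        ← RingHom.ker_eq_comap_bot, Ideal.mk_ker, sup_eq_left.mpr hxJ] at h1
      exact le_sup_left.trans h1
    have hIeq : I = J := le_antisymm hIJ hJI
    rw [← hcard]
    have hIJ' : I.spanFinrank = J.spanFinrank := by rw [← hIeq]
    rw [hIJ', hJ]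
    refine le_trans (Submodule.spanFinrank_span_le_ncard_of_finite
      (((Finset.finite_toSet t).image z).union (Set.finite_singleton x))) ?_
    refine le_trans (Set.ncard_union_le _ _) ?_
    rw [Set.ncard_singleton]
    gcongr
    refine le_trans (Set.ncard_image_le (Finset.finite_toSet t)) ?_
    rw [Set.ncard_coe_finset]

/-- additivity of the minimal number of generators along a surjection of regular local rings. -/
theorem spanFinrank_comap_add : ∀ (d : ℕ) (R₃ R₁ : Type u) [CommRing R₃] [CommRing R₁]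
    [IsRegularLocalRing R₃] [IsRegularLocalRing R₁] (φ : R₃ →+* R₁), Function.Surjective φ →
    ringKrullDim R₃ = d → ∀ (d₁ : ℕ), ringKrullDim R₁ = d₁ → ∀ I : Ideal R₁, I ≠ ⊤ →
    (I.comap φ).spanFinrank + d₁ = I.spanFinrank + d := by
  intro d
  induction d using Nat.strong_induction_on with
  | _ d ih =>
    intro R₃ R₁ _ _ _ _ φ hφ hd d₁ hd₁ I hI
    by_cases hk : RingHom.ker φ = ⊥
    · have hinj : Function.Injective φ := (RingHom.injective_iff_ker_eq_bot φ).mpr hk
      let e : R₃ ≃+* R₁ := RingEquiv.ofBijective φ ⟨hinj, hφ⟩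
      have h1 : I.comap φ = I.map e.symm := by
        have : I.comap φ = I.comap (e : R₃ →+* R₁) := rfl
        rw [this]
        exact (Ideal.map_symm e).symm
      have hdeq : (d : WithBot ℕ∞) = d₁ := by
        rw [← hd, ← hd₁]
        exact ringKrullDim_eq_of_ringEquiv e
      have hdeq' : d = d₁ := by exact_mod_cast hdeq
      rw [h1, Ideal.spanFinrank_map_eq_of_ringEquiv, hdeq']
    · have hregq : IsRegularLocalRing (R₃ ⧸ RingHom.ker φ) :=
        IsRegularLocalRing.of_ringEquiv (RingHom.quotientKerEquivOfSurjective hφ).symm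
      have hnot : ¬ RingHom.ker φ ≤ maximalIdeal R₃ ^ 2 := fun hle =>
        hk (Groth.Agent.Helper2.RegSeq2.eq_bot_of_le_sq _ hle hregq)
      obtain ⟨x, hxk, hx2⟩ := SetLike.not_le_iff_exists.mp hnot
      have hxm : x ∈ maximalIdeal R₃ :=
        IsLocalRing.le_maximalIdeal (RingHom.ker_ne_top φ) hxk
      obtain ⟨hregq', hdimq, -⟩ := Groth.Agent.Lead.RegLocal.quotient_isRegularLocalRing hxm hx2
      obtain ⟨d', hd'⟩ : ∃ d' : ℕ, ringKrullDim (R₃ ⧸ Ideal.span {x}) = d' :=
        ⟨_, (IsRegularLocalRing.spanFinrank_maximalIdeal (R := R₃ ⧸ Ideal.span {x})).symm⟩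
      have hdd' : d = d' + 1 := by
        rw [hd, hd'] at hdimq
        exact_mod_cast hdimq.symm
      have hlift : ∀ a ∈ Ideal.span {x}, φ a = 0 := by
        intro a ha
        have : Ideal.span {x} ≤ RingHom.ker φ := (Ideal.span_singleton_le_iff_mem _).mpr hxk
        exact this ha
      let φ' : R₃ ⧸ Ideal.span {x} →+* R₁ := Ideal.Quotient.lift (Ideal.span {x}) φ hlift
      have hφ' : Function.Surjective φ' := Ideal.Quotient.lift_surjective_of_surjective _ hlift hφ
      have hcomp : φ'.comp (Ideal.Quotient.mk (Ideal.span {x})) = φ :=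
        Ideal.Quotient.lift_comp_mk _ _ _
      have hih := ih d' (by omega) (R₃ ⧸ Ideal.span {x}) R₁ φ' hφ' hd' d₁ hd₁ I hI
      have hJ : (I.comap φ).map (Ideal.Quotient.mk (Ideal.span {x})) = I.comap φ' := by
        rw [← hcomp, ← Ideal.comap_comap,
          Ideal.map_comap_of_surjective _ Ideal.Quotient.mk_surjective]
      have hxJ : x ∈ I.comap φ := by
        rw [Ideal.mem_comap, (RingHom.mem_ker).mp hxk]
        exact zero_mem _
      have hJtop : I.comap φ ≠ ⊤ := by
        intro h
        apply hI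
        rw [← Ideal.map_comap_of_surjective φ hφ I, h, Ideal.map_top]
      have hxJ' : x ∉ maximalIdeal R₃ * I.comap φ := by
        intro h
        apply hx2
        rw [pow_two]
        exact Ideal.mul_mono_right (le_maximalIdeal hJtop) h
      have hstep := spanFinrank_step (I.comap φ) x hxJ hxJ'
      rw [hJ] at hstep
      omega

theorem s2941 (A : Type u) [CommRing A] [IsLocalRing A] [IsNoetherianRing A] (B B' : Type u)
    [CommRing B] [CommRing B'] [IsRegularLocalRing B] [IsRegularLocalRing B'] (f : B →+* A)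
    (hf : Function.Surjective f) (f' : B' →+* A) (hf' : Function.Surjective f') (d d' : ℕ)
    (hd : ringKrullDim B = d) (hd' : ringKrullDim B' = d') :
    (d : ℤ) - ((RingHom.ker f).spanFinrank : ℤ) = (d' : ℤ) - ((RingHom.ker f').spanFinrank : ℤ) := by
  haveI : IsNoetherianRing (AdicCompletion (maximalIdeal A) A) := Groth.Agent.S0543.result A _
  haveI := isRegularLocalRing_cpl B
  haveI := isRegularLocalRing_cpl B'
  obtain ⟨π, hπs, hπk⟩ := exists_cpl_surj f hf
  obtain ⟨π', hπs', hπk'⟩ := exists_cpl_surj f' hf'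
  obtain ⟨R₃, _, _, φ, φ', hφ, hφ', hcomm⟩ := exists_dominating π π' hπs hπs'
  obtain ⟨d₃, hd₃⟩ : ∃ d₃ : ℕ, ringKrullDim R₃ = d₃ :=
    ⟨_, (IsRegularLocalRing.spanFinrank_maximalIdeal (R := R₃)).symm⟩
  have hdB : ringKrullDim (AdicCompletion (maximalIdeal B) B) = d := by
    rw [Groth.Agent.S0547.result B, hd]
  have hdB' : ringKrullDim (AdicCompletion (maximalIdeal B') B') = d' := by
    rw [Groth.Agent.S0547.result B', hd']
  have h1 := spanFinrank_comap_add d₃ R₃ _ φ hφ hd₃ d hdB (RingHom.ker π) (RingHom.ker_ne_top π)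
  have h2 := spanFinrank_comap_add d₃ R₃ _ φ' hφ' hd₃ d' hdB' (RingHom.ker π')
    (RingHom.ker_ne_top π')
  have hJ : (RingHom.ker π).comap φ = (RingHom.ker π').comap φ' := by
    rw [RingHom.comap_ker, RingHom.comap_ker, hcomm]
  have hμ : (RingHom.ker π).spanFinrank = (RingHom.ker f).spanFinrank := by
    rw [hπk, spanFinrank_map_cpl]
  have hμ' : (RingHom.ker π').spanFinrank = (RingHom.ker f').spanFinrank := by
    rw [hπk', spanFinrank_map_cpl]
  rw [hJ, hμ] at h1
  rw [hμ'] at h2
  omega

end muadd

end Groth.Agent.Helper7.CKd
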