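import Groth.Agent.Helper7.CKO7
set_option linter.style.haveILetI false
set_option linter.unusedSectionVars false
set_option linter.unusedVariables false
set_option autoImplicit false
open IsLocalRing RingTheory.Sequence AlgebraicGeometry
universe u
namespace Groth.Agent.Helper7.CKd
open Groth.Agent.Helper5.CIP

section final

theorem isCI_stalk_iff (B : Type u) [CommRing B] [IsRegularRing B] (I : Ideal B)
    (x : PrimeSpectrum (B ⧸ I)) :
    Pi1.IsCompleteIntersection ((Spec (CommRingCat.of (B ⧸ I))).presheaf.stalk x) ↔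
      GenReg (I.map (algebraMap B
        (Localization.AtPrime (x.asIdeal.comap (algebraMap B (B ⧸ I)))))) := by
  let e := (Spec.stalkIso (CommRingCat.of (B ⧸ I)) x).commRingCatIsoToRingEquiv
  haveI : IsNoetherianRing (Localization.AtPrime x.asIdeal) :=
    IsLocalization.isNoetherianRing x.asIdeal.primeCompl _ inferInstance
  haveI : IsNoetherianRing ((Spec (CommRingCat.of (B ⧸ I))).presheaf.stalk x) :=
    isNoetherianRing_of_ringEquiv _ e.symm
  rw [← isCI_localization_quot_iff I x.asIdeal _ rfl]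
  exact ⟨isCI_of_ringEquiv e, isCI_of_ringEquiv e.symm⟩

theorem s2842 (B : Type u) [CommRing B] [IsRegularRing B] (I : Ideal B) :
    IsOpen {x : ↥(Spec (CommRingCat.of (B ⧸ I))) |
        Pi1.IsCompleteIntersection ((Spec (CommRingCat.of (B ⧸ I))).presheaf.stalk x)} ∧
      ∀ x : ↥(Spec (CommRingCat.of (B ⧸ I))),
        IsRegularLocalRing ((Spec (CommRingCat.of (B ⧸ I))).presheaf.stalk x) →
        Pi1.IsCompleteIntersection ((Spec (CommRingCat.of (B ⧸ I))).presheaf.stalk x) := by
  refine ⟨?_, fun x hx => @isCI_of_regular _ _ hx⟩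
  rw [isOpen_iff_forall_mem_open]
  intro x hx
  let x' : PrimeSpectrum (B ⧸ I) := x
  have hx' : GenReg (I.map (algebraMap B
      (Localization.AtPrime (x'.asIdeal.comap (algebraMap B (B ⧸ I)))))) :=
    (isCI_stalk_iff B I x').mp hx
  have hIQ : I ≤ x'.asIdeal.comap (algebraMap B (B ⧸ I)) := by
    intro b hb
    rw [Ideal.mem_comap, Ideal.Quotient.algebraMap_eq, Ideal.Quotient.eq_zero_iff_mem.2 hb]
    exact Ideal.zero_mem _
  obtain ⟨f, hf, hf'⟩ := genReg_spread I _ hIQ hx'
  refine ⟨(PrimeSpectrum.basicOpen (algebraMap B (B ⧸ I) f) : Set (PrimeSpectrum (B ⧸ I))),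
    ?_, (PrimeSpectrum.basicOpen (algebraMap B (B ⧸ I) f)).isOpen, hf⟩
  intro y hy
  let y' : PrimeSpectrum (B ⧸ I) := y
  have hIQ' : I ≤ y'.asIdeal.comap (algebraMap B (B ⧸ I)) := by
    intro b hb
    rw [Ideal.mem_comap, Ideal.Quotient.algebraMap_eq, Ideal.Quotient.eq_zero_iff_mem.2 hb]
    exact Ideal.zero_mem _
  exact (isCI_stalk_iff B I y').mpr (hf' _ hIQ' hy)

end final

end Groth.Agent.Helper7.CKd
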