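import Mathlib
import Groth.Agent.Helper5.MvPSIdeal
import Groth.Agent.Helper8.CKae

/-!
# Completed differentials of a complete local ring finite over a power series ring
-/

set_option autoImplicit false
set_option linter.unusedSectionVars false
universe u

namespace Groth.Agent.Helper7.CKd

open TensorProduct IsLocalRing MvPowerSeries

section Nak

variable {R : Type*} [CommRing R] (I : Ideal R) (M : Type*) [AddCommGroup M] [Module R M]

/-- if the completion is a finite module (and `I` is in the radical), `M → M̂` is surjective -/
theorem of_surjective_of_finite (hI : I ≤ Ideal.jacobson ⊥) (hfg : I.FG)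
    [Module.Finite R (AdicCompletion I M)] : Function.Surjective (AdicCompletion.of I M) := by
  rw [← LinearMap.range_eq_top, eq_top_iff]
  refine Submodule.le_of_le_smul_of_le_jacobson_bot Module.Finite.fg_top hI ?_
  intro x _
  obtain ⟨ω, hω⟩ := Submodule.mkQ_surjective _ (AdicCompletion.eval I M 1 x)
  have hx : x - AdicCompletion.of I M ω ∈ (I • ⊤ : Submodule R (AdicCompletion I M)) := by
    have h1 : x - AdicCompletion.of I M ω ∈ LinearMap.ker (AdicCompletion.eval I M 1) := by
      rw [LinearMap.mem_ker, map_sub, AdicCompletion.eval_of, hω, sub_self]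
    rw [← AdicCompletion.pow_smul_top_eq_ker_eval hfg, pow_one] at h1
    exact h1
  have : x = AdicCompletion.of I M ω + (x - AdicCompletion.of I M ω) := by abel
  rw [this]
  exact Submodule.add_mem _ (Submodule.mem_sup_left ⟨ω, rfl⟩) (Submodule.mem_sup_right hx)

end Nak

section PolyDer

variable {k B A M : Type*} [CommRing k] [CommRing B] [CommRing A] [Algebra k B] [Algebra k A]
  [Algebra B A] [IsScalarTower k B A] [AddCommGroup M] [Module k M] [Module A M]
  [IsScalarTower k A M]

/-- `D(P(a)) - P'(a) • D a` lies in the span of the `D b`, `b ∈ B` -/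
theorem der_aeval_sub_mem (D : Derivation k A M) (a : A) (P : Polynomial B) :
    D (Polynomial.aeval a P) - Polynomial.aeval a (Polynomial.derivative P) • D a ∈
      Submodule.span A (Set.range fun b : B => D (algebraMap B A b)) := by
  induction P using Polynomial.induction_on' with
  | add p q hp hq =>
    have : D (Polynomial.aeval a (p + q)) -
        Polynomial.aeval a (Polynomial.derivative (p + q)) • D a =
        (D (Polynomial.aeval a p) - Polynomial.aeval a (Polynomial.derivative p) • D a) +
        (D (Polynomial.aeval a q) - Polynomial.aeval a (Polynomial.derivative q) • D a) := by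
      rw [map_add, map_add, map_add, map_add, add_smul]; abel
    rw [this]
    exact Submodule.add_mem _ hp hq
  | monomial n c =>
    rw [Polynomial.aeval_monomial, Polynomial.derivative_monomial, Polynomial.aeval_monomial,
      Derivation.leibniz, Derivation.leibniz_pow]
    have : algebraMap B A c • (n • a ^ (n - 1) • D a) + a ^ n • D (algebraMap B A c) -
        (algebraMap B A (c * (n : B)) * a ^ (n - 1)) • D a = a ^ n • D (algebraMap B A c) := by
      rw [map_mul, map_natCast, mul_smul, mul_smul, Nat.cast_smul_eq_nsmul]
      abel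
    rw [this]
    exact Submodule.smul_mem _ _ (Submodule.subset_span ⟨c, rfl⟩)

end PolyDer

section Main

variable (k : Type u) [Field k] (r : ℕ) (A : Type u) [CommRing A] [IsLocalRing A]
  [IsNoetherianRing A] [Algebra (MvPowerSeries (Fin r) k) A] [Algebra k A]
  [IsScalarTower k (MvPowerSeries (Fin r) k) A]

local notation "BB" => MvPowerSeries (Fin r) k
local notation "MM" => AdicCompletion (maximalIdeal A) (Ω[A⁄k])

/-- the completed differential -/
noncomputable def dhat (a : A) : MM :=
  AdicCompletion.of (maximalIdeal A) (Ω[A⁄k]) (KaehlerDifferential.D k A a)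

theorem dhat_add (a b : A) : dhat k A (a + b) = dhat k A a + dhat k A b := by
  unfold dhat; rw [map_add, map_add]

theorem dhat_mul (a b : A) : dhat k A (a * b) = a • dhat k A b + b • dhat k A a := by
  unfold dhat; rw [Derivation.leibniz, map_add, map_smul, map_smul]

theorem dhat_algebraMap (c : k) : dhat k A (algebraMap k A c) = 0 := by
  unfold dhat; rw [Derivation.map_algebraMap, map_zero]

/-- the differentials of the variables -/
noncomputable def gen (i : Fin r) : MM := dhat k A (algebraMap BB A (X i))

/-- the error term `d̂ b - Σ ∂_j b • d̂ T_j` -/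
noncomputable def err (b : BB) : MM :=
  dhat k A (algebraMap BB A b) - ∑ j, algebraMap BB A (pderiv k j b) • gen k r A j

theorem err_add (b b' : BB) : err k r A (b + b') = err k r A b + err k r A b' := by
  unfold err
  rw [map_add, dhat_add]
  simp only [map_add, add_smul, Finset.sum_add_distrib]
  abel

theorem err_zero : err k r A 0 = 0 := by
  have := err_add k r A 0 0
  rw [add_zero] at this
  exact left_eq_add.mp this

theorem err_sum {ι : Type*} (s : Finset ι) (f : ι → BB) :
    err k r A (∑ i ∈ s, f i) = ∑ i ∈ s, err k r A (f i) := by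
  classical
  induction s using Finset.induction_on with
  | empty => simp [err_zero]
  | insert a s ha ih => rw [Finset.sum_insert ha, Finset.sum_insert ha, err_add, ih]

theorem err_mul (b b' : BB) : err k r A (b * b') =
    algebraMap BB A b • err k r A b' + algebraMap BB A b' • err k r A b := by
  unfold err
  rw [map_mul, dhat_mul]
  simp only [Derivation.leibniz, smul_eq_mul, map_add, map_mul, add_smul, Finset.sum_add_distrib,
    smul_sub, Finset.smul_sum, mul_smul]
  abel

theorem err_C (c : k) : err k r A (C c) = 0 := by
  unfold err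
  have h1 : (C c : BB) = algebraMap k BB c := rfl
  rw [h1, ← IsScalarTower.algebraMap_apply k BB A, dhat_algebraMap]
  simp only [Derivation.map_algebraMap, map_zero, zero_smul, Finset.sum_const_zero, sub_zero]

theorem err_X (i : Fin r) : err k r A (X i) = 0 := by
  classical
  unfold err
  simp only [pderiv_X, Pi.single_apply]
  rw [Finset.sum_eq_single i]
  · rw [if_pos rfl, map_one, one_smul]
    exact sub_self _
  · intro j _ hj
    rw [if_neg (Ne.symm hj), map_zero, zero_smul]
  · intro h; exact absurd (Finset.mem_univ i) h

theorem err_mem (hloc : ∀ i, algebraMap BB A (X i) ∈ maximalIdeal A) (n : ℕ) (b : BB) :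
    err k r A b ∈ (maximalIdeal A ^ n • ⊤ : Submodule A MM) := by
  induction n generalizing b with
  | zero => rw [pow_zero, Ideal.one_eq_top, Submodule.top_smul]; trivial
  | succ n ih =>
    obtain ⟨g, hg, -⟩ := Groth.Agent.Helper5.MvPSIdeal.exists_decomp (b - C (constantCoeff b))
      (by simp)
    have hb : b = C (constantCoeff b) + ∑ i, X i * g i := by rw [← hg]; ring
    rw [hb, err_add, err_C, zero_add, err_sum]
    refine Submodule.sum_mem _ fun i _ => ?_
    rw [err_mul, err_X, smul_zero, add_zero, pow_succ', Submodule.mul_smul]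
    exact Submodule.smul_mem_smul (hloc i) (ih (g i))

theorem err_eq_zero (hloc : ∀ i, algebraMap BB A (X i) ∈ maximalIdeal A) (b : BB) :
    err k r A b = 0 := by
  apply IsHausdorff.haus (inferInstance : IsHausdorff (maximalIdeal A) MM)
  intro n
  rw [SModEq.zero]
  exact err_mem k r A hloc n b

theorem dhat_algebraMap_mem (hloc : ∀ i, algebraMap BB A (X i) ∈ maximalIdeal A) (b : BB) :
    dhat k A (algebraMap BB A b) ∈ Submodule.span A (Set.range (gen k r A)) := by
  have h := err_eq_zero k r A hloc b
  unfold err at h
  rw [sub_eq_zero] at h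
  rw [h]
  exact Submodule.sum_mem _ fun j _ => Submodule.smul_mem _ _ (Submodule.subset_span ⟨j, rfl⟩)

theorem torsion_mod_gen [IsDomain A] [Module.Finite A MM]
    (hloc : ∀ i, algebraMap BB A (X i) ∈ maximalIdeal A)
    (hsep : ∀ a : A, ∃ P : Polynomial BB, Polynomial.aeval a P = 0 ∧
      Polynomial.aeval a (Polynomial.derivative P) ≠ 0) (x : MM) :
    ∃ s : A, s ≠ 0 ∧ s • x ∈ Submodule.span A (Set.range (gen k r A)) := by
  have hsurj := of_surjective_of_finite (maximalIdeal A) (Ω[A⁄k])
    (IsLocalRing.maximalIdeal_le_jacobson _)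
    ((inferInstance : IsNoetherianRing A).noetherian _)
  obtain ⟨ω, rfl⟩ := hsurj x
  have hω : ω ∈ Submodule.span A (Set.range (KaehlerDifferential.D k A)) := by
    rw [KaehlerDifferential.span_range_derivation]; trivial
  induction hω using Submodule.span_induction with
  | mem ω hω =>
    obtain ⟨a, rfl⟩ := hω
    obtain ⟨P, hP0, hP1⟩ := hsep a
    refine ⟨_, hP1, ?_⟩
    have h1 := der_aeval_sub_mem (KaehlerDifferential.D k A) a P
    rw [hP0, map_zero, zero_sub] at h1
    have h2 := Submodule.neg_mem _ h1
    rw [neg_neg] at h2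
    have h3 := Submodule.mem_map_of_mem (f := AdicCompletion.of (maximalIdeal A) (Ω[A⁄k])) h2
    rw [map_smul, Submodule.map_span] at h3
    refine (Submodule.span_le.2 ?_) h3
    rintro _ ⟨_, ⟨b, rfl⟩, rfl⟩
    exact dhat_algebraMap_mem k r A hloc b
  | zero => exact ⟨1, one_ne_zero, by rw [map_zero, smul_zero]; exact Submodule.zero_mem _⟩
  | add x y _ _ hx hy =>
    obtain ⟨s, hs, hsx⟩ := hx
    obtain ⟨t, ht, hty⟩ := hy
    refine ⟨s * t, mul_ne_zero hs ht, ?_⟩
    rw [map_add, smul_add]
    refine Submodule.add_mem _ ?_ ?_
    · rw [mul_comm, mul_smul]; exact Submodule.smul_mem _ _ hsx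
    · rw [mul_smul]; exact Submodule.smul_mem _ _ hty
  | smul c x _ hx =>
    obtain ⟨s, hs, hsx⟩ := hx
    refine ⟨s, hs, ?_⟩
    rw [map_smul, smul_comm]
    exact Submodule.smul_mem _ _ hsx

end Main

end Groth.Agent.Helper7.CKd
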