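import Mathlib
import Groth.Agent.Helper7.CKd1

/-!
# Continuous derivations of a complete local ring finite and generically étale over a power series
ring; the generic rank of the completed differentials
-/

set_option autoImplicit false
set_option linter.unusedSectionVars false
universe u

namespace Groth.Agent.Helper7.CKd

open TensorProduct IsLocalRing MvPowerSeries

section ExtDer

variable {R S T M : Type*} [CommRing R] [CommRing S] [CommRing T] [Algebra R S] [Algebra R T]
  [Algebra S T] [IsScalarTower R S T] [Algebra.FormallyEtale S T]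
  [AddCommGroup M] [Module R M] [Module S M] [Module T M] [IsScalarTower R S M]
  [IsScalarTower S T M] [IsScalarTower R T M]

/-- derivations extend along formally étale maps -/
theorem exists_extDer (d : Derivation R S M) :
    ∃ d' : Derivation R T M, ∀ s, d' (algebraMap S T s) = d s := by
  let ψ : Ω[T⁄R] →ₗ[T] M := (LinearMap.liftBaseChange T d.liftKaehlerDifferential) ∘ₗ
    (KaehlerDifferential.tensorKaehlerEquivOfFormallyEtale R S T).symm.toLinearMap
  refine ⟨ψ.compDer (KaehlerDifferential.D R T), fun s => ?_⟩
  change (LinearMap.liftBaseChange T d.liftKaehlerDifferential)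
    ((KaehlerDifferential.tensorKaehlerEquivOfFormallyEtale R S T).symm
      (KaehlerDifferential.D R T (algebraMap S T s))) = d s
  rw [KaehlerDifferential.tensorKaehlerEquivOfFormallyEtale_symm_D_algebraMap,
    LinearMap.liftBaseChange_tmul, one_smul, Derivation.liftKaehlerDifferential_comp_D]

end ExtDer

section Factor

variable {A : Type*} [CommRing A] [IsLocalRing A] [IsNoetherianRing A]
  {M E : Type*} [AddCommGroup M] [Module A M] [AddCommGroup E] [Module A E]

/-- a linear map with values in a finitely generated submodule factors through the completion -/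
theorem exists_factor_completion (hsurj : Function.Surjective (AdicCompletion.of (maximalIdeal A) M))
    (ℓ : M →ₗ[A] E) (F : Submodule A E) (hF : F.FG) (hℓ : ∀ x, ℓ x ∈ F) :
    ∃ φ : AdicCompletion (maximalIdeal A) M →ₗ[A] E,
      ∀ x, φ (AdicCompletion.of (maximalIdeal A) M x) = ℓ x := by
  haveI : Module.Finite A F := Module.Finite.of_fg hF
  let ℓ' : M →ₗ[A] F := LinearMap.codRestrict F ℓ hℓ
  have hker : LinearMap.ker (AdicCompletion.of (maximalIdeal A) M) ≤ LinearMap.ker ℓ := by
    intro x hx
    rw [LinearMap.mem_ker] at hx ⊢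
    have h1 : ∀ n, x ∈ (maximalIdeal A ^ n • ⊤ : Submodule A M) := by
      intro n
      have h2 := congrArg (AdicCompletion.eval (maximalIdeal A) M n) hx
      rw [AdicCompletion.eval_of, map_zero] at h2
      exact (Submodule.Quotient.mk_eq_zero _).1 h2
    have h3 : ℓ' x ∈ (⨅ n, maximalIdeal A ^ n • (⊤ : Submodule A F)) := by
      rw [Submodule.mem_iInf]
      intro n
      have h4 := Submodule.mem_map_of_mem (f := ℓ') (h1 n)
      rw [Submodule.map_smul''] at h4
      exact Submodule.smul_mono le_rfl le_top h4
    rw [Ideal.iInf_pow_smul_eq_bot_of_isLocalRing _ (IsLocalRing.maximalIdeal.isMaximal A).ne_top,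
      Submodule.mem_bot] at h3
    exact congrArg Subtype.val h3
  refine ⟨(Submodule.liftQ _ ℓ hker) ∘ₗ
    (LinearMap.quotKerEquivOfSurjective _ hsurj).symm.toLinearMap, fun x => ?_⟩
  rw [LinearMap.comp_apply, LinearEquiv.coe_coe, LinearMap.quotKerEquivOfSurjective_symm_apply,
    Submodule.liftQ_apply]

end Factor

section Main

variable (k : Type u) [Field k] (r : ℕ) (A : Type u) [CommRing A] [IsLocalRing A]
  [IsNoetherianRing A] [IsDomain A] [Algebra (MvPowerSeries (Fin r) k) A] [Algebra k A]
  [IsScalarTower k (MvPowerSeries (Fin r) k) A] [Module.Finite (MvPowerSeries (Fin r) k) A]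
  (E : Type u) [Field E] [Algebra A E] [IsFractionRing A E]
  [Algebra (MvPowerSeries (Fin r) k) E] [IsScalarTower (MvPowerSeries (Fin r) k) A E]
  [Algebra k E] [IsScalarTower k A E] [IsScalarTower k (MvPowerSeries (Fin r) k) E]
  [Algebra.FormallyEtale (MvPowerSeries (Fin r) k) E]

local notation "BB" => MvPowerSeries (Fin r) k
local notation "MM" => AdicCompletion (maximalIdeal A) (Ω[A⁄k])

/-- the partial derivatives extend to continuous derivations `A → E` -/
theorem exists_der (j : Fin r) :
    ∃ (D : Derivation k A E) (F : Submodule A E), F.FG ∧ (∀ a, D a ∈ F) ∧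
      ∀ b : BB, D (algebraMap BB A b) = algebraMap BB E (pderiv k j b) := by
  classical
  let d : Derivation k BB E := (Algebra.linearMap BB E).compDer (pderiv k j)
  obtain ⟨DE, hDE⟩ := exists_extDer (T := E) d
  let D : Derivation k A E := DE.compAlgebraMap A
  have hD : ∀ b : BB, D (algebraMap BB A b) = algebraMap BB E (pderiv k j b) := by
    intro b
    change DE (algebraMap A E (algebraMap BB A b)) = _
    rw [← IsScalarTower.algebraMap_apply BB A E, hDE]
    rfl
  obtain ⟨S₀, hS₀⟩ := (Module.Finite.fg_top : (⊤ : Submodule BB A).FG)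
  let F : Submodule A E := Submodule.span A (insert (1 : E) (D '' (S₀ : Set A)))
  have hFfg : F.FG := Submodule.fg_span ((S₀.finite_toSet.image _).insert _)
  have h1 : (1 : E) ∈ F := Submodule.subset_span (Set.mem_insert _ _)
  refine ⟨D, F, hFfg, fun a => ?_, hD⟩
  have ha : a ∈ Submodule.span BB (S₀ : Set A) := by rw [hS₀]; trivial
  induction ha using Submodule.span_induction with
  | mem a ha => exact Submodule.subset_span (Set.mem_insert_of_mem _ ⟨a, ha, rfl⟩)
  | zero => rw [map_zero]; exact Submodule.zero_mem _
  | add x y _ _ hx hy => rw [map_add]; exact Submodule.add_mem _ hx hy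
  | smul b x _ hx =>
    rw [Algebra.smul_def, Derivation.leibniz, hD]
    refine Submodule.add_mem _ (Submodule.smul_mem _ _ hx) ?_
    have : x • algebraMap BB E (pderiv k j b) =
        (x * algebraMap BB A (pderiv k j b)) • (1 : E) := by
      rw [IsScalarTower.algebraMap_apply BB A E, Algebra.smul_def, Algebra.smul_def, map_mul,
        mul_one]
    rw [this]
    exact Submodule.smul_mem _ _ h1

/-- functionals on the completed differentials dual to the `d̂ T_i` -/
theorem exists_dual [Module.Finite A MM] (j : Fin r) :
    ∃ φ : MM →ₗ[A] E, ∀ i, φ (gen k r A i) = if i = j then 1 else 0 := by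
  classical
  obtain ⟨D, F, hF, hDF, hD⟩ := exists_der k r A E j
  have hsurj := of_surjective_of_finite (maximalIdeal A) (Ω[A⁄k])
    (IsLocalRing.maximalIdeal_le_jacobson _)
    ((inferInstance : IsNoetherianRing A).noetherian _)
  have hℓ : ∀ x, D.liftKaehlerDifferential x ∈ F := by
    intro x
    have hx : x ∈ Submodule.span A (Set.range (KaehlerDifferential.D k A)) := by
      rw [KaehlerDifferential.span_range_derivation]; trivial
    induction hx using Submodule.span_induction with
    | mem x hx =>
      obtain ⟨a, rfl⟩ := hx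
      rw [Derivation.liftKaehlerDifferential_comp_D]
      exact hDF a
    | zero => rw [map_zero]; exact Submodule.zero_mem _
    | add x y _ _ hx hy => rw [map_add]; exact Submodule.add_mem _ hx hy
    | smul c x _ hx => rw [map_smul]; exact Submodule.smul_mem _ _ hx
  obtain ⟨φ, hφ⟩ := exists_factor_completion hsurj D.liftKaehlerDifferential F hF hℓ
  refine ⟨φ, fun i => ?_⟩
  change φ (AdicCompletion.of _ _ (KaehlerDifferential.D k A (algebraMap BB A (X i)))) = _
  rw [hφ, Derivation.liftKaehlerDifferential_comp_D, hD, pderiv_X, Pi.single_apply]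
  split_ifs with h
  · rw [map_one]
  · rw [map_zero]

theorem finrank_eq [Module.Finite A MM]
    (hloc : ∀ i, algebraMap BB A (X i) ∈ maximalIdeal A)
    (hsep : ∀ a : A, ∃ P : Polynomial BB, Polynomial.aeval a P = 0 ∧
      Polynomial.aeval a (Polynomial.derivative P) ≠ 0) :
    Module.finrank E (E ⊗[A] MM) = r := by
  classical
  let v : Fin r → E ⊗[A] MM := fun i => (1 : E) ⊗ₜ gen k r A i
  choose φ hφ using exists_dual k r A E
  let ψ : Fin r → (E ⊗[A] MM →ₗ[E] E) := fun j => LinearMap.liftBaseChange E (φ j)
  have hψ : ∀ i j, ψ j (v i) = if i = j then 1 else 0 := by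
    intro i j
    change LinearMap.liftBaseChange E (φ j) ((1 : E) ⊗ₜ gen k r A i) = _
    rw [LinearMap.liftBaseChange_tmul, one_smul, hφ]
  have hli : LinearIndependent E v := by
    rw [Fintype.linearIndependent_iff]
    intro g hg j
    have h1 := congrArg (ψ j) hg
    rw [map_sum, map_zero] at h1
    simp only [map_smul, hψ, smul_eq_mul, mul_ite, mul_one, mul_zero] at h1
    rw [Finset.sum_ite_eq' Finset.univ j, if_pos (Finset.mem_univ j)] at h1
    exact h1
  have hgen : ∀ (y : MM), y ∈ Submodule.span A (Set.range (gen k r A)) → ∀ e : E,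
      e ⊗ₜ[A] y ∈ Submodule.span E (Set.range v) := by
    intro y hy
    induction hy using Submodule.span_induction with
    | mem y hy =>
      obtain ⟨i, rfl⟩ := hy
      intro e
      have : e ⊗ₜ[A] gen k r A i = e • v i := by
        change _ = e • ((1 : E) ⊗ₜ[A] gen k r A i)
        rw [TensorProduct.smul_tmul', smul_eq_mul, mul_one]
      rw [this]
      exact Submodule.smul_mem _ _ (Submodule.subset_span ⟨i, rfl⟩)
    | zero => intro e; rw [tmul_zero]; exact Submodule.zero_mem _
    | add x y _ _ hx hy => intro e; rw [tmul_add]; exact Submodule.add_mem _ (hx e) (hy e)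
    | smul a x _ hx =>
      intro e
      rw [← TensorProduct.smul_tmul]
      exact hx _
  have hspan : ⊤ ≤ Submodule.span E (Set.range v) := by
    rintro z -
    induction z using TensorProduct.induction_on with
    | zero => exact Submodule.zero_mem _
    | add x y hx hy => exact Submodule.add_mem _ hx hy
    | tmul e x =>
      obtain ⟨s, hs, hsx⟩ := torsion_mod_gen k r A hloc hsep x
      have hs' : algebraMap A E s ≠ 0 := by
        rw [Ne, map_eq_zero_iff _ (IsFractionRing.injective A E)]
        exact hs
      have : e ⊗ₜ[A] x = (e * (algebraMap A E s)⁻¹) ⊗ₜ[A] (s • x) := by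
        rw [← TensorProduct.smul_tmul, Algebra.smul_def, mul_comm, mul_assoc,
          inv_mul_cancel₀ hs', mul_one]
      rw [this]
      exact hgen _ hsx _
  have b := Module.Basis.mk hli hspan
  rw [Module.finrank_eq_card_basis b, Fintype.card_fin]

end Main

end Groth.Agent.Helper7.CKd
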