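import Mathlib
import Groth.Agent.Helper7.CKd2

/-!
# The generic rank of the completed differentials: final statement
-/

set_option autoImplicit false
set_option linter.unusedSectionVars false
universe u

namespace Groth.Agent.Helper7.CKd

open TensorProduct IsLocalRing MvPowerSeries

section Res

variable (k : Type u) [Field k] (r : ℕ) (A : Type u) [CommRing A] [IsLocalRing A]
  [Algebra (MvPowerSeries (Fin r) k) A] [Algebra k A]
  [IsScalarTower k (MvPowerSeries (Fin r) k) A] [Module.Finite (MvPowerSeries (Fin r) k) A]

local notation "BB" => MvPowerSeries (Fin r) k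

theorem algebraMap_sub_C_mem (hloc : ∀ i, algebraMap BB A (X i) ∈ maximalIdeal A) (b : BB) :
    algebraMap BB A (b - C (constantCoeff b)) ∈ maximalIdeal A := by
  obtain ⟨g, hg, -⟩ := Groth.Agent.Helper5.MvPSIdeal.exists_decomp (b - C (constantCoeff b))
    (by simp)
  rw [hg, map_sum]
  refine Ideal.sum_mem _ fun i _ => ?_
  rw [map_mul]
  exact Ideal.mul_mem_right _ _ (hloc i)

theorem finite_residueField (hloc : ∀ i, algebraMap BB A (X i) ∈ maximalIdeal A) :
    Module.Finite k (ResidueField A) := by
  classical
  obtain ⟨S₀, hS₀⟩ := (Module.Finite.fg_top : (⊤ : Submodule BB A).FG)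
  refine ⟨⟨S₀.image (residue A), ?_⟩⟩
  rw [eq_top_iff]
  rintro x -
  obtain ⟨a, rfl⟩ := IsLocalRing.residue_surjective x
  have ha : a ∈ Submodule.span BB (S₀ : Set A) := by rw [hS₀]; trivial
  induction ha using Submodule.span_induction with
  | mem a ha =>
    exact Submodule.subset_span (Finset.mem_coe.2 (Finset.mem_image_of_mem _ ha))
  | zero => rw [map_zero]; exact Submodule.zero_mem _
  | add x y _ _ hx hy => rw [map_add]; exact Submodule.add_mem _ hx hy
  | smul b x _ hx =>
    have h1 : residue A (b • x) = (constantCoeff b : k) • residue A x := by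
      rw [Algebra.smul_def, map_mul, Algebra.smul_def]
      congr 1
      have h2 := algebraMap_sub_C_mem k r A hloc b
      rw [← IsLocalRing.residue_eq_zero_iff, map_sub, map_sub, sub_eq_zero] at h2
      rw [h2]
      have h3 : (C (constantCoeff b) : BB) = algebraMap k BB (constantCoeff b) := rfl
      rw [h3, ← IsScalarTower.algebraMap_apply k BB A]
      rfl
    rw [h1]
    exact Submodule.smul_mem _ _ hx

end Res

theorem s4557 (k : Type u) [Field k] (r : ℕ) (A : Type u) [CommRing A]
    [IsDomain A] [IsLocalRing A] [IsNoetherianRing A] [IsAdicComplete (maximalIdeal A) A]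
    [Algebra (MvPowerSeries (Fin r) k) A] [Algebra k A]
    [IsScalarTower k (MvPowerSeries (Fin r) k) A]
    (hinj : Function.Injective (algebraMap (MvPowerSeries (Fin r) k) A))
    [Module.Finite (MvPowerSeries (Fin r) k) A]
    (hsep : ∀ a : A, ∃ P : Polynomial (MvPowerSeries (Fin r) k), Polynomial.aeval a P = 0 ∧
      (P.map (algebraMap (MvPowerSeries (Fin r) k)
        (FractionRing (MvPowerSeries (Fin r) k)))).Separable) :
    Module.finrank (FractionRing A)
      (FractionRing A ⊗[A] AdicCompletion (maximalIdeal A) (Ω[A⁄k])) = r := by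
  classical
  -- notation
  set BB := MvPowerSeries (Fin r) k with hBB
  set E := FractionRing A with hE
  set L₀ := FractionRing BB with hL₀
  -- local homomorphism
  haveI : FaithfulSMul BB A := (faithfulSMul_iff_algebraMap_injective BB A).2 hinj
  haveI : IsLocalHom (algebraMap BB A) := Algebra.IsIntegral.isLocalHom _ _
  have hloc : ∀ i, algebraMap BB A (X i) ∈ maximalIdeal A := by
    intro i
    rw [IsLocalRing.mem_maximalIdeal, mem_nonunits_iff]
    intro hu
    have h1 : IsUnit (X i : BB) := (isUnit_map_iff (algebraMap BB A) _).1 hu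
    rw [MvPowerSeries.isUnit_iff_constantCoeff, MvPowerSeries.constantCoeff_X] at h1
    exact not_isUnit_zero h1
  -- finiteness of the completed differentials
  haveI : Module.Finite k (ResidueField A) := finite_residueField k r A hloc
  haveI : Module.Finite A (AdicCompletion (maximalIdeal A) (Ω[A⁄k])) :=
    Groth.Agent.Helper8.CKae.residue
  -- algebra structures
  haveI : IsScalarTower BB A E := inferInstance
  haveI : IsScalarTower k A E := inferInstance
  haveI : IsScalarTower k BB E := IsScalarTower.of_algebraMap_eq fun c => by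
    rw [IsScalarTower.algebraMap_apply BB A E, ← IsScalarTower.algebraMap_apply k BB A,
      ← IsScalarTower.algebraMap_apply k A E]
  have hinjE : Function.Injective (algebraMap BB E) := by
    rw [IsScalarTower.algebraMap_eq BB A E]
    exact (IsFractionRing.injective A E).comp hinj
  letI : Algebra L₀ E := (IsFractionRing.lift hinjE).toAlgebra
  haveI : IsScalarTower BB L₀ E := IsScalarTower.of_algebraMap_eq fun x =>
    (IsFractionRing.lift_algebraMap hinjE x).symm
  -- separability
  have hroot : ∀ (a : A) (P : Polynomial BB), Polynomial.aeval a P = 0 →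
      Polynomial.aeval (algebraMap A E a) (P.map (algebraMap BB L₀)) = 0 := by
    intro a P hP
    rw [Polynomial.aeval_map_algebraMap, Polynomial.aeval_algebraMap_apply, hP, map_zero]
  have hsepA : ∀ a : A, IsSeparable L₀ (algebraMap A E a) := by
    intro a
    obtain ⟨P, hP, hPs⟩ := hsep a
    exact Polynomial.Separable.of_dvd hPs (minpoly.dvd L₀ _ (hroot a P hP))
  haveI : Algebra.IsSeparable L₀ E := by
    refine ⟨fun x => ?_⟩
    obtain ⟨a, s, -, rfl⟩ := IsFractionRing.div_surjective (A := A) x
    rw [← mem_separableClosure_iff]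
    exact div_mem (mem_separableClosure_iff.2 (hsepA a)) (mem_separableClosure_iff.2 (hsepA s))
  haveI : Algebra.FormallyEtale BB L₀ :=
    Algebra.FormallyEtale.of_isLocalization (nonZeroDivisors BB)
  haveI : Algebra.FormallyEtale L₀ E := Algebra.FormallyEtale.of_isSeparable L₀ E
  haveI : Algebra.FormallyEtale BB E := Algebra.FormallyEtale.comp BB L₀ E
  -- the derivative does not vanish
  have hsep' : ∀ a : A, ∃ P : Polynomial BB, Polynomial.aeval a P = 0 ∧
      Polynomial.aeval a (Polynomial.derivative P) ≠ 0 := by
    intro a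
    obtain ⟨P, hP, hPs⟩ := hsep a
    refine ⟨P, hP, fun h0 => ?_⟩
    have h1 := Polynomial.Separable.aeval_derivative_ne_zero hPs (hroot a P hP)
    apply h1
    rw [Polynomial.derivative_map, Polynomial.aeval_map_algebraMap,
      Polynomial.aeval_algebraMap_apply, h0, map_zero]
  exact finrank_eq k r A E hloc hsep'

end Groth.Agent.Helper7.CKd
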