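import Mathlib
import Groth.Agent.Helper7.CKd1

/-!
# Generators of the localized completed differentials of the form `d(u x)`, `u` a unit
-/

set_option autoImplicit false
set_option linter.unusedSectionVars false
universe u

namespace Groth.Agent.Helper7.CKd

open TensorProduct IsLocalRing

section Greedy

variable {κ V : Type*} [Field κ] [AddCommGroup V] [Module κ V] [FiniteDimensional κ V]

/-- greedy choice of a basis from candidate sets that avoid every proper subspace -/
theorem exists_linearIndependent_of_candidates (M : ℕ) (hM : Module.finrank κ V = M)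
    (C : Fin M → Set V) (hC : ∀ i (W : Submodule κ V), W ≠ ⊤ → ∃ c ∈ C i, c ∉ W) :
    ∃ c : Fin M → V, (∀ i, c i ∈ C i) ∧ LinearIndependent κ c := by
  have key : ∀ j (hj : j ≤ M), ∃ c : Fin j → V, (∀ i : Fin j, c i ∈ C (Fin.castLE hj i)) ∧
      LinearIndependent κ c := by
    intro j
    induction j with
    | zero => exact fun _ => ⟨Fin.elim0, fun i => i.elim0, linearIndependent_empty_type⟩
    | succ j ih =>
      intro hj
      obtain ⟨c, hc, hli⟩ := ih (Nat.le_of_succ_le hj)
      have hW : Submodule.span κ (Set.range c) ≠ ⊤ := by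
        intro htop
        have h1 : Module.finrank κ (Submodule.span κ (Set.range c)) = j := by
          rw [finrank_span_eq_card hli, Fintype.card_fin]
        rw [htop, finrank_top, hM] at h1
        omega
      obtain ⟨c', hc', hc'W⟩ := hC ⟨j, hj⟩ _ hW
      refine ⟨Fin.snoc c c', fun i => ?_, linearIndependent_finSnoc.2 ⟨hli, hc'W⟩⟩
      induction i using Fin.lastCases with
      | last => rw [Fin.snoc_last]; exact hc'
      | cast i => rw [Fin.snoc_castSucc]; exact hc i
  obtain ⟨c, hc, hli⟩ := key M le_rfl
  exact ⟨c, fun i => by simpa using hc i, hli⟩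

end Greedy

section Loc

variable (k A : Type u) [Field k] [CommRing A] [IsLocalRing A] [IsNoetherianRing A] [Algebra k A]
  [Module.Finite A (AdicCompletion (maximalIdeal A) (Ω[A⁄k]))] (p : Ideal A) [p.IsPrime]

local notation "MM" => AdicCompletion (maximalIdeal A) (Ω[A⁄k])
local notation "Rp" => Localization.AtPrime p
local notation "LM" => LocalizedModule p.primeCompl (AdicCompletion (maximalIdeal A) (Ω[A⁄k]))
local notation "κp" => ResidueField (Localization.AtPrime p)

theorem one_tmul_smul (c : Rp) (z : LM) :
    (1 : κp) ⊗ₜ[Rp] (c • z) = (residue Rp c) • ((1 : κp) ⊗ₜ[Rp] z) := by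
  rw [TensorProduct.tmul_smul, TensorProduct.smul_tmul', TensorProduct.smul_tmul',
    Algebra.smul_def, smul_eq_mul]
  rfl

/-- the image of a completed differential in the fibre at `p` -/
noncomputable def tau (y : MM) : κp ⊗[Rp] LM :=
  (1 : κp) ⊗ₜ LocalizedModule.mkLinearMap p.primeCompl MM y

theorem tau_add (y y' : MM) : tau k A p (y + y') = tau k A p y + tau k A p y' := by
  unfold tau; rw [map_add, tmul_add]

theorem tau_zero : tau k A p 0 = 0 := by
  unfold tau; rw [map_zero, tmul_zero]

theorem tau_neg (y : MM) : tau k A p (-y) = -tau k A p y := by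
  unfold tau; rw [map_neg, tmul_neg]

theorem tau_smul (a : A) (y : MM) :
    tau k A p (a • y) = (residue Rp (algebraMap A Rp a)) • tau k A p y := by
  unfold tau
  rw [map_smul, ← algebraMap_smul Rp a, one_tmul_smul]

theorem span_tau_units :
    Submodule.span κp (Set.range fun u : Aˣ => tau k A p (dhat k A (u : A))) = ⊤ := by
  have hsurj := of_surjective_of_finite (maximalIdeal A) (Ω[A⁄k])
    (IsLocalRing.maximalIdeal_le_jacobson _)
    ((inferInstance : IsNoetherianRing A).noetherian _)
  have h1 : ∀ y : MM, tau k A p y ∈
      Submodule.span κp (Set.range fun u : Aˣ => tau k A p (dhat k A (u : A))) := by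
    intro y
    obtain ⟨ω, rfl⟩ := hsurj y
    have hω : ω ∈ Submodule.span A (Set.range (KaehlerDifferential.D k A)) := by
      rw [KaehlerDifferential.span_range_derivation]; trivial
    induction hω using Submodule.span_induction with
    | mem ω hω =>
      obtain ⟨a, rfl⟩ := hω
      rcases IsLocalRing.isUnit_or_isUnit_one_sub_self a with ha | ha
      · exact Submodule.subset_span ⟨ha.unit, rfl⟩
      · have h2 : AdicCompletion.of (maximalIdeal A) (Ω[A⁄k]) (KaehlerDifferential.D k A a) =
            -dhat k A ((ha.unit : Aˣ) : A) := by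
          unfold dhat
          rw [IsUnit.unit_spec, map_sub, Derivation.map_one_eq_zero, zero_sub, map_neg, neg_neg]
        rw [h2, tau_neg]
        exact Submodule.neg_mem _ (Submodule.subset_span ⟨ha.unit, rfl⟩)
    | zero => rw [map_zero, tau_zero]; exact Submodule.zero_mem _
    | add x y _ _ hx hy => rw [map_add, tau_add]; exact Submodule.add_mem _ hx hy
    | smul a x _ hx => rw [map_smul, tau_smul]; exact Submodule.smul_mem _ _ hx
  rw [eq_top_iff]
  rintro v -
  induction v using TensorProduct.induction_on with
  | zero => exact Submodule.zero_mem _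
  | add x y hx hy => exact Submodule.add_mem _ hx hy
  | tmul c z =>
    have h2 : c ⊗ₜ[Rp] z = c • ((1 : κp) ⊗ₜ[Rp] z) := by
      rw [TensorProduct.smul_tmul', smul_eq_mul, mul_one]
    rw [h2]
    refine Submodule.smul_mem _ _ ?_
    induction z using LocalizedModule.induction_on with
    | h y s =>
      have h3 : LocalizedModule.mk y s =
          (Localization.mk 1 s : Rp) • LocalizedModule.mkLinearMap p.primeCompl MM y := by
        rw [LocalizedModule.mkLinearMap_apply, LocalizedModule.mk_smul_mk, one_smul, mul_one]
      rw [h3, one_tmul_smul]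
      exact Submodule.smul_mem _ _ (h1 y)

end Loc

end Groth.Agent.Helper7.CKd
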