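import Mathlib
import Groth.Agent.Helper7.CKd4

/-!
# Generators of the localized completed differentials of the form `d(u x)`: the statement
-/

set_option autoImplicit false
set_option linter.unusedSectionVars false
universe u

namespace Groth.Agent.Helper7.CKd

open TensorProduct IsLocalRing

theorem s5080 (k A : Type u) [Field k] [CommRing A]
    [IsLocalRing A] [IsNoetherianRing A] [Algebra k A] [IsAdicComplete (maximalIdeal A) A]
    [Module.Finite k (ResidueField A)] (p : Ideal A) [p.IsPrime]
    (M : ℕ)
    (hgen : ∃ s : Fin M → (LocalizedModule p.primeCompl (AdicCompletion (maximalIdeal A) (Ω[A⁄k]))),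
      Submodule.span (Localization.AtPrime p) (Set.range s) = ⊤)
    (hmin : ∀ (s : Finset (LocalizedModule p.primeCompl (AdicCompletion (maximalIdeal A) (Ω[A⁄k])))),
      Submodule.span (Localization.AtPrime p)
        (↑s : Set (LocalizedModule p.primeCompl (AdicCompletion (maximalIdeal A) (Ω[A⁄k])))) = ⊤ →
        M ≤ s.card)
    (x : Fin M → A) (hx : ∀ i, x i ∉ p) :
    ∃ u : Fin M → Aˣ, Submodule.span (Localization.AtPrime p)
      (Set.range (fun i => LocalizedModule.mkLinearMap p.primeCompl
        (AdicCompletion (maximalIdeal A) (Ω[A⁄k]))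
        (AdicCompletion.of (maximalIdeal A) (Ω[A⁄k])
          (KaehlerDifferential.D k A ((u i : A) * x i))))) = ⊤ := by
  classical
  haveI : Module.Finite A (AdicCompletion (maximalIdeal A) (Ω[A⁄k])) :=
    Groth.Agent.Helper8.CKae.residue
  set MM := AdicCompletion (maximalIdeal A) (Ω[A⁄k]) with hMM
  set Rp := Localization.AtPrime p with hRp
  set LM := LocalizedModule p.primeCompl MM with hLM
  set κp := ResidueField Rp with hκ
  haveI : Module.Finite Rp LM :=
    Module.Finite.of_isLocalizedModule p.primeCompl (LocalizedModule.mkLinearMap p.primeCompl MM)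
  -- the dimension of the fibre
  have hone_surj : Function.Surjective (TensorProduct.mk Rp κp LM 1) :=
    TensorProduct.mk_surjective Rp LM κp IsLocalRing.residue_surjective
  have hfr : Module.finrank κp (κp ⊗[Rp] LM) = M := by
    apply le_antisymm
    · obtain ⟨s, hs⟩ := hgen
      have hspan : Submodule.span κp (Set.range fun i => (1 : κp) ⊗ₜ[Rp] s i) = ⊤ := by
        rw [eq_top_iff]
        rintro v -
        obtain ⟨z, rfl⟩ := hone_surj v
        have hz : z ∈ Submodule.span Rp (Set.range s) := by rw [hs]; trivial
        change (1 : κp) ⊗ₜ[Rp] z ∈ _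
        induction hz using Submodule.span_induction with
        | mem z hz =>
          obtain ⟨i, rfl⟩ := hz
          exact Submodule.subset_span ⟨i, rfl⟩
        | zero => rw [tmul_zero]; exact Submodule.zero_mem _
        | add x y _ _ hx hy => rw [tmul_add]; exact Submodule.add_mem _ hx hy
        | smul c z _ hz => rw [one_tmul_smul]; exact Submodule.smul_mem _ _ hz
      have h1 := finrank_range_le_card (R := κp) (fun i => (1 : κp) ⊗ₜ[Rp] s i)
      rw [Set.finrank, hspan, finrank_top, Fintype.card_fin] at h1
      exact h1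
    · let b := Module.finBasis κp (κp ⊗[Rp] LM)
      choose f hf using fun i => hone_surj (b i)
      have hspan := IsLocalRing.span_eq_top_of_tmul_eq_basis f b hf
      have h2 := hmin (Finset.univ.image f) (by
        rw [Finset.coe_image, Finset.coe_univ, Set.image_univ]; exact hspan)
      refine h2.trans (Finset.card_image_le.trans ?_)
      rw [Finset.card_univ, Fintype.card_fin]
  -- candidates
  let C : Fin M → Set (κp ⊗[Rp] LM) := fun i =>
    Set.range fun u : Aˣ => tau k A p (dhat k A ((u : A) * x i))
  have hformula : ∀ (u : Aˣ) (i : Fin M), tau k A p (dhat k A ((u : A) * x i)) =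
      (residue Rp (algebraMap A Rp (u : A))) • tau k A p (dhat k A (x i)) +
      (residue Rp (algebraMap A Rp (x i))) • tau k A p (dhat k A (u : A)) := by
    intro u i
    rw [dhat_mul, tau_add, tau_smul, tau_smul]
  have hC : ∀ i (W : Submodule κp (κp ⊗[Rp] LM)), W ≠ ⊤ → ∃ c ∈ C i, c ∉ W := by
    intro i W hW
    by_cases h : tau k A p (dhat k A (x i)) ∈ W
    · obtain ⟨u, hu⟩ : ∃ u : Aˣ, tau k A p (dhat k A (u : A)) ∉ W := by
        by_contra hcon
        push Not at hcon
        apply hW
        rw [eq_top_iff, ← span_tau_units k A p, Submodule.span_le]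
        rintro _ ⟨u, rfl⟩
        exact hcon u
      refine ⟨_, ⟨u, rfl⟩, fun hmem => hu ?_⟩
      beta_reduce at hmem
      rw [hformula] at hmem
      have h1 := (Submodule.add_mem_iff_right W (Submodule.smul_mem W _ h)).1 hmem
      have hne : residue Rp (algebraMap A Rp (x i)) ≠ 0 := by
        rw [Ne, IsLocalRing.residue_eq_zero_iff, IsLocalRing.mem_maximalIdeal, mem_nonunits_iff,
          not_not]
        exact IsLocalization.map_units Rp (⟨x i, hx i⟩ : p.primeCompl)
      have h2 := Submodule.smul_mem W (residue Rp (algebraMap A Rp (x i)))⁻¹ h1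
      rwa [smul_smul, inv_mul_cancel₀ hne, one_smul] at h2
    · refine ⟨_, ⟨1, rfl⟩, ?_⟩
      beta_reduce
      rw [Units.val_one, one_mul]
      exact h
  obtain ⟨c, hc, hli⟩ := exists_linearIndependent_of_candidates M hfr C hC
  choose u hu using hc
  have hcard : Fintype.card (Fin M) = Module.finrank κp (κp ⊗[Rp] LM) := by
    rw [Fintype.card_fin, hfr]
  let b := Module.Basis.mk hli (hli.span_eq_top_of_card_eq_finrank' hcard).ge
  refine ⟨u, ?_⟩
  refine IsLocalRing.span_eq_top_of_tmul_eq_basis _ b fun i => ?_
  rw [Module.Basis.mk_apply, ← hu i]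
  rfl

end Groth.Agent.Helper7.CKd
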