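import Mathlib
import Groth.Agent.Helper7.CKd3

/-!
# Continuous derivations and the completed differentials: lifting lemmas
-/

set_option autoImplicit false
set_option linter.unusedSectionVars false
universe u

namespace Groth.Agent.Helper7.CKd

open TensorProduct IsLocalRing MvPowerSeries

section Lift

variable (k : Type u) [Field k] (A : Type u) [CommRing A] [IsLocalRing A]
  [IsNoetherianRing A] [Algebra k A]
  {V : Type*} [AddCommGroup V] [Module k V] [Module A V] [IsScalarTower k A V]

local notation "MM" => AdicCompletion (maximalIdeal A) (Ω[A⁄k])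

theorem of_surjective [Module.Finite A MM] :
    Function.Surjective (AdicCompletion.of (maximalIdeal A) (Ω[A⁄k])) :=
  of_surjective_of_finite (maximalIdeal A) (Ω[A⁄k])
    (IsLocalRing.maximalIdeal_le_jacobson _)
    ((inferInstance : IsNoetherianRing A).noetherian _)

/-- a derivation with values in a finitely generated submodule factors through the completed
differentials -/
theorem exists_lift_of_fg [Module.Finite A MM] (D : Derivation k A V) (F : Submodule A V)
    (hF : F.FG) (hDF : ∀ a, D a ∈ F) :
    ∃ φ : MM →ₗ[A] V, ∀ a, φ (dhat k A a) = D a := by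
  have hℓ : ∀ x, D.liftKaehlerDifferential x ∈ F := by
    intro x
    have hx : x ∈ Submodule.span A (Set.range (KaehlerDifferential.D k A)) := by
      rw [KaehlerDifferential.span_range_derivation]; trivial
    induction hx using Submodule.span_induction with
    | mem x hx =>
      obtain ⟨a, rfl⟩ := hx
      rw [Derivation.liftKaehlerDifferential_comp_D]
      exact hDF a
    | zero => rw [map_zero]; exact Submodule.zero_mem _
    | add x y _ _ hx hy => rw [map_add]; exact Submodule.add_mem _ hx hy
    | smul c x _ hx => rw [map_smul]; exact Submodule.smul_mem _ _ hx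
  obtain ⟨φ, hφ⟩ := exists_factor_completion (of_surjective k A) D.liftKaehlerDifferential F hF hℓ
  refine ⟨φ, fun a => ?_⟩
  change φ (AdicCompletion.of _ _ (KaehlerDifferential.D k A a)) = _
  rw [hφ, Derivation.liftKaehlerDifferential_comp_D]

/-- the completed differentials are generated by the `d̂ a` -/
theorem span_dhat [Module.Finite A MM] :
    Submodule.span A (Set.range (dhat k A)) = ⊤ := by
  rw [eq_top_iff]
  rintro x -
  obtain ⟨ω, rfl⟩ := of_surjective k A x
  have hω : ω ∈ Submodule.span A (Set.range (KaehlerDifferential.D k A)) := by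
    rw [KaehlerDifferential.span_range_derivation]; trivial
  induction hω using Submodule.span_induction with
  | mem ω hω =>
    obtain ⟨a, rfl⟩ := hω
    exact Submodule.subset_span ⟨a, rfl⟩
  | zero => rw [map_zero]; exact Submodule.zero_mem _
  | add x y _ _ hx hy => rw [map_add]; exact Submodule.add_mem _ hx hy
  | smul c x _ hx => rw [map_smul]; exact Submodule.smul_mem _ _ hx

end Lift

section Bdd

variable (k : Type u) [Field k] (r : ℕ) (A : Type u) [CommRing A]
  [Algebra (MvPowerSeries (Fin r) k) A] [Algebra k A]
  [IsScalarTower k (MvPowerSeries (Fin r) k) A] [Module.Finite (MvPowerSeries (Fin r) k) A]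
  {V : Type*} [AddCommGroup V] [Module k V] [Module A V] [IsScalarTower k A V]

local notation "BB" => MvPowerSeries (Fin r) k

/-- a derivation of `A` which on `k[[T]]` is a combination of the partial derivatives takes
its values in a finitely generated submodule -/
theorem exists_fg_of_pderiv (D : Derivation k A V) (c : Fin r → V)
    (hD : ∀ b : BB, D (algebraMap BB A b) = ∑ j, algebraMap BB A (pderiv k j b) • c j) :
    ∃ F : Submodule A V, F.FG ∧ ∀ a, D a ∈ F := by
  classical
  obtain ⟨S₀, hS₀⟩ := (Module.Finite.fg_top : (⊤ : Submodule BB A).FG)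
  let F : Submodule A V := Submodule.span A (Set.range c ∪ (D '' (S₀ : Set A)))
  have hFfg : F.FG := Submodule.fg_span ((Set.finite_range c).union (S₀.finite_toSet.image _))
  refine ⟨F, hFfg, fun a => ?_⟩
  have ha : a ∈ Submodule.span BB (S₀ : Set A) := by rw [hS₀]; trivial
  induction ha using Submodule.span_induction with
  | mem a ha => exact Submodule.subset_span (Set.mem_union_right _ ⟨a, ha, rfl⟩)
  | zero => rw [map_zero]; exact Submodule.zero_mem _
  | add x y _ _ hx hy => rw [map_add]; exact Submodule.add_mem _ hx hy
  | smul b x _ hx =>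
    rw [Algebra.smul_def, Derivation.leibniz, hD]
    refine Submodule.add_mem _ (Submodule.smul_mem _ _ hx) (Submodule.smul_mem _ _ ?_)
    exact Submodule.sum_mem _ fun j _ => Submodule.smul_mem _ _
      (Submodule.subset_span (Set.mem_union_left _ ⟨j, rfl⟩))

end Bdd

end Groth.Agent.Helper7.CKd
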