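import Mathlib
import Groth.Agent.Helper7.CKe1
import Groth.Agent.Helper8.Idx7

/-!
# The generic rank of the completed differentials of a complete local domain is at least its
dimension
-/

set_option autoImplicit false
set_option linter.unusedSectionVars false
universe u

namespace Groth.Agent.Helper7.CKd

open TensorProduct IsLocalRing MvPowerSeries

section Main

variable (k : Type u) [Field k] (r : ℕ) (A : Type u) [CommRing A] [IsLocalRing A]
  [IsNoetherianRing A] [IsDomain A] [Algebra (MvPowerSeries (Fin r) k) A] [Algebra k A]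
  [IsScalarTower k (MvPowerSeries (Fin r) k) A] [Module.Finite (MvPowerSeries (Fin r) k) A]
  (E : Type u) [Field E] [Algebra A E] [IsFractionRing A E]
  [Algebra (MvPowerSeries (Fin r) k) E] [IsScalarTower (MvPowerSeries (Fin r) k) A E]
  [Algebra k E] [IsScalarTower k A E] [IsScalarTower k (MvPowerSeries (Fin r) k) E]

local notation "BB" => MvPowerSeries (Fin r) k
local notation "MM" => AdicCompletion (maximalIdeal A) (Ω[A⁄k])

/-- a derivation of the fraction field which on `k[[T]]` is a combination of the partial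
derivatives induces a linear form on the generic fibre of the completed differentials -/
theorem exists_lift_E [Module.Finite A MM] {V : Type*} [AddCommGroup V] [Module E V] [Module k V]
    [IsScalarTower k E V] (DE : Derivation k E V) (c : Fin r → V)
    (hD : ∀ b : BB, DE (algebraMap BB E b) = ∑ j, algebraMap BB E (pderiv k j b) • c j) :
    ∃ Φ : E ⊗[A] MM →ₗ[E] V, ∀ a : A, Φ ((1 : E) ⊗ₜ dhat k A a) = DE (algebraMap A E a) := by
  letI : Module A V := Module.compHom V (algebraMap A E)
  haveI : IsScalarTower A E V := ⟨fun a e v => by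
    change (a • e) • v = algebraMap A E a • (e • v)
    rw [Algebra.smul_def, mul_smul]⟩
  haveI : IsScalarTower k A V := ⟨fun c a v => by
    change algebraMap A E (c • a) • v = c • (algebraMap A E a • v)
    rw [Algebra.smul_def, map_mul, ← IsScalarTower.algebraMap_apply, mul_smul, algebraMap_smul]⟩
  let D : Derivation k A V := DE.compAlgebraMap A
  have hDb : ∀ b : BB, D (algebraMap BB A b) = ∑ j, algebraMap BB A (pderiv k j b) • c j := by
    intro b
    change DE (algebraMap A E (algebraMap BB A b)) = _
    rw [← IsScalarTower.algebraMap_apply BB A E, hD]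
    refine Finset.sum_congr rfl fun j _ => ?_
    rw [IsScalarTower.algebraMap_apply BB A E]; rfl
  obtain ⟨F, hF, hDF⟩ := exists_fg_of_pderiv k r A D c hDb
  obtain ⟨φ, hφ⟩ := exists_lift_of_fg k A D F hF hDF
  exact ⟨LinearMap.liftBaseChange E φ, fun a => by
    rw [LinearMap.liftBaseChange_tmul, one_smul, hφ]; rfl⟩

variable (L₀ : Type u) [Field L₀] [Algebra (MvPowerSeries (Fin r) k) L₀]
  [IsFractionRing (MvPowerSeries (Fin r) k) L₀] [Algebra k L₀]
  [IsScalarTower k (MvPowerSeries (Fin r) k) L₀]
  [Algebra L₀ E] [IsScalarTower (MvPowerSeries (Fin r) k) L₀ E] [IsScalarTower k L₀ E]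

/-- the generic fibre of the completed differentials surjects onto `Ω_{E/L₀}`, killing the
`d̂ T_i` -/
theorem exists_psi [Module.Finite A MM] :
    ∃ ψ : E ⊗[A] MM →ₗ[E] Ω[E⁄L₀], Function.Surjective ψ ∧
      ∀ i, ψ ((1 : E) ⊗ₜ gen k r A i) = 0 := by
  let DE : Derivation k E Ω[E⁄L₀] := (KaehlerDifferential.D L₀ E).restrictScalars k
  obtain ⟨Φ, hΦ⟩ := exists_lift_E k r A E DE (fun _ => 0) (by
    intro b
    change KaehlerDifferential.D L₀ E (algebraMap BB E b) = _
    rw [IsScalarTower.algebraMap_apply BB L₀ E, Derivation.map_algebraMap]; simp)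
  refine ⟨Φ, ?_, ?_⟩
  · rw [← LinearMap.range_eq_top, eq_top_iff, ← KaehlerDifferential.span_range_derivation,
      Submodule.span_le]
    rintro _ ⟨x, rfl⟩
    obtain ⟨a, s, hs, rfl⟩ := IsFractionRing.div_surjective (A := A) x
    have hs' : algebraMap A E s ≠ 0 := by
      rw [Ne, map_eq_zero_iff _ (IsFractionRing.injective A E)]
      exact nonZeroDivisors.ne_zero hs
    have h1 : KaehlerDifferential.D L₀ E (algebraMap A E a) =
        (algebraMap A E a / algebraMap A E s) • KaehlerDifferential.D L₀ E (algebraMap A E s) +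
        algebraMap A E s • KaehlerDifferential.D L₀ E (algebraMap A E a / algebraMap A E s) := by
      conv_lhs => rw [show algebraMap A E a = (algebraMap A E a / algebraMap A E s) *
        algebraMap A E s from (div_mul_cancel₀ _ hs').symm]
      rw [Derivation.leibniz]
    have h2 : KaehlerDifferential.D L₀ E (algebraMap A E a / algebraMap A E s) =
        (algebraMap A E s)⁻¹ • (KaehlerDifferential.D L₀ E (algebraMap A E a) -
          (algebraMap A E a / algebraMap A E s) •
            KaehlerDifferential.D L₀ E (algebraMap A E s)) := by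
      rw [eq_inv_smul_iff₀ hs', eq_sub_iff_add_eq']
      exact h1.symm
    rw [h2]
    exact Submodule.smul_mem _ _ (Submodule.sub_mem _ ⟨_, hΦ a⟩
      (Submodule.smul_mem _ _ ⟨_, hΦ s⟩))
  · intro i
    unfold gen
    rw [hΦ, ← IsScalarTower.algebraMap_apply BB A E, IsScalarTower.algebraMap_apply BB L₀ E]
    exact (KaehlerDifferential.D L₀ E).map_algebraMap _

/-- the partial derivatives extended to the fraction field of the power series ring -/
theorem exists_pd (j : Fin r) :
    ∃ d : Derivation k L₀ E, ∀ b : BB, d (algebraMap BB L₀ b) = algebraMap BB E (pderiv k j b) := by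
  haveI : Algebra.FormallyEtale BB L₀ :=
    Algebra.FormallyEtale.of_isLocalization (nonZeroDivisors BB)
  let d : Derivation k BB E := (Algebra.linearMap BB E).compDer (pderiv k j)
  obtain ⟨d', hd'⟩ := exists_extDer (T := L₀) d
  exact ⟨d', fun b => by rw [hd']; rfl⟩

/-- relations among the `d̂ T_i` in the generic fibre come from the imperfection module -/
theorem key [Module.Finite A MM] (d' : Fin r → Derivation k L₀ E)
    (hd' : ∀ j (b : BB), d' j (algebraMap BB L₀ b) = algebraMap BB E (pderiv k j b))
    (c : Fin r → E) (hc : ∑ j, c j • ((1 : E) ⊗ₜ[A] gen k r A j) = 0) :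
    ∃ u ∈ EGA41.imperfection k L₀ E,
      ∀ j, LinearMap.liftBaseChange E (d' j).liftKaehlerDifferential u = c j := by
  classical
  set α := KaehlerDifferential.mapBaseChange k L₀ E with hα
  set θ : Fin r → (E ⊗[L₀] Ω[L₀⁄k] →ₗ[E] E) := fun j =>
    LinearMap.liftBaseChange E (d' j).liftKaehlerDifferential with hθ
  let xT : Fin r → L₀ := fun j => algebraMap BB L₀ (X j)
  have hθD : ∀ j (e : E) (x : L₀), θ j (e ⊗ₜ KaehlerDifferential.D k L₀ x) = e * d' j x := by
    intro j e x
    rw [hθ]
    simp only [LinearMap.liftBaseChange_tmul, Derivation.liftKaehlerDifferential_comp_D,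
      smul_eq_mul]
  have hθT : ∀ i j, θ j ((1 : E) ⊗ₜ KaehlerDifferential.D k L₀ (xT i)) =
      if i = j then 1 else 0 := by
    intro i j
    rw [hθD, one_mul, hd', pderiv_X, Pi.single_apply]
    by_cases h : i = j
    · rw [if_pos h, if_pos h, map_one]
    · rw [if_neg h, if_neg h, map_zero]
  have hαD : ∀ (e : E) (x : L₀), α (e ⊗ₜ KaehlerDifferential.D k L₀ x) =
      e • KaehlerDifferential.D k E (algebraMap L₀ E x) := by
    intro e x
    rw [hα, KaehlerDifferential.mapBaseChange_tmul, KaehlerDifferential.map_D]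
  set ω : E ⊗[L₀] Ω[L₀⁄k] := ∑ j, c j • ((1 : E) ⊗ₜ KaehlerDifferential.D k L₀ (xT j)) with hω
  have hθω : ∀ j, θ j ω = c j := by
    intro j
    rw [hω, map_sum]
    simp only [map_smul, hθT, smul_eq_mul, mul_ite, mul_one, mul_zero]
    rw [Finset.sum_ite_eq' Finset.univ j, if_pos (Finset.mem_univ j)]
  let K : Submodule E (E ⊗[L₀] Ω[L₀⁄k]) := ⨅ j, LinearMap.ker (θ j)
  have hy : α ω ∈ K.map α := by
    by_contra hn
    obtain ⟨l, hly, hlN⟩ := Submodule.exists_dual_map_eq_bot_of_notMem hn inferInstance
    have hl0 : ∀ z ∈ K, l (α z) = 0 := by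
      intro z hz
      have : l (α z) ∈ (K.map α).map l := ⟨_, ⟨z, hz, rfl⟩, rfl⟩
      rw [hlN, Submodule.mem_bot] at this
      exact this
    let DE : Derivation k E E := l.compDer (KaehlerDifferential.D k E)
    have hDE : ∀ e : E, DE e = l (KaehlerDifferential.D k E e) := fun _ => rfl
    have hDx : ∀ x : L₀, DE (algebraMap L₀ E x) =
        ∑ j, d' j x * DE (algebraMap L₀ E (xT j)) := by
      intro x
      have hz : ((1 : E) ⊗ₜ KaehlerDifferential.D k L₀ x -
          ∑ j, d' j x • ((1 : E) ⊗ₜ KaehlerDifferential.D k L₀ (xT j))) ∈ K := by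
        rw [Submodule.mem_iInf]
        intro i
        rw [LinearMap.mem_ker, map_sub, map_sum, hθD, one_mul]
        simp only [map_smul, hθT, smul_eq_mul, mul_ite, mul_one, mul_zero]
        rw [Finset.sum_ite_eq' Finset.univ i, if_pos (Finset.mem_univ i), sub_self]
      have h1 := hl0 _ hz
      rw [map_sub, map_sub, map_sum, map_sum, sub_eq_zero, hαD, one_smul] at h1
      rw [hDE, h1]
      refine Finset.sum_congr rfl fun j _ => ?_
      rw [map_smul, map_smul, hαD, one_smul, smul_eq_mul, hDE]
    obtain ⟨Φ, hΦ⟩ := exists_lift_E k r A E DE (fun j => DE (algebraMap L₀ E (xT j))) (by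
      intro b
      rw [IsScalarTower.algebraMap_apply BB L₀ E, hDx]
      refine Finset.sum_congr rfl fun j _ => ?_
      rw [hd', smul_eq_mul])
    apply hly
    have h2 : l (α ω) = Φ (∑ j, c j • ((1 : E) ⊗ₜ[A] gen k r A j)) := by
      rw [hω, map_sum, map_sum, map_sum]
      refine Finset.sum_congr rfl fun j _ => ?_
      rw [map_smul, map_smul, map_smul, hαD, one_smul]
      unfold gen
      rw [hΦ, ← IsScalarTower.algebraMap_apply BB A E, IsScalarTower.algebraMap_apply BB L₀ E]
      rfl
    rw [h2, hc, map_zero]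
  obtain ⟨z, hzK, hzy⟩ := hy
  refine ⟨ω - z, ?_, fun j => ?_⟩
  · change ω - z ∈ LinearMap.ker α
    rw [LinearMap.mem_ker, map_sub, hzy, sub_self]
  · have hz0 : θ j z = 0 := by
      have := (Submodule.mem_iInf _).1 hzK j
      exact this
    change θ j (ω - z) = c j
    rw [map_sub, hz0, sub_zero, hθω]

include L₀ in
/-- the generic rank of the completed differentials is at least the number of variables -/
theorem le_finrank [Module.Finite A MM] : r ≤ Module.finrank E (E ⊗[A] MM) := by
  classical
  -- Cartier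
  haveI : Algebra.EssFiniteType A E := Algebra.EssFiniteType.of_isLocalization E (nonZeroDivisors A)
  haveI : Algebra.EssFiniteType BB E := Algebra.EssFiniteType.comp BB A E
  haveI : Algebra.EssFiniteType L₀ E := Algebra.EssFiniteType.of_comp BB L₀ E
  obtain ⟨hf1, hf2, hcart⟩ := Groth.Agent.Helper8.Idx.cartier (k := k) (K := L₀) (L := E)
  have hΥ : Module.finrank E (EGA41.imperfection k L₀ E) ≤ Module.finrank E (Ω[E⁄L₀]) := by
    have h0 : (0 : ℤ) ≤ (Cardinal.toNat (Algebra.trdeg L₀ E) : ℤ) := Int.natCast_nonneg _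
    omega
  -- the maps
  obtain ⟨ψ, hψs, hψ0⟩ := exists_psi k r A E L₀
  choose d' hd' using exists_pd k r E L₀
  let v : Fin r → E ⊗[A] MM := fun j => (1 : E) ⊗ₜ[A] gen k r A j
  let T : (Fin r → E) →ₗ[E] E ⊗[A] MM := Fintype.linearCombination E v
  have hT : ∀ c, T c = ∑ j, c j • v j := fun c => Fintype.linearCombination_apply E v c
  let θ : E ⊗[L₀] Ω[L₀⁄k] →ₗ[E] (Fin r → E) :=
    LinearMap.pi fun j => LinearMap.liftBaseChange E (d' j).liftKaehlerDifferential
  -- the kernel of `T`
  have hker : LinearMap.ker T ≤ (EGA41.imperfection k L₀ E).map θ := by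
    intro c hc
    rw [LinearMap.mem_ker, hT] at hc
    obtain ⟨u, hu, huc⟩ := key k r A E L₀ d' hd' c hc
    exact ⟨u, hu, funext huc⟩
  have h1 : Module.finrank E (LinearMap.ker T) ≤ Module.finrank E (Ω[E⁄L₀]) :=
    (Submodule.finrank_mono hker).trans ((Submodule.finrank_map_le θ _).trans hΥ)
  have h2 := LinearMap.finrank_range_add_finrank_ker T
  rw [Module.finrank_fin_fun] at h2
  -- the range of `T`
  have hrange : LinearMap.range T ≤ LinearMap.ker ψ := by
    rintro _ ⟨c, rfl⟩
    rw [LinearMap.mem_ker, hT, map_sum]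
    refine Finset.sum_eq_zero fun j _ => ?_
    rw [map_smul, hψ0, smul_zero]
  have h3 := Submodule.finrank_mono hrange
  have h4 := LinearMap.finrank_range_add_finrank_ker ψ
  rw [LinearMap.range_eq_top.2 hψs, finrank_top] at h4
  omega

end Main

end Groth.Agent.Helper7.CKd
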