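import Mathlib
import Groth.Agent.Helper7.CKe2
import Groth.Agent.Helper7.CohenFin
import Groth.Agent.Helper7.CohenT2
import Groth.Agent.Helper2.Dim

/-!
# The generic rank of the completed differentials of a complete local domain is at least its
dimension (intrinsic statement)
-/

set_option autoImplicit false
set_option linter.unusedSectionVars false
universe u

namespace Groth.Agent.Helper7.CKd

open TensorProduct IsLocalRing MvPowerSeries

theorem le_finrank_domain (k R : Type u) [Field k] [CommRing R] [IsDomain R] [IsLocalRing R]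
    [IsNoetherianRing R] [Algebra k R] [IsAdicComplete (maximalIdeal R) R]
    [Module.Finite k (ResidueField R)]
    (E : Type u) [Field E] [Algebra R E] [IsFractionRing R E] [Algebra k E]
    [IsScalarTower k R E] :
    ringKrullDim R ≤
      ((Module.finrank E (E ⊗[R] AdicCompletion (maximalIdeal R) (Ω[R⁄k])) : ℕ) :
        WithBot ℕ∞) := by
  obtain ⟨n, w, hinj, hloc, hfin⟩ := Groth.Agent.Helper7.CohenFin.s2460 (k₀ := k) (A := R)
  letI : Algebra (MvPowerSeries (Fin n) k) R := w.toRingHom.toAlgebra
  haveI : IsScalarTower k (MvPowerSeries (Fin n) k) R :=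
    IsScalarTower.of_algebraMap_eq fun c => (w.commutes c).symm
  haveI : Module.Finite (MvPowerSeries (Fin n) k) R := hfin
  have hdim : ringKrullDim R = ((n : ℕ) : WithBot ℕ∞) := by
    rw [Groth.Agent.Helper2.Dim.dim_eq_of_integral_injective w.toRingHom hfin.to_isIntegral hinj,
      Groth.Agent.Helper7.Cohen.ringKrullDim_mvPowerSeries_field, add_zero]
  letI : Algebra (MvPowerSeries (Fin n) k) E :=
    ((algebraMap R E).comp (algebraMap (MvPowerSeries (Fin n) k) R)).toAlgebra
  haveI : IsScalarTower (MvPowerSeries (Fin n) k) R E :=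
    IsScalarTower.of_algebraMap_eq fun _ => rfl
  haveI : IsScalarTower k (MvPowerSeries (Fin n) k) E := IsScalarTower.of_algebraMap_eq fun c => by
    rw [IsScalarTower.algebraMap_apply (MvPowerSeries (Fin n) k) R E,
      ← IsScalarTower.algebraMap_apply k (MvPowerSeries (Fin n) k) R,
      ← IsScalarTower.algebraMap_apply k R E]
  have hinjE : Function.Injective (algebraMap (MvPowerSeries (Fin n) k) E) :=
    (IsFractionRing.injective R E).comp hinj
  letI : Algebra (FractionRing (MvPowerSeries (Fin n) k)) E :=
    (IsFractionRing.lift hinjE).toAlgebra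
  haveI : IsScalarTower (MvPowerSeries (Fin n) k) (FractionRing (MvPowerSeries (Fin n) k)) E :=
    IsScalarTower.of_algebraMap_eq fun x => (IsFractionRing.lift_algebraMap hinjE x).symm
  haveI : IsScalarTower k (FractionRing (MvPowerSeries (Fin n) k)) E :=
    IsScalarTower.of_algebraMap_eq fun c => by
      rw [IsScalarTower.algebraMap_apply k (MvPowerSeries (Fin n) k)
        (FractionRing (MvPowerSeries (Fin n) k)),
        ← IsScalarTower.algebraMap_apply (MvPowerSeries (Fin n) k)
          (FractionRing (MvPowerSeries (Fin n) k)) E,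
        ← IsScalarTower.algebraMap_apply k (MvPowerSeries (Fin n) k) E]
  haveI : Module.Finite R (AdicCompletion (maximalIdeal R) (Ω[R⁄k])) :=
    Groth.Agent.Helper8.CKae.residue
  have h := le_finrank k n R E (FractionRing (MvPowerSeries (Fin n) k))
  rw [hdim]
  exact_mod_cast h

end Groth.Agent.Helper7.CKd
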