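import Mathlib

/-!
# Semicontinuity of the fibre rank of a finite module
-/

set_option autoImplicit false
set_option linter.unusedSectionVars false
universe u

namespace Groth.Agent.Helper7.CKd

open TensorProduct

/-- the base change of a submodule is everything iff the fibre of the quotient vanishes -/
theorem baseChange_eq_top_iff {A : Type*} [CommRing A] {M : Type*} [AddCommGroup M] [Module A M]
    (κ : Type*) [CommRing κ] [Algebra A κ] (N : Submodule A M) :
    N.baseChange κ = ⊤ ↔ Subsingleton (κ ⊗[A] (M ⧸ N)) := by
  have hex : Function.Exact (N.subtype.lTensor κ) (N.mkQ.lTensor κ) :=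
    lTensor_exact κ (LinearMap.exact_subtype_mkQ N) (Submodule.mkQ_surjective N)
  have hsurj : Function.Surjective (N.mkQ.lTensor κ) :=
    LinearMap.lTensor_surjective κ (Submodule.mkQ_surjective N)
  have hmem : ∀ z, z ∈ N.baseChange κ ↔ N.mkQ.lTensor κ z = 0 := by
    intro z
    rw [hex z]
    rfl
  constructor
  · intro h
    refine ⟨fun a b => ?_⟩
    obtain ⟨a', rfl⟩ := hsurj a
    obtain ⟨b', rfl⟩ := hsurj b
    rw [(hmem a').1 (h ▸ trivial), (hmem b').1 (h ▸ trivial)]
  · intro h
    rw [eq_top_iff]
    rintro z -
    exact (hmem z).2 (Subsingleton.elim _ _)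

/-- the fibre rank of a finite module does not decrease under specialization -/
theorem finrank_fibre_mono {A : Type*} [CommRing A] (M : Type*) [AddCommGroup M] [Module A M]
    [Module.Finite A M] (p q : Ideal A) [p.IsPrime] [q.IsPrime] (hqp : q ≤ p) :
    Module.finrank q.ResidueField (q.ResidueField ⊗[A] M) ≤
      Module.finrank p.ResidueField (p.ResidueField ⊗[A] M) := by
  classical
  have htop : Submodule.span p.ResidueField
      (Set.range (TensorProduct.mk A p.ResidueField M 1)) = ⊤ := by
    rw [← Set.image_univ, ← Submodule.baseChange_span, Submodule.span_univ,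
      Submodule.baseChange_top]
  obtain ⟨m, hm, x, hxspan⟩ : ∃ m, m = Module.finrank p.ResidueField (p.ResidueField ⊗[A] M) ∧
      ∃ x : Fin m → M, Submodule.span p.ResidueField
        (Set.range ((TensorProduct.mk A p.ResidueField M 1) ∘ x)) = ⊤ := by
    obtain ⟨f, hf, hfspan, -⟩ := Submodule.exists_fun_fin_finrank_span_eq p.ResidueField
      (Set.range (TensorProduct.mk A p.ResidueField M 1))
    choose x hx using hf
    refine ⟨_, by rw [htop, finrank_top], x, ?_⟩
    refine Eq.trans ?_ (hfspan.trans htop)
    congr 2
    ext i
    exact hx i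
  let N := Submodule.span A (Set.range x)
  have hNp : N.baseChange p.ResidueField = ⊤ := by
    rw [Submodule.baseChange_span, ← Set.range_comp, hxspan]
  have h1 := (baseChange_eq_top_iff p.ResidueField N).1 hNp
  have h2 : Subsingleton (q.ResidueField ⊗[A] (M ⧸ N)) := by
    by_contra hn
    rw [not_subsingleton_iff_nontrivial] at hn
    have h3 := (Module.mem_support_iff_nontrivial_residueField_tensorProduct
      (⟨q, inferInstance⟩ : PrimeSpectrum A)).2 hn
    have h4 := Module.mem_support_mono (p := (⟨q, inferInstance⟩ : PrimeSpectrum A))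
      (q := (⟨p, inferInstance⟩ : PrimeSpectrum A)) hqp h3
    rw [Module.mem_support_iff_nontrivial_residueField_tensorProduct] at h4
    exact not_subsingleton _ h1
  have hNq := (baseChange_eq_top_iff q.ResidueField N).2 h2
  rw [Submodule.baseChange_span, ← Set.range_comp] at hNq
  have h5 := finrank_range_le_card (R := q.ResidueField)
    ((TensorProduct.mk A q.ResidueField M 1) ∘ x)
  rw [Set.finrank, hNq, finrank_top, Fintype.card_fin, hm] at h5
  exact h5

end Groth.Agent.Helper7.CKd
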