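import Mathlib
import Groth.Agent.Helper7.CKe3
import Groth.Agent.Helper7.CKe4

/-!
# Completed differentials of a quotient; the fibre rank bound
-/

set_option autoImplicit false
set_option linter.unusedSectionVars false
universe u

namespace Groth.Agent.Helper7.CKd

open TensorProduct IsLocalRing

section Quot

variable (k A : Type u) [Field k] [CommRing A] [IsLocalRing A] [IsNoetherianRing A] [Algebra k A]
  (R : Type u) [CommRing R] [IsLocalRing R] [IsNoetherianRing R] [Algebra k R] [Algebra A R]
  [IsScalarTower k A R]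
  (κ : Type u) [Field κ] [Algebra A κ] [Algebra R κ] [IsScalarTower A R κ] [Algebra k κ]
  [IsScalarTower k A κ]

/-- the fibre of the completed differentials of `A` surjects onto that of a quotient of `A` -/
theorem exists_fibre_surj (hsurj : Function.Surjective (algebraMap A R))
    [Module.Finite A (AdicCompletion (maximalIdeal A) (Ω[A⁄k]))]
    [Module.Finite R (AdicCompletion (maximalIdeal R) (Ω[R⁄k]))] :
    ∃ Ψ : κ ⊗[A] AdicCompletion (maximalIdeal A) (Ω[A⁄k]) →ₗ[κ]
      κ ⊗[R] AdicCompletion (maximalIdeal R) (Ω[R⁄k]), Function.Surjective Ψ := by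
  classical
  set MR := AdicCompletion (maximalIdeal R) (Ω[R⁄k]) with hMR
  have hmk : ∀ (a : A) (e : κ) (y : MR), e ⊗ₜ[R] (algebraMap A R a • y) =
      a • (e ⊗ₜ[R] y) := by
    intro a e y
    rw [← TensorProduct.smul_tmul, TensorProduct.smul_tmul', algebraMap_smul]
  let D : Derivation k A (κ ⊗[R] MR) :=
    { toFun := fun a => (1 : κ) ⊗ₜ[R] dhat k R (algebraMap A R a)
      map_add' := fun a b => by rw [map_add, dhat_add, tmul_add]
      map_smul' := fun c a => by
        rw [RingHom.id_apply, Algebra.smul_def, map_mul, ← IsScalarTower.algebraMap_apply,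
          dhat_mul, dhat_algebraMap, smul_zero, add_zero, IsScalarTower.algebraMap_apply k A R,
          hmk, algebraMap_smul]
      map_one_eq_zero' := by
        change (1 : κ) ⊗ₜ[R] dhat k R (algebraMap A R 1) = 0
        rw [map_one, ← map_one (algebraMap k R), dhat_algebraMap, tmul_zero]
      leibniz' := fun a b => by
        change (1 : κ) ⊗ₜ[R] dhat k R (algebraMap A R (a * b)) =
          a • ((1 : κ) ⊗ₜ[R] dhat k R (algebraMap A R b)) +
          b • ((1 : κ) ⊗ₜ[R] dhat k R (algebraMap A R a))
        rw [map_mul, dhat_mul, tmul_add, hmk, hmk] }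
  have hD : ∀ a, D a = (1 : κ) ⊗ₜ[R] dhat k R (algebraMap A R a) := fun _ => rfl
  -- a finitely generated submodule containing the values
  obtain ⟨S₀, hS₀⟩ := (Module.Finite.fg_top : (⊤ : Submodule R MR).FG)
  let F : Submodule A (κ ⊗[R] MR) :=
    Submodule.span A ((fun y => (1 : κ) ⊗ₜ[R] y) '' (S₀ : Set MR))
  have hFfg : F.FG := Submodule.fg_span (S₀.finite_toSet.image _)
  have hF : ∀ y : MR, (1 : κ) ⊗ₜ[R] y ∈ F := by
    intro y
    have hy : y ∈ Submodule.span R (S₀ : Set MR) := by rw [hS₀]; trivial
    induction hy using Submodule.span_induction with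
    | mem y hy => exact Submodule.subset_span ⟨y, hy, rfl⟩
    | zero => rw [tmul_zero]; exact Submodule.zero_mem _
    | add x y _ _ hx hy => rw [tmul_add]; exact Submodule.add_mem _ hx hy
    | smul c x _ hx =>
      obtain ⟨a, rfl⟩ := hsurj c
      rw [hmk]
      exact Submodule.smul_mem _ _ hx
  obtain ⟨φ, hφ⟩ := exists_lift_of_fg k A D F hFfg (fun a => hF _)
  refine ⟨LinearMap.liftBaseChange κ φ, ?_⟩
  rw [← LinearMap.range_eq_top, eq_top_iff]
  have h1 : ∀ y : MR, (1 : κ) ⊗ₜ[R] y ∈ LinearMap.range (LinearMap.liftBaseChange κ φ) := by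
    intro y
    have hy : y ∈ Submodule.span R (Set.range (dhat k R)) := by rw [span_dhat]; trivial
    induction hy using Submodule.span_induction with
    | mem y hy =>
      obtain ⟨r, rfl⟩ := hy
      obtain ⟨a, rfl⟩ := hsurj r
      refine ⟨(1 : κ) ⊗ₜ[A] dhat k A a, ?_⟩
      rw [LinearMap.liftBaseChange_tmul, one_smul, hφ, hD]
    | zero => rw [tmul_zero]; exact Submodule.zero_mem _
    | add x y _ _ hx hy => rw [tmul_add]; exact Submodule.add_mem _ hx hy
    | smul c x _ hx =>
      have : (1 : κ) ⊗ₜ[R] (c • x) = algebraMap R κ c • ((1 : κ) ⊗ₜ[R] x) := by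
        rw [← TensorProduct.smul_tmul, TensorProduct.smul_tmul', Algebra.smul_def, smul_eq_mul]
      rw [this]
      exact Submodule.smul_mem _ _ hx
  rintro z -
  induction z using TensorProduct.induction_on with
  | zero => exact Submodule.zero_mem _
  | add x y hx hy => exact Submodule.add_mem _ hx hy
  | tmul e y =>
    have : e ⊗ₜ[R] y = e • ((1 : κ) ⊗ₜ[R] y) := by
      rw [TensorProduct.smul_tmul', smul_eq_mul, mul_one]
    rw [this]
    exact Submodule.smul_mem _ _ (h1 y)

end Quot

end Groth.Agent.Helper7.CKd
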