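import Mathlib
import Groth.Agent.Helper7.CKe5
import Groth.Agent.Helper7.CohenV1

/-!
# The fibre rank of the completed differentials is at least the dimension of any component
-/

set_option autoImplicit false
set_option linter.unusedSectionVars false
universe u

namespace Groth.Agent.Helper7.CKd

open TensorProduct IsLocalRing

theorem finite_residueField_of_surjective (k A R : Type*) [Field k] [CommRing A] [CommRing R]
    [Algebra k A] [Algebra k R] [IsLocalRing A] [IsLocalRing R]
    [Module.Finite k (ResidueField A)] (f : A →ₐ[k] R) (hf : Function.Surjective f) :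
    Module.Finite k (ResidueField R) := by
  let g : A →ₐ[k] ResidueField R := (IsScalarTower.toAlgHom k R (ResidueField R)).comp f
  have hg : ∀ a ∈ maximalIdeal A, g a = 0 := by
    intro a ha
    change residue R (f a) = 0
    rw [IsLocalRing.residue_eq_zero_iff, IsLocalRing.mem_maximalIdeal, mem_nonunits_iff]
    intro hu
    obtain ⟨b', hb'⟩ := hu.exists_right_inv
    obtain ⟨b, rfl⟩ := hf b'
    have h1 : a * b - 1 ∈ RingHom.ker f.toRingHom := by
      rw [RingHom.mem_ker]
      change f (a * b - 1) = 0
      rw [map_sub, map_mul, hb', map_one, sub_self]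
    have h2 : RingHom.ker f.toRingHom ≤ maximalIdeal A :=
      IsLocalRing.le_maximalIdeal (RingHom.ker_ne_top _)
    have h3 : a * b ∈ maximalIdeal A := Ideal.mul_mem_right _ _ ha
    have h4 : (1 : A) ∈ maximalIdeal A := by
      have := Ideal.sub_mem _ h3 (h2 h1)
      rwa [sub_sub_cancel] at this
    exact (Ideal.ne_top_iff_one _).1 (IsLocalRing.maximalIdeal.isMaximal A).ne_top h4
  let G : ResidueField A →ₐ[k] ResidueField R := Ideal.Quotient.liftₐ (maximalIdeal A) g hg
  have hG : Function.Surjective G := by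
    intro x
    obtain ⟨r, rfl⟩ := IsLocalRing.residue_surjective x
    obtain ⟨a, rfl⟩ := hf r
    exact ⟨residue A a, rfl⟩
  exact Module.Finite.of_surjective G.toLinearMap hG

theorem s3847 (k A : Type u) [Field k] [CommRing A]
    [IsLocalRing A] [IsNoetherianRing A] [Algebra k A]
    [IsAdicComplete (maximalIdeal A) A]
    [Module.Finite k (ResidueField A)]
    (p q : Ideal A) [p.IsPrime] (hq : q ∈ minimalPrimes A) (hqp : q ≤ p) :
    ringKrullDim (A ⧸ q) ≤
      (Cardinal.toENat (Module.rank p.ResidueField
        (TensorProduct A p.ResidueField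
          (AdicCompletion (maximalIdeal A) (Ω[A⁄k])))) : WithBot ℕ∞) := by
  haveI : q.IsPrime := Ideal.IsMinimalPrime.isPrime hq
  haveI : IsLocalRing (A ⧸ q) :=
    IsLocalRing.of_surjective' (Ideal.Quotient.mk q) Ideal.Quotient.mk_surjective
  haveI : IsAdicComplete (maximalIdeal (A ⧸ q)) (A ⧸ q) :=
    Groth.Agent.Helper7.Cohen.isAdicComplete_quotient q
  haveI : Module.Finite k (ResidueField (A ⧸ q)) :=
    finite_residueField_of_surjective k A (A ⧸ q) (Ideal.Quotient.mkₐ k q)
      (Ideal.Quotient.mkₐ_surjective k q)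
  haveI : Module.Finite A (AdicCompletion (maximalIdeal A) (Ω[A⁄k])) :=
    Groth.Agent.Helper8.CKae.residue
  haveI : Module.Finite (A ⧸ q) (AdicCompletion (maximalIdeal (A ⧸ q)) (Ω[(A ⧸ q)⁄k])) :=
    Groth.Agent.Helper8.CKae.residue
  have h1 := le_finrank_domain k (A ⧸ q) q.ResidueField
  obtain ⟨Ψ, hΨ⟩ := exists_fibre_surj k A (A ⧸ q) q.ResidueField Ideal.Quotient.mk_surjective
  have h2 := LinearMap.finrank_le_finrank_of_surjective hΨ
  have h3 := finrank_fibre_mono (AdicCompletion (maximalIdeal A) (Ω[A⁄k])) p q hqp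
  rw [← Module.finrank_eq_rank, Cardinal.toENat_nat]
  refine h1.trans ?_
  exact_mod_cast h2.trans h3

end Groth.Agent.Helper7.CKd
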