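import Mathlib
import Groth.Agent.Helper2.FibDimEq

/-!
# Systems of parameters avoiding a prime
-/

set_option autoImplicit false
set_option linter.unusedSectionVars false
universe u

namespace Groth.Agent.Helper7.CKd

open IsLocalRing

section Sop

variable {A : Type*} [CommRing A] [IsLocalRing A] [IsNoetherianRing A]

theorem exists_sop_avoid_aux (p : Ideal A) [p.IsPrime] (hp : p ≠ maximalIdeal A) :
    ∀ i : ℕ, ∃ x : Fin i → A, (∀ j, x j ∈ maximalIdeal A ∧ x j ∉ p) ∧
      ∀ P ∈ (Ideal.span (Set.range x)).minimalPrimes,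
        min (i : ℕ∞) (maximalIdeal A).height ≤ P.height := by
  classical
  intro i
  induction i with
  | zero =>
    refine ⟨fun j => j.elim0, fun j => j.elim0, fun P _ => ?_⟩
    simp
  | succ i ih =>
    obtain ⟨x, hx, hP⟩ := ih
    let S : Set (Ideal A) :=
      {P | P ∈ (Ideal.span (Set.range x)).minimalPrimes ∧ P ≠ maximalIdeal A} ∪ {p}
    have hSfin : S.Finite :=
      ((Ideal.finite_minimalPrimes_of_isNoetherianRing A (Ideal.span (Set.range x))).subset
        (fun P hP => hP.1)).union (Set.finite_singleton p)
    have hSprime : ∀ P ∈ S, P.IsPrime := by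
      rintro P (hP | hP)
      · exact hP.1.1.1
      · rw [Set.mem_singleton_iff.1 hP]; infer_instance
    have hSne : ∀ P ∈ S, P ≠ maximalIdeal A := by
      rintro P (hP | hP)
      · exact hP.2
      · rw [Set.mem_singleton_iff.1 hP]; exact hp
    obtain ⟨x', hx'm, hx'S⟩ := Groth.Agent.Helper2.FibDimEq.exists_mem_maximalIdeal_avoiding S
      hSfin hSprime hSne
    refine ⟨Fin.cons x' x, ?_, ?_⟩
    · intro j
      refine Fin.cases ?_ (fun j => ?_) j
      · rw [Fin.cons_zero]
        exact ⟨hx'm, hx'S p (Set.mem_union_right _ rfl)⟩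
      · rw [Fin.cons_succ]
        exact hx j
    · intro P hPmin
      rw [Fin.range_cons] at hPmin
      haveI : P.IsPrime := hPmin.1.1
      have hle : Ideal.span (Set.range x) ≤ P :=
        (Ideal.span_mono (Set.subset_insert _ _)).trans hPmin.1.2
      obtain ⟨P', hP'min, hP'le⟩ := Ideal.exists_minimalPrimes_le hle
      haveI : P'.IsPrime := hP'min.1.1
      have hx'P : x' ∈ P := hPmin.1.2 (Ideal.subset_span (Set.mem_insert _ _))
      by_cases hP'm : P' = maximalIdeal A
      · have : P = maximalIdeal A :=
          le_antisymm (IsLocalRing.le_maximalIdeal (Ideal.IsPrime.ne_top inferInstance))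
            (hP'm ▸ hP'le)
        rw [this]
        exact min_le_right _ _
      · have hx'P' : x' ∉ P' := hx'S P' (Set.mem_union_left _ ⟨hP'min, hP'm⟩)
        have hlt : P' < P := lt_of_le_of_ne hP'le (fun h => hx'P' (h ▸ hx'P))
        have h1 := Ideal.height_add_one_le_of_lt_of_isPrime hlt
        have h2 := hP P' hP'min
        refine le_trans ?_ h1
        push_cast
        calc min ((i : ℕ∞) + 1) (maximalIdeal A).height
            ≤ min (i : ℕ∞) (maximalIdeal A).height + 1 := by
              rcases le_total (i : ℕ∞) (maximalIdeal A).height with hle | hle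
              · rw [min_eq_left hle]; exact min_le_left _ _
              · rw [min_eq_right hle]; exact (min_le_right _ _).trans le_self_add
          _ ≤ P'.height + 1 := by gcongr

/-- a system of parameters of any length at least the dimension avoiding a given non-maximal
prime -/
theorem exists_sop_avoid (p : Ideal A) [p.IsPrime] (hp : p ≠ maximalIdeal A) (N : ℕ)
    (hN : ringKrullDim A ≤ (N : WithBot ℕ∞)) :
    ∃ x : Fin N → A, (∀ j, x j ∈ maximalIdeal A ∧ x j ∉ p) ∧
      maximalIdeal A ∈ (Ideal.span (Set.range x)).minimalPrimes := by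
  obtain ⟨x, hx, hP⟩ := exists_sop_avoid_aux p hp N
  refine ⟨x, hx, ?_⟩
  have hht : (maximalIdeal A).height ≤ (N : ℕ∞) := by
    rw [← IsLocalRing.maximalIdeal_height_eq_ringKrullDim] at hN
    exact_mod_cast hN
  have hle : Ideal.span (Set.range x) ≤ maximalIdeal A := by
    rw [Ideal.span_le]
    rintro _ ⟨j, rfl⟩
    exact (hx j).1
  obtain ⟨P, hPmin, hPle⟩ := Ideal.exists_minimalPrimes_le hle
  haveI : P.IsPrime := hPmin.1.1
  have h1 := hP P hPmin
  rw [min_eq_right hht] at h1
  have hPm : P = maximalIdeal A := by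
    by_contra hne
    have hlt : P < maximalIdeal A := lt_of_le_of_ne hPle hne
    have h2 := Ideal.height_add_one_le_of_lt_of_isPrime hlt
    have hfin : (maximalIdeal A).height ≠ ⊤ := by
      exact (Ideal.height_lt_top_of_isPrime).ne
    have h3 : (maximalIdeal A).height + 1 ≤ (maximalIdeal A).height :=
      (add_le_add_left h1 1).trans h2
    exact absurd h3 (by
      rw [not_le]
      exact ENat.lt_add_one_iff hfin |>.mpr le_rfl)
  rw [← hPm]
  exact hPmin

end Sop

end Groth.Agent.Helper7.CKd
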