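import Mathlib
import Groth.Agent.Helper7.CKe1

/-!
# Completed differentials modulo the differentials of the variables are the relative differentials
-/

set_option autoImplicit false
set_option linter.unusedSectionVars false
universe u

namespace Groth.Agent.Helper7.CKd

open TensorProduct IsLocalRing MvPowerSeries

section F1

variable (k : Type u) [Field k] (r : ℕ) (A : Type u) [CommRing A] [IsLocalRing A]
  [IsNoetherianRing A] [Algebra (MvPowerSeries (Fin r) k) A] [Algebra k A]
  [IsScalarTower k (MvPowerSeries (Fin r) k) A] [Module.Finite (MvPowerSeries (Fin r) k) A]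

local notation "BB" => MvPowerSeries (Fin r) k
local notation "MM" => AdicCompletion (maximalIdeal A) (Ω[A⁄k])

/-- the canonical map from the completed differentials to the relative differentials -/
theorem exists_phi [Module.Finite A MM] :
    ∃ φ : MM →ₗ[A] Ω[A⁄BB], ∀ a, φ (dhat k A a) = KaehlerDifferential.D BB A a := by
  let D : Derivation k A Ω[A⁄BB] := (KaehlerDifferential.D BB A).restrictScalars k
  exact exists_lift_of_fg k A D ⊤ Module.Finite.fg_top (fun _ => trivial)

theorem phi_surjective [Module.Finite A MM] (φ : MM →ₗ[A] Ω[A⁄BB])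
    (hφ : ∀ a, φ (dhat k A a) = KaehlerDifferential.D BB A a) : Function.Surjective φ := by
  rw [← LinearMap.range_eq_top, eq_top_iff, ← KaehlerDifferential.span_range_derivation,
    Submodule.span_le]
  rintro _ ⟨a, rfl⟩
  exact ⟨_, hφ a⟩

theorem phi_gen [Module.Finite A MM] (φ : MM →ₗ[A] Ω[A⁄BB])
    (hφ : ∀ a, φ (dhat k A a) = KaehlerDifferential.D BB A a) (j : Fin r) :
    φ (gen k r A j) = 0 := by
  unfold gen
  rw [hφ, Derivation.map_algebraMap]

theorem ker_phi_le [Module.Finite A MM]
    (hloc : ∀ i, algebraMap BB A (X i) ∈ maximalIdeal A) (φ : MM →ₗ[A] Ω[A⁄BB])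
    (hφ : ∀ a, φ (dhat k A a) = KaehlerDifferential.D BB A a) :
    LinearMap.ker φ ≤ Submodule.span A (Set.range (gen k r A)) := by
  set N := Submodule.span A (Set.range (gen k r A)) with hN
  let D' : Derivation BB A (MM ⧸ N) :=
    { toFun := fun a => N.mkQ (dhat k A a)
      map_add' := fun a b => by rw [dhat_add, map_add]
      map_smul' := fun b a => by
        rw [RingHom.id_apply, Algebra.smul_def, dhat_mul, map_add, map_smul, map_smul]
        have h1 : N.mkQ (dhat k A (algebraMap BB A b)) = 0 := by
          rw [Submodule.mkQ_apply, Submodule.Quotient.mk_eq_zero]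
          exact dhat_algebraMap_mem k r A hloc b
        rw [h1, smul_zero, add_zero, algebraMap_smul]
      map_one_eq_zero' := by
        change N.mkQ (dhat k A 1) = 0
        rw [← map_one (algebraMap k A), dhat_algebraMap, map_zero]
      leibniz' := fun a b => by
        change N.mkQ (dhat k A (a * b)) = a • N.mkQ (dhat k A b) + b • N.mkQ (dhat k A a)
        rw [dhat_mul, map_add, map_smul, map_smul] }
  have hD' : ∀ a, D' a = N.mkQ (dhat k A a) := fun _ => rfl
  let ψ : Ω[A⁄BB] →ₗ[A] MM ⧸ N := D'.liftKaehlerDifferential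
  have hcomp : ψ ∘ₗ φ = N.mkQ := by
    apply LinearMap.ext_on (span_dhat k A)
    rintro _ ⟨a, rfl⟩
    rw [LinearMap.comp_apply, hφ]
    change D'.liftKaehlerDifferential (KaehlerDifferential.D BB A a) = _
    rw [Derivation.liftKaehlerDifferential_comp_D, hD']
  intro x hx
  rw [LinearMap.mem_ker] at hx
  have h2 : N.mkQ x = 0 := by
    rw [← hcomp, LinearMap.comp_apply, hx, map_zero]
  rwa [Submodule.mkQ_apply, Submodule.Quotient.mk_eq_zero] at h2

end F1

end Groth.Agent.Helper7.CKd
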