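import Mathlib
import Groth.Agent.Helper7.CKf2

/-!
# Unramifiedness at a prime in terms of the localized completed differentials
-/

set_option autoImplicit false
set_option linter.unusedSectionVars false
universe u

namespace Groth.Agent.Helper7.CKd

open TensorProduct IsLocalRing MvPowerSeries

section LL

variable {A : Type*} [CommRing A] (p : Ideal A) [p.IsPrime] {M : Type*} [AddCommGroup M]
  [Module A M]

/-- the localization of a submodule is everything iff every element is multiplied into the
submodule by an element outside the prime -/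
theorem span_image_mkLinearMap_eq_top_iff (N : Submodule A M) :
    Submodule.span (Localization.AtPrime p)
      ((LocalizedModule.mkLinearMap p.primeCompl M) '' (N : Set M)) = ⊤ ↔
      ∀ x : M, ∃ r ∉ p, r • x ∈ N := by
  rw [← Submodule.localized'_eq_span (Localization.AtPrime p) p.primeCompl
    (LocalizedModule.mkLinearMap p.primeCompl M) N]
  constructor
  · intro h x
    have hx : LocalizedModule.mkLinearMap p.primeCompl M x ∈
        Submodule.localized' (Localization.AtPrime p) p.primeCompl
          (LocalizedModule.mkLinearMap p.primeCompl M) N := by rw [h]; trivial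
    obtain ⟨n, hn, s, hs⟩ := hx
    rw [IsLocalizedModule.mk'_eq_iff, Submonoid.smul_def, ← map_smul] at hs
    obtain ⟨t, ht⟩ := (IsLocalizedModule.eq_iff_exists p.primeCompl
      (LocalizedModule.mkLinearMap p.primeCompl M)).1 hs
    refine ⟨(t * s : p.primeCompl), (t * s).2, ?_⟩
    have : ((t * s : p.primeCompl) : A) • x = t • n := by
      rw [Submonoid.coe_mul, mul_smul]
      exact ht.symm
    rw [this]
    exact N.smul_mem _ hn
  · intro h
    rw [eq_top_iff]
    rintro z -
    induction z using LocalizedModule.induction_on with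
    | h x s =>
      obtain ⟨r, hr, hrx⟩ := h x
      refine ⟨r • x, hrx, (⟨r, hr⟩ : p.primeCompl) * s, ?_⟩
      rw [IsLocalizedModule.mk_eq_mk']
      exact IsLocalizedModule.mk'_cancel_left (LocalizedModule.mkLinearMap p.primeCompl M) x
        (⟨r, hr⟩ : p.primeCompl) s

end LL

section Unram

variable (k : Type u) [Field k] (r : ℕ) (A : Type u) [CommRing A] [IsLocalRing A]
  [IsNoetherianRing A] [Algebra (MvPowerSeries (Fin r) k) A] [Algebra k A]
  [IsScalarTower k (MvPowerSeries (Fin r) k) A] [Module.Finite (MvPowerSeries (Fin r) k) A]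

local notation "BB" => MvPowerSeries (Fin r) k
local notation "MM" => AdicCompletion (maximalIdeal A) (Ω[A⁄k])

theorem isUnramifiedAt_iff [Module.Finite A MM]
    (hloc : ∀ i, algebraMap BB A (X i) ∈ maximalIdeal A) (p : Ideal A) [p.IsPrime] :
    Algebra.IsUnramifiedAt BB p ↔
      Submodule.span (Localization.AtPrime p)
        (Set.range fun j => LocalizedModule.mkLinearMap p.primeCompl MM (gen k r A j)) = ⊤ := by
  obtain ⟨φ, hφ⟩ := exists_phi k r A
  have hsurj := phi_surjective k r A φ hφ
  have hker := ker_phi_le k r A hloc φ hφ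
  have hgen := phi_gen k r A φ hφ
  set N := Submodule.span A (Set.range (gen k r A)) with hN
  have hNker : N ≤ LinearMap.ker φ := by
    rw [hN, Submodule.span_le]
    rintro _ ⟨j, rfl⟩
    exact hgen j
  have h1 : Algebra.IsUnramifiedAt BB p ↔ ∀ ω : Ω[A⁄BB], ∃ s ∉ p, s • ω = 0 := by
    have h2 : Algebra.IsUnramifiedAt BB p ↔
        (⟨p, inferInstance⟩ : PrimeSpectrum A) ∈ Algebra.unramifiedLocus BB A := Iff.rfl
    rw [h2, Algebra.unramifiedLocus_eq_compl_support, Set.mem_compl_iff,
      Module.notMem_support_iff']
  have h3 : Submodule.span (Localization.AtPrime p)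
        (Set.range fun j => LocalizedModule.mkLinearMap p.primeCompl MM (gen k r A j)) =
      Submodule.span (Localization.AtPrime p)
        ((LocalizedModule.mkLinearMap p.primeCompl MM) '' (N : Set MM)) := by
    rw [← Submodule.localized'_eq_span (Localization.AtPrime p) p.primeCompl
      (LocalizedModule.mkLinearMap p.primeCompl MM), hN,
      Submodule.localized'_span (Localization.AtPrime p) p.primeCompl
      (LocalizedModule.mkLinearMap p.primeCompl MM), ← Set.range_comp]
    rfl
  rw [h1, h3, span_image_mkLinearMap_eq_top_iff]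
  constructor
  · intro h x
    obtain ⟨s, hs, hsx⟩ := h (φ x)
    refine ⟨s, hs, hker ?_⟩
    rw [LinearMap.mem_ker, map_smul, hsx]
  · intro h ω
    obtain ⟨x, rfl⟩ := hsurj ω
    obtain ⟨s, hs, hsx⟩ := h x
    refine ⟨s, hs, ?_⟩
    rw [← map_smul]
    exact hNker hsx

end Unram

end Groth.Agent.Helper7.CKd
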