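import Mathlib
import Groth.Agent.Helper7.CKf3
import Groth.Agent.Helper7.CKf1
import Groth.Agent.Helper7.CKe6
import Groth.Agent.Helper7.CKd5

/-!
# Generation of the localized completed differentials and finite unramified power series
structures
-/

set_option autoImplicit false
set_option linter.unusedSectionVars false
universe u

namespace Groth.Agent.Helper7.CKd

open TensorProduct IsLocalRing MvPowerSeries

section Fibre

variable {A : Type*} [CommRing A] (p : Ideal A) [p.IsPrime] {M : Type*} [AddCommGroup M]
  [Module A M]

/-- if the localization at `p` is generated by `n` elements, the fibre at `p` has dimension at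
most `n` -/
theorem finrank_fibre_le_of_span (n : ℕ) (s : Fin n → LocalizedModule p.primeCompl M)
    (hs : Submodule.span (Localization.AtPrime p) (Set.range s) = ⊤) :
    Module.finrank p.ResidueField (p.ResidueField ⊗[A] M) ≤ n := by
  classical
  have hex : ∀ j, ∃ (x : M) (t : p.primeCompl), s j = LocalizedModule.mk x t := by
    intro j
    induction s j using LocalizedModule.induction_on with
    | h x t => exact ⟨x, t, rfl⟩
  choose x t hxt using hex
  set N := Submodule.span A (Set.range x) with hN
  have h1 : Submodule.span (Localization.AtPrime p)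
      ((LocalizedModule.mkLinearMap p.primeCompl M) '' (N : Set M)) = ⊤ := by
    rw [eq_top_iff, ← hs, Submodule.span_le,
      ← Submodule.localized'_eq_span (Localization.AtPrime p) p.primeCompl
      (LocalizedModule.mkLinearMap p.primeCompl M) N]
    rintro _ ⟨j, rfl⟩
    refine ⟨x j, Submodule.subset_span ⟨j, rfl⟩, t j, ?_⟩
    rw [hxt j, IsLocalizedModule.mk_eq_mk']
  rw [span_image_mkLinearMap_eq_top_iff] at h1
  have h2 : Submodule.span p.ResidueField
      (Set.range ((TensorProduct.mk A p.ResidueField M 1) ∘ x)) = ⊤ := by
    rw [Set.range_comp, ← Submodule.baseChange_span, ← hN, eq_top_iff,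
      ← Submodule.baseChange_top, Submodule.baseChange_eq_span, Submodule.baseChange_eq_span,
      Submodule.span_le]
    rintro _ ⟨y, -, rfl⟩
    obtain ⟨r, hr, hry⟩ := h1 y
    have hr0 : algebraMap A p.ResidueField r ≠ 0 := by
      rw [Ne, Ideal.algebraMap_residueField_eq_zero]
      exact hr
    have h3 : TensorProduct.mk A p.ResidueField M 1 y =
        (algebraMap A p.ResidueField r)⁻¹ • TensorProduct.mk A p.ResidueField M 1 (r • y) := by
      rw [map_smul, ← algebraMap_smul p.ResidueField r, smul_smul, inv_mul_cancel₀ hr0, one_smul]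
    rw [SetLike.mem_coe, h3]
    exact Submodule.smul_mem _ _ (Submodule.subset_span ⟨_, hry, rfl⟩)
  have h5 := finrank_range_le_card (R := p.ResidueField)
    ((TensorProduct.mk A p.ResidueField M 1) ∘ x)
  rw [Set.finrank, h2, finrank_top, Fintype.card_fin] at h5
  exact h5

end Fibre

theorem s3847_finrank (k A : Type u) [Field k] [CommRing A]
    [IsLocalRing A] [IsNoetherianRing A] [Algebra k A]
    [IsAdicComplete (maximalIdeal A) A]
    [Module.Finite k (ResidueField A)]
    (p q : Ideal A) [p.IsPrime] (hq : q ∈ minimalPrimes A) (hqp : q ≤ p) :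
    ringKrullDim (A ⧸ q) ≤
      ((Module.finrank p.ResidueField (p.ResidueField ⊗[A]
          (AdicCompletion (maximalIdeal A) (Ω[A⁄k]))) : ℕ) : WithBot ℕ∞) := by
  haveI : Module.Finite A (AdicCompletion (maximalIdeal A) (Ω[A⁄k])) :=
    Groth.Agent.Helper8.CKae.residue
  have h := s3847 k A p q hq hqp
  rw [← Module.finrank_eq_rank, Cardinal.toENat_nat] at h
  exact h

end Groth.Agent.Helper7.CKd
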