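import Mathlib
import Groth.Agent.Helper7.CKf4
import Groth.Agent.Helper7.CohenFin

/-!
# Generation of the localized completed differentials and finite unramified power series
structures: the statement
-/

set_option autoImplicit false
set_option linter.unusedSectionVars false
universe u

namespace Groth.Agent.Helper7.CKd

open TensorProduct IsLocalRing MvPowerSeries

section LocX

variable (k : Type u) [Field k] (r : ℕ) (A : Type u) [CommRing A] [IsLocalRing A]
  [Algebra (MvPowerSeries (Fin r) k) A]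

theorem hloc_of_isLocalHom [IsLocalHom (algebraMap (MvPowerSeries (Fin r) k) A)] (i : Fin r) :
    algebraMap (MvPowerSeries (Fin r) k) A (X i) ∈ maximalIdeal A := by
  rw [IsLocalRing.mem_maximalIdeal, mem_nonunits_iff]
  intro hu
  have h1 : IsUnit (X i : MvPowerSeries (Fin r) k) :=
    (isUnit_map_iff (algebraMap (MvPowerSeries (Fin r) k) A) _).1 hu
  rw [MvPowerSeries.isUnit_iff_constantCoeff, MvPowerSeries.constantCoeff_X] at h1
  exact not_isUnit_zero h1

end LocX

/-- the easy direction: a finite unramified power series structure gives generators -/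
theorem s5054_mpr (k A : Type u) [Field k] [CommRing A]
    [IsLocalRing A] [IsNoetherianRing A] [Algebra k A] [IsAdicComplete (maximalIdeal A) A]
    [Module.Finite k (ResidueField A)] (p : Ideal A) [p.IsPrime] (m : ℕ)
    [Algebra (MvPowerSeries (Fin m) k) A] [IsScalarTower k (MvPowerSeries (Fin m) k) A]
    [IsLocalHom (algebraMap (MvPowerSeries (Fin m) k) A)]
    [Module.Finite (MvPowerSeries (Fin m) k) A]
    (hunr : Algebra.IsUnramifiedAt (MvPowerSeries (Fin m) k) p) :
    ∃ s : Fin m → (LocalizedModule p.primeCompl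
        (AdicCompletion (maximalIdeal A) (Ω[A⁄k]))),
      Submodule.span (Localization.AtPrime p) (Set.range s) = ⊤ := by
  haveI : Module.Finite A (AdicCompletion (maximalIdeal A) (Ω[A⁄k])) :=
    Groth.Agent.Helper8.CKae.residue
  exact ⟨_, (isUnramifiedAt_iff k m A (hloc_of_isLocalHom k m A) p).1 hunr⟩

/-- the main direction -/
theorem s5054_mp (k A : Type u) [Field k] [CommRing A]
    [IsLocalRing A] [IsNoetherianRing A] [Algebra k A] [IsAdicComplete (maximalIdeal A) A]
    [Module.Finite k (ResidueField A)] (p : Ideal A) [p.IsPrime]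
    (hp : p ≠ maximalIdeal A)
    (hq : ∃ q ∈ minimalPrimes A, q ≤ p ∧ ringKrullDim (A ⧸ q) = ringKrullDim A) (m : ℕ)
    (hgen : ∃ s : Fin m → (LocalizedModule p.primeCompl
        (AdicCompletion (maximalIdeal A) (Ω[A⁄k]))),
      Submodule.span (Localization.AtPrime p) (Set.range s) = ⊤) :
    ∃ (_ : Algebra (MvPowerSeries (Fin m) k) A) (_ : IsScalarTower k (MvPowerSeries (Fin m) k) A),
      IsLocalHom (algebraMap (MvPowerSeries (Fin m) k) A) ∧
        Module.Finite (MvPowerSeries (Fin m) k) A ∧
          Algebra.IsUnramifiedAt (MvPowerSeries (Fin m) k) p := by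
  classical
  haveI : Module.Finite A (AdicCompletion (maximalIdeal A) (Ω[A⁄k])) :=
    Groth.Agent.Helper8.CKae.residue
  set MM := AdicCompletion (maximalIdeal A) (Ω[A⁄k]) with hMM
  -- the minimal number of generators
  let P : ℕ → Prop := fun n => ∃ s : Fin n → LocalizedModule p.primeCompl MM,
    Submodule.span (Localization.AtPrime p) (Set.range s) = ⊤
  have hPm : P m := hgen
  set μ := Nat.find ⟨m, hPm⟩ with hμ
  have hμm : μ ≤ m := Nat.find_min' _ hPm
  have hPμ : P μ := Nat.find_spec ⟨m, hPm⟩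
  have hmin : ∀ (s : Finset (LocalizedModule p.primeCompl MM)),
      Submodule.span (Localization.AtPrime p)
        (↑s : Set (LocalizedModule p.primeCompl MM)) = ⊤ → μ ≤ s.card := by
    intro s hs
    apply Nat.find_min' ⟨m, hPm⟩
    refine ⟨fun i => (s.equivFin.symm i : LocalizedModule p.primeCompl MM), ?_⟩
    rw [← hs]
    congr 1
    ext z
    constructor
    · rintro ⟨i, rfl⟩
      exact (s.equivFin.symm i).2
    · intro hz
      exact ⟨s.equivFin ⟨z, hz⟩, by simp⟩
  -- the dimension bound
  obtain ⟨q, hqmin, hqp, hqdim⟩ := hq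
  have hdim : ringKrullDim A ≤ ((μ : ℕ) : WithBot ℕ∞) := by
    rw [← hqdim]
    refine (s3847_finrank k A p q hqmin hqp).trans ?_
    obtain ⟨s, hs⟩ := hPμ
    exact_mod_cast finrank_fibre_le_of_span p μ s hs
  -- parameters avoiding `p`
  obtain ⟨x, hx, hxmin⟩ := exists_sop_avoid p hp μ hdim
  obtain ⟨u, hu⟩ := s5080 k A p μ hPμ hmin x (fun i => (hx i).2)
  -- the power series structure
  let y : Fin m → A := fun i => if h : i.val < μ then (u ⟨i.val, h⟩ : A) * x ⟨i.val, h⟩ else 0
  have hy : ∀ i, y i ∈ maximalIdeal A := by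
    intro i
    change (if h : i.val < μ then (u ⟨i.val, h⟩ : A) * x ⟨i.val, h⟩ else 0) ∈ _
    split_ifs with h
    · exact Ideal.mul_mem_left _ _ (hx _).1
    · exact Ideal.zero_mem _
  have hyμ : ∀ i : Fin μ, y (Fin.castLE hμm i) = (u i : A) * x i := by
    intro i
    change (if h : (Fin.castLE hμm i).val < μ then
      (u ⟨(Fin.castLE hμm i).val, h⟩ : A) * x ⟨(Fin.castLE hμm i).val, h⟩ else 0) = _
    rw [dif_pos (by simp)]
    rfl
  obtain ⟨w, hw⟩ := Groth.Agent.Helper7.PSEval.exists_algHom_X (k := k) (maximalIdeal A) y hy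
  have hrange : (Set.range fun i => w (MvPowerSeries.X i)) = Set.range y := by
    congr 1
    funext i
    exact hw i
  have hspan_le : Ideal.span (Set.range y) ≤ maximalIdeal A := by
    rw [Ideal.span_le]
    rintro _ ⟨i, rfl⟩
    exact hy i
  have hxy : Ideal.span (Set.range x) ≤ Ideal.span (Set.range y) := by
    rw [Ideal.span_le]
    rintro _ ⟨i, rfl⟩
    have h1 : x i = ((u i)⁻¹ : Aˣ) * y (Fin.castLE hμm i) := by
      rw [hyμ, ← mul_assoc, Units.inv_mul, one_mul]
    rw [SetLike.mem_coe, h1]
    exact Ideal.mul_mem_left _ _ (Ideal.subset_span ⟨_, rfl⟩)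
  have hymin : maximalIdeal A ∈
      (Ideal.span (Set.range fun i => w (MvPowerSeries.X i))).minimalPrimes := by
    rw [hrange]
    refine ⟨⟨inferInstance, hspan_le⟩, fun Q hQ hQle => ?_⟩
    exact hxmin.2 ⟨hQ.1, hxy.trans hQ.2⟩ hQle
  have hfin : w.toRingHom.Finite := Groth.Agent.Helper7.CohenFin.finite_of_minimal w hymin
  letI : Algebra (MvPowerSeries (Fin m) k) A := w.toRingHom.toAlgebra
  haveI : IsScalarTower k (MvPowerSeries (Fin m) k) A :=
    IsScalarTower.of_algebraMap_eq fun c => (w.commutes c).symm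
  haveI : Module.Finite (MvPowerSeries (Fin m) k) A := hfin
  have hlocX : ∀ i, algebraMap (MvPowerSeries (Fin m) k) A (X i) ∈ maximalIdeal A := by
    intro i
    change w (X i) ∈ _
    rw [hw]
    exact hy i
  have hlocal : IsLocalHom (algebraMap (MvPowerSeries (Fin m) k) A) := by
    refine ⟨fun b hb => ?_⟩
    rw [MvPowerSeries.isUnit_iff_constantCoeff, isUnit_iff_ne_zero]
    intro h0
    have h1 := algebraMap_sub_C_mem k m A hlocX b
    rw [h0, map_zero, sub_zero] at h1
    exact h1 hb
  refine ⟨inferInstance, inferInstance, hlocal, inferInstance, ?_⟩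
  rw [isUnramifiedAt_iff k m A hlocX p, eq_top_iff, ← hu, Submodule.span_le]
  rintro _ ⟨i, rfl⟩
  refine Submodule.subset_span ⟨Fin.castLE hμm i, ?_⟩
  beta_reduce
  congr 1
  unfold gen dhat
  congr 2
  change w (X (Fin.castLE hμm i)) = _
  rw [hw, hyμ]

theorem s5054 (k A : Type u) [Field k] [CommRing A]
    [IsLocalRing A] [IsNoetherianRing A] [Algebra k A] [IsAdicComplete (maximalIdeal A) A]
    [Module.Finite k (ResidueField A)] (p : Ideal A) [p.IsPrime]
    (hp : p ≠ maximalIdeal A)
    (hq : ∃ q ∈ minimalPrimes A, q ≤ p ∧ ringKrullDim (A ⧸ q) = ringKrullDim A) (m : ℕ) :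
    (∃ s : Fin m → (LocalizedModule p.primeCompl
        (AdicCompletion (maximalIdeal A) (Ω[A⁄k]))),
      Submodule.span (Localization.AtPrime p) (Set.range s) = ⊤) ↔
    ∃ (_ : Algebra (MvPowerSeries (Fin m) k) A) (_ : IsScalarTower k (MvPowerSeries (Fin m) k) A),
      IsLocalHom (algebraMap (MvPowerSeries (Fin m) k) A) ∧
        Module.Finite (MvPowerSeries (Fin m) k) A ∧
          Algebra.IsUnramifiedAt (MvPowerSeries (Fin m) k) p := by
  constructor
  · exact s5054_mp k A p hp hq m
  · rintro ⟨i1, i2, h1, h2, h3⟩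
    exact s5054_mpr k A p m h3

end Groth.Agent.Helper7.CKd
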