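import Mathlib
import Groth.Agent.Helper2.Miracle
import Groth.Agent.Helper4.EtLocalFlat
import Groth.Agent.Helper6.Bass4
import Groth.Agent.S0342

/-!
# A finite algebra over a regular domain which is unramified at a prime of a component
dominating the base is étale there
-/

set_option autoImplicit false
set_option linter.unusedSectionVars false
universe u

namespace Groth.Agent.Helper7.CKd

open IsLocalRing

/-- heights do not increase under passage to a quotient -/
theorem height_le_height_comap {A A' : Type*} [CommRing A] [CommRing A'] [IsNoetherianRing A']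
    (f : A →+* A') (hf : Function.Surjective f) (P' : Ideal A') [P'.IsPrime] :
    P'.height ≤ (P'.comap f).height := by
  obtain ⟨l, hl, hlen⟩ := P'.exists_ltSeries_length_eq_height
  let l' : LTSeries (PrimeSpectrum A) :=
    l.map (PrimeSpectrum.comap f) (RingHom.strictMono_comap_of_surjective hf)
  have h1 : (l'.length : ℕ∞) ≤ Order.height l'.last := Order.length_le_height_last
  have h2 : l'.last = ⟨P'.comap f, inferInstance⟩ := by
    change PrimeSpectrum.comap f l.last = _
    rw [hl]
    rfl
  rw [h2, ← PrimeSpectrum.height_eq_orderHeight] at h1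
  rw [← hlen]
  exact h1

section Core

variable {B A : Type u} [CommRing B] [IsDomain B] [IsRegularRing B] [IsIntegrallyClosed B]
  [CommRing A] [Algebra B A] [Module.Finite B A]

theorem regular_and_etale (p q : Ideal A) [p.IsPrime] [q.IsPrime] (hqp : q ≤ p)
    (hinj : Function.Injective (algebraMap B (A ⧸ q)))
    (hunr : Algebra.IsUnramifiedAt B p) :
    IsRegularLocalRing (Localization.AtPrime p) ∧ Algebra.IsEtaleAt B p := by
  haveI : IsNoetherianRing A := IsNoetherianRing.of_finite B A
  set r : Ideal B := p.under B with hr
  haveI : p.LiesOver r := ⟨rfl⟩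
  letI := Localization.AtPrime.algebraOfLiesOver r p
  obtain ⟨hsep, hmap⟩ := (Algebra.isUnramifiedAt_iff_map_eq B r p).1 hunr
  -- heights
  set P' : Ideal (A ⧸ q) := p.map (Ideal.Quotient.mk q) with hP'
  have hcomap : P'.comap (Ideal.Quotient.mk q) = p := by
    rw [hP', Ideal.comap_map_of_surjective _ Ideal.Quotient.mk_surjective,
      ← RingHom.ker_eq_comap_bot, Ideal.mk_ker, sup_eq_left.2 hqp]
  haveI : P'.IsPrime := by
    apply Ideal.map_isPrime_of_surjective Ideal.Quotient.mk_surjective
    rw [Ideal.mk_ker]
    exact hqp
  haveI : FaithfulSMul B (A ⧸ q) := (faithfulSMul_iff_algebraMap_injective B (A ⧸ q)).2 hinj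
  haveI : P'.LiesOver r := ⟨by
    rw [Ideal.under_def, hr, Ideal.under_def, ← hcomap, Ideal.comap_comap]
    rfl⟩
  have h1 : r.height ≤ P'.height := by
    rw [Ideal.height_eq_height_add_of_liesOver_of_hasGoingDown r P']
    exact le_self_add
  have h2 : P'.height ≤ p.height := by
    have := height_le_height_comap (Ideal.Quotient.mk q) Ideal.Quotient.mk_surjective P'
    rwa [hcomap] at this
  -- the local rings
  haveI : IsRegularLocalRing (Localization.AtPrime r) := inferInstance
  have hdimB : ringKrullDim (Localization.AtPrime r) = r.height :=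
    IsLocalization.AtPrime.ringKrullDim_eq_height r _
  have hdimA : ringKrullDim (Localization.AtPrime p) = p.height :=
    IsLocalization.AtPrime.ringKrullDim_eq_height p _
  have hmax : (maximalIdeal (Localization.AtPrime r)).map
      (algebraMap (Localization.AtPrime r) (Localization.AtPrime p)) =
      maximalIdeal (Localization.AtPrime p) := by
    rw [← hmap, ← Localization.AtPrime.map_eq_maximalIdeal, Ideal.map_map,
      ← IsScalarTower.algebraMap_eq]
  have hspan : (maximalIdeal (Localization.AtPrime p)).spanFinrank ≤
      (maximalIdeal (Localization.AtPrime r)).spanFinrank := by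
    rw [← hmax]
    exact Ideal.spanFinrank_map_le_of_fg _ (IsNoetherian.noetherian _)
  have hle : ((maximalIdeal (Localization.AtPrime p)).spanFinrank : WithBot ℕ∞) ≤
      ringKrullDim (Localization.AtPrime p) := by
    calc ((maximalIdeal (Localization.AtPrime p)).spanFinrank : WithBot ℕ∞)
        ≤ ((maximalIdeal (Localization.AtPrime r)).spanFinrank : WithBot ℕ∞) := by
          exact_mod_cast hspan
      _ = ringKrullDim (Localization.AtPrime r) :=
          IsRegularLocalRing.spanFinrank_maximalIdeal
      _ = r.height := hdimB
      _ ≤ p.height := by exact_mod_cast h1.trans h2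
      _ = ringKrullDim (Localization.AtPrime p) := hdimA.symm
  haveI hreg : IsRegularLocalRing (Localization.AtPrime p) :=
    IsRegularLocalRing.of_spanFinrank_maximalIdeal_le _ hle
  refine ⟨hreg, ?_⟩
  -- dimension equality
  have hdimeq : ringKrullDim (Localization.AtPrime p) = ringKrullDim (Localization.AtPrime r) := by
    apply le_antisymm
    · rw [← IsRegularLocalRing.spanFinrank_maximalIdeal (R := Localization.AtPrime p),
        ← IsRegularLocalRing.spanFinrank_maximalIdeal (R := Localization.AtPrime r)]
      exact_mod_cast hspan
    · rw [hdimB, hdimA]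
      exact_mod_cast h1.trans h2
  -- flatness
  haveI : IsLocalHom (algebraMap (Localization.AtPrime r) (Localization.AtPrime p)) := inferInstance
  haveI : LocCoh.IsGorensteinLocalRing (Localization.AtPrime p) := Groth.Agent.S0342.result _
  haveI : LocCoh.IsCohenMacaulayLocalRing (Localization.AtPrime p) :=
    Groth.Agent.Helper6.Bass.cm_of_gorenstein
  have hflat : Module.Flat (Localization.AtPrime r) (Localization.AtPrime p) := by
    apply Groth.Agent.Helper2.Miracle.flat_of_cm_ring
    rw [hmax, hdimeq]
    have : ringKrullDim (Localization.AtPrime p ⧸ maximalIdeal (Localization.AtPrime p)) = 0 :=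
      ringKrullDim_eq_zero_of_field (ResidueField (Localization.AtPrime p))
    rw [this, add_zero]
  exact Groth.Agent.Helper4.EtLocalFlat.bwd B A r p hflat hmap hsep

end Core

end Groth.Agent.Helper7.CKd
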