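import Mathlib
import Groth.Agent.Helper7.CKf5
import Groth.Agent.Helper7.CohenV1

/-!
# Freeness of the localized completed differentials; auxiliary lemmas
-/

set_option autoImplicit false
set_option linter.unusedSectionVars false
universe u

namespace Groth.Agent.Helper7.CKd

open TensorProduct IsLocalRing

section Comp

variable {Λ S T : Type u} [CommRing Λ] [CommRing S] [CommRing T] [Algebra Λ S] [Algebra S T]
  [Algebra Λ T] [IsScalarTower Λ S T]

/-- transitivity: `S` adically formally smooth over `Λ`, `T` formally smooth over `S` -/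
theorem adic_comp' (𝔫 : Ideal S) (𝔫' : Ideal T) (h𝔫 : 𝔫.map (algebraMap S T) ≤ 𝔫')
    (hS : CAlgX.IsAdicFormallySmooth Λ S 𝔫) [Algebra.FormallySmooth S T] :
    CAlgX.IsAdicFormallySmooth Λ T 𝔫' := by
  intro C _ _ J hJ ψ hψ
  obtain ⟨N, hN⟩ := hψ
  let ψS : S →ₐ[Λ] C ⧸ J := ψ.comp (IsScalarTower.toAlgHom Λ S T)
  have hψS : ∃ k : ℕ, ∀ x ∈ 𝔫 ^ k, ψS x = 0 := by
    refine ⟨N, fun x hx => hN _ ?_⟩
    have h1 : algebraMap S T x ∈ (𝔫.map (algebraMap S T)) ^ N := by
      rw [← Ideal.map_pow]
      exact Ideal.mem_map_of_mem _ hx
    exact Ideal.pow_right_mono h𝔫 N h1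
  obtain ⟨χS, hχS⟩ := hS C J hJ ψS hψS
  letI : Algebra S C := χS.toRingHom.toAlgebra
  haveI : IsScalarTower Λ S C := IsScalarTower.of_algebraMap_eq fun l => (χS.commutes l).symm
  let ψ' : T →ₐ[S] C ⧸ J :=
    { ψ.toRingHom with
      commutes' := fun s => by
        change ψ (algebraMap S T s) = Ideal.Quotient.mk J (χS s)
        have := congr($hχS s)
        exact this.symm }
  let χ : T →ₐ[S] C := Algebra.FormallySmooth.lift J ⟨2, hJ⟩ ψ'
  have hχ : ∀ t, Ideal.Quotient.mk J (χ t) = ψ' t := Algebra.FormallySmooth.mk_lift J ⟨2, hJ⟩ ψ'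
  refine ⟨χ.restrictScalars Λ, ?_⟩
  ext t
  exact hχ t

end Comp

section Span

variable {A : Type*} [CommRing A] (p : Ideal A) [p.IsPrime] {M : Type*} [AddCommGroup M]
  [Module A M]

/-- generators up to multiplication by elements outside `p` span the fibre at `p` -/
theorem span_fibre_eq_top {ι : Type*} (g : ι → M)
    (h : ∀ x : M, ∃ r ∉ p, r • x ∈ Submodule.span A (Set.range g)) :
    Submodule.span p.ResidueField
      (Set.range ((TensorProduct.mk A p.ResidueField M 1) ∘ g)) = ⊤ := by
  rw [Set.range_comp, ← Submodule.baseChange_span, eq_top_iff,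
    ← Submodule.baseChange_top, Submodule.baseChange_eq_span, Submodule.baseChange_eq_span,
    Submodule.span_le]
  rintro _ ⟨y, -, rfl⟩
  obtain ⟨r, hr, hry⟩ := h y
  have hr0 : algebraMap A p.ResidueField r ≠ 0 := by
    rw [Ne, Ideal.algebraMap_residueField_eq_zero]
    exact hr
  have h3 : TensorProduct.mk A p.ResidueField M 1 y =
      (algebraMap A p.ResidueField r)⁻¹ • TensorProduct.mk A p.ResidueField M 1 (r • y) := by
    rw [map_smul, ← algebraMap_smul p.ResidueField r, smul_smul, inv_mul_cancel₀ hr0, one_smul]
  rw [SetLike.mem_coe, h3]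
  exact Submodule.smul_mem _ _ (Submodule.subset_span ⟨_, hry, rfl⟩)

end Span

section Free

variable {A : Type*} [CommRing A] (p q : Ideal A) [p.IsPrime] [q.IsPrime]
  {M : Type*} [AddCommGroup M] [Module A M] [Module.Finite A M]

/-- a module whose localization at `p` (a domain) is generated by `n` elements and whose fibre at
a minimal prime `q ≤ p` has dimension at least `n` is free of rank `n` at `p` -/
theorem free_of_span_of_le_finrank [IsDomain (Localization.AtPrime p)]
    (hq : q ∈ minimalPrimes A) (hqp : q ≤ p) (n : ℕ) (g : Fin n → M)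
    (hspan : Submodule.span (Localization.AtPrime p)
      (Set.range fun j => LocalizedModule.mkLinearMap p.primeCompl M (g j)) = ⊤)
    (hrank : n ≤ Module.finrank q.ResidueField (q.ResidueField ⊗[A] M)) :
    Module.Free (Localization.AtPrime p) (LocalizedModule p.primeCompl M) ∧
      Module.finrank (Localization.AtPrime p) (LocalizedModule p.primeCompl M) = n := by
  classical
  set N := Submodule.span A (Set.range g) with hN
  -- every element is multiplied into `N` by an element outside `p`
  have hN' : ∀ x : M, ∃ r ∉ p, r • x ∈ N := by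
    rw [← span_image_mkLinearMap_eq_top_iff, eq_top_iff, ← hspan,
      ← Submodule.localized'_eq_span (Localization.AtPrime p) p.primeCompl
      (LocalizedModule.mkLinearMap p.primeCompl M) N, hN,
      Submodule.localized'_span (Localization.AtPrime p) p.primeCompl
      (LocalizedModule.mkLinearMap p.primeCompl M), ← Set.range_comp]
    exact le_rfl
  -- the fibre at `q`
  have hspanq : Submodule.span q.ResidueField
      (Set.range ((TensorProduct.mk A q.ResidueField M 1) ∘ g)) = ⊤ :=
    span_fibre_eq_top q g (fun x => by
      obtain ⟨r, hr, hrx⟩ := hN' x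
      exact ⟨r, fun h => hr (hqp h), hrx⟩)
  have hcard : Fintype.card (Fin n) = Module.finrank q.ResidueField (q.ResidueField ⊗[A] M) := by
    apply le_antisymm
    · rw [Fintype.card_fin]; exact hrank
    · have h5 := finrank_range_le_card (R := q.ResidueField)
        ((TensorProduct.mk A q.ResidueField M 1) ∘ g)
      rw [Set.finrank, hspanq, finrank_top] at h5
      exact h5
  have hliq : LinearIndependent q.ResidueField ((TensorProduct.mk A q.ResidueField M 1) ∘ g) :=
    linearIndependent_of_top_le_span_of_card_eq_finrank hspanq.ge hcard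
  -- elements of `q` vanish in the localization
  have hqzero : ∀ a ∈ q, algebraMap A (Localization.AtPrime p) a = 0 := by
    set K₀ := RingHom.ker (algebraMap A (Localization.AtPrime p)) with hK₀
    haveI : K₀.IsPrime := RingHom.ker_isPrime _
    have hK₀q : K₀ ≤ q := by
      intro a ha
      rw [hK₀, RingHom.mem_ker, IsLocalization.map_eq_zero_iff p.primeCompl] at ha
      obtain ⟨t, ht⟩ := ha
      rcases (inferInstance : q.IsPrime).mem_or_mem (ht ▸ q.zero_mem : (t : A) * a ∈ q) with h | h
      · exact absurd (hqp h) t.2
      · exact h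
    have : q ≤ K₀ := hq.2 ⟨inferInstance, bot_le⟩ hK₀q
    intro a ha
    exact this ha
  -- linear independence
  have hli : LinearIndependent (Localization.AtPrime p)
      (fun j => LocalizedModule.mkLinearMap p.primeCompl M (g j)) := by
    rw [Fintype.linearIndependent_iff]
    intro c hc j
    obtain ⟨s, hs⟩ := IsLocalization.exist_integer_multiples_of_finite p.primeCompl c
    choose a ha using hs
    have h1 : LocalizedModule.mkLinearMap p.primeCompl M (∑ i, a i • g i) = 0 := by
      rw [map_sum]
      have h2 : ∀ i, LocalizedModule.mkLinearMap p.primeCompl M (a i • g i) =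
          (s : A) • (c i • LocalizedModule.mkLinearMap p.primeCompl M (g i)) := by
        intro i
        rw [map_smul, ← algebraMap_smul (Localization.AtPrime p) (a i), ha i, smul_assoc]
      simp_rw [h2]
      rw [← Finset.smul_sum, hc, smul_zero]
    rw [← LinearMap.mem_ker, LocalizedModule.mem_ker_mkLinearMap_iff] at h1
    obtain ⟨t, ht, htx⟩ := h1
    have h3 : ∑ i, algebraMap A q.ResidueField (t * a i) •
        ((TensorProduct.mk A q.ResidueField M 1) ∘ g) i = 0 := by
      have h4 : ∀ i, algebraMap A q.ResidueField (t * a i) •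
          ((TensorProduct.mk A q.ResidueField M 1) ∘ g) i =
          TensorProduct.mk A q.ResidueField M 1 (t • a i • g i) := by
        intro i
        rw [Function.comp_apply, algebraMap_smul, ← map_smul, mul_smul]
      simp_rw [h4]
      rw [← map_sum, ← Finset.smul_sum, htx, map_zero]
    have h5 := (Fintype.linearIndependent_iff.1 hliq) _ h3 j
    rw [Ideal.algebraMap_residueField_eq_zero] at h5
    have h6 : a j ∈ q := by
      rcases (inferInstance : q.IsPrime).mem_or_mem h5 with h | h
      · exact absurd (hqp h) ht
      · exact h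
    have h7 := hqzero _ h6
    rw [ha j] at h7
    have hsu : IsUnit (algebraMap A (Localization.AtPrime p) (s : A)) :=
      IsLocalization.map_units _ s
    rw [Algebra.smul_def] at h7
    exact (hsu.mul_right_eq_zero).1 h7
  let b := Module.Basis.mk hli hspan.ge
  exact ⟨Module.Free.of_basis b, by rw [Module.finrank_eq_card_basis b, Fintype.card_fin]⟩

end Free

end Groth.Agent.Helper7.CKd
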