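import Mathlib
import Groth.Agent.Helper7.CKg1
import Groth.Agent.Helper7.CKg2
import Groth.Agent.Helper7.PSSmooth
import Groth.Agent.Helper8.GeomReg13
import Groth.Agent.Helper2.PSReg
import Groth.Agent.Helper4.RegNormal
import Groth.Agent.Lead.RegLocal

/-!
# Completed differentials generated by `dim A` elements: freeness, étaleness, geometric regularity
-/

set_option autoImplicit false
set_option linter.unusedSectionVars false
universe u

namespace Groth.Agent.Helper7.CKd

open TensorProduct IsLocalRing MvPowerSeries

/-- power series rings over a field are adically formally smooth over it -/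
theorem adic_mvPowerSeries (k : Type u) [Field k] (n : ℕ) :
    CAlgX.IsAdicFormallySmooth k (MvPowerSeries (Fin n) k)
      (maximalIdeal (MvPowerSeries (Fin n) k)) := by
  intro C _ _ J hJ ψ hψ
  rw [Groth.Agent.Helper5.MvPSDim.maximalIdeal_eq] at hψ
  exact Groth.Agent.Helper7.PSSmooth.exists_lift J ⟨2, hJ⟩ ψ hψ

section Core

variable (k A : Type u) [Field k] [CommRing A]
  [IsLocalRing A] [IsNoetherianRing A] [Algebra k A] [IsAdicComplete (maximalIdeal A) A]
  [Module.Finite k (ResidueField A)] (n : ℕ)
  [Algebra (MvPowerSeries (Fin n) k) A] [IsScalarTower k (MvPowerSeries (Fin n) k) A]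
  [Module.Finite (MvPowerSeries (Fin n) k) A]

/-- a finite power series structure of the right dimension is injective modulo a component of
maximal dimension -/
theorem injective_algebraMap_quotient (q : Ideal A) [q.IsPrime]
    (hdim : ringKrullDim (A ⧸ q) = n) :
    Function.Injective (algebraMap (MvPowerSeries (Fin n) k) (A ⧸ q)) := by
  set f := algebraMap (MvPowerSeries (Fin n) k) (A ⧸ q) with hf
  haveI : IsDomain (MvPowerSeries (Fin n) k) := NoZeroDivisors.to_isDomain _
  have hint : f.IsIntegral := algebraMap_isIntegral_iff.2 inferInstance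
  have hkl_int : (RingHom.kerLift f).IsIntegral := by
    intro x
    obtain ⟨P, hPm, hP⟩ := hint x
    refine ⟨P.map (Ideal.Quotient.mk (RingHom.ker f)), hPm.map _, ?_⟩
    rw [Polynomial.eval₂_map]
    exact hP
  have h1 := Groth.Agent.Helper2.Dim.dim_eq_of_integral_injective (RingHom.kerLift f) hkl_int
    (RingHom.kerLift_injective f)
  rw [hdim] at h1
  have h2 : ringKrullDim (MvPowerSeries (Fin n) k) = ((n : ℕ) : WithBot ℕ∞) := by
    rw [Groth.Agent.Helper7.Cohen.ringKrullDim_mvPowerSeries_field, add_zero]
  have h3 := Groth.Agent.Helper7.Cohen.injective_of_surjective_of_dim_eq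
    (Ideal.Quotient.mk (RingHom.ker f)) Ideal.Quotient.mk_surjective h2 h1.symm
  rw [injective_iff_map_eq_zero]
  intro x hx
  apply h3
  rw [map_zero, Ideal.Quotient.eq_zero_iff_mem, RingHom.mem_ker]
  exact hx

/-- the main structural result -/
theorem core [IsLocalHom (algebraMap (MvPowerSeries (Fin n) k) A)]
    (p : Ideal A) [p.IsPrime] (q : Ideal A) (hqmin : q ∈ minimalPrimes A) (hqp : q ≤ p)
    (hdim : ringKrullDim (A ⧸ q) = n)
    (hunr : Algebra.IsUnramifiedAt (MvPowerSeries (Fin n) k) p) :
    Algebra.IsEtaleAt (MvPowerSeries (Fin n) k) p ∧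
    (Module.Free (Localization.AtPrime p)
        (LocalizedModule p.primeCompl (AdicCompletion (maximalIdeal A) (Ω[A⁄k]))) ∧
      Module.finrank (Localization.AtPrime p)
        (LocalizedModule p.primeCompl (AdicCompletion (maximalIdeal A) (Ω[A⁄k]))) = n) ∧
    CAlg.IsGeometricallyRegular k (Localization.AtPrime p) := by
  haveI : q.IsPrime := Ideal.IsMinimalPrime.isPrime hqmin
  haveI : Module.Finite A (AdicCompletion (maximalIdeal A) (Ω[A⁄k])) :=
    Groth.Agent.Helper8.CKae.residue
  -- the power series ring
  haveI : IsDomain (MvPowerSeries (Fin n) k) := NoZeroDivisors.to_isDomain _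
  haveI : IsRegularRing (MvPowerSeries (Fin n) k) :=
    Groth.Agent.Helper2.PSReg.isRegularRing_mvPowerSeries k n
  haveI : IsRegularLocalRing (MvPowerSeries (Fin n) k) :=
    IsRegularLocalRing.of_isRegularRing_of_isLocalRing _
  haveI : IsIntegrallyClosed (MvPowerSeries (Fin n) k) :=
    Groth.Agent.Helper4.RegNormal.isIntegrallyClosed_of_isRegularLocalRing _
  have hinj := injective_algebraMap_quotient k A n q hdim
  obtain ⟨hreg, het⟩ := regular_and_etale (B := MvPowerSeries (Fin n) k) p q hqp hinj hunr
  haveI := hreg
  haveI : IsDomain (Localization.AtPrime p) :=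
    Groth.Agent.Lead.RegLocal.isDomain_of_isRegularLocalRing _
  refine ⟨het, ?_, ?_⟩
  · -- freeness
    have hspan := (isUnramifiedAt_iff k n A (hloc_of_isLocalHom k n A) p).1 hunr
    have hrank : n ≤ Module.finrank q.ResidueField (q.ResidueField ⊗[A]
        (AdicCompletion (maximalIdeal A) (Ω[A⁄k]))) := by
      have h := s3847_finrank k A q q hqmin le_rfl
      rw [hdim] at h
      exact_mod_cast h
    exact free_of_span_of_le_finrank p q hqmin hqp n (gen k n A) hspan hrank
  · -- geometric regularity
    set r : Ideal (MvPowerSeries (Fin n) k) := p.under (MvPowerSeries (Fin n) k) with hr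
    haveI : p.LiesOver r := ⟨rfl⟩
    letI := Localization.AtPrime.algebraOfLiesOver r p
    have hB := adic_mvPowerSeries k n
    have hBr := Groth.Agent.Helper8.GeomReg.s4574 hB r
    haveI : Algebra.FormallyEtale (MvPowerSeries (Fin n) k) (Localization.AtPrime p) := het
    haveI : Algebra.FormallyEtale (Localization.AtPrime r) (Localization.AtPrime p) :=
      .localization_base r.primeCompl
    haveI : Algebra.FormallySmooth (Localization.AtPrime r) (Localization.AtPrime p) :=
      inferInstance
    have hmle : (maximalIdeal (Localization.AtPrime r)).map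
        (algebraMap (Localization.AtPrime r) (Localization.AtPrime p)) ≤
        maximalIdeal (Localization.AtPrime p) :=
      IsLocalRing.map_maximalIdeal_le _
    have hAp := adic_comp' (Λ := k) (maximalIdeal (Localization.AtPrime r))
      (maximalIdeal (Localization.AtPrime p)) hmle hBr
    exact Groth.Agent.Helper8.GeomReg.geomReg hAp

end Core

end Groth.Agent.Helper7.CKd
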