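import Mathlib
import Groth.Agent.Helper7.CKg3

/-!
# Completed differentials generated by `dim A` elements: the statements
-/

set_option autoImplicit false
set_option linter.unusedSectionVars false
universe u

namespace Groth.Agent.Helper7.CKd

open TensorProduct IsLocalRing MvPowerSeries

theorem s5055 (k A : Type u) [Field k] [CommRing A]
    [IsLocalRing A] [IsNoetherianRing A] [Algebra k A] [IsAdicComplete (maximalIdeal A) A]
    [Module.Finite k (ResidueField A)]
    (n : ℕ) (hn : ringKrullDim A = n) (p : Ideal A) [p.IsPrime] (hp : p ≠ maximalIdeal A)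
    (hq : ∃ q ∈ minimalPrimes A, q ≤ p ∧ ringKrullDim (A ⧸ q) = n)
    (hgen : ∃ s : Fin n → (LocalizedModule p.primeCompl
        (AdicCompletion (maximalIdeal A) (Ω[A⁄k]))),
      Submodule.span (Localization.AtPrime p) (Set.range s) = ⊤) :
    (Module.Free (Localization.AtPrime p)
        (LocalizedModule p.primeCompl (AdicCompletion (maximalIdeal A) (Ω[A⁄k]))) ∧
      Module.finrank (Localization.AtPrime p)
        (LocalizedModule p.primeCompl (AdicCompletion (maximalIdeal A) (Ω[A⁄k]))) = n) ∧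
      CAlg.IsGeometricallyRegular k (Localization.AtPrime p) := by
  obtain ⟨q, hqmin, hqp, hqdim⟩ := hq
  have hq' : ∃ q ∈ minimalPrimes A, q ≤ p ∧ ringKrullDim (A ⧸ q) = ringKrullDim A :=
    ⟨q, hqmin, hqp, hqdim.trans hn.symm⟩
  obtain ⟨i1, i2, hloc, hfin, hunr⟩ := s5054_mp k A p hp hq' n hgen
  obtain ⟨-, hfree, hgr⟩ := core k A n p q hqmin hqp hqdim hunr
  exact ⟨hfree, hgr⟩

theorem s3850 (k A : Type u) [Field k] [CommRing A]
    [IsLocalRing A] [IsNoetherianRing A] [Algebra k A] [IsAdicComplete (maximalIdeal A) A]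
    [Module.Finite k (ResidueField A)] (n : ℕ) (hn : ringKrullDim A = n)
    (p : Ideal A) [p.IsPrime] (hp : p ≠ maximalIdeal A)
    (hq : ∃ q ∈ minimalPrimes A, q ≤ p ∧ ringKrullDim (A ⧸ q) = n) :
    (Module.Free (Localization.AtPrime p)
        (LocalizedModule p.primeCompl (AdicCompletion (maximalIdeal A) (Ω[A⁄k]))) ∧
      Module.finrank (Localization.AtPrime p)
        (LocalizedModule p.primeCompl (AdicCompletion (maximalIdeal A) (Ω[A⁄k]))) = n) ↔
      ∃ (_ : Algebra (MvPowerSeries (Fin n) k) A)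
        (_ : IsScalarTower k (MvPowerSeries (Fin n) k) A),
        IsLocalHom (algebraMap (MvPowerSeries (Fin n) k) A) ∧
          Module.Finite (MvPowerSeries (Fin n) k) A ∧
          Algebra.IsEtaleAt (MvPowerSeries (Fin n) k) p := by
  haveI : Module.Finite A (AdicCompletion (maximalIdeal A) (Ω[A⁄k])) :=
    Groth.Agent.Helper8.CKae.residue
  haveI : Module.Finite (Localization.AtPrime p)
      (LocalizedModule p.primeCompl (AdicCompletion (maximalIdeal A) (Ω[A⁄k]))) :=
    Module.Finite.of_isLocalizedModule p.primeCompl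
      (LocalizedModule.mkLinearMap p.primeCompl (AdicCompletion (maximalIdeal A) (Ω[A⁄k])))
  obtain ⟨q, hqmin, hqp, hqdim⟩ := hq
  have hq' : ∃ q ∈ minimalPrimes A, q ≤ p ∧ ringKrullDim (A ⧸ q) = ringKrullDim A :=
    ⟨q, hqmin, hqp, hqdim.trans hn.symm⟩
  constructor
  · rintro ⟨hfree, hrank⟩
    haveI := hfree
    let b := Module.finBasisOfFinrankEq (Localization.AtPrime p)
      (LocalizedModule p.primeCompl (AdicCompletion (maximalIdeal A) (Ω[A⁄k]))) hrank
    obtain ⟨i1, i2, hloc, hfin, hunr⟩ := s5054_mp k A p hp hq' n ⟨b, b.span_eq⟩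
    obtain ⟨het, -, -⟩ := core k A n p q hqmin hqp hqdim hunr
    exact ⟨i1, i2, hloc, hfin, het⟩
  · rintro ⟨i1, i2, hloc, hfin, het⟩
    haveI : Algebra.FormallyEtale (MvPowerSeries (Fin n) k) (Localization.AtPrime p) := het
    have hunr : Algebra.IsUnramifiedAt (MvPowerSeries (Fin n) k) p :=
      (inferInstance : Algebra.FormallyUnramified (MvPowerSeries (Fin n) k)
        (Localization.AtPrime p))
    obtain ⟨-, hfree, -⟩ := core k A n p q hqmin hqp hqdim hunr
    exact hfree

end Groth.Agent.Helper7.CKd
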