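import Mathlib
import Groth.Agent.Helper7.CKh1
import Groth.Agent.Helper7.CKe2
import Groth.Agent.S4551
import Groth.Agent.S4523
import Groth.Agent.S2469

/-!
# The imperfection module of a finitely generated extension of `k((T_1, …, T_r))` over `k`
-/

set_option autoImplicit false
set_option linter.unusedSectionVars false
universe u

namespace Groth.Agent.Helper7.CKd

open TensorProduct MvPowerSeries Cardinal

section MapMap

variable (k L₀ L : Type u) [CommRing k] [CommRing L₀] [CommRing L] [Algebra k L₀] [Algebra L₀ L]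
  [Algebra k L] [IsScalarTower k L₀ L]

theorem map_map_int (ω : Ω[k⁄ℤ]) :
    KaehlerDifferential.map ℤ ℤ L₀ L (KaehlerDifferential.map ℤ ℤ k L₀ ω) =
      KaehlerDifferential.map ℤ ℤ k L ω := by
  let f : Ω[k⁄ℤ] →ₗ[k] Ω[L⁄ℤ] :=
    ((KaehlerDifferential.map ℤ ℤ L₀ L).restrictScalars k) ∘ₗ (KaehlerDifferential.map ℤ ℤ k L₀)
  have h : f = KaehlerDifferential.map ℤ ℤ k L := by
    apply Derivation.liftKaehlerDifferential_unique
    ext x
    change KaehlerDifferential.map ℤ ℤ L₀ L (KaehlerDifferential.map ℤ ℤ k L₀
      (KaehlerDifferential.D ℤ k x)) = KaehlerDifferential.map ℤ ℤ k L (KaehlerDifferential.D ℤ k x)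
    rw [KaehlerDifferential.map_D, KaehlerDifferential.map_D, KaehlerDifferential.map_D,
      ← IsScalarTower.algebraMap_apply]
  exact LinearMap.congr_fun h ω

end MapMap

section Main

variable (k : Type u) [Field k] (r : ℕ)
  (L₀ : Type u) [Field L₀] [Algebra (MvPowerSeries (Fin r) k) L₀]
  [IsFractionRing (MvPowerSeries (Fin r) k) L₀] [Algebra k L₀]
  [IsScalarTower k (MvPowerSeries (Fin r) k) L₀]
  (L : Type u) [Field L] [Algebra k L] [Algebra L₀ L] [IsScalarTower k L₀ L]

local notation "BB" => MvPowerSeries (Fin r) k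

/-- the comparison of the two-step base change with the one-step one -/
theorem comp_eq :
    (KaehlerDifferential.mapBaseChange ℤ L₀ L) ∘ₗ
        ((KaehlerDifferential.mapBaseChange ℤ k L₀).baseChange L) =
      (KaehlerDifferential.mapBaseChange ℤ k L) ∘ₗ
        (TensorProduct.AlgebraTensorModule.cancelBaseChange k L₀ L L (Ω[k⁄ℤ])).toLinearMap := by
  apply LinearMap.ext
  intro x
  induction x using TensorProduct.induction_on with
  | zero => simp
  | add x y hx hy => rw [map_add, map_add, hx, hy]
  | tmul l y =>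
    induction y using TensorProduct.induction_on with
    | zero => simp
    | add x y hx hy => rw [TensorProduct.tmul_add, map_add, map_add, hx, hy]
    | tmul l₀ ω =>
      rw [LinearMap.comp_apply, LinearMap.comp_apply, LinearMap.baseChange_tmul,
        KaehlerDifferential.mapBaseChange_tmul, KaehlerDifferential.mapBaseChange_tmul,
        LinearEquiv.coe_coe, TensorProduct.AlgebraTensorModule.cancelBaseChange_tmul,
        KaehlerDifferential.mapBaseChange_tmul, map_smul, map_map_int, smul_assoc]
      exact smul_comm _ _ _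

/-- the partial derivatives kill the differentials coming from `k` -/
theorem lift_map_eq_zero (d : Derivation k L₀ L₀) (ω : Ω[k⁄ℤ]) :
    (d.restrictScalars ℤ).liftKaehlerDifferential (KaehlerDifferential.map ℤ ℤ k L₀ ω) = 0 := by
  let f : Ω[k⁄ℤ] →ₗ[k] L₀ :=
    ((d.restrictScalars ℤ).liftKaehlerDifferential.restrictScalars k) ∘ₗ
      (KaehlerDifferential.map ℤ ℤ k L₀)
  have h : f = 0 := by
    apply Derivation.liftKaehlerDifferential_unique
    ext x
    change (d.restrictScalars ℤ).liftKaehlerDifferential (KaehlerDifferential.map ℤ ℤ k L₀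
      (KaehlerDifferential.D ℤ k x)) = 0
    rw [KaehlerDifferential.map_D, Derivation.liftKaehlerDifferential_comp_D]
    exact d.map_algebraMap x
  exact LinearMap.congr_fun h ω

theorem imperfection_count [Algebra.EssFiniteType L₀ L]
    (hred : Algebra.IsGeometricallyReduced k L₀) :
    Module.Finite L (LinearMap.ker (KaehlerDifferential.mapBaseChange ℤ k L)) ∧
      (r : Cardinal.{u}) + Module.rank L (LinearMap.ker (KaehlerDifferential.mapBaseChange ℤ k L)) ≤
        Module.rank L (Ω[L⁄k]) := by
  classical
  set α := KaehlerDifferential.mapBaseChange ℤ k L with hα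
  set a₀ := KaehlerDifferential.mapBaseChange ℤ k L₀ with ha₀
  set a := a₀.baseChange L with ha
  set b := KaehlerDifferential.mapBaseChange ℤ L₀ L with hb
  set e := TensorProduct.AlgebraTensorModule.cancelBaseChange k L₀ L L (Ω[k⁄ℤ]) with he
  have hcomp : b ∘ₗ a = α ∘ₗ e.toLinearMap := comp_eq k L₀ L
  -- injectivity of `a`
  have ha₀inj : Function.Injective a₀ := by
    rw [← LinearMap.ker_eq_bot]
    exact (Groth.Agent.S4523.result (k := k) (K := L₀)).1.1 hred
  have hainj : Function.Injective a :=
    Module.Flat.lTensor_preserves_injective_linearMap (M := L) a₀ ha₀inj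
  -- Cartier for `L/L₀`
  obtain ⟨hf1, hf2, hcart⟩ := Groth.Agent.S2469.result (K := L₀) (L := L)
  have hΥ : Module.finrank L (LinearMap.ker b) ≤ Module.finrank L (Ω[L⁄L₀]) := by
    have h0 : (0 : ℤ) ≤ (Cardinal.toNat (Algebra.trdeg L₀ L) : ℤ) := Int.natCast_nonneg _
    have : Module.finrank L (EGA41.imperfection ℤ L₀ L) = Module.finrank L (LinearMap.ker b) := rfl
    omega
  haveI : Module.Finite L (LinearMap.ker b) := hf2
  have hfin : Module.rank L (LinearMap.ker b) ≤ Module.rank L (Ω[L⁄L₀]) := by
    rw [← Module.finrank_eq_rank, ← Module.finrank_eq_rank]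
    exact_mod_cast hΥ
  -- the kernels
  let ek : LinearMap.ker (b ∘ₗ a) ≃ₗ[L] LinearMap.ker α := by
    rw [hcomp, LinearMap.ker_comp]
    exact LinearEquiv.ofSubmodule' e (LinearMap.ker α)
  -- the partial derivatives
  choose d' hd' using exists_pd k r L₀ L₀
  let θ : L ⊗[L₀] Ω[L₀⁄ℤ] →ₗ[L] (Fin r → L) :=
    LinearMap.pi fun j => LinearMap.liftBaseChange L
      ((Algebra.linearMap L₀ L) ∘ₗ ((d' j).restrictScalars ℤ).liftKaehlerDifferential)
  have hθ : ∀ (l : L) (η : Ω[L₀⁄ℤ]) (j : Fin r), θ (l ⊗ₜ η) j =
      l * algebraMap L₀ L (((d' j).restrictScalars ℤ).liftKaehlerDifferential η) := by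
    intro l η j
    change LinearMap.liftBaseChange L
      ((Algebra.linearMap L₀ L) ∘ₗ ((d' j).restrictScalars ℤ).liftKaehlerDifferential) (l ⊗ₜ η) = _
    rw [LinearMap.liftBaseChange_tmul]
    rfl
  have hθa : ∀ x, θ (a x) = 0 := by
    intro x
    induction x using TensorProduct.induction_on with
    | zero => simp
    | add x y hx hy => rw [map_add, map_add, hx, hy, add_zero]
    | tmul l y =>
      rw [ha, LinearMap.baseChange_tmul]
      funext j
      rw [hθ, Pi.zero_apply]
      have : ((d' j).restrictScalars ℤ).liftKaehlerDifferential (a₀ y) = 0 := by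
        induction y using TensorProduct.induction_on with
        | zero => simp
        | add x y hx hy => rw [map_add, map_add, hx, hy, add_zero]
        | tmul l₀ ω =>
          rw [ha₀, KaehlerDifferential.mapBaseChange_tmul, map_smul, lift_map_eq_zero, smul_zero]
      rw [this, map_zero, mul_zero]
  have hθs : Function.Surjective θ := by
    intro v
    refine ⟨∑ i, v i • ((1 : L) ⊗ₜ[L₀] KaehlerDifferential.D ℤ L₀ (algebraMap BB L₀ (X i))), ?_⟩
    funext j
    rw [map_sum, Finset.sum_apply]
    rw [Finset.sum_eq_single j]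
    · rw [map_smul, Pi.smul_apply, hθ, Derivation.liftKaehlerDifferential_comp_D]
      change v j • (1 * algebraMap L₀ L (d' j (algebraMap BB L₀ (X j)))) = v j
      rw [hd', pderiv_X_self, map_one, map_one, one_mul, smul_eq_mul, mul_one]
    · intro i _ hij
      rw [map_smul, Pi.smul_apply, hθ, Derivation.liftKaehlerDifferential_comp_D]
      change v i • (1 * algebraMap L₀ L (d' j (algebraMap BB L₀ (X i)))) = 0
      rw [hd', pderiv_X_of_ne hij, map_zero, map_zero, mul_zero, smul_zero]
    · intro h; exact absurd (Finset.mem_univ j) h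
  have hcount := rank_count a hainj b (KaehlerDifferential.map ℤ k L L)
    (KaehlerDifferential.map_surjective ℤ k L)
    (by rw [hcomp, LinearMap.range_comp_of_range_eq_top _ (LinearEquiv.range e),
      KaehlerDifferential.range_mapBaseChange])
    (KaehlerDifferential.map ℤ L₀ L L) (KaehlerDifferential.map_surjective ℤ L₀ L)
    (KaehlerDifferential.range_mapBaseChange ℤ L₀ L).symm hfin r θ hθs hθa
  refine ⟨?_, ?_⟩
  · -- finiteness
    let i : LinearMap.ker (b ∘ₗ a) →ₗ[L] LinearMap.ker b :=
      LinearMap.codRestrict (LinearMap.ker b) (a ∘ₗ (LinearMap.ker (b ∘ₗ a)).subtype)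
        (fun x => x.2)
    have hi : Function.Injective i := by
      intro x y hxy
      have h5 : a (x : _) = a (y : _) := congrArg Subtype.val hxy
      exact Subtype.ext (hainj h5)
    haveI : IsNoetherian L (LinearMap.ker b) :=
      isNoetherian_of_isNoetherianRing_of_finite L (LinearMap.ker b)
    haveI : Module.Finite L (LinearMap.ker (b ∘ₗ a)) := Module.Finite.of_injective i hi
    exact Module.Finite.equiv ek
  · rw [← ek.rank_eq]
    exact hcount

end Main

end Groth.Agent.Helper7.CKd
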