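import Mathlib
import Groth.Agent.Helper7.CKh2
import Groth.Agent.Helper7.CKe3

/-!
# EGA 0_IV 21.9.x: the imperfection module of the fraction field of a complete local domain
-/

set_option autoImplicit false
set_option linter.unusedSectionVars false
universe u

namespace Groth.Agent.Helper7.CKd

open TensorProduct IsLocalRing MvPowerSeries Cardinal

theorem s5988 (k C L : Type u) [Field k] [CommRing C] [IsDomain C] [IsNoetherianRing C]
    [IsLocalRing C] [Algebra k C] [IsAdicComplete (IsLocalRing.maximalIdeal C) C]
    [Module.Finite k (IsLocalRing.ResidueField C)] (n : ℕ) (hn : ringKrullDim C = n)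
    [Field L] [Algebra C L] [IsFractionRing C L] [Algebra k L] [IsScalarTower k C L] :
    Module.Finite L (LinearMap.ker (KaehlerDifferential.mapBaseChange ℤ k L)) ∧
      (n : Cardinal.{u}) + Module.rank L (LinearMap.ker (KaehlerDifferential.mapBaseChange ℤ k L)) ≤
        Module.rank L (Ω[L⁄k]) := by
  obtain ⟨n', w, hinj, hloc, hfin⟩ := Groth.Agent.Helper7.CohenFin.s2460 (k₀ := k) (A := C)
  letI : Algebra (MvPowerSeries (Fin n') k) C := w.toRingHom.toAlgebra
  haveI : IsScalarTower k (MvPowerSeries (Fin n') k) C :=
    IsScalarTower.of_algebraMap_eq fun c => (w.commutes c).symm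
  haveI : Module.Finite (MvPowerSeries (Fin n') k) C := hfin
  have hdim : ringKrullDim C = ((n' : ℕ) : WithBot ℕ∞) := by
    rw [Groth.Agent.Helper2.Dim.dim_eq_of_integral_injective w.toRingHom hfin.to_isIntegral hinj,
      Groth.Agent.Helper7.Cohen.ringKrullDim_mvPowerSeries_field, add_zero]
  have hnn : n' = n := by
    rw [hdim] at hn
    exact_mod_cast hn
  subst hnn
  letI : Algebra (MvPowerSeries (Fin n') k) L :=
    ((algebraMap C L).comp (algebraMap (MvPowerSeries (Fin n') k) C)).toAlgebra
  haveI : IsScalarTower (MvPowerSeries (Fin n') k) C L :=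
    IsScalarTower.of_algebraMap_eq fun _ => rfl
  haveI : IsScalarTower k (MvPowerSeries (Fin n') k) L := IsScalarTower.of_algebraMap_eq fun c => by
    rw [IsScalarTower.algebraMap_apply (MvPowerSeries (Fin n') k) C L,
      ← IsScalarTower.algebraMap_apply k (MvPowerSeries (Fin n') k) C,
      ← IsScalarTower.algebraMap_apply k C L]
  have hinjL : Function.Injective (algebraMap (MvPowerSeries (Fin n') k) L) :=
    (IsFractionRing.injective C L).comp hinj
  letI : Algebra (FractionRing (MvPowerSeries (Fin n') k)) L :=
    (IsFractionRing.lift hinjL).toAlgebra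
  haveI : IsScalarTower (MvPowerSeries (Fin n') k) (FractionRing (MvPowerSeries (Fin n') k)) L :=
    IsScalarTower.of_algebraMap_eq fun x => (IsFractionRing.lift_algebraMap hinjL x).symm
  haveI : IsScalarTower k (FractionRing (MvPowerSeries (Fin n') k)) L :=
    IsScalarTower.of_algebraMap_eq fun c => by
      rw [IsScalarTower.algebraMap_apply k (MvPowerSeries (Fin n') k)
        (FractionRing (MvPowerSeries (Fin n') k)),
        ← IsScalarTower.algebraMap_apply (MvPowerSeries (Fin n') k)
          (FractionRing (MvPowerSeries (Fin n') k)) L,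
        ← IsScalarTower.algebraMap_apply k (MvPowerSeries (Fin n') k) L]
  haveI : Algebra.EssFiniteType C L := Algebra.EssFiniteType.of_isLocalization L (nonZeroDivisors C)
  haveI : Algebra.EssFiniteType (MvPowerSeries (Fin n') k) L :=
    Algebra.EssFiniteType.comp (MvPowerSeries (Fin n') k) C L
  haveI : Algebra.EssFiniteType (FractionRing (MvPowerSeries (Fin n') k)) L :=
    Algebra.EssFiniteType.of_comp (MvPowerSeries (Fin n') k) (FractionRing (MvPowerSeries (Fin n') k)) L
  exact imperfection_count k n' (FractionRing (MvPowerSeries (Fin n') k)) L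
    (Groth.Agent.S4551.result k n')

end Groth.Agent.Helper7.CKd
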