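import Mathlib

/-!
# Differentials of a power series ring over an `F`-finite field are generated by the `dX_i`
-/

set_option autoImplicit false
set_option linter.unusedSectionVars false
universe u v

namespace Groth.Agent.Helper7.CKd

open MvPowerSeries

section Section

variable {σ : Type*} [Fintype σ] [DecidableEq σ] {R : Type*} [CommRing R] (p : ℕ) (hp : p ≠ 0)

/-- exponent vector attached to a function with values in `Fin p` -/
noncomputable def fsx (a : σ → Fin p) : σ →₀ ℕ :=
  Finsupp.equivFunOnFinite.symm (fun x => (a x : ℕ))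

@[simp] theorem fsx_apply (a : σ → Fin p) (x : σ) : fsx p a x = (a x : ℕ) := rfl

/-- the `p`-section of a power series: the coefficients at `α + p β` -/
noncomputable def psect (α : σ →₀ ℕ) (f : MvPowerSeries σ R) : MvPowerSeries σ R :=
  fun β => coeff (α + p • β) f

theorem coeff_psect (α β : σ →₀ ℕ) (f : MvPowerSeries σ R) :
    coeff β (psect p α f) = coeff (α + p • β) f := rfl

include hp in
/-- decomposition of a power series into its `p`-sections -/
theorem psect_decomp (f : MvPowerSeries σ R) :
    f = ∑ a : σ → Fin p, monomial (fsx p a) (1 : R) * expand p hp (psect p (fsx p a) f) := by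
  classical
  have hp0 : 0 < p := Nat.pos_of_ne_zero hp
  ext μ
  rw [map_sum]
  let a₀ : σ → Fin p := fun i => ⟨μ i % p, Nat.mod_lt _ hp0⟩
  let β : σ →₀ ℕ := Finsupp.equivFunOnFinite.symm (fun i => μ i / p)
  have hμ : μ = fsx p a₀ + p • β := by
    ext i
    simp only [Finsupp.add_apply, fsx_apply, Finsupp.smul_apply, smul_eq_mul]
    change μ i = μ i % p + p * (μ i / p)
    exact (Nat.mod_add_div _ _).symm
  rw [Finset.sum_eq_single a₀]
  · rw [coeff_monomial_mul, if_pos (by rw [hμ]; exact le_self_add), one_mul]
    have : μ - fsx p a₀ = p • β := by rw [hμ]; exact add_tsub_cancel_left _ _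
    rw [this, coeff_expand_smul, coeff_psect, ← hμ]
  · intro a _ ha
    rw [coeff_monomial_mul]
    split_ifs with hle
    · obtain ⟨x, hx⟩ : ∃ x, a x ≠ a₀ x := Function.ne_iff.mp ha
      rw [coeff_expand_of_not_dvd p hp _ (i := x), mul_zero]
      intro hdvd
      apply hx
      have hle' : (a x : ℕ) ≤ μ x := by
        have := hle x
        simpa using this
      obtain ⟨q, hq⟩ := hdvd
      have hq' : μ x - (a x : ℕ) = p * q := by
        simpa using hq
      have e : μ x = p * q + (a x : ℕ) := by omega
      have := congrArg (· % p) e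
      simp only [Nat.mul_add_mod] at this
      rw [Nat.mod_eq_of_lt (a x).2] at this
      exact Fin.ext this.symm
    · rfl
  · intro h; exact absurd (Finset.mem_univ _) h

end Section

section FFinite

variable {σ : Type*} [Fintype σ] [DecidableEq σ] {k : Type*} [Field k] (p : ℕ) [Fact p.Prime]
  [CharP k p]

/-- a finite Frobenius gives a finite family spanning `k` over `k^p` -/
theorem exists_span_of_frobenius_finite (hk : (frobenius k p).Finite) :
    ∃ (m : ℕ) (c : Fin m → k), ∀ x : k, ∃ y : Fin m → k, ∑ j, (y j) ^ p * c j = x := by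
  have hfin : @Module.Finite k k _ _ (frobenius k p).toAlgebra.toModule := hk
  obtain ⟨m, c, hc⟩ := @Module.Finite.exists_fin k k _ _ (frobenius k p).toAlgebra.toModule hfin
  refine ⟨m, c, fun x => ?_⟩
  have hx : x ∈ @Submodule.span k k _ _ (frobenius k p).toAlgebra.toModule (Set.range c) := by
    rw [hc]; trivial
  obtain ⟨y, hy⟩ := (@Submodule.mem_span_range_iff_exists_fun (Fin m) k k _ _ _
    (frobenius k p).toAlgebra.toModule c x).1 hx
  refine ⟨y, ?_⟩
  rw [← hy]
  rfl

/-- an expanded power series over an `F`-finite field is a combination of `p`-th powers -/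
theorem expand_eq_sum_pow {m : ℕ} (c : Fin m → k)
    (hc : ∀ x : k, ∃ y : Fin m → k, ∑ j, (y j) ^ p * c j = x) (h : MvPowerSeries σ k) :
    ∃ g : Fin m → MvPowerSeries σ k,
      expand p (Fact.out : p.Prime).ne_zero h = ∑ j, C (c j) * (g j) ^ p := by
  classical
  have hp : p ≠ 0 := (Fact.out : p.Prime).ne_zero
  choose y hy using hc
  refine ⟨fun j β => y (coeff β h) j, ?_⟩
  ext μ
  rw [map_sum]
  simp_rw [coeff_C_mul, ← map_frobenius_expand p hp, coeff_map, frobenius_def]
  by_cases hμ : ∀ i, p ∣ μ i
  · obtain ⟨β, rfl⟩ : ∃ β : σ →₀ ℕ, μ = p • β := by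
      refine ⟨Finsupp.equivFunOnFinite.symm (fun i => μ i / p), ?_⟩
      ext i
      simp only [Finsupp.smul_apply, smul_eq_mul]
      exact (Nat.mul_div_cancel' (hμ i)).symm
    simp_rw [coeff_expand_smul]
    rw [← hy (coeff β h)]
    refine Finset.sum_congr rfl fun j _ => ?_
    rw [mul_comm]
    rfl
  · push Not at hμ
    obtain ⟨i, hi⟩ := hμ
    rw [coeff_expand_of_not_dvd p hp _ hi]
    symm
    refine Finset.sum_eq_zero fun j _ => ?_
    rw [coeff_expand_of_not_dvd p hp _ hi, zero_pow hp, mul_zero]

/-- over an `F`-finite field, a derivation of the power series ring takes values in the span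
of its values at the variables -/
theorem derivation_mem_span (hk : (frobenius k p).Finite) {M : Type*} [AddCommGroup M]
    [Module (MvPowerSeries σ k) M] [Module k M] [IsScalarTower k (MvPowerSeries σ k) M]
    (D : Derivation k (MvPowerSeries σ k) M) (f : MvPowerSeries σ k) :
    D f ∈ Submodule.span (MvPowerSeries σ k) (Set.range fun i => D (X i)) := by
  classical
  have hp : p ≠ 0 := (Fact.out : p.Prime).ne_zero
  set N := Submodule.span (MvPowerSeries σ k) (Set.range fun i => D (X i)) with hN
  let S : Subalgebra k (MvPowerSeries σ k) :=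
    { carrier := {f | D f ∈ N}
      mul_mem' := by
        intro a b ha hb
        change D (a * b) ∈ N
        rw [Derivation.leibniz]
        exact N.add_mem (N.smul_mem _ hb) (N.smul_mem _ ha)
      add_mem' := by
        intro a b ha hb
        change D (a + b) ∈ N
        rw [map_add]
        exact N.add_mem ha hb
      algebraMap_mem' := by
        intro c
        change D (algebraMap k _ c) ∈ N
        rw [Derivation.map_algebraMap]
        exact N.zero_mem }
  have hS : ∀ f, f ∈ S ↔ D f ∈ N := fun f => Iff.rfl
  have hX : ∀ i, (X i : MvPowerSeries σ k) ∈ S := fun i =>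
    (hS _).2 (Submodule.subset_span ⟨i, rfl⟩)
  have hpow : ∀ g : MvPowerSeries σ k, g ^ p ∈ S := by
    intro g
    rw [hS, Derivation.leibniz_pow, ← Nat.cast_smul_eq_nsmul k p, CharP.cast_eq_zero k p, zero_smul]
    exact N.zero_mem
  have hpoly : ∀ φ : MvPolynomial σ k, (φ : MvPowerSeries σ k) ∈ S := by
    intro φ
    induction φ using MvPolynomial.induction_on with
    | C a =>
      rw [MvPolynomial.coe_C]
      exact S.algebraMap_mem a
    | add φ ψ hφ hψ =>
      rw [MvPolynomial.coe_add]
      exact S.add_mem hφ hψ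
    | mul_X φ i hφ =>
      rw [MvPolynomial.coe_mul, MvPolynomial.coe_X]
      exact S.mul_mem hφ (hX i)
  have hmono : ∀ α : σ →₀ ℕ, monomial α (1 : k) ∈ S := by
    intro α
    rw [← MvPolynomial.coe_monomial]
    exact hpoly _
  obtain ⟨m, c, hc⟩ := exists_span_of_frobenius_finite p hk
  rw [← hS, psect_decomp p hp f]
  refine S.sum_mem fun a _ => S.mul_mem (hmono _) ?_
  obtain ⟨g, hg⟩ := expand_eq_sum_pow (σ := σ) p c hc (psect p (fsx p a) f)
  rw [hg]
  exact S.sum_mem fun j _ => S.mul_mem (S.algebraMap_mem (c j)) (hpow _)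

/-- over an `F`-finite field the differentials of a power series ring are spanned by the `dX_i` -/
theorem span_D_X_eq_top (hk : (frobenius k p).Finite) :
    Submodule.span (MvPowerSeries σ k)
      (Set.range fun i : σ => KaehlerDifferential.D k (MvPowerSeries σ k) (X i)) = ⊤ := by
  rw [eq_top_iff, ← KaehlerDifferential.span_range_derivation, Submodule.span_le]
  rintro _ ⟨f, rfl⟩
  exact derivation_mem_span p hk _ f

theorem finite_kaehler_mvPowerSeries (hk : (frobenius k p).Finite) :
    Module.Finite (MvPowerSeries σ k) (Ω[MvPowerSeries σ k⁄k]) := by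
  refine ⟨?_⟩
  rw [← span_D_X_eq_top p hk]
  exact Submodule.fg_span (Set.finite_range _)

end FFinite

end Groth.Agent.Helper7.CKd
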