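import Mathlib

/-!
# A rank count for a pair of composable maps of vector spaces: the case of equality
-/

set_option autoImplicit false
set_option linter.unusedSectionVars false
universe u

namespace Groth.Agent.Helper7.CKd

open Cardinal

section Count

variable {L : Type u} [Field L] {X Y Z W W' : Type u}
  [AddCommGroup X] [Module L X] [AddCommGroup Y] [Module L Y] [AddCommGroup Z] [Module L Z]
  [AddCommGroup W] [Module L W] [AddCommGroup W'] [Module L W']

theorem rank_count_eq (a : X →ₗ[L] Y) (ha : Function.Injective a) (b : Y →ₗ[L] Z)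
    (π : Z →ₗ[L] W) (hπ : Function.Surjective π)
    (hker : LinearMap.ker π = LinearMap.range (b ∘ₗ a))
    (π' : Z →ₗ[L] W') (hπ' : Function.Surjective π') (hker' : LinearMap.ker π' = LinearMap.range b)
    (hfin : Module.rank L (LinearMap.ker b) = Module.rank L W')
    (n : ℕ) (θ : Y →ₗ[L] (Fin n → L)) (hθ : Function.Surjective θ) (hθa : ∀ x, θ (a x) = 0)
    (hθk : LinearMap.ker θ ≤ LinearMap.range a) :
    (n : Cardinal.{u}) + Module.rank L (LinearMap.ker (b ∘ₗ a)) = Module.rank L W := by
  set X' := LinearMap.range a with hX'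
  have hX'le : X' ≤ LinearMap.ker (π ∘ₗ b) := by
    rintro _ ⟨x, rfl⟩
    rw [LinearMap.mem_ker, LinearMap.comp_apply]
    have : b (a x) ∈ LinearMap.ker π := by rw [hker]; exact ⟨x, rfl⟩
    exact this
  let f₂ : Y ⧸ X' →ₗ[L] W := X'.liftQ (π ∘ₗ b) hX'le
  have hf₂ : ∀ y, f₂ (X'.mkQ y) = π (b y) := fun y => rfl
  -- (i)
  have h1 := LinearMap.rank_range_add_rank_ker f₂
  -- (ii)
  have h2 := Submodule.rank_quotient_add_rank (LinearMap.range f₂)
  -- (iii)
  have h3 : Module.rank L W' = Module.rank L (W ⧸ LinearMap.range f₂) := by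
    let ψ : Z →ₗ[L] W ⧸ LinearMap.range f₂ := (LinearMap.range f₂).mkQ ∘ₗ π
    have hψs : Function.Surjective ψ := (Submodule.mkQ_surjective _).comp hπ
    have hψk : LinearMap.ker ψ = LinearMap.ker π' := by
      rw [hker']
      ext z
      rw [LinearMap.mem_ker, LinearMap.comp_apply, Submodule.mkQ_apply,
        Submodule.Quotient.mk_eq_zero]
      constructor
      · rintro ⟨y', hy'⟩
        obtain ⟨y, rfl⟩ := Submodule.mkQ_surjective X' y'
        rw [hf₂] at hy'
        have h4 : z - b y ∈ LinearMap.ker π := by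
          rw [LinearMap.mem_ker, map_sub, hy', sub_self]
        rw [hker] at h4
        obtain ⟨x, hx⟩ := h4
        refine ⟨a x + y, ?_⟩
        rw [map_add, ← LinearMap.comp_apply, hx]
        abel
      · rintro ⟨y, rfl⟩
        exact ⟨X'.mkQ y, hf₂ y⟩
    have e1 := (LinearMap.quotKerEquivOfSurjective ψ hψs).rank_eq
    have e2 := (LinearMap.quotKerEquivOfSurjective π' hπ').rank_eq
    have e3 := (Submodule.quotEquivOfEq _ _ hψk).rank_eq
    rw [← e1, ← e2, e3]
  -- (iv)
  let h : LinearMap.ker b →ₗ[L] LinearMap.ker f₂ :=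
    LinearMap.codRestrict (LinearMap.ker f₂) (X'.mkQ ∘ₗ (LinearMap.ker b).subtype) (by
      intro y
      rw [LinearMap.mem_ker, LinearMap.comp_apply, hf₂]
      have : b (y : Y) = 0 := y.2
      change π (b (y : Y)) = 0
      rw [this, map_zero])
  have hhs : Function.Surjective h := by
    rintro ⟨z, hz⟩
    obtain ⟨y, rfl⟩ := Submodule.mkQ_surjective X' z
    rw [LinearMap.mem_ker, hf₂] at hz
    have h4 : b y ∈ LinearMap.ker π := hz
    rw [hker] at h4
    obtain ⟨x, hx⟩ := h4
    have h5 : y - a x ∈ LinearMap.ker b := by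
      rw [LinearMap.mem_ker, map_sub, ← LinearMap.comp_apply, hx, sub_self]
    refine ⟨⟨y - a x, h5⟩, ?_⟩
    apply Subtype.ext
    change X'.mkQ (y - a x) = X'.mkQ y
    rw [map_sub, sub_eq_self, Submodule.mkQ_apply, Submodule.Quotient.mk_eq_zero]
    exact ⟨x, rfl⟩
  have h4 := LinearMap.rank_range_add_rank_ker h
  rw [LinearMap.range_eq_top.2 hhs, rank_top] at h4
  -- (v)
  let i : LinearMap.ker (b ∘ₗ a) →ₗ[L] LinearMap.ker h :=
    LinearMap.codRestrict (LinearMap.ker h)
      (LinearMap.codRestrict (LinearMap.ker b) (a ∘ₗ (LinearMap.ker (b ∘ₗ a)).subtype) (by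
        intro x
        exact x.2)) (by
      intro x
      rw [LinearMap.mem_ker]
      apply Subtype.ext
      change X'.mkQ (a (x : X)) = 0
      rw [Submodule.mkQ_apply, Submodule.Quotient.mk_eq_zero]
      exact ⟨_, rfl⟩)
  have hi : Function.Injective i := by
    intro x y hxy
    have h5 : a (x : X) = a (y : X) := congrArg (fun z => ((z : LinearMap.ker h) : LinearMap.ker b).1) hxy
    exact Subtype.ext (ha h5)
  have his : Function.Surjective i := by
    rintro ⟨⟨y, hy⟩, hyh⟩
    have h7 : X'.mkQ y = 0 := congrArg Subtype.val (LinearMap.mem_ker.1 hyh)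
    rw [Submodule.mkQ_apply, Submodule.Quotient.mk_eq_zero] at h7
    obtain ⟨x, rfl⟩ := h7
    exact ⟨⟨x, hy⟩, rfl⟩
  have h5 : Module.rank L (LinearMap.ker (b ∘ₗ a)) = Module.rank L (LinearMap.ker h) :=
    (LinearEquiv.ofBijective i ⟨hi, his⟩).rank_eq
  -- (vi)
  have h6 : (n : Cardinal.{u}) = Module.rank L (Y ⧸ X') := by
    have hX'θ : X' ≤ LinearMap.ker θ := by
      rintro _ ⟨x, rfl⟩
      exact hθa x
    let θ' : Y ⧸ X' →ₗ[L] (Fin n → L) := X'.liftQ θ hX'θ
    have hθ's : Function.Surjective θ' := by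
      intro v
      obtain ⟨y, rfl⟩ := hθ v
      exact ⟨X'.mkQ y, rfl⟩
    have hθ'i : Function.Injective θ' := by
      rw [← LinearMap.ker_eq_bot, eq_bot_iff]
      intro z hz
      obtain ⟨y, rfl⟩ := Submodule.mkQ_surjective X' z
      have h8 : y ∈ LinearMap.ker θ := hz
      rw [Submodule.mem_bot, Submodule.mkQ_apply, Submodule.Quotient.mk_eq_zero]
      exact hθk h8
    have := (LinearEquiv.ofBijective θ' ⟨hθ'i, hθ's⟩).rank_eq
    rw [rank_fin_fun] at this
    exact this.symm
  calc (n : Cardinal.{u}) + Module.rank L (LinearMap.ker (b ∘ₗ a))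
      = Module.rank L (Y ⧸ X') + Module.rank L (LinearMap.ker h) := by rw [← h6, h5]
    _ = Module.rank L (LinearMap.range f₂) + (Module.rank L (LinearMap.ker f₂)
          + Module.rank L (LinearMap.ker h)) := by rw [← h1, add_assoc]
    _ = Module.rank L (LinearMap.range f₂) + Module.rank L (LinearMap.ker b) := by rw [h4]
    _ = Module.rank L (LinearMap.range f₂) + Module.rank L W' := by rw [hfin]
    _ = Module.rank L (LinearMap.range f₂) + Module.rank L (W ⧸ LinearMap.range f₂) := by rw [h3]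
    _ = Module.rank L W := by rw [add_comm, h2]

end Count

end Groth.Agent.Helper7.CKd
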