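import Mathlib
import Groth.Agent.Helper7.CKh2
import Groth.Agent.Helper7.CKh4
import Groth.Agent.Helper7.CKh5

/-!
# Cartier's equality for the fraction field of a complete local domain over an `F`-finite field
-/

set_option autoImplicit false
set_option linter.unusedSectionVars false
universe u

namespace Groth.Agent.Helper7.CKd

open TensorProduct MvPowerSeries Cardinal

section Gen

variable (k : Type u) [Field k] (p : ℕ) [Fact p.Prime] [CharP k p] (r : ℕ)
  (L₀ : Type u) [Field L₀] [Algebra (MvPowerSeries (Fin r) k) L₀]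
  [IsFractionRing (MvPowerSeries (Fin r) k) L₀] [Algebra k L₀]
  [IsScalarTower k (MvPowerSeries (Fin r) k) L₀]

local notation "BB" => MvPowerSeries (Fin r) k

/-- the differentials of `k((T))` over an `F`-finite field `k` are spanned by the `dT_i` -/
theorem span_D_X_fraction (hk : (frobenius k p).Finite) :
    Submodule.span L₀ (Set.range fun i : Fin r =>
      KaehlerDifferential.D k L₀ (algebraMap BB L₀ (X i))) = ⊤ := by
  set N := Submodule.span L₀ (Set.range fun i : Fin r =>
      KaehlerDifferential.D k L₀ (algebraMap BB L₀ (X i))) with hN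
  let D' : Derivation k BB (Ω[L₀⁄k]) := (KaehlerDifferential.D k L₀).compAlgebraMap BB
  have hD' : ∀ b : BB, KaehlerDifferential.D k L₀ (algebraMap BB L₀ b) ∈ N := by
    intro b
    have h1 := derivation_mem_span p hk D' b
    have h2 : Submodule.span BB (Set.range fun i => D' (X i)) ≤ N.restrictScalars BB := by
      rw [Submodule.span_le]
      rintro _ ⟨i, rfl⟩
      exact Submodule.subset_span ⟨i, rfl⟩
    exact h2 h1
  rw [eq_top_iff, ← KaehlerDifferential.span_range_derivation, Submodule.span_le]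
  rintro _ ⟨x, rfl⟩
  obtain ⟨a, s, hs, rfl⟩ := IsFractionRing.div_surjective (A := BB) x
  have hs' : algebraMap BB L₀ s ≠ 0 := by
    rw [Ne, map_eq_zero_iff _ (IsFractionRing.injective BB L₀)]
    exact nonZeroDivisors.ne_zero hs
  have h1 : KaehlerDifferential.D k L₀ (algebraMap BB L₀ a) =
      (algebraMap BB L₀ a / algebraMap BB L₀ s) • KaehlerDifferential.D k L₀ (algebraMap BB L₀ s) +
      algebraMap BB L₀ s • KaehlerDifferential.D k L₀ (algebraMap BB L₀ a / algebraMap BB L₀ s) := by
    conv_lhs => rw [show algebraMap BB L₀ a = (algebraMap BB L₀ a / algebraMap BB L₀ s) *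
      algebraMap BB L₀ s from (div_mul_cancel₀ _ hs').symm]
    rw [Derivation.leibniz]
  have h2 : KaehlerDifferential.D k L₀ (algebraMap BB L₀ a / algebraMap BB L₀ s) =
      (algebraMap BB L₀ s)⁻¹ • (KaehlerDifferential.D k L₀ (algebraMap BB L₀ a) -
        (algebraMap BB L₀ a / algebraMap BB L₀ s) •
          KaehlerDifferential.D k L₀ (algebraMap BB L₀ s)) := by
    rw [eq_inv_smul_iff₀ hs', eq_sub_iff_add_eq']
    exact h1.symm
  change KaehlerDifferential.D k L₀ (algebraMap BB L₀ a / algebraMap BB L₀ s) ∈ N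
  rw [h2]
  exact Submodule.smul_mem _ _ (Submodule.sub_mem _ (hD' a) (Submodule.smul_mem _ _ (hD' s)))

end Gen

section Main

variable (k : Type u) [Field k] (r : ℕ)
  (L₀ : Type u) [Field L₀] [Algebra (MvPowerSeries (Fin r) k) L₀]
  [IsFractionRing (MvPowerSeries (Fin r) k) L₀] [Algebra k L₀]
  [IsScalarTower k (MvPowerSeries (Fin r) k) L₀]
  (L : Type u) [Field L] [Algebra k L] [Algebra L₀ L] [IsScalarTower k L₀ L]

local notation "BB" => MvPowerSeries (Fin r) k

theorem imperfection_count_eq [Algebra.EssFiniteType L₀ L] [Algebra.IsAlgebraic L₀ L]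
    (hred : Algebra.IsGeometricallyReduced k L₀)
    (hgen : Submodule.span L₀ (Set.range fun i : Fin r =>
      KaehlerDifferential.D k L₀ (algebraMap BB L₀ (X i))) = ⊤) :
    (r : Cardinal.{u}) + Module.rank L (LinearMap.ker (KaehlerDifferential.mapBaseChange ℤ k L)) =
        Module.rank L (Ω[L⁄k]) := by
  classical
  set α := KaehlerDifferential.mapBaseChange ℤ k L with hα
  set a₀ := KaehlerDifferential.mapBaseChange ℤ k L₀ with ha₀
  set a := a₀.baseChange L with ha
  set b := KaehlerDifferential.mapBaseChange ℤ L₀ L with hb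
  set e := TensorProduct.AlgebraTensorModule.cancelBaseChange k L₀ L L (Ω[k⁄ℤ]) with he
  have hcomp : b ∘ₗ a = α ∘ₗ e.toLinearMap := comp_eq k L₀ L
  -- injectivity of `a`
  have ha₀inj : Function.Injective a₀ := by
    rw [← LinearMap.ker_eq_bot]
    exact (Groth.Agent.S4523.result (k := k) (K := L₀)).1.1 hred
  have hainj : Function.Injective a :=
    Module.Flat.lTensor_preserves_injective_linearMap (M := L) a₀ ha₀inj
  -- Cartier for `L/L₀`
  obtain ⟨hf1, hf2, hcart⟩ := Groth.Agent.S2469.result (K := L₀) (L := L)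
  have hΥ : Module.finrank L (LinearMap.ker b) = Module.finrank L (Ω[L⁄L₀]) := by
    have h0 : Algebra.trdeg L₀ L = 0 := trdeg_eq_zero
    rw [h0] at hcart
    have : Module.finrank L (EGA41.imperfection ℤ L₀ L) = Module.finrank L (LinearMap.ker b) := rfl
    simp only [map_zero, Nat.cast_zero] at hcart
    omega
  haveI : Module.Finite L (LinearMap.ker b) := hf2
  have hfin : Module.rank L (LinearMap.ker b) = Module.rank L (Ω[L⁄L₀]) := by
    rw [← Module.finrank_eq_rank, ← Module.finrank_eq_rank, hΥ]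
  -- the kernels
  let ek : LinearMap.ker (b ∘ₗ a) ≃ₗ[L] LinearMap.ker α := by
    rw [hcomp, LinearMap.ker_comp]
    exact LinearEquiv.ofSubmodule' e (LinearMap.ker α)
  -- the partial derivatives
  choose d' hd' using exists_pd k r L₀ L₀
  let θ : L ⊗[L₀] Ω[L₀⁄ℤ] →ₗ[L] (Fin r → L) :=
    LinearMap.pi fun j => LinearMap.liftBaseChange L
      ((Algebra.linearMap L₀ L) ∘ₗ ((d' j).restrictScalars ℤ).liftKaehlerDifferential)
  have hθ : ∀ (l : L) (η : Ω[L₀⁄ℤ]) (j : Fin r), θ (l ⊗ₜ η) j =
      l * algebraMap L₀ L (((d' j).restrictScalars ℤ).liftKaehlerDifferential η) := by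
    intro l η j
    change LinearMap.liftBaseChange L
      ((Algebra.linearMap L₀ L) ∘ₗ ((d' j).restrictScalars ℤ).liftKaehlerDifferential) (l ⊗ₜ η) = _
    rw [LinearMap.liftBaseChange_tmul]
    rfl
  have hθa : ∀ x, θ (a x) = 0 := by
    intro x
    induction x using TensorProduct.induction_on with
    | zero => simp
    | add x y hx hy => rw [map_add, map_add, hx, hy, add_zero]
    | tmul l y =>
      rw [ha, LinearMap.baseChange_tmul]
      funext j
      rw [hθ, Pi.zero_apply]
      have : ((d' j).restrictScalars ℤ).liftKaehlerDifferential (a₀ y) = 0 := by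
        induction y using TensorProduct.induction_on with
        | zero => simp
        | add x y hx hy => rw [map_add, map_add, hx, hy, add_zero]
        | tmul l₀ ω =>
          rw [ha₀, KaehlerDifferential.mapBaseChange_tmul, map_smul, lift_map_eq_zero, smul_zero]
      rw [this, map_zero, mul_zero]
  let gen : Fin r → L ⊗[L₀] Ω[L₀⁄ℤ] := fun i =>
    (1 : L) ⊗ₜ[L₀] KaehlerDifferential.D ℤ L₀ (algebraMap BB L₀ (X i))
  have hθgen : ∀ v : Fin r → L, θ (∑ i, v i • gen i) = v := by
    intro v
    funext j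
    rw [map_sum, Finset.sum_apply]
    rw [Finset.sum_eq_single j]
    · rw [map_smul, Pi.smul_apply, hθ, Derivation.liftKaehlerDifferential_comp_D]
      change v j • (1 * algebraMap L₀ L (d' j (algebraMap BB L₀ (X j)))) = v j
      rw [hd', pderiv_X_self, map_one, map_one, one_mul, smul_eq_mul, mul_one]
    · intro i _ hij
      rw [map_smul, Pi.smul_apply, hθ, Derivation.liftKaehlerDifferential_comp_D]
      change v i • (1 * algebraMap L₀ L (d' j (algebraMap BB L₀ (X i)))) = 0
      rw [hd', pderiv_X_of_ne hij, map_zero, map_zero, mul_zero, smul_zero]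
    · intro h; exact absurd (Finset.mem_univ j) h
  have hθs : Function.Surjective θ := fun v => ⟨_, hθgen v⟩
  -- the kernel of `θ`
  have hQ : ∀ η : Ω[L₀⁄ℤ], ∃ (z : L₀ ⊗[k] Ω[k⁄ℤ]) (c : Fin r → L₀),
      η = a₀ z + ∑ i, c i • KaehlerDifferential.D ℤ L₀ (algebraMap BB L₀ (X i)) := by
    intro η
    have h1 : KaehlerDifferential.map ℤ k L₀ L₀ η ∈ Submodule.span L₀ (Set.range fun i : Fin r =>
        KaehlerDifferential.D k L₀ (algebraMap BB L₀ (X i))) := by rw [hgen]; trivial
    obtain ⟨c, hc⟩ := (Submodule.mem_span_range_iff_exists_fun L₀).1 h1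
    have h2 : η - ∑ i, c i • KaehlerDifferential.D ℤ L₀ (algebraMap BB L₀ (X i)) ∈
        LinearMap.ker (KaehlerDifferential.map ℤ k L₀ L₀) := by
      rw [LinearMap.mem_ker, map_sub, map_sum, ← hc, sub_eq_zero]
      refine Finset.sum_congr rfl fun i _ => ?_
      rw [map_smul, KaehlerDifferential.map_D]
      rfl
    rw [← KaehlerDifferential.range_mapBaseChange] at h2
    obtain ⟨z, hz⟩ := h2
    exact ⟨z, c, by rw [ha₀, hz]; abel⟩
  have hP : ∀ y : L ⊗[L₀] Ω[L₀⁄ℤ], ∃ (x : L ⊗[L₀] (L₀ ⊗[k] Ω[k⁄ℤ])) (v : Fin r → L),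
      y = a x + ∑ i, v i • gen i := by
    intro y
    induction y using TensorProduct.induction_on with
    | zero => exact ⟨0, 0, by simp⟩
    | add y₁ y₂ h₁ h₂ =>
      obtain ⟨x₁, v₁, rfl⟩ := h₁
      obtain ⟨x₂, v₂, rfl⟩ := h₂
      refine ⟨x₁ + x₂, v₁ + v₂, ?_⟩
      simp only [map_add, Pi.add_apply, add_smul, Finset.sum_add_distrib]
      abel
    | tmul l η =>
      obtain ⟨z, c, rfl⟩ := hQ η
      refine ⟨l ⊗ₜ z, fun i => l * algebraMap L₀ L (c i), ?_⟩
      rw [TensorProduct.tmul_add, TensorProduct.tmul_sum, ha, LinearMap.baseChange_tmul]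
      congr 1
      refine Finset.sum_congr rfl fun i _ => ?_
      change l ⊗ₜ[L₀] (c i • KaehlerDifferential.D ℤ L₀ (algebraMap BB L₀ (X i))) =
        (l * algebraMap L₀ L (c i)) • ((1 : L) ⊗ₜ[L₀] KaehlerDifferential.D ℤ L₀ (algebraMap BB L₀ (X i)))
      rw [TensorProduct.tmul_smul, TensorProduct.smul_tmul', TensorProduct.smul_tmul', smul_eq_mul,
        mul_one, Algebra.smul_def, mul_comm]
  have hθk : LinearMap.ker θ ≤ LinearMap.range a := by
    intro y hy
    obtain ⟨x, v, rfl⟩ := hP y
    rw [LinearMap.mem_ker, map_add, hθa, zero_add, hθgen] at hy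
    rw [hy]
    simp only [Pi.zero_apply, zero_smul, Finset.sum_const_zero, add_zero]
    exact ⟨x, rfl⟩
  have hcount := rank_count_eq a hainj b (KaehlerDifferential.map ℤ k L L)
    (KaehlerDifferential.map_surjective ℤ k L)
    (by rw [hcomp, LinearMap.range_comp_of_range_eq_top _ (LinearEquiv.range e),
      KaehlerDifferential.range_mapBaseChange])
    (KaehlerDifferential.map ℤ L₀ L L) (KaehlerDifferential.map_surjective ℤ L₀ L)
    (KaehlerDifferential.range_mapBaseChange ℤ L₀ L).symm hfin r θ hθs hθa hθk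
  rw [← ek.rank_eq]
  exact hcount

end Main

end Groth.Agent.Helper7.CKd
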