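import Mathlib
import Groth.Agent.Helper7.CKh6
import Groth.Agent.Helper7.CKe3

/-!
# EGA 0_IV 21.9.x: Cartier's equality for the fraction field of a complete local domain over an
`F`-finite field, and finiteness of its differentials
-/

set_option autoImplicit false
set_option linter.unusedSectionVars false
universe u

namespace Groth.Agent.Helper7.CKd

open TensorProduct IsLocalRing MvPowerSeries Cardinal

theorem finite_kaehler_of_essFiniteType (k A B : Type*) [CommRing k] [CommRing A] [CommRing B]
    [Algebra k A] [Algebra A B] [Algebra k B] [IsScalarTower k A B] [Algebra.EssFiniteType A B]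
    [Module.Finite A (Ω[A⁄k])] : Module.Finite B (Ω[B⁄k]) := by
  set N := LinearMap.range (KaehlerDifferential.mapBaseChange k A B) with hN
  haveI : Module.Finite B N := Module.Finite.range _
  have hNk : N = LinearMap.ker (KaehlerDifferential.map k A B B) :=
    KaehlerDifferential.range_mapBaseChange k A B
  haveI : Module.Finite B ((Ω[B⁄k]) ⧸ N) :=
    Module.Finite.equiv ((Submodule.quotEquivOfEq _ _ hNk).trans
      (LinearMap.quotKerEquivOfSurjective _ (KaehlerDifferential.map_surjective k A B))).symm
  exact Module.Finite.of_submodule_quotient N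

theorem s5989 (p : ℕ) [Fact p.Prime]
    (k C L : Type u) [Field k] [CharP k p] (hk : (frobenius k p).Finite) [CommRing C] [IsDomain C]
    [IsNoetherianRing C] [IsLocalRing C] [Algebra k C] [IsAdicComplete (IsLocalRing.maximalIdeal C) C]
    [Module.Finite k (IsLocalRing.ResidueField C)] (n : ℕ) (hn : ringKrullDim C = n)
    [Field L] [Algebra C L] [IsFractionRing C L] [Algebra k L] [IsScalarTower k C L] :
    Module.finrank L (Ω[L⁄k]) =
        n + Module.finrank L (LinearMap.ker (KaehlerDifferential.mapBaseChange ℤ k L)) ∧
      Module.Finite C (Ω[C⁄k]) := by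
  obtain ⟨n', w, hinj, hloc, hfin⟩ := Groth.Agent.Helper7.CohenFin.s2460 (k₀ := k) (A := C)
  letI : Algebra (MvPowerSeries (Fin n') k) C := w.toRingHom.toAlgebra
  haveI : IsScalarTower k (MvPowerSeries (Fin n') k) C :=
    IsScalarTower.of_algebraMap_eq fun c => (w.commutes c).symm
  haveI : Module.Finite (MvPowerSeries (Fin n') k) C := hfin
  have hdim : ringKrullDim C = ((n' : ℕ) : WithBot ℕ∞) := by
    rw [Groth.Agent.Helper2.Dim.dim_eq_of_integral_injective w.toRingHom hfin.to_isIntegral hinj,
      Groth.Agent.Helper7.Cohen.ringKrullDim_mvPowerSeries_field, add_zero]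
  have hnn : n' = n := by
    rw [hdim] at hn
    exact_mod_cast hn
  subst hnn
  letI : Algebra (MvPowerSeries (Fin n') k) L :=
    ((algebraMap C L).comp (algebraMap (MvPowerSeries (Fin n') k) C)).toAlgebra
  haveI : IsScalarTower (MvPowerSeries (Fin n') k) C L :=
    IsScalarTower.of_algebraMap_eq fun _ => rfl
  haveI : IsScalarTower k (MvPowerSeries (Fin n') k) L := IsScalarTower.of_algebraMap_eq fun c => by
    rw [IsScalarTower.algebraMap_apply (MvPowerSeries (Fin n') k) C L,
      ← IsScalarTower.algebraMap_apply k (MvPowerSeries (Fin n') k) C,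
      ← IsScalarTower.algebraMap_apply k C L]
  have hinjL : Function.Injective (algebraMap (MvPowerSeries (Fin n') k) L) :=
    (IsFractionRing.injective C L).comp hinj
  letI : Algebra (FractionRing (MvPowerSeries (Fin n') k)) L :=
    (IsFractionRing.lift hinjL).toAlgebra
  haveI : IsScalarTower (MvPowerSeries (Fin n') k) (FractionRing (MvPowerSeries (Fin n') k)) L :=
    IsScalarTower.of_algebraMap_eq fun x => (IsFractionRing.lift_algebraMap hinjL x).symm
  haveI : IsScalarTower k (FractionRing (MvPowerSeries (Fin n') k)) L :=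
    IsScalarTower.of_algebraMap_eq fun c => by
      rw [IsScalarTower.algebraMap_apply k (MvPowerSeries (Fin n') k)
        (FractionRing (MvPowerSeries (Fin n') k)),
        ← IsScalarTower.algebraMap_apply (MvPowerSeries (Fin n') k)
          (FractionRing (MvPowerSeries (Fin n') k)) L,
        ← IsScalarTower.algebraMap_apply k (MvPowerSeries (Fin n') k) L]
  haveI : Algebra.EssFiniteType C L := Algebra.EssFiniteType.of_isLocalization L (nonZeroDivisors C)
  haveI : Algebra.EssFiniteType (MvPowerSeries (Fin n') k) L :=
    Algebra.EssFiniteType.comp (MvPowerSeries (Fin n') k) C L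
  haveI : Algebra.EssFiniteType (FractionRing (MvPowerSeries (Fin n') k)) L :=
    Algebra.EssFiniteType.of_comp (MvPowerSeries (Fin n') k) (FractionRing (MvPowerSeries (Fin n') k)) L
  haveI : Algebra.IsAlgebraic (FractionRing (MvPowerSeries (Fin n') k)) L :=
    isAlgebraic_of_isFractionRing (MvPowerSeries (Fin n') k) C
      (FractionRing (MvPowerSeries (Fin n') k)) L
  have hfinΥ := (imperfection_count k n' (FractionRing (MvPowerSeries (Fin n') k)) L
    (Groth.Agent.S4551.result k n')).1
  have heq := imperfection_count_eq k n' (FractionRing (MvPowerSeries (Fin n') k)) L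
    (Groth.Agent.S4551.result k n')
    (span_D_X_fraction k p n' (FractionRing (MvPowerSeries (Fin n') k)) hk)
  refine ⟨?_, ?_⟩
  · haveI := hfinΥ
    rw [← Module.finrank_eq_rank L (LinearMap.ker (KaehlerDifferential.mapBaseChange ℤ k L))] at heq
    have h2 : Module.rank L (Ω[L⁄k]) = ((n' + Module.finrank L
        (LinearMap.ker (KaehlerDifferential.mapBaseChange ℤ k L)) : ℕ) : Cardinal.{u}) := by
      rw [← heq]; push_cast; rfl
    unfold Module.finrank
    rw [h2, Cardinal.toNat_natCast]
    rfl
  · haveI : Module.Finite (MvPowerSeries (Fin n') k) (Ω[MvPowerSeries (Fin n') k⁄k]) :=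
      finite_kaehler_mvPowerSeries p hk
    exact finite_kaehler_of_essFiniteType k (MvPowerSeries (Fin n') k) C

end Groth.Agent.Helper7.CKd
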