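import Mathlib

/-!
# A finite module over a Noetherian local ring which is formally projective is free
-/

set_option autoImplicit false
set_option linter.unusedSectionVars false
universe u

namespace Groth.Agent.Helper7.CKd

open TensorProduct IsLocalRing

section FormallyProjective

variable {R : Type u} [CommRing R] [IsLocalRing R] [IsNoetherianRing R]
  {M : Type u} [AddCommGroup M] [Module R M] [Module.Finite R M]

/-- an element of `I • ⊤` dies in `(R ⧸ I) ⊗ M` -/
theorem tmul_eq_zero_of_mem_smul (I : Ideal R) (x : M) (hx : x ∈ I • (⊤ : Submodule R M)) :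
    (1 : R ⧸ I) ⊗ₜ[R] x = 0 := by
  have h := TensorProduct.quotTensorEquivQuotSMul_mk_one_tmul (M := M) I x
  rw [(Submodule.Quotient.mk_eq_zero _).2 hx] at h
  exact (LinearEquiv.map_eq_zero_iff _).1 h

theorem mem_smul_of_tmul_eq_zero (I : Ideal R) (x : M) (hx : (1 : R ⧸ I) ⊗ₜ[R] x = 0) :
    x ∈ I • (⊤ : Submodule R M) := by
  have h := TensorProduct.quotTensorEquivQuotSMul_mk_one_tmul (M := M) I x
  rw [hx, map_zero] at h
  exact (Submodule.Quotient.mk_eq_zero _).1 h.symm

theorem free_of_forall_projective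
    (h : ∀ j : ℕ, Module.Projective (R ⧸ maximalIdeal R ^ j) ((R ⧸ maximalIdeal R ^ j) ⊗[R] M)) :
    Module.Free R M := by
  classical
  set 𝔫 := maximalIdeal R with h𝔫
  let b := Module.finBasis (ResidueField R) (ResidueField R ⊗[R] M)
  set r := Module.finrank (ResidueField R) (ResidueField R ⊗[R] M) with hr
  have hmk : Function.Surjective (TensorProduct.mk R (ResidueField R) M 1) :=
    TensorProduct.mk_surjective R M (ResidueField R) IsLocalRing.residue_surjective
  choose f hf using fun i => hmk (b i)
  have hspan : Submodule.span R (Set.range f) = ⊤ :=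
    IsLocalRing.span_eq_top_of_tmul_eq_basis f b hf
  -- minimality
  have hmin : ∀ c : Fin r → R, (∑ i, c i • f i) ∈ 𝔫 • (⊤ : Submodule R M) → ∀ i, c i ∈ 𝔫 := by
    intro c hc i
    have h1 : (1 : ResidueField R) ⊗ₜ[R] (∑ i, c i • f i) = 0 :=
      tmul_eq_zero_of_mem_smul 𝔫 _ hc
    rw [TensorProduct.tmul_sum] at h1
    have h2 : ∑ i, (residue R (c i)) • b i = 0 := by
      rw [← h1]
      refine Finset.sum_congr rfl fun i _ => ?_
      rw [← hf i]
      change residue R (c i) • ((1 : ResidueField R) ⊗ₜ[R] f i) = _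
      rw [TensorProduct.tmul_smul, TensorProduct.smul_tmul', TensorProduct.smul_tmul']
      congr 1
    have h3 := (Fintype.linearIndependent_iff.1 b.linearIndependent) _ h2 i
    exact (residue_eq_zero_iff _).1 h3
  -- the key claim
  have key : ∀ j : ℕ, 1 ≤ j → ∀ c : Fin r → R,
      (∑ i, c i • f i) ∈ 𝔫 ^ j • (⊤ : Submodule R M) → ∀ i, c i ∈ 𝔫 ^ j := by
    intro j hj c hc
    let Rj := R ⧸ 𝔫 ^ j
    let v : Fin r → Rj ⊗[R] M := fun i => (1 : Rj) ⊗ₜ[R] f i
    let φ : (Fin r → Rj) →ₗ[Rj] Rj ⊗[R] M := Fintype.linearCombination Rj v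
    have hφ : ∀ c' : Fin r → R, φ (fun i => Ideal.Quotient.mk (𝔫 ^ j) (c' i)) =
        (1 : Rj) ⊗ₜ[R] (∑ i, c' i • f i) := by
      intro c'
      rw [Fintype.linearCombination_apply, TensorProduct.tmul_sum]
      refine Finset.sum_congr rfl fun i _ => ?_
      change Ideal.Quotient.mk (𝔫 ^ j) (c' i) • ((1 : Rj) ⊗ₜ[R] f i) = _
      rw [TensorProduct.tmul_smul, TensorProduct.smul_tmul', TensorProduct.smul_tmul']
      congr 1
    have hφs : Function.Surjective φ := by
      rw [← LinearMap.range_eq_top, Fintype.range_linearCombination, eq_top_iff]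
      have h1 : ∀ m : M, (1 : Rj) ⊗ₜ[R] m ∈ Submodule.span Rj (Set.range v) := by
        intro m
        have hm : m ∈ Submodule.span R (Set.range f) := by rw [hspan]; trivial
        induction hm using Submodule.span_induction with
        | mem m hm =>
          obtain ⟨i, rfl⟩ := hm
          exact Submodule.subset_span ⟨i, rfl⟩
        | zero => rw [TensorProduct.tmul_zero]; exact Submodule.zero_mem _
        | add x y _ _ hx hy => rw [TensorProduct.tmul_add]; exact Submodule.add_mem _ hx hy
        | smul t x _ hx =>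
          have h2 : (1 : Rj) ⊗ₜ[R] (t • x) =
              Ideal.Quotient.mk (𝔫 ^ j) t • ((1 : Rj) ⊗ₜ[R] x) := by
            rw [TensorProduct.tmul_smul, TensorProduct.smul_tmul', TensorProduct.smul_tmul']
            congr 1
          rw [h2]
          exact Submodule.smul_mem _ _ hx
      rintro z -
      induction z using TensorProduct.induction_on with
      | zero => exact Submodule.zero_mem _
      | add x y hx hy => exact Submodule.add_mem _ hx hy
      | tmul a m =>
        have h3 : a ⊗ₜ[R] m = a • ((1 : Rj) ⊗ₜ[R] m) := by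
          rw [TensorProduct.smul_tmul', smul_eq_mul, mul_one]
        rw [h3]
        exact Submodule.smul_mem _ _ (h1 m)
    haveI := h j
    obtain ⟨s, hs⟩ := Module.projective_lifting_property φ LinearMap.id hφs
    set 𝔫j : Ideal Rj := 𝔫.map (Ideal.Quotient.mk (𝔫 ^ j)) with h𝔫j
    -- the kernel of `φ` lies in `𝔫j`
    have hK : ∀ c' : Fin r → Rj, φ c' = 0 → ∀ i, c' i ∈ 𝔫j := by
      intro c' hc' i
      choose c'' hc'' using fun i => Ideal.Quotient.mk_surjective (c' i)
      have h1 : c' = fun i => Ideal.Quotient.mk (𝔫 ^ j) (c'' i) := funext fun i => (hc'' i).symm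
      rw [h1, hφ] at hc'
      have h2 := mem_smul_of_tmul_eq_zero (𝔫 ^ j) _ hc'
      have h3 : 𝔫 ^ j • (⊤ : Submodule R M) ≤ 𝔫 • ⊤ :=
        Submodule.smul_mono_left (Ideal.pow_le_self (by omega))
      have h4 := hmin c'' (h3 h2) i
      rw [← hc'' i]
      exact Ideal.mem_map_of_mem _ h4
    -- the idempotent
    let g : (Fin r → Rj) →ₗ[Rj] (Fin r → Rj) := LinearMap.id - s ∘ₗ φ
    have hg1 : ∀ y i, g y i ∈ 𝔫j := by
      intro y
      apply hK
      change φ (y - s (φ y)) = 0
      rw [map_sub, ← LinearMap.comp_apply φ s, hs, LinearMap.id_apply, sub_self]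
    have hgg : ∀ y, g (g y) = g y := by
      intro y
      change g y - s (φ (g y)) = g y
      have : φ (g y) = 0 := by
        change φ (y - s (φ y)) = 0
        rw [map_sub, ← LinearMap.comp_apply φ s, hs, LinearMap.id_apply, sub_self]
      rw [this, map_zero, sub_zero]
    have hgm : ∀ m : ℕ, ∀ y i, g y i ∈ 𝔫j ^ m := by
      intro m
      induction m with
      | zero => intro y i; rw [pow_zero, Ideal.one_eq_top]; trivial
      | succ m ih =>
        intro y i
        rw [← hgg y, LinearMap.pi_apply_eq_sum_univ g (g y), Finset.sum_apply]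
        refine Ideal.sum_mem _ fun l _ => ?_
        rw [Pi.smul_apply, smul_eq_mul, pow_succ]
        exact Ideal.mul_mem_mul (ih y l) (hg1 _ i)
    have h𝔫jj : 𝔫j ^ j = ⊥ := by
      rw [h𝔫j, ← Ideal.map_pow, Ideal.map_quotient_self]
    have hg0 : ∀ y, g y = 0 := by
      intro y
      funext i
      have := hgm j y i
      rw [h𝔫jj] at this
      exact this
    have hφinj : Function.Injective φ := by
      rw [← LinearMap.ker_eq_bot, eq_bot_iff]
      intro y hy
      have h1 := hg0 y
      change y - s (φ y) = 0 at h1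
      rw [LinearMap.mem_ker.1 hy, map_zero, sub_zero] at h1
      rw [h1]
      exact Submodule.zero_mem _
    have h5 : φ (fun i => Ideal.Quotient.mk (𝔫 ^ j) (c i)) = 0 := by
      rw [hφ]
      exact tmul_eq_zero_of_mem_smul (𝔫 ^ j) _ hc
    have h6 := hφinj (h5.trans (map_zero φ).symm)
    intro i
    have := congrFun h6 i
    exact Ideal.Quotient.eq_zero_iff_mem.1 this
  -- linear independence
  have hli : LinearIndependent R f := by
    rw [Fintype.linearIndependent_iff]
    intro c hc i
    have h1 : ∀ j, c i ∈ 𝔫 ^ j := by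
      intro j
      rcases Nat.eq_zero_or_pos j with rfl | hj
      · rw [pow_zero, Ideal.one_eq_top]; trivial
      · exact key j hj c (by rw [hc]; exact Submodule.zero_mem _) i
    have h2 : c i ∈ ⨅ j, 𝔫 ^ j := by
      rw [Ideal.mem_iInf]; exact h1
    rw [Ideal.iInf_pow_eq_bot_of_isLocalRing 𝔫 (Ideal.IsPrime.ne_top inferInstance)] at h2
    exact h2
  exact Module.Free.of_basis (Module.Basis.mk hli hspan.ge)

end FormallyProjective

end Groth.Agent.Helper7.CKd
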