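import Mathlib
import Groth.Agent.Helper7.CKi1
import Groth.Agent.Helper7.CKh7
import Groth.Agent.S4544
import Groth.Agent.S4537
import Groth.Agent.Helper8.GeomReg13

/-!
# Differentials of a complete local algebra over an `F`-finite field: finiteness, and freeness
at geometrically regular points
-/

set_option autoImplicit false
set_option linter.unusedSectionVars false
universe u

namespace Groth.Agent.Helper7.CKd

open TensorProduct IsLocalRing MvPowerSeries

section Complete

variable {R : Type*} [CommRing R] (I : Ideal R) (N : Type*) [AddCommGroup N] [Module R N]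

/-- a finite module over a Noetherian adically complete ring is adically complete
(same proof as `Groth.Agent.Helper1.isAdicComplete_of_finite`, restated to avoid a heavy import) -/
theorem isAdicComplete_of_finite' [IsNoetherianRing R] [IsAdicComplete I R] [Module.Finite R N] :
    IsAdicComplete I N := by
  haveI : IsHausdorff I N := IsHausdorff.of_le_jacobson I N (IsAdicComplete.le_jacobson_bot I)
  rw [isAdicComplete_iff]
  refine ⟨inferInstance, ?_⟩
  rw [← AdicCompletion.of_surjective_iff]
  intro y
  obtain ⟨t, rfl⟩ := AdicCompletion.ofTensorProduct_surjective_of_finite I N y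
  induction t using TensorProduct.induction_on with
  | zero => exact ⟨0, by simp⟩
  | tmul r x =>
    obtain ⟨a, rfl⟩ := AdicCompletion.of_surjective I R r
    refine ⟨a • x, ?_⟩
    rw [AdicCompletion.ofTensorProduct_tmul]
    ext n
    rw [AdicCompletion.smul_eval]
    rfl
  | add s t hs ht =>
    obtain ⟨a, ha⟩ := hs
    obtain ⟨b, hb⟩ := ht
    exact ⟨a + b, by rw [map_add, map_add, ha, hb]⟩

end Complete

section Fin

variable (k A : Type u) [Field k] [CommRing A] [IsLocalRing A] [IsNoetherianRing A] [Algebra k A]
  [IsAdicComplete (maximalIdeal A) A] [Module.Finite k (ResidueField A)]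

/-- a complete local algebra with finite residue extension is finite over a power series ring -/
theorem exists_finite_algHom :
    ∃ (n : ℕ) (w : MvPowerSeries (Fin n) k →ₐ[k] A), w.toRingHom.Finite := by
  classical
  obtain ⟨s, hs, hcard⟩ := Ideal.exists_finset_card_eq_height_of_isNoetherianRing (maximalIdeal A)
  let x : Fin s.card → A := fun i => (s.equivFin.symm i : A)
  have hrange : Set.range x = (s : Set A) := by
    ext a
    constructor
    · rintro ⟨i, rfl⟩
      exact (s.equivFin.symm i).2
    · intro ha
      exact ⟨s.equivFin ⟨a, ha⟩, by simp [x]⟩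
  have hJmin : maximalIdeal A ∈ (Ideal.span (Set.range x)).minimalPrimes := by
    rw [hrange]; exact hs
  have hxm : ∀ i, x i ∈ maximalIdeal A := fun i => hJmin.1.2 (Ideal.subset_span ⟨i, rfl⟩)
  obtain ⟨w, hw⟩ := Groth.Agent.Helper7.PSEval.exists_algHom_X (k := k) (maximalIdeal A) x hxm
  have hwx : (fun i => w (MvPowerSeries.X i)) = x := funext hw
  exact ⟨s.card, w, Groth.Agent.Helper7.CohenFin.finite_of_minimal w (by rw [hwx]; exact hJmin)⟩

theorem finite_kaehler_of_frobenius_finite (p : ℕ) [Fact p.Prime] [CharP k p]
    (hk : (frobenius k p).Finite) : Module.Finite A (Ω[A⁄k]) := by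
  obtain ⟨n, w, hfin⟩ := exists_finite_algHom k A
  letI : Algebra (MvPowerSeries (Fin n) k) A := w.toRingHom.toAlgebra
  haveI : IsScalarTower k (MvPowerSeries (Fin n) k) A :=
    IsScalarTower.of_algebraMap_eq fun c => (w.commutes c).symm
  haveI : Module.Finite (MvPowerSeries (Fin n) k) A := hfin
  haveI : Module.Finite (MvPowerSeries (Fin n) k) (Ω[MvPowerSeries (Fin n) k⁄k]) :=
    finite_kaehler_mvPowerSeries p hk
  exact finite_kaehler_of_essFiniteType k (MvPowerSeries (Fin n) k) A

end Fin

section Free

variable (k R : Type u) [Field k] [CommRing R] [IsLocalRing R] [IsNoetherianRing R] [Algebra k R]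

/-- the differentials of a geometrically regular local algebra are free, if finite -/
theorem free_kaehler_of_geomReg (p : ℕ) [ExpChar k p] (hR : CAlg.IsGeometricallyRegular k R)
    [Module.Finite R (Ω[R⁄k])] : Module.Free R (Ω[R⁄k]) := by
  have hadic : CAlgX.IsAdicFormallySmooth k R (maximalIdeal R) :=
    (Groth.Agent.Helper8.GeomReg.s4573 p).2 (fun k' _ _ hfin _ => hR k' hfin)
  have hadic' := (Groth.Agent.S4537.result (maximalIdeal R)).1 hadic
  apply free_of_forall_projective
  intro j
  exact Groth.Agent.S4544.result ⊥ (maximalIdeal R)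
    ⟨1, by rw [pow_one, Ideal.map_bot]; exact bot_le⟩ hadic' (maximalIdeal R ^ j) ⟨j, le_rfl⟩

end Free

end Groth.Agent.Helper7.CKd
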