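import Mathlib
import Groth.Agent.Helper7.CKi2
import Groth.Agent.Helper7.CKe6
import Groth.Agent.S5989
import Groth.Agent.S2471

/-!
# The rank of the differentials at a geometrically regular point (`F`-finite base field)
-/

set_option autoImplicit false
set_option linter.unusedSectionVars false
universe u

namespace Groth.Agent.Helper7.CKd

open TensorProduct IsLocalRing

section Ker

variable {A : Type*} [CommRing A] (P q : Ideal A) [P.IsPrime] [q.IsPrime]

/-- if `A_P` is a domain, the kernel of `A → A_P` is the minimal prime below `P` -/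
theorem ker_algebraMap_atPrime [IsDomain (Localization.AtPrime P)]
    (hq : q ∈ minimalPrimes A) (hqP : q ≤ P) :
    RingHom.ker (algebraMap A (Localization.AtPrime P)) = q := by
  set K₀ := RingHom.ker (algebraMap A (Localization.AtPrime P)) with hK₀
  haveI : K₀.IsPrime := RingHom.ker_isPrime _
  have hK₀q : K₀ ≤ q := by
    intro a ha
    rw [hK₀, RingHom.mem_ker, IsLocalization.map_eq_zero_iff P.primeCompl] at ha
    obtain ⟨t, ht⟩ := ha
    rcases (inferInstance : q.IsPrime).mem_or_mem (ht ▸ q.zero_mem : (t : A) * a ∈ q) with h | h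
    · exact absurd (hqP h) t.2
    · exact h
  exact le_antisymm hK₀q (hq.2 ⟨inferInstance, bot_le⟩ hK₀q)

end Ker

section Transfer

variable (k A : Type u) [Field k] [CommRing A] [IsLocalRing A] [IsNoetherianRing A] [Algebra k A]
  [IsAdicComplete (maximalIdeal A) A] (P : Ideal A) [P.IsPrime]

/-- when the differentials are a finite module, the localized completed differentials are the
differentials of the localization -/
theorem nonempty_equiv_kaehler_localization [Module.Finite A (Ω[A⁄k])] :
    Nonempty (LocalizedModule P.primeCompl (AdicCompletion (maximalIdeal A) (Ω[A⁄k]))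
      ≃ₗ[Localization.AtPrime P] Ω[Localization.AtPrime P⁄k]) := by
  haveI : IsAdicComplete (maximalIdeal A) (Ω[A⁄k]) := isAdicComplete_of_finite' _ _
  let e₀ : Ω[A⁄k] ≃ₗ[A] AdicCompletion (maximalIdeal A) (Ω[A⁄k]) :=
    AdicCompletion.ofLinearEquiv (maximalIdeal A) (Ω[A⁄k])
  let f : Ω[A⁄k] →ₗ[A] Ω[Localization.AtPrime P⁄k] :=
    KaehlerDifferential.map k k A (Localization.AtPrime P)
  haveI : IsLocalizedModule P.primeCompl f :=
    KaehlerDifferential.isLocalizedModule_map k A (Localization.AtPrime P) P.primeCompl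
  let f' : AdicCompletion (maximalIdeal A) (Ω[A⁄k]) →ₗ[A] Ω[Localization.AtPrime P⁄k] :=
    f ∘ₗ e₀.symm.toLinearMap
  haveI : IsLocalizedModule P.primeCompl f' := IsLocalizedModule.of_linearEquiv_right _ _ _
  let E₀ := IsLocalizedModule.iso P.primeCompl f'
  exact ⟨LinearEquiv.extendScalarsOfIsLocalization P.primeCompl (Localization.AtPrime P) E₀⟩

end Transfer

section Rank

variable (k A : Type u) [Field k] [CommRing A] [IsLocalRing A] [IsNoetherianRing A] [Algebra k A]
  [IsAdicComplete (maximalIdeal A) A] [Module.Finite k (ResidueField A)]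
  (P : Ideal A) [P.IsPrime]

/-- a geometrically regular local ring is a regular local ring -/
theorem isRegularLocalRing_of_geomReg {R : Type u} [CommRing R] [IsLocalRing R] [Algebra k R]
    (hR : CAlg.IsGeometricallyRegular k R) : IsRegularLocalRing R := by
  haveI : IsRegularRing (k ⊗[k] R) := hR k (Module.Finite.self k)
  haveI : IsRegularRing R :=
    IsRegularRing.of_ringEquiv (Algebra.TensorProduct.lid k R).toRingEquiv
  exact IsRegularLocalRing.of_isRegularRing_of_isLocalRing R

/-- a field which is geometrically regular over `k` has trivial imperfection module -/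
theorem ker_mapBaseChange_eq_bot_of_geomReg (p : ℕ) [ExpChar k p] (L : Type u) [Field L]
    [Algebra k L] (hL : CAlg.IsGeometricallyRegular k L) :
    LinearMap.ker (KaehlerDifferential.mapBaseChange ℤ k L) = ⊥ := by
  have hadic : CAlgX.IsAdicFormallySmooth k L (maximalIdeal L) :=
    (Groth.Agent.Helper8.GeomReg.s4573 p).2 (fun k' _ _ hfin _ => hL k' hfin)
  have h1 := ((Groth.Agent.S2471.result (k := k) (A := L)).1 hadic).2
  rw [LinearMap.ker_eq_bot]
  exact (Module.FaithfullyFlat.lTensor_injective_iff_injective L (ResidueField L) _).1 h1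

theorem finrank_kaehler_localization (p : ℕ) [Fact p.Prime] [CharP k p]
    (hk : (frobenius k p).Finite)
    (hP : CAlg.IsGeometricallyRegular k (Localization.AtPrime P))
    (q : Ideal A) (hq : q ∈ minimalPrimes A) (hqP : q ≤ P) (n : ℕ) (hn : ringKrullDim (A ⧸ q) = n)
    [Module.Free (Localization.AtPrime P) (Ω[Localization.AtPrime P⁄k])]
    [Module.Finite (Localization.AtPrime P) (Ω[Localization.AtPrime P⁄k])] :
    Module.finrank (Localization.AtPrime P) (Ω[Localization.AtPrime P⁄k]) = n := by
  haveI : q.IsPrime := Ideal.IsMinimalPrime.isPrime hq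
  haveI := isRegularLocalRing_of_geomReg k hP
  haveI : IsDomain (Localization.AtPrime P) :=
    Groth.Agent.Lead.RegLocal.isDomain_of_isRegularLocalRing _
  set R := Localization.AtPrime P with hR
  let L := FractionRing R
  have hker := ker_algebraMap_atPrime P q hq hqP
  let φ : A ⧸ q →+* R := Ideal.Quotient.lift q (algebraMap A R) (fun a ha => by
    rw [← RingHom.mem_ker, hker]; exact ha)
  have hφ : ∀ a, φ (Ideal.Quotient.mk q a) = algebraMap A R a := fun a => rfl
  have hφinj : Function.Injective φ := by
    rw [injective_iff_map_eq_zero]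
    intro x hx
    obtain ⟨a, rfl⟩ := Ideal.Quotient.mk_surjective x
    rw [hφ, ← RingHom.mem_ker, hker] at hx
    exact Ideal.Quotient.eq_zero_iff_mem.2 hx
  letI : Algebra (A ⧸ q) L := ((algebraMap R L).comp φ).toAlgebra
  have halg : ∀ x, algebraMap (A ⧸ q) L x = algebraMap R L (φ x) := fun x => rfl
  haveI : IsScalarTower k (A ⧸ q) L := IsScalarTower.of_algebraMap_eq fun c => by
    rw [halg, IsScalarTower.algebraMap_apply k A (A ⧸ q)]
    change _ = algebraMap R L (φ (Ideal.Quotient.mk q (algebraMap k A c)))
    rw [hφ, ← IsScalarTower.algebraMap_apply k A R, ← IsScalarTower.algebraMap_apply k R L]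
  haveI : FaithfulSMul (A ⧸ q) L := (faithfulSMul_iff_algebraMap_injective _ _).2
    ((IsFractionRing.injective R L).comp hφinj)
  haveI : IsFractionRing (A ⧸ q) L := by
    apply IsFractionRing.of_field
    intro z
    obtain ⟨r₁, r₂, hr₂, rfl⟩ := IsFractionRing.div_surjective (A := R) z
    obtain ⟨a₁, s₁, rfl⟩ := IsLocalization.exists_mk'_eq P.primeCompl r₁
    obtain ⟨a₂, s₂, rfl⟩ := IsLocalization.exists_mk'_eq P.primeCompl r₂
    refine ⟨Ideal.Quotient.mk q (a₁ * s₂), Ideal.Quotient.mk q (a₂ * s₁), ?_⟩
    rw [halg, halg, hφ, hφ, map_mul, map_mul, map_mul, map_mul]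
    have hs₁ : algebraMap R L (algebraMap A R s₁) ≠ 0 := by
      rw [Ne, map_eq_zero_iff _ (IsFractionRing.injective R L)]
      exact (IsLocalization.map_units R s₁).ne_zero
    have hs₂ : algebraMap R L (algebraMap A R s₂) ≠ 0 := by
      rw [Ne, map_eq_zero_iff _ (IsFractionRing.injective R L)]
      exact (IsLocalization.map_units R s₂).ne_zero
    have h1 : algebraMap R L (algebraMap A R a₁) =
        algebraMap R L (IsLocalization.mk' R a₁ s₁) * algebraMap R L (algebraMap A R s₁) := by
      rw [← map_mul, IsLocalization.mk'_spec]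
    have h2 : algebraMap R L (algebraMap A R a₂) =
        algebraMap R L (IsLocalization.mk' R a₂ s₂) * algebraMap R L (algebraMap A R s₂) := by
      rw [← map_mul, IsLocalization.mk'_spec]
    have h3 : algebraMap R L (IsLocalization.mk' R a₂ s₂) ≠ 0 := by
      rw [Ne, map_eq_zero_iff _ (IsFractionRing.injective R L)]
      exact nonZeroDivisors.ne_zero hr₂
    rw [h1, h2]
    generalize algebraMap R L (IsLocalization.mk' R a₁ s₁) = u₁ at *
    generalize algebraMap R L (IsLocalization.mk' R a₂ s₂) = u₂ at *
    generalize algebraMap R L (algebraMap A R s₁) = t₁ at *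
    generalize algebraMap R L (algebraMap A R s₂) = t₂ at *
    rw [div_eq_div_iff h3 (mul_ne_zero (mul_ne_zero h3 hs₂) hs₁)]
    ring
  -- the quotient
  haveI : IsLocalRing (A ⧸ q) :=
    IsLocalRing.of_surjective' (Ideal.Quotient.mk q) Ideal.Quotient.mk_surjective
  haveI : IsAdicComplete (maximalIdeal (A ⧸ q)) (A ⧸ q) :=
    Groth.Agent.Helper7.Cohen.isAdicComplete_quotient q
  haveI : Module.Finite k (ResidueField (A ⧸ q)) :=
    finite_residueField_of_surjective k A (A ⧸ q) (Ideal.Quotient.mkₐ k q)
      (Ideal.Quotient.mkₐ_surjective k q)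
  have h5989 := (Groth.Agent.S5989.result p k (A ⧸ q) L hk n hn).1
  have hLreg : CAlg.IsGeometricallyRegular k L :=
    Groth.Agent.Helper8.GeomReg.geomReg_localization hP (nonZeroDivisors R) L
  rw [ker_mapBaseChange_eq_bot_of_geomReg k p L hLreg, finrank_bot, add_zero] at h5989
  -- base change to the fraction field
  haveI : Algebra.FormallyEtale R L := Algebra.FormallyEtale.of_isLocalization (nonZeroDivisors R)
  have hbc := KaehlerDifferential.isBaseChange_of_formallyEtale k R L
  rw [← h5989, ← hbc.equiv.finrank_eq, Module.finrank_baseChange]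

end Rank

end Groth.Agent.Helper7.CKd
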