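import Mathlib
import Groth.Agent.Helper7.CKi3

/-!
# EGA 0_IV 22.7.x in positive characteristic: the localized completed differentials at a
geometrically regular point are free of rank the dimension of the component
-/

set_option autoImplicit false
set_option linter.unusedSectionVars false
universe u

namespace Groth.Agent.Helper7.CKd

open TensorProduct IsLocalRing

theorem s5074_charP (p : ℕ) [Fact p.Prime] (k A : Type u) [Field k] [CharP k p]
    (hk : (frobenius k p).Finite) [CommRing A] [IsLocalRing A] [IsNoetherianRing A] [Algebra k A]
    [IsAdicComplete (IsLocalRing.maximalIdeal A) A] [Module.Finite k (IsLocalRing.ResidueField A)]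
    (P : Ideal A) [P.IsPrime] (hP : CAlg.IsGeometricallyRegular k (Localization.AtPrime P))
    (q : Ideal A) (hq : q ∈ minimalPrimes A) (hqP : q ≤ P) (n : ℕ)
    (hn : ringKrullDim (A ⧸ q) = n) :
    Module.Free (Localization.AtPrime P) (LocalizedModule P.primeCompl
        (AdicCompletion (IsLocalRing.maximalIdeal A) (Ω[A⁄k]))) ∧
      Module.finrank (Localization.AtPrime P) (LocalizedModule P.primeCompl
        (AdicCompletion (IsLocalRing.maximalIdeal A) (Ω[A⁄k]))) = n := by
  haveI : Module.Finite A (Ω[A⁄k]) := finite_kaehler_of_frobenius_finite k A p hk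
  haveI : IsLocalizedModule P.primeCompl (KaehlerDifferential.map k k A (Localization.AtPrime P)) :=
    KaehlerDifferential.isLocalizedModule_map k A (Localization.AtPrime P) P.primeCompl
  haveI : Module.Finite (Localization.AtPrime P) (Ω[Localization.AtPrime P⁄k]) :=
    Module.Finite.of_isLocalizedModule P.primeCompl
      (KaehlerDifferential.map k k A (Localization.AtPrime P))
  haveI : Module.Free (Localization.AtPrime P) (Ω[Localization.AtPrime P⁄k]) :=
    free_kaehler_of_geomReg k (Localization.AtPrime P) p hP
  obtain ⟨E⟩ := nonempty_equiv_kaehler_localization k A P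
  refine ⟨Module.Free.of_equiv E.symm, ?_⟩
  rw [E.finrank_eq]
  exact finrank_kaehler_localization k A P p hk hP q hq hqP n hn

end Groth.Agent.Helper7.CKd
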