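import Mathlib
import Groth.Agent.Helper7.CKe5

/-!
# The fibre of the completed differentials and a quotient: the conormal bound
-/

set_option autoImplicit false
set_option linter.unusedSectionVars false
universe u

namespace Groth.Agent.Helper7.CKd

open TensorProduct IsLocalRing

section Conormal

variable (k A : Type u) [Field k] [CommRing A] [IsLocalRing A] [IsNoetherianRing A] [Algebra k A]
  (R : Type u) [CommRing R] [IsLocalRing R] [IsNoetherianRing R] [Algebra k R] [Algebra A R]
  [IsScalarTower k A R]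
  (κ : Type u) [Field κ] [Algebra A κ] [Algebra R κ] [IsScalarTower A R κ] [Algebra k κ]
  [IsScalarTower k A κ]

theorem dhat_sub (a b : A) : dhat k A (a - b) = dhat k A a - dhat k A b := by
  unfold dhat; rw [map_sub, map_sub]

/-- the fibre of the completed differentials of `A` is bounded by that of a quotient `R` of `A`
plus the number of differentials needed to span those of the kernel -/
theorem finrank_fibre_le_add (hsurj : Function.Surjective (algebraMap A R))
    [Module.Finite A (AdicCompletion (maximalIdeal A) (Ω[A⁄k]))]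
    [Module.Finite R (AdicCompletion (maximalIdeal R) (Ω[R⁄k]))]
    (h : ℕ) (x : Fin h → A)
    (hx : ∀ y : A, algebraMap A R y = 0 → (1 : κ) ⊗ₜ[A] dhat k A y ∈
      Submodule.span κ (Set.range fun i => (1 : κ) ⊗ₜ[A] dhat k A (x i))) :
    Module.finrank κ (κ ⊗[A] AdicCompletion (maximalIdeal A) (Ω[A⁄k])) ≤
      h + Module.finrank κ (κ ⊗[R] AdicCompletion (maximalIdeal R) (Ω[R⁄k])) := by
  classical
  set MA := AdicCompletion (maximalIdeal A) (Ω[A⁄k]) with hMA
  set MR := AdicCompletion (maximalIdeal R) (Ω[R⁄k]) with hMR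
  set W : Submodule κ (κ ⊗[A] MA) :=
    Submodule.span κ (Set.range fun i => (1 : κ) ⊗ₜ[A] dhat k A (x i)) with hW
  -- the map `ℓ'`
  let ℓ' : MA →ₗ[A] (κ ⊗[A] MA) ⧸ W :=
    (W.mkQ.restrictScalars A) ∘ₗ (TensorProduct.mk A κ MA 1)
  have hℓ' : ∀ ω, ℓ' ω = W.mkQ ((1 : κ) ⊗ₜ[A] ω) := fun _ => rfl
  let ℓ : A → (κ ⊗[A] MA) ⧸ W := fun a => ℓ' (dhat k A a)
  have hℓadd : ∀ a b, ℓ (a + b) = ℓ a + ℓ b := fun a b => by
    change ℓ' _ = ℓ' _ + ℓ' _
    rw [dhat_add, map_add]
  have hℓmul : ∀ a b, ℓ (a * b) = a • ℓ b + b • ℓ a := fun a b => by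
    change ℓ' _ = a • ℓ' _ + b • ℓ' _
    rw [dhat_mul, map_add, map_smul, map_smul]
  have hℓalg : ∀ c : k, ℓ (algebraMap k A c) = 0 := fun c => by
    change ℓ' _ = 0
    rw [dhat_algebraMap, map_zero]
  have hℓker : ∀ a, algebraMap A R a = 0 → ℓ a = 0 := fun a ha => by
    change W.mkQ _ = 0
    rw [Submodule.mkQ_apply, Submodule.Quotient.mk_eq_zero]
    exact hx a ha
  have hℓeq : ∀ a b, algebraMap A R a = algebraMap A R b → ℓ a = ℓ b := by
    intro a b hab
    have h1 : ℓ (a - b) = 0 := hℓker _ (by rw [map_sub, hab, sub_self])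
    have h2 : ℓ (a - b) = ℓ a - ℓ b := by
      change ℓ' _ = ℓ' _ - ℓ' _
      rw [dhat_sub, map_sub]
    rw [h2, sub_eq_zero] at h1
    exact h1
  let σ : R → A := Function.surjInv hsurj
  have hσ : ∀ r, algebraMap A R (σ r) = r := Function.surjInv_eq hsurj
  have hsmulAR : ∀ (a : A) (z : (κ ⊗[A] MA) ⧸ W), algebraMap A R a • z = a • z := by
    intro a z
    exact algebraMap_smul R a z
  let D : Derivation k R ((κ ⊗[A] MA) ⧸ W) :=
    { toFun := fun r => ℓ (σ r)
      map_add' := fun r r' => by
        rw [← hℓadd]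
        exact hℓeq _ _ (by rw [hσ, map_add, hσ, hσ])
      map_smul' := fun c r => by
        rw [RingHom.id_apply]
        have h1 : ℓ (σ (c • r)) = ℓ (algebraMap k A c * σ r) :=
          hℓeq _ _ (by rw [hσ, map_mul, hσ, ← IsScalarTower.algebraMap_apply, Algebra.smul_def])
        rw [h1, hℓmul, hℓalg, smul_zero, add_zero, algebraMap_smul]
      map_one_eq_zero' := by
        change ℓ (σ 1) = 0
        have h1 : ℓ (σ 1) = ℓ (algebraMap k A 1) :=
          hℓeq _ _ (by rw [hσ, map_one, map_one])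
        rw [h1, hℓalg]
      leibniz' := fun r r' => by
        change ℓ (σ (r * r')) = r • ℓ (σ r') + r' • ℓ (σ r)
        have h1 : ℓ (σ (r * r')) = ℓ (σ r * σ r') :=
          hℓeq _ _ (by rw [hσ, map_mul, hσ, hσ])
        rw [h1, hℓmul, ← hsmulAR (σ r), ← hsmulAR (σ r'), hσ, hσ] }
  have hD : ∀ a, D (algebraMap A R a) = ℓ a := fun a => hℓeq _ _ (hσ _)
  -- a finitely generated submodule containing the values
  obtain ⟨S₀, hS₀⟩ := (Module.Finite.fg_top : (⊤ : Submodule A MA).FG)
  let F : Submodule R ((κ ⊗[A] MA) ⧸ W) := Submodule.span R (ℓ' '' (S₀ : Set MA))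
  have hFfg : F.FG := Submodule.fg_span (S₀.finite_toSet.image _)
  have hF : ∀ ω : MA, ℓ' ω ∈ F := by
    intro ω
    have hω : ω ∈ Submodule.span A (S₀ : Set MA) := by rw [hS₀]; trivial
    induction hω using Submodule.span_induction with
    | mem y hy => exact Submodule.subset_span ⟨y, hy, rfl⟩
    | zero => rw [map_zero]; exact Submodule.zero_mem _
    | add x y _ _ hx hy => rw [map_add]; exact Submodule.add_mem _ hx hy
    | smul c x _ hx =>
      rw [map_smul, ← hsmulAR]
      exact Submodule.smul_mem _ _ hx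
  haveI : IsScalarTower k R ((κ ⊗[A] MA) ⧸ W) := IsScalarTower.of_algebraMap_smul fun c z => by
    rw [IsScalarTower.algebraMap_apply k A R, hsmulAR, algebraMap_smul]
  obtain ⟨φ, hφ⟩ := exists_lift_of_fg k R D F hFfg (fun r => hF _)
  let ψ : κ ⊗[R] MR →ₗ[κ] (κ ⊗[A] MA) ⧸ W := LinearMap.liftBaseChange κ φ
  have hψs : Function.Surjective ψ := by
    rw [← LinearMap.range_eq_top, eq_top_iff]
    have h1 : ∀ ω : MA, ℓ' ω ∈ LinearMap.range ψ := by
      intro ω
      have hω : ω ∈ Submodule.span A (Set.range (dhat k A)) := by rw [span_dhat]; trivial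
      induction hω using Submodule.span_induction with
      | mem y hy =>
        obtain ⟨a, rfl⟩ := hy
        refine ⟨(1 : κ) ⊗ₜ[R] dhat k R (algebraMap A R a), ?_⟩
        rw [LinearMap.liftBaseChange_tmul, one_smul, hφ, hD]
      | zero => rw [map_zero]; exact Submodule.zero_mem _
      | add x y _ _ hx hy => rw [map_add]; exact Submodule.add_mem _ hx hy
      | smul c x _ hx =>
        rw [map_smul, ← algebraMap_smul κ c]
        exact Submodule.smul_mem _ _ hx
    rintro z -
    obtain ⟨z, rfl⟩ := W.mkQ_surjective z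
    induction z using TensorProduct.induction_on with
    | zero => rw [map_zero]; exact Submodule.zero_mem _
    | add x y hx hy => rw [map_add]; exact Submodule.add_mem _ hx hy
    | tmul e ω =>
      have : e ⊗ₜ[A] ω = e • ((1 : κ) ⊗ₜ[A] ω) := by
        rw [TensorProduct.smul_tmul', smul_eq_mul, mul_one]
      rw [this, map_smul]
      exact Submodule.smul_mem _ _ (h1 ω)
  have h2 := LinearMap.finrank_le_finrank_of_surjective hψs
  have h3 := Submodule.finrank_quotient_add_finrank W
  have h4 : Module.finrank κ W ≤ h := by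
    have := finrank_range_le_card (R := κ) (fun i : Fin h => (1 : κ) ⊗ₜ[A] dhat k A (x i))
    rw [Fintype.card_fin] at this
    exact this
  change Module.finrank κ (κ ⊗[A] MA) ≤ h + Module.finrank κ (κ ⊗[R] MR)
  omega

end Conormal

end Groth.Agent.Helper7.CKd
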