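import Mathlib
import Groth.Agent.Helper7.CKf5
import Groth.Agent.Helper7.CKe4

/-!
# In characteristic zero the generic rank of the completed differentials of a complete local
domain is at most its dimension
-/

set_option autoImplicit false
set_option linter.unusedSectionVars false
universe u

namespace Groth.Agent.Helper7.CKd

open TensorProduct IsLocalRing MvPowerSeries

theorem finrank_generic_le_of_charZero (k C : Type u) [Field k] [CharZero k] [CommRing C]
    [IsDomain C] [IsLocalRing C] [IsNoetherianRing C] [Algebra k C]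
    [IsAdicComplete (maximalIdeal C) C] [Module.Finite k (ResidueField C)]
    (κ : Type u) [Field κ] [Algebra C κ] [IsFractionRing C κ] [Algebra k κ] [IsScalarTower k C κ]
    (d : ℕ) (hd : ringKrullDim C = d) :
    Module.finrank κ (κ ⊗[C] AdicCompletion (maximalIdeal C) (Ω[C⁄k])) ≤ d := by
  classical
  obtain ⟨n', w, hinj, hloc, hfin⟩ := Groth.Agent.Helper7.CohenFin.s2460 (k₀ := k) (A := C)
  letI : Algebra (MvPowerSeries (Fin n') k) C := w.toRingHom.toAlgebra
  haveI : IsScalarTower k (MvPowerSeries (Fin n') k) C :=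
    IsScalarTower.of_algebraMap_eq fun c => (w.commutes c).symm
  haveI : Module.Finite (MvPowerSeries (Fin n') k) C := hfin
  haveI : IsLocalHom (algebraMap (MvPowerSeries (Fin n') k) C) := hloc
  have hdim : ringKrullDim C = ((n' : ℕ) : WithBot ℕ∞) := by
    rw [Groth.Agent.Helper2.Dim.dim_eq_of_integral_injective w.toRingHom hfin.to_isIntegral hinj,
      Groth.Agent.Helper7.Cohen.ringKrullDim_mvPowerSeries_field, add_zero]
  have hnn : n' = d := by
    rw [hdim] at hd
    exact_mod_cast hd
  subst hnn
  letI : Algebra (MvPowerSeries (Fin n') k) κ :=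
    ((algebraMap C κ).comp (algebraMap (MvPowerSeries (Fin n') k) C)).toAlgebra
  haveI : IsScalarTower (MvPowerSeries (Fin n') k) C κ :=
    IsScalarTower.of_algebraMap_eq fun _ => rfl
  have hinjκ : Function.Injective (algebraMap (MvPowerSeries (Fin n') k) κ) :=
    (IsFractionRing.injective C κ).comp hinj
  haveI : IsDomain (MvPowerSeries (Fin n') k) := NoZeroDivisors.to_isDomain _
  letI : Algebra (FractionRing (MvPowerSeries (Fin n') k)) κ :=
    (IsFractionRing.lift hinjκ).toAlgebra
  haveI : IsScalarTower (MvPowerSeries (Fin n') k) (FractionRing (MvPowerSeries (Fin n') k)) κ :=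
    IsScalarTower.of_algebraMap_eq fun x => (IsFractionRing.lift_algebraMap hinjκ x).symm
  -- separability
  haveI : Algebra.IsAlgebraic (FractionRing (MvPowerSeries (Fin n') k)) κ :=
    isAlgebraic_of_isFractionRing (MvPowerSeries (Fin n') k) C
      (FractionRing (MvPowerSeries (Fin n') k)) κ
  haveI : CharZero (FractionRing (MvPowerSeries (Fin n') k)) :=
    charZero_of_injective_algebraMap (algebraMap k (FractionRing (MvPowerSeries (Fin n') k))).injective
  haveI : Algebra.IsSeparable (FractionRing (MvPowerSeries (Fin n') k)) κ :=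
    Algebra.IsAlgebraic.isSeparable_of_perfectField
  haveI : Algebra.FormallyUnramified (FractionRing (MvPowerSeries (Fin n') k)) κ :=
    Algebra.FormallyUnramified.of_isSeparable _ _
  haveI : Algebra.FormallyUnramified (MvPowerSeries (Fin n') k)
      (FractionRing (MvPowerSeries (Fin n') k)) :=
    Algebra.FormallyUnramified.of_isLocalization (nonZeroDivisors (MvPowerSeries (Fin n') k))
  haveI : Algebra.FormallyUnramified (MvPowerSeries (Fin n') k) κ :=
    Algebra.FormallyUnramified.comp (MvPowerSeries (Fin n') k)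
      (FractionRing (MvPowerSeries (Fin n') k)) κ
  haveI : Algebra.FormallyEtale C κ := Algebra.FormallyEtale.of_isLocalization (nonZeroDivisors C)
  have hbc := KaehlerDifferential.isBaseChange_of_formallyEtale (MvPowerSeries (Fin n') k) C κ
  haveI : Subsingleton (κ ⊗[C] Ω[C⁄MvPowerSeries (Fin n') k]) := hbc.equiv.subsingleton
  -- the completed differentials
  haveI : Module.Finite C (AdicCompletion (maximalIdeal C) (Ω[C⁄k])) :=
    Groth.Agent.Helper8.CKae.residue
  set MM := AdicCompletion (maximalIdeal C) (Ω[C⁄k]) with hMM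
  obtain ⟨φ, hφ⟩ := exists_phi k n' C
  have hsurj := phi_surjective k n' C φ hφ
  have hker := ker_phi_le k n' C (hloc_of_isLocalHom k n' C) φ hφ
  set N := Submodule.span C (Set.range (gen k n' C)) with hN
  -- `M ⧸ N` is a quotient of `Ω_{C/B}`
  let g₀ : (MM ⧸ LinearMap.ker φ) →ₗ[C] MM ⧸ N := (LinearMap.ker φ).liftQ N.mkQ (by
    intro y hy
    rw [Submodule.ker_mkQ]
    exact hker hy)
  let g : Ω[C⁄MvPowerSeries (Fin n') k] →ₗ[C] MM ⧸ N :=
    g₀ ∘ₗ (φ.quotKerEquivOfSurjective hsurj).symm.toLinearMap
  have hg : Function.Surjective g := by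
    intro z
    obtain ⟨y, rfl⟩ := N.mkQ_surjective z
    refine ⟨φ y, ?_⟩
    change g₀ ((φ.quotKerEquivOfSurjective hsurj).symm (φ y)) = _
    have : (φ.quotKerEquivOfSurjective hsurj).symm (φ y) = (LinearMap.ker φ).mkQ y := by
      rw [LinearEquiv.symm_apply_eq]
      rfl
    rw [this]
    rfl
  haveI : Subsingleton (κ ⊗[C] (MM ⧸ N)) :=
    (LinearMap.lTensor_surjective κ hg).subsingleton
  have htop : N.baseChange κ = ⊤ := (baseChange_eq_top_iff κ N).2 inferInstance
  rw [hN, Submodule.baseChange_span, ← Set.range_comp] at htop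
  have := finrank_range_le_card (R := κ) ((TensorProduct.mk C κ MM 1) ∘ gen k n' C)
  rw [Set.finrank, htop, finrank_top, Fintype.card_fin] at this
  exact this

end Groth.Agent.Helper7.CKd
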