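import Mathlib
import Groth.Agent.Helper7.CKi3

/-!
# Generators of the maximal ideal of a regular localization; a dimension inequality
-/

set_option autoImplicit false
set_option linter.unusedSectionVars false
universe u

namespace Groth.Agent.Helper7.CKd

open IsLocalRing

section Gens

variable {A : Type*} [CommRing A] [IsNoetherianRing A] (P : Ideal A) [P.IsPrime]

/-- if `A_P` is regular, `P A_P` is generated by `ht P` elements of `P`, in the sense that every
element of `P` is, up to an element outside `P`, a combination of them -/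
theorem exists_gens_of_regular (hreg : IsRegularLocalRing (Localization.AtPrime P)) :
    ∃ (h : ℕ) (x : Fin h → A), ((h : ℕ∞) : WithBot ℕ∞) = P.height ∧ (∀ i, x i ∈ P) ∧
      ∀ y ∈ P, ∃ s ∉ P, ∃ c : Fin h → A, s * y = ∑ i, c i * x i := by
  classical
  set R := Localization.AtPrime P with hR
  have hfg : (maximalIdeal R).FG := (inferInstance : IsNoetherianRing R).noetherian _
  set G := Submodule.generators (maximalIdeal R) with hG
  have hGfin : G.Finite := Submodule.FG.finite_generators hfg
  have hGspan : Submodule.span R G = maximalIdeal R := Submodule.span_generators _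
  have hGcard : G.ncard = (maximalIdeal R).spanFinrank := Submodule.FG.generators_ncard hfg
  let Gf := hGfin.toFinset
  let e := Gf.equivFin
  let g : Fin Gf.card → R := fun i => ((e.symm i : Gf) : R)
  have hgG : ∀ i, g i ∈ G := fun i => hGfin.mem_toFinset.1 (e.symm i).2
  have hGg : ∀ z ∈ G, ∃ i, g i = z := by
    intro z hz
    refine ⟨e ⟨z, hGfin.mem_toFinset.2 hz⟩, ?_⟩
    simp [g]
  have hgm : ∀ i, g i ∈ maximalIdeal R := fun i => by
    rw [← hGspan]; exact Submodule.subset_span (hgG i)
  choose as has using fun i => IsLocalization.surj P.primeCompl (g i)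
  let x : Fin Gf.card → A := fun i => (as i).1
  have hxP : ∀ i, x i ∈ P := by
    intro i
    have h1 : algebraMap A R (x i) ∈ maximalIdeal R := by
      rw [← has i]
      exact Ideal.mul_mem_right _ _ (hgm i)
    exact (IsLocalization.AtPrime.to_map_mem_maximal_iff R P (x i)).1 h1
  set I := Ideal.span (Set.range x) with hI
  have hImap : I.map (algebraMap A R) = maximalIdeal R := by
    apply le_antisymm
    · rw [Ideal.map_le_iff_le_comap, hI, Ideal.span_le]
      rintro _ ⟨i, rfl⟩
      exact (IsLocalization.AtPrime.to_map_mem_maximal_iff R P (x i)).2 (hxP i)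
    · rw [← hGspan]
      change Ideal.span G ≤ _
      rw [Ideal.span_le]
      intro z hz
      obtain ⟨i, rfl⟩ := hGg z hz
      have hu : IsUnit (algebraMap A R ((as i).2 : A)) := IsLocalization.map_units R (as i).2
      have h1 : algebraMap A R (x i) ∈ I.map (algebraMap A R) :=
        Ideal.mem_map_of_mem _ (Ideal.subset_span ⟨i, rfl⟩)
      rw [← has i] at h1
      exact (Ideal.mul_unit_mem_iff_mem _ hu).1 h1
  refine ⟨Gf.card, x, ?_, hxP, ?_⟩
  · rw [← IsLocalization.AtPrime.ringKrullDim_eq_height P R,
      ← hreg.spanFinrank_maximalIdeal, ← hGcard, Set.ncard_eq_toFinset_card G hGfin]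
    rfl
  · intro y hy
    have h1 : algebraMap A R y ∈ I.map (algebraMap A R) := by
      rw [hImap]
      exact (IsLocalization.AtPrime.to_map_mem_maximal_iff R P y).2 hy
    obtain ⟨⟨a, s⟩, hs⟩ := (IsLocalization.mem_map_algebraMap_iff P.primeCompl R).1 h1
    rw [← map_mul] at hs
    obtain ⟨t, ht⟩ := (IsLocalization.eq_iff_exists P.primeCompl R).1 hs
    have h2 : (t : A) * (a : A) ∈ I := Ideal.mul_mem_left _ _ a.2
    obtain ⟨c, hc⟩ := Ideal.mem_span_range_iff_exists_fun.1 h2
    refine ⟨(t : A) * (s : A), ?_, c, ?_⟩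
    · exact fun h => (P.primeCompl.mul_mem t.2 s.2) h
    · rw [hc, ← ht]; ring

end Gens

section Dim

variable {A : Type*} [CommRing A] (P q : Ideal A) [P.IsPrime] [q.IsPrime]

/-- if every prime below `P` contains `q`, then `ht P + dim A/P ≤ dim A/q` -/
theorem height_add_dim_le (hle : ∀ y : PrimeSpectrum A, y.asIdeal ≤ P → q ≤ y.asIdeal)
    (hqP : q ≤ P) :
    ((P.height : ℕ∞) : WithBot ℕ∞) + ringKrullDim (A ⧸ P) ≤ ringKrullDim (A ⧸ q) := by
  rw [ringKrullDim_quotient q, ringKrullDim_quotient P]
  set Z := PrimeSpectrum.zeroLocus (q : Set A) with hZ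
  set ZP := PrimeSpectrum.zeroLocus (P : Set A) with hZP
  let x₀ : PrimeSpectrum A := ⟨P, inferInstance⟩
  let z₀ : Z := ⟨x₀, by rw [hZ, PrimeSpectrum.mem_zeroLocus]; exact hqP⟩
  haveI : Nonempty Z := ⟨z₀⟩
  have h1 : Order.height x₀ ≤ Order.height z₀ := by
    apply Order.height_le
    intro p hp
    have hmem : ∀ i, p i ∈ Z := by
      intro i
      rw [hZ, PrimeSpectrum.mem_zeroLocus]
      apply hle
      have : p i ≤ p.last := p.monotone (Fin.le_last i)
      rw [hp] at this
      exact this
    let p' : LTSeries Z := LTSeries.mk p.length (fun i => ⟨p i, hmem i⟩)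
      (fun _ _ h => p.strictMono h)
    have hlast : p'.last = z₀ := Subtype.ext hp
    calc (p.length : ℕ∞) = p'.length := rfl
      _ ≤ Order.height p'.last := Order.length_le_height_last
      _ = Order.height z₀ := by rw [hlast]
  have h2 : Order.krullDim ZP ≤ ((Order.coheight z₀ : ℕ∞) : WithBot ℕ∞) := by
    unfold Order.krullDim
    apply iSup_le
    intro l
    have hmem : ∀ i, (l i : PrimeSpectrum A) ∈ Z := by
      intro i
      rw [hZ, PrimeSpectrum.mem_zeroLocus]
      have : (P : Set A) ⊆ ((l i : PrimeSpectrum A)).asIdeal :=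
        (PrimeSpectrum.mem_zeroLocus _ _).1 (l i).2
      exact le_trans hqP this
    let l' : LTSeries Z := LTSeries.mk l.length (fun i => ⟨(l i : PrimeSpectrum A), hmem i⟩)
      (fun _ _ h => l.strictMono h)
    have hhead : z₀ ≤ l'.head := by
      have : (P : Set A) ⊆ ((l 0 : PrimeSpectrum A)).asIdeal :=
        (PrimeSpectrum.mem_zeroLocus _ _).1 (l 0).2
      exact this
    have := Order.length_le_coheight hhead
    exact_mod_cast this
  have h3 : ((Order.height z₀ + Order.coheight z₀ : ℕ∞) : WithBot ℕ∞) ≤ Order.krullDim Z := by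
    rw [Order.krullDim_eq_iSup_height_add_coheight_of_nonempty]
    exact_mod_cast le_iSup (fun a : Z => Order.height a + Order.coheight a) z₀
  have h4 : P.height = Order.height x₀ := PrimeSpectrum.height_eq_orderHeight x₀
  calc ((P.height : ℕ∞) : WithBot ℕ∞) + Order.krullDim ZP
      ≤ ((Order.height z₀ : ℕ∞) : WithBot ℕ∞) + ((Order.coheight z₀ : ℕ∞) : WithBot ℕ∞) := by
        rw [h4]
        exact add_le_add (by exact_mod_cast h1) h2
    _ = ((Order.height z₀ + Order.coheight z₀ : ℕ∞) : WithBot ℕ∞) := by push_cast; rfl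
    _ ≤ Order.krullDim Z := h3

end Dim

end Groth.Agent.Helper7.CKd
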