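import Mathlib
import Groth.Agent.Helper7.CKf3
import Groth.Agent.Helper7.CKe4

/-!
# Generators of a localized module from a bound on the fibre dimension
-/

set_option autoImplicit false
set_option linter.unusedSectionVars false
universe u

namespace Groth.Agent.Helper7.CKd

open TensorProduct IsLocalRing

section Nak

variable {A : Type*} [CommRing A] (P : Ideal A) [P.IsPrime] {M : Type*} [AddCommGroup M]
  [Module A M] [Module.Finite A M]

/-- if the fibre at `P` has dimension at most `n`, the localization at `P` is generated by the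
images of `n` elements -/
theorem exists_span_of_finrank_fibre_le (n : ℕ)
    (hle : Module.finrank P.ResidueField (P.ResidueField ⊗[A] M) ≤ n) :
    ∃ g : Fin n → M, Submodule.span (Localization.AtPrime P)
      (Set.range fun j => LocalizedModule.mkLinearMap P.primeCompl M (g j)) = ⊤ := by
  classical
  set κ := P.ResidueField with hκ
  set t : Set (κ ⊗[A] M) := Set.range (TensorProduct.mk A κ M 1) with ht
  have htop : Submodule.span κ t = ⊤ := by
    rw [ht, ← Set.image_univ, ← Submodule.baseChange_span, Submodule.span_univ,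
      Submodule.baseChange_top]
  obtain ⟨b, hbt, hbspan, hbli⟩ := exists_linearIndependent κ t
  haveI : Finite b := hbli.finite
  haveI : Fintype b := Fintype.ofFinite b
  have hcard : Fintype.card b ≤ n := (hbli.fintype_card_le_finrank).trans hle
  let e := Fintype.equivFin b
  choose m hm using fun v : b => hbt v.2
  let g : Fin n → M := fun j =>
    if h : (j : ℕ) < Fintype.card b then m (e.symm ⟨j, h⟩) else 0
  have hg : ∀ v : b, ∃ j, g j = m v := by
    intro v
    refine ⟨⟨e v, lt_of_lt_of_le (e v).2 hcard⟩, ?_⟩
    change (if h : ((e v : Fin _) : ℕ) < Fintype.card b then m (e.symm ⟨_, h⟩) else 0) = m v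
    rw [dif_pos (e v).2]
    congr 1
    exact e.symm_apply_apply v
  set N := Submodule.span A (Set.range g) with hN
  have hNtop : N.baseChange κ = ⊤ := by
    rw [eq_top_iff, ← htop, ← hbspan, hN, Submodule.baseChange_span, Submodule.span_le]
    intro v hv
    obtain ⟨j, hj⟩ := hg ⟨v, hv⟩
    refine Submodule.subset_span ⟨g j, ⟨j, rfl⟩, ?_⟩
    rw [hj]
    exact hm ⟨v, hv⟩
  haveI : Subsingleton (κ ⊗[A] (M ⧸ N)) := (baseChange_eq_top_iff κ N).1 hNtop
  have hsupp : (⟨P, inferInstance⟩ : PrimeSpectrum A) ∉ Module.support A (M ⧸ N) := by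
    rw [Module.mem_support_iff_nontrivial_residueField_tensorProduct]
    exact not_nontrivial _
  rw [Module.notMem_support_iff'] at hsupp
  have hN' : ∀ x : M, ∃ r ∉ P, r • x ∈ N := by
    intro x
    obtain ⟨r, hr, hrx⟩ := hsupp (N.mkQ x)
    refine ⟨r, hr, ?_⟩
    rw [← map_smul, Submodule.mkQ_apply, Submodule.Quotient.mk_eq_zero] at hrx
    exact hrx
  have h1 := (span_image_mkLinearMap_eq_top_iff P N).2 hN'
  refine ⟨g, ?_⟩
  rw [← h1, ← Submodule.localized'_eq_span (Localization.AtPrime P) P.primeCompl
      (LocalizedModule.mkLinearMap P.primeCompl M) N, hN,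
    Submodule.localized'_span (Localization.AtPrime P) P.primeCompl
      (LocalizedModule.mkLinearMap P.primeCompl M), ← Set.range_comp]
  rfl

end Nak

end Groth.Agent.Helper7.CKd
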