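import Mathlib
import Groth.Agent.Helper7.CKi4
import Groth.Agent.Helper7.CKi5
import Groth.Agent.Helper7.CKi6
import Groth.Agent.Helper7.CKi7
import Groth.Agent.Helper7.CKi8
import Groth.Agent.Helper7.CKg2
import Groth.Agent.Helper7.CKf4

/-!
# EGA 0_IV 22.7.x: the localized completed differentials at a geometrically regular point
-/

set_option autoImplicit false
set_option linter.unusedSectionVars false
universe u

namespace Groth.Agent.Helper7.CKd

open TensorProduct IsLocalRing

theorem dhat_sum (k A : Type u) [Field k] [CommRing A] [IsLocalRing A] [Algebra k A]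
    {ι : Type*} (s : Finset ι) (f : ι → A) :
    dhat k A (∑ i ∈ s, f i) = ∑ i ∈ s, dhat k A (f i) := by
  unfold dhat; rw [map_sum, map_sum]

theorem s5074_charZero (k A : Type u) [Field k] [CharZero k] [CommRing A] [IsLocalRing A]
    [IsNoetherianRing A] [Algebra k A]
    [IsAdicComplete (IsLocalRing.maximalIdeal A) A] [Module.Finite k (IsLocalRing.ResidueField A)]
    (P : Ideal A) [P.IsPrime] (hP : CAlg.IsGeometricallyRegular k (Localization.AtPrime P))
    (q : Ideal A) (hq : q ∈ minimalPrimes A) (hqP : q ≤ P) (n : ℕ)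
    (hn : ringKrullDim (A ⧸ q) = n) :
    Module.Free (Localization.AtPrime P) (LocalizedModule P.primeCompl
        (AdicCompletion (IsLocalRing.maximalIdeal A) (Ω[A⁄k]))) ∧
      Module.finrank (Localization.AtPrime P) (LocalizedModule P.primeCompl
        (AdicCompletion (IsLocalRing.maximalIdeal A) (Ω[A⁄k]))) = n := by
  classical
  haveI : q.IsPrime := Ideal.IsMinimalPrime.isPrime hq
  have hreg := isRegularLocalRing_of_geomReg k hP
  haveI : IsDomain (Localization.AtPrime P) :=
    Groth.Agent.Lead.RegLocal.isDomain_of_isRegularLocalRing _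
  have hker := ker_algebraMap_atPrime P q hq hqP
  have hle : ∀ y : PrimeSpectrum A, y.asIdeal ≤ P → q ≤ y.asIdeal := by
    intro y hy a ha
    rw [← hker, RingHom.mem_ker, IsLocalization.map_eq_zero_iff P.primeCompl] at ha
    obtain ⟨t, ht⟩ := ha
    rcases y.isPrime.mem_or_mem (ht ▸ y.asIdeal.zero_mem : (t : A) * a ∈ y.asIdeal) with h | h
    · exact absurd (hy h) t.2
    · exact h
  obtain ⟨h, x, hh, hxP, hgen⟩ := exists_gens_of_regular P hreg
  have hdimle := height_add_dim_le P q hle hqP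
  rw [hn, ← hh] at hdimle
  -- the quotient `A ⧸ P`
  haveI : IsLocalRing (A ⧸ P) :=
    IsLocalRing.of_surjective' (Ideal.Quotient.mk P) Ideal.Quotient.mk_surjective
  haveI : IsAdicComplete (maximalIdeal (A ⧸ P)) (A ⧸ P) :=
    Groth.Agent.Helper7.Cohen.isAdicComplete_quotient P
  haveI : Module.Finite k (ResidueField (A ⧸ P)) :=
    finite_residueField_of_surjective k A (A ⧸ P) (Ideal.Quotient.mkₐ k P)
      (Ideal.Quotient.mkₐ_surjective k P)
  haveI : Module.Finite A (AdicCompletion (maximalIdeal A) (Ω[A⁄k])) :=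
    Groth.Agent.Helper8.CKae.residue
  haveI : Module.Finite (A ⧸ P) (AdicCompletion (maximalIdeal (A ⧸ P)) (Ω[(A ⧸ P)⁄k])) :=
    Groth.Agent.Helper8.CKae.residue
  -- the dimension of `A ⧸ P`
  obtain ⟨d, hd⟩ : ∃ d : ℕ, ringKrullDim (A ⧸ P) = d := by
    have h0 : ringKrullDim (A ⧸ P) ≠ ⊥ := ringKrullDim_ne_bot
    obtain ⟨m, hm⟩ := WithBot.ne_bot_iff_exists.1 h0
    rw [← hm] at hdimle
    have hm' : m ≠ ⊤ := by
      rintro rfl
      have : (((h : ℕ∞) + ⊤ : ℕ∞) : WithBot ℕ∞) ≤ ((n : ℕ∞) : WithBot ℕ∞) := by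
        exact_mod_cast hdimle
      rw [add_top] at this
      exact absurd (WithBot.coe_le_coe.1 this) (by simp)
    obtain ⟨d, rfl⟩ := ENat.ne_top_iff_exists.1 hm'
    exact ⟨d, hm.symm⟩
  have hhd : h + d ≤ n := by
    rw [hd] at hdimle
    exact_mod_cast hdimle
  -- the fibre bound
  set κ := P.ResidueField with hκ
  have hx : ∀ y : A, algebraMap A (A ⧸ P) y = 0 → (1 : κ) ⊗ₜ[A] dhat k A y ∈
      Submodule.span κ (Set.range fun i => (1 : κ) ⊗ₜ[A] dhat k A (x i)) := by
    intro y hy
    have hyP : y ∈ P := Ideal.Quotient.eq_zero_iff_mem.1 hy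
    obtain ⟨s, hs, c, hc⟩ := hgen y hyP
    have h1 := congrArg (fun z => (1 : κ) ⊗ₜ[A] dhat k A z) hc
    simp only [dhat_mul, dhat_sum, TensorProduct.tmul_add, TensorProduct.tmul_sum,
      TensorProduct.tmul_smul] at h1
    have hz : ∀ (a : A) (ω : κ ⊗[A] AdicCompletion (maximalIdeal A) (Ω[A⁄k])), a ∈ P →
        a • ω = 0 := by
      intro a ω ha
      rw [← algebraMap_smul κ a ω, (Ideal.algebraMap_residueField_eq_zero).2 ha, zero_smul]
    rw [hz y _ hyP, add_zero] at h1
    have h2 : ∀ i, x i • ((1 : κ) ⊗ₜ[A] dhat k A (c i)) = 0 := fun i => hz _ _ (hxP i)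
    simp only [h2, add_zero] at h1
    have hs0 : algebraMap A κ s ≠ 0 := by
      rw [Ne, Ideal.algebraMap_residueField_eq_zero]; exact hs
    have h3 : (1 : κ) ⊗ₜ[A] dhat k A y = (algebraMap A κ s)⁻¹ •
        (s • ((1 : κ) ⊗ₜ[A] dhat k A y)) := by
      rw [← algebraMap_smul κ s, smul_smul, inv_mul_cancel₀ hs0, one_smul]
    rw [h3, h1]
    refine Submodule.smul_mem _ _ (Submodule.sum_mem _ fun i _ => ?_)
    rw [← algebraMap_smul κ (c i)]
    exact Submodule.smul_mem _ _ (Submodule.subset_span ⟨i, rfl⟩)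
  have hfib := finrank_fibre_le_add k A (A ⧸ P) κ Ideal.Quotient.mk_surjective h x hx
  have hgenrank := finrank_generic_le_of_charZero k (A ⧸ P) κ d hd
  have hfibn : Module.finrank κ (κ ⊗[A] AdicCompletion (maximalIdeal A) (Ω[A⁄k])) ≤ n := by omega
  obtain ⟨g, hg⟩ := exists_span_of_finrank_fibre_le P n hfibn
  have hrank : n ≤ Module.finrank q.ResidueField (q.ResidueField ⊗[A]
      AdicCompletion (maximalIdeal A) (Ω[A⁄k])) := by
    have := s3847_finrank k A q q hq le_rfl
    rw [hn] at this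
    exact_mod_cast this
  exact free_of_span_of_le_finrank P q hq hqP n g hg hrank

theorem s5074 (p : ℕ) (k A : Type u) [Field k] [he : ExpChar k p]
    (hk : (frobenius k p).Finite) [CommRing A] [IsLocalRing A] [IsNoetherianRing A] [Algebra k A]
    [IsAdicComplete (IsLocalRing.maximalIdeal A) A] [Module.Finite k (IsLocalRing.ResidueField A)]
    (P : Ideal A) [P.IsPrime] (hP : CAlg.IsGeometricallyRegular k (Localization.AtPrime P))
    (q : Ideal A) (hq : q ∈ minimalPrimes A) (hqP : q ≤ P) (n : ℕ)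
    (hn : ringKrullDim (A ⧸ q) = n) :
    Module.Free (Localization.AtPrime P) (LocalizedModule P.primeCompl
        (AdicCompletion (IsLocalRing.maximalIdeal A) (Ω[A⁄k]))) ∧
      Module.finrank (Localization.AtPrime P) (LocalizedModule P.primeCompl
        (AdicCompletion (IsLocalRing.maximalIdeal A) (Ω[A⁄k]))) = n := by
  cases he with
  | zero => exact s5074_charZero k A P hP q hq hqP n hn
  | prime hprime =>
    haveI : Fact p.Prime := ⟨hprime⟩
    exact s5074_charP p k A hk P hP q hq hqP n hn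

end Groth.Agent.Helper7.CKd
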