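import Mathlib
import Groth.Agent.Helper8.GeomReg13
import Groth.Agent.Helper7.JacReg

/-!
# The Jacobian criterion, local form: quotient of an adically formally smooth local algebra
-/

set_option autoImplicit false
set_option linter.unusedSectionVars false
universe u

namespace Groth.Agent.Helper7.CKd

open IsLocalRing Groth.Agent.Helper8.GeomReg

/-- adic formal smoothness transfers along algebra isomorphisms -/
theorem adic_of_algEquiv {k S S' : Type u} [CommRing k] [CommRing S] [CommRing S'] [Algebra k S]
    [Algebra k S'] (e : S ≃ₐ[k] S') (𝔫 : Ideal S) (𝔫' : Ideal S') (h𝔫 : ∀ x ∈ 𝔫, e x ∈ 𝔫')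
    (h : CAlgX.IsAdicFormallySmooth k S 𝔫) : CAlgX.IsAdicFormallySmooth k S' 𝔫' := by
  intro A _ _ J hJ ψ hψ
  obtain ⟨n, hn⟩ := hψ
  have hle : 𝔫.map (e : S →+* S') ≤ 𝔫' := Ideal.map_le_iff_le_comap.2 fun x hx => h𝔫 x hx
  obtain ⟨χ, hχ⟩ := h A J hJ (ψ.comp e.toAlgHom) ⟨n, fun x hx => by
    change ψ (e x) = 0
    apply hn
    have h1 : (e : S →+* S') x ∈ (𝔫 ^ n).map (e : S →+* S') := Ideal.mem_map_of_mem _ hx
    rw [Ideal.map_pow] at h1
    exact Ideal.pow_right_mono hle n h1⟩
  refine ⟨χ.comp e.symm.toAlgHom, ?_⟩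
  rw [← AlgHom.comp_assoc, hχ]
  ext x
  change ψ (e (e.symm x)) = ψ x
  rw [AlgEquiv.apply_symm_apply]

section Descent

variable {R B : Type*} [CommRing R] [CommRing B] (π : R →+* B) (hπ : Function.Surjective π)
  {V : Type*} [AddCommGroup V] [Module R V] [Module B V]

include hπ in
/-- a derivation killing the kernel of a surjection descends -/
theorem exists_derivation_of_surjective (hsmul : ∀ (a : R) (v : V), π a • v = a • v)
    (D : Derivation ℤ R V) (hD : ∀ a, π a = 0 → D a = 0) :
    ∃ D' : Derivation ℤ B V, ∀ a, D' (π a) = D a := by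
  have heq : ∀ a b, π a = π b → D a = D b := by
    intro a b hab
    have h1 : D (a - b) = 0 := hD _ (by rw [map_sub, hab, sub_self])
    rw [map_sub, sub_eq_zero] at h1
    exact h1
  let σ : B → R := Function.surjInv hπ
  have hσ : ∀ b, π (σ b) = b := Function.surjInv_eq hπ
  let D₁ : B →+ V :=
    { toFun := fun b => D (σ b)
      map_zero' := by
        have : D (σ 0) = D 0 := heq _ _ (by rw [hσ, map_zero])
        rw [this, map_zero]
      map_add' := fun b b' => by
        have : D (σ (b + b')) = D (σ b + σ b') := heq _ _ (by rw [hσ, map_add, hσ, hσ])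
        rw [this, map_add] }
  refine ⟨{ toLinearMap := D₁.toIntLinearMap
            map_one_eq_zero' := ?_
            leibniz' := ?_ }, fun a => heq _ _ (hσ _)⟩
  · change D (σ 1) = 0
    have : D (σ 1) = D 1 := heq _ _ (by rw [hσ, map_one])
    rw [this, Derivation.map_one_eq_zero]
  · intro b b'
    change D (σ (b * b')) = b • D (σ b') + b' • D (σ b)
    have : D (σ (b * b')) = D (σ b * σ b') := heq _ _ (by rw [hσ, map_mul, hσ, hσ])
    rw [this, Derivation.leibniz, ← hsmul (σ b), ← hsmul (σ b'), hσ, hσ]

end Descent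

section Jac

variable {k R : Type u} [Field k] [CommRing R] [IsLocalRing R] [Algebra k R]

/-- derivations of `k` extend to the quotient by a sequence with invertible Jacobian matrix -/
theorem derExt_quotient (m : ℕ) (f : Fin m → R) (hf : ∀ i, f i ∈ maximalIdeal R)
    (D : Fin m → Derivation k R R)
    (hdet : IsUnit (Matrix.det (Matrix.of (fun i j : Fin m => D i (f j)))))
    (hR : DerExt k R (maximalIdeal R)) [IsLocalRing (R ⧸ Ideal.span (Set.range f))] :
    DerExt k (R ⧸ Ideal.span (Set.range f))
      (maximalIdeal (R ⧸ Ideal.span (Set.range f))) := by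
  classical
  set I := Ideal.span (Set.range f) with hI
  have hIm : I ≤ maximalIdeal R := by
    rw [hI, Ideal.span_le]
    rintro _ ⟨i, rfl⟩
    exact hf i
  intro V _ _ _ _ hV δ
  letI : Module R V := Module.compHom V (Ideal.Quotient.mk I)
  have hsmul : ∀ (a : R) (v : V), Ideal.Quotient.mk I a • v = a • v := fun _ _ => rfl
  haveI : IsScalarTower k R V := ⟨fun c a v => by
    rw [← hsmul, ← hsmul, Algebra.smul_def, map_mul, mul_smul]
    have : Ideal.Quotient.mk I (algebraMap k R c) = algebraMap k (R ⧸ I) c := rfl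
    rw [this, algebraMap_smul]⟩
  haveI : IsLocalHom (Ideal.Quotient.mk I) :=
    IsLocalHom.of_surjective _ Ideal.Quotient.mk_surjective
  have hV' : ∀ a ∈ maximalIdeal R, ∀ v : V, a • v = 0 := by
    intro a ha v
    rw [← hsmul]
    apply hV
    rw [IsLocalRing.mem_maximalIdeal, mem_nonunits_iff] at ha ⊢
    exact fun hu => ha ((isUnit_map_iff (Ideal.Quotient.mk I) a).1 hu)
  obtain ⟨D₀, hD₀⟩ := hR V hV' δ
  set M : Matrix (Fin m) (Fin m) R := Matrix.of (fun i j : Fin m => D i (f j)) with hM
  set N : Matrix (Fin m) (Fin m) R := M⁻¹ with hN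
  have hNM : N * M = 1 := Matrix.nonsing_inv_mul M hdet
  let w : Fin m → V := fun j => D₀ (f j)
  let v : Fin m → V := fun i => ∑ j, N j i • w j
  let E : Fin m → Derivation ℤ R V := fun i =>
    (LinearMap.toSpanSingleton R V (v i)).compDer ((D i).restrictScalars ℤ)
  have hE : ∀ i a, E i a = D i a • v i := fun i a => rfl
  let D' : Derivation ℤ R V := D₀ - ∑ i, E i
  have hD'app : ∀ a, D' a = D₀ a - ∑ i, D i a • v i := by
    intro a
    change (D₀ - ∑ i, E i) a = _
    rw [Derivation.sub_apply]
    congr 1
    have h1 : (∑ i, E i) a = ∑ i, E i a := by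
      have := map_sum (Derivation.coeFnAddMonoidHom (R := ℤ) (A := R) (M := V)) E Finset.univ
      have h2 := congrFun this a
      rw [Finset.sum_apply] at h2
      exact h2
    rw [h1]
    rfl
  have hD'f : ∀ j, D' (f j) = 0 := by
    intro j
    rw [hD'app]
    have h1 : ∑ i, D i (f j) • v i = ∑ l, (N * M) l j • w l := by
      simp only [v, Finset.smul_sum, smul_smul]
      rw [Finset.sum_comm]
      refine Finset.sum_congr rfl fun l _ => ?_
      rw [← Finset.sum_smul]
      congr 1
      rw [Matrix.mul_apply]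
      refine Finset.sum_congr rfl fun i _ => ?_
      rw [mul_comm]
      rfl
    rw [h1, hNM]
    simp only [Matrix.one_apply, ite_smul, one_smul, zero_smul]
    rw [Finset.sum_ite_eq' Finset.univ j, if_pos (Finset.mem_univ j)]
    exact sub_self _
  have hD'k : ∀ c, D' (algebraMap k R c) = δ c := by
    intro c
    rw [hD'app, hD₀]
    simp only [Derivation.map_algebraMap, zero_smul, Finset.sum_const_zero, sub_zero]
  have hD'I : ∀ a, Ideal.Quotient.mk I a = 0 → D' a = 0 := by
    intro a ha
    rw [Ideal.Quotient.eq_zero_iff_mem, hI] at ha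
    induction ha using Submodule.span_induction with
    | mem x hx =>
      obtain ⟨j, rfl⟩ := hx
      exact hD'f j
    | zero => exact map_zero _
    | add x y _ _ hx hy => rw [map_add, hx, hy, add_zero]
    | smul c x hx' hx =>
      rw [smul_eq_mul, Derivation.leibniz, hx, smul_zero, zero_add]
      exact hV' x (hIm hx') _
  obtain ⟨D'', hD''⟩ := exists_derivation_of_surjective (Ideal.Quotient.mk I)
    Ideal.Quotient.mk_surjective hsmul D' hD'I
  refine ⟨D'', fun c => ?_⟩
  have : algebraMap k (R ⧸ I) c = Ideal.Quotient.mk I (algebraMap k R c) := rfl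
  rw [this, hD'', hD'k]

/-- **Jacobian criterion, local form**: the quotient of an adically formally smooth noetherian
local `k`-algebra by elements with an invertible Jacobian matrix is adically formally smooth -/
theorem adic_quotient_of_det [IsNoetherianRing R]
    (hR : CAlgX.IsAdicFormallySmooth k R (maximalIdeal R))
    (m : ℕ) (f : Fin m → R) (hf : ∀ i, f i ∈ maximalIdeal R)
    (D : Fin m → Derivation k R R)
    (hdet : IsUnit (Matrix.det (Matrix.of (fun i j : Fin m => D i (f j)))))
    [IsLocalRing (R ⧸ Ideal.span (Set.range f))] :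
    CAlgX.IsAdicFormallySmooth k (R ⧸ Ideal.span (Set.range f))
      (maximalIdeal (R ⧸ Ideal.span (Set.range f))) := by
  haveI : IsRegularLocalRing R := isRegularLocalRing_of_adic hR
  have hreg := (Groth.Agent.Helper7.JacReg.main R m f hf
    (fun i => (D i).restrictScalars ℤ) hdet).1
  exact adic_of_regular_of_derExt hreg
    (derExt_quotient m f hf D hdet (derExt_of_adic _ hR))

end Jac

end Groth.Agent.Helper7.CKd
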