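import Mathlib
import Groth.Agent.Helper2.RegFree
import Groth.Agent.Helper2.RegSeq3

set_option linter.style.haveILetI false
set_option linter.unusedSectionVars false

namespace Groth.Agent.Helper7.RegMisc

universe u
open IsLocalRing

theorem s0605 (R : Type u) [CommRing R]
    [IsRegularLocalRing R] (M : Type u) [AddCommGroup M] [Module R M] [Module.Finite R M]
    (h : ((LocCoh.depth R M : ℕ∞) : WithBot ℕ∞) = ringKrullDim R) : Module.Free R M := by
  rcases subsingleton_or_nontrivial M with hM | hM
  · exact Module.Free.of_subsingleton R M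
  · refine Groth.Agent.Helper2.RegFree.free_of_depth_eq _ R rfl M ?_
    rw [Groth.Agent.Helper2.RegFree.ringKrullDim_regular_nat] at h
    exact_mod_cast h

theorem range_append {α : Type*} {m n : ℕ} (u : Fin m → α) (v : Fin n → α) :
    Set.range (Fin.append u v) = Set.range u ∪ Set.range v := by
  ext a
  constructor
  · rintro ⟨i, rfl⟩
    induction i using Fin.addCases with
    | left i => rw [Fin.append_left]; exact Or.inl ⟨i, rfl⟩
    | right i => rw [Fin.append_right]; exact Or.inr ⟨i, rfl⟩
  · rintro (⟨i, rfl⟩ | ⟨i, rfl⟩)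
    · exact ⟨Fin.castAdd n i, Fin.append_left u v i⟩
    · exact ⟨Fin.natAdd m i, Fin.append_right u v i⟩

theorem s0561 (R : Type u) [CommRing R]
    [IsRegularLocalRing R] (d : ℕ) (hd : ringKrullDim R = d) (I : Ideal R)
    [IsRegularLocalRing (R ⧸ I)] :
    ∃ (x : Fin d → R) (c : ℕ) (hc : c ≤ d), Ideal.span (Set.range x) = IsLocalRing.maximalIdeal R ∧
      I = Ideal.span (Set.range (fun i : Fin c => x (Fin.castLE hc i))) := by
  classical
  have hI : I ≠ ⊤ := by
    intro h
    have : Nontrivial (R ⧸ I) := inferInstance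
    rw [Ideal.Quotient.nontrivial_iff] at this
    exact this h
  obtain ⟨c, x', hli, hIx⟩ := Groth.Agent.Helper2.RegSeq3.exists_indep_generators I hI inferInstance
  obtain ⟨Y, hYfin, hspan, hcard⟩ := Groth.Agent.Helper2.RegSeq.exists_generators_extending c x' hli
  have hfr : Module.finrank (ResidueField R) (CotangentSpace R) = d := by
    have := (IsRegularLocalRing.iff_finrank_cotangentSpace R).mp inferInstance
    rw [hd] at this
    exact_mod_cast this
  rw [hfr] at hcard
  have hcd : c ≤ d := by omega
  have hYcard : hYfin.toFinset.card = d - c := by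
    rw [← Set.ncard_eq_toFinset_card Y hYfin]; omega
  let e := Finset.equivFinOfCardEq hYcard
  let y : Fin (d - c) → maximalIdeal R := fun i => ((e.symm i : hYfin.toFinset) : maximalIdeal R)
  have hy : Set.range y = Y := by
    ext a
    constructor
    · rintro ⟨i, rfl⟩
      exact (Set.Finite.mem_toFinset hYfin).mp (e.symm i).2
    · intro ha
      refine ⟨e ⟨a, (Set.Finite.mem_toFinset hYfin).mpr ha⟩, ?_⟩
      simp [y]
  have hdc : d = c + (d - c) := by omega
  let z : Fin d → maximalIdeal R := fun i => Fin.append x' y (Fin.cast hdc i)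
  have hz : Set.range z = Set.range x' ∪ Y := by
    rw [← hy, ← range_append]
    ext a
    constructor
    · rintro ⟨i, rfl⟩; exact ⟨Fin.cast hdc i, rfl⟩
    · rintro ⟨i, rfl⟩; exact ⟨Fin.cast hdc.symm i, by simp [z]⟩
  refine ⟨fun i => (z i : R), c, hcd, ?_, ?_⟩
  · have := congrArg (Submodule.map (maximalIdeal R).subtype) hspan
    rw [Submodule.map_span, Submodule.map_top, Submodule.range_subtype, ← hz] at this
    refine Eq.trans ?_ this
    congr 1
    ext a
    simp
  · rw [hIx]
    congr 2
    ext i
    have : Fin.cast hdc (Fin.castLE hcd i) = Fin.castAdd (d - c) i := Fin.ext rfl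
    simp only [z, this, Fin.append_left]

end Groth.Agent.Helper7.RegMisc
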