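import Mathlib
import Groth.Agent.Helper7.RegMisc

/-!
# Generators of a prime with regular localization, adapted to a regular quotient
-/

set_option autoImplicit false
set_option linter.unusedSectionVars false
universe u

namespace Groth.Agent.Helper7.CKd

open IsLocalRing

/-- if `A_p` and `A_p / q A_p` are regular, `p A_p` is generated by `dim A_p` elements of `p`, the
first of which lie in `q` and generate `q A_p` -/
theorem exists_regular_gens {A : Type u} [CommRing A] [IsNoetherianRing A] (p q : Ideal A)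
    [p.IsPrime] (hqp : q ≤ p)
    (hR : IsRegularLocalRing (Localization.AtPrime p))
    (hB : IsRegularLocalRing
      (Localization.AtPrime p ⧸ q.map (algebraMap A (Localization.AtPrime p)))) :
    ∃ (d c : ℕ) (hc : c ≤ d) (y : Fin d → A), ringKrullDim (Localization.AtPrime p) = d ∧
      (∀ i, y i ∈ p) ∧ (∀ i : Fin c, y (Fin.castLE hc i) ∈ q) ∧
      (∀ z ∈ p, ∃ s ∉ p, ∃ a : Fin d → A, s * z = ∑ i, a i * y i) ∧
      q.map (algebraMap A (Localization.AtPrime p)) =
        Ideal.span (Set.range fun i : Fin c =>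
          algebraMap A (Localization.AtPrime p) (y (Fin.castLE hc i))) := by
  classical
  set R := Localization.AtPrime p with hRdef
  obtain ⟨d, hd⟩ : ∃ d : ℕ, ringKrullDim R = d := ⟨_, (hR.spanFinrank_maximalIdeal).symm⟩
  obtain ⟨x, c, hc, hxspan, hxq⟩ := Groth.Agent.Helper7.RegMisc.s0561 R d hd
    (q.map (algebraMap A R))
  have hxm : ∀ i, x i ∈ maximalIdeal R := fun i => by
    rw [← hxspan]; exact Ideal.subset_span ⟨i, rfl⟩
  have hpmap : p.map (algebraMap A R) = maximalIdeal R :=
    Localization.AtPrime.map_eq_maximalIdeal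
  -- numerators
  have hnum : ∀ i : Fin d, ∃ (a : A) (s : p.primeCompl), a ∈ p ∧ (i.val < c → a ∈ q) ∧
      x i * algebraMap A R s = algebraMap A R a := by
    intro i
    by_cases hi : i.val < c
    · have h1 : x i ∈ q.map (algebraMap A R) := by
        rw [hxq]
        refine Ideal.subset_span ⟨⟨i.val, hi⟩, ?_⟩
        congr 1
      obtain ⟨⟨a, s⟩, hs⟩ := (IsLocalization.mem_map_algebraMap_iff p.primeCompl R).1 h1
      exact ⟨a, s, hqp a.2, fun _ => a.2, hs⟩
    · have h1 : x i ∈ p.map (algebraMap A R) := by rw [hpmap]; exact hxm i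
      obtain ⟨⟨a, s⟩, hs⟩ := (IsLocalization.mem_map_algebraMap_iff p.primeCompl R).1 h1
      exact ⟨a, s, a.2, fun h => absurd h hi, hs⟩
  choose y s hyp hyq hys using hnum
  have hu : ∀ i, IsUnit (algebraMap A R (s i : A)) := fun i => IsLocalization.map_units R (s i)
  -- the ideal generated by all `y i`
  set I := Ideal.span (Set.range y) with hI
  have hImap : I.map (algebraMap A R) = maximalIdeal R := by
    apply le_antisymm
    · rw [Ideal.map_le_iff_le_comap, hI, Ideal.span_le]
      rintro _ ⟨i, rfl⟩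
      exact (IsLocalization.AtPrime.to_map_mem_maximal_iff R p (y i)).2 (hyp i)
    · rw [← hxspan, Ideal.span_le]
      rintro _ ⟨i, rfl⟩
      have h1 : algebraMap A R (y i) ∈ I.map (algebraMap A R) :=
        Ideal.mem_map_of_mem _ (Ideal.subset_span ⟨i, rfl⟩)
      rw [← hys i] at h1
      exact (Ideal.mul_unit_mem_iff_mem _ (hu i)).1 h1
  -- the ideal generated by the first `c`
  have hqmap : q.map (algebraMap A R) = Ideal.span (Set.range fun i : Fin c =>
      algebraMap A R (y (Fin.castLE hc i))) := by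
    apply le_antisymm
    · rw [hxq, Ideal.span_le]
      rintro _ ⟨i, rfl⟩
      have h1 : algebraMap A R (y (Fin.castLE hc i)) ∈ Ideal.span (Set.range fun i : Fin c =>
          algebraMap A R (y (Fin.castLE hc i))) := Ideal.subset_span ⟨i, rfl⟩
      rw [← hys] at h1
      exact (Ideal.mul_unit_mem_iff_mem _ (hu _)).1 h1
    · rw [Ideal.span_le]
      rintro _ ⟨i, rfl⟩
      exact Ideal.mem_map_of_mem _ (hyq _ (by simp [Fin.castLE]))
  refine ⟨d, c, hc, y, hd, hyp, fun i => hyq _ (by simp [Fin.castLE]), ?_, hqmap⟩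
  intro z hz
  have h1 : algebraMap A R z ∈ I.map (algebraMap A R) := by
    rw [hImap]
    exact (IsLocalization.AtPrime.to_map_mem_maximal_iff R p z).2 hz
  obtain ⟨⟨a, s'⟩, hs⟩ := (IsLocalization.mem_map_algebraMap_iff p.primeCompl R).1 h1
  rw [← map_mul] at hs
  obtain ⟨t, ht⟩ := (IsLocalization.eq_iff_exists p.primeCompl R).1 hs
  have h2 : (t : A) * (a : A) ∈ I := Ideal.mul_mem_left _ _ a.2
  obtain ⟨e, he⟩ := Ideal.mem_span_range_iff_exists_fun.1 h2
  refine ⟨(t : A) * (s' : A), ?_, e, ?_⟩
  · exact fun h => (p.primeCompl.mul_mem t.2 s'.2) h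
  · rw [he, ← ht]; ring

end Groth.Agent.Helper7.CKd
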