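import Mathlib
import Groth.Agent.Helper7.CKi5
import Groth.Agent.Helper7.CKi9
import Groth.Agent.Helper7.CKd3
import Groth.Agent.Helper8.CKaePS

/-!
# Independence of the Jacobian columns of a regular system of parameters at a prime of a power
series ring whose quotient is generically separable over a power series ring
-/

set_option autoImplicit false
set_option linter.unusedSectionVars false
universe u

namespace Groth.Agent.Helper7.CKd

open TensorProduct IsLocalRing

section Conormal

variable (k A : Type u) [Field k] [CommRing A] [IsLocalRing A] [IsNoetherianRing A] [Algebra k A]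
  (R : Type u) [CommRing R] [IsLocalRing R] [IsNoetherianRing R] [Algebra k R] [Algebra A R]
  [IsScalarTower k A R]
  (κ : Type u) [Field κ] [Algebra A κ] [Algebra R κ] [IsScalarTower A R κ] [Algebra k κ]
  [IsScalarTower k A κ]

/-- the fibre of the completed differentials of `A` is bounded by that of a quotient `R` of `A`
plus the dimension of the span of the differentials of the kernel -/
theorem finrank_fibre_le_finrank_span_add (hsurj : Function.Surjective (algebraMap A R))
    [Module.Finite A (AdicCompletion (maximalIdeal A) (Ω[A⁄k]))]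
    [Module.Finite R (AdicCompletion (maximalIdeal R) (Ω[R⁄k]))]
    (h : ℕ) (x : Fin h → A)
    (hx : ∀ y : A, algebraMap A R y = 0 → (1 : κ) ⊗ₜ[A] dhat k A y ∈
      Submodule.span κ (Set.range fun i => (1 : κ) ⊗ₜ[A] dhat k A (x i))) :
    Module.finrank κ (κ ⊗[A] AdicCompletion (maximalIdeal A) (Ω[A⁄k])) ≤
      Module.finrank κ (Submodule.span κ (Set.range fun i => (1 : κ) ⊗ₜ[A] dhat k A (x i))) +
        Module.finrank κ (κ ⊗[R] AdicCompletion (maximalIdeal R) (Ω[R⁄k])) := by
  classical
  set MA := AdicCompletion (maximalIdeal A) (Ω[A⁄k]) with hMA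
  set MR := AdicCompletion (maximalIdeal R) (Ω[R⁄k]) with hMR
  set W : Submodule κ (κ ⊗[A] MA) :=
    Submodule.span κ (Set.range fun i => (1 : κ) ⊗ₜ[A] dhat k A (x i)) with hW
  -- the map `ℓ'`
  let ℓ' : MA →ₗ[A] (κ ⊗[A] MA) ⧸ W :=
    (W.mkQ.restrictScalars A) ∘ₗ (TensorProduct.mk A κ MA 1)
  have hℓ' : ∀ ω, ℓ' ω = W.mkQ ((1 : κ) ⊗ₜ[A] ω) := fun _ => rfl
  let ℓ : A → (κ ⊗[A] MA) ⧸ W := fun a => ℓ' (dhat k A a)
  have hℓadd : ∀ a b, ℓ (a + b) = ℓ a + ℓ b := fun a b => by
    change ℓ' _ = ℓ' _ + ℓ' _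
    rw [dhat_add, map_add]
  have hℓmul : ∀ a b, ℓ (a * b) = a • ℓ b + b • ℓ a := fun a b => by
    change ℓ' _ = a • ℓ' _ + b • ℓ' _
    rw [dhat_mul, map_add, map_smul, map_smul]
  have hℓalg : ∀ c : k, ℓ (algebraMap k A c) = 0 := fun c => by
    change ℓ' _ = 0
    rw [dhat_algebraMap, map_zero]
  have hℓker : ∀ a, algebraMap A R a = 0 → ℓ a = 0 := fun a ha => by
    change W.mkQ _ = 0
    rw [Submodule.mkQ_apply, Submodule.Quotient.mk_eq_zero]
    exact hx a ha
  have hℓeq : ∀ a b, algebraMap A R a = algebraMap A R b → ℓ a = ℓ b := by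
    intro a b hab
    have h1 : ℓ (a - b) = 0 := hℓker _ (by rw [map_sub, hab, sub_self])
    have h2 : ℓ (a - b) = ℓ a - ℓ b := by
      change ℓ' _ = ℓ' _ - ℓ' _
      rw [dhat_sub, map_sub]
    rw [h2, sub_eq_zero] at h1
    exact h1
  let σ : R → A := Function.surjInv hsurj
  have hσ : ∀ r, algebraMap A R (σ r) = r := Function.surjInv_eq hsurj
  have hsmulAR : ∀ (a : A) (z : (κ ⊗[A] MA) ⧸ W), algebraMap A R a • z = a • z := by
    intro a z
    exact algebraMap_smul R a z
  let D : Derivation k R ((κ ⊗[A] MA) ⧸ W) :=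
    { toFun := fun r => ℓ (σ r)
      map_add' := fun r r' => by
        rw [← hℓadd]
        exact hℓeq _ _ (by rw [hσ, map_add, hσ, hσ])
      map_smul' := fun c r => by
        rw [RingHom.id_apply]
        have h1 : ℓ (σ (c • r)) = ℓ (algebraMap k A c * σ r) :=
          hℓeq _ _ (by rw [hσ, map_mul, hσ, ← IsScalarTower.algebraMap_apply, Algebra.smul_def])
        rw [h1, hℓmul, hℓalg, smul_zero, add_zero, algebraMap_smul]
      map_one_eq_zero' := by
        change ℓ (σ 1) = 0
        have h1 : ℓ (σ 1) = ℓ (algebraMap k A 1) :=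
          hℓeq _ _ (by rw [hσ, map_one, map_one])
        rw [h1, hℓalg]
      leibniz' := fun r r' => by
        change ℓ (σ (r * r')) = r • ℓ (σ r') + r' • ℓ (σ r)
        have h1 : ℓ (σ (r * r')) = ℓ (σ r * σ r') :=
          hℓeq _ _ (by rw [hσ, map_mul, hσ, hσ])
        rw [h1, hℓmul, ← hsmulAR (σ r), ← hsmulAR (σ r'), hσ, hσ] }
  have hD : ∀ a, D (algebraMap A R a) = ℓ a := fun a => hℓeq _ _ (hσ _)
  -- a finitely generated submodule containing the values
  obtain ⟨S₀, hS₀⟩ := (Module.Finite.fg_top : (⊤ : Submodule A MA).FG)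
  let F : Submodule R ((κ ⊗[A] MA) ⧸ W) := Submodule.span R (ℓ' '' (S₀ : Set MA))
  have hFfg : F.FG := Submodule.fg_span (S₀.finite_toSet.image _)
  have hF : ∀ ω : MA, ℓ' ω ∈ F := by
    intro ω
    have hω : ω ∈ Submodule.span A (S₀ : Set MA) := by rw [hS₀]; trivial
    induction hω using Submodule.span_induction with
    | mem y hy => exact Submodule.subset_span ⟨y, hy, rfl⟩
    | zero => rw [map_zero]; exact Submodule.zero_mem _
    | add x y _ _ hx hy => rw [map_add]; exact Submodule.add_mem _ hx hy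
    | smul c x _ hx =>
      rw [map_smul, ← hsmulAR]
      exact Submodule.smul_mem _ _ hx
  haveI : IsScalarTower k R ((κ ⊗[A] MA) ⧸ W) := IsScalarTower.of_algebraMap_smul fun c z => by
    rw [IsScalarTower.algebraMap_apply k A R, hsmulAR, algebraMap_smul]
  obtain ⟨φ, hφ⟩ := exists_lift_of_fg k R D F hFfg (fun r => hF _)
  let ψ : κ ⊗[R] MR →ₗ[κ] (κ ⊗[A] MA) ⧸ W := LinearMap.liftBaseChange κ φ
  have hψs : Function.Surjective ψ := by
    rw [← LinearMap.range_eq_top, eq_top_iff]
    have h1 : ∀ ω : MA, ℓ' ω ∈ LinearMap.range ψ := by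
      intro ω
      have hω : ω ∈ Submodule.span A (Set.range (dhat k A)) := by rw [span_dhat]; trivial
      induction hω using Submodule.span_induction with
      | mem y hy =>
        obtain ⟨a, rfl⟩ := hy
        refine ⟨(1 : κ) ⊗ₜ[R] dhat k R (algebraMap A R a), ?_⟩
        rw [LinearMap.liftBaseChange_tmul, one_smul, hφ, hD]
      | zero => rw [map_zero]; exact Submodule.zero_mem _
      | add x y _ _ hx hy => rw [map_add]; exact Submodule.add_mem _ hx hy
      | smul c x _ hx =>
        rw [map_smul, ← algebraMap_smul κ c]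
        exact Submodule.smul_mem _ _ hx
    rintro z -
    obtain ⟨z, rfl⟩ := W.mkQ_surjective z
    induction z using TensorProduct.induction_on with
    | zero => rw [map_zero]; exact Submodule.zero_mem _
    | add x y hx hy => rw [map_add]; exact Submodule.add_mem _ hx hy
    | tmul e ω =>
      have : e ⊗ₜ[A] ω = e • ((1 : κ) ⊗ₜ[A] ω) := by
        rw [TensorProduct.smul_tmul', smul_eq_mul, mul_one]
      rw [this, map_smul]
      exact Submodule.smul_mem _ _ (h1 ω)
  have h2 := LinearMap.finrank_le_finrank_of_surjective hψs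
  have h3 := Submodule.finrank_quotient_add_finrank W
  change Module.finrank κ (κ ⊗[A] MA) ≤ Module.finrank κ W + Module.finrank κ (κ ⊗[R] MR)
  omega

end Conormal

section Fibre

open MvPowerSeries

variable (k : Type u) [Field k] (r s : ℕ)

local notation "AA" => MvPowerSeries (Fin r) k
local notation "BS" => MvPowerSeries (Fin s) k

/-- the coordinates of the completed differentials of a power series ring -/
theorem psi_dhat (l : Fin r) (b : AA) :
    Groth.Agent.Helper8.CKaePS.Psi k r l (dhat k AA b) = pderiv k l b := by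
  simp only [Groth.Agent.Helper8.CKaePS.Psi, dhat, LinearMap.coe_comp, LinearEquiv.coe_coe,
    Function.comp_apply, LinearMap.coe_restrictScalars]
  rw [AdicCompletion.map_of, AdicCompletion.ofLinearEquiv_symm_of,
    Derivation.liftKaehlerDifferential_comp_D]

theorem eq_sum_psi (x : AdicCompletion (maximalIdeal AA) (Ω[AA⁄k])) :
    x = ∑ l, Groth.Agent.Helper8.CKaePS.Psi k r l x • Groth.Agent.Helper8.CKaePS.gen k r l := by
  obtain ⟨c, rfl⟩ := Groth.Agent.Helper8.CKaePS.Phi_surjective k r x
  simp only [Groth.Agent.Helper8.CKaePS.Psi_Phi]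
  simp only [Groth.Agent.Helper8.CKaePS.Phi]
  rw [Fintype.linearCombination_apply]

theorem linearIndependent_jacobian (p : Ideal (MvPowerSeries (Fin r) k)) [p.IsPrime]
    [Algebra (MvPowerSeries (Fin s) k) (MvPowerSeries (Fin r) k ⧸ p)]
    [IsScalarTower k (MvPowerSeries (Fin s) k) (MvPowerSeries (Fin r) k ⧸ p)]
    [Module.Finite (MvPowerSeries (Fin s) k) (MvPowerSeries (Fin r) k ⧸ p)]
    (hinj : Function.Injective
      (algebraMap (MvPowerSeries (Fin s) k) (MvPowerSeries (Fin r) k ⧸ p)))
    (L' L : Type u) [Field L'] [Field L]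
    [Algebra (MvPowerSeries (Fin s) k) L'] [IsFractionRing (MvPowerSeries (Fin s) k) L']
    [Algebra (MvPowerSeries (Fin r) k ⧸ p) L] [IsFractionRing (MvPowerSeries (Fin r) k ⧸ p) L]
    [Algebra L' L] [Algebra (MvPowerSeries (Fin s) k) L]
    [IsScalarTower (MvPowerSeries (Fin s) k) (MvPowerSeries (Fin r) k ⧸ p) L]
    [IsScalarTower (MvPowerSeries (Fin s) k) L' L] [Algebra.IsSeparable L' L]
    (d : ℕ) (y : Fin d → AA) (hy : ∀ i, y i ∈ p)
    (hspan : ∀ z ∈ p, ∃ t ∉ p, ∃ a : Fin d → AA, t * z = ∑ i, a i * y i)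
    (hd : d + s ≤ r) :
    LinearIndependent L (fun (i : Fin d) (l : Fin r) =>
      algebraMap (AA ⧸ p) L (Ideal.Quotient.mk p (pderiv k l (y i)))) := by
  classical
  haveI : IsDomain BS := NoZeroDivisors.to_isDomain _
  haveI : IsLocalRing (AA ⧸ p) :=
    IsLocalRing.of_surjective' (Ideal.Quotient.mk p) Ideal.Quotient.mk_surjective
  haveI : IsAdicComplete (maximalIdeal (AA ⧸ p)) (AA ⧸ p) :=
    Groth.Agent.Helper7.Cohen.isAdicComplete_quotient p
  haveI : Module.Finite k (ResidueField AA) :=
    Module.Finite.of_surjective (Algebra.linearMap k (ResidueField AA))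
      (Groth.Agent.Helper8.CKaePS.residue_surj k r)
  haveI : Module.Finite k (ResidueField (AA ⧸ p)) :=
    finite_residueField_of_surjective k AA (AA ⧸ p) (Ideal.Quotient.mkₐ k p)
      (Ideal.Quotient.mkₐ_surjective k p)
  haveI hfA : Module.Finite AA (AdicCompletion (maximalIdeal AA) (Ω[AA⁄k])) :=
    Groth.Agent.Helper8.CKae.residue
  haveI hfC : Module.Finite (AA ⧸ p) (AdicCompletion (maximalIdeal (AA ⧸ p)) (Ω[(AA ⧸ p)⁄k])) :=
    Groth.Agent.Helper8.CKae.residue
  -- algebra structures on `L`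
  letI algAL : Algebra AA L := ((algebraMap (AA ⧸ p) L).comp (algebraMap AA (AA ⧸ p))).toAlgebra
  haveI : IsScalarTower AA (AA ⧸ p) L := by
    have h : @IsScalarTower AA (AA ⧸ p) L Algebra.toSMul _ _ :=
      IsScalarTower.of_algebraMap_eq fun _ => rfl
    exact h
  letI algkL : Algebra k L := ((algebraMap (AA ⧸ p) L).comp (algebraMap k (AA ⧸ p))).toAlgebra
  haveI : IsScalarTower k (AA ⧸ p) L := by
    have h : @IsScalarTower k (AA ⧸ p) L Algebra.toSMul _ _ :=
      IsScalarTower.of_algebraMap_eq fun _ => rfl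
    exact h
  haveI : IsScalarTower k AA L := IsScalarTower.of_algebraMap_eq fun c => by
    change algebraMap (AA ⧸ p) L (algebraMap k (AA ⧸ p) c) =
      algebraMap (AA ⧸ p) L (algebraMap AA (AA ⧸ p) (algebraMap k AA c))
    rw [← IsScalarTower.algebraMap_apply k AA (AA ⧸ p)]
  haveI : IsScalarTower k BS L := IsScalarTower.of_algebraMap_eq fun c => by
    change algebraMap (AA ⧸ p) L (algebraMap k (AA ⧸ p) c) = algebraMap BS L (algebraMap k BS c)
    rw [IsScalarTower.algebraMap_apply BS (AA ⧸ p) L, ← IsScalarTower.algebraMap_apply k BS (AA ⧸ p)]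
  have hAL : ∀ a : AA, algebraMap AA L a = 0 ↔ a ∈ p := by
    intro a
    change algebraMap (AA ⧸ p) L (Ideal.Quotient.mk p a) = 0 ↔ _
    rw [map_eq_zero_iff _ (IsFractionRing.injective (AA ⧸ p) L), Ideal.Quotient.eq_zero_iff_mem]
  -- local homomorphism
  haveI : FaithfulSMul BS (AA ⧸ p) := (faithfulSMul_iff_algebraMap_injective BS (AA ⧸ p)).2 hinj
  haveI : IsLocalHom (algebraMap BS (AA ⧸ p)) := Algebra.IsIntegral.isLocalHom _ _
  have hloc : ∀ i, algebraMap BS (AA ⧸ p) (X i) ∈ maximalIdeal (AA ⧸ p) := by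
    intro i
    rw [IsLocalRing.mem_maximalIdeal, mem_nonunits_iff]
    intro hu
    have h1 : IsUnit (X i : BS) := (isUnit_map_iff (algebraMap BS (AA ⧸ p)) _).1 hu
    rw [MvPowerSeries.isUnit_iff_constantCoeff, MvPowerSeries.constantCoeff_X] at h1
    exact not_isUnit_zero h1
  -- formally étale
  haveI : Algebra.FormallyEtale BS L' :=
    Algebra.FormallyEtale.of_isLocalization (nonZeroDivisors BS)
  haveI : Algebra.FormallyEtale L' L := Algebra.FormallyEtale.of_isSeparable L' L
  haveI : Algebra.FormallyEtale BS L := Algebra.FormallyEtale.comp BS L' L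
  -- the derivative does not vanish
  have hinjL : Function.Injective (algebraMap BS L) := by
    rw [IsScalarTower.algebraMap_eq BS (AA ⧸ p) L]
    exact (IsFractionRing.injective (AA ⧸ p) L).comp hinj
  have hsep' : ∀ a : AA ⧸ p, ∃ P : Polynomial BS, Polynomial.aeval a P = 0 ∧
      Polynomial.aeval a (Polynomial.derivative P) ≠ 0 := by
    intro a
    set a' := algebraMap (AA ⧸ p) L a with ha'
    have hsepa : (minpoly L' a').Separable := Algebra.IsSeparable.isSeparable L' a'
    obtain ⟨b, hb, hQ⟩ := IsLocalization.integerNormalization_spec (nonZeroDivisors BS)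
      (minpoly L' a')
    set Q := IsLocalization.integerNormalization (nonZeroDivisors BS) (minpoly L' a') with hQdef
    have hbL : algebraMap BS L b ≠ 0 := by
      rw [Ne, map_eq_zero_iff _ hinjL]
      exact nonZeroDivisors.ne_zero hb
    have hev : ∀ P : Polynomial BS, algebraMap (AA ⧸ p) L (Polynomial.aeval a P) =
        Polynomial.aeval a' (P.map (algebraMap BS L')) := by
      intro P
      rw [Polynomial.aeval_map_algebraMap, Polynomial.aeval_algebraMap_apply]
    have hsm : ∀ P : Polynomial L', Polynomial.aeval a' (b • P) =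
        algebraMap BS L b * Polynomial.aeval a' P := by
      intro P
      rw [← algebraMap_smul L' b P, map_smul, Algebra.smul_def,
        ← IsScalarTower.algebraMap_apply BS L' L]
    refine ⟨Q, ?_, fun h0 => ?_⟩
    · apply IsFractionRing.injective (AA ⧸ p) L
      rw [hev, hQ, map_zero, hsm, minpoly.aeval, mul_zero]
    · have h1 := congrArg (algebraMap (AA ⧸ p) L) h0
      rw [hev, map_zero, ← Polynomial.derivative_map, hQ, Polynomial.derivative_smul,
        hsm] at h1
      rcases mul_eq_zero.1 h1 with h2 | h2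
      · exact hbL h2
      · exact Polynomial.Separable.aeval_derivative_ne_zero hsepa (minpoly.aeval L' a') h2
  have hrankC : Module.finrank L (L ⊗[AA ⧸ p]
      AdicCompletion (maximalIdeal (AA ⧸ p)) (Ω[(AA ⧸ p)⁄k])) = s :=
    finrank_eq k s (AA ⧸ p) L hloc hsep'
  -- the fibre of the power series ring
  set MA := AdicCompletion (maximalIdeal AA) (Ω[AA⁄k]) with hMA
  have hrankA : Module.finrank L (L ⊗[AA] MA) = r := by
    haveI : Module.Free AA MA := (Groth.Agent.Helper8.CKaePS.main k r).2.1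
    rw [Module.finrank_baseChange, (Groth.Agent.Helper8.CKaePS.main k r).2.2]
  -- the spanning property
  have hz : ∀ (a : AA) (ω : L ⊗[AA] MA), a ∈ p → a • ω = 0 := by
    intro a ω ha
    rw [← algebraMap_smul L a ω, (hAL a).2 ha, zero_smul]
  have hx : ∀ z : AA, algebraMap AA (AA ⧸ p) z = 0 → (1 : L) ⊗ₜ[AA] dhat k AA z ∈
      Submodule.span L (Set.range fun i => (1 : L) ⊗ₜ[AA] dhat k AA (y i)) := by
    intro z hz0
    have hzp : z ∈ p := Ideal.Quotient.eq_zero_iff_mem.1 hz0
    obtain ⟨t, ht, c, hc⟩ := hspan z hzp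
    have h1 := congrArg (fun z => (1 : L) ⊗ₜ[AA] dhat k AA z) hc
    simp only [dhat_mul, dhat_sum, TensorProduct.tmul_add, TensorProduct.tmul_sum,
      TensorProduct.tmul_smul] at h1
    rw [hz z _ hzp, add_zero] at h1
    have h2 : ∀ i, y i • ((1 : L) ⊗ₜ[AA] dhat k AA (c i)) = 0 := fun i => hz _ _ (hy i)
    simp only [h2, add_zero] at h1
    have ht0 : algebraMap AA L t ≠ 0 := by
      rw [Ne, hAL]; exact ht
    have h3 : (1 : L) ⊗ₜ[AA] dhat k AA z = (algebraMap AA L t)⁻¹ •
        (t • ((1 : L) ⊗ₜ[AA] dhat k AA z)) := by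
      rw [← algebraMap_smul L t, smul_smul, inv_mul_cancel₀ ht0, one_smul]
    rw [h3, h1]
    refine Submodule.smul_mem _ _ (Submodule.sum_mem _ fun i _ => ?_)
    rw [← algebraMap_smul L (c i)]
    exact Submodule.smul_mem _ _ (Submodule.subset_span ⟨i, rfl⟩)
  have hfib := finrank_fibre_le_finrank_span_add k AA (AA ⧸ p) L Ideal.Quotient.mk_surjective
    d y hx
  rw [hrankA, hrankC] at hfib
  -- linear independence of the differentials
  set w : Fin d → L ⊗[AA] MA := fun i => (1 : L) ⊗ₜ[AA] dhat k AA (y i) with hw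
  obtain ⟨n, hn⟩ : ∃ n, n = (Set.range w).finrank L := ⟨_, rfl⟩
  have hle : n ≤ d := by
    have := finrank_range_le_card (R := L) w
    rw [Fintype.card_fin] at this
    rw [hn]
    exact this
  have hfib' : r ≤ n + s := by
    rw [hn]
    exact hfib
  have hwli : LinearIndependent L w := by
    rw [linearIndependent_iff_card_eq_finrank_span, Fintype.card_fin, ← hn]
    omega
  -- the coordinate map
  let Θ : L ⊗[AA] MA →ₗ[L] (Fin r → L) := LinearMap.pi fun l =>
    LinearMap.liftBaseChange L ((Algebra.linearMap AA L) ∘ₗ Groth.Agent.Helper8.CKaePS.Psi k r l)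
  have hΘ : ∀ (e : L) (x : MA) (l : Fin r), Θ (e ⊗ₜ[AA] x) l =
      e * algebraMap AA L (Groth.Agent.Helper8.CKaePS.Psi k r l x) := by
    intro e x l
    change LinearMap.liftBaseChange L _ (e ⊗ₜ[AA] x) = _
    rw [LinearMap.liftBaseChange_tmul]
    rfl
  have hΘrec : ∀ z : L ⊗[AA] MA, z = ∑ l, Θ z l • ((1 : L) ⊗ₜ[AA]
      Groth.Agent.Helper8.CKaePS.gen k r l) := by
    intro z
    induction z using TensorProduct.induction_on with
    | zero => simp
    | add x y hx hy =>
      conv_lhs => rw [hx, hy]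
      rw [← Finset.sum_add_distrib]
      refine Finset.sum_congr rfl fun l _ => ?_
      rw [map_add, Pi.add_apply, add_smul]
    | tmul e x =>
      conv_lhs => rw [eq_sum_psi k r x, TensorProduct.tmul_sum]
      refine Finset.sum_congr rfl fun l _ => ?_
      rw [hΘ, TensorProduct.smul_tmul', smul_eq_mul, mul_one, ← TensorProduct.smul_tmul,
        Algebra.smul_def, mul_comm]
  have hΘinj : Function.Injective Θ := by
    rw [injective_iff_map_eq_zero]
    intro z hz0
    rw [hΘrec z, hz0]
    simp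
  have h5 := hwli.map' Θ (LinearMap.ker_eq_bot.2 hΘinj)
  have h6 : (fun (i : Fin d) (l : Fin r) =>
      algebraMap (AA ⧸ p) L (Ideal.Quotient.mk p (pderiv k l (y i)))) = ⇑Θ ∘ w := by
    funext i l
    change _ = Θ ((1 : L) ⊗ₜ[AA] dhat k AA (y i)) l
    rw [hΘ, one_mul, psi_dhat]
    rfl
  rw [h6]
  exact h5

end Fibre

end Groth.Agent.Helper7.CKd
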