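import Mathlib

/-!
# Derivations with a Jacobian minor outside a prime, from independence of the Jacobian columns
-/

set_option autoImplicit false
set_option linter.unusedSectionVars false
universe u

namespace Groth.Agent.Helper7.CKd

open IsLocalRing

section Der

variable {k A : Type*} [CommRing k] [CommRing A] [Algebra k A]

theorem derivation_sum_smul_apply {ι : Type*} (s : Finset ι) (a : ι → A)
    (D : ι → Derivation k A A) (x : A) :
    (∑ l ∈ s, a l • D l) x = ∑ l ∈ s, a l * D l x := by
  have h := map_sum (Derivation.coeFnAddMonoidHom (R := k) (A := A) (M := A))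
    (fun l => a l • D l) s
  have h2 := congrFun h x
  rw [Finset.sum_apply] at h2
  exact h2

theorem pow_eq_zero_iff_of_pos' {L : Type*} [Field L] {b : L} {n : ℕ} (h : b ^ n = 0) : b = 0 := by
  rcases Nat.eq_zero_or_pos n with hn | hn
  · rw [hn, pow_zero] at h; exact absurd h one_ne_zero
  · exact (pow_eq_zero_iff hn.ne').1 h

end Der

/-- given a family of derivations `∂ l` of `A` and elements `f j` whose Jacobian columns are
independent over the fraction field `L` of `A ⧸ p`, some combinations of the `∂ l` have a
Jacobian determinant outside `p` -/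
theorem exists_derivations_of_linearIndependent {k A : Type u} [CommRing k] [CommRing A]
    [Algebra k A] (p : Ideal A) [p.IsPrime] (L : Type u) [Field L] [Algebra (A ⧸ p) L]
    [IsFractionRing (A ⧸ p) L] (r : ℕ) (δ : Fin r → Derivation k A A)
    (c : ℕ) (f : Fin c → A)
    (hli : LinearIndependent L (fun (i : Fin c) (l : Fin r) =>
      algebraMap (A ⧸ p) L (Ideal.Quotient.mk p (δ l (f i))))) :
    ∃ D : Fin c → Derivation k A A,
      Matrix.det (Matrix.of fun i j => D i (f j)) ∉ p := by
  classical
  set φ : A →+* L := (algebraMap (A ⧸ p) L).comp (Ideal.Quotient.mk p) with hφ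
  have hφ0 : ∀ a, φ a = 0 ↔ a ∈ p := by
    intro a
    change algebraMap (A ⧸ p) L (Ideal.Quotient.mk p a) = 0 ↔ _
    rw [map_eq_zero_iff _ (IsFractionRing.injective (A ⧸ p) L), Ideal.Quotient.eq_zero_iff_mem]
  set v : Fin c → (Fin r → L) := fun i l => φ (δ l (f i)) with hv
  have hli' : LinearIndependent L v := hli
  set T := Fintype.linearCombination L v with hT
  have hTinj : Function.Injective T :=
    linearIndependent_iff_injective_fintypeLinearCombination.1 hli'
  obtain ⟨G, hG⟩ := LinearMap.exists_leftInverse_of_injective T (LinearMap.ker_eq_bot.2 hTinj)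
  let g : Fin c → Fin r → L := fun i l => G (Pi.single l 1) i
  have hg : ∀ i j, ∑ l, g i l * v j l = if i = j then 1 else 0 := by
    intro i j
    have h1 : v j = ∑ l, v j l • (Pi.single l (1 : L) : Fin r → L) := by
      funext l'
      rw [Finset.sum_apply]
      simp [Pi.single_apply]
    have h2 : G (v j) i = ∑ l, g i l * v j l := by
      conv_lhs => rw [h1]
      rw [map_sum, Finset.sum_apply]
      refine Finset.sum_congr rfl fun l _ => ?_
      rw [map_smul, Pi.smul_apply, smul_eq_mul, mul_comm]
    have h3 : T (Pi.single j 1) = v j := by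
      rw [hT, Fintype.linearCombination_apply_single, one_smul]
    have h4 : G (v j) = Pi.single j 1 := by
      rw [← h3]
      exact LinearMap.congr_fun hG _
    rw [← h2, h4, Pi.single_apply]
  -- clear denominators
  obtain ⟨b, hb⟩ := IsLocalization.exist_integer_multiples (nonZeroDivisors (A ⧸ p))
    (Finset.univ : Finset (Fin c × Fin r)) (fun il => g il.1 il.2)
  have hb' : ∀ i l, ∃ a : A, φ a = algebraMap (A ⧸ p) L (b : A ⧸ p) * g i l := by
    intro i l
    obtain ⟨a', ha'⟩ := hb (i, l) (Finset.mem_univ _)
    obtain ⟨a, rfl⟩ := Ideal.Quotient.mk_surjective a'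
    refine ⟨a, ?_⟩
    rw [Algebra.smul_def] at ha'
    exact ha'
  choose a ha using hb'
  set b' := algebraMap (A ⧸ p) L (b : A ⧸ p) with hb'def
  have hb0 : b' ≠ 0 := by
    rw [hb'def, Ne, map_eq_zero_iff _ (IsFractionRing.injective (A ⧸ p) L)]
    exact nonZeroDivisors.ne_zero b.2
  let D : Fin c → Derivation k A A := fun i => ∑ l, a i l • δ l
  refine ⟨D, fun hmem => ?_⟩
  have h1 : φ (Matrix.det (Matrix.of fun i j => D i (f j))) = 0 := (hφ0 _).2 hmem
  rw [RingHom.map_det] at h1
  have h2 : φ.mapMatrix (Matrix.of fun i j => D i (f j)) = b' • (1 : Matrix (Fin c) (Fin c) L) := by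
    ext i j
    rw [RingHom.mapMatrix_apply, Matrix.map_apply, Matrix.of_apply, Matrix.smul_apply,
      Matrix.one_apply, smul_eq_mul]
    change φ ((∑ l, a i l • δ l) (f j)) = _
    rw [derivation_sum_smul_apply, map_sum]
    simp only [map_mul, ha]
    have : ∑ l, b' * g i l * φ (δ l (f j)) = b' * ∑ l, g i l * v j l := by
      rw [Finset.mul_sum]
      refine Finset.sum_congr rfl fun l _ => ?_
      rw [mul_assoc]
    rw [this, hg]
  rw [h2, Matrix.det_smul, Matrix.det_one, mul_one] at h1
  exact hb0 (pow_eq_zero_iff_of_pos' h1)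

end Groth.Agent.Helper7.CKd
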