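import Mathlib
import Groth.Agent.Helper7.CKj1
import Groth.Agent.Helper7.CKj2
import Groth.Agent.Helper7.CKj3
import Groth.Agent.Helper7.CKj4
import Groth.Agent.Helper7.CKg3
import Groth.Agent.Helper7.CKi7
import Groth.Agent.Helper2.Dim

/-!
# Nagata's Jacobian criterion for quotients of power series rings (EGA 0_IV 22.7.3)
-/

set_option autoImplicit false
set_option linter.unusedSectionVars false
universe u

namespace Groth.Agent.Helper7.CKd

open IsLocalRing Groth.Agent.Helper8.GeomReg

section Bridge

variable {k A : Type u} [Field k] [CommRing A] [Algebra k A] (p q : Ideal A) [p.IsPrime]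
  (hqp : q ≤ p) [(p.map (Ideal.Quotient.mk q)).IsPrime]

include hqp in
/-- the localization of `A ⧸ q` at `p ⧸ q` is the quotient of `A_p` by `q A_p` -/
theorem nonempty_algEquiv_locQuot :
    Nonempty ((Localization.AtPrime p ⧸ q.map (algebraMap A (Localization.AtPrime p))) ≃ₐ[k]
      Localization.AtPrime (p.map (Ideal.Quotient.mk q))) := by
  set P' := p.map (Ideal.Quotient.mk q) with hP'
  set R := Localization.AtPrime p with hR
  have hP : P'.comap (Ideal.Quotient.mk q) = p := by
    rw [hP', Ideal.comap_map_of_surjective _ Ideal.Quotient.mk_surjective,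
      ← RingHom.ker_eq_comap_bot, Ideal.mk_ker]
    exact sup_eq_left.2 hqp
  haveI : P'.LiesOver p := ⟨hP.symm⟩
  have hsub : Algebra.algebraMapSubmonoid (A ⧸ q) p.primeCompl = P'.primeCompl :=
    Ideal.algebraMapSubmonoid_primeCompl_of_liesOver_surjective P' p
      Ideal.Quotient.mk_surjective
  haveI : IsLocalization.AtPrime (R ⧸ q.map (algebraMap A R)) P' := by
    have : IsLocalization (Algebra.algebraMapSubmonoid (A ⧸ q) p.primeCompl)
      (R ⧸ q.map (algebraMap A R)) := inferInstance
    rwa [hsub] at this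
  let e : (R ⧸ q.map (algebraMap A R)) ≃ₐ[A ⧸ q] Localization.AtPrime P' :=
    IsLocalization.algEquiv P'.primeCompl _ _
  haveI : IsScalarTower k (A ⧸ q) (R ⧸ q.map (algebraMap A R)) :=
    IsScalarTower.of_algebraMap_eq fun c => rfl
  haveI : IsScalarTower k (A ⧸ q) (Localization.AtPrime P') := inferInstance
  exact ⟨e.restrictScalars k⟩

include hqp in
/-- (b) ⇒ (a) -/
theorem adic_of_jacobian [IsNoetherianRing A]
    (hR : CAlgX.IsAdicFormallySmooth k (Localization.AtPrime p)
      (maximalIdeal (Localization.AtPrime p)))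
    (m : ℕ) (D : Fin m → Derivation k A A) (f : Fin m → A) (hf : ∀ i, f i ∈ q)
    (hspan : q.map (algebraMap A (Localization.AtPrime p)) =
      Ideal.span (Set.range fun i => algebraMap A (Localization.AtPrime p) (f i)))
    (hdet : Matrix.det (Matrix.of fun i j => D i (f j)) ∉ p) :
    CAlgX.IsAdicFormallySmooth k (Localization.AtPrime (p.map (Ideal.Quotient.mk q)))
      (maximalIdeal (Localization.AtPrime (p.map (Ideal.Quotient.mk q)))) := by
  classical
  set R := Localization.AtPrime p with hRdef
  haveI : Algebra.FormallyEtale A R := Algebra.FormallyEtale.of_isLocalization p.primeCompl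
  choose D' hD' using fun i => exists_extDer (R := k) (S := A) (T := R) (M := R)
    ((Algebra.linearMap A R).compDer (D i))
  have hD'' : ∀ i a, D' i (algebraMap A R a) = algebraMap A R (D i a) := fun i a => hD' i a
  set f' : Fin m → R := fun i => algebraMap A R (f i) with hf'def
  have hf' : ∀ i, f' i ∈ maximalIdeal R := fun i =>
    (IsLocalization.AtPrime.to_map_mem_maximal_iff R p (f i)).2 (hqp (hf i))
  have hmat : (Matrix.of fun i j => D' i (f' j)) =
      (algebraMap A R).mapMatrix (Matrix.of fun i j => D i (f j)) := by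
    ext i j
    rw [RingHom.mapMatrix_apply, Matrix.map_apply, Matrix.of_apply, Matrix.of_apply, hD'']
  have hdet' : IsUnit (Matrix.det (Matrix.of fun i j => D' i (f' j))) := by
    rw [hmat, ← RingHom.map_det]
    exact IsLocalization.map_units R (⟨_, hdet⟩ : p.primeCompl)
  set I := Ideal.span (Set.range f') with hI
  have hIm : I ≤ maximalIdeal R := by
    rw [hI, Ideal.span_le]
    rintro _ ⟨i, rfl⟩
    exact hf' i
  haveI : Nontrivial (R ⧸ I) :=
    Ideal.Quotient.nontrivial_iff.2 (fun h => (IsLocalRing.maximalIdeal.isMaximal R).ne_top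
      (top_le_iff.1 (h ▸ hIm)))
  haveI : IsLocalRing (R ⧸ I) :=
    IsLocalRing.of_surjective' (Ideal.Quotient.mk I) Ideal.Quotient.mk_surjective
  have h1 := adic_quotient_of_det hR m f' hf' D' hdet'
  obtain ⟨e₂⟩ := nonempty_algEquiv_locQuot (k := k) p q hqp
  let e₁ : (R ⧸ I) ≃ₐ[k] (R ⧸ q.map (algebraMap A R)) := Ideal.quotientEquivAlgOfEq k hspan.symm
  refine adic_of_algEquiv (e₁.trans e₂) _ _ (fun x hx => ?_) h1
  rw [IsLocalRing.mem_maximalIdeal, mem_nonunits_iff] at hx ⊢
  exact fun hu => hx ((isUnit_map_iff (e₁.trans e₂) x).1 hu)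

end Bridge

section Nagata

open MvPowerSeries

variable (k : Type u) [Field k] (r : ℕ)

local notation "AA" => MvPowerSeries (Fin r) k

theorem adic_localization_mvPowerSeries (p : Ideal (MvPowerSeries (Fin r) k)) [p.IsPrime] :
    CAlgX.IsAdicFormallySmooth k (Localization.AtPrime p)
      (maximalIdeal (Localization.AtPrime p)) :=
  s4574 (adic_mvPowerSeries k r) p

/-- (c) ⇒ (b) -/
theorem exists_jacobian_of_regular (q p : Ideal (MvPowerSeries (Fin r) k)) [p.IsPrime]
    (hqp : q ≤ p) (s : ℕ)
    [Algebra (MvPowerSeries (Fin s) k) (MvPowerSeries (Fin r) k ⧸ p)]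
    [IsScalarTower k (MvPowerSeries (Fin s) k) (MvPowerSeries (Fin r) k ⧸ p)]
    [Module.Finite (MvPowerSeries (Fin s) k) (MvPowerSeries (Fin r) k ⧸ p)]
    (hinj : Function.Injective
      (algebraMap (MvPowerSeries (Fin s) k) (MvPowerSeries (Fin r) k ⧸ p)))
    (L' L : Type u) [Field L'] [Field L]
    [Algebra (MvPowerSeries (Fin s) k) L'] [IsFractionRing (MvPowerSeries (Fin s) k) L']
    [Algebra (MvPowerSeries (Fin r) k ⧸ p) L] [IsFractionRing (MvPowerSeries (Fin r) k ⧸ p) L]
    [Algebra L' L] [Algebra (MvPowerSeries (Fin s) k) L]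
    [IsScalarTower (MvPowerSeries (Fin s) k) (MvPowerSeries (Fin r) k ⧸ p) L]
    [IsScalarTower (MvPowerSeries (Fin s) k) L' L] [Algebra.IsSeparable L' L]
    (hreg : IsRegularLocalRing
      (Localization.AtPrime p ⧸ q.map (algebraMap AA (Localization.AtPrime p)))) :
    ∃ (m : ℕ) (D : Fin m → Derivation k AA AA) (f : Fin m → AA), (∀ i, f i ∈ q) ∧
      q.map (algebraMap AA (Localization.AtPrime p)) =
        Ideal.span (Set.range fun i => algebraMap AA (Localization.AtPrime p) (f i)) ∧
      Matrix.det (Matrix.of fun i j => D i (f j)) ∉ p := by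
  classical
  haveI : IsDomain AA := NoZeroDivisors.to_isDomain _
  have hR : IsRegularLocalRing (Localization.AtPrime p) :=
    isRegularLocalRing_of_adic (adic_localization_mvPowerSeries k r p)
  obtain ⟨d, c, hc, y, hdim, hyp, hyq, hgen, hqmap⟩ := exists_regular_gens p q hqp hR hreg
  -- dimensions
  have hds : d + s ≤ r := by
    haveI : (⊥ : Ideal AA).IsPrime := Ideal.isPrime_bot
    have h1 := height_add_dim_le p (⊥ : Ideal AA) (fun _ _ => bot_le) bot_le
    rw [← IsLocalization.AtPrime.ringKrullDim_eq_height p (Localization.AtPrime p), hdim] at h1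
    have h2 : ringKrullDim (AA ⧸ (⊥ : Ideal AA)) = (r : ℕ) := by
      rw [ringKrullDim_eq_of_ringEquiv (RingEquiv.quotientBot AA),
        Groth.Agent.Helper7.Cohen.ringKrullDim_mvPowerSeries_field, add_zero]
    have h3 : ringKrullDim (AA ⧸ p) = (s : ℕ) := by
      rw [Groth.Agent.Helper2.Dim.dim_eq_of_integral_injective
        (algebraMap (MvPowerSeries (Fin s) k) (AA ⧸ p))
        (algebraMap_isIntegral_iff.2 inferInstance) hinj,
        Groth.Agent.Helper7.Cohen.ringKrullDim_mvPowerSeries_field, add_zero]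
    rw [h2, h3] at h1
    exact_mod_cast h1
  have hli := linearIndependent_jacobian k r s p hinj L' L d y hyp hgen hds
  have hli' := hli.comp (Fin.castLE hc) (Fin.castLE_injective hc)
  obtain ⟨D, hD⟩ := exists_derivations_of_linearIndependent p L r (fun l => pderiv k l) c
    (fun i => y (Fin.castLE hc i)) hli'
  exact ⟨c, D, fun i => y (Fin.castLE hc i), hyq, hqmap, hD⟩

/-- **Nagata's Jacobian criterion** for quotients of power series rings -/
theorem s4612 (q p : Ideal (MvPowerSeries (Fin r) k)) [p.IsPrime] (hqp : q ≤ p)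
    [(p.map (Ideal.Quotient.mk q)).IsPrime]
    (s : ℕ) [Algebra (MvPowerSeries (Fin s) k) (MvPowerSeries (Fin r) k ⧸ p)]
    [IsScalarTower k (MvPowerSeries (Fin s) k) (MvPowerSeries (Fin r) k ⧸ p)]
    [Module.Finite (MvPowerSeries (Fin s) k) (MvPowerSeries (Fin r) k ⧸ p)]
    (hinj : Function.Injective
      (algebraMap (MvPowerSeries (Fin s) k) (MvPowerSeries (Fin r) k ⧸ p)))
    {L' L : Type u} [Field L'] [Field L]
    [Algebra (MvPowerSeries (Fin s) k) L'] [IsFractionRing (MvPowerSeries (Fin s) k) L']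
    [Algebra (MvPowerSeries (Fin r) k ⧸ p) L] [IsFractionRing (MvPowerSeries (Fin r) k ⧸ p) L]
    [Algebra L' L] [Algebra (MvPowerSeries (Fin s) k) L]
    [IsScalarTower (MvPowerSeries (Fin s) k) (MvPowerSeries (Fin r) k ⧸ p) L]
    [IsScalarTower (MvPowerSeries (Fin s) k) L' L] [Algebra.IsSeparable L' L] :
    [CAlgX.IsAdicFormallySmooth k (Localization.AtPrime (p.map (Ideal.Quotient.mk q)))
        (maximalIdeal (Localization.AtPrime (p.map (Ideal.Quotient.mk q)))),
     ∃ (m : ℕ) (D : Fin m → Derivation k (MvPowerSeries (Fin r) k) (MvPowerSeries (Fin r) k))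
        (f : Fin m → MvPowerSeries (Fin r) k), (∀ i, f i ∈ q) ∧
        q.map (algebraMap (MvPowerSeries (Fin r) k) (Localization.AtPrime p)) =
          Ideal.span (Set.range fun i =>
            algebraMap (MvPowerSeries (Fin r) k) (Localization.AtPrime p) (f i)) ∧
        Matrix.det (Matrix.of fun i j => D i (f j)) ∉ p,
     IsRegularLocalRing (Localization.AtPrime (p.map (Ideal.Quotient.mk q)))].TFAE := by
  tfae_have 1 → 3 := fun h => isRegularLocalRing_of_adic h
  tfae_have 3 → 2 := by
    intro h
    obtain ⟨e⟩ := nonempty_algEquiv_locQuot (k := k) p q hqp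
    have e' : Localization.AtPrime (p.map (Ideal.Quotient.mk q)) ≃+*
        (Localization.AtPrime p ⧸ q.map (algebraMap AA (Localization.AtPrime p))) :=
      e.symm.toRingEquiv
    have hreg : IsRegularLocalRing
        (Localization.AtPrime p ⧸ q.map (algebraMap AA (Localization.AtPrime p))) :=
      @IsRegularLocalRing.of_ringEquiv (Localization.AtPrime (p.map (Ideal.Quotient.mk q))) _ h
        _ _ e'
    exact exists_jacobian_of_regular k r q p hqp s hinj L' L hreg
  tfae_have 2 → 1 := by
    rintro ⟨m, D, f, hf, hspan, hdet⟩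
    exact adic_of_jacobian p q hqp (adic_localization_mvPowerSeries k r p) m D f hf hspan hdet
  tfae_finish

end Nagata

end Groth.Agent.Helper7.CKd
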