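import Mathlib
import Groth.Agent.Helper7.CKm4
import Groth.Agent.Helper7.CKm3
import Groth.Agent.Helper7.CKm2
import Groth.Agent.Helper2.Miracle
import Groth.Agent.Helper2.RegCM
import Groth.Agent.Helper5.MvPSDim
import Groth.Agent.Helper7.CohenT2
set_option linter.style.haveILetI false
set_option linter.unusedSectionVars false
set_option linter.unusedVariables false
open TensorProduct IsLocalRing MvPowerSeries
universe u
namespace Groth.Agent.Helper7.CKd

section free
variable {k : Type u} [Field k] (p : ℕ) [hp : Fact p.Prime] [CharP k p] (r : ℕ) (k' : Subfield k)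

theorem constantCoeff_iota (g : MvPowerSeries (Fin r) k') :
    MvPowerSeries.constantCoeff (iota p r k' g) = ((MvPowerSeries.constantCoeff g : k') : k) := by
  have := coeff_iota_smul p r k' g 0
  rw [smul_zero] at this
  exact this

theorem isLocalHom_iota : IsLocalHom (iota p r k') := by
  constructor
  intro g hg
  rw [MvPowerSeries.isUnit_iff_constantCoeff] at hg ⊢
  rw [constantCoeff_iota] at hg
  rw [isUnit_iff_ne_zero] at hg ⊢
  intro h
  apply hg
  rw [h]
  rfl

/-- `k[[T]]` is flat over `k'[[T^p]]`. -/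
theorem iota_flat [Module.Finite k' k] : (iota p r k').Flat := by
  letI : Algebra (MvPowerSeries (Fin r) k') (MvPowerSeries (Fin r) k) := (iota p r k').toAlgebra
  haveI : IsLocalHom (algebraMap (MvPowerSeries (Fin r) k') (MvPowerSeries (Fin r) k)) :=
    isLocalHom_iota p r k'
  haveI : IsRegularLocalRing (MvPowerSeries (Fin r) k') :=
    Groth.Agent.Helper5.MvPSDim.isRegular k' r
  haveI : IsRegularLocalRing (MvPowerSeries (Fin r) k) :=
    Groth.Agent.Helper5.MvPSDim.isRegular k r
  haveI : LocCoh.IsCohenMacaulayLocalRing (MvPowerSeries (Fin r) k) :=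
    { supportDim_eq_depth := Groth.Agent.Helper2.RegCM.cm_of_isRegularLocalRing _ }
  show Module.Flat (MvPowerSeries (Fin r) k') (MvPowerSeries (Fin r) k)
  apply Groth.Agent.Helper2.Miracle.flat_of_cm_ring
  set I : Ideal (MvPowerSeries (Fin r) k) := (maximalIdeal (MvPowerSeries (Fin r) k')).map
    (algebraMap (MvPowerSeries (Fin r) k') (MvPowerSeries (Fin r) k)) with hI
  have hIle : I ≤ maximalIdeal (MvPowerSeries (Fin r) k) := by
    rw [hI, Ideal.map_le_iff_le_comap]
    intro x hx
    exact _root_.map_nonunit _ x hx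
  have hXp : ∀ i : Fin r, (X i : MvPowerSeries (Fin r) k) ^ p ∈ I := by
    intro i
    rw [← iota_X p r k' i]
    apply Ideal.mem_map_of_mem
    rw [Groth.Agent.Helper5.MvPSDim.maximalIdeal_eq]
    exact Ideal.subset_span ⟨i, rfl⟩
  haveI : Nontrivial (MvPowerSeries (Fin r) k ⧸ I) := by
    apply Ideal.Quotient.nontrivial_iff.mpr
    intro h
    rw [h] at hIle
    exact (maximalIdeal.isMaximal (MvPowerSeries (Fin r) k)).ne_top (top_le_iff.mp hIle)
  have h0 : ringKrullDim (MvPowerSeries (Fin r) k ⧸ I) = 0 := by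
    haveI : Ring.KrullDimLE 0 (MvPowerSeries (Fin r) k ⧸ I) := by
      rw [Ring.krullDimLE_zero_iff]
      intro Q hQ
      have hQ' : (Q.comap (Ideal.Quotient.mk I)).IsPrime := Ideal.comap_isPrime _ _
      have hle : maximalIdeal (MvPowerSeries (Fin r) k) ≤ Q.comap (Ideal.Quotient.mk I) := by
        rw [Groth.Agent.Helper5.MvPSDim.maximalIdeal_eq, Ideal.span_le]
        rintro _ ⟨i, rfl⟩
        apply hQ'.mem_of_pow_mem p
        rw [Ideal.mem_comap, Ideal.Quotient.eq_zero_iff_mem.mpr (hXp i)]
        exact Q.zero_mem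
      have heq : Q.comap (Ideal.Quotient.mk I) = maximalIdeal (MvPowerSeries (Fin r) k) :=
        ((maximalIdeal.isMaximal _).eq_of_le hQ'.ne_top hle).symm
      have hQeq : Q = (maximalIdeal (MvPowerSeries (Fin r) k)).map (Ideal.Quotient.mk I) := by
        rw [← heq, Ideal.map_comap_of_surjective _ Ideal.Quotient.mk_surjective]
      rw [hQeq]
      rcases Ideal.map_eq_top_or_isMaximal_of_surjective (Ideal.Quotient.mk I)
        Ideal.Quotient.mk_surjective (maximalIdeal.isMaximal (MvPowerSeries (Fin r) k)) with h | h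
      · exact absurd (hQeq ▸ h) hQ.ne_top
      · exact h
    exact (ringKrullDimZero_iff_ringKrullDim_eq_zero).mp inferInstance
  rw [h0, add_zero, Groth.Agent.Helper7.Cohen.ringKrullDim_mvPowerSeries_field,
    Groth.Agent.Helper7.Cohen.ringKrullDim_mvPowerSeries_field]

/-- the ring isomorphism `k'[[X]] ≃ k'[[T^p]] ⊆ k[[T]]`. -/
noncomputable def rangeEquiv : MvPowerSeries (Fin r) k' ≃+* (iota p r k').range :=
  RingEquiv.ofBijective (iota p r k').rangeRestrict
    ⟨fun a b h => iota_injective p r k' (congrArg Subtype.val h),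
      (iota p r k').rangeRestrict_surjective⟩

theorem rangeEquiv_apply (g : MvPowerSeries (Fin r) k') :
    ((rangeEquiv p r k' g : (iota p r k').range) : MvPowerSeries (Fin r) k) = iota p r k' g := rfl

theorem range_props [Module.Finite k' k] :
    IsNoetherianRing (iota p r k').range ∧
      Module.Free (iota p r k').range (MvPowerSeries (Fin r) k) ∧
      Module.Finite (iota p r k').range (MvPowerSeries (Fin r) k) := by
  letI alg : Algebra (MvPowerSeries (Fin r) k') (MvPowerSeries (Fin r) k) := (iota p r k').toAlgebra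
  haveI hfin : Module.Finite (MvPowerSeries (Fin r) k') (MvPowerSeries (Fin r) k) :=
    iota_finite p r k'
  haveI hflat : Module.Flat (MvPowerSeries (Fin r) k') (MvPowerSeries (Fin r) k) :=
    iota_flat p r k'
  haveI hfree : Module.Free (MvPowerSeries (Fin r) k') (MvPowerSeries (Fin r) k) :=
    Module.free_of_flat_of_isLocalRing
  haveI hno : IsNoetherianRing (MvPowerSeries (Fin r) k') := Groth.Agent.Helper8.CKaePS.noeth k' r
  let e := rangeEquiv p r k'
  haveI : RingHomInvPair (e : MvPowerSeries (Fin r) k' →+* (iota p r k').range)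
      (e.symm : (iota p r k').range →+* MvPowerSeries (Fin r) k') := RingHomInvPair.of_ringEquiv e
  haveI : RingHomInvPair (e.symm : (iota p r k').range →+* MvPowerSeries (Fin r) k')
      (e : MvPowerSeries (Fin r) k' →+* (iota p r k').range) := RingHomInvPair.symm _ _
  let E : MvPowerSeries (Fin r) k ≃ₛₗ[(e : MvPowerSeries (Fin r) k' →+* (iota p r k').range)]
      MvPowerSeries (Fin r) k :=
    { toFun := id
      invFun := id
      map_add' := fun _ _ => rfl
      map_smul' := fun c x => by
        show c • x = (e c) • x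
        rw [Algebra.smul_def, Subring.smul_def, smul_eq_mul]
        rfl
      left_inv := fun _ => rfl
      right_inv := fun _ => rfl }
  refine ⟨isNoetherianRing_of_ringEquiv _ e, Module.Free.of_equiv E, ?_⟩
  exact Module.Finite.of_surjective E.toLinearMap E.surjective

end free

section main
variable (p : ℕ) [hp : Fact p.Prime] (k : Type u) [Field k] [CharP k p] (r : ℕ)

theorem s4548 :
    ∃ (ι : Type u) (_ : Nonempty ι) (S : ι → Subring (MvPowerSeries (Fin r) k)),
      (∀ a b : ι, ∃ c, S c ≤ S a ⊓ S b) ∧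
      (∀ i, IsNoetherianRing (S i) ∧ Module.Free (S i) (MvPowerSeries (Fin r) k) ∧
        Module.Finite (S i) (MvPowerSeries (Fin r) k)) ∧
      ((⨅ i, Subfield.closure (algebraMap (MvPowerSeries (Fin r) k)
        (FractionRing (MvPowerSeries (Fin r) k)) '' (S i)) :
          Set (FractionRing (MvPowerSeries (Fin r) k)))) =
        Set.range fun x : FractionRing (MvPowerSeries (Fin r) k) => x ^ p := by
  haveI : CharP (MvPowerSeries (Fin r) k) p :=
    charP_of_injective_ringHom (MvPowerSeries.C_injective (σ := Fin r) (R := k)) p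
  haveI : CharP (FractionRing (MvPowerSeries (Fin r) k)) p :=
    charP_of_injective_algebraMap (IsFractionRing.injective (MvPowerSeries (Fin r) k)
      (FractionRing (MvPowerSeries (Fin r) k))) p
  obtain ⟨ι, hpre, hdir, hne, kk, hanti, hpow, hfin, hint⟩ := exists_family (k := k) p
  have hcl : ∀ i, Subfield.closure (algebraMap (MvPowerSeries (Fin r) k)
      (FractionRing (MvPowerSeries (Fin r) k)) '' ((iota p r (kk i)).range : Set _)) =
      Kf p r (kk i) := by
    intro i
    unfold Kf
    congr 1
    ext x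
    constructor
    · rintro ⟨_, ⟨g, rfl⟩, rfl⟩
      exact ⟨g, rfl⟩
    · rintro ⟨g, rfl⟩
      exact ⟨_, ⟨g, rfl⟩, rfl⟩
  refine ⟨ι, hne, fun i => (iota p r (kk i)).range, ?_, ?_, ?_⟩
  · intro a b
    obtain ⟨c, hac, hbc⟩ := hdir.directed a b
    refine ⟨c, le_inf ?_ ?_⟩
    · rintro _ ⟨g, rfl⟩
      exact range_iota_mono p r (hanti hac) ⟨g, rfl⟩
    · rintro _ ⟨g, rfl⟩
      exact range_iota_mono p r (hanti hbc) ⟨g, rfl⟩
  · intro i
    haveI := hfin i
    exact range_props p r (kk i)
  · have h1 := iInf_Kf p r kk hpow hint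
    have h2 : ∀ i, Kf p r (kk i) ⊔ (frobenius (FractionRing (MvPowerSeries (Fin r) k)) p).fieldRange
        = Kf p r (kk i) := fun i => sup_eq_left.mpr (frobenius_le_Kf p r (kk i) (hpow i))
    simp_rw [h2] at h1
    simp_rw [hcl]
    rw [Set.iInf_eq_iInter, ← Subfield.coe_iInf, h1]
    ext x
    constructor
    · rintro ⟨y, rfl⟩
      exact ⟨y, rfl⟩
    · rintro ⟨y, rfl⟩
      exact ⟨y, rfl⟩

end main
end Groth.Agent.Helper7.CKd
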