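import Mathlib
import Groth.Prelude.Def_CAlgX
import Groth.Prelude.Def_EGA41
import Groth.Agent.Helper7.CKp2
import Groth.Agent.Helper7.CKs5
set_option autoImplicit false
set_option linter.style.haveILetI false
set_option linter.unusedSectionVars false
set_option linter.unusedVariables false
open TensorProduct IsLocalRing
universe u
namespace Groth.Agent.Helper7.CKd

section conv
variable {A B B₀ : Type u} [CommRing A] [CommRing B] [Algebra A B] (J : Ideal A)
  [CommRing B₀] [Algebra (A ⧸ J) B₀] [Algebra A B₀] [IsScalarTower A (A ⧸ J) B₀]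

/-- from an identification `(A/J) ⊗ B ≅ B₀` to a surjection `B → B₀` with kernel `JB`. -/
theorem exists_theta_of_tensorEquiv (u : (A ⧸ J) ⊗[A] B ≃ₐ[A ⧸ J] B₀) :
    ∃ θ : B →ₐ[A] B₀, (∀ b, θ b = u (1 ⊗ₜ b)) ∧ Function.Surjective θ ∧
      RingHom.ker θ.toRingHom = J.map (algebraMap A B) := by
  let θ : B →ₐ[A] B₀ := ((u : (A ⧸ J) ⊗[A] B →ₐ[A ⧸ J] B₀).restrictScalars A).comp
    Algebra.TensorProduct.includeRight
  have hθ : ∀ b, θ b = u (1 ⊗ₜ b) := fun b => rfl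
  have hres : Function.Surjective (algebraMap A (A ⧸ J)) := Ideal.Quotient.mk_surjective
  have hone : ∀ z : (A ⧸ J) ⊗[A] B, ∃ c : B, z = 1 ⊗ₜ c := by
    intro z
    induction z using TensorProduct.induction_on with
    | zero => exact ⟨0, by simp⟩
    | tmul x c =>
      obtain ⟨a, rfl⟩ := hres x
      refine ⟨a • c, ?_⟩
      rw [← TensorProduct.smul_tmul, Algebra.smul_def, mul_one]
    | add x y hx hy =>
      obtain ⟨x', rfl⟩ := hx
      obtain ⟨y', rfl⟩ := hy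
      exact ⟨x' + y', by rw [TensorProduct.tmul_add]⟩
  refine ⟨θ, hθ, ?_, ?_⟩
  · intro b
    obtain ⟨z, rfl⟩ := u.surjective b
    obtain ⟨c, rfl⟩ := hone z
    exact ⟨c, rfl⟩
  · apply le_antisymm
    · intro c hc
      have hc' : θ c = 0 := hc
      rw [hθ, map_eq_zero_iff _ u.injective] at hc'
      have hker : RingHom.ker (algebraMap A (A ⧸ J)) = J := by
        rw [Ideal.Quotient.algebraMap_eq, Ideal.mk_ker]
      have := ker_includeRight_le hres c hc'
      rwa [hker] at this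
    · rw [Ideal.map_le_iff_le_comap]
      intro a ha
      rw [Ideal.mem_comap, RingHom.mem_ker]
      show θ (algebraMap A B a) = 0
      rw [θ.commutes, IsScalarTower.algebraMap_apply A (A ⧸ J) B₀, Ideal.Quotient.algebraMap_eq,
        Ideal.Quotient.eq_zero_iff_mem.mpr ha, map_zero]

end conv

section S2487
variable {A : Type u} [CommRing A] [IsLocalRing A] [IsNoetherianRing A]
    (J : Ideal A) (hJ : J ≤ maximalIdeal A) [IsLocalRing (A ⧸ J)]
    (B₀ : Type u) [CommRing B₀] [IsLocalRing B₀] [IsNoetherianRing B₀] [IsAdicComplete (maximalIdeal B₀) B₀]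
    [Algebra (A ⧸ J) B₀] [IsLocalHom (algebraMap (A ⧸ J) B₀)]

theorem s2487
    (hfs : EGA41.IsFormallySmoothAdic (A ⧸ J) (maximalIdeal (A ⧸ J)) B₀ (maximalIdeal B₀)) :
    (∃ (B : Type u) (_ : CommRing B) (_ : IsLocalRing B) (_ : IsNoetherianRing B) (_ : Algebra A B) (_ : IsLocalHom (algebraMap A B)),
      IsAdicComplete (maximalIdeal B) B ∧ Module.Flat A B ∧ Nonempty ((A ⧸ J) ⊗[A] B ≃ₐ[A ⧸ J] B₀)) ∧
    ∀ (B B' : Type u) [CommRing B] [IsLocalRing B] [IsNoetherianRing B] [Algebra A B] [IsLocalHom (algebraMap A B)]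
      [CommRing B'] [IsLocalRing B'] [IsNoetherianRing B'] [Algebra A B'] [IsLocalHom (algebraMap A B')],
      IsAdicComplete (maximalIdeal B) B → Module.Flat A B → IsAdicComplete (maximalIdeal B') B' → Module.Flat A B' →
      ∀ (u : (A ⧸ J) ⊗[A] B ≃ₐ[A ⧸ J] B₀) (u' : (A ⧸ J) ⊗[A] B' ≃ₐ[A ⧸ J] B₀),
      ∃ v : B ≃ₐ[A] B', (u' : (A ⧸ J) ⊗[A] B' →ₐ[A ⧸ J] B₀).comp
          (Algebra.TensorProduct.map (AlgHom.id (A ⧸ J) (A ⧸ J)) (v : B →ₐ[A] B')) = (u : (A ⧸ J) ⊗[A] B →ₐ[A ⧸ J] B₀) := by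
  have hle₀ : (maximalIdeal (A ⧸ J)).map (algebraMap (A ⧸ J) B₀) ≤ maximalIdeal B₀ :=
    ((IsLocalRing.local_hom_TFAE (algebraMap (A ⧸ J) B₀)).out 0 2).mp
      ‹IsLocalHom (algebraMap (A ⧸ J) B₀)›
  have hfs₀ : CAlgX.IsAdicFormallySmooth (A ⧸ J) B₀ (maximalIdeal B₀) :=
    (adicBase_iff _ _ hle₀).mp hfs
  letI algAB₀ : Algebra A B₀ :=
    ((algebraMap (A ⧸ J) B₀).comp (algebraMap A (A ⧸ J))).toAlgebra
  haveI : IsScalarTower A (A ⧸ J) B₀ := IsScalarTower.of_algebraMap_eq (fun a => rfl)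
  constructor
  · obtain ⟨C, _, _, _, algC, hloc, hcompl, hflat, -, v, hvs, hkv⟩ :=
      exists_flat_lift_of_adic J hfs₀
    refine ⟨C, inferInstance, inferInstance, inferInstance, algC, hloc, hcompl, hflat, ?_⟩
    letI algCB : Algebra C B₀ := v.toRingHom.toAlgebra
    haveI : IsScalarTower A C B₀ := IsScalarTower.of_algebraMap_eq (fun a => (v.commutes a).symm)
    have hbij := Groth.Agent.Helper7.Cohen.tensor_bijective_of_surjective (R := A)
      (A := A ⧸ J) (S := C) (T := B₀) Ideal.Quotient.mk_surjective hvs (by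
        rw [Ideal.Quotient.algebraMap_eq, Ideal.mk_ker]; exact hkv)
    exact ⟨AlgEquiv.ofBijective _ hbij⟩
  · intro B B' _ _ _ _ _ _ _ _ _ _ hcB hflB hcB' hflB' u u'
    haveI := hcB
    haveI := hflB
    haveI := hcB'
    haveI := hflB'
    obtain ⟨θ, hθapp, hθs, hkθ⟩ := exists_theta_of_tensorEquiv J u
    obtain ⟨θ', hθ'app, hθ's, hkθ'⟩ := exists_theta_of_tensorEquiv J u'
    have hJB : J.map (algebraMap A B) ≤ maximalIdeal B := by
      rw [← hkθ]; exact IsLocalRing.le_maximalIdeal (RingHom.ker_ne_top _)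
    have hfsB : CAlgX.IsAdicFormallySmooth A B (maximalIdeal B) := by
      refine adic_of_flat_of_fibre J (maximalIdeal B) hJB (Ideal.Quotient.mk J)
        Ideal.Quotient.mk_surjective (by rw [Ideal.mk_ker]) θ.toRingHom hθs hkθ.le ?_ ?_
      · intro a
        show θ (algebraMap A B a) = _
        rw [θ.commutes]
        rfl
      · rw [IsLocalRing.map_maximalIdeal_of_surjective _ hθs]
        exact hfs₀
    obtain ⟨v, hv⟩ := exists_algEquiv_of_lifts J hfsB θ hθs hkθ θ' hθ's hkθ'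
    refine ⟨v, ?_⟩
    apply Algebra.TensorProduct.ext'
    intro x b
    have h1 : x ⊗ₜ[A] b = x • ((1 : A ⧸ J) ⊗ₜ[A] b) := by
      rw [TensorProduct.smul_tmul', smul_eq_mul, mul_one]
    have h2 : x ⊗ₜ[A] (v b) = x • ((1 : A ⧸ J) ⊗ₜ[A] (v b)) := by
      rw [TensorProduct.smul_tmul', smul_eq_mul, mul_one]
    show u' (Algebra.TensorProduct.map (AlgHom.id (A ⧸ J) (A ⧸ J)) (v : B →ₐ[A] B') (x ⊗ₜ b)) =
      u (x ⊗ₜ b)
    rw [Algebra.TensorProduct.map_tmul, AlgHom.id_apply]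
    show u' (x ⊗ₜ[A] (v b)) = u (x ⊗ₜ b)
    rw [h1, h2, map_smul, map_smul, ← hθapp, ← hθ'app, hv]

end S2487
end Groth.Agent.Helper7.CKd
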