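import Mathlib
import Groth.Prelude.Def_CAlgX
import Groth.Prelude.Def_CAlg
import Groth.Prelude.Def_EGA4b
import Groth.Agent.Helper7.CKr4
import Groth.Agent.Helper7.CKt14
set_option autoImplicit false
set_option linter.style.haveILetI false
set_option linter.unusedSectionVars false
set_option linter.unusedVariables false
open TensorProduct IsLocalRing
universe u
namespace Groth.Agent.Helper7.CKd

theorem s4708 (A B : Type u) [CommRing A] [CommRing B]
    [IsNoetherianRing A] [IsNoetherianRing B] [IsLocalRing A] [IsLocalRing B] [Algebra A B]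
    [IsLocalHom (algebraMap A B)] [Module.Flat A B]
    (hA : CAlg.IsRegularHom A (EGA4.Cpl A))
    (h : CAlg.IsGeometricallyRegular (IsLocalRing.maximalIdeal A).ResidueField
      ((IsLocalRing.maximalIdeal A).Fiber (EGA4.Cpl B))) :
    CAlg.IsRegularHom A B := by
  haveI hnB : IsNoetherianRing (AdicCompletion (maximalIdeal B) B) :=
    Groth.Agent.S0543.result B _
  haveI : Module.Flat B (AdicCompletion (maximalIdeal B) B) :=
    AdicCompletion.flat_of_isNoetherian (maximalIdeal B)
  haveI : Module.Flat A (AdicCompletion (maximalIdeal B) B) :=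
    Module.Flat.trans A B (AdicCompletion (maximalIdeal B) B)
  haveI : IsLocalHom (algebraMap A (AdicCompletion (maximalIdeal B) B)) := by
    rw [IsScalarTower.algebraMap_eq A B (AdicCompletion (maximalIdeal B) B)]
    exact RingHom.isLocalHom_comp _ _
  have h1 : CAlgX.IsAdicFormallySmooth A (AdicCompletion (maximalIdeal B) B)
      (maximalIdeal (AdicCompletion (maximalIdeal B) B)) := s2038.mp ⟨inferInstance, h⟩
  have h2 : EGA41.IsFormallySmoothAdic A ⊥ (AdicCompletion (maximalIdeal B) B)
      (maximalIdeal (AdicCompletion (maximalIdeal B) B)) := (Groth.Agent.S4537.result _).mp h1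
  rw [AdicCompletion.maximalIdeal_eq_map (R := B)] at h2
  have h3 := (Groth.Agent.S2461.result (⊥ : Ideal A) (maximalIdeal B)).mpr h2
  have h4 : CAlgX.IsAdicFormallySmooth A B (maximalIdeal B) := (Groth.Agent.S4537.result _).mpr h3
  exact s9314 hA h4

end Groth.Agent.Helper7.CKd
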