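import Mathlib
import Groth.Prelude.Def_CAlgX
import Groth.Prelude.Def_EtRam
import Groth.Agent.S2451
import Groth.Agent.Helper7.CKp2
import Groth.Agent.Helper7.CKq1
import Groth.Agent.Helper7.CKu3
import Groth.Agent.Helper8.GeomReg1
import Groth.Agent.Lead.RegLocal
set_option autoImplicit false
set_option linter.style.haveILetI false
set_option linter.unusedSectionVars false
set_option linter.unusedVariables false
open TensorProduct IsLocalRing
universe u
namespace Groth.Agent.Helper7.CKd

/-- a field extension which is adically formally smooth (for the zero ideal) is formally smooth. -/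
theorem formallySmooth_of_adic_bot {k K : Type u} [Field k] [CommRing K] [Algebra k K]
    (h : CAlgX.IsAdicFormallySmooth k K ⊥) : Algebra.FormallySmooth k K := by
  rw [Algebra.FormallySmooth.iff_comp_surjective]
  intro C _ _ J hJ ψ
  exact h C J hJ ψ ⟨1, fun x hx => by
    rw [pow_one, Ideal.mem_bot] at hx
    rw [hx, map_zero]⟩

theorem s7134 (A B : Type u) [CommRing A]
    [IsDomain A] [IsDiscreteValuationRing A] [CommRing B] [IsDomain B] [IsDiscreteValuationRing B]
    [Algebra A B]
    (hinj : Function.Injective (algebraMap A B)) [IsLocalHom (algebraMap A B)] :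
    CAlgX.IsAdicFormallySmooth A B (IsLocalRing.maximalIdeal B) ↔
      EtRam.IsWeaklyUnramified A B ∧
        Algebra.IsGeometricallyReduced (IsLocalRing.ResidueField A) (IsLocalRing.ResidueField B) := by
  have hle : (maximalIdeal A).map (algebraMap A B) ≤ maximalIdeal B :=
    ((IsLocalRing.local_hom_TFAE (algebraMap A B)).out 0 2).mp ‹IsLocalHom (algebraMap A B)›
  have hcompres : ∀ a : A, residue B (algebraMap A B a) =
      algebraMap (ResidueField A) (ResidueField B) (residue A a) := fun a => rfl
  constructor
  · intro hfs
    -- weakly unramified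
    have hwu : (maximalIdeal A).map (algebraMap A B) = maximalIdeal B := by
      obtain ⟨I, hI⟩ : ∃ I : Ideal B, I = (maximalIdeal A).map (algebraMap A B) := ⟨_, rfl⟩
      have hIle : I ≤ maximalIdeal B := hI ▸ hle
      have hItop : I ≠ ⊤ := fun h => (maximalIdeal.isMaximal B).ne_top (top_le_iff.mp (h ▸ hIle))
      haveI : Nontrivial (B ⧸ I) := Ideal.Quotient.nontrivial_iff.mpr hItop
      haveI : IsLocalRing (B ⧸ I) :=
        IsLocalRing.of_surjective' (Ideal.Quotient.mk I) Ideal.Quotient.mk_surjective
      let φ : ResidueField A →+* B ⧸ I :=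
        Ideal.quotientMap I (algebraMap A B) (by rw [hI]; exact Ideal.le_comap_map)
      letI algk : Algebra (ResidueField A) (B ⧸ I) := φ.toAlgebra
      have hφ : ∀ a : A, algebraMap (ResidueField A) (B ⧸ I) (residue A a) =
          Ideal.Quotient.mk I (algebraMap A B a) := fun a => rfl
      have h1 : CAlgX.IsAdicFormallySmooth (ResidueField A) (B ⧸ I) (maximalIdeal (B ⧸ I)) := by
        have := adic_fibre_of_adic (maximalIdeal B) (residue A) residue_surjective
          (Ideal.Quotient.mk I) Ideal.Quotient.mk_surjective
          (by rw [Ideal.mk_ker, ker_residue, hI]) (fun a => (hφ a).symm) hfs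
        rwa [IsLocalRing.map_maximalIdeal_of_surjective _ Ideal.Quotient.mk_surjective] at this
      have h2 : IsRegularLocalRing (B ⧸ I) :=
        Groth.Agent.Helper8.GeomReg.isRegularLocalRing_of_adic h1
      haveI : IsDomain (B ⧸ I) := Groth.Agent.Lead.RegLocal.isDomain_of_isRegularLocalRing _
      haveI hIprime : I.IsPrime := (Ideal.Quotient.isDomain_iff_prime I).mp inferInstance
      have hI0 : I ≠ ⊥ := by
        intro h0
        obtain ⟨ϖ, hϖ⟩ := IsDiscreteValuationRing.exists_irreducible A
        have h3 : algebraMap A B ϖ ∈ I := by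
          rw [hI]
          exact Ideal.mem_map_of_mem _ ((mem_maximalIdeal ϖ).mpr hϖ.not_isUnit)
        rw [h0, Ideal.mem_bot] at h3
        exact hϖ.ne_zero (hinj (by rw [h3, map_zero]))
      haveI : I.IsMaximal := Ideal.IsPrime.isMaximal hIprime hI0
      rw [← hI]
      exact IsLocalRing.eq_maximalIdeal inferInstance
    refine ⟨hwu, ?_⟩
    have h1 : CAlgX.IsAdicFormallySmooth (ResidueField A) (ResidueField B)
        ((maximalIdeal B).map (residue B)) :=
      adic_fibre_of_adic (maximalIdeal B) (residue A) residue_surjective
        (residue B) residue_surjective (by rw [ker_residue, ker_residue, hwu])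
        hcompres hfs
    have h2 : (maximalIdeal B).map (residue B) = ⊥ := by
      rw [Ideal.map_eq_bot_iff_le_ker, ker_residue]
    rw [h2] at h1
    exact Groth.Agent.S2451.result.mp (formallySmooth_of_adic_bot h1)
  · rintro ⟨hwu, hsep⟩
    haveI : Module.IsTorsionFree A B := by
      refine Module.IsTorsionFree.of_smul_eq_zero (fun r m hrm => ?_)
      rw [Algebra.smul_def, mul_eq_zero] at hrm
      rcases hrm with h | h
      · left; exact hinj (by rw [h, map_zero])
      · right; exact h
    haveI : Module.Flat A B := inferInstance
    haveI : Algebra.FormallySmooth (ResidueField A) (ResidueField B) :=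
      Groth.Agent.S2451.result.mpr hsep
    exact adic_of_flat_of_fibre (maximalIdeal A) (maximalIdeal B) hle
      (residue A) residue_surjective (by rw [ker_residue]) (residue B) residue_surjective
      (by rw [ker_residue]; exact hwu.symm.le) hcompres (adic_of_formallySmooth _)

end Groth.Agent.Helper7.CKd
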