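import Mathlib
import Groth.Prelude
import Groth.Agent.S2620
import Groth.Agent.Helper4.ArtinReg2
import Groth.Agent.Helper2.RedComp
import Groth.Agent.Helper2.CplDesc
import Groth.Agent.Helper2.RegBC
import Groth.Agent.Helper6.ComplDim
import Groth.Agent.Helper7.DedExcB
import Groth.Agent.Helper7.CKs1
import Groth.Agent.Helper7.CKu5
set_option autoImplicit false
set_option linter.style.haveILetI false
set_option linter.unusedSectionVars false
set_option linter.unusedVariables false
open TensorProduct IsLocalRing
universe u
namespace Groth.Agent.Helper7.CKd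

/-- a localization of a one-dimensional noetherian local ring inverting a non-unit is artinian. -/
theorem isArtinianRing_localization_of_dim_one (W : Type u) [CommRing W] [IsLocalRing W]
    [IsNoetherianRing W] (hdim : Ring.KrullDimLE 1 W) (S : Submonoid W) (π : W) (hπS : π ∈ S)
    (hπm : π ∈ maximalIdeal W) (F : Type u) [CommRing F] [Algebra W F] [IsLocalization S F] :
    IsArtinianRing F := by
  haveI : IsNoetherianRing F := IsLocalization.isNoetherianRing S F inferInstance
  rw [isArtinianRing_iff_krullDimLE_zero, Ring.krullDimLE_zero_iff]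
  intro P hP
  obtain ⟨M, hM, hPM⟩ := Ideal.exists_le_maximal P hP.ne_top
  have key : P = M := by
    haveI hP' : (P.comap (algebraMap W F)).IsPrime := Ideal.comap_isPrime _ _
    haveI hM' : (M.comap (algebraMap W F)).IsPrime := Ideal.comap_isPrime _ _
    have hM'notmax : ¬ (M.comap (algebraMap W F)).IsMaximal := fun h => by
      have h1 : M.comap (algebraMap W F) = maximalIdeal W := IsLocalRing.eq_maximalIdeal h
      have hπM : algebraMap W F π ∈ M := by
        rw [← Ideal.mem_comap, h1]; exact hπm
      exact hM.ne_top (Ideal.eq_top_of_isUnit_mem _ hπM (IsLocalization.map_units F ⟨π, hπS⟩))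
    have hmin : M.comap (algebraMap W F) ∈ minimalPrimes W :=
      ((Ring.krullDimLE_one_iff.mp hdim) _ hM').resolve_right hM'notmax
    have hle : P.comap (algebraMap W F) ≤ M.comap (algebraMap W F) := Ideal.comap_mono hPM
    have heq : P.comap (algebraMap W F) = M.comap (algebraMap W F) :=
      le_antisymm hle (hmin.2 ⟨hP', bot_le⟩ hle)
    calc P = (P.comap (algebraMap W F)).map (algebraMap W F) := (IsLocalization.map_under S F P).symm
      _ = (M.comap (algebraMap W F)).map (algebraMap W F) := by rw [heq]
      _ = M := IsLocalization.map_under S F M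
  rw [key]; exact hM

section dvr
variable (R : Type u) [CommRing R] [IsDomain R] [IsDiscreteValuationRing R]

attribute [local instance] Algebra.TensorProduct.rightAlgebra in
theorem isArtinianRing_genericFibre :
    IsArtinianRing ((⊥ : Ideal R).Fiber (AdicCompletion (maximalIdeal R) R)) := by
  set κ := (⊥ : Ideal R).ResidueField with hκ
  set W := AdicCompletion (maximalIdeal R) R with hW
  haveI : IsNoetherianRing W := Groth.Agent.S0543.result R _
  have hcompl : (⊥ : Ideal R).primeCompl = nonZeroDivisors R := by
    ext x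
    rw [mem_nonZeroDivisors_iff_ne_zero]
    exact Iff.rfl
  haveI : IsFractionRing R (Localization.AtPrime (⊥ : Ideal R)) := by
    change IsLocalization (nonZeroDivisors R) _
    rw [← hcompl]
    infer_instance
  have hfield : IsField (Localization.AtPrime (⊥ : Ideal R)) :=
    @Field.toIsField _ (IsFractionRing.toField R)
  have hbij : Function.Bijective (IsLocalRing.residue (Localization.AtPrime (⊥ : Ideal R))) := by
    constructor
    · rw [RingHom.injective_iff_ker_eq_bot, IsLocalRing.ker_residue]
      exact IsLocalRing.isField_iff_maximalIdeal_eq.mp hfield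
    · exact IsLocalRing.residue_surjective
  let e : Localization.AtPrime (⊥ : Ideal R) ≃ₐ[R] κ :=
    AlgEquiv.ofBijective (IsScalarTower.toAlgHom R (Localization.AtPrime (⊥ : Ideal R)) κ) hbij
  haveI : IsLocalization (⊥ : Ideal R).primeCompl κ :=
    IsLocalization.isLocalization_of_algEquiv (⊥ : Ideal R).primeCompl e
  haveI : IsLocalization (Algebra.algebraMapSubmonoid W (⊥ : Ideal R).primeCompl) (κ ⊗[R] W) :=
    IsLocalization.tensorRight κ (⊥ : Ideal R).primeCompl
  have hdimW : Ring.KrullDimLE 1 W := by
    rw [Ring.krullDimLE_iff,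
      (Groth.Agent.Helper6.ComplDim.main_S19474 R (maximalIdeal R)
        (Ideal.IsPrime.ne_top inferInstance)).1]
    exact Ring.krullDimLE_iff.mp inferInstance
  obtain ⟨ϖ, hϖ⟩ := IsDiscreteValuationRing.exists_irreducible R
  have hϖ0 : ϖ ≠ 0 := hϖ.ne_zero
  have hϖm : ϖ ∈ maximalIdeal R := by
    rw [mem_maximalIdeal, mem_nonunits_iff]
    exact hϖ.not_isUnit
  refine isArtinianRing_localization_of_dim_one W hdimW
    (Algebra.algebraMapSubmonoid W (⊥ : Ideal R).primeCompl) (algebraMap R W ϖ) ?_ ?_ (κ ⊗[R] W)
  · exact ⟨ϖ, hϖ0, rfl⟩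
  · rw [AdicCompletion.maximalIdeal_eq_map]
    exact Ideal.mem_map_of_mem _ hϖm

theorem geomReg_genericFibre
    (h : Algebra.IsGeometricallyReduced (⊥ : Ideal R).ResidueField
      ((⊥ : Ideal R).Fiber (AdicCompletion (maximalIdeal R) R))) :
    CAlg.IsGeometricallyRegular (⊥ : Ideal R).ResidueField
      ((⊥ : Ideal R).Fiber (AdicCompletion (maximalIdeal R) R)) := by
  intro k' _ _ hfin
  haveI := hfin
  haveI : Algebra.IsAlgebraic (⊥ : Ideal R).ResidueField k' := Algebra.IsAlgebraic.of_finite _ k'
  haveI : IsReduced (k' ⊗[(⊥ : Ideal R).ResidueField]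
      ((⊥ : Ideal R).Fiber (AdicCompletion (maximalIdeal R) R))) := inferInstance
  haveI := isArtinianRing_genericFibre R
  haveI : IsArtinianRing (((⊥ : Ideal R).Fiber (AdicCompletion (maximalIdeal R) R))
      ⊗[(⊥ : Ideal R).ResidueField] k') := IsArtinianRing.of_finite
    ((⊥ : Ideal R).Fiber (AdicCompletion (maximalIdeal R) R))
    (((⊥ : Ideal R).Fiber (AdicCompletion (maximalIdeal R) R))
      ⊗[(⊥ : Ideal R).ResidueField] k')
  haveI : IsArtinianRing (k' ⊗[(⊥ : Ideal R).ResidueField]
      ((⊥ : Ideal R).Fiber (AdicCompletion (maximalIdeal R) R))) :=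
    (Algebra.TensorProduct.comm (⊥ : Ideal R).ResidueField
      ((⊥ : Ideal R).Fiber (AdicCompletion (maximalIdeal R) R)) k').toRingEquiv.isArtinianRing
  exact Groth.Agent.Helper4.ArtinReg.isRegularRing_of_isArtinianRing_of_isReduced _

theorem s17703 :
    EGA4.IsExcellent R ↔
      Algebra.IsGeometricallyReduced (⊥ : Ideal R).ResidueField
        (EGA4.formalFibre R (⊥ : Ideal R)) := by
  constructor
  · intro hE
    have hG := hE.2.2.1
    have h := isRegularHom_cpl_of_isGRing R hG
    have hreg := (h.2 ⊥).2
    exact Groth.Agent.Helper2.RedComp.isGeometricallyReduced_of_finite _ _ (fun k' _ _ hfin => by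
      haveI := hreg k' hfin
      exact Groth.Agent.Helper2.CplDesc.isReduced_of_isRegularRing _)
  · intro hred
    refine ⟨inferInstance, Groth.Agent.Helper7.DedExc.isUniversallyCatenary_of_isRegularRing R,
      ?_, ?_⟩
    · apply isGRing_of_isRegularHom_cpl R
      refine ⟨inferInstance, fun q hq =>
        ⟨Groth.Agent.Helper2.RegBC.isNoetherianRing_fiber R _ q, ?_⟩⟩
      by_cases hq0 : q = ⊥
      · subst hq0
        exact geomReg_genericFibre R hred
      · have hqm : q = maximalIdeal R :=
          IsLocalRing.eq_maximalIdeal (Ring.DimensionLEOne.maximalOfPrime hq0 hq)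
        subst hqm
        exact Groth.Agent.Helper7.DedExc.closedFibre R
    · refine Groth.Agent.S2620.result R ?_ (Ring.krullDimLE_iff.mp inferInstance)
      exact Set.Finite.subset (Set.finite_singleton (maximalIdeal R))
        (fun I hI => IsLocalRing.eq_maximalIdeal hI)

end dvr

end Groth.Agent.Helper7.CKd
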