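import Mathlib
import Groth.Agent.Helper7.CohenFin
import Groth.Agent.Helper5.MvPSIdeal
import Groth.Agent.Helper5.MvPSDim

set_option linter.style.haveILetI false
set_option linter.unusedSectionVars false
set_option maxHeartbeats 400000

/-! A complete Noetherian local ring with a coefficient field `K` is a quotient of a power series
ring over `K`, with kernel inside the square of the maximal ideal. -/

namespace Groth.Agent.Helper7.CohenSurj

open IsLocalRing

universe u

section
variable {K A : Type u} [Field K] [CommRing A] [IsLocalRing A] [IsNoetherianRing A]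
  [IsAdicComplete (maximalIdeal A) A] [Algebra K A]

theorem exists_surj (hK : Function.Bijective (algebraMap K (ResidueField A))) :
    ∃ (n : ℕ) (ψ : MvPowerSeries (Fin n) K →ₐ[K] A), Function.Surjective ψ ∧
      RingHom.ker ψ.toRingHom ≤ maximalIdeal (MvPowerSeries (Fin n) K) ^ 2 := by
  classical
  have hfg : (maximalIdeal A).FG := (maximalIdeal A).fg_of_isNoetherianRing
  obtain ⟨s, hscard, hsspan⟩ := Submodule.FG.exists_span_finset_card_eq_spanFinrank hfg
  let n := s.card
  let x : Fin n → A := fun i => (s.equivFin.symm i : A)
  have hrange : Set.range x = (s : Set A) := by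
    ext a
    constructor
    · rintro ⟨i, rfl⟩; exact (s.equivFin.symm i).2
    · intro ha; exact ⟨s.equivFin ⟨a, ha⟩, by simp [x]⟩
  have hx : Ideal.span (Set.range x) = maximalIdeal A := by rw [hrange]; exact hsspan
  have hxm : ∀ i, x i ∈ maximalIdeal A := fun i => hx ▸ Ideal.subset_span ⟨i, rfl⟩
  obtain ⟨ψ, hψX⟩ := Groth.Agent.Helper7.PSEval.exists_algHom_X (k := K) (maximalIdeal A) x hxm
  have hfun : (fun i => ψ (MvPowerSeries.X i)) = x := funext hψX
  haveI : Module.Finite K (ResidueField A) :=
    Module.Finite.of_surjective (Algebra.linearMap K (ResidueField A)) hK.2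
  have hfin : ψ.toRingHom.Finite := by
    apply Groth.Agent.Helper7.CohenFin.finite_of_minimal ψ
    rw [hfun, hx, Ideal.minimalPrimes_eq_subsingleton_self]
    rfl
  -- residues
  have hres : ∀ a : A, ∃ c : K, a - algebraMap K A c ∈ maximalIdeal A := by
    intro a
    obtain ⟨c, hc⟩ := hK.2 (residue A a)
    refine ⟨c, ?_⟩
    rw [← Ideal.Quotient.eq_zero_iff_mem]
    change residue A (a - algebraMap K A c) = 0
    rw [map_sub, ← hc, sub_eq_zero]
    rfl
  have hinj : ∀ c : K, algebraMap K A c ∈ maximalIdeal A → c = 0 := by
    intro c hc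
    apply hK.1
    rw [map_zero]
    have : residue A (algebraMap K A c) = 0 := (residue_eq_zero_iff _).mpr hc
    exact this
  let P := MvPowerSeries (Fin n) K
  have hmP : maximalIdeal P = Ideal.span (Set.range (MvPowerSeries.X : Fin n → P)) :=
    Groth.Agent.Helper5.MvPSDim.maximalIdeal_eq K n
  have hmap : (maximalIdeal P).map ψ.toRingHom = maximalIdeal A := by
    rw [hmP, Ideal.map_span, ← Set.range_comp, ← hx]
    congr 2
  -- image of a series mod the maximal ideal
  have hψmod : ∀ g : P, ψ g - algebraMap K A (MvPowerSeries.constantCoeff g) ∈ maximalIdeal A := by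
    intro g
    have h1 : g - MvPowerSeries.C (MvPowerSeries.constantCoeff g) ∈ maximalIdeal P := by
      rw [hmP]
      apply Groth.Agent.Helper5.MvPSIdeal.mem_span_X
      simp
    have h2 := Ideal.mem_map_of_mem ψ.toRingHom h1
    rw [hmap] at h2
    have h3 : ψ.toRingHom (g - MvPowerSeries.C (MvPowerSeries.constantCoeff g)) =
        ψ g - algebraMap K A (MvPowerSeries.constantCoeff g) := by
      change ψ (g - MvPowerSeries.C (MvPowerSeries.constantCoeff g)) = _
      rw [map_sub]
      congr 1
      exact ψ.commutes _
    rwa [h3] at h2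
  refine ⟨n, ψ, ?_, ?_⟩
  · -- surjectivity by Nakayama
    letI : Algebra P A := ψ.toRingHom.toAlgebra
    haveI : Module.Finite P A := hfin
    let N : Submodule P A := LinearMap.range (Algebra.linearMap P A)
    have htop : (⊤ : Submodule P A) ≤ N := by
      apply Submodule.le_of_le_smul_of_le_jacobson_bot (I := maximalIdeal P) Module.Finite.fg_top
      · rw [IsLocalRing.jacobson_eq_maximalIdeal ⊥ bot_ne_top]
      · intro a _
        obtain ⟨c, hc⟩ := hres a
        have h1 : a = algebraMap K A c + (a - algebraMap K A c) := by ring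
        rw [h1]
        apply Submodule.add_mem_sup
        · refine ⟨MvPowerSeries.C c, ?_⟩
          change ψ (MvPowerSeries.C c) = _
          exact ψ.commutes c
        · rw [Ideal.smul_top_eq_map, Submodule.restrictScalars_mem]
          change a - algebraMap K A c ∈ (maximalIdeal P).map ψ.toRingHom
          rw [hmap]
          exact hc
    intro a
    obtain ⟨g, hg⟩ := htop (Submodule.mem_top : a ∈ ⊤)
    exact ⟨g, hg⟩
  · -- kernel in the square of the maximal ideal
    intro f hf
    rw [RingHom.mem_ker] at hf
    have hf' : ψ f = 0 := hf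
    have h0 : MvPowerSeries.constantCoeff f = 0 := by
      apply hinj
      have := hψmod f
      rw [hf', zero_sub, neg_mem_iff] at this
      exact this
    rw [hmP]
    apply Groth.Agent.Helper5.MvPSIdeal.mem_span_X_sq f h0
    obtain ⟨g, hg, hg0⟩ := Groth.Agent.Helper5.MvPSIdeal.exists_decomp f h0
    -- linear independence of the classes of x
    have hsp : Submodule.span (ResidueField A)
        (Set.range (fun i => (maximalIdeal A).toCotangent ⟨x i, hxm i⟩)) = ⊤ := by
      rw [eq_top_iff]
      intro y _
      obtain ⟨⟨y, hy⟩, rfl⟩ := Ideal.toCotangent_surjective _ y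
      have hy' : y ∈ Ideal.span (Set.range x) := hx.symm ▸ hy
      have key : ∀ z (hz : z ∈ Ideal.span (Set.range x)),
          (maximalIdeal A).toCotangent ⟨z, hx ▸ hz⟩ ∈ Submodule.span (ResidueField A)
            (Set.range (fun i => (maximalIdeal A).toCotangent ⟨x i, hxm i⟩)) := by
        intro z hz
        induction hz using Submodule.span_induction with
        | mem z hz =>
          obtain ⟨i, rfl⟩ := hz
          exact Submodule.subset_span ⟨i, rfl⟩
        | zero =>
          have : (⟨0, hx ▸ (Ideal.span (Set.range x)).zero_mem⟩ : maximalIdeal A) = 0 := rfl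
          rw [this, map_zero]; exact Submodule.zero_mem _
        | add a b ha hb iha ihb =>
          have : (⟨a + b, hx ▸ (Ideal.span (Set.range x)).add_mem ha hb⟩ : maximalIdeal A) =
              ⟨a, hx ▸ ha⟩ + ⟨b, hx ▸ hb⟩ := rfl
          rw [this, map_add]; exact Submodule.add_mem _ iha ihb
        | smul c a ha iha =>
          have : (⟨c • a, hx ▸ (Ideal.span (Set.range x)).smul_mem c ha⟩ : maximalIdeal A) =
              c • ⟨a, hx ▸ ha⟩ := rfl
          rw [this, map_smul]
          have h2 : c • (maximalIdeal A).toCotangent ⟨a, hx ▸ ha⟩ =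
              (residue A c) • (maximalIdeal A).toCotangent ⟨a, hx ▸ ha⟩ := rfl
          rw [h2]
          exact Submodule.smul_mem _ _ iha
      exact key y hy'
    have hli : LinearIndependent (ResidueField A)
        (fun i => (maximalIdeal A).toCotangent ⟨x i, hxm i⟩) := by
      apply linearIndependent_of_top_le_span_of_card_eq_finrank hsp.ge
      rw [Fintype.card_fin]
      change s.card = _
      rw [hscard]
      exact IsLocalRing.spanFinrank_maximalIdeal_eq_finrank_cotangentSpace A
    -- the relation
    have hrel : ∑ i, x i * algebraMap K A (MvPowerSeries.constantCoeff (g i)) ∈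
        maximalIdeal A ^ 2 := by
      have h1 : ∑ i, x i * ψ (g i) = 0 := by
        rw [← hf', hg, map_sum]
        refine Finset.sum_congr rfl fun i _ => ?_
        rw [map_mul, hψX]
      have h2 : ∑ i, x i * algebraMap K A (MvPowerSeries.constantCoeff (g i)) =
          -∑ i, x i * (ψ (g i) - algebraMap K A (MvPowerSeries.constantCoeff (g i))) := by
        rw [← Finset.sum_neg_distrib, ← sub_eq_zero, ← Finset.sum_sub_distrib, ← h1]
        refine Finset.sum_congr rfl fun i _ => ?_
        ring
      rw [h2, neg_mem_iff, pow_two]
      exact Ideal.sum_mem _ fun i _ => Ideal.mul_mem_mul (hxm i) (hψmod (g i))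
    have hcot : ∑ i, (algebraMap K (ResidueField A) (MvPowerSeries.constantCoeff (g i))) •
        (maximalIdeal A).toCotangent ⟨x i, hxm i⟩ = 0 := by
      have h3 : (maximalIdeal A).toCotangent
          ⟨∑ i, x i * algebraMap K A (MvPowerSeries.constantCoeff (g i)),
            Ideal.sum_mem _ fun i _ => Ideal.mul_mem_right _ _ (hxm i)⟩ = 0 := by
        rw [Ideal.toCotangent_eq_zero]
        exact hrel
      rw [← h3]
      have h4 : (⟨∑ i, x i * algebraMap K A (MvPowerSeries.constantCoeff (g i)),
            Ideal.sum_mem _ fun i _ => Ideal.mul_mem_right _ _ (hxm i)⟩ : maximalIdeal A) =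
          ∑ i, (algebraMap K A (MvPowerSeries.constantCoeff (g i))) • (⟨x i, hxm i⟩ : maximalIdeal A) := by
        apply Subtype.ext
        have h5 := Submodule.coe_sum (maximalIdeal A)
          (fun i => (algebraMap K A (MvPowerSeries.constantCoeff (g i))) •
            (⟨x i, hxm i⟩ : maximalIdeal A)) Finset.univ
        rw [h5]
        change ∑ i, x i * algebraMap K A (MvPowerSeries.constantCoeff (g i)) = _
        refine Finset.sum_congr rfl fun i _ => ?_
        rw [Submodule.coe_smul, smul_eq_mul, mul_comm]
      have h6 := map_sum (maximalIdeal A).toCotangent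
        (fun i => (algebraMap K A (MvPowerSeries.constantCoeff (g i))) •
            (⟨x i, hxm i⟩ : maximalIdeal A)) Finset.univ
      rw [h4, h6]
      refine Finset.sum_congr rfl fun i _ => ?_
      rw [map_smul]
      rfl
    intro i
    rw [← hg0 i]
    have := Fintype.linearIndependent_iff.mp hli _ hcot i
    exact hK.1 (by rw [this, map_zero])

end

end Groth.Agent.Helper7.CohenSurj
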