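import Mathlib
import Groth.Agent.Helper7.CohenU2
import Groth.Agent.Helper7.CohenSurj
import Groth.Agent.Helper1.FieldSmooth7
set_option linter.style.haveILetI false
set_option linter.unusedSectionVars false
set_option linter.unusedVariables false
open IsLocalRing
universe u
namespace Groth.Agent.Helper7.CKd

open Groth.Agent.Helper7.Cohen in
theorem s7622 (k A : Type u) [Field k] [CommRing A] [Algebra k A]
    [IsNoetherianRing A] [IsLocalRing A] [Algebra.IsGeometricallyReduced k (IsLocalRing.ResidueField A)] :
    ∃ (n : ℕ) (I : Ideal (MvPowerSeries (Fin n) (IsLocalRing.ResidueField A)))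
      (e : (MvPowerSeries (Fin n) (IsLocalRing.ResidueField A) ⧸ I) ≃ₐ[k]
        AdicCompletion (IsLocalRing.maximalIdeal A) A),
      ∀ a : A, e (Ideal.Quotient.mk I (MvPowerSeries.C (IsLocalRing.residue A a))) -
          algebraMap A (AdicCompletion (IsLocalRing.maximalIdeal A) A) a ∈
        (IsLocalRing.maximalIdeal A).map (algebraMap A (AdicCompletion (IsLocalRing.maximalIdeal A) A)) := by
  classical
  haveI : Algebra.FormallySmooth k (ResidueField A) :=
    Groth.Agent.Helper1.FieldSmooth.formallySmooth_iff_isGeometricallyReduced.mpr inferInstance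
  obtain ⟨s, hs⟩ := exists_coeffField_cpl (k := k) (A := A)
  letI algκ : Algebra (ResidueField A) (AdicCompletion (maximalIdeal A) A) := s.toRingHom.toAlgebra
  haveI : IsScalarTower k (ResidueField A) (AdicCompletion (maximalIdeal A) A) :=
    IsScalarTower.of_algebraMap_eq (fun x => (s.commutes x).symm)
  obtain ⟨n, ψ, hψs, -⟩ := Groth.Agent.Helper7.CohenSurj.exists_surj
    (K := ResidueField A) (A := AdicCompletion (maximalIdeal A) A) (by
      refine ⟨RingHom.injective _, fun y => ?_⟩
      obtain ⟨y', rfl⟩ := residue_surjective y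
      obtain ⟨a, ha⟩ := exists_residue_cpl y'
      refine ⟨residue A a, ?_⟩
      rw [ha, ← hs a]
      rfl)
  let ψk : MvPowerSeries (Fin n) (ResidueField A) →ₐ[k] AdicCompletion (maximalIdeal A) A :=
    ψ.restrictScalars k
  have hψks : Function.Surjective ψk := hψs
  refine ⟨n, RingHom.ker ψk, Ideal.quotientKerAlgEquivOfSurjective hψks, fun a => ?_⟩
  have h1 : (Ideal.quotientKerAlgEquivOfSurjective hψks)
      (Ideal.Quotient.mk _ (MvPowerSeries.C (residue A a))) = s (residue A a) := by
    show ψ (MvPowerSeries.C (residue A a)) = _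
    have h2 : (MvPowerSeries.C (residue A a) : MvPowerSeries (Fin n) (ResidueField A)) =
        algebraMap (ResidueField A) _ (residue A a) := by
      rw [MvPowerSeries.algebraMap_apply, Algebra.algebraMap_self, RingHom.id_apply]
    rw [h2, ψ.commutes]
    rfl
  rw [h1, ← AdicCompletion.maximalIdeal_eq_map, ← residue_eq_zero_iff, map_sub, sub_eq_zero]
  exact hs a

end Groth.Agent.Helper7.CKd
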