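import Mathlib
import Groth.Prelude.Def_GrSyz
import Groth.Prelude.Def_CAlg
import Groth.Agent.Helper7.ABu4

/-!
# Regular sequences of linear forms over an infinite field
-/

set_option autoImplicit false
set_option linter.unusedSectionVars false
set_option linter.style.haveILetI false

open DirectSum MvPolynomial
open scoped Pointwise

namespace Groth.Agent.Helper7.CMHilb

open Groth.Agent.Helper7.HilbFn Groth.Agent.Helper7.GrSyzMin Groth.Agent.Helper7.MinRes
  Groth.Agent.Helper7.GrTorV Groth.Agent.Helper7.GrTorS Groth.Agent.Helper7.GrTorBal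
  Groth.Agent.Helper7.GrTorK Groth.Agent.Helper7.GrTorKos Groth.Agent.Helper7.GrTorTop
  Groth.Agent.Helper7.GrKHtpy Groth.Agent.Helper7.GrCoreg Groth.Agent.Helper7
  Groth.Agent.Helper7.ABu

universe u v₁

variable {k : Type u} [Field k] [Infinite k] {r : ℕ}

local notation "S" => MvPolynomial (Fin (r + 1)) k
local notation "𝒜" => GrSyz.stdGr k (Fin (r + 1))
local notation "𝔪" => HomogeneousIdeal.toIdeal (GrSyz.irrel (GrSyz.stdGr k (Fin (r + 1))))

section One

variable {N : Type v₁} [AddCommGroup N] [Module (MvPolynomial (Fin (r + 1)) k) N]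
  [Module.Finite (MvPolynomial (Fin (r + 1)) k) N]

/-- over an infinite field, a module without socle has a regular linear form -/
theorem exists_linear_regular_of_soc_eq_zero (hsoc : ∀ e : N, IsSoc k r e → e = 0) :
    ∃ y : S, y ∈ 𝒜 1 ∧ IsSMulRegular N y := by
  classical
  by_contra hcon
  push Not at hcon
  have hfin := associatedPrimes.finite S N
  haveI : Finite ↥(associatedPrimes S N) := hfin.to_subtype
  -- the subspaces `P ∩ S₁`
  let W : ↥(associatedPrimes S N) → Subspace k ↥(𝒜 1) := fun P =>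
    Submodule.comap (𝒜 1).subtype ((P.1 : Ideal S).restrictScalars k)
  have hcov : ⋃ P, ((W P : Subspace k ↥(𝒜 1)) : Set ↥(𝒜 1)) = Set.univ := by
    rw [Set.eq_univ_iff_forall]
    intro y
    have h1 : (y : S) ∈ { r : S | IsSMulRegular N r }ᶜ := hcon y.1 y.2
    rw [← biUnion_associatedPrimes_eq_compl_regular S N] at h1
    simp only [Set.mem_iUnion] at h1 ⊢
    obtain ⟨P, hP, hyP⟩ := h1
    exact ⟨⟨P, hP⟩, hyP⟩
  obtain ⟨P, hP⟩ := Subspace.exists_eq_top_of_iUnion_eq_univ hcov
  have hle : ∀ y : S, y ∈ 𝒜 1 → y ∈ (P.1 : Ideal S) := by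
    intro y hy
    have : (⟨y, hy⟩ : ↥(𝒜 1)) ∈ W P := by rw [hP]; trivial
    exact this
  have hp := P.2
  rw [AssociatedPrimes.mem_iff, isAssociatedPrime_iff] at hp
  obtain ⟨hprime, e, he⟩ := hp
  have hsoc' : IsSoc k r e := by
    apply isSoc_of_X
    intro c
    have := hle (X c) (X_mem c)
    rw [he, Submodule.mem_colon_singleton, Submodule.mem_bot] at this
    exact this
  have h0 := hsoc e hsoc'
  apply hprime.ne_top
  rw [he, h0]
  ext s
  simp [Submodule.mem_colon_singleton]

end One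

variable (K : KRes k r)

theorem exists_linear_regular_seq (d : ℕ) :
    ∀ (N : Type v₁) [AddCommGroup N] [Module (MvPolynomial (Fin (r + 1)) k) N]
      [Module.Finite (MvPolynomial (Fin (r + 1)) k) N] (t : ℕ), t + d = r + 1 →
      (∀ i, t < i → UT K N i) →
      ∃ rs : List (MvPolynomial (Fin (r + 1)) k), rs.length = d ∧ (∀ s ∈ rs, s ∈ 𝒜 1) ∧
        RingTheory.Sequence.IsWeaklyRegular N rs := by
  induction d with
  | zero =>
    intro N _ _ _ t _ _
    exact ⟨[], rfl, by simp, RingTheory.Sequence.IsWeaklyRegular.nil _ _⟩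
  | succ d ih =>
    intro N _ _ _ t ht hut
    have hsoc : ∀ e : N, IsSoc k r e → e = 0 :=
      soc_eq_zero_of_ut_top K (hut (r + 1) (by omega))
    obtain ⟨r₀, hr₀, hreg⟩ := exists_linear_regular_of_soc_eq_zero hsoc
    have hut' : ∀ i, t + 1 < i → UT K (QuotSMulTop r₀ N) i := by
      intro i hi
      obtain ⟨i', rfl⟩ : ∃ i', i = i' + 1 := ⟨i - 1, by omega⟩
      exact ut_quot K hreg i' (hut (i' + 1) (by omega)) (hut i' (by omega))
    obtain ⟨rs, hlen, hmem, hrs⟩ := ih (QuotSMulTop r₀ N) (t + 1) (by omega) hut'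
    refine ⟨r₀ :: rs, by simp [hlen], ?_, ?_⟩
    · intro s hs
      rcases List.mem_cons.1 hs with rfl | hs
      · exact hr₀
      · exact hmem s hs
    · exact (RingTheory.Sequence.isWeaklyRegular_cons_iff N r₀ rs).2 ⟨hreg, hrs⟩

end Groth.Agent.Helper7.CMHilb
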