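import Mathlib
import Groth.Agent.Helper1.SupportDim

/-!
# Dimension drops along a weakly regular sequence (no local hypothesis)
-/

set_option autoImplicit false
set_option linter.unusedSectionVars false

namespace Groth.Agent.Helper7.CMHilb

open RingTheory.Sequence Module

universe u v

theorem supportDim_add_length_le {R : Type u} [CommRing R] (rs : List R) :
    ∀ (M : Type v) [AddCommGroup M] [Module R M] [Module.Finite R M],
      IsWeaklyRegular M rs →
      supportDim R (M ⧸ Ideal.ofList rs • (⊤ : Submodule R M)) + rs.length ≤ supportDim R M := by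
  induction rs with
  | nil =>
    intro M _ _ _ _
    rw [Ideal.ofList_nil, Submodule.bot_smul]
    simp only [List.length_nil, Nat.cast_zero, add_zero]
    exact le_of_eq (supportDim_eq_of_equiv (Submodule.quotEquivOfEqBot ⊥ rfl))
  | cons x rs' ih =>
    intro M _ _ _ reg
    rw [isWeaklyRegular_cons_iff] at reg
    have h1 := ih (QuotSMulTop x M) reg.2
    have h2 : supportDim R (QuotSMulTop x M) + 1 ≤ supportDim R M :=
      supportDim_quotSMulTop_succ_le_of_notMem_minimalPrimes
        (fun _ => reg.1.notMem_of_mem_minimalPrimes)
    rw [supportDim_eq_of_equiv (Submodule.quotOfListConsSMulTopEquivQuotSMulTopInner M x rs')]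
    simp only [List.length_cons, Nat.cast_add, Nat.cast_one]
    calc supportDim R (QuotSMulTop x M ⧸ Ideal.ofList rs' • (⊤ : Submodule R (QuotSMulTop x M))) +
          ((rs'.length : WithBot ℕ∞) + 1)
        = (supportDim R (QuotSMulTop x M ⧸ Ideal.ofList rs' •
            (⊤ : Submodule R (QuotSMulTop x M))) + rs'.length) + 1 := by rw [add_assoc]
      _ ≤ supportDim R (QuotSMulTop x M) + 1 := by gcongr
      _ ≤ supportDim R M := h2

/-- a quotient of a module of dimension `D` by a weakly regular sequence of length `D` has finite
length -/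
theorem isFiniteLength_quot {R : Type u} [CommRing R] [IsNoetherianRing R] (rs : List R)
    (M : Type v) [AddCommGroup M] [Module R M] [Module.Finite R M]
    (hreg : IsWeaklyRegular M rs) (D : ℕ) (hD : rs.length = D)
    (hdim : supportDim R M = ((D : ℕ∞) : WithBot ℕ∞)) :
    IsFiniteLength R (M ⧸ Ideal.ofList rs • (⊤ : Submodule R M)) := by
  apply Groth.Agent.Helper1.SupportDim.isFiniteLength_of_supportDim_le_zero
  have h := supportDim_add_length_le rs M hreg
  rw [hD, hdim] at h
  generalize supportDim R (M ⧸ Ideal.ofList rs • (⊤ : Submodule R M)) = a at h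
  induction a using WithBot.recBotCoe with
  | bot => exact bot_le
  | coe a =>
    have h' : ((a + (D : ℕ∞) : ℕ∞) : WithBot ℕ∞) ≤ ((D : ℕ∞) : WithBot ℕ∞) := by
      rw [WithBot.coe_add]; exact h
    rw [WithBot.coe_le_coe] at h'
    have ha : a = 0 := by
      induction a using ENat.recTopCoe with
      | top => simp at h'
      | coe a =>
        have : a + D ≤ D := by exact_mod_cast h'
        have : a = 0 := by omega
        rw [this]; rfl
    rw [ha]; rfl

end Groth.Agent.Helper7.CMHilb
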