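import Mathlib
import Groth.Prelude.Def_GrSyz
import Groth.Agent.Helper7.GrTorKos

/-!
# Hilbert's syzygy theorem for minimal graded free resolutions
-/

set_option autoImplicit false
set_option linter.unusedSectionVars false

open DirectSum MvPolynomial

namespace Groth.Agent.Helper7.GrSyzygy

open Groth.Agent.Helper7.GrTorV Groth.Agent.Helper7.GrTorS Groth.Agent.Helper7.GrTorBal
  Groth.Agent.Helper7.GrTorK Groth.Agent.Helper7.GrTorKos

universe u

variable {k : Type u} [Field k] {r : ℕ}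

/-- a minimal graded free resolution over `k[x_0..x_r]` has length at most `r + 1`. -/
theorem hasLengthLE_of_isMinimal
    (M : Type u) [AddCommGroup M] [Module k M] [Module (MvPolynomial (Fin (r + 1)) k) M]
    [IsScalarTower k (MvPolynomial (Fin (r + 1)) k) M]
    (ℳ : ℤ → Submodule k M) [DirectSum.Decomposition ℳ]
    [SetLike.GradedSMul (GrSyz.stdGr k (Fin (r + 1))) ℳ]
    (F : GrSyz.FreeRes (GrSyz.stdGr k (Fin (r + 1))) ℳ)
    (hF : F.IsMinimal (GrSyz.irrel (GrSyz.stdGr k (Fin (r + 1)))).toIdeal) :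
    F.HasLengthLE (r + 1) := by
  obtain ⟨K⟩ := exists_kres k r
  intro q hq
  by_contra h
  have b : Fin (F.rk q) := ⟨0, Nat.pos_of_ne_zero h⟩
  have h1 : Tvan K.toCx ℳ q (F.deg q b) :=
    tvan_of_rk_eq_zero K.toCx ℳ q _ (rk_eq_zero K q hq)
  exact (tvan_iff F hF K q (F.deg q b)).1 h1 b rfl

end Groth.Agent.Helper7.GrSyzygy
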