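import Mathlib
import Groth.Prelude.Def_GrSyz
import Groth.Agent.Helper7.HilbFn2

set_option autoImplicit false

open Polynomial

namespace Groth.Agent.Helper7.HilbFn

universe u

/-- the polynomial `X ↦ C(r + X - a, r)`. -/
noncomputable def binomPoly (r : ℕ) (a : ℤ) : ℚ[X] :=
  C (1 / (r.factorial : ℚ)) * (ascPochhammer ℚ r).comp (X + C (1 - (a : ℚ)))

theorem eval_binomPoly (r : ℕ) (a d : ℤ) (h : a - r ≤ d) :
    (binomPoly r a).eval (d : ℚ) =
      ((if a ≤ d then ((Nat.choose (r + (d - a).toNat) r : ℕ) : ℤ) else 0 : ℤ) : ℚ) := by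
  unfold binomPoly
  rw [eval_mul, eval_C, eval_comp, eval_add, eval_X, eval_C]
  have hr : (r.factorial : ℚ) ≠ 0 := by exact_mod_cast r.factorial_ne_zero
  split_ifs with h1
  · obtain ⟨n, hn⟩ := Int.eq_ofNat_of_zero_le (show 0 ≤ d - a by omega)
    have hd : (d : ℚ) + (1 - (a : ℚ)) = (n : ℚ) + 1 := by
      have : (d : ℚ) - a = n := by exact_mod_cast hn
      linarith
    rw [hd, hn, Int.toNat_natCast]
    have h2 := factorial_mul_ascPochhammer ℚ n r
    have h3 : ((r + n).choose r : ℚ) * (n.factorial : ℚ) * (r.factorial : ℚ) = ((n + r).factorial : ℚ) := by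
      have := Nat.add_choose_mul_factorial_mul_factorial n r
      rw [add_comm r n]
      exact_mod_cast this
    have hn0 : (n.factorial : ℚ) ≠ 0 := by exact_mod_cast n.factorial_ne_zero
    push_cast
    field_simp
    rw [← h2] at h3
    have : (n.factorial : ℚ) * (eval ((n : ℚ) + 1) (ascPochhammer ℚ r)) =
        (n.factorial : ℚ) * ((r.factorial : ℚ) * ((r + n).choose r : ℚ)) := by
      rw [← h3]; ring
    exact mul_left_cancel₀ hn0 this
  · have : eval ((d : ℚ) + (1 - (a : ℚ))) (ascPochhammer ℚ r) = 0 := by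
      rw [ascPochhammer_eval_eq_zero_iff]
      refine ⟨(a - d - 1).toNat, ?_, ?_⟩
      · omega
      · have h4 : ((a - d - 1).toNat : ℤ) = a - d - 1 := Int.toNat_of_nonneg (by omega)
        have : (((a - d - 1).toNat : ℤ) : ℚ) = ((a - d - 1 : ℤ) : ℚ) := by rw [h4]
        push_cast at this
        rw [this]; ring
    rw [this]; simp

theorem hilbert_poly (k : Type u) [Field k] (r : ℕ)
    (M : Type u) [AddCommGroup M] [Module k M] [Module (MvPolynomial (Fin (r + 1)) k) M]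
    [IsScalarTower k (MvPolynomial (Fin (r + 1)) k) M]
    (ℳ : ℤ → Submodule k M) [DirectSum.Decomposition ℳ] [SetLike.GradedSMul (GrSyz.stdGr k (Fin (r + 1))) ℳ]
    (F : GrSyz.FreeRes (GrSyz.stdGr k (Fin (r + 1))) ℳ) (m : ℕ) (hF : F.HasLengthLE m) :
    ∃ P : Polynomial ℚ, ∀ d : ℤ, (∀ (i : ℕ) (b : Fin (F.rk i)), F.deg i b - (r : ℤ) ≤ d) →
      ((Module.finrank k ↥(ℳ d) : ℤ) : ℚ) = P.eval (d : ℚ) := by
  refine ⟨∑ i ∈ Finset.range (m + 1), C ((-1 : ℚ) ^ i) * ∑ b : Fin (F.rk i), binomPoly r (F.deg i b), ?_⟩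
  intro d hd
  rw [hilbert_std k r M ℳ F m hF d, eval_finset_sum]
  push_cast
  refine Finset.sum_congr rfl fun i _ => ?_
  rw [eval_mul, eval_C, eval_finset_sum]
  congr 1
  refine Finset.sum_congr rfl fun b _ => ?_
  rw [eval_binomPoly r (F.deg i b) d (hd i b)]
  split_ifs <;> simp

end Groth.Agent.Helper7.HilbFn
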