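import Mathlib
import Groth.Prelude.Def_GrSyz
import Groth.Prelude.Def_GrLC
import Groth.Agent.Helper7.GrSyzygy
import Groth.Agent.Helper7.HilbFn3

/-!
# Regularity of a graded module of finite length
-/

set_option autoImplicit false
set_option linter.unusedSectionVars false
set_option linter.style.haveILetI false

open DirectSum MvPolynomial

namespace Groth.Agent.Helper7.GrFinLen

open Groth.Agent.Helper7.HilbFn Groth.Agent.Helper7.GrTorV Groth.Agent.Helper7.GrTorS
  Groth.Agent.Helper7.GrTorBal Groth.Agent.Helper7.GrTorK Groth.Agent.Helper7.GrTorKos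
  Groth.Agent.Helper7

universe u

variable {k : Type u} [Field k] {r : ℕ}

local notation "S" => MvPolynomial (Fin (r + 1)) k
local notation "𝒜" => GrSyz.stdGr k (Fin (r + 1))
local notation "𝔪" => HomogeneousIdeal.toIdeal (GrSyz.irrel (GrSyz.stdGr k (Fin (r + 1))))

section General

variable {N : Type*} [AddCommGroup N] [Module (MvPolynomial (Fin (r + 1)) k) N]
  {τ : Type*} [SetLike τ N] [AddSubgroupClass τ N]

/-- the strand is zero when the relevant pieces vanish. -/
theorem tvan_of_piece_eq_zero (K : KRes k r) (𝒩 : ℤ → τ) (q : ℕ) (j : ℤ)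
    (h : ∀ x : N, x ∈ 𝒩 (j - q) → x = 0) : Tvan K.toCx 𝒩 q j := by
  intro v hv _
  have hv0 : v = 0 := by
    funext c
    apply h
    have := hv c
    rwa [(deg_eq K q c).1] at this
  refine ⟨0, InStr.zero, ?_⟩
  rw [act_zero, hv0]

end General

theorem finiteDimensional_piece (r : ℕ)
    (M : Type u) [AddCommGroup M] [Module k M] [Module (MvPolynomial (Fin (r + 1)) k) M]
    [IsScalarTower k (MvPolynomial (Fin (r + 1)) k) M]
    [Module.Finite (MvPolynomial (Fin (r + 1)) k) M]
    (ℳ : ℤ → Submodule k M) [DirectSum.Decomposition ℳ]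
    [SetLike.GradedSMul (GrSyz.stdGr k (Fin (r + 1))) ℳ] (d : ℤ) : FiniteDimensional k (ℳ d) := by
  obtain ⟨F, _⟩ := MinRes.exists_minimal_res (k := k) (r := r) M ℳ
  have h := map_aug_eq F d
  have : FiniteDimensional k ((P F d 0).map (F.augLin.restrictScalars k)) := inferInstance
  rw [h] at this
  exact this

variable (M : Type u) [AddCommGroup M] [Module k M] [Module (MvPolynomial (Fin (r + 1)) k) M]
  [IsScalarTower k (MvPolynomial (Fin (r + 1)) k) M]
  (ℳ : ℤ → Submodule k M) [DirectSum.Decomposition ℳ]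
  [SetLike.GradedSMul (GrSyz.stdGr k (Fin (r + 1))) ℳ]

/-- the tail submodules. -/
noncomputable def tail (e : ℤ) : Submodule (MvPolynomial (Fin (r + 1)) k) M :=
  Submodule.span _ (⋃ e' ≥ e, (ℳ e' : Set M))

theorem tail_antitone : Antitone (tail (r := r) M ℳ) := by
  intro a b hab
  refine Submodule.span_mono ?_
  intro x hx
  simp only [Set.mem_iUnion] at hx ⊢
  obtain ⟨e', he', hx⟩ := hx
  exact ⟨e', le_trans hab he', hx⟩

theorem decompose_eq_zero_of_mem_tail (e : ℤ) (y : M) (hy : y ∈ tail (r := r) M ℳ e) :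
    ∀ d' : ℤ, d' < e → (decompose ℳ y d' : M) = 0 := by
  classical
  unfold tail at hy
  induction hy using Submodule.span_induction with
  | mem x hx =>
    intro d' hd'
    simp only [Set.mem_iUnion] at hx
    obtain ⟨e', he', hx⟩ := hx
    exact decompose_of_mem_ne ℳ hx (by omega)
  | zero => intro d' _; simp
  | add x y _ _ hx hy => intro d' hd'; simp [hx d' hd', hy d' hd']
  | smul s x _ hx =>
    intro d' hd'
    rw [← DirectSum.sum_support_decompose ℳ x, Finset.smul_sum, decompose_sum,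
      DFinsupp.finsetSum_apply, AddSubmonoidClass.coe_finsetSum]
    refine Finset.sum_eq_zero fun e' _ => ?_
    rw [decompose_smul_of_right_mem 𝒜 ℳ (SetLike.coe_mem _)]
    by_cases he' : e' < e
    · rw [hx e' he', smul_zero]
    · have hneg : d' - e' < 0 := by omega
      have h3 : ∀ z : S, z ∈ 𝒜 (d' - e') → z = 0 := fun z hz => by
        rw [stdGr_neg k _ _ hneg, Submodule.mem_bot] at hz; exact hz
      rw [h3 _ (SetLike.coe_mem _), zero_smul]

/-- a graded Artinian module vanishes in large degrees. -/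
theorem exists_tail_eq_bot [IsArtinian (MvPolynomial (Fin (r + 1)) k) M] :
    ∃ D : ℤ, ∀ d : ℤ, D ≤ d → ℳ d = ⊥ := by
  classical
  let f : ℕ →o (Submodule S M)ᵒᵈ :=
    ⟨fun n => OrderDual.toDual (tail (r := r) M ℳ (n : ℤ)), fun a b hab =>
      tail_antitone M ℳ (by exact_mod_cast hab)⟩
  obtain ⟨n, hn⟩ := IsArtinian.monotone_stabilizes f
  refine ⟨(n : ℤ), fun d hd => ?_⟩
  obtain ⟨m, rfl⟩ := Int.eq_ofNat_of_zero_le (le_trans (Int.natCast_nonneg n) hd)
  have hm : n ≤ m := by exact_mod_cast hd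
  have h1 : tail (r := r) M ℳ (m : ℤ) = tail (r := r) M ℳ ((m + 1 : ℕ) : ℤ) := by
    have e1 := hn m hm
    have e2 := hn (m + 1) (by omega)
    exact OrderDual.toDual.injective (e1.symm.trans e2)
  rw [eq_bot_iff]
  intro x hx
  rw [Submodule.mem_bot]
  have hx1 : x ∈ tail (r := r) M ℳ (m : ℤ) := by
    refine Submodule.subset_span ?_
    simp only [Set.mem_iUnion]
    exact ⟨(m : ℤ), le_rfl, hx⟩
  rw [h1] at hx1
  have := decompose_eq_zero_of_mem_tail M ℳ _ x hx1 (m : ℤ) (by push_cast; omega)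
  rwa [decompose_of_mem_same ℳ hx] at this

variable [Module.Finite (MvPolynomial (Fin (r + 1)) k) M]

/-- if `reg M ≤ ρ` and `M` has finite length then `M` vanishes in degrees above `ρ`. -/
theorem piece_eq_bot_of_isRegLE (hM : IsFiniteLength (MvPolynomial (Fin (r + 1)) k) M) (ρ : ℤ)
    (hρ : GrSyz.IsRegLE 𝒜 ℳ 𝔪 ρ) (d : ℤ) (hd : ρ < d) : ℳ d = ⊥ := by
  classical
  obtain ⟨F, hF, hgen⟩ := hρ
  have hlen := GrSyzygy.hasLengthLE_of_isMinimal M ℳ F hF
  obtain ⟨Pol, hPol⟩ := hilbert_poly k r M ℳ F (r + 1) hlen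
  haveI : IsArtinian S M := (isFiniteLength_iff_isNoetherian_isArtinian.1 hM).2
  obtain ⟨D, hD⟩ := exists_tail_eq_bot (r := r) M ℳ
  have hdeg : ∀ d : ℤ, ρ < d → ∀ (i : ℕ) (b : Fin (F.rk i)), F.deg i b - (r : ℤ) ≤ d := by
    intro d hd i b
    have h1 := hgen i b
    have h2 : i ≤ r + 1 := by
      by_contra hcon
      push Not at hcon
      have := hlen i hcon
      rw [this] at b
      exact b.elim0
    have h3 : (i : ℤ) ≤ r + 1 := by exact_mod_cast h2
    omega
  have hzero : Pol = 0 := by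
    apply Polynomial.eq_zero_of_infinite_isRoot
    have hsub : (fun n : ℕ => ((max D (ρ + 1) + n : ℤ) : ℚ)) '' Set.univ ⊆ {x | Pol.IsRoot x} := by
      rintro _ ⟨n, _, rfl⟩
      show Pol.eval _ = 0
      rw [← hPol _ (hdeg _ (by omega)), hD _ (by omega)]
      simp
    refine Set.Infinite.mono hsub ?_
    apply Set.Infinite.image
    · intro a _ b _ hab
      have hab' : ((max D (ρ + 1) + (a : ℤ) : ℤ) : ℚ) = ((max D (ρ + 1) + (b : ℤ) : ℤ) : ℚ) := hab
      have : (max D (ρ + 1) + (a : ℤ) : ℤ) = max D (ρ + 1) + (b : ℤ) := by exact_mod_cast hab'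
      omega
    · exact Set.infinite_univ
  have h1 := hPol d (hdeg d hd)
  rw [hzero, Polynomial.eval_zero] at h1
  have h2 : Module.finrank k (ℳ d) = 0 := by exact_mod_cast h1
  haveI := finiteDimensional_piece r M ℳ d
  rw [Module.finrank_zero_iff] at h2
  rw [eq_bot_iff]
  intro x hx
  have := Subsingleton.elim (⟨x, hx⟩ : ℳ d) 0
  rw [Submodule.mem_bot]
  exact congrArg Subtype.val this

/-- **regularity of a module of finite length**, in terms of `IsRegLE`. -/
theorem isRegLE_iff (hM : IsFiniteLength (MvPolynomial (Fin (r + 1)) k) M) (ρ : ℤ) :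
    GrSyz.IsRegLE 𝒜 ℳ 𝔪 ρ ↔ ∀ n : ℤ, ℳ n ≠ ⊥ → n ≤ ρ := by
  obtain ⟨K⟩ := exists_kres k r
  constructor
  · intro h n hn
    by_contra hcon
    push Not at hcon
    exact hn (piece_eq_bot_of_isRegLE M ℳ hM ρ h n hcon)
  · intro h
    rw [isRegLE_iff_tvan K M ℳ ρ]
    intro q j hj
    apply tvan_of_piece_eq_zero K ℳ q j
    intro x hx
    by_contra hx0
    have hne : ℳ (j - q) ≠ ⊥ := by
      intro hbot
      rw [hbot, Submodule.mem_bot] at hx
      exact hx0 hx
    have := h _ hne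
    omega

theorem endDeg_le_iff (ρ : ℤ) :
    GrLC.endDeg (fun n => (ℳ n).toAddSubgroup) ≤ ((ρ : WithTop ℤ) : WithBot (WithTop ℤ)) ↔
      ∀ n : ℤ, ℳ n ≠ ⊥ → n ≤ ρ := by
  unfold GrLC.endDeg
  rw [iSup₂_le_iff]
  refine forall_congr' fun n => ?_
  have e : (ℳ n).toAddSubgroup ≠ ⊥ ↔ ℳ n ≠ ⊥ := by
    refine not_congr ?_
    constructor
    · intro h
      rw [eq_bot_iff]
      intro x hx
      have : x ∈ (ℳ n).toAddSubgroup := hx
      rw [h] at this
      exact this
    · intro h
      rw [h]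
      rfl
  rw [e]
  refine imp_congr_right fun _ => ?_
  rw [WithBot.coe_le_coe, WithTop.coe_le_coe]

/-- **regularity of a module of finite length**. -/
theorem reg_eq_endDeg (hM : IsFiniteLength (MvPolynomial (Fin (r + 1)) k) M) :
    GrSyz.reg 𝒜 ℳ 𝔪 = GrLC.endDeg (fun n => (ℳ n).toAddSubgroup) := by
  unfold GrSyz.reg
  simp_rw [isRegLE_iff M ℳ hM, ← endDeg_le_iff M ℳ]
  exact RegSup.iInf_ge_eq _

end Groth.Agent.Helper7.GrFinLen
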