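import Mathlib
import Groth.Prelude.Def_GrSyz
import Groth.Prelude.Def_GrLC
import Groth.Agent.Helper7.GrFinLen

/-!
# Regularity is unchanged by quotienting by a regular sequence of linear forms
-/

set_option autoImplicit false
set_option linter.unusedSectionVars false
set_option linter.style.haveILetI false

open DirectSum MvPolynomial

namespace Groth.Agent.Helper7.GrRegSeq

open Groth.Agent.Helper7.HilbFn Groth.Agent.Helper7.GrTorV Groth.Agent.Helper7.GrTorS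
  Groth.Agent.Helper7.GrTorBal Groth.Agent.Helper7.GrTorK Groth.Agent.Helper7.GrTorKos
  Groth.Agent.Helper7

universe u

variable {k : Type u} [Field k] {r : ℕ}

local notation "S" => MvPolynomial (Fin (r + 1)) k
local notation "𝒜" => GrSyz.stdGr k (Fin (r + 1))
local notation "𝔪" => HomogeneousIdeal.toIdeal (GrSyz.irrel (GrSyz.stdGr k (Fin (r + 1))))

variable {M : Type u} [AddCommGroup M] [Module k M] [Module (MvPolynomial (Fin (r + 1)) k) M]
  [IsScalarTower k (MvPolynomial (Fin (r + 1)) k) M]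
  (ℳ : ℤ → Submodule k M) [DirectSum.Decomposition ℳ]
  [SetLike.GradedSMul (GrSyz.stdGr k (Fin (r + 1))) ℳ]

/-- component of `y • m` for homogeneous `y`. -/
theorem decompose_smul_of_left_mem {y : S} {a : ℤ} (hy : y ∈ 𝒜 a) (m : M) (d : ℤ) :
    (decompose ℳ (y • m) d : M) = y • (decompose ℳ m (d - a) : M) := by
  classical
  refine DirectSum.Decomposition.inductionOn ℳ (motive := fun m =>
    (decompose ℳ (y • m) d : M) = y • (decompose ℳ m (d - a) : M)) ?_ ?_ ?_ m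
  · simp
  · intro i x
    have h1 : y • (x : M) ∈ ℳ (a + i) := SetLike.GradedSMul.smul_mem hy x.2
    by_cases h : a + i = d
    · subst h
      rw [decompose_of_mem_same ℳ h1, add_sub_cancel_left, decompose_of_mem_same ℳ x.2]
    · rw [decompose_of_mem_ne ℳ h1 h, decompose_of_mem_ne ℳ x.2 (fun h' => h (by omega)),
        smul_zero]
  · intro x x' hx hx'
    simp only [smul_add, decompose_add, DirectSum.add_apply, Submodule.coe_add, hx, hx']

/-- the pieces of a quotient module. -/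
noncomputable def mgr (J : Submodule (MvPolynomial (Fin (r + 1)) k) M) (d : ℤ) : AddSubgroup (M ⧸ J) :=
  (ℳ d).toAddSubgroup.map J.mkQ.toAddMonoidHom

variable {ℳ}

theorem mem_mgr {J : Submodule S M} {d : ℤ} {x : M ⧸ J} :
    x ∈ mgr ℳ J d ↔ ∃ t ∈ ℳ d, J.mkQ t = x := by
  unfold mgr
  rw [AddSubgroup.mem_map]
  rfl

variable (ℳ)

theorem gsmul_mgr (J : Submodule S M) : GSMul (R := S) 𝒜 (mgr ℳ J) := by
  intro a b s x hs hx
  rw [mem_mgr] at hx ⊢
  obtain ⟨t, ht, rfl⟩ := hx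
  exact ⟨s • t, SetLike.GradedSMul.smul_mem hs ht, map_smul _ _ _⟩

section Step

variable (J J' : Submodule (MvPolynomial (Fin (r + 1)) k) M)
  (hJ : ∀ m ∈ J, ∀ d : ℤ, (decompose ℳ m d : M) ∈ J)
  (y : MvPolynomial (Fin (r + 1)) k) (hy : y ∈ GrSyz.stdGr k (Fin (r + 1)) 1)
  (hreg : IsSMulRegular (M ⧸ J) y)
  (hJ' : J' = J ⊔ LinearMap.range (y • (LinearMap.id : M →ₗ[MvPolynomial (Fin (r + 1)) k] M)))

include hJ' in
theorem le_of_eq_sup : J ≤ J'.comap LinearMap.id := by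
  rw [hJ', Submodule.comap_id]
  exact le_sup_left

include hJ hy hJ' in
theorem homogeneous_sup : ∀ m ∈ J', ∀ d : ℤ, (decompose ℳ m d : M) ∈ J' := by
  intro m hm d
  rw [hJ', Submodule.mem_sup] at hm ⊢
  obtain ⟨a, ha, b, ⟨b', rfl⟩, rfl⟩ := hm
  refine ⟨(decompose ℳ a d : M), hJ a ha d, y • (decompose ℳ b' (d - 1) : M), ⟨_, rfl⟩, ?_⟩
  rw [decompose_add, DirectSum.add_apply, Submodule.coe_add]
  congr 1
  exact (decompose_smul_of_left_mem ℳ hy b' d).symm

include hJ hy hreg hJ' in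
theorem ses_quot : GrSES (fun d => mgr ℳ J (d - 1)) (mgr ℳ J) (mgr ℳ J')
    (y • (LinearMap.id : (M ⧸ J) →ₗ[S] (M ⧸ J)))
    (Submodule.mapQ J J' LinearMap.id (le_of_eq_sup J J' y hJ')) where
  f_inj := by
    intro a b hab
    exact hreg hab
  f_mem d x hx := by
    rw [mem_mgr] at hx ⊢
    obtain ⟨t, ht, rfl⟩ := hx
    refine ⟨y • t, ?_, ?_⟩
    · have := SetLike.GradedSMul.smul_mem (A := 𝒜) (B := ℳ) hy ht
      rwa [vadd_eq_add, show (1 : ℤ) + (d - 1) = d by ring] at this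
    · rw [map_smul]; rfl
  f_strict d x hx := by
    classical
    obtain ⟨m, rfl⟩ := J.mkQ_surjective x
    rw [mem_mgr] at hx ⊢
    obtain ⟨t, ht, hts⟩ := hx
    have hts' : J.mkQ t = J.mkQ (y • m) := by
      rw [hts, map_smul]; rfl
    rw [Submodule.mkQ_apply, Submodule.mkQ_apply, Submodule.Quotient.eq] at hts'
    refine ⟨(decompose ℳ m (d - 1) : M), SetLike.coe_mem _, ?_⟩
    have hcomp := hJ _ hts' d
    rw [decompose_sub, DirectSum.sub_apply, AddSubgroupClass.coe_sub, decompose_of_mem_same ℳ ht,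
      decompose_smul_of_left_mem ℳ hy] at hcomp
    apply hreg
    show y • J.mkQ _ = y • J.mkQ _
    rw [← map_smul, ← map_smul, Submodule.mkQ_apply, Submodule.mkQ_apply, Submodule.Quotient.eq]
    have : y • (decompose ℳ m (d - 1) : M) - y • m =
        (t - y • m) - (t - y • (decompose ℳ m (d - 1) : M)) := by abel
    rw [this]
    exact J.sub_mem hts' hcomp
  g_mem d x hx := by
    rw [mem_mgr] at hx ⊢
    obtain ⟨t, ht, rfl⟩ := hx
    exact ⟨t, ht, rfl⟩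
  g_surj d z hz := by
    rw [mem_mgr] at hz
    obtain ⟨t, ht, rfl⟩ := hz
    exact ⟨J.mkQ t, mem_mgr.2 ⟨t, ht, rfl⟩, rfl⟩
  comp_zero x := by
    obtain ⟨m, rfl⟩ := J.mkQ_surjective x
    rw [LinearMap.smul_apply, LinearMap.id_apply, ← map_smul, Submodule.mkQ_apply,
      Submodule.mapQ_apply, LinearMap.id_apply, Submodule.Quotient.mk_eq_zero, hJ']
    exact Submodule.mem_sup_right ⟨m, rfl⟩
  exact x hx := by
    obtain ⟨m, rfl⟩ := J.mkQ_surjective x
    rw [Submodule.mkQ_apply, Submodule.mapQ_apply, LinearMap.id_apply,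
      Submodule.Quotient.mk_eq_zero, hJ', Submodule.mem_sup] at hx
    obtain ⟨a, ha, b, ⟨b', rfl⟩, hab⟩ := hx
    refine ⟨J.mkQ b', ?_⟩
    rw [LinearMap.smul_apply, LinearMap.id_apply, ← map_smul, Submodule.mkQ_apply,
      Submodule.mkQ_apply, Submodule.Quotient.eq, ← hab]
    have : y • b' - (a + (y • (LinearMap.id : M →ₗ[S] M)) b') = -a := by
      rw [LinearMap.smul_apply, LinearMap.id_apply]; abel
    rw [this]
    exact J.neg_mem ha

variable (K : KRes k r)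

/-- vanishing above the diagonal `ρ`. -/
def Pv (J : Submodule (MvPolynomial (Fin (r + 1)) k) M) (ρ : ℤ) : Prop :=
  ∀ (q : ℕ) (j : ℤ), ρ + q < j → Tvan K.toCx (mgr ℳ J) q j

include hJ hy hreg hJ' in
theorem pv_forward (ρ : ℤ) (h : Pv ℳ K J ρ) : Pv ℳ K J' ρ := by
  have hses := ses_quot ℳ J J' hJ y hy hreg hJ'
  intro q j hj
  cases q with
  | zero => exact hses.tvan₃_zero K.toCx j (h 0 j hj)
  | succ q =>
    refine hses.tvan₃ K.toCx (gsmul_mgr ℳ J) q j (h (q + 1) j hj) ?_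
    rw [tvan_shift]
    apply h
    push_cast at hj
    omega

include hJ hy hreg hJ' in
theorem pv_backward (ρ ρ' : ℤ) (h' : Pv ℳ K J ρ') (h : Pv ℳ K J' ρ) : Pv ℳ K J ρ := by
  have hses := ses_quot ℳ J J' hJ y hy hreg hJ'
  have key : ∀ (n : ℕ) (q : ℕ) (j : ℤ), ρ + q < j → ρ' + q < j + n →
      Tvan K.toCx (mgr ℳ J) q j := by
    intro n
    induction n with
    | zero =>
      intro q j _ hj'
      exact h' q j (by simpa using hj')
    | succ n ih =>
      intro q j hj hj'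
      have h1 : Tvan K.toCx (mgr ℳ J) q (j + 1) := ih q (j + 1) (by omega) (by push_cast at hj'; omega)
      have h3 : Tvan K.toCx (mgr ℳ J') (q + 1) (j + 1) := h (q + 1) (j + 1) (by push_cast; omega)
      have := hses.tvan₁ K.toCx (gsmul_mgr ℳ J) q (j + 1) h3 h1
      rw [tvan_shift] at this
      rwa [add_sub_cancel_right] at this
  intro q j hj
  obtain ⟨n, hn⟩ : ∃ n : ℕ, ρ' + q < j + n := ⟨(ρ' + q - j + 1).toNat, by omega⟩
  exact key n q j hj hn

include hJ hy hreg hJ' in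
theorem pv_iff (ρ ρ' : ℤ) (h' : Pv ℳ K J ρ') : Pv ℳ K J ρ ↔ Pv ℳ K J' ρ :=
  ⟨pv_forward ℳ J J' hJ y hy hreg hJ' K ρ, pv_backward ℳ J J' hJ y hy hreg hJ' K ρ ρ' h'⟩

end Step

section Chain

variable (ys : List (MvPolynomial (Fin (r + 1)) k))

/-- the submodules `(y_1, …, y_i) M`. -/
noncomputable def Jn (M : Type u) [AddCommGroup M] [Module (MvPolynomial (Fin (r + 1)) k) M]
    (ys : List (MvPolynomial (Fin (r + 1)) k)) (i : ℕ) :
    Submodule (MvPolynomial (Fin (r + 1)) k) M :=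
  Ideal.ofList (ys.take i) • (⊤ : Submodule (MvPolynomial (Fin (r + 1)) k) M)

theorem Jn_zero : Jn M ys 0 = ⊥ := by
  unfold Jn
  rw [List.take_zero, Ideal.ofList_nil, Submodule.bot_smul]

theorem Jn_succ (i : ℕ) (hi : i < ys.length) :
    Jn M ys (i + 1) = Jn M ys i ⊔ LinearMap.range (ys[i] • (LinearMap.id : M →ₗ[S] M)) := by
  unfold Jn
  rw [List.take_succ_eq_append_getElem hi, Ideal.ofList_append, Submodule.sup_smul,
    Ideal.ofList_singleton, Submodule.ideal_span_singleton_smul]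
  congr 1
  ext m
  rw [Submodule.mem_smul_pointwise_iff_exists]
  constructor
  · rintro ⟨b, _, rfl⟩
    exact ⟨b, rfl⟩
  · rintro ⟨b, rfl⟩
    exact ⟨b, trivial, rfl⟩

variable (hys : ∀ y ∈ ys, y ∈ GrSyz.stdGr k (Fin (r + 1)) 1)
include hys

theorem Jn_homogeneous (i : ℕ) (hi : i ≤ ys.length) :
    ∀ m ∈ Jn M ys i, ∀ d : ℤ, (decompose ℳ m d : M) ∈ Jn M ys i := by
  induction i with
  | zero =>
    intro m hm d
    rw [Jn_zero, Submodule.mem_bot] at hm
    rw [hm]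
    simp
  | succ i ih =>
    have hi' : i < ys.length := hi
    exact homogeneous_sup ℳ (Jn M ys i) (Jn M ys (i + 1)) (ih (le_of_lt hi')) ys[i]
      (hys _ (List.getElem_mem hi')) (Jn_succ ys i hi')

variable (hreg : RingTheory.Sequence.IsWeaklyRegular M ys) (K : KRes k r)
include hreg

theorem pv_chain (ρ₀ : ℤ) (h0 : Pv ℳ K (Jn M ys 0) ρ₀) (i : ℕ) (hi : i ≤ ys.length) :
    Pv ℳ K (Jn M ys i) ρ₀ ∧ ∀ ρ : ℤ, (Pv ℳ K (Jn M ys 0) ρ ↔ Pv ℳ K (Jn M ys i) ρ) := by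
  induction i with
  | zero => exact ⟨h0, fun _ => Iff.rfl⟩
  | succ i ih =>
    have hi' : i < ys.length := hi
    obtain ⟨h1, h2⟩ := ih (le_of_lt hi')
    have hJ := Jn_homogeneous ℳ ys hys i (le_of_lt hi')
    have hy := hys _ (List.getElem_mem hi')
    have hr := hreg.regular_mod_prev i hi'
    refine ⟨pv_forward ℳ _ _ hJ ys[i] hy hr (Jn_succ ys i hi') K ρ₀ h1, fun ρ => ?_⟩
    rw [h2 ρ]
    exact pv_iff ℳ _ _ hJ ys[i] hy hr (Jn_succ ys i hi') K ρ ρ₀ h1

end Chain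

section Final

theorem exists_isGenLE (F : GrSyz.FreeRes 𝒜 ℳ) (n : ℕ) (hlen : F.HasLengthLE n) :
    ∃ ρ₀ : ℤ, F.IsGenLE ρ₀ := by
  classical
  obtain ⟨ρ₀, hρ₀⟩ := ((Finset.range (n + 1)).biUnion (fun i =>
    Finset.univ.image (fun b : Fin (F.rk i) => F.deg i b - (i : ℤ)))).exists_le
  refine ⟨ρ₀, fun i b => ?_⟩
  have hi : i ≤ n := by
    by_contra hcon
    push Not at hcon
    have := hlen i hcon
    rw [this] at b
    exact b.elim0
  have := hρ₀ (F.deg i b - (i : ℤ)) (by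
    rw [Finset.mem_biUnion]
    exact ⟨i, Finset.mem_range.2 (by omega), Finset.mem_image.2 ⟨b, Finset.mem_univ _, rfl⟩⟩)
  omega

variable (K : KRes k r)

/-- `M / 0 = M`. -/
theorem pv_bot_iff (J : Submodule S M) (hJ : J = ⊥) (ρ : ℤ) :
    Pv ℳ K J ρ ↔ ∀ (q : ℕ) (j : ℤ), ρ + q < j → Tvan K.toCx ℳ q j := by
  have he : ∀ (d : ℤ) (x : M ⧸ J), x ∈ mgr ℳ J d ↔ (Submodule.quotEquivOfEqBot J hJ) x ∈ ℳ d := by
    intro d x
    obtain ⟨m, rfl⟩ := J.mkQ_surjective x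
    rw [mem_mgr, Submodule.mkQ_apply, Submodule.quotEquivOfEqBot_apply_mk]
    constructor
    · rintro ⟨t, ht, hts⟩
      rw [Submodule.mkQ_apply, Submodule.Quotient.eq, hJ, Submodule.mem_bot, sub_eq_zero] at hts
      rwa [← hts]
    · intro hm
      exact ⟨m, hm, rfl⟩
  constructor
  · intro h q j hj
    exact (h q j hj).of_equiv K.toCx (Submodule.quotEquivOfEqBot J hJ) he
  · intro h q j hj
    refine (h q j hj).of_equiv K.toCx (Submodule.quotEquivOfEqBot J hJ).symm ?_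
    intro d x
    rw [he, LinearEquiv.apply_symm_apply]

variable {N : Type u} [AddCommGroup N] [Module k N] [Module (MvPolynomial (Fin (r + 1)) k) N]
  [IsScalarTower k (MvPolynomial (Fin (r + 1)) k) N]
  (𝒩 : ℤ → Submodule k N) [DirectSum.Decomposition 𝒩]
  [SetLike.GradedSMul (GrSyz.stdGr k (Fin (r + 1))) 𝒩]
  (π : M →ₗ[MvPolynomial (Fin (r + 1)) k] N) (hπ : Function.Surjective π)
  (hπg : GrLC.IsGrHom ℳ 𝒩 π)

include hπ hπg in
/-- `M / ker π = N`. -/
theorem pv_ker_iff (J : Submodule S M) (hJ : LinearMap.ker π = J) (ρ : ℤ) :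
    Pv ℳ K J ρ ↔ ∀ (q : ℕ) (j : ℤ), ρ + q < j → Tvan K.toCx 𝒩 q j := by
  classical
  subst hJ
  let e : (M ⧸ LinearMap.ker π) ≃ₗ[S] N := LinearMap.quotKerEquivOfSurjective π hπ
  have he0 : ∀ m : M, e ((LinearMap.ker π).mkQ m) = π m := fun m => rfl
  have he : ∀ (d : ℤ) (x : M ⧸ LinearMap.ker π), x ∈ mgr ℳ (LinearMap.ker π) d ↔ e x ∈ 𝒩 d := by
    intro d x
    obtain ⟨m, rfl⟩ := (LinearMap.ker π).mkQ_surjective x
    rw [mem_mgr, he0]
    constructor
    · rintro ⟨t, ht, hts⟩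
      have : π t = π m := by rw [← he0, ← he0, hts]
      rw [← this]
      exact hπg d t ht
    · intro hm
      refine ⟨(decompose ℳ m d : M), SetLike.coe_mem _, ?_⟩
      rw [Submodule.mkQ_apply, Submodule.mkQ_apply, Submodule.Quotient.eq, LinearMap.mem_ker,
        map_sub, ← decompose_map ℳ 𝒩 π hπg, decompose_of_mem_same 𝒩 hm, sub_self]
  constructor
  · intro h q j hj
    exact (h q j hj).of_equiv K.toCx e he
  · intro h q j hj
    refine (h q j hj).of_equiv K.toCx e.symm ?_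
    intro d x
    rw [he, LinearEquiv.apply_symm_apply]

variable [Module.Finite (MvPolynomial (Fin (r + 1)) k) M]
  [Module.Finite (MvPolynomial (Fin (r + 1)) k) N]

include hπ hπg in
/-- regularity is unchanged by quotienting by a regular sequence of linear forms. -/
theorem isRegLE_iff_of_regularSeq (ys : List (MvPolynomial (Fin (r + 1)) k))
    (hys : ∀ y ∈ ys, y ∈ GrSyz.stdGr k (Fin (r + 1)) 1)
    (hreg : RingTheory.Sequence.IsWeaklyRegular M ys)
    (hker : LinearMap.ker π = Ideal.ofList ys • (⊤ : Submodule (MvPolynomial (Fin (r + 1)) k) M))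
    (ρ : ℤ) :
    GrSyz.IsRegLE 𝒜 ℳ 𝔪 ρ ↔ GrSyz.IsRegLE 𝒜 𝒩 𝔪 ρ := by
  obtain ⟨K⟩ := exists_kres k r
  obtain ⟨F, hF⟩ := MinRes.exists_minimal_res (k := k) (r := r) M ℳ
  obtain ⟨ρ₀, hρ₀⟩ := exists_isGenLE ℳ F (r + 1) (GrSyzygy.hasLengthLE_of_isMinimal M ℳ F hF)
  have h0 : Pv ℳ K (Jn M ys 0) ρ₀ :=
    (pv_bot_iff ℳ K _ (Jn_zero ys) ρ₀).2 ((isGenLE_iff_tvan K M ℳ F hF ρ₀).1 hρ₀)
  have hchain := (pv_chain ℳ ys hys hreg K ρ₀ h0 ys.length le_rfl).2 ρ
  have hJt : LinearMap.ker π = Jn M ys ys.length := by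
    rw [hker]
    unfold Jn
    rw [List.take_length]
  rw [isRegLE_iff_tvan K M ℳ ρ, isRegLE_iff_tvan K N 𝒩 ρ, ← pv_bot_iff ℳ K _ (Jn_zero ys) ρ,
    hchain, pv_ker_iff ℳ K 𝒩 π hπ hπg _ hJt ρ]

include hπ hπg in
theorem reg_eq_of_regularSeq (ys : List (MvPolynomial (Fin (r + 1)) k))
    (hys : ∀ y ∈ ys, y ∈ GrSyz.stdGr k (Fin (r + 1)) 1)
    (hreg : RingTheory.Sequence.IsWeaklyRegular M ys)
    (hker : LinearMap.ker π = Ideal.ofList ys • (⊤ : Submodule (MvPolynomial (Fin (r + 1)) k) M)) :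
    GrSyz.reg 𝒜 ℳ 𝔪 = GrSyz.reg 𝒜 𝒩 𝔪 := by
  unfold GrSyz.reg
  simp_rw [isRegLE_iff_of_regularSeq ℳ 𝒩 π hπ hπg ys hys hreg hker]

end Final

end Groth.Agent.Helper7.GrRegSeq
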