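import Mathlib
import Groth.Prelude.Def_GrSyz
import Groth.Agent.Helper7.GrRegSeq

/-!
# Artinian graded quotients vanish in large degrees
-/

set_option autoImplicit false
set_option linter.unusedSectionVars false
set_option linter.style.haveILetI false

open DirectSum MvPolynomial

namespace Groth.Agent.Helper7.CMHilb

open Groth.Agent.Helper7.HilbFn Groth.Agent.Helper7.GrTorV Groth.Agent.Helper7.GrTorS
  Groth.Agent.Helper7.GrTorBal Groth.Agent.Helper7.GrTorK Groth.Agent.Helper7.GrTorKos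
  Groth.Agent.Helper7 Groth.Agent.Helper7.GrRegSeq Groth.Agent.Helper7.GrFinLen

universe u

variable {k : Type u} [Field k] {r : ℕ}

local notation "S" => MvPolynomial (Fin (r + 1)) k
local notation "𝒜" => GrSyz.stdGr k (Fin (r + 1))

variable {M : Type u} [AddCommGroup M] [Module k M] [Module (MvPolynomial (Fin (r + 1)) k) M]
  [IsScalarTower k (MvPolynomial (Fin (r + 1)) k) M]
  (ℳ : ℤ → Submodule k M) [DirectSum.Decomposition ℳ]
  [SetLike.GradedSMul (GrSyz.stdGr k (Fin (r + 1))) ℳ]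

/-- an Artinian graded quotient vanishes in large degrees. -/
theorem exists_mgr_eq_bot (J : Submodule (MvPolynomial (Fin (r + 1)) k) M)
    (hJ : ∀ m ∈ J, ∀ d : ℤ, (decompose ℳ m d : M) ∈ J)
    [IsArtinian (MvPolynomial (Fin (r + 1)) k) (M ⧸ J)] :
    ∃ D : ℤ, ∀ d : ℤ, D ≤ d → mgr ℳ J d = ⊥ := by
  classical
  let f : ℕ →o (Submodule S (M ⧸ J))ᵒᵈ :=
    ⟨fun n => OrderDual.toDual ((tail (r := r) M ℳ (n : ℤ)).map J.mkQ), fun a b hab =>
      Submodule.map_mono (tail_antitone M ℳ (by exact_mod_cast hab))⟩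
  obtain ⟨n, hn⟩ := IsArtinian.monotone_stabilizes f
  refine ⟨(n : ℤ), fun d hd => ?_⟩
  obtain ⟨m, rfl⟩ := Int.eq_ofNat_of_zero_le (le_trans (Int.natCast_nonneg n) hd)
  have hm : n ≤ m := by exact_mod_cast hd
  have h1 : (tail (r := r) M ℳ (m : ℤ)).map J.mkQ =
      (tail (r := r) M ℳ ((m + 1 : ℕ) : ℤ)).map J.mkQ := by
    have e1 := hn m hm
    have e2 := hn (m + 1) (by omega)
    exact OrderDual.toDual.injective (e1.symm.trans e2)
  rw [eq_bot_iff]
  intro x hx
  rw [mem_mgr] at hx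
  obtain ⟨t, ht, rfl⟩ := hx
  rw [AddSubgroup.mem_bot]
  have hx1 : J.mkQ t ∈ (tail (r := r) M ℳ (m : ℤ)).map J.mkQ := by
    refine Submodule.mem_map_of_mem (Submodule.subset_span ?_)
    simp only [Set.mem_iUnion]
    exact ⟨(m : ℤ), le_rfl, ht⟩
  rw [h1] at hx1
  obtain ⟨y, hy, hyt⟩ := hx1
  have h0 := decompose_eq_zero_of_mem_tail M ℳ _ y hy (m : ℤ) (by push_cast; omega)
  have hmem : y - t ∈ J := by
    rw [Submodule.mkQ_apply, Submodule.mkQ_apply, Submodule.Quotient.eq] at hyt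
    exact hyt
  have := hJ _ hmem (m : ℤ)
  rw [decompose_sub, DirectSum.sub_apply, AddSubgroupClass.coe_sub, h0,
    decompose_of_mem_same ℳ ht, zero_sub] at this
  rw [Submodule.mkQ_apply, Submodule.Quotient.mk_eq_zero]
  simpa using J.neg_mem this

end Groth.Agent.Helper7.CMHilb
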