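import Mathlib
import Groth.Prelude.Def_GrSyz
import Groth.Agent.Helper7.GrRegSeq
import Groth.Agent.Helper7.CMHilb1
import Groth.Agent.Helper7.CMHilb2
import Groth.Agent.Helper7.CMHilb3

/-!
# For a Cohen–Macaulay graded module the regularity is attained at the last step of the
minimal resolution
-/

set_option autoImplicit false
set_option linter.unusedSectionVars false
set_option linter.style.haveILetI false

open DirectSum MvPolynomial

namespace Groth.Agent.Helper7.CMHilb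

open Groth.Agent.Helper7.HilbFn Groth.Agent.Helper7.GrTorV Groth.Agent.Helper7.GrTorS
  Groth.Agent.Helper7.GrTorBal Groth.Agent.Helper7.GrTorK Groth.Agent.Helper7.GrTorKos
  Groth.Agent.Helper7 Groth.Agent.Helper7.GrRegSeq Groth.Agent.Helper7.GrFinLen
  Groth.Agent.Helper7.GrCoreg Groth.Agent.Helper7.ABu

universe u

variable {k : Type u} [Field k] {r : ℕ}

local notation "S" => MvPolynomial (Fin (r + 1)) k
local notation "𝒜" => GrSyz.stdGr k (Fin (r + 1))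
local notation "𝔪" => HomogeneousIdeal.toIdeal (GrSyz.irrel (GrSyz.stdGr k (Fin (r + 1))))

variable {M : Type u} [AddCommGroup M] [Module k M] [Module (MvPolynomial (Fin (r + 1)) k) M]
  [IsScalarTower k (MvPolynomial (Fin (r + 1)) k) M]
  (ℳ : ℤ → Submodule k M) [DirectSum.Decomposition ℳ]
  [SetLike.GradedSMul (GrSyz.stdGr k (Fin (r + 1))) ℳ]

section Step

variable (J J' : Submodule (MvPolynomial (Fin (r + 1)) k) M)
  (hJ : ∀ m ∈ J, ∀ d : ℤ, (decompose ℳ m d : M) ∈ J)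
  (y : MvPolynomial (Fin (r + 1)) k) (hy : y ∈ GrSyz.stdGr k (Fin (r + 1)) 1)
  (hreg : IsSMulRegular (M ⧸ J) y)
  (hJ' : J' = J ⊔ LinearMap.range (y • (LinearMap.id : M →ₗ[MvPolynomial (Fin (r + 1)) k] M)))
  (K : KRes k r)

/-- vanishing of all `T_q` for `q > q₀` -/
def Top (J : Submodule (MvPolynomial (Fin (r + 1)) k) M) (q₀ : ℕ) : Prop :=
  ∀ q : ℕ, q₀ < q → ∀ j : ℤ, Tvan K.toCx (mgr ℳ J) q j

include hJ hy hreg hJ' in
theorem top_forward (q₀ : ℕ) (h : Top ℳ K J q₀) : Top ℳ K J' (q₀ + 1) := by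
  have hses := ses_quot ℳ J J' hJ y hy hreg hJ'
  intro q hq j
  obtain ⟨q', rfl⟩ : ∃ q', q = q' + 1 := ⟨q - 1, by omega⟩
  refine hses.tvan₃ K.toCx (gsmul_mgr ℳ J) q' j (h (q' + 1) (by omega) j) ?_
  rw [tvan_shift]
  exact h q' (by omega) _

include hJ hy hreg hJ' in
theorem tvan_forward (q₀ : ℕ) (j : ℤ) (h : Top ℳ K J q₀)
    (h0 : Tvan K.toCx (mgr ℳ J) q₀ j) : Tvan K.toCx (mgr ℳ J') (q₀ + 1) (j + 1) := by
  have hses := ses_quot ℳ J J' hJ y hy hreg hJ'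
  refine hses.tvan₃ K.toCx (gsmul_mgr ℳ J) q₀ (j + 1) (h (q₀ + 1) (by omega) _) ?_
  rw [tvan_shift, add_sub_cancel_right]
  exact h0

end Step

section Chain

variable (ys : List (MvPolynomial (Fin (r + 1)) k))
  (hys : ∀ y ∈ ys, y ∈ GrSyz.stdGr k (Fin (r + 1)) 1)
  (hreg : RingTheory.Sequence.IsWeaklyRegular M ys) (K : KRes k r)

include hys hreg in
theorem top_chain (q₀ : ℕ) (j₀ : ℤ) (h0 : Top ℳ K (Jn M ys 0) q₀) (i : ℕ) (hi : i ≤ ys.length) :
    Top ℳ K (Jn M ys i) (q₀ + i) ∧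
      (Tvan K.toCx (mgr ℳ (Jn M ys 0)) q₀ j₀ →
        Tvan K.toCx (mgr ℳ (Jn M ys i)) (q₀ + i) (j₀ + i)) := by
  induction i with
  | zero =>
    refine ⟨h0, fun h => ?_⟩
    simpa using h
  | succ i ih =>
    have hi' : i < ys.length := hi
    obtain ⟨h1, h2⟩ := ih (le_of_lt hi')
    have hJ := Jn_homogeneous ℳ ys hys i (le_of_lt hi')
    have hy := hys _ (List.getElem_mem hi')
    have hr := hreg.regular_mod_prev i hi'
    refine ⟨top_forward ℳ _ _ hJ ys[i] hy hr (Jn_succ ys i hi') K _ h1, fun h => ?_⟩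
    have := tvan_forward ℳ _ _ hJ ys[i] hy hr (Jn_succ ys i hi') K _ _ h1 (h2 h)
    rw [show q₀ + (i + 1) = q₀ + i + 1 by ring,
      show j₀ + ((i + 1 : ℕ) : ℤ) = j₀ + (i : ℤ) + 1 by push_cast; ring]
    exact this

end Chain

/-- `M / 0 = M`. -/
theorem tvan_bot_iff (K : KRes k r) (J : Submodule S M) (hJ : J = ⊥) (q : ℕ) (j : ℤ) :
    Tvan K.toCx (mgr ℳ J) q j ↔ Tvan K.toCx ℳ q j := by
  have he : ∀ (d : ℤ) (x : M ⧸ J), x ∈ mgr ℳ J d ↔ (Submodule.quotEquivOfEqBot J hJ) x ∈ ℳ d := by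
    intro d x
    obtain ⟨m, rfl⟩ := J.mkQ_surjective x
    rw [mem_mgr, Submodule.mkQ_apply, Submodule.quotEquivOfEqBot_apply_mk]
    constructor
    · rintro ⟨t, ht, hts⟩
      rw [Submodule.mkQ_apply, Submodule.Quotient.eq, hJ, Submodule.mem_bot, sub_eq_zero] at hts
      rwa [← hts]
    · intro hm
      exact ⟨m, hm, rfl⟩
  constructor
  · intro h
    exact h.of_equiv K.toCx (Submodule.quotEquivOfEqBot J hJ) he
  · intro h
    refine h.of_equiv K.toCx (Submodule.quotEquivOfEqBot J hJ).symm ?_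
    intro d x
    rw [he, LinearEquiv.apply_symm_apply]

variable [Infinite k] [Module.Finite (MvPolynomial (Fin (r + 1)) k) M]

/-- **for a Cohen–Macaulay module, the regularity is attained at the end of the resolution**. -/
theorem exists_deg_eq
    (hCM : Module.supportDim (MvPolynomial (Fin (r + 1)) k) M =
      ((LocCoh.idealDepth (GrSyz.irrel (GrSyz.stdGr k (Fin (r + 1)))).toIdeal M : ℕ∞) : WithBot ℕ∞))
    (F : GrSyz.FreeRes (GrSyz.stdGr k (Fin (r + 1))) ℳ)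
    (hF : F.IsMinimal (GrSyz.irrel (GrSyz.stdGr k (Fin (r + 1)))).toIdeal)
    (ℓ : ℕ) (hℓ : F.HasLengthLE ℓ) (hℓ' : F.rk ℓ ≠ 0)
    (ρ : ℤ) (hρ : F.IsGenLE ρ) (hρ' : ∃ (i : ℕ) (b : Fin (F.rk i)), F.deg i b = ρ + i) :
    ∃ b : Fin (F.rk ℓ), F.deg ℓ b = ρ + ℓ := by
  classical
  obtain ⟨K⟩ := exists_kres k r
  have hAB := ABu.main F hF ℓ hℓ hℓ'
  -- the depth
  obtain ⟨D, hD, hℓD⟩ : ∃ D : ℕ, LocCoh.idealDepth 𝔪 M = (D : ℕ∞) ∧ ℓ + D = r + 1 := by
    generalize LocCoh.idealDepth 𝔪 M = x at hAB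
    induction x using ENat.recTopCoe with
    | top =>
      exfalso
      have h1 : (⊤ : ℕ∞) = ((r + 1 : ℕ) : ℕ∞) := by simpa using hAB
      exact ENat.top_ne_natCast _ h1
    | coe d => exact ⟨d, rfl, by exact_mod_cast hAB⟩
  rw [hD] at hCM
  have hut : ∀ i, ℓ < i → UT K M i := fun i hi => ut_of_rk_eq_zero F hF K i (hℓ i hi)
  obtain ⟨ys, hlen, hmem, hreg⟩ := exists_linear_regular_seq K D M ℓ hℓD hut
  have hfl := isFiniteLength_quot ys M hreg D hlen hCM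
  have hJt : Jn M ys ys.length = Ideal.ofList ys • (⊤ : Submodule S M) := by
    unfold Jn
    rw [List.take_length]
  rw [← hJt] at hfl
  set J := Jn M ys ys.length with hJdef
  have hJh : ∀ m ∈ J, ∀ d : ℤ, (decompose ℳ m d : M) ∈ J :=
    Jn_homogeneous ℳ ys hmem ys.length le_rfl
  haveI : IsArtinian S (M ⧸ J) := (isFiniteLength_iff_isNoetherian_isArtinian.1 hfl).2
  obtain ⟨e₀, he₀⟩ := exists_mgr_eq_bot ℳ J hJh
  -- the `Pv` chain
  have h0 : Pv ℳ K (Jn M ys 0) ρ :=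
    (pv_bot_iff ℳ K _ (Jn_zero ys) ρ).2 ((isGenLE_iff_tvan K M ℳ F hF ρ).1 hρ)
  obtain ⟨hPvρ, hchain⟩ := pv_chain ℳ ys hmem hreg K ρ h0 ys.length le_rfl
  -- vanishing of pieces gives `Pv`
  have hpv_of : ∀ e : ℤ, (∀ d : ℤ, e < d → mgr ℳ J d = ⊥) → F.IsGenLE e := by
    intro e he
    rw [isGenLE_iff_tvan K M ℳ F hF e, ← pv_bot_iff ℳ K _ (Jn_zero ys) e, hchain e]
    intro q j hj
    apply tvan_of_piece_eq_zero K (mgr ℳ J) q j
    intro x hx
    rw [he (j - q) (by omega), AddSubgroup.mem_bot] at hx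
    exact hx
  obtain ⟨i₀, b₀, hb₀⟩ := hρ'
  -- some piece is nonzero
  have hne : ∃ d : ℤ, mgr ℳ J d ≠ ⊥ := by
    by_contra hcon
    push Not at hcon
    have := hpv_of (ρ - 1) (fun d _ => hcon d) i₀ b₀
    omega
  obtain ⟨e, he, hemax⟩ := Int.exists_greatest_of_bdd (P := fun d => mgr ℳ J d ≠ ⊥)
    ⟨e₀, fun d hd => by
      by_contra hcon
      push Not at hcon
      exact hd (he₀ d (le_of_lt hcon))⟩ hne
  have hvan : ∀ d : ℤ, e < d → mgr ℳ J d = ⊥ := by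
    intro d hd
    by_contra hcon
    have := hemax d hcon
    omega
  -- a nonzero socle element in degree `e`
  obtain ⟨x, hx, hx0⟩ : ∃ x : M ⧸ J, x ∈ mgr ℳ J e ∧ x ≠ 0 := by
    by_contra hcon
    push Not at hcon
    apply he
    rw [eq_bot_iff]
    intro x hx
    rw [AddSubgroup.mem_bot]
    exact hcon x hx
  have hsoc : IsSoc k r x := by
    apply isSoc_of_X
    intro c
    have h1 : (X c : S) • x ∈ mgr ℳ J (1 + e) := gsmul_mgr ℳ J 1 e _ _ (X_mem c) hx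
    rw [hvan (1 + e) (by omega), AddSubgroup.mem_bot] at h1
    exact h1
  have hnot : ¬ Tvan K.toCx (mgr ℳ J) (r + 1) (e + ((r + 1 : ℕ) : ℤ)) := by
    intro h
    rw [tvan_top_iff K (mgr ℳ J) (gsmul_mgr ℳ J)] at h
    exact hx0 (h x (by rwa [add_sub_cancel_right]) hsoc)
  -- `e = ρ`
  have heρ : e ≤ ρ := by
    by_contra hcon
    push Not at hcon
    exact hnot (hPvρ (r + 1) _ (by omega))
  have hρe : ρ ≤ e := by
    have := hpv_of e hvan i₀ b₀
    omega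
  have hee : e = ρ := le_antisymm heρ hρe
  rw [hee] at hnot
  -- the `Top` chain
  have htop0 : Top ℳ K (Jn M ys 0) ℓ := by
    intro q hq j
    rw [tvan_bot_iff ℳ K _ (Jn_zero ys), tvan_iff F hF K q j]
    intro b
    have := hℓ q hq
    rw [this] at b
    exact b.elim0
  have hch := (top_chain ℳ ys hmem hreg K ℓ (ρ + ℓ) htop0 ys.length le_rfl).2
  by_contra hcon
  push Not at hcon
  apply hnot
  have h1 : Tvan K.toCx (mgr ℳ (Jn M ys 0)) ℓ (ρ + ℓ) := by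
    rw [tvan_bot_iff ℳ K _ (Jn_zero ys), tvan_iff F hF K ℓ _]
    exact hcon
  have h2 : Tvan K.toCx (mgr ℳ J) (ℓ + ys.length) (ρ + (ℓ : ℤ) + (ys.length : ℤ)) := hch h1
  have e1 : ℓ + ys.length = r + 1 := by rw [hlen]; exact hℓD
  have e2 : ρ + (ℓ : ℤ) + (ys.length : ℤ) = ρ + ((r + 1 : ℕ) : ℤ) := by
    have : ((ℓ + ys.length : ℕ) : ℤ) = ((r + 1 : ℕ) : ℤ) := by rw [e1]
    push_cast at this ⊢
    omega
  rw [e1, e2] at h2
  exact h2

end Groth.Agent.Helper7.CMHilb
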