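import Mathlib
import Groth.Prelude.Def_GrSyz
import Groth.Agent.Helper7.HilbFn3

/-!
# Sharpness of the bound for agreement of Hilbert function and Hilbert polynomial
-/

set_option autoImplicit false
set_option linter.unusedSectionVars false

open Polynomial

namespace Groth.Agent.Helper7.CMHilb

open Groth.Agent.Helper7.HilbFn

universe u

/-- the value of `X ↦ C(n + X - a, n)` at `X = a - n - 1` is `(-1)^n`. -/
theorem eval_binomPoly_neg (n : ℕ) (a d : ℤ) (h : d = a - n - 1) :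
    (binomPoly n a).eval (d : ℚ) = (-1) ^ n := by
  unfold binomPoly
  rw [eval_mul, eval_C, eval_comp, eval_add, eval_X, eval_C]
  have hn : (n.factorial : ℚ) ≠ 0 := by exact_mod_cast n.factorial_ne_zero
  have hd : (d : ℚ) + (1 - (a : ℚ)) = -(n : ℚ) := by
    rw [h]; push_cast; ring
  rw [hd, ascPochhammer_eval_neg_eq_descPochhammer, descPochhammer_eval_eq_descFactorial,
    Nat.descFactorial_self]
  field_simp

variable (k : Type u) [Field k] (n : ℕ)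
  (M : Type u) [AddCommGroup M] [Module k M] [Module (MvPolynomial (Fin (n + 1)) k) M]
  [IsScalarTower k (MvPolynomial (Fin (n + 1)) k) M]
  (ℳ : ℤ → Submodule k M) [DirectSum.Decomposition ℳ]
  [SetLike.GradedSMul (GrSyz.stdGr k (Fin (n + 1))) ℳ]
  (F : GrSyz.FreeRes (GrSyz.stdGr k (Fin (n + 1))) ℳ)

/-- the explicit Hilbert polynomial. -/
noncomputable def hpoly (ℓ : ℕ) : ℚ[X] :=
  ∑ i ∈ Finset.range (ℓ + 1), C ((-1 : ℚ) ^ i) * ∑ b : Fin (F.rk i), binomPoly n (F.deg i b)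

theorem finrank_sub_eval_hpoly (ℓ : ℕ) (hℓ : F.HasLengthLE ℓ) (d : ℤ) :
    (hpoly k n M ℳ F ℓ).eval (d : ℚ) - ((Module.finrank k ↥(ℳ d) : ℤ) : ℚ) =
      ∑ i ∈ Finset.range (ℓ + 1), (-1 : ℚ) ^ i * ∑ b : Fin (F.rk i),
        ((binomPoly n (F.deg i b)).eval (d : ℚ) -
          ((if F.deg i b ≤ d then ((Nat.choose (n + (d - F.deg i b).toNat) n : ℕ) : ℤ) else 0 : ℤ) : ℚ)) := by
  unfold hpoly
  rw [hilbert_std k n M ℳ F ℓ hℓ d, eval_finsetSum]
  push_cast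
  rw [← Finset.sum_sub_distrib]
  refine Finset.sum_congr rfl fun i _ => ?_
  rw [eval_mul, eval_C, eval_finsetSum, ← mul_sub, ← Finset.sum_sub_distrib]

theorem eval_hpoly (ℓ : ℕ) (hℓ : F.HasLengthLE ℓ) (d : ℤ)
    (hd : ∀ (i : ℕ) (b : Fin (F.rk i)), F.deg i b - (n : ℤ) ≤ d) :
    ((Module.finrank k ↥(ℳ d) : ℤ) : ℚ) = (hpoly k n M ℳ F ℓ).eval (d : ℚ) := by
  have h := finrank_sub_eval_hpoly k n M ℳ F ℓ hℓ d
  have h0 : ∑ i ∈ Finset.range (ℓ + 1), (-1 : ℚ) ^ i * ∑ b : Fin (F.rk i),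
        ((binomPoly n (F.deg i b)).eval (d : ℚ) -
          ((if F.deg i b ≤ d then ((Nat.choose (n + (d - F.deg i b).toNat) n : ℕ) : ℤ) else 0 : ℤ) : ℚ)) = 0 := by
    refine Finset.sum_eq_zero fun i _ => ?_
    rw [Finset.sum_eq_zero fun b _ => ?_, mul_zero]
    rw [eval_binomPoly n (F.deg i b) d (hd i b), sub_self]
  rw [h0] at h
  linarith

/-- the Hilbert polynomial is unique. -/
theorem eq_hpoly (ℓ : ℕ) (hℓ : F.HasLengthLE ℓ) (ρ : ℤ) (hρ : F.IsGenLE ρ)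
    (P : Polynomial ℚ)
    (hP : ∃ d₁ : ℤ, ∀ d : ℤ, d₁ ≤ d → ((Module.finrank k ↥(ℳ d) : ℤ) : ℚ) = P.eval (d : ℚ)) :
    P = hpoly k n M ℳ F ℓ := by
  obtain ⟨d₁, hd₁⟩ := hP
  have hdeg : ∀ d : ℤ, ρ + ℓ - n ≤ d → ∀ (i : ℕ) (b : Fin (F.rk i)), F.deg i b - (n : ℤ) ≤ d := by
    intro d hd i b
    have h1 := hρ i b
    have h2 : i ≤ ℓ := by
      by_contra hcon
      push Not at hcon
      have := hℓ i hcon
      rw [this] at b
      exact b.elim0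
    have h3 : (i : ℤ) ≤ ℓ := by exact_mod_cast h2
    omega
  apply Polynomial.eq_of_infinite_eval_eq
  have hsub : (fun m : ℕ => ((max d₁ (ρ + ℓ - n) + m : ℤ) : ℚ)) '' Set.univ ⊆
      {x | P.eval x = (hpoly k n M ℳ F ℓ).eval x} := by
    rintro _ ⟨m, _, rfl⟩
    show P.eval _ = (hpoly k n M ℳ F ℓ).eval _
    rw [← hd₁ _ (by omega), ← eval_hpoly k n M ℳ F ℓ hℓ _ (hdeg _ (by omega))]
  refine Set.Infinite.mono hsub ?_
  apply Set.Infinite.image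
  · intro a _ b _ hab
    have hab' : ((max d₁ (ρ + ℓ - n) + (a : ℤ) : ℤ) : ℚ) =
        ((max d₁ (ρ + ℓ - n) + (b : ℤ) : ℤ) : ℚ) := hab
    have : (max d₁ (ρ + ℓ - n) + (a : ℤ) : ℤ) = max d₁ (ρ + ℓ - n) + (b : ℤ) := by
      exact_mod_cast hab'
    omega
  · exact Set.infinite_univ

/-- **sharpness**: if the regularity is attained at the last step then the Hilbert function and
the Hilbert polynomial differ at `ρ + ℓ - n - 1`. -/
theorem main (ℓ : ℕ) (hℓ : F.HasLengthLE ℓ) (ρ : ℤ) (hρ : F.IsGenLE ρ)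
    (hb : ∃ b : Fin (F.rk ℓ), F.deg ℓ b = ρ + ℓ)
    (P : Polynomial ℚ)
    (hP : ∃ d₁ : ℤ, ∀ d : ℤ, d₁ ≤ d → ((Module.finrank k ↥(ℳ d) : ℤ) : ℚ) = P.eval (d : ℚ)) :
    ((Module.finrank k ↥(ℳ (ρ + ℓ - n - 1)) : ℤ) : ℚ) ≠ P.eval ((ρ + ℓ - n - 1 : ℤ) : ℚ) := by
  classical
  rw [eq_hpoly k n M ℳ F ℓ hℓ ρ hρ P hP]
  intro heq
  have h := finrank_sub_eval_hpoly k n M ℳ F ℓ hℓ (ρ + ℓ - n - 1)
  rw [← heq, sub_self] at h
  -- only `i = ℓ` contributes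
  rw [Finset.sum_eq_single ℓ] at h
  rotate_left
  · intro i hi hne
    have hi' : i < ℓ := by
      have := Finset.mem_range.1 hi
      omega
    rw [Finset.sum_eq_zero fun b _ => ?_, mul_zero]
    have h1 := hρ i b
    have h3 : (i : ℤ) < ℓ := by exact_mod_cast hi'
    rw [eval_binomPoly n (F.deg i b) _ (by omega), sub_self]
  · intro hcon
    exact absurd (Finset.mem_range.2 (Nat.lt_succ_self ℓ)) hcon
  -- the terms for `i = ℓ`
  have hterm : ∀ b : Fin (F.rk ℓ),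
      ((binomPoly n (F.deg ℓ b)).eval ((ρ + ℓ - n - 1 : ℤ) : ℚ) -
          ((if F.deg ℓ b ≤ ρ + ℓ - n - 1 then
            ((Nat.choose (n + (ρ + ℓ - n - 1 - F.deg ℓ b).toNat) n : ℕ) : ℤ) else 0 : ℤ) : ℚ)) =
        if F.deg ℓ b = ρ + ℓ then (-1 : ℚ) ^ n else 0 := by
    intro b
    split_ifs with h1 h2 h2
    · exfalso
      have : (0 : ℤ) ≤ n := Int.natCast_nonneg n
      omega
    · rw [eval_binomPoly n (F.deg ℓ b) _ (by omega), if_pos h1, sub_self]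
    · rw [eval_binomPoly_neg n (F.deg ℓ b) _ (by omega)]
      simp
    · have h3 := hρ ℓ b
      rw [eval_binomPoly n (F.deg ℓ b) _ (by omega), if_neg h1, sub_self]
  rw [Finset.sum_congr rfl fun b _ => hterm b, Finset.sum_ite, Finset.sum_const_zero, add_zero,
    Finset.sum_const, nsmul_eq_mul] at h
  have hcard : ((Finset.univ.filter fun b : Fin (F.rk ℓ) => F.deg ℓ b = ρ + ℓ).card : ℚ) ≠ 0 := by
    obtain ⟨b, hb⟩ := hb
    have : (Finset.univ.filter fun b : Fin (F.rk ℓ) => F.deg ℓ b = ρ + ℓ).Nonempty :=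
      ⟨b, Finset.mem_filter.2 ⟨Finset.mem_univ _, hb⟩⟩
    exact_mod_cast this.card_pos.ne'
  have h1 : ((-1 : ℚ) ^ ℓ) ≠ 0 := pow_ne_zero _ (by norm_num)
  have h2 : ((-1 : ℚ) ^ n) ≠ 0 := pow_ne_zero _ (by norm_num)
  exact mul_ne_zero h1 (mul_ne_zero hcard h2) h.symm

end Groth.Agent.Helper7.CMHilb
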