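import Mathlib
import Groth.Prelude.Def_GrLC
import Groth.Prelude.Def_CAlg
import Groth.Agent.Helper7.BassG
import Groth.Agent.Helper7.GrEC5
import Groth.Agent.Helper7.TorusI
import Groth.Agent.Helper7.CMQuot1

/-!
# A *local graded ring which is Cohen–Macaulay at its *maximal ideal is Cohen–Macaulay (helper7)
-/

set_option autoImplicit false
set_option linter.unusedSectionVars false
set_option linter.style.haveILetI false

namespace Groth.Agent.Helper7.CMQuot

open IsLocalRing Groth.Agent.Helper7.BassNum Groth.Agent.Helper7.Torus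

universe u

section Graded

variable {R : Type u} [CommRing R] [IsNoetherianRing R] (𝒜 : ℤ → AddSubgroup R) [GradedRing 𝒜]

/-- a graded ring is Cohen–Macaulay at a prime if it is Cohen–Macaulay at its homogeneous core -/
theorem cm_of_cm_core (p : Ideal R) [p.IsPrime]
    [hc : (Ideal.homogeneousCore 𝒜 p).toIdeal.IsPrime]
    (h : LocCoh.IsCohenMacaulayLocalRing
      (Localization.AtPrime (Ideal.homogeneousCore 𝒜 p).toIdeal)) :
    LocCoh.IsCohenMacaulayLocalRing (Localization.AtPrime p) := by
  obtain ⟨d, hd, -⟩ := ENat.le_natCast_iff.1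
    (show (p.map (Ideal.Quotient.mk (Ideal.homogeneousCore 𝒜 p).toIdeal)).height ≤ ((1 : ℕ) : ℕ∞)
      from height_map_core_le_one 𝒜 p)
  have hnt : Nontrivial (LocalizedModule p.primeCompl R) :=
    inferInstanceAs (Nontrivial (Localization.AtPrime p))
  have h1 := supportDim_localization_eq 𝒜 p R 𝒜 d hd hnt
  have h2 := depth_localization_eq 𝒜 p R 𝒜 d hd
  have h3 : Module.supportDim (Localization.AtPrime (Ideal.homogeneousCore 𝒜 p).toIdeal)
      (LocalizedModule (Ideal.homogeneousCore 𝒜 p).toIdeal.primeCompl R) =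
      ((LocCoh.depth (Localization.AtPrime (Ideal.homogeneousCore 𝒜 p).toIdeal)
        (LocalizedModule (Ideal.homogeneousCore 𝒜 p).toIdeal.primeCompl R) : ℕ∞) : WithBot ℕ∞) :=
    h.supportDim_eq_depth
  refine { supportDim_eq_depth := ?_ }
  show Module.supportDim (Localization.AtPrime p) (LocalizedModule p.primeCompl R) =
    ((LocCoh.depth (Localization.AtPrime p) (LocalizedModule p.primeCompl R) : ℕ∞) : WithBot ℕ∞)
  rw [h1, h2, h3]
  push_cast
  rfl

/-- **a *local graded ring which is Cohen–Macaulay at its *maximal ideal is a Cohen–Macaulay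
ring** -/
theorem isCohenMacaulayRing_of_local (m : HomogeneousIdeal 𝒜) (hm : GrLC.IsStarLocal 𝒜 m)
    [hmp : m.toIdeal.IsPrime]
    (h : LocCoh.IsCohenMacaulayLocalRing (Localization.AtPrime m.toIdeal)) :
    LocCoh.IsCohenMacaulayRing R :=
  { toIsNoetherian := inferInstance
    isCohenMacaulayLocalRing_localization := fun p hp => by
      haveI hc : (Ideal.homogeneousCore 𝒜 p).toIdeal.IsPrime := core_isPrime 𝒜 p
      have hle : (Ideal.homogeneousCore 𝒜 p).toIdeal ≤ m.toIdeal :=
        Groth.Agent.Helper7.GrEC.le_of_isHomogeneous_of_ne_top 𝒜 m hm _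
          (Ideal.homogeneousCore 𝒜 p).isHomogeneous hc.ne_top
      haveI := h
      exact cm_of_cm_core 𝒜 p
        (Groth.Agent.Lead.CMCl.cm_of_le m.toIdeal (Ideal.homogeneousCore 𝒜 p).toIdeal hle
          (Localization.AtPrime m.toIdeal)
          (Localization.AtPrime (Ideal.homogeneousCore 𝒜 p).toIdeal)) }

/-- **graded converse: a *local graded ring is Cohen–Macaulay if its quotient by a regular element
of the *maximal ideal is a Cohen–Macaulay ring** -/
theorem cm_of_quotient_graded (m : HomogeneousIdeal 𝒜) (hm : GrLC.IsStarLocal 𝒜 m)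
    [hmp : m.toIdeal.IsPrime] (f : R) (hreg : IsSMulRegular R f) (hfm : f ∈ m.toIdeal)
    [hG : LocCoh.IsCohenMacaulayRing (R ⧸ Ideal.span {f})] : LocCoh.IsCohenMacaulayRing R :=
  isCohenMacaulayRing_of_local 𝒜 m hm (cmLocal_of_quotient f hreg m.toIdeal hfm)

end Graded

end Groth.Agent.Helper7.CMQuot
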