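import Mathlib
import Groth.Prelude.Def_CAlg
import Groth.Agent.Helper7.CMQuot2

/-!
# Cohen–Macaulay localisations along a surjection with principal kernel (helper7)
-/

set_option autoImplicit false
set_option linter.unusedSectionVars false
set_option linter.style.haveILetI false

namespace Groth.Agent.Helper7.CMQuot

open IsLocalRing

universe u

/-- the quotient by the kernel of a surjection with kernel `(f)` -/
noncomputable def quotEquiv {B G : Type u} [CommRing B] [CommRing G] (f : B) (φ : B →+* G)
    (hφ : Function.Surjective φ) (hker : RingHom.ker φ = Ideal.span {f}) :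
    (B ⧸ Ideal.span {f}) ≃+* G :=
  (Ideal.quotEquivOfEq hker.symm).trans (RingHom.quotientKerEquivOfSurjective hφ)

theorem quotEquiv_mk {B G : Type u} [CommRing B] [CommRing G] (f : B) (φ : B →+* G)
    (hφ : Function.Surjective φ) (hker : RingHom.ker φ = Ideal.span {f}) (x : B) :
    quotEquiv f φ hφ hker (Ideal.Quotient.mk _ x) = φ x := rfl

theorem cmLocal_iff_of_surjective {B G : Type u} [CommRing B] [IsNoetherianRing B] [CommRing G]
    (f : B) (hreg : IsSMulRegular B f) (φ : B →+* G) (hφ : Function.Surjective φ)
    (hker : RingHom.ker φ = Ideal.span {f}) (p : Ideal G) [p.IsPrime]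
    (P : Ideal B) [P.IsPrime] (hP : p.comap φ = P) :
    LocCoh.IsCohenMacaulayLocalRing (Localization.AtPrime P) ↔
      LocCoh.IsCohenMacaulayLocalRing (Localization.AtPrime p) := by
  subst hP
  let e := quotEquiv f φ hφ hker
  let Q' : Ideal (B ⧸ Ideal.span {f}) := p.comap (e : (B ⧸ Ideal.span {f}) →+* G)
  haveI : Q'.IsPrime := Ideal.comap_isPrime _ _
  have hQ' : Q'.comap (Ideal.Quotient.mk (Ideal.span {f})) = p.comap φ := by
    ext x
    rfl
  have hfq : f ∈ p.comap φ := by
    rw [Ideal.mem_comap]
    have : φ f = 0 := by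
      rw [← RingHom.mem_ker, hker]
      exact Ideal.mem_span_singleton_self f
    rw [this]
    exact zero_mem _
  rw [cmLocal_locQuot_iff f hreg (p.comap φ) hfq Q' hQ']
  let e' := Localization.localRingEquiv Q' p e rfl
  constructor
  · intro h
    exact Groth.Agent.Lead.CMCl.cm_of_ringEquiv e'
  · intro h
    exact Groth.Agent.Lead.CMCl.cm_of_ringEquiv e'.symm

end Groth.Agent.Helper7.CMQuot
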