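import Mathlib
import Groth.Agent.Helper1.TorReg
import Groth.Agent.Helper1.TorSecond
import Groth.Agent.Helper1.TorBalance
import Groth.Agent.Helper1.TorProjDim
import Groth.Agent.Helper1.RegAB
import Groth.Agent.Helper2.DepthCM3

/-!
# Tor-vanishing for two Cohen–Macaulay quotients of a regular local ring meeting properly
-/

set_option autoImplicit false
set_option linter.unusedSectionVars false
set_option linter.unusedVariables false

namespace Groth.Agent.Helper7.CMTor

open CategoryTheory CategoryTheory.Limits MonoidalCategory Groth.Agent.Helper1.TorLib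
open RingTheory.Sequence IsLocalRing
open scoped Pointwise

universe u
variable {A : Type u} [CommRing A]

/-- an element annihilating the second variable annihilates `Tor` -/
lemma smul_tor_eq_zero (n : ℕ) (L N : ModuleCat.{u} A) (a : A) (ha : ∀ y : N, a • y = 0)
    (t : ((Tor (ModuleCat.{u} A) n).obj L).obj N) : a • t = 0 := by
  obtain ⟨e⟩ := nonempty_tor_symm_iso L N n
  have h0 : a • 𝟙 N = 0 := by
    ext y
    exact ha y
  have h0' : a • 𝟙 N = (0 : A) • 𝟙 N := by rw [h0, zero_smul]
  have h1 : a • (e.hom.hom t) = 0 := by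
    rw [← tor_map_smul_id_apply n N L a, h0', tor_map_smul, zero_smul]
    rfl
  have h2 : e.hom.hom (a • t) = 0 := by rw [map_smul, h1]
  have h3 := congrArg e.inv.hom h2
  rw [map_zero] at h3
  rw [← h3]
  exact (congrArg (fun φ => φ.hom (a • t)) e.hom_inv_id).symm

/-- if `r` kills `N` and is `L`-regular, then `Tor_{i+1}(L/rL, N) = 0` implies
`Tor_i(L, N) = 0` -/
lemma isZero_tor_of_quotSMulTop (L : Type u) [AddCommGroup L] [Module A L] (r : A)
    (hr : IsSMulRegular L r) (N : ModuleCat.{u} A) (hN : ∀ y : N, r • y = 0) (i : ℕ)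
    (h : IsZero (((Tor (ModuleCat.{u} A) (i + 1)).obj (ModuleCat.of A (QuotSMulTop r L))).obj N)) :
    IsZero (((Tor (ModuleCat.{u} A) i).obj (ModuleCat.of A L)).obj N) := by
  have hS := smulSC_shortExact L r hr
  have key : ∀ t, (((Tor (ModuleCat.{u} A) i).map (r • 𝟙 (ModuleCat.of A L))).app N).hom t = 0 := by
    intro t
    rw [tor_map_smul_id_apply]
    exact smul_tor_eq_zero i _ N r hN t
  have hz : ((Tor (ModuleCat.{u} A) i).map (smulSC L r).f).app N = 0 := by
    rw [smulSC_f]
    ext t
    exact key t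
  have hepi : Epi (torδ N hS i) := (tor_exact₁ N hS i).epi_f hz
  exact @IsZero.of_epi _ _ _ _ _ (torδ N hS i) hepi h

theorem isZero_tor_of_ann_regular (N : ModuleCat.{u} A) (c : ℕ) (rs : List A) :
    ∀ (L : Type u) [AddCommGroup L] [Module A L],
    (∀ r ∈ rs, ∀ y : N, r • y = 0) →
    IsWeaklyRegular L rs →
    (∀ j, c < j → IsZero (((Tor (ModuleCat.{u} A) j).obj
      (ModuleCat.of A (L ⧸ (Ideal.ofList rs • ⊤ : Submodule A L)))).obj N)) →
    ∀ i, c < i + rs.length →
      IsZero (((Tor (ModuleCat.{u} A) i).obj (ModuleCat.of A L)).obj N) := by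
  induction rs with
  | nil =>
    intro L _ _ _ _ h i hi
    have hbot : (Ideal.ofList ([] : List A) • ⊤ : Submodule A L) = ⊥ := by
      rw [Ideal.ofList_nil, Submodule.bot_smul]
    exact isZero_tor_of_iso (Submodule.quotEquivOfEqBot _ hbot).toModuleIso _ i
      (h i (by simpa using hi))
  | cons r rs ih =>
    intro L _ _ hm hreg h i hi
    rw [isWeaklyRegular_cons_iff] at hreg
    have h' : ∀ j, c < j → IsZero (((Tor (ModuleCat.{u} A) j).obj
        (ModuleCat.of A (QuotSMulTop r L ⧸
          (Ideal.ofList rs • ⊤ : Submodule A (QuotSMulTop r L))))).obj N) :=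
      fun j hj => isZero_tor_of_iso
        (Submodule.quotOfListConsSMulTopEquivQuotSMulTopInner L r rs).toModuleIso _ j (h j hj)
    have h'' := ih (QuotSMulTop r L) (fun r' hr' => hm r' (List.mem_cons_of_mem _ hr'))
      hreg.2 h' (i + 1) (by rw [List.length_cons] at hi; omega)
    exact isZero_tor_of_quotSMulTop L r hreg.1 N (hm r List.mem_cons_self) i h''

section Local

open Groth.Agent.Helper2 Groth.Agent.Helper2.DepthRees Groth.Agent.Helper2.DepthCM
  Groth.Agent.Helper2.DepthCM2 Groth.Agent.Helper2.DepthCM3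

variable [IsNoetherianRing A] [IsLocalRing A]

/-- a CM module `N` has a regular sequence of length `dim N` inside any ideal `J` such that
`N / J N` is supported at the closed point only -/
theorem exists_regular_in_ideal (N : Type u) [AddCommGroup N] [Module A N] [Module.Finite A N]
    (hN : LocCoh.IsCohenMacaulayModule A N) (J : Ideal A) (hJ : J ≤ maximalIdeal A)
    (hfl : ∀ p ∈ Module.support A N, J ≤ p.asIdeal → p.asIdeal = maximalIdeal A) :
    ∃ rs : List A, (∀ r ∈ rs, r ∈ J) ∧ IsWeaklyRegular N rs ∧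
      Module.supportDim A N = (rs.length : WithBot ℕ∞) := by
  have hnt := cm_nontrivial hN
  have hJN : J • (⊤ : Submodule A N) ≠ ⊤ := by
    intro h
    apply Depth.smul_top_ne_top A N
    exact eq_top_iff.2 (h.symm.le.trans (Submodule.smul_mono_left hJ))
  obtain ⟨rs, h1, h2, h3, -⟩ := exists_length_eq_idealDepth J N hJN
  have hrsm : ∀ x ∈ rs, x ∈ maximalIdeal A := fun x hx => hJ (h2 x hx)
  have hN' := cm_quot_ofList N hN rs hrsm h1
  have hN'nt := cm_nontrivial hN'
  have hzd : ∀ r ∈ J, ¬ IsSMulRegular (N ⧸ Ideal.ofList rs • (⊤ : Submodule A N)) r := by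
    intro r hr hcon
    apply h3 r hr
    rw [isWeaklyRegular_append_iff]
    exact ⟨h1, (isWeaklyRegular_singleton_iff _ r).2 hcon⟩
  obtain ⟨p₀, hp₀⟩ := associatedPrimes.nonempty A (N ⧸ Ideal.ofList rs • (⊤ : Submodule A N))
  have hex : ∃ p' ∈ associatedPrimes A (N ⧸ Ideal.ofList rs • (⊤ : Submodule A N)),
      J ≤ p' := by
    rcases Ass.exists_le_assPrime_or_le A (N ⧸ Ideal.ofList rs • (⊤ : Submodule A N))
      J p₀ (fun x hx _ => hzd x hx) with h | h
    · exact ⟨p₀, hp₀, h⟩
    · exact h
  obtain ⟨p', hp', hle⟩ := hex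
  have hprime := hp'.isPrime
  have hsupp : (⟨p', hprime⟩ : PrimeSpectrum A) ∈ Module.support A N := by
    have h4 : (⟨p', hprime⟩ : PrimeSpectrum A) ∈
        Module.support A (N ⧸ Ideal.ofList rs • (⊤ : Submodule A N)) := by
      rw [Module.mem_support_iff_of_finite, ← Submodule.annihilator_top]
      exact IsAssociatedPrime.annihilator_le hp'
    rw [Module.support_quotient] at h4
    exact h4.1
  have hpm : p' = maximalIdeal A := hfl ⟨p', hprime⟩ hsupp hle
  have hdim0 := cm_dim_quot_ass _ hN' p' hp'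
  rw [hpm] at hdim0
  have hzero : ringKrullDim (A ⧸ maximalIdeal A) = 0 := by
    letI : Field (A ⧸ maximalIdeal A) := Ideal.Quotient.field _
    exact ringKrullDim_eq_zero_of_field _
  have hsum := Module.supportDim_add_length_eq_supportDim_of_isRegular rs
    (IsRegular.of_isWeaklyRegular_of_mem_maximalIdeal N hrsm h1)
  rw [← hdim0, hzero, zero_add] at hsum
  exact ⟨rs, h2, h1, hsum.symm⟩

end Local

end Groth.Agent.Helper7.CMTor
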