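import Mathlib
import Groth.Agent.Helper7.CMTorA
import Groth.Agent.Helper3.IntMultG

/-!
# The intersection multiplicity of two Cohen–Macaulay subvarieties meeting properly
-/

set_option autoImplicit false
set_option linter.unusedSectionVars false
set_option linter.unusedVariables false
set_option linter.style.haveILetI false

open CategoryTheory Limits AlgebraicGeometry TopologicalSpace Opposite
open scoped TensorProduct
universe u

namespace Groth.Agent.Helper7.CMTor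

open Groth.Agent.Helper1.TorLib IsLocalRing RingTheory.Sequence
open Groth.Agent.Helper3.IntMultA Groth.Agent.Helper3.IntMultB Groth.Agent.Helper3.IntMultC
open Groth.Agent.Helper3.IntMultD Groth.Agent.Helper3.IntMultF Groth.Agent.Helper3.IntMultG
open Groth.Agent.Helper3.CartOrd

section Alg

variable {A : Type u} [CommRing A] [IsRegularLocalRing A]

theorem tor_vanish (P Q : Ideal A) (hP : P ≤ maximalIdeal A) (hQ : Q ≤ maximalIdeal A)
    (hCMP : LocCoh.IsCohenMacaulayLocalRing (A ⧸ P))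
    (hCMQ : LocCoh.IsCohenMacaulayLocalRing (A ⧸ Q))
    (d aV aW : ℕ) (hd : ringKrullDim A = d) (haV : ringKrullDim (A ⧸ P) = aV)
    (haW : ringKrullDim (A ⧸ Q) = aW) (hsum : d ≤ aV + aW)
    (hfl : ∀ p : Ideal A, p.IsPrime → Q ≤ p → P ≤ p → p.IsMaximal) (i : ℕ) (hi : 1 ≤ i) :
    IsZero (((Tor (ModuleCat.{u} A) i).obj (ModuleCat.of A (A ⧸ P))).obj
      (ModuleCat.of A (A ⧸ Q))) := by
  have hLcm := cm_module_of_quot P hCMP
  have hNcm := cm_module_of_quot Q hCMQ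
  have hdepth : LocCoh.depth A (A ⧸ Q) = (aW : ℕ∞) := by
    unfold LocCoh.IsCohenMacaulayModule at hNcm
    rw [Module.supportDim_quotient_eq_ringKrullDim, haW] at hNcm
    have h1 : ((aW : ℕ∞) : WithBot ℕ∞) = ((LocCoh.depth A (A ⧸ Q) : ℕ∞) : WithBot ℕ∞) := hNcm
    exact (WithBot.coe_injective h1).symm
  haveI : HasProjectiveDimensionLE (ModuleCat.of A (A ⧸ Q)) (d - aW) := by
    apply Groth.Agent.Helper1.RegAB.pd_le_of_depth d hd (A ⧸ Q) (d - aW)
    rw [hdepth]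
    have h2 : d ≤ (d - aW) + aW := by omega
    exact_mod_cast h2
  obtain ⟨rs, hrsQ, hreg, hlen⟩ := exists_regular_in_ideal (A ⧸ P) hLcm Q hQ (by
    intro p hp hQp
    rw [Module.mem_support_iff_of_finite, Ideal.annihilator_quotient] at hp
    exact IsLocalRing.eq_maximalIdeal (hfl p.asIdeal p.isPrime hQp hp))
  rw [Module.supportDim_quotient_eq_ringKrullDim, haV] at hlen
  have hlen' : aV = rs.length := by exact_mod_cast hlen
  refine isZero_tor_of_ann_regular (ModuleCat.of A (A ⧸ Q)) (d - aW) rs (A ⧸ P) ?_ hreg ?_ i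
    (by omega)
  · intro r hr y
    obtain ⟨a, rfl⟩ := Ideal.Quotient.mk_surjective y
    show r • (Ideal.Quotient.mk Q a) = 0
    rw [Algebra.smul_def, Ideal.Quotient.algebraMap_eq, ← map_mul, Ideal.Quotient.eq_zero_iff_mem]
    exact Ideal.mul_mem_right _ _ (hrsQ r hr)
  · intro j hj
    exact isZero_tor_of_hasProjectiveDimensionLE _ _ (d - aW) j hj

theorem chi_cm (P Q : Ideal A) (hP : P ≤ maximalIdeal A) (hQ : Q ≤ maximalIdeal A)
    (hCMP : LocCoh.IsCohenMacaulayLocalRing (A ⧸ P))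
    (hCMQ : LocCoh.IsCohenMacaulayLocalRing (A ⧸ Q))
    (d aV aW : ℕ) (hd : ringKrullDim A = d) (haV : ringKrullDim (A ⧸ P) = aV)
    (haW : ringKrullDim (A ⧸ Q) = aW) (hsum : d ≤ aV + aW)
    (hfl : ∀ p : Ideal A, p.IsPrime → Q ≤ p → P ≤ p → p.IsMaximal) :
    IntMult.chi A (A ⧸ Q) (A ⧸ P) = ((Module.length A (A ⧸ (P ⊔ Q))).toNat : ℤ) := by
  rw [chi_symm]
  unfold IntMult.chi
  rw [finsum_eq_single _ 0]
  · rw [pow_zero, one_mul]
    have e0 : DRing.Tor A 0 (A ⧸ P) (A ⧸ Q) ≃ₗ[A] ((A ⧸ P) ⊗[A] (A ⧸ Q)) :=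
      ((torZeroIso₂ (ModuleCat.of A (A ⧸ P))).app (ModuleCat.of A (A ⧸ Q))).toLinearEquiv
    have e1 : ((A ⧸ P) ⊗[A] (A ⧸ Q)) ≃ₗ[A] ((A ⧸ Q) ⧸ (P • ⊤ : Submodule A (A ⧸ Q))) :=
      TensorProduct.quotTensorEquivQuotSMul (A ⧸ Q) P
    have e2 := quotSMulTopEquiv Q P
    rw [sup_comm, (e0.trans (e1.trans e2)).length_eq]
  · intro i hi
    have hz := tor_vanish P Q hP hQ hCMP hCMQ d aV aW hd haV haW hsum hfl i (by omega)
    haveI : Subsingleton (DRing.Tor A i (A ⧸ P) (A ⧸ Q)) := ModuleCat.subsingleton_of_isZero hz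
    rw [Module.length_eq_zero]
    simp

end Alg

section Geom

theorem s1872 (K : Type u) [Field K] [IsAlgClosed K] (X : Scheme.{u})
    (f : X ⟶ Spec (CommRingCat.of K)) [Smooth f] [IsSeparated f] [QuasiCompact f] [IsIntegral X]
    (IV IW : X.IdealSheafData) [IsIntegral IV.subscheme] [IsIntegral IW.subscheme] (n r s : ℕ)
    (hn : topologicalKrullDim X = n) (hr : topologicalKrullDim IV.support = r)
    (hs : topologicalKrullDim IW.support = s)
    (hprop : IntMult.ProperInt (IV.support : Set X) (IW.support : Set X) n r s) (ξ : X)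
    (hξV : ξ ∈ IV.support) (hξW : ξ ∈ IW.support)
    (hmax : ∀ ξ' : X, ξ' ∈ IV.support → ξ' ∈ IW.support → ξ' ⤳ ξ → ξ' = ξ)
    (hV : LocCoh.IsCohenMacaulayLocalRing (↑(X.presheaf.stalk ξ) ⧸ IntMult.stalkIdeal IV ξ))
    (hW : LocCoh.IsCohenMacaulayLocalRing (↑(X.presheaf.stalk ξ) ⧸ IntMult.stalkIdeal IW ξ)) :
    (IntMult.mult IV IW ξ : ℤ) = (Module.length (X.presheaf.stalk ξ)
      (↑(X.presheaf.stalk ξ) ⧸ (IntMult.stalkIdeal IV ξ ⊔ IntMult.stalkIdeal IW ξ))).toNat := by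
  haveI : LocallyOfFiniteType f := inferInstance
  haveI : IsLocallyNoetherian X := LocallyOfFiniteType.isLocallyNoetherian f
  haveI : IsRegularLocalRing (X.presheaf.stalk ξ) :=
    Groth.Agent.Helper2.SmoothRegSch.stalk_regular_of_smooth K X f ξ
  obtain ⟨ηV, hηV⟩ := exists_generic IV
  obtain ⟨ηW, hηW⟩ := exists_generic IW
  have hPV : (IntMult.stalkIdeal IV ξ).IsPrime := stalkIdeal_isPrime IV ηV hηV ξ hξV
  have hPW : (IntMult.stalkIdeal IW ξ).IsPrime := stalkIdeal_isPrime IW ηW hηW ξ hξW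
  obtain ⟨aX, aV, aW, haX, haV, haW, hsum⟩ := dims K X f IV IW n r s hn hr hs hprop ξ hξV hξW
  unfold IntMult.mult
  exact chi_cm (IntMult.stalkIdeal IV ξ) (IntMult.stalkIdeal IW ξ)
    (IsLocalRing.le_maximalIdeal hPV.ne_top) (IsLocalRing.le_maximalIdeal hPW.ne_top)
    hV hW aX aV aW haX haV haW hsum
    (fun p hp h1 h2 => isMaximal_of_le IV IW ξ hξV hξW hmax p hp h1 h2)

end Geom

end Groth.Agent.Helper7.CMTor
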