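import Mathlib
set_option autoImplicit false
open RootPairing Module

namespace Groth.Agent.Helper7.CRPa

variable {ι : Type*} {R : Type*} {M : Type*} {N : Type*} [CommRing R] [IsDomain R] [CharZero R]
    [AddCommGroup M] [Module R M] [AddCommGroup N] [Module R N] (P : RootPairing ι R M N)
    [Finite ι] [P.IsCrystallographic] [P.IsReduced]

omit [IsDomain R] [CharZero R] [Finite ι] [P.IsCrystallographic] [P.IsReduced] in
include P in
theorem torsionFreeM : IsTorsionFree R M := by
  have : Module.IsReflexive R M := .of_isPerfPair P.toLinearMap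
  infer_instance

omit [IsDomain R] [CharZero R] [Finite ι] [P.IsCrystallographic] [P.IsReduced] in
include P in
theorem torsionFreeN : IsTorsionFree R N := by
  have : Module.IsReflexive R N := .of_isPerfPair P.flip.toLinearMap
  infer_instance

theorem eq_of_pairing_eq (i j : ι) (h : ∀ k, P.pairingIn ℤ i k = P.pairingIn ℤ j k) : i = j := by
  have := torsionFreeM P
  by_contra hne
  have h1 : P.pairingIn ℤ i j = 2 := by rw [h j, P.pairingIn_same]
  have h2 : P.pairingIn ℤ j i = 2 := by rw [← h i, P.pairingIn_same]
  have h4 : P.coxeterWeightIn ℤ i j = 4 := by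
    rw [coxeterWeightIn, h1, h2]; norm_num
  have hneg : P.root i = - P.root j := by
    by_contra hn
    exact P.coxeterWeightIn_ne_four ℤ hne hn h4
  have h5 : P.pairing i j = -2 := by
    change P.toLinearMap (P.root i) (P.coroot j) = -2
    rw [hneg, map_neg, LinearMap.neg_apply, P.root_coroot_two]
  have h6 := P.algebraMap_pairingIn ℤ i j
  rw [h1, h5] at h6
  have : (2 : R) = -2 := by simpa using h6
  have h7 : (4 : R) = 0 := by linear_combination this
  exact (by norm_num : (4 : R) ≠ 0) h7

omit [Finite ι] [P.IsCrystallographic] [P.IsReduced] in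
include P in
theorem addTorsionFreeN : IsAddTorsionFree N := by
  have := torsionFreeN P
  exact IsAddTorsionFree.of_isTorsionFree R N

omit [P.IsReduced] [P.IsCrystallographic] in
theorem reflexive_corootSpan : IsReflexive ℤ (P.corootSpan ℤ) := by
  have := addTorsionFreeN P
  have : Module.Free ℤ (P.corootSpan ℤ) := Module.free_of_finite_type_torsion_free'
  infer_instance

omit [Finite ι] [P.IsReduced] [IsDomain R] in
theorem root'In_reflectionPerm (i j : ι) (x : P.corootSpan ℤ) :
    P.root'In ℤ (P.reflectionPerm i j) x =
      P.root'In ℤ j x - P.pairingIn ℤ j i * P.root'In ℤ i x := by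
  apply FaithfulSMul.algebraMap_injective ℤ R
  rw [map_sub, map_mul, P.algebraMap_root'In_apply, P.algebraMap_root'In_apply,
    P.algebraMap_root'In_apply, P.algebraMap_pairingIn]
  have h := P.reflectionPerm_root i j
  change P.toLinearMap (P.root (P.reflectionPerm i j)) (x : N) =
    P.toLinearMap (P.root j) (x : N) - P.pairing j i * P.toLinearMap (P.root i) (x : N)
  rw [← h, map_sub, LinearMap.sub_apply, map_smul, LinearMap.smul_apply, smul_eq_mul]
  rfl

/-- the `ℤ`-root pairing whose roots are the coroots of `P` (inside their `ℤ`-span) and whose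
coweight lattice is the dual lattice -/
noncomputable def P2 : RootPairing ι ℤ (P.corootSpan ℤ) (Dual ℤ (P.corootSpan ℤ)) :=
  have := reflexive_corootSpan P
  { toLinearMap := Dual.eval ℤ (P.corootSpan ℤ)
    root := ⟨fun i => P.corootSpanMem ℤ i, fun i j h => P.coroot.injective (congrArg Subtype.val h)⟩
    coroot := ⟨fun i => P.root'In ℤ i, fun i j h => by
      apply eq_of_pairing_eq P
      intro k
      exact LinearMap.congr_fun h (P.corootSpanMem ℤ k)⟩
    root_coroot_two := fun i => by
      change P.root'In ℤ i (P.corootSpanMem ℤ i) = 2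
      rw [P.root'In_corootSpanMem_eq_pairingIn, P.pairingIn_same]
    reflectionPerm := P.reflectionPerm
    reflectionPerm_root := fun i j => by
      change P.corootSpanMem ℤ j - (P.root'In ℤ i (P.corootSpanMem ℤ j)) • P.corootSpanMem ℤ i =
        P.corootSpanMem ℤ (P.reflectionPerm i j)
      apply Subtype.ext
      rw [P.root'In_corootSpanMem_eq_pairingIn]
      have h := P.reflectionPerm_coroot i j
      change P.coroot j - P.pairing i j • P.coroot i = _ at h
      rw [← P.algebraMap_pairingIn ℤ, algebraMap_smul] at h
      exact h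
    reflectionPerm_coroot := fun i j => by
      change P.root'In ℤ j - (P.root'In ℤ j (P.corootSpanMem ℤ i)) • P.root'In ℤ i =
        P.root'In ℤ (P.reflectionPerm i j)
      ext x
      rw [root'In_reflectionPerm, P.root'In_corootSpanMem_eq_pairingIn]
      rfl }

theorem P2_root (i : ι) : ((P2 P).root i : N) = P.coroot i := rfl

theorem P2_reflectionPerm (i : ι) : (P2 P).reflectionPerm i = P.reflectionPerm i := rfl

end Groth.Agent.Helper7.CRPa
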