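import Mathlib
import Groth.Prelude.Def_W4sga3xxiRoot
import Groth.Agent.Helper7.CRPa
import Groth.Agent.Helper2.RootD13b
import Groth.Agent.Helper2.RootD4
import Groth.Agent.Helper2.RootD3
set_option autoImplicit false
open RootPairing Module RootD
open scoped Pointwise
open Groth.Agent.Helper2

namespace Groth.Agent.Helper7.CRPb

open Groth.Agent.Helper7.CRPa

variable {ι : Type*} {R : Type*} {M : Type*} {N : Type*} [CommRing R] [IsDomain R] [CharZero R]
    [AddCommGroup M] [Module R M] [AddCommGroup N] [Module R N] (P : RootPairing ι R M N)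
    [Finite ι] [P.IsCrystallographic] [P.IsReduced]

theorem isIndiv (k : ι) : IsIndiv (P2 P) k := by
  have := torsionFreeM P
  intro j h
  have e : (2 : ℤ) • P.coroot j = P.coroot k := congrArg Subtype.val h
  have h1 : P.pairing j k = 4 := by
    change P.toLinearMap (P.root j) (P.coroot k) = 4
    rw [← e, map_zsmul, P.root_coroot_two]; norm_num
  have h2 : P.pairing k j = 1 := by
    have h3 : P.toLinearMap (P.root k) (P.coroot k) = 2 := P.root_coroot_two k
    rw [← e, map_zsmul] at h3
    change (2 : ℤ) • P.pairing k j = 2 at h3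
    have h4 : (2 : R) * P.pairing k j = 2 * 1 := by
      rw [zsmul_eq_mul] at h3
      rw [mul_one]
      simpa using h3
    exact mul_left_cancel₀ two_ne_zero h4
  have h1' : P.pairingIn ℤ j k = 4 := by
    apply FaithfulSMul.algebraMap_injective ℤ R
    rw [P.algebraMap_pairingIn, h1]; simp
  have h2' : P.pairingIn ℤ k j = 1 := by
    apply FaithfulSMul.algebraMap_injective ℤ R
    rw [P.algebraMap_pairingIn, h2]; simp
  have h4 : P.coxeterWeightIn ℤ j k = 4 := by
    rw [coxeterWeightIn, h1', h2']; norm_num
  by_cases hjk : j = k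
  · subst hjk
    have : P.pairing j j = 1 := h2
    rw [P.pairing_same] at this
    have h5 : (1 : R) = 0 := by linear_combination this
    exact one_ne_zero h5
  · have hneg : P.root j = - P.root k := by
      by_contra hn
      exact P.coxeterWeightIn_ne_four ℤ hjk hn h4
    have h5 : P.pairing j k = -2 := by
      change P.toLinearMap (P.root j) (P.coroot k) = -2
      rw [hneg, map_neg, LinearMap.neg_apply, P.root_coroot_two]
    rw [h1] at h5
    have h6 : (6 : R) = 0 := by linear_combination h5
    exact (by norm_num : (6 : R) ≠ 0) h6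

/-- the relation attached to the pair `(i, j)` -/
noncomputable def rel (i j : ι) : ι →₀ ℤ :=
  Finsupp.single (P.reflectionPerm i j) (1 : ℤ) - Finsupp.single j 1 +
    P.pairingIn ℤ i j • Finsupp.single i 1

/-- the span of the relations -/
noncomputable def K' : Submodule ℤ (ι →₀ ℤ) :=
  Submodule.span ℤ (Set.range fun p : ι × ι => rel P p.1 p.2)

omit [IsDomain R] [CharZero R] [Finite ι] [P.IsReduced] in
theorem rel_mem (i j : ι) : rel P i j ∈ K' P := Submodule.subset_span ⟨(i, j), rfl⟩

omit [IsDomain R] [CharZero R] [Finite ι] [P.IsReduced] in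
theorem K'_le_ker :
    K' P ≤ LinearMap.ker (Finsupp.linearCombination ℤ (fun i : ι => (P.coroot i : N))) := by
  rw [K', Submodule.span_le]
  rintro _ ⟨⟨i, j⟩, rfl⟩
  change rel P i j ∈ LinearMap.ker _
  rw [LinearMap.mem_ker]
  unfold rel
  rw [map_add, map_sub, map_smul,
    Finsupp.linearCombination_single, Finsupp.linearCombination_single,
    Finsupp.linearCombination_single, one_smul, one_smul, one_smul]
  have h := P.reflectionPerm_coroot i j
  change P.coroot j - P.pairing i j • P.coroot i = _ at h
  rw [← P.algebraMap_pairingIn ℤ, algebraMap_smul] at h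
  rw [← h]
  abel

variable {Δ : Set ι} (hΔ : IsSimpleSys (P2 P) Δ)

omit hΔ in
theorem word_step :
    ∀ l : List ι, (∀ a ∈ l, a ∈ Δ) → ∀ i ∈ Δ,
    ∃ c : ι →₀ ℤ, ↑c.support ⊆ Δ ∧
      Finsupp.single (RD13.wprod (P2 P) l • i) (1 : ℤ) - c ∈ K' P := by
  classical
  intro l
  induction l with
  | nil =>
    intro _ i hi
    refine ⟨Finsupp.single i 1, ?_, ?_⟩
    · intro a ha
      have := Finsupp.support_single_subset ha
      rw [Finset.mem_singleton] at this
      rw [this]; exact hi
    · rw [RD13.wprod_nil, one_smul, sub_self]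
      exact zero_mem _
  | cons a l ih =>
    intro hl i hi
    obtain ⟨c', hc', hmem⟩ := ih (fun b hb => hl b (List.mem_cons_of_mem _ hb)) i hi
    have ha : a ∈ Δ := hl a List.mem_cons_self
    set k' := RD13.wprod (P2 P) l • i with hk'
    have hk : RD13.wprod (P2 P) (a :: l) • i = P.reflectionPerm a k' := by
      rw [RD13.wprod_cons, mul_smul]
      rfl
    refine ⟨c' - P.pairingIn ℤ a k' • Finsupp.single a 1, ?_, ?_⟩
    · intro b hb
      rcases Finset.mem_union.mp (Finsupp.support_sub hb) with h | h
      · exact hc' h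
      · have h1 := Finsupp.support_smul h
        have h2 := Finsupp.support_single_subset h1
        rw [Finset.mem_singleton] at h2
        rw [h2]; exact ha
    · rw [hk]
      have e : Finsupp.single (P.reflectionPerm a k') (1 : ℤ) -
          (c' - P.pairingIn ℤ a k' • Finsupp.single a 1) =
          rel P a k' + (Finsupp.single k' 1 - c') := by
        rw [rel]; abel
      rw [e]
      exact add_mem (rel_mem P a k') hmem

include hΔ in
theorem exists_coeff (k : ι) : ∃ c : ι →₀ ℤ, ↑c.support ⊆ Δ ∧
    Finsupp.single k (1 : ℤ) - c ∈ K' P := by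
  obtain ⟨g, hg, i, hi, hgi⟩ := RD4.exists_conj_simple hΔ (isIndiv P k)
  obtain ⟨l, hl, rfl⟩ := RD13b.exists_word hg
  rw [← hgi]
  exact word_step P (Δ := Δ) l hl i hi

theorem main :
    LinearMap.ker (Finsupp.linearCombination ℤ (fun i : ι => (P.coroot i : N))) =
      Submodule.span ℤ (Set.range fun p : ι × ι =>
        Finsupp.single (P.reflectionPerm p.1 p.2) (1 : ℤ) - Finsupp.single p.2 1 +
          P.pairingIn ℤ p.1 p.2 • Finsupp.single p.1 1) := by
  classical
  apply le_antisymm _ (K'_le_ker P)
  intro x hx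
  obtain ⟨Δ, hΔ⟩ := RD3.exists_simpleSys (P2 P)
  choose c hcΔ hcK using exists_coeff P hΔ
  set y : ι →₀ ℤ := ∑ k ∈ x.support, x k • c k with hy
  have hxy : x - y ∈ K' P := by
    have e : x - y = ∑ k ∈ x.support, x k • (Finsupp.single k 1 - c k) := by
      rw [hy]
      simp only [smul_sub, Finset.sum_sub_distrib]
      congr 1
      conv_lhs => rw [← Finsupp.sum_single x]
      rw [Finsupp.sum]
      refine Finset.sum_congr rfl fun k _ => ?_
      rw [Finsupp.smul_single, smul_eq_mul, mul_one]
    rw [e]
    exact Submodule.sum_mem _ fun k _ => Submodule.smul_mem _ _ (hcK k)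
  have hysupp : ↑y.support ⊆ Δ := by
    intro b hb
    rw [hy] at hb
    have h1 := Finsupp.support_finsetSum hb
    rw [Finset.mem_biUnion] at h1
    obtain ⟨k, _, hk⟩ := h1
    exact hcΔ k (Finsupp.support_smul hk)
  have hφy : Finsupp.linearCombination ℤ (fun i : ι => (P.coroot i : N)) y = 0 := by
    have h1 := K'_le_ker P hxy
    rw [LinearMap.mem_ker, map_sub, LinearMap.mem_ker.mp hx, zero_sub, neg_eq_zero] at h1
    exact h1
  have hy0 : y = 0 := by
    apply RD2.lc_unique (P2 P) hΔ.linInd hysupp (by simp)
    rw [map_zero]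
    apply Subtype.ext
    rw [Submodule.coe_zero, ← hφy]
    rw [RD2.LC, Finsupp.linearCombination_apply, Finsupp.linearCombination_apply, Finsupp.sum,
      Finsupp.sum, Submodule.coe_sum]
    refine Finset.sum_congr rfl fun k _ => ?_
    rw [Submodule.coe_smul]
    rfl
  rw [hy0, sub_zero] at hxy
  exact hxy

end Groth.Agent.Helper7.CRPb
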