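import Mathlib
import Groth.Agent.S17764
import Groth.Agent.Helper6.Dim1Free
import Groth.Agent.Helper6.Dim1Lattice
import Groth.Agent.Helper7.CanDuA

set_option autoImplicit false
universe u

/-!
# The quotient `K/ω` for a canonical ideal of a one-dimensional domain
-/

namespace Groth.Agent.Helper7.CanDu

open CategoryTheory Function
open scoped Pointwise
open Groth.Agent.Helper6.Dim1

variable {O : Type u} [CommRing O] [IsDomain O] {K : Type u} [Field K] [Algebra O K]
  [IsFractionRing O K]

theorem algebraMap_ne_zero' {y : O} (hy : y ≠ 0) : algebraMap O K y ≠ 0 :=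
  fun h => hy (IsFractionRing.injective O K (by rw [h, map_zero]))

theorem injective_frac : Module.Injective O K := by
  haveI : NoZeroSMulDivisors O K := ⟨fun {c x} h => by
    rw [Algebra.smul_def, mul_eq_zero] at h
    rcases h with h | h
    · left; exact IsFractionRing.injective O K (by rw [h, map_zero])
    · right; exact h⟩
  apply Groth.Agent.S17764.result O K
  intro r hr m
  refine ⟨(algebraMap O K r)⁻¹ * m, ?_⟩
  show r • ((algebraMap O K r)⁻¹ * m) = m
  rw [Algebra.smul_def, ← mul_assoc, mul_inv_cancel₀ (algebraMap_ne_zero' hr), one_mul]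

theorem injective_quot (ω : Submodule O K)
    (h : HasInjectiveDimensionLT (ModuleCat.of O ↥ω) 2) : Module.Injective O (K ⧸ ω) := by
  have hK : Module.Injective O K := injective_frac
  let S : ShortComplex (ModuleCat.{u} O) :=
    ShortComplex.mk (ModuleCat.ofHom ω.subtype) (ModuleCat.ofHom ω.mkQ) (by
      ext x
      exact (LinearMap.exact_subtype_mkQ ω).apply_apply_eq_zero x)
  have hS : S.ShortExact := by
    refine ShortComplex.ShortExact.mk' ?_ ?_ ?_
    · rw [ShortComplex.ShortExact.moduleCat_exact_iff_function_exact]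
      exact LinearMap.exact_subtype_mkQ ω
    · exact (ModuleCat.mono_iff_injective _).mpr ω.injective_subtype
    · exact (ModuleCat.epi_iff_surjective _).mpr ω.mkQ_surjective
  haveI : Injective S.X₂ := Module.injective_object_of_injective_module O K
  have h1 : HasInjectiveDimensionLT S.X₃ 1 :=
    (hS.hasInjectiveDimensionLT_X₃_iff 0 inferInstance).2 h
  haveI : Injective (ModuleCat.of O (K ⧸ ω)) := injective_iff_hasInjectiveDimensionLT_one.2 h1
  exact Module.injective_module_of_injective_object O (K ⧸ ω)


section General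

variable {R : Type u} [CommRing R]

/-- `Hom(R/yR, E)` and the `y`-torsion of `E` have the same length -/
theorem length_hom_quotSMulTop (y : R) (E : Type u) [AddCommGroup E] [Module R E] :
    Module.length R (QuotSMulTop y R →ₗ[R] E) = Module.length R (LinearMap.ker (T y E)) := by
  let ψ : (QuotSMulTop y R →ₗ[R] E) →ₗ[R] E :=
    { toFun := fun φ => φ (Submodule.Quotient.mk 1)
      map_add' := fun _ _ => rfl
      map_smul' := fun _ _ => rfl }
  have hψ : Injective ψ := by
    intro φ φ' h
    apply LinearMap.ext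
    intro x
    obtain ⟨r, rfl⟩ := Submodule.Quotient.mk_surjective _ x
    have hr : (Submodule.Quotient.mk r : QuotSMulTop y R) = r • Submodule.Quotient.mk 1 := by
      rw [← Submodule.Quotient.mk_smul, smul_eq_mul, mul_one]
    rw [hr, map_smul, map_smul]
    exact congrArg (r • ·) h
  have hr : LinearMap.range ψ = LinearMap.ker (T y E) := by
    ext e
    rw [LinearMap.mem_range, LinearMap.mem_ker]
    constructor
    · rintro ⟨φ, rfl⟩
      show y • φ (Submodule.Quotient.mk 1) = 0
      rw [← map_smul, ← Submodule.Quotient.mk_smul, smul_eq_mul, mul_one]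
      have : (Submodule.Quotient.mk y : QuotSMulTop y R) = 0 := by
        rw [Submodule.Quotient.mk_eq_zero, Submodule.mem_smul_pointwise_iff_exists]
        exact ⟨1, trivial, by rw [smul_eq_mul, mul_one]⟩
      rw [this, map_zero]
    · intro he
      have he' : y • e = 0 := he
      have hle : y • (⊤ : Submodule R R) ≤ LinearMap.ker (LinearMap.toSpanSingleton R E e) := by
        intro x hx
        rw [Submodule.mem_smul_pointwise_iff_exists] at hx
        obtain ⟨z, -, rfl⟩ := hx
        rw [LinearMap.mem_ker, LinearMap.toSpanSingleton_apply, smul_eq_mul, mul_comm, mul_smul,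
          he', smul_zero]
      refine ⟨Submodule.liftQ _ (LinearMap.toSpanSingleton R E e) hle, ?_⟩
      show Submodule.liftQ (y • (⊤ : Submodule R R)) (LinearMap.toSpanSingleton R E e) hle
        (Submodule.Quotient.mk 1) = e
      rw [Submodule.liftQ_apply, LinearMap.toSpanSingleton_apply, one_smul]
  rw [← hr]
  exact (length_range_of_injective ψ hψ).symm

theorem length_ker_T_eq_zero (y : R) (N : Type*) [AddCommGroup N] [Module R N]
    (h : ∀ n : N, y • n = 0 → n = 0) : Module.length R (LinearMap.ker (T y N)) = 0 := by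
  rw [Module.length_eq_zero_iff]
  refine ⟨fun a b => ?_⟩
  have ha : a = 0 := Subtype.ext (h a.1 a.2)
  have hb : b = 0 := Subtype.ext (h b.1 b.2)
  rw [ha, hb]

theorem ker_T_eq_bot (y : R) (N : Type*) [AddCommGroup N] [Module R N]
    (h : ∀ n : N, y • n = 0 → n = 0) : LinearMap.ker (T y N) = ⊥ := by
  rw [eq_bot_iff]
  intro n hn
  exact (Submodule.mem_bot R).2 (h n hn)

theorem length_quotSMulTop_eq_zero (y : R) (N : Type*) [AddCommGroup N] [Module R N]
    (h : ∀ n : N, ∃ n' : N, y • n' = n) : Module.length R (QuotSMulTop y N) = 0 := by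
  rw [Module.length_eq_zero_iff]
  refine ⟨fun a b => ?_⟩
  obtain ⟨a, rfl⟩ := Submodule.Quotient.mk_surjective _ a
  obtain ⟨b, rfl⟩ := Submodule.Quotient.mk_surjective _ b
  rw [Submodule.Quotient.eq, Submodule.mem_smul_pointwise_iff_exists]
  obtain ⟨n', hn'⟩ := h (a - b)
  exact ⟨n', trivial, hn'⟩

end General

theorem smul_eq_zero_frac {y : O} (hy : y ≠ 0) (x : K) (h : y • x = 0) : x = 0 := by
  rw [Algebra.smul_def, mul_eq_zero] at h
  exact h.resolve_left (algebraMap_ne_zero' hy)

/-- the `y`-torsion of `K/ω` is `ω/yω` (in length) -/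
theorem length_ker_quot (ω : Submodule O K) {y : O} (hy : y ≠ 0) :
    Module.length O (LinearMap.ker (T y (K ⧸ ω))) = Module.length O (QuotSMulTop y ↥ω) := by
  have h := snake_length y ω.subtype ω.mkQ ω.injective_subtype ω.mkQ_surjective
    (LinearMap.exact_subtype_mkQ ω)
  have hdivK : ∀ n : K, ∃ n' : K, y • n' = n := fun n =>
    ⟨(algebraMap O K y)⁻¹ * n, by
      rw [Algebra.smul_def, ← mul_assoc, mul_inv_cancel₀ (algebraMap_ne_zero' hy), one_mul]⟩
  have h1 : Module.length O (LinearMap.ker (T y K)) = 0 :=
    length_ker_T_eq_zero y K (smul_eq_zero_frac hy)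
  have h2 : Module.length O (QuotSMulTop y (K ⧸ ω)) = 0 := by
    apply length_quotSMulTop_eq_zero
    intro n
    obtain ⟨n, rfl⟩ := Submodule.Quotient.mk_surjective _ n
    obtain ⟨n', hn'⟩ := hdivK n
    exact ⟨Submodule.Quotient.mk n', by rw [← Submodule.Quotient.mk_smul, hn']⟩
  have h3 : Module.length O (LinearMap.ker (T y ↥ω)) = 0 := by
    apply length_ker_T_eq_zero
    intro n hn
    apply Subtype.ext
    apply smul_eq_zero_frac hy
    exact congrArg Subtype.val hn
  have h4 : Module.length O (QuotSMulTop y K) = 0 := length_quotSMulTop_eq_zero y K hdivK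
  rw [h1, h2, h3, h4, zero_add, add_zero, zero_add, add_zero] at h
  exact h.symm

variable [IsNoetherianRing O]

/-- `ℓ(L/yL) = ℓ(O/yO)` for a finitely generated nonzero `L ⊆ K` -/
theorem length_quotSMulTop_eq (hdim : ringKrullDim O ≤ 1) (L : Submodule O K) (hL : L.FG)
    (hL0 : L ≠ ⊥) {y : O} (hy : y ≠ 0) :
    Module.length O (QuotSMulTop y ↥L) = Module.length O (QuotSMulTop y O) := by
  obtain ⟨a, haL, ha0⟩ := (Submodule.ne_bot_iff L).1 hL0
  let φ : O →ₗ[O] ↥L := LinearMap.toSpanSingleton O ↥L ⟨a, haL⟩
  have hφ : Injective φ := by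
    rw [injective_iff_map_eq_zero]
    intro r hr
    have h1 : r • a = 0 := congrArg Subtype.val hr
    by_contra hr0
    exact ha0 (smul_eq_zero_frac hr0 a h1)
  have hF : LinearMap.ker (T y O) = ⊥ := by
    apply ker_T_eq_bot
    intro n hn
    rw [smul_eq_mul, mul_eq_zero] at hn
    exact hn.resolve_left hy
  haveI : Module.Finite O ↥L := Module.Finite.iff_fg.mpr hL
  obtain ⟨x, hx, hxL⟩ := exists_smul_le_of_fg (K := K) (Submodule.span O {a}) L hL (by
    intro v _
    have : Submodule.span K ((Submodule.span O {a} : Submodule O K) : Set K) = ⊤ := by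
      rw [eq_top_iff]
      intro z _
      have hz : z = (z * a⁻¹) • a := by
        rw [smul_eq_mul, mul_assoc, inv_mul_cancel₀ ha0, mul_one]
      rw [hz]
      exact Submodule.smul_mem _ _ (Submodule.subset_span (Submodule.mem_span_singleton_self a))
    rw [this]
    trivial)
  have hC : Module.length O (↥L ⧸ LinearMap.range φ) ≠ ⊤ := by
    apply length_ne_top_of_isTorsionBy hdim (not_mem_minimalPrimes_of_ne_zero hx)
    intro q
    obtain ⟨⟨v, hv⟩, rfl⟩ := Submodule.Quotient.mk_surjective _ q
    rw [← Submodule.Quotient.mk_smul, Submodule.Quotient.mk_eq_zero]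
    obtain ⟨r, hr⟩ := Submodule.mem_span_singleton.1 (hxL v hv)
    exact ⟨r, Subtype.ext hr⟩
  have h := length_quot_eq_of_injective y φ hφ hF hC
  rw [h, length_ker_T_eq_zero, zero_add]
  intro n hn
  apply Subtype.ext
  apply smul_eq_zero_frac hy
  exact congrArg Subtype.val hn

end Groth.Agent.Helper7.CanDu
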