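import Mathlib
import Groth.Agent.Helper7.CanDuB

set_option autoImplicit false
universe u

/-!
# Duality of fractional ideals with respect to a canonical ideal (dimension one)
-/

namespace Groth.Agent.Helper7.CanDu

open CategoryTheory Function IsLocalRing
open scoped Pointwise
open Groth.Agent.Helper6.Dim1

variable {O : Type u} [CommRing O] [IsDomain O] {K : Type u} [Field K] [Algebra O K]
  [IsFractionRing O K]

section Div

theorem div_antitone (ω : Submodule O K) {J I : Submodule O K} (h : J ≤ I) : ω / I ≤ ω / J :=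
  fun _ hx => Submodule.mem_div_iff_forall_mul_mem.2 fun y hy =>
    Submodule.mem_div_iff_forall_mul_mem.1 hx y (h hy)

theorem le_div_div (ω I : Submodule O K) : I ≤ ω / (ω / I) := by
  intro x hx
  rw [Submodule.mem_div_iff_forall_mul_mem]
  intro y hy
  rw [mul_comm]
  exact Submodule.mem_div_iff_forall_mul_mem.1 hy x hx

theorem div_div_div (ω I : Submodule O K) : ω / (ω / (ω / I)) = ω / I :=
  le_antisymm (div_antitone ω (le_div_div ω I)) (le_div_div ω (ω / I))

theorem div_one_eq (ω : Submodule O K) : ω / 1 = ω := by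
  ext x
  rw [Submodule.mem_div_iff_forall_mul_mem]
  constructor
  · intro h
    have := h 1 (Submodule.one_le.1 le_rfl)
    rwa [mul_one] at this
  · intro hx y hy
    obtain ⟨r, rfl⟩ := Submodule.mem_one.1 hy
    rw [mul_comm, ← Algebra.smul_def]
    exact ω.smul_mem r hx

theorem smul_div_smul (ω I : Submodule O K) {y : O} (hy : y ≠ 0) :
    y • (ω / (y • I)) = ω / I := by
  have hyK := algebraMap_ne_zero' (K := K) hy
  ext x
  rw [Submodule.mem_smul_pointwise_iff_exists]
  constructor
  · rintro ⟨z, hz, rfl⟩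
    rw [Submodule.mem_div_iff_forall_mul_mem] at hz ⊢
    intro i hi
    have := hz (y • i) (Submodule.smul_mem_pointwise_smul i y I hi)
    rwa [mul_smul_comm, ← smul_mul_assoc] at this
  · intro hx
    refine ⟨(algebraMap O K y)⁻¹ * x, ?_, ?_⟩
    · rw [Submodule.mem_div_iff_forall_mul_mem]
      intro i' hi'
      obtain ⟨i, hi, rfl⟩ := (Submodule.mem_smul_pointwise_iff_exists _ _ _).1 hi'
      have e : (algebraMap O K y)⁻¹ * x * (y • i) = x * i := by
        rw [Algebra.smul_def]
        field_simp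
      rw [e]
      exact Submodule.mem_div_iff_forall_mul_mem.1 hx i hi
    · rw [Algebra.smul_def, ← mul_assoc, mul_inv_cancel₀ hyK, one_mul]

theorem smul_ne_bot (I : Submodule O K) (hI0 : I ≠ ⊥) {y : O} (hy : y ≠ 0) : y • I ≠ ⊥ := by
  obtain ⟨a, haI, ha0⟩ := (Submodule.ne_bot_iff I).1 hI0
  rw [Submodule.ne_bot_iff]
  refine ⟨y • a, Submodule.smul_mem_pointwise_smul a y I haI, ?_⟩
  intro h
  exact ha0 (smul_eq_zero_frac hy a h)

theorem smul_fg (I : Submodule O K) (hI : I.FG) (y : O) : (y • I).FG := hI.map _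

theorem smul_le_self (I : Submodule O K) (y : O) : y • I ≤ I := by
  intro x hx
  obtain ⟨i, hi, rfl⟩ := (Submodule.mem_smul_pointwise_iff_exists _ _ _).1 hx
  exact I.smul_mem y hi

theorem div_ne_bot (ω I : Submodule O K) (hω0 : ω ≠ ⊥) (hI : I.FG) : ω / I ≠ ⊥ := by
  obtain ⟨w, hwω, hw0⟩ := (Submodule.ne_bot_iff ω).1 hω0
  obtain ⟨x, hx, hxI⟩ := exists_smul_le_of_fg (K := K) (Submodule.span O {w}) I hI (by
    intro v _
    have : Submodule.span K ((Submodule.span O {w} : Submodule O K) : Set K) = ⊤ := by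
      rw [eq_top_iff]
      intro z _
      have hz : z = (z * w⁻¹) • w := by
        rw [smul_eq_mul, mul_assoc, inv_mul_cancel₀ hw0, mul_one]
      rw [hz]
      exact Submodule.smul_mem _ _ (Submodule.subset_span (Submodule.mem_span_singleton_self w))
    rw [this]
    trivial)
  rw [Submodule.ne_bot_iff]
  refine ⟨algebraMap O K x, ?_, algebraMap_ne_zero' hx⟩
  rw [Submodule.mem_div_iff_forall_mul_mem]
  intro i hi
  rw [← Algebra.smul_def]
  have := hxI i hi
  exact (Submodule.span_le.2 (Set.singleton_subset_iff.2 hwω)) this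

theorem div_fg [IsNoetherianRing O] (ω I : Submodule O K) (hω : ω.FG) (hI0 : I ≠ ⊥) :
    (ω / I).FG := by
  obtain ⟨a, haI, ha0⟩ := (Submodule.ne_bot_iff I).1 hI0
  have hle : ω / I ≤ ω.map (LinearMap.mulLeft O a⁻¹) := by
    intro x hx
    have := Submodule.mem_div_iff_forall_mul_mem.1 hx a haI
    refine ⟨x * a, this, ?_⟩
    rw [LinearMap.mulLeft_apply, mul_comm x a, ← mul_assoc, inv_mul_cancel₀ ha0, one_mul]
  exact Submodule.FG.of_le (hω.map _) hle

end Div

section RLsmul

variable [IsNoetherianRing O]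

theorem rl_smul (hdim : ringKrullDim O ≤ 1) (L : Submodule O K) (hL : L.FG) (hL0 : L ≠ ⊥)
    {y : O} (hy : y ≠ 0) : rl (y • L) L = Module.length O (QuotSMulTop y O) := by
  rw [← length_quotSMulTop_eq hdim L hL hL0 hy, rl_def]
  have : Submodule.comap L.subtype (y • L) = y • (⊤ : Submodule O ↥L) := by
    ext ⟨x, hx⟩
    simp only [Submodule.mem_comap, Submodule.subtype_apply,
      Submodule.mem_smul_pointwise_iff_exists]
    constructor
    · rintro ⟨l, hl, rfl⟩
      exact ⟨⟨l, hl⟩, trivial, rfl⟩
    · rintro ⟨⟨l, hl⟩, -, h⟩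
      exact ⟨l, hl, congrArg Subtype.val h⟩
  rw [this]

end RLsmul

section Socle

variable [IsNoetherianRing O] [IsLocalRing O]

/-- the socle of `K/ω` is simple (type one) -/
theorem socle_length_eq_one (hdim : ringKrullDim O = 1) (ω : Submodule O K) (hωfg : ω.FG)
    (hω0 : ω ≠ ⊥) (h : HasInjectiveDimensionLT (ModuleCat.of O ↥ω) 2) :
    Module.length O (ResidueField O →ₗ[O] K ⧸ ω) = 1 := by
  have hE := injective_quot ω h
  -- a nonzero nonunit
  obtain ⟨y, hym, hy0⟩ : ∃ y ∈ maximalIdeal O, y ≠ 0 := by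
    by_contra hcon
    push Not at hcon
    apply not_isField_of_dim_one hdim
    rw [IsLocalRing.isField_iff_maximalIdeal_eq]
    rw [eq_bot_iff]
    intro y hy
    exact (Submodule.mem_bot O).2 (hcon y hy)
  have hfin : Module.length O (QuotSMulTop y O) ≠ ⊤ :=
    length_quotSMulTop_ne_top O hdim.le (not_mem_minimalPrimes_of_ne_zero hy0)
  haveI := nontrivial_quotSMulTop_of_mem_maximalIdeal O hym
  have hpos : Module.length O (QuotSMulTop y O) ≠ 0 := (Module.length_pos (R := O)).ne'
  have h1 := length_hom hE (QuotSMulTop y O) (Module.length_ne_top_iff.1 hfin)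
  rw [length_hom_quotSMulTop, length_ker_quot ω hy0,
    length_quotSMulTop_eq hdim.le ω hωfg hω0 hy0] at h1
  generalize Module.length O (QuotSMulTop y O) = n at *
  generalize Module.length O (ResidueField O →ₗ[O] K ⧸ ω) = s at *
  induction n using ENat.recTopCoe with
  | top => exact absurd rfl hfin
  | coe n =>
    induction s using ENat.recTopCoe with
    | top =>
      rw [ENat.top_mul hpos] at h1
      exact absurd h1 (ENat.natCast_ne_top n)
    | coe s =>
      have hn0 : n ≠ 0 := by exact_mod_cast hpos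
      have h2 : n = s * n := by exact_mod_cast h1
      have : s = 1 := by
        have h3 : 1 * n = s * n := by rw [one_mul]; exact h2
        exact (Nat.eq_of_mul_eq_mul_right (Nat.pos_of_ne_zero hn0) h3).symm
      rw [this]; rfl

/-- the basic inequality `ℓ((ω:J)/(ω:I)) ≤ ℓ(I/J)` -/
theorem rl_div_le (ω : Submodule O K)
    (hs : Module.length O (ResidueField O →ₗ[O] K ⧸ ω) = 1) {J I : Submodule O K}
    (hfin : rl J I ≠ ⊤) : rl (ω / I) (ω / J) ≤ rl J I := by
  let Φ : ↥(ω / J) →ₗ[O] ((↥I ⧸ Submodule.comap I.subtype J) →ₗ[O] K ⧸ ω) :=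
    { toFun := fun x => Submodule.liftQ _ (ω.mkQ ∘ₗ LinearMap.mulLeft O (x : K) ∘ₗ I.subtype) (by
        intro i hi
        rw [LinearMap.mem_ker]
        show ω.mkQ ((x : K) * (i : K)) = 0
        rw [Submodule.mkQ_apply, Submodule.Quotient.mk_eq_zero]
        exact Submodule.mem_div_iff_forall_mul_mem.1 x.2 _ hi)
      map_add' := fun x x' => by
        apply LinearMap.ext
        intro q
        obtain ⟨i, rfl⟩ := Submodule.Quotient.mk_surjective _ q
        show ω.mkQ (((x + x' : ↥(ω / J)) : K) * (i : K)) =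
          ω.mkQ ((x : K) * (i : K)) + ω.mkQ ((x' : K) * (i : K))
        rw [← map_add, Submodule.coe_add, add_mul]
      map_smul' := fun r x => by
        apply LinearMap.ext
        intro q
        obtain ⟨i, rfl⟩ := Submodule.Quotient.mk_surjective _ q
        show ω.mkQ (((r • x : ↥(ω / J)) : K) * (i : K)) = r • ω.mkQ ((x : K) * (i : K))
        rw [← map_smul, Submodule.coe_smul, smul_mul_assoc] }
  have hΦ : ∀ (x : ↥(ω / J)) (i : ↥I), Φ x (Submodule.Quotient.mk i) = ω.mkQ ((x : K) * (i : K)) :=
    fun _ _ => rfl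
  have hker : LinearMap.ker Φ = Submodule.comap (ω / J).subtype (ω / I) := by
    ext x
    rw [LinearMap.mem_ker, Submodule.mem_comap, Submodule.subtype_apply,
      Submodule.mem_div_iff_forall_mul_mem]
    constructor
    · intro hx i hi
      have := LinearMap.congr_fun hx (Submodule.Quotient.mk ⟨i, hi⟩)
      rw [hΦ, LinearMap.zero_apply, Submodule.mkQ_apply, Submodule.Quotient.mk_eq_zero] at this
      exact this
    · intro hx
      apply LinearMap.ext
      intro q
      obtain ⟨i, rfl⟩ := Submodule.Quotient.mk_surjective _ q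
      rw [hΦ, LinearMap.zero_apply, Submodule.mkQ_apply, Submodule.Quotient.mk_eq_zero]
      exact hx i i.2
  calc rl (ω / I) (ω / J) = Module.length O (↥(ω / J) ⧸ LinearMap.ker Φ) := by rw [hker]; rfl
    _ = Module.length O (LinearMap.range Φ) := (Φ.quotKerEquivRange).length_eq
    _ ≤ Module.length O ((↥I ⧸ Submodule.comap I.subtype J) →ₗ[O] K ⧸ ω) :=
        Module.length_le_of_injective (Submodule.subtype _) (Submodule.injective_subtype _)
    _ ≤ Module.length O (ResidueField O →ₗ[O] K ⧸ ω) *
          Module.length O (↥I ⧸ Submodule.comap I.subtype J) :=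
        length_hom_le _ (Module.length_ne_top_iff.1 hfin)
    _ = rl J I := by rw [hs, one_mul]; rfl

/-- **Duality**: `ℓ((ω:J)/(ω:I)) = ℓ(I/J)` for finitely generated nonzero `J ≤ I ⊆ K`. -/
theorem duality (hdim : ringKrullDim O = 1) (ω : Submodule O K) (hωfg : ω.FG)
    (hω0 : ω ≠ ⊥) (h : HasInjectiveDimensionLT (ModuleCat.of O ↥ω) 2) {J I : Submodule O K}
    (hJI : J ≤ I) (hJ0 : J ≠ ⊥) (hIfg : I.FG) : rl (ω / I) (ω / J) = rl J I := by
  have hs := socle_length_eq_one hdim ω hωfg hω0 h
  have hI0 : I ≠ ⊥ := fun h0 => hJ0 (le_bot_iff.1 (h0 ▸ hJI))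
  obtain ⟨y, hy, hyI⟩ := exists_smul_le_of_fg (K := K) J I hIfg (by
    intro v _
    obtain ⟨a, haJ, ha0⟩ := (Submodule.ne_bot_iff J).1 hJ0
    have : Submodule.span K ((J : Submodule O K) : Set K) = ⊤ := by
      rw [eq_top_iff]
      intro z _
      have hz : z = (z * a⁻¹) • a := by
        rw [smul_eq_mul, mul_assoc, inv_mul_cancel₀ ha0, mul_one]
      rw [hz]
      exact Submodule.smul_mem _ _ (Submodule.subset_span haJ)
    rw [this]
    trivial)
  have hyIJ : y • I ≤ J := by
    intro x hx
    obtain ⟨i, hi, rfl⟩ := (Submodule.mem_smul_pointwise_iff_exists _ _ _).1 hx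
    exact hyI i hi
  have hyI0 : y • I ≠ ⊥ := smul_ne_bot I hI0 hy
  have hyIfg : (y • I).FG := smul_fg I hIfg y
  set n := Module.length O (QuotSMulTop y O) with hn
  have hnfin : n ≠ ⊤ := length_quotSMulTop_ne_top O hdim.le (not_mem_minimalPrimes_of_ne_zero hy)
  have e1 : rl (y • I) I = n := rl_smul hdim.le I hIfg hI0 hy
  have e2 : rl (y • I) I = rl (y • I) J + rl J I := rl_add hyIJ hJI
  -- the dual chain
  have hD1 : ω / I ≤ ω / J := div_antitone ω hJI
  have hD2 : ω / J ≤ ω / (y • I) := div_antitone ω hyIJ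
  have e3 : rl (ω / I) (ω / (y • I)) = n := by
    have := rl_smul hdim.le (ω / (y • I)) (div_fg ω _ hωfg hyI0) (div_ne_bot ω _ hω0 hyIfg) hy
    rwa [smul_div_smul ω I hy] at this
  have e4 : rl (ω / I) (ω / (y • I)) = rl (ω / I) (ω / J) + rl (ω / J) (ω / (y • I)) :=
    rl_add hD1 hD2
  have hfin1 : rl J I ≠ ⊤ := by
    intro htop
    rw [e1, htop, add_top] at e2
    exact hnfin e2
  have hfin2 : rl (y • I) J ≠ ⊤ := by
    intro htop
    rw [e1, htop, top_add] at e2
    exact hnfin e2
  have i1 := rl_div_le ω hs hfin1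
  have i2 := rl_div_le ω hs hfin2
  rw [e1] at e2
  rw [e3] at e4
  generalize rl (ω / I) (ω / J) = a' at *
  generalize rl (ω / J) (ω / (y • I)) = b' at *
  generalize rl J I = a at *
  generalize rl (y • I) J = b at *
  clear_value n
  induction n using ENat.recTopCoe with
  | top => exact absurd rfl hnfin
  | coe n =>
    induction a using ENat.recTopCoe with
    | top => exact absurd rfl hfin1
    | coe a =>
      induction b using ENat.recTopCoe with
      | top => exact absurd rfl hfin2
      | coe b =>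
        induction a' using ENat.recTopCoe with
        | top => exact absurd (top_le_iff.1 i1) (ENat.natCast_ne_top a)
        | coe a' =>
          induction b' using ENat.recTopCoe with
          | top => exact absurd (top_le_iff.1 i2) (ENat.natCast_ne_top b)
          | coe b' =>
            have h1 : n = b + a := by exact_mod_cast e2
            have h2 : n = a' + b' := by exact_mod_cast e4
            have h3 : a' ≤ a := by exact_mod_cast i1
            have h4 : b' ≤ b := by exact_mod_cast i2
            have : a' = a := by omega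
            rw [this]

/-- reflexivity `ω : (ω : I) = I` -/
theorem div_div_eq (hdim : ringKrullDim O = 1) (ω : Submodule O K) (hωfg : ω.FG)
    (hω0 : ω ≠ ⊥) (h : HasInjectiveDimensionLT (ModuleCat.of O ↥ω) 2) (I : Submodule O K)
    (hI0 : I ≠ ⊥) (hIfg : I.FG) : ω / (ω / I) = I := by
  have hle := le_div_div ω I
  have hfg : (ω / (ω / I)).FG := div_fg ω _ hωfg (div_ne_bot ω I hω0 hIfg)
  have hd := duality hdim ω hωfg hω0 h hle hI0 hfg
  rw [div_div_div, rl_self] at hd
  exact ((rl_eq_zero_iff hle).1 hd.symm).symm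

/-- `ω : ω = O` -/
theorem div_self_eq_one (hdim : ringKrullDim O = 1) (ω : Submodule O K) (hωfg : ω.FG)
    (hω0 : ω ≠ ⊥) (h : HasInjectiveDimensionLT (ModuleCat.of O ↥ω) 2) : ω / ω = 1 := by
  have h1 := div_div_eq hdim ω hωfg hω0 h 1 (by
    intro h0
    have : (1 : K) ∈ (1 : Submodule O K) := Submodule.one_le.1 le_rfl
    rw [h0, Submodule.mem_bot] at this
    exact one_ne_zero this) (by
    rw [Submodule.one_eq_span]
    exact Submodule.fg_span_singleton _)
  rwa [div_one_eq] at h1

end Socle

end Groth.Agent.Helper7.CanDu
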