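import Mathlib
import Groth.Agent.Helper7.CanDuC

set_option autoImplicit false
universe u

/-!
# The conductor formula `ℓ(ω/O) + ℓ(Õ/C) = 2ℓ(Õ/O)`
-/

namespace Groth.Agent.Helper7.CanDu

open CategoryTheory Function IsLocalRing
open scoped Pointwise

variable {O : Type u} [CommRing O] [IsDomain O] {K : Type u} [Field K] [Algebra O K]
  [IsFractionRing O K]

theorem one_ne_bot : (1 : Submodule O K) ≠ ⊥ := by
  intro h0
  have : (1 : K) ∈ (1 : Submodule O K) := Submodule.one_le.1 le_rfl
  rw [h0, Submodule.mem_bot] at this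
  exact one_ne_zero this

theorem one_fg : (1 : Submodule O K).FG := by
  rw [Submodule.one_eq_span]
  exact Submodule.fg_span_singleton _

theorem div_mono_left {ω ω' : Submodule O K} (h : ω ≤ ω') (I : Submodule O K) :
    ω / I ≤ ω' / I :=
  fun _ hx => Submodule.mem_div_iff_forall_mul_mem.2 fun y hy =>
    h (Submodule.mem_div_iff_forall_mul_mem.1 hx y hy)

/-- for a subalgebra `B`, `ω : B` is stable under multiplication by `B` -/
theorem mul_mem_div_subalgebra (ω : Submodule O K) (B : Subalgebra O K) {x z : K}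
    (hx : x ∈ ω / Subalgebra.toSubmodule B) (hz : z ∈ B) :
    x * z ∈ ω / Subalgebra.toSubmodule B := by
  rw [Submodule.mem_div_iff_forall_mul_mem] at hx ⊢
  intro z' hz'
  rw [mul_assoc]
  exact hx _ (B.mul_mem hz hz')

variable [IsNoetherianRing O] [IsLocalRing O]

/-- `ω : B = O : B` for a subalgebra `B ⊇ ω` -/
theorem div_subalgebra_eq (hdim : ringKrullDim O = 1) (ω : Submodule O K) (hωfg : ω.FG)
    (hω0 : ω ≠ ⊥) (h : HasInjectiveDimensionLT (ModuleCat.of O ↥ω) 2) (hω1 : 1 ≤ ω)
    (B : Subalgebra O K) (hωB : ω ≤ Subalgebra.toSubmodule B) :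
    ω / Subalgebra.toSubmodule B = 1 / Subalgebra.toSubmodule B := by
  apply le_antisymm
  · intro x hx
    rw [Submodule.mem_div_iff_forall_mul_mem]
    intro z hz
    have h1 := mul_mem_div_subalgebra ω B hx hz
    have h2 : ω / Subalgebra.toSubmodule B ≤ ω / ω := div_antitone ω hωB
    rw [div_self_eq_one hdim ω hωfg hω0 h] at h2
    exact h2 h1
  · exact div_mono_left hω1 _

theorem conductor_formula (hdim : ringKrullDim O = 1) (ω : Submodule O K)
    (h : HasInjectiveDimensionLT (ModuleCat.of O ↥ω) 2) (hω1 : 1 ≤ ω)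
    (B : Subalgebra O K) (hB : (Subalgebra.toSubmodule B).FG)
    (hωB : ω ≤ Subalgebra.toSubmodule B) :
    rl 1 ω + rl (1 / Subalgebra.toSubmodule B) (Subalgebra.toSubmodule B) =
      2 * rl 1 (Subalgebra.toSubmodule B) := by
  have hωfg : ω.FG := Submodule.FG.of_le hB hωB
  have hω0 : ω ≠ ⊥ := fun h0 => one_ne_bot (le_bot_iff.1 (h0 ▸ hω1))
  have hC := div_subalgebra_eq hdim ω hωfg hω0 h hω1 B hωB
  have hd := duality hdim ω hωfg hω0 h (hω1.trans hωB) one_ne_bot hB
  rw [div_one_eq, hC] at hd
  have hC1 : (1 : Submodule O K) / Subalgebra.toSubmodule B ≤ 1 := by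
    intro x hx
    have := Submodule.mem_div_iff_forall_mul_mem.1 hx 1 B.one_mem
    rwa [mul_one] at this
  have e1 := rl_add hC1 hω1
  have e2 := rl_add hC1 (hω1.trans hωB)
  rw [e2, ← hd, e1]
  ring

/-- the conductor `(O : B) • B` inside `B`, as in the statement -/
theorem colon_smul_top_eq (B : Subalgebra O K) :
    ((1 : Submodule O K).colon (Subalgebra.toSubmodule B)) • (⊤ : Submodule O ↥B) =
      Submodule.comap (Subalgebra.toSubmodule B).subtype
        ((1 : Submodule O K) / Subalgebra.toSubmodule B) := by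
  apply le_antisymm
  · rw [Submodule.smul_le]
    intro r hr n _
    rw [Submodule.mem_comap, Submodule.mem_div_iff_forall_mul_mem]
    intro w hw
    have : (Subalgebra.toSubmodule B).subtype (r • n) * w = r • ((n : K) * w) := by
      show (r • (n : K)) * w = r • ((n : K) * w)
      rw [smul_mul_assoc]
    rw [this]
    exact Submodule.mem_colon.1 hr _ (B.mul_mem n.2 hw)
  · intro z hz
    rw [Submodule.mem_comap, Submodule.mem_div_iff_forall_mul_mem] at hz
    have h1 := hz 1 B.one_mem
    rw [mul_one] at h1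
    obtain ⟨r, hr⟩ := Submodule.mem_one.1 h1
    have hrc : r ∈ (1 : Submodule O K).colon (Subalgebra.toSubmodule B) := by
      rw [Submodule.mem_colon]
      intro s hs
      rw [Algebra.smul_def, hr]
      exact hz s hs
    have hz' : z = r • (1 : ↥B) := by
      apply Subtype.ext
      show (z : K) = r • (1 : K)
      rw [Algebra.smul_def, mul_one, hr]
      rfl
    rw [hz']
    exact Submodule.smul_mem_smul hrc trivial

end Groth.Agent.Helper7.CanDu
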