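import Mathlib
import Groth.Agent.Helper7.CanDuD

set_option autoImplicit false
universe u

/-!
# Transport of the duality to an intermediate algebra `O ⊆ P ⊆ K`
-/

namespace Groth.Agent.Helper7.CanDu

open CategoryTheory Function IsLocalRing
open scoped Pointwise

variable {O : Type u} [CommRing O] [IsDomain O] {K : Type u} [Field K] [Algebra O K]
  [IsFractionRing O K]
variable {P : Type u} [CommRing P] [Algebra O P] [Algebra P K] [IsScalarTower O P K]

/-- the inclusion `P → K` as an `O`-algebra map -/
noncomputable def iota (O P K : Type u) [CommRing O] [Field K] [Algebra O K] [CommRing P]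
    [Algebra O P] [Algebra P K] [IsScalarTower O P K] : P →ₐ[O] K :=
  IsScalarTower.toAlgHom O P K

theorem iota_apply (p : P) : iota O P K p = algebraMap P K p := rfl

theorem map_div (hinj : Injective (algebraMap P K)) (ω I : Submodule O P) (h1 : (1 : P) ∈ I) :
    (ω / I).map (iota O P K).toLinearMap =
      ω.map (iota O P K).toLinearMap / I.map (iota O P K).toLinearMap := by
  apply le_antisymm
  · rintro x ⟨u, hu, rfl⟩
    rw [Submodule.mem_div_iff_forall_mul_mem]
    rintro y ⟨i, hi, rfl⟩
    refine ⟨u * i, Submodule.mem_div_iff_forall_mul_mem.1 hu i hi, ?_⟩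
    simp only [AlgHom.toLinearMap_apply, map_mul]
  · intro x hx
    rw [Submodule.mem_div_iff_forall_mul_mem] at hx
    have hx1 := hx ((iota O P K).toLinearMap 1) ⟨1, h1, rfl⟩
    simp only [AlgHom.toLinearMap_apply, map_one, mul_one] at hx1
    obtain ⟨u, hu, rfl⟩ := hx1
    refine ⟨u, ?_, rfl⟩
    show u ∈ ω / I
    rw [Submodule.mem_div_iff_forall_mul_mem]
    intro i hi
    obtain ⟨w, hw, hwe⟩ := hx ((iota O P K).toLinearMap i) ⟨i, hi, rfl⟩
    simp only [AlgHom.toLinearMap_apply, ← map_mul] at hwe
    have : w = u * i := hinj hwe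
    rw [← this]
    exact hw

variable [IsNoetherianRing O] [IsLocalRing O]

theorem injdim_map (hinj : Injective (algebraMap P K)) (ω : Submodule O P)
    (h : HasInjectiveDimensionLT (ModuleCat.of O ↥ω) 2) :
    HasInjectiveDimensionLT (ModuleCat.of O ↥(ω.map (iota O P K).toLinearMap)) 2 := by
  have e : ↥ω ≃ₗ[O] ↥(ω.map (iota O P K).toLinearMap) :=
    Submodule.equivMapOfInjective _ hinj ω
  exact hasInjectiveDimensionLT_of_iso e.toModuleIso 2

/-- duality for submodules of `P` -/
theorem duality_P (hdim : ringKrullDim O = 1) (hinj : Injective (algebraMap P K))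
    (ω : Submodule O P) (hωfg : ω.FG) (hω1 : (1 : P) ∈ ω)
    (h : HasInjectiveDimensionLT (ModuleCat.of O ↥ω) 2) {J I : Submodule O P}
    (hJI : J ≤ I) (hJ1 : (1 : P) ∈ J) (hIfg : I.FG) : rl (ω / I) (ω / J) = rl J I := by
  have hι : Injective (iota O P K).toLinearMap := hinj
  rw [← rl_map _ hι (ω / I) (ω / J), ← rl_map _ hι J I, map_div hinj ω I (hJI hJ1),
    map_div hinj ω J hJ1]
  have hne : ∀ N : Submodule O P, (1 : P) ∈ N → N.map (iota O P K).toLinearMap ≠ ⊥ := by
    intro N hN h0
    have : (iota O P K).toLinearMap 1 ∈ N.map (iota O P K).toLinearMap := ⟨1, hN, rfl⟩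
    rw [h0, Submodule.mem_bot] at this
    simp at this
  exact duality hdim _ (hωfg.map _) (hne ω hω1) (injdim_map hinj ω h)
    (Submodule.map_mono hJI) (hne J hJ1) (hIfg.map _)

/-- `(ω : P) = (O : P)` -/
theorem div_top_eq (hdim : ringKrullDim O = 1) (hinj : Injective (algebraMap P K))
    (ω : Submodule O P) (hωfg : ω.FG) (hω1 : (1 : P) ∈ ω)
    (h : HasInjectiveDimensionLT (ModuleCat.of O ↥ω) 2) :
    ω / (⊤ : Submodule O P) = 1 / (⊤ : Submodule O P) := by
  have hι : Injective (iota O P K).toLinearMap := hinj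
  apply Submodule.map_injective_of_injective hι
  rw [map_div hinj ω ⊤ trivial, map_div hinj 1 ⊤ trivial]
  have htop : (⊤ : Submodule O P).map (iota O P K).toLinearMap =
      Subalgebra.toSubmodule (iota O P K).range := by
    ext x
    simp [AlgHom.mem_range]
  have hone : (1 : Submodule O P).map (iota O P K).toLinearMap = 1 := Submodule.map_one _
  rw [htop, hone]
  have hne : ω.map (iota O P K).toLinearMap ≠ ⊥ := by
    intro h0
    have : (iota O P K).toLinearMap 1 ∈ ω.map (iota O P K).toLinearMap := ⟨1, hω1, rfl⟩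
    rw [h0, Submodule.mem_bot] at this
    simp at this
  refine div_subalgebra_eq hdim _ (hωfg.map _) hne (injdim_map hinj ω h) ?_ _ ?_
  · rw [← hone]
    apply Submodule.map_mono
    rw [Submodule.one_le]
    exact hω1
  · rw [← htop]
    exact Submodule.map_mono le_top

end Groth.Agent.Helper7.CanDu
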