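import Mathlib
import Groth.Agent.Helper7.UnitComp

set_option autoImplicit false
universe u v w
open TensorProduct

namespace Groth.Agent.Helper7.UnitComp

/-- Two algebra maps from an unramified algebra of finite type into a local ring `D` (integral over
`R`, with an `R`-retraction `ε`) which agree after `ε` are equal. -/
lemma algHom_ext_of_unramified {R C D : Type*} [CommRing R] [CommRing C] [CommRing D]
    [Algebra R C] [Algebra R D] [Algebra.FormallyUnramified R C] [Algebra.EssFiniteType R C]
    [IsLocalRing D] [Algebra.IsIntegral R D] (ε : D →ₐ[R] R) (χ χ₀ : C →ₐ[R] D)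
    (h : ε.comp χ = ε.comp χ₀) : χ = χ₀ := by
  let Ψ : C ⊗[R] C →ₐ[R] D := Algebra.TensorProduct.lift χ₀ χ (fun _ _ => Commute.all _ _)
  set t := Algebra.FormallyUnramified.elem R C with ht
  have h1 : ε.comp Ψ = (ε.comp χ).comp (Algebra.TensorProduct.lmul' R) := by
    apply Algebra.TensorProduct.ext
    · ext c
      have := congrArg (fun f => f c) h
      simpa [Ψ] using this.symm
    · ext c
      simp [Ψ]
  have h2 : ε (Ψ t) = 1 := by
    have := congrArg (fun f => f t) h1
    simp only [AlgHom.coe_comp, Function.comp_apply] at this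
    rw [this, ht, Algebra.FormallyUnramified.lmul_elem, map_one, map_one]
  have h3 : IsUnit (Ψ t) := by
    have h0 : ε (Ψ t - 1) = 0 := by rw [map_sub, h2, map_one, sub_self]
    have h4 := map_mem_jacobson (AlgHom.id R D) ε h0
    rw [IsLocalRing.jacobson_eq_maximalIdeal _ bot_ne_top] at h4
    have h5 : Ψ t = 1 + (Ψ t - 1) := by ring
    rw [h5]
    have h6 : ¬ IsUnit (Ψ t - 1) := h4
    exact (IsLocalRing.isUnit_or_isUnit_of_add_one (a := -(Ψ t - 1)) (b := 1 + (Ψ t - 1))
      (by ring)).resolve_left (fun hu => h6 (by simpa using hu.neg))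
  ext s
  have h7 := congrArg Ψ (Algebra.FormallyUnramified.one_tmul_sub_tmul_one_mul_elem (R := R) (S := C) s)
  rw [map_mul, map_sub, map_zero] at h7
  have h8 : Ψ (1 ⊗ₜ[R] s) = χ s := by simp [Ψ]
  have h9 : Ψ (s ⊗ₜ[R] 1) = χ₀ s := by simp [Ψ]
  rw [h8, h9] at h7
  exact sub_eq_zero.1 (h3.mul_left_eq_zero.1 h7)


section Univ

variable {R : Type u} [CommRing R] {A : Type v} [CommRing A] [HopfAlgebra R A] {e : A}
  [Module.Finite R A] [IsLocalRing (A ⧸ I0 e)]

/-- (2): a bialgebra map from a finite étale Hopf algebra lands in the invariants of the unit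
component. -/
theorem etale_factor (hε : Bialgebra.counitAlgHom R A e = 1)
    (C : Type w) [CommRing C] [Bialgebra R C] [Algebra.FormallyUnramified R C]
    [Algebra.EssFiniteType R C] (φ : C →ₐc[R] A) (c : C) :
    φ c ∈ (AlgHom.equalizer
      ((Algebra.TensorProduct.map (AlgHom.id R A) (Ideal.Quotient.mkₐ R (I0 e))).comp
        (Bialgebra.comulAlgHom R A))
      (Algebra.TensorProduct.includeLeft : A →ₐ[R] A ⊗[R] (A ⧸ I0 e))) := by
  have hfin : Module.Finite R (A ⧸ I0 e) :=
    Module.Finite.of_surjective (Ideal.Quotient.mkₐ R (I0 e)).toLinearMap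
      Ideal.Quotient.mk_surjective
  have hint : Algebra.IsIntegral R (A ⧸ I0 e) := Algebra.IsIntegral.of_finite R _
  rw [AlgHom.mem_equalizer]
  have hχ : (Ideal.Quotient.mkₐ R (I0 e)).comp (φ : C →ₐ[R] A) =
      (Algebra.ofId R (A ⧸ I0 e)).comp (Bialgebra.counitAlgHom R C) := by
    apply algHom_ext_of_unramified (epsBar hε)
    ext c
    simp [Algebra.ofId_apply]
  have h1 : Coalgebra.comul (R := R) (φ c) =
      TensorProduct.map (φ : C →ₗ[R] A) (φ : C →ₗ[R] A) (Coalgebra.comul (R := R) c) :=
    (CoalgHomClass.map_comp_comul_apply φ c).symm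
  have h2 : (TensorProduct.map (LinearMap.id : A →ₗ[R] A)
        (Ideal.Quotient.mkₐ R (I0 e)).toLinearMap) ∘ₗ
        (TensorProduct.map (φ : C →ₗ[R] A) (φ : C →ₗ[R] A)) =
      (TensorProduct.map (φ : C →ₗ[R] A) (Algebra.linearMap R (A ⧸ I0 e))) ∘ₗ
        (LinearMap.lTensor C (Coalgebra.counit (R := R))) := by
    apply TensorProduct.ext'
    intro x y
    have := congrArg (fun f => f y) hχ
    simp only [AlgHom.coe_comp, Function.comp_apply, Algebra.ofId_apply] at this
    simp only [LinearMap.coe_comp, Function.comp_apply, TensorProduct.map_tmul,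
      LinearMap.lTensor_tmul, LinearMap.id_apply, AlgHom.toLinearMap_apply,
      Algebra.linearMap_apply]
    congr 1
  change (TensorProduct.map (LinearMap.id : A →ₗ[R] A) (Ideal.Quotient.mkₐ R (I0 e)).toLinearMap)
    (Coalgebra.comul (R := R) (φ c)) = φ c ⊗ₜ[R] 1
  rw [h1, ← LinearMap.comp_apply, h2, LinearMap.comp_apply, Coalgebra.lTensor_counit_comul]
  simp

omit [Module.Finite R A] [IsLocalRing (A ⧸ I0 e)] in
/-- (3): a bialgebra map to a local finite Hopf algebra sends `e` to `1`. -/
theorem local_factor (he : IsIdempotentElem e) (hε : Bialgebra.counitAlgHom R A e = 1)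
    (D : Type w) [CommRing D] [Bialgebra R D] [Algebra.IsIntegral R D] [IsLocalRing D]
    (ψ : A →ₐc[R] D) : ψ e = 1 := by
  apply eq_one_of_isIdempotentElem (he.map ψ)
  have h0 : Bialgebra.counitAlgHom R D (ψ e - 1) = 0 := by
    rw [map_sub, map_one, sub_eq_zero]
    have : Coalgebra.counit (R := R) (ψ e) = Coalgebra.counit (R := R) e :=
      CoalgHomClass.counit_comp_apply ψ e
    exact this.trans hε
  exact map_mem_jacobson (AlgHom.id R D) (Bialgebra.counitAlgHom R D) h0

end Univ

end Groth.Agent.Helper7.UnitComp
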