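import Mathlib
import Groth.Prelude.Def_CartDual2
import Groth.Agent.Helper7.UnitComp4

set_option autoImplicit false
universe u v w
open TensorProduct

namespace Groth.Agent.Helper7.CartMu

open Groth.Agent.Helper7.UnitComp

/-- The factor map between quotient bialgebras. -/
noncomputable def factorBialgHom {R : Type*} {A : Type*} [CommRing R] [CommRing A] [Bialgebra R A]
    (I J : Ideal A) [(I.restrictScalars R).IsCoideal] [(J.restrictScalars R).IsCoideal]
    (h : I ≤ J) : A ⧸ I →ₐc[R] A ⧸ J :=
  BialgHom.ofAlgHom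
    (Ideal.Quotient.liftₐ I (Ideal.Quotient.mkₐ R J)
      (fun a ha => Ideal.Quotient.eq_zero_iff_mem.2 (h ha)))
    (by
      apply Ideal.Quotient.algHom_ext
      ext a
      rfl)
    (by
      apply Ideal.Quotient.algHom_ext
      ext a
      change (Algebra.TensorProduct.map _ _) (Coalgebra.comul (R := R) (Ideal.Quotient.mk I a)) =
        Coalgebra.comul (R := R) (Ideal.Quotient.mk J a)
      rw [Bialgebra.Quotient.comul_mk, Bialgebra.Quotient.comul_mk]
      generalize Coalgebra.comul (R := R) a = t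
      induction t using TensorProduct.induction_on with
      | zero => simp
      | tmul x y => simp
      | add x y hx hy => simp only [map_add, hx, hy])

@[simp] lemma factorBialgHom_mk {R : Type*} {A : Type*} [CommRing R] [CommRing A] [Bialgebra R A]
    (I J : Ideal A) [(I.restrictScalars R).IsCoideal] [(J.restrictScalars R).IsCoideal]
    (h : I ≤ J) (a : A) :
    factorBialgHom (R := R) I J h (Ideal.Quotient.mk I a) = Ideal.Quotient.mk J a := rfl

/-- Membership in the equaliser defining the invariants implies invariance under multiplication by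
the idempotent. -/
lemma invariant_of_mem_equalizer {R : Type*} {B : Type*} [CommRing R] [CommRing B] [Bialgebra R B]
    {e' : B} (he' : IsIdempotentElem e') {x : B}
    (hx : x ∈ AlgHom.equalizer
      ((Algebra.TensorProduct.map (AlgHom.id R B) (Ideal.Quotient.mkₐ R (I0 e'))).comp
        (Bialgebra.comulAlgHom R B))
      (Algebra.TensorProduct.includeLeft : B →ₐ[R] B ⊗[R] (B ⧸ I0 e'))) :
    LinearMap.lTensor B (LinearMap.mulLeft R e') (Coalgebra.comul (R := R) x) = x ⊗ₜ[R] e' := by
  rw [AlgHom.mem_equalizer] at hx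
  let m : (B ⧸ I0 e') →ₗ[R] B :=
    Submodule.liftQ ((I0 e').restrictScalars R) (LinearMap.mulLeft R e') (by
      intro a ha
      obtain ⟨b, rfl⟩ := Ideal.mem_span_singleton'.1 ha
      have h : e' * e' = e' := he'
      simp only [LinearMap.mem_ker, LinearMap.mulLeft_apply]
      rw [mul_comm b, ← mul_assoc, mul_sub, mul_one, h, sub_self, zero_mul])
  have hm : m ∘ₗ (Ideal.Quotient.mkₐ R (I0 e')).toLinearMap = LinearMap.mulLeft R e' := by
    ext b
    rfl
  have h1 := congrArg (LinearMap.lTensor B m) hx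
  have h2 : LinearMap.lTensor B m
      (((Algebra.TensorProduct.map (AlgHom.id R B) (Ideal.Quotient.mkₐ R (I0 e'))).comp
        (Bialgebra.comulAlgHom R B)) x) =
      LinearMap.lTensor B (LinearMap.mulLeft R e') (Coalgebra.comul (R := R) x) := by
    rw [← hm, LinearMap.lTensor_comp]
    rfl
  rw [h2] at h1
  rw [h1]
  simp only [Algebra.TensorProduct.includeLeft_apply, LinearMap.lTensor_tmul]
  congr 1
  change e' * 1 = e'
  rw [mul_one]


open CartDual in
theorem s15896 (R : Type u) [CommRing R] [Nontrivial R] (A : Type u) [CommRing A] [HopfAlgebra R A]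
    [Module.Finite R A] (e : A) (he : IsIdempotentElem e)
    (hε : Bialgebra.counitAlgHom R A e = 1) [(I0 e).IsHopfIdeal R] [IsLocalRing (A ⧸ I0 e)]
    [Module.Projective R (A ⧸ I0 e)] [Coalgebra.IsCocomm R (A ⧸ I0 e)]
    (e' : CartDual.D R (A ⧸ I0 e)) (he' : IsIdempotentElem e')
    (hε' : Bialgebra.counitAlgHom R (CartDual.D R (A ⧸ I0 e)) e' = 1)
    [IsLocalRing (CartDual.D R (A ⧸ I0 e) ⧸ I0 e')]
    (J : Ideal A) [J.IsHopfIdeal R] [IsLocalRing (A ⧸ J)] [Module.Projective R (A ⧸ J)]
    [Coalgebra.IsCocomm R (A ⧸ J)] [Algebra.Etale R (CartDual.D R (A ⧸ J))]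
    (a : A)
    (ha : ∀ x : CartDual.D R (A ⧸ I0 e),
      LinearMap.lTensor (CartDual.D R (A ⧸ I0 e)) (LinearMap.mulLeft R e')
        (Coalgebra.comul (R := R) x) = x ⊗ₜ[R] e' → x (Ideal.Quotient.mk (I0 e) a) = 0) :
    a ∈ J := by
  have hint : Algebra.IsIntegral R (A ⧸ J) := Algebra.IsIntegral.of_finite R _
  -- `I0 e ≤ J`
  have h1 : Ideal.Quotient.mk J e = 1 :=
    local_factor he hε (A ⧸ J) (Bialgebra.Quotient.mkBialgHom J)
  have hle : I0 e ≤ J := by
    rw [Ideal.span_le, Set.singleton_subset_iff, SetLike.mem_coe, ← Ideal.Quotient.eq_zero_iff_mem,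
      map_sub, map_one, h1, sub_self]
  let φ : (A ⧸ I0 e) →ₐc[R] (A ⧸ J) := factorBialgHom (R := R) (I0 e) J hle
  rw [← Ideal.Quotient.eq_zero_iff_mem, ← Module.forall_dual_apply_eq_zero_iff R]
  intro y
  let y' : CartDual.D R (A ⧸ J) := WithConv.toConv y
  have h2 := etale_factor (R := R) (A := CartDual.D R (A ⧸ I0 e)) (e := e') hε'
    (CartDual.D R (A ⧸ J)) (CartDual.transpose R φ) y'
  have h3 := invariant_of_mem_equalizer he' h2
  have h4 := ha _ h3
  exact h4

end Groth.Agent.Helper7.CartMu
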