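import Mathlib
import Groth.Agent.Helper7.UnitComp
import Groth.Agent.Helper7.AugDer
import Groth.Agent.Helper2.HopfDiff

set_option autoImplicit false
universe u v w
open TensorProduct

namespace Groth.Agent.Helper7.HopfExt

open Groth.Agent.Helper7.UnitSm Groth.Agent.Helper2.HopfDiff

/-- For an unramified algebra with augmentation `ε`, `(ker ε)² = ker ε`. -/
lemma ker_sq_eq_of_unramified {R B : Type*} [CommRing R] [CommRing B] [Algebra R B]
    [Algebra.FormallyUnramified R B] (ε : B →ₐ[R] R) :
    (RingHom.ker ε) ^ 2 = RingHom.ker ε := by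
  apply le_antisymm (Ideal.pow_le_self two_ne_zero)
  intro k hk
  have h0 : Subsingleton (Ω[B⁄R]) := inferInstance
  have h1 : der ε k = 0 := by
    rw [← Derivation.liftKaehlerDifferential_comp_D (der ε) k,
      Subsingleton.elim (KaehlerDifferential.D R B k) 0, map_zero]
  have h2 := der_apply_of_mem ε k hk
  rw [h1] at h2
  have h3 : (I ε).toCotangent ⟨k, hk⟩ = 0 := h2.symm
  rw [Ideal.toCotangent_eq_zero] at h3
  exact h3

/-- A finite flat Hopf algebra over a Noetherian ring whose augmentation ideal is idempotent is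
étale. -/
lemma etale_of_sq_eq {R : Type u} [CommRing R] [IsNoetherianRing R] {A : Type v} [CommRing A]
    [HopfAlgebra R A] [Module.Finite R A] [Module.Flat R A]
    (h : (augI R A) ^ 2 = augI R A) : Algebra.Etale R A := by
  have h2 : Subsingleton (augI R A).Cotangent := by
    rw [Ideal.cotangent_subsingleton_iff, IsIdempotentElem, ← pow_two]
    exact h
  have h1 : Subsingleton (A ⊗[R] (augI R A).Cotangent) := inferInstance
  have h0 : Subsingleton (Ω[A⁄R]) := (kaehlerEquiv R A).toEquiv.subsingleton
  have : Algebra.FormallyUnramified R A := ⟨h0⟩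
  have : Algebra.FinitePresentation R A := Algebra.FinitePresentation.of_finiteType.1 inferInstance
  exact Algebra.Etale.of_formallyUnramified_of_flat


section Ext

variable {R : Type u} [CommRing R] {A : Type v} {A'' : Type w} [CommRing A] [HopfAlgebra R A]
  [CommRing A''] [HopfAlgebra R A''] [Algebra A'' A] [IsScalarTower R A'' A]

variable (R A A'') in
/-- The ideal of the kernel of `Spec A → Spec A''`. -/
abbrev J : Ideal A := (RingHom.ker (Bialgebra.counitAlgHom R A'')).map (algebraMap A'' A)

variable (hε : (Bialgebra.counitAlgHom R A).comp (IsScalarTower.toAlgHom R A'' A) =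
  Bialgebra.counitAlgHom R A'')

include hε in
lemma map_le_augI : J R A A'' ≤ augI R A := by
  rw [Ideal.map_le_iff_le_comap]
  intro x hx
  rw [Ideal.mem_comap, RingHom.mem_ker]
  have := congrArg (fun f => f x) hε
  simp only [AlgHom.coe_comp, Function.comp_apply, IsScalarTower.coe_toAlgHom'] at this
  rw [this]
  exact hx

theorem isLocalRing_of_ext [Module.Finite R A] [Nontrivial R] [IsLocalRing A'']
    [IsLocalRing (A ⧸ J R A A'')] : IsLocalRing A := by
  have hint : Algebra.IsIntegral R A := Algebra.IsIntegral.of_finite R A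
  have hint2 : Algebra.IsIntegral A'' A := Algebra.IsIntegral.tower_top R
  have hJ : J R A A'' ≤ Ideal.jacobson ⊥ := by
    rw [Ideal.jacobson]
    apply le_sInf
    rintro M ⟨-, hM⟩
    have := hM
    have h1 : (M.comap (algebraMap A'' A)).IsMaximal :=
      Ideal.isMaximal_comap_of_isIntegral_of_isMaximal M
    have h2 : M.comap (algebraMap A'' A) = IsLocalRing.maximalIdeal A'' :=
      IsLocalRing.eq_maximalIdeal h1
    have h3 : RingHom.ker (Bialgebra.counitAlgHom R A'') ≤ IsLocalRing.maximalIdeal A'' := by
      apply IsLocalRing.le_maximalIdeal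
      exact RingHom.ker_ne_top _
    rw [Ideal.map_le_iff_le_comap, h2]
    exact h3
  have := isLocalHom_of_le_jacobson_bot _ hJ
  exact RingHom.domain_isLocalRing (Ideal.Quotient.mk (J R A A''))

include hε in
theorem etale_of_ext [IsNoetherianRing R] [Module.Finite R A] [Module.Flat R A]
    [Algebra.FormallyUnramified R A''] [Algebra.FormallyUnramified R (A ⧸ J R A A'')] :
    Algebra.Etale R A := by
  apply etale_of_sq_eq
  have hJle := map_le_augI hε
  -- the augmentation of `A/J`
  let εbar : (A ⧸ J R A A'') →ₐ[R] R :=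
    Ideal.Quotient.liftₐ _ (Bialgebra.counitAlgHom R A) (fun a ha => hJle ha)
  have h1 := ker_sq_eq_of_unramified (Bialgebra.counitAlgHom R A'')
  have h2 := ker_sq_eq_of_unramified εbar
  have hker : RingHom.ker εbar = (augI R A).map (Ideal.Quotient.mk (J R A A'')) := by
    ext x
    obtain ⟨a, rfl⟩ := Ideal.Quotient.mk_surjective x
    rw [Ideal.mem_map_iff_of_surjective _ Ideal.Quotient.mk_surjective]
    constructor
    · intro h
      exact ⟨a, h, rfl⟩
    · rintro ⟨b, hb, hab⟩
      rw [RingHom.mem_ker, ← hab]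
      exact hb
  -- `J ≤ I²`
  have hJ2 : J R A A'' ≤ (augI R A) ^ 2 := by
    have : J R A A'' = (J R A A'') ^ 2 := by
      change Ideal.map _ _ = (Ideal.map _ _) ^ 2
      rw [← Ideal.map_pow, h1]
    rw [this]
    exact Ideal.pow_right_mono hJle 2
  apply le_antisymm (Ideal.pow_le_self two_ne_zero)
  intro a ha
  have h3 : Ideal.Quotient.mk (J R A A'') a ∈ RingHom.ker εbar := ha
  rw [← h2, hker, ← Ideal.map_pow, Ideal.mem_map_iff_of_surjective _ Ideal.Quotient.mk_surjective]
    at h3
  obtain ⟨b, hb, hab⟩ := h3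
  have h4 : a - b ∈ J R A A'' := by
    rw [← Ideal.Quotient.eq_zero_iff_mem, map_sub, hab, sub_self]
  have : a = (a - b) + b := by ring
  rw [this]
  exact Ideal.add_mem _ (hJ2 h4) hb

end Ext

end Groth.Agent.Helper7.HopfExt
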