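import Mathlib
import Groth.Agent.Helper7.HopfExt

set_option autoImplicit false
universe u v w
open TensorProduct

namespace Groth.Agent.Helper7.HopfExt

open Groth.Agent.Helper7.UnitSm Groth.Agent.Helper2.HopfDiff Groth.Agent.Helper7.UnitComp

/-- A local Noetherian `R`-algebra with augmentation which is formally unramified has trivial
augmentation ideal. -/
lemma ker_eq_bot_of_unramified_local {R E : Type*} [CommRing R] [Nontrivial R] [CommRing E]
    [Algebra R E] [IsNoetherianRing E] [IsLocalRing E] [Algebra.FormallyUnramified R E]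
    (ε : E →ₐ[R] R) : RingHom.ker ε = ⊥ := by
  have h2 := ker_sq_eq_of_unramified ε
  apply Submodule.eq_bot_of_le_smul_of_le_jacobson_bot (RingHom.ker ε) (RingHom.ker ε)
    (IsNoetherian.noetherian _)
  · rw [smul_eq_mul, ← pow_two, h2]
  · rw [IsLocalRing.jacobson_eq_maximalIdeal _ bot_ne_top]
    exact IsLocalRing.le_maximalIdeal (RingHom.ker_ne_top _)

section Split

variable {R : Type u} [CommRing R] [Nontrivial R] [IsNoetherianRing R] {A : Type v} {A'' : Type w}
  [CommRing A] [HopfAlgebra R A] [Module.Finite R A]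
  [CommRing A''] [HopfAlgebra R A''] [Algebra A'' A] [IsScalarTower R A'' A]
  (hε : (Bialgebra.counitAlgHom R A).comp (IsScalarTower.toAlgHom R A'' A) =
    Bialgebra.counitAlgHom R A'')
  [Algebra.FormallyUnramified R (A ⧸ J R A A'')]
  {e : A} (heε : Bialgebra.counitAlgHom R A e = 1) [IsLocalRing (A ⧸ I0 e)]

include hε heε in
lemma augI_eq : augI R A = J R A A'' ⊔ I0 e := by
  have hJle := map_le_augI hε
  have hIle : I0 e ≤ augI R A := fun a ha => eq_zero_of_map_e _ heε ha
  have hL : J R A A'' ⊔ I0 e ≤ augI R A := sup_le hJle hIle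
  apply le_antisymm _ hL
  set L := J R A A'' ⊔ I0 e with hLdef
  have hLne : L ≠ ⊤ := fun h => (RingHom.ker_ne_top (Bialgebra.counitAlgHom R A))
    (top_le_iff.1 (h ▸ hL))
  have : Nontrivial (A ⧸ L) := Ideal.Quotient.nontrivial_iff.2 hLne
  have hloc : IsLocalRing (A ⧸ L) :=
    IsLocalRing.of_surjective' (Ideal.Quotient.factor (le_sup_right : I0 e ≤ L))
      (Ideal.Quotient.factor_surjective _)
  have hunr : Algebra.FormallyUnramified R (A ⧸ L) :=
    Algebra.FormallyUnramified.of_surjective
      (Ideal.Quotient.liftₐ (J R A A'') (Ideal.Quotient.mkₐ R L)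
        (fun a ha => Ideal.Quotient.eq_zero_iff_mem.2 ((le_sup_left : J R A A'' ≤ L) ha)))
      (fun x => by
        obtain ⟨a, rfl⟩ := Ideal.Quotient.mk_surjective x
        exact ⟨Ideal.Quotient.mk _ a, rfl⟩)
  have : IsNoetherianRing A := Algebra.FiniteType.isNoetherianRing R A
  let εE : (A ⧸ L) →ₐ[R] R :=
    Ideal.Quotient.liftₐ L (Bialgebra.counitAlgHom R A) (fun a ha => hL ha)
  have hK := ker_eq_bot_of_unramified_local εE
  intro a ha
  have h1 : Ideal.Quotient.mk L a ∈ RingHom.ker εE := ha
  rw [hK, Ideal.mem_bot, Ideal.Quotient.eq_zero_iff_mem] at h1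
  exact h1

include hε heε in
theorem split_bijective [IsLocalRing A''] [Module.Flat A'' A] (he : IsIdempotentElem e) :
    Function.Bijective
      ((Ideal.Quotient.mkₐ R (I0 e)).comp (IsScalarTower.toAlgHom R A'' A)) := by
  change Function.Bijective (algebraMap A'' (A ⧸ I0 e))
  have hfin0 : Module.Finite R (A ⧸ I0 e) :=
    Module.Finite.of_surjective (Ideal.Quotient.mkₐ R (I0 e)).toLinearMap
      Ideal.Quotient.mk_surjective
  have hfin : Module.Finite A'' (A ⧸ I0 e) := Module.Finite.of_restrictScalars_finite R A'' _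
  have hint : Algebra.IsIntegral A'' (A ⧸ I0 e) := Algebra.IsIntegral.of_finite _ _
  have haug := augI_eq hε heε
  constructor
  · -- injectivity: flat local homomorphism
    have hflat : Module.Flat A'' (A ⧸ I0 e) := by
      let i : (A ⧸ I0 e) →ₗ[A''] A :=
        Submodule.liftQ ((I0 e).restrictScalars A'') (LinearMap.mulLeft A'' e) (by
          intro a ha
          obtain ⟨b, rfl⟩ := Ideal.mem_span_singleton'.1 ha
          have h : e * e = e := he
          simp only [LinearMap.mem_ker, LinearMap.mulLeft_apply]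
          rw [mul_comm b, ← mul_assoc, mul_sub, mul_one, h, sub_self, zero_mul])
      apply Module.Flat.of_retract i (Ideal.Quotient.mkₐ A'' (I0 e)).toLinearMap
      ext x
      obtain ⟨a, rfl⟩ := Ideal.Quotient.mk_surjective x
      change Ideal.Quotient.mk (I0 e) (e * a) = Ideal.Quotient.mk (I0 e) a
      rw [map_mul, mk_e, one_mul]
    have hloc : IsLocalHom (algebraMap A'' (A ⧸ I0 e)) := by
      have h1 : ((IsLocalRing.maximalIdeal (A ⧸ I0 e)).comap (algebraMap A'' (A ⧸ I0 e))).IsMaximal :=
        Ideal.isMaximal_comap_of_isIntegral_of_isMaximal _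
      exact ((IsLocalRing.local_hom_TFAE (algebraMap A'' (A ⧸ I0 e))).out 0 4).2
        (IsLocalRing.eq_maximalIdeal h1)
    have := Module.FaithfullyFlat.of_flat_of_isLocalHom (A := A'') (B := A ⧸ I0 e)
    exact FaithfulSMul.algebraMap_injective A'' (A ⧸ I0 e)
  · -- surjectivity: Nakayama
    have hjac : augI R A'' ≤ Ideal.jacobson ⊥ := by
      rw [IsLocalRing.jacobson_eq_maximalIdeal _ bot_ne_top]
      exact IsLocalRing.le_maximalIdeal (RingHom.ker_ne_top _)
    have key : (⊤ : Submodule A'' (A ⧸ I0 e)) ≤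
        LinearMap.range (Algebra.linearMap A'' (A ⧸ I0 e)) ⊔
          (augI R A'') • (⊤ : Submodule A'' (A ⧸ I0 e)) := by
      rintro x -
      obtain ⟨a, rfl⟩ := Ideal.Quotient.mk_surjective x
      have h1 : a - algebraMap R A (Coalgebra.counit a) ∈ J R A A'' ⊔ I0 e := by
        rw [← haug]
        exact sub_counit_mem a
      obtain ⟨j, hj, i, hi, hji⟩ := Submodule.mem_sup.1 h1
      have h2 : Ideal.Quotient.mk (I0 e) a =
          algebraMap A'' (A ⧸ I0 e) (algebraMap R A'' (Coalgebra.counit a)) +
            Ideal.Quotient.mk (I0 e) j := by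
        have : a = algebraMap R A (Coalgebra.counit a) + (j + i) := by rw [hji]; ring
        conv_lhs => rw [this]
        rw [map_add, map_add, Ideal.Quotient.eq_zero_iff_mem.2 hi, add_zero,
          ← IsScalarTower.algebraMap_apply, IsScalarTower.algebraMap_apply R A (A ⧸ I0 e)]
        rfl
      rw [h2]
      apply Submodule.add_mem_sup
      · exact ⟨_, rfl⟩
      · rw [Ideal.smul_top_eq_map]
        change Ideal.Quotient.mk (I0 e) j ∈ Ideal.map (algebraMap A'' (A ⧸ I0 e)) (augI R A'')
        have : algebraMap A'' (A ⧸ I0 e) = (Ideal.Quotient.mk (I0 e)).comp (algebraMap A'' A) := rfl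
        rw [this, ← Ideal.map_map]
        exact Ideal.mem_map_of_mem _ hj
    have h3 := Submodule.le_of_le_smul_of_le_jacobson_bot (Module.Finite.fg_top) hjac key
    intro x
    obtain ⟨y, hy⟩ := h3 (Submodule.mem_top (x := x))
    exact ⟨y, hy⟩

end Split

end Groth.Agent.Helper7.HopfExt
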