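import Mathlib
import Groth.Agent.Helper7.HopfExt2

set_option autoImplicit false
universe u v w
open TensorProduct

namespace Groth.Agent.Helper7.HopfExt

open Groth.Agent.Helper7.UnitSm Groth.Agent.Helper2.HopfDiff Groth.Agent.Helper7.UnitComp

/-- `A ⧸ (1 - e)` is a retract of `A` over any base, hence flat when `A` is. -/
lemma flat_quot_of_flat {S A : Type*} [CommRing S] [CommRing A] [Algebra S A] [Module.Flat S A]
    {e : A} (he : IsIdempotentElem e) : Module.Flat S (A ⧸ I0 e) := by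
  let i : (A ⧸ I0 e) →ₗ[S] A :=
    Submodule.liftQ ((I0 e).restrictScalars S) (LinearMap.mulLeft S e) (by
      intro a ha
      obtain ⟨b, rfl⟩ := Ideal.mem_span_singleton'.1 ha
      have h : e * e = e := he
      simp only [LinearMap.mem_ker, LinearMap.mulLeft_apply]
      rw [mul_comm b, ← mul_assoc, mul_sub, mul_one, h, sub_self, zero_mul])
  apply Module.Flat.of_retract i (Ideal.Quotient.mkₐ S (I0 e)).toLinearMap
  ext x
  obtain ⟨a, rfl⟩ := Ideal.Quotient.mk_surjective x
  change Ideal.Quotient.mk (I0 e) (e * a) = Ideal.Quotient.mk (I0 e) a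
  rw [map_mul, mk_e, one_mul]

/-- In a local ring integral over `R` with an `R`-augmentation, an idempotent with augmentation
`1` is `1`. -/
lemma idem_eq_one_of_local {R D : Type*} [CommRing R] [CommRing D] [Algebra R D]
    [Algebra.IsIntegral R D] [IsLocalRing D] (ε : D →ₐ[R] R) {x : D} (hx : IsIdempotentElem x)
    (h1 : ε x = 1) : x = 1 := by
  apply eq_one_of_isIdempotentElem hx
  have h0 : ε (x - 1) = 0 := by rw [map_sub, h1, map_one, sub_self]
  exact map_mem_jacobson (AlgHom.id R D) ε h0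

/-- Two idempotents `x`, `y` of an integral `R`-algebra `B` with augmentation, both of augmentation
`1` and with local quotients `B/(1-x)`, `B/(1-y)`, are equal. -/
lemma idem_unique {R B : Type*} [CommRing R] [CommRing B] [Algebra R B] [Algebra.IsIntegral R B]
    (ε : B →ₐ[R] R) {x y : B} (hx : IsIdempotentElem x) (hy : IsIdempotentElem y)
    (hεx : ε x = 1) (hεy : ε y = 1) [IsLocalRing (B ⧸ Ideal.span ({1 - x} : Set B))]
    [IsLocalRing (B ⧸ Ideal.span ({1 - y} : Set B))] : x = y := by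
  have key : ∀ {x y : B}, IsIdempotentElem x → IsIdempotentElem y → ε x = 1 → ε y = 1 →
      IsLocalRing (B ⧸ Ideal.span ({1 - x} : Set B)) → x = x * y := by
    intro x y hx hy hεx hεy hloc
    have hint : Algebra.IsIntegral R (B ⧸ Ideal.span ({1 - x} : Set B)) :=
      Algebra.IsIntegral.of_surjective (Ideal.Quotient.mkₐ R _) Ideal.Quotient.mk_surjective
    let εq : (B ⧸ Ideal.span ({1 - x} : Set B)) →ₐ[R] R :=
      Ideal.Quotient.liftₐ _ ε (by
        intro a ha
        obtain ⟨b, rfl⟩ := Ideal.mem_span_singleton'.1 ha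
        rw [map_mul, map_sub, map_one, hεx, sub_self, mul_zero])
    have h1 : Ideal.Quotient.mk (Ideal.span ({1 - x} : Set B)) y = 1 :=
      idem_eq_one_of_local εq (hy.map _) (by simpa [εq] using hεy)
    have h2 : 1 - y ∈ Ideal.span ({1 - x} : Set B) := by
      rw [← Ideal.Quotient.eq_zero_iff_mem, map_sub, map_one, h1, sub_self]
    obtain ⟨b, hb⟩ := Ideal.mem_span_singleton'.1 h2
    -- (1 - y) = b (1 - x) ⇒ x (1 - y) = 0
    have h3 : x * (1 - y) = 0 := by
      have hxx : x * x = x := hx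
      rw [← hb, mul_comm b, ← mul_assoc, mul_sub, mul_one, hxx, sub_self, zero_mul]
    rw [mul_sub, mul_one, sub_eq_zero] at h3
    exact h3
  have h1 := key hx hy hεx hεy inferInstance
  have h2 := key hy hx hεy hεx inferInstance
  rw [h1, mul_comm, ← h2]


section FF

variable {A : Type v} {A'' : Type w} [CommRing A] [CommRing A''] [Algebra A'' A]

theorem unitComp_faithfullyFlat [Algebra.IsIntegral A'' A] [Module.Flat A'' A]
    {e : A} (he : IsIdempotentElem e) [IsLocalRing (A ⧸ I0 e)]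
    {e'' : A''} (he'' : IsIdempotentElem e'') [IsLocalRing (A'' ⧸ I0 e'')]
    (g : (A'' ⧸ I0 e'') →+* (A ⧸ I0 e))
    (hg : g.comp (Ideal.Quotient.mk (I0 e'')) =
      (Ideal.Quotient.mk (I0 e)).comp (algebraMap A'' A)) : g.FaithfullyFlat := by
  let _ : Algebra (A'' ⧸ I0 e'') (A ⧸ I0 e) := g.toAlgebra
  change Module.FaithfullyFlat (A'' ⧸ I0 e'') (A ⧸ I0 e)
  have htower : IsScalarTower A'' (A'' ⧸ I0 e'') (A ⧸ I0 e) :=
    IsScalarTower.of_algebraMap_eq (fun x => (congrArg (fun f => f x) hg).symm)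
  have hloc : IsLocalization.Away e'' (A'' ⧸ I0 e'') :=
    IsLocalization.Away.quotient_of_isIdempotentElem he''
  have hflat1 : Module.Flat A'' (A ⧸ I0 e) := flat_quot_of_flat he
  have hflat : Module.Flat (A'' ⧸ I0 e'') (A ⧸ I0 e) :=
    (Module.flat_iff_of_isLocalization (A'' ⧸ I0 e'') (Submonoid.powers e'') (A ⧸ I0 e)).2 hflat1
  have hint0 : Algebra.IsIntegral A'' (A ⧸ I0 e) :=
    Algebra.IsIntegral.trans A
  have hint : Algebra.IsIntegral (A'' ⧸ I0 e'') (A ⧸ I0 e) := Algebra.IsIntegral.tower_top A''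
  have hlh : IsLocalHom (algebraMap (A'' ⧸ I0 e'') (A ⧸ I0 e)) := by
    have h1 : ((IsLocalRing.maximalIdeal (A ⧸ I0 e)).comap
        (algebraMap (A'' ⧸ I0 e'') (A ⧸ I0 e))).IsMaximal :=
      Ideal.isMaximal_comap_of_isIntegral_of_isMaximal _
    exact ((IsLocalRing.local_hom_TFAE (algebraMap (A'' ⧸ I0 e'') (A ⧸ I0 e))).out 0 4).2
      (IsLocalRing.eq_maximalIdeal h1)
  exact Module.FaithfullyFlat.of_flat_of_isLocalHom

end FF


section Ker

variable {R : Type u} [CommRing R] {A : Type v} {A'' : Type w}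
  [CommRing A] [HopfAlgebra R A] [Module.Finite R A]
  [CommRing A''] [HopfAlgebra R A''] [Algebra A'' A] [IsScalarTower R A'' A]
  (hε : (Bialgebra.counitAlgHom R A).comp (IsScalarTower.toAlgHom R A'' A) =
    Bialgebra.counitAlgHom R A'')

include hε in
theorem mk_e_eq_mk_e' [Nontrivial R] {e : A} (he : IsIdempotentElem e)
    (heε : Bialgebra.counitAlgHom R A e = 1) [IsLocalRing (A ⧸ I0 e)]
    {e' : A} (he' : IsIdempotentElem (Ideal.Quotient.mk (J R A A'') e'))
    (he'ε : Bialgebra.counitAlgHom R A e' = 1)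
    [IsLocalRing (A ⧸ (J R A A'' ⊔ I0 e'))] :
    Ideal.Quotient.mk (J R A A'') e = Ideal.Quotient.mk (J R A A'') e' := by
  have hJle := map_le_augI hε
  have hfin : Module.Finite R (A ⧸ J R A A'') :=
    Module.Finite.of_surjective (Ideal.Quotient.mkₐ R _).toLinearMap Ideal.Quotient.mk_surjective
  have hint : Algebra.IsIntegral R (A ⧸ J R A A'') := Algebra.IsIntegral.of_finite R _
  let εJ : (A ⧸ J R A A'') →ₐ[R] R :=
    Ideal.Quotient.liftₐ _ (Bialgebra.counitAlgHom R A) (fun a ha => hJle ha)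
  have hspan : ∀ a : A, Ideal.span ({1 - Ideal.Quotient.mk (J R A A'') a} : Set (A ⧸ J R A A'')) =
      (I0 a).map (Ideal.Quotient.mk (J R A A'')) := by
    intro a
    rw [Ideal.map_span, Set.image_singleton, map_sub, map_one]
  have hloc' : IsLocalRing ((A ⧸ J R A A'') ⧸
      Ideal.span ({1 - Ideal.Quotient.mk (J R A A'') e'} : Set (A ⧸ J R A A''))) := by
    rw [hspan]
    exact (DoubleQuot.quotQuotEquivQuotSup (J R A A'') (I0 e')).symm.isLocalRing
  have hloc : IsLocalRing ((A ⧸ J R A A'') ⧸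
      Ideal.span ({1 - Ideal.Quotient.mk (J R A A'') e} : Set (A ⧸ J R A A''))) := by
    rw [hspan]
    have hIle : I0 e ≤ augI R A := fun a ha => eq_zero_of_map_e _ heε ha
    have hL : J R A A'' ⊔ I0 e ≤ augI R A := sup_le hJle hIle
    have hLne : J R A A'' ⊔ I0 e ≠ ⊤ := fun h =>
      (RingHom.ker_ne_top (Bialgebra.counitAlgHom R A)) (top_le_iff.1 (h ▸ hL))
    have : Nontrivial (A ⧸ (J R A A'' ⊔ I0 e)) := Ideal.Quotient.nontrivial_iff.2 hLne
    have h2 : IsLocalRing (A ⧸ (J R A A'' ⊔ I0 e)) :=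
      IsLocalRing.of_surjective' (Ideal.Quotient.factor (le_sup_right : I0 e ≤ J R A A'' ⊔ I0 e))
        (Ideal.Quotient.factor_surjective _)
    exact (DoubleQuot.quotQuotEquivQuotSup (J R A A'') (I0 e)).symm.isLocalRing
  exact idem_unique εJ (he.map _) he' (by simpa [εJ] using heε) (by simpa [εJ] using he'ε)

end Ker

end Groth.Agent.Helper7.HopfExt
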