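import Mathlib
import Groth.Prelude.Def_CartDual2
import Groth.Agent.Helper7.CartMu
import Groth.Agent.Helper7.HopfExt3

set_option autoImplicit false
universe u v w
open TensorProduct

namespace Groth.Agent.Helper7.CartMu

open Groth.Agent.Helper7.UnitComp Groth.Agent.Helper7.HopfExt

/-- Lift a bialgebra map to the quotient by a coideal it kills. -/
noncomputable def liftBialgHom {R : Type*} {A C : Type*} [CommRing R] [CommRing A] [Bialgebra R A]
    [CommRing C] [Bialgebra R C]
    (I : Ideal A) [(I.restrictScalars R).IsCoideal] (f : A →ₐc[R] C) (h : ∀ a ∈ I, f a = 0) :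
    A ⧸ I →ₐc[R] C :=
  BialgHom.ofAlgHom (Ideal.Quotient.liftₐ I (f : A →ₐ[R] C) h)
    (by
      apply Ideal.Quotient.algHom_ext
      ext a
      change Coalgebra.counit (R := R) (f a) = Coalgebra.counit (R := R) a
      exact CoalgHomClass.counit_comp_apply f a)
    (by
      apply Ideal.Quotient.algHom_ext
      ext a
      change (Algebra.TensorProduct.map _ _) (Coalgebra.comul (R := R) (Ideal.Quotient.mk I a)) =
        Coalgebra.comul (R := R) (f a)
      rw [Bialgebra.Quotient.comul_mk, ← CoalgHomClass.map_comp_comul_apply f a]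
      generalize Coalgebra.comul (R := R) a = t
      induction t using TensorProduct.induction_on with
      | zero => simp
      | tmul x y => simp
      | add x y hx hy => simp only [map_add, hx, hy])

@[simp] lemma liftBialgHom_mk {R : Type*} {A C : Type*} [CommRing R] [CommRing A] [Bialgebra R A]
    [CommRing C] [Bialgebra R C]
    (I : Ideal A) [(I.restrictScalars R).IsCoideal] (f : A →ₐc[R] C) (h : ∀ a ∈ I, f a = 0) (a : A) :
    liftBialgHom I f h (Ideal.Quotient.mk I a) = f a := rfl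

/-- Invariance is transported by bialgebra maps, for compatible idempotents. -/
lemma invariant_map {R : Type*} {B C : Type*} [CommRing R] [CommRing B] [Bialgebra R B]
    [CommRing C] [Bialgebra R C] (T : B →ₐc[R] C) {fB : B} {fC : C} (hf : fC * T fB = fC)
    {x : B}
    (hx : LinearMap.lTensor B (LinearMap.mulLeft R fB) (Coalgebra.comul (R := R) x) = x ⊗ₜ[R] fB) :
    LinearMap.lTensor C (LinearMap.mulLeft R fC) (Coalgebra.comul (R := R) (T x)) =
      T x ⊗ₜ[R] fC := by
  have h1 := congrArg (TensorProduct.map (T : B →ₗ[R] C) ((LinearMap.mulLeft R fC) ∘ₗ (T : B →ₗ[R] C))) hx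
  have h2 : TensorProduct.map (T : B →ₗ[R] C) ((LinearMap.mulLeft R fC) ∘ₗ (T : B →ₗ[R] C)) ∘ₗ
      LinearMap.lTensor B (LinearMap.mulLeft R fB) =
      LinearMap.lTensor C (LinearMap.mulLeft R fC) ∘ₗ
        TensorProduct.map (T : B →ₗ[R] C) (T : B →ₗ[R] C) := by
    apply TensorProduct.ext'
    intro b b'
    simp only [LinearMap.coe_comp, Function.comp_apply, LinearMap.lTensor_tmul,
      TensorProduct.map_tmul, LinearMap.mulLeft_apply]
    congr 1
    change fC * T (fB * b') = fC * T b'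
    rw [map_mul, ← mul_assoc, hf]
  rw [← LinearMap.comp_apply, h2, LinearMap.comp_apply, CoalgHomClass.map_comp_comul_apply] at h1
  rw [h1]
  simp only [TensorProduct.map_tmul, LinearMap.coe_comp, Function.comp_apply,
    LinearMap.mulLeft_apply]
  congr 1


theorem s16079 (R : Type u) [CommRing R] [Nontrivial R] (A B : Type u) [CommRing A]
    [HopfAlgebra R A] [Module.Finite R A] [CommRing B] [HopfAlgebra R B] [Module.Finite R B]
    (ψ : B →ₐc[R] A)
    (eA : A) [(I0 eA).IsHopfIdeal R] [IsLocalRing (A ⧸ I0 eA)] [Module.Projective R (A ⧸ I0 eA)]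
    [Coalgebra.IsCocomm R (A ⧸ I0 eA)]
    (fA : CartDual.D R (A ⧸ I0 eA)) (hfA : IsIdempotentElem fA)
    (hfAε : Bialgebra.counitAlgHom R (CartDual.D R (A ⧸ I0 eA)) fA = 1)
    (eB : B) (heB : IsIdempotentElem eB) (heBε : Bialgebra.counitAlgHom R B eB = 1)
    [(I0 eB).IsHopfIdeal R] [IsLocalRing (B ⧸ I0 eB)] [Module.Projective R (B ⧸ I0 eB)]
    [Coalgebra.IsCocomm R (B ⧸ I0 eB)]
    (fB : CartDual.D R (B ⧸ I0 eB)) (hfB : IsIdempotentElem fB)
    (hfBε : Bialgebra.counitAlgHom R (CartDual.D R (B ⧸ I0 eB)) fB = 1)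
    [IsLocalRing (CartDual.D R (B ⧸ I0 eB) ⧸ I0 fB)]
    (b : B)
    (hb : ∀ y : CartDual.D R (B ⧸ I0 eB),
      LinearMap.lTensor (CartDual.D R (B ⧸ I0 eB)) (LinearMap.mulLeft R fB)
        (Coalgebra.comul (R := R) y) = y ⊗ₜ[R] fB → y (Ideal.Quotient.mk (I0 eB) b) = 0)
    (x : CartDual.D R (A ⧸ I0 eA))
    (hx : LinearMap.lTensor (CartDual.D R (A ⧸ I0 eA)) (LinearMap.mulLeft R fA)
      (Coalgebra.comul (R := R) x) = x ⊗ₜ[R] fA) :
    x (Ideal.Quotient.mk (I0 eA) (ψ b)) = 0 := by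
  have hint : Algebra.IsIntegral R (A ⧸ I0 eA) := Algebra.IsIntegral.of_finite R _
  let ψ1 : B →ₐc[R] (A ⧸ I0 eA) := (Bialgebra.Quotient.mkBialgHom (I0 eA)).comp ψ
  have h1 : ψ1 eB = 1 := local_factor heB heBε (A ⧸ I0 eA) ψ1
  let ψ0 : (B ⧸ I0 eB) →ₐc[R] (A ⧸ I0 eA) :=
    liftBialgHom (I0 eB) ψ1 (fun a ha => eq_zero_of_map_e (ψ1 : B →ₐ[R] (A ⧸ I0 eA)) h1 ha)
  let T := CartDual.transpose R ψ0
  -- `fB * T fA = fB`
  have hfin : Module.Finite R (CartDual.D R (B ⧸ I0 eB) ⧸ I0 fB) :=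
    Module.Finite.of_surjective (Ideal.Quotient.mkₐ R (I0 fB)).toLinearMap
      Ideal.Quotient.mk_surjective
  have hint2 : Algebra.IsIntegral R (CartDual.D R (B ⧸ I0 eB) ⧸ I0 fB) :=
    Algebra.IsIntegral.of_finite R _
  have h2 : Ideal.Quotient.mk (I0 fB) (T fA) = 1 := by
    apply idem_eq_one_of_local (epsBar hfBε) ((hfA.map T).map _)
    rw [epsBar_mk]
    have : Coalgebra.counit (R := R) (T fA) = Coalgebra.counit (R := R) fA :=
      CoalgHomClass.counit_comp_apply T fA
    rw [this]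
    exact hfAε
  have h3 : fB * T fA = fB := by
    have h4 : 1 - T fA ∈ I0 fB := by
      rw [← Ideal.Quotient.eq_zero_iff_mem, map_sub, map_one, h2, sub_self]
    obtain ⟨c, hc⟩ := Ideal.mem_span_singleton'.1 h4
    have hff : fB * fB = fB := hfB
    have h5 : fB * (1 - T fA) = 0 := by
      rw [← hc, mul_comm c, ← mul_assoc, mul_sub, mul_one, hff, sub_self, zero_mul]
    rw [mul_sub, mul_one, sub_eq_zero] at h5
    exact h5.symm
  have h6 := invariant_map T h3 hx
  exact hb _ h6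

end Groth.Agent.Helper7.CartMu
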