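import Mathlib

namespace Groth.Agent.Helper7.Cartan

open Matrix

variable {p : ℕ} [Fact p.Prime]

/-- `H` contains all elementary transvections. -/
def HasTransv (H : Subgroup (GL (Fin 2) (ZMod p))) : Prop :=
  ∀ (i j : Fin 2), i ≠ j → ∀ a : ZMod p,
    ∃ u ∈ H, (u : Matrix (Fin 2) (Fin 2) (ZMod p)) = transvection i j a

theorem list_mem {H : Subgroup (GL (Fin 2) (ZMod p))} (hH : HasTransv H)
    (L : List (TransvectionStruct (Fin 2) (ZMod p))) :
    ∃ u ∈ H, (u : Matrix (Fin 2) (Fin 2) (ZMod p)) =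
      (L.map TransvectionStruct.toMatrix).prod := by
  induction L with
  | nil => exact ⟨1, H.one_mem, by simp⟩
  | cons t L ih =>
    obtain ⟨u, hu, hu'⟩ := ih
    obtain ⟨w, hw, hw'⟩ := hH t.i t.j t.hij t.c
    refine ⟨w * u, H.mul_mem hw hu, ?_⟩
    simp [hu', hw', TransvectionStruct.toMatrix]

theorem diag_formula (d : ZMod p) (hd : d ≠ 0) :
    (diagonal ![d, d⁻¹] : Matrix (Fin 2) (Fin 2) (ZMod p)) =
      transvection 0 1 d * transvection 1 0 (-d⁻¹) * transvection 0 1 d *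
        (transvection 0 1 (-1) * transvection 1 0 1 * transvection 0 1 (-1)) := by
  ext i j
  fin_cases i <;> fin_cases j <;>
    simp [Matrix.mul_apply, Fin.sum_univ_two, transvection, Matrix.single_apply, hd]

theorem diag_mem {H : Subgroup (GL (Fin 2) (ZMod p))} (hH : HasTransv H)
    (d : ZMod p) (hd : d ≠ 0) :
    ∃ u ∈ H, (u : Matrix (Fin 2) (Fin 2) (ZMod p)) = diagonal ![d, d⁻¹] := by
  obtain ⟨a, ha, ha'⟩ := hH 0 1 (by decide) d
  obtain ⟨b, hb, hb'⟩ := hH 1 0 (by decide) (-d⁻¹)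
  obtain ⟨a1, ha1, ha1'⟩ := hH 0 1 (by decide) (-1)
  obtain ⟨b1, hb1, hb1'⟩ := hH 1 0 (by decide) 1
  refine ⟨a * b * a * (a1 * b1 * a1), ?_, ?_⟩
  · exact H.mul_mem (H.mul_mem (H.mul_mem ha hb) ha) (H.mul_mem (H.mul_mem ha1 hb1) ha1)
  · rw [diag_formula d hd]
    simp [ha', hb', ha1', hb1']

theorem decomp {H : Subgroup (GL (Fin 2) (ZMod p))} (hH : HasTransv H)
    (g : GL (Fin 2) (ZMod p)) :
    ∃ u ∈ H, ∃ u' ∈ H, (g : Matrix (Fin 2) (Fin 2) (ZMod p)) =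
      u * diagonal ![1, det (g : Matrix (Fin 2) (Fin 2) (ZMod p))] * u' := by
  obtain ⟨L, L', D, hM⟩ :=
    Matrix.Pivot.exists_list_transvec_mul_diagonal_mul_list_transvec
      (g : Matrix (Fin 2) (Fin 2) (ZMod p))
  have hdet : det (g : Matrix (Fin 2) (Fin 2) (ZMod p)) = D 0 * D 1 := by
    rw [hM]
    simp [Matrix.det_diagonal, Fin.prod_univ_two]
  have hne : det (g : Matrix (Fin 2) (Fin 2) (ZMod p)) ≠ 0 := by
    have : IsUnit (det (g : Matrix (Fin 2) (Fin 2) (ZMod p))) :=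
      (Matrix.isUnit_iff_isUnit_det _).1 g.isUnit
    exact this.ne_zero
  have hD0 : D 0 ≠ 0 := by
    intro h
    rw [hdet, h, zero_mul] at hne
    exact hne rfl
  obtain ⟨u, hu, hu'⟩ := list_mem hH L
  obtain ⟨u', hu1, hu1'⟩ := list_mem hH L'
  obtain ⟨w, hw, hw'⟩ := diag_mem hH (D 0) hD0
  refine ⟨u * w, H.mul_mem hu hw, u', hu1, ?_⟩
  rw [hdet, hM, ← hu', ← hu1']
  have : (diagonal D : Matrix (Fin 2) (Fin 2) (ZMod p)) =
      diagonal ![D 0, (D 0)⁻¹] * diagonal ![1, D 0 * D 1] := by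
    rw [Matrix.diagonal_mul_diagonal]
    congr 1
    ext i
    fin_cases i
    · simp
    · simp [hD0]
  rw [this, ← hw']
  simp [Matrix.mul_assoc]

theorem eq_top_of {H : Subgroup (GL (Fin 2) (ZMod p))} (hH : HasTransv H)
    (hdet : ∀ a : ZMod p, a ≠ 0 →
      ∃ c ∈ H, det (c : Matrix (Fin 2) (Fin 2) (ZMod p)) = a) : H = ⊤ := by
  rw [eq_top_iff]
  intro g _
  have hne : det (g : Matrix (Fin 2) (Fin 2) (ZMod p)) ≠ 0 := by
    have : IsUnit (det (g : Matrix (Fin 2) (Fin 2) (ZMod p))) :=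
      (Matrix.isUnit_iff_isUnit_det _).1 g.isUnit
    exact this.ne_zero
  obtain ⟨c, hc, hcdet⟩ := hdet _ hne
  obtain ⟨u, hu, u', hu', hg⟩ := decomp hH g
  obtain ⟨w, hw, w', hw', hc'⟩ := decomp hH c
  rw [hcdet] at hc'
  have : g = u * (w⁻¹ * c * w'⁻¹) * u' := by
    apply Units.ext
    rw [hg]
    simp only [Units.val_mul]
    rw [hc']
    simp [Matrix.mul_assoc]
  rw [this]
  exact H.mul_mem (H.mul_mem hu (H.mul_mem (H.mul_mem (H.inv_mem hw) hc) (H.inv_mem hw'))) hu'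

end Groth.Agent.Helper7.Cartan
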