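import Mathlib
import Groth.Agent.Helper7.Cartan1

namespace Groth.Agent.Helper7.Cartan

open Matrix

set_option linter.style.haveILetI false

variable {p : ℕ} [Fact p.Prime]

section E

variable (E : Subring (Matrix (Fin 2) (Fin 2) (ZMod p))) (hE : IsField E)

include hE in
theorem inj_aux {v : Fin 2 → ZMod p} (hv : v ≠ 0) {e : Matrix (Fin 2) (Fin 2) (ZMod p)}
    (he : e ∈ E) (h0 : e *ᵥ v = 0) : e = 0 := by
  by_contra hne
  have hne' : (⟨e, he⟩ : E) ≠ 0 := fun h => hne (congrArg Subtype.val h)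
  obtain ⟨e', he'⟩ := hE.mul_inv_cancel hne'
  have h1 : e * e'.1 = 1 := congrArg Subtype.val he'
  have h2 : e'.1 * e = 1 := mul_eq_one_comm.1 h1
  apply hv
  calc v = (e'.1 * e) *ᵥ v := by rw [h2, Matrix.one_mulVec]
    _ = 0 := by rw [← Matrix.mulVec_mulVec, h0, Matrix.mulVec_zero]

include hE in
theorem trans_aux (hcard : Nat.card E = p ^ 2) {v : Fin 2 → ZMod p} (hv : v ≠ 0)
    (w : Fin 2 → ZMod p) : ∃ e ∈ E, e *ᵥ v = w := by
  have hinj : Function.Injective (fun e : E => e.1 *ᵥ v) := by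
    intro a b hab
    have h0 : (a - b).1 *ᵥ v = 0 := by
      simp only at hab
      simp [Matrix.sub_mulVec, hab]
    have := inj_aux E hE hv (a - b).2 h0
    have h1 : a - b = 0 := Subtype.ext this
    exact sub_eq_zero.1 h1
  have hc : Nat.card (Fin 2 → ZMod p) = p ^ 2 := by
    rw [Nat.card_fun, Nat.card_zmod, Nat.card_eq_fintype_card, Fintype.card_fin]
  have hbij := hinj.bijective_of_nat_card_le (by rw [hc, hcard])
  obtain ⟨e, he⟩ := hbij.2 w
  exact ⟨e.1, e.2, he⟩

end E

theorem det_surj_abstract (K : Type*) [Field K] [Finite K] [Algebra (ZMod p) K]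
    (hcard : Nat.card K = p ^ 2) (g : K →+* Matrix (Fin 2) (Fin 2) (ZMod p)) (a : ZMod p) :
    ∃ x : K, det (g x) = a := by
  obtain ⟨x, hx⟩ := FiniteField.norm_surjective (ZMod p) K a
  refine ⟨x, ?_⟩
  rw [← hx, Algebra.norm_apply]
  let v : Fin 2 → ZMod p := Pi.single 0 1
  have hv : v ≠ 0 := by
    intro h
    have := congrFun h 0
    simp [v] at this
  let f0 : K →+ (Fin 2 → ZMod p) :=
    { toFun := fun e => g e *ᵥ v
      map_zero' := by simp
      map_add' := fun a b => by simp [Matrix.add_mulVec] }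
  let f : K →ₗ[ZMod p] (Fin 2 → ZMod p) := AddMonoidHom.toZModLinearMap p f0
  have hinj : Function.Injective f := by
    rw [injective_iff_map_eq_zero]
    intro e he
    by_contra hne
    have h0 : g e *ᵥ v = 0 := he
    have h2 : g e⁻¹ * g e = 1 := by rw [← map_mul, inv_mul_cancel₀ hne, map_one]
    apply hv
    calc v = (g e⁻¹ * g e) *ᵥ v := by rw [h2, Matrix.one_mulVec]
      _ = 0 := by rw [← Matrix.mulVec_mulVec, h0, Matrix.mulVec_zero]
  have hc : Nat.card (Fin 2 → ZMod p) = p ^ 2 := by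
    rw [Nat.card_fun, Nat.card_zmod, Nat.card_eq_fintype_card, Fintype.card_fin]
  have hbij : Function.Bijective f := hinj.bijective_of_nat_card_le (by rw [hc, hcard])
  let φ : K ≃ₗ[ZMod p] (Fin 2 → ZMod p) := LinearEquiv.ofBijective f hbij
  have key : Matrix.toLin' (g x) =
      (φ : K →ₗ[ZMod p] (Fin 2 → ZMod p)) ∘ₗ (Algebra.lmul (ZMod p) K x) ∘ₗ
        (φ.symm : (Fin 2 → ZMod p) →ₗ[ZMod p] K) := by
    apply LinearMap.ext
    intro w
    obtain ⟨e, rfl⟩ := φ.surjective w
    simp only [LinearMap.comp_apply, LinearEquiv.coe_coe, LinearEquiv.symm_apply_apply]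
    change g x *ᵥ (g e *ᵥ v) = g (x * e) *ᵥ v
    rw [Matrix.mulVec_mulVec, map_mul]
  rw [← LinearMap.det_toLin' (g x), key, LinearMap.det_conj]

section E

variable (E : Subring (Matrix (Fin 2) (Fin 2) (ZMod p))) (hE : IsField E)

include hE in
theorem det_surj (hcard : Nat.card E = p ^ 2) (a : ZMod p) : ∃ e ∈ E, det e = a := by
  letI : Field E := hE.toField
  have hfin : Finite E := Finite.of_injective (fun e : E => e.1) Subtype.val_injective
  have hchar : CharP E p := RingHom.charP E.subtype Subtype.val_injective p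
  letI : Algebra (ZMod p) E := ZMod.algebra E p
  obtain ⟨x, hx⟩ := det_surj_abstract E hcard E.subtype a
  exact ⟨x.1, x.2, hx⟩

theorem transv_pow {i j : Fin 2} (hij : i ≠ j) (s : ZMod p) (k : ℕ) :
    (transvection i j s) ^ k = transvection i j (k * s) := by
  induction k with
  | zero => simp
  | succ k ih =>
    rw [pow_succ, ih, transvection_mul_transvection_same _ _ hij]
    congr 1
    push_cast
    ring

include hE in
theorem hasTransv_of (hcard : Nat.card E = p ^ 2) {H : Subgroup (GL (Fin 2) (ZMod p))}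
    (hC : ∀ e ∈ E, e ≠ 0 → ∃ c ∈ H, (c : Matrix (Fin 2) (Fin 2) (ZMod p)) = e)
    (h : GL (Fin 2) (ZMod p)) (hh : h ∈ H) (hord : orderOf h = p) : HasTransv H := by
  have hp : p.Prime := Fact.out
  have hh1 : h ≠ 1 := by
    intro h1
    rw [h1, orderOf_one] at hord
    exact hp.one_lt.ne hord
  have hhp : h ^ p = 1 := by
    have := pow_orderOf_eq_one h
    rwa [hord] at this
  set A : Matrix (Fin 2) (Fin 2) (ZMod p) := (h : Matrix (Fin 2) (Fin 2) (ZMod p)) with hA
  have hAp : A ^ p = 1 := by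
    have := congrArg (fun u : GL (Fin 2) (ZMod p) => (u : Matrix (Fin 2) (Fin 2) (ZMod p))) hhp
    simpa using this
  have hNp : (A - 1) ^ p = 0 := by
    rw [sub_pow_char_of_commute _ (Commute.one_right A), hAp, one_pow, sub_self]
  have hdet : det (A - 1) = 0 := by
    have : det ((A - 1) ^ p) = 0 := by rw [hNp, det_zero]
    rw [det_pow] at this
    exact pow_eq_zero_iff hp.ne_zero |>.1 this
  obtain ⟨v, hv, hNv⟩ := Matrix.exists_mulVec_eq_zero_iff.2 hdet
  have hAv : A *ᵥ v = v := by
    rw [Matrix.sub_mulVec, Matrix.one_mulVec, sub_eq_zero] at hNv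
    exact hNv
  intro i j hij a
  have hei : (Pi.single i 1 : Fin 2 → ZMod p) ≠ 0 := by
    intro h0
    have := congrFun h0 i
    simp at this
  obtain ⟨e, heE, hev⟩ := trans_aux E hE hcard hv (Pi.single i 1)
  have hene : e ≠ 0 := by
    rintro rfl
    rw [Matrix.zero_mulVec] at hev
    exact hei hev.symm
  obtain ⟨c, hcH, hce⟩ := hC e heE hene
  set h' : GL (Fin 2) (ZMod p) := c * h * c⁻¹ with hh'
  have hh'H : h' ∈ H := H.mul_mem (H.mul_mem hcH hh) (H.inv_mem hcH)
  set A' : Matrix (Fin 2) (Fin 2) (ZMod p) := (h' : Matrix (Fin 2) (Fin 2) (ZMod p)) with hA'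
  have hA'e : A' = e * A * (c⁻¹ : GL (Fin 2) (ZMod p)) := by
    rw [hA', hh', Units.val_mul, Units.val_mul, hce]
  have hcinv : ((c⁻¹ : GL (Fin 2) (ZMod p)) : Matrix (Fin 2) (Fin 2) (ZMod p)) * e = 1 := by
    rw [← hce, ← Units.val_mul, inv_mul_cancel, Units.val_one]
  have hA'ei : A' *ᵥ (Pi.single i 1) = Pi.single i 1 := by
    rw [hA'e, ← hev, Matrix.mulVec_mulVec, Matrix.mul_assoc, Matrix.mul_assoc, hcinv,
      Matrix.mul_one, ← Matrix.mulVec_mulVec, hAv]
  have hcol : ∀ k, A' k i = (Pi.single i 1 : Fin 2 → ZMod p) k := by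
    intro k
    have := congrFun hA'ei k
    rwa [Matrix.mulVec_single_one] at this
  have hh'p : h' ^ p = 1 := by
    rw [hh', conj_pow, hhp, mul_one, mul_inv_cancel]
  have hA'p : A' ^ p = 1 := by
    have := congrArg (fun u : GL (Fin 2) (ZMod p) => (u : Matrix (Fin 2) (Fin 2) (ZMod p))) hh'p
    simpa using this
  have hdet' : det A' = 1 := by
    have : det (A' ^ p) = 1 := by rw [hA'p, det_one]
    rw [det_pow, ZMod.pow_card] at this
    exact this
  have hh'1 : h' ≠ 1 := by
    intro h1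
    apply hh1
    have : h = c⁻¹ * h' * c := by rw [hh']; group
    rw [this, h1]; group
  have hA'1 : A' ≠ 1 := by
    intro h1
    apply hh'1
    apply Units.ext
    rw [← hA', h1, Units.val_one]
  have hii : A' i i = 1 := by rw [hcol]; simp
  have hji : A' j i = 0 := by rw [hcol]; simp [hij.symm]
  have hjj : A' j j = 1 := by
    rw [Matrix.det_fin_two] at hdet'
    fin_cases i <;> fin_cases j
    · exact absurd rfl hij
    · simp only [Fin.zero_eta, Fin.mk_one] at hii hji ⊢
      rw [hii, hji, one_mul, mul_zero, sub_zero] at hdet'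
      exact hdet'
    · simp only [Fin.zero_eta, Fin.mk_one] at hii hji ⊢
      rw [hii, hji, mul_one, zero_mul, sub_zero] at hdet'
      exact hdet'
    · exact absurd rfl hij
  obtain ⟨s, hform⟩ : ∃ s, A' = transvection i j s := by
    refine ⟨A' i j, ?_⟩
    ext k l
    fin_cases i <;> fin_cases j
    · exact absurd rfl hij
    · fin_cases k <;> fin_cases l <;>
        simp_all [transvection]
    · fin_cases k <;> fin_cases l <;>
        simp_all [transvection]
    · exact absurd rfl hij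
  have hs : s ≠ 0 := by
    intro h0
    apply hA'1
    rw [hform, h0, transvection_zero]
  refine ⟨h' ^ (a / s).val, H.pow_mem hh'H _, ?_⟩
  rw [Units.val_pow_eq_pow_val, ← hA', hform, transv_pow hij]
  congr 1
  rw [ZMod.natCast_val, ZMod.cast_id', id_eq, div_mul_cancel₀ _ hs]

end E

end Groth.Agent.Helper7.Cartan
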