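import Mathlib
import Groth.Agent.Helper7.Cartan2

namespace Groth.Agent.Helper7.Cartan

open Matrix

variable (p : ℕ) [Fact p.Prime]

theorem p_dvd_card_GL : p ∣ Nat.card (GL (Fin 2) (ZMod p)) := by
  have hp : p.Prime := Fact.out
  rw [Matrix.card_GL_field, Fin.prod_univ_two, ZMod.card]
  apply Dvd.dvd.mul_left
  refine ⟨p - 1, ?_⟩
  simp only [Fin.val_one, pow_one]
  rw [Nat.mul_sub, mul_one, sq]

theorem exists_cartan :
    ∃ (C : Subgroup (GL (Fin 2) (ZMod p))) (E : Subring (Matrix (Fin 2) (Fin 2) (ZMod p))),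
      IsField E ∧ Nat.card E = p ^ 2 ∧
        (E : Set (Matrix (Fin 2) (Fin 2) (ZMod p))) =
          insert 0 ((fun g : GL (Fin 2) (ZMod p) => (g : Matrix (Fin 2) (Fin 2) (ZMod p))) ''
            (C : Set (GL (Fin 2) (ZMod p)))) := by
  let K := GaloisField p 2
  have hfr : Module.finrank (ZMod p) K = 2 := GaloisField.finrank p (by norm_num)
  let b : Module.Basis (Fin 2) (ZMod p) K := Module.finBasisOfFinrankEq (ZMod p) K hfr
  let f : K →ₐ[ZMod p] Matrix (Fin 2) (Fin 2) (ZMod p) := Algebra.leftMulMatrix b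
  have hf : Function.Injective f := Algebra.leftMulMatrix_injective b
  let E : Subring (Matrix (Fin 2) (Fin 2) (ZMod p)) := f.toRingHom.range
  let C : Subgroup (GL (Fin 2) (ZMod p)) :=
    (Units.map (f : K →* Matrix (Fin 2) (Fin 2) (ZMod p))).range
  let eq : K ≃+* E := RingEquiv.ofBijective f.toRingHom.rangeRestrict
    ⟨fun x y hxy => hf (congrArg Subtype.val hxy), f.toRingHom.rangeRestrict_surjective⟩
  refine ⟨C, E, ?_, ?_, ?_⟩
  · exact MulEquiv.isField (Field.toIsField K) eq.symm.toMulEquiv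
  · rw [← Nat.card_congr eq.toEquiv, GaloisField.card p 2 (by norm_num)]
  · ext x
    constructor
    · rintro ⟨k, rfl⟩
      by_cases hk : k = 0
      · left
        rw [hk]; exact map_zero _
      · right
        refine ⟨Units.map (f : K →* Matrix (Fin 2) (Fin 2) (ZMod p)) (Units.mk0 k hk),
          ⟨_, rfl⟩, rfl⟩
    · rintro (rfl | ⟨g, ⟨u, rfl⟩, rfl⟩)
      · exact E.zero_mem
      · exact ⟨(u : K), rfl⟩

theorem main (H : Subgroup (GL (Fin 2) (ZMod p))) :
    H = ⊤ ↔
      (∃ (C : Subgroup (GL (Fin 2) (ZMod p))) (E : Subring (Matrix (Fin 2) (Fin 2) (ZMod p))),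
          C ≤ H ∧ IsField E ∧ Nat.card E = p ^ 2 ∧
            (E : Set (Matrix (Fin 2) (Fin 2) (ZMod p))) =
              insert 0 ((fun g : GL (Fin 2) (ZMod p) => (g : Matrix (Fin 2) (Fin 2) (ZMod p))) ''
                (C : Set (GL (Fin 2) (ZMod p))))) ∧
        p ∣ Nat.card H := by
  constructor
  · rintro rfl
    obtain ⟨C, E, h1, h2, h3⟩ := exists_cartan p
    refine ⟨⟨C, E, le_top, h1, h2, h3⟩, ?_⟩
    rw [Subgroup.card_top]
    exact p_dvd_card_GL p
  · rintro ⟨⟨C, E, hCH, hE, hcard, hset⟩, hdvd⟩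
    have hC : ∀ e ∈ E, e ≠ 0 → ∃ c ∈ H, (c : Matrix (Fin 2) (Fin 2) (ZMod p)) = e := by
      intro e he hne
      have : e ∈ (E : Set (Matrix (Fin 2) (Fin 2) (ZMod p))) := he
      rw [hset] at this
      rcases this with rfl | ⟨g, hg, rfl⟩
      · exact absurd rfl hne
      · exact ⟨g, hCH hg, rfl⟩
    obtain ⟨h, hh⟩ := exists_prime_orderOf_dvd_card' p hdvd
    have hT : HasTransv H :=
      hasTransv_of E hE hcard hC h.1 h.2 (by rw [Subgroup.orderOf_coe]; exact hh)
    refine eq_top_of hT (fun a ha => ?_)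
    obtain ⟨e, he, hdet⟩ := det_surj E hE hcard a
    have hene : e ≠ 0 := by
      rintro rfl
      rw [det_zero] at hdet
      exact ha hdet.symm
    obtain ⟨c, hc, hce⟩ := hC e he hene
    exact ⟨c, hc, by rw [hce, hdet]⟩

end Groth.Agent.Helper7.Cartan
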