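import Mathlib
import Groth.Prelude.Def_W4sga3xiixivxvCartan

set_option autoImplicit false
set_option linter.unusedSectionVars false
set_option linter.unusedVariables false

/-! Regular elements in families of Lie algebras: the regular locus of a section is open. -/

namespace Groth.Agent.Helper7.CartanRel

open Polynomial TensorProduct

universe u

section Sandwich

variable {K : Type*} [Field K] {V W : Type*} [AddCommGroup V] [Module K V] [FiniteDimensional K V]
  [AddCommGroup W] [Module K W] [FiniteDimensional K W]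

/-- The splitting `V ≃ W × ker f` attached to a section `g` of `f`. -/
noncomputable def splitEquiv (f : V →ₗ[K] W) (g : W →ₗ[K] V) (h : ∀ w, f (g w) = w) :
    V ≃ₗ[K] W × LinearMap.ker f where
  toFun v := (f v, ⟨v - g (f v), by rw [LinearMap.mem_ker, map_sub, h, sub_self]⟩)
  invFun x := g x.1 + x.2
  map_add' v w := by
    ext
    · simp
    · simp only [map_add, Prod.mk_add_mk, Submodule.coe_add, AddMemClass.mk_add_mk]; abel
  map_smul' c v := by
    ext
    · simp
    · simp [smul_sub]
  left_inv v := by simp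
  right_inv x := by
    obtain ⟨w, k, hk⟩ := x
    rw [LinearMap.mem_ker] at hk
    ext
    · simp [h, hk]
    · simp [h, hk]

theorem charpoly_sandwich (f : V →ₗ[K] W) (g : W →ₗ[K] V) (h : ∀ w, f (g w) = w)
    (φ : Module.End K W) :
    (g ∘ₗ φ ∘ₗ f).charpoly = φ.charpoly * X ^ Module.finrank K (LinearMap.ker f) := by
  have hc : (splitEquiv f g h).conj (g ∘ₗ φ ∘ₗ f) =
      φ.prodMap (0 : Module.End K (LinearMap.ker f)) := by
    apply LinearMap.ext
    rintro ⟨w, k, hk⟩
    rw [LinearMap.mem_ker] at hk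
    rw [LinearEquiv.conj_apply]
    ext
    · simp [splitEquiv, h, hk]
    · simp [splitEquiv, h, hk]
  rw [← LinearEquiv.charpoly_conj (splitEquiv f g h), hc, LinearMap.charpoly_prodMap,
    LinearMap.charpoly_zero]

end Sandwich

section Fibre

variable {A : Type u} [CommRing A] {L : Type u} [LieRing L] [LieAlgebra A L]

theorem ad_baseChange (K : Type u) [Field K] [Algebra A K] (a : L) :
    (LieAlgebra.ad K (K ⊗[A] L) ((1 : K) ⊗ₜ[A] a) : Module.End K (K ⊗[A] L)) =
      (LieAlgebra.ad A L a : L →ₗ[A] L).baseChange K := by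
  apply TensorProduct.AlgebraTensorModule.curry_injective
  ext y
  simp [LieAlgebra.ExtendScalars.bracket_tmul]

variable [Module.Finite A L] [Module.Projective A L]

/-- The coefficient of the characteristic polynomial of `ad(1 ⊗ a)` in a fibre, through a
global polynomial. -/
theorem coeff_charpoly_fibre {n : ℕ} (f : (Fin n → A) →ₗ[A] L) (g : L →ₗ[A] (Fin n → A))
    (hfg : ∀ x, f (g x) = x) (a : L) (K : Type u) [Field K] [Algebra A K] (r : ℕ) :
    (LieAlgebra.ad K (K ⊗[A] L) ((1 : K) ⊗ₜ[A] a) : Module.End K (K ⊗[A] L)).charpoly.coeff r =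
      algebraMap A K ((g ∘ₗ (LieAlgebra.ad A L a : L →ₗ[A] L) ∘ₗ f).charpoly.coeff
        (r + Module.finrank K (LinearMap.ker (f.baseChange K)))) := by
  have h1 : ∀ w, (f.baseChange K) ((g.baseChange K) w) = w := by
    intro w
    rw [← LinearMap.comp_apply, ← LinearMap.baseChange_comp]
    have : f ∘ₗ g = LinearMap.id := LinearMap.ext hfg
    rw [this, LinearMap.baseChange_id, LinearMap.id_apply]
  have h2 := charpoly_sandwich (f.baseChange K) (g.baseChange K) h1
    ((LieAlgebra.ad A L a : L →ₗ[A] L).baseChange K)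
  rw [← LinearMap.baseChange_comp, ← LinearMap.baseChange_comp, LinearMap.charpoly_baseChange]
    at h2
  rw [ad_baseChange, ← Polynomial.coeff_map, h2, Polynomial.coeff_mul_X_pow]

/-- The dimension of the kernel of `f ⊗ κ(q)` is `n - rank`. -/
theorem finrank_ker_add {n : ℕ} (f : (Fin n → A) →ₗ[A] L) (g : L →ₗ[A] (Fin n → A))
    (hfg : ∀ x, f (g x) = x) (q : PrimeSpectrum A) :
    Module.finrank q.asIdeal.ResidueField (LinearMap.ker (f.baseChange q.asIdeal.ResidueField)) +
      Module.rankAtStalk L q = n := by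
  have h1 : Function.Surjective (f.baseChange q.asIdeal.ResidueField) := by
    intro w
    refine ⟨(g.baseChange q.asIdeal.ResidueField) w, ?_⟩
    rw [← LinearMap.comp_apply, ← LinearMap.baseChange_comp]
    have : f ∘ₗ g = LinearMap.id := LinearMap.ext hfg
    rw [this, LinearMap.baseChange_id, LinearMap.id_apply]
  have h2 := LinearMap.finrank_range_add_finrank_ker (f.baseChange q.asIdeal.ResidueField)
  rw [LinearMap.range_eq_top.2 h1, finrank_top] at h2
  rw [Module.rankAtStalk_eq, add_comm]
  have h3 : Module.finrank q.asIdeal.ResidueField (q.asIdeal.ResidueField ⊗[A] (Fin n → A)) = n := by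
    rw [Module.finrank_eq_card_basis
      (Algebra.TensorProduct.basis q.asIdeal.ResidueField (Pi.basisFun A (Fin n))),
      Fintype.card_fin]
  exact h2.trans h3

theorem isOpen_regular
    (hC0 : ∀ p : PrimeSpectrum A, ∃ f : A, f ∉ p.asIdeal ∧ ∀ q : PrimeSpectrum A, f ∉ q.asIdeal →
        LieAlgebra.rank q.asIdeal.ResidueField (q.asIdeal.ResidueField ⊗[A] L) =
          LieAlgebra.rank p.asIdeal.ResidueField (p.asIdeal.ResidueField ⊗[A] L)) (a : L) :
    IsOpen {p : PrimeSpectrum A |
      LieAlgebra.IsRegular p.asIdeal.ResidueField ((1 : p.asIdeal.ResidueField) ⊗ₜ[A] a)} := by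
  obtain ⟨n, f, g, -, -, hfg'⟩ := Module.Finite.exists_comp_eq_id_of_projective A L
  have hfg : ∀ x, f (g x) = x := fun x => LinearMap.congr_fun hfg' x
  have hmem : ∀ q : PrimeSpectrum A,
      LieAlgebra.IsRegular q.asIdeal.ResidueField ((1 : q.asIdeal.ResidueField) ⊗ₜ[A] a) ↔
      (g ∘ₗ (LieAlgebra.ad A L a : L →ₗ[A] L) ∘ₗ f).charpoly.coeff
        (LieAlgebra.rank q.asIdeal.ResidueField (q.asIdeal.ResidueField ⊗[A] L) +
          Module.finrank q.asIdeal.ResidueField
            (LinearMap.ker (f.baseChange q.asIdeal.ResidueField))) ∉ q.asIdeal := by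
    intro q
    rw [LieAlgebra.isRegular_def, coeff_charpoly_fibre f g hfg a q.asIdeal.ResidueField, Ne,
      Ideal.algebraMap_residueField_eq_zero]
  rw [isOpen_iff_forall_mem_open]
  intro p₀ hp₀
  obtain ⟨f₀, hf₀, hrank⟩ := hC0 p₀
  haveI : Module.FinitePresentation A L := Module.finitePresentation_of_projective A L
  have hlc := Module.isLocallyConstant_rankAtStalk (R := A) (M := L)
  have hopen : IsOpen {q : PrimeSpectrum A | Module.rankAtStalk L q = Module.rankAtStalk L p₀} :=
    hlc.isOpen_fiber _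
  set N := LieAlgebra.rank p₀.asIdeal.ResidueField (p₀.asIdeal.ResidueField ⊗[A] L) +
          Module.finrank p₀.asIdeal.ResidueField
            (LinearMap.ker (f.baseChange p₀.asIdeal.ResidueField)) with hN
  set c := (g ∘ₗ (LieAlgebra.ad A L a : L →ₗ[A] L) ∘ₗ f).charpoly with hc
  refine ⟨(PrimeSpectrum.basicOpen f₀ : Set (PrimeSpectrum A)) ∩
    {q : PrimeSpectrum A | Module.rankAtStalk L q = Module.rankAtStalk L p₀} ∩
    (PrimeSpectrum.basicOpen (c.coeff N) : Set (PrimeSpectrum A)), ?_, ?_, ?_⟩
  · rintro q ⟨⟨hq1, hq2⟩, hq3⟩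
    rw [Set.mem_ofPred_eq, hmem q, hrank q hq1]
    have hk1 := finrank_ker_add f g hfg q
    have hk2 := finrank_ker_add f g hfg p₀
    have hq2' : Module.rankAtStalk L q = Module.rankAtStalk L p₀ := hq2
    have : Module.finrank q.asIdeal.ResidueField
        (LinearMap.ker (f.baseChange q.asIdeal.ResidueField)) =
        Module.finrank p₀.asIdeal.ResidueField
        (LinearMap.ker (f.baseChange p₀.asIdeal.ResidueField)) := by omega
    rw [this]
    exact hq3
  · exact ((PrimeSpectrum.basicOpen f₀).isOpen.inter hopen).inter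
      (PrimeSpectrum.basicOpen (c.coeff N)).isOpen
  · refine ⟨⟨hf₀, rfl⟩, ?_⟩
    exact (hmem p₀).1 hp₀

end Fibre

end Groth.Agent.Helper7.CartanRel
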