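import Mathlib
import Groth.Prelude.Def_W4sga3xiixivxvCartan
import Groth.Agent.Helper7.CartanRelA

set_option autoImplicit false
set_option linter.unusedSectionVars false
set_option linter.unusedVariables false

/-! Rank and regularity of Lie algebras under base field extension and isomorphism. -/

namespace Groth.Agent.Helper7.CartanRel

open Polynomial TensorProduct

universe u

attribute [local instance 100] LieRing.ofAssociativeRing

section Trailing

theorem natTrailingDegree_map_of_injective {R S : Type*} [Semiring R] [Semiring S]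
    (f : R →+* S) (hf : Function.Injective f) (p : R[X]) :
    (p.map f).natTrailingDegree = p.natTrailingDegree := by
  by_cases hp : p = 0
  · simp [hp]
  have hp' : p.map f ≠ 0 := (Polynomial.map_ne_zero_iff hf).2 hp
  apply le_antisymm
  · apply Polynomial.natTrailingDegree_le_of_ne_zero
    rw [Polynomial.coeff_map]
    intro h
    have h0 : p.coeff p.natTrailingDegree = 0 := hf (by rw [h, map_zero])
    exact (Polynomial.trailingCoeff_nonzero_iff_nonzero.2 hp) h0
  · apply Polynomial.natTrailingDegree_le_of_ne_zero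
    intro h
    have : (p.map f).coeff (p.map f).natTrailingDegree = 0 := by
      rw [Polynomial.coeff_map, h, map_zero]
    exact (Polynomial.trailingCoeff_nonzero_iff_nonzero.2 hp') this

end Trailing

section FieldExt

variable {K : Type*} [Field K] {L₀ : Type*} [LieRing L₀] [LieAlgebra K L₀] [Module.Finite K L₀]
  (K' : Type*) [Field K'] [Algebra K K']

theorem ad_extendScalars :
    ((LieAlgebra.ad K' (K' ⊗[K] L₀)).toLinearMap :
        K' ⊗[K] L₀ →ₗ[K'] Module.End K' (K' ⊗[K] L₀)) =
      LinearMap.tensorProduct K K' L₀ L₀ ∘ₗ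
        ((LieAlgebra.ad K L₀).toLinearMap : L₀ →ₗ[K] Module.End K L₀).baseChange K' := by
  apply TensorProduct.AlgebraTensorModule.curry_injective
  ext x y
  simp [LieAlgebra.ExtendScalars.bracket_tmul, TensorProduct.liftAux_tmul]

theorem rank_extendScalars :
    LieAlgebra.rank K' (K' ⊗[K] L₀) = LieAlgebra.rank K L₀ := by
  classical
  let b := Module.Free.chooseBasis K L₀
  rw [LieAlgebra.rank_eq_natTrailingDegree K' (K' ⊗[K] L₀) (Algebra.TensorProduct.basis K' b),
    LieAlgebra.rank_eq_natTrailingDegree K L₀ b, ad_extendScalars,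
    LinearMap.polyCharpoly_baseChange]
  exact natTrailingDegree_map_of_injective _
    (MvPolynomial.map_injective _ (algebraMap K K').injective) _

theorem isRegular_extendScalars (x : L₀) :
    LieAlgebra.IsRegular K' ((1 : K') ⊗ₜ[K] x) ↔ LieAlgebra.IsRegular K x := by
  rw [LieAlgebra.isRegular_def, LieAlgebra.isRegular_def, rank_extendScalars]
  have h : (LieAlgebra.ad K' (K' ⊗[K] L₀) ((1 : K') ⊗ₜ[K] x) : Module.End K' (K' ⊗[K] L₀)) =
      (LieAlgebra.ad K L₀ x : L₀ →ₗ[K] L₀).baseChange K' := by
    apply TensorProduct.AlgebraTensorModule.curry_injective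
    ext y
    simp [LieAlgebra.ExtendScalars.bracket_tmul]
  rw [h, LinearMap.charpoly_baseChange, Polynomial.coeff_map]
  exact (map_ne_zero_iff _ (algebraMap K K').injective)

end FieldExt

section EquivInv

variable {R : Type*} [CommRing R] {L L' M M' : Type*} [AddCommGroup L] [Module R L]
  [AddCommGroup L'] [Module R L'] [AddCommGroup M] [Module R M] [AddCommGroup M'] [Module R M']
  [Module.Finite R M] [Module.Free R M] [Module.Finite R M'] [Module.Free R M']
  {ι : Type*} [Fintype ι] [DecidableEq ι]

theorem polyCharpoly_equiv (eL : L ≃ₗ[R] L') (eM : M ≃ₗ[R] M') (φ : L →ₗ[R] Module.End R M)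
    (φ' : L' →ₗ[R] Module.End R M') (h : ∀ x m, φ' (eL x) (eM m) = eM (φ x m))
    (b : Module.Basis ι R L) :
    LinearMap.polyCharpoly φ' (b.map eL) = LinearMap.polyCharpoly φ b := by
  classical
  let bM := Module.Free.chooseBasis R M
  rw [LinearMap.polyCharpoly_eq_of_basis φ' (b.map eL) (bM.map eM),
    LinearMap.polyCharpoly_eq_of_basis φ b bM]
  have hmat : LinearMap.toMatrix (b.map eL) (bM.map eM).end φ' = LinearMap.toMatrix b bM.end φ := by
    ext ij k
    rw [LinearMap.toMatrix_apply, LinearMap.toMatrix_apply, Module.Basis.end_repr_apply,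
      Module.Basis.end_repr_apply]
    have hm : LinearMap.toMatrix (bM.map eM) (bM.map eM) (φ' ((b.map eL) k)) =
        LinearMap.toMatrix bM bM (φ (b k)) := by
      ext i j
      rw [LinearMap.toMatrix_apply, LinearMap.toMatrix_apply, Module.Basis.map_apply,
        Module.Basis.map_apply, h, Module.Basis.map_repr, LinearEquiv.trans_apply,
        LinearEquiv.symm_apply_apply]
    rw [hm]
  unfold LinearMap.toMvPolynomial
  rw [hmat]

end EquivInv

section LieEquivInv

variable {R : Type*} [CommRing R] [Nontrivial R] {L L' : Type*} [LieRing L] [LieAlgebra R L]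
  [LieRing L'] [LieAlgebra R L'] [Module.Finite R L] [Module.Free R L] [Module.Finite R L']
  [Module.Free R L']

theorem rank_equiv (e : L ≃ₗ[R] L') (he : ∀ x y, e ⁅x, y⁆ = ⁅e x, e y⁆) :
    LieAlgebra.rank R L' = LieAlgebra.rank R L := by
  classical
  let b := Module.Free.chooseBasis R L
  rw [LieAlgebra.rank_eq_natTrailingDegree R L' (b.map e),
    LieAlgebra.rank_eq_natTrailingDegree R L b,
    polyCharpoly_equiv e e (LieAlgebra.ad R L).toLinearMap (LieAlgebra.ad R L').toLinearMap _ b]
  intro x m
  simp [he]

theorem isRegular_equiv (e : L ≃ₗ[R] L') (he : ∀ x y, e ⁅x, y⁆ = ⁅e x, e y⁆) (x : L) :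
    LieAlgebra.IsRegular R (e x) ↔ LieAlgebra.IsRegular R x := by
  rw [LieAlgebra.isRegular_def, LieAlgebra.isRegular_def, rank_equiv e he]
  have h : (LieAlgebra.ad R L' (e x) : Module.End R L') = e.conj (LieAlgebra.ad R L x) := by
    apply LinearMap.ext
    intro m
    rw [LinearEquiv.conj_apply]
    simp [he]
  rw [h, LinearEquiv.charpoly_conj]

end LieEquivInv

section Cancel

variable {A : Type*} [CommRing A] {L : Type*} [LieRing L] [LieAlgebra A L]
  (B : Type*) [CommRing B] [Algebra A B] (K : Type*) [CommRing K] [Algebra B K] [Algebra A K]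
  [IsScalarTower A B K]

theorem nested_lie_add (x y₁ y₂ : K ⊗[B] (B ⊗[A] L)) : ⁅x, y₁ + y₂⁆ = ⁅x, y₁⁆ + ⁅x, y₂⁆ :=
  lie_add x y₁ y₂

theorem nested_lie_zero (x : K ⊗[B] (B ⊗[A] L)) : ⁅x, (0 : K ⊗[B] (B ⊗[A] L))⁆ = 0 :=
  lie_zero x

theorem cancelBaseChange_lie (x y : K ⊗[B] (B ⊗[A] L)) :
    TensorProduct.AlgebraTensorModule.cancelBaseChange A B K K L ⁅x, y⁆ =
      ⁅TensorProduct.AlgebraTensorModule.cancelBaseChange A B K K L x,
        TensorProduct.AlgebraTensorModule.cancelBaseChange A B K K L y⁆ := by
  induction x using TensorProduct.induction_on with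
  | zero => simp
  | add x₁ x₂ h₁ h₂ => simp only [add_lie, map_add, h₁, h₂]
  | tmul k z =>
    induction z using TensorProduct.induction_on with
    | zero => simp
    | add z₁ z₂ h₁ h₂ => simp only [TensorProduct.tmul_add, add_lie, map_add, h₁, h₂]
    | tmul b l =>
      induction y using TensorProduct.induction_on with
      | zero => rw [nested_lie_zero, map_zero, lie_zero]
      | add y₁ y₂ h₁ h₂ => rw [nested_lie_add, map_add, map_add, h₁, h₂, lie_add]
      | tmul k' w =>
        induction w using TensorProduct.induction_on with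
        | zero => rw [TensorProduct.tmul_zero, nested_lie_zero, map_zero, lie_zero]
        | add w₁ w₂ h₁ h₂ =>
          rw [TensorProduct.tmul_add, nested_lie_add, map_add, map_add, h₁, h₂, lie_add]
        | tmul b' l' =>
          simp only [LieAlgebra.ExtendScalars.bracket_tmul,
            TensorProduct.AlgebraTensorModule.cancelBaseChange_tmul]
          rw [smul_mul_smul_comm]

end Cancel

section FibreCompare

variable {A : Type*} [CommRing A] {L : Type*} [LieRing L] [LieAlgebra A L] [Module.Finite A L]

theorem rank_fibre_baseChange (B : Type*) [CommRing B] [Algebra A B] (K : Type*) [Field K]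
    [Algebra B K] [Algebra A K] [IsScalarTower A B K] :
    LieAlgebra.rank K (K ⊗[B] (B ⊗[A] L)) = LieAlgebra.rank K (K ⊗[A] L) :=
  (rank_equiv (TensorProduct.AlgebraTensorModule.cancelBaseChange A B K K L)
    (cancelBaseChange_lie B K)).symm

theorem isRegular_fibre_baseChange (B : Type*) [CommRing B] [Algebra A B] (K : Type*) [Field K]
    [Algebra B K] [Algebra A K] [IsScalarTower A B K] (a : L) :
    LieAlgebra.IsRegular K ((1 : K) ⊗ₜ[B] ((1 : B) ⊗ₜ[A] a)) ↔
      LieAlgebra.IsRegular K ((1 : K) ⊗ₜ[A] a) := by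
  rw [← isRegular_equiv (TensorProduct.AlgebraTensorModule.cancelBaseChange A B K K L)
    (cancelBaseChange_lie B K), TensorProduct.AlgebraTensorModule.cancelBaseChange_tmul, one_smul]

theorem rank_fibre_fieldExt (K K' : Type*) [Field K] [Field K'] [Algebra A K] [Algebra A K']
    [Algebra K K'] [IsScalarTower A K K'] :
    LieAlgebra.rank K' (K' ⊗[A] L) = LieAlgebra.rank K (K ⊗[A] L) := by
  rw [← rank_fibre_baseChange K K', rank_extendScalars]

theorem isRegular_fibre_fieldExt (K K' : Type*) [Field K] [Field K'] [Algebra A K] [Algebra A K']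
    [Algebra K K'] [IsScalarTower A K K'] (a : L) :
    LieAlgebra.IsRegular K' ((1 : K') ⊗ₜ[A] a) ↔ LieAlgebra.IsRegular K ((1 : K) ⊗ₜ[A] a) := by
  rw [← isRegular_fibre_baseChange K K', isRegular_extendScalars]

end FibreCompare

section Primes

variable {A : Type u} [CommRing A] {L : Type u} [LieRing L] [LieAlgebra A L] [Module.Finite A L]
  (A' : Type u) [CommRing A'] [Algebra A A']

theorem rank_fibre_comap (q' : PrimeSpectrum A') :
    LieAlgebra.rank q'.asIdeal.ResidueField (q'.asIdeal.ResidueField ⊗[A'] (A' ⊗[A] L)) =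
      LieAlgebra.rank (PrimeSpectrum.comap (algebraMap A A') q').asIdeal.ResidueField
        ((PrimeSpectrum.comap (algebraMap A A') q').asIdeal.ResidueField ⊗[A] L) := by
  letI : Algebra (PrimeSpectrum.comap (algebraMap A A') q').asIdeal.ResidueField
      q'.asIdeal.ResidueField :=
    (Ideal.ResidueField.map (PrimeSpectrum.comap (algebraMap A A') q').asIdeal q'.asIdeal
      (algebraMap A A') rfl).toAlgebra
  haveI : IsScalarTower A (PrimeSpectrum.comap (algebraMap A A') q').asIdeal.ResidueField
      q'.asIdeal.ResidueField :=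
    IsScalarTower.of_algebraMap_eq (fun r => by
      rw [RingHom.algebraMap_toAlgebra, Ideal.ResidueField.map_algebraMap,
        ← IsScalarTower.algebraMap_apply])
  rw [rank_fibre_baseChange A' q'.asIdeal.ResidueField,
    rank_fibre_fieldExt (PrimeSpectrum.comap (algebraMap A A') q').asIdeal.ResidueField
      q'.asIdeal.ResidueField]

theorem isRegular_fibre_comap (q' : PrimeSpectrum A') (a : L) :
    LieAlgebra.IsRegular q'.asIdeal.ResidueField
        ((1 : q'.asIdeal.ResidueField) ⊗ₜ[A'] ((1 : A') ⊗ₜ[A] a)) ↔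
      LieAlgebra.IsRegular (PrimeSpectrum.comap (algebraMap A A') q').asIdeal.ResidueField
        ((1 : (PrimeSpectrum.comap (algebraMap A A') q').asIdeal.ResidueField) ⊗ₜ[A] a) := by
  letI : Algebra (PrimeSpectrum.comap (algebraMap A A') q').asIdeal.ResidueField
      q'.asIdeal.ResidueField :=
    (Ideal.ResidueField.map (PrimeSpectrum.comap (algebraMap A A') q').asIdeal q'.asIdeal
      (algebraMap A A') rfl).toAlgebra
  haveI : IsScalarTower A (PrimeSpectrum.comap (algebraMap A A') q').asIdeal.ResidueField
      q'.asIdeal.ResidueField :=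
    IsScalarTower.of_algebraMap_eq (fun r => by
      rw [RingHom.algebraMap_toAlgebra, Ideal.ResidueField.map_algebraMap,
        ← IsScalarTower.algebraMap_apply])
  rw [isRegular_fibre_baseChange A' q'.asIdeal.ResidueField,
    isRegular_fibre_fieldExt (PrimeSpectrum.comap (algebraMap A A') q').asIdeal.ResidueField
      q'.asIdeal.ResidueField]

end Primes

end Groth.Agent.Helper7.CartanRel
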