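import Mathlib
import Groth.Prelude.Def_W4sga3xiixivxvCartan
import Groth.Agent.Helper7.CartanRelA
import Groth.Agent.Helper7.CartanRelB

set_option autoImplicit false
set_option linter.unusedSectionVars false
set_option linter.unusedVariables false

/-! Relative Cartan subalgebras: local existence under (C₂), and (C₁) ⇒ (C₀). -/

namespace Groth.Agent.Helper7.CartanRel

open Polynomial TensorProduct

universe u

section Scalar

variable {K : Type*} [Field K] {M : Type*} [LieRing M] [LieAlgebra K M] [Module.Finite K M]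

theorem engel_smul (c : K) (hc : c ≠ 0) (x : M) :
    LieSubalgebra.engel K (c • x) = LieSubalgebra.engel K x := by
  ext y
  rw [LieSubalgebra.mem_engel_iff, LieSubalgebra.mem_engel_iff]
  have h : ∀ n : ℕ, ((LieAlgebra.ad K M (c • x)) ^ n) y = c ^ n • ((LieAlgebra.ad K M x) ^ n) y := by
    intro n
    rw [map_smul, _root_.smul_pow, LinearMap.smul_apply]
  constructor
  · rintro ⟨n, hn⟩
    rw [h, smul_eq_zero] at hn
    exact ⟨n, hn.resolve_left (pow_ne_zero n hc)⟩
  · rintro ⟨n, hn⟩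
    exact ⟨n, by rw [h, hn, smul_zero]⟩

theorem isRegular_smul (c : K) (hc : c ≠ 0) (x : M) :
    LieAlgebra.IsRegular K (c • x) ↔ LieAlgebra.IsRegular K x := by
  rw [LieAlgebra.isRegular_iff_finrank_engel_eq_rank, LieAlgebra.isRegular_iff_finrank_engel_eq_rank,
    engel_smul c hc]

end Scalar

section Clear

variable {A : Type u} [CommRing A] {L : Type u} [AddCommGroup L] [Module A L]

theorem clear_denominators (p : PrimeSpectrum A) (x : p.asIdeal.ResidueField ⊗[A] L) :
    ∃ s : A, s ∉ p.asIdeal ∧ ∃ a : L,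
      algebraMap A p.asIdeal.ResidueField s • x = (1 : p.asIdeal.ResidueField) ⊗ₜ[A] a := by
  induction x using TensorProduct.induction_on with
  | zero => exact ⟨1, p.asIdeal.one_notMem, 0, by simp⟩
  | tmul c l =>
    obtain ⟨y, rfl⟩ := IsLocalRing.residue_surjective c
    obtain ⟨⟨r, s⟩, rfl⟩ := IsLocalization.mk'_surjective p.asIdeal.primeCompl y
    refine ⟨s, s.2, r • l, ?_⟩
    rw [TensorProduct.smul_tmul', smul_eq_mul,
      IsScalarTower.algebraMap_apply A (Localization.AtPrime p.asIdeal) p.asIdeal.ResidueField,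
      IsLocalRing.ResidueField.algebraMap_eq, ← map_mul, IsLocalization.mk'_spec',
      TensorProduct.tmul_smul, TensorProduct.smul_tmul', Algebra.smul_def, mul_one,
      IsScalarTower.algebraMap_apply A (Localization.AtPrime p.asIdeal) p.asIdeal.ResidueField,
      IsLocalRing.ResidueField.algebraMap_eq]
  | add x₁ x₂ h₁ h₂ =>
    obtain ⟨s₁, hs₁, a₁, e₁⟩ := h₁
    obtain ⟨s₂, hs₂, a₂, e₂⟩ := h₂
    refine ⟨s₁ * s₂, p.asIdeal.primeCompl.mul_mem hs₁ hs₂, s₂ • a₁ + s₁ • a₂, ?_⟩
    have h1 : (algebraMap A p.asIdeal.ResidueField s₁ * algebraMap A p.asIdeal.ResidueField s₂) • x₁ =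
        algebraMap A p.asIdeal.ResidueField s₂ • (algebraMap A p.asIdeal.ResidueField s₁ • x₁) := by
      rw [mul_comm, mul_smul]
    have h2 : (algebraMap A p.asIdeal.ResidueField s₁ * algebraMap A p.asIdeal.ResidueField s₂) • x₂ =
        algebraMap A p.asIdeal.ResidueField s₁ • (algebraMap A p.asIdeal.ResidueField s₂ • x₂) :=
      mul_smul _ _ _
    rw [map_mul, smul_add, h1, h2, e₁, e₂, TensorProduct.tmul_add,
      TensorProduct.tmul_smul, TensorProduct.tmul_smul, algebraMap_smul, algebraMap_smul]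

end Clear

section LocalCartan

open SGA3t2b

variable {A : Type u} [CommRing A] {L : Type u} [LieRing L] [LieAlgebra A L] [Module.Finite A L]
  [Module.Projective A L]

theorem exists_cartan_localization
    (hC2 : ((∀ p : PrimeSpectrum A, ∃ f : A, f ∉ p.asIdeal ∧ ∀ q : PrimeSpectrum A, f ∉ q.asIdeal →
        LieAlgebra.rank q.asIdeal.ResidueField (q.asIdeal.ResidueField ⊗[A] L) =
          LieAlgebra.rank p.asIdeal.ResidueField (p.asIdeal.ResidueField ⊗[A] L)) ∧
      ∀ (A' : Type u) [CommRing A'] [Algebra A A'] (a' : A' ⊗[A] L),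
        SGA3t2b.IsQuasiRegular A' (A' ⊗[A] L) a' → SGA3t2b.IsRegularRel A' (A' ⊗[A] L) a'))
    (p : PrimeSpectrum A)
    (hp : ∃ x : p.asIdeal.ResidueField ⊗[A] L, LieAlgebra.IsRegular p.asIdeal.ResidueField x) :
    ∃ f : A, f ∉ p.asIdeal ∧
      ∃ H : LieSubalgebra (Localization.Away f) (Localization.Away f ⊗[A] L),
        SGA3t2b.IsCartanRel H := by
  obtain ⟨x, hx⟩ := hp
  obtain ⟨s, hs, a, hsa⟩ := clear_denominators p x
  have ha : LieAlgebra.IsRegular p.asIdeal.ResidueField ((1 : p.asIdeal.ResidueField) ⊗ₜ[A] a) := by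
    rw [← hsa]
    refine (isRegular_smul _ ?_ x).2 hx
    rwa [Ne, Ideal.algebraMap_residueField_eq_zero]
  have hopen := isOpen_regular hC2.1 a
  obtain ⟨f, hfp, hfU⟩ : ∃ f : A, f ∉ p.asIdeal ∧ ∀ q : PrimeSpectrum A, f ∉ q.asIdeal →
      LieAlgebra.IsRegular q.asIdeal.ResidueField ((1 : q.asIdeal.ResidueField) ⊗ₜ[A] a) := by
    obtain ⟨_, ⟨f, rfl⟩, hpf, hfU⟩ :=
      PrimeSpectrum.isTopologicalBasis_basic_opens.exists_subset_of_mem_open
        (show p ∈ {q : PrimeSpectrum A | LieAlgebra.IsRegular q.asIdeal.ResidueField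
          ((1 : q.asIdeal.ResidueField) ⊗ₜ[A] a)} from ha) hopen
    exact ⟨f, hpf, fun q hq => hfU hq⟩
  refine ⟨f, hfp, ?_⟩
  have hqr : SGA3t2b.IsQuasiRegular (Localization.Away f) (Localization.Away f ⊗[A] L)
      ((1 : Localization.Away f) ⊗ₜ[A] a) := by
    intro q'
    rw [isRegular_fibre_comap]
    apply hfU
    intro hf
    exact q'.isPrime.ne_top (Ideal.eq_top_of_isUnit_mem _ hf
      (IsLocalization.Away.algebraMap_isUnit f))
  obtain ⟨-, H, hH, -⟩ := hC2.2 (Localization.Away f) ((1 : Localization.Away f) ⊗ₜ[A] a) hqr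
  exact ⟨H, hH⟩

end LocalCartan

end Groth.Agent.Helper7.CartanRel
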