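import Mathlib
import Groth.Prelude.Def_W4sga3xiixivxvCartan
import Groth.Agent.Helper7.CartanRelA
import Groth.Agent.Helper7.CartanRelB

set_option autoImplicit false
set_option linter.unusedSectionVars false
set_option linter.unusedVariables false

/-! Relative Cartan subalgebras: (C₁) ⇒ (C₀). -/

namespace Groth.Agent.Helper7.CartanRel

open Polynomial TensorProduct

universe u

section FinrankQuot

theorem finrank_baseChange_add_quot {R : Type*} [CommRing R] {M : Type*} [AddCommGroup M]
    [Module R M] [Module.Finite R M] (N : Submodule R M) (K : Type*) [Field K] [Algebra R K] :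
    Module.finrank K (N.baseChange K) + Module.finrank K (K ⊗[R] (M ⧸ N)) =
      Module.finrank K (K ⊗[R] M) := by
  have hex : Function.Exact (N.subtype.baseChange K) (N.mkQ.baseChange K) := by
    rw [LinearMap.baseChange_eq_ltensor, LinearMap.baseChange_eq_ltensor]
    exact lTensor_exact K (LinearMap.exact_subtype_mkQ N) (Submodule.mkQ_surjective N)
  have hsurj : Function.Surjective (N.mkQ.baseChange K) := by
    rw [LinearMap.baseChange_eq_ltensor]
    exact LinearMap.lTensor_surjective K (Submodule.mkQ_surjective N)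
  have hker : LinearMap.ker (N.mkQ.baseChange K) = N.baseChange K := LinearMap.exact_iff.1 hex
  have := LinearMap.finrank_range_add_finrank_ker (N.mkQ.baseChange K)
  rw [LinearMap.range_eq_top.2 hsurj, finrank_top, hker] at this
  omega

end FinrankQuot

section C1C0

open SGA3t2b

variable {A : Type u} [CommRing A] {L : Type u} [LieRing L] [LieAlgebra A L] [Module.Finite A L]
  [Module.Projective A L]

theorem rank_add_rankAtStalk {A' : Type u} [CommRing A'] [Algebra A A']
    (H : LieSubalgebra A' (A' ⊗[A] L)) (hH : SGA3t2b.IsCartanRel H) (q' : PrimeSpectrum A') :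
    LieAlgebra.rank q'.asIdeal.ResidueField (q'.asIdeal.ResidueField ⊗[A'] (A' ⊗[A] L)) +
      Module.rankAtStalk ((A' ⊗[A] L) ⧸ H.toSubmodule) q' = Module.rankAtStalk (A' ⊗[A] L) q' := by
  haveI : Module.Projective A' ((A' ⊗[A] L) ⧸ H.toSubmodule) := hH.1
  rw [← (hH.2 q').2.2, Module.rankAtStalk_eq, Module.rankAtStalk_eq]
  exact finrank_baseChange_add_quot H.toSubmodule q'.asIdeal.ResidueField

theorem rank_locally_constant_of_cartan
    (hC1 : ∃ (A' : Type u) (_ : CommRing A') (_ : Algebra A A'), Module.FaithfullyFlat A A' ∧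
        ∃ H : LieSubalgebra A' (A' ⊗[A] L), SGA3t2b.IsCartanRel H) :
    ∀ p : PrimeSpectrum A, ∃ f : A, f ∉ p.asIdeal ∧ ∀ q : PrimeSpectrum A, f ∉ q.asIdeal →
        LieAlgebra.rank q.asIdeal.ResidueField (q.asIdeal.ResidueField ⊗[A] L) =
          LieAlgebra.rank p.asIdeal.ResidueField (p.asIdeal.ResidueField ⊗[A] L) := by
  obtain ⟨A', _, _, hff, H, hH⟩ := hC1
  have hsum := rank_add_rankAtStalk H hH
  haveI : Module.Projective A' ((A' ⊗[A] L) ⧸ H.toSubmodule) := hH.1
  haveI : Module.FinitePresentation A' (A' ⊗[A] L) :=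
    Module.finitePresentation_of_projective A' (A' ⊗[A] L)
  haveI : Module.FinitePresentation A' ((A' ⊗[A] L) ⧸ H.toSubmodule) :=
    Module.finitePresentation_of_projective A' _
  have hlc1 := Module.isLocallyConstant_rankAtStalk (R := A') (M := A' ⊗[A] L)
  have hlc2 := Module.isLocallyConstant_rankAtStalk (R := A') (M := (A' ⊗[A] L) ⧸ H.toSubmodule)
  -- the quotient map
  have hquot : Topology.IsQuotientMap (PrimeSpectrum.comap (algebraMap A A')) := by
    apply PrimeSpectrum.isQuotientMap_of_generalizingMap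
    · exact PrimeSpectrum.comap_surjective_of_faithfullyFlat
    · rw [← Algebra.HasGoingDown.iff_generalizingMap_primeSpectrumComap]
      infer_instance
  -- the level sets are open
  have hopen : ∀ n : ℕ, IsOpen {q : PrimeSpectrum A |
      LieAlgebra.rank q.asIdeal.ResidueField (q.asIdeal.ResidueField ⊗[A] L) = n} := by
    intro n
    rw [← hquot.isOpen_preimage, isOpen_iff_forall_mem_open]
    intro q'₀ hq'₀
    refine ⟨{q' | Module.rankAtStalk (A' ⊗[A] L) q' = Module.rankAtStalk (A' ⊗[A] L) q'₀} ∩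
      {q' | Module.rankAtStalk ((A' ⊗[A] L) ⧸ H.toSubmodule) q' =
        Module.rankAtStalk ((A' ⊗[A] L) ⧸ H.toSubmodule) q'₀}, ?_,
      (hlc1.isOpen_fiber _).inter (hlc2.isOpen_fiber _), ⟨rfl, rfl⟩⟩
    rintro q' ⟨h1, h2⟩
    have h1' : Module.rankAtStalk (A' ⊗[A] L) q' = Module.rankAtStalk (A' ⊗[A] L) q'₀ := h1
    have h2' : Module.rankAtStalk ((A' ⊗[A] L) ⧸ H.toSubmodule) q' =
        Module.rankAtStalk ((A' ⊗[A] L) ⧸ H.toSubmodule) q'₀ := h2
    have e1 := hsum q'
    have e2 := hsum q'₀
    have hq0 : LieAlgebra.rank (PrimeSpectrum.comap (algebraMap A A') q'₀).asIdeal.ResidueField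
        ((PrimeSpectrum.comap (algebraMap A A') q'₀).asIdeal.ResidueField ⊗[A] L) = n := hq'₀
    rw [← rank_fibre_comap] at hq0
    show LieAlgebra.rank (PrimeSpectrum.comap (algebraMap A A') q').asIdeal.ResidueField
        ((PrimeSpectrum.comap (algebraMap A A') q').asIdeal.ResidueField ⊗[A] L) = n
    rw [← rank_fibre_comap]
    omega
  intro p
  obtain ⟨_, ⟨f, rfl⟩, hpf, hfU⟩ :=
    PrimeSpectrum.isTopologicalBasis_basic_opens.exists_subset_of_mem_open
      (show p ∈ {q : PrimeSpectrum A |
        LieAlgebra.rank q.asIdeal.ResidueField (q.asIdeal.ResidueField ⊗[A] L) =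
          LieAlgebra.rank p.asIdeal.ResidueField (p.asIdeal.ResidueField ⊗[A] L)} from rfl)
      (hopen _)
  exact ⟨f, hpf, fun q hq => hfU hq⟩

end C1C0

end Groth.Agent.Helper7.CartanRel
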