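import Mathlib
import Groth.Prelude.Def_W4sga3xiixivxvCartan
import Groth.Agent.Helper7.CartanRelA
import Groth.Agent.Helper7.CartanRelB
import Groth.Agent.Helper7.CartanRelC

set_option autoImplicit false
set_option linter.unusedSectionVars false
set_option linter.unusedVariables false

/-! Relative Cartan subalgebras: (C₂) ⇒ (C′₁) when every fibre has a regular element. -/

namespace Groth.Agent.Helper7.CartanRel

open Polynomial TensorProduct

universe u

section RegSection

variable {A : Type u} [CommRing A] {L : Type u} [LieRing L] [LieAlgebra A L] [Module.Finite A L]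
  [Module.Projective A L]

theorem exists_regular_section
    (hC0 : ∀ p : PrimeSpectrum A, ∃ f : A, f ∉ p.asIdeal ∧ ∀ q : PrimeSpectrum A, f ∉ q.asIdeal →
        LieAlgebra.rank q.asIdeal.ResidueField (q.asIdeal.ResidueField ⊗[A] L) =
          LieAlgebra.rank p.asIdeal.ResidueField (p.asIdeal.ResidueField ⊗[A] L))
    (p : PrimeSpectrum A)
    (hp : ∃ x : p.asIdeal.ResidueField ⊗[A] L, LieAlgebra.IsRegular p.asIdeal.ResidueField x) :
    ∃ f : A, f ∉ p.asIdeal ∧ ∃ a : L, ∀ q : PrimeSpectrum A, f ∉ q.asIdeal →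
      LieAlgebra.IsRegular q.asIdeal.ResidueField ((1 : q.asIdeal.ResidueField) ⊗ₜ[A] a) := by
  obtain ⟨x, hx⟩ := hp
  obtain ⟨s, hs, a, hsa⟩ := clear_denominators p x
  have ha : LieAlgebra.IsRegular p.asIdeal.ResidueField ((1 : p.asIdeal.ResidueField) ⊗ₜ[A] a) := by
    rw [← hsa]
    refine (isRegular_smul _ ?_ x).2 hx
    rwa [Ne, Ideal.algebraMap_residueField_eq_zero]
  have hopen := isOpen_regular hC0 a
  obtain ⟨_, ⟨f, rfl⟩, hpf, hfU⟩ :=
    PrimeSpectrum.isTopologicalBasis_basic_opens.exists_subset_of_mem_open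
      (show p ∈ {q : PrimeSpectrum A | LieAlgebra.IsRegular q.asIdeal.ResidueField
        ((1 : q.asIdeal.ResidueField) ⊗ₜ[A] a)} from ha) hopen
  exact ⟨f, hpf, a, fun q hq => hfU hq⟩

end RegSection

section PiPrime

variable {ι : Type*} [Fintype ι] [DecidableEq ι] {B : ι → Type*} [∀ i, CommRing (B i)]

/-- A prime of a finite product misses exactly one of the standard idempotents. -/
theorem exists_single_notMem (q : Ideal (∀ i, B i)) [hq : q.IsPrime] :
    ∃ i₀ : ι, (Pi.single i₀ 1 : ∀ i, B i) ∉ q ∧ ∀ i, i ≠ i₀ → (Pi.single i 1 : ∀ i, B i) ∈ q := by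
  have h1 : ∃ i₀ : ι, (Pi.single i₀ 1 : ∀ i, B i) ∉ q := by
    by_contra hcon
    push Not at hcon
    have : (1 : ∀ i, B i) ∈ q := by
      have h : (1 : ∀ i, B i) = ∑ i, Pi.single i 1 := by
        ext j
        rw [Finset.sum_apply, Finset.sum_eq_single j]
        · simp
        · intro i _ hi
          exact Pi.single_eq_of_ne' hi _
        · intro h
          exact absurd (Finset.mem_univ j) h
      rw [h]
      exact Ideal.sum_mem _ (fun i _ => hcon i)
    exact hq.ne_top ((Ideal.eq_top_iff_one _).2 this)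
  obtain ⟨i₀, hi₀⟩ := h1
  refine ⟨i₀, hi₀, fun i hi => ?_⟩
  have : (Pi.single i 1 : ∀ i, B i) * Pi.single i₀ 1 = 0 := by
    ext j
    simp only [Pi.mul_apply, Pi.zero_apply]
    by_cases hj : j = i
    · rw [Pi.single_eq_of_ne (show j ≠ i₀ from fun h => hi (hj.symm.trans h)), mul_zero]
    · rw [Pi.single_eq_of_ne hj, zero_mul]
  have hm : (Pi.single i 1 : ∀ i, B i) * Pi.single i₀ 1 ∈ q := by rw [this]; exact q.zero_mem
  exact (hq.mem_or_mem hm).resolve_right hi₀

theorem single_mul_single_self (i : ι) :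
    (Pi.single i 1 : ∀ i, B i) * Pi.single i 1 = Pi.single i 1 := by
  ext j
  by_cases hj : j = i
  · subst hj
    simp
  · simp [Pi.single_eq_of_ne hj]

end PiPrime

section Main

open SGA3t2b

variable {A : Type u} [CommRing A] {L : Type u} [LieRing L] [LieAlgebra A L] [Module.Finite A L]
  [Module.Projective A L]

theorem exists_cartan_etale
    (hC2 : ((∀ p : PrimeSpectrum A, ∃ f : A, f ∉ p.asIdeal ∧ ∀ q : PrimeSpectrum A, f ∉ q.asIdeal →
        LieAlgebra.rank q.asIdeal.ResidueField (q.asIdeal.ResidueField ⊗[A] L) =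
          LieAlgebra.rank p.asIdeal.ResidueField (p.asIdeal.ResidueField ⊗[A] L)) ∧
      ∀ (A' : Type u) [CommRing A'] [Algebra A A'] (a' : A' ⊗[A] L),
        SGA3t2b.IsQuasiRegular A' (A' ⊗[A] L) a' → SGA3t2b.IsRegularRel A' (A' ⊗[A] L) a'))
    (hreg : ∀ p : PrimeSpectrum A, ∃ x : p.asIdeal.ResidueField ⊗[A] L,
      LieAlgebra.IsRegular p.asIdeal.ResidueField x) :
    ∃ (A' : Type u) (_ : CommRing A') (_ : Algebra A A'), Algebra.Etale A A' ∧
      Module.FaithfullyFlat A A' ∧
        ∃ H : LieSubalgebra A' (A' ⊗[A] L), SGA3t2b.IsCartanRel H := by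
  classical
  choose f hf a ha using fun p : PrimeSpectrum A => exists_regular_section hC2.1 p (hreg p)
  have htop : Ideal.span (Set.range f) = ⊤ := by
    by_contra hne
    obtain ⟨m, hm, hle⟩ := Ideal.exists_le_maximal _ hne
    exact hf ⟨m, hm.isPrime⟩ (hle (Ideal.subset_span ⟨⟨m, hm.isPrime⟩, rfl⟩))
  have h1 : (1 : A) ∈ Ideal.span (Set.range f) := by rw [htop]; trivial
  obtain ⟨c, hc⟩ := (Finsupp.mem_span_range_iff_exists_finsupp).1 h1
  let t : Finset (PrimeSpectrum A) := c.support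
  have hcover : ∀ q : PrimeSpectrum A, ∃ p ∈ t, f p ∉ q.asIdeal := by
    intro q
    by_contra hcon
    push Not at hcon
    have : (1 : A) ∈ q.asIdeal := by
      rw [← hc]
      refine Ideal.sum_mem _ (fun p hp => ?_)
      exact Ideal.mul_mem_left _ _ (hcon p hp)
    exact q.2.ne_top ((Ideal.eq_top_iff_one _).2 this)
  let B : t → Type u := fun p => Localization.Away (f p.1)
  haveI : ∀ p : t, Algebra.Etale A (B p) := fun p => Algebra.Etale.of_isLocalizationAway (f p.1)
  haveI : Module.Flat A (∀ p : t, B p) :=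
    Module.Flat.of_linearEquiv (DFinsupp.linearEquivFunOnFintype (R := A) (M := B)).symm
  haveI : Module.FaithfullyFlat A (∀ p : t, B p) := by
    apply Module.FaithfullyFlat.of_comap_surjective
    intro q
    obtain ⟨p, hp, hpq⟩ := hcover q
    have hq : q ∈ Set.range (PrimeSpectrum.comap (algebraMap A (Localization.Away (f p)))) := by
      rw [PrimeSpectrum.localization_away_comap_range _ (f p)]
      exact hpq
    obtain ⟨q'', hq''⟩ := hq
    refine ⟨PrimeSpectrum.comap (Pi.evalRingHom B ⟨p, hp⟩) q'', ?_⟩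
    rw [← hq'']
    rfl
  refine ⟨∀ p : t, B p, inferInstance, inferInstance, inferInstance, inferInstance, ?_⟩
  let a' : (∀ p : t, B p) ⊗[A] L := ∑ p : t, (Pi.single p 1 : ∀ p : t, B p) ⊗ₜ[A] a p.1
  have hqr : SGA3t2b.IsQuasiRegular (∀ p : t, B p) ((∀ p : t, B p) ⊗[A] L) a' := by
    intro q'
    obtain ⟨p₀, hp₀, hother⟩ := exists_single_notMem q'.asIdeal
    have hsplit : ∀ p : t, (1 : q'.asIdeal.ResidueField) ⊗ₜ[∀ p : t, B p]
          ((Pi.single p 1 : ∀ p : t, B p) ⊗ₜ[A] a p.1) =
        (algebraMap (∀ p : t, B p) q'.asIdeal.ResidueField (Pi.single p 1)) ⊗ₜ[∀ p : t, B p]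
          ((1 : ∀ p : t, B p) ⊗ₜ[A] a p.1) := by
      intro p
      have h : (Pi.single p 1 : ∀ p : t, B p) ⊗ₜ[A] a p.1 =
          (Pi.single p 1 : ∀ p : t, B p) • ((1 : ∀ p : t, B p) ⊗ₜ[A] a p.1) := by
        rw [TensorProduct.smul_tmul', smul_eq_mul, mul_one]
      rw [h, TensorProduct.tmul_smul, TensorProduct.smul_tmul', Algebra.smul_def, mul_one]
    have hkey : (1 : q'.asIdeal.ResidueField) ⊗ₜ[∀ p : t, B p] a' =
        (1 : q'.asIdeal.ResidueField) ⊗ₜ[∀ p : t, B p] ((1 : ∀ p : t, B p) ⊗ₜ[A] a p₀.1) := by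
      simp only [a', TensorProduct.tmul_sum]
      rw [Finset.sum_eq_single p₀]
      · rw [hsplit]
        congr 1
        have hne : algebraMap (∀ p : t, B p) q'.asIdeal.ResidueField (Pi.single p₀ 1) ≠ 0 := by
          rwa [Ne, Ideal.algebraMap_residueField_eq_zero]
        have hid : algebraMap (∀ p : t, B p) q'.asIdeal.ResidueField (Pi.single p₀ 1) *
            algebraMap (∀ p : t, B p) q'.asIdeal.ResidueField (Pi.single p₀ 1) =
            algebraMap (∀ p : t, B p) q'.asIdeal.ResidueField (Pi.single p₀ 1) * 1 := by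
          rw [← map_mul, single_mul_single_self, mul_one]
        exact mul_left_cancel₀ hne hid
      · intro p _ hp
        rw [hsplit, Ideal.algebraMap_residueField_eq_zero.2 (hother p hp), TensorProduct.zero_tmul]
      · intro h
        exact absurd (Finset.mem_univ p₀) h
    show LieAlgebra.IsRegular q'.asIdeal.ResidueField
      ((1 : q'.asIdeal.ResidueField) ⊗ₜ[∀ p : t, B p] a')
    rw [hkey, isRegular_fibre_comap]
    apply ha
    intro hfq
    have hfq' : algebraMap A (∀ p : t, B p) (f p₀.1) ∈ q'.asIdeal := hfq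
    apply hp₀
    have hmul : algebraMap A (∀ p : t, B p) (f p₀.1) *
        Pi.single p₀ (IsLocalization.Away.invSelf (S := B p₀) (f p₀.1)) = Pi.single p₀ 1 := by
      ext j
      by_cases hj : j = p₀
      · subst hj
        simp only [Pi.mul_apply, Pi.single_eq_same, Pi.algebraMap_apply]
        exact IsLocalization.Away.mul_invSelf (f j.1)
      · simp [Pi.single_eq_of_ne hj]
    rw [← hmul]
    exact Ideal.mul_mem_right _ _ hfq'
  obtain ⟨-, H, hH, -⟩ := hC2.2 (∀ p : t, B p) a' hqr
  exact ⟨H, hH⟩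

end Main

end Groth.Agent.Helper7.CartanRel
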