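import Mathlib
import Groth.Prelude.Def_W4sga3xiixivxvCartan
import Groth.Agent.Helper7.CartanRelB

set_option autoImplicit false
set_option linter.unusedSectionVars false
set_option linter.unusedVariables false

/-! Engel subalgebras of regular elements over arbitrary fields. -/

namespace Groth.Agent.Helper7.CartanRel

open Polynomial TensorProduct Module Cardinal LieSubalgebra LieAlgebra

universe u

section EngelRegular

variable {K : Type*} [Field K] {L : Type*} [LieRing L] [LieAlgebra K L] [Module.Finite K L]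

theorem engel_le_engel_of_isRegular_of_card (h : finrank K L ≤ #K) {x : L}
    (hx : LieAlgebra.IsRegular K x) {y : L} (hy : y ∈ engel K x) : engel K x ≤ engel K y := by
  set Ex : {engel K z | z ∈ engel K x} := ⟨engel K x, x, self_mem_engel _ _, rfl⟩
  suffices IsBot Ex from @this ⟨engel K y, y, hy, rfl⟩
  apply engel_isBot_of_isMin h (engel K x) Ex le_rfl
  rintro ⟨_, y, hy, rfl⟩ hyx
  suffices finrank K (engel K x) ≤ finrank K (engel K y) by
    suffices engel K y = engel K x from this.ge
    apply LieSubalgebra.toSubmodule_injective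
    exact Submodule.eq_of_le_of_finrank_le hyx this
  rw [(isRegular_iff_finrank_engel_eq_rank K x).mp hx]
  apply rank_le_finrank_engel

theorem ad_pow_one_tmul (K' : Type*) [Field K'] [Algebra K K'] (x y : L) (n : ℕ) :
    ((LieAlgebra.ad K' (K' ⊗[K] L) ((1 : K') ⊗ₜ[K] x)) ^ n) ((1 : K') ⊗ₜ[K] y) =
      (1 : K') ⊗ₜ[K] (((LieAlgebra.ad K L x) ^ n) y) := by
  induction n with
  | zero => simp
  | succ n ih =>
    rw [pow_succ', Module.End.mul_apply, ih, pow_succ', Module.End.mul_apply, LieAlgebra.ad_apply,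
      LieAlgebra.ExtendScalars.bracket_tmul, mul_one, LieAlgebra.ad_apply]

theorem engel_le_engel_of_isRegular {x : L} (hx : LieAlgebra.IsRegular K x) {y : L}
    (hy : y ∈ engel K x) : engel K x ≤ engel K y := by
  let K' := AlgebraicClosure K
  have hcard : finrank K' (K' ⊗[K] L) ≤ #K' :=
    natCast_le_aleph0.trans <| Cardinal.infinite_iff.mp inferInstance
  have hx' : LieAlgebra.IsRegular K' ((1 : K') ⊗ₜ[K] x) := (isRegular_extendScalars K' x).2 hx
  have hmem : ∀ z : L, z ∈ engel K x → (1 : K') ⊗ₜ[K] z ∈ engel K' ((1 : K') ⊗ₜ[K] x) := by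
    intro z hz
    rw [mem_engel_iff] at hz ⊢
    obtain ⟨n, hn⟩ := hz
    exact ⟨n, by rw [ad_pow_one_tmul, hn, TensorProduct.tmul_zero]⟩
  have hle := engel_le_engel_of_isRegular_of_card hcard hx' (hmem y hy)
  intro z hz
  have h1 := hle (hmem z hz)
  rw [mem_engel_iff] at h1 ⊢
  obtain ⟨n, hn⟩ := h1
  refine ⟨n, ?_⟩
  rw [ad_pow_one_tmul] at hn
  have hinj := Module.Flat.tensorProduct_mk_injective (R := K) (S := K') (M := L)
  apply hinj
  rw [map_zero]
  exact hn

theorem isNilpotent_engel_of_isRegular {x : L} (hx : LieAlgebra.IsRegular K x) :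
    LieRing.IsNilpotent (engel K x) :=
  LieSubalgebra.isNilpotent_of_forall_le_engel (R := K) (engel K x)
    (fun y hy => engel_le_engel_of_isRegular hx hy)

end EngelRegular

section NilpotentImage

variable {R : Type*} [CommRing R] {C M : Type*} [LieRing C] [LieAlgebra R C] [LieRing M]
  [LieAlgebra R M]

theorem ad_pow_map (j : C →ₗ⁅R⁆ M) (c y : C) (n : ℕ) :
    ((LieAlgebra.ad R M (j c)) ^ n) (j y) = j (((LieAlgebra.ad R C c) ^ n) y) := by
  induction n with
  | zero => simp
  | succ n ih =>
    rw [pow_succ', Module.End.mul_apply, ih, pow_succ', Module.End.mul_apply, LieAlgebra.ad_apply,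
      LieAlgebra.ad_apply, LieHom.map_lie]

theorem map_mem_engel_of_isNilpotent [LieRing.IsNilpotent C] (j : C →ₗ⁅R⁆ M) (c y : C) :
    j y ∈ engel R (j c) := by
  rw [mem_engel_iff]
  obtain ⟨n, hn⟩ := LieModule.isNilpotent_toEnd_of_isNilpotent R C C c
  refine ⟨n, ?_⟩
  rw [ad_pow_map]
  have : (LieAlgebra.ad R C c) ^ n = 0 := hn
  rw [this, LinearMap.zero_apply, map_zero]

end NilpotentImage

end Groth.Agent.Helper7.CartanRel
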