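import Mathlib

set_option autoImplicit false
set_option linter.unusedSectionVars false
set_option linter.unusedVariables false

/-! Fibrewise criteria for linear maps between finitely generated (projective) modules. -/

namespace Groth.Agent.Helper7.CartanRel

open Polynomial TensorProduct

universe u

section KerMkQ

variable {R : Type*} [CommRing R] {M : Type*} [AddCommGroup M] [Module R M]

theorem ker_mkQ_baseChange (N : Submodule R M) (K : Type*) [CommRing K] [Algebra R K] :
    LinearMap.ker (N.mkQ.baseChange K) = N.baseChange K := by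
  have hex : Function.Exact (N.subtype.baseChange K) (N.mkQ.baseChange K) := by
    rw [LinearMap.baseChange_eq_ltensor, LinearMap.baseChange_eq_ltensor]
    exact lTensor_exact K (LinearMap.exact_subtype_mkQ N) (Submodule.mkQ_surjective N)
  exact LinearMap.exact_iff.1 hex

theorem mkQ_baseChange_surjective (N : Submodule R M) (K : Type*) [CommRing K] [Algebra R K] :
    Function.Surjective (N.mkQ.baseChange K) := by
  rw [LinearMap.baseChange_eq_ltensor]
  exact LinearMap.lTensor_surjective K (Submodule.mkQ_surjective N)

end KerMkQ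

section SurjFibres

variable {R : Type u} [CommRing R] {P : Type u} [AddCommGroup P] [Module R P] [Module.Finite R P]

/-- A finitely generated module all of whose fibres vanish is zero. -/
theorem subsingleton_of_fibres (h : ∀ p : PrimeSpectrum R,
    Subsingleton (p.asIdeal.ResidueField ⊗[R] P)) : Subsingleton P := by
  rw [← Module.support_eq_empty_iff (R := R), Set.eq_empty_iff_forall_notMem]
  intro p hp
  rw [Module.mem_support_iff_nontrivial_residueField_tensorProduct] at hp
  exact not_subsingleton _ (h p)

/-- An endomorphism of a finitely generated module which is surjective on all fibres is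
surjective. -/
theorem surjective_of_fibres (ψ : P →ₗ[R] P)
    (h : ∀ p : PrimeSpectrum R, Function.Surjective (ψ.baseChange p.asIdeal.ResidueField)) :
    Function.Surjective ψ := by
  have hQ : Subsingleton (P ⧸ LinearMap.range ψ) := by
    apply subsingleton_of_fibres (R := R)
    intro p
    refine ⟨fun x y => ?_⟩
    have key : ∀ w : p.asIdeal.ResidueField ⊗[R] (P ⧸ LinearMap.range ψ), w = 0 := by
      intro w
      obtain ⟨z, rfl⟩ := mkQ_baseChange_surjective (LinearMap.range ψ) p.asIdeal.ResidueField w
      obtain ⟨z', rfl⟩ := h p z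
      rw [← LinearMap.comp_apply, ← LinearMap.baseChange_comp]
      have : (LinearMap.range ψ).mkQ ∘ₗ ψ = 0 := by
        ext v
        simp
      rw [this, LinearMap.baseChange_zero, LinearMap.zero_apply]
    rw [key x, key y]
  rw [← LinearMap.range_eq_top]
  exact Submodule.Quotient.subsingleton_iff.1 hQ

theorem bijective_of_fibres (ψ : P →ₗ[R] P)
    (h : ∀ p : PrimeSpectrum R, Function.Surjective (ψ.baseChange p.asIdeal.ResidueField)) :
    Function.Bijective ψ :=
  ⟨OrzechProperty.injective_of_surjective_endomorphism ψ (surjective_of_fibres ψ h),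
    surjective_of_fibres ψ h⟩

end SurjFibres

section NilFibres

variable {R : Type u} [CommRing R] {P : Type u} [AddCommGroup P] [Module R P] [Module.Finite R P]
  [Module.Projective R P]

theorem sandwich_pow {n : ℕ} (f : (Fin n → R) →ₗ[R] P) (g : P →ₗ[R] (Fin n → R))
    (hfg : f ∘ₗ g = LinearMap.id) (φ : Module.End R P) (m : ℕ) :
    (g ∘ₗ φ ∘ₗ f : Module.End R (Fin n → R)) ^ (m + 1) = g ∘ₗ (φ ^ (m + 1)) ∘ₗ f := by
  induction m with
  | zero => simp
  | succ m ih =>
    rw [pow_succ, ih]
    apply LinearMap.ext
    intro v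
    have h1 : ∀ w, f (g w) = w := fun w => LinearMap.congr_fun hfg w
    simp only [Module.End.mul_apply, LinearMap.comp_apply, h1]
    rw [pow_succ (φ) (m + 1), Module.End.mul_apply]

theorem isNilpotent_of_sandwich {n : ℕ} (f : (Fin n → R) →ₗ[R] P) (g : P →ₗ[R] (Fin n → R))
    (hfg : f ∘ₗ g = LinearMap.id) (φ : Module.End R P)
    (h : IsNilpotent (g ∘ₗ φ ∘ₗ f : Module.End R (Fin n → R))) : IsNilpotent φ := by
  obtain ⟨N, hN⟩ := h
  refine ⟨N + 1, ?_⟩
  have h0 : (g ∘ₗ φ ∘ₗ f : Module.End R (Fin n → R)) ^ (N + 1) = 0 := by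
    rw [pow_succ, hN, zero_mul]
  rw [sandwich_pow f g hfg] at h0
  have h1 : ∀ w, f (g w) = w := fun w => LinearMap.congr_fun hfg w
  apply LinearMap.ext
  intro w
  have h2 := LinearMap.congr_fun h0 (g w)
  simp only [LinearMap.comp_apply, h1, LinearMap.zero_apply] at h2
  have h3 := congrArg f h2
  rw [h1, map_zero] at h3
  rw [h3, LinearMap.zero_apply]

/-- An endomorphism of a free module of finite rank whose fibres are all nilpotent is nilpotent. -/
theorem isNilpotent_of_fibres_free {n : ℕ} (Φ : Module.End R (Fin n → R))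
    (h : ∀ p : PrimeSpectrum R, IsNilpotent (Φ.baseChange p.asIdeal.ResidueField)) :
    IsNilpotent Φ := by
  nontriviality R
  have hfr : Module.finrank R (Fin n → R) = n := Module.finrank_fin_fun R
  have hc : ∀ i < n, IsNilpotent (Φ.charpoly.coeff i) := by
    intro i hi
    rw [nilpotent_iff_mem_prime]
    intro J hJ
    have hcp := IsNilpotent.charpoly_eq_X_pow_finrank (h ⟨J, hJ⟩)
    rw [LinearMap.charpoly_baseChange] at hcp
    have h3 : Module.finrank (PrimeSpectrum.asIdeal ⟨J, hJ⟩).ResidueField
        ((PrimeSpectrum.asIdeal ⟨J, hJ⟩).ResidueField ⊗[R] (Fin n → R)) = n := by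
      rw [Module.finrank_eq_card_basis
        (Algebra.TensorProduct.basis (PrimeSpectrum.asIdeal ⟨J, hJ⟩).ResidueField
          (Pi.basisFun R (Fin n))), Fintype.card_fin]
    have h4 := congrArg (fun q => q.coeff i) hcp
    simp only [Polynomial.coeff_map, Polynomial.coeff_X_pow, h3] at h4
    rw [if_neg (by omega)] at h4
    exact Ideal.algebraMap_residueField_eq_zero.1 h4
  have hCH := LinearMap.aeval_self_charpoly Φ
  rw [Polynomial.aeval_eq_sum_range, LinearMap.charpoly_natDegree, hfr, Finset.sum_range_succ] at hCH
  have hlead : Φ.charpoly.coeff n = 1 := by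
    have := (LinearMap.charpoly_monic Φ).coeff_natDegree
    rwa [LinearMap.charpoly_natDegree, hfr] at this
  rw [hlead, one_smul] at hCH
  have hΦn : Φ ^ n = -∑ i ∈ Finset.range n, Φ.charpoly.coeff i • Φ ^ i :=
    eq_neg_of_add_eq_zero_right hCH
  have hnil : IsNilpotent (Φ ^ n) := by
    rw [hΦn]
    apply IsNilpotent.neg
    apply Commute.isNilpotent_sum
    · intro i hi
      obtain ⟨k, hk⟩ := hc i (Finset.mem_range.1 hi)
      exact ⟨k, by rw [_root_.smul_pow, hk, zero_smul]⟩
    · intro i j _ _
      exact (((Commute.refl Φ).pow_pow i j).smul_left _).smul_right _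
  exact IsNilpotent.of_pow hnil

theorem isNilpotent_of_fibres (φ : Module.End R P)
    (h : ∀ p : PrimeSpectrum R, IsNilpotent (φ.baseChange p.asIdeal.ResidueField)) :
    IsNilpotent φ := by
  obtain ⟨n, f, g, -, -, hfg⟩ := Module.Finite.exists_comp_eq_id_of_projective R P
  apply isNilpotent_of_sandwich f g hfg
  apply isNilpotent_of_fibres_free
  intro p
  obtain ⟨N, hN⟩ := h p
  refine ⟨N + 1, ?_⟩
  rw [← LinearMap.baseChange_pow, sandwich_pow f g hfg, LinearMap.baseChange_comp,
    LinearMap.baseChange_comp, LinearMap.baseChange_pow, pow_succ, hN, zero_mul,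
    LinearMap.zero_comp, LinearMap.comp_zero]

end NilFibres

section Retract

variable {R : Type*} [CommRing R] {M : Type*} [AddCommGroup M] [Module R M] (N : Submodule R M)
  [Module.Projective R (M ⧸ N)]

theorem exists_retraction : ∃ r : M →ₗ[R] N, r ∘ₗ N.subtype = LinearMap.id := by
  obtain ⟨s, hs⟩ := Module.projective_lifting_property N.mkQ LinearMap.id
    (Submodule.mkQ_surjective N)
  have hs' : ∀ q, N.mkQ (s q) = q := fun q => LinearMap.congr_fun hs q
  have hmem : ∀ x, ((LinearMap.id : M →ₗ[R] M) - s ∘ₗ N.mkQ) x ∈ N := by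
    intro x
    rw [← Submodule.Quotient.mk_eq_zero, LinearMap.sub_apply, LinearMap.id_apply,
      LinearMap.comp_apply, Submodule.Quotient.mk_sub, ← Submodule.mkQ_apply N (s _), hs',
      Submodule.mkQ_apply, sub_self]
  refine ⟨LinearMap.codRestrict N ((LinearMap.id : M →ₗ[R] M) - s ∘ₗ N.mkQ) hmem, ?_⟩
  apply LinearMap.ext
  intro x
  apply Subtype.ext
  have hx : N.mkQ (x : M) = 0 := by
    rw [Submodule.mkQ_apply, Submodule.Quotient.mk_eq_zero]
    exact x.2
  simp [hx]

theorem finite_of_projective_quotient [Module.Finite R M] : Module.Finite R N := by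
  obtain ⟨r, hr⟩ := exists_retraction N
  refine Module.Finite.of_surjective r (fun x => ⟨N.subtype x, ?_⟩)
  exact LinearMap.congr_fun hr x

theorem projective_of_projective_quotient [Module.Projective R M] : Module.Projective R N := by
  obtain ⟨r, hr⟩ := exists_retraction N
  exact Module.Projective.of_split N.subtype r hr

theorem baseChange_subtype_injective (K : Type*) [CommRing K] [Algebra R K] :
    Function.Injective (N.subtype.baseChange K) := by
  obtain ⟨r, hr⟩ := exists_retraction N
  have h : (r.baseChange K) ∘ₗ (N.subtype.baseChange K) = LinearMap.id := by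
    rw [← LinearMap.baseChange_comp, hr, LinearMap.baseChange_id]
  intro x y hxy
  have := congrArg (r.baseChange K) hxy
  rwa [← LinearMap.comp_apply, ← LinearMap.comp_apply, h] at this

end Retract

end Groth.Agent.Helper7.CartanRel
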