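import Mathlib
import Groth.Prelude.Def_W4sga3xiixivxvCartan
import Groth.Agent.Helper7.CartanRelA
import Groth.Agent.Helper7.CartanRelB
import Groth.Agent.Helper7.CartanRelF
import Groth.Agent.Helper7.CartanRelG

set_option autoImplicit false
set_option linter.unusedSectionVars false
set_option linter.unusedVariables false

/-! Relative Cartan subalgebras containing a quasi-regular element are Engel subalgebras. -/

namespace Groth.Agent.Helper7.CartanRel

open Polynomial TensorProduct LieSubalgebra LieAlgebra SGA3t2b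

universe u

section AdPow

theorem ad_pow_map' {R S C M : Type*} [CommRing R] [CommRing S] [LieRing C] [LieAlgebra R C]
    [LieRing M] [LieAlgebra S M] (j : C → M) (hj : ∀ c y, j ⁅c, y⁆ = ⁅j c, j y⁆) (c y : C) (n : ℕ) :
    ((LieAlgebra.ad S M (j c)) ^ n) (j y) = j (((LieAlgebra.ad R C c) ^ n) y) := by
  induction n with
  | zero => simp
  | succ n ih =>
    rw [pow_succ', Module.End.mul_apply, ih, pow_succ', Module.End.mul_apply, LieAlgebra.ad_apply,
      LieAlgebra.ad_apply, hj]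

theorem lie_mem_engel_imp {R M : Type*} [CommRing R] [LieRing M] [LieAlgebra R M] (x z : M)
    (h : ⁅x, z⁆ ∈ engel R x) : z ∈ engel R x := by
  rw [mem_engel_iff] at h ⊢
  obtain ⟨n, hn⟩ := h
  refine ⟨n + 1, ?_⟩
  rw [pow_succ, Module.End.mul_apply, LieAlgebra.ad_apply]
  exact hn

theorem lie_mem_engel_of_mem {R M : Type*} [CommRing R] [LieRing M] [LieAlgebra R M] (x z : M)
    (h : z ∈ engel R x) : ⁅x, z⁆ ∈ engel R x := by
  rw [mem_engel_iff] at h ⊢
  obtain ⟨n, hn⟩ := h
  refine ⟨n, ?_⟩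
  have : ((LieAlgebra.ad R M x) ^ n) ⁅x, z⁆ = (LieAlgebra.ad R M x) (((LieAlgebra.ad R M x) ^ n) z) := by
    rw [← LieAlgebra.ad_apply (R := R), ← Module.End.mul_apply, ← Module.End.mul_apply, ← pow_succ,
      ← pow_succ']
  rw [this, hn, map_zero]

end AdPow

section Rel

variable {A : Type u} [CommRing A] {L : Type u} [LieRing L] [LieAlgebra A L]

/-- The map `K ⊗ H → K ⊗ L` induced by the inclusion. -/
noncomputable def jmap (H : LieSubalgebra A L) (K : Type*) [CommRing K] [Algebra A K] :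
    K ⊗[A] H →ₗ[K] K ⊗[A] L :=
  (H.incl : H →ₗ[A] L).baseChange K

theorem jmap_tmul (H : LieSubalgebra A L) (K : Type*) [CommRing K] [Algebra A K] (c : K) (h : H) :
    jmap H K (c ⊗ₜ[A] h) = c ⊗ₜ[A] (h : L) := rfl

theorem sub_add_lie (H : LieSubalgebra A L) (K : Type*) [CommRing K] [Algebra A K]
    (x₁ x₂ y : K ⊗[A] H) : ⁅x₁ + x₂, y⁆ = ⁅x₁, y⁆ + ⁅x₂, y⁆ := add_lie x₁ x₂ y

theorem sub_lie_add (H : LieSubalgebra A L) (K : Type*) [CommRing K] [Algebra A K]
    (x y₁ y₂ : K ⊗[A] H) : ⁅x, y₁ + y₂⁆ = ⁅x, y₁⁆ + ⁅x, y₂⁆ := lie_add x y₁ y₂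

theorem sub_zero_lie (H : LieSubalgebra A L) (K : Type*) [CommRing K] [Algebra A K]
    (y : K ⊗[A] H) : ⁅(0 : K ⊗[A] H), y⁆ = 0 := zero_lie y

theorem sub_lie_zero (H : LieSubalgebra A L) (K : Type*) [CommRing K] [Algebra A K]
    (x : K ⊗[A] H) : ⁅x, (0 : K ⊗[A] H)⁆ = 0 := lie_zero x

theorem jmap_lie (H : LieSubalgebra A L) (K : Type*) [CommRing K] [Algebra A K]
    (x y : K ⊗[A] H) : jmap H K ⁅x, y⁆ = ⁅jmap H K x, jmap H K y⁆ := by
  induction x using TensorProduct.induction_on with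
  | zero => rw [sub_zero_lie, map_zero, zero_lie]
  | add x₁ x₂ h₁ h₂ => rw [sub_add_lie, map_add, map_add, h₁, h₂, add_lie]
  | tmul c h =>
    induction y using TensorProduct.induction_on with
    | zero => rw [sub_lie_zero, map_zero, lie_zero]
    | add y₁ y₂ h₁ h₂ => rw [sub_lie_add, map_add, map_add, h₁, h₂, lie_add]
    | tmul d k =>
      simp only [LieAlgebra.ExtendScalars.bracket_tmul, jmap_tmul, LieSubalgebra.coe_bracket]

theorem range_jmap (H : LieSubalgebra A L) (p : PrimeSpectrum A) :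
    LinearMap.range (jmap H p.asIdeal.ResidueField) = fibreSubmodule p H := rfl

variable [Module.Finite A L]

theorem fibreSubmodule_le_engel (H : LieSubalgebra A L) (p : PrimeSpectrum A)
    (hnil : LieRing.IsNilpotent (p.asIdeal.ResidueField ⊗[A] H)) (a : L) (ha : a ∈ H) :
    fibreSubmodule p H ≤
      (engel p.asIdeal.ResidueField ((1 : p.asIdeal.ResidueField) ⊗ₜ[A] a)).toSubmodule := by
  rw [← range_jmap]
  rintro _ ⟨y, rfl⟩
  show jmap H p.asIdeal.ResidueField y ∈ engel p.asIdeal.ResidueField _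
  have h1 : (1 : p.asIdeal.ResidueField) ⊗ₜ[A] a =
      jmap H p.asIdeal.ResidueField ((1 : p.asIdeal.ResidueField) ⊗ₜ[A] (⟨a, ha⟩ : H)) := rfl
  rw [h1, mem_engel_iff]
  obtain ⟨n, hn⟩ := LieModule.isNilpotent_toEnd_of_isNilpotent p.asIdeal.ResidueField
    (p.asIdeal.ResidueField ⊗[A] H) (p.asIdeal.ResidueField ⊗[A] H)
    ((1 : p.asIdeal.ResidueField) ⊗ₜ[A] (⟨a, ha⟩ : H))
  refine ⟨n, ?_⟩
  rw [ad_pow_map' (R := p.asIdeal.ResidueField) (jmap H p.asIdeal.ResidueField)
    (jmap_lie H p.asIdeal.ResidueField)]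
  have : (LieAlgebra.ad p.asIdeal.ResidueField (p.asIdeal.ResidueField ⊗[A] H)
      ((1 : p.asIdeal.ResidueField) ⊗ₜ[A] (⟨a, ha⟩ : H))) ^ n = 0 := hn
  rw [this, LinearMap.zero_apply, map_zero]

theorem fibreSubmodule_eq_engel (H : LieSubalgebra A L) (hH : IsCartanRel H)
    (p : PrimeSpectrum A) (a : L) (ha : a ∈ H)
    (hreg : LieAlgebra.IsRegular p.asIdeal.ResidueField ((1 : p.asIdeal.ResidueField) ⊗ₜ[A] a)) :
    fibreSubmodule p H =
      (engel p.asIdeal.ResidueField ((1 : p.asIdeal.ResidueField) ⊗ₜ[A] a)).toSubmodule := by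
  apply Submodule.eq_of_le_of_finrank_eq (fibreSubmodule_le_engel H p (hH.2 p).1 a ha)
  rw [(hH.2 p).2.2]
  exact ((LieAlgebra.isRegular_iff_finrank_engel_eq_rank _ _).1 hreg).symm

end Rel

section Quot

variable {A : Type u} [CommRing A] {L : Type u} [LieRing L] [LieAlgebra A L]

theorem ad_pow_one_tmul' (K : Type*) [CommRing K] [Algebra A K] (x y : L) (n : ℕ) :
    ((LieAlgebra.ad K (K ⊗[A] L) ((1 : K) ⊗ₜ[A] x)) ^ n) ((1 : K) ⊗ₜ[A] y) =
      (1 : K) ⊗ₜ[A] (((LieAlgebra.ad A L x) ^ n) y) := by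
  induction n with
  | zero => simp
  | succ n ih =>
    rw [pow_succ', Module.End.mul_apply, ih, pow_succ', Module.End.mul_apply, LieAlgebra.ad_apply,
      LieAlgebra.ExtendScalars.bracket_tmul, mul_one, LieAlgebra.ad_apply]

/-- The endomorphism of `L/H` induced by `ad a`, when `H` is stable under `ad a`. -/
noncomputable def adQuot (H : LieSubalgebra A L) (a : L) (hst : ∀ y ∈ H, ⁅a, y⁆ ∈ H) :
    Module.End A (L ⧸ H.toSubmodule) :=
  H.toSubmodule.mapQ H.toSubmodule (LieAlgebra.ad A L a : L →ₗ[A] L) (fun y hy => hst y hy)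

theorem adQuot_mk (H : LieSubalgebra A L) (a : L) (hst : ∀ y ∈ H, ⁅a, y⁆ ∈ H) (z : L) :
    adQuot H a hst (H.toSubmodule.mkQ z) = H.toSubmodule.mkQ ⁅a, z⁆ := rfl

theorem adQuot_comm (H : LieSubalgebra A L) (a : L) (hst : ∀ y ∈ H, ⁅a, y⁆ ∈ H)
    (K : Type u) [Field K] [Algebra A K] (z : K ⊗[A] L) :
    (adQuot H a hst).baseChange K (H.toSubmodule.mkQ.baseChange K z) =
      H.toSubmodule.mkQ.baseChange K ⁅(1 : K) ⊗ₜ[A] a, z⁆ := by
  have h1 : (adQuot H a hst) ∘ₗ H.toSubmodule.mkQ =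
      H.toSubmodule.mkQ ∘ₗ (LieAlgebra.ad A L a : L →ₗ[A] L) := by
    ext z
    rfl
  have h2 : ⁅(1 : K) ⊗ₜ[A] a, z⁆ = (LieAlgebra.ad A L a : L →ₗ[A] L).baseChange K z := by
    rw [← ad_baseChange, LieAlgebra.ad_apply]
  rw [← LinearMap.comp_apply, ← LinearMap.baseChange_comp, h1, LinearMap.baseChange_comp,
    LinearMap.comp_apply, h2]

theorem adQuot_pow_comm (H : LieSubalgebra A L) (a : L) (hst : ∀ y ∈ H, ⁅a, y⁆ ∈ H)
    (K : Type u) [Field K] [Algebra A K] (z : K ⊗[A] L) (n : ℕ) :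
    (((adQuot H a hst).baseChange K) ^ n) (H.toSubmodule.mkQ.baseChange K z) =
      H.toSubmodule.mkQ.baseChange K (((LieAlgebra.ad K (K ⊗[A] L) ((1 : K) ⊗ₜ[A] a)) ^ n) z) := by
  induction n with
  | zero => simp
  | succ n ih =>
    rw [pow_succ', Module.End.mul_apply, ih, adQuot_comm, pow_succ', Module.End.mul_apply,
      LieAlgebra.ad_apply]

variable [Module.Finite A L]

theorem fibreSubmodule_engel_le (a : L) (p : PrimeSpectrum A) :
    fibreSubmodule p (engel A a) ≤
      (engel p.asIdeal.ResidueField ((1 : p.asIdeal.ResidueField) ⊗ₜ[A] a)).toSubmodule := by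
  rw [← range_jmap]
  rintro _ ⟨y, rfl⟩
  induction y using TensorProduct.induction_on with
  | zero => rw [map_zero]; exact Submodule.zero_mem _
  | add y₁ y₂ h₁ h₂ => rw [map_add]; exact Submodule.add_mem _ h₁ h₂
  | tmul c h =>
    have h1 : jmap (engel A a) p.asIdeal.ResidueField (c ⊗ₜ[A] h) =
        c • ((1 : p.asIdeal.ResidueField) ⊗ₜ[A] (h : L)) := by
      rw [jmap_tmul, TensorProduct.smul_tmul', smul_eq_mul, mul_one]
    rw [h1]
    apply Submodule.smul_mem
    show _ ∈ engel p.asIdeal.ResidueField _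
    obtain ⟨n, hn⟩ := (mem_engel_iff A a (h : L)).1 h.2
    rw [mem_engel_iff]
    exact ⟨n, by rw [ad_pow_one_tmul', hn, TensorProduct.tmul_zero]⟩

theorem adQuot_engel_bijective (a : L)
    (hinj : ∀ z : L, ⁅a, z⁆ ∈ engel A a → z ∈ engel A a)
    (hsurj : ∀ y : L, ∃ z : L, ⁅a, z⁆ - y ∈ engel A a) :
    Function.Bijective (adQuot (engel A a) a (fun y hy => lie_mem_engel_of_mem a y hy)) := by
  constructor
  · rw [injective_iff_map_eq_zero]
    intro w hw
    obtain ⟨z, rfl⟩ := Submodule.mkQ_surjective _ w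
    rw [adQuot_mk, Submodule.mkQ_apply, Submodule.Quotient.mk_eq_zero] at hw
    rw [Submodule.mkQ_apply, Submodule.Quotient.mk_eq_zero]
    exact hinj z hw
  · intro w
    obtain ⟨y, rfl⟩ := Submodule.mkQ_surjective _ w
    obtain ⟨z, hz⟩ := hsurj y
    refine ⟨(engel A a).toSubmodule.mkQ z, ?_⟩
    rw [adQuot_mk, ← sub_eq_zero, ← map_sub, Submodule.mkQ_apply, Submodule.Quotient.mk_eq_zero]
    exact hz

theorem fibreSubmodule_engel_ge (a : L)
    (hinj : ∀ z : L, ⁅a, z⁆ ∈ engel A a → z ∈ engel A a)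
    (hsurj : ∀ y : L, ∃ z : L, ⁅a, z⁆ - y ∈ engel A a) (p : PrimeSpectrum A) :
    (engel p.asIdeal.ResidueField ((1 : p.asIdeal.ResidueField) ⊗ₜ[A] a)).toSubmodule ≤
      fibreSubmodule p (engel A a) := by
  intro z hz
  obtain ⟨n, hn⟩ := (mem_engel_iff _ _ _).1 hz
  have hbij := adQuot_engel_bijective a hinj hsurj
  let e := (LinearEquiv.ofBijective _ hbij).baseChange A p.asIdeal.ResidueField
  have hinj' : Function.Injective
      ((adQuot (engel A a) a (fun y hy => lie_mem_engel_of_mem a y hy)).baseChange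
        p.asIdeal.ResidueField) := e.injective
  have hpow : Function.Injective
      (((adQuot (engel A a) a (fun y hy => lie_mem_engel_of_mem a y hy)).baseChange
        p.asIdeal.ResidueField) ^ n) := by
    rw [Module.End.coe_pow]
    exact hinj'.iterate n
  have h0 := adQuot_pow_comm (engel A a) a (fun y hy => lie_mem_engel_of_mem a y hy)
    p.asIdeal.ResidueField z n
  rw [hn, map_zero] at h0
  have h1 : (engel A a).toSubmodule.mkQ.baseChange p.asIdeal.ResidueField z = 0 :=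
    hpow (by rw [h0, map_zero])
  show z ∈ (engel A a).toSubmodule.baseChange p.asIdeal.ResidueField
  rw [← ker_mkQ_baseChange]
  exact h1

theorem fibreSubmodule_engel (a : L)
    (hinj : ∀ z : L, ⁅a, z⁆ ∈ engel A a → z ∈ engel A a)
    (hsurj : ∀ y : L, ∃ z : L, ⁅a, z⁆ - y ∈ engel A a) (p : PrimeSpectrum A) :
    fibreSubmodule p (engel A a) =
      (engel p.asIdeal.ResidueField ((1 : p.asIdeal.ResidueField) ⊗ₜ[A] a)).toSubmodule :=
  le_antisymm (fibreSubmodule_engel_le a p) (fibreSubmodule_engel_ge a hinj hsurj p)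

end Quot

section CartanFacts

variable {A : Type u} [CommRing A] {L : Type u} [LieRing L] [LieAlgebra A L] [Module.Finite A L]
  [Module.Projective A L]

theorem adQuot_bijective (H : LieSubalgebra A L) (hH : IsCartanRel H) (a : L) (ha : a ∈ H)
    (hqr : IsQuasiRegular A L a) :
    Function.Bijective (adQuot H a (fun y hy => H.lie_mem ha hy)) := by
  apply bijective_of_fibres
  intro p
  have hinj : Function.Injective ((adQuot H a (fun y hy => H.lie_mem ha hy)).baseChange
      p.asIdeal.ResidueField) := by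
    rw [injective_iff_map_eq_zero]
    intro w hw
    obtain ⟨z, rfl⟩ := mkQ_baseChange_surjective H.toSubmodule p.asIdeal.ResidueField w
    rw [adQuot_comm] at hw
    have h1 : ⁅(1 : p.asIdeal.ResidueField) ⊗ₜ[A] a, z⁆ ∈ fibreSubmodule p H := by
      show _ ∈ H.toSubmodule.baseChange p.asIdeal.ResidueField
      rw [← ker_mkQ_baseChange]
      exact hw
    rw [fibreSubmodule_eq_engel H hH p a ha (hqr p)] at h1
    have h2 : z ∈ (engel p.asIdeal.ResidueField
        ((1 : p.asIdeal.ResidueField) ⊗ₜ[A] a)).toSubmodule := lie_mem_engel_imp _ _ h1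
    rw [← fibreSubmodule_eq_engel H hH p a ha (hqr p)] at h2
    have h3 : z ∈ H.toSubmodule.baseChange p.asIdeal.ResidueField := h2
    rw [← ker_mkQ_baseChange] at h3
    exact h3
  exact LinearMap.injective_iff_surjective.1 hinj

theorem lie_mem_imp_of_isCartanRel (H : LieSubalgebra A L) (hH : IsCartanRel H) (a : L)
    (ha : a ∈ H) (hqr : IsQuasiRegular A L a) (z : L) (hz : ⁅a, z⁆ ∈ H) : z ∈ H := by
  have hbij := adQuot_bijective H hH a ha hqr
  have h1 : adQuot H a (fun y hy => H.lie_mem ha hy) (H.toSubmodule.mkQ z) = 0 := by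
    rw [adQuot_mk, Submodule.mkQ_apply, Submodule.Quotient.mk_eq_zero]
    exact hz
  have h2 := hbij.1 (h1.trans (map_zero _).symm)
  rw [Submodule.mkQ_apply, Submodule.Quotient.mk_eq_zero] at h2
  exact h2

theorem exists_lie_sub_mem_of_isCartanRel (H : LieSubalgebra A L) (hH : IsCartanRel H) (a : L)
    (ha : a ∈ H) (hqr : IsQuasiRegular A L a) (y : L) : ∃ z : L, ⁅a, z⁆ - y ∈ H := by
  have hbij := adQuot_bijective H hH a ha hqr
  obtain ⟨w, hw⟩ := hbij.2 (H.toSubmodule.mkQ y)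
  obtain ⟨z, rfl⟩ := Submodule.mkQ_surjective _ w
  refine ⟨z, ?_⟩
  rw [adQuot_mk, ← sub_eq_zero, ← map_sub, Submodule.mkQ_apply, Submodule.Quotient.mk_eq_zero]
    at hw
  exact hw

theorem engel_le_of_isCartanRel (H : LieSubalgebra A L) (hH : IsCartanRel H) (a : L)
    (ha : a ∈ H) (hqr : IsQuasiRegular A L a) : engel A a ≤ H := by
  intro y hy
  obtain ⟨n, hn⟩ := (mem_engel_iff A a y).1 hy
  induction n generalizing y with
  | zero =>
    have : y = 0 := hn
    rw [this]
    exact H.zero_mem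
  | succ n ih =>
    apply lie_mem_imp_of_isCartanRel H hH a ha hqr
    apply ih
    · exact lie_mem_engel_of_mem a y hy
    · rw [← hn, pow_succ, Module.End.mul_apply, LieAlgebra.ad_apply]

theorem le_engel_of_isCartanRel (H : LieSubalgebra A L) (hH : IsCartanRel H) (a : L)
    (ha : a ∈ H) : H ≤ engel A a := by
  haveI : Module.Projective A (L ⧸ H.toSubmodule) := hH.1
  haveI : Module.Finite A H := finite_of_projective_quotient H.toSubmodule
  haveI : Module.Projective A H := projective_of_projective_quotient H.toSubmodule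
  have hnil : IsNilpotent (LieAlgebra.ad A H ⟨a, ha⟩ : Module.End A H) := by
    apply isNilpotent_of_fibres
    intro p
    haveI : LieRing.IsNilpotent (p.asIdeal.ResidueField ⊗[A] H) := (hH.2 p).1
    have h1 := LieModule.isNilpotent_toEnd_of_isNilpotent p.asIdeal.ResidueField
      (p.asIdeal.ResidueField ⊗[A] H) (p.asIdeal.ResidueField ⊗[A] H)
      ((1 : p.asIdeal.ResidueField) ⊗ₜ[A] (⟨a, ha⟩ : H))
    rw [LieModule.toEnd_baseChange] at h1
    exact h1
  obtain ⟨N, hN⟩ := hnil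
  intro h hh
  rw [mem_engel_iff]
  refine ⟨N, ?_⟩
  have := LieSubalgebra.coe_ad_pow (R := A) (L := L) H (⟨a, ha⟩ : H) (⟨h, hh⟩ : H) N
  rw [hN, LinearMap.zero_apply] at this
  exact this.symm

theorem eq_engel_of_isCartanRel (H : LieSubalgebra A L) (hH : IsCartanRel H) (a : L)
    (ha : a ∈ H) (hqr : IsQuasiRegular A L a) : H = engel A a :=
  le_antisymm (le_engel_of_isCartanRel H hH a ha) (engel_le_of_isCartanRel H hH a ha hqr)

theorem isCartanRel_engel (a : L) (hqr : IsQuasiRegular A L a)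
    (hproj : Module.Projective A (L ⧸ (engel A a).toSubmodule))
    (hinj : ∀ z : L, ⁅a, z⁆ ∈ engel A a → z ∈ engel A a)
    (hsurj : ∀ y : L, ∃ z : L, ⁅a, z⁆ - y ∈ engel A a) : IsCartanRel (engel A a) := by
  refine ⟨hproj, fun p => ?_⟩
  have hfib := fibreSubmodule_engel a hinj hsurj p
  have hreg := hqr p
  refine ⟨?_, ?_, ?_⟩
  · haveI := hproj
    haveI : Module.Finite A (engel A a) := finite_of_projective_quotient (engel A a).toSubmodule
    have hjinj : Function.Injective (jmap (engel A a) p.asIdeal.ResidueField) :=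
      baseChange_subtype_injective (engel A a).toSubmodule p.asIdeal.ResidueField
    rw [LieAlgebra.isNilpotent_iff_forall (R := p.asIdeal.ResidueField)]
    intro x
    rw [Module.End.isNilpotent_iff_of_finite]
    intro y
    have hjx : jmap (engel A a) p.asIdeal.ResidueField x ∈
        engel p.asIdeal.ResidueField ((1 : p.asIdeal.ResidueField) ⊗ₜ[A] a) := by
      rw [← LieSubalgebra.mem_toSubmodule, ← hfib, ← range_jmap]
      exact ⟨x, rfl⟩
    have hjy : jmap (engel A a) p.asIdeal.ResidueField y ∈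
        engel p.asIdeal.ResidueField ((1 : p.asIdeal.ResidueField) ⊗ₜ[A] a) := by
      rw [← LieSubalgebra.mem_toSubmodule, ← hfib, ← range_jmap]
      exact ⟨y, rfl⟩
    haveI := isNilpotent_engel_of_isRegular hreg
    have hmem := map_mem_engel_of_isNilpotent (R := p.asIdeal.ResidueField)
      (engel p.asIdeal.ResidueField ((1 : p.asIdeal.ResidueField) ⊗ₜ[A] a)).incl
      ⟨_, hjx⟩ ⟨_, hjy⟩
    obtain ⟨n, hn⟩ := (mem_engel_iff _ _ _).1 hmem
    refine ⟨n, hjinj ?_⟩
    rw [map_zero, ← ad_pow_map' (R := p.asIdeal.ResidueField) (S := p.asIdeal.ResidueField)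
      (jmap (engel A a) p.asIdeal.ResidueField) (jmap_lie (engel A a) p.asIdeal.ResidueField)]
    exact hn
  · intro x hx
    rw [hfib] at hx ⊢
    have : x ∈ (engel p.asIdeal.ResidueField
        ((1 : p.asIdeal.ResidueField) ⊗ₜ[A] a)).normalizer := by
      rw [LieSubalgebra.mem_normalizer_iff]
      exact hx
    rwa [LieSubalgebra.normalizer_engel] at this
  · rw [hfib]
    exact (LieAlgebra.isRegular_iff_finrank_engel_eq_rank _ _).1 hreg

theorem cartan_main (a : L) (ha : IsQuasiRegular A L a) :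
    (∀ H : LieSubalgebra A L, IsCartanRel H → a ∈ H → H = engel A a) ∧
    ((∃ H : LieSubalgebra A L, IsCartanRel H ∧ a ∈ H) ↔
      (Module.Projective A (L ⧸ (engel A a).toSubmodule) ∧
        (∀ z : L, ⁅a, z⁆ ∈ engel A a → z ∈ engel A a) ∧
        (∀ y : L, ∃ z : L, ⁅a, z⁆ - y ∈ engel A a))) := by
  refine ⟨fun H hH haH => eq_engel_of_isCartanRel H hH a haH ha, ?_, ?_⟩
  · rintro ⟨H, hH, haH⟩
    have hE := eq_engel_of_isCartanRel H hH a haH ha
    subst hE
    exact ⟨hH.1, lie_mem_imp_of_isCartanRel _ hH a haH ha,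
      exists_lie_sub_mem_of_isCartanRel _ hH a haH ha⟩
  · rintro ⟨hproj, hinj, hsurj⟩
    exact ⟨engel A a, isCartanRel_engel a ha hproj hinj hsurj, self_mem_engel A a⟩

end CartanFacts

end Groth.Agent.Helper7.CartanRel
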