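import Mathlib
import Groth.Prelude.Def_W4sga3xiixivxvCartan
import Groth.Agent.Helper7.CartanRelB
import Groth.Agent.Helper7.CartanRelH

set_option autoImplicit false
set_option linter.unusedSectionVars false
set_option linter.unusedVariables false

/-! Automorphisms and relative Cartan subalgebras. -/

namespace Groth.Agent.Helper7.CartanRel

open Polynomial TensorProduct LieSubalgebra LieAlgebra SGA3t2b

universe u

section Auto

variable {A : Type u} [CommRing A] {L : Type u} [LieRing L] [LieAlgebra A L]

theorem baseChange_lieEquiv_lie (u : L ≃ₗ⁅A⁆ L) (K : Type*) [CommRing K] [Algebra A K]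
    (x y : K ⊗[A] L) :
    (u.toLinearEquiv.baseChange A K) ⁅x, y⁆ =
      ⁅(u.toLinearEquiv.baseChange A K) x, (u.toLinearEquiv.baseChange A K) y⁆ := by
  induction x using TensorProduct.induction_on with
  | zero => simp
  | add x₁ x₂ h₁ h₂ => simp only [add_lie, map_add, h₁, h₂]
  | tmul c l =>
    induction y using TensorProduct.induction_on with
    | zero => simp
    | add y₁ y₂ h₁ h₂ => simp only [lie_add, map_add, h₁, h₂]
    | tmul d m =>
      simp only [LieAlgebra.ExtendScalars.bracket_tmul, LinearEquiv.baseChange_tmul]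
      have : u.toLinearEquiv ⁅l, m⁆ = ⁅u.toLinearEquiv l, u.toLinearEquiv m⁆ :=
        LieEquiv.map_lie u l m
      rw [this]

theorem engel_map (u : L ≃ₗ⁅A⁆ L) (a : L) :
    (engel A a).map u.toLieHom = engel A (u a) := by
  ext y
  rw [LieSubalgebra.mem_map]
  constructor
  · rintro ⟨x, hx, rfl⟩
    obtain ⟨n, hn⟩ := (mem_engel_iff A a x).1 hx
    rw [mem_engel_iff]
    refine ⟨n, ?_⟩
    have := ad_pow_map' (R := A) (S := A) (fun z => u z) (fun c z => LieEquiv.map_lie u c z) a x n
    show ((LieAlgebra.ad A L (u a)) ^ n) (u x) = 0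
    rw [this, hn, map_zero]
  · intro hy
    obtain ⟨n, hn⟩ := (mem_engel_iff A (u a) y).1 hy
    refine ⟨u.symm y, ?_, LieEquiv.apply_symm_apply u y⟩
    rw [mem_engel_iff]
    refine ⟨n, ?_⟩
    have := ad_pow_map' (R := A) (S := A) (fun z => u z) (fun c z => LieEquiv.map_lie u c z) a
      (u.symm y) n
    simp only [LieEquiv.apply_symm_apply] at this
    rw [hn] at this
    exact u.injective (this.symm.trans (map_zero u).symm)

variable [Module.Finite A L] [Module.Projective A L]

theorem isQuasiRegular_map (u : L ≃ₗ⁅A⁆ L) (a : L) (hqr : IsQuasiRegular A L a) :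
    IsQuasiRegular A L (u a) := by
  intro p
  have h := (isRegular_equiv (u.toLinearEquiv.baseChange A p.asIdeal.ResidueField)
    (baseChange_lieEquiv_lie u p.asIdeal.ResidueField)
    ((1 : p.asIdeal.ResidueField) ⊗ₜ[A] a)).2 (hqr p)
  rw [LinearEquiv.baseChange_tmul] at h
  exact h

theorem map_eq_iff (H : LieSubalgebra A L) (hH : IsCartanRel H) (a : L) (haH : a ∈ H)
    (ha : IsQuasiRegular A L a) (u : L ≃ₗ⁅A⁆ L) :
    H.map u.toLieHom = H ↔ u a ∈ H := by
  constructor
  · intro h
    rw [← h, LieSubalgebra.mem_map]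
    exact ⟨a, haH, rfl⟩
  · intro hua
    have h1 := eq_engel_of_isCartanRel H hH a haH ha
    have h2 := eq_engel_of_isCartanRel H hH (u a) hua (isQuasiRegular_map u a ha)
    calc H.map u.toLieHom = (engel A a).map u.toLieHom := by rw [← h1]
      _ = engel A (u a) := engel_map u a
      _ = H := h2.symm

end Auto

end Groth.Agent.Helper7.CartanRel
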