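import Mathlib
import Groth.Agent.Helper7.CartanRelA
import Groth.Agent.Helper7.CartanRelG

set_option autoImplicit false
set_option linter.unusedSectionVars false
set_option linter.unusedVariables false

/-! Fitting decomposition in families. -/

namespace Groth.Agent.Helper7.CartanRel

open Polynomial TensorProduct

universe u

section PolyForm

variable {R : Type*} [CommRing R] {P : Type*} [AddCommGroup P] [Module R P]

theorem isCoprime_X_pow_of_isUnit_coeff_zero (F : R[X]) (hF : IsUnit (F.coeff 0)) (n : ℕ) :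
    IsCoprime (X ^ n : R[X]) F := by
  apply IsCoprime.pow_left
  obtain ⟨u, hu⟩ := hF
  refine ⟨-(C (↑u⁻¹ : R) * F.divX), C (↑u⁻¹ : R), ?_⟩
  have h := Polynomial.divX_mul_X_add F
  have h' : F - F.divX * X = C (F.coeff 0) := by
    rw [sub_eq_iff_eq_add, add_comm]
    exact h.symm
  calc -(C (↑u⁻¹ : R) * F.divX) * X + C (↑u⁻¹ : R) * F
      = C (↑u⁻¹ : R) * (F - F.divX * X) := by ring
    _ = C (↑u⁻¹ : R) * C (F.coeff 0) := by rw [h']
    _ = 1 := by rw [← C_mul, ← hu, Units.inv_mul, C_1]

variable (φ : Module.End R P) (E : Submodule R P) (hE : ∀ y, y ∈ E ↔ ∃ n : ℕ, (φ ^ n) y = 0)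
  (N : ℕ) (F : R[X]) (h0 : aeval φ (X ^ (N + 1) * F) = 0) (hF : IsUnit (F.coeff 0))

include hE h0 hF

theorem fd_exists_lie_sub (y : P) : ∃ z : P, φ z - y ∈ E := by
  obtain ⟨U, V, hUV⟩ := isCoprime_X_pow_of_isUnit_coeff_zero F hF (N + 1)
  refine ⟨aeval φ (U * X ^ N) y, ?_⟩
  have h1 : y = aeval φ (U * X ^ (N + 1)) y + aeval φ (V * F) y := by
    rw [← LinearMap.add_apply, ← map_add, hUV, map_one, Module.End.one_apply]
  have h2 : φ (aeval φ (U * X ^ N) y) = aeval φ (U * X ^ (N + 1)) y := by
    rw [show U * X ^ (N + 1) = X * (U * X ^ N) by ring, map_mul (aeval φ) X (U * X ^ N), aeval_X,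
      Module.End.mul_apply]
  rw [hE]
  refine ⟨N + 1, ?_⟩
  have h3 : φ (aeval φ (U * X ^ N) y) - y = -(aeval φ (V * F) y) := by
    rw [h2]
    nth_rewrite 2 [h1]
    abel
  rw [h3, map_neg, neg_eq_zero]
  have h4 : (φ ^ (N + 1)) (aeval φ (V * F) y) = aeval φ (V * (X ^ (N + 1) * F)) y := by
    rw [show V * (X ^ (N + 1) * F) = X ^ (N + 1) * (V * F) by ring,
      map_mul (aeval φ) (X ^ (N + 1)) (V * F), map_pow, aeval_X, Module.End.mul_apply]
  rw [h4, map_mul, h0, mul_zero, LinearMap.zero_apply]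

theorem fd_projective_quot [Module.Projective R P] : Module.Projective R (P ⧸ E) := by
  obtain ⟨U, V, hUV⟩ := isCoprime_X_pow_of_isUnit_coeff_zero F hF (N + 1)
  have hB : ∀ y ∈ E, aeval φ (U * X ^ (N + 1)) y = 0 := by
    intro y hy
    obtain ⟨n, hn⟩ := (hE y).1 hy
    obtain ⟨U', V', hUV'⟩ := isCoprime_X_pow_of_isUnit_coeff_zero F hF n
    have e : aeval φ (U * X ^ (N + 1)) y =
        aeval φ (U' * X ^ n) (aeval φ (U * X ^ (N + 1)) y) +
          aeval φ (V' * F) (aeval φ (U * X ^ (N + 1)) y) := by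
      rw [← LinearMap.add_apply, ← map_add, hUV', map_one, Module.End.one_apply]
    have e1 : aeval φ (U' * X ^ n) (aeval φ (U * X ^ (N + 1)) y) = 0 := by
      rw [← Module.End.mul_apply, ← map_mul,
        show U' * X ^ n * (U * X ^ (N + 1)) = (U' * U * X ^ (N + 1)) * X ^ n by ring,
        map_mul (aeval φ) (U' * U * X ^ (N + 1)) (X ^ n), Module.End.mul_apply, map_pow, aeval_X,
        hn, map_zero]
    have e2 : aeval φ (V' * F) (aeval φ (U * X ^ (N + 1)) y) = 0 := by
      rw [← Module.End.mul_apply, ← map_mul,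
        show V' * F * (U * X ^ (N + 1)) = (V' * U) * (X ^ (N + 1) * F) by ring,
        map_mul (aeval φ) (V' * U) (X ^ (N + 1) * F), h0, mul_zero, LinearMap.zero_apply]
    rw [e, e1, e2, add_zero]
  let s : P ⧸ E →ₗ[R] P := E.liftQ (aeval φ (U * X ^ (N + 1)))
    (fun y hy => LinearMap.mem_ker.2 (hB y hy))
  apply Module.Projective.of_split s E.mkQ
  apply LinearMap.ext
  intro q
  obtain ⟨y, rfl⟩ := Submodule.mkQ_surjective E q
  show E.mkQ (aeval φ (U * X ^ (N + 1)) y) = E.mkQ y
  rw [← sub_eq_zero, ← map_sub, Submodule.mkQ_apply, Submodule.Quotient.mk_eq_zero, hE]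
  refine ⟨N + 1, ?_⟩
  have h1 : y = aeval φ (U * X ^ (N + 1)) y + aeval φ (V * F) y := by
    rw [← LinearMap.add_apply, ← map_add, hUV, map_one, Module.End.one_apply]
  have h3 : aeval φ (U * X ^ (N + 1)) y - y = -(aeval φ (V * F) y) := by
    nth_rewrite 2 [h1]
    abel
  rw [h3, map_neg, neg_eq_zero]
  have h4 : (φ ^ (N + 1)) (aeval φ (V * F) y) = aeval φ (V * (X ^ (N + 1) * F)) y := by
    rw [show V * (X ^ (N + 1) * F) = X ^ (N + 1) * (V * F) by ring,
      map_mul (aeval φ) (X ^ (N + 1)) (V * F), map_pow, aeval_X, Module.End.mul_apply]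
  rw [h4, map_mul, h0, mul_zero, LinearMap.zero_apply]

end PolyForm

section PolyA

variable {R : Type*} [CommRing R]

theorem coeff_iterate_divX (χ : R[X]) (j i : ℕ) :
    (Polynomial.divX^[j] χ).coeff i = χ.coeff (i + j) := by
  induction j generalizing i with
  | zero => simp
  | succ j ih =>
    rw [Function.iterate_succ_apply', Polynomial.coeff_divX, ih, add_assoc, add_comm 1 j]

theorem coeff_sub_X_pow_mul_iterate_divX (χ : R[X]) (j i : ℕ) :
    (χ - X ^ j * Polynomial.divX^[j] χ).coeff i = if i < j then χ.coeff i else 0 := by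
  rw [Polynomial.coeff_sub, Polynomial.coeff_X_pow_mul', coeff_iterate_divX]
  by_cases h : j ≤ i
  · rw [if_pos h, if_neg (by omega), Nat.sub_add_cancel h, sub_self]
  · rw [if_neg h, if_pos (by omega), sub_zero]

theorem exists_poly_of_locConst (χ : R[X]) (n : ℕ) (m : PrimeSpectrum R → ℕ)
    (hm : IsLocallyConstant m) (hmn : ∀ p, m p ≤ n)
    (M1 : ∀ p i, i < m p → χ.coeff i ∈ p.asIdeal) (M2 : ∀ p, χ.coeff (m p) ∉ p.asIdeal) :
    ∃ (k : ℕ) (F₂ : R[X]), IsUnit (F₂.coeff 0) ∧ χ ∣ (X ^ n * F₂) ^ k := by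
  classical
  choose e he_idem he_eq using fun j : ℕ =>
    PrimeSpectrum.exists_idempotent_basicOpen_eq_of_isClopen (hm.isClopen_fiber j)
  have he : ∀ (p : PrimeSpectrum R) (j : ℕ), e j ∉ p.asIdeal ↔ m p = j := by
    intro p j
    have h1 : m p = j ↔ p ∈ (PrimeSpectrum.basicOpen (e j) : Set (PrimeSpectrum R)) :=
      Set.ext_iff.1 (he_eq j) p
    rw [h1]
    exact (PrimeSpectrum.mem_basicOpen (e j) p).symm
  set F₂ : R[X] := ∑ j ∈ Finset.range (n + 1), C (e j) * Polynomial.divX^[j] χ with hF₂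
  set G : R[X] := ∑ j ∈ Finset.range (n + 1),
    X ^ (n - j) * (C (e j) * (χ - X ^ j * Polynomial.divX^[j] χ)) with hG
  set W : R[X] := ∑ j ∈ Finset.range (n + 1), C (e j) * X ^ (n - j) with hW
  have hident : X ^ n * F₂ + G = W * χ := by
    rw [hF₂, hG, hW, Finset.mul_sum, ← Finset.sum_add_distrib, Finset.sum_mul]
    apply Finset.sum_congr rfl
    intro j hj
    have hjn : j ≤ n := Nat.lt_succ_iff.1 (Finset.mem_range.1 hj)
    have : (X : R[X]) ^ n = X ^ (n - j) * X ^ j := by rw [← pow_add, Nat.sub_add_cancel hjn]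
    rw [this]
    ring
  have hGnil : IsNilpotent G := by
    rw [hG]
    apply isNilpotent_sum
    intro j hj
    apply Commute.isNilpotent_mul_left (Commute.all _ _)
    rw [Polynomial.isNilpotent_iff]
    intro i
    rw [Polynomial.coeff_C_mul, coeff_sub_X_pow_mul_iterate_divX, nilpotent_iff_mem_prime]
    intro J hJ
    by_cases hmj : m ⟨J, hJ⟩ = j
    · by_cases hij : i < j
      · rw [if_pos hij]
        exact Ideal.mul_mem_left _ _ (M1 ⟨J, hJ⟩ i (by omega))
      · rw [if_neg hij, mul_zero]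
        exact J.zero_mem
    · have : e j ∈ J := by
        by_contra hcon
        exact hmj ((he ⟨J, hJ⟩ j).1 hcon)
      exact Ideal.mul_mem_right _ _ this
  have hunit : IsUnit (F₂.coeff 0) := by
    have hc : F₂.coeff 0 = ∑ j ∈ Finset.range (n + 1), e j * χ.coeff j := by
      rw [hF₂, Polynomial.finsetSum_coeff]
      apply Finset.sum_congr rfl
      intro j _
      rw [Polynomial.coeff_C_mul, coeff_iterate_divX, zero_add]
    by_contra hnu
    obtain ⟨M, hM, hmem⟩ := exists_max_ideal_of_mem_nonunits hnu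
    set p : PrimeSpectrum R := ⟨M, hM.isPrime⟩ with hp
    have hj0 : m p ∈ Finset.range (n + 1) := Finset.mem_range.2 (Nat.lt_succ_iff.2 (hmn p))
    rw [hc, ← Finset.add_sum_erase _ _ hj0] at hmem
    have hrest : ∑ j ∈ (Finset.range (n + 1)).erase (m p), e j * χ.coeff j ∈ M := by
      apply Ideal.sum_mem
      intro j hj
      have hne : m p ≠ j := fun h => (Finset.ne_of_mem_erase hj) h.symm
      have : e j ∈ p.asIdeal := by
        by_contra hcon
        exact hne ((he p j).1 hcon)
      exact Ideal.mul_mem_right _ _ this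
    have h1 : e (m p) * χ.coeff (m p) ∈ M := (Ideal.add_mem_iff_left M hrest).1 hmem
    rcases hM.isPrime.mem_or_mem h1 with h2 | h2
    · exact (he p (m p)).2 rfl h2
    · exact M2 p h2
  obtain ⟨k, hk⟩ := hGnil
  refine ⟨k, F₂, hunit, ?_⟩
  have h1 : X ^ n * F₂ = W * χ - G := by rw [← hident]; ring
  rw [← Ideal.mem_span_singleton, ← Ideal.Quotient.eq_zero_iff_mem, map_pow, h1, map_sub]
  have h2 : Ideal.Quotient.mk (Ideal.span {χ}) (W * χ) = 0 := by
    rw [Ideal.Quotient.eq_zero_iff_mem, Ideal.mem_span_singleton]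
    exact Dvd.intro_left W rfl
  rw [h2, zero_sub, neg_pow, ← map_pow, hk, map_zero, mul_zero]

end PolyA

section FDData

variable {R : Type u} [CommRing R] {P : Type u} [AddCommGroup P] [Module R P]
  [Module.Finite R P] [Module.Projective R P]

theorem finrank_ker_add' {n : ℕ} (f : (Fin n → R) →ₗ[R] P) (g : P →ₗ[R] (Fin n → R))
    (hfg : ∀ x, f (g x) = x) (q : PrimeSpectrum R) :
    Module.finrank q.asIdeal.ResidueField (LinearMap.ker (f.baseChange q.asIdeal.ResidueField)) +
      Module.rankAtStalk P q = n := by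
  have h1 : Function.Surjective (f.baseChange q.asIdeal.ResidueField) := by
    intro w
    refine ⟨(g.baseChange q.asIdeal.ResidueField) w, ?_⟩
    rw [← LinearMap.comp_apply, ← LinearMap.baseChange_comp]
    have : f ∘ₗ g = LinearMap.id := LinearMap.ext hfg
    rw [this, LinearMap.baseChange_id, LinearMap.id_apply]
  have h2 := LinearMap.finrank_range_add_finrank_ker (f.baseChange q.asIdeal.ResidueField)
  rw [LinearMap.range_eq_top.2 h1, finrank_top] at h2
  rw [Module.rankAtStalk_eq, add_comm]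
  have h3 : Module.finrank q.asIdeal.ResidueField (q.asIdeal.ResidueField ⊗[R] (Fin n → R)) = n := by
    rw [Module.finrank_eq_card_basis
      (Algebra.TensorProduct.basis q.asIdeal.ResidueField (Pi.basisFun R (Fin n))),
      Fintype.card_fin]
  exact h2.trans h3

theorem sandwich_pow_inv {n : ℕ} (f : (Fin n → R) →ₗ[R] P) (g : P →ₗ[R] (Fin n → R))
    (hfg : f ∘ₗ g = LinearMap.id) (φ : Module.End R P) (i : ℕ) :
    f ∘ₗ ((g ∘ₗ φ ∘ₗ f : Module.End R (Fin n → R)) ^ i) ∘ₗ g = φ ^ i := by
  have h1 : ∀ w, f (g w) = w := fun w => LinearMap.congr_fun hfg w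
  cases i with
  | zero =>
    apply LinearMap.ext
    intro w
    simp [h1]
  | succ i =>
    rw [sandwich_pow f g hfg]
    apply LinearMap.ext
    intro w
    simp [h1]

theorem aeval_sandwich {n : ℕ} (f : (Fin n → R) →ₗ[R] P) (g : P →ₗ[R] (Fin n → R))
    (hfg : f ∘ₗ g = LinearMap.id) (φ : Module.End R P) (H : R[X]) :
    aeval φ H = f ∘ₗ (aeval (g ∘ₗ φ ∘ₗ f : Module.End R (Fin n → R)) H) ∘ₗ g := by
  induction H using Polynomial.induction_on' with
  | add p q hp hq => rw [map_add, map_add, hp, hq, LinearMap.add_comp, LinearMap.comp_add]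
  | monomial i a =>
    rw [Polynomial.aeval_monomial, Polynomial.aeval_monomial, Algebra.algebraMap_eq_smul_one,
      Algebra.algebraMap_eq_smul_one, smul_mul_assoc, one_mul, smul_mul_assoc, one_mul,
      LinearMap.smul_comp, LinearMap.comp_smul, sandwich_pow_inv f g hfg]

theorem exists_fd_data (φ : Module.End R P)
    (hν : IsLocallyConstant (fun p : PrimeSpectrum R =>
      (φ.baseChange p.asIdeal.ResidueField).charpoly.natTrailingDegree)) :
    ∃ (N : ℕ) (F : R[X]), aeval φ (X ^ (N + 1) * F) = 0 ∧ IsUnit (F.coeff 0) := by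
  rcases subsingleton_or_nontrivial R with hR | hR
  · haveI : Subsingleton P := Module.subsingleton R P
    refine ⟨0, 1, ?_, isUnit_of_subsingleton _⟩
    apply LinearMap.ext
    intro w
    exact Subsingleton.elim _ _
  obtain ⟨n, f, g, -, -, hfg⟩ := Module.Finite.exists_comp_eq_id_of_projective R P
  have hfg' : ∀ x, f (g x) = x := fun x => LinearMap.congr_fun hfg x
  set Φ : Module.End R (Fin n → R) := g ∘ₗ φ ∘ₗ f with hΦ
  set χ := Φ.charpoly with hχ
  have hfr : Module.finrank R (Fin n → R) = n := Module.finrank_fin_fun R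
  have hdeg : χ.natDegree = n := by rw [hχ, LinearMap.charpoly_natDegree, hfr]
  have hfib : ∀ p : PrimeSpectrum R, χ.map (algebraMap R p.asIdeal.ResidueField) =
      (φ.baseChange p.asIdeal.ResidueField).charpoly *
        X ^ (Module.finrank p.asIdeal.ResidueField
          (LinearMap.ker (f.baseChange p.asIdeal.ResidueField))) := by
    intro p
    have h1 : ∀ w, (f.baseChange p.asIdeal.ResidueField)
        ((g.baseChange p.asIdeal.ResidueField) w) = w := by
      intro w
      rw [← LinearMap.comp_apply, ← LinearMap.baseChange_comp, hfg, LinearMap.baseChange_id,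
        LinearMap.id_apply]
    have h2 := charpoly_sandwich (f.baseChange p.asIdeal.ResidueField)
      (g.baseChange p.asIdeal.ResidueField) h1 (φ.baseChange p.asIdeal.ResidueField)
    rw [← LinearMap.baseChange_comp, ← LinearMap.baseChange_comp, LinearMap.charpoly_baseChange]
      at h2
    exact h2
  set kk : PrimeSpectrum R → ℕ := fun p => Module.finrank p.asIdeal.ResidueField
    (LinearMap.ker (f.baseChange p.asIdeal.ResidueField)) with hkkdef
  set m : PrimeSpectrum R → ℕ := fun p =>
    (φ.baseChange p.asIdeal.ResidueField).charpoly.natTrailingDegree + kk p with hmdef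
  have hkk : ∀ p, kk p = n - Module.rankAtStalk P p := by
    intro p
    have := finrank_ker_add' f g hfg' p
    simp only [hkkdef]
    omega
  have hm : IsLocallyConstant m := by
    haveI := Module.finitePresentation_of_projective R P
    have h1 : IsLocallyConstant kk := by
      have h0 := (Module.isLocallyConstant_rankAtStalk (R := R) (M := P)).comp (fun d => n - d)
      have : kk = (fun d => n - d) ∘ Module.rankAtStalk P := funext hkk
      rw [this]
      exact h0
    exact hν.add h1
  have hcoeff : ∀ (p : PrimeSpectrum R) (i : ℕ),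
      algebraMap R p.asIdeal.ResidueField (χ.coeff i) =
        if kk p ≤ i then (φ.baseChange p.asIdeal.ResidueField).charpoly.coeff (i - kk p) else 0 := by
    intro p i
    rw [← Polynomial.coeff_map, hfib, Polynomial.coeff_mul_X_pow']
  have M1 : ∀ (p : PrimeSpectrum R) (i : ℕ), i < m p → χ.coeff i ∈ p.asIdeal := by
    intro p i hi
    rw [← Ideal.algebraMap_residueField_eq_zero, hcoeff]
    split_ifs with h
    · apply Polynomial.coeff_eq_zero_of_lt_natTrailingDegree
      simp only [hmdef] at hi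
      omega
    · rfl
  have M2 : ∀ p : PrimeSpectrum R, χ.coeff (m p) ∉ p.asIdeal := by
    intro p
    rw [← Ideal.algebraMap_residueField_eq_zero, hcoeff]
    simp only [hmdef]
    rw [if_pos (Nat.le_add_left _ _), Nat.add_sub_cancel]
    exact Polynomial.trailingCoeff_nonzero_iff_nonzero.2 (LinearMap.charpoly_monic _).ne_zero
  have hmn : ∀ p, m p ≤ n := by
    intro p
    by_contra h
    push Not at h
    have h1 := M1 p n h
    have hlead : χ.coeff n = 1 := by
      have := (LinearMap.charpoly_monic Φ).coeff_natDegree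
      rwa [← hχ, hdeg] at this
    rw [hlead] at h1
    exact p.isPrime.ne_top ((Ideal.eq_top_iff_one _).2 h1)
  obtain ⟨k, F₂, hunit, hdvd⟩ := exists_poly_of_locConst χ n m hm hmn M1 M2
  have hCH : aeval φ χ = 0 := by
    rw [aeval_sandwich f g hfg, ← hΦ, hχ, LinearMap.aeval_self_charpoly, LinearMap.zero_comp,
      LinearMap.comp_zero]
  refine ⟨n * k, F₂ ^ k, ?_, ?_⟩
  · obtain ⟨W', hW'⟩ := hdvd
    have : X ^ (n * k + 1) * F₂ ^ k = X * (X ^ n * F₂) ^ k := by ring
    rw [this, hW', map_mul, map_mul, hCH, zero_mul, mul_zero]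
  · rw [Polynomial.coeff_zero_eq_eval_zero, Polynomial.eval_pow,
      ← Polynomial.coeff_zero_eq_eval_zero]
    exact hunit.pow k

end FDData

end Groth.Agent.Helper7.CartanRel
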