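import Mathlib
import Groth.Prelude.Def_W4sga3xiixivxvCartan
import Groth.Agent.Helper7.CartanRelA
import Groth.Agent.Helper7.CartanRelB
import Groth.Agent.Helper7.CartanRelH
import Groth.Agent.Helper7.CartanRelJ

set_option autoImplicit false
set_option linter.unusedSectionVars false
set_option linter.unusedVariables false

/-! (C₀) ⇒ (C₂): quasi-regular sections are regular when the nilpotent rank is locally constant. -/

namespace Groth.Agent.Helper7.CartanRel

open Polynomial TensorProduct LieSubalgebra LieAlgebra SGA3t2b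

universe u

section C0C2

variable {A : Type u} [CommRing A] {L : Type u} [LieRing L] [LieAlgebra A L] [Module.Finite A L]
  [Module.Projective A L]

theorem isLocallyConstant_rank
    (hC0 : ∀ p : PrimeSpectrum A, ∃ f : A, f ∉ p.asIdeal ∧ ∀ q : PrimeSpectrum A, f ∉ q.asIdeal →
        LieAlgebra.rank q.asIdeal.ResidueField (q.asIdeal.ResidueField ⊗[A] L) =
          LieAlgebra.rank p.asIdeal.ResidueField (p.asIdeal.ResidueField ⊗[A] L)) :
    IsLocallyConstant (fun q : PrimeSpectrum A =>
      LieAlgebra.rank q.asIdeal.ResidueField (q.asIdeal.ResidueField ⊗[A] L)) := by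
  rw [IsLocallyConstant.iff_isOpen_fiber]
  intro n
  rw [isOpen_iff_forall_mem_open]
  intro p hp
  obtain ⟨f, hf, hq⟩ := hC0 p
  refine ⟨PrimeSpectrum.basicOpen f, fun q hq' => ?_, (PrimeSpectrum.basicOpen f).isOpen, hf⟩
  exact (hq q hq').trans hp

theorem quasiRegular_isRegular
    (hC0 : ∀ p : PrimeSpectrum A, ∃ f : A, f ∉ p.asIdeal ∧ ∀ q : PrimeSpectrum A, f ∉ q.asIdeal →
        LieAlgebra.rank q.asIdeal.ResidueField (q.asIdeal.ResidueField ⊗[A] L) =
          LieAlgebra.rank p.asIdeal.ResidueField (p.asIdeal.ResidueField ⊗[A] L))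
    (A' : Type u) [CommRing A'] [Algebra A A'] (a' : A' ⊗[A] L)
    (ha' : SGA3t2b.IsQuasiRegular A' (A' ⊗[A] L) a') :
    SGA3t2b.IsRegularRel A' (A' ⊗[A] L) a' := by
  refine ⟨ha', engel A' a', ?_, self_mem_engel A' a'⟩
  set φ : Module.End A' (A' ⊗[A] L) := (LieAlgebra.ad A' (A' ⊗[A] L) a' : Module.End A' _) with hφ
  have hν : IsLocallyConstant (fun q' : PrimeSpectrum A' =>
      (φ.baseChange q'.asIdeal.ResidueField).charpoly.natTrailingDegree) := by
    have h2 := (isLocallyConstant_rank hC0).comp_continuous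
      (PrimeSpectrum.continuous_comap (algebraMap A A'))
    have : (fun q' : PrimeSpectrum A' =>
        (φ.baseChange q'.asIdeal.ResidueField).charpoly.natTrailingDegree) =
        (fun q : PrimeSpectrum A =>
          LieAlgebra.rank q.asIdeal.ResidueField (q.asIdeal.ResidueField ⊗[A] L)) ∘
          (PrimeSpectrum.comap (algebraMap A A')) := by
      funext q'
      show _ = LieAlgebra.rank (PrimeSpectrum.comap (algebraMap A A') q').asIdeal.ResidueField
        ((PrimeSpectrum.comap (algebraMap A A') q').asIdeal.ResidueField ⊗[A] L)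
      rw [← rank_fibre_comap, hφ, ← ad_baseChange]
      exact (LieAlgebra.isRegular_iff_natTrailingDegree_charpoly_eq_rank _ _).1 (ha' q')
    rw [this]
    exact h2
  obtain ⟨N, F, h0, hF⟩ := exists_fd_data φ hν
  have hE : ∀ y, y ∈ (engel A' a').toSubmodule ↔ ∃ n : ℕ, (φ ^ n) y = 0 :=
    fun y => mem_engel_iff A' a' y
  apply isCartanRel_engel a' ha'
  · exact fd_projective_quot φ _ hE N F h0 hF
  · exact fun z hz => lie_mem_engel_imp a' z hz
  · exact fd_exists_lie_sub φ _ hE N F h0 hF

end C0C2

end Groth.Agent.Helper7.CartanRel
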