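import Mathlib

set_option autoImplicit false
set_option linter.unusedSectionVars false
set_option linter.unusedVariables false

/-! A nilpotent self-normalizing subalgebra of dimension the rank contains a regular element
(over an infinite field). -/

namespace Groth.Agent.Helper7.CartanRel

open Polynomial TensorProduct Module Cardinal LieSubalgebra LieAlgebra

universe u

section CartanRegular

variable {K : Type*} [Field K] {M : Type*} [LieRing M] [LieAlgebra K M] [Module.Finite K M]

/-- If `C ≤ E` are subalgebras, `C` is self-normalizing and every element of `C` acts nilpotently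
on `E`, then `E = C`. -/
theorem le_of_nilpotent_action (C E : LieSubalgebra K M) (hCE : C ≤ E)
    (hnorm : C.normalizer = C) (hact : ∀ y ∈ C, E ≤ engel K y) : E ≤ C := by
  -- `E` as a Lie submodule of `M` over `C`
  let E' : LieSubmodule K C M :=
    { E.toSubmodule with
      lie_mem := by
        intro y v hv
        exact E.lie_mem (hCE y.2) hv }
  have hE' : ∀ v, v ∈ E' ↔ v ∈ E := fun v => Iff.rfl
  haveI : LieModule.IsNilpotent C E' := by
    rw [LieModule.isNilpotent_iff_forall' (R := K)]
    intro y
    rw [Module.End.isNilpotent_iff_of_finite]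
    intro v
    obtain ⟨n, hn⟩ := (mem_engel_iff K (y : M) (v : M)).1 (hact y y.2 ((hE' v).1 v.2))
    refine ⟨n, ?_⟩
    apply Subtype.ext
    rw [LieSubmodule.coe_toEnd_pow]
    have h1 : ∀ (k : ℕ) (w : M), ((LieModule.toEnd K C M y) ^ k) w =
        ((LieAlgebra.ad K M (y : M)) ^ k) w := by
      intro k
      induction k with
      | zero => intro w; rfl
      | succ k ih =>
        intro w
        rw [pow_succ', Module.End.mul_apply, ih, pow_succ', Module.End.mul_apply]
        rfl
    rw [h1, hn]
    rfl
  obtain ⟨k, hk⟩ := (LieSubmodule.isNilpotent_iff_exists_lcs_eq_bot E').1 inferInstance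
  have hstep : ∀ j : ℕ, j ≤ k → ∀ v ∈ E'.lcs (k - j), v ∈ C := by
    intro j
    induction j with
    | zero =>
      intro _ v hv
      rw [Nat.sub_zero, hk, LieSubmodule.mem_bot] at hv
      rw [hv]
      exact C.zero_mem
    | succ j ih =>
      intro hj v hv
      rw [← hnorm, LieSubalgebra.mem_normalizer_iff']
      intro y hy
      apply ih (by omega)
      have h2 : k - j = (k - (j + 1)) + 1 := by omega
      rw [h2, LieSubmodule.lcs_succ]
      have := LieSubmodule.lie_mem_lie (I := (⊤ : LieIdeal K C)) (N := E'.lcs (k - (j + 1)))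
        (x := (⟨y, hy⟩ : C)) (m := v) (LieSubmodule.mem_top _) hv
      exact this
  intro v hv
  have := hstep k le_rfl v
  rw [Nat.sub_self, LieSubmodule.lcs_zero] at this
  exact this ((hE' v).2 hv)

theorem exists_regular_mem_of_cartan [Infinite K] (C : LieSubalgebra K M)
    (hnil : ∀ x ∈ C, C ≤ engel K x) (hnorm : C.normalizer = C)
    (hdim : finrank K C = LieAlgebra.rank K M) : ∃ x ∈ C, LieAlgebra.IsRegular K x := by
  classical
  have hLK : (finrank K M : Cardinal) ≤ #K :=
    natCast_le_aleph0.trans <| Cardinal.infinite_iff.mp ‹Infinite K›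
  -- choose `x₀ ∈ C` with `engel K x₀` of minimal dimension
  have hex : ∃ n : ℕ, ∃ x ∈ C, finrank K (engel K x) = n := ⟨_, 0, C.zero_mem, rfl⟩
  obtain ⟨x₀, hx₀C, hx₀⟩ := Nat.find_spec hex
  have hminx : ∀ y ∈ C, finrank K (engel K x₀) ≤ finrank K (engel K y) := by
    intro y hy
    rw [hx₀]
    exact Nat.find_min' hex ⟨y, hy, rfl⟩
  set Ex : {engel K x | x ∈ C} := ⟨engel K x₀, x₀, hx₀C, rfl⟩ with hEx
  have hmin : IsMin Ex := by
    rintro ⟨_, y, hy, rfl⟩ hyx
    have hyx' : engel K y ≤ engel K x₀ := hyx
    have : engel K y = engel K x₀ := by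
      apply LieSubalgebra.toSubmodule_injective
      exact Submodule.eq_of_le_of_finrank_le hyx' (hminx y hy)
    exact this.ge
  have hbot := engel_isBot_of_isMin hLK C Ex (hnil x₀ hx₀C) hmin
  have hact : ∀ y ∈ C, engel K x₀ ≤ engel K y := by
    intro y hy
    exact @hbot ⟨engel K y, y, hy, rfl⟩
  have hEC : engel K x₀ ≤ C := le_of_nilpotent_action C (engel K x₀) (hnil x₀ hx₀C) hnorm hact
  have heq : engel K x₀ = C := le_antisymm hEC (hnil x₀ hx₀C)
  refine ⟨x₀, hx₀C, ?_⟩
  rw [LieAlgebra.isRegular_iff_finrank_engel_eq_rank, heq]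
  exact hdim

end CartanRegular

end Groth.Agent.Helper7.CartanRel
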