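import Mathlib
import Groth.Prelude.Def_W4sga3xiixivxvCartan
import Groth.Agent.Helper7.CartanRelA
import Groth.Agent.Helper7.CartanRelB
import Groth.Agent.Helper7.CartanRelC
import Groth.Agent.Helper7.CartanRelD
import Groth.Agent.Helper7.CartanRelH
import Groth.Agent.Helper7.CartanRelL

set_option autoImplicit false
set_option linter.unusedSectionVars false
set_option linter.unusedVariables false

/-! A relative Cartan subalgebra is an Engel subalgebra near a point with infinite residue field. -/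

namespace Groth.Agent.Helper7.CartanRel

open Polynomial TensorProduct LieSubalgebra LieAlgebra SGA3t2b

universe u

section RegInH

variable {A : Type u} [CommRing A] {L : Type u} [LieRing L] [LieAlgebra A L] [Module.Finite A L]

/-- The fibre of `H` at `p` as a Lie subalgebra of the fibre of `L`. -/
noncomputable def fibreSubalgebra (p : PrimeSpectrum A) (H : LieSubalgebra A L) :
    LieSubalgebra p.asIdeal.ResidueField (p.asIdeal.ResidueField ⊗[A] L) :=
  { fibreSubmodule p H with
    lie_mem' := by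
      intro x y hx hy
      have hx' : x ∈ LinearMap.range (jmap H p.asIdeal.ResidueField) := hx
      have hy' : y ∈ LinearMap.range (jmap H p.asIdeal.ResidueField) := hy
      obtain ⟨x', rfl⟩ := hx'
      obtain ⟨y', rfl⟩ := hy'
      exact ⟨⁅x', y'⁆, jmap_lie H p.asIdeal.ResidueField x' y'⟩ }

theorem mem_fibreSubalgebra_iff (p : PrimeSpectrum A) (H : LieSubalgebra A L)
    (x : p.asIdeal.ResidueField ⊗[A] L) :
    x ∈ fibreSubalgebra p H ↔ ∃ x' : p.asIdeal.ResidueField ⊗[A] H,
      jmap H p.asIdeal.ResidueField x' = x :=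
  Iff.rfl

theorem mem_fibreSubalgebra (p : PrimeSpectrum A) (H : LieSubalgebra A L)
    (x : p.asIdeal.ResidueField ⊗[A] L) : x ∈ fibreSubalgebra p H ↔ x ∈ fibreSubmodule p H :=
  Iff.rfl

theorem jmap_mem_engel (H : LieSubalgebra A L) (p : PrimeSpectrum A)
    (hnil : LieRing.IsNilpotent (p.asIdeal.ResidueField ⊗[A] H))
    (x y : p.asIdeal.ResidueField ⊗[A] H) :
    jmap H p.asIdeal.ResidueField y ∈
      engel p.asIdeal.ResidueField (jmap H p.asIdeal.ResidueField x) := by
  rw [mem_engel_iff]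
  obtain ⟨n, hn⟩ := LieModule.isNilpotent_toEnd_of_isNilpotent p.asIdeal.ResidueField
    (p.asIdeal.ResidueField ⊗[A] H) (p.asIdeal.ResidueField ⊗[A] H) x
  refine ⟨n, ?_⟩
  rw [ad_pow_map' (R := p.asIdeal.ResidueField) (jmap H p.asIdeal.ResidueField)
    (jmap_lie H p.asIdeal.ResidueField)]
  have : (LieAlgebra.ad p.asIdeal.ResidueField (p.asIdeal.ResidueField ⊗[A] H) x) ^ n = 0 := hn
  rw [this, LinearMap.zero_apply, map_zero]

theorem exists_regular_in_cartan (H : LieSubalgebra A L) (hH : IsCartanRel H)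
    (p : PrimeSpectrum A) (hp : Infinite p.asIdeal.ResidueField) :
    ∃ a : L, a ∈ H ∧
      LieAlgebra.IsRegular p.asIdeal.ResidueField ((1 : p.asIdeal.ResidueField) ⊗ₜ[A] a) := by
  have hnil : ∀ x ∈ fibreSubalgebra p H,
      fibreSubalgebra p H ≤ engel p.asIdeal.ResidueField x := by
    intro x hx y hy
    obtain ⟨x', rfl⟩ := (mem_fibreSubalgebra_iff p H x).1 hx
    obtain ⟨y', rfl⟩ := (mem_fibreSubalgebra_iff p H y).1 hy
    exact jmap_mem_engel H p (hH.2 p).1 x' y'
  have hnorm : (fibreSubalgebra p H).normalizer = fibreSubalgebra p H := by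
    apply le_antisymm
    · intro x hx
      rw [LieSubalgebra.mem_normalizer_iff] at hx
      exact (hH.2 p).2.1 x hx
    · exact LieSubalgebra.le_normalizer _
  have hdim : Module.finrank p.asIdeal.ResidueField (fibreSubalgebra p H) =
      LieAlgebra.rank p.asIdeal.ResidueField (p.asIdeal.ResidueField ⊗[A] L) := (hH.2 p).2.2
  obtain ⟨x, hxC, hxreg⟩ := exists_regular_mem_of_cartan (fibreSubalgebra p H) hnil hnorm hdim
  obtain ⟨x', rfl⟩ := (mem_fibreSubalgebra_iff p H x).1 hxC
  obtain ⟨s, hs, h, hsh⟩ := clear_denominators p x'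
  refine ⟨(h : L), h.2, ?_⟩
  have h1 : (1 : p.asIdeal.ResidueField) ⊗ₜ[A] (h : L) =
      algebraMap A p.asIdeal.ResidueField s • jmap H p.asIdeal.ResidueField x' := by
    rw [← map_smul, hsh]
    rfl
  rw [h1]
  refine (isRegular_smul _ ?_ _).2 hxreg
  rwa [Ne, Ideal.algebraMap_residueField_eq_zero]

end RegInH

section C0

variable {A : Type u} [CommRing A] {L : Type u} [LieRing L] [LieAlgebra A L] [Module.Finite A L]
  [Module.Projective A L]

theorem rank_add_rankAtStalk' (H : LieSubalgebra A L) (hH : IsCartanRel H) (q : PrimeSpectrum A) :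
    LieAlgebra.rank q.asIdeal.ResidueField (q.asIdeal.ResidueField ⊗[A] L) +
      Module.rankAtStalk (L ⧸ H.toSubmodule) q = Module.rankAtStalk L q := by
  haveI : Module.Projective A (L ⧸ H.toSubmodule) := hH.1
  rw [← (hH.2 q).2.2, Module.rankAtStalk_eq, Module.rankAtStalk_eq]
  exact finrank_baseChange_add_quot H.toSubmodule q.asIdeal.ResidueField

theorem hC0_of_cartan (H : LieSubalgebra A L) (hH : IsCartanRel H) :
    ∀ p : PrimeSpectrum A, ∃ f : A, f ∉ p.asIdeal ∧ ∀ q : PrimeSpectrum A, f ∉ q.asIdeal →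
        LieAlgebra.rank q.asIdeal.ResidueField (q.asIdeal.ResidueField ⊗[A] L) =
          LieAlgebra.rank p.asIdeal.ResidueField (p.asIdeal.ResidueField ⊗[A] L) := by
  intro p
  haveI : Module.Projective A (L ⧸ H.toSubmodule) := hH.1
  haveI : Module.FinitePresentation A L := Module.finitePresentation_of_projective A L
  haveI : Module.FinitePresentation A (L ⧸ H.toSubmodule) :=
    Module.finitePresentation_of_projective A _
  have hlc1 := Module.isLocallyConstant_rankAtStalk (R := A) (M := L)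
  have hlc2 := Module.isLocallyConstant_rankAtStalk (R := A) (M := L ⧸ H.toSubmodule)
  obtain ⟨_, ⟨f, rfl⟩, hpf, hfU⟩ :=
    PrimeSpectrum.isTopologicalBasis_basic_opens.exists_subset_of_mem_open
      (show p ∈ {q : PrimeSpectrum A | Module.rankAtStalk L q = Module.rankAtStalk L p} ∩
        {q : PrimeSpectrum A | Module.rankAtStalk (L ⧸ H.toSubmodule) q =
          Module.rankAtStalk (L ⧸ H.toSubmodule) p} from ⟨rfl, rfl⟩)
      ((hlc1.isOpen_fiber _).inter (hlc2.isOpen_fiber _))
  refine ⟨f, hpf, fun q hq => ?_⟩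
  obtain ⟨h1, h2⟩ := hfU hq
  have e1 := rank_add_rankAtStalk' H hH q
  have e2 := rank_add_rankAtStalk' H hH p
  have h1' : Module.rankAtStalk L q = Module.rankAtStalk L p := h1
  have h2' : Module.rankAtStalk (L ⧸ H.toSubmodule) q =
      Module.rankAtStalk (L ⧸ H.toSubmodule) p := h2
  omega

end C0

section Det

variable {A : Type*} [CommRing A]

theorem det_pow_smul_eq_zero {n : ℕ} (Ψ : Module.End A (Fin n → A)) (N : ℕ) (v : Fin n → A)
    (hv : (Ψ ^ N) v = 0) : (LinearMap.det Ψ) ^ N • v = 0 := by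
  classical
  set M := LinearMap.toMatrix' Ψ with hM
  have hΨ : Ψ = Matrix.toLin' M := (Matrix.toLin'_toMatrix' Ψ).symm
  have hdet : LinearMap.det Ψ = M.det := (LinearMap.det_toMatrix' Ψ).symm
  have h1 : (M ^ N).mulVec v = 0 := by
    have := hv
    rw [hΨ, ← Matrix.toLin'_pow, Matrix.toLin'_apply] at this
    exact this
  have h2 : M.adjugate ^ N * M ^ N = (M.det ^ N) • (1 : Matrix (Fin n) (Fin n) A) := by
    have hc : Commute M.adjugate M := by
      show M.adjugate * M = M * M.adjugate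
      rw [Matrix.adjugate_mul, Matrix.mul_adjugate]
    rw [← hc.mul_pow, Matrix.adjugate_mul, _root_.smul_pow, one_pow]
  have h3 : (M.adjugate ^ N * M ^ N).mulVec v = 0 := by
    rw [← Matrix.mulVec_mulVec, h1, Matrix.mulVec_zero]
  rw [h2, Matrix.smul_mulVec, Matrix.one_mulVec] at h3
  rw [hdet]
  exact h3

end Det

section DetTrick

variable {A : Type u} [CommRing A] {Q : Type u} [AddCommGroup Q] [Module A Q]

/-- The endomorphism `g ψ f + (1 - g f)` of `A^n` attached to `ψ` on a retract `Q` of `A^n`. -/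
noncomputable def bigEnd {n : ℕ} (f : (Fin n → A) →ₗ[A] Q) (g : Q →ₗ[A] (Fin n → A))
    (ψ : Module.End A Q) : Module.End A (Fin n → A) :=
  g ∘ₗ ψ ∘ₗ f + (LinearMap.id - g ∘ₗ f)

theorem bigEnd_pow_apply {n : ℕ} (f : (Fin n → A) →ₗ[A] Q) (g : Q →ₗ[A] (Fin n → A))
    (hfg : ∀ w, f (g w) = w) (ψ : Module.End A Q) (N : ℕ) (w : Q) :
    ((bigEnd f g ψ) ^ N) (g w) = g ((ψ ^ N) w) := by
  induction N generalizing w with
  | zero => simp
  | succ N ih =>
    rw [pow_succ, Module.End.mul_apply, pow_succ, Module.End.mul_apply, ← ih]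
    congr 1
    simp [bigEnd, hfg]

theorem det_pow_smul_quot {n : ℕ} (f : (Fin n → A) →ₗ[A] Q) (g : Q →ₗ[A] (Fin n → A))
    (hfg : ∀ w, f (g w) = w) (ψ : Module.End A Q) (N : ℕ) (w : Q) (hw : (ψ ^ N) w = 0) :
    (LinearMap.det (bigEnd f g ψ)) ^ N • w = 0 := by
  have h1 : ((bigEnd f g ψ) ^ N) (g w) = 0 := by rw [bigEnd_pow_apply f g hfg, hw, map_zero]
  have h2 := det_pow_smul_eq_zero (bigEnd f g ψ) N (g w) h1
  rw [← map_smul] at h2
  have h3 := congrArg f h2
  rwa [hfg, map_zero] at h3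

theorem det_bigEnd_notMem {n : ℕ} (f : (Fin n → A) →ₗ[A] Q) (g : Q →ₗ[A] (Fin n → A))
    (hfg : ∀ w, f (g w) = w) (ψ : Module.End A Q) (q : PrimeSpectrum A)
    (hbij : Function.Bijective (ψ.baseChange q.asIdeal.ResidueField)) :
    LinearMap.det (bigEnd f g ψ) ∉ q.asIdeal := by
  rw [← Ideal.algebraMap_residueField_eq_zero, ← LinearMap.det_baseChange]
  set F := f.baseChange q.asIdeal.ResidueField with hF
  set G := g.baseChange q.asIdeal.ResidueField with hG
  set P := ψ.baseChange q.asIdeal.ResidueField with hP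
  have hFG : ∀ w, F (G w) = w := by
    intro w
    rw [hF, hG, ← LinearMap.comp_apply, ← LinearMap.baseChange_comp]
    have : f ∘ₗ g = LinearMap.id := LinearMap.ext hfg
    rw [this, LinearMap.baseChange_id, LinearMap.id_apply]
  let e := LinearEquiv.ofBijective P hbij
  let T : Module.End q.asIdeal.ResidueField (q.asIdeal.ResidueField ⊗[A] Q) := e.symm.toLinearMap
  have hPT : ∀ w, P (T w) = w := fun w => e.apply_symm_apply w
  have hbig : (bigEnd f g ψ).baseChange q.asIdeal.ResidueField =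
      G ∘ₗ P ∘ₗ F + (LinearMap.id - G ∘ₗ F) := by
    rw [bigEnd, LinearMap.baseChange_add, LinearMap.baseChange_sub, LinearMap.baseChange_comp,
      LinearMap.baseChange_comp, LinearMap.baseChange_comp, LinearMap.baseChange_id]
  have hcomp : (G ∘ₗ P ∘ₗ F + (LinearMap.id - G ∘ₗ F)) ∘ₗ (G ∘ₗ T ∘ₗ F + (LinearMap.id - G ∘ₗ F)) =
      LinearMap.id := by
    apply LinearMap.ext
    intro v
    simp only [LinearMap.comp_apply, LinearMap.add_apply, LinearMap.sub_apply, LinearMap.id_apply,
      map_add, map_sub, hFG, hPT]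
    abel
  have hdet := congrArg LinearMap.det hcomp
  rw [LinearMap.det_comp, LinearMap.det_id] at hdet
  rw [hbig]
  intro h0
  rw [h0, zero_mul] at hdet
  exact zero_ne_one hdet

end DetTrick

section MainNear

variable {A : Type u} [CommRing A] {L : Type u} [LieRing L] [LieAlgebra A L] [Module.Finite A L]
  [Module.Projective A L]

theorem adQuot_baseChange_bijective (H : LieSubalgebra A L) (hH : IsCartanRel H) (a : L)
    (ha : a ∈ H) (q : PrimeSpectrum A)
    (hreg : LieAlgebra.IsRegular q.asIdeal.ResidueField ((1 : q.asIdeal.ResidueField) ⊗ₜ[A] a)) :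
    Function.Bijective ((adQuot H a (fun y hy => H.lie_mem ha hy)).baseChange
      q.asIdeal.ResidueField) := by
  have hinj : Function.Injective ((adQuot H a (fun y hy => H.lie_mem ha hy)).baseChange
      q.asIdeal.ResidueField) := by
    rw [injective_iff_map_eq_zero]
    intro w hw
    obtain ⟨z, rfl⟩ := mkQ_baseChange_surjective H.toSubmodule q.asIdeal.ResidueField w
    rw [adQuot_comm] at hw
    have h1 : ⁅(1 : q.asIdeal.ResidueField) ⊗ₜ[A] a, z⁆ ∈ fibreSubmodule q H := by
      show _ ∈ H.toSubmodule.baseChange q.asIdeal.ResidueField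
      rw [← ker_mkQ_baseChange]
      exact hw
    rw [fibreSubmodule_eq_engel H hH q a ha hreg] at h1
    have h2 : z ∈ (engel q.asIdeal.ResidueField
        ((1 : q.asIdeal.ResidueField) ⊗ₜ[A] a)).toSubmodule := lie_mem_engel_imp _ _ h1
    rw [← fibreSubmodule_eq_engel H hH q a ha hreg] at h2
    have h3 : z ∈ H.toSubmodule.baseChange q.asIdeal.ResidueField := h2
    rw [← ker_mkQ_baseChange] at h3
    exact h3
  exact ⟨hinj, LinearMap.injective_iff_surjective.1 hinj⟩

theorem adQuot_pow_mk (H : LieSubalgebra A L) (a : L) (hst : ∀ y ∈ H, ⁅a, y⁆ ∈ H) (N : ℕ)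
    (y : L) :
    ((adQuot H a hst) ^ N) (H.toSubmodule.mkQ y) =
      H.toSubmodule.mkQ (((LieAlgebra.ad A L a) ^ N) y) := by
  induction N with
  | zero => simp
  | succ N ih =>
    rw [pow_succ', Module.End.mul_apply, ih, adQuot_mk, pow_succ', Module.End.mul_apply,
      LieAlgebra.ad_apply]

theorem cartan_eq_engel_near (H : LieSubalgebra A L) (hH : IsCartanRel H) (p : PrimeSpectrum A)
    (hp : Infinite p.asIdeal.ResidueField) :
    ∃ f : A, f ∉ p.asIdeal ∧ ∃ a : L, a ∈ H ∧
      (∀ q : PrimeSpectrum A, f ∉ q.asIdeal →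
        LieAlgebra.IsRegular q.asIdeal.ResidueField ((1 : q.asIdeal.ResidueField) ⊗ₜ[A] a)) ∧
      H ≤ LieSubalgebra.engel A a ∧
      ∀ y : L, y ∈ LieSubalgebra.engel A a → ∃ n : ℕ, f ^ n • y ∈ H := by
  obtain ⟨a, haH, hareg⟩ := exists_regular_in_cartan H hH p hp
  have hC0 := hC0_of_cartan H hH
  have hopen := isOpen_regular hC0 a
  obtain ⟨_, ⟨f, rfl⟩, hpf, hfU⟩ :=
    PrimeSpectrum.isTopologicalBasis_basic_opens.exists_subset_of_mem_open
      (show p ∈ {q : PrimeSpectrum A | LieAlgebra.IsRegular q.asIdeal.ResidueField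
        ((1 : q.asIdeal.ResidueField) ⊗ₜ[A] a)} from hareg) hopen
  refine ⟨f, hpf, a, haH, fun q hq => hfU hq, le_engel_of_isCartanRel H hH a haH, ?_⟩
  haveI : Module.Projective A (L ⧸ H.toSubmodule) := hH.1
  obtain ⟨n, fQ, gQ, -, -, hfg⟩ :=
    Module.Finite.exists_comp_eq_id_of_projective A (L ⧸ H.toSubmodule)
  have hfg' : ∀ w, fQ (gQ w) = w := fun w => LinearMap.congr_fun hfg w
  set ψ := adQuot H a (fun y hy => H.lie_mem haH hy) with hψ
  set d := LinearMap.det (bigEnd fQ gQ ψ) with hd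
  have hdq : ∀ q : PrimeSpectrum A, f ∉ q.asIdeal → d ∉ q.asIdeal := fun q hq =>
    det_bigEnd_notMem fQ gQ hfg' ψ q (adQuot_baseChange_bijective H hH a haH q (hfU hq))
  have hle : PrimeSpectrum.basicOpen f ≤ PrimeSpectrum.basicOpen d := fun q hq => hdq q hq
  rw [PrimeSpectrum.basicOpen_le_basicOpen_iff, Ideal.mem_radical_iff] at hle
  obtain ⟨k, hk⟩ := hle
  rw [Ideal.mem_span_singleton] at hk
  obtain ⟨c, hc⟩ := hk
  intro y hy
  obtain ⟨N, hN⟩ := (mem_engel_iff A a y).1 hy
  refine ⟨k * N, ?_⟩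
  have h1 : (ψ ^ N) (H.toSubmodule.mkQ y) = 0 := by rw [hψ, adQuot_pow_mk, hN, map_zero]
  have h2 := det_pow_smul_quot fQ gQ hfg' ψ N _ h1
  show f ^ (k * N) • y ∈ H.toSubmodule
  rw [← Submodule.Quotient.mk_eq_zero, Submodule.Quotient.mk_smul, pow_mul, hc, mul_pow, mul_comm,
    mul_smul, ← Submodule.mkQ_apply]
  rw [← hd] at h2
  rw [h2, smul_zero]

end MainNear

end Groth.Agent.Helper7.CartanRel
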