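import Mathlib
import Groth.Prelude.Def_DeRham

set_option autoImplicit false
set_option linter.unusedSectionVars false
set_option linter.unusedVariables false

/-! Čech lift of top-degree forms on coordinate hyperplanes. -/

namespace Groth.Agent.Helper7.CechLift

open exteriorPower DeRham

universe u

section Span

variable {k A : Type u} [CommRing k] [CommRing A] [Algebra k A] {d : ℕ} (t : Fin d → A)
  (b : Module.Basis (Fin d) A (Ω[A⁄k])) (hb : ∀ i, b i = KaehlerDifferential.D k A (t i))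
  (𝔞 : Ideal A)

include hb in
theorem D_mk_mem (a : A) :
    KaehlerDifferential.D k (A ⧸ 𝔞) (Ideal.Quotient.mk 𝔞 a) ∈
      Submodule.span (A ⧸ 𝔞) (Set.range fun i : Fin d =>
        KaehlerDifferential.D k (A ⧸ 𝔞) (Ideal.Quotient.mk 𝔞 (t i))) := by
  have h1 : KaehlerDifferential.D k A a =
      ∑ i, b.repr (KaehlerDifferential.D k A a) i • KaehlerDifferential.D k A (t i) := by
    conv_lhs => rw [← b.sum_repr (KaehlerDifferential.D k A a)]
    simp only [hb]
  have h2 : KaehlerDifferential.D k (A ⧸ 𝔞) (Ideal.Quotient.mk 𝔞 a) =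
      KaehlerDifferential.map k k A (A ⧸ 𝔞) (KaehlerDifferential.D k A a) := by
    rw [KaehlerDifferential.map_D]; rfl
  rw [h2, h1, map_sum]
  refine Submodule.sum_mem _ fun i _ => ?_
  rw [LinearMap.map_smul, KaehlerDifferential.map_D, ← algebraMap_smul (A ⧸ 𝔞)]
  exact Submodule.smul_mem _ _ (Submodule.subset_span ⟨i, rfl⟩)

include hb in
theorem span_D_top :
    Submodule.span (A ⧸ 𝔞) (Set.range fun i : Fin d =>
        KaehlerDifferential.D k (A ⧸ 𝔞) (Ideal.Quotient.mk 𝔞 (t i))) = ⊤ := by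
  rw [eq_top_iff, ← KaehlerDifferential.span_range_derivation k (A ⧸ 𝔞), Submodule.span_le]
  rintro _ ⟨x, rfl⟩
  obtain ⟨a, rfl⟩ := Ideal.Quotient.mk_surjective x
  exact D_mk_mem t b hb 𝔞 a

include hb in
theorem mem_closure_gen (m : ℕ) (x : ⋀[A ⧸ 𝔞]^m (Ω[(A ⧸ 𝔞)⁄k])) :
    x ∈ AddSubgroup.closure {y | ∃ (b₀ : A) (c : Fin m → Fin d),
      y = gen (KaehlerDifferential.D k (A ⧸ 𝔞)) m (Ideal.Quotient.mk 𝔞 b₀)
        (fun i => Ideal.Quotient.mk 𝔞 (t (c i)))} := by
  have hs := exteriorPower.ιMulti_span_of_span (A ⧸ 𝔞) m (Ω[(A ⧸ 𝔞)⁄k]) (span_D_top t b hb 𝔞)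
  have hx : x ∈ Submodule.span (A ⧸ 𝔞) (ιMulti (A ⧸ 𝔞) m '' {a | Set.range a ⊆
      Set.range fun i : Fin d => KaehlerDifferential.D k (A ⧸ 𝔞) (Ideal.Quotient.mk 𝔞 (t i))}) := by
    rw [hs]; trivial
  suffices h : ∀ r : A ⧸ 𝔞, r • x ∈ AddSubgroup.closure {y | ∃ (b₀ : A) (c : Fin m → Fin d),
      y = gen (KaehlerDifferential.D k (A ⧸ 𝔞)) m (Ideal.Quotient.mk 𝔞 b₀)
        (fun i => Ideal.Quotient.mk 𝔞 (t (c i)))} by
    simpa using h 1
  refine Submodule.span_induction (p := fun x _ => ∀ r : A ⧸ 𝔞, r • x ∈ AddSubgroup.closure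
      {y | ∃ (b₀ : A) (c : Fin m → Fin d),
      y = gen (KaehlerDifferential.D k (A ⧸ 𝔞)) m (Ideal.Quotient.mk 𝔞 b₀)
        (fun i => Ideal.Quotient.mk 𝔞 (t (c i)))}) ?_ ?_ ?_ ?_ hx
  · rintro _ ⟨a, ha, rfl⟩ r
    obtain ⟨b₀, rfl⟩ := Ideal.Quotient.mk_surjective r
    have hc : ∀ i : Fin m, ∃ c : Fin d, KaehlerDifferential.D k (A ⧸ 𝔞)
        (Ideal.Quotient.mk 𝔞 (t c)) = a i := fun i => ha ⟨i, rfl⟩
    choose c hc using hc
    refine AddSubgroup.subset_closure ⟨b₀, c, ?_⟩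
    unfold gen
    congr 2
    funext i
    exact (hc i).symm
  · intro r
    rw [smul_zero]
    exact zero_mem _
  · intro x y _ _ hx hy r
    rw [smul_add]
    exact add_mem (hx r) (hy r)
  · intro r' x _ hx r
    rw [smul_smul]
    exact hx _

end Span

section Lift

variable {k A : Type u} [CommRing k] [CommRing A] [Algebra k A] {d n : ℕ} (t : Fin d → A)
  (e : Fin n ↪ Fin d)

/-- The ideal of the intersection of the hyperplanes indexed by `I`. -/
abbrev idl (I : Finset (Fin n)) : Ideal A := ⨆ i ∈ I, Ideal.span {t (e i)}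

theorem t_mem_idl {I : Finset (Fin n)} {j : Fin n} (hj : j ∈ I) : t (e j) ∈ idl t e I :=
  Submodule.mem_iSup_of_mem j (Submodule.mem_iSup_of_mem hj (Ideal.subset_span rfl))

theorem mk_t_eq_zero {I : Finset (Fin n)} {j : Fin n} (hj : j ∈ I) :
    Ideal.Quotient.mk (idl t e I) (t (e j)) = 0 :=
  Ideal.Quotient.eq_zero_iff_mem.2 (t_mem_idl t e hj)

/-- A generator with a factor `d t_{e j}`, `j ∈ I`, vanishes. -/
theorem gen_eq_zero_of_mem (m : ℕ) (I : Finset (Fin n)) (b₀ : A ⧸ idl t e I) (c : Fin m → Fin d)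
    (i : Fin m) (j : Fin n) (hj : j ∈ I) (hc : c i = e j) :
    gen (KaehlerDifferential.D k (A ⧸ idl t e I)) m b₀
      (fun i => Ideal.Quotient.mk (idl t e I) (t (c i))) = 0 := by
  unfold gen
  rw [(ιMulti (A ⧸ idl t e I) m).map_coord_zero i, smul_zero]
  show KaehlerDifferential.D k (A ⧸ idl t e I) (Ideal.Quotient.mk (idl t e I) (t (c i))) = 0
  rw [hc, mk_t_eq_zero t e hj, map_zero]

/-- A generator with a repeated factor vanishes. -/
theorem gen_eq_zero_of_not_injective (m : ℕ) (I : Finset (Fin n)) (b₀ : A ⧸ idl t e I)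
    (c : Fin m → Fin d) (hc : ¬ Function.Injective c) :
    gen (KaehlerDifferential.D k (A ⧸ idl t e I)) m b₀
      (fun i => Ideal.Quotient.mk (idl t e I) (t (c i))) = 0 := by
  unfold gen
  rw [Function.Injective] at hc
  push Not at hc
  obtain ⟨i, i', hii, hne⟩ := hc
  rw [(ιMulti (A ⧸ idl t e I) m).map_eq_zero_of_eq _ (i := i) (j := i') (by beta_reduce; rw [hii]) hne, smul_zero]

/-- Counting: an injective `c` avoiding `e(J)` with `|J| + m = d` hits every `e j'`, `j' ∉ J`. -/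
theorem exists_eq_of_injective (m : ℕ) (J : Finset (Fin n)) (hd : J.card + m = d)
    (c : Fin m → Fin d) (hc : Function.Injective c) (hJ : ∀ i, ∀ j ∈ J, c i ≠ e j)
    (j' : Fin n) (hj' : j' ∉ J) : ∃ i, c i = e j' := by
  classical
  have hdisj : Disjoint (Finset.univ.image c) (J.image e) := by
    rw [Finset.disjoint_left]
    intro x hx hx'
    obtain ⟨i, -, rfl⟩ := Finset.mem_image.1 hx
    obtain ⟨j, hj, hji⟩ := Finset.mem_image.1 hx'
    exact hJ i j hj hji.symm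
  have hcard : (Finset.univ.image c ∪ J.image e).card = Fintype.card (Fin d) := by
    rw [Finset.card_union_of_disjoint hdisj, Finset.card_image_of_injective _ hc,
      Finset.card_image_of_injective _ e.injective, Finset.card_univ, Fintype.card_fin,
      Fintype.card_fin]
    omega
  have huniv := Finset.eq_univ_of_card _ hcard
  have hmem : e j' ∈ Finset.univ.image c ∪ J.image e := by rw [huniv]; exact Finset.mem_univ _
  rcases Finset.mem_union.1 hmem with h | h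
  · obtain ⟨i, -, hi⟩ := Finset.mem_image.1 h
    exact ⟨i, hi⟩
  · obtain ⟨j, hj, hji⟩ := Finset.mem_image.1 h
    exact absurd (e.injective hji ▸ hj) hj'

variable (b : Module.Basis (Fin d) A (Ω[A⁄k])) (hb : ∀ i, b i = KaehlerDifferential.D k A (t i))
  (ψ : ∀ (I J : Finset (Fin n)) (p : ℕ), ↥(⋀[(A ⧸ (⨆ i ∈ I, Ideal.span {t (e i)} : Ideal A))]^p (Ω[(A ⧸ (⨆ i ∈ I, Ideal.span {t (e i)} : Ideal A))⁄k])) →+ ↥(⋀[(A ⧸ (⨆ i ∈ J, Ideal.span {t (e i)} : Ideal A))]^p (Ω[(A ⧸ (⨆ i ∈ J, Ideal.span {t (e i)} : Ideal A))⁄k])))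
  (hψ : ∀ (I J : Finset (Fin n)) (h : I ⊆ J),
      DeRham.IsCxMap (KaehlerDifferential.D k (A ⧸ (⨆ i ∈ I, Ideal.span {t (e i)} : Ideal A))) (KaehlerDifferential.D k (A ⧸ (⨆ i ∈ J, Ideal.span {t (e i)} : Ideal A)))
        (Ideal.Quotient.factor (biSup_mono h)) (ψ I J))

include hψ in
theorem psi_gen (m : ℕ) (I J : Finset (Fin n)) (h : I ⊆ J) (b₀ : A) (c : Fin m → Fin d) :
    ψ I J m (gen (KaehlerDifferential.D k (A ⧸ idl t e I)) m (Ideal.Quotient.mk _ b₀)
      (fun i => Ideal.Quotient.mk _ (t (c i)))) =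
    gen (KaehlerDifferential.D k (A ⧸ idl t e J)) m (Ideal.Quotient.mk _ b₀)
      (fun i => Ideal.Quotient.mk _ (t (c i))) := by
  rw [hψ I J h m]
  simp only [Ideal.Quotient.factor_mk]

include hb hψ in
theorem exists_lift_core (m : ℕ) (I : Finset (Fin n)) (j : Fin n) (hj : j ∉ I)
    (hd : I.card + 1 + m = d)
    (x : ⋀[A ⧸ idl t e (insert j I)]^m (Ω[(A ⧸ idl t e (insert j I))⁄k])) :
    ∃ L : ⋀[A ⧸ idl t e I]^m (Ω[(A ⧸ idl t e I)⁄k]),
      ψ I (insert j I) m L = x ∧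
      ∀ j', j' ∉ I → j' ≠ j → ψ I (insert j' I) m L = 0 := by
  classical
  have hx := mem_closure_gen t b hb (idl t e (insert j I)) m x
  refine AddSubgroup.closure_induction (p := fun x _ =>
    ∃ L : ⋀[A ⧸ idl t e I]^m (Ω[(A ⧸ idl t e I)⁄k]),
      ψ I (insert j I) m L = x ∧
      ∀ j', j' ∉ I → j' ≠ j → ψ I (insert j' I) m L = 0) ?_ ?_ ?_ ?_ hx
  · rintro _ ⟨b₀, c, rfl⟩
    by_cases hgood : Function.Injective c ∧ ∀ i, ∀ j'' ∈ insert j I, c i ≠ e j''
    · obtain ⟨hinj, havoid⟩ := hgood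
      refine ⟨gen (KaehlerDifferential.D k (A ⧸ idl t e I)) m (Ideal.Quotient.mk _ b₀)
        (fun i => Ideal.Quotient.mk _ (t (c i))), ?_, ?_⟩
      · exact psi_gen t e ψ hψ m I (insert j I) (Finset.subset_insert j I) b₀ c
      · intro j' hj'I hj'j
        rw [psi_gen t e ψ hψ m I (insert j' I) (Finset.subset_insert j' I) b₀ c]
        have hj'J : j' ∉ insert j I := by
          rw [Finset.mem_insert]; push Not; exact ⟨hj'j, hj'I⟩
        have hcardJ : (insert j I).card + m = d := by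
          rw [Finset.card_insert_of_notMem hj]; exact hd
        obtain ⟨i, hi⟩ := exists_eq_of_injective e m (insert j I) hcardJ c hinj havoid j' hj'J
        exact gen_eq_zero_of_mem t e m (insert j' I) _ c i j' (Finset.mem_insert_self _ _) hi
    · refine ⟨0, ?_, fun _ _ _ => map_zero _⟩
      rw [map_zero]
      symm
      rw [not_and_or] at hgood
      rcases hgood with h | h
      · exact gen_eq_zero_of_not_injective t e m (insert j I) _ c h
      · push Not at h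
        obtain ⟨i, j'', hj'', hc⟩ := h
        exact gen_eq_zero_of_mem t e m (insert j I) _ c i j'' hj'' hc
  · exact ⟨0, map_zero _, fun _ _ _ => map_zero _⟩
  · rintro x y _ _ ⟨Lx, hx1, hx2⟩ ⟨Ly, hy1, hy2⟩
    refine ⟨Lx + Ly, by rw [map_add, hx1, hy1], fun j' h1 h2 => ?_⟩
    rw [map_add, hx2 j' h1 h2, hy2 j' h1 h2, add_zero]
  · rintro x _ ⟨Lx, hx1, hx2⟩
    refine ⟨-Lx, by rw [map_neg, hx1], fun j' h1 h2 => ?_⟩
    rw [map_neg, hx2 j' h1 h2, neg_zero]

include hb hψ in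
theorem exists_lift (s m : ℕ) (hs : s + 1 + m = d)
    (g : ∀ J : Finset (Fin n), ↥(⋀[(A ⧸ (⨆ i ∈ J, Ideal.span {t (e i)} : Ideal A))]^m (Ω[(A ⧸ (⨆ i ∈ J, Ideal.span {t (e i)} : Ideal A))⁄k])))
    (I : Finset (Fin n)) (j : Fin n) :
    ∃ L : ⋀[A ⧸ idl t e I]^m (Ω[(A ⧸ idl t e I)⁄k]), j ∉ I → I.card = s →
      (∀ J', J' = insert j I → ψ I J' m L = g J') ∧
      (∀ j' J', j' ∉ I → j' ≠ j → J' = insert j' I → ψ I J' m L = 0) := by
  by_cases h : j ∉ I ∧ I.card = s
  · obtain ⟨L, h1, h2⟩ := exists_lift_core t e b hb ψ hψ m I j h.1 (by rw [h.2]; exact hs)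
      (g (insert j I))
    refine ⟨L, fun _ _ => ⟨?_, ?_⟩⟩
    · rintro J' rfl
      exact h1
    · rintro j' J' hj' hne rfl
      exact h2 j' hj' hne
  · exact ⟨0, fun h1 h2 => absurd ⟨h1, h2⟩ h⟩

include hb hψ in
theorem main (s m : ℕ) (hs : s + 1 + m = d)
    (g : ∀ J : Finset (Fin n), ↥(⋀[(A ⧸ (⨆ i ∈ J, Ideal.span {t (e i)} : Ideal A))]^m (Ω[(A ⧸ (⨆ i ∈ J, Ideal.span {t (e i)} : Ideal A))⁄k]))) :
    ∃ ω : ∀ I : Finset (Fin n), ↥(⋀[(A ⧸ (⨆ i ∈ I, Ideal.span {t (e i)} : Ideal A))]^m (Ω[(A ⧸ (⨆ i ∈ I, Ideal.span {t (e i)} : Ideal A))⁄k])),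
      ∀ J : Finset (Fin n), J.card = s + 1 →
        (∑ j ∈ J.attach,
          ((-1 : ℤ) ^ (J.filter (fun i => i < j.1)).card) •
            ψ (J.erase j.1) J m (ω (J.erase j.1))) = g J := by
  classical
  choose Lft hL using exists_lift t e b hb ψ hψ s m hs g
  refine ⟨fun I => ∑ j ∈ Finset.univ.filter (fun j => j ∉ I ∧ ∀ i ∈ I, j < i), Lft I j, ?_⟩
  intro J hJ
  have hne : J.Nonempty := Finset.card_pos.1 (by omega)
  have hmin := J.min'_mem hne
  rw [Finset.sum_eq_single_of_mem (⟨J.min' hne, hmin⟩ : {x // x ∈ J}) (Finset.mem_attach _ _)]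
  · have hemp : J.filter (fun i => i < J.min' hne) = ∅ := by
      rw [Finset.filter_eq_empty_iff]
      intro i hi
      exact not_lt.2 (J.min'_le i hi)
    simp only [hemp, Finset.card_empty, pow_zero, one_smul]
    have hcard : (J.erase (J.min' hne)).card = s := by
      rw [Finset.card_erase_of_mem hmin, hJ]; rfl
    rw [map_sum, Finset.sum_eq_single_of_mem (J.min' hne)]
    · exact ((hL (J.erase (J.min' hne)) (J.min' hne) (Finset.notMem_erase _ _) hcard).1 J
        (Finset.insert_erase hmin).symm)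
    · rw [Finset.mem_filter]
      refine ⟨Finset.mem_univ _, Finset.notMem_erase _ _, fun i hi => ?_⟩
      exact lt_of_le_of_ne (J.min'_le i (Finset.mem_of_mem_erase hi))
        (Finset.ne_of_mem_erase hi).symm
    · intro j'' hj'' hne'
      rw [Finset.mem_filter] at hj''
      exact (hL (J.erase (J.min' hne)) j'' hj''.2.1 hcard).2 (J.min' hne) J
        (Finset.notMem_erase _ _) hne'.symm (Finset.insert_erase hmin).symm
  · rintro ⟨j, hjJ⟩ _ hne'
    have hjne : j ≠ J.min' hne := fun h => hne' (Subtype.ext h)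
    have hcard : (J.erase j).card = s := by
      rw [Finset.card_erase_of_mem hjJ, hJ]; rfl
    have hz : ψ (J.erase j) J m (∑ j' ∈ Finset.univ.filter
        (fun j' => j' ∉ J.erase j ∧ ∀ i ∈ J.erase j, j' < i), Lft (J.erase j) j') = 0 := by
      rw [map_sum]
      refine Finset.sum_eq_zero fun j'' hj'' => ?_
      rw [Finset.mem_filter] at hj''
      have hne'' : j ≠ j'' := by
        rintro rfl
        have := hj''.2.2 (J.min' hne) (Finset.mem_erase.2 ⟨hjne.symm, hmin⟩)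
        exact absurd (J.min'_le j hjJ) (not_le.2 this)
      exact (hL (J.erase j) j'' hj''.2.1 hcard).2 j J (Finset.notMem_erase _ _) hne''
        (Finset.insert_erase hjJ).symm
    show _ • ψ (J.erase j) J m _ = 0
    rw [hz, smul_zero]

end Lift

end Groth.Agent.Helper7.CechLift
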