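import Mathlib
import Groth.Prelude.Def_DeRham
import Groth.Agent.Helper7.CechLiftA

set_option autoImplicit false
set_option linter.unusedSectionVars false
set_option linter.unusedVariables false

/-! Zig-zag in the Čech–de Rham double complex of coordinate hyperplanes. -/

namespace Groth.Agent.Helper7.CechLift

open exteriorPower DeRham

universe u

section ZigZag

variable {k A : Type u} [CommRing k] [CommRing A] [Algebra k A] {d n : ℕ} (t : Fin d → A)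
  (e : Fin n ↪ Fin d)
  (b : Module.Basis (Fin d) A (Ω[A⁄k])) (hb : ∀ i, b i = KaehlerDifferential.D k A (t i))
  (ψ : ∀ (I J : Finset (Fin n)) (p : ℕ), ↥(⋀[(A ⧸ (⨆ i ∈ I, Ideal.span {t (e i)} : Ideal A))]^p (Ω[(A ⧸ (⨆ i ∈ I, Ideal.span {t (e i)} : Ideal A))⁄k])) →+ ↥(⋀[(A ⧸ (⨆ i ∈ J, Ideal.span {t (e i)} : Ideal A))]^p (Ω[(A ⧸ (⨆ i ∈ J, Ideal.span {t (e i)} : Ideal A))⁄k])))
  (hψ : ∀ (I J : Finset (Fin n)) (h : I ⊆ J),
      DeRham.IsCxMap (KaehlerDifferential.D k (A ⧸ (⨆ i ∈ I, Ideal.span {t (e i)} : Ideal A))) (KaehlerDifferential.D k (A ⧸ (⨆ i ∈ J, Ideal.span {t (e i)} : Ideal A)))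
        (Ideal.Quotient.factor (biSup_mono h)) (ψ I J))
  (dq : ∀ (I : Finset (Fin n)) (p : ℕ), ↥(⋀[(A ⧸ (⨆ i ∈ I, Ideal.span {t (e i)} : Ideal A))]^p (Ω[(A ⧸ (⨆ i ∈ I, Ideal.span {t (e i)} : Ideal A))⁄k])) →ₗ[k] ↥(⋀[(A ⧸ (⨆ i ∈ I, Ideal.span {t (e i)} : Ideal A))]^(p + 1) (Ω[(A ⧸ (⨆ i ∈ I, Ideal.span {t (e i)} : Ideal A))⁄k])))
  (ω : ∀ (J : Finset (Fin n)) (q : ℕ), ↥(⋀[(A ⧸ (⨆ i ∈ J, Ideal.span {t (e i)} : Ideal A))]^q (Ω[(A ⧸ (⨆ i ∈ J, Ideal.span {t (e i)} : Ideal A))⁄k])))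

include hb hψ in
theorem exists_base :
    ∃ η0 : ∀ I : Finset (Fin n), ↥(⋀[(A ⧸ (⨆ i ∈ I, Ideal.span {t (e i)} : Ideal A))]^0 (Ω[(A ⧸ (⨆ i ∈ I, Ideal.span {t (e i)} : Ideal A))⁄k])),
      ∀ J : Finset (Fin n), J.Nonempty → J.card = d →
        ω J 0 = ∑ j ∈ J.attach, ((-1 : ℤ) ^ (J.filter (fun i => i < j.1)).card) •
          ψ (J.erase j.1) J 0 (η0 (J.erase j.1)) := by
  by_cases hd : 1 ≤ d
  · obtain ⟨η0, h⟩ := main t e b hb ψ hψ (d - 1) 0 (by omega) (fun J => ω J 0)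
    exact ⟨η0, fun J _ hJ => (h J (by omega)).symm⟩
  · refine ⟨fun _ => 0, fun J hne hJ => ?_⟩
    have := Finset.card_pos.2 hne
    omega

include hb hψ in
theorem exists_step (q : ℕ)
    (prev : ∀ I : Finset (Fin n), ↥(⋀[(A ⧸ (⨆ i ∈ I, Ideal.span {t (e i)} : Ideal A))]^q (Ω[(A ⧸ (⨆ i ∈ I, Ideal.span {t (e i)} : Ideal A))⁄k]))) :
    ∃ next : ∀ I : Finset (Fin n), ↥(⋀[(A ⧸ (⨆ i ∈ I, Ideal.span {t (e i)} : Ideal A))]^(q + 1) (Ω[(A ⧸ (⨆ i ∈ I, Ideal.span {t (e i)} : Ideal A))⁄k])),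
      ∀ J : Finset (Fin n), J.Nonempty → J.card + (q + 1) = d →
        ω J (q + 1) =
          (∑ j ∈ J.attach, ((-1 : ℤ) ^ (J.filter (fun i => i < j.1)).card) •
            ψ (J.erase j.1) J (q + 1) (next (J.erase j.1))) +
            ((-1 : ℤ) ^ J.card) • dq J q (prev J) := by
  by_cases hd : q + 2 ≤ d
  · obtain ⟨next, h⟩ := main t e b hb ψ hψ (d - q - 2) (q + 1) (by omega)
      (fun J => ω J (q + 1) - ((-1 : ℤ) ^ J.card) • dq J q (prev J))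
    refine ⟨next, fun J _ hJ => ?_⟩
    rw [h J (by omega)]
    abel
  · refine ⟨fun _ => 0, fun J hne hJ => ?_⟩
    have := Finset.card_pos.2 hne
    omega

include hb hψ in
theorem zigzag :
    ∃ η : ∀ (I : Finset (Fin n)) (q : ℕ), ↥(⋀[(A ⧸ (⨆ i ∈ I, Ideal.span {t (e i)} : Ideal A))]^q (Ω[(A ⧸ (⨆ i ∈ I, Ideal.span {t (e i)} : Ideal A))⁄k])),
      (∀ (J : Finset (Fin n)) (q : ℕ), J.Nonempty → J.card + (q + 1) = d →
        ω J (q + 1) =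
          (∑ j ∈ J.attach, ((-1 : ℤ) ^ (J.filter (fun i => i < j.1)).card) • ψ (J.erase j.1) J (q + 1) (η (J.erase j.1) (q + 1))) +
            ((-1 : ℤ) ^ J.card) • dq J q (η J q)) ∧
      (∀ J : Finset (Fin n), J.Nonempty → J.card = d →
        ω J 0 = ∑ j ∈ J.attach, ((-1 : ℤ) ^ (J.filter (fun i => i < j.1)).card) • ψ (J.erase j.1) J 0 (η (J.erase j.1) 0)) := by
  obtain ⟨η0, h0⟩ := exists_base t e b hb ψ hψ ω
  choose step hstep using exists_step t e b hb ψ hψ dq ω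
  refine ⟨fun I q => (Nat.rec (motive := fun q => ∀ I : Finset (Fin n), ↥(⋀[(A ⧸ (⨆ i ∈ I, Ideal.span {t (e i)} : Ideal A))]^q (Ω[(A ⧸ (⨆ i ∈ I, Ideal.span {t (e i)} : Ideal A))⁄k]))) η0 (fun q prev => step q prev) q) I, ?_, ?_⟩
  · intro J q hne hJ
    exact hstep q _ J hne hJ
  · intro J hne hJ
    exact h0 J hne hJ

end ZigZag

end Groth.Agent.Helper7.CechLift
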