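import Mathlib

/-!
# Chevalley's extension lemma for places with values in an algebraically closed field (helper7)

`k` a field, `F` a field extension.  A "partial `k`-place" of `F` is encoded by its graph: a subalgebra
`Γ` of `F × k` on which the first projection is injective (`IsGraph`).  Zorn's lemma gives maximal ones
(`exists_maximal`); for `k` algebraically closed a maximal one is (the graph of the residue map of) a
valuation ring of `F` with residue field `k` (`inv_mem_of_maximal`, `mem_or_inv_mem_of_maximal`).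
-/

set_option autoImplicit false
set_option linter.unusedSectionVars false
universe u v

namespace Groth.Agent.Helper7.ChevExt

open Polynomial

variable {k : Type u} [Field k] {F : Type v} [Field F] [Algebra k F]

/-- A subalgebra of `F × k` is the graph of a partial place: the first projection is injective on it. -/
def IsGraph (Γ : Subalgebra k (F × k)) : Prop := ∀ z ∈ Γ, z.1 = 0 → z.2 = 0

theorem isGraph_sSup {c : Set (Subalgebra k (F × k))} (hc : IsChain (· ≤ ·) c) (hne : c.Nonempty)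
    (h : ∀ Γ ∈ c, IsGraph Γ) : IsGraph (sSup c) := by
  intro z hz hz1
  haveI : Nonempty c := hne.to_subtype
  rw [sSup_eq_iSup'] at hz
  have hdir : Directed (· ≤ ·) (fun i : c => (i : Subalgebra k (F × k))) := by
    intro a b
    rcases hc.total a.2 b.2 with hab | hab
    · exact ⟨b, hab, le_rfl⟩
    · exact ⟨a, le_rfl, hab⟩
  have hz' : z ∈ ⋃ i : c, ((i : Subalgebra k (F × k)) : Set (F × k)) := by
    rw [← Subalgebra.coe_iSup_of_directed hdir]; exact hz
  obtain ⟨i, hi⟩ := Set.mem_iUnion.mp hz'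
  exact h i.1 i.2 z hi hz1

theorem exists_maximal (Γ₀ : Subalgebra k (F × k)) (h₀ : IsGraph Γ₀) :
    ∃ Γ, Γ₀ ≤ Γ ∧ Maximal IsGraph Γ := by
  refine zorn_le_nonempty₀ {Γ | IsGraph Γ} ?_ Γ₀ h₀
  intro c hcs hc y hy
  exact ⟨sSup c, isGraph_sSup hc ⟨y, hy⟩ (fun Γ hΓ => hcs hΓ), fun z hz => le_sSup hz⟩

/-- "Localisation" of a subalgebra of `F × k` at an element `u` of it, inside `F × k`. -/
def locSub (Γ : Subalgebra k (F × k)) (u : F × k) (hu : u ∈ Γ) : Subalgebra k (F × k) where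
  carrier := {z | ∃ N : ℕ, z * u ^ N ∈ Γ}
  mul_mem' := by
    rintro a b ⟨N, hN⟩ ⟨M, hM⟩
    refine ⟨N + M, ?_⟩
    have : a * b * u ^ (N + M) = (a * u ^ N) * (b * u ^ M) := by rw [pow_add]; ring
    rw [this]; exact Γ.mul_mem hN hM
  add_mem' := by
    rintro a b ⟨N, hN⟩ ⟨M, hM⟩
    refine ⟨N + M, ?_⟩
    have : (a + b) * u ^ (N + M) = (a * u ^ N) * u ^ M + (b * u ^ M) * u ^ N := by rw [pow_add]; ring
    rw [this]
    exact Γ.add_mem (Γ.mul_mem hN (Γ.pow_mem hu M)) (Γ.mul_mem hM (Γ.pow_mem hu N))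
  algebraMap_mem' r := ⟨0, by simpa using Γ.algebraMap_mem r⟩

theorem le_locSub (Γ : Subalgebra k (F × k)) (u : F × k) (hu : u ∈ Γ) : Γ ≤ locSub Γ u hu :=
  fun z hz => ⟨0, by simpa using hz⟩

theorem isGraph_locSub {Γ : Subalgebra k (F × k)} (hΓ : IsGraph Γ) (u : F × k) (hu : u ∈ Γ)
    (hu2 : u.2 ≠ 0) : IsGraph (locSub Γ u hu) := by
  rintro z ⟨N, hN⟩ hz
  have h1 : (z * u ^ N).1 = 0 := by simp [hz]
  have h2 := hΓ _ hN h1
  simp only [Prod.snd_mul, Prod.pow_snd, mul_eq_zero] at h2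
  rcases h2 with h2 | h2
  · exact h2
  · exact absurd (pow_eq_zero_iff (M₀ := k) (a := u.2) (n := N) (by rintro rfl; simp at h2) |>.mp h2) hu2

/-- In a maximal graph, elements with non-zero value are invertible. -/
theorem inv_mem_of_maximal {Γ : Subalgebra k (F × k)} (hΓ : Maximal IsGraph Γ) (u : F × k)
    (hu : u ∈ Γ) (hu2 : u.2 ≠ 0) : (u.1⁻¹, u.2⁻¹) ∈ Γ := by
  have hu1 : u.1 ≠ 0 := fun h => hu2 (hΓ.1 u hu h)
  have hle : locSub Γ u hu ≤ Γ := hΓ.2 (isGraph_locSub hΓ.1 u hu hu2) (le_locSub Γ u hu)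
  apply hle
  refine ⟨1, ?_⟩
  have : ((u.1⁻¹, u.2⁻¹) : F × k) * u ^ 1 = 1 := by
    rw [pow_one]
    ext
    · simp [hu1]
    · simp [hu2]
  rw [this]; exact Γ.one_mem

end Groth.Agent.Helper7.ChevExt
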