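import Mathlib
import Groth.Agent.Helper7.ChevExtA

/-!
# Chevalley's extension lemma, II: the polynomial step (helper7)
-/

set_option autoImplicit false
set_option linter.unusedSectionVars false
universe u v

namespace Groth.Agent.Helper7.ChevExt

open Polynomial

variable {k : Type u} [Field k] {F : Type v} [Field F] [Algebra k F]

/-- first projection on a subalgebra of `F × k` -/
def pr1 (Γ : Subalgebra k (F × k)) : Γ →ₐ[k] F := (AlgHom.fst k F k).comp Γ.val
/-- second projection on a subalgebra of `F × k` -/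
def pr2 (Γ : Subalgebra k (F × k)) : Γ →ₐ[k] k := (AlgHom.snd k F k).comp Γ.val

@[simp] theorem pr1_apply (Γ : Subalgebra k (F × k)) (z : Γ) : pr1 Γ z = (z : F × k).1 := rfl
@[simp] theorem pr2_apply (Γ : Subalgebra k (F × k)) (z : Γ) : pr2 Γ z = (z : F × k).2 := rfl

theorem pr1_injective {Γ : Subalgebra k (F × k)} (hΓ : IsGraph Γ) : Function.Injective (pr1 Γ) := by
  rw [injective_iff_map_eq_zero]
  intro z hz
  have h2 := hΓ z.1 z.2 hz
  exact Subtype.ext (Prod.ext hz h2)

theorem pr2_surjective (Γ : Subalgebra k (F × k)) : Function.Surjective (pr2 Γ) := by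
  intro c
  exact ⟨algebraMap k Γ c, by simp [pr2]⟩

/-- the subalgebra obtained by adjoining `(x, c)` to `Γ` -/
noncomputable def adjoinPt (Γ : Subalgebra k (F × k)) (x : F) (c : k) : Subalgebra k (F × k) :=
  (AlgHom.prod (aevalTower (pr1 Γ) x) (aevalTower (pr2 Γ) c)).range

theorem le_adjoinPt (Γ : Subalgebra k (F × k)) (x : F) (c : k) : Γ ≤ adjoinPt Γ x c := by
  intro z hz
  refine ⟨C (⟨z, hz⟩ : Γ), ?_⟩
  simp [AlgHom.prod_apply]

theorem mem_adjoinPt (Γ : Subalgebra k (F × k)) (x : F) (c : k) : (x, c) ∈ adjoinPt Γ x c :=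
  ⟨X, by simp [AlgHom.prod_apply]⟩

variable [IsAlgClosed k]

/-- Key step: if `x` cannot be given a value, then `1` is in the extended kernel. -/
theorem exists_poly_of_not_mem {Γ : Subalgebra k (F × k)} (hΓ : Maximal IsGraph Γ) (x : F)
    (hx : ∀ c : k, (x, c) ∉ Γ) :
    ∃ p : Polynomial Γ, aevalTower (pr1 Γ) x p = 0 ∧ p.map (pr2 Γ).toRingHom = 1 := by
  by_contra hcon
  push Not at hcon
  set α : Polynomial Γ →ₐ[k] F := aevalTower (pr1 Γ) x with hα
  set β : Polynomial Γ →+* Polynomial k := mapRingHom (pr2 Γ).toRingHom with hβ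
  have hβs : Function.Surjective β := Polynomial.map_surjective _ (pr2_surjective Γ)
  set J : Ideal (Polynomial k) := Ideal.map β (RingHom.ker α.toRingHom) with hJ
  have hJtop : J ≠ ⊤ := by
    intro h
    have h1 : (1 : Polynomial k) ∈ J := by rw [h]; trivial
    rw [hJ, Ideal.mem_map_iff_of_surjective β hβs] at h1
    obtain ⟨p, hp, hp1⟩ := h1
    exact hcon p hp hp1
  -- a common root
  obtain ⟨c, hc⟩ : ∃ c : k, ∀ f ∈ J, f.eval c = 0 := by
    obtain ⟨q, hq⟩ : ∃ q, J = Ideal.span {q} := ⟨_, (IsPrincipalIdealRing.principal J).span_singleton_generator.symm⟩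
    by_cases hq0 : q = 0
    · refine ⟨0, fun f hf => ?_⟩
      rw [hq, hq0, Ideal.span_singleton_zero] at hf
      rw [Ideal.mem_bot.mp hf]; simp
    · have hdeg : q.degree ≠ 0 := by
        intro hd
        apply hJtop
        rw [hq, Ideal.span_singleton_eq_top]
        exact Polynomial.isUnit_iff_degree_eq_zero.mpr hd
      obtain ⟨c, hc⟩ := IsAlgClosed.exists_root q hdeg
      refine ⟨c, fun f hf => ?_⟩
      rw [hq, Ideal.mem_span_singleton] at hf
      obtain ⟨r, rfl⟩ := hf
      rw [eval_mul, hc.eq_zero, zero_mul]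
  have hgr : IsGraph (adjoinPt Γ x c) := by
    rintro z ⟨p, rfl⟩ hz
    change aevalTower (pr1 Γ) x p = 0 at hz
    change aevalTower (pr2 Γ) c p = 0
    have hpJ : β p ∈ J := Ideal.mem_map_of_mem β (by simpa [RingHom.mem_ker] using hz)
    have := hc _ hpJ
    rw [hβ, coe_mapRingHom, eval_map] at this
    exact this
  have hle := hΓ.2 hgr (le_adjoinPt Γ x c)
  exact hx c (hle (mem_adjoinPt Γ x c))

end Groth.Agent.Helper7.ChevExt
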