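import Mathlib
import Groth.Agent.Helper7.ChevExtB

/-!
# Chevalley's extension lemma, III: a maximal graph is a valuation ring (helper7)
-/

set_option autoImplicit false
set_option linter.unusedSectionVars false
universe u v

namespace Groth.Agent.Helper7.ChevExt

open Polynomial

variable {k : Type u} [Field k] {F : Type v} [Field F] [Algebra k F]

theorem isUnit_of_pr2_ne_zero {Γ : Subalgebra k (F × k)} (hΓ : Maximal IsGraph Γ) (z : Γ)
    (hz : pr2 Γ z ≠ 0) : IsUnit z := by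
  have hz1 : (z : F × k).1 ≠ 0 := fun h => hz (hΓ.1 z.1 z.2 h)
  refine isUnit_iff_exists_inv.mpr ⟨⟨_, inv_mem_of_maximal hΓ z.1 z.2 hz⟩, ?_⟩
  apply Subtype.ext
  rw [pr2_apply] at hz
  ext
  · simp [hz1]
  · simp [hz]

theorem isLocalRing_of_maximal {Γ : Subalgebra k (F × k)} (hΓ : Maximal IsGraph Γ) :
    IsLocalRing Γ := by
  refine IsLocalRing.of_isUnit_or_isUnit_one_sub_self fun z => ?_
  by_cases hz : pr2 Γ z = 0
  · right
    apply isUnit_of_pr2_ne_zero hΓ
    rw [map_sub, map_one, hz, sub_zero]; exact one_ne_zero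
  · left; exact isUnit_of_pr2_ne_zero hΓ z hz

theorem ker_pr2_eq_maximalIdeal {Γ : Subalgebra k (F × k)} (hΓ : Maximal IsGraph Γ) :
    haveI := isLocalRing_of_maximal hΓ
    RingHom.ker (pr2 Γ) = IsLocalRing.maximalIdeal Γ := by
  haveI := isLocalRing_of_maximal hΓ
  ext z
  rw [RingHom.mem_ker, IsLocalRing.mem_maximalIdeal, mem_nonunits_iff]
  constructor
  · intro h hu
    have := hu.map (pr2 Γ)
    rw [h] at this
    exact not_isUnit_zero this
  · intro h
    by_contra h0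
    exact h (isUnit_of_pr2_ne_zero hΓ z h0)

/-- `F` as an algebra over the graph ring, through the first projection. -/
@[reducible] def algGF (Γ : Subalgebra k (F × k)) : Algebra Γ F := (pr1 Γ).toRingHom.toAlgebra

variable [IsAlgClosed k]

/-- A maximal graph is integrally closed in `F`. -/
theorem mem_of_isIntegral {Γ : Subalgebra k (F × k)} (hΓ : Maximal IsGraph Γ) (y : F)
    (hy : letI := algGF Γ; IsIntegral Γ y) : ∃ c : k, (y, c) ∈ Γ := by
  letI := algGF Γ
  haveI := isLocalRing_of_maximal hΓ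
  by_contra hcon
  push Not at hcon
  obtain ⟨p, hp0, hp1⟩ := exists_poly_of_not_mem hΓ y hcon
  set N : Submodule Γ F := Subalgebra.toSubmodule (Algebra.adjoin Γ {y}) with hN
  have hNfg : N.FG := hy.fg_adjoin_singleton
  set 𝔪 : Ideal Γ := RingHom.ker (pr2 Γ) with h𝔪
  have hjac : 𝔪 ≤ Ideal.jacobson ⊥ := by
    rw [IsLocalRing.jacobson_eq_maximalIdeal ⊥ bot_ne_top, h𝔪, ker_pr2_eq_maximalIdeal hΓ]
  have hyN : ∀ i : ℕ, y ^ i ∈ N := fun i =>
    (Algebra.adjoin Γ {y}).pow_mem (Algebra.subset_adjoin rfl) i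
  -- `1 ∈ 𝔪 • N`
  have h1 : (1 : F) ∈ 𝔪 • N := by
    have hq : (1 : F) = aeval y (1 - p) := by
      have : aeval y p = aevalTower (pr1 Γ) y p := rfl
      have h2 : aeval y (1 - p) = aeval y (1 : Polynomial Γ) - aeval y p := map_sub (aeval y) 1 p
      rw [h2, this, hp0, sub_zero, map_one]
    rw [hq, aeval_eq_sum_range]
    refine Submodule.sum_mem _ fun i _ => ?_
    refine Submodule.smul_mem_smul ?_ (hyN i)
    rw [h𝔪, RingHom.mem_ker]
    have : pr2 Γ ((1 - p).coeff i) = ((1 - p).map (pr2 Γ).toRingHom).coeff i := by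
      rw [coeff_map]; rfl
    rw [this, Polynomial.map_sub, Polynomial.map_one, hp1, sub_self, coeff_zero]
  have hle : N ≤ 𝔪 • N := by
    intro n hn
    have hmap : Submodule.map (LinearMap.mulLeft Γ n) (𝔪 • N) ≤ 𝔪 • N := by
      rw [Submodule.map_smul'']
      refine Submodule.smul_mono le_rfl ?_
      rintro _ ⟨n', hn', rfl⟩
      exact (Algebra.adjoin Γ {y}).mul_mem hn hn'
    have := hmap ⟨1, h1, rfl⟩
    simpa using this
  have hbot := Submodule.eq_bot_of_le_smul_of_le_jacobson_bot 𝔪 N hNfg hle hjac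
  have : (1 : F) ∈ N := (Algebra.adjoin Γ {y}).one_mem
  rw [hbot, Submodule.mem_bot] at this
  exact one_ne_zero this

/-- A maximal graph is a valuation ring of `F`. -/
theorem mem_or_inv_mem {Γ : Subalgebra k (F × k)} (hΓ : Maximal IsGraph Γ) (x : F) :
    (∃ c : k, (x, c) ∈ Γ) ∨ ∃ c : k, (x⁻¹, c) ∈ Γ := by
  letI := algGF Γ
  by_cases hx0 : x = 0
  · left; exact ⟨0, by rw [hx0]; exact Γ.zero_mem⟩
  by_cases hx : ∃ c : k, (x, c) ∈ Γ
  · left; exact hx
  right
  push Not at hx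
  obtain ⟨p, hp0, hp1⟩ := exists_poly_of_not_mem hΓ x hx
  apply mem_of_isIntegral hΓ
  have hc0 : pr2 Γ (p.coeff 0) = 1 := by
    have : pr2 Γ (p.coeff 0) = (p.map (pr2 Γ).toRingHom).coeff 0 := by rw [coeff_map]; rfl
    rw [this, hp1, coeff_one_zero]
  have hu : IsUnit (p.coeff 0) := isUnit_of_pr2_ne_zero hΓ _ (by rw [hc0]; exact one_ne_zero)
  have hne : p.coeff 0 ≠ 0 := hu.ne_zero
  letI := invertibleOfNonzero hx0
  have hrev : eval₂ (algebraMap Γ F) (⅟x) p.reverse = 0 :=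
    (eval₂_reverse_eq_zero_iff _ x p).mpr hp0
  have hlead : p.reverse.leadingCoeff = p.coeff 0 := by
    rw [reverse_leadingCoeff, trailingCoeff_eq_coeff_zero hne]
  obtain ⟨v, hv⟩ := hu.exists_left_inv
  refine ⟨C v * p.reverse, monic_C_mul_of_mul_leadingCoeff_eq_one (by rw [hlead, hv]), ?_⟩
  rw [eval₂_mul, ← invOf_eq_inv x, hrev, mul_zero]

end Groth.Agent.Helper7.ChevExt
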