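import Mathlib
import Groth.Agent.Helper7.ChevExtC

/-!
# Chevalley's extension lemma, IV: packaging (helper7)

For a maximal graph `Γ ⊆ F × k` (k algebraically closed): `Γ` is a valuation ring with fraction field
`F` (through the first projection) whose residue map is the second projection.
-/

set_option autoImplicit false
set_option linter.unusedSectionVars false
universe u v w

namespace Groth.Agent.Helper7.ChevExt

variable {k : Type u} [Field k] {F : Type v} [Field F] [Algebra k F]

theorem isDomain_of_isGraph {Γ : Subalgebra k (F × k)} (hΓ : IsGraph Γ) : IsDomain Γ :=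
  (pr1_injective hΓ).isDomain (pr1 Γ).toRingHom

theorem isScalarTower_algGF (Γ : Subalgebra k (F × k)) :
    letI := algGF Γ; IsScalarTower k Γ F := by
  letI := algGF Γ
  refine IsScalarTower.of_algebraMap_eq fun c => ?_
  change algebraMap k F c = pr1 Γ (algebraMap k Γ c)
  rw [AlgHom.commutes]

variable [IsAlgClosed k]

theorem isFractionRing {Γ : Subalgebra k (F × k)} (hΓ : Maximal IsGraph Γ) :
    letI := algGF Γ; IsFractionRing Γ F := by
  letI := algGF Γ
  haveI : FaithfulSMul Γ F := (faithfulSMul_iff_algebraMap_injective Γ F).mpr (pr1_injective hΓ.1)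
  refine IsFractionRing.of_field (R := Γ) (K := F) (fun z => ?_)
  rcases mem_or_inv_mem hΓ z with ⟨c, hc⟩ | ⟨c, hc⟩
  · refine ⟨⟨_, hc⟩, 1, ?_⟩
    rw [map_one, div_one]; rfl
  · refine ⟨1, ⟨_, hc⟩, ?_⟩
    rw [map_one]
    change z = 1 / z⁻¹
    rw [one_div, inv_inv]

theorem valuationRing {Γ : Subalgebra k (F × k)} (hΓ : Maximal IsGraph Γ) :
    haveI := isDomain_of_isGraph hΓ.1; ValuationRing Γ := by
  haveI := isDomain_of_isGraph hΓ.1
  letI := algGF Γ
  haveI := isFractionRing hΓ
  refine (ValuationRing.iff_isInteger_or_isInteger Γ F).mpr fun x => ?_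
  rcases mem_or_inv_mem hΓ x with ⟨c, hc⟩ | ⟨c, hc⟩
  · left; exact ⟨⟨_, hc⟩, rfl⟩
  · right; exact ⟨⟨_, hc⟩, rfl⟩

/-- Chevalley's extension lemma: a `k`-algebra map `y : B → k` (k algebraically closed) whose kernel
contains that of `f : B → F` extends to a place of `F`. -/
theorem chevalley {B : Type w} [CommRing B] [Algebra k B] (f : B →ₐ[k] F) (y : B →ₐ[k] k)
    (hker : RingHom.ker f ≤ RingHom.ker y) :
    ∃ Γ : Subalgebra k (F × k), Maximal IsGraph Γ ∧ ∀ b, (f b, y b) ∈ Γ := by
  have h₀ : IsGraph (AlgHom.prod f y).range := by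
    rintro z ⟨b, rfl⟩ hz
    exact hker hz
  obtain ⟨Γ, hle, hΓ⟩ := exists_maximal _ h₀
  exact ⟨Γ, hΓ, fun b => hle ⟨b, rfl⟩⟩

end Groth.Agent.Helper7.ChevExt
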