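import Mathlib
import Groth.Agent.Helper7.ChevExtD

/-!
# The valuative criterion for closures of images (helper7)

`φ : R' → A` a map of `k`-algebras (k algebraically closed), `y : R' → k` a rational point killing
`ker φ` (a point of the closure of the image of `Spec A → Spec R'`).  Then there are a valuation ring
`R ⊇ k` with residue field `k`, a point `Ξ` of `Spec A` with values in `Frac R` and an `R`-valued point
`h` of `Spec R'` which is the image of `Ξ` generically and specialises to `y`.
-/

set_option autoImplicit false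
set_option linter.unusedSectionVars false
universe u w

namespace Groth.Agent.Helper7.ChevExt

variable {k : Type u} [Field k] [IsAlgClosed k]

theorem valuative_core' {A : Type u} {R' : Type w} [CommRing A] [Algebra k A] [CommRing R'] [Algebra k R']
    (φ : R' →ₐ[k] A) (y : R' →ₐ[k] k) (hy : RingHom.ker φ ≤ RingHom.ker y) :
    ∃ (R : Type u) (_ : CommRing R) (_ : IsDomain R) (_ : ValuationRing R) (_ : Algebra k R)
      (res : R →ₐ[k] k) (Ξ : A →ₐ[k] FractionRing R) (h : R' →ₐ[k] R),
      RingHom.ker res = IsLocalRing.maximalIdeal R ∧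
        (IsScalarTower.toAlgHom k R (FractionRing R)).comp h = Ξ.comp φ ∧ res.comp h = y := by
  haveI : (RingHom.ker y).IsPrime := RingHom.ker_isPrime y
  obtain ⟨𝔮, -, h𝔮, hle⟩ := Ideal.exists_ideal_comap_le_prime (f := φ) (RingHom.ker y) (⊥ : Ideal A)
    (by
      intro b hb
      apply hy
      simpa [Ideal.mem_comap, RingHom.mem_ker] using hb)
  let F := FractionRing (A ⧸ 𝔮)
  let ψ : A →ₐ[k] F := (IsScalarTower.toAlgHom k (A ⧸ 𝔮) F).comp (Ideal.Quotient.mkₐ k 𝔮)
  let f : R' →ₐ[k] F := ψ.comp φ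
  have hker : RingHom.ker f ≤ RingHom.ker y := by
    intro b hb
    apply hle
    rw [Ideal.mem_comap]
    rw [RingHom.mem_ker] at hb
    have h1 : algebraMap (A ⧸ 𝔮) F (Ideal.Quotient.mk 𝔮 (φ b)) = 0 := hb
    have h2 := (IsFractionRing.injective (A ⧸ 𝔮) F) (h1.trans (map_zero _).symm)
    exact Ideal.Quotient.eq_zero_iff_mem.mp h2
  obtain ⟨Γ, hΓ, hmem⟩ := chevalley f y hker
  haveI := isDomain_of_isGraph hΓ.1
  haveI := valuationRing hΓ
  letI := algGF Γ
  haveI := isFractionRing hΓ
  haveI := isScalarTower_algGF Γ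
  let e : FractionRing Γ ≃ₐ[Γ] F := FractionRing.algEquiv Γ F
  let ek : F ≃ₐ[k] FractionRing Γ := (e.symm.restrictScalars k)
  let h : R' →ₐ[k] Γ := (AlgHom.prod f y).codRestrict Γ hmem
  refine ⟨Γ, inferInstance, inferInstance, inferInstance, inferInstance, pr2 Γ,
    (ek : F →ₐ[k] FractionRing Γ).comp ψ, h, ?_, ?_, ?_⟩
  · exact ker_pr2_eq_maximalIdeal hΓ
  · apply AlgHom.ext
    intro b
    change algebraMap Γ (FractionRing Γ) (h b) = e.symm (f b)
    rw [AlgEquiv.eq_symm_apply, AlgEquiv.commutes]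
    rfl
  · apply AlgHom.ext
    intro b
    rfl

end Groth.Agent.Helper7.ChevExt
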