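import Mathlib

/-!
# Graded centre of a Clifford algebra via contractions (characteristic free)
-/

set_option autoImplicit false
universe u v
open CliffordAlgebra

namespace Groth.Agent.Helper7.Clf

variable {R : Type u} [CommRing R] {M : Type v} [AddCommGroup M] [Module R M]

section Basic
variable (Q : QuadraticForm R M)

/-- `v x - α(x) v` is the contraction of `x` with `B_Q(v, ·)`. -/
theorem ι_mul_sub_involute_mul_ι (v : M) (x : CliffordAlgebra Q) :
    ι Q v * x - involute x * ι Q v = contractLeft (R := R) (M := M) (QuadraticMap.polarBilin Q v) x := by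
  induction x using CliffordAlgebra.left_induction with
  | algebraMap r =>
    rw [contractLeft_algebraMap, involute.commutes, Algebra.commutes, sub_self]
  | add x y hx hy =>
    rw [map_add, map_add, mul_add, add_mul, ← hx, ← hy]; abel
  | ι_mul x m hx =>
    rw [contractLeft_ι_mul, ← hx, map_mul, involute_ι, QuadraticMap.polarBilin_apply_apply]
    have h1 : ι Q v * (ι Q m * x) = algebraMap R _ (QuadraticMap.polar Q v m) * x - ι Q m * (ι Q v * x) := by
      rw [← mul_assoc, ι_mul_ι_comm, sub_mul, mul_assoc]
    rw [h1, Algebra.smul_def]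
    noncomm_ring

end Basic

section Zero

/-! ### The Clifford algebra of the zero form (exterior algebra) -/

variable {ι' : Type*} [DecidableEq ι'] (b : Module.Basis ι' R M)

local notation "Λ" => CliffordAlgebra (0 : QuadraticForm R M)

/-- left multiplication by a basis vector -/
noncomputable def EE (k : ι') : Λ →ₗ[R] Λ := LinearMap.mulLeft R (ι (0 : QuadraticForm R M) (b k))

/-- contraction with a coordinate functional -/
noncomputable def DD (k : ι') : Λ →ₗ[R] Λ := contractLeft (R := R) (M := M) (Q := 0) (b.coord k)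

/-- `D_k E_k`, the projection killing monomials containing `b k`. -/
noncomputable def PP (k : ι') : Λ →ₗ[R] Λ := (DD b k).comp (EE b k)

theorem EE_apply (k : ι') (x : Λ) : EE b k x = ι (0 : QuadraticForm R M) (b k) * x := rfl

theorem DD_apply (k : ι') (x : Λ) : DD b k x = contractLeft (R := R) (M := M) (b.coord k) x := rfl

theorem PP_apply (k : ι') (x : Λ) :
    PP b k x = x - ι (0 : QuadraticForm R M) (b k) * DD b k x := by
  rw [PP, LinearMap.comp_apply, EE_apply, DD_apply, contractLeft_ι_mul, DD_apply]
  simp

theorem ι_zero_anticomm (m m' : M) :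
    ι (0 : QuadraticForm R M) m * ι 0 m' = - (ι (0 : QuadraticForm R M) m' * ι 0 m) := by
  rw [ι_mul_ι_comm]; simp [QuadraticMap.polar]

theorem PP_EE_self (k : ι') (x : Λ) : PP b k (EE b k x) = 0 := by
  rw [PP, LinearMap.comp_apply, EE_apply, EE_apply, ← mul_assoc, ι_sq_scalar]
  simp [DD_apply]

theorem PP_EE_of_ne (k l : ι') (h : k ≠ l) (x : Λ) : PP b k (EE b l x) = EE b l (PP b k x) := by
  rw [PP_apply, PP_apply, EE_apply, EE_apply, DD_apply, DD_apply, contractLeft_ι_mul]
  have : b.coord k (b l) = 0 := by
    rw [Module.Basis.coord_apply, Module.Basis.repr_self, Finsupp.single_apply, if_neg (Ne.symm h)]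
  rw [this, zero_smul, zero_sub, mul_neg, sub_neg_eq_add, mul_sub, ← mul_assoc, ← mul_assoc,
    ι_zero_anticomm (b k) (b l)]
  simp [sub_eq_add_neg]

theorem PP_algebraMap (k : ι') (r : R) : PP b k (algebraMap R Λ r) = algebraMap R Λ r := by
  rw [PP_apply, DD_apply, contractLeft_algebraMap, mul_zero, sub_zero]

theorem PP_of_DD_eq_zero (k : ι') (x : Λ) (h : DD b k x = 0) : PP b k x = x := by
  rw [PP_apply, h, mul_zero, sub_zero]

/-- The projector attached to a finite set of indices. -/
theorem exists_proj (J : Finset ι') :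
    ∃ π : Λ →ₗ[R] Λ, (∀ x, (∀ k ∈ J, DD b k x = 0) → π x = x) ∧
      (∀ l ∈ J, ∀ x, π (EE b l x) = 0) ∧ (∀ l ∉ J, ∀ x, π (EE b l x) = EE b l (π x)) ∧
      (∀ r, π (algebraMap R Λ r) = algebraMap R Λ r) := by
  induction J using Finset.induction_on with
  | empty =>
    exact ⟨LinearMap.id, fun _ _ => rfl, fun l hl => absurd hl (Finset.notMem_empty l),
      fun _ _ _ => rfl, fun _ => rfl⟩
  | insert k J hk ih =>
    obtain ⟨π, h1, h2, h3, h4⟩ := ih
    refine ⟨(PP b k).comp π, ?_, ?_, ?_, ?_⟩
    · intro x hx
      rw [LinearMap.comp_apply, h1 x (fun l hl => hx l (Finset.mem_insert_of_mem hl)),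
        PP_of_DD_eq_zero b k x (hx k (Finset.mem_insert_self k J))]
    · intro l hl x
      rw [LinearMap.comp_apply]
      rcases Finset.mem_insert.mp hl with rfl | hl
      · rw [h3 l hk, PP_EE_self]
      · rw [h2 l hl, map_zero]
    · intro l hl x
      rw [Finset.mem_insert, not_or] at hl
      rw [LinearMap.comp_apply, LinearMap.comp_apply, h3 l hl.2, PP_EE_of_ne b k l (Ne.symm hl.1)]
    · intro r
      rw [LinearMap.comp_apply, h4, PP_algebraMap]

/-- An element of the exterior algebra killed by the contractions with the coordinates in `J`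
lies in the subalgebra generated by the other basis vectors. -/
theorem mem_adjoin_of_contract_eq_zero [Finite ι'] (J : Finset ι') (x : Λ)
    (hx : ∀ k ∈ J, contractLeft (R := R) (M := M) (b.coord k) x = 0) :
    x ∈ Algebra.adjoin R {y : Λ | ∃ l ∉ J, y = ι (0 : QuadraticForm R M) (b l)} := by
  classical
  haveI := Fintype.ofFinite ι'
  obtain ⟨π, h1, h2, h3, h4⟩ := exists_proj b J
  rw [← h1 x hx]
  generalize x = y
  induction y using CliffordAlgebra.left_induction with
  | algebraMap r => rw [h4]; exact Subalgebra.algebraMap_mem _ r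
  | add x y hx hy => rw [map_add]; exact Subalgebra.add_mem _ hx hy
  | ι_mul x m hx =>
    rw [← b.sum_repr m, map_sum, Finset.sum_mul, map_sum]
    refine Subalgebra.sum_mem _ (fun l _ => ?_)
    rw [map_smul, smul_mul_assoc, map_smul]
    refine Subalgebra.smul_mem _ ?_ _
    by_cases hl : l ∈ J
    · rw [← EE_apply, h2 l hl]; exact Subalgebra.zero_mem _
    · rw [← EE_apply, h3 l hl, EE_apply]
      exact Subalgebra.mul_mem _ (Algebra.subset_adjoin ⟨l, hl, rfl⟩) hx

end Zero

section Transport

variable (Q : QuadraticForm R M)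

/-- Transport of the previous statement to an arbitrary form on a free module. -/
theorem exists_changeForm_mem_adjoin [Module.Free R M] {ι' : Type*} [Finite ι'] (b : Module.Basis ι' R M)
    (J : Finset ι') (x : CliffordAlgebra Q)
    (hx : ∀ k ∈ J, contractLeft (R := R) (M := M) (b.coord k) x = 0) :
    ∃ (B : LinearMap.BilinForm R M) (h : B.toQuadraticMap = 0 - Q),
      changeForm h x ∈ Algebra.adjoin R
        {y : CliffordAlgebra (0 : QuadraticForm R M) | ∃ l ∉ J, y = ι (0 : QuadraticForm R M) (b l)} := by
  classical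
  obtain ⟨B, hB⟩ := LinearMap.BilinMap.toQuadraticMap_surjective (-Q)
  have h : B.toQuadraticMap = 0 - Q := by rw [hB, zero_sub]
  refine ⟨B, h, mem_adjoin_of_contract_eq_zero b J _ (fun k hk => ?_)⟩
  rw [← changeForm_contractLeft, hx k hk, map_zero]

/-- An element killed by all contractions is a scalar. -/
theorem exists_eq_algebraMap_of_contract [Module.Free R M] [Module.Finite R M] (x : CliffordAlgebra Q)
    (hx : ∀ d : Module.Dual R M, contractLeft (R := R) (M := M) d x = 0) :
    ∃ r : R, x = algebraMap R _ r := by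
  classical
  let b := Module.Free.chooseBasis R M
  obtain ⟨B, h, hmem⟩ := exists_changeForm_mem_adjoin Q b Finset.univ x (fun k _ => hx _)
  have hempty : {y : CliffordAlgebra (0 : QuadraticForm R M) |
      ∃ l ∉ (Finset.univ : Finset (Module.Free.ChooseBasisIndex R M)),
        y = ι (0 : QuadraticForm R M) (b l)} = ∅ := by
    ext y; simp
  rw [hempty, Algebra.adjoin_empty, Algebra.mem_bot] at hmem
  obtain ⟨r, hr⟩ := hmem
  refine ⟨r, ?_⟩
  apply (changeFormEquiv h).injective
  rw [changeFormEquiv_apply, changeFormEquiv_apply, changeForm_algebraMap, hr]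

/-- The graded centre of the Clifford algebra of a regular form consists of the scalars. -/
theorem exists_eq_algebraMap_of_graded_comm [Module.Free R M] [Module.Finite R M]
    (hQ : Function.Bijective (QuadraticMap.polarBilin Q)) (x : CliffordAlgebra Q)
    (hx : ∀ v : M, ι Q v * x = involute x * ι Q v) :
    ∃ r : R, x = algebraMap R _ r := by
  apply exists_eq_algebraMap_of_contract
  intro d
  obtain ⟨v, rfl⟩ := hQ.2 d
  rw [← ι_mul_sub_involute_mul_ι, hx v, sub_self]

/-- An element killed by the contractions with all coordinates but one is of the form `r + s w`. -/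
theorem exists_eq_add_smul_of_contract [Module.Free R M] {ι' : Type*} [Finite ι'] (b : Module.Basis ι' R M)
    (w : ι') (x : CliffordAlgebra Q)
    (hx : ∀ k, k ≠ w → contractLeft (R := R) (M := M) (b.coord k) x = 0) :
    ∃ r s : R, x = algebraMap R _ r + s • ι Q (b w) := by
  classical
  haveI := Fintype.ofFinite ι'
  obtain ⟨B, h, hmem⟩ := exists_changeForm_mem_adjoin Q b (Finset.univ.erase w) x
    (fun k hk => hx k (Finset.ne_of_mem_erase hk))
  have key : ∀ y ∈ Algebra.adjoin R {y : CliffordAlgebra (0 : QuadraticForm R M) |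
      ∃ l ∉ (Finset.univ.erase w), y = ι (0 : QuadraticForm R M) (b l)},
      ∃ r s : R, y = algebraMap R _ r + s • ι (0 : QuadraticForm R M) (b w) := by
    intro y hy
    induction hy using Algebra.adjoin_induction with
    | mem y hy =>
      obtain ⟨l, hl, rfl⟩ := hy
      have : l = w := by
        by_contra hne
        exact hl (Finset.mem_erase.mpr ⟨hne, Finset.mem_univ l⟩)
      subst this
      exact ⟨0, 1, by simp⟩
    | algebraMap r => exact ⟨r, 0, by simp⟩
    | add y y' _ _ hy hy' =>
      obtain ⟨r, s, rfl⟩ := hy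
      obtain ⟨r', s', rfl⟩ := hy'
      exact ⟨r + r', s + s', by rw [map_add, add_smul]; abel⟩
    | mul y y' _ _ hy hy' =>
      obtain ⟨r, s, rfl⟩ := hy
      obtain ⟨r', s', rfl⟩ := hy'
      refine ⟨r * r', r * s' + s * r', ?_⟩
      have hsq : ι (0 : QuadraticForm R M) (b w) * ι (0 : QuadraticForm R M) (b w) = 0 := by
        rw [ι_sq_scalar]; simp
      simp only [Algebra.algebraMap_eq_smul_one, add_mul, mul_add, smul_mul_smul_comm, hsq, one_mul,
        mul_one, smul_zero, add_zero]
      module
  obtain ⟨r, s, hrs⟩ := key _ hmem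
  refine ⟨r, s, ?_⟩
  apply (changeFormEquiv h).injective
  rw [changeFormEquiv_apply, changeFormEquiv_apply, map_add, map_smul, changeForm_algebraMap,
    changeForm_ι, hrs]

end Transport

end Groth.Agent.Helper7.Clf
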