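import Mathlib

/-!
# Regular quadratic forms over local rings: splitting off normalized planes
-/

set_option autoImplicit false
universe u v
open QuadraticMap

namespace Groth.Agent.Helper7.Clf

variable {R : Type u} [CommRing R] {M : Type v} [AddCommGroup M] [Module R M]

/-- A basis of `M` made of pairwise orthogonal normalized regular planes `⟨eᵢ, fᵢ⟩`:
`B(eᵢ, fᵢ) = 1`, `Q(eᵢ)` a unit, `1 - 4 Q(eᵢ) Q(fᵢ)` a unit. -/
structure PlaneBasis (Q : QuadraticForm R M) (ι : Type*) where
  b : Module.Basis (ι ⊕ ι) R M
  unit_e : ∀ i, IsUnit (Q (b (Sum.inl i)))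
  polar_ef : ∀ i, polar Q (b (Sum.inl i)) (b (Sum.inr i)) = 1
  disc : ∀ i, IsUnit (1 - 4 * Q (b (Sum.inl i)) * Q (b (Sum.inr i)))
  ortho_ee : ∀ i j, i ≠ j → polar Q (b (Sum.inl i)) (b (Sum.inl j)) = 0
  ortho_ef : ∀ i j, i ≠ j → polar Q (b (Sum.inl i)) (b (Sum.inr j)) = 0
  ortho_ff : ∀ i j, i ≠ j → polar Q (b (Sum.inr i)) (b (Sum.inr j)) = 0

section Local

variable [IsLocalRing R] (Q : QuadraticForm R M)

open IsLocalRing

theorem polar_mem_of_forall_mem (h : ∀ v, Q v ∈ maximalIdeal R) (x y : M) :
    polar Q x y ∈ maximalIdeal R := by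
  rw [polar]
  exact Ideal.sub_mem _ (Ideal.sub_mem _ (h _) (h _)) (h _)

/-- A regular form on a nonzero free module over a local ring represents a unit. -/
theorem exists_isUnit_apply [Module.Free R M] [Nontrivial M]
    (hQ : Function.Bijective (polarBilin Q)) : ∃ v, IsUnit (Q v) := by
  by_contra hcon
  push Not at hcon
  have h : ∀ v, Q v ∈ maximalIdeal R := fun v => (mem_maximalIdeal _).mpr (hcon v)
  let b := Module.Free.chooseBasis R M
  haveI : Nonempty (Module.Free.ChooseBasisIndex R M) := b.index_nonempty
  let i := Classical.arbitrary (Module.Free.ChooseBasisIndex R M)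
  obtain ⟨y, hy⟩ := hQ.2 (b.coord i)
  have h1 : polar Q y (b i) = 1 := by
    rw [← polarBilin_apply_apply, hy, Module.Basis.coord_apply, Module.Basis.repr_self,
      Finsupp.single_eq_same]
  have := polar_mem_of_forall_mem Q h y (b i)
  rw [h1] at this
  exact (maximalIdeal.isMaximal R).ne_top ((Ideal.eq_top_iff_one _).mpr this)

theorem apply_mem_of_mem_smul_top (x : M) (hx : x ∈ (maximalIdeal R) • (⊤ : Submodule R M)) :
    Q x ∈ maximalIdeal R ∧ ∀ y, polar Q x y ∈ maximalIdeal R := by
  refine Submodule.smul_induction_on hx ?_ ?_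
  · intro a ha y _
    refine ⟨?_, fun y' => ?_⟩
    · rw [QuadraticMap.map_smul, smul_eq_mul, mul_assoc]
      exact Ideal.mul_mem_right _ _ ha
    · rw [polar_smul_left, smul_eq_mul]
      exact Ideal.mul_mem_right _ _ ha
  · intro x x' hx hx'
    refine ⟨?_, fun y => ?_⟩
    · have : Q (x + x') = Q x + Q x' + polar Q x x' := by rw [polar]; ring
      rw [this]
      exact Ideal.add_mem _ (Ideal.add_mem _ hx.1 hx'.1) (hx.2 x')
    · rw [polar_add_left]
      exact Ideal.add_mem _ (hx.2 y) (hx'.2 y)

/-- If `Q e` is a unit, some `B(e, f)` equals one. -/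
theorem exists_polar_eq_one [Module.Free R M] [Module.Finite R M]
    (hQ : Function.Bijective (polarBilin Q)) (e : M) (he : IsUnit (Q e)) :
    ∃ f, polar Q e f = 1 := by
  by_cases hex : ∃ y, IsUnit (polar Q e y)
  · obtain ⟨y, hy⟩ := hex
    obtain ⟨u, hu⟩ := hy
    refine ⟨(↑u⁻¹ : R) • y, ?_⟩
    rw [polar_smul_right, ← hu, smul_eq_mul, Units.inv_mul]
  · exfalso
    push Not at hex
    let b := Module.Free.chooseBasis R M
    have hmem : e ∈ (maximalIdeal R) • (⊤ : Submodule R M) := by
      rw [← b.sum_repr e]
      refine Submodule.sum_mem _ (fun i _ => Submodule.smul_mem_smul ?_ Submodule.mem_top)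
      obtain ⟨y, hy⟩ := hQ.2 (b.coord i)
      have : b.repr e i = polar Q e y := by
        rw [polar_comm, ← polarBilin_apply_apply, hy, Module.Basis.coord_apply]
      rw [this]
      exact (mem_maximalIdeal _).mpr (hex y)
    exact (mem_maximalIdeal _).mp (apply_mem_of_mem_smul_top Q e hmem).1 he

theorem isUnit_sub_of_not_isUnit {u n : R} (hu : IsUnit u) (hn : ¬ IsUnit n) : IsUnit (n - u) := by
  by_contra h
  have h1 : n ∈ maximalIdeal R := (mem_maximalIdeal _).mpr hn
  have h2 : n - u ∈ maximalIdeal R := (mem_maximalIdeal _).mpr h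
  have : u ∈ maximalIdeal R := by
    have := Ideal.sub_mem _ h1 h2
    rwa [sub_sub_cancel] at this
  exact (mem_maximalIdeal _).mp this hu

/-- When `2` is a unit and the rank is at least two, the orthogonal of a unit-norm vector represents a unit. -/
theorem exists_ortho_isUnit [Module.Free R M] [Module.Finite R M]
    (hQ : Function.Bijective (polarBilin Q)) (hrk : 2 ≤ Module.finrank R M)
    (e : M) (he : IsUnit (Q e)) (h2 : IsUnit (2 : R)) :
    ∃ y, polar Q e y = 0 ∧ IsUnit (Q y) := by
  by_contra hcon
  push Not at hcon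
  obtain ⟨ta, hta⟩ := h2.mul he
  set c : R := ↑ta⁻¹ with hc
  have hc1 : c * (2 * Q e) = 1 := by rw [hc, ← hta, Units.inv_mul]
  -- the projection to the orthogonal of e
  have hperp : ∀ x, polar Q e (x - (c * polar Q e x) • e) = 0 := by
    intro x
    rw [polar_sub_right, polar_smul_right, polar_self, smul_eq_mul, nsmul_eq_mul]
    push_cast
    linear_combination (-polar Q e x) * hc1
  have hm : ∀ x, Q (x - (c * polar Q e x) • e) ∈ maximalIdeal R := fun x =>
    (mem_maximalIdeal _).mpr (hcon _ (hperp x))
  have hstar : ∀ x y, polar Q x y - c * polar Q e x * polar Q e y ∈ maximalIdeal R := by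
    intro x y
    have h1 : polar Q (x - (c * polar Q e x) • e) (y - (c * polar Q e y) • e) ∈ maximalIdeal R := by
      have hadd : (x + y) - (c * polar Q e (x + y)) • e =
          (x - (c * polar Q e x) • e) + (y - (c * polar Q e y) • e) := by
        rw [polar_add_right, mul_add, add_smul]; abel
      have := Ideal.sub_mem _ (Ideal.sub_mem _ (hm (x + y)) (hm x)) (hm y)
      rw [hadd] at this
      exact this
    have h2 : polar Q (x - (c * polar Q e x) • e) (y - (c * polar Q e y) • e) =
        polar Q x y - c * polar Q e x * polar Q e y := by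
      rw [polar_sub_left, polar_sub_right, polar_sub_right, polar_smul_left, polar_smul_right,
        polar_smul_left, polar_smul_right, polar_self, polar_comm Q x e]
      simp only [smul_eq_mul, nsmul_eq_mul]
      push_cast
      linear_combination (c * polar Q e x * polar Q e y) * hc1
    rwa [h2] at h1
  -- two distinct basis vectors
  let b := Module.Free.chooseBasis R M
  have hcard : 1 < Fintype.card (Module.Free.ChooseBasisIndex R M) := by
    rw [← Module.finrank_eq_card_chooseBasisIndex]; omega
  obtain ⟨i, j, hij⟩ := Fintype.one_lt_card_iff.mp hcard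
  obtain ⟨di, hdi⟩ := hQ.2 (b.coord i)
  obtain ⟨dj, hdj⟩ := hQ.2 (b.coord j)
  have pii : polar Q di (b i) = 1 := by
    rw [← polarBilin_apply_apply, hdi, Module.Basis.coord_apply, Module.Basis.repr_self,
      Finsupp.single_eq_same]
  have pjj : polar Q dj (b j) = 1 := by
    rw [← polarBilin_apply_apply, hdj, Module.Basis.coord_apply, Module.Basis.repr_self,
      Finsupp.single_eq_same]
  have pij : polar Q di (b j) = 0 := by
    rw [← polarBilin_apply_apply, hdi, Module.Basis.coord_apply, Module.Basis.repr_self,
      Finsupp.single_apply, if_neg (Ne.symm hij)]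
  have pji : polar Q dj (b i) = 0 := by
    rw [← polarBilin_apply_apply, hdj, Module.Basis.coord_apply, Module.Basis.repr_self,
      Finsupp.single_apply, if_neg hij]
  have mii := hstar di (b i)
  have mjj := hstar dj (b j)
  have mij := hstar di (b j)
  have mji := hstar dj (b i)
  rw [pii] at mii
  rw [pjj] at mjj
  rw [pij] at mij
  rw [pji] at mji
  have hone : (1 : R) ∈ maximalIdeal R := by
    have e1 : (1 : R) = (1 - c * polar Q e di * polar Q e (b i)) * 1
        + (1 - c * polar Q e dj * polar Q e (b j)) * (c * polar Q e di * polar Q e (b i))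
        - (0 - c * polar Q e di * polar Q e (b j)) * (0 - c * polar Q e dj * polar Q e (b i)
            + c * polar Q e dj * polar Q e (b i))
        - (0 - c * polar Q e dj * polar Q e (b i)) * (c * polar Q e di * polar Q e (b j)) := by
      ring
    rw [e1]
    exact Ideal.sub_mem _ (Ideal.sub_mem _ (Ideal.add_mem _ (Ideal.mul_mem_right _ _ mii)
      (Ideal.mul_mem_right _ _ mjj)) (Ideal.mul_mem_right _ _ mij)) (Ideal.mul_mem_right _ _ mji)
  exact (maximalIdeal.isMaximal R).ne_top ((Ideal.eq_top_iff_one _).mpr hone)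

/-- Existence of a normalized regular plane. -/
theorem exists_plane [Module.Free R M] [Module.Finite R M]
    (hQ : Function.Bijective (polarBilin Q)) (hrk : 2 ≤ Module.finrank R M) :
    ∃ e f, IsUnit (Q e) ∧ polar Q e f = 1 ∧ IsUnit (1 - 4 * Q e * Q f) := by
  haveI : Nontrivial M := Module.nontrivial_of_finrank_pos (R := R) (by omega)
  obtain ⟨e, he⟩ := exists_isUnit_apply Q hQ
  obtain ⟨f0, hf0⟩ := exists_polar_eq_one Q hQ e he
  by_cases h1 : IsUnit (1 - 4 * Q e * Q f0)
  · exact ⟨e, f0, he, hf0, h1⟩
  · have h4 : IsUnit (4 * Q e * Q f0) := (isUnit_or_isUnit_one_sub_self _).resolve_right h1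
    have h2 : IsUnit (2 : R) := by
      have : (4 * Q e * Q f0 : R) = 2 * (2 * Q e * Q f0) := by ring
      rw [this] at h4
      exact isUnit_of_mul_isUnit_left h4
    obtain ⟨y, hy0, hy⟩ := exists_ortho_isUnit Q hQ hrk e he h2
    have hsum : IsUnit ((Q y + polar Q f0 y) + (Q y - polar Q f0 y)) := by
      have : (Q y + polar Q f0 y) + (Q y - polar Q f0 y) = 2 * Q y := by ring
      rw [this]; exact h2.mul hy
    have h4e : IsUnit (4 * Q e) := by
      have : (4 * Q e * Q f0 : R) = (4 * Q e) * Q f0 := by ring
      rw [this] at h4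
      exact isUnit_of_mul_isUnit_left h4
    rcases isUnit_or_isUnit_of_isUnit_add hsum with hp | hm
    · refine ⟨e, f0 + y, he, by rw [polar_add_right, hf0, hy0, add_zero], ?_⟩
      have : Q (f0 + y) = Q f0 + Q y + polar Q f0 y := by rw [polar]; ring
      rw [this]
      have e1 : 1 - 4 * Q e * (Q f0 + Q y + polar Q f0 y) =
          (1 - 4 * Q e * Q f0) - (4 * Q e) * (Q y + polar Q f0 y) := by ring
      rw [e1]
      exact isUnit_sub_of_not_isUnit (h4e.mul hp) h1
    · refine ⟨e, f0 - y, he, by rw [polar_sub_right, hf0, hy0, sub_zero], ?_⟩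
      have : Q (f0 - y) = Q f0 + Q y - polar Q f0 y := by
        have h := polar_sub_right Q f0 f0 y
        have h' : polar Q f0 (f0 - y) = Q (f0 + (f0 - y)) - Q f0 - Q (f0 - y) := rfl
        have h3 : polar Q (f0 - y) y = Q (f0 - y + y) - Q (f0 - y) - Q y := rfl
        rw [sub_add_cancel, polar_sub_left, polar_self] at h3
        simp only [nsmul_eq_mul] at h3
        push_cast at h3
        linear_combination h3
      rw [this]
      have e1 : 1 - 4 * Q e * (Q f0 + Q y - polar Q f0 y) =
          (1 - 4 * Q e * Q f0) - (4 * Q e) * (Q y - polar Q f0 y) := by ring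
      rw [e1]
      exact isUnit_sub_of_not_isUnit (h4e.mul hm) h1

end Local

section Split

/-! ### Splitting off a normalized plane -/

variable (Q : QuadraticForm R M) (e f : M) (u : Rˣ)

/-- the orthogonal complement of the plane `⟨e, f⟩` -/
def perp : Submodule R M := LinearMap.ker (polarBilin Q e) ⊓ LinearMap.ker (polarBilin Q f)

theorem mem_perp (x : M) : x ∈ perp Q e f ↔ polar Q e x = 0 ∧ polar Q f x = 0 := by
  rw [perp, Submodule.mem_inf, LinearMap.mem_ker, LinearMap.mem_ker, polarBilin_apply_apply,
    polarBilin_apply_apply]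

/-- coefficient of `e` -/
noncomputable def lam : M →ₗ[R] R :=
  (↑u⁻¹ : R) • (polarBilin Q f - (2 * Q f) • polarBilin Q e)

/-- coefficient of `f` -/
noncomputable def mu : M →ₗ[R] R :=
  (↑u⁻¹ : R) • (polarBilin Q e - (2 * Q e) • polarBilin Q f)

theorem lam_apply (x : M) : lam Q e f u x = ↑u⁻¹ * (polar Q f x - 2 * Q f * polar Q e x) := by
  simp [lam]

theorem mu_apply (x : M) : mu Q e f u x = ↑u⁻¹ * (polar Q e x - 2 * Q e * polar Q f x) := by
  simp [mu]

variable (hef : polar Q e f = 1) (hu : (u : R) = 1 - 4 * Q e * Q f)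

include hef hu

theorem polar_e_proj (x : M) :
    polar Q e (x - lam Q e f u x • e - mu Q e f u x • f) = 0 := by
  rw [polar_sub_right, polar_sub_right, polar_smul_right, polar_smul_right, polar_self, hef,
    lam_apply, mu_apply]
  simp only [smul_eq_mul, nsmul_eq_mul]
  push_cast
  have h1 : (↑u⁻¹ : R) * (1 - 4 * Q e * Q f) = 1 := by rw [← hu, Units.inv_mul]
  linear_combination (-polar Q e x) * h1

theorem polar_f_proj (x : M) :
    polar Q f (x - lam Q e f u x • e - mu Q e f u x • f) = 0 := by
  rw [polar_sub_right, polar_sub_right, polar_smul_right, polar_smul_right, polar_self,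
    polar_comm Q f e, hef, lam_apply, mu_apply]
  simp only [smul_eq_mul, nsmul_eq_mul]
  push_cast
  have h1 : (↑u⁻¹ : R) * (1 - 4 * Q e * Q f) = 1 := by rw [← hu, Units.inv_mul]
  linear_combination (-polar Q f x) * h1

theorem lam_e : lam Q e f u e = 1 := by
  rw [lam_apply, polar_self, polar_comm Q f e, hef]
  simp only [nsmul_eq_mul]
  push_cast
  have h1 : (↑u⁻¹ : R) * (1 - 4 * Q e * Q f) = 1 := by rw [← hu, Units.inv_mul]
  linear_combination h1

omit hu in
theorem lam_f : lam Q e f u f = 0 := by
  rw [lam_apply, polar_self, hef]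
  simp only [nsmul_eq_mul]
  push_cast
  ring

omit hu in
theorem mu_e : mu Q e f u e = 0 := by
  rw [mu_apply, polar_self, polar_comm Q f e, hef]
  simp only [nsmul_eq_mul]
  push_cast
  ring

theorem mu_f : mu Q e f u f = 1 := by
  rw [mu_apply, polar_self, hef]
  simp only [nsmul_eq_mul]
  push_cast
  have h1 : (↑u⁻¹ : R) * (1 - 4 * Q e * Q f) = 1 := by rw [← hu, Units.inv_mul]
  linear_combination h1

omit hef hu in
theorem lam_perp (n : M) (hn : n ∈ perp Q e f) : lam Q e f u n = 0 := by
  rw [mem_perp] at hn
  rw [lam_apply, hn.1, hn.2]; ring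

omit hef hu in
theorem mu_perp (n : M) (hn : n ∈ perp Q e f) : mu Q e f u n = 0 := by
  rw [mem_perp] at hn
  rw [mu_apply, hn.1, hn.2]; ring

/-- the projection onto the orthogonal complement -/
noncomputable def projPerp : M →ₗ[R] perp Q e f :=
  LinearMap.codRestrict (perp Q e f)
    (LinearMap.id - (lam Q e f u).smulRight e - (mu Q e f u).smulRight f)
    (fun x => by
      rw [mem_perp]
      simp only [LinearMap.sub_apply, LinearMap.id_apply, LinearMap.smulRight_apply]
      exact ⟨polar_e_proj Q e f u hef hu x, polar_f_proj Q e f u hef hu x⟩)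

theorem projPerp_apply (x : M) :
    (projPerp Q e f u hef hu x : M) = x - lam Q e f u x • e - mu Q e f u x • f := by
  simp [projPerp]

theorem projPerp_of_mem (n : perp Q e f) : projPerp Q e f u hef hu n = n := by
  apply Subtype.ext
  rw [projPerp_apply, lam_perp Q e f u n n.2, mu_perp Q e f u n n.2]
  simp

/-- `M ≅ R² × ⟨e,f⟩^⊥` -/
noncomputable def splitEquiv : M ≃ₗ[R] (R × R) × perp Q e f where
  toFun x := ((lam Q e f u x, mu Q e f u x), projPerp Q e f u hef hu x)
  map_add' x y := by
    simp only [map_add, Prod.mk_add_mk]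
  map_smul' r x := by
    simp only [map_smul, RingHom.id_apply, Prod.smul_mk]
  invFun p := p.1.1 • e + p.1.2 • f + (p.2 : M)
  left_inv x := by
    simp only [projPerp_apply]
    abel
  right_inv := by
    rintro ⟨⟨s, t⟩, n⟩
    have h1 : lam Q e f u (s • e + t • f + (n : M)) = s := by
      rw [map_add, map_add, map_smul, map_smul, lam_e Q e f u hef hu, lam_f Q e f u hef,
        lam_perp Q e f u n n.2]
      simp
    have h2 : mu Q e f u (s • e + t • f + (n : M)) = t := by
      rw [map_add, map_add, map_smul, map_smul, mu_e Q e f u hef, mu_f Q e f u hef hu,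
        mu_perp Q e f u n n.2]
      simp
    refine Prod.ext (Prod.ext h1 h2) (Subtype.ext ?_)
    simp only [projPerp_apply]
    rw [h1, h2]
    abel

theorem splitEquiv_symm_apply (s t : R) (n : perp Q e f) :
    (splitEquiv Q e f u hef hu).symm ((s, t), n) = s • e + t • f + (n : M) := rfl

/-- the restriction of `Q` to the orthogonal complement -/
noncomputable def Qperp : QuadraticForm R (perp Q e f) := Q.comp (perp Q e f).subtype

omit hef hu in
theorem Qperp_apply (n : perp Q e f) : Qperp Q e f n = Q (n : M) := rfl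

omit hef hu in
theorem polar_Qperp (n n' : perp Q e f) : polar (Qperp Q e f) n n' = polar Q (n : M) (n' : M) := by
  simp only [polar, Qperp_apply, Submodule.coe_add]

theorem polar_eq_polar_projPerp (n : perp Q e f) (x : M) :
    polar Q (n : M) x = polar Q (n : M) (projPerp Q e f u hef hu x : M) := by
  have hn := (mem_perp Q e f n).mp n.2
  rw [projPerp_apply, polar_sub_right, polar_sub_right, polar_smul_right, polar_smul_right,
    polar_comm Q (n : M) e, polar_comm Q (n : M) f, hn.1, hn.2]
  simp

theorem regular_Qperp (hQ : Function.Bijective (polarBilin Q)) :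
    Function.Bijective (polarBilin (Qperp Q e f)) := by
  constructor
  · rw [injective_iff_map_eq_zero]
    intro n hn
    have h0 : polarBilin Q (n : M) = 0 := by
      apply LinearMap.ext
      intro x
      rw [polarBilin_apply_apply, polar_eq_polar_projPerp Q e f u hef hu n x, ← polar_Qperp,
        ← polarBilin_apply_apply, hn]
      rfl
    have := hQ.1 (h0.trans (map_zero _).symm)
    exact Subtype.ext this
  · intro φ
    obtain ⟨y, hy⟩ := hQ.2 (φ.comp (projPerp Q e f u hef hu))
    refine ⟨projPerp Q e f u hef hu y, ?_⟩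
    apply LinearMap.ext
    intro n'
    rw [polarBilin_apply_apply, polar_Qperp, polar_comm, ← polar_eq_polar_projPerp Q e f u hef hu n' y,
      polar_comm, ← polarBilin_apply_apply, hy, LinearMap.comp_apply, projPerp_of_mem]

theorem finite_perp [Module.Finite R M] : Module.Finite R (perp Q e f) :=
  Module.Finite.of_surjective (projPerp Q e f u hef hu) (fun n => ⟨n, projPerp_of_mem Q e f u hef hu n⟩)

theorem free_perp [IsLocalRing R] [Module.Free R M] [Module.Finite R M] : Module.Free R (perp Q e f) := by
  haveI := finite_perp Q e f u hef hu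
  haveI : Module.Projective R (perp Q e f) :=
    Module.Projective.of_split (perp Q e f).subtype (projPerp Q e f u hef hu)
      (LinearMap.ext fun n => projPerp_of_mem Q e f u hef hu n)
  exact Module.free_of_flat_of_isLocalRing

theorem finrank_perp [IsLocalRing R] [Module.Free R M] [Module.Finite R M] :
    Module.finrank R (perp Q e f) + 2 = Module.finrank R M := by
  haveI := finite_perp Q e f u hef hu
  haveI := free_perp Q e f u hef hu
  have := LinearEquiv.finrank_eq (splitEquiv Q e f u hef hu)
  rw [Module.finrank_prod, Module.finrank_prod, Module.finrank_self] at this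
  omega

/-- index bookkeeping -/
def optEquiv (ι : Type*) : (Unit ⊕ Unit) ⊕ (ι ⊕ ι) ≃ Option ι ⊕ Option ι where
  toFun
    | Sum.inl (Sum.inl _) => Sum.inl none
    | Sum.inl (Sum.inr _) => Sum.inr none
    | Sum.inr (Sum.inl i) => Sum.inl (some i)
    | Sum.inr (Sum.inr i) => Sum.inr (some i)
  invFun
    | Sum.inl none => Sum.inl (Sum.inl ())
    | Sum.inr none => Sum.inl (Sum.inr ())
    | Sum.inl (some i) => Sum.inr (Sum.inl i)
    | Sum.inr (some i) => Sum.inr (Sum.inr i)
  left_inv := by rintro ((_ | _) | (_ | _)) <;> rfl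
  right_inv := by rintro ((_ | _) | (_ | _)) <;> rfl

/-- The basis obtained by adding the plane `⟨e, f⟩` to a basis of its orthogonal complement. -/
noncomputable def consBasis {ι : Type*} (c : Module.Basis (ι ⊕ ι) R (perp Q e f)) :
    Module.Basis (Option ι ⊕ Option ι) R M :=
  ((((Module.Basis.singleton Unit R).prod (Module.Basis.singleton Unit R)).prod c).map
    (splitEquiv Q e f u hef hu).symm).reindex (optEquiv ι)

theorem consBasis_inl_none {ι : Type*} (c : Module.Basis (ι ⊕ ι) R (perp Q e f)) :
    consBasis Q e f u hef hu c (Sum.inl none) = e := by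
  rw [consBasis, Module.Basis.reindex_apply, Module.Basis.map_apply]
  change (splitEquiv Q e f u hef hu).symm
    ((((Module.Basis.singleton Unit R).prod (Module.Basis.singleton Unit R)).prod c)
      (Sum.inl (Sum.inl ()))) = e
  rw [Module.Basis.prod_apply, Sum.elim_inl, Function.comp_apply, Module.Basis.prod_apply,
    Sum.elim_inl, Function.comp_apply, Module.Basis.singleton_apply]
  change (splitEquiv Q e f u hef hu).symm (((1 : R), (0 : R)), (0 : perp Q e f)) = e
  rw [splitEquiv_symm_apply]
  simp

theorem consBasis_inr_none {ι : Type*} (c : Module.Basis (ι ⊕ ι) R (perp Q e f)) :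
    consBasis Q e f u hef hu c (Sum.inr none) = f := by
  rw [consBasis, Module.Basis.reindex_apply, Module.Basis.map_apply]
  change (splitEquiv Q e f u hef hu).symm
    ((((Module.Basis.singleton Unit R).prod (Module.Basis.singleton Unit R)).prod c)
      (Sum.inl (Sum.inr ()))) = f
  rw [Module.Basis.prod_apply, Sum.elim_inl, Function.comp_apply, Module.Basis.prod_apply,
    Sum.elim_inr, Function.comp_apply, Module.Basis.singleton_apply]
  change (splitEquiv Q e f u hef hu).symm (((0 : R), (1 : R)), (0 : perp Q e f)) = f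
  rw [splitEquiv_symm_apply]
  simp

theorem consBasis_inl_some {ι : Type*} (c : Module.Basis (ι ⊕ ι) R (perp Q e f)) (i : ι) :
    consBasis Q e f u hef hu c (Sum.inl (some i)) = (c (Sum.inl i) : M) := by
  rw [consBasis, Module.Basis.reindex_apply, Module.Basis.map_apply]
  change (splitEquiv Q e f u hef hu).symm
    ((((Module.Basis.singleton Unit R).prod (Module.Basis.singleton Unit R)).prod c)
      (Sum.inr (Sum.inl i))) = _
  rw [Module.Basis.prod_apply, Sum.elim_inr, Function.comp_apply]
  change (splitEquiv Q e f u hef hu).symm (((0 : R), (0 : R)), c (Sum.inl i)) = _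
  rw [splitEquiv_symm_apply]
  simp

theorem consBasis_inr_some {ι : Type*} (c : Module.Basis (ι ⊕ ι) R (perp Q e f)) (i : ι) :
    consBasis Q e f u hef hu c (Sum.inr (some i)) = (c (Sum.inr i) : M) := by
  rw [consBasis, Module.Basis.reindex_apply, Module.Basis.map_apply]
  change (splitEquiv Q e f u hef hu).symm
    ((((Module.Basis.singleton Unit R).prod (Module.Basis.singleton Unit R)).prod c)
      (Sum.inr (Sum.inr i))) = _
  rw [Module.Basis.prod_apply, Sum.elim_inr, Function.comp_apply]
  change (splitEquiv Q e f u hef hu).symm (((0 : R), (0 : R)), c (Sum.inr i)) = _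
  rw [splitEquiv_symm_apply]
  simp

/-- Adding a plane to a plane basis of the orthogonal complement. -/
noncomputable def PlaneBasis.cons {ι : Type*} (he : IsUnit (Q e))
    (pb : PlaneBasis (Qperp Q e f) ι) : PlaneBasis Q (Option ι) where
  b := consBasis Q e f u hef hu pb.b
  unit_e := by
    rintro (_ | i)
    · rw [consBasis_inl_none]; exact he
    · rw [consBasis_inl_some]; exact pb.unit_e i
  polar_ef := by
    rintro (_ | i)
    · rw [consBasis_inl_none, consBasis_inr_none]; exact hef
    · rw [consBasis_inl_some, consBasis_inr_some, ← polar_Qperp]; exact pb.polar_ef i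
  disc := by
    rintro (_ | i)
    · rw [consBasis_inl_none, consBasis_inr_none, ← hu]; exact u.isUnit
    · rw [consBasis_inl_some, consBasis_inr_some]; exact pb.disc i
  ortho_ee := by
    rintro (_ | i) (_ | j) hij
    · exact absurd rfl hij
    · rw [consBasis_inl_none, consBasis_inl_some]
      exact ((mem_perp Q e f _).mp (pb.b (Sum.inl j)).2).1
    · rw [consBasis_inl_none, consBasis_inl_some, polar_comm]
      exact ((mem_perp Q e f _).mp (pb.b (Sum.inl i)).2).1
    · rw [consBasis_inl_some, consBasis_inl_some, ← polar_Qperp]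
      exact pb.ortho_ee i j (fun h => hij (by rw [h]))
  ortho_ef := by
    rintro (_ | i) (_ | j) hij
    · exact absurd rfl hij
    · rw [consBasis_inl_none, consBasis_inr_some]
      exact ((mem_perp Q e f _).mp (pb.b (Sum.inr j)).2).1
    · rw [consBasis_inr_none, consBasis_inl_some, polar_comm]
      exact ((mem_perp Q e f _).mp (pb.b (Sum.inl i)).2).2
    · rw [consBasis_inl_some, consBasis_inr_some, ← polar_Qperp]
      exact pb.ortho_ef i j (fun h => hij (by rw [h]))
  ortho_ff := by
    rintro (_ | i) (_ | j) hij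
    · exact absurd rfl hij
    · rw [consBasis_inr_none, consBasis_inr_some]
      exact ((mem_perp Q e f _).mp (pb.b (Sum.inr j)).2).2
    · rw [consBasis_inr_none, consBasis_inr_some, polar_comm]
      exact ((mem_perp Q e f _).mp (pb.b (Sum.inr i)).2).2
    · rw [consBasis_inr_some, consBasis_inr_some, ← polar_Qperp]
      exact pb.ortho_ff i j (fun h => hij (by rw [h]))

end Split

/-- A regular quadratic form of even rank over a local ring is an orthogonal sum of normalized planes. -/
theorem exists_planeBasis_aux [IsLocalRing R] : ∀ (m : ℕ) (M : Type v) [AddCommGroup M] [Module R M]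
    [Module.Free R M] [Module.Finite R M] (Q : QuadraticForm R M),
    Function.Bijective (polarBilin Q) → Module.finrank R M = 2 * m →
    ∃ (ι : Type) (_ : Fintype ι) (_ : DecidableEq ι), Nonempty (PlaneBasis Q ι) := by
  intro m
  induction m with
  | zero =>
    intro M _ _ _ _ Q _ hM
    haveI : Subsingleton M := (Module.finrank_eq_zero_iff_of_free R M).mp (by simpa using hM)
    exact ⟨Empty, inferInstance, inferInstance,
      ⟨{ b := Module.Basis.empty M
         unit_e := fun i => i.elim
         polar_ef := fun i => i.elim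
         disc := fun i => i.elim
         ortho_ee := fun i => i.elim
         ortho_ef := fun i => i.elim
         ortho_ff := fun i => i.elim }⟩⟩
  | succ m ih =>
    intro M _ _ _ _ Q hQ hM
    obtain ⟨e, f, he, hef, hd⟩ := exists_plane Q hQ (by omega)
    obtain ⟨u, hu⟩ := hd
    haveI := finite_perp Q e f u hef hu
    haveI := free_perp Q e f u hef hu
    have hrk : Module.finrank R (perp Q e f) = 2 * m := by
      have := finrank_perp Q e f u hef hu
      omega
    obtain ⟨ι, _, _, ⟨pb⟩⟩ := ih (perp Q e f) (Qperp Q e f) (regular_Qperp Q e f u hef hu hQ) hrk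
    exact ⟨Option ι, inferInstance, inferInstance, ⟨PlaneBasis.cons Q e f u hef hu he pb⟩⟩

end Groth.Agent.Helper7.Clf
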