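import Mathlib
import Groth.Agent.Helper7.ClfB

/-!
# The canonical generator `z` of the centre of the even Clifford algebra (plane basis case)
-/

set_option autoImplicit false
universe u v
open QuadraticMap CliffordAlgebra

namespace Groth.Agent.Helper7.Clf

section Abstract

variable {R : Type*} [CommRing R] {A : Type*} [Ring A] [Algebra R A] {κ : Type*}
variable (E F : κ → A) (a c : κ → R)
variable (hE : ∀ i, E i * E i = algebraMap R A (a i)) (hF : ∀ i, F i * F i = algebraMap R A (c i))
variable (hEF : ∀ i, E i * F i + F i * E i = 1)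
variable (hEE : ∀ i j, i ≠ j → E i * E j = -(E j * E i))
variable (hEFo : ∀ i j, i ≠ j → E i * F j = -(F j * E i))
variable (hFF : ∀ i j, i ≠ j → F i * F j = -(F j * F i))

/-- `zᵢ = eᵢ fᵢ` -/
def zz (i : κ) : A := E i * F i

/-- `δᵢ = 1 - 2 eᵢ fᵢ` -/
def dd (i : κ) : A := 1 - 2 * (E i * F i)

/-- `z = z₁ + δ₁ (z₂ + δ₂ (…))` -/
def zrec : List κ → A
  | [] => 0
  | i :: l => zz E F i + dd E F i * zrec l

/-- `δ = δ₁ δ₂ ⋯` -/
def drec (l : List κ) : A := (l.map (dd E F)).prod

include hEF in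
theorem FE (i : κ) : F i * E i = 1 - E i * F i := by
  rw [← hEF i]; abel

include hEE hEFo in
theorem E_zz_of_ne (k j : κ) (h : k ≠ j) : E k * zz E F j = zz E F j * E k := by
  rw [zz, ← mul_assoc, hEE k j h, neg_mul, mul_assoc, hEFo k j h, mul_neg, neg_neg, mul_assoc]

include hFF hEFo in
theorem F_zz_of_ne (k j : κ) (h : k ≠ j) : F k * zz E F j = zz E F j * F k := by
  have h' : F k * E j = -(E j * F k) := by rw [hEFo j k (Ne.symm h), neg_neg]
  rw [zz, ← mul_assoc, h', neg_mul, mul_assoc, hFF k j h, mul_neg, neg_neg, mul_assoc]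

include hEE hEFo in
theorem E_dd_of_ne (k j : κ) (h : k ≠ j) : E k * dd E F j = dd E F j * E k := by
  have := E_zz_of_ne E F hEE hEFo k j h
  rw [zz] at this
  have e1 : E k * dd E F j = E k - 2 * (E k * (E j * F j)) := by rw [dd]; noncomm_ring
  rw [e1, this, dd]; noncomm_ring

include hFF hEFo in
theorem F_dd_of_ne (k j : κ) (h : k ≠ j) : F k * dd E F j = dd E F j * F k := by
  have := F_zz_of_ne E F hEFo hFF k j h
  rw [zz] at this
  have e1 : F k * dd E F j = F k - 2 * (F k * (E j * F j)) := by rw [dd]; noncomm_ring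
  rw [e1, this, dd]; noncomm_ring

include hEF in
theorem E_zz_self (k : κ) : E k * zz E F k = (1 - zz E F k) * E k := by
  have h1 : E k * F k * E k = E k - E k * E k * F k := by
    rw [mul_assoc (E k) (F k) (E k), FE E F hEF, mul_sub, mul_one, ← mul_assoc]
  rw [zz, sub_mul, one_mul, h1, ← mul_assoc]
  abel

include hEF in
theorem F_zz_self (k : κ) : F k * zz E F k = (1 - zz E F k) * F k := by
  rw [zz, sub_mul, one_mul, ← mul_assoc, FE E F hEF, sub_mul, one_mul]

include hEF in
theorem E_dd_self (k : κ) : E k * dd E F k = -(dd E F k * E k) := by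
  have h := E_zz_self E F hEF k
  rw [zz] at h
  have e1 : E k * dd E F k = E k - 2 * (E k * (E k * F k)) := by
    rw [dd]; noncomm_ring
  have e2 : dd E F k * E k = E k - 2 * (E k * F k * E k) := by
    rw [dd]; noncomm_ring
  rw [e1, e2, h]
  noncomm_ring

include hEF in
theorem F_dd_self (k : κ) : F k * dd E F k = -(dd E F k * F k) := by
  have h := F_zz_self E F hEF k
  rw [zz] at h
  have e1 : F k * dd E F k = F k - 2 * (F k * (E k * F k)) := by
    rw [dd]; noncomm_ring
  have e2 : dd E F k * F k = F k - 2 * (E k * F k * F k) := by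
    rw [dd]; noncomm_ring
  rw [e1, e2, h]
  noncomm_ring

theorem one_sub_two_zrec (l : List κ) : 1 - 2 * zrec E F l = drec E F l := by
  induction l with
  | nil => simp [zrec, drec]
  | cons i l ih =>
    rw [zrec, drec, List.map_cons, List.prod_cons, ← drec, ← ih, zz, dd]
    noncomm_ring

include hEF hEE hEFo hFF in
theorem zrec_comm (l : List κ) :
    (∀ k ∉ l, E k * zrec E F l = zrec E F l * E k ∧ F k * zrec E F l = zrec E F l * F k) ∧
    (l.Nodup → ∀ k ∈ l, E k * zrec E F l = (1 - zrec E F l) * E k ∧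
      F k * zrec E F l = (1 - zrec E F l) * F k) := by
  induction l with
  | nil =>
    refine ⟨fun k _ => ?_, fun _ k hk => absurd hk List.not_mem_nil⟩
    simp [zrec]
  | cons i l ih =>
    obtain ⟨ih1, ih2⟩ := ih
    constructor
    · intro k hk
      rw [List.mem_cons, not_or] at hk
      obtain ⟨hki, hkl⟩ := hk
      obtain ⟨h1, h2⟩ := ih1 k hkl
      constructor
      · rw [zrec, mul_add, add_mul, E_zz_of_ne E F hEE hEFo k i hki, ← mul_assoc,
          E_dd_of_ne E F hEE hEFo k i hki, mul_assoc, h1, mul_assoc]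
      · rw [zrec, mul_add, add_mul, F_zz_of_ne E F hEFo hFF k i hki, ← mul_assoc,
          F_dd_of_ne E F hEFo hFF k i hki, mul_assoc, h2, mul_assoc]
    · intro hnd k hk
      rw [List.nodup_cons] at hnd
      obtain ⟨hil, hnd'⟩ := hnd
      rcases List.mem_cons.mp hk with rfl | hkl
      · obtain ⟨h1, h2⟩ := ih1 k hil
        constructor
        · rw [zrec, mul_add, E_zz_self E F hEF, ← mul_assoc, E_dd_self E F hEF, neg_mul,
            mul_assoc, h1]
          noncomm_ring
        · rw [zrec, mul_add, F_zz_self E F hEF, ← mul_assoc, F_dd_self E F hEF, neg_mul,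
            mul_assoc, h2]
          noncomm_ring
      · have hki : k ≠ i := fun h => hil (h ▸ hkl)
        obtain ⟨h1, h2⟩ := ih2 hnd' k hkl
        constructor
        · rw [zrec, mul_add, E_zz_of_ne E F hEE hEFo k i hki, ← mul_assoc,
            E_dd_of_ne E F hEE hEFo k i hki, mul_assoc, h1, dd, zz]
          noncomm_ring
        · rw [zrec, mul_add, F_zz_of_ne E F hEFo hFF k i hki, ← mul_assoc,
            F_dd_of_ne E F hEFo hFF k i hki, mul_assoc, h2, dd, zz]
          noncomm_ring

include hE hF hEF in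
theorem dd_sq (i : κ) : dd E F i * dd E F i = algebraMap R A (1 - 4 * a i * c i) := by
  have h1 : E i * F i * (E i * F i) = E i * F i - algebraMap R A (a i * c i) := by
    have h3 : F i * E i * F i = F i - E i * (F i * F i) := by
      rw [FE E F hEF, sub_mul, one_mul, mul_assoc]
    rw [mul_assoc, ← mul_assoc (F i), h3, mul_sub, hF, ← mul_assoc, hE, ← map_mul]
  have h2 : dd E F i * dd E F i = 1 - 4 * (E i * F i) + 4 * (E i * F i * (E i * F i)) := by
    rw [dd]; noncomm_ring
  have h4 : algebraMap R A (1 - 4 * a i * c i) = 1 - 4 * algebraMap R A (a i * c i) := by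
    have h5 : algebraMap R A 4 = 4 := map_ofNat (algebraMap R A) 4
    rw [map_sub, map_one, mul_assoc, map_mul, h5]
  rw [h2, h1, h4]
  noncomm_ring

include hEE hEFo hFF in
theorem dd_comm (i j : κ) (h : i ≠ j) : dd E F i * dd E F j = dd E F j * dd E F i := by
  have h1 : E i * F i * dd E F j = dd E F j * (E i * F i) := by
    rw [mul_assoc, F_dd_of_ne E F hEFo hFF i j h, ← mul_assoc, E_dd_of_ne E F hEE hEFo i j h, mul_assoc]
  have e : dd E F i = 1 - 2 * (E i * F i) := rfl
  rw [e]
  calc (1 - 2 * (E i * F i)) * dd E F j = dd E F j - 2 * (E i * F i * dd E F j) := by noncomm_ring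
    _ = dd E F j - 2 * (dd E F j * (E i * F i)) := by rw [h1]
    _ = dd E F j * (1 - 2 * (E i * F i)) := by noncomm_ring

include hEE hEFo hFF in
theorem dd_comm_drec (i : κ) (l : List κ) (h : i ∉ l) :
    dd E F i * drec E F l = drec E F l * dd E F i := by
  induction l with
  | nil => simp [drec]
  | cons j l ih =>
    rw [List.mem_cons, not_or] at h
    rw [drec, List.map_cons, List.prod_cons, ← drec, ← mul_assoc, dd_comm E F hEE hEFo hFF i j h.1,
      mul_assoc, ih h.2, mul_assoc]

include hE hF hEF hEE hEFo hFF in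
theorem drec_sq (l : List κ) (hl : l.Nodup) :
    drec E F l * drec E F l = algebraMap R A ((l.map fun i => 1 - 4 * a i * c i).prod) := by
  induction l with
  | nil => simp [drec]
  | cons i l ih =>
    rw [List.nodup_cons] at hl
    have h1 : drec E F (i :: l) = dd E F i * drec E F l := by
      rw [drec, List.map_cons, List.prod_cons, ← drec]
    rw [h1, mul_assoc, ← mul_assoc (drec E F l), ← dd_comm_drec E F hEE hEFo hFF i l hl.1, mul_assoc,
      ih hl.2, ← mul_assoc, dd_sq E F a c hE hF hEF, List.map_cons, List.prod_cons, map_mul]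

end Abstract

section Concrete

variable {R : Type u} [CommRing R] {M : Type v} [AddCommGroup M] [Module R M]
variable (Q : QuadraticForm R M) {κ : Type*} (pb : PlaneBasis Q κ)

/-- `ι eᵢ` -/
noncomputable def cE (i : κ) : CliffordAlgebra Q := ι Q (pb.b (Sum.inl i))

/-- `ι fᵢ` -/
noncomputable def cF (i : κ) : CliffordAlgebra Q := ι Q (pb.b (Sum.inr i))

theorem cE_sq (i : κ) : cE Q pb i * cE Q pb i = algebraMap R _ (Q (pb.b (Sum.inl i))) :=
  ι_sq_scalar Q _

theorem cF_sq (i : κ) : cF Q pb i * cF Q pb i = algebraMap R _ (Q (pb.b (Sum.inr i))) :=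
  ι_sq_scalar Q _

theorem cE_cF (i : κ) : cE Q pb i * cF Q pb i + cF Q pb i * cE Q pb i = 1 := by
  rw [cE, cF, ι_mul_ι_add_swap, pb.polar_ef, map_one]

theorem cE_cE (i j : κ) (h : i ≠ j) : cE Q pb i * cE Q pb j = -(cE Q pb j * cE Q pb i) := by
  apply eq_neg_of_add_eq_zero_left
  rw [cE, cE, ι_mul_ι_add_swap, pb.ortho_ee i j h, map_zero]

theorem cE_cF_of_ne (i j : κ) (h : i ≠ j) : cE Q pb i * cF Q pb j = -(cF Q pb j * cE Q pb i) := by
  apply eq_neg_of_add_eq_zero_left
  rw [cE, cF, ι_mul_ι_add_swap, pb.ortho_ef i j h, map_zero]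

theorem cF_cF (i j : κ) (h : i ≠ j) : cF Q pb i * cF Q pb j = -(cF Q pb j * cF Q pb i) := by
  apply eq_neg_of_add_eq_zero_left
  rw [cF, cF, ι_mul_ι_add_swap, pb.ortho_ff i j h, map_zero]

theorem mem_even_iff (x : CliffordAlgebra Q) : x ∈ CliffordAlgebra.even Q ↔ x ∈ evenOdd Q 0 := by
  rw [← even_toSubmodule, Subalgebra.mem_toSubmodule]

theorem zz_mem_even (i : κ) : zz (cE Q pb) (cF Q pb) i ∈ CliffordAlgebra.even Q := by
  rw [mem_even_iff]; exact ι_mul_ι_mem_evenOdd_zero Q _ _

theorem dd_mem_even (i : κ) : dd (cE Q pb) (cF Q pb) i ∈ CliffordAlgebra.even Q := by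
  have : dd (cE Q pb) (cF Q pb) i = 1 - (2 : R) • zz (cE Q pb) (cF Q pb) i := by
    rw [dd, zz, two_smul, two_mul]
  rw [this]
  exact Subalgebra.sub_mem _ (Subalgebra.one_mem _) (Subalgebra.smul_mem _ (zz_mem_even Q pb i) _)

theorem zrec_mem_even (l : List κ) : zrec (cE Q pb) (cF Q pb) l ∈ CliffordAlgebra.even Q := by
  induction l with
  | nil => exact Subalgebra.zero_mem _
  | cons i l ih =>
    rw [zrec]
    exact Subalgebra.add_mem _ (zz_mem_even Q pb i) (Subalgebra.mul_mem _ (dd_mem_even Q pb i) ih)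

include pb in
/-- The element `z` attached to a plane basis. -/
theorem exists_zElt [Fintype κ] :
    ∃ z : CliffordAlgebra Q, z ∈ evenOdd Q 0 ∧ (∀ v, ι Q v * z = (1 - z) * ι Q v) ∧
      ∃ r : Rˣ, (1 - 2 * z) * (1 - 2 * z) = algebraMap R _ (r : R) := by
  classical
  set l : List κ := Finset.univ.toList with hl
  have hnd : l.Nodup := Finset.nodup_toList _
  have hmem : ∀ k, k ∈ l := fun k => Finset.mem_toList.mpr (Finset.mem_univ k)
  refine ⟨zrec (cE Q pb) (cF Q pb) l, (mem_even_iff Q _).mp (zrec_mem_even Q pb l), ?_, ?_⟩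
  · have hcomm := (zrec_comm (cE Q pb) (cF Q pb) (cE_cF Q pb) (cE_cE Q pb) (cE_cF_of_ne Q pb) (cF_cF Q pb) l).2 hnd
    have hlin : (LinearMap.mulRight R (zrec (cE Q pb) (cF Q pb) l)).comp (ι Q) =
        (LinearMap.mulLeft R (1 - zrec (cE Q pb) (cF Q pb) l)).comp (ι Q) := by
      apply pb.b.ext
      rintro (i | i)
      · exact (hcomm i (hmem i)).1
      · exact (hcomm i (hmem i)).2
    intro v
    exact LinearMap.congr_fun hlin v
  · have hsq := drec_sq (cE Q pb) (cF Q pb) (fun i => Q (pb.b (Sum.inl i)))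
      (fun i => Q (pb.b (Sum.inr i))) (cE_sq Q pb) (cF_sq Q pb) (cE_cF Q pb) (cE_cE Q pb)
      (cE_cF_of_ne Q pb) (cF_cF Q pb) l hnd
    have hunit : IsUnit ((l.map fun i => 1 - 4 * Q (pb.b (Sum.inl i)) * Q (pb.b (Sum.inr i))).prod) := by
      apply List.prod_isUnit
      intro m hm
      obtain ⟨i, _, rfl⟩ := List.mem_map.mp hm
      exact pb.disc i
    obtain ⟨r, hr⟩ := hunit
    refine ⟨r, ?_⟩
    rw [one_sub_two_zrec, hsq, hr]

end Concrete

end Groth.Agent.Helper7.Clf
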