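import Mathlib
import Groth.Agent.Helper7.ClfA
import Groth.Agent.Helper7.ClfC

/-!
# Consequences of the existence of the element `z`: centre of the Clifford algebra
-/

set_option autoImplicit false
universe u v
open QuadraticMap CliffordAlgebra

namespace Groth.Agent.Helper7.Clf

variable {R : Type u} [CommRing R] {M : Type v} [AddCommGroup M] [Module R M]

/-- An even element `z` with `v z = (1 - z) v` for all vectors `v` and `(1 - 2z)²` a unit scalar. -/
structure ZElt (Q : QuadraticForm R M) where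
  z : CliffordAlgebra Q
  even : z ∈ evenOdd Q 0
  anti : ∀ v, ι Q v * z = (1 - z) * ι Q v
  r : Rˣ
  sq : (1 - 2 * z) * (1 - 2 * z) = algebraMap R _ (r : R)

theorem nonempty_zElt_of_planeBasis (Q : QuadraticForm R M) {κ : Type*} [Fintype κ]
    (pb : PlaneBasis Q κ) : Nonempty (ZElt Q) := by
  obtain ⟨z, h1, h2, r, h3⟩ := exists_zElt Q pb
  exact ⟨⟨z, h1, h2, r, h3⟩⟩

/-- Existence of `z` for a regular form of even rank over a local ring. -/
theorem nonempty_zElt [IsLocalRing R] [Module.Free R M] [Module.Finite R M] (Q : QuadraticForm R M)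
    (hQ : Function.Bijective (polarBilin Q)) (m : ℕ) (hM : Module.finrank R M = 2 * m) :
    Nonempty (ZElt Q) := by
  obtain ⟨κ, _, _, ⟨pb⟩⟩ := exists_planeBasis_aux m M Q hQ hM
  exact nonempty_zElt_of_planeBasis Q pb

namespace ZElt

variable {Q : QuadraticForm R M} (Z : ZElt Q)

/-- `δ = 1 - 2z` -/
def δ : CliffordAlgebra Q := 1 - 2 * Z.z

theorem δ_mem : Z.δ ∈ evenOdd Q 0 := by
  have : Z.δ = 1 - (2 : R) • Z.z := by rw [δ, two_smul, two_mul]
  rw [this]
  exact Submodule.sub_mem _ (SetLike.one_mem_graded _) (Submodule.smul_mem _ _ Z.even)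

theorem ι_mul_δ (v : M) : ι Q v * Z.δ = -(Z.δ * ι Q v) := by
  have h := Z.anti v
  have e1 : ι Q v * Z.δ = ι Q v - 2 * (ι Q v * Z.z) := by rw [δ]; noncomm_ring
  rw [e1, h, δ]; noncomm_ring

theorem δ_sq : Z.δ * Z.δ = algebraMap R _ (Z.r : R) := Z.sq

/-- the inverse of `δ` -/
def δinv : CliffordAlgebra Q := ((↑Z.r⁻¹ : R)) • Z.δ

theorem δ_mul_δinv : Z.δ * Z.δinv = 1 := by
  rw [δinv, mul_smul_comm, δ_sq, Algebra.smul_def, ← map_mul, Units.inv_mul, map_one]

theorem δinv_mul_δ : Z.δinv * Z.δ = 1 := by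
  rw [δinv, smul_mul_assoc, δ_sq, Algebra.smul_def, ← map_mul, Units.inv_mul, map_one]

theorem isUnit_δ : IsUnit Z.δ := ⟨⟨Z.δ, Z.δinv, Z.δ_mul_δinv, Z.δinv_mul_δ⟩, rfl⟩

/-- the unit `δ` -/
def δu : (CliffordAlgebra Q)ˣ := ⟨Z.δ, Z.δinv, Z.δ_mul_δinv, Z.δinv_mul_δ⟩

@[simp] theorem δu_val : (Z.δu : CliffordAlgebra Q) = Z.δ := rfl

/-- `z` commutes with even elements -/
theorem even_comm (x : CliffordAlgebra Q) (hx : x ∈ evenOdd Q 0) : x * Z.z = Z.z * x := by
  induction x, hx using even_induction with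
  | algebraMap r => exact Algebra.commutes r _
  | add x y _ _ hx hy => rw [add_mul, mul_add, hx, hy]
  | ι_mul_ι_mul m₁ m₂ x _ ih =>
    rw [mul_assoc, ih, ← mul_assoc, mul_assoc (ι Q m₁), Z.anti m₂, ← mul_assoc, mul_sub, mul_one,
      Z.anti m₁]
    noncomm_ring

/-- odd elements satisfy `x z = (1 - z) x` -/
theorem odd_comm (x : CliffordAlgebra Q) (hx : x ∈ evenOdd Q 1) : x * Z.z = (1 - Z.z) * x := by
  induction x, hx using odd_induction with
  | ι v => exact Z.anti v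
  | add x y _ _ hx hy => rw [add_mul, mul_add, hx, hy]
  | ι_mul_ι_mul m₁ m₂ x _ ih =>
    have h1 : ι Q m₁ * ι Q m₂ * Z.z = Z.z * (ι Q m₁ * ι Q m₂) :=
      Z.even_comm _ (ι_mul_ι_mem_evenOdd_zero Q m₁ m₂)
    rw [mul_assoc, ih, ← mul_assoc, mul_sub, mul_one, h1]
    noncomm_ring

end ZElt

section Centre

variable (Q : QuadraticForm R M)

theorem exists_even_odd (x : CliffordAlgebra Q) :
    ∃ x0 ∈ evenOdd Q 0, ∃ x1 ∈ evenOdd Q 1, x = x0 + x1 := by
  have h : x ∈ evenOdd Q 0 ⊔ evenOdd Q 1 := by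
    rw [(evenOdd_isCompl Q).sup_eq_top]; exact Submodule.mem_top
  obtain ⟨x0, h0, x1, h1, rfl⟩ := Submodule.mem_sup.mp h
  exact ⟨x0, h0, x1, h1, rfl⟩

theorem eq_zero_of_mem_even_of_mem_odd (x : CliffordAlgebra Q) (h0 : x ∈ evenOdd Q 0)
    (h1 : x ∈ evenOdd Q 1) : x = 0 :=
  Submodule.disjoint_def.mp (evenOdd_isCompl Q).disjoint x h0 h1

/-- If `x₀ + x₁ = 0` with `x₀` even and `x₁` odd, both vanish. -/
theorem eq_zero_of_add_eq_zero (x0 x1 : CliffordAlgebra Q) (h0 : x0 ∈ evenOdd Q 0)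
    (h1 : x1 ∈ evenOdd Q 1) (h : x0 + x1 = 0) : x0 = 0 ∧ x1 = 0 := by
  have e : x0 = -x1 := eq_neg_of_add_eq_zero_left h
  have h0' : x0 ∈ evenOdd Q 1 := by rw [e]; exact Submodule.neg_mem _ h1
  have := eq_zero_of_mem_even_of_mem_odd Q x0 h0 h0'
  refine ⟨this, ?_⟩
  rw [this, zero_add] at h
  exact h

theorem ι_mul_mem_odd (v : M) (x : CliffordAlgebra Q) (hx : x ∈ evenOdd Q 0) :
    ι Q v * x ∈ evenOdd Q 1 := by
  have := SetLike.mul_mem_graded (ι_mem_evenOdd_one Q v) hx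
  rwa [add_zero] at this

theorem mul_ι_mem_odd (v : M) (x : CliffordAlgebra Q) (hx : x ∈ evenOdd Q 0) :
    x * ι Q v ∈ evenOdd Q 1 := by
  have := SetLike.mul_mem_graded hx (ι_mem_evenOdd_one Q v)
  rwa [zero_add] at this

theorem ι_mul_mem_even (v : M) (x : CliffordAlgebra Q) (hx : x ∈ evenOdd Q 1) :
    ι Q v * x ∈ evenOdd Q 0 := by
  have := SetLike.mul_mem_graded (ι_mem_evenOdd_one Q v) hx
  rwa [show (1 : ZMod 2) + 1 = 0 from rfl] at this

theorem mul_ι_mem_even (v : M) (x : CliffordAlgebra Q) (hx : x ∈ evenOdd Q 1) :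
    x * ι Q v ∈ evenOdd Q 0 := by
  have := SetLike.mul_mem_graded hx (ι_mem_evenOdd_one Q v)
  rwa [show (1 : ZMod 2) + 1 = 0 from rfl] at this

/-- The centre of the Clifford algebra of a regular form admitting an element `z` is `R`. -/
theorem exists_eq_algebraMap_of_comm [Module.Free R M] [Module.Finite R M]
    (hQ : Function.Bijective (polarBilin Q)) (Z : ZElt Q) (x : CliffordAlgebra Q)
    (hx : ∀ v, ι Q v * x = x * ι Q v) : ∃ r : R, x = algebraMap R _ r := by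
  obtain ⟨x0, h0, x1, h1, rfl⟩ := exists_even_odd Q x
  have hsplit : ∀ v, ι Q v * x0 = x0 * ι Q v ∧ ι Q v * x1 = x1 * ι Q v := by
    intro v
    have h := hx v
    have hz : (ι Q v * x1 - x1 * ι Q v) + (ι Q v * x0 - x0 * ι Q v) = 0 := by
      rw [mul_add, add_mul] at h
      have : ι Q v * x0 + ι Q v * x1 - (x0 * ι Q v + x1 * ι Q v) = 0 := sub_eq_zero.mpr h
      rw [← this]; abel
    obtain ⟨e0, e1⟩ := eq_zero_of_add_eq_zero Q _ _
      (Submodule.sub_mem _ (ι_mul_mem_even Q v x1 h1) (mul_ι_mem_even Q v x1 h1))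
      (Submodule.sub_mem _ (ι_mul_mem_odd Q v x0 h0) (mul_ι_mem_odd Q v x0 h0)) hz
    exact ⟨sub_eq_zero.mp e1, sub_eq_zero.mp e0⟩
  -- the even part is a scalar
  obtain ⟨r0, hr0⟩ := exists_eq_algebraMap_of_graded_comm Q hQ x0 (fun v => by
    rw [involute_eq_of_mem_even h0]; exact (hsplit v).1)
  -- the odd part vanishes
  have hy1 : Z.δ * x1 ∈ evenOdd Q 1 := by
    have := SetLike.mul_mem_graded Z.δ_mem h1
    rwa [zero_add] at this
  obtain ⟨r1, hr1⟩ := exists_eq_algebraMap_of_graded_comm Q hQ (Z.δ * x1) (fun v => by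
    rw [involute_eq_of_mem_odd hy1, ← mul_assoc, Z.ι_mul_δ, neg_mul, neg_mul, mul_assoc, (hsplit v).2,
      mul_assoc])
  have hy0 : Z.δ * x1 = 0 := by
    apply eq_zero_of_mem_even_of_mem_odd Q _ _ hy1
    rw [hr1]; exact SetLike.algebraMap_mem_graded _ _
  have hx1 : x1 = 0 := by
    have := congrArg (fun t => Z.δinv * t) hy0
    simpa only [← mul_assoc, Z.δinv_mul_δ, one_mul, mul_zero] using this
  exact ⟨r0, by rw [hx1, add_zero, hr0]⟩

/-- An element commuting with all vectors commutes with everything. -/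
theorem comm_of_comm_ι (x : CliffordAlgebra Q) (hx : ∀ v, ι Q v * x = x * ι Q v)
    (y : CliffordAlgebra Q) : y * x = x * y := by
  induction y using CliffordAlgebra.induction with
  | algebraMap r => exact Algebra.commutes r x
  | ι v => exact hx v
  | mul a b ha hb => rw [mul_assoc, hb, ← mul_assoc, ha, mul_assoc]
  | add a b ha hb => rw [add_mul, mul_add, ha, hb]

end Centre

end Groth.Agent.Helper7.Clf
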