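import Mathlib

/-!
# Reflections of a quadratic module
-/

set_option autoImplicit false
universe u v
open QuadraticMap CliffordAlgebra

namespace Groth.Agent.Helper7.Clf

variable {R : Type u} [CommRing R] {M : Type v} [AddCommGroup M] [Module R M]

/-- determinant of a rank one perturbation of the identity -/
theorem det_id_sub_smulRight [Module.Free R M] [Module.Finite R M] (φ : M →ₗ[R] R) (x : M) :
    LinearMap.det (LinearMap.id - φ.smulRight x) = 1 - φ x := by
  classical
  let b := Module.Free.chooseBasis R M
  rw [← LinearMap.det_toMatrix b]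
  have hmat : LinearMap.toMatrix b b (LinearMap.id - φ.smulRight x) =
      1 + Matrix.replicateCol Unit (fun i => -(b.repr x i)) * Matrix.replicateRow Unit (fun j => φ (b j)) := by
    ext i j
    rw [LinearMap.toMatrix_apply, LinearMap.sub_apply, LinearMap.id_apply, LinearMap.smulRight_apply,
      map_sub, map_smul, Finsupp.sub_apply, Finsupp.smul_apply, Module.Basis.repr_self,
      Matrix.add_apply, Matrix.one_apply, Matrix.mul_apply]
    simp only [Matrix.replicateCol_apply, Matrix.replicateRow_apply, Finset.univ_unique,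
      Finset.sum_singleton, smul_eq_mul, Finsupp.single_apply]
    by_cases h : i = j
    · subst h; simp; ring
    · rw [if_neg h, if_neg (Ne.symm h)]; ring
  rw [hmat, Matrix.det_one_add_replicateCol_mul_replicateRow]
  have : (fun j => φ (b j)) ⬝ᵥ (fun i => -(b.repr x i)) = - φ x := by
    conv_rhs => rw [← b.sum_repr x]
    rw [map_sum, dotProduct, ← Finset.sum_neg_distrib]
    refine Finset.sum_congr rfl (fun i _ => ?_)
    rw [map_smul, smul_eq_mul]; ring
  rw [this]; ring

variable (Q : QuadraticForm R M)

/-- the reflection in `x` as a linear map (meaningful when `Q x` is a unit) -/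
noncomputable def reflLin (x : M) : M →ₗ[R] M :=
  LinearMap.id - ((Ring.inverse (Q x)) • polarBilin Q x).smulRight x

theorem reflLin_apply (x y : M) :
    reflLin Q x y = y - (Ring.inverse (Q x) * polar Q x y) • x := by
  simp [reflLin]

theorem reflLin_reflLin (x : M) (hx : IsUnit (Q x)) (y : M) : reflLin Q x (reflLin Q x y) = y := by
  have h1 : Ring.inverse (Q x) * Q x = 1 := Ring.inverse_mul_cancel _ hx
  rw [reflLin_apply, reflLin_apply, polar_sub_right, polar_smul_right, polar_self]
  simp only [smul_eq_mul, nsmul_eq_mul]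
  push_cast
  have : Ring.inverse (Q x) * (polar Q x y - Ring.inverse (Q x) * polar Q x y * (2 * Q x)) =
      - (Ring.inverse (Q x) * polar Q x y) := by
    linear_combination (-2 * Ring.inverse (Q x) * polar Q x y) * h1
  rw [this, neg_smul]
  abel

/-- the reflection in a vector of unit norm -/
noncomputable def refl (x : M) (hx : IsUnit (Q x)) : M ≃ₗ[R] M :=
  LinearEquiv.ofInvolutive (reflLin Q x) (reflLin_reflLin Q x hx)

theorem refl_apply (x : M) (hx : IsUnit (Q x)) (y : M) :
    refl Q x hx y = y - (Ring.inverse (Q x) * polar Q x y) • x := reflLin_apply Q x y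

theorem Q_refl (x : M) (hx : IsUnit (Q x)) (y : M) : Q (refl Q x hx y) = Q y := by
  have h1 : Ring.inverse (Q x) * Q x = 1 := Ring.inverse_mul_cancel _ hx
  have hadd : ∀ a b : M, Q (a + b) = Q a + Q b + polar Q a b := by
    intro a b; rw [polar]; ring
  rw [refl_apply, sub_eq_add_neg, ← neg_smul, hadd, QuadraticMap.map_smul, polar_smul_right,
    polar_comm Q y x]
  simp only [smul_eq_mul]
  linear_combination (Ring.inverse (Q x) * polar Q x y * polar Q x y) * h1

theorem polar_refl (x : M) (hx : IsUnit (Q x)) (y y' : M) :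
    polar Q (refl Q x hx y) (refl Q x hx y') = polar Q y y' := by
  simp only [polar, ← map_add, Q_refl]

theorem refl_of_polar_eq_zero (x : M) (hx : IsUnit (Q x)) (y : M) (h : polar Q x y = 0) :
    refl Q x hx y = y := by
  rw [refl_apply, h, mul_zero, zero_smul, sub_zero]

/-- the reflection in `y' - y` moves `y'` to `y` when `Q y = Q y'`. -/
theorem refl_sub (y y' : M) (hq : Q y = Q y') (hx : IsUnit (Q (y' - y))) :
    refl Q (y' - y) hx y' = y := by
  have h1 : Ring.inverse (Q (y' - y)) * Q (y' - y) = 1 := Ring.inverse_mul_cancel _ hx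
  have h2 : polar Q (y' - y) y' = Q (y' - y) := by
    have e1 : polar Q (y' - y) y = Q (y' - y + y) - Q (y' - y) - Q y := rfl
    rw [sub_add_cancel] at e1
    rw [polar_sub_left, polar_self] at e1 ⊢
    simp only [nsmul_eq_mul] at e1 ⊢
    push_cast at e1 ⊢
    rw [polar_comm Q y y']
    linear_combination -e1 - hq
  rw [refl_apply, h2, h1, one_smul]
  abel

theorem det_refl [Module.Free R M] [Module.Finite R M] (x : M) (hx : IsUnit (Q x)) :
    LinearEquiv.det (refl Q x hx) = -1 := by
  have h1 : Ring.inverse (Q x) * Q x = 1 := Ring.inverse_mul_cancel _ hx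
  apply Units.ext
  rw [LinearEquiv.coe_det]
  change LinearMap.det (reflLin Q x) = _
  rw [reflLin, det_id_sub_smulRight, LinearMap.smul_apply, polarBilin_apply_apply, polar_self]
  simp only [smul_eq_mul, nsmul_eq_mul, Units.val_neg, Units.val_one]
  push_cast
  linear_combination (-2 : R) * h1

/-- `ι (r_x y) · ι x = - ι x · ι y` -/
theorem ι_refl_mul_ι (x : M) (hx : IsUnit (Q x)) (y : M) :
    ι Q (refl Q x hx y) * ι Q x = -(ι Q x * ι Q y) := by
  have h1 : Ring.inverse (Q x) * Q x = 1 := Ring.inverse_mul_cancel _ hx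
  rw [refl_apply, map_sub, map_smul, sub_mul, smul_mul_assoc, ι_sq_scalar, ι_mul_ι_comm y x,
    Algebra.algebraMap_eq_smul_one (Q x), smul_smul, polar_comm Q y x,
    Algebra.algebraMap_eq_smul_one (polar Q x y)]
  have : Ring.inverse (Q x) * polar Q x y * Q x = polar Q x y := by
    linear_combination (polar Q x y) * h1
  rw [this]
  abel

/-- `ι x` is a unit of the Clifford algebra when `Q x` is a unit. -/
noncomputable def ιUnit (x : M) (hx : IsUnit (Q x)) : (CliffordAlgebra Q)ˣ where
  val := ι Q x
  inv := (Ring.inverse (Q x)) • ι Q x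
  val_inv := by
    rw [mul_smul_comm, ι_sq_scalar, Algebra.smul_def, ← map_mul, Ring.inverse_mul_cancel _ hx, map_one]
  inv_val := by
    rw [smul_mul_assoc, ι_sq_scalar, Algebra.smul_def, ← map_mul, Ring.inverse_mul_cancel _ hx, map_one]

@[simp] theorem ιUnit_val (x : M) (hx : IsUnit (Q x)) : (ιUnit Q x hx : CliffordAlgebra Q) = ι Q x := rfl

end Groth.Agent.Helper7.Clf
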