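import Mathlib
import Groth.Agent.Helper7.ClfB
import Groth.Agent.Helper7.ClfE

/-!
# Generation of the orthogonal group by reflections over a local ring with infinite residue field
-/

set_option autoImplicit false
universe u v
open QuadraticMap CliffordAlgebra Polynomial

namespace Groth.Agent.Helper7.Clf

variable {R : Type u} [CommRing R] {M : Type v} [AddCommGroup M] [Module R M]

section Avoid

variable [IsLocalRing R] [Infinite (IsLocalRing.ResidueField R)]

open IsLocalRing

/-- Over a local ring with infinite residue field, finitely many polynomials each having a unit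
coefficient take unit values simultaneously at some point. -/
theorem exists_forall_isUnit_eval (P : List R[X]) (hP : ∀ p ∈ P, ∃ i, IsUnit (p.coeff i)) :
    ∃ τ : R, ∀ p ∈ P, IsUnit (p.eval τ) := by
  have hne : ∀ p ∈ P, p.map (residue R) ≠ 0 := by
    intro p hp h0
    obtain ⟨i, hi⟩ := hP p hp
    have := congrArg (fun q => q.coeff i) h0
    simp only [coeff_map, coeff_zero] at this
    exact (residue_ne_zero_iff_isUnit _).mpr hi this
  have hprod : (P.map (Polynomial.map (residue R))).prod ≠ 0 := by
    apply List.prod_ne_zero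
    intro h0
    obtain ⟨p, hp, hp0⟩ := List.mem_map.mp h0
    exact hne p hp hp0
  obtain ⟨t, ht⟩ : ∃ t : ResidueField R, (P.map (Polynomial.map (residue R))).prod.eval t ≠ 0 := by
    by_contra hcon
    push Not at hcon
    apply hprod
    apply Polynomial.eq_zero_of_infinite_isRoot
    have : {x | IsRoot (P.map (Polynomial.map (residue R))).prod x} = Set.univ := by
      ext x; simp [hcon x]
    rw [this]; exact Set.infinite_univ
  obtain ⟨τ, rfl⟩ := residue_surjective t
  refine ⟨τ, fun p hp => ?_⟩
  rw [← residue_ne_zero_iff_isUnit]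
  intro h0
  apply ht
  rw [Polynomial.eval_list_prod]
  apply List.prod_eq_zero
  rw [List.mem_map]
  refine ⟨p.map (residue R), List.mem_map.mpr ⟨p, hp, rfl⟩, ?_⟩
  rw [Polynomial.eval_map, Polynomial.eval₂_at_apply, h0]

theorem isUnit_add_of_not_isUnit {u n : R} (hu : IsUnit u) (hn : ¬ IsUnit n) : IsUnit (n + u) := by
  by_contra h
  have h1 : n ∈ maximalIdeal R := (mem_maximalIdeal _).mpr hn
  have h2 : n + u ∈ maximalIdeal R := (mem_maximalIdeal _).mpr h
  have : u ∈ maximalIdeal R := by
    have := Ideal.sub_mem _ h2 h1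
    rwa [add_sub_cancel_left] at this
  exact (mem_maximalIdeal _).mp this hu

end Avoid

section Move

variable (Q : QuadraticForm R M)

/-- the set of reflections -/
def Refl : Set (M ≃ₗ[R] M) := {g | ∃ (x : M) (hx : IsUnit (Q x)), g = refl Q x hx}

/-- the subgroup generated by the reflections -/
def RefGrp : Subgroup (M ≃ₗ[R] M) := Subgroup.closure (Refl Q)

theorem refl_mem_RefGrp (x : M) (hx : IsUnit (Q x)) : refl Q x hx ∈ RefGrp Q :=
  Subgroup.subset_closure ⟨x, hx, rfl⟩

variable [IsLocalRing R] [Infinite (IsLocalRing.ResidueField R)]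

/-- The moving lemma: reflections in vectors orthogonal to `S` move `y'` to `y`. -/
theorem exists_refGrp_move (S : Set M) (y y' : M) (hq : Q y = Q y')
    (hS : ∀ s ∈ S, polar Q s y = polar Q s y')
    (h : M) (hh : ∀ s ∈ S, polar Q s h = 0) (hQh : IsUnit (Q h))
    (t1 : M) (ht1 : ∀ s ∈ S, polar Q s t1 = 0) (hyt1 : polar Q y t1 = 1)
    (t2 : M) (ht2 : ∀ s ∈ S, polar Q s t2 = 0) (hyt2 : polar Q y' t2 = 1) :
    ∃ ρ ∈ RefGrp Q, (∀ s ∈ S, ρ s = s) ∧ ρ y' = y := by
  by_cases hc : IsUnit (Q (y' - y))
  · refine ⟨refl Q (y' - y) hc, refl_mem_RefGrp Q _ hc, fun s hs => ?_, refl_sub Q y y' hq hc⟩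
    apply refl_of_polar_eq_zero
    rw [polar_comm, polar_sub_right, hS s hs, sub_self]
  · -- choose `t` with `B(y,t)`, `B(y',t)` units
    obtain ⟨s0, hs0⟩ := exists_forall_isUnit_eval
      [C 1 + C (polar Q y t2) * X, C (polar Q y' t1) + X] (by
        intro p hp
        simp only [List.mem_cons, List.not_mem_nil, or_false] at hp
        rcases hp with rfl | rfl
        · exact ⟨0, by simp⟩
        · exact ⟨1, by simp⟩)
    set t := t1 + s0 • t2 with htdef
    have htS : ∀ s ∈ S, polar Q s t = 0 := by
      intro s hs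
      rw [htdef, polar_add_right, polar_smul_right, ht1 s hs, ht2 s hs]; simp
    have hyt : IsUnit (polar Q y t) := by
      have := hs0 (C 1 + C (polar Q y t2) * X) (by simp)
      simp only [eval_add, eval_mul, eval_C, eval_X] at this
      rw [htdef, polar_add_right, polar_smul_right, hyt1, smul_eq_mul, mul_comm s0]
      exact this
    have hy't : IsUnit (polar Q y' t) := by
      have := hs0 (C (polar Q y' t1) + X) (by simp)
      simp only [eval_add, eval_C, eval_X] at this
      rw [htdef, polar_add_right, polar_smul_right, hyt2, smul_eq_mul, mul_one]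
      exact this
    -- choose `x = h + τ t`
    obtain ⟨τ, hτ⟩ := exists_forall_isUnit_eval
      [C (Q h) + C (polar Q h t) * X + C (Q t) * X ^ 2, C (polar Q y h) + C (polar Q y t) * X,
        C (polar Q y' h) + C (polar Q y' t) * X] (by
        intro p hp
        simp only [List.mem_cons, List.not_mem_nil, or_false] at hp
        rcases hp with rfl | rfl | rfl
        · exact ⟨0, by simpa using hQh⟩
        · exact ⟨1, by simpa using hyt⟩
        · exact ⟨1, by simpa using hy't⟩)
    set x := h + τ • t with hxdef
    have hxS : ∀ s ∈ S, polar Q s x = 0 := by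
      intro s hs
      rw [hxdef, polar_add_right, polar_smul_right, hh s hs, htS s hs]; simp
    have hQx : IsUnit (Q x) := by
      have := hτ (C (Q h) + C (polar Q h t) * X + C (Q t) * X ^ 2) (by simp)
      have e : Q x = Q h + polar Q h t * τ + Q t * τ ^ 2 := by
        have hadd : ∀ a b : M, Q (a + b) = Q a + Q b + polar Q a b := by
          intro a b; rw [polar]; ring
        rw [hxdef, hadd, QuadraticMap.map_smul, polar_smul_right]
        simp only [smul_eq_mul]; ring
      rw [e]
      simp only [eval_add, eval_mul, eval_C, eval_X, eval_pow] at this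
      exact this
    have hyx : IsUnit (polar Q y x) := by
      have := hτ (C (polar Q y h) + C (polar Q y t) * X) (by simp)
      simp only [eval_add, eval_mul, eval_C, eval_X] at this
      rw [hxdef, polar_add_right, polar_smul_right, smul_eq_mul, mul_comm τ]
      exact this
    have hy'x : IsUnit (polar Q y' x) := by
      have := hτ (C (polar Q y' h) + C (polar Q y' t) * X) (by simp)
      simp only [eval_add, eval_mul, eval_C, eval_X] at this
      rw [hxdef, polar_add_right, polar_smul_right, smul_eq_mul, mul_comm τ]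
      exact this
    -- the second reflection
    have h1 : Ring.inverse (Q x) * Q x = 1 := Ring.inverse_mul_cancel _ hQx
    set c := Ring.inverse (Q x) * polar Q x y with hcdef
    have hcu : IsUnit c := by
      rw [hcdef, polar_comm]
      refine IsUnit.mul ?_ hyx
      exact ⟨⟨Ring.inverse (Q x), Q x, h1, by rw [mul_comm]; exact h1⟩, rfl⟩
    have hry : refl Q x hQx y = y - c • x := refl_apply Q x hQx y
    have hx' : y' - refl Q x hQx y = (y' - y) + c • x := by rw [hry]; abel
    have hQx' : IsUnit (Q (y' - refl Q x hQx y)) := by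
      have hadd : ∀ a b : M, Q (a + b) = Q a + Q b + polar Q a b := by
        intro a b; rw [polar]; ring
      have e : Q (y' - refl Q x hQx y) = Q (y' - y) + c * polar Q y' x := by
        rw [hx', hadd, QuadraticMap.map_smul, polar_smul_right, polar_sub_left]
        simp only [smul_eq_mul]
        rw [hcdef, polar_comm Q y x]
        linear_combination (Ring.inverse (Q x) * polar Q x y * polar Q x y) * h1
      rw [e]
      exact isUnit_add_of_not_isUnit (hcu.mul hy'x) hc
    refine ⟨refl Q x hQx * refl Q (y' - refl Q x hQx y) hQx',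
      (RefGrp Q).mul_mem (refl_mem_RefGrp Q _ _) (refl_mem_RefGrp Q _ _), fun s hs => ?_, ?_⟩
    · rw [LinearEquiv.mul_apply]
      have e1 : refl Q (y' - refl Q x hQx y) hQx' s = s := by
        apply refl_of_polar_eq_zero
        rw [hx', polar_comm, polar_add_right, polar_smul_right, polar_sub_right, hS s hs, hxS s hs]
        simp
      rw [e1]
      exact refl_of_polar_eq_zero Q x hQx s (by rw [polar_comm]; exact hxS s hs)
    · rw [LinearEquiv.mul_apply, refl_sub Q (refl Q x hQx y) y' (by rw [Q_refl, hq]) hQx']
      exact reflLin_reflLin Q x hQx y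

end Move

section Gen

variable (Q : QuadraticForm R M)

theorem Q_apply_of_mem_RefGrp (g : M ≃ₗ[R] M) (hg : g ∈ RefGrp Q) (v : M) : Q (g v) = Q v := by
  revert v
  induction hg using Subgroup.closure_induction with
  | mem g hg =>
    obtain ⟨x, hx, rfl⟩ := hg
    exact Q_refl Q x hx
  | one => intro v; rfl
  | mul g g' _ _ h h' => intro v; rw [LinearEquiv.mul_apply, h, h']
  | inv g _ h =>
    intro v
    have := h (g⁻¹ v)
    rw [show g (g⁻¹ v) = v from LinearEquiv.apply_symm_apply g v] at this
    exact this.symm

theorem polar_apply_of_isometry (g : M ≃ₗ[R] M) (hg : ∀ v, Q (g v) = Q v) (a b : M) :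
    polar Q (g a) (g b) = polar Q a b := by
  simp only [polar, ← map_add, hg]

variable [IsLocalRing R] [Infinite (IsLocalRing.ResidueField R)]
variable {κ : Type*} [Fintype κ] [DecidableEq κ] (pb : PlaneBasis Q κ)

theorem mem_RefGrp_of_fixes (n : ℕ) : ∀ (J : Finset κ), (Finset.univ \ J).card = n →
    ∀ g : M ≃ₗ[R] M, (∀ v, Q (g v) = Q v) →
    (∀ i ∈ J, g (pb.b (Sum.inl i)) = pb.b (Sum.inl i) ∧ g (pb.b (Sum.inr i)) = pb.b (Sum.inr i)) →
    g ∈ RefGrp Q := by
  induction n with
  | zero =>
    intro J hJ g _ hfix
    have hJ' : ∀ i, i ∈ J := by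
      intro i
      by_contra hi
      have : i ∈ Finset.univ \ J := Finset.mem_sdiff.mpr ⟨Finset.mem_univ i, hi⟩
      rw [Finset.card_eq_zero.mp hJ] at this
      exact Finset.notMem_empty i this
    have : g = 1 := by
      apply LinearEquiv.toLinearMap_injective
      apply pb.b.ext
      rintro (i | i)
      · exact (hfix i (hJ' i)).1
      · exact (hfix i (hJ' i)).2
    rw [this]; exact (RefGrp Q).one_mem
  | succ n ih =>
    intro J hJ g hg hfix
    obtain ⟨j, hj⟩ : ∃ j, j ∈ Finset.univ \ J := by
      apply Finset.card_pos.mp; omega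
    have hjJ : j ∉ J := (Finset.mem_sdiff.mp hj).2
    set e := pb.b (Sum.inl j) with he
    set f := pb.b (Sum.inr j) with hf
    -- the set of fixed vectors
    let S : Set M := {s | ∃ i ∈ J, s = pb.b (Sum.inl i) ∨ s = pb.b (Sum.inr i)}
    have hgS : ∀ s ∈ S, g s = s := by
      rintro s ⟨i, hi, rfl | rfl⟩
      · exact (hfix i hi).1
      · exact (hfix i hi).2
    have hSe : ∀ s ∈ S, polar Q s e = 0 := by
      rintro s ⟨i, hi, rfl | rfl⟩
      · exact pb.ortho_ee i j (fun h => hjJ (h ▸ hi))
      · rw [polar_comm]; exact pb.ortho_ef j i (fun h => hjJ (h ▸ hi))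
    have hSf : ∀ s ∈ S, polar Q s f = 0 := by
      rintro s ⟨i, hi, rfl | rfl⟩
      · exact pb.ortho_ef i j (fun h => hjJ (h ▸ hi))
      · exact pb.ortho_ff i j (fun h => hjJ (h ▸ hi))
    have hpol := polar_apply_of_isometry Q g hg
    -- first move: bring `g e` back to `e`
    obtain ⟨ρ1, hρ1, hρ1S, hρ1e⟩ := exists_refGrp_move Q S e (g e) (hg e).symm
      (fun s hs => by
        conv_rhs => rw [← hgS s hs]
        rw [hpol])
      e hSe (pb.unit_e j) f hSf (pb.polar_ef j) (g f)
      (fun s hs => by
        have := hpol s f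
        rw [hgS s hs] at this
        rw [this]; exact hSf s hs)
      (by rw [hpol]; exact pb.polar_ef j)
    set g1 := ρ1 * g with hg1def
    have hg1 : ∀ v, Q (g1 v) = Q v := by
      intro v
      rw [hg1def, LinearEquiv.mul_apply, Q_apply_of_mem_RefGrp Q ρ1 hρ1, hg]
    have hpol1 := polar_apply_of_isometry Q g1 hg1
    let S' : Set M := insert e S
    have hg1S' : ∀ s ∈ S', g1 s = s := by
      intro s hs
      rcases hs with rfl | hs
      · rw [hg1def, LinearEquiv.mul_apply]; exact hρ1e
      · rw [hg1def, LinearEquiv.mul_apply, hgS s hs, hρ1S s hs]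
    -- second move: bring `g1 f` back to `f`
    obtain ⟨D, hD⟩ := pb.disc j
    set a := Q e with ha
    set c := Q f with hc
    set h' := e - (2 * a) • f with hh'
    have hef : polar Q e f = 1 := pb.polar_ef j
    have heh' : polar Q e h' = 0 := by
      rw [hh', polar_sub_right, polar_smul_right, polar_self, hef]
      simp only [smul_eq_mul, nsmul_eq_mul]
      push_cast
      ring
    have hS'h' : ∀ s ∈ S', polar Q s h' = 0 := by
      intro s hs
      rcases hs with rfl | hs
      · exact heh'
      · rw [hh', polar_sub_right, polar_smul_right, hSe s hs, hSf s hs]; simp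
    have hQh' : IsUnit (Q h') := by
      have hadd : ∀ a b : M, Q (a + b) = Q a + Q b + polar Q a b := by
        intro a b; rw [polar]; ring
      have e1 : Q h' = -(a * (1 - 4 * a * c)) := by
        rw [hh', sub_eq_add_neg, ← neg_smul, hadd, QuadraticMap.map_smul, polar_smul_right, hef]
        simp only [smul_eq_mul]
        ring
      rw [e1]
      exact ((pb.unit_e j).mul (hD ▸ D.isUnit)).neg
    have hfh' : polar Q f h' = (D : R) := by
      rw [hh', polar_sub_right, polar_smul_right, polar_self, polar_comm Q f e, hef, hD]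
      simp only [smul_eq_mul, nsmul_eq_mul]
      push_cast
      ring
    have hS'f : ∀ s ∈ S', polar Q s f = polar Q s (g1 f) := by
      intro s hs
      conv_rhs => rw [← hg1S' s hs]
      rw [hpol1]
    obtain ⟨ρ2, hρ2, hρ2S, hρ2f⟩ := exists_refGrp_move Q S' f (g1 f) (hg1 f).symm hS'f
      h' hS'h' hQh' ((↑D⁻¹ : R) • h')
      (fun s hs => by rw [polar_smul_right, hS'h' s hs, smul_zero])
      (by rw [polar_smul_right, hfh', smul_eq_mul, Units.inv_mul])
      (g1 ((↑D⁻¹ : R) • h'))
      (fun s hs => by
        have := hpol1 s ((↑D⁻¹ : R) • h')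
        rw [hg1S' s hs] at this
        rw [this, polar_smul_right, hS'h' s hs, smul_zero])
      (by rw [hpol1, polar_smul_right, hfh', smul_eq_mul, Units.inv_mul])
    -- conclude by induction
    have hg2 : ρ2 * g1 ∈ RefGrp Q := by
      apply ih (insert j J)
      · rw [Finset.sdiff_insert, Finset.card_erase_of_mem hj, hJ]
        rfl
      · intro v
        rw [LinearEquiv.mul_apply, Q_apply_of_mem_RefGrp Q ρ2 hρ2, hg1]
      · intro i hi
        rcases Finset.mem_insert.mp hi with rfl | hi
        · constructor
          · rw [LinearEquiv.mul_apply, hg1S' e (Set.mem_insert _ _)]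
            exact hρ2S e (Set.mem_insert _ _)
          · rw [LinearEquiv.mul_apply]; exact hρ2f
        · have h1 : pb.b (Sum.inl i) ∈ S' := Set.mem_insert_of_mem _ ⟨i, hi, Or.inl rfl⟩
          have h2 : pb.b (Sum.inr i) ∈ S' := Set.mem_insert_of_mem _ ⟨i, hi, Or.inr rfl⟩
          constructor
          · rw [LinearEquiv.mul_apply, hg1S' _ h1]; exact hρ2S _ h1
          · rw [LinearEquiv.mul_apply, hg1S' _ h2]; exact hρ2S _ h2
    have : g = ρ1⁻¹ * (ρ2⁻¹ * (ρ2 * g1)) := by
      rw [hg1def]; group
    rw [this]
    exact (RefGrp Q).mul_mem ((RefGrp Q).inv_mem hρ1) ((RefGrp Q).mul_mem ((RefGrp Q).inv_mem hρ2) hg2)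

include pb in
/-- Over a local ring with infinite residue field, every isometry of a regular form of even rank
with a plane basis is a product of reflections. -/
theorem mem_RefGrp_of_isometry (g : M ≃ₗ[R] M) (hg : ∀ v, Q (g v) = Q v) : g ∈ RefGrp Q :=
  mem_RefGrp_of_fixes Q pb _ ∅ rfl g hg (fun i hi => absurd hi (Finset.notMem_empty i))

end Gen

end Groth.Agent.Helper7.Clf
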