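import Mathlib
import Groth.Prelude.Def_QuadGrp
import Groth.Agent.Helper7.ClfD
import Groth.Agent.Helper7.ClfF

/-!
# Lifting products of reflections to the Clifford group; the Dickson condition
-/

set_option autoImplicit false
universe u v
open QuadraticMap CliffordAlgebra

namespace Groth.Agent.Helper7.Clf

variable {R : Type u} [CommRing R] {M : Type v} [AddCommGroup M] [Module R M]

theorem zmod2_cases (k : ZMod 2) : k = 0 ∨ k = 1 := by
  fin_cases k
  · left; rfl
  · right; rfl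

theorem neg_one_pow_val_add (k1 k2 : ZMod 2) :
    ((-1 : R) ^ (k1 + k2).val) = (-1) ^ k1.val * (-1) ^ k2.val := by
  rcases zmod2_cases k1 with rfl | rfl <;> rcases zmod2_cases k2 with rfl | rfl <;>
    simp [ZMod.val_one, show (1 + 1 : ZMod 2) = 0 from rfl]

theorem neg_one_pow_val_mul_self (k : ZMod 2) : ((-1 : R) ^ k.val) * (-1) ^ k.val = 1 := by
  rcases zmod2_cases k with rfl | rfl <;> simp [ZMod.val_one]

theorem neg_one_pow_val_add_units (k1 k2 : ZMod 2) :
    ((-1 : Rˣ) ^ (k1 + k2).val) = (-1) ^ k1.val * (-1) ^ k2.val := by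
  rcases zmod2_cases k1 with rfl | rfl <;> rcases zmod2_cases k2 with rfl | rfl <;>
    simp [ZMod.val_one, show (1 + 1 : ZMod 2) = 0 from rfl]

theorem neg_one_pow_val_inv_units (k : ZMod 2) : ((-1 : Rˣ) ^ k.val)⁻¹ = (-1) ^ k.val := by
  rcases zmod2_cases k with rfl | rfl <;> simp [ZMod.val_one]

variable (Q : QuadraticForm R M)

/-- `g` is (twisted) conjugation by a homogeneous unit of degree `k`. -/
def HasLift (g : M ≃ₗ[R] M) (k : ZMod 2) : Prop :=
  ∃ u : (CliffordAlgebra Q)ˣ, (u : CliffordAlgebra Q) ∈ evenOdd Q k ∧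
    ∀ v, ι Q (g v) * u = ((-1 : R) ^ k.val) • ((u : CliffordAlgebra Q) * ι Q v)

theorem inv_mem_evenOdd (u : (CliffordAlgebra Q)ˣ) (k : ZMod 2)
    (hu : (u : CliffordAlgebra Q) ∈ evenOdd Q k) : (↑u⁻¹ : CliffordAlgebra Q) ∈ evenOdd Q k := by
  rcases zmod2_cases k with rfl | rfl
  · have := QuadGrp.isLocHomog_inv_aux Q u 1 (by simpa using hu) (by simp)
    simpa using this.1
  · have := QuadGrp.isLocHomog_inv_aux Q u 0 (by simp) (by simpa using hu)
    simpa using this.2

theorem hasLift_of_mem_RefGrp [Module.Free R M] [Module.Finite R M] (g : M ≃ₗ[R] M)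
    (hg : g ∈ RefGrp Q) :
    ∃ k : ZMod 2, HasLift Q g k ∧ LinearEquiv.det g = (-1 : Rˣ) ^ k.val := by
  induction hg using Subgroup.closure_induction with
  | mem g hg =>
    obtain ⟨x, hx, rfl⟩ := hg
    refine ⟨1, ⟨ιUnit Q x hx, ι_mem_evenOdd_one Q x, fun v => ?_⟩, ?_⟩
    · rw [ιUnit_val, ι_refl_mul_ι, ZMod.val_one, pow_one, neg_smul, one_smul]
    · rw [det_refl, ZMod.val_one, pow_one]
  | one =>
    refine ⟨0, ⟨1, by simpa using SetLike.one_mem_graded (evenOdd Q), fun v => ?_⟩, ?_⟩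
    · simp
    · simp
  | mul g g' _ _ h h' =>
    obtain ⟨k, ⟨u, hu, hcu⟩, hd⟩ := h
    obtain ⟨k', ⟨u', hu', hcu'⟩, hd'⟩ := h'
    refine ⟨k + k', ⟨u * u', ?_, fun v => ?_⟩, ?_⟩
    · rw [Units.val_mul]; exact SetLike.mul_mem_graded hu hu'
    · rw [Units.val_mul, LinearEquiv.mul_apply, ← mul_assoc, hcu, smul_mul_assoc, mul_assoc, hcu',
        mul_smul_comm, smul_smul, neg_one_pow_val_add, mul_assoc]
    · rw [map_mul, hd, hd', neg_one_pow_val_add_units]
  | inv g _ h =>
    obtain ⟨k, ⟨u, hu, hcu⟩, hd⟩ := h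
    refine ⟨k, ⟨u⁻¹, inv_mem_evenOdd Q u k hu, fun w => ?_⟩, ?_⟩
    · have h1 := hcu (g⁻¹ w)
      rw [show g (g⁻¹ w) = w from LinearEquiv.apply_symm_apply g w] at h1
      have h2 : (↑u⁻¹ : CliffordAlgebra Q) * ι Q w =
          ((-1 : R) ^ k.val) • (ι Q (g⁻¹ w) * ↑u⁻¹) := by
        calc (↑u⁻¹ : CliffordAlgebra Q) * ι Q w
            = ↑u⁻¹ * (ι Q w * u) * ↑u⁻¹ := by
              rw [mul_assoc, mul_assoc, Units.mul_inv, mul_one]
          _ = ↑u⁻¹ * (((-1 : R) ^ k.val) • ((u : CliffordAlgebra Q) * ι Q (g⁻¹ w))) * ↑u⁻¹ := by rw [h1]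
          _ = ((-1 : R) ^ k.val) • ((↑u⁻¹ * (u : CliffordAlgebra Q)) * ι Q (g⁻¹ w) * ↑u⁻¹) := by
              rw [mul_smul_comm, smul_mul_assoc]
              congr 1
              noncomm_ring
          _ = ((-1 : R) ^ k.val) • (ι Q (g⁻¹ w) * ↑u⁻¹) := by rw [Units.inv_mul, one_mul]
      rw [h2, smul_smul, neg_one_pow_val_mul_self, one_smul]
    · rw [map_inv, hd, neg_one_pow_val_inv_units]

/-- `id` or the grade involution -/
noncomputable def invK (k : ZMod 2) : CliffordAlgebra Q →ₐ[R] CliffordAlgebra Q :=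
  if k = 0 then AlgHom.id R _ else involute

theorem invK_ι (k : ZMod 2) (v : M) : invK Q k (ι Q v) = ((-1 : R) ^ k.val) • ι Q v := by
  rcases zmod2_cases k with rfl | rfl
  · simp [invK]
  · have h10 : (1 : ZMod 2) ≠ 0 := by decide
    rw [invK, if_neg h10, involute_ι, ZMod.val_one, pow_one, neg_smul, one_smul]

theorem invK_of_mem_even (k : ZMod 2) (x : CliffordAlgebra Q) (hx : x ∈ evenOdd Q 0) :
    invK Q k x = x := by
  rw [invK]
  split_ifs
  · rfl
  · exact involute_eq_of_mem_even hx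

variable {Q}

/-- the automorphism of the Clifford algebra induced by an isometry -/
noncomputable def cmap (g : M ≃ₗ[R] M) (hg : g ∈ QuadGrp.O Q) : CliffordAlgebra Q →ₐ[R] CliffordAlgebra Q :=
  CliffordAlgebra.map (QuadGrp.isometryOfMem Q g hg)

theorem cmap_ι (g : M ≃ₗ[R] M) (hg : g ∈ QuadGrp.O Q) (v : M) : cmap g hg (ι Q v) = ι Q (g v) := by
  rw [cmap, map_apply_ι, QuadGrp.isometryOfMem_apply]

theorem cmap_mul_lift (g : M ≃ₗ[R] M) (hg : g ∈ QuadGrp.O Q) (k : ZMod 2)
    (u : (CliffordAlgebra Q)ˣ)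
    (hcu : ∀ v, ι Q (g v) * u = ((-1 : R) ^ k.val) • ((u : CliffordAlgebra Q) * ι Q v))
    (x : CliffordAlgebra Q) : cmap g hg x * u = u * invK Q k x := by
  induction x using CliffordAlgebra.induction with
  | algebraMap r => rw [AlgHom.commutes, AlgHom.commutes, Algebra.commutes]
  | ι v => rw [cmap_ι, hcu, invK_ι, mul_smul_comm]
  | mul a b ha hb => rw [map_mul, map_mul, mul_assoc, hb, ← mul_assoc, ha, mul_assoc]
  | add a b ha hb => rw [map_add, map_add, add_mul, mul_add, ha, hb]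

theorem algebraMap_injective_of_free [Module.Free R M] (Q : QuadraticForm R M) :
    Function.Injective (algebraMap R (CliffordAlgebra Q)) := by
  obtain ⟨B, hB⟩ := LinearMap.BilinMap.toQuadraticMap_surjective (-Q)
  have h : B.toQuadraticMap = 0 - Q := by rw [hB, zero_sub]
  intro r s hrs
  have := congrArg (changeForm h) hrs
  rw [changeForm_algebraMap, changeForm_algebraMap] at this
  exact (ExteriorAlgebra.algebraMap_leftInverse M).injective this

/-- If `g` lifts to an even unit, it satisfies the Dickson condition. -/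
theorem isDicksonTrivial_of_hasLift_zero (g : M ≃ₗ[R] M) (hg : g ∈ QuadGrp.O Q)
    (h : HasLift Q g 0) : QuadGrp.IsDicksonTrivial Q g hg := by
  obtain ⟨u, hu, hcu⟩ := h
  intro z' hz'
  have h1 := cmap_mul_lift g hg 0 u hcu (z' : CliffordAlgebra Q)
  have hz'e : (z' : CliffordAlgebra Q) ∈ evenOdd Q 0 := (mem_even_iff Q _).mp z'.2
  rw [invK_of_mem_even Q 0 _ hz'e] at h1
  have h2 : (u : CliffordAlgebra Q) * (z' : CliffordAlgebra Q) = (z' : CliffordAlgebra Q) * u := by
    have := Subalgebra.mem_center_iff.mp hz' ⟨u, (mem_even_iff Q _).mpr hu⟩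
    exact congrArg Subtype.val this
  rw [h2] at h1
  have := congrArg (fun t => t * (↑u⁻¹ : CliffordAlgebra Q)) h1
  simp only [mul_assoc, Units.mul_inv, mul_one] at this
  exact this

/-- If `g` lifts to an odd unit, it does not satisfy the Dickson condition (over a nonzero ring). -/
theorem not_isDicksonTrivial_of_hasLift_one [Nontrivial R] [Module.Free R M] (Z : ZElt Q)
    (g : M ≃ₗ[R] M) (hg : g ∈ QuadGrp.O Q)
    (h : HasLift Q g 1) : ¬ QuadGrp.IsDicksonTrivial Q g hg := by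
  obtain ⟨u, hu, hcu⟩ := h
  intro hD
  have hzc : (⟨Z.z, (mem_even_iff Q _).mpr Z.even⟩ : CliffordAlgebra.even Q) ∈
      Subalgebra.center R (CliffordAlgebra.even Q) := by
    rw [Subalgebra.mem_center_iff]
    intro y
    apply Subtype.ext
    exact Z.even_comm y ((mem_even_iff Q _).mp y.2)
  have h0 := hD _ hzc
  have h1 := cmap_mul_lift g hg 1 u hcu Z.z
  rw [invK_of_mem_even Q 1 _ Z.even, Z.odd_comm u hu] at h1
  change cmap g hg Z.z = Z.z at h0
  rw [h0] at h1
  have h2 := congrArg (fun t => t * (↑u⁻¹ : CliffordAlgebra Q)) h1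
  simp only [mul_assoc, Units.mul_inv, mul_one] at h2
  have hδ : Z.δ = 0 := by
    rw [ZElt.δ, two_mul]
    nth_rewrite 1 [h2]
    abel
  have hsq := Z.δ_sq
  rw [hδ, mul_zero] at hsq
  have : (Z.r : R) = 0 := algebraMap_injective_of_free Q (by rw [← hsq, map_zero])
  exact Z.r.ne_zero this

end Groth.Agent.Helper7.Clf
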