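import Mathlib
import Groth.Prelude.Def_QuadGrp

/-!
# Base change of Clifford algebras, characteristic free (free modules)
-/

set_option autoImplicit false
universe u v w
open QuadraticMap CliffordAlgebra
open scoped TensorProduct

namespace Groth.Agent.Helper7.Clf

variable {R : Type u} [CommRing R] {M : Type v} [AddCommGroup M] [Module R M] [Module.Free R M]
variable (A : Type w) [CommRing A] [Algebra R A] (Q : QuadraticForm R M)

theorem baseChangeForm_tmul (a : A) (m : M) :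
    QuadGrp.baseChangeForm A Q (a ⊗ₜ[R] m) = Q m • (a * a) := by
  rw [QuadGrp.baseChangeForm, LinearMap.compQuadraticMap_apply, QuadGrp.baseChange_tmul]
  simp

theorem baseChangeForm_one_tmul (m : M) :
    QuadGrp.baseChangeForm A Q ((1 : A) ⊗ₜ[R] m) = algebraMap R A (Q m) := by
  rw [baseChangeForm_tmul, mul_one, Algebra.algebraMap_eq_smul_one]

/-- The `R`-algebra map `C(Q) → C(Q_A)`. -/
noncomputable def ofBC : CliffordAlgebra Q →ₐ[R] CliffordAlgebra (QuadGrp.baseChangeForm A Q) :=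
  CliffordAlgebra.lift Q ⟨(ι (QuadGrp.baseChangeForm A Q)).restrictScalars R ∘ₗ TensorProduct.mk R A M 1,
    fun v => by
      refine (CliffordAlgebra.ι_sq_scalar (QuadGrp.baseChangeForm A Q) (1 ⊗ₜ v)).trans ?_
      rw [baseChangeForm_one_tmul, ← IsScalarTower.algebraMap_apply]⟩

@[simp] theorem ofBC_ι (v : M) : ofBC A Q (ι Q v) = ι (QuadGrp.baseChangeForm A Q) (1 ⊗ₜ v) :=
  CliffordAlgebra.lift_ι_apply _ _ v

/-- `A ⊗ C(Q) → C(Q_A)` -/
noncomputable def ofTensor :
    A ⊗[R] CliffordAlgebra Q →ₐ[A] CliffordAlgebra (QuadGrp.baseChangeForm A Q) :=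
  Algebra.TensorProduct.lift (Algebra.ofId _ _) (ofBC A Q) fun _a _x => Algebra.commutes _ _

@[simp] theorem ofTensor_tmul (a : A) (x : CliffordAlgebra Q) :
    ofTensor A Q (a ⊗ₜ x) = a • ofBC A Q x := by
  rw [ofTensor, Algebra.TensorProduct.lift_tmul, Algebra.ofId_apply, Algebra.smul_def]

theorem ofTensor_tmul_ι (a : A) (v : M) :
    ofTensor A Q (a ⊗ₜ ι Q v) = ι (QuadGrp.baseChangeForm A Q) (a ⊗ₜ v) := by
  rw [ofTensor_tmul, ofBC_ι, ← map_smul, TensorProduct.smul_tmul', smul_eq_mul, mul_one]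

/-- `x ↦ f(x)²` as a quadratic map -/
noncomputable def sqMap : QuadraticMap A (A ⊗[R] M) (A ⊗[R] CliffordAlgebra Q) :=
  LinearMap.BilinMap.toQuadraticMap
    ((LinearMap.mul A (A ⊗[R] CliffordAlgebra Q)).compl₁₂
      (TensorProduct.AlgebraTensorModule.map (LinearMap.id : A →ₗ[A] A) (ι Q))
      (TensorProduct.AlgebraTensorModule.map (LinearMap.id : A →ₗ[A] A) (ι Q)))

theorem sqMap_apply (x : A ⊗[R] M) :
    sqMap A Q x = TensorProduct.AlgebraTensorModule.map (LinearMap.id : A →ₗ[A] A) (ι Q) x *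
      TensorProduct.AlgebraTensorModule.map (LinearMap.id : A →ₗ[A] A) (ι Q) x := by
  simp [sqMap]

theorem sqMap_eq :
    sqMap A Q = (Algebra.linearMap A (A ⊗[R] CliffordAlgebra Q)).compQuadraticMap
      (QuadGrp.baseChangeForm A Q) := by
  apply _root_.baseChange_ext
  intro m
  rw [sqMap_apply, LinearMap.compQuadraticMap_apply, baseChangeForm_one_tmul]
  simp only [TensorProduct.AlgebraTensorModule.map_tmul, LinearMap.id_apply,
    Algebra.TensorProduct.tmul_mul_tmul, mul_one, ι_sq_scalar, Algebra.linearMap_apply,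
    Algebra.TensorProduct.algebraMap_apply]
  rw [Algebra.algebraMap_eq_smul_one (Q m), Algebra.algebraMap_eq_smul_one (Q m),
    Algebra.algebraMap_self, RingHom.id_apply, TensorProduct.smul_tmul]

/-- `C(Q_A) → A ⊗ C(Q)` -/
noncomputable def toTensor :
    CliffordAlgebra (QuadGrp.baseChangeForm A Q) →ₐ[A] A ⊗[R] CliffordAlgebra Q :=
  CliffordAlgebra.lift _ ⟨TensorProduct.AlgebraTensorModule.map (LinearMap.id : A →ₗ[A] A) (ι Q),
    fun x => by
      rw [← sqMap_apply, sqMap_eq, LinearMap.compQuadraticMap_apply, Algebra.linearMap_apply]⟩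

@[simp] theorem toTensor_ι (a : A) (v : M) :
    toTensor A Q (ι (QuadGrp.baseChangeForm A Q) (a ⊗ₜ v)) = a ⊗ₜ ι Q v :=
  CliffordAlgebra.lift_ι_apply _ _ _

attribute [local ext] TensorProduct.ext

theorem toTensor_comp_ofTensor : (toTensor A Q).comp (ofTensor A Q) = AlgHom.id _ _ := by
  ext v
  simp

theorem ofTensor_comp_toTensor : (ofTensor A Q).comp (toTensor A Q) = AlgHom.id _ _ := by
  ext x
  change ofTensor A Q (toTensor A Q (ι (QuadGrp.baseChangeForm A Q) (1 ⊗ₜ[R] x)))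
    = ι (QuadGrp.baseChangeForm A Q) (1 ⊗ₜ[R] x)
  rw [toTensor_ι, ofTensor_tmul_ι]

/-- `A ⊗ C(Q) ≃ C(Q_A)` -/
noncomputable def tensorEquiv :
    A ⊗[R] CliffordAlgebra Q ≃ₐ[A] CliffordAlgebra (QuadGrp.baseChangeForm A Q) :=
  AlgEquiv.ofAlgHom (ofTensor A Q) (toTensor A Q) (ofTensor_comp_toTensor A Q)
    (toTensor_comp_ofTensor A Q)

@[simp] theorem tensorEquiv_tmul (a : A) (x : CliffordAlgebra Q) :
    tensorEquiv A Q (a ⊗ₜ x) = a • ofBC A Q x := ofTensor_tmul A Q a x

end Groth.Agent.Helper7.Clf
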