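import Mathlib
import Groth.Agent.Helper7.ClfG
import Groth.Agent.Helper7.ClfH

/-!
# Base change of Clifford algebras: gradings, isometries, flat descent of kernels and of units
-/

set_option autoImplicit false
universe u v w
open QuadraticMap CliffordAlgebra
open scoped TensorProduct

namespace Groth.Agent.Helper7.Clf

section FlatKernel

variable {R : Type*} [CommRing R] (A : Type*) [CommRing A] [Algebra R A]
variable {N P : Type*} [AddCommGroup N] [AddCommGroup P] [Module R N] [Module R P]

/-- flat base change of a finite intersection of kernels -/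
theorem mem_range_lTensor_of_forall [Module.Flat R A] {κ : Type*} [Fintype κ] [DecidableEq κ]
    (ψ : κ → N →ₗ[R] P) (w : A ⊗[R] N) (hw : ∀ j, (ψ j).lTensor A w = 0) :
    w ∈ LinearMap.range ((LinearMap.ker (LinearMap.pi ψ)).subtype.lTensor A) := by
  have h1 := Module.Flat.ker_lTensor_eq A A (LinearMap.pi ψ)
  have h2 : w ∈ LinearMap.ker (TensorProduct.AlgebraTensorModule.lTensor A A (LinearMap.pi ψ)) := by
    rw [LinearMap.mem_ker]
    apply (TensorProduct.piRight R A A (fun _ : κ => P)).injective
    rw [map_zero]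
    funext j
    rw [Pi.zero_apply, ← hw j]
    clear hw h1
    induction w using TensorProduct.induction_on with
    | zero => simp
    | tmul a n => simp
    | add x y hx hy =>
      rw [map_add, map_add, Pi.add_apply, hx, hy, map_add]
  rw [h1] at h2
  obtain ⟨y, hy⟩ := h2
  exact ⟨y, hy⟩

end FlatKernel

variable {R : Type u} [CommRing R] {M : Type v} [AddCommGroup M] [Module R M] [Module.Free R M]
variable (A : Type w) [CommRing A] [Algebra R A] (Q : QuadraticForm R M)

local notation "QA" => QuadGrp.baseChangeForm A Q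

theorem ofBC_mem_even (x : CliffordAlgebra Q) (hx : x ∈ evenOdd Q 0) :
    ofBC A Q x ∈ evenOdd QA 0 := by
  induction x, hx using even_induction with
  | algebraMap r => rw [AlgHom.commutes]; exact SetLike.algebraMap_mem_graded _ _
  | add x y _ _ hx hy => rw [map_add]; exact Submodule.add_mem _ hx hy
  | ι_mul_ι_mul m₁ m₂ x _ ih =>
    rw [map_mul, map_mul, ofBC_ι, ofBC_ι]
    have := SetLike.mul_mem_graded (ι_mul_ι_mem_evenOdd_zero QA (1 ⊗ₜ m₁) (1 ⊗ₜ m₂)) ih
    rwa [zero_add] at this

theorem ofBC_mem_odd (x : CliffordAlgebra Q) (hx : x ∈ evenOdd Q 1) :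
    ofBC A Q x ∈ evenOdd QA 1 := by
  induction x, hx using odd_induction with
  | ι v => rw [ofBC_ι]; exact ι_mem_evenOdd_one _ _
  | add x y _ _ hx hy => rw [map_add]; exact Submodule.add_mem _ hx hy
  | ι_mul_ι_mul m₁ m₂ x _ ih =>
    rw [map_mul, map_mul, ofBC_ι, ofBC_ι]
    have := SetLike.mul_mem_graded (ι_mul_ι_mem_evenOdd_zero QA (1 ⊗ₜ m₁) (1 ⊗ₜ m₂)) ih
    rwa [zero_add] at this

theorem ofBC_mem_evenOdd (k : ZMod 2) (x : CliffordAlgebra Q) (hx : x ∈ evenOdd Q k) :
    ofBC A Q x ∈ evenOdd QA k := by
  rcases zmod2_cases k with rfl | rfl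
  · exact ofBC_mem_even A Q x hx
  · exact ofBC_mem_odd A Q x hx

theorem ofBC_eq_tensorEquiv (x : CliffordAlgebra Q) : ofBC A Q x = tensorEquiv A Q (1 ⊗ₜ x) := by
  rw [tensorEquiv_tmul, one_smul]

theorem ofBC_injective [Module.FaithfullyFlat R A] : Function.Injective (ofBC A Q) := by
  intro x y hxy
  rw [ofBC_eq_tensorEquiv, ofBC_eq_tensorEquiv] at hxy
  exact Module.FaithfullyFlat.tensorProduct_mk_injective (A := R) (B := A) _
    ((tensorEquiv A Q).injective hxy)

theorem mem_evenOdd_of_ofBC_mem [Module.FaithfullyFlat R A] (k : ZMod 2) (x : CliffordAlgebra Q)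
    (hx : ofBC A Q x ∈ evenOdd QA k) : x ∈ evenOdd Q k := by
  obtain ⟨x0, h0, x1, h1, rfl⟩ := exists_even_odd Q x
  have e0 := ofBC_mem_even A Q x0 h0
  have e1 := ofBC_mem_odd A Q x1 h1
  rw [map_add] at hx
  rcases zmod2_cases k with rfl | rfl
  · have : ofBC A Q x1 ∈ evenOdd QA 0 := by
      have := Submodule.sub_mem _ hx e0
      rwa [add_sub_cancel_left] at this
    have hz := eq_zero_of_mem_even_of_mem_odd QA _ this e1
    have : x1 = 0 := ofBC_injective A Q (by rw [hz, map_zero])
    rw [this, add_zero]; exact h0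
  · have : ofBC A Q x0 ∈ evenOdd QA 1 := by
      have := Submodule.sub_mem _ hx e1
      rwa [add_sub_cancel_right] at this
    have hz := eq_zero_of_mem_even_of_mem_odd QA _ e0 this
    have : x0 = 0 := ofBC_injective A Q (by rw [hz, map_zero])
    rw [this, zero_add]; exact h1

/-- every element of `C(Q_A)` is an `A`-combination of elements of `C(Q)` -/
theorem span_range_ofBC : Submodule.span A (Set.range (ofBC A Q)) = ⊤ := by
  rw [eq_top_iff]
  intro y _
  obtain ⟨w, rfl⟩ := (tensorEquiv A Q).surjective y
  clear * -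
  induction w using TensorProduct.induction_on with
  | zero => rw [map_zero]; exact Submodule.zero_mem _
  | tmul a x =>
    rw [tensorEquiv_tmul]
    exact Submodule.smul_mem _ _ (Submodule.subset_span ⟨x, rfl⟩)
  | add x y hx hy => rw [map_add]; exact Submodule.add_mem _ hx hy

/-! ### Regularity is stable under base change -/

omit [Module.Free R M] in
theorem regular_iff_exists_dual {κ : Type*} [Fintype κ] [DecidableEq κ] (b : Module.Basis κ R M) :
    Function.Bijective (polarBilin Q) ↔
      ∃ d : κ → M, ∀ i j, polar Q (b i) (d j) = if i = j then 1 else 0 := by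
  constructor
  · intro hQ
    choose d hd using fun j => hQ.2 (b.coord j)
    refine ⟨d, fun i j => ?_⟩
    rw [polar_comm, ← polarBilin_apply_apply, hd j, Module.Basis.coord_apply, Module.Basis.repr_self,
      Finsupp.single_apply]
  · rintro ⟨d, hd⟩
    have key : ∀ x : M, ∀ j, polar Q x (d j) = b.repr x j := by
      intro x j
      conv_lhs => rw [← b.sum_repr x]
      rw [← polarBilin_apply_apply, map_sum, LinearMap.sum_apply]
      simp only [map_smul, LinearMap.smul_apply, polarBilin_apply_apply, hd, smul_eq_mul, mul_ite,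
        mul_one, mul_zero, Finset.sum_ite_eq', Finset.mem_univ, if_true]
    constructor
    · rw [injective_iff_map_eq_zero]
      intro x hx
      apply b.repr.injective
      ext j
      rw [← key x j, ← polarBilin_apply_apply, hx]
      simp
    · intro φ
      refine ⟨∑ j, φ (b j) • d j, ?_⟩
      apply b.ext
      intro i
      rw [polarBilin_apply_apply, polar_comm, ← polarBilin_apply_apply, map_sum]
      simp only [map_smul, polarBilin_apply_apply, hd, smul_eq_mul, mul_ite, mul_one, mul_zero,
        Finset.sum_ite_eq, Finset.mem_univ, if_true]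

theorem polar_baseChangeForm_one_tmul (x y : M) :
    polar (QuadGrp.baseChangeForm A Q) ((1 : A) ⊗ₜ[R] x) (1 ⊗ₜ y) = algebraMap R A (polar Q x y) := by
  simp only [polar, ← TensorProduct.tmul_add, baseChangeForm_one_tmul, map_sub]

theorem regular_baseChangeForm [Module.Finite R M] (hQ : Function.Bijective (polarBilin Q)) :
    Function.Bijective (polarBilin (QuadGrp.baseChangeForm A Q)) := by
  classical
  let b := Module.Free.chooseBasis R M
  obtain ⟨d, hd⟩ := (regular_iff_exists_dual Q b).mp hQ
  rw [regular_iff_exists_dual _ (b.baseChange A)]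
  refine ⟨fun j => 1 ⊗ₜ d j, fun i j => ?_⟩
  rw [Module.Basis.baseChange_apply, polar_baseChangeForm_one_tmul, hd]
  split_ifs <;> simp

/-! ### Base change of isometries -/

omit [Module.Free R M] in
theorem baseChange_tmul' (g : M ≃ₗ[R] M) (a : A) (m : M) :
    LinearEquiv.baseChange R A M M g (a ⊗ₜ m) = a ⊗ₜ g m := by
  simp

theorem baseChange_mem_O (g : M ≃ₗ[R] M) (hg : g ∈ QuadGrp.O Q) :
    LinearEquiv.baseChange R A M M g ∈ QuadGrp.O (QuadGrp.baseChangeForm A Q) := by
  rw [QuadGrp.mem_O]
  have h : (QuadGrp.baseChangeForm A Q).comp (LinearEquiv.baseChange R A M M g).toLinearMap =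
      QuadGrp.baseChangeForm A Q := by
    apply _root_.baseChange_ext
    intro m
    rw [QuadraticMap.comp_apply, LinearEquiv.coe_coe, baseChange_tmul', baseChangeForm_one_tmul,
      baseChangeForm_one_tmul, (QuadGrp.mem_O Q g).mp hg m]
  intro v
  have := congrArg (fun q => q v) h
  exact this

theorem cmap_baseChange_ofBC (g : M ≃ₗ[R] M) (hg : g ∈ QuadGrp.O Q) (x : CliffordAlgebra Q) :
    cmap (LinearEquiv.baseChange R A M M g) (baseChange_mem_O A Q g hg) (ofBC A Q x) =
      ofBC A Q (cmap g hg x) := by
  induction x using CliffordAlgebra.induction with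
  | algebraMap r =>
    rw [AlgHom.commutes, AlgHom.commutes, AlgHom.commutes, IsScalarTower.algebraMap_apply R A,
      AlgHom.commutes]
  | ι v => rw [ofBC_ι, cmap_ι, cmap_ι, ofBC_ι, baseChange_tmul']
  | mul a b ha hb => rw [map_mul, map_mul, ha, hb, map_mul, map_mul]
  | add a b ha hb => rw [map_add, map_add, ha, hb, map_add, map_add]

/-! ### Descent of units -/

theorem tensorEquiv_lTensor_mulLeft (x : CliffordAlgebra Q) (w : A ⊗[R] CliffordAlgebra Q) :
    tensorEquiv A Q ((LinearMap.mulLeft R x).lTensor A w) = ofBC A Q x * tensorEquiv A Q w := by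
  induction w using TensorProduct.induction_on with
  | zero => simp
  | tmul a c =>
    rw [LinearMap.lTensor_tmul, tensorEquiv_tmul, tensorEquiv_tmul, LinearMap.mulLeft_apply, map_mul,
      mul_smul_comm]
  | add y z hy hz => rw [map_add, map_add, hy, hz, map_add, mul_add]

theorem tensorEquiv_lTensor_mulRight (x : CliffordAlgebra Q) (w : A ⊗[R] CliffordAlgebra Q) :
    tensorEquiv A Q ((LinearMap.mulRight R x).lTensor A w) = tensorEquiv A Q w * ofBC A Q x := by
  induction w using TensorProduct.induction_on with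
  | zero => simp
  | tmul a c =>
    rw [LinearMap.lTensor_tmul, tensorEquiv_tmul, tensorEquiv_tmul, LinearMap.mulRight_apply, map_mul,
      smul_mul_assoc]
  | add y z hy hz => rw [map_add, map_add, hy, hz, map_add, add_mul]

theorem isUnit_of_isUnit_ofBC [Module.FaithfullyFlat R A] (x : CliffordAlgebra Q)
    (h : IsUnit (ofBC A Q x)) : IsUnit x := by
  obtain ⟨U, hU⟩ := h
  have hL : Function.Surjective (LinearMap.mulLeft R x) := by
    rw [← Module.FaithfullyFlat.lTensor_surjective_iff_surjective R A]
    intro w'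
    refine ⟨(tensorEquiv A Q).symm ((↑U⁻¹ : CliffordAlgebra _) * tensorEquiv A Q w'), ?_⟩
    apply (tensorEquiv A Q).injective
    rw [tensorEquiv_lTensor_mulLeft, AlgEquiv.apply_symm_apply, ← hU, ← mul_assoc, Units.mul_inv,
      one_mul]
  have hR : Function.Surjective (LinearMap.mulRight R x) := by
    rw [← Module.FaithfullyFlat.lTensor_surjective_iff_surjective R A]
    intro w'
    refine ⟨(tensorEquiv A Q).symm (tensorEquiv A Q w' * (↑U⁻¹ : CliffordAlgebra _)), ?_⟩
    apply (tensorEquiv A Q).injective
    rw [tensorEquiv_lTensor_mulRight, AlgEquiv.apply_symm_apply, ← hU, mul_assoc, Units.inv_mul,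
      mul_one]
  obtain ⟨y, hy⟩ := hL 1
  obtain ⟨y', hy'⟩ := hR 1
  rw [LinearMap.mulLeft_apply] at hy
  rw [LinearMap.mulRight_apply] at hy'
  have : y' = y := by
    calc y' = y' * (x * y) := by rw [hy, mul_one]
      _ = (y' * x) * y := by rw [mul_assoc]
      _ = y := by rw [hy', one_mul]
  exact ⟨⟨x, y, hy, this ▸ hy'⟩, rfl⟩

/-! ### Descent of intertwiners -/

open IsLocalRing in
/-- Descent of a lift of an isometry along a faithfully flat local extension over which the
centre of the Clifford algebra is trivial. -/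
theorem exists_lift_descent [Module.Finite R M] [IsLocalRing A] [Module.FaithfullyFlat R A]
    (g : M ≃ₗ[R] M) (uA : (CliffordAlgebra (QuadGrp.baseChangeForm A Q))ˣ) (k : ZMod 2)
    (hk : (uA : CliffordAlgebra (QuadGrp.baseChangeForm A Q)) ∈ evenOdd (QuadGrp.baseChangeForm A Q) k)
    (hint : ∀ w, ι (QuadGrp.baseChangeForm A Q) (LinearEquiv.baseChange R A M M g w) * uA =
      uA * ι (QuadGrp.baseChangeForm A Q) w)
    (hcenter : ∀ x : CliffordAlgebra (QuadGrp.baseChangeForm A Q),
      (∀ w, ι (QuadGrp.baseChangeForm A Q) w * x = x * ι (QuadGrp.baseChangeForm A Q) w) →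
      ∃ a : A, x = algebraMap A _ a) :
    ∃ u : (CliffordAlgebra Q)ˣ, (u : CliffordAlgebra Q) ∈ evenOdd Q k ∧
      ∀ v, ι Q (g v) * u = u * ι Q v := by
  classical
  let b := Module.Free.chooseBasis R M
  let ψ : Module.Free.ChooseBasisIndex R M → CliffordAlgebra Q →ₗ[R] CliffordAlgebra Q :=
    fun j => LinearMap.mulLeft R (ι Q (g (b j))) - LinearMap.mulRight R (ι Q (b j))
  set K := LinearMap.ker (LinearMap.pi ψ) with hK
  have hKmem : ∀ p : CliffordAlgebra Q, p ∈ K ↔ ∀ j, ι Q (g (b j)) * p = p * ι Q (b j) := by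
    intro p
    rw [hK, LinearMap.mem_ker]
    constructor
    · intro h j
      have := congrFun h j
      simpa [ψ, sub_eq_zero] using this
    · intro h
      funext j
      simpa [ψ, sub_eq_zero] using h j
  -- elements of `K` give intertwiners over `A`, hence multiples of `uA`
  have hKA : ∀ p ∈ K, ∃ c : A, ofBC A Q p = c • (uA : CliffordAlgebra (QuadGrp.baseChangeForm A Q)) := by
    intro p hp
    have hp' := (hKmem p).mp hp
    have hintp : ∀ w, ι (QuadGrp.baseChangeForm A Q) (LinearEquiv.baseChange R A M M g w) * ofBC A Q p =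
        ofBC A Q p * ι (QuadGrp.baseChangeForm A Q) w := by
      intro w
      have hlin : (LinearMap.mulRight A (ofBC A Q p)).comp
          ((ι (QuadGrp.baseChangeForm A Q)).comp (LinearEquiv.baseChange R A M M g).toLinearMap) =
          (LinearMap.mulLeft A (ofBC A Q p)).comp (ι (QuadGrp.baseChangeForm A Q)) := by
        apply (b.baseChange A).ext
        intro j
        simp only [LinearMap.comp_apply, LinearEquiv.coe_coe, LinearMap.mulRight_apply,
          LinearMap.mulLeft_apply, Module.Basis.baseChange_apply, baseChange_tmul']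
        rw [← ofBC_ι, ← ofBC_ι, ← map_mul, ← map_mul, hp' j]
      exact LinearMap.congr_fun hlin w
    have hUV : (uA : CliffordAlgebra (QuadGrp.baseChangeForm A Q)) * ↑uA⁻¹ = 1 := Units.mul_inv uA
    have hVU : (↑uA⁻¹ : CliffordAlgebra (QuadGrp.baseChangeForm A Q)) * ↑uA = 1 := Units.inv_mul uA
    generalize (uA : CliffordAlgebra (QuadGrp.baseChangeForm A Q)) = U at hint hUV hVU ⊢
    generalize (↑uA⁻¹ : CliffordAlgebra (QuadGrp.baseChangeForm A Q)) = V at hUV hVU
    obtain ⟨c, hc⟩ := hcenter (V * ofBC A Q p) (by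
      intro w
      have h1 := hint w
      have h2 := hintp w
      have h3 : ι (QuadGrp.baseChangeForm A Q) w * V =
          V * ι (QuadGrp.baseChangeForm A Q) (LinearEquiv.baseChange R A M M g w) := by
        calc ι (QuadGrp.baseChangeForm A Q) w * V
            = V * (U * ι (QuadGrp.baseChangeForm A Q) w) * V := by
              rw [← mul_assoc V, hVU, one_mul]
          _ = V * (ι (QuadGrp.baseChangeForm A Q) (LinearEquiv.baseChange R A M M g w) * U) * V := by
              rw [h1]
          _ = _ := by rw [mul_assoc, mul_assoc, hUV, mul_one]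
      rw [← mul_assoc, h3, mul_assoc, h2, mul_assoc])
    refine ⟨c, ?_⟩
    have := congrArg (fun t => U * t) hc
    simp only [← mul_assoc, hUV, one_mul] at this
    rw [this, Algebra.smul_def, Algebra.commutes]
  -- `uA` is an `A`-combination of images of elements of `K`
  have hw : ∀ j, (ψ j).lTensor A ((tensorEquiv A Q).symm uA) = 0 := by
    intro j
    apply (tensorEquiv A Q).injective
    have : (ψ j).lTensor A = (LinearMap.mulLeft R (ι Q (g (b j)))).lTensor A -
        (LinearMap.mulRight R (ι Q (b j))).lTensor A := by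
      simp only [ψ]
      ext; simp
    rw [this, LinearMap.sub_apply, map_sub, tensorEquiv_lTensor_mulLeft, tensorEquiv_lTensor_mulRight,
      AlgEquiv.apply_symm_apply, map_zero, ofBC_ι, ofBC_ι, ← baseChange_tmul', hint, sub_self]
  obtain ⟨y, hy⟩ := mem_range_lTensor_of_forall A ψ _ hw
  have hspan : ∀ y : A ⊗[R] K, tensorEquiv A Q (K.subtype.lTensor A y) ∈
      Submodule.span A ((ofBC A Q) '' (K : Set (CliffordAlgebra Q))) := by
    intro y
    induction y using TensorProduct.induction_on with
    | zero => simp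
    | tmul a p =>
      rw [LinearMap.lTensor_tmul, tensorEquiv_tmul]
      exact Submodule.smul_mem _ _ (Submodule.subset_span ⟨p, p.2, rfl⟩)
    | add y z hy hz => rw [map_add, map_add]; exact Submodule.add_mem _ hy hz
  have huA : (uA : CliffordAlgebra _) ∈ Submodule.span A ((ofBC A Q) '' (K : Set (CliffordAlgebra Q))) := by
    have := hspan y
    rwa [hy, AlgEquiv.apply_symm_apply] at this
  -- some element of `K` maps to a unit multiple of `uA`
  have hex : ∃ p ∈ K, ∃ c : A, IsUnit c ∧ ofBC A Q p = c • (uA : CliffordAlgebra _) := by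
    by_contra hcon
    push Not at hcon
    let T : Submodule A (CliffordAlgebra (QuadGrp.baseChangeForm A Q)) :=
      (maximalIdeal A) • Submodule.span A {(uA : CliffordAlgebra _)}
    have hT : Submodule.span A ((ofBC A Q) '' (K : Set (CliffordAlgebra Q))) ≤ T := by
      rw [Submodule.span_le]
      rintro _ ⟨p, hp, rfl⟩
      obtain ⟨c, hc⟩ := hKA p hp
      have hcn : ¬ IsUnit c := fun hcu => hcon p hp c hcu hc
      rw [SetLike.mem_coe, hc]
      exact Submodule.smul_mem_smul ((mem_maximalIdeal c).mpr hcn)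
        (Submodule.subset_span (Set.mem_singleton _))
    have huT := hT huA
    rw [Submodule.mem_smul_span_singleton] at huT
    obtain ⟨c, hcm, hc⟩ := huT
    have h1 : algebraMap A (CliffordAlgebra (QuadGrp.baseChangeForm A Q)) (c - 1) = 0 := by
      have := congrArg (fun t => t * (↑uA⁻¹ : CliffordAlgebra _)) hc
      simp only [smul_mul_assoc, Units.mul_inv] at this
      rw [map_sub, map_one, Algebra.algebraMap_eq_smul_one, this, sub_self]
    have h2 : c - 1 = 0 := algebraMap_injective_of_free (QuadGrp.baseChangeForm A Q)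
      (by rw [h1, map_zero])
    have : c = 1 := sub_eq_zero.mp h2
    rw [this] at hcm
    exact (maximalIdeal.isMaximal A).ne_top ((Ideal.eq_top_iff_one _).mpr hcm)
  obtain ⟨p, hp, c, hcu, hc⟩ := hex
  have hpu : IsUnit p := by
    apply isUnit_of_isUnit_ofBC A Q
    rw [hc, Algebra.smul_def]
    exact (hcu.map (algebraMap A _)).mul uA.isUnit
  obtain ⟨u, rfl⟩ := hpu
  refine ⟨u, ?_, ?_⟩
  · apply mem_evenOdd_of_ofBC_mem A Q k
    rw [hc]
    exact Submodule.smul_mem _ _ hk
  · have hp' := (hKmem _).mp hp
    have hlin : (LinearMap.mulRight R (u : CliffordAlgebra Q)).comp ((ι Q).comp g.toLinearMap) =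
        (LinearMap.mulLeft R (u : CliffordAlgebra Q)).comp (ι Q) := by
      apply b.ext
      intro j
      exact hp' j
    intro v
    exact LinearMap.congr_fun hlin v

end Groth.Agent.Helper7.Clf
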