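import Mathlib

/-!
# The Nagata extension `R(X)` of a local ring: a faithfully flat local extension with infinite residue field
-/

set_option autoImplicit false
universe u
open Polynomial IsLocalRing

namespace Groth.Agent.Helper7.Clf

variable (R : Type u) [CommRing R] [IsLocalRing R]

instance nagataPrime : (Ideal.map (C : R →+* R[X]) (maximalIdeal R)).IsPrime :=
  (Ideal.isPrime_map_C_iff_isPrime _).mpr inferInstance

/-- The Nagata extension `R(X) = R[X]_{𝔪 R[X]}`. -/
abbrev NagataExt : Type u := Localization.AtPrime (Ideal.map (C : R →+* R[X]) (maximalIdeal R))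

instance : Module.Flat R (NagataExt R) := Module.Flat.trans R R[X] (NagataExt R)

theorem isUnit_algebraMap_nagata_iff (f : R[X]) :
    IsUnit (algebraMap R[X] (NagataExt R) f) ↔ ∃ n, IsUnit (f.coeff n) := by
  rw [IsLocalization.AtPrime.isUnit_to_map_iff (NagataExt R)
    (Ideal.map (C : R →+* R[X]) (maximalIdeal R)), Ideal.primeCompl, Submonoid.mem_mk,
    Subsemigroup.mem_mk, Set.mem_compl_iff, SetLike.mem_coe, Ideal.mem_map_C_iff]
  push Not
  simp only [mem_maximalIdeal, mem_nonunits_iff, not_not]

instance : IsLocalHom (algebraMap R (NagataExt R)) := by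
  constructor
  intro a ha
  rw [IsScalarTower.algebraMap_apply R R[X] (NagataExt R), Polynomial.algebraMap_apply,
    Algebra.algebraMap_self, RingHom.id_apply, isUnit_algebraMap_nagata_iff] at ha
  obtain ⟨n, hn⟩ := ha
  rw [coeff_C] at hn
  split_ifs at hn
  · exact hn
  · exact absurd hn not_isUnit_zero

instance : Module.FaithfullyFlat R (NagataExt R) := Module.FaithfullyFlat.of_flat_of_isLocalHom

instance : Infinite (ResidueField (NagataExt R)) := by
  apply Infinite.of_injective
    (fun n : ℕ => residue (NagataExt R) (algebraMap R[X] (NagataExt R) (X ^ n)))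
  intro i j hij
  by_contra hne
  have hsub : residue (NagataExt R) (algebraMap R[X] (NagataExt R) (X ^ i - X ^ j)) = 0 := by
    rw [map_sub, map_sub, sub_eq_zero]; exact hij
  have hu : IsUnit (algebraMap R[X] (NagataExt R) (X ^ i - X ^ j)) := by
    rw [isUnit_algebraMap_nagata_iff]
    refine ⟨i, ?_⟩
    rw [coeff_sub, coeff_X_pow, coeff_X_pow, if_pos rfl, if_neg hne, sub_zero]
    exact isUnit_one
  exact (residue_ne_zero_iff_isUnit _).mpr hu hsub

end Groth.Agent.Helper7.Clf
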