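import Mathlib
import Groth.Agent.Helper7.ClfI
import Groth.Agent.Helper7.ClfJ

/-!
# Regular quadratic forms of even rank over a local ring: every isometry lifts to the Clifford group
-/

set_option autoImplicit false
universe u v
open QuadraticMap CliffordAlgebra
open scoped TensorProduct

namespace Groth.Agent.Helper7.Clf

variable {R : Type u} [CommRing R] {M : Type v} [AddCommGroup M] [Module R M]

/-- `g` is conjugation by a homogeneous unit of degree `k` (untwisted). -/
def HasConj (Q : QuadraticForm R M) (g : M ≃ₗ[R] M) (k : ZMod 2) : Prop :=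
  ∃ u : (CliffordAlgebra Q)ˣ, (u : CliffordAlgebra Q) ∈ evenOdd Q k ∧
    ∀ v, ι Q (g v) * u = (u : CliffordAlgebra Q) * ι Q v

theorem mul_δ_mem_evenOdd {Q : QuadraticForm R M} (Z : ZElt Q) (k : ZMod 2) (x : CliffordAlgebra Q)
    (hx : x ∈ evenOdd Q k) : x * Z.δ ∈ evenOdd Q k := by
  have := SetLike.mul_mem_graded hx Z.δ_mem
  rwa [add_zero] at this

/-- twisted and untwisted lifts are equivalent in the presence of `δ` -/
theorem hasConj_of_hasLift {Q : QuadraticForm R M} (Z : ZElt Q) (g : M ≃ₗ[R] M) (k : ZMod 2)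
    (h : HasLift Q g k) : HasConj Q g k := by
  obtain ⟨u, hu, hcu⟩ := h
  rcases zmod2_cases k with rfl | rfl
  · exact ⟨u, hu, fun v => by simpa using hcu v⟩
  · refine ⟨u * Z.δu, ?_, fun v => ?_⟩
    · rw [Units.val_mul, ZElt.δu_val]; exact mul_δ_mem_evenOdd Z 1 _ hu
    · rw [Units.val_mul, ZElt.δu_val, ← mul_assoc, hcu v, ZMod.val_one, pow_one, neg_smul, one_smul,
        neg_mul, mul_assoc, mul_assoc, Z.ι_mul_δ, mul_neg, neg_neg]

theorem hasLift_of_hasConj {Q : QuadraticForm R M} (Z : ZElt Q) (g : M ≃ₗ[R] M) (k : ZMod 2)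
    (h : HasConj Q g k) : HasLift Q g k := by
  obtain ⟨u, hu, hcu⟩ := h
  rcases zmod2_cases k with rfl | rfl
  · exact ⟨u, hu, fun v => by simpa using hcu v⟩
  · refine ⟨u * Z.δu, ?_, fun v => ?_⟩
    · rw [Units.val_mul, ZElt.δu_val]; exact mul_δ_mem_evenOdd Z 1 _ hu
    · rw [Units.val_mul, ZElt.δu_val, ← mul_assoc, hcu v, ZMod.val_one, pow_one, neg_smul, one_smul,
        mul_assoc, mul_assoc, Z.ι_mul_δ, mul_neg]

/-- The main theorem over a local ring. -/
theorem exists_hasConj [IsLocalRing R] [Module.Free R M] [Module.Finite R M] (m : ℕ)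
    (hM : Module.finrank R M = 2 * m) (Q : QuadraticForm R M)
    (hQ : Function.Bijective (polarBilin Q)) (g : M ≃ₗ[R] M) (hg : g ∈ QuadGrp.O Q) :
    ∃ k : ZMod 2, HasConj Q g k ∧ LinearEquiv.det g = (-1 : Rˣ) ^ k.val ∧
      (QuadGrp.IsDicksonTrivial Q g hg ↔ k = 0) := by
  -- pass to the Nagata extension
  let A := NagataExt R
  have hQA := regular_baseChangeForm A Q hQ
  have hMA : Module.finrank A (A ⊗[R] M) = 2 * m := by rw [Module.finrank_baseChange, hM]
  obtain ⟨κ, _, _, ⟨pbA⟩⟩ := exists_planeBasis_aux m (A ⊗[R] M) (QuadGrp.baseChangeForm A Q) hQA hMA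
  obtain ⟨ZA⟩ := nonempty_zElt_of_planeBasis _ pbA
  have hgA := baseChange_mem_O A Q g hg
  have href := mem_RefGrp_of_isometry _ pbA (LinearEquiv.baseChange R A M M g)
    ((QuadGrp.mem_O _ _).mp hgA)
  obtain ⟨k, hlift, hdet⟩ := hasLift_of_mem_RefGrp _ _ href
  obtain ⟨uA, huA, hcuA⟩ := hasConj_of_hasLift ZA _ k hlift
  -- descend
  obtain ⟨u, hu, hcu⟩ := exists_lift_descent A Q g uA k huA hcuA
    (fun x hx => exists_eq_algebraMap_of_comm _ hQA ZA x hx)
  obtain ⟨Z⟩ := nonempty_zElt Q hQ m hM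
  refine ⟨k, ⟨u, hu, hcu⟩, ?_, ?_⟩
  · rw [LinearEquiv.det_baseChange] at hdet
    apply Units.ext
    apply FaithfulSMul.algebraMap_injective R A
    have := congrArg Units.val hdet
    rw [Units.coe_map] at this
    rw [MonoidHom.coe_coe] at this
    rw [this]
    rcases zmod2_cases k with rfl | rfl <;> simp [ZMod.val_one]
  · constructor
    · intro hD
      by_contra hk
      have hk1 : k = 1 := (zmod2_cases k).resolve_left hk
      subst hk1
      exact not_isDicksonTrivial_of_hasLift_one Z g hg (hasLift_of_hasConj Z g 1 ⟨u, hu, hcu⟩) hD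
    · rintro rfl
      exact isDicksonTrivial_of_hasLift_zero g hg (hasLift_of_hasConj Z g 0 ⟨u, hu, hcu⟩)

end Groth.Agent.Helper7.Clf
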