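import Mathlib
import Groth.Agent.Helper7.ClfK

/-!
# Points of the Clifford group lifting isometries (local base)
-/

set_option autoImplicit false
universe u v
open QuadraticMap CliffordAlgebra
open scoped TensorProduct Pointwise

namespace Groth.Agent.Helper7.Clf

variable {R : Type u} [CommRing R] {M : Type v} [AddCommGroup M] [Module R M]

theorem mem_GPin'_of_conj (Q : QuadraticForm R M) (u : (CliffordAlgebra Q)ˣ) (g : M ≃ₗ[R] M)
    (h : ∀ v, (u : CliffordAlgebra Q) * ι Q v * ↑u⁻¹ = ι Q (g v)) : u ∈ QuadGrp.GPin' Q := by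
  rw [QuadGrp.mem_GPin']
  ext x
  rw [Submodule.mem_smul_pointwise_iff_exists]
  constructor
  · rintro ⟨y, ⟨v, rfl⟩, rfl⟩
    rw [ConjAct.units_smul_def, ConjAct.ofConjAct_toConjAct, h]
    exact ⟨g v, rfl⟩
  · rintro ⟨v, rfl⟩
    refine ⟨ι Q (g.symm v), ⟨_, rfl⟩, ?_⟩
    rw [ConjAct.units_smul_def, ConjAct.ofConjAct_toConjAct, h, LinearEquiv.apply_symm_apply]

theorem conj_of_intertwine (Q : QuadraticForm R M) (u : (CliffordAlgebra Q)ˣ) (g : M ≃ₗ[R] M)
    (h : ∀ v, ι Q (g v) * u = (u : CliffordAlgebra Q) * ι Q v) (v : M) :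
    (u : CliffordAlgebra Q) * ι Q v * ↑u⁻¹ = ι Q (g v) := by
  rw [← h v, mul_assoc, Units.mul_inv, mul_one]

theorem mem_LH_of_mem_evenOdd (Q : QuadraticForm R M) (u : (CliffordAlgebra Q)ˣ) (k : ZMod 2)
    (hu : (u : CliffordAlgebra Q) ∈ evenOdd Q k) : u ∈ QuadGrp.LH Q := by
  rw [QuadGrp.mem_LH]
  rcases zmod2_cases k with rfl | rfl
  · exact ⟨1, IsIdempotentElem.one, by rwa [one_smul], by
      rw [sub_self, zero_smul]; exact Submodule.zero_mem _⟩
  · exact ⟨0, IsIdempotentElem.zero, by rw [zero_smul]; exact Submodule.zero_mem _, by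
      rwa [sub_zero, one_smul]⟩

end Groth.Agent.Helper7.Clf
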