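import Mathlib
import Groth.Agent.Helper7.ClfL

/-!
# The Dickson subgroup has index two (local base)
-/

set_option autoImplicit false
universe u v
open QuadraticMap CliffordAlgebra
open scoped TensorProduct Pointwise

namespace Groth.Agent.Helper7.Clf

variable {R : Type u} [CommRing R] {M : Type v} [AddCommGroup M] [Module R M]

theorem hasLift_refl (Q : QuadraticForm R M) (x : M) (hx : IsUnit (Q x)) :
    HasLift Q (refl Q x hx) 1 := by
  refine ⟨ιUnit Q x hx, ι_mem_evenOdd_one Q x, fun v => ?_⟩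
  rw [ιUnit_val, ι_refl_mul_ι, ZMod.val_one, pow_one, neg_smul, one_smul]

theorem refl_mem_O (Q : QuadraticForm R M) (x : M) (hx : IsUnit (Q x)) :
    refl Q x hx ∈ QuadGrp.O Q := fun v => Q_refl Q x hx v

theorem HasConj.mul {Q : QuadraticForm R M} {g h : M ≃ₗ[R] M} {k l : ZMod 2}
    (hg : HasConj Q g k) (hh : HasConj Q h l) : HasConj Q (g * h) (k + l) := by
  obtain ⟨u, hu, hcu⟩ := hg
  obtain ⟨u', hu', hcu'⟩ := hh
  refine ⟨u * u', ?_, fun v => ?_⟩
  · rw [Units.val_mul]; exact SetLike.mul_mem_graded hu hu'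
  · rw [Units.val_mul, LinearEquiv.mul_apply, ← mul_assoc, hcu, mul_assoc, hcu', mul_assoc]

theorem isDicksonTrivial_iff_of_hasConj [Nontrivial R] [Module.Free R M] {Q : QuadraticForm R M}
    (Z : ZElt Q) (g : M ≃ₗ[R] M) (hg : g ∈ QuadGrp.O Q) (k : ZMod 2) (h : HasConj Q g k) :
    QuadGrp.IsDicksonTrivial Q g hg ↔ k = 0 := by
  constructor
  · intro hD
    by_contra hk
    have hk1 : k = 1 := (zmod2_cases k).resolve_left hk
    subst hk1
    exact not_isDicksonTrivial_of_hasLift_one Z g hg (hasLift_of_hasConj Z g 1 h) hD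
  · rintro rfl
    exact isDicksonTrivial_of_hasLift_zero g hg (hasLift_of_hasConj Z g 0 h)

theorem index_SOeven [IsLocalRing R] [Module.Free R M] [Module.Finite R M] (m : ℕ) (hm : 1 ≤ m)
    (hM : Module.finrank R M = 2 * m) (Q : QuadraticForm R M)
    (hQ : Function.Bijective (polarBilin Q)) :
    ((QuadGrp.SOeven Q).subgroupOf (QuadGrp.O Q)).index = 2 := by
  haveI : Nontrivial M := Module.nontrivial_of_finrank_pos (R := R) (by omega)
  obtain ⟨x, hx⟩ := exists_isUnit_apply Q hQ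
  obtain ⟨Z⟩ := nonempty_zElt Q hQ m hM
  have hr : HasConj Q (refl Q x hx) 1 := hasConj_of_hasLift Z _ 1 (hasLift_refl Q x hx)
  rw [Subgroup.index_eq_two_iff]
  refine ⟨⟨refl Q x hx, refl_mem_O Q x hx⟩, fun b => ?_⟩
  obtain ⟨b, hb⟩ := b
  obtain ⟨k, hk, -, -⟩ := exists_hasConj m hM Q hQ b hb
  have hbr : HasConj Q (b * refl Q x hx) (k + 1) := hk.mul hr
  have h1 : (⟨b, hb⟩ : QuadGrp.O Q) ∈ (QuadGrp.SOeven Q).subgroupOf (QuadGrp.O Q) ↔ k = 0 := by
    rw [Subgroup.mem_subgroupOf]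
    constructor
    · rintro ⟨hb', hD⟩
      exact (isDicksonTrivial_iff_of_hasConj Z b hb' k hk).mp hD
    · intro h0
      exact ⟨hb, (isDicksonTrivial_iff_of_hasConj Z b hb k hk).mpr h0⟩
  have h2 : (⟨b, hb⟩ * ⟨refl Q x hx, refl_mem_O Q x hx⟩ : QuadGrp.O Q) ∈
      (QuadGrp.SOeven Q).subgroupOf (QuadGrp.O Q) ↔ k + 1 = 0 := by
    rw [Subgroup.mem_subgroupOf]
    have hmem : b * refl Q x hx ∈ QuadGrp.O Q := (QuadGrp.O Q).mul_mem hb (refl_mem_O Q x hx)
    constructor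
    · rintro ⟨hb', hD⟩
      exact (isDicksonTrivial_iff_of_hasConj Z _ hb' (k + 1) hbr).mp hD
    · intro h0
      exact ⟨hmem, (isDicksonTrivial_iff_of_hasConj Z _ hmem (k + 1) hbr).mpr h0⟩
  rw [h1, h2]
  rcases zmod2_cases k with rfl | rfl
  · exact Or.inr ⟨rfl, by decide⟩
  · exact Or.inl ⟨rfl, by decide⟩

end Groth.Agent.Helper7.Clf
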