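import Mathlib
import Groth.Agent.Helper7.ClfM

/-!
# The Dickson condition and flat base change
-/

set_option autoImplicit false
universe u v w
open QuadraticMap CliffordAlgebra
open scoped TensorProduct

namespace Groth.Agent.Helper7.Clf

section General

variable {R : Type u} [CommRing R] {M : Type v} [AddCommGroup M] [Module R M]
variable (Q : QuadraticForm R M)

/-- the set of even elements commuting with all even elements -/
def EvenCentral (x : CliffordAlgebra Q) : Prop :=
  x ∈ evenOdd Q 0 ∧ ∀ y ∈ evenOdd Q 0, y * x = x * y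

/-- concrete form of the Dickson condition -/
theorem isDicksonTrivial_iff (g : M ≃ₗ[R] M) (hg : g ∈ QuadGrp.O Q) :
    QuadGrp.IsDicksonTrivial Q g hg ↔ ∀ x, EvenCentral Q x → cmap g hg x = x := by
  constructor
  · intro hD x hx
    have hc : (⟨x, (mem_even_iff Q _).mpr hx.1⟩ : CliffordAlgebra.even Q) ∈
        Subalgebra.center R (CliffordAlgebra.even Q) := by
      rw [Subalgebra.mem_center_iff]
      intro y
      apply Subtype.ext
      exact hx.2 y ((mem_even_iff Q _).mp y.2)
    exact hD _ hc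
  · intro h z hz
    refine h z ⟨(mem_even_iff Q _).mp z.2, fun y hy => ?_⟩
    have := Subalgebra.mem_center_iff.mp hz ⟨y, (mem_even_iff Q _).mpr hy⟩
    exact congrArg Subtype.val this

theorem comm_even_of_comm_ιι (x : CliffordAlgebra Q)
    (h : ∀ v w, ι Q v * ι Q w * x = x * (ι Q v * ι Q w)) :
    ∀ y ∈ evenOdd Q 0, y * x = x * y := by
  intro y hy
  induction y, hy using even_induction with
  | algebraMap r => exact Algebra.commutes r x
  | add a b _ _ ha hb => rw [add_mul, mul_add, ha, hb]
  | ι_mul_ι_mul m₁ m₂ a _ ih =>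
    rw [mul_assoc, ih, ← mul_assoc, h, mul_assoc]

theorem comm_even_of_comm_basis {κ : Type*} (b : Module.Basis κ R M) (x : CliffordAlgebra Q)
    (h : ∀ i j, ι Q (b i) * ι Q (b j) * x = x * (ι Q (b i) * ι Q (b j))) :
    ∀ y ∈ evenOdd Q 0, y * x = x * y := by
  apply comm_even_of_comm_ιι
  let B0 : M →ₗ[R] M →ₗ[R] CliffordAlgebra Q :=
    (LinearMap.mul R (CliffordAlgebra Q)).compl₁₂ (ι Q) (ι Q)
  let B1 : M →ₗ[R] M →ₗ[R] CliffordAlgebra Q := B0.compr₂ (LinearMap.mulRight R x)
  let B2 : M →ₗ[R] M →ₗ[R] CliffordAlgebra Q := B0.compr₂ (LinearMap.mulLeft R x)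
  have hB : B1 = B2 := by
    apply LinearMap.ext_basis b b
    intro i j
    exact h i j
  intro v w
  have := LinearMap.congr_fun (LinearMap.congr_fun hB v) w
  exact this

/-- even and odd parts of an element commuting with all even elements also do -/
theorem evenCentral_of_comm (x0 x1 : CliffordAlgebra Q) (h0 : x0 ∈ evenOdd Q 0)
    (h1 : x1 ∈ evenOdd Q 1) (h : ∀ y ∈ evenOdd Q 0, y * (x0 + x1) = (x0 + x1) * y) :
    EvenCentral Q x0 := by
  refine ⟨h0, fun y hy => ?_⟩
  have e := h y hy
  have a0 : y * x0 - x0 * y ∈ evenOdd Q 0 := by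
    refine Submodule.sub_mem _ ?_ ?_
    · simpa using SetLike.mul_mem_graded hy h0
    · simpa using SetLike.mul_mem_graded h0 hy
  have a1 : y * x1 - x1 * y ∈ evenOdd Q 1 := by
    refine Submodule.sub_mem _ ?_ ?_
    · simpa using SetLike.mul_mem_graded hy h1
    · simpa using SetLike.mul_mem_graded h1 hy
  have hs : (y * x0 - x0 * y) + (y * x1 - x1 * y) = 0 := by
    rw [mul_add, add_mul] at e
    rw [sub_add_sub_comm, e, sub_self]
  exact sub_eq_zero.mp (eq_zero_of_add_eq_zero Q _ _ a0 a1 hs).1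

end General

section BC

variable {R : Type u} [CommRing R] {M : Type v} [AddCommGroup M] [Module R M] [Module.Free R M]
variable (A : Type w) [CommRing A] [Algebra R A] (Q : QuadraticForm R M)

/-- every element of `C(Q_A)` is an even part in the span of images of even elements plus an odd
part -/
theorem exists_even_span_add_odd (S : Set (CliffordAlgebra Q)) (S0 : Set (CliffordAlgebra Q))
    (hS : ∀ x ∈ S, ∃ x0 ∈ S0, ∃ x1 ∈ evenOdd Q 1, x = x0 + x1)
    (y : CliffordAlgebra (QuadGrp.baseChangeForm A Q))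
    (hy : y ∈ Submodule.span A (ofBC A Q '' S)) :
    ∃ y0 ∈ Submodule.span A (ofBC A Q '' S0), ∃ y1 ∈ evenOdd (QuadGrp.baseChangeForm A Q) 1,
      y = y0 + y1 := by
  induction hy using Submodule.span_induction with
  | mem y hy =>
    obtain ⟨x, hx, rfl⟩ := hy
    obtain ⟨x0, hx0, x1, hx1, rfl⟩ := hS x hx
    exact ⟨ofBC A Q x0, Submodule.subset_span ⟨x0, hx0, rfl⟩, ofBC A Q x1,
      ofBC_mem_odd A Q x1 hx1, map_add _ _ _⟩
  | zero => exact ⟨0, Submodule.zero_mem _, 0, Submodule.zero_mem _, (add_zero 0).symm⟩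
  | add a b _ _ ha hb =>
    obtain ⟨a0, ha0, a1, ha1, rfl⟩ := ha
    obtain ⟨b0, hb0, b1, hb1, rfl⟩ := hb
    exact ⟨a0 + b0, Submodule.add_mem _ ha0 hb0, a1 + b1, Submodule.add_mem _ ha1 hb1, by abel⟩
  | smul c a _ ha =>
    obtain ⟨a0, ha0, a1, ha1, rfl⟩ := ha
    exact ⟨c • a0, Submodule.smul_mem _ _ ha0, c • a1, Submodule.smul_mem _ _ ha1, smul_add _ _ _⟩

theorem span_ofBC_even_le (S0 : Set (CliffordAlgebra Q)) (hS0 : ∀ x ∈ S0, x ∈ evenOdd Q 0) :
    Submodule.span A (ofBC A Q '' S0) ≤ evenOdd (QuadGrp.baseChangeForm A Q) 0 := by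
  rw [Submodule.span_le]
  rintro _ ⟨x, hx, rfl⟩
  exact ofBC_mem_even A Q x (hS0 x hx)

/-- even elements of `C(Q_A)` are combinations of images of even elements -/
theorem mem_span_ofBC_even (y : CliffordAlgebra (QuadGrp.baseChangeForm A Q))
    (hy : y ∈ evenOdd (QuadGrp.baseChangeForm A Q) 0) :
    y ∈ Submodule.span A (ofBC A Q '' {x | x ∈ evenOdd Q 0}) := by
  have h1 : y ∈ Submodule.span A (ofBC A Q '' Set.univ) := by
    rw [Set.image_univ, span_range_ofBC]; exact Submodule.mem_top
  obtain ⟨y0, hy0, y1, hy1, rfl⟩ := exists_even_span_add_odd A Q Set.univ {x | x ∈ evenOdd Q 0}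
    (fun x _ => exists_even_odd Q x) y h1
  have hy0e := span_ofBC_even_le A Q _ (fun x hx => hx) hy0
  have : y1 = 0 := by
    apply eq_zero_of_mem_even_of_mem_odd _ y1 _ hy1
    have := Submodule.sub_mem _ hy hy0e
    rwa [add_sub_cancel_left] at this
  rw [this, add_zero]
  exact hy0

/-- the image of an even central element is even central -/
theorem evenCentral_ofBC (x : CliffordAlgebra Q) (hx : EvenCentral Q x) :
    EvenCentral (QuadGrp.baseChangeForm A Q) (ofBC A Q x) := by
  refine ⟨ofBC_mem_even A Q x hx.1, fun y hy => ?_⟩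
  have := mem_span_ofBC_even A Q y hy
  clear hy
  induction this using Submodule.span_induction with
  | mem y hy' =>
    obtain ⟨x', hx', rfl⟩ := hy'
    rw [← map_mul, ← map_mul, hx.2 x' hx']
  | zero => rw [zero_mul, mul_zero]
  | add a b _ _ ha hb => rw [add_mul, mul_add, ha, hb]
  | smul c a _ ha => rw [smul_mul_assoc, mul_smul_comm, ha]

/-- flat base change of the centre of the even Clifford algebra -/
theorem mem_span_evenCentral [Module.Flat R A] [Module.Finite R M]
    (w : CliffordAlgebra (QuadGrp.baseChangeForm A Q))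
    (hw : EvenCentral (QuadGrp.baseChangeForm A Q) w) :
    w ∈ Submodule.span A (ofBC A Q '' {x | EvenCentral Q x}) := by
  classical
  let b := Module.Free.chooseBasis R M
  let κ := Module.Free.ChooseBasisIndex R M
  let e : κ × κ → CliffordAlgebra Q := fun p => ι Q (b p.1) * ι Q (b p.2)
  let ψ : κ × κ → CliffordAlgebra Q →ₗ[R] CliffordAlgebra Q :=
    fun p => LinearMap.mulLeft R (e p) - LinearMap.mulRight R (e p)
  let w' := (tensorEquiv A Q).symm w
  have hw' : tensorEquiv A Q w' = w := (tensorEquiv A Q).apply_symm_apply w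
  have hψ : ∀ p, (ψ p).lTensor A w' = 0 := by
    intro p
    apply (tensorEquiv A Q).injective
    rw [map_zero, LinearMap.lTensor_sub, LinearMap.sub_apply, map_sub,
      tensorEquiv_lTensor_mulLeft, tensorEquiv_lTensor_mulRight, hw', sub_eq_zero]
    apply hw.2
    apply ofBC_mem_even
    exact ι_mul_ι_mem_evenOdd_zero Q _ _
  obtain ⟨t, ht⟩ := mem_range_lTensor_of_forall A ψ w' hψ
  -- first: `w` is in the span of images of elements of the kernel
  have h1 : w ∈ Submodule.span A (ofBC A Q '' {x | x ∈ LinearMap.ker (LinearMap.pi ψ)}) := by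
    rw [← hw', ← ht]
    clear ht hψ hw'
    induction t using TensorProduct.induction_on with
    | zero => rw [map_zero, map_zero]; exact Submodule.zero_mem _
    | tmul a x =>
      rw [LinearMap.lTensor_tmul, tensorEquiv_tmul]
      exact Submodule.smul_mem _ _ (Submodule.subset_span ⟨x.1, x.2, rfl⟩)
    | add y z hy hz => rw [map_add, map_add]; exact Submodule.add_mem _ hy hz
  obtain ⟨y0, hy0, y1, hy1, hwy⟩ := exists_even_span_add_odd A Q
    {x | x ∈ LinearMap.ker (LinearMap.pi ψ)} {x | EvenCentral Q x} (fun x hx => by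
      obtain ⟨x0, h0, x1, h1', rfl⟩ := exists_even_odd Q x
      refine ⟨x0, ?_, x1, h1', rfl⟩
      apply evenCentral_of_comm Q x0 x1 h0 h1'
      apply comm_even_of_comm_basis Q b
      intro i j
      have hx' : LinearMap.pi ψ (x0 + x1) = 0 := hx
      have := congrFun hx' (i, j)
      simp only [LinearMap.pi_apply, ψ, LinearMap.sub_apply, LinearMap.mulLeft_apply,
        LinearMap.mulRight_apply, Pi.zero_apply] at this
      exact sub_eq_zero.mp this) w h1
  have hy0e := span_ofBC_even_le A Q _ (fun x (hx : EvenCentral Q x) => hx.1) hy0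
  have : y1 = 0 := by
    apply eq_zero_of_mem_even_of_mem_odd _ y1 _ hy1
    have := Submodule.sub_mem _ hw.1 hy0e
    rwa [hwy, add_sub_cancel_left] at this
  rw [hwy, this, add_zero]
  exact hy0

/-- The Dickson condition passes to flat base change. -/
theorem isDicksonTrivial_baseChange [Module.Flat R A] [Module.Finite R M]
    (g : M ≃ₗ[R] M) (hg : g ∈ QuadGrp.O Q) (hD : QuadGrp.IsDicksonTrivial Q g hg) :
    QuadGrp.IsDicksonTrivial (QuadGrp.baseChangeForm A Q) (LinearEquiv.baseChange R A M M g)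
      (baseChange_mem_O A Q g hg) := by
  rw [isDicksonTrivial_iff] at hD ⊢
  intro w hw
  have := mem_span_evenCentral A Q w hw
  clear hw
  induction this using Submodule.span_induction with
  | mem y hy =>
    obtain ⟨x, hx, rfl⟩ := hy
    rw [cmap_baseChange_ofBC A Q g hg, hD x hx]
  | zero => rw [map_zero]
  | add a b _ _ ha hb => rw [map_add, ha, hb]
  | smul c a _ ha => rw [map_smul, ha]

end BC

end Groth.Agent.Helper7.Clf
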