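import Mathlib
import Groth.Agent.Helper7.ClfN

/-!
# The Dickson condition versus the determinant (global base)
-/

set_option autoImplicit false
universe u v w
open QuadraticMap CliffordAlgebra
open scoped TensorProduct

namespace Groth.Agent.Helper7.Clf

variable {R : Type u} [CommRing R] {M : Type v} [AddCommGroup M] [Module R M] [Module.Free R M]
variable (Q : QuadraticForm R M)

/-- an element of the Clifford algebra vanishing in all localisations at maximal ideals is zero -/
theorem eq_zero_of_forall_ofBC (x : CliffordAlgebra Q)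
    (h : ∀ (P : Ideal R) [P.IsMaximal], ofBC (Localization.AtPrime P) Q x = 0) : x = 0 := by
  apply Module.eq_zero_of_localization_maximal
    (fun (P : Ideal R) [P.IsMaximal] => Localization.AtPrime P ⊗[R] CliffordAlgebra Q)
    (fun (P : Ideal R) [P.IsMaximal] =>
      TensorProduct.mk R (Localization.AtPrime P) (CliffordAlgebra Q) 1)
  intro P _
  apply (tensorEquiv (Localization.AtPrime P) Q).injective
  rw [map_zero, TensorProduct.mk_apply, ← ofBC_eq_tensorEquiv]
  exact h P

/-- local analysis at a prime -/
theorem exists_local_parity [Module.Finite R M] (m : ℕ) (hM : Module.finrank R M = 2 * m)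
    (hQ : Function.Bijective (polarBilin Q)) (g : M ≃ₗ[R] M) (hg : g ∈ QuadGrp.O Q)
    (A : Type w) [CommRing A] [Algebra R A] [IsLocalRing A] :
    ∃ k : ZMod 2, HasConj (QuadGrp.baseChangeForm A Q) (LinearEquiv.baseChange R A M M g) k ∧
      algebraMap R A ((LinearEquiv.det g : Rˣ) : R) = (-1) ^ k.val ∧
      (QuadGrp.IsDicksonTrivial (QuadGrp.baseChangeForm A Q) (LinearEquiv.baseChange R A M M g)
        (baseChange_mem_O A Q g hg) ↔ k = 0) := by
  haveI : Nontrivial R := (algebraMap R A).domain_nontrivial
  have hMA : Module.finrank A (A ⊗[R] M) = 2 * m := by rw [Module.finrank_baseChange, hM]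
  obtain ⟨k, hk, hdet, hD⟩ := exists_hasConj m hMA (QuadGrp.baseChangeForm A Q)
    (regular_baseChangeForm A Q hQ) (LinearEquiv.baseChange R A M M g) (baseChange_mem_O A Q g hg)
  refine ⟨k, hk, ?_, hD⟩
  rw [LinearEquiv.det_baseChange] at hdet
  have := congrArg Units.val hdet
  rw [Units.coe_map, MonoidHom.coe_coe] at this
  rw [this]
  rcases zmod2_cases k with rfl | rfl <;> simp [ZMod.val_one]

/-- Dickson-trivial isometries have determinant one. -/
theorem det_eq_one_of_isDicksonTrivial [Module.Finite R M] (m : ℕ)
    (hM : Module.finrank R M = 2 * m)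
    (hQ : Function.Bijective (polarBilin Q)) (g : M ≃ₗ[R] M) (hg : g ∈ QuadGrp.O Q)
    (hD : QuadGrp.IsDicksonTrivial Q g hg) : LinearEquiv.det g = 1 := by
  apply Units.ext
  rw [Units.val_one, ← sub_eq_zero]
  apply eq_zero_of_localization
  intro P hP
  obtain ⟨k, -, hdet, hk⟩ := exists_local_parity Q m hM hQ g hg (Localization.AtPrime P)
  have hk0 := hk.mp (isDicksonTrivial_baseChange (Localization.AtPrime P) Q g hg hD)
  subst hk0
  rw [map_sub, hdet, map_one, ZMod.val_zero, pow_zero, sub_self]

/-- The Dickson condition can be checked at all maximal ideals. -/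
theorem isDicksonTrivial_of_forall_local (g : M ≃ₗ[R] M) (hg : g ∈ QuadGrp.O Q)
    (h : ∀ (P : Ideal R) [P.IsMaximal],
      QuadGrp.IsDicksonTrivial (QuadGrp.baseChangeForm (Localization.AtPrime P) Q)
        (LinearEquiv.baseChange R (Localization.AtPrime P) M M g)
        (baseChange_mem_O (Localization.AtPrime P) Q g hg)) :
    QuadGrp.IsDicksonTrivial Q g hg := by
  rw [isDicksonTrivial_iff]
  intro x hx
  rw [← sub_eq_zero]
  apply eq_zero_of_forall_ofBC
  intro P _
  rw [map_sub, ← cmap_baseChange_ofBC (Localization.AtPrime P) Q g hg, sub_eq_zero]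
  exact (isDicksonTrivial_iff _ _ _).mp (h P) _ (evenCentral_ofBC (Localization.AtPrime P) Q x hx)

/-- If `2` is invertible, determinant one implies the Dickson condition. -/
theorem isDicksonTrivial_of_det_eq_one [Invertible (2 : R)] [Module.Finite R M] (m : ℕ)
    (hM : Module.finrank R M = 2 * m)
    (hQ : Function.Bijective (polarBilin Q)) (g : M ≃ₗ[R] M) (hg : g ∈ QuadGrp.O Q)
    (hdet : LinearEquiv.det g = 1) : QuadGrp.IsDicksonTrivial Q g hg := by
  apply isDicksonTrivial_of_forall_local
  intro P _
  obtain ⟨k, -, hd, hk⟩ := exists_local_parity Q m hM hQ g hg (Localization.AtPrime P)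
  rw [hk]
  rcases zmod2_cases k with rfl | rfl
  · rfl
  · exfalso
    rw [hdet, Units.val_one, map_one, ZMod.val_one, pow_one] at hd
    have h2 : (2 : Localization.AtPrime P) = 0 := by
      linear_combination hd
    have hu : IsUnit (algebraMap R (Localization.AtPrime P) 2) :=
      (isUnit_of_invertible (2 : R)).map _
    rw [map_ofNat, h2] at hu
    exact not_isUnit_zero hu

end Groth.Agent.Helper7.Clf
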