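import Mathlib
import Groth.Agent.Helper7.ClfO

/-!
# Spreading out homogeneous lifts of an isometry from a localisation
-/

set_option autoImplicit false
universe u v w w'
open QuadraticMap CliffordAlgebra
open scoped TensorProduct

namespace Groth.Agent.Helper7.Clf

variable {R : Type u} [CommRing R] {M : Type v} [AddCommGroup M] [Module R M] [Module.Free R M]
variable (Q : QuadraticForm R M)

/-- a linear retraction of the structure map of the Clifford algebra (free modules) -/
theorem exists_retraction :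
    ∃ π : CliffordAlgebra Q →ₗ[R] R, ∀ r, π (algebraMap R _ r) = r := by
  obtain ⟨B, hB⟩ := LinearMap.BilinMap.toQuadraticMap_surjective (-Q)
  have h : B.toQuadraticMap = 0 - Q := by rw [hB, zero_sub]
  refine ⟨(ExteriorAlgebra.algebraMapInv (R := R) (M := M)).toLinearMap ∘ₗ changeForm h,
    fun r => ?_⟩
  rw [LinearMap.comp_apply, changeForm_algebraMap]
  exact ExteriorAlgebra.algebraMap_leftInverse M r

theorem ι_injective_of_free : Function.Injective (ι Q) := by
  obtain ⟨B, hB⟩ := LinearMap.BilinMap.toQuadraticMap_surjective (-Q)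
  have h : B.toQuadraticMap = 0 - Q := by rw [hB, zero_sub]
  intro v w hvw
  have := congrArg (changeForm h) hvw
  rw [changeForm_ι, changeForm_ι] at this
  exact ExteriorAlgebra.ι_leftInverse.injective this

section Loc

variable (S : Submonoid R) (A : Type w) [CommRing A] [Algebra R A] [IsLocalization S A]

theorem ofBC_eq_zero_iff (x : CliffordAlgebra Q) : ofBC A Q x = 0 ↔ ∃ s : S, (s : R) • x = 0 := by
  rw [ofBC_eq_tensorEquiv, EmbeddingLike.map_eq_zero_iff]
  exact IsLocalizedModule.eq_zero_iff S (TensorProduct.mk R A (CliffordAlgebra Q) 1)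

theorem exists_smul_eq_ofBC (y : CliffordAlgebra (QuadGrp.baseChangeForm A Q)) :
    ∃ (s : S) (x : CliffordAlgebra Q), (algebraMap R A s) • y = ofBC A Q x := by
  obtain ⟨⟨x, s⟩, e⟩ := IsLocalizedModule.surj S (TensorProduct.mk R A (CliffordAlgebra Q) 1)
    ((tensorEquiv A Q).symm y)
  refine ⟨s, x, ?_⟩
  have e' : (algebraMap R A s) • ((tensorEquiv A Q).symm y) = 1 ⊗ₜ x := by
    rw [algebraMap_smul]; exact e
  have := congrArg (tensorEquiv A Q) e'
  rwa [map_smul, AlgEquiv.apply_symm_apply, ← ofBC_eq_tensorEquiv] at this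

end Loc

section Kill

variable (B : Type w') [CommRing B] [Algebra R B]

theorem ofBC_smul (r : R) (n : CliffordAlgebra Q) :
    ofBC B Q (r • n) = (algebraMap R B r) • ofBC B Q n := by
  rw [map_smul, algebraMap_smul]

theorem ofBC_eq_zero_of_smul (r : R) (hr : IsUnit (algebraMap R B r)) (n : CliffordAlgebra Q)
    (h : r • n = 0) : ofBC B Q n = 0 := by
  have := congrArg (ofBC B Q) h
  rw [ofBC_smul, map_zero] at this
  exact (hr.smul_eq_zero).mp this

theorem ofBC_algebraMap (r : R) :
    ofBC B Q (algebraMap R _ r) = algebraMap B _ (algebraMap R B r) := by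
  rw [AlgHom.commutes, ← IsScalarTower.algebraMap_apply]

/-- Data over `R` giving a homogeneous lift after base change to `B`. -/
theorem hasConj_of_data [Module.Finite R M] (g : M ≃ₗ[R] M) (ε : ZMod 2) (x y : CliffordAlgebra Q)
    (c : R) (hc : IsUnit (algebraMap R B c))
    (hxy : ofBC B Q (x * y - algebraMap R _ c) = 0)
    (hyx : ofBC B Q (y * x - algebraMap R _ c) = 0)
    (hε : ofBC B Q x ∈ evenOdd (QuadGrp.baseChangeForm B Q) ε)
    (hint : ∀ i, ofBC B Q (ι Q (g (Module.Free.chooseBasis R M i)) * x -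
      x * ι Q (Module.Free.chooseBasis R M i)) = 0) :
    HasConj (QuadGrp.baseChangeForm B Q) (LinearEquiv.baseChange R B M M g) ε := by
  obtain ⟨cu, hcu⟩ := hc
  rw [map_sub, map_mul, ofBC_algebraMap, sub_eq_zero, ← hcu] at hxy hyx
  have hunit : IsUnit (ofBC B Q x) := by
    refine ⟨⟨ofBC B Q x, (↑cu⁻¹ : B) • ofBC B Q y, ?_, ?_⟩, rfl⟩
    · rw [mul_smul_comm, hxy, Algebra.smul_def, ← map_mul, Units.inv_mul, map_one]
    · rw [smul_mul_assoc, hyx, Algebra.smul_def, ← map_mul, Units.inv_mul, map_one]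
  obtain ⟨U, hU⟩ := hunit
  refine ⟨U, by rw [hU]; exact hε, ?_⟩
  rw [hU]
  -- the intertwining relation on `1 ⊗ v`
  have h1 : ∀ v : M, ofBC B Q (ι Q (g v) * x - x * ι Q v) = 0 := by
    let L : M →ₗ[R] CliffordAlgebra (QuadGrp.baseChangeForm B Q) :=
      (ofBC B Q).toLinearMap ∘ₗ ((LinearMap.mulRight R x) ∘ₗ (ι Q) ∘ₗ g.toLinearMap -
        (LinearMap.mulLeft R x) ∘ₗ (ι Q))
    have hL : L = 0 := by
      apply (Module.Free.chooseBasis R M).ext
      intro i
      exact hint i
    intro v
    exact LinearMap.congr_fun hL v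
  intro w
  induction w using TensorProduct.induction_on with
  | zero => simp
  | tmul a v =>
    have h2 := h1 v
    rw [map_sub, map_mul, map_mul, ofBC_ι, ofBC_ι, sub_eq_zero] at h2
    have e1 : a ⊗ₜ[R] v = a • ((1 : B) ⊗ₜ[R] v) := by
      rw [TensorProduct.smul_tmul', smul_eq_mul, mul_one]
    have e2 : LinearEquiv.baseChange R B M M g (a ⊗ₜ[R] v) = a • ((1 : B) ⊗ₜ[R] g v) := by
      rw [baseChange_tmul', TensorProduct.smul_tmul', smul_eq_mul, mul_one]
    rw [e2, e1, map_smul, map_smul, smul_mul_assoc, mul_smul_comm, h2]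
  | add a b ha hb => rw [map_add, map_add, add_mul, ha, hb, map_add, mul_add]

end Kill

end Groth.Agent.Helper7.Clf
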