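import Mathlib
import Groth.Agent.Helper7.ClfP

/-!
# Spreading out homogeneous lifts of an isometry from a localisation, II
-/

set_option autoImplicit false
universe u v w w'
open QuadraticMap CliffordAlgebra
open scoped TensorProduct

namespace Groth.Agent.Helper7.Clf

variable {R : Type u} [CommRing R] {M : Type v} [AddCommGroup M] [Module R M] [Module.Free R M]
variable (Q : QuadraticForm R M)

theorem exists_parts (ε : ZMod 2) (x : CliffordAlgebra Q) :
    ∃ xa ∈ evenOdd Q ε, ∃ xb ∈ evenOdd Q (ε + 1), x = xa + xb := by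
  obtain ⟨x0, h0, x1, h1, rfl⟩ := exists_even_odd Q x
  rcases zmod2_cases ε with rfl | rfl
  · exact ⟨x0, h0, x1, by simpa using h1, rfl⟩
  · exact ⟨x1, h1, x0, by rw [show (1 : ZMod 2) + 1 = 0 from rfl]; exact h0, add_comm _ _⟩

theorem eq_zero_of_mem_of_mem_succ (ε : ZMod 2) (x : CliffordAlgebra Q) (h : x ∈ evenOdd Q ε)
    (h' : x ∈ evenOdd Q (ε + 1)) : x = 0 := by
  rcases zmod2_cases ε with rfl | rfl
  · exact eq_zero_of_mem_even_of_mem_odd Q x h (by simpa using h')
  · rw [show (1 : ZMod 2) + 1 = 0 from rfl] at h'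
    exact eq_zero_of_mem_even_of_mem_odd Q x h' h

/-- Spreading out: a homogeneous lift over a localisation of `R` exists over every `R`-algebra in
which some fixed element of the multiplicative set becomes invertible. -/
theorem exists_spread [Module.Finite R M] (S : Submonoid R) (A : Type w) [CommRing A] [Algebra R A]
    [IsLocalization S A] (g : M ≃ₗ[R] M) (ε : ZMod 2)
    (h : HasConj (QuadGrp.baseChangeForm A Q) (LinearEquiv.baseChange R A M M g) ε) :
    ∃ f ∈ S, ∀ (B : Type w') [CommRing B] [Algebra R B], IsUnit (algebraMap R B f) →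
      HasConj (QuadGrp.baseChangeForm B Q) (LinearEquiv.baseChange R B M M g) ε := by
  classical
  obtain ⟨uA, hu, hcu⟩ := h
  obtain ⟨s, x, hx⟩ := exists_smul_eq_ofBC Q S A (uA : CliffordAlgebra _)
  obtain ⟨t, y, hy⟩ := exists_smul_eq_ofBC Q S A (↑uA⁻¹ : CliffordAlgebra _)
  -- x y = s t up to torsion
  have e1 : ofBC A Q (x * y - algebraMap R _ ((s : R) * t)) = 0 := by
    rw [map_sub, map_mul, ← hx, ← hy, ofBC_algebraMap, smul_mul_smul_comm, Units.mul_inv,
      Algebra.smul_def, mul_one, ← map_mul, sub_self]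
  have e2 : ofBC A Q (y * x - algebraMap R _ ((s : R) * t)) = 0 := by
    rw [map_sub, map_mul, ← hx, ← hy, ofBC_algebraMap, smul_mul_smul_comm, Units.inv_mul,
      Algebra.smul_def, mul_one, ← map_mul, mul_comm (t : R), sub_self]
  obtain ⟨s1, hs1⟩ := (ofBC_eq_zero_iff Q S A _).mp e1
  obtain ⟨s2, hs2⟩ := (ofBC_eq_zero_iff Q S A _).mp e2
  -- the wrong-degree part of x is torsion
  obtain ⟨xa, hxa, xb, hxb, hxab⟩ := exists_parts Q ε x
  have e3 : ofBC A Q xb = 0 := by
    apply eq_zero_of_mem_of_mem_succ _ ε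
    · have h1 : ofBC A Q xb = ofBC A Q x - ofBC A Q xa := by rw [hxab, map_add, add_sub_cancel_left]
      rw [h1, ← hx]
      exact Submodule.sub_mem _ (Submodule.smul_mem _ _ hu) (ofBC_mem_evenOdd A Q ε xa hxa)
    · exact ofBC_mem_evenOdd A Q (ε + 1) xb hxb
  obtain ⟨s3, hs3⟩ := (ofBC_eq_zero_iff Q S A _).mp e3
  -- the intertwining relations hold up to torsion
  let b := Module.Free.chooseBasis R M
  have e4 : ∀ i, ofBC A Q (ι Q (g (b i)) * x - x * ι Q (b i)) = 0 := by
    intro i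
    rw [map_sub, map_mul, map_mul, ofBC_ι, ofBC_ι, ← hx, mul_smul_comm, smul_mul_assoc, ← smul_sub]
    have := hcu (1 ⊗ₜ b i)
    rw [baseChange_tmul'] at this
    rw [this, sub_self, smul_zero]
  choose s4 hs4 using fun i => (ofBC_eq_zero_iff Q S A _).mp (e4 i)
  refine ⟨(s : R) * t * s1 * s2 * s3 * ∏ i, (s4 i : R), ?_, ?_⟩
  · refine S.mul_mem (S.mul_mem (S.mul_mem (S.mul_mem (S.mul_mem s.2 t.2) s1.2) s2.2) s3.2) ?_
    exact S.prod_mem fun i _ => (s4 i).2
  · intro B _ _ hf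
    have u1 : IsUnit (algebraMap R B ((s : R) * t)) :=
      isUnit_of_dvd_unit (map_dvd _ ⟨s1 * s2 * s3 * ∏ i, (s4 i : R), by ring⟩) hf
    have u2 : IsUnit (algebraMap R B s1) :=
      isUnit_of_dvd_unit (map_dvd _ ⟨(s : R) * t * s2 * s3 * ∏ i, (s4 i : R), by ring⟩) hf
    have u3 : IsUnit (algebraMap R B s2) :=
      isUnit_of_dvd_unit (map_dvd _ ⟨(s : R) * t * s1 * s3 * ∏ i, (s4 i : R), by ring⟩) hf
    have u4 : IsUnit (algebraMap R B s3) :=
      isUnit_of_dvd_unit (map_dvd _ ⟨(s : R) * t * s1 * s2 * ∏ i, (s4 i : R), by ring⟩) hf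
    have u5 : ∀ i, IsUnit (algebraMap R B (s4 i)) := fun i =>
      isUnit_of_dvd_unit (map_dvd _ (Dvd.dvd.mul_left
        (Finset.dvd_prod_of_mem (fun i => (s4 i : R)) (Finset.mem_univ i)) _)) hf
    refine hasConj_of_data Q B g ε x y ((s : R) * t) u1
      (ofBC_eq_zero_of_smul Q B _ u2 _ hs1) (ofBC_eq_zero_of_smul Q B _ u3 _ hs2) ?_
      (fun i => ofBC_eq_zero_of_smul Q B _ (u5 i) _ (hs4 i))
    rw [hxab, map_add, ofBC_eq_zero_of_smul Q B _ u4 _ hs3, add_zero]
    exact ofBC_mem_evenOdd B Q ε xa hxa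

end Groth.Agent.Helper7.Clf
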