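import Mathlib
import Groth.Agent.Helper7.ClfQ

/-!
# Over a connected base, an isometry failing the Dickson condition has determinant `-1`
-/

set_option autoImplicit false
universe u v
open QuadraticMap CliffordAlgebra
open scoped TensorProduct

namespace Groth.Agent.Helper7.Clf

variable {R : Type u} [CommRing R] {M : Type v} [AddCommGroup M] [Module R M] [Module.Free R M]
  [Module.Finite R M]
variable (Q : QuadraticForm R M)

/-- the locus of primes where `g` has a homogeneous lift of degree `ε` -/
def parityLocus (g : M ≃ₗ[R] M) (ε : ZMod 2) : Set (PrimeSpectrum R) :=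
  {q | HasConj (QuadGrp.baseChangeForm (Localization.AtPrime q.asIdeal) Q)
    (LinearEquiv.baseChange R (Localization.AtPrime q.asIdeal) M M g) ε}

theorem isOpen_parityLocus (g : M ≃ₗ[R] M) (ε : ZMod 2) : IsOpen (parityLocus Q g ε) := by
  rw [isOpen_iff_forall_mem_open]
  intro q hq
  obtain ⟨f, hf, hspread⟩ := exists_spread.{u, v, u, u} Q q.asIdeal.primeCompl
    (Localization.AtPrime q.asIdeal) g ε hq
  refine ⟨PrimeSpectrum.basicOpen f, ?_, (PrimeSpectrum.basicOpen f).isOpen, hf⟩
  intro q' hq'
  apply hspread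
  exact IsLocalization.map_units (Localization.AtPrime q'.asIdeal)
    (⟨f, hq'⟩ : q'.asIdeal.primeCompl)

theorem parityLocus_disjoint (m : ℕ) (hM : Module.finrank R M = 2 * m)
    (hQ : Function.Bijective (polarBilin Q)) (g : M ≃ₗ[R] M) (hg : g ∈ QuadGrp.O Q)
    (q : PrimeSpectrum R) (h0 : q ∈ parityLocus Q g 0) (h1 : q ∈ parityLocus Q g 1) : False := by
  haveI : Nontrivial R := (algebraMap R (Localization.AtPrime q.asIdeal)).domain_nontrivial
  have hMA : Module.finrank (Localization.AtPrime q.asIdeal)
      (Localization.AtPrime q.asIdeal ⊗[R] M) = 2 * m := by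
    rw [Module.finrank_baseChange, hM]
  obtain ⟨Z⟩ := nonempty_zElt (QuadGrp.baseChangeForm (Localization.AtPrime q.asIdeal) Q)
    (regular_baseChangeForm _ Q hQ) m hMA
  have hgA := baseChange_mem_O (Localization.AtPrime q.asIdeal) Q g hg
  have a0 := (isDicksonTrivial_iff_of_hasConj Z _ hgA 0 h0).mpr rfl
  have a1 := (isDicksonTrivial_iff_of_hasConj Z _ hgA 1 h1).mp a0
  exact one_ne_zero a1

theorem det_eq_neg_one_of_not_isDicksonTrivial (hc : ConnectedSpace (PrimeSpectrum R)) (m : ℕ)
    (hM : Module.finrank R M = 2 * m)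
    (hQ : Function.Bijective (polarBilin Q)) (g : M ≃ₗ[R] M) (hg : g ∈ QuadGrp.O Q)
    (hD : ¬ QuadGrp.IsDicksonTrivial Q g hg) : LinearEquiv.det g = -1 := by
  have hcover : ∀ q : PrimeSpectrum R, q ∈ parityLocus Q g 0 ∨ q ∈ parityLocus Q g 1 := by
    intro q
    obtain ⟨k, hk, -, -⟩ := exists_local_parity Q m hM hQ g hg (Localization.AtPrime q.asIdeal)
    rcases zmod2_cases k with rfl | rfl
    · exact Or.inl hk
    · exact Or.inr hk
  have hcompl : (parityLocus Q g 0)ᶜ = parityLocus Q g 1 := by
    ext q
    constructor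
    · intro h
      exact (hcover q).resolve_left h
    · intro h1 h0
      exact parityLocus_disjoint Q m hM hQ g hg q h0 h1
  have hclopen : IsClopen (parityLocus Q g 0) := by
    refine ⟨?_, isOpen_parityLocus Q g 0⟩
    rw [← isOpen_compl_iff, hcompl]
    exact isOpen_parityLocus Q g 1
  rcases isClopen_iff.mp hclopen with h | h
  · -- everywhere odd
    apply Units.ext
    rw [Units.val_neg, Units.val_one, ← sub_eq_zero, sub_neg_eq_add]
    apply eq_zero_of_localization
    intro P hP
    obtain ⟨k, hk, hdet, -⟩ := exists_local_parity Q m hM hQ g hg (Localization.AtPrime P)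
    rcases zmod2_cases k with rfl | rfl
    · exfalso
      have : (⟨P, hP.isPrime⟩ : PrimeSpectrum R) ∈ parityLocus Q g 0 := hk
      rw [h] at this
      exact this
    · rw [map_add, hdet, ZMod.val_one, pow_one, map_one, neg_add_cancel]
  · -- everywhere even: contradiction
    exfalso
    apply hD
    apply isDicksonTrivial_of_forall_local
    intro P hP
    have hmem : (⟨P, hP.isPrime⟩ : PrimeSpectrum R) ∈ parityLocus Q g 0 := by
      rw [h]; exact Set.mem_univ _
    haveI : Nontrivial R := (algebraMap R (Localization.AtPrime P)).domain_nontrivial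
    have hMA : Module.finrank (Localization.AtPrime P)
        (Localization.AtPrime P ⊗[R] M) = 2 * m := by
      rw [Module.finrank_baseChange, hM]
    obtain ⟨Z⟩ := nonempty_zElt (QuadGrp.baseChangeForm (Localization.AtPrime P) Q)
      (regular_baseChangeForm _ Q hQ) m hMA
    exact (isDicksonTrivial_iff_of_hasConj Z _ _ 0 hmem).mpr rfl

end Groth.Agent.Helper7.Clf
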