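import Mathlib
import Groth.Agent.Helper7.ClfQ

/-!
# Units normalising `M` are locally homogeneous (regular forms of even rank)
-/

set_option autoImplicit false
universe u v w
open QuadraticMap CliffordAlgebra
open scoped TensorProduct Pointwise

namespace Groth.Agent.Helper7.Clf

variable {R : Type u} [CommRing R] {M : Type v} [AddCommGroup M] [Module R M] [Module.Free R M]
variable (Q : QuadraticForm R M)

theorem exists_conj_of_mem_GPin' (u : (CliffordAlgebra Q)ˣ) (hu : u ∈ QuadGrp.GPin' Q) (v : M) :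
    ∃ v' : M, (u : CliffordAlgebra Q) * ι Q v * ↑u⁻¹ = ι Q v' := by
  rw [QuadGrp.mem_GPin'] at hu
  have h1 : ConjAct.toConjAct u • ι Q v ∈ ConjAct.toConjAct u • LinearMap.range (ι Q) := by
    rw [Submodule.mem_smul_pointwise_iff_exists]
    exact ⟨ι Q v, ⟨v, rfl⟩, rfl⟩
  rw [hu] at h1
  obtain ⟨v', hv'⟩ := h1
  refine ⟨v', ?_⟩
  rw [hv', ConjAct.units_smul_def, ConjAct.ofConjAct_toConjAct]

/-- the function induced by a normalising unit -/
noncomputable def conjFun (u : (CliffordAlgebra Q)ˣ) (hu : u ∈ QuadGrp.GPin' Q) (v : M) : M :=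
  Classical.choose (exists_conj_of_mem_GPin' Q u hu v)

theorem ι_conjFun (u : (CliffordAlgebra Q)ˣ) (hu : u ∈ QuadGrp.GPin' Q) (v : M) :
    ι Q (conjFun Q u hu v) = (u : CliffordAlgebra Q) * ι Q v * ↑u⁻¹ :=
  (Classical.choose_spec (exists_conj_of_mem_GPin' Q u hu v)).symm

/-- the linear map induced by a normalising unit -/
noncomputable def conjLin (u : (CliffordAlgebra Q)ˣ) (hu : u ∈ QuadGrp.GPin' Q) : M →ₗ[R] M where
  toFun v := conjFun Q u hu v
  map_add' v w := by
    apply ι_injective_of_free Q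
    rw [map_add, ι_conjFun, ι_conjFun, ι_conjFun, map_add, mul_add, add_mul]
  map_smul' r v := by
    apply ι_injective_of_free Q
    rw [RingHom.id_apply, map_smul, ι_conjFun, ι_conjFun, map_smul, mul_smul_comm,
      smul_mul_assoc]

theorem ι_conjLin (u : (CliffordAlgebra Q)ˣ) (hu : u ∈ QuadGrp.GPin' Q) (v : M) :
    ι Q (conjLin Q u hu v) = (u : CliffordAlgebra Q) * ι Q v * ↑u⁻¹ :=
  ι_conjFun Q u hu v

/-- the isometry induced by a normalising unit -/
noncomputable def conjEquiv (u : (CliffordAlgebra Q)ˣ) (hu : u ∈ QuadGrp.GPin' Q) : M ≃ₗ[R] M :=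
  LinearEquiv.ofLinearMap (conjLin Q u hu) (conjLin Q u⁻¹ ((QuadGrp.GPin' Q).inv_mem hu))
    (by
      ext v
      apply ι_injective_of_free Q
      rw [LinearMap.comp_apply, ι_conjLin, ι_conjLin, LinearMap.id_apply, inv_inv]
      simp only [← mul_assoc, Units.mul_inv, one_mul]
      rw [mul_assoc, Units.mul_inv, mul_one])
    (by
      ext v
      apply ι_injective_of_free Q
      rw [LinearMap.comp_apply, ι_conjLin, ι_conjLin, LinearMap.id_apply, inv_inv]
      simp only [← mul_assoc, Units.inv_mul, one_mul]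
      rw [mul_assoc, Units.inv_mul, mul_one])

theorem ι_conjEquiv (u : (CliffordAlgebra Q)ˣ) (hu : u ∈ QuadGrp.GPin' Q) (v : M) :
    ι Q (conjEquiv Q u hu v) = (u : CliffordAlgebra Q) * ι Q v * ↑u⁻¹ :=
  ι_conjLin Q u hu v

theorem ι_conjEquiv_mul (u : (CliffordAlgebra Q)ˣ) (hu : u ∈ QuadGrp.GPin' Q) (v : M) :
    ι Q (conjEquiv Q u hu v) * u = (u : CliffordAlgebra Q) * ι Q v := by
  rw [ι_conjEquiv, mul_assoc, Units.inv_mul, mul_one]

theorem conjEquiv_mem_O (u : (CliffordAlgebra Q)ˣ) (hu : u ∈ QuadGrp.GPin' Q) :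
    conjEquiv Q u hu ∈ QuadGrp.O Q := by
  intro v
  apply algebraMap_injective_of_free Q
  rw [← ι_sq_scalar, ← ι_sq_scalar, ι_conjEquiv]
  calc (u : CliffordAlgebra Q) * ι Q v * ↑u⁻¹ * (↑u * ι Q v * ↑u⁻¹)
      = ↑u * (ι Q v * ((↑u⁻¹ : CliffordAlgebra Q) * ↑u) * ι Q v) * ↑u⁻¹ := by noncomm_ring
    _ = ι Q v * ι Q v := by
      rw [Units.inv_mul, mul_one, ι_sq_scalar, ← Algebra.commutes, mul_assoc, Units.mul_inv,
        mul_one]

/-- intertwining extends from `1 ⊗ v` to all of `B ⊗ M` -/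
theorem intertwine_baseChange (B : Type w) [CommRing B] [Algebra R B] (g : M ≃ₗ[R] M)
    (X : CliffordAlgebra (QuadGrp.baseChangeForm B Q))
    (h : ∀ v : M, ι (QuadGrp.baseChangeForm B Q) ((1 : B) ⊗ₜ[R] g v) * X =
      X * ι (QuadGrp.baseChangeForm B Q) ((1 : B) ⊗ₜ[R] v)) (w : B ⊗[R] M) :
    ι (QuadGrp.baseChangeForm B Q) (LinearEquiv.baseChange R B M M g w) * X =
      X * ι (QuadGrp.baseChangeForm B Q) w := by
  induction w using TensorProduct.induction_on with
  | zero => simp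
  | tmul a v =>
    have e1 : a ⊗ₜ[R] v = a • ((1 : B) ⊗ₜ[R] v) := by
      rw [TensorProduct.smul_tmul', smul_eq_mul, mul_one]
    have e2 : LinearEquiv.baseChange R B M M g (a ⊗ₜ[R] v) = a • ((1 : B) ⊗ₜ[R] g v) := by
      rw [baseChange_tmul', TensorProduct.smul_tmul', smul_eq_mul, mul_one]
    rw [e2, e1, map_smul, map_smul, smul_mul_assoc, mul_smul_comm, h v]
  | add a b ha hb => rw [map_add, map_add, add_mul, ha, hb, map_add, mul_add]

/-- Over a local base, the image of a normalising unit is homogeneous. -/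
theorem ofBC_unit_homogeneous [Module.Finite R M] (m : ℕ) (hM : Module.finrank R M = 2 * m)
    (hQ : Function.Bijective (polarBilin Q)) (A : Type w) [CommRing A] [Algebra R A] [IsLocalRing A]
    (u : (CliffordAlgebra Q)ˣ) (hu : u ∈ QuadGrp.GPin' Q) :
    ∃ k : ZMod 2, ofBC A Q (u : CliffordAlgebra Q) ∈ evenOdd (QuadGrp.baseChangeForm A Q) k := by
  haveI : Nontrivial R := (algebraMap R A).domain_nontrivial
  obtain ⟨k, ⟨u', hu', hcu'⟩, -, -⟩ := exists_local_parity Q m hM hQ (conjEquiv Q u hu)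
    (conjEquiv_mem_O Q u hu) A
  refine ⟨k, ?_⟩
  -- the image of `u` and its inverse
  obtain ⟨Uv, Ui, hUUi, hUiU, hUval⟩ : ∃ Uv Ui : CliffordAlgebra (QuadGrp.baseChangeForm A Q),
      Uv * Ui = 1 ∧ Ui * Uv = 1 ∧ Uv = ofBC A Q u :=
    ⟨ofBC A Q u, ofBC A Q (↑u⁻¹ : CliffordAlgebra Q), by rw [← map_mul, Units.mul_inv, map_one],
      by rw [← map_mul, Units.inv_mul, map_one], rfl⟩
  obtain ⟨uv, ui, huui, -, huv⟩ : ∃ uv ui : CliffordAlgebra (QuadGrp.baseChangeForm A Q),
      uv * ui = 1 ∧ ui * uv = 1 ∧ uv = (u' : CliffordAlgebra _) :=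
    ⟨u', (↑u'⁻¹ : CliffordAlgebra _), Units.mul_inv _, Units.inv_mul _, rfl⟩
  rw [← huv] at hu' hcu'
  have hU : ∀ w, ι (QuadGrp.baseChangeForm A Q)
      (LinearEquiv.baseChange R A M M (conjEquiv Q u hu) w) * Uv =
      Uv * ι (QuadGrp.baseChangeForm A Q) w := by
    apply intertwine_baseChange
    intro v
    rw [hUval, ← ofBC_ι, ← ofBC_ι, ← map_mul, ← map_mul, ι_conjEquiv_mul]
  -- the quotient of the two lifts is central
  have hUinv : ∀ w, ι (QuadGrp.baseChangeForm A Q) w * Ui =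
      Ui * ι (QuadGrp.baseChangeForm A Q)
        (LinearEquiv.baseChange R A M M (conjEquiv Q u hu) w) := by
    intro w
    have := hU w
    calc ι (QuadGrp.baseChangeForm A Q) w * Ui
        = Ui * (Uv * ι (QuadGrp.baseChangeForm A Q) w) * Ui := by
          rw [← mul_assoc, hUiU, one_mul]
      _ = Ui * ι (QuadGrp.baseChangeForm A Q)
            (LinearEquiv.baseChange R A M M (conjEquiv Q u hu) w) := by
          rw [← this, mul_assoc, mul_assoc, hUUi, mul_one]
  have hc : ∀ w, ι (QuadGrp.baseChangeForm A Q) w * (Ui * uv) =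
      (Ui * uv) * ι (QuadGrp.baseChangeForm A Q) w := by
    intro w
    rw [← mul_assoc, hUinv, mul_assoc, hcu' w, mul_assoc]
  have hMA : Module.finrank A (A ⊗[R] M) = 2 * m := by rw [Module.finrank_baseChange, hM]
  have hQA := regular_baseChangeForm A Q hQ
  obtain ⟨Z⟩ := nonempty_zElt (QuadGrp.baseChangeForm A Q) hQA m hMA
  obtain ⟨a, ha⟩ := exists_eq_algebraMap_of_comm _ hQA Z _ hc
  have hu'U : uv = a • Uv := by
    have : uv = Uv * (Ui * uv) := by
      rw [← mul_assoc, hUUi, one_mul]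
    rw [this, ha, Algebra.smul_def, Algebra.commutes]
  obtain ⟨π, hπ⟩ := exists_retraction (QuadGrp.baseChangeForm A Q)
  have hau : IsUnit a := by
    have h1 : a • (Uv * ui) = 1 := by
      rw [← smul_mul_assoc, ← hu'U, huui]
    have h2 := congrArg π h1
    rw [map_smul, smul_eq_mul] at h2
    have h3 : π 1 = 1 := by
      have := hπ 1
      rwa [map_one] at this
    rw [h3] at h2
    exact IsUnit.of_mul_eq_one _ h2
  obtain ⟨au, rfl⟩ := hau
  have : Uv = (↑au⁻¹ : A) • uv := by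
    rw [hu'U, smul_smul, Units.inv_mul, one_smul]
  rw [← hUval, this]
  exact Submodule.smul_mem _ _ hu'

/-- Units normalising `M` are locally homogeneous. -/
theorem mem_LH_of_mem_GPin' [Module.Finite R M] (m : ℕ) (hM : Module.finrank R M = 2 * m)
    (hQ : Function.Bijective (polarBilin Q))
    (u : (CliffordAlgebra Q)ˣ) (hu : u ∈ QuadGrp.GPin' Q) : u ∈ QuadGrp.LH Q := by
  obtain ⟨u0, h0, u1, h1, hsum⟩ := exists_even_odd Q (u : CliffordAlgebra Q)
  let I0 : Ideal R := LinearMap.ker (LinearMap.toSpanSingleton R (CliffordAlgebra Q) u0)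
  let I1 : Ideal R := LinearMap.ker (LinearMap.toSpanSingleton R (CliffordAlgebra Q) u1)
  have hI0 : ∀ r, r ∈ I0 ↔ r • u0 = 0 := fun r => by
    rw [LinearMap.mem_ker, LinearMap.toSpanSingleton_apply]
  have hI1 : ∀ r, r ∈ I1 ↔ r • u1 = 0 := fun r => by
    rw [LinearMap.mem_ker, LinearMap.toSpanSingleton_apply]
  have hloc : ∀ (P : Ideal R) [P.IsMaximal], ∃ s, s ∉ P ∧ (s ∈ I0 ∨ s ∈ I1) := by
    intro P _
    obtain ⟨k, hk⟩ := ofBC_unit_homogeneous Q m hM hQ (Localization.AtPrime P) u hu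
    rw [hsum, map_add] at hk
    have e0 := ofBC_mem_even (Localization.AtPrime P) Q u0 h0
    have e1 := ofBC_mem_odd (Localization.AtPrime P) Q u1 h1
    rcases zmod2_cases k with rfl | rfl
    · have : ofBC (Localization.AtPrime P) Q u1 = 0 := by
        apply eq_zero_of_mem_even_of_mem_odd _ _ _ e1
        have := Submodule.sub_mem _ hk e0
        rwa [add_sub_cancel_left] at this
      obtain ⟨s, hs⟩ := (ofBC_eq_zero_iff Q P.primeCompl (Localization.AtPrime P) u1).mp this
      exact ⟨s, s.2, Or.inr ((hI1 _).mpr hs)⟩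
    · have : ofBC (Localization.AtPrime P) Q u0 = 0 := by
        apply eq_zero_of_mem_even_of_mem_odd _ _ e0
        have := Submodule.sub_mem _ hk e1
        rwa [add_sub_cancel_right] at this
      obtain ⟨s, hs⟩ := (ofBC_eq_zero_iff Q P.primeCompl (Localization.AtPrime P) u0).mp this
      exact ⟨s, s.2, Or.inl ((hI0 _).mpr hs)⟩
  have htop : I0 ⊔ I1 = ⊤ := by
    by_contra hne
    obtain ⟨P, hP, hle⟩ := Ideal.exists_le_maximal _ hne
    obtain ⟨s, hsP, hs | hs⟩ := hloc P
    · exact hsP (hle (Submodule.mem_sup_left hs))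
    · exact hsP (hle (Submodule.mem_sup_right hs))
  have h1mem : (1 : R) ∈ I0 ⊔ I1 := by rw [htop]; exact Submodule.mem_top
  obtain ⟨e', he', e, he, hee⟩ := Submodule.mem_sup.mp h1mem
  rw [hI0] at he'
  rw [hI1] at he
  have hprod : e * e' = 0 := by
    apply algebraMap_injective_of_free Q
    rw [map_zero, Algebra.algebraMap_eq_smul_one, ← Units.mul_inv u, ← smul_mul_assoc, hsum,
      smul_add, mul_smul, he', smul_zero, zero_add, mul_comm, mul_smul, he, smul_zero, zero_mul]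
  have he1 : 1 - e = e' := by rw [← hee]; ring
  rw [QuadGrp.mem_LH]
  refine ⟨e, ?_, ?_, ?_⟩
  · change e * e = e
    calc e * e = e * (e' + e) - e * e' := by ring
      _ = e := by rw [hee, hprod, mul_one, sub_zero]
  · rw [hsum, smul_add, he, add_zero]
    exact Submodule.smul_mem _ _ h0
  · rw [he1, hsum, smul_add, he', zero_add]
    exact Submodule.smul_mem _ _ h1

end Groth.Agent.Helper7.Clf
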