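import Groth.Agent.Helper7.QOddB

/-!
# Odd rank: finding a nondegenerate plane, and the induction
-/

universe u

namespace Groth.Agent.Helper7.QSplit

open Matrix

section planeOdd

variable {ι : Type*} [Fintype ι] [DecidableEq ι]

/-- Reindexing putting `i₀` first. -/
def lineEquiv (i₀ : ι) : Fin 1 ⊕ {k : ι // k ≠ i₀} ≃ ι where
  toFun := Sum.elim (fun _ => i₀) Subtype.val
  invFun k := if h : k = i₀ then Sum.inl 0 else Sum.inr ⟨k, h⟩
  left_inv := by
    rintro (x | ⟨k, hk⟩)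
    · simp
      exact (Subsingleton.elim _ _)
    · simp [hk]
  right_inv := by
    intro k
    by_cases h : k = i₀
    · simp [h]
    · simp [h]

/-- If the polar matrix vanishes and the size is odd `≥ 3`, the half-discriminant vanishes. -/
theorem hd_eq_zero_of_polar_zero {F : Type*} [CommRing F] (hn : Odd (Fintype.card ι))
    (h3 : 3 ≤ Fintype.card ι) (β : Matrix ι ι F) (hG : β + βᵀ = 0) : hd β = 0 := by
  haveI : Nonempty ι := Fintype.card_pos_iff.mp (by omega)
  obtain ⟨i₀⟩ : Nonempty ι := inferInstance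
  have hcard := Fintype.card_congr (lineEquiv i₀)
  rw [Fintype.card_sum, Fintype.card_fin] at hcard
  haveI : Nonempty {k : ι // k ≠ i₀} := Fintype.card_pos_iff.mp (by omega)
  rw [← hd_submatrix hn (lineEquiv i₀) β]
  set M := β.submatrix (lineEquiv i₀) (lineEquiv i₀) with hM
  have hMG : M + Mᵀ = 0 := by
    have : M + Mᵀ = (β + βᵀ).submatrix (lineEquiv i₀) (lineEquiv i₀) := by
      rw [hM, transpose_submatrix]; rfl
    rw [this, hG]
    rfl
  have hMb : M = fromBlocks M.toBlocks₁₁ M.toBlocks₁₂ M.toBlocks₂₁ M.toBlocks₂₂ :=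
    (fromBlocks_toBlocks M).symm
  have hk : Odd (Fintype.card (Fin 1 ⊕ {k : ι // k ≠ i₀})) := by
    rw [Fintype.card_sum, Fintype.card_fin, hcard]; exact hn
  have h12 : M.toBlocks₂₁ = -(M.toBlocks₁₂)ᵀ := by
    ext a b
    have := congrFun (congrFun hMG (Sum.inr a)) (Sum.inl b)
    simp only [Matrix.add_apply, Matrix.transpose_apply, Matrix.zero_apply] at this
    simp only [Matrix.toBlocks₂₁, Matrix.toBlocks₁₂, Matrix.neg_apply, Matrix.transpose_apply,
      Matrix.of_apply]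
    exact eq_neg_of_add_eq_zero_left this
  have h22 : M.toBlocks₂₂ + (M.toBlocks₂₂)ᵀ = 0 := by
    ext a b
    have := congrFun (congrFun hMG (Sum.inr a)) (Sum.inr b)
    simp only [Matrix.add_apply, Matrix.transpose_apply, Matrix.zero_apply] at this
    simp only [Matrix.toBlocks₂₂, Matrix.add_apply, Matrix.transpose_apply, Matrix.zero_apply,
      Matrix.of_apply]
    exact this
  have halt : Alt (M - fromBlocks M.toBlocks₁₁ 0 0 M.toBlocks₂₂) := by
    have : M - fromBlocks M.toBlocks₁₁ 0 0 M.toBlocks₂₂ =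
        fromBlocks 0 M.toBlocks₁₂ M.toBlocks₂₁ 0 := by
      conv_lhs => rw [hMb]
      ext (a | a) (b | b) <;> simp
    rw [this]
    exact alt_fromBlocks_off _ _ h12
  rw [hd_alt hk halt, hd_fromBlocks_line hk, h22, Matrix.det_zero, mul_zero]

theorem exists_disc_notMem_odd {A : Type*} [CommRing A] (p : Ideal A) [p.IsPrime]
    (hn : Odd (Fintype.card ι)) (h3 : 3 ≤ Fintype.card ι) (β : Matrix ι ι A)
    (hβ : hd β ∉ p) :
    ∃ (i₀ : ι) (w : ι → A) (j : ι), j ≠ i₀ ∧ w j = 1 ∧ disc β i₀ w ∉ p := by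
  haveI : Nontrivial ι := Fintype.one_lt_card_iff_nontrivial.mp (by omega)
  by_cases h2 : (2 : A) ∈ p
  · -- residue characteristic two
    have hex : ∃ i₀ k, (β + βᵀ) i₀ k ∉ p := by
      by_contra hall
      push Not at hall
      apply hβ
      rw [← Ideal.Quotient.eq_zero_iff_mem, map_hd]
      apply hd_eq_zero_of_polar_zero hn h3
      ext i k
      have := Ideal.Quotient.eq_zero_iff_mem.mpr (hall i k)
      simpa using this
    obtain ⟨i₀, k, hk⟩ := hex
    have hki : k ≠ i₀ := by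
      rintro rfl
      apply hk
      have : (β + βᵀ) k k = 2 * β k k := by
        simp only [Matrix.add_apply, Matrix.transpose_apply]; ring
      rw [this]
      exact p.mul_mem_right _ h2
    refine ⟨i₀, Pi.single k 1, k, hki, by simp, ?_⟩
    rw [disc_single]
    intro hmem
    apply hk
    have h4 : 4 * β i₀ i₀ * β k k ∈ p := by
      have : (4 : A) * β i₀ i₀ * β k k = 2 * (2 * β i₀ i₀ * β k k) := by ring
      rw [this]
      exact p.mul_mem_right _ h2
    have := (Submodule.sub_mem_iff_left p h4).mp hmem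
    exact Ideal.IsPrime.mem_of_pow_mem ‹_› 2 this
  · obtain ⟨i₀⟩ : Nonempty ι := inferInstance
    have hdet : (β + βᵀ).det ∉ p := by
      rw [← two_mul_hd hn]
      exact fun h => (Ideal.IsPrime.mem_or_mem ‹_› h).elim h2 hβ
    obtain ⟨w, j, hj, hwj, hD⟩ := exists_disc_notMem p β hdet i₀
    exact ⟨i₀, w, j, hj, hwj, hD⟩

theorem normalize_of_disc {A : Type*} [CommRing A] (p : Ideal A) [p.IsPrime]
    (β : Matrix ι ι A) (i₀ : ι) (w : ι → A) (j : ι) (hj : j ≠ i₀) (hwj : w j = 1)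
    (hD : disc β i₀ w ∉ p) :
    ∃ (h : Matrix ι ι A) (i j : ι), h.det = 1 ∧ i ≠ j ∧ (hᵀ * β * h) i i ∉ p ∧
      pdisc (hᵀ * β * h) i j ∉ p := by
  set h₀ := (1 : Matrix ι ι A).updateCol j w with hh₀
  have hdet₀ : h₀.det = 1 := by rw [det_one_updateCol, hwj]
  set β₁ := h₀ᵀ * β * h₀ with hβ₁
  have c_i : h₀.col i₀ = Pi.single i₀ 1 := by rw [col_one_updateCol, if_neg hj.symm]
  have c_j : h₀.col j = w := by rw [col_one_updateCol, if_pos rfl]
  have e_ii : β₁ i₀ i₀ = β i₀ i₀ := by rw [hβ₁, conj_apply, c_i, single_qf_single]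
  have e_jj : β₁ j j = w ⬝ᵥ β *ᵥ w := by rw [hβ₁, conj_apply, c_j]
  have e_ij : β₁ i₀ j + β₁ j i₀ = ((β + βᵀ) *ᵥ w) i₀ := by
    rw [hβ₁, conj_apply, conj_apply, c_i, c_j, single_one_dotProduct, Matrix.add_mulVec,
      Pi.add_apply, Matrix.mulVec_single_one]
    congr 1
    rw [Matrix.mulVec, dotProduct_comm]
    rfl
  have hpd : pdisc β₁ i₀ j = disc β i₀ w := by
    simp only [pdisc, disc, e_ii, e_jj, e_ij]
  by_cases ha : β₁ i₀ i₀ ∈ p
  · by_cases hc : β₁ j j ∈ p
    · set h₁ := (1 : Matrix ι ι A).updateCol i₀ (Pi.single i₀ 1 + Pi.single j 1) with hh₁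
      have hdet₁ : h₁.det = 1 := by
        rw [det_one_updateCol]
        simp [hj.symm]
      have d_i : h₁.col i₀ = Pi.single i₀ 1 + Pi.single j 1 := by
        rw [col_one_updateCol, if_pos rfl]
      have d_j : h₁.col j = Pi.single j 1 := by rw [col_one_updateCol, if_neg hj]
      have hconj : (h₀ * h₁)ᵀ * β * (h₀ * h₁) = h₁ᵀ * β₁ * h₁ := by
        rw [hβ₁, transpose_mul]
        simp only [Matrix.mul_assoc]
      have f_ii : (h₁ᵀ * β₁ * h₁) i₀ i₀ = β₁ i₀ i₀ + β₁ i₀ j + β₁ j i₀ + β₁ j j := by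
        rw [conj_apply, d_i]
        simp only [Matrix.mulVec_add, add_dotProduct, dotProduct_add, single_qf_single]
        ring
      have f_jj : (h₁ᵀ * β₁ * h₁) j j = β₁ j j := by
        rw [conj_apply, d_j, single_qf_single]
      have f_ij : (h₁ᵀ * β₁ * h₁) i₀ j = β₁ i₀ j + β₁ j j := by
        rw [conj_apply, d_i, d_j]
        simp only [add_dotProduct, single_qf_single]
      have f_ji : (h₁ᵀ * β₁ * h₁) j i₀ = β₁ j i₀ + β₁ j j := by
        rw [conj_apply, d_i, d_j]
        simp only [Matrix.mulVec_add, dotProduct_add, single_qf_single]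
      have hpd2 : pdisc (h₁ᵀ * β₁ * h₁) i₀ j = pdisc β₁ i₀ j := by
        simp only [pdisc, f_ii, f_jj, f_ij, f_ji]
        ring
      refine ⟨h₀ * h₁, i₀, j, by rw [det_mul, hdet₀, hdet₁, one_mul], hj.symm, ?_, ?_⟩
      · rw [hconj, f_ii]
        intro hmem
        apply hD
        rw [← hpd]
        have hb : β₁ i₀ j + β₁ j i₀ ∈ p := by
          have : β₁ i₀ j + β₁ j i₀ =
              (β₁ i₀ i₀ + β₁ i₀ j + β₁ j i₀ + β₁ j j) - β₁ i₀ i₀ - β₁ j j := by ring
          rw [this]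
          exact p.sub_mem (p.sub_mem hmem ha) hc
        simp only [pdisc]
        exact p.sub_mem (p.pow_mem_of_mem hb 2 (by norm_num)) (p.mul_mem_left _ hc)
      · rw [hconj, hpd2, hpd]
        exact hD
    · exact ⟨h₀, j, i₀, hdet₀, hj, hc, by rw [pdisc_comm, hpd]; exact hD⟩
  · exact ⟨h₀, i₀, j, hdet₀, hj.symm, ha, by rw [hpd]; exact hD⟩

end planeOdd

section goodOdd

variable {A : Type u} [CommRing A] {ι κ : Type} [Fintype ι] [DecidableEq ι] [Fintype κ]
  [DecidableEq κ]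

/-- `β` becomes `c x² + ∑ xₜ yₜ` (with `c` a unit) over some étale `A`-algebra having a prime
over `p`. -/
def GoodOdd (β : Matrix ι ι A) (p : Ideal A) : Prop :=
  ∃ (B : Type u) (_ : CommRing B) (_ : Algebra A B), Algebra.Etale A B ∧
    (∃ q : Ideal B, q.IsPrime ∧ q.comap (algebraMap A B) = p) ∧
    ∃ c : B, IsUnit c ∧ OddSplitC c (β.map (algebraMap A B))

lemma GoodOdd.of_conj {β : Matrix ι ι A} {p : Ideal A} (h : Matrix ι ι A) (hh : IsUnit h.det)
    (hg : GoodOdd (hᵀ * β * h) p) : GoodOdd β p := by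
  obtain ⟨B, _, _, hE, hq, c, hc, hS⟩ := hg
  refine ⟨B, inferInstance, inferInstance, hE, hq, c, hc, ?_⟩
  rw [Matrix.map_mul, Matrix.map_mul, transpose_map] at hS
  refine OddSplitC.of_conj_square (h.map (algebraMap A B)) ?_ hS
  rw [← RingHom.mapMatrix_apply, ← RingHom.map_det]
  exact hh.map _

lemma GoodOdd.of_submatrix {β : Matrix ι ι A} {p : Ideal A} (e : κ ≃ ι)
    (hg : GoodOdd (β.submatrix e e) p) : GoodOdd β p := by
  obtain ⟨B, _, _, hE, hq, c, hc, hS⟩ := hg
  refine ⟨B, inferInstance, inferInstance, hE, hq, c, hc, ?_⟩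
  refine OddSplitC.of_submatrix e ?_
  rwa [Matrix.submatrix_map]

/-- Rank one. -/
theorem goodOdd_unique [Unique ι] (β : Matrix ι ι A) (p : Ideal A) [p.IsPrime]
    (hβ : hd β ∉ p) : GoodOdd β p := by
  set c₀ := β default default with hc₀
  have hc₀p : c₀ ∉ p := by rwa [hd_unique] at hβ
  refine ⟨Localization.Away c₀, inferInstance, inferInstance, inferInstance, ?_, ?_⟩
  · have hdisj : Disjoint (Submonoid.powers c₀ : Set A) (p : Set A) := by
      rw [Set.disjoint_left]
      rintro x ⟨n, rfl⟩ hx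
      exact hc₀p (Ideal.IsPrime.mem_of_pow_mem ‹_› n hx)
    refine ⟨p.map (algebraMap A (Localization.Away c₀)),
      IsLocalization.isPrime_of_isPrime_disjoint (Submonoid.powers c₀) _ p ‹_› hdisj, ?_⟩
    exact IsLocalization.under_map_of_isPrime_disjoint (Submonoid.powers c₀) _ ‹_› hdisj
  · refine ⟨algebraMap A _ c₀, IsLocalization.Away.algebraMap_isUnit c₀, ?_⟩
    refine OddSplitC.of_submatrix
      ((Equiv.sumEmpty (Fin 1) (Empty ⊕ Empty)).trans (Equiv.ofUnique (Fin 1) ι)) ?_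
    have : ((β.map (algebraMap A (Localization.Away c₀))).submatrix
        ((Equiv.sumEmpty (Fin 1) (Empty ⊕ Empty)).trans (Equiv.ofUnique (Fin 1) ι))
        ((Equiv.sumEmpty (Fin 1) (Empty ⊕ Empty)).trans (Equiv.ofUnique (Fin 1) ι))) =
        oddHyp (algebraMap A _ c₀) Empty := by
      ext (a | a) (b | b)
      · have ha : a = 0 := Subsingleton.elim _ _
        have hb : b = 0 := Subsingleton.elim _ _
        subst ha hb
        simp only [oddHyp, Matrix.submatrix_apply, Matrix.map_apply, Matrix.fromBlocks_apply₁₁,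
          Matrix.smul_apply, Matrix.one_apply_eq, smul_eq_mul, mul_one]
        rw [hc₀]
        congr 2
      · exact (IsEmpty.false b).elim
      · exact (IsEmpty.false a).elim
      · exact (IsEmpty.false a).elim
    rw [this]
    exact oddSplitC_oddHyp _ _

lemma det_plane_polar {R : Type*} [CommRing R] :
    ((!![0, 1; 0, 0] : Matrix (Fin 2) (Fin 2) R) + (!![0, 1; 0, 0] : Matrix (Fin 2) (Fin 2) R)ᵀ).det
      = -1 := by
  rw [Matrix.det_fin_two]
  simp

theorem good_odd (m : ℕ) : ∀ (A : Type u) [CommRing A] (ι : Type) [Fintype ι]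
    [DecidableEq ι], Fintype.card ι = 2 * m + 1 → ∀ (β : Matrix ι ι A) (p : Ideal A)
    [p.IsPrime], hd β ∉ p → GoodOdd β p := by
  induction m with
  | zero =>
    intro A _ ι _ _ hcard β p _ hβ
    obtain ⟨hu⟩ := Fintype.card_eq_one_iff_nonempty_unique.mp (by simpa using hcard)
    haveI := hu
    exact goodOdd_unique β p hβ
  | succ m ih =>
    intro A _ ι _ _ hcard β p _ hβ
    have hn : Odd (Fintype.card ι) := ⟨m + 1, by omega⟩
    obtain ⟨i₀, w, j₀, hj₀, hwj, hD⟩ := exists_disc_notMem_odd p hn (by omega) β hβ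
    obtain ⟨h, i, j, hdet, hij, ha, hpd⟩ := normalize_of_disc p β i₀ w j₀ hj₀ hwj hD
    refine GoodOdd.of_conj h (by rw [hdet]; exact isUnit_one) ?_
    set β₁ := hᵀ * β * h with hβ₁
    have hβ₁hd : hd β₁ ∉ p := by
      rw [hβ₁, hd_conj hn, hdet, one_pow, one_mul]
      exact hβ
    refine GoodOdd.of_submatrix (planeEquiv i j hij) ?_
    set M := β₁.submatrix (planeEquiv i j hij) (planeEquiv i j hij) with hM
    have hMhd : hd M ∉ p := by
      rw [hM, hd_submatrix hn]
      exact hβ₁hd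
    have hMb : M = fromBlocks M.toBlocks₁₁ M.toBlocks₁₂ M.toBlocks₂₁ M.toBlocks₂₂ :=
      (fromBlocks_toBlocks M).symm
    have e00 : M.toBlocks₁₁ 0 0 = β₁ i i := rfl
    have e01 : M.toBlocks₁₁ 0 1 = β₁ i j := rfl
    have e10 : M.toBlocks₁₁ 1 0 = β₁ j i := rfl
    have e11 : M.toBlocks₁₁ 1 1 = β₁ j j := rfl
    have ha' : M.toBlocks₁₁ 0 0 ∉ p := by rw [e00]; exact ha
    have hpd' : (M.toBlocks₁₁ 0 1 + M.toBlocks₁₁ 1 0) ^ 2 -
        4 * M.toBlocks₁₁ 0 0 * M.toBlocks₁₁ 1 1 ∉ p := by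
      rw [e00, e01, e10, e11]; exact hpd
    obtain ⟨B₁, _, _, hE₁, ⟨q₁, hq₁, hq₁p⟩, t, ht, hDu⟩ := exists_etale_root (M.toBlocks₁₁ 0 0)
      (M.toBlocks₁₁ 0 1 + M.toBlocks₁₁ 1 0) (M.toBlocks₁₁ 1 1) p ha' hpd'
    obtain ⟨T', H, hH, hAlt, -⟩ := block_step (M.toBlocks₁₁.map (algebraMap A B₁))
      (M.toBlocks₁₂.map (algebraMap A B₁)) (M.toBlocks₂₁.map (algebraMap A B₁))
      (M.toBlocks₂₂.map (algebraMap A B₁)) t
      (by simpa only [Matrix.map_apply, map_add] using ht)
      (by simpa only [Matrix.map_apply, map_add, map_sub, map_mul, map_pow, map_ofNat] using hDu)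
    have hMmap : M.map (algebraMap A B₁) = fromBlocks (M.toBlocks₁₁.map (algebraMap A B₁))
        (M.toBlocks₁₂.map (algebraMap A B₁)) (M.toBlocks₂₁.map (algebraMap A B₁))
        (M.toBlocks₂₂.map (algebraMap A B₁)) := by
      rw [← fromBlocks_map, ← hMb]
    rw [← hMmap] at hAlt
    haveI := hq₁
    have hcard' : Fintype.card {k : ι // k ≠ i ∧ k ≠ j} = 2 * m + 1 := by
      have := Fintype.card_congr (planeEquiv i j hij)
      rw [Fintype.card_sum, Fintype.card_fin] at this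
      omega
    have hn' : Odd (Fintype.card {k : ι // k ≠ i ∧ k ≠ j}) := ⟨m, hcard'⟩
    have hn2 : Odd (Fintype.card (Fin 2 ⊕ {k : ι // k ≠ i ∧ k ≠ j})) := by
      rw [Fintype.card_congr (planeEquiv i j hij)]; exact hn
    have hT' : hd T' ∉ q₁ := by
      intro hmem
      have h1 : hd (Hᵀ * M.map (algebraMap A B₁) * H) = -hd T' := by
        rw [hd_alt hn2 hAlt, hd_fromBlocks_plane hn', det_plane_polar]
        ring
      rw [hd_conj hn2] at h1
      have h2 : H.det ^ 2 * hd (M.map (algebraMap A B₁)) ∈ q₁ := by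
        rw [h1]; exact q₁.neg_mem hmem
      have h3 : hd (M.map (algebraMap A B₁)) ∈ q₁ := by
        rcases Ideal.IsPrime.mem_or_mem ‹_› h2 with h | h
        · exact absurd (Ideal.eq_top_of_isUnit_mem _ h (hH.pow 2)) hq₁.ne_top
        · exact h
      rw [← map_hd, ← Ideal.mem_comap, hq₁p] at h3
      exact hMhd h3
    obtain ⟨B₃, _, _, hE₃, ⟨q₃, hq₃, hq₃q⟩, c, hc, hS₃⟩ := ih B₁ _ hcard' T' q₁ hT'
    letI : Algebra A B₃ := ((algebraMap B₁ B₃).comp (algebraMap A B₁)).toAlgebra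
    haveI : IsScalarTower A B₁ B₃ := IsScalarTower.of_algebraMap_eq (fun _ => rfl)
    refine ⟨B₃, inferInstance, inferInstance, Algebra.Etale.comp A B₁ B₃, ⟨q₃, hq₃, ?_⟩, c, hc,
      ?_⟩
    · rw [IsScalarTower.algebraMap_eq A B₁ B₃, ← Ideal.comap_comap, hq₃q, hq₁p]
    · have h3 : M.map (algebraMap A B₃) =
          (M.map (algebraMap A B₁)).map (algebraMap B₁ B₃) := by
        rw [Matrix.map_map]
        rfl
      rw [h3]
      refine OddSplitC.of_conj_map H hH hAlt (algebraMap B₁ B₃) ?_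
      rw [fromBlocks_map, map_plane, Matrix.map_zero _ (map_zero _),
        Matrix.map_zero _ (map_zero _)]
      exact OddSplitC.fromBlocks splits_plane hS₃

end goodOdd

end Groth.Agent.Helper7.QSplit
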