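import Mathlib
import Groth.Agent.Helper7.QOddC

/-!
# Odd rank over a local ring: splitting off a line (matrix language)
-/

set_option autoImplicit false
universe u

namespace Groth.Agent.Helper7.QSplit

open Matrix

section cong

variable {R : Type*} [CommRing R]
variable {ι κ μ : Type*} [Fintype ι] [DecidableEq ι] [Fintype κ] [DecidableEq κ]
  [Fintype μ] [DecidableEq μ]

/-- congruence of matrices of quadratic forms, modulo alternating matrices -/
def Cong (β : Matrix ι ι R) (β' : Matrix κ κ R) : Prop :=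
  ∃ (g : Matrix ι κ R) (g' : Matrix κ ι R), g * g' = 1 ∧ g' * g = 1 ∧ Alt (gᵀ * β * g - β')

lemma Cong.of_alt {β β' : Matrix ι ι R} (h : Alt (β - β')) : Cong β β' :=
  ⟨1, 1, by simp, by simp, by rwa [transpose_one, Matrix.one_mul, Matrix.mul_one]⟩

lemma Cong.refl (β : Matrix ι ι R) : Cong β β :=
  Cong.of_alt (by rw [sub_self]; exact Alt.zero)

lemma Cong.trans {β : Matrix ι ι R} {β' : Matrix κ κ R} {β'' : Matrix μ μ R}
    (h1 : Cong β β') (h2 : Cong β' β'') : Cong β β'' := by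
  obtain ⟨g, g', a1, a2, a3⟩ := h1
  obtain ⟨h, h', b1, b2, b3⟩ := h2
  refine ⟨g * h, h' * g', ?_, ?_, ?_⟩
  · rw [Matrix.mul_assoc, ← Matrix.mul_assoc h, b1, Matrix.one_mul, a1]
  · rw [Matrix.mul_assoc, ← Matrix.mul_assoc g', a2, Matrix.one_mul, b2]
  · have e : (g * h)ᵀ * β * (g * h) - β'' = hᵀ * (gᵀ * β * g - β') * h + (hᵀ * β' * h - β'') := by
      rw [transpose_mul, Matrix.mul_sub, Matrix.sub_mul]
      simp only [Matrix.mul_assoc]
      abel
    rw [e]
    exact (a3.conj h).add b3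

lemma Cong.of_square (β : Matrix ι ι R) (h : Matrix ι ι R) (hh : IsUnit h.det) :
    Cong β (hᵀ * β * h) :=
  ⟨h, h⁻¹, Matrix.mul_nonsing_inv h hh, Matrix.nonsing_inv_mul h hh, by
    rw [sub_self]; exact Alt.zero⟩

lemma Cong.of_submatrix (β : Matrix ι ι R) (e : κ ≃ ι) : Cong β (β.submatrix e e) := by
  refine ⟨(1 : Matrix ι ι R).submatrix id e, (1 : Matrix ι ι R).submatrix e id, ?_, ?_, ?_⟩
  · rw [submatrix_mul_equiv, Matrix.one_mul, submatrix_id_id]
  · have : (1 : Matrix ι ι R).submatrix e id * (1 : Matrix ι ι R).submatrix id e =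
        ((1 : Matrix ι ι R) * 1).submatrix e e := by
      rw [← submatrix_mul (1 : Matrix ι ι R) 1 e id e Function.bijective_id]
    rw [this, Matrix.one_mul, submatrix_one_equiv]
  · have : ((1 : Matrix ι ι R).submatrix id e)ᵀ * β * (1 : Matrix ι ι R).submatrix id e =
        β.submatrix e e := by
      rw [transpose_submatrix, transpose_one]
      ext i j
      simp [Matrix.mul_apply, Matrix.one_apply]
    rw [this, sub_self]
    exact Alt.zero

lemma Cong.fromBlocks_right (P : Matrix μ μ R) {β : Matrix ι ι R} {β' : Matrix κ κ R}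
    (h : Cong β β') : Cong (Matrix.fromBlocks P 0 0 β) (Matrix.fromBlocks P 0 0 β') := by
  obtain ⟨g, g', a1, a2, a3⟩ := h
  refine ⟨Matrix.fromBlocks (1 : Matrix μ μ R) 0 0 g, Matrix.fromBlocks (1 : Matrix μ μ R) 0 0 g',
    ?_, ?_, ?_⟩
  · rw [fromBlocks_multiply]
    simp [a1, fromBlocks_one]
  · rw [fromBlocks_multiply]
    simp [a2, fromBlocks_one]
  · have e : (Matrix.fromBlocks (1 : Matrix μ μ R) 0 0 g)ᵀ * Matrix.fromBlocks P 0 0 β *
        Matrix.fromBlocks (1 : Matrix μ μ R) 0 0 g - Matrix.fromBlocks P 0 0 β' =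
        Matrix.fromBlocks (0 : Matrix μ μ R) 0 0 (gᵀ * β * g - β') := by
      rw [fromBlocks_transpose, fromBlocks_multiply, fromBlocks_multiply]
      ext (i | i) (j | j) <;> simp
    rw [e]
    exact Alt.fromBlocks Alt.zero a3

end cong

section localdec

open IsLocalRing

/-- reassociation -/
def lineAssoc (κ : Type) : Fin 1 ⊕ (Fin 2 ⊕ κ) ≃ Fin 2 ⊕ (Fin 1 ⊕ κ) :=
  (Equiv.sumAssoc _ _ _).symm.trans ((Equiv.sumCongr (Equiv.sumComm _ _) (Equiv.refl _)).trans
    (Equiv.sumAssoc _ _ _))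

/-- Over a local ring, a matrix of odd size with unit half-discriminant is congruent to
`c x² ⊥ T` with `c` a unit and `T` regular. -/
theorem local_odd_dec (m : ℕ) : ∀ (A : Type u) [CommRing A] [IsLocalRing A] (ι : Type) [Fintype ι]
    [DecidableEq ι], Fintype.card ι = 2 * m + 1 → ∀ (β : Matrix ι ι A), IsUnit (hd β) →
    ∃ (κ : Type) (_ : Fintype κ) (_ : DecidableEq κ) (c : A) (T : Matrix κ κ A),
      IsUnit c ∧ IsUnit (T + Tᵀ).det ∧
      Cong β (Matrix.fromBlocks (c • (1 : Matrix (Fin 1) (Fin 1) A)) 0 0 T) := by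
  induction m with
  | zero =>
    intro A _ _ ι _ _ hcard β hβ
    obtain ⟨hu⟩ := Fintype.card_eq_one_iff_nonempty_unique.mp (by simpa using hcard)
    haveI := hu
    rw [hd_unique] at hβ
    refine ⟨Empty, inferInstance, inferInstance, β default default, 0, hβ, ?_, ?_⟩
    · rw [Matrix.det_isEmpty]; exact isUnit_one
    · refine (Cong.of_submatrix β ((Equiv.sumEmpty (Fin 1) Empty).trans
        (Equiv.ofUnique (Fin 1) ι))).trans (Cong.of_alt ?_)
      have : β.submatrix ((Equiv.sumEmpty (Fin 1) Empty).trans (Equiv.ofUnique (Fin 1) ι))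
          ((Equiv.sumEmpty (Fin 1) Empty).trans (Equiv.ofUnique (Fin 1) ι)) =
          Matrix.fromBlocks (β default default • (1 : Matrix (Fin 1) (Fin 1) A)) 0 0 0 := by
        ext (a | a) (b | b)
        · have ha : a = 0 := Subsingleton.elim _ _
          have hb : b = 0 := Subsingleton.elim _ _
          subst ha hb
          simp only [Matrix.submatrix_apply, Matrix.fromBlocks_apply₁₁, Matrix.smul_apply,
            Matrix.one_apply_eq, smul_eq_mul, mul_one]
          congr 1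
        · exact (IsEmpty.false b).elim
        · exact (IsEmpty.false a).elim
        · exact (IsEmpty.false a).elim
      rw [this, sub_self]
      exact Alt.zero
  | succ m ih =>
    intro A _ _ ι _ _ hcard β hβ
    have hn : Odd (Fintype.card ι) := ⟨m + 1, by omega⟩
    have hβp : hd β ∉ maximalIdeal A := fun h => (mem_maximalIdeal _).mp h hβ
    obtain ⟨i₀, w, j₀, hj₀, hwj, hD⟩ := exists_disc_notMem_odd (maximalIdeal A) hn (by omega) β hβp
    obtain ⟨h, i, j, hdet, hij, ha, hpd⟩ := normalize_of_disc (maximalIdeal A) β i₀ w j₀ hj₀ hwj hD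
    set β₁ := hᵀ * β * h with hβ₁
    have hβ₁hd : hd β₁ = hd β := by rw [hβ₁, hd_conj hn, hdet, one_pow, one_mul]
    set M := β₁.submatrix (planeEquiv i j hij) (planeEquiv i j hij) with hM
    have hMhd : hd M = hd β := by rw [hM, hd_submatrix hn, hβ₁hd]
    have hMb : M = Matrix.fromBlocks M.toBlocks₁₁ M.toBlocks₁₂ M.toBlocks₂₁ M.toBlocks₂₂ :=
      (fromBlocks_toBlocks M).symm
    have e00 : M.toBlocks₁₁ 0 0 = β₁ i i := rfl
    have e01 : M.toBlocks₁₁ 0 1 = β₁ i j := rfl
    have e10 : M.toBlocks₁₁ 1 0 = β₁ j i := rfl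
    have e11 : M.toBlocks₁₁ 1 1 = β₁ j j := rfl
    have hpdu : IsUnit (pdisc β₁ i j) := by
      by_contra hnu
      exact hpd ((mem_maximalIdeal _).mpr hnu)
    have hP : IsUnit (M.toBlocks₁₁ + M.toBlocks₁₁ᵀ).det := by
      have : (M.toBlocks₁₁ + M.toBlocks₁₁ᵀ).det = -pdisc β₁ i j := by
        rw [Matrix.det_fin_two]
        simp only [Matrix.add_apply, Matrix.transpose_apply, e00, e01, e10, e11, pdisc]
        ring
      rw [this]
      exact hpdu.neg
    obtain ⟨T', H, hH, hAlt⟩ := schur_step M.toBlocks₁₁ M.toBlocks₁₂ M.toBlocks₂₁ M.toBlocks₂₂ hP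
    rw [← hMb] at hAlt
    have hcard' : Fintype.card {k : ι // k ≠ i ∧ k ≠ j} = 2 * m + 1 := by
      have := Fintype.card_congr (planeEquiv i j hij)
      rw [Fintype.card_sum, Fintype.card_fin] at this
      omega
    have hn' : Odd (Fintype.card {k : ι // k ≠ i ∧ k ≠ j}) := ⟨m, hcard'⟩
    have hn2 : Odd (Fintype.card (Fin 2 ⊕ {k : ι // k ≠ i ∧ k ≠ j})) := by
      rw [Fintype.card_congr (planeEquiv i j hij)]; exact hn
    have hT' : IsUnit (hd T') := by
      have h1 : hd (Hᵀ * M * H) = (M.toBlocks₁₁ + M.toBlocks₁₁ᵀ).det * hd T' := by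
        rw [hd_alt hn2 hAlt, hd_fromBlocks_plane hn']
      rw [hd_conj hn2, hH, one_pow, one_mul, hMhd] at h1
      rw [h1] at hβ
      exact isUnit_of_mul_isUnit_right hβ
    obtain ⟨κ, _, _, c, T, hc, hT, hcong⟩ := ih A _ hcard' T' hT'
    refine ⟨Fin 2 ⊕ κ, inferInstance, inferInstance, c, Matrix.fromBlocks M.toBlocks₁₁ 0 0 T, hc,
      ?_, ?_⟩
    · have : Matrix.fromBlocks M.toBlocks₁₁ 0 0 T + (Matrix.fromBlocks M.toBlocks₁₁ 0 0 T)ᵀ =
          Matrix.fromBlocks (M.toBlocks₁₁ + M.toBlocks₁₁ᵀ) 0 0 (T + Tᵀ) := by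
        rw [fromBlocks_transpose, fromBlocks_add]
        simp
      rw [this, det_fromBlocks_zero₂₁]
      exact hP.mul hT
    · have c1 : Cong β β₁ := Cong.of_square β h (by rw [hdet]; exact isUnit_one)
      have c2 : Cong β₁ M := Cong.of_submatrix β₁ (planeEquiv i j hij)
      have c3 : Cong M (Hᵀ * M * H) := Cong.of_square M H (by rw [hH]; exact isUnit_one)
      have c4 : Cong (Hᵀ * M * H) (Matrix.fromBlocks M.toBlocks₁₁ 0 0 T') := Cong.of_alt hAlt
      have c5 := Cong.fromBlocks_right M.toBlocks₁₁ hcong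
      have c6 := Cong.of_submatrix (Matrix.fromBlocks M.toBlocks₁₁ 0 0
        (Matrix.fromBlocks (c • (1 : Matrix (Fin 1) (Fin 1) A)) 0 0 T)) (lineAssoc κ)
      have e6 : (Matrix.fromBlocks M.toBlocks₁₁ 0 0
          (Matrix.fromBlocks (c • (1 : Matrix (Fin 1) (Fin 1) A)) 0 0 T)).submatrix
          (lineAssoc κ) (lineAssoc κ) =
          Matrix.fromBlocks (c • (1 : Matrix (Fin 1) (Fin 1) A)) 0 0
            (Matrix.fromBlocks M.toBlocks₁₁ 0 0 T) := by
        ext (a | a | a) (b | b | b) <;> simp [lineAssoc]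
      rw [e6] at c6
      exact c1.trans (c2.trans (c3.trans (c4.trans (c5.trans c6))))

end localdec

end Groth.Agent.Helper7.QSplit
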