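import Groth.Agent.Helper7.QOddD
import Groth.Agent.Helper8.HalfDisc

/-!
# Odd rank: bridge from matrices to `QuadGrp` quadratic forms
-/

universe u

namespace Groth.Agent.Helper7.QSplit

open Matrix QuadGrp TensorProduct
open Groth.Agent.Helper8.HalfDisc

section bridge

variable {R : Type*} [CommRing R] {n : ℕ}

/-- The upper triangular coefficient matrix. -/
def betaMat (a : Sym2 (Fin n) → R) : Matrix (Fin n) (Fin n) R := Matrix.of (beta a)

lemma betaMat_add_transpose (a : Sym2 (Fin n) → R) : betaMat a + (betaMat a)ᵀ = pol a := by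
  ext k l
  simp only [betaMat, Matrix.add_apply, Matrix.transpose_apply, Matrix.of_apply, beta, pol]
  rcases lt_trichotomy k l with h | h | h
  · have h1 : k ≠ l := h.ne
    have h2 : ¬ l < k := h.asymm
    rw [if_neg h1, if_pos h, if_neg (Ne.symm h1), if_neg h2, if_neg h1, add_zero]
  · subst h
    rw [if_pos rfl, if_pos rfl]; ring
  · have h1 : l ≠ k := h.ne
    have h2 : ¬ k < l := h.asymm
    rw [if_neg (Ne.symm h1), if_neg h2, if_neg h1, if_pos h, if_neg (Ne.symm h1), zero_add,
      Sym2.eq_swap]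

lemma map_betaMat {R' : Type*} [CommRing R'] (ψ : R →+* R') (a : Sym2 (Fin n) → R) :
    (betaMat a).map ψ = betaMat (ψ ∘ a) := by
  ext k l
  simp only [betaMat, Matrix.map_apply, Matrix.of_apply]
  exact map_beta ψ a k l

theorem hd_betaMat (hn : Odd n) (a : Sym2 (Fin n) → R) : hd (betaMat a) = H a := by
  have hn' : Odd (Fintype.card (Fin n)) := by rwa [Fintype.card_fin]
  let aU : Sym2 (Fin n) → MvPolynomial (Sym2 (Fin n)) ℤ := fun s => MvPolynomial.X s
  let ψ : MvPolynomial (Sym2 (Fin n)) ℤ →+* R := MvPolynomial.eval₂Hom (Int.castRingHom R) a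
  have ha : ψ ∘ aU = a := by
    funext s
    change MvPolynomial.eval₂ _ _ (MvPolynomial.X _) = _
    rw [MvPolynomial.eval₂_X]
  have key : hd (betaMat aU) = H aU := by
    apply mul_left_cancel₀ (two_ne_zero : (2 : MvPolynomial (Sym2 (Fin n)) ℤ) ≠ 0)
    rw [two_mul_hd hn', betaMat_add_transpose, ← D_eq_det, D_eq_two_H hn]
  have h := congrArg ψ key
  rw [map_hd, map_betaMat, map_H, ha] at h
  exact h

/-- A quadratic form on `Rⁿ` is given by its upper triangular coefficient matrix. -/
theorem apply_eq_qf (Q : QuadraticForm R (Fin n → R)) (x : Fin n → R) :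
    Q x = x ⬝ᵥ betaMat (coeffs (Pi.basisFun R (Fin n)) (LinearEquiv.refl R R) Q) *ᵥ x := by
  have hQ := QuadraticMap.toQuadraticMap_toBilin Q (Pi.basisFun R (Fin n))
  conv_lhs => rw [← hQ, LinearMap.BilinMap.toQuadraticMap_apply]
  have hx : x = ∑ i, x i • (Pi.basisFun R (Fin n)) i := by
    have := (Pi.basisFun R (Fin n)).sum_repr x
    simpa using this.symm
  conv_lhs => rw [hx]
  simp only [map_sum, LinearMap.sum_apply, map_smul, LinearMap.smul_apply,
    QuadraticMap.toBilin_apply, smul_eq_mul]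
  simp only [dotProduct, Matrix.mulVec, Finset.mul_sum]
  rw [Finset.sum_comm]
  refine Finset.sum_congr rfl fun k _ => Finset.sum_congr rfl fun l _ => ?_
  have : (if k = l then Q ((Pi.basisFun R (Fin n)) k) else
      if k < l then QuadraticMap.polar Q ((Pi.basisFun R (Fin n)) k) ((Pi.basisFun R (Fin n)) l)
      else 0) =
      betaMat (coeffs (Pi.basisFun R (Fin n)) (LinearEquiv.refl R R) Q) k l := by
    simp only [betaMat, Matrix.of_apply, beta]
    rw [coeffs_mk]
    by_cases hkl : k = l
    · subst hkl; simp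
    · simp [hkl]
  rw [this]
  ring

end bridge

section isom

variable {R : Type u} [CommRing R] (A : Type u) [CommRing A] [Algebra R A] {n : ℕ}

/-- The comparison `A ⊗ Rⁿ ≃ Aⁿ`. -/
noncomputable def phi : A ⊗[R] (Fin n → R) ≃ₗ[A] (Fin n → A) :=
  TensorProduct.piScalarRight R A A (Fin n)

lemma phi_one_tmul (x : Fin n → R) :
    phi A (1 ⊗ₜ[R] x) = fun j => algebraMap R A (x j) := by
  rw [phi, TensorProduct.piScalarRight_apply, TensorProduct.piScalarRightHom_tmul]
  funext j
  rw [Algebra.smul_def, mul_one]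

theorem baseChangeForm_eq (Q : QuadraticForm R (Fin n → R)) (QA : QuadraticForm A (Fin n → A))
    (h : ∀ x : Fin n → R, QA (fun j => algebraMap R A (x j)) = algebraMap R A (Q x)) :
    baseChangeForm A Q = QA.comp (phi A).toLinearMap := by
  apply _root_.baseChange_ext
  intro x
  rw [baseChangeForm, LinearMap.compQuadraticMap_apply, baseChange_tmul, QuadraticMap.comp_apply]
  change _ = QA (phi A (1 ⊗ₜ[R] x))
  rw [phi_one_tmul, h]
  simp [Algebra.smul_def]

/-- The quadratic form of a matrix. -/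
noncomputable def matQF (β : Matrix (Fin n) (Fin n) A) : QuadraticForm A (Fin n → A) :=
  LinearMap.BilinMap.toQuadraticMap (Matrix.toLinearMap₂' A β : LinearMap.BilinMap A (Fin n → A) A)

lemma matQF_apply (β : Matrix (Fin n) (Fin n) A) (x : Fin n → A) :
    matQF A β x = x ⬝ᵥ β *ᵥ x := by
  rw [matQF, LinearMap.BilinMap.toQuadraticMap_apply, Matrix.toLinearMap₂'_apply']

lemma matQF_map (β : Matrix (Fin n) (Fin n) R) (x : Fin n → R) :
    matQF A (β.map (algebraMap R A)) (fun j => algebraMap R A (x j)) =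
      algebraMap R A (x ⬝ᵥ β *ᵥ x) := by
  rw [matQF_apply, RingHom.map_dotProduct]
  congr 1
  funext i
  exact (RingHom.map_mulVec (algebraMap R A) β x i).symm

lemma splitForm_apply_odd (S : Type u) [CommRing S] (m : ℕ) (x : Fin (2 * m + 1) → S) :
    splitForm S (2 * m + 1) x = oddSplitFun m x := by
  have h1 : (2 * m + 1) % 2 = 1 := by omega
  have h2 : (2 * m + 1) / 2 = m := by omega
  rw [splitForm, _root_.add_apply, dif_pos h1, _root_.sum_apply, oddSplitFun,
    add_comm]
  congr 1
  · simp [QuadraticMap.comp_apply, QuadraticMap.sq_apply, sq]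
  · refine Fintype.sum_equiv (finCongr h2) _ _ (fun i => ?_)
    simp only [QuadraticMap.linMulLin_apply, LinearMap.proj_apply, finCongr_apply, Fin.val_cast]
    congr 2 <;> exact Fin.ext (by simp)

lemma oddSplitFun_map (m : ℕ) (x : Fin (2 * m + 1) → R) :
    oddSplitFun m (fun j => algebraMap R A (x j)) = algebraMap R A (oddSplitFun m x) := by
  simp [oddSplitFun]

theorem main (R : Type u) [CommRing R] (m : ℕ) (Q : QuadraticForm R (Fin (2 * m + 1) → R))
    (hQ : IsSemiregular (Pi.basisFun R (Fin (2 * m + 1))) (LinearEquiv.refl R R) Q) :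
    ∃ (A : Type u) (_ : CommRing A) (_ : Algebra R A), Module.FaithfullyFlat R A ∧
      Algebra.FinitePresentation R A ∧
      Nonempty ((baseChangeForm A Q).IsometryEquiv
        (baseChangeForm A (splitForm R (2 * m + 1)))) := by
  set a := coeffs (Pi.basisFun R (Fin (2 * m + 1))) (LinearEquiv.refl R R) Q with ha
  have hn : Odd (2 * m + 1) := ⟨m, rfl⟩
  have hβ : IsUnit (hd (betaMat a)) := by rw [hd_betaMat hn]; exact hQ
  obtain ⟨A, _, _, hff, hfp, g, g', hgg', hgx⟩ := exists_fppf_cover R m (betaMat a) hβ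
  refine ⟨A, inferInstance, inferInstance, hff, hfp, ⟨?_⟩⟩
  have hg'g : g' * g = 1 := mul_eq_one_comm.mp hgg'
  have e1 : baseChangeForm A Q =
      (matQF A ((betaMat a).map (algebraMap R A))).comp (phi A).toLinearMap :=
    baseChangeForm_eq A Q _ (fun x => by rw [matQF_map, ← apply_eq_qf])
  have e2 : baseChangeForm A (splitForm R (2 * m + 1)) =
      (splitForm A (2 * m + 1)).comp (phi A).toLinearMap :=
    baseChangeForm_eq A _ _ (fun x => by
      rw [splitForm_apply_odd, splitForm_apply_odd, oddSplitFun_map])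
  let L : (Fin (2 * m + 1) → A) ≃ₗ[A] (Fin (2 * m + 1) → A) :=
    LinearEquiv.ofLinearMap (Matrix.toLin' g') (Matrix.toLin' g)
      (by rw [← Matrix.toLin'_mul, hg'g, Matrix.toLin'_one])
      (by rw [← Matrix.toLin'_mul, hgg', Matrix.toLin'_one])
  refine { toLinearEquiv := ((phi A).trans L).trans (phi A).symm, map_app' := fun z => ?_ }
  rw [e1, e2]
  simp only [QuadraticMap.comp_apply, LinearEquiv.coe_coe, LinearEquiv.trans_apply,
    LinearEquiv.apply_symm_apply, LinearEquiv.toFun_eq_coe]
  rw [splitForm_apply_odd, ← hgx, matQF_apply]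
  have : g *ᵥ (L (phi A z)) = phi A z := by
    change g *ᵥ (g' *ᵥ (phi A z)) = phi A z
    rw [Matrix.mulVec_mulVec, hgg', Matrix.one_mulVec]
  rw [this]

end isom

end Groth.Agent.Helper7.QSplit
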