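import Mathlib
import Groth.Agent.Helper7.ClfS
import Groth.Agent.Helper7.ClfT
import Groth.Agent.Helper7.QOddE

/-!
# Odd rank over a local ring: an adapted basis `w, eᵢ, fᵢ`
-/

set_option autoImplicit false
universe u v
open QuadraticMap
open Matrix

namespace Groth.Agent.Helper7.Clf

open Groth.Agent.Helper7.QSplit

variable {R : Type u} [CommRing R] {M : Type v} [AddCommGroup M] [Module R M]

/-- A basis of `M` adapted to a decomposition `R w ⊥ (normalized planes)`. -/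
structure OddBasis (Q : QuadraticForm R M) (κ : Type*) where
  b : Module.Basis (Unit ⊕ (κ ⊕ κ)) R M
  unit_w : IsUnit (Q (b (Sum.inl ())))
  ortho_w : ∀ s, polar Q (b (Sum.inl ())) (b (Sum.inr s)) = 0
  unit_e : ∀ i, IsUnit (Q (b (Sum.inr (Sum.inl i))))
  polar_ef : ∀ i, polar Q (b (Sum.inr (Sum.inl i))) (b (Sum.inr (Sum.inr i))) = 1
  disc : ∀ i, IsUnit (1 - 4 * Q (b (Sum.inr (Sum.inl i))) * Q (b (Sum.inr (Sum.inr i))))
  ortho_ee : ∀ i j, i ≠ j → polar Q (b (Sum.inr (Sum.inl i))) (b (Sum.inr (Sum.inl j))) = 0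
  ortho_ef : ∀ i j, i ≠ j → polar Q (b (Sum.inr (Sum.inl i))) (b (Sum.inr (Sum.inr j))) = 0
  ortho_ff : ∀ i j, i ≠ j → polar Q (b (Sum.inr (Sum.inr i))) (b (Sum.inr (Sum.inr j))) = 0

section bridge

variable {n : ℕ}

theorem coeffs_comp_equivFun (b₀ : Module.Basis (Fin n) R M) (Q : QuadraticForm R M) :
    QuadGrp.coeffs (Pi.basisFun R (Fin n)) (LinearEquiv.refl R R)
      (Q.comp (b₀.equivFun.symm : (Fin n → R) →ₗ[R] M)) =
    QuadGrp.coeffs b₀ (LinearEquiv.refl R R) Q := by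
  have hb : ∀ i, b₀.equivFun.symm ((Pi.basisFun R (Fin n)) i) = b₀ i := by
    intro i
    rw [Pi.basisFun_apply, Module.Basis.equivFun_symm_apply]
    simp [Pi.single_apply]
  funext s
  induction s using Sym2.ind with
  | _ i j =>
    rw [QuadGrp.coeffs_mk, QuadGrp.coeffs_mk]
    simp only [QuadraticMap.comp_apply, LinearEquiv.coe_coe, polar, map_add, hb]

/-- the value of `Q` in coordinates -/
theorem apply_equivFun_symm (b₀ : Module.Basis (Fin n) R M) (Q : QuadraticForm R M)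
    (x : Fin n → R) :
    Q (b₀.equivFun.symm x) =
      x ⬝ᵥ betaMat (QuadGrp.coeffs b₀ (LinearEquiv.refl R R) Q) *ᵥ x := by
  have := apply_eq_qf (Q.comp (b₀.equivFun.symm : (Fin n → R) →ₗ[R] M)) x
  rw [coeffs_comp_equivFun] at this
  exact this

theorem hd_betaMat_coeffs (hn : Odd n) (b₀ : Module.Basis (Fin n) R M) (Q : QuadraticForm R M) :
    hd (betaMat (QuadGrp.coeffs b₀ (LinearEquiv.refl R R) Q)) =
      QuadGrp.halfDisc b₀ (LinearEquiv.refl R R) Q :=
  hd_betaMat hn _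

end bridge

section decomp

/-- `R × (κ → R) ≃ (Fin 1 ⊕ κ → R)` -/
def lineProd (κ' : Type*) : (R × (κ' → R)) ≃ₗ[R] (Fin 1 ⊕ κ' → R) where
  toFun p := Sum.elim (fun _ => p.1) p.2
  invFun y := (y (Sum.inl 0), fun k => y (Sum.inr k))
  map_add' p q := by ext (a | a) <;> simp
  map_smul' r p := by ext (a | a) <;> simp
  left_inv p := by simp
  right_inv y := by
    ext (a | a)
    · have : a = 0 := Subsingleton.elim _ _
      subst this; rfl
    · rfl

theorem qf_line {κ' : Type*} [Fintype κ'] [DecidableEq κ'] (c : R) (T : Matrix κ' κ' R)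
    (y : Fin 1 ⊕ κ' → R) :
    y ⬝ᵥ (Matrix.fromBlocks (c • (1 : Matrix (Fin 1) (Fin 1) R)) 0 0 T) *ᵥ y =
      c * y (Sum.inl 0) ^ 2 + (fun k => y (Sum.inr k)) ⬝ᵥ T *ᵥ (fun k => y (Sum.inr k)) := by
  simp [dotProduct, mulVec, Fintype.sum_sum_type, Matrix.one_apply]
  ring

variable [IsLocalRing R]

/-- The decomposition `M = R w ⊥ M'` in coordinates. -/
theorem exists_line_decomp (m : ℕ) (b₀ : Module.Basis (Fin (2 * m + 1)) R M)
    (Q : QuadraticForm R M)
    (hQ : QuadGrp.IsSemiregular b₀ (LinearEquiv.refl R R) Q) :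
    ∃ (κ' : Type) (_ : Fintype κ') (_ : DecidableEq κ') (c : R) (T : Matrix κ' κ' R)
      (Lp : (R × (κ' → R)) ≃ₗ[R] M), IsUnit c ∧ IsUnit (T + Tᵀ).det ∧ Fintype.card κ' = 2 * m ∧
      ∀ t y, Q (Lp (t, y)) = c * t ^ 2 + y ⬝ᵥ T *ᵥ y := by
  have hn : Odd (2 * m + 1) := ⟨m, rfl⟩
  set β := betaMat (QuadGrp.coeffs b₀ (LinearEquiv.refl R R) Q) with hβ
  have hβu : IsUnit (hd β) := by
    rw [hβ, hd_betaMat_coeffs hn]; exact hQ
  obtain ⟨κ', _, _, c, T, hc, hT, g, g', h1, h2, ha⟩ :=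
    local_odd_dec m R (Fin (2 * m + 1)) (by simp) β hβu
  have hcard := Matrix.square_of_invertible g g' h1 h2
  simp only [Fintype.card_sum, Fintype.card_fin] at hcard
  let G : (Fin 1 ⊕ κ' → R) ≃ₗ[R] (Fin (2 * m + 1) → R) :=
    LinearEquiv.ofLinearMap (Matrix.toLin' g) (Matrix.toLin' g')
      (by rw [← Matrix.toLin'_mul, h1, Matrix.toLin'_one])
      (by rw [← Matrix.toLin'_mul, h2, Matrix.toLin'_one])
  refine ⟨κ', inferInstance, inferInstance, c, T,
    ((lineProd κ').trans G).trans b₀.equivFun.symm, hc, hT, by omega, fun t y => ?_⟩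
  have e1 : (((lineProd κ').trans G).trans b₀.equivFun.symm) (t, y) =
      b₀.equivFun.symm (g *ᵥ (lineProd κ' (t, y))) := rfl
  rw [e1, apply_equivFun_symm, ← hβ, qf_conj]
  have h3 : gᵀ * β * g = (gᵀ * β * g -
      Matrix.fromBlocks (c • (1 : Matrix (Fin 1) (Fin 1) R)) 0 0 T) +
      Matrix.fromBlocks (c • (1 : Matrix (Fin 1) (Fin 1) R)) 0 0 T := by abel
  rw [h3, Matrix.add_mulVec, dotProduct_add, ha.qf, zero_add, qf_line]
  rfl

/-- a quadratic form on `κ → R` given by a matrix with invertible polar matrix is regular -/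
theorem regular_of_matrix {κ' : Type*} [Fintype κ'] [DecidableEq κ'] (T : Matrix κ' κ' R)
    (hT : IsUnit (T + Tᵀ).det) (q : QuadraticForm R (κ' → R)) (hq : ∀ y, q y = y ⬝ᵥ T *ᵥ y) :
    Function.Bijective (polarBilin q) := by
  have hpol : ∀ y y' : κ' → R, polar q y y' = y ⬝ᵥ (T + Tᵀ) *ᵥ y' := by
    intro y y'
    rw [polar, hq, hq, hq, Matrix.add_mulVec, dotProduct_add, Matrix.mulVec_add,
      add_dotProduct, dotProduct_add, dotProduct_add,
      dotProduct_mulVec y Tᵀ, vecMul_transpose, dotProduct_comm (T *ᵥ y) y']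
    ring
  rw [regular_iff_exists_dual q (Pi.basisFun R κ')]
  refine ⟨fun j => (T + Tᵀ)⁻¹ *ᵥ (Pi.single j 1), fun i j => ?_⟩
  rw [hpol, Matrix.mulVec_mulVec, Matrix.mul_nonsing_inv _ hT, Matrix.one_mulVec,
    Pi.basisFun_apply, single_dotProduct, one_mul, Pi.single_apply]

/-- Existence of an adapted basis for a semiregular form of odd rank over a local ring. -/
theorem exists_oddBasis (m : ℕ) (b₀ : Module.Basis (Fin (2 * m + 1)) R M)
    (Q : QuadraticForm R M)
    (hQ : QuadGrp.IsSemiregular b₀ (LinearEquiv.refl R R) Q) :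
    ∃ (κ : Type) (_ : Fintype κ) (_ : DecidableEq κ), Nonempty (OddBasis Q κ) := by
  obtain ⟨κ', _, _, c, T, Lp, hc, hT, hcard, hLp⟩ := exists_line_decomp m b₀ Q hQ
  let emb : (κ' → R) →ₗ[R] M := Lp.toLinearMap ∘ₗ LinearMap.inr R R (κ' → R)
  let QT : QuadraticForm R (κ' → R) := Q.comp emb
  have hQT : ∀ y, QT y = y ⬝ᵥ T *ᵥ y := by
    intro y
    change Q (Lp (0, y)) = _
    rw [hLp]; ring
  have hreg := regular_of_matrix T hT QT hQT
  have hrk : Module.finrank R (κ' → R) = 2 * m := by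
    rw [Module.finrank_fintype_fun_eq_card, hcard]
  obtain ⟨κ, _, _, ⟨pb⟩⟩ := exists_planeBasis_aux m (κ' → R) QT hreg hrk
  have hQLp : ∀ t y, Q (Lp (t, y)) = c * t ^ 2 + QT y := by
    intro t y; rw [hLp, hQT]
  have hpolar : ∀ t y t' y', polar Q (Lp (t, y)) (Lp (t', y')) =
      2 * c * t * t' + polar QT y y' := by
    intro t y t' y'
    rw [polar, ← map_add, Prod.mk_add_mk, hQLp, hQLp, hQLp, polar]
    ring
  let b : Module.Basis (Unit ⊕ (κ ⊕ κ)) R M := ((Module.Basis.singleton Unit R).prod pb.b).map Lp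
  have hbl : b (Sum.inl ()) = Lp (1, 0) := by
    simp [b, Module.Basis.prod_apply]
  have hbr : ∀ s, b (Sum.inr s) = Lp (0, pb.b s) := by
    intro s
    simp [b, Module.Basis.prod_apply]
  refine ⟨κ, inferInstance, inferInstance, ⟨{
    b := b
    unit_w := by rw [hbl, hQLp, map_zero]; simpa using hc
    ortho_w := fun s => by rw [hbl, hbr, hpolar]; simp [polar]
    unit_e := fun i => by rw [hbr, hQLp]; simpa using pb.unit_e i
    polar_ef := fun i => by rw [hbr, hbr, hpolar]; simpa using pb.polar_ef i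
    disc := fun i => by rw [hbr, hbr, hQLp, hQLp]; simpa using pb.disc i
    ortho_ee := fun i j hij => by rw [hbr, hbr, hpolar]; simpa using pb.ortho_ee i j hij
    ortho_ef := fun i j hij => by rw [hbr, hbr, hpolar]; simpa using pb.ortho_ef i j hij
    ortho_ff := fun i j hij => by rw [hbr, hbr, hpolar]; simpa using pb.ortho_ff i j hij }⟩⟩

end decomp

end Groth.Agent.Helper7.Clf
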