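import Mathlib
import Groth.Agent.Helper7.ClfU

/-!
# Odd rank: the central element `ζ = w δ` and the centre of the Clifford algebra
-/

set_option autoImplicit false
universe u v
open QuadraticMap CliffordAlgebra

namespace Groth.Agent.Helper7.Clf

section Abstract

variable {R : Type*} [CommRing R] {A : Type*} [Ring A] [Algebra R A] {κ : Type*}
variable (E F : κ → A) (W : A)
variable (hWE : ∀ i, W * E i = -(E i * W)) (hWF : ∀ i, W * F i = -(F i * W))

include hWE hWF in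
theorem W_zz (i : κ) : W * zz E F i = zz E F i * W := by
  rw [zz, ← mul_assoc, hWE, neg_mul, mul_assoc, hWF, mul_neg, neg_neg, mul_assoc]

include hWE hWF in
theorem W_dd (i : κ) : W * dd E F i = dd E F i * W := by
  have h := W_zz E F W hWE hWF i
  rw [zz] at h
  have e1 : W * dd E F i = W - 2 * (W * (E i * F i)) := by rw [dd]; noncomm_ring
  rw [e1, h, dd]; noncomm_ring

include hWE hWF in
theorem W_zrec (l : List κ) : W * zrec E F l = zrec E F l * W := by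
  induction l with
  | nil => simp [zrec]
  | cons i l ih =>
    rw [zrec, mul_add, add_mul, W_zz E F W hWE hWF, ← mul_assoc, W_dd E F W hWE hWF, mul_assoc, ih,
      mul_assoc]

include hWE hWF in
theorem W_drec (l : List κ) : W * drec E F l = drec E F l * W := by
  rw [← one_sub_two_zrec]
  have h := W_zrec E F W hWE hWF l
  have e1 : W * (1 - 2 * zrec E F l) = W - 2 * (W * zrec E F l) := by noncomm_ring
  rw [e1, h]; noncomm_ring

end Abstract

section Concrete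

variable {R : Type u} [CommRing R] {M : Type v} [AddCommGroup M] [Module R M]
variable {Q : QuadraticForm R M} {κ : Type*} (ob : OddBasis Q κ)

namespace OddBasis

/-- `w` -/
noncomputable def w : M := ob.b (Sum.inl ())
/-- `eᵢ` -/
noncomputable def e (i : κ) : M := ob.b (Sum.inr (Sum.inl i))
/-- `fᵢ` -/
noncomputable def f (i : κ) : M := ob.b (Sum.inr (Sum.inr i))

/-- `ι w` -/
noncomputable def cW : CliffordAlgebra Q := ι Q ob.w
/-- `ι eᵢ` -/
noncomputable def cE (i : κ) : CliffordAlgebra Q := ι Q (ob.e i)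
/-- `ι fᵢ` -/
noncomputable def cF (i : κ) : CliffordAlgebra Q := ι Q (ob.f i)

theorem anti_of_polar_eq_zero (x y : M) (h : polar Q x y = 0) :
    ι Q x * ι Q y = -(ι Q y * ι Q x) := by
  apply eq_neg_of_add_eq_zero_left
  rw [ι_mul_ι_add_swap, h, map_zero]

theorem cE_sq (i : κ) : ob.cE i * ob.cE i = algebraMap R _ (Q (ob.e i)) := ι_sq_scalar Q _
theorem cF_sq (i : κ) : ob.cF i * ob.cF i = algebraMap R _ (Q (ob.f i)) := ι_sq_scalar Q _
theorem cW_sq : ob.cW * ob.cW = algebraMap R _ (Q ob.w) := ι_sq_scalar Q _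

theorem cE_cF (i : κ) : ob.cE i * ob.cF i + ob.cF i * ob.cE i = 1 := by
  rw [cE, cF, ι_mul_ι_add_swap]
  change algebraMap R _ (polar Q (ob.b _) (ob.b _)) = 1
  rw [ob.polar_ef, map_one]

theorem cE_cE (i j : κ) (h : i ≠ j) : ob.cE i * ob.cE j = -(ob.cE j * ob.cE i) :=
  anti_of_polar_eq_zero _ _ (ob.ortho_ee i j h)

theorem cE_cF_of_ne (i j : κ) (h : i ≠ j) : ob.cE i * ob.cF j = -(ob.cF j * ob.cE i) :=
  anti_of_polar_eq_zero _ _ (ob.ortho_ef i j h)

theorem cF_cF (i j : κ) (h : i ≠ j) : ob.cF i * ob.cF j = -(ob.cF j * ob.cF i) :=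
  anti_of_polar_eq_zero _ _ (ob.ortho_ff i j h)

theorem cW_cE (i : κ) : ob.cW * ob.cE i = -(ob.cE i * ob.cW) :=
  anti_of_polar_eq_zero _ _ (ob.ortho_w _)

theorem cW_cF (i : κ) : ob.cW * ob.cF i = -(ob.cF i * ob.cW) :=
  anti_of_polar_eq_zero _ _ (ob.ortho_w _)

variable [Fintype κ]

/-- the element `z` of the even-rank part -/
noncomputable def oz : CliffordAlgebra Q := zrec ob.cE ob.cF (Finset.univ : Finset κ).toList

/-- `δ = 1 - 2z` -/
noncomputable def oδ : CliffordAlgebra Q := drec ob.cE ob.cF (Finset.univ : Finset κ).toList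

theorem oδ_eq : ob.oδ = 1 - 2 * ob.oz := (one_sub_two_zrec _ _ _).symm

theorem oz_mem : ob.oz ∈ evenOdd Q 0 := by
  rw [oz]
  generalize (Finset.univ : Finset κ).toList = l
  induction l with
  | nil => exact Submodule.zero_mem _
  | cons i l ih =>
    rw [zrec]
    have h1 : zz ob.cE ob.cF i ∈ evenOdd Q 0 := ι_mul_ι_mem_evenOdd_zero Q _ _
    have h2 : dd ob.cE ob.cF i ∈ evenOdd Q 0 := by
      have : dd ob.cE ob.cF i = 1 - (2 : R) • zz ob.cE ob.cF i := by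
        rw [dd, zz, two_smul, two_mul]
      rw [this]
      exact Submodule.sub_mem _ (SetLike.one_mem_graded _) (Submodule.smul_mem _ _ h1)
    refine Submodule.add_mem _ h1 ?_
    have := SetLike.mul_mem_graded h2 ih
    rwa [add_zero] at this

theorem oδ_mem : ob.oδ ∈ evenOdd Q 0 := by
  have : ob.oδ = 1 - (2 : R) • ob.oz := by rw [oδ_eq, two_smul, two_mul]
  rw [this]
  exact Submodule.sub_mem _ (SetLike.one_mem_graded _) (Submodule.smul_mem _ _ ob.oz_mem)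

theorem cE_oz [DecidableEq κ] (k : κ) : ob.cE k * ob.oz = (1 - ob.oz) * ob.cE k :=
  ((zrec_comm ob.cE ob.cF ob.cE_cF ob.cE_cE ob.cE_cF_of_ne ob.cF_cF _).2
    (Finset.nodup_toList _) k (Finset.mem_toList.mpr (Finset.mem_univ k))).1

theorem cF_oz [DecidableEq κ] (k : κ) : ob.cF k * ob.oz = (1 - ob.oz) * ob.cF k :=
  ((zrec_comm ob.cE ob.cF ob.cE_cF ob.cE_cE ob.cE_cF_of_ne ob.cF_cF _).2
    (Finset.nodup_toList _) k (Finset.mem_toList.mpr (Finset.mem_univ k))).2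

theorem cE_oδ [DecidableEq κ] (k : κ) : ob.cE k * ob.oδ = -(ob.oδ * ob.cE k) := by
  have h := ob.cE_oz k
  have e1 : ob.cE k * ob.oδ = ob.cE k - 2 * (ob.cE k * ob.oz) := by rw [oδ_eq]; noncomm_ring
  rw [e1, h, oδ_eq]; noncomm_ring

theorem cF_oδ [DecidableEq κ] (k : κ) : ob.cF k * ob.oδ = -(ob.oδ * ob.cF k) := by
  have h := ob.cF_oz k
  have e1 : ob.cF k * ob.oδ = ob.cF k - 2 * (ob.cF k * ob.oz) := by rw [oδ_eq]; noncomm_ring
  rw [e1, h, oδ_eq]; noncomm_ring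

theorem cW_oδ : ob.cW * ob.oδ = ob.oδ * ob.cW := W_drec _ _ _ ob.cW_cE ob.cW_cF _

theorem cW_oz : ob.cW * ob.oz = ob.oz * ob.cW := W_zrec _ _ _ ob.cW_cE ob.cW_cF _

/-- `δ² = r` is a unit scalar -/
theorem exists_oδ_sq [DecidableEq κ] : ∃ r : Rˣ, ob.oδ * ob.oδ = algebraMap R _ (r : R) := by
  have hsq := drec_sq ob.cE ob.cF (fun i => Q (ob.e i)) (fun i => Q (ob.f i)) ob.cE_sq ob.cF_sq
    ob.cE_cF ob.cE_cE ob.cE_cF_of_ne ob.cF_cF _ (Finset.nodup_toList (Finset.univ : Finset κ))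
  have hunit : IsUnit (((Finset.univ : Finset κ).toList.map
      fun i => 1 - 4 * Q (ob.e i) * Q (ob.f i)).prod) := by
    apply List.prod_isUnit
    intro m hm
    obtain ⟨i, _, rfl⟩ := List.mem_map.mp hm
    exact ob.disc i
  obtain ⟨r, hr⟩ := hunit
  exact ⟨r, by rw [oδ, hsq, hr]⟩

/-- the central odd element `ζ = w δ` -/
noncomputable def ζ : CliffordAlgebra Q := ob.cW * ob.oδ

theorem ζ_mem : ob.ζ ∈ evenOdd Q 1 := by
  have := SetLike.mul_mem_graded (ι_mem_evenOdd_one Q ob.w) ob.oδ_mem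
  rwa [add_zero] at this

theorem ζ_comm_ι [DecidableEq κ] (v : M) : ι Q v * ob.ζ = ob.ζ * ι Q v := by
  have hlin : (LinearMap.mulRight R ob.ζ).comp (ι Q) = (LinearMap.mulLeft R ob.ζ).comp (ι Q) := by
    apply ob.b.ext
    rintro (⟨⟩ | i | i)
    · change ob.cW * (ob.cW * ob.oδ) = ob.cW * ob.oδ * ob.cW
      rw [mul_assoc, ob.cW_oδ]
    · change ob.cE i * (ob.cW * ob.oδ) = ob.cW * ob.oδ * ob.cE i
      have h1 : ob.cE i * ob.cW = -(ob.cW * ob.cE i) := by rw [ob.cW_cE, neg_neg]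
      rw [← mul_assoc, h1, neg_mul, mul_assoc, ob.cE_oδ, mul_neg, neg_neg, mul_assoc]
    · change ob.cF i * (ob.cW * ob.oδ) = ob.cW * ob.oδ * ob.cF i
      have h1 : ob.cF i * ob.cW = -(ob.cW * ob.cF i) := by rw [ob.cW_cF, neg_neg]
      rw [← mul_assoc, h1, neg_mul, mul_assoc, ob.cF_oδ, mul_neg, neg_neg, mul_assoc]
  exact LinearMap.congr_fun hlin v

theorem ζ_comm [DecidableEq κ] (y : CliffordAlgebra Q) : y * ob.ζ = ob.ζ * y :=
  comm_of_comm_ι Q ob.ζ ob.ζ_comm_ι y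

/-- `ζ² = d` is a unit scalar -/
theorem exists_ζ_sq [DecidableEq κ] : ∃ d : Rˣ, ob.ζ * ob.ζ = algebraMap R _ (d : R) := by
  obtain ⟨r, hr⟩ := ob.exists_oδ_sq
  obtain ⟨c, hc⟩ := ob.unit_w
  refine ⟨c * r, ?_⟩
  have : ob.ζ * ob.ζ = (ob.cW * ob.cW) * (ob.oδ * ob.oδ) := by
    rw [ζ, mul_assoc, ← mul_assoc ob.oδ, ← ob.cW_oδ]; noncomm_ring
  rw [this, ob.cW_sq, hr, ← map_mul, Units.val_mul, hc]
  rfl

theorem isUnit_ζ [DecidableEq κ] : IsUnit ob.ζ := by
  obtain ⟨d, hd⟩ := ob.exists_ζ_sq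
  refine ⟨⟨ob.ζ, (↑d⁻¹ : R) • ob.ζ, ?_, ?_⟩, rfl⟩
  · rw [mul_smul_comm, hd, Algebra.smul_def, ← map_mul, Units.inv_mul, map_one]
  · rw [smul_mul_assoc, hd, Algebra.smul_def, ← map_mul, Units.inv_mul, map_one]

end OddBasis

end Concrete

end Groth.Agent.Helper7.Clf
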