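import Mathlib
import Groth.Agent.Helper7.ClfV

/-!
# Odd rank: the centre of the Clifford algebra is `R ⊕ R ζ`
-/

set_option autoImplicit false
universe u v
open QuadraticMap CliffordAlgebra

namespace Groth.Agent.Helper7.Clf

variable {R : Type u} [CommRing R] {M : Type v} [AddCommGroup M] [Module R M]
variable {Q : QuadraticForm R M} {κ : Type*} [Fintype κ] [DecidableEq κ] (ob : OddBasis Q κ)

namespace OddBasis

/-- the coordinate functionals of the plane part are given by the polar form -/
theorem exists_dual_coeffs (s : κ ⊕ κ) : ∃ (i : κ) (α β : R),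
    polarBilin Q (α • ob.e i + β • ob.f i) = ob.b.coord (Sum.inr s) := by
  rcases s with i | i
  · obtain ⟨D, hD⟩ := ob.disc i
    refine ⟨i, -(2 * Q (ob.f i)) * (↑D⁻¹ : R), (↑D⁻¹ : R), ?_⟩
    apply ob.b.ext
    rintro (⟨⟩ | j | j)
    · rw [polarBilin_apply_apply, polar_add_left, polar_smul_left, polar_smul_left,
        polar_comm Q (ob.e i), polar_comm Q (ob.f i)]
      change _ • polar Q (ob.b _) (ob.b _) + _ • polar Q (ob.b _) (ob.b _) = _
      rw [ob.ortho_w, ob.ortho_w, Module.Basis.coord_apply, Module.Basis.repr_self,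
        Finsupp.single_apply]
      simp
    · rw [polarBilin_apply_apply, polar_add_left, polar_smul_left, polar_smul_left,
        Module.Basis.coord_apply, Module.Basis.repr_self, Finsupp.single_apply]
      by_cases hij : i = j
      · subst hij
        have h1 : polar Q (ob.e i) (ob.b (Sum.inr (Sum.inl i))) = 2 * Q (ob.e i) := by
          change polar Q (ob.e i) (ob.e i) = _
          rw [polar_self]; simp
        have h2 : polar Q (ob.f i) (ob.b (Sum.inr (Sum.inl i))) = 1 := by
          rw [polar_comm]; exact ob.polar_ef i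
        rw [h1, h2, if_pos rfl]
        have hDi : (D : R) * (↑D⁻¹ : R) = 1 := Units.mul_inv D
        simp only [smul_eq_mul]
        have hD' : (D : R) = 1 - 4 * Q (ob.e i) * Q (ob.f i) := hD
        linear_combination hDi - (↑D⁻¹ : R) * hD'
      · have h1 : polar Q (ob.e i) (ob.b (Sum.inr (Sum.inl j))) = 0 := ob.ortho_ee i j hij
        have h2 : polar Q (ob.f i) (ob.b (Sum.inr (Sum.inl j))) = 0 := by
          rw [polar_comm]; exact ob.ortho_ef j i (Ne.symm hij)
        rw [h1, h2, if_neg (by simpa using Ne.symm hij)]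
        simp
    · rw [polarBilin_apply_apply, polar_add_left, polar_smul_left, polar_smul_left,
        Module.Basis.coord_apply, Module.Basis.repr_self, Finsupp.single_apply]
      by_cases hij : i = j
      · subst hij
        have h1 : polar Q (ob.e i) (ob.b (Sum.inr (Sum.inr i))) = 1 := ob.polar_ef i
        have h2 : polar Q (ob.f i) (ob.b (Sum.inr (Sum.inr i))) = 2 * Q (ob.f i) := by
          change polar Q (ob.f i) (ob.f i) = _
          rw [polar_self]; simp
        rw [h1, h2, if_neg (by simp)]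
        simp only [smul_eq_mul]
        ring
      · have h1 : polar Q (ob.e i) (ob.b (Sum.inr (Sum.inr j))) = 0 := ob.ortho_ef i j hij
        have h2 : polar Q (ob.f i) (ob.b (Sum.inr (Sum.inr j))) = 0 := ob.ortho_ff i j hij
        rw [h1, h2, if_neg (by simp)]
        simp
  · obtain ⟨D, hD⟩ := ob.disc i
    refine ⟨i, (↑D⁻¹ : R), -(2 * Q (ob.e i)) * (↑D⁻¹ : R), ?_⟩
    apply ob.b.ext
    rintro (⟨⟩ | j | j)
    · rw [polarBilin_apply_apply, polar_add_left, polar_smul_left, polar_smul_left,
        polar_comm Q (ob.e i), polar_comm Q (ob.f i)]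
      change _ • polar Q (ob.b _) (ob.b _) + _ • polar Q (ob.b _) (ob.b _) = _
      rw [ob.ortho_w, ob.ortho_w, Module.Basis.coord_apply, Module.Basis.repr_self,
        Finsupp.single_apply]
      simp
    · rw [polarBilin_apply_apply, polar_add_left, polar_smul_left, polar_smul_left,
        Module.Basis.coord_apply, Module.Basis.repr_self, Finsupp.single_apply]
      by_cases hij : i = j
      · subst hij
        have h1 : polar Q (ob.e i) (ob.b (Sum.inr (Sum.inl i))) = 2 * Q (ob.e i) := by
          change polar Q (ob.e i) (ob.e i) = _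
          rw [polar_self]; simp
        have h2 : polar Q (ob.f i) (ob.b (Sum.inr (Sum.inl i))) = 1 := by
          rw [polar_comm]; exact ob.polar_ef i
        rw [h1, h2, if_neg (by simp)]
        simp only [smul_eq_mul]
        ring
      · have h1 : polar Q (ob.e i) (ob.b (Sum.inr (Sum.inl j))) = 0 := ob.ortho_ee i j hij
        have h2 : polar Q (ob.f i) (ob.b (Sum.inr (Sum.inl j))) = 0 := by
          rw [polar_comm]; exact ob.ortho_ef j i (Ne.symm hij)
        rw [h1, h2, if_neg (by simp)]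
        simp
    · rw [polarBilin_apply_apply, polar_add_left, polar_smul_left, polar_smul_left,
        Module.Basis.coord_apply, Module.Basis.repr_self, Finsupp.single_apply]
      by_cases hij : i = j
      · subst hij
        have h1 : polar Q (ob.e i) (ob.b (Sum.inr (Sum.inr i))) = 1 := ob.polar_ef i
        have h2 : polar Q (ob.f i) (ob.b (Sum.inr (Sum.inr i))) = 2 * Q (ob.f i) := by
          change polar Q (ob.f i) (ob.f i) = _
          rw [polar_self]; simp
        rw [h1, h2, if_pos rfl]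
        have hDi : (D : R) * (↑D⁻¹ : R) = 1 := Units.mul_inv D
        simp only [smul_eq_mul]
        have hD' : (D : R) = 1 - 4 * Q (ob.e i) * Q (ob.f i) := hD
        linear_combination hDi - (↑D⁻¹ : R) * hD'
      · have h1 : polar Q (ob.e i) (ob.b (Sum.inr (Sum.inr j))) = 0 := ob.ortho_ef i j hij
        have h2 : polar Q (ob.f i) (ob.b (Sum.inr (Sum.inr j))) = 0 := ob.ortho_ff i j hij
        rw [h1, h2, if_neg (by simpa using Ne.symm hij)]
        simp

theorem exists_dual_vec (s : κ ⊕ κ) : ∃ v : M, polarBilin Q v = ob.b.coord (Sum.inr s) := by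
  obtain ⟨i, α, β, h⟩ := ob.exists_dual_coeffs s
  exact ⟨_, h⟩

include ob in
/-- even elements commuting with all vectors are scalars -/
theorem exists_eq_algebraMap_of_even_comm (x : CliffordAlgebra Q) (hx0 : x ∈ evenOdd Q 0)
    (hx : ∀ v, ι Q v * x = x * ι Q v) : ∃ r : R, x = algebraMap R _ r := by
  haveI : Module.Free R M := Module.Free.of_basis ob.b
  obtain ⟨r, s, hrs⟩ := exists_eq_add_smul_of_contract Q ob.b (Sum.inl ()) x (by
    rintro (⟨⟩ | s) hk
    · exact absurd rfl hk
    · obtain ⟨v, hv⟩ := ob.exists_dual_vec s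
      rw [← hv, ← ι_mul_sub_involute_mul_ι, involute_eq_of_mem_even hx0, hx v, sub_self])
  refine ⟨r, ?_⟩
  have h1 : s • ι Q (ob.b (Sum.inl ())) = x - algebraMap R _ r := by rw [hrs]; abel
  have h2 : s • ι Q (ob.b (Sum.inl ())) = 0 := by
    apply eq_zero_of_mem_even_of_mem_odd Q
    · rw [h1]
      exact Submodule.sub_mem _ hx0 (SetLike.algebraMap_mem_graded _ _)
    · exact Submodule.smul_mem _ _ (ι_mem_evenOdd_one Q _)
  rw [hrs, h2, add_zero]

/-- the centre is spanned by `1` and `ζ` -/
theorem exists_eq_add_smul_ζ (x : CliffordAlgebra Q) (hx : ∀ v, ι Q v * x = x * ι Q v) :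
    ∃ r s : R, x = algebraMap R _ r + s • ob.ζ := by
  obtain ⟨x0, h0, x1, h1, rfl⟩ := exists_even_odd Q x
  have hsplit : ∀ v, ι Q v * x0 = x0 * ι Q v ∧ ι Q v * x1 = x1 * ι Q v := by
    intro v
    have h := hx v
    rw [mul_add, add_mul] at h
    have a1 : ι Q v * x0 - x0 * ι Q v ∈ evenOdd Q 1 :=
      Submodule.sub_mem _ (ι_mul_mem_odd Q v x0 h0) (mul_ι_mem_odd Q v x0 h0)
    have a0 : ι Q v * x1 - x1 * ι Q v ∈ evenOdd Q 0 :=
      Submodule.sub_mem _ (ι_mul_mem_even Q v x1 h1) (mul_ι_mem_even Q v x1 h1)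
    have hs : (ι Q v * x1 - x1 * ι Q v) + (ι Q v * x0 - x0 * ι Q v) = 0 := by
      rw [sub_add_sub_comm, add_comm (ι Q v * x1), add_comm (x1 * ι Q v), h, sub_self]
    obtain ⟨e0, e1⟩ := eq_zero_of_add_eq_zero Q _ _ a0 a1 hs
    exact ⟨sub_eq_zero.mp e1, sub_eq_zero.mp e0⟩
  obtain ⟨r, hr⟩ := ob.exists_eq_algebraMap_of_even_comm x0 h0 (fun v => (hsplit v).1)
  -- `x1 ζ⁻¹` is even and central
  obtain ⟨d, hd⟩ := ob.exists_ζ_sq
  have hy0 : x1 * ob.ζ ∈ evenOdd Q 0 := by
    have := SetLike.mul_mem_graded h1 ob.ζ_mem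
    rwa [show (1 : ZMod 2) + 1 = 0 from rfl] at this
  obtain ⟨s, hs⟩ := ob.exists_eq_algebraMap_of_even_comm (x1 * ob.ζ) hy0 (fun v => by
    rw [← mul_assoc, (hsplit v).2, mul_assoc, ob.ζ_comm_ι, mul_assoc])
  refine ⟨r, s * (↑d⁻¹ : R), ?_⟩
  have hx1 : x1 = (s * (↑d⁻¹ : R)) • ob.ζ := by
    have h3 : x1 * (ob.ζ * ob.ζ) = algebraMap R _ s * ob.ζ := by rw [← mul_assoc, hs]
    rw [hd] at h3
    have h4 : x1 = x1 * algebraMap R _ (d : R) * algebraMap R _ (↑d⁻¹ : R) := by
      rw [mul_assoc, ← map_mul, Units.mul_inv, map_one, mul_one]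
    rw [h4, h3, mul_smul, Algebra.smul_def, Algebra.smul_def, mul_assoc,
      ← Algebra.commutes (↑d⁻¹ : R) ob.ζ]
  rw [hr, hx1]

end OddBasis

end Groth.Agent.Helper7.Clf
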