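import Mathlib
import Groth.Agent.Helper7.ClfW

/-!
# Odd rank: the centre over a local base, and the anti-involution on its odd part
-/

set_option autoImplicit false
universe u v w
open QuadraticMap CliffordAlgebra
open scoped TensorProduct

namespace Groth.Agent.Helper7.Clf

section BaseChangeHalfDisc

variable {R : Type u} [CommRing R] {M : Type v} [AddCommGroup M] [Module R M] [Module.Free R M]

theorem coeffs_baseChange' (A : Type w) [CommRing A] [Algebra R A] {n : ℕ}
    (b : Module.Basis (Fin n) R M) (Q : QuadraticForm R M) :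
    QuadGrp.coeffs (b.baseChange A) (LinearEquiv.refl A A) (QuadGrp.baseChangeForm A Q) =
      algebraMap R A ∘ QuadGrp.coeffs b (LinearEquiv.refl R R) Q := by
  funext s
  induction s using Sym2.ind with
  | _ i j =>
    rw [QuadGrp.coeffs_mk, Function.comp_apply, QuadGrp.coeffs_mk]
    simp only [LinearEquiv.refl_apply, Module.Basis.baseChange_apply]
    split_ifs with h
    · rw [baseChangeForm_one_tmul]
    · rw [polar_baseChangeForm_one_tmul]

theorem isSemiregular_baseChange (A : Type w) [CommRing A] [Algebra R A] {n : ℕ}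
    (b : Module.Basis (Fin n) R M) (Q : QuadraticForm R M)
    (hQ : QuadGrp.IsSemiregular b (LinearEquiv.refl R R) Q) :
    QuadGrp.IsSemiregular (b.baseChange A) (LinearEquiv.refl A A) (QuadGrp.baseChangeForm A Q) := by
  have h1 : QuadGrp.halfDisc (b.baseChange A) (LinearEquiv.refl A A) (QuadGrp.baseChangeForm A Q) =
      Groth.Agent.Helper8.HalfDisc.H
        (QuadGrp.coeffs (b.baseChange A) (LinearEquiv.refl A A) (QuadGrp.baseChangeForm A Q)) := rfl
  have h2 : QuadGrp.halfDisc b (LinearEquiv.refl R R) Q =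
      Groth.Agent.Helper8.HalfDisc.H (QuadGrp.coeffs b (LinearEquiv.refl R R) Q) := rfl
  unfold QuadGrp.IsSemiregular at hQ ⊢
  rw [h1, coeffs_baseChange', ← Groth.Agent.Helper8.HalfDisc.map_H, ← h2]
  exact hQ.map _

end BaseChangeHalfDisc

section Reverse

variable {R : Type u} [CommRing R] {M : Type v} [AddCommGroup M] [Module R M]
variable {Q : QuadraticForm R M} {κ : Type*} (ob : OddBasis Q κ)

namespace OddBasis

theorem reverse_dd (i : κ) : reverse (dd ob.cE ob.cF i) = -dd ob.cE ob.cF i := by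
  have h : ob.cF i * ob.cE i = 1 - ob.cE i * ob.cF i := FE ob.cE ob.cF ob.cE_cF i
  have e1 : dd ob.cE ob.cF i = 1 - (2 : R) • (ob.cE i * ob.cF i) := by
    rw [dd, two_smul, two_mul]
  rw [e1, map_sub, map_smul, reverse.map_one, reverse.map_mul]
  change 1 - (2 : R) • (reverse (ι Q (ob.f i)) * reverse (ι Q (ob.e i))) = _
  rw [reverse_ι, reverse_ι]
  change 1 - (2 : R) • (ob.cF i * ob.cE i) = _
  rw [h, two_smul, two_smul]
  abel

theorem reverse_drec (l : List κ) (hl : l.Nodup) :
    reverse (drec ob.cE ob.cF l) = ((-1 : R) ^ l.length) • drec ob.cE ob.cF l := by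
  induction l with
  | nil => simp [drec, reverse.map_one]
  | cons i l ih =>
    rw [List.nodup_cons] at hl
    have h1 : drec ob.cE ob.cF (i :: l) = dd ob.cE ob.cF i * drec ob.cE ob.cF l := by
      rw [drec, List.map_cons, List.prod_cons, ← drec]
    rw [h1, reverse.map_mul, ih hl.2, ob.reverse_dd, smul_mul_assoc, mul_neg,
      ← dd_comm_drec ob.cE ob.cF ob.cE_cE ob.cE_cF_of_ne ob.cF_cF i l hl.1, List.length_cons,
      pow_succ, mul_smul, neg_smul, one_smul, smul_neg]

variable [Fintype κ]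

theorem reverse_oδ : reverse ob.oδ = ((-1 : R) ^ Fintype.card κ) • ob.oδ := by
  rw [oδ, ob.reverse_drec _ (Finset.nodup_toList _), Finset.length_toList, Finset.card_univ]

theorem star_ζ : star ob.ζ = ((-1 : R) ^ (Fintype.card κ + 1)) • ob.ζ := by
  rw [star_def, involute_eq_of_mem_odd ob.ζ_mem, map_neg, ζ, reverse.map_mul, ob.reverse_oδ]
  change -(_ • ob.oδ * reverse (ι Q ob.w)) = _
  rw [reverse_ι]
  change -(_ • ob.oδ * ob.cW) = _
  rw [smul_mul_assoc, ← ob.cW_oδ, pow_succ, mul_smul, neg_smul, one_smul, smul_neg]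

include ob in
theorem card_eq [Nontrivial R] (m : ℕ) (b₀ : Module.Basis (Fin (2 * m + 1)) R M) :
    Fintype.card κ = m := by
  have h1 := Module.finrank_eq_card_basis b₀
  have h2 := Module.finrank_eq_card_basis ob.b
  rw [h1] at h2
  simp only [Fintype.card_sum, Fintype.card_fin, Fintype.card_unit] at h2
  omega

end OddBasis

end Reverse

section Centre

variable {R : Type u} [CommRing R] {M : Type v} [AddCommGroup M] [Module R M]

theorem smul_ζ_eq_zero {Q : QuadraticForm R M} {κ : Type*} [Fintype κ] [DecidableEq κ]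
    (ob : OddBasis Q κ) (t : R) (h : t • ob.ζ = 0) : t = 0 := by
  haveI : Module.Free R M := Module.Free.of_basis ob.b
  obtain ⟨u, hu⟩ := ob.isUnit_ζ
  apply algebraMap_injective_of_free Q
  rw [map_zero, Algebra.algebraMap_eq_smul_one, ← Units.mul_inv u, ← smul_mul_assoc, hu, h, zero_mul]

/-- The centre of the Clifford algebra of a semiregular form of odd rank over a local ring. -/
theorem centre_odd [IsLocalRing R] (m : ℕ) (b₀ : Module.Basis (Fin (2 * m + 1)) R M)
    (Q : QuadraticForm R M) (hQ : QuadGrp.IsSemiregular b₀ (LinearEquiv.refl R R) Q) :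
    ∃ z : CliffordAlgebra Q, z ∈ Subalgebra.center R (CliffordAlgebra Q) ∧
      z ∈ CliffordAlgebra.evenOdd Q 1 ∧ IsUnit z ∧
      z * z ∈ (algebraMap R (CliffordAlgebra Q)).range ∧
      LinearIndependent R ![(1 : CliffordAlgebra Q), z] ∧
      Subalgebra.toSubmodule (Subalgebra.center R (CliffordAlgebra Q)) = Submodule.span R {1, z} := by
  classical
  obtain ⟨κ, _, _, ⟨ob⟩⟩ := exists_oddBasis m b₀ Q hQ
  haveI : Module.Free R M := Module.Free.of_basis b₀
  have hcen : ob.ζ ∈ Subalgebra.center R (CliffordAlgebra Q) :=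
    Subalgebra.mem_center_iff.mpr (fun y => ob.ζ_comm y)
  refine ⟨ob.ζ, hcen, ob.ζ_mem, ob.isUnit_ζ, ?_, ?_, ?_⟩
  · obtain ⟨d, hd⟩ := ob.exists_ζ_sq
    exact ⟨d, hd.symm⟩
  · rw [LinearIndependent.pair_iff]
    intro s t hst
    have h0 : s • (1 : CliffordAlgebra Q) ∈ evenOdd Q 0 :=
      Submodule.smul_mem _ _ (SetLike.one_mem_graded _)
    have h1 : t • ob.ζ ∈ evenOdd Q 1 := Submodule.smul_mem _ _ ob.ζ_mem
    obtain ⟨e0, e1⟩ := eq_zero_of_add_eq_zero Q _ _ h0 h1 hst
    refine ⟨?_, smul_ζ_eq_zero ob t e1⟩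
    apply algebraMap_injective_of_free Q
    rw [map_zero, Algebra.algebraMap_eq_smul_one, e0]
  · apply le_antisymm
    · intro x hx
      rw [Subalgebra.mem_toSubmodule] at hx
      obtain ⟨r, s, rfl⟩ := ob.exists_eq_add_smul_ζ x
        (fun v => Subalgebra.mem_center_iff.mp hx (ι Q v))
      rw [Algebra.algebraMap_eq_smul_one]
      exact Submodule.add_mem _
        (Submodule.smul_mem _ _ (Submodule.subset_span (Set.mem_insert _ _)))
        (Submodule.smul_mem _ _ (Submodule.subset_span (Set.mem_insert_of_mem _ rfl)))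
    · rw [Submodule.span_le]
      rintro x (rfl | rfl)
      · exact Subalgebra.one_mem _
      · exact hcen

/-- odd central elements are multiples of `ζ` -/
theorem exists_eq_smul_ζ_of_odd {Q : QuadraticForm R M} {κ : Type*} [Fintype κ] [DecidableEq κ]
    (ob : OddBasis Q κ) (x : CliffordAlgebra Q) (hx : ∀ v, ι Q v * x = x * ι Q v)
    (hx1 : x ∈ evenOdd Q 1) : ∃ s : R, x = s • ob.ζ := by
  obtain ⟨r, s, rfl⟩ := ob.exists_eq_add_smul_ζ x hx
  refine ⟨s, ?_⟩
  have h0 : algebraMap R (CliffordAlgebra Q) r ∈ evenOdd Q 0 := SetLike.algebraMap_mem_graded _ _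
  have h1 : s • ob.ζ ∈ evenOdd Q 1 := Submodule.smul_mem _ _ ob.ζ_mem
  have : algebraMap R (CliffordAlgebra Q) r = 0 := by
    apply eq_zero_of_mem_even_of_mem_odd Q _ h0
    have := Submodule.sub_mem _ hx1 h1
    rwa [add_sub_cancel_right] at this
  rw [this, zero_add]

/-- The anti-involution on odd central elements (local base). -/
theorem star_of_central_odd_local [IsLocalRing R] (m : ℕ) (b₀ : Module.Basis (Fin (2 * m + 1)) R M)
    (Q : QuadraticForm R M) (hQ : QuadGrp.IsSemiregular b₀ (LinearEquiv.refl R R) Q)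
    (z : CliffordAlgebra Q) (hz : ∀ v, ι Q v * z = z * ι Q v) (hz1 : z ∈ evenOdd Q 1) :
    star z = ((-1 : R) ^ (m + 1)) • z := by
  classical
  obtain ⟨κ, _, _, ⟨ob⟩⟩ := exists_oddBasis m b₀ Q hQ
  obtain ⟨s, rfl⟩ := exists_eq_smul_ζ_of_odd ob z hz hz1
  have hstar : star (s • ob.ζ) = s • star ob.ζ := by
    rw [star_def, star_def, map_smul, map_smul]
  rw [hstar, ob.star_ζ, ob.card_eq m b₀, smul_comm]

end Centre

end Groth.Agent.Helper7.Clf
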