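import Mathlib
import Groth.Agent.Helper7.ClfX

/-!
# Odd rank: the anti-involution on odd central elements (global base)
-/

set_option autoImplicit false
universe u v w
open QuadraticMap CliffordAlgebra
open scoped TensorProduct

namespace Groth.Agent.Helper7.Clf

variable {R : Type u} [CommRing R] {M : Type v} [AddCommGroup M] [Module R M] [Module.Free R M]
variable (A : Type w) [CommRing A] [Algebra R A] (Q : QuadraticForm R M)

theorem ofBC_star (x : CliffordAlgebra Q) : ofBC A Q (star x) = star (ofBC A Q x) := by
  induction x using CliffordAlgebra.induction with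
  | algebraMap r =>
    rw [star_def, star_def, involute.commutes, reverse.commutes, AlgHom.commutes,
      IsScalarTower.algebraMap_apply R A, involute.commutes, reverse.commutes]
  | ι v =>
    simp only [star_def, involute_ι, map_neg, reverse_ι, ofBC_ι]
  | mul a b ha hb => rw [star_mul, map_mul, map_mul, star_mul, ha, hb]
  | add a b ha hb => rw [star_add, map_add, map_add, star_add, ha, hb]

theorem ofBC_comm_ι (z : CliffordAlgebra Q) (hz : ∀ v, ι Q v * z = z * ι Q v) (w : A ⊗[R] M) :
    ι (QuadGrp.baseChangeForm A Q) w * ofBC A Q z = ofBC A Q z * ι (QuadGrp.baseChangeForm A Q) w := by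
  induction w using TensorProduct.induction_on with
  | zero => simp
  | tmul a v =>
    have e1 : a ⊗ₜ[R] v = a • ((1 : A) ⊗ₜ[R] v) := by
      rw [TensorProduct.smul_tmul', smul_eq_mul, mul_one]
    rw [e1, map_smul, smul_mul_assoc, mul_smul_comm, ← ofBC_ι, ← map_mul, ← map_mul, hz v]
  | add a b ha hb => rw [map_add, add_mul, mul_add, ha, hb]

theorem ofBC_neg_one_pow_smul (k : ℕ) (z : CliffordAlgebra Q) :
    ofBC A Q (((-1 : R) ^ k) • z) = ((-1 : A) ^ k) • ofBC A Q z := by
  rw [ofBC_smul, map_pow, map_neg, map_one]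

/-- The anti-involution on odd central elements. -/
theorem star_of_central_odd (m : ℕ) (b : Module.Basis (Fin (2 * m + 1)) R M)
    (hQ : QuadGrp.IsSemiregular b (LinearEquiv.refl R R) Q)
    (z : CliffordAlgebra Q) (hz : z ∈ Subalgebra.center R (CliffordAlgebra Q))
    (hz1 : z ∈ CliffordAlgebra.evenOdd Q 1) :
    star z = ((-1 : R) ^ (m + 1)) • z := by
  rw [← sub_eq_zero]
  apply eq_zero_of_forall_ofBC
  intro P _
  have hzι : ∀ v, ι Q v * z = z * ι Q v := fun v => Subalgebra.mem_center_iff.mp hz (ι Q v)
  rw [map_sub, ofBC_star, ofBC_neg_one_pow_smul, sub_eq_zero]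
  exact star_of_central_odd_local m (b.baseChange (Localization.AtPrime P))
    (QuadGrp.baseChangeForm (Localization.AtPrime P) Q)
    (isSemiregular_baseChange (Localization.AtPrime P) b Q hQ) _
    (ofBC_comm_ι (Localization.AtPrime P) Q z hzι) (ofBC_mem_odd (Localization.AtPrime P) Q z hz1)

end Groth.Agent.Helper7.Clf
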