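import Mathlib
import Groth.Agent.Helper7.ClfY

/-!
# Odd rank: isometries are generated by reflections and the maps `w ↦ t w`
-/

set_option autoImplicit false
universe u v
open QuadraticMap CliffordAlgebra

namespace Groth.Agent.Helper7.Clf

section Fixes

variable {R : Type u} [CommRing R] {M : Type v} [AddCommGroup M] [Module R M]
variable (Q : QuadraticForm R M)
variable [IsLocalRing R] [Infinite (IsLocalRing.ResidueField R)]
variable {κ : Type*} [Fintype κ] [DecidableEq κ] (e f : κ → M)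
variable (unit_e : ∀ i, IsUnit (Q (e i))) (polar_ef : ∀ i, polar Q (e i) (f i) = 1)
variable (disc : ∀ i, IsUnit (1 - 4 * Q (e i) * Q (f i)))
variable (ortho_ee : ∀ i j, i ≠ j → polar Q (e i) (e j) = 0)
variable (ortho_ef : ∀ i j, i ≠ j → polar Q (e i) (f j) = 0)
variable (ortho_ff : ∀ i j, i ≠ j → polar Q (f i) (f j) = 0)

include unit_e polar_ef disc ortho_ee ortho_ef ortho_ff in
/-- Moving a family of orthogonal normalized planes back by reflections. -/
theorem exists_refGrp_fixes (n : ℕ) : ∀ (J : Finset κ), (Finset.univ \ J).card = n →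
    ∀ g : M ≃ₗ[R] M, (∀ v, Q (g v) = Q v) →
    (∀ i ∈ J, g (e i) = e i ∧ g (f i) = f i) →
    ∃ ρ ∈ RefGrp Q, ∀ i, ρ (g (e i)) = e i ∧ ρ (g (f i)) = f i := by
  induction n with
  | zero =>
    intro J hJ g _ hfix
    have hJ' : ∀ i, i ∈ J := by
      intro i
      by_contra hi
      have : i ∈ Finset.univ \ J := Finset.mem_sdiff.mpr ⟨Finset.mem_univ i, hi⟩
      rw [Finset.card_eq_zero.mp hJ] at this
      exact Finset.notMem_empty i this
    exact ⟨1, (RefGrp Q).one_mem, fun i => hfix i (hJ' i)⟩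
  | succ n ih =>
    intro J hJ g hg hfix
    obtain ⟨j, hj⟩ : ∃ j, j ∈ Finset.univ \ J := by
      apply Finset.card_pos.mp; omega
    have hjJ : j ∉ J := (Finset.mem_sdiff.mp hj).2
    -- the set of fixed vectors
    let S : Set M := {s | ∃ i ∈ J, s = e i ∨ s = f i}
    have hgS : ∀ s ∈ S, g s = s := by
      rintro s ⟨i, hi, rfl | rfl⟩
      · exact (hfix i hi).1
      · exact (hfix i hi).2
    have hSe : ∀ s ∈ S, polar Q s (e j) = 0 := by
      rintro s ⟨i, hi, rfl | rfl⟩
      · exact ortho_ee i j (fun h => hjJ (h ▸ hi))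
      · rw [polar_comm]; exact ortho_ef j i (fun h => hjJ (h ▸ hi))
    have hSf : ∀ s ∈ S, polar Q s (f j) = 0 := by
      rintro s ⟨i, hi, rfl | rfl⟩
      · exact ortho_ef i j (fun h => hjJ (h ▸ hi))
      · exact ortho_ff i j (fun h => hjJ (h ▸ hi))
    have hpol := polar_apply_of_isometry Q g hg
    -- first move: bring `g e` back to `e`
    obtain ⟨ρ1, hρ1, hρ1S, hρ1e⟩ := exists_refGrp_move Q S (e j) (g (e j)) (hg (e j)).symm
      (fun s hs => by
        conv_rhs => rw [← hgS s hs]
        rw [hpol])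
      (e j) hSe (unit_e j) (f j) hSf (polar_ef j) (g (f j))
      (fun s hs => by
        have := hpol s (f j)
        rw [hgS s hs] at this
        rw [this]; exact hSf s hs)
      (by rw [hpol]; exact polar_ef j)
    set g1 := ρ1 * g with hg1def
    have hg1 : ∀ v, Q (g1 v) = Q v := by
      intro v
      rw [hg1def, LinearEquiv.mul_apply, Q_apply_of_mem_RefGrp Q ρ1 hρ1, hg]
    have hpol1 := polar_apply_of_isometry Q g1 hg1
    let S' : Set M := insert (e j) S
    have hg1S' : ∀ s ∈ S', g1 s = s := by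
      intro s hs
      rcases hs with rfl | hs
      · rw [hg1def, LinearEquiv.mul_apply]; exact hρ1e
      · rw [hg1def, LinearEquiv.mul_apply, hgS s hs, hρ1S s hs]
    -- second move: bring `g1 f` back to `f`
    obtain ⟨D, hD⟩ := disc j
    set a := Q (e j) with ha
    set c := Q (f j) with hc
    set h' := e j - (2 * a) • f j with hh'
    have hef : polar Q (e j) (f j) = 1 := polar_ef j
    have heh' : polar Q (e j) h' = 0 := by
      rw [hh', polar_sub_right, polar_smul_right, polar_self, hef]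
      simp only [smul_eq_mul, nsmul_eq_mul]
      push_cast
      ring
    have hS'h' : ∀ s ∈ S', polar Q s h' = 0 := by
      intro s hs
      rcases hs with rfl | hs
      · exact heh'
      · rw [hh', polar_sub_right, polar_smul_right, hSe s hs, hSf s hs]; simp
    have hQh' : IsUnit (Q h') := by
      have hadd : ∀ a b : M, Q (a + b) = Q a + Q b + polar Q a b := by
        intro a b; rw [polar]; ring
      have e1 : Q h' = -(a * (1 - 4 * a * c)) := by
        rw [hh', sub_eq_add_neg, ← neg_smul, hadd, QuadraticMap.map_smul, polar_smul_right, hef]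
        simp only [smul_eq_mul]
        ring
      rw [e1]
      exact ((unit_e j).mul (hD ▸ D.isUnit)).neg
    have hfh' : polar Q (f j) h' = (D : R) := by
      rw [hh', polar_sub_right, polar_smul_right, polar_self, polar_comm Q (f j) (e j), hef, hD]
      simp only [smul_eq_mul, nsmul_eq_mul]
      push_cast
      ring
    have hS'f : ∀ s ∈ S', polar Q s (f j) = polar Q s (g1 (f j)) := by
      intro s hs
      conv_rhs => rw [← hg1S' s hs]
      rw [hpol1]
    obtain ⟨ρ2, hρ2, hρ2S, hρ2f⟩ := exists_refGrp_move Q S' (f j) (g1 (f j)) (hg1 (f j)).symm hS'f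
      h' hS'h' hQh' ((↑D⁻¹ : R) • h')
      (fun s hs => by rw [polar_smul_right, hS'h' s hs, smul_zero])
      (by rw [polar_smul_right, hfh', smul_eq_mul, Units.inv_mul])
      (g1 ((↑D⁻¹ : R) • h'))
      (fun s hs => by
        have := hpol1 s ((↑D⁻¹ : R) • h')
        rw [hg1S' s hs] at this
        rw [this, polar_smul_right, hS'h' s hs, smul_zero])
      (by rw [hpol1, polar_smul_right, hfh', smul_eq_mul, Units.inv_mul])
    -- conclude by induction
    obtain ⟨ρ3, hρ3, hfix3⟩ := ih (insert j J)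
      (by
        rw [Finset.sdiff_insert, Finset.card_erase_of_mem hj, hJ]
        rfl)
      (ρ2 * g1)
      (fun v => by rw [LinearEquiv.mul_apply, Q_apply_of_mem_RefGrp Q ρ2 hρ2, hg1])
      (by
        intro i hi
        rcases Finset.mem_insert.mp hi with rfl | hi
        · constructor
          · rw [LinearEquiv.mul_apply, hg1S' (e i) (Set.mem_insert _ _)]
            exact hρ2S (e i) (Set.mem_insert _ _)
          · rw [LinearEquiv.mul_apply]; exact hρ2f
        · have h1 : e i ∈ S' := Set.mem_insert_of_mem _ ⟨i, hi, Or.inl rfl⟩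
          have h2 : f i ∈ S' := Set.mem_insert_of_mem _ ⟨i, hi, Or.inr rfl⟩
          constructor
          · rw [LinearEquiv.mul_apply, hg1S' _ h1]; exact hρ2S _ h1
          · rw [LinearEquiv.mul_apply, hg1S' _ h2]; exact hρ2S _ h2)
    refine ⟨ρ3 * (ρ2 * ρ1), (RefGrp Q).mul_mem hρ3 ((RefGrp Q).mul_mem hρ2 hρ1), fun i => ?_⟩
    have := hfix3 i
    simpa [hg1def, LinearEquiv.mul_apply] using this

end Fixes

section Lifts

variable {R : Type u} [CommRing R] {M : Type v} [AddCommGroup M] [Module R M]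
variable {Q : QuadraticForm R M}

theorem HasLift.one : HasLift Q 1 0 :=
  ⟨1, by simpa using SetLike.one_mem_graded (evenOdd Q), fun v => by simp⟩

theorem HasLift.mul {g g' : M ≃ₗ[R] M} {k k' : ZMod 2} (h : HasLift Q g k) (h' : HasLift Q g' k') :
    HasLift Q (g * g') (k + k') := by
  obtain ⟨u, hu, hcu⟩ := h
  obtain ⟨u', hu', hcu'⟩ := h'
  refine ⟨u * u', ?_, fun v => ?_⟩
  · rw [Units.val_mul]; exact SetLike.mul_mem_graded hu hu'
  · rw [Units.val_mul, LinearEquiv.mul_apply, ← mul_assoc, hcu, smul_mul_assoc, mul_assoc, hcu',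
      mul_smul_comm, smul_smul, neg_one_pow_val_add, mul_assoc]

theorem HasLift.inv {g : M ≃ₗ[R] M} {k : ZMod 2} (h : HasLift Q g k) : HasLift Q g⁻¹ k := by
  obtain ⟨u, hu, hcu⟩ := h
  refine ⟨u⁻¹, inv_mem_evenOdd Q u k hu, fun w => ?_⟩
  have h1 := hcu (g⁻¹ w)
  rw [show g (g⁻¹ w) = w from LinearEquiv.apply_symm_apply g w] at h1
  have h2 : (↑u⁻¹ : CliffordAlgebra Q) * ι Q w =
      ((-1 : R) ^ k.val) • (ι Q (g⁻¹ w) * ↑u⁻¹) := by
    calc (↑u⁻¹ : CliffordAlgebra Q) * ι Q w
        = ↑u⁻¹ * (ι Q w * u) * ↑u⁻¹ := by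
          rw [mul_assoc, mul_assoc, Units.mul_inv, mul_one]
      _ = ↑u⁻¹ * (((-1 : R) ^ k.val) • ((u : CliffordAlgebra Q) * ι Q (g⁻¹ w))) * ↑u⁻¹ := by rw [h1]
      _ = ((-1 : R) ^ k.val) • ((↑u⁻¹ * (u : CliffordAlgebra Q)) * ι Q (g⁻¹ w) * ↑u⁻¹) := by
          rw [mul_smul_comm, smul_mul_assoc]
          congr 1
          noncomm_ring
      _ = ((-1 : R) ^ k.val) • (ι Q (g⁻¹ w) * ↑u⁻¹) := by rw [Units.inv_mul, one_mul]
  rw [h2, smul_smul, neg_one_pow_val_mul_self, one_smul]

theorem invK_of_mem_odd (k : ZMod 2) (x : CliffordAlgebra Q) (hx : x ∈ evenOdd Q 1) :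
    invK Q k x = ((-1 : R) ^ k.val) • x := by
  rcases zmod2_cases k with rfl | rfl
  · simp [invK]
  · have h10 : (1 : ZMod 2) ≠ 0 := by decide
    rw [invK, if_neg h10, involute_eq_of_mem_odd hx, ZMod.val_one, pow_one, neg_smul, one_smul]

end Lifts

section OddGen

variable {R : Type u} [CommRing R] {M : Type v} [AddCommGroup M] [Module R M]
variable {Q : QuadraticForm R M} {κ : Type*} [Fintype κ] [DecidableEq κ] (ob : OddBasis Q κ)

namespace OddBasis

theorem polar_w_inr (s : κ ⊕ κ) : polar Q ob.w (ob.b (Sum.inr s)) = 0 := ob.ortho_w s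

/-- a vector orthogonal to the planes is a multiple of `w` -/
theorem eq_smul_w_of_ortho (y : M) (he : ∀ i, polar Q (ob.e i) y = 0)
    (hf : ∀ i, polar Q (ob.f i) y = 0) : y = (ob.b.coord (Sum.inl ()) y) • ob.w := by
  apply ob.b.ext_elem
  rintro (⟨⟩ | s)
  · rw [map_smul, Finsupp.smul_apply, w, Module.Basis.repr_self, Finsupp.single_eq_same, smul_eq_mul,
      mul_one, Module.Basis.coord_apply]
  · obtain ⟨i, α, β, h⟩ := ob.exists_dual_coeffs s
    have h1 : ob.b.repr y (Sum.inr s) = 0 := by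
      rw [← Module.Basis.coord_apply, ← h, polarBilin_apply_apply, polar_add_left, polar_smul_left,
        polar_smul_left, he, hf, smul_zero, smul_zero, add_zero]
    rw [h1, map_smul, Finsupp.smul_apply, w, Module.Basis.repr_self, Finsupp.single_apply,
      if_neg (by simp), smul_zero]

variable [IsLocalRing R] [Infinite (IsLocalRing.ResidueField R)]

/-- Odd Cartan–Dieudonné: up to reflections an isometry fixes the planes and scales `w`. -/
theorem exists_refGrp (g : M ≃ₗ[R] M) (hg : ∀ v, Q (g v) = Q v) :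
    ∃ ρ ∈ RefGrp Q, ∃ t : R, t * t = 1 ∧ (∀ s, ρ (g (ob.b (Sum.inr s))) = ob.b (Sum.inr s)) ∧
      ρ (g ob.w) = t • ob.w := by
  obtain ⟨ρ, hρ, hfix⟩ := exists_refGrp_fixes Q ob.e ob.f ob.unit_e ob.polar_ef ob.disc ob.ortho_ee
    ob.ortho_ef ob.ortho_ff _ ∅ rfl g hg (fun i hi => absurd hi (Finset.notMem_empty i))
  have hρg : ∀ v, Q (ρ (g v)) = Q v := fun v => by
    rw [Q_apply_of_mem_RefGrp Q ρ hρ, hg]
  have hpol : ∀ a b, polar Q (ρ (g a)) (ρ (g b)) = polar Q a b := by
    intro a b
    simp only [polar, ← map_add, hρg]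
  have he : ∀ i, polar Q (ob.e i) (ρ (g ob.w)) = 0 := by
    intro i
    conv_lhs => rw [← (hfix i).1]
    rw [hpol, polar_comm]; exact ob.ortho_w _
  have hf : ∀ i, polar Q (ob.f i) (ρ (g ob.w)) = 0 := by
    intro i
    conv_lhs => rw [← (hfix i).2]
    rw [hpol, polar_comm]; exact ob.ortho_w _
  have hy := ob.eq_smul_w_of_ortho _ he hf
  set t := ob.b.coord (Sum.inl ()) (ρ (g ob.w)) with ht
  refine ⟨ρ, hρ, t, ?_, ?_, hy⟩
  · have h1 := hρg ob.w
    rw [hy, QuadraticMap.map_smul, smul_eq_mul] at h1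
    obtain ⟨c, hc⟩ := ob.unit_w
    have hc' : (c : R) = Q ob.w := hc
    rw [← hc'] at h1
    have h2 : (t * t - 1) * (c : R) = 0 := by linear_combination h1
    have h3 := congrArg (fun x => x * (↑c⁻¹ : R)) h2
    simp only [mul_assoc, Units.mul_inv, mul_one, zero_mul] at h3
    exact sub_eq_zero.mp h3
  · rintro (i | i)
    · exact (hfix i).1
    · exact (hfix i).2

end OddBasis

end OddGen

end Groth.Agent.Helper7.Clf
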