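import Mathlib
import Groth.Agent.Helper7.ClfZ

/-!
# Odd rank, local base with infinite residue field: determinant and lifts
-/

set_option autoImplicit false
universe u v
open QuadraticMap CliffordAlgebra

namespace Groth.Agent.Helper7.Clf

section AlgHomFix

variable {R : Type*} [CommRing R] {A : Type*} [Ring A] [Algebra R A] {κ : Type*}
variable (E F : κ → A)

theorem algHom_drec (φ : A →ₐ[R] A) (hE : ∀ i, φ (E i) = E i) (hF : ∀ i, φ (F i) = F i)
    (l : List κ) : φ (drec E F l) = drec E F l := by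
  induction l with
  | nil => simp [drec]
  | cons i l ih =>
    have h1 : drec E F (i :: l) = dd E F i * drec E F l := by
      rw [drec, List.map_cons, List.prod_cons, ← drec]
    have h2 : φ (dd E F i) = dd E F i := by
      have e1 : dd E F i = 1 - (2 : R) • (E i * F i) := by rw [dd, two_smul, two_mul]
      rw [e1, map_sub, map_one, map_smul, map_mul, hE, hF]
    rw [h1, map_mul, h2, ih]

end AlgHomFix

variable {R : Type u} [CommRing R] {M : Type v} [AddCommGroup M] [Module R M]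
variable {Q : QuadraticForm R M} {κ : Type*} [Fintype κ] [DecidableEq κ] (ob : OddBasis Q κ)

namespace OddBasis

/-- the action of an isometry fixing the planes and scaling `w` on `ζ` -/
theorem cmap_ζ (g : M ≃ₗ[R] M) (hg : g ∈ QuadGrp.O Q)
    (hfix : ∀ s, g (ob.b (Sum.inr s)) = ob.b (Sum.inr s)) (t : R) (hw : g ob.w = t • ob.w) :
    cmap g hg ob.ζ = t • ob.ζ := by
  have hδ : cmap g hg ob.oδ = ob.oδ := by
    rw [oδ]
    apply algHom_drec
    · intro i
      change cmap g hg (ι Q (ob.b (Sum.inr (Sum.inl i)))) = ι Q (ob.b (Sum.inr (Sum.inl i)))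
      rw [cmap_ι, hfix]
    · intro i
      change cmap g hg (ι Q (ob.b (Sum.inr (Sum.inr i)))) = ι Q (ob.b (Sum.inr (Sum.inr i)))
      rw [cmap_ι, hfix]
  rw [ζ, map_mul, hδ, cW, cmap_ι, hw, map_smul, smul_mul_assoc]

/-- the action of a twisted-liftable isometry on `ζ` -/
theorem cmap_ζ_of_hasLift (g : M ≃ₗ[R] M) (hg : g ∈ QuadGrp.O Q) (k : ZMod 2)
    (h : HasLift Q g k) : cmap g hg ob.ζ = ((-1 : R) ^ k.val) • ob.ζ := by
  obtain ⟨u, hu, hcu⟩ := h
  have h1 := cmap_mul_lift g hg k u hcu ob.ζ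
  rw [invK_of_mem_odd k _ ob.ζ_mem, mul_smul_comm, ob.ζ_comm (u : CliffordAlgebra Q),
    ← smul_mul_assoc] at h1
  have h2 := congrArg (fun x => x * (↑u⁻¹ : CliffordAlgebra Q)) h1
  simp only [mul_assoc, Units.mul_inv, mul_one] at h2
  exact h2

/-- the determinant of a map fixing the planes and scaling `w` -/
theorem det_of_fix (g : M ≃ₗ[R] M)
    (hfix : ∀ s, g (ob.b (Sum.inr s)) = ob.b (Sum.inr s)) (t : R) (hw : g ob.w = t • ob.w) :
    ((LinearEquiv.det g : Rˣ) : R) = t := by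
  rw [LinearEquiv.coe_det, ← LinearMap.det_toMatrix ob.b]
  have hmat : LinearMap.toMatrix ob.b ob.b (g : M →ₗ[R] M) =
      Matrix.diagonal (fun k : Unit ⊕ (κ ⊕ κ) => Sum.elim (fun _ => t) (fun _ => 1) k) := by
    ext i j
    rw [LinearMap.toMatrix_apply, Matrix.diagonal_apply]
    rcases j with ⟨⟩ | s
    · change ob.b.repr (g ob.w) i = _
      rw [hw, map_smul, Finsupp.smul_apply, w, Module.Basis.repr_self, Finsupp.single_apply]
      by_cases hi : i = Sum.inl ()
      · subst hi; simp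
      · rw [if_neg (fun h => hi h.symm), if_neg hi, smul_zero]
    · change ob.b.repr (g (ob.b (Sum.inr s))) i = _
      rw [hfix, Module.Basis.repr_self, Finsupp.single_apply]
      by_cases hi : i = Sum.inr s
      · subst hi; simp
      · rw [if_neg (fun h => hi h.symm), if_neg hi]
  rw [hmat, Matrix.det_diagonal, Fintype.prod_sum_type]
  simp

variable [IsLocalRing R] [Infinite (IsLocalRing.ResidueField R)]

/-- the structure of an isometry: parity, scaling factor, determinant -/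
theorem exists_parity [Module.Free R M] [Module.Finite R M] (g : M ≃ₗ[R] M) (hg : g ∈ QuadGrp.O Q) :
    ∃ (ρ : M ≃ₗ[R] M) (k : ZMod 2) (t : R), ρ ∈ QuadGrp.O Q ∧ HasLift Q ρ k ∧
      (∀ s, ρ (g (ob.b (Sum.inr s))) = ob.b (Sum.inr s)) ∧ ρ (g ob.w) = t • ob.w ∧ t * t = 1 ∧
      ((LinearEquiv.det g : Rˣ) : R) = (-1) ^ k.val * t := by
  obtain ⟨ρ, hρ, t, ht, hfix, hw⟩ := ob.exists_refGrp g hg
  obtain ⟨k, hk, hdet⟩ := hasLift_of_mem_RefGrp Q ρ hρ
  have hρO : ρ ∈ QuadGrp.O Q := fun v => Q_apply_of_mem_RefGrp Q ρ hρ v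
  refine ⟨ρ, k, t, hρO, hk, hfix, hw, ht, ?_⟩
  have h1 := ob.det_of_fix (ρ * g) hfix t hw
  rw [map_mul, hdet, Units.val_mul] at h1
  have h2 : ((-1 : R) ^ k.val) * (-1) ^ k.val = 1 := neg_one_pow_val_mul_self k
  have h3 : (((-1 : Rˣ) ^ k.val : Rˣ) : R) = (-1 : R) ^ k.val := by
    rw [Units.val_pow_eq_pow_val, Units.val_neg, Units.val_one]
  rw [h3] at h1
  calc ((LinearEquiv.det g : Rˣ) : R) = ((-1 : R) ^ k.val * (-1) ^ k.val) * ↑(LinearEquiv.det g) := by
        rw [h2, one_mul]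
    _ = (-1) ^ k.val * t := by rw [mul_assoc, h1]

include ob in
/-- An isometry induced by conjugation has determinant one. -/
theorem det_eq_one_of_intertwine [Module.Free R M] [Module.Finite R M] (g : M ≃ₗ[R] M)
    (hg : g ∈ QuadGrp.O Q) (U : (CliffordAlgebra Q)ˣ)
    (hU : ∀ v, ι Q (g v) * U = U * ι Q v) : ((LinearEquiv.det g : Rˣ) : R) = 1 := by
  obtain ⟨ρ, k, t, hρO, hk, hfix, hw, ht, hdet⟩ := ob.exists_parity g hg
  -- `C(g)` fixes `ζ`
  have h1 : cmap g hg ob.ζ = ob.ζ := by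
    have := cmap_mul_lift g hg 0 U (by simpa using hU) ob.ζ
    rw [invK_of_mem_odd 0 _ ob.ζ_mem, ZMod.val_zero, pow_zero, one_smul,
      ob.ζ_comm (U : CliffordAlgebra Q)] at this
    have h2 := congrArg (fun x => x * (↑U⁻¹ : CliffordAlgebra Q)) this
    simp only [mul_assoc, Units.mul_inv, mul_one] at h2
    exact h2
  have hρg : ρ * g ∈ QuadGrp.O Q := (QuadGrp.O Q).mul_mem hρO hg
  have h3 : cmap (ρ * g) hρg ob.ζ = t • ob.ζ := ob.cmap_ζ (ρ * g) hρg hfix t hw
  have h4 : cmap (ρ * g) hρg ob.ζ = ((-1 : R) ^ k.val) • ob.ζ := by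
    have hcomp : cmap (ρ * g) hρg = (cmap ρ hρO).comp (cmap g hg) := by
      apply CliffordAlgebra.hom_ext
      ext v
      simp [cmap_ι]
    rw [hcomp, AlgHom.comp_apply, h1, ob.cmap_ζ_of_hasLift ρ hρO k hk]
  have h5 : t = (-1) ^ k.val := by
    have : (t - (-1) ^ k.val) • ob.ζ = 0 := by rw [sub_smul, ← h3, ← h4, sub_self]
    exact sub_eq_zero.mp (smul_ζ_eq_zero ob _ this)
  rw [hdet, h5, neg_one_pow_val_mul_self]

/-- the reflection in `w` -/
theorem refl_w_fix (s : κ ⊕ κ) : refl Q ob.w ob.unit_w (ob.b (Sum.inr s)) = ob.b (Sum.inr s) :=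
  refl_of_polar_eq_zero Q ob.w ob.unit_w _ (ob.ortho_w s)

theorem refl_w_w : refl Q ob.w ob.unit_w ob.w = (-1 : R) • ob.w := by
  have h1 : Ring.inverse (Q ob.w) * Q ob.w = 1 := Ring.inverse_mul_cancel _ ob.unit_w
  rw [refl_apply, polar_self]
  simp only [nsmul_eq_mul]
  push_cast
  have : Ring.inverse (Q ob.w) * (2 * Q ob.w) = 2 := by linear_combination (2 : R) * h1
  rw [this]
  module

include ob in
/-- An isometry of determinant one has an even lift. -/
theorem hasLift_zero_of_det_eq_one [Module.Free R M] [Module.Finite R M] (g : M ≃ₗ[R] M)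
    (hg : g ∈ QuadGrp.O Q) (hdet1 : LinearEquiv.det g = 1) : HasLift Q g 0 := by
  obtain ⟨ρ, k, t, hρO, hk, hfix, hw, ht, hdet⟩ := ob.exists_parity g hg
  rw [hdet1, Units.val_one] at hdet
  have ht' : t = (-1) ^ k.val := by
    have h2 : ((-1 : R) ^ k.val) * (-1) ^ k.val = 1 := neg_one_pow_val_mul_self k
    calc t = ((-1 : R) ^ k.val * (-1) ^ k.val) * t := by rw [h2, one_mul]
      _ = (-1) ^ k.val := by rw [mul_assoc, ← hdet, mul_one]
  rcases zmod2_cases k with rfl | rfl
  · -- `ρ g = 1`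
    have h1 : ρ * g = 1 := by
      apply LinearEquiv.toLinearMap_injective
      apply ob.b.ext
      rintro (⟨⟩ | s)
      · change ρ (g ob.w) = ob.w
        rw [hw, ht', ZMod.val_zero, pow_zero, one_smul]
      · exact hfix s
    have h2 : g = ρ⁻¹ := by
      exact eq_inv_of_mul_eq_one_right h1
    rw [h2]
    exact hk.inv
  · -- `ρ g` is the reflection in `w`
    have h1 : ρ * g = refl Q ob.w ob.unit_w := by
      apply LinearEquiv.toLinearMap_injective
      apply ob.b.ext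
      rintro (⟨⟩ | s)
      · change ρ (g ob.w) = refl Q ob.w ob.unit_w ob.w
        rw [hw, ht', ZMod.val_one, pow_one, ob.refl_w_w]
      · change ρ (g (ob.b (Sum.inr s))) = refl Q ob.w ob.unit_w (ob.b (Sum.inr s))
        rw [hfix s, ob.refl_w_fix]
    have h2 : g = ρ⁻¹ * refl Q ob.w ob.unit_w := by
      rw [← h1]; group
    rw [h2]
    have := hk.inv.mul (hasLift_refl Q ob.w ob.unit_w)
    rwa [show (1 : ZMod 2) + 1 = 0 from rfl] at this

end OddBasis

end Groth.Agent.Helper7.Clf
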