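import Mathlib
import Groth.Agent.Helper7.ClgA
import Groth.Agent.Helper7.ClfY

/-!
# Odd rank: conjugation by a normalising unit has determinant one
-/

set_option autoImplicit false
universe u v w
open QuadraticMap CliffordAlgebra
open scoped TensorProduct

namespace Groth.Agent.Helper7.Clf

variable {R : Type u} [CommRing R] {M : Type v} [AddCommGroup M] [Module R M] [Module.Free R M]
  [Module.Finite R M]

/-- base change of an intertwining unit -/
theorem exists_unit_baseChange (A : Type w) [CommRing A] [Algebra R A] (Q : QuadraticForm R M)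
    (g : M ≃ₗ[R] M) (U : (CliffordAlgebra Q)ˣ) (hU : ∀ v, ι Q (g v) * U = U * ι Q v) :
    ∃ UA : (CliffordAlgebra (QuadGrp.baseChangeForm A Q))ˣ,
      (UA : CliffordAlgebra (QuadGrp.baseChangeForm A Q)) = ofBC A Q U ∧
      ∀ w, ι (QuadGrp.baseChangeForm A Q) (LinearEquiv.baseChange R A M M g w) * UA =
        UA * ι (QuadGrp.baseChangeForm A Q) w := by
  refine ⟨Units.map (ofBC A Q : CliffordAlgebra Q →* _) U, rfl, ?_⟩
  apply intertwine_baseChange Q A g
  intro v
  rw [← ofBC_ι, ← ofBC_ι]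
  change ofBC A Q _ * ofBC A Q U = ofBC A Q U * ofBC A Q _
  rw [← map_mul, ← map_mul, hU]

/-- the determinant becomes one in any local algebra with infinite residue field -/
theorem map_det_eq_one_of_intertwine_aux (A : Type w) [CommRing A] [Algebra R A] [IsLocalRing A]
    [Infinite (IsLocalRing.ResidueField A)] (m : ℕ)
    (b : Module.Basis (Fin (2 * m + 1)) R M) (Q : QuadraticForm R M)
    (hQ : QuadGrp.IsSemiregular b (LinearEquiv.refl R R) Q)
    (g : M ≃ₗ[R] M) (hg : g ∈ QuadGrp.O Q) (U : (CliffordAlgebra Q)ˣ)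
    (hU : ∀ v, ι Q (g v) * U = U * ι Q v) :
    algebraMap R A ((LinearEquiv.det g : Rˣ) : R) = 1 := by
  have hQA := isSemiregular_baseChange A b Q hQ
  obtain ⟨κ, _, _, ⟨ob⟩⟩ := exists_oddBasis m (b.baseChange A) (QuadGrp.baseChangeForm A Q) hQA
  have hgA := baseChange_mem_O A Q g hg
  obtain ⟨UA, -, hint⟩ := exists_unit_baseChange A Q g U hU
  have h1 := OddBasis.det_eq_one_of_intertwine ob _ hgA UA hint
  rw [LinearEquiv.det_baseChange, Units.coe_map, MonoidHom.coe_coe] at h1
  exact h1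

/-- the determinant becomes one in any local algebra -/
theorem map_det_eq_one_of_intertwine (A : Type w) [CommRing A] [Algebra R A] [IsLocalRing A]
    (m : ℕ) (b : Module.Basis (Fin (2 * m + 1)) R M) (Q : QuadraticForm R M)
    (hQ : QuadGrp.IsSemiregular b (LinearEquiv.refl R R) Q)
    (g : M ≃ₗ[R] M) (hg : g ∈ QuadGrp.O Q) (U : (CliffordAlgebra Q)ˣ)
    (hU : ∀ v, ι Q (g v) * U = U * ι Q v) :
    algebraMap R A ((LinearEquiv.det g : Rˣ) : R) = 1 := by
  have h1 := map_det_eq_one_of_intertwine_aux (NagataExt A) m b Q hQ g hg U hU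
  rw [IsScalarTower.algebraMap_apply R A (NagataExt A)] at h1
  apply FaithfulSMul.algebraMap_injective A (NagataExt A)
  rw [h1, map_one]

/-- over any ring -/
theorem det_eq_one_of_intertwine (m : ℕ)
    (b : Module.Basis (Fin (2 * m + 1)) R M) (Q : QuadraticForm R M)
    (hQ : QuadGrp.IsSemiregular b (LinearEquiv.refl R R) Q)
    (g : M ≃ₗ[R] M) (hg : g ∈ QuadGrp.O Q) (U : (CliffordAlgebra Q)ˣ)
    (hU : ∀ v, ι Q (g v) * U = U * ι Q v) : LinearEquiv.det g = 1 := by
  apply Units.ext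
  rw [Units.val_one, ← sub_eq_zero]
  apply eq_zero_of_localization
  intro P hP
  rw [map_sub, map_det_eq_one_of_intertwine (Localization.AtPrime P) m b Q hQ g hg U hU, map_one,
    sub_self]

/-- **S16994**. -/
theorem conj_mem_SO' (m : ℕ)
    (b : Module.Basis (Fin (2 * m + 1)) R M) (Q : QuadraticForm R M)
    (hQ : QuadGrp.IsSemiregular b (LinearEquiv.refl R R) Q)
    (u : (CliffordAlgebra Q)ˣ) (hu : u ∈ QuadGrp.GPin' Q) :
    ∃ g ∈ QuadGrp.SO' Q, ∀ v : M,
      (u : CliffordAlgebra Q) * CliffordAlgebra.ι Q v * ↑u⁻¹ = CliffordAlgebra.ι Q (g v) := by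
  have hO := conjEquiv_mem_O Q u hu
  refine ⟨conjEquiv Q u hu, ⟨hO, ?_⟩, fun v => (ι_conjEquiv Q u hu v).symm⟩
  exact MonoidHom.mem_ker.mpr
    (det_eq_one_of_intertwine m b Q hQ _ hO u (fun v => ι_conjEquiv_mul Q u hu v))

end Groth.Agent.Helper7.Clf
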