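import Mathlib
import Groth.Agent.Helper7.ClgB

/-!
# Odd rank: descent of even intertwiners; isometries of determinant one lift to `GSpin`
-/

set_option autoImplicit false
universe u v w
open QuadraticMap CliffordAlgebra
open scoped TensorProduct

namespace Groth.Agent.Helper7.Clf

section OddProj

variable {R : Type u} [CommRing R] {M : Type v} [AddCommGroup M] [Module R M]
variable (Q : QuadraticForm R M)

/-- the projection onto the odd part -/
noncomputable def oddProj : CliffordAlgebra Q →ₗ[R] CliffordAlgebra Q :=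
  (evenOdd Q 1).projection (evenOdd Q 0) (evenOdd_isCompl Q).symm

theorem oddProj_of_mem_odd (x : CliffordAlgebra Q) (hx : x ∈ evenOdd Q 1) : oddProj Q x = x :=
  Submodule.projection_apply_of_mem_left _ hx

theorem oddProj_eq_zero_iff (x : CliffordAlgebra Q) : oddProj Q x = 0 ↔ x ∈ evenOdd Q 0 :=
  Submodule.projection_apply_eq_zero_iff _

theorem oddProj_add (x0 x1 : CliffordAlgebra Q) (h0 : x0 ∈ evenOdd Q 0) (h1 : x1 ∈ evenOdd Q 1) :
    oddProj Q (x0 + x1) = x1 := by
  rw [map_add, (oddProj_eq_zero_iff Q x0).mpr h0, oddProj_of_mem_odd Q x1 h1, zero_add]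

end OddProj

variable {R : Type u} [CommRing R] {M : Type v} [AddCommGroup M] [Module R M] [Module.Free R M]
variable (A : Type w) [CommRing A] [Algebra R A] (Q : QuadraticForm R M)

theorem ofBC_oddProj (x : CliffordAlgebra Q) :
    ofBC A Q (oddProj Q x) = oddProj (QuadGrp.baseChangeForm A Q) (ofBC A Q x) := by
  obtain ⟨x0, h0, x1, h1, rfl⟩ := exists_even_odd Q x
  rw [oddProj_add Q x0 x1 h0 h1, map_add,
    oddProj_add _ _ _ (ofBC_mem_even A Q x0 h0) (ofBC_mem_odd A Q x1 h1)]

theorem tensorEquiv_lTensor_oddProj (w : A ⊗[R] CliffordAlgebra Q) :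
    tensorEquiv A Q ((oddProj Q).lTensor A w) =
      oddProj (QuadGrp.baseChangeForm A Q) (tensorEquiv A Q w) := by
  induction w using TensorProduct.induction_on with
  | zero => simp
  | tmul a c =>
    rw [LinearMap.lTensor_tmul, tensorEquiv_tmul, tensorEquiv_tmul, map_smul, ofBC_oddProj]
  | add y z hy hz => rw [map_add, map_add, hy, hz, map_add, map_add]

open IsLocalRing in
/-- General descent of a unit spanning the base change of a kernel. -/
theorem exists_unit_descent [IsLocalRing A] [Module.FaithfullyFlat R A]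
    {κ : Type*} [Fintype κ] [DecidableEq κ]
    (ψ : κ → CliffordAlgebra Q →ₗ[R] CliffordAlgebra Q)
    (ψA : κ → CliffordAlgebra (QuadGrp.baseChangeForm A Q) →ₗ[A]
      CliffordAlgebra (QuadGrp.baseChangeForm A Q))
    (hψ : ∀ j w, tensorEquiv A Q ((ψ j).lTensor A w) = ψA j (tensorEquiv A Q w))
    (uA : (CliffordAlgebra (QuadGrp.baseChangeForm A Q))ˣ)
    (huA : ∀ j, ψA j (uA : CliffordAlgebra (QuadGrp.baseChangeForm A Q)) = 0)
    (hKA : ∀ p : CliffordAlgebra Q, (∀ j, ψ j p = 0) →
      ∃ c : A, ofBC A Q p = c • (uA : CliffordAlgebra (QuadGrp.baseChangeForm A Q))) :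
    ∃ p : CliffordAlgebra Q, (∀ j, ψ j p = 0) ∧ IsUnit p ∧
      ∃ c : A, IsUnit c ∧ ofBC A Q p = c • (uA : CliffordAlgebra (QuadGrp.baseChangeForm A Q)) := by
  classical
  set K := LinearMap.ker (LinearMap.pi ψ) with hK
  have hKmem : ∀ p : CliffordAlgebra Q, p ∈ K ↔ ∀ j, ψ j p = 0 := by
    intro p
    rw [hK, LinearMap.mem_ker]
    constructor
    · intro h j
      exact congrFun h j
    · intro h
      funext j
      exact h j
  have hw : ∀ j, (ψ j).lTensor A ((tensorEquiv A Q).symm uA) = 0 := by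
    intro j
    apply (tensorEquiv A Q).injective
    rw [hψ, AlgEquiv.apply_symm_apply, huA, map_zero]
  obtain ⟨y, hy⟩ := mem_range_lTensor_of_forall A ψ _ hw
  have hspan : ∀ y : A ⊗[R] K, tensorEquiv A Q (K.subtype.lTensor A y) ∈
      Submodule.span A ((ofBC A Q) '' (K : Set (CliffordAlgebra Q))) := by
    intro y
    induction y using TensorProduct.induction_on with
    | zero => simp
    | tmul a p =>
      rw [LinearMap.lTensor_tmul, tensorEquiv_tmul]
      exact Submodule.smul_mem _ _ (Submodule.subset_span ⟨p, p.2, rfl⟩)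
    | add y z hy hz => rw [map_add, map_add]; exact Submodule.add_mem _ hy hz
  have huA' : (uA : CliffordAlgebra _) ∈
      Submodule.span A ((ofBC A Q) '' (K : Set (CliffordAlgebra Q))) := by
    have := hspan y
    rwa [hy, AlgEquiv.apply_symm_apply] at this
  have hex : ∃ p ∈ K, ∃ c : A, IsUnit c ∧ ofBC A Q p = c • (uA : CliffordAlgebra _) := by
    by_contra hcon
    push Not at hcon
    let T : Submodule A (CliffordAlgebra (QuadGrp.baseChangeForm A Q)) :=
      (maximalIdeal A) • Submodule.span A {(uA : CliffordAlgebra _)}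
    have hT : Submodule.span A ((ofBC A Q) '' (K : Set (CliffordAlgebra Q))) ≤ T := by
      rw [Submodule.span_le]
      rintro _ ⟨p, hp, rfl⟩
      obtain ⟨c, hc⟩ := hKA p ((hKmem p).mp hp)
      have hcn : ¬ IsUnit c := fun hcu => hcon p hp c hcu hc
      rw [SetLike.mem_coe, hc]
      exact Submodule.smul_mem_smul ((mem_maximalIdeal c).mpr hcn)
        (Submodule.subset_span (Set.mem_singleton _))
    have huT := hT huA'
    rw [Submodule.mem_smul_span_singleton] at huT
    obtain ⟨c, hcm, hc⟩ := huT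
    have h1 : algebraMap A (CliffordAlgebra (QuadGrp.baseChangeForm A Q)) (c - 1) = 0 := by
      have := congrArg (fun t => t * (↑uA⁻¹ : CliffordAlgebra _)) hc
      simp only [smul_mul_assoc, Units.mul_inv] at this
      rw [map_sub, map_one, Algebra.algebraMap_eq_smul_one, this, sub_self]
    have h2 : c - 1 = 0 := algebraMap_injective_of_free (QuadGrp.baseChangeForm A Q)
      (by rw [h1, map_zero])
    have : c = 1 := sub_eq_zero.mp h2
    rw [this] at hcm
    exact (maximalIdeal.isMaximal A).ne_top ((Ideal.eq_top_iff_one _).mpr hcm)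
  obtain ⟨p, hp, c, hcu, hc⟩ := hex
  refine ⟨p, (hKmem p).mp hp, ?_, c, hcu, hc⟩
  apply isUnit_of_isUnit_ofBC A Q
  rw [hc, Algebra.smul_def]
  exact (hcu.map (algebraMap A _)).mul uA.isUnit

/-- Descent of an even lift of an isometry along a faithfully flat local extension over which
the even elements commuting with all vectors are scalars. -/
theorem exists_even_lift_descent [Module.Finite R M] [IsLocalRing A] [Module.FaithfullyFlat R A]
    (g : M ≃ₗ[R] M) (uA : (CliffordAlgebra (QuadGrp.baseChangeForm A Q))ˣ)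
    (hk : (uA : CliffordAlgebra (QuadGrp.baseChangeForm A Q)) ∈
      evenOdd (QuadGrp.baseChangeForm A Q) 0)
    (hint : ∀ w, ι (QuadGrp.baseChangeForm A Q) (LinearEquiv.baseChange R A M M g w) * uA =
      uA * ι (QuadGrp.baseChangeForm A Q) w)
    (hcenter : ∀ x : CliffordAlgebra (QuadGrp.baseChangeForm A Q),
      x ∈ evenOdd (QuadGrp.baseChangeForm A Q) 0 →
      (∀ w, ι (QuadGrp.baseChangeForm A Q) w * x = x * ι (QuadGrp.baseChangeForm A Q) w) →
      ∃ a : A, x = algebraMap A _ a) :
    ∃ u : (CliffordAlgebra Q)ˣ, (u : CliffordAlgebra Q) ∈ evenOdd Q 0 ∧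
      ∀ v, ι Q (g v) * u = u * ι Q v := by
  classical
  let b := Module.Free.chooseBasis R M
  let ψ : Option (Module.Free.ChooseBasisIndex R M) → CliffordAlgebra Q →ₗ[R] CliffordAlgebra Q :=
    fun j => Option.elim j (oddProj Q)
      (fun j => LinearMap.mulLeft R (ι Q (g (b j))) - LinearMap.mulRight R (ι Q (b j)))
  let ψA : Option (Module.Free.ChooseBasisIndex R M) →
      CliffordAlgebra (QuadGrp.baseChangeForm A Q) →ₗ[A]
        CliffordAlgebra (QuadGrp.baseChangeForm A Q) :=
    fun j => Option.elim j (oddProj (QuadGrp.baseChangeForm A Q))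
      (fun j => LinearMap.mulLeft A (ι (QuadGrp.baseChangeForm A Q) ((1 : A) ⊗ₜ[R] g (b j))) -
        LinearMap.mulRight A (ι (QuadGrp.baseChangeForm A Q) ((1 : A) ⊗ₜ[R] b j)))
  have hψ : ∀ j w, tensorEquiv A Q ((ψ j).lTensor A w) = ψA j (tensorEquiv A Q w) := by
    rintro (_ | j) w
    · exact tensorEquiv_lTensor_oddProj A Q w
    · have : (ψ (some j)).lTensor A = (LinearMap.mulLeft R (ι Q (g (b j)))).lTensor A -
          (LinearMap.mulRight R (ι Q (b j))).lTensor A := by
        simp only [ψ, Option.elim_some]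
        ext; simp
      rw [this, LinearMap.sub_apply, map_sub, tensorEquiv_lTensor_mulLeft,
        tensorEquiv_lTensor_mulRight, ofBC_ι, ofBC_ι]
      simp only [ψA, Option.elim_some, LinearMap.sub_apply, LinearMap.mulLeft_apply,
        LinearMap.mulRight_apply]
  have hmemψ : ∀ p : CliffordAlgebra Q, (∀ j, ψ j p = 0) ↔
      (p ∈ evenOdd Q 0 ∧ ∀ j, ι Q (g (b j)) * p = p * ι Q (b j)) := by
    intro p
    constructor
    · intro h
      refine ⟨(oddProj_eq_zero_iff Q p).mp (h none), fun j => ?_⟩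
      have := h (some j)
      simpa [ψ, sub_eq_zero] using this
    · rintro ⟨h0, h1⟩ (_ | j)
      · exact (oddProj_eq_zero_iff Q p).mpr h0
      · simpa [ψ, sub_eq_zero] using h1 j
  have huA0 : ∀ j, ψA j (uA : CliffordAlgebra (QuadGrp.baseChangeForm A Q)) = 0 := by
    rintro (_ | j)
    · exact (oddProj_eq_zero_iff _ _).mpr hk
    · simp only [ψA, Option.elim_some, LinearMap.sub_apply, LinearMap.mulLeft_apply,
        LinearMap.mulRight_apply]
      rw [← baseChange_tmul', hint, sub_self]
  have hKA : ∀ p : CliffordAlgebra Q, (∀ j, ψ j p = 0) →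
      ∃ c : A, ofBC A Q p = c • (uA : CliffordAlgebra (QuadGrp.baseChangeForm A Q)) := by
    intro p hp
    obtain ⟨hp0, hp'⟩ := (hmemψ p).mp hp
    have hintp : ∀ w, ι (QuadGrp.baseChangeForm A Q) (LinearEquiv.baseChange R A M M g w) *
        ofBC A Q p = ofBC A Q p * ι (QuadGrp.baseChangeForm A Q) w := by
      intro w
      have hlin : (LinearMap.mulRight A (ofBC A Q p)).comp
          ((ι (QuadGrp.baseChangeForm A Q)).comp (LinearEquiv.baseChange R A M M g).toLinearMap) =
          (LinearMap.mulLeft A (ofBC A Q p)).comp (ι (QuadGrp.baseChangeForm A Q)) := by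
        apply (b.baseChange A).ext
        intro j
        simp only [LinearMap.comp_apply, LinearEquiv.coe_coe, LinearMap.mulRight_apply,
          LinearMap.mulLeft_apply, Module.Basis.baseChange_apply, baseChange_tmul']
        rw [← ofBC_ι, ← ofBC_ι, ← map_mul, ← map_mul, hp' j]
      exact LinearMap.congr_fun hlin w
    have hV0 := inv_mem_evenOdd (QuadGrp.baseChangeForm A Q) uA 0 hk
    have hUV : (uA : CliffordAlgebra (QuadGrp.baseChangeForm A Q)) * ↑uA⁻¹ = 1 := Units.mul_inv uA
    have hVU : (↑uA⁻¹ : CliffordAlgebra (QuadGrp.baseChangeForm A Q)) * ↑uA = 1 := Units.inv_mul uA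
    generalize (uA : CliffordAlgebra (QuadGrp.baseChangeForm A Q)) = U at hint hUV hVU ⊢
    generalize (↑uA⁻¹ : CliffordAlgebra (QuadGrp.baseChangeForm A Q)) = V at hUV hVU hV0
    have hVp0 : V * ofBC A Q p ∈ evenOdd (QuadGrp.baseChangeForm A Q) 0 := by
      have := SetLike.mul_mem_graded hV0 (ofBC_mem_even A Q p hp0)
      rwa [add_zero] at this
    obtain ⟨c, hc⟩ := hcenter (V * ofBC A Q p) hVp0 (by
      intro w
      have h1 := hint w
      have h2 := hintp w
      have h3 : ι (QuadGrp.baseChangeForm A Q) w * V =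
          V * ι (QuadGrp.baseChangeForm A Q) (LinearEquiv.baseChange R A M M g w) := by
        calc ι (QuadGrp.baseChangeForm A Q) w * V
            = V * (U * ι (QuadGrp.baseChangeForm A Q) w) * V := by
              rw [← mul_assoc V, hVU, one_mul]
          _ = V * (ι (QuadGrp.baseChangeForm A Q) (LinearEquiv.baseChange R A M M g w) * U) * V := by
              rw [h1]
          _ = _ := by rw [mul_assoc, mul_assoc, hUV, mul_one]
      rw [← mul_assoc, h3, mul_assoc, h2, mul_assoc])
    refine ⟨c, ?_⟩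
    have := congrArg (fun t => U * t) hc
    simp only [← mul_assoc, hUV, one_mul] at this
    rw [this, Algebra.smul_def, Algebra.commutes]
  obtain ⟨p, hp, hpu, c, hcu, hc⟩ := exists_unit_descent A Q ψ ψA hψ uA huA0 hKA
  obtain ⟨hp0, hp'⟩ := (hmemψ p).mp hp
  obtain ⟨u, rfl⟩ := hpu
  refine ⟨u, hp0, ?_⟩
  have hlin : (LinearMap.mulRight R (u : CliffordAlgebra Q)).comp ((ι Q).comp g.toLinearMap) =
      (LinearMap.mulLeft R (u : CliffordAlgebra Q)).comp (ι Q) := by
    apply b.ext
    intro j
    exact hp' j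
  intro v
  exact LinearMap.congr_fun hlin v

/-- an even lift exists given a faithfully flat local extension with infinite residue field -/
theorem exists_even_lift_aux [Module.Finite R M] [IsLocalRing A]
    [Infinite (IsLocalRing.ResidueField A)] [Module.FaithfullyFlat R A] (m : ℕ)
    (b : Module.Basis (Fin (2 * m + 1)) R M)
    (hQ : QuadGrp.IsSemiregular b (LinearEquiv.refl R R) Q)
    (g : M ≃ₗ[R] M) (hg : g ∈ QuadGrp.O Q) (hdet : LinearEquiv.det g = 1) :
    ∃ u : (CliffordAlgebra Q)ˣ, (u : CliffordAlgebra Q) ∈ evenOdd Q 0 ∧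
      ∀ v, ι Q (g v) * u = u * ι Q v := by
  have hQA := isSemiregular_baseChange A b Q hQ
  obtain ⟨κ, _, _, ⟨ob⟩⟩ := exists_oddBasis m (b.baseChange A) (QuadGrp.baseChangeForm A Q) hQA
  have hgA := baseChange_mem_O A Q g hg
  have hdetA : LinearEquiv.det (LinearEquiv.baseChange R A M M g) = 1 := by
    rw [LinearEquiv.det_baseChange, hdet, map_one]
  obtain ⟨uA, huA, hcuA⟩ := OddBasis.hasLift_zero_of_det_eq_one ob _ hgA hdetA
  refine exists_even_lift_descent A Q g uA huA (fun w => ?_)
    (fun x hx hc => OddBasis.exists_eq_algebraMap_of_even_comm ob x hx hc)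
  have := hcuA w
  rwa [ZMod.val_zero, pow_zero, one_smul] at this

/-- **S16995**: over a local ring, isometries of determinant one lift to the even Clifford
group. -/
theorem exists_GSpin_lift [Module.Finite R M] [IsLocalRing R] (m : ℕ)
    (b : Module.Basis (Fin (2 * m + 1)) R M)
    (hQ : QuadGrp.IsSemiregular b (LinearEquiv.refl R R) Q)
    (g : M ≃ₗ[R] M) (hg : g ∈ QuadGrp.SO' Q) :
    ∃ u ∈ QuadGrp.GSpin Q, ∀ v : M,
      (u : CliffordAlgebra Q) * CliffordAlgebra.ι Q v * ↑u⁻¹ = CliffordAlgebra.ι Q (g v) := by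
  obtain ⟨u, hu0, hu⟩ := exists_even_lift_aux (NagataExt R) Q m b hQ g hg.1
    (MonoidHom.mem_ker.mp hg.2)
  have hconj := conj_of_intertwine Q u g hu
  exact ⟨u, ⟨⟨mem_GPin'_of_conj Q u g hconj, mem_LH_of_mem_evenOdd Q u 0 hu0⟩, hu0⟩, hconj⟩

end Groth.Agent.Helper7.Clf
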