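import Mathlib
import Groth.Agent.Helper7.ClgC

/-!
# Odd rank, local base: `GPin' = Z^× · GSpin`
-/

set_option autoImplicit false
universe u v w
open QuadraticMap CliffordAlgebra
open scoped TensorProduct

namespace Groth.Agent.Helper7.Clf

variable {R : Type u} [CommRing R] {M : Type v} [AddCommGroup M] [Module R M] [Module.Free R M]
  [Module.Finite R M]

/-- the factorisation, with the commutation property of the central factor -/
theorem exists_factor_GPin' [IsLocalRing R] (m : ℕ)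
    (b : Module.Basis (Fin (2 * m + 1)) R M) (Q : QuadraticForm R M)
    (hQ : QuadGrp.IsSemiregular b (LinearEquiv.refl R R) Q)
    (u' : (CliffordAlgebra Q)ˣ) (hu' : u' ∈ QuadGrp.GPin' Q) :
    ∃ z : (CliffordAlgebra Q)ˣ, (∀ y : CliffordAlgebra Q, y * z = z * y) ∧
      ∃ u ∈ QuadGrp.GSpin Q, u' = z * u := by
  obtain ⟨g, hg, hgu'⟩ := conj_mem_SO' m b Q hQ u' hu'
  obtain ⟨u, hu, hgu⟩ := exists_GSpin_lift Q m b hQ g hg
  refine ⟨u' * u⁻¹, ?_, u, hu, by group⟩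
  apply comm_of_comm_ι
  intro v
  -- `ι v * u' u⁻¹ = u' u⁻¹ * ι v`
  have h1 : ∀ x, (u' : CliffordAlgebra Q) * ι Q x = ι Q (g x) * u' := by
    intro x
    rw [← hgu' x, mul_assoc, Units.inv_mul, mul_one]
  have h2 : ∀ x, (↑u⁻¹ : CliffordAlgebra Q) * ι Q (g x) = ι Q x * ↑u⁻¹ := by
    intro x
    rw [← hgu x]
    simp only [← mul_assoc, Units.inv_mul, one_mul]
  have h3 : ∀ w, ι Q w * (u' : CliffordAlgebra Q) = u' * ι Q (g.symm w) := by
    intro w
    rw [h1, LinearEquiv.apply_symm_apply]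
  have h4 : ∀ w, ι Q (g.symm w) * (↑u⁻¹ : CliffordAlgebra Q) = ↑u⁻¹ * ι Q w := by
    intro w
    rw [← h2, LinearEquiv.apply_symm_apply]
  rw [Units.val_mul, ← mul_assoc, h3, mul_assoc, h4, mul_assoc]

/-- **S16996**. -/
theorem factor_GPin' [IsLocalRing R] (m : ℕ)
    (b : Module.Basis (Fin (2 * m + 1)) R M) (Q : QuadraticForm R M)
    (hQ : QuadGrp.IsSemiregular b (LinearEquiv.refl R R) Q)
    (u' : (CliffordAlgebra Q)ˣ) (hu' : u' ∈ QuadGrp.GPin' Q) :
    ∃ z : CliffordAlgebra Q, z ∈ Subalgebra.center R (CliffordAlgebra Q) ∧ IsUnit z ∧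
      ∃ u ∈ QuadGrp.GSpin Q, (u' : CliffordAlgebra Q) = z * u := by
  obtain ⟨z, hz, u, hu, h⟩ := exists_factor_GPin' m b Q hQ u' hu'
  refine ⟨z, Subalgebra.mem_center_iff.mpr hz, z.isUnit, u, hu, ?_⟩
  rw [h, Units.val_mul]

end Groth.Agent.Helper7.Clf
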