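import Mathlib
import Groth.Agent.Helper7.ClgD

/-!
# Odd rank `≡ 3 mod 4`, `2` invertible: `Pin = Pin'`
-/

set_option autoImplicit false
universe u v w
open QuadraticMap CliffordAlgebra
open scoped TensorProduct

namespace Groth.Agent.Helper7.Clf

section General

variable {R : Type u} [CommRing R] {M : Type v} [AddCommGroup M] [Module R M]
variable (Q : QuadraticForm R M)

theorem star_mem_evenOdd (k : ZMod 2) (x : CliffordAlgebra Q) (hx : x ∈ evenOdd Q k) :
    star x ∈ evenOdd Q k := by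
  rw [star_def, reverse_mem_evenOdd_iff, involute_mem_evenOdd_iff]
  exact hx

/-- the Clifford norm of an intertwiner commutes with all vectors -/
theorem norm_comm_ι (u : CliffordAlgebra Q) (g : M ≃ₗ[R] M)
    (h : ∀ v, ι Q (g v) * u = u * ι Q v) (v : M) :
    ι Q v * (star u * u) = (star u * u) * ι Q v := by
  have h1 : star u * ι Q (g v) = ι Q v * star u := by
    have := congrArg star (h v)
    rw [star_mul, star_mul, star_ι, star_ι, mul_neg, neg_mul, neg_inj] at this
    exact this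
  rw [← mul_assoc, ← h1, mul_assoc, h v, mul_assoc]

end General

variable {R : Type u} [CommRing R] {M : Type v} [AddCommGroup M] [Module R M] [Module.Free R M]

/-- A unit which is homogeneous at all maximal ideals is locally homogeneous. -/
theorem mem_LH_of_forall_local (Q : QuadraticForm R M) (u : (CliffordAlgebra Q)ˣ)
    (h : ∀ (P : Ideal R) [P.IsMaximal], ∃ k : ZMod 2,
      ofBC (Localization.AtPrime P) Q (u : CliffordAlgebra Q) ∈
        evenOdd (QuadGrp.baseChangeForm (Localization.AtPrime P) Q) k) : u ∈ QuadGrp.LH Q := by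
  obtain ⟨u0, h0, u1, h1, hsum⟩ := exists_even_odd Q (u : CliffordAlgebra Q)
  let I0 : Ideal R := LinearMap.ker (LinearMap.toSpanSingleton R (CliffordAlgebra Q) u0)
  let I1 : Ideal R := LinearMap.ker (LinearMap.toSpanSingleton R (CliffordAlgebra Q) u1)
  have hI0 : ∀ r, r ∈ I0 ↔ r • u0 = 0 := fun r => by
    rw [LinearMap.mem_ker, LinearMap.toSpanSingleton_apply]
  have hI1 : ∀ r, r ∈ I1 ↔ r • u1 = 0 := fun r => by
    rw [LinearMap.mem_ker, LinearMap.toSpanSingleton_apply]
  have hloc : ∀ (P : Ideal R) [P.IsMaximal], ∃ s, s ∉ P ∧ (s ∈ I0 ∨ s ∈ I1) := by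
    intro P _
    obtain ⟨k, hk⟩ := h P
    rw [hsum, map_add] at hk
    have e0 := ofBC_mem_even (Localization.AtPrime P) Q u0 h0
    have e1 := ofBC_mem_odd (Localization.AtPrime P) Q u1 h1
    rcases zmod2_cases k with rfl | rfl
    · have : ofBC (Localization.AtPrime P) Q u1 = 0 := by
        apply eq_zero_of_mem_even_of_mem_odd _ _ _ e1
        have := Submodule.sub_mem _ hk e0
        rwa [add_sub_cancel_left] at this
      obtain ⟨s, hs⟩ := (ofBC_eq_zero_iff Q P.primeCompl (Localization.AtPrime P) u1).mp this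
      exact ⟨s, s.2, Or.inr ((hI1 _).mpr hs)⟩
    · have : ofBC (Localization.AtPrime P) Q u0 = 0 := by
        apply eq_zero_of_mem_even_of_mem_odd _ _ e0
        have := Submodule.sub_mem _ hk e1
        rwa [add_sub_cancel_right] at this
      obtain ⟨s, hs⟩ := (ofBC_eq_zero_iff Q P.primeCompl (Localization.AtPrime P) u0).mp this
      exact ⟨s, s.2, Or.inl ((hI0 _).mpr hs)⟩
  have htop : I0 ⊔ I1 = ⊤ := by
    by_contra hne
    obtain ⟨P, hP, hle⟩ := Ideal.exists_le_maximal _ hne
    obtain ⟨s, hsP, hs | hs⟩ := hloc P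
    · exact hsP (hle (Submodule.mem_sup_left hs))
    · exact hsP (hle (Submodule.mem_sup_right hs))
  have h1mem : (1 : R) ∈ I0 ⊔ I1 := by rw [htop]; exact Submodule.mem_top
  obtain ⟨e', he', e, he, hee⟩ := Submodule.mem_sup.mp h1mem
  rw [hI0] at he'
  rw [hI1] at he
  have hprod : e * e' = 0 := by
    apply algebraMap_injective_of_free Q
    rw [map_zero, Algebra.algebraMap_eq_smul_one, ← Units.mul_inv u, ← smul_mul_assoc, hsum,
      smul_add, mul_smul, he', smul_zero, zero_add, mul_comm, mul_smul, he, smul_zero, zero_mul]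
  have he1 : 1 - e = e' := by rw [← hee]; ring
  rw [QuadGrp.mem_LH]
  refine ⟨e, ?_, ?_, ?_⟩
  · change e * e = e
    calc e * e = e * (e' + e) - e * e' := by ring
      _ = e := by rw [hee, hprod, mul_one, sub_zero]
  · rw [hsum, smul_add, he, add_zero]
    exact Submodule.smul_mem _ _ h0
  · rw [he1, hsum, smul_add, he', zero_add]
    exact Submodule.smul_mem _ _ h1

variable [Module.Finite R M]

/-- the local case -/
theorem homogeneous_of_pin'_local [IsLocalRing R] (h2 : IsUnit (2 : R)) (m : ℕ) (hm : Odd m)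
    (b : Module.Basis (Fin (2 * m + 1)) R M) (Q : QuadraticForm R M)
    (hQ : QuadGrp.IsSemiregular b (LinearEquiv.refl R R) Q)
    (U : (CliffordAlgebra Q)ˣ) (hU : U ∈ QuadGrp.GPin' Q)
    (hn : star (U : CliffordAlgebra Q) * U = 1) :
    ∃ k : ZMod 2, (U : CliffordAlgebra Q) ∈ evenOdd Q k := by
  classical
  obtain ⟨z, hz, u₀, hu₀, hUz⟩ := exists_factor_GPin' m b Q hQ U hU
  obtain ⟨κ, _, _, ⟨ob⟩⟩ := exists_oddBasis m b Q hQ
  obtain ⟨α, β, hαβ⟩ := ob.exists_eq_add_smul_ζ (z : CliffordAlgebra Q) (fun v => hz (ι Q v))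
  have hu₀0 : (u₀ : CliffordAlgebra Q) ∈ evenOdd Q 0 := hu₀.2
  have hu₀G : u₀ ∈ QuadGrp.GPin' Q := hu₀.1.1
  -- the norm of `u₀` is a scalar
  have hν0 : star (u₀ : CliffordAlgebra Q) * u₀ ∈ evenOdd Q 0 := by
    have := SetLike.mul_mem_graded (star_mem_evenOdd Q 0 _ hu₀0) hu₀0
    rwa [add_zero] at this
  obtain ⟨n, hn'⟩ := ob.exists_eq_algebraMap_of_even_comm _ hν0
    (norm_comm_ι Q _ (conjEquiv Q u₀ hu₀G) (fun v => ι_conjEquiv_mul Q u₀ hu₀G v))
  -- `star z = z`
  have hcard : Fintype.card κ = m := ob.card_eq m b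
  have hstarz : star (z : CliffordAlgebra Q) = z := by
    obtain ⟨j, rfl⟩ := hm
    rw [hαβ, star_add, CliffordAlgebra.star_smul, ob.star_ζ, hcard]
    have : ((-1 : R) ^ (2 * j + 1 + 1)) = 1 := by
      rw [show 2 * j + 1 + 1 = 2 * (j + 1) by ring, pow_mul]; simp
    rw [this, one_smul]
    congr 1
    rw [star_def, involute.commutes, reverse.commutes]
  obtain ⟨d, hd⟩ := ob.exists_ζ_sq
  -- expand the norm
  have hnorm : (1 : CliffordAlgebra Q) =
      algebraMap R _ ((α * α + β * β * d) * n) + (2 * α * β * n) • ob.ζ := by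
    have e1 : (U : CliffordAlgebra Q) = z * u₀ := by rw [hUz, Units.val_mul]
    have e2 : star (U : CliffordAlgebra Q) * U = (z : CliffordAlgebra Q) * z * (star ↑u₀ * ↑u₀) := by
      rw [e1, star_mul, hstarz]
      have c : star (u₀ : CliffordAlgebra Q) * ↑z = ↑z * star (u₀ : CliffordAlgebra Q) := hz _
      calc star (u₀ : CliffordAlgebra Q) * ↑z * (↑z * ↑u₀)
          = (star (u₀ : CliffordAlgebra Q) * ↑z) * ↑z * ↑u₀ := by noncomm_ring
        _ = (↑z * star (u₀ : CliffordAlgebra Q)) * ↑z * ↑u₀ := by rw [c]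
        _ = ↑z * (star (u₀ : CliffordAlgebra Q) * ↑z) * ↑u₀ := by noncomm_ring
        _ = ↑z * (↑z * star (u₀ : CliffordAlgebra Q)) * ↑u₀ := by rw [c]
        _ = _ := by noncomm_ring
    rw [← hn, e2, hn', hαβ]
    have hζα : ob.ζ * algebraMap R (CliffordAlgebra Q) α = algebraMap R _ α * ob.ζ :=
      (Algebra.commutes α ob.ζ).symm
    calc (algebraMap R (CliffordAlgebra Q) α + β • ob.ζ) * (algebraMap R _ α + β • ob.ζ) *
          algebraMap R _ n
        = (algebraMap R _ (α * α) + (β * β) • (ob.ζ * ob.ζ) +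
            (2 * α * β) • ob.ζ) * algebraMap R _ n := by
          congr 1
          simp only [Algebra.smul_def, map_mul, map_ofNat]
          rw [add_mul, mul_add, mul_add]
          have c1 : algebraMap R (CliffordAlgebra Q) β * ob.ζ * algebraMap R _ α =
              algebraMap R _ α * (algebraMap R _ β * ob.ζ) := by
            rw [mul_assoc, hζα, ← mul_assoc, ← mul_assoc, ← map_mul, ← map_mul, mul_comm]
          have c2 : algebraMap R (CliffordAlgebra Q) β * ob.ζ * (algebraMap R _ β * ob.ζ) =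
              algebraMap R _ β * algebraMap R _ β * (ob.ζ * ob.ζ) := by
            rw [mul_assoc, ← mul_assoc ob.ζ, ← Algebra.commutes β ob.ζ]; noncomm_ring
          rw [c1, c2]
          noncomm_ring
      _ = _ := by
          rw [hd]
          simp only [Algebra.smul_def, map_mul, map_add, map_ofNat]
          have c3 : ob.ζ * algebraMap R (CliffordAlgebra Q) n = algebraMap R _ n * ob.ζ :=
            (Algebra.commutes n ob.ζ).symm
          rw [add_mul, mul_assoc _ ob.ζ, c3]
          noncomm_ring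
  -- compare even and odd parts
  have h0 : algebraMap R (CliffordAlgebra Q) ((α * α + β * β * d) * n - 1) ∈ evenOdd Q 0 :=
    SetLike.algebraMap_mem_graded _ _
  have h1 : (2 * α * β * n) • ob.ζ ∈ evenOdd Q 1 := Submodule.smul_mem _ _ ob.ζ_mem
  have hsum : algebraMap R (CliffordAlgebra Q) ((α * α + β * β * d) * n - 1) +
      (2 * α * β * n) • ob.ζ = 0 := by
    rw [map_sub, map_one, sub_add_eq_add_sub, ← hnorm, sub_self]
  obtain ⟨e0, e1⟩ := eq_zero_of_add_eq_zero Q _ _ h0 h1 hsum
  have hE : (α * α + β * β * d) * n = 1 := by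
    have : (α * α + β * β * d) * n - 1 = 0 :=
      algebraMap_injective_of_free Q (by rw [e0, map_zero])
    exact sub_eq_zero.mp this
  have hO : 2 * α * β * n = 0 := smul_ζ_eq_zero ob _ e1
  have hnu : IsUnit n := IsUnit.of_mul_eq_one _ (by rw [mul_comm]; exact hE)
  have hαβ0 : α * β = 0 := by
    have h3 : IsUnit (2 * n) := h2.mul hnu
    have : (2 * n) * (α * β) = 0 := by rw [← hO]; ring
    exact (h3.mul_right_eq_zero).mp this
  have hsq : IsUnit (α * α + β * β * d) := IsUnit.of_mul_eq_one _ hE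
  have hor : IsUnit α ∨ IsUnit β := by
    by_contra hcon
    push Not at hcon
    have ha : α ∈ IsLocalRing.maximalIdeal R := (IsLocalRing.mem_maximalIdeal α).mpr hcon.1
    have hb : β ∈ IsLocalRing.maximalIdeal R := (IsLocalRing.mem_maximalIdeal β).mpr hcon.2
    have : α * α + β * β * d ∈ IsLocalRing.maximalIdeal R :=
      Ideal.add_mem _ (Ideal.mul_mem_left _ _ ha)
        (Ideal.mul_mem_right _ _ (Ideal.mul_mem_left _ _ hb))
    exact (IsLocalRing.mem_maximalIdeal _).mp this hsq
  have hUval : (U : CliffordAlgebra Q) = z * u₀ := by rw [hUz, Units.val_mul]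
  rcases hor with ha | hb
  · have hβ : β = 0 := (ha.mul_right_eq_zero).mp hαβ0
    refine ⟨0, ?_⟩
    rw [hUval, hαβ, hβ, zero_smul, add_zero, ← Algebra.smul_def]
    exact Submodule.smul_mem _ _ hu₀0
  · have hα : α = 0 := (hb.mul_left_eq_zero).mp hαβ0
    refine ⟨1, ?_⟩
    rw [hUval, hαβ, hα, map_zero, zero_add, smul_mul_assoc]
    apply Submodule.smul_mem
    have := SetLike.mul_mem_graded ob.ζ_mem hu₀0
    rwa [add_zero] at this

/-- over a local algebra -/
theorem ofBC_pin'_homogeneous [Invertible (2 : R)] (m : ℕ) (hm : Odd m)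
    (b : Module.Basis (Fin (2 * m + 1)) R M) (Q : QuadraticForm R M)
    (hQ : QuadGrp.IsSemiregular b (LinearEquiv.refl R R) Q)
    (A : Type w) [CommRing A] [Algebra R A] [IsLocalRing A]
    (u : (CliffordAlgebra Q)ˣ) (hu : u ∈ QuadGrp.GPin' Q)
    (hn : star (u : CliffordAlgebra Q) * u = 1) :
    ∃ k : ZMod 2, ofBC A Q (u : CliffordAlgebra Q) ∈ evenOdd (QuadGrp.baseChangeForm A Q) k := by
  have hQA := isSemiregular_baseChange A b Q hQ
  obtain ⟨UA, hUA, hint⟩ := exists_unit_baseChange A Q (conjEquiv Q u hu) u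
    (fun v => ι_conjEquiv_mul Q u hu v)
  have hG : UA ∈ QuadGrp.GPin' (QuadGrp.baseChangeForm A Q) :=
    mem_GPin'_of_conj _ UA _ (conj_of_intertwine _ UA _ hint)
  have hnA : star (UA : CliffordAlgebra (QuadGrp.baseChangeForm A Q)) * UA = 1 := by
    rw [hUA, ← ofBC_star, ← map_mul, hn, map_one]
  have h2 : IsUnit (2 : A) := by
    have := (isUnit_of_invertible (2 : R)).map (algebraMap R A)
    rwa [map_ofNat] at this
  obtain ⟨k, hk⟩ := homogeneous_of_pin'_local h2 m hm (b.baseChange A)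
    (QuadGrp.baseChangeForm A Q) hQA UA hG hnA
  exact ⟨k, hUA ▸ hk⟩

/-- **S16997**. -/
theorem pin_eq_pin' [Invertible (2 : R)] (m : ℕ) (hm : Odd m)
    (b : Module.Basis (Fin (2 * m + 1)) R M) (Q : QuadraticForm R M)
    (hQ : QuadGrp.IsSemiregular b (LinearEquiv.refl R R) Q) :
    QuadGrp.Pin Q = QuadGrp.Pin' Q := by
  apply le_antisymm
  · rintro u ⟨⟨hG, -⟩, hN⟩
    exact ⟨hG, hN⟩
  · rintro u ⟨hG, hN⟩
    refine ⟨⟨hG, ?_⟩, hN⟩
    apply mem_LH_of_forall_local
    intro P _
    exact ofBC_pin'_homogeneous m hm b Q hQ (Localization.AtPrime P) u hG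
      ((QuadGrp.mem_normOne Q u).mp hN)

end Groth.Agent.Helper7.Clf
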