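import Mathlib
import Groth.Agent.Helper7.ClgE

/-!
# Odd rank semiregular forms over any ring: `M` is a direct summand of `C(Q)`, even central
elements are scalars, local generators of the odd part of the centre
-/

set_option autoImplicit false
universe u v w
open QuadraticMap CliffordAlgebra
open scoped TensorProduct

namespace Groth.Agent.Helper7.Clf

section Summand

variable {R : Type u} [CommRing R] {M : Type v} [AddCommGroup M] [Module R M] [Module.Free R M]
variable (Q : QuadraticForm R M)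

/-- a linear retraction of `ι` (free modules) -/
theorem exists_retraction_ι : ∃ ρ : CliffordAlgebra Q →ₗ[R] M, ∀ v, ρ (ι Q v) = v := by
  obtain ⟨B, hB⟩ := LinearMap.BilinMap.toQuadraticMap_surjective (-Q)
  have h : B.toQuadraticMap = 0 - Q := by rw [hB, zero_sub]
  refine ⟨(ExteriorAlgebra.ιInv (R := R) (M := M)) ∘ₗ changeForm h, fun v => ?_⟩
  rw [LinearMap.comp_apply, changeForm_ι]
  exact ExteriorAlgebra.ι_leftInverse v

/-- `M` is a direct summand of the Clifford algebra -/
theorem exists_isCompl_range_ι :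
    ∃ W : Submodule R (CliffordAlgebra Q), IsCompl (LinearMap.range (ι Q)) W := by
  obtain ⟨ρ, hρ⟩ := exists_retraction_ι Q
  refine ⟨LinearMap.ker ρ, ?_⟩
  constructor
  · rw [Submodule.disjoint_def]
    rintro x ⟨v, rfl⟩ hx
    rw [LinearMap.mem_ker, hρ] at hx
    rw [hx, map_zero]
  · rw [codisjoint_iff, eq_top_iff]
    intro x _
    rw [Submodule.mem_sup]
    refine ⟨ι Q (ρ x), ⟨_, rfl⟩, x - ι Q (ρ x), ?_, by abel⟩
    rw [LinearMap.mem_ker, map_sub, hρ, sub_self]

/-- even and odd parts of an element commuting with all vectors commute with all vectors -/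
theorem comm_parts (x0 x1 : CliffordAlgebra Q) (h0 : x0 ∈ evenOdd Q 0) (h1 : x1 ∈ evenOdd Q 1)
    (hx : ∀ v, ι Q v * (x0 + x1) = (x0 + x1) * ι Q v) (v : M) :
    ι Q v * x0 = x0 * ι Q v ∧ ι Q v * x1 = x1 * ι Q v := by
  have h := hx v
  rw [mul_add, add_mul] at h
  have a1 : ι Q v * x0 - x0 * ι Q v ∈ evenOdd Q 1 :=
    Submodule.sub_mem _ (ι_mul_mem_odd Q v x0 h0) (mul_ι_mem_odd Q v x0 h0)
  have a0 : ι Q v * x1 - x1 * ι Q v ∈ evenOdd Q 0 :=
    Submodule.sub_mem _ (ι_mul_mem_even Q v x1 h1) (mul_ι_mem_even Q v x1 h1)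
  have hs : (ι Q v * x1 - x1 * ι Q v) + (ι Q v * x0 - x0 * ι Q v) = 0 := by
    have : ι Q v * x0 + ι Q v * x1 - (x0 * ι Q v + x1 * ι Q v) = 0 := sub_eq_zero.mpr h
    rw [← this]; abel
  obtain ⟨e0, e1⟩ := eq_zero_of_add_eq_zero Q _ _ a0 a1 hs
  exact ⟨sub_eq_zero.mp e1, sub_eq_zero.mp e0⟩

end Summand

variable {R : Type u} [CommRing R] {M : Type v} [AddCommGroup M] [Module R M] [Module.Free R M]
  [Module.Finite R M]

/-- over a local algebra, the image of an even element commuting with vectors is a scalar -/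
theorem ofBC_even_comm_scalar (A : Type w) [CommRing A] [Algebra R A] [IsLocalRing A] (m : ℕ)
    (b : Module.Basis (Fin (2 * m + 1)) R M) (Q : QuadraticForm R M)
    (hQ : QuadGrp.IsSemiregular b (LinearEquiv.refl R R) Q)
    (z : CliffordAlgebra Q) (hz0 : z ∈ evenOdd Q 0) (hz : ∀ v, ι Q v * z = z * ι Q v) :
    ∃ a : A, ofBC A Q z = algebraMap A _ a := by
  have hQA := isSemiregular_baseChange A b Q hQ
  obtain ⟨κ, _, _, ⟨ob⟩⟩ := exists_oddBasis m (b.baseChange A) (QuadGrp.baseChangeForm A Q) hQA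
  exact ob.exists_eq_algebraMap_of_even_comm _ (ofBC_mem_even A Q z hz0) (ofBC_comm_ι A Q z hz)

/-- **(b)**: even elements commuting with all vectors are scalars (any base ring). -/
theorem exists_eq_algebraMap_of_even_comm_global (m : ℕ)
    (b : Module.Basis (Fin (2 * m + 1)) R M) (Q : QuadraticForm R M)
    (hQ : QuadGrp.IsSemiregular b (LinearEquiv.refl R R) Q)
    (z : CliffordAlgebra Q) (hz0 : z ∈ evenOdd Q 0) (hz : ∀ v, ι Q v * z = z * ι Q v) :
    ∃ r : R, z = algebraMap R _ r := by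
  obtain ⟨π, hπ⟩ := exists_retraction Q
  refine ⟨π z, ?_⟩
  rw [← sub_eq_zero]
  apply eq_zero_of_forall_ofBC
  intro P _
  obtain ⟨a, ha⟩ := ofBC_even_comm_scalar (Localization.AtPrime P) m b Q hQ z hz0 hz
  obtain ⟨⟨r₀, s⟩, hs⟩ := IsLocalization.surj P.primeCompl a
  -- `s • z - r₀` dies in the localisation
  have h1 : ofBC (Localization.AtPrime P) Q ((s : R) • z - algebraMap R _ r₀) = 0 := by
    rw [map_sub, ofBC_smul, ofBC_algebraMap, ha, ← hs, Algebra.smul_def, ← map_mul, mul_comm,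
      sub_self]
  obtain ⟨t, ht⟩ := (ofBC_eq_zero_iff Q P.primeCompl (Localization.AtPrime P) _).mp h1
  have h2 : ((t : R) * s) • z = algebraMap R _ ((t : R) * r₀) := by
    rw [smul_sub, sub_eq_zero] at ht
    rw [mul_smul, ht, Algebra.smul_def, ← map_mul]
  have h3 : ((t : R) * s) * π z = (t : R) * r₀ := by
    have := congrArg π h2
    rwa [map_smul, hπ, smul_eq_mul] at this
  apply (ofBC_eq_zero_iff Q P.primeCompl (Localization.AtPrime P) _).mpr
  refine ⟨t * s, ?_⟩
  rw [Submonoid.coe_mul, smul_sub, h2, Algebra.smul_def, ← map_mul, h3, sub_self]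

theorem oddProj_mem {R : Type u} [CommRing R] {M : Type v} [AddCommGroup M] [Module R M]
    (Q : QuadraticForm R M) (x : CliffordAlgebra Q) : oddProj Q x ∈ evenOdd Q 1 :=
  Submodule.projection_apply_mem _ x

/-- a local generator of the odd part of the centre, spread out from a localisation -/
theorem exists_odd_comm_of_localization (S : Submonoid R) (A : Type w) [CommRing A] [Algebra R A]
    [IsLocalization S A] [IsLocalRing A] (m : ℕ)
    (b : Module.Basis (Fin (2 * m + 1)) R M) (Q : QuadraticForm R M)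
    (hQ : QuadGrp.IsSemiregular b (LinearEquiv.refl R R) Q) :
    ∃ (z : CliffordAlgebra Q) (r : R), z ∈ evenOdd Q 1 ∧ (∀ v, ι Q v * z = z * ι Q v) ∧
      z * z = algebraMap R _ r ∧ IsUnit (algebraMap R A r) := by
  classical
  have hQA := isSemiregular_baseChange A b Q hQ
  obtain ⟨κ, _, _, ⟨ob⟩⟩ := exists_oddBasis m (b.baseChange A) (QuadGrp.baseChangeForm A Q) hQA
  obtain ⟨s, x, hx⟩ := exists_smul_eq_ofBC Q S A ob.ζ
  have hx₁ : ofBC A Q (oddProj Q x) = (algebraMap R A s) • ob.ζ := by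
    rw [ofBC_oddProj, ← hx, oddProj_of_mem_odd _ _ (Submodule.smul_mem _ _ ob.ζ_mem)]
  have hy : ∀ j, ∃ t : S, (t : R) • (ι Q (b j) * oddProj Q x - oddProj Q x * ι Q (b j)) = 0 := by
    intro j
    apply (ofBC_eq_zero_iff Q S A _).mp
    rw [map_sub, map_mul, map_mul, hx₁, ofBC_ι, mul_smul_comm, smul_mul_assoc, ob.ζ_comm_ι,
      sub_self]
  choose t ht using hy
  set T : R := ∏ j, (t j : R) with hT
  have hTS : T ∈ S := Submonoid.prod_mem _ (fun j _ => (t j).2)
  have hTy : ∀ j, T • (ι Q (b j) * oddProj Q x - oddProj Q x * ι Q (b j)) = 0 := by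
    intro j
    rw [hT, ← Finset.mul_prod_erase Finset.univ (fun j => (t j : R)) (Finset.mem_univ j),
      mul_comm, mul_smul, ht j, smul_zero]
  have hz1 : T • oddProj Q x ∈ evenOdd Q 1 := Submodule.smul_mem _ _ (oddProj_mem Q x)
  have hzc : ∀ v, ι Q v * (T • oddProj Q x) = (T • oddProj Q x) * ι Q v := by
    have hlin : (LinearMap.mulRight R (T • oddProj Q x)).comp (ι Q) =
        (LinearMap.mulLeft R (T • oddProj Q x)).comp (ι Q) := by
      apply b.ext
      intro j
      have := hTy j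
      rw [smul_sub, sub_eq_zero] at this
      simp only [LinearMap.comp_apply, LinearMap.mulRight_apply, LinearMap.mulLeft_apply]
      rw [mul_smul_comm, smul_mul_assoc]
      exact this
    intro v
    exact LinearMap.congr_fun hlin v
  have hzz0 : (T • oddProj Q x) * (T • oddProj Q x) ∈ evenOdd Q 0 := by
    have := SetLike.mul_mem_graded hz1 hz1
    rwa [show (1 : ZMod 2) + 1 = 0 from rfl] at this
  obtain ⟨r, hr⟩ := exists_eq_algebraMap_of_even_comm_global m b Q hQ _ hzz0 (fun v => by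
    rw [← mul_assoc, hzc v, mul_assoc, hzc v, mul_assoc])
  refine ⟨T • oddProj Q x, r, hz1, hzc, hr, ?_⟩
  obtain ⟨d, hd⟩ := ob.exists_ζ_sq
  have ha : IsUnit (algebraMap R A (T * s)) := IsLocalization.map_units A ⟨T * s, S.mul_mem hTS s.2⟩
  have h1 : ofBC A Q (T • oddProj Q x) = (algebraMap R A (T * s)) • ob.ζ := by
    rw [ofBC_smul, hx₁, smul_smul, map_mul]
  have h2 : algebraMap A (CliffordAlgebra (QuadGrp.baseChangeForm A Q)) (algebraMap R A r) =
      algebraMap A _ (algebraMap R A (T * s) * algebraMap R A (T * s) * d) := by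
    rw [← ofBC_algebraMap, ← hr, map_mul, h1, smul_mul_assoc, mul_smul_comm, hd, smul_smul,
      Algebra.smul_def, ← map_mul]
  rw [algebraMap_injective_of_free _ h2]
  exact (ha.mul ha).mul d.isUnit

/-- for every maximal ideal, an odd element commuting with all vectors whose square is a scalar
outside the ideal -/
theorem exists_odd_comm_sq_notMem (P : Ideal R) [P.IsMaximal] (m : ℕ)
    (b : Module.Basis (Fin (2 * m + 1)) R M) (Q : QuadraticForm R M)
    (hQ : QuadGrp.IsSemiregular b (LinearEquiv.refl R R) Q) :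
    ∃ (z : CliffordAlgebra Q) (r : R), z ∈ evenOdd Q 1 ∧ (∀ v, ι Q v * z = z * ι Q v) ∧
      z * z = algebraMap R _ r ∧ r ∉ P := by
  obtain ⟨z, r, h1, h2, h3, h4⟩ :=
    exists_odd_comm_of_localization P.primeCompl (Localization.AtPrime P) m b Q hQ
  refine ⟨z, r, h1, h2, h3, ?_⟩
  have := (IsLocalization.AtPrime.isUnit_to_map_iff (Localization.AtPrime P) P r).mp h4
  exact this

end Groth.Agent.Helper7.Clf
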