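import Mathlib
import Groth.Agent.Helper7.ClgF

/-!
# Odd rank semiregular forms over any ring: `Z(C(Q)) ⊗ C₀(Q) → C(Q)` is bijective
-/

set_option autoImplicit false
universe u v w
open QuadraticMap CliffordAlgebra
open scoped TensorProduct

namespace Groth.Agent.Helper7.Clf

section Defs

variable {R : Type u} [CommRing R] {M : Type v} [AddCommGroup M] [Module R M]
variable (Q : QuadraticForm R M)

/-- the multiplication map `Z ⊗ C₀ → C` -/
noncomputable def muMap : ↥(Subalgebra.center R (CliffordAlgebra Q)) ⊗[R] ↥(CliffordAlgebra.even Q)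
    →ₗ[R] CliffordAlgebra Q :=
  TensorProduct.lift (((LinearMap.mul R (CliffordAlgebra Q)).comp
    (Subalgebra.center R (CliffordAlgebra Q)).val.toLinearMap).compl₂
      (CliffordAlgebra.even Q).val.toLinearMap)

@[simp] theorem muMap_tmul (z : ↥(Subalgebra.center R (CliffordAlgebra Q)))
    (c : ↥(CliffordAlgebra.even Q)) :
    muMap Q (z ⊗ₜ c) = (z : CliffordAlgebra Q) * (c : CliffordAlgebra Q) := rfl

theorem sub_oddProj_mem (x : CliffordAlgebra Q) : x - oddProj Q x ∈ evenOdd Q 0 := by
  rw [← oddProj_eq_zero_iff, map_sub, oddProj_of_mem_odd Q _ (oddProj_mem Q x), sub_self]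

/-- the even part, as a map to the even subalgebra -/
noncomputable def evenPart : CliffordAlgebra Q →ₗ[R] ↥(CliffordAlgebra.even Q) where
  toFun x := ⟨x - oddProj Q x, (mem_even_iff Q _).mpr (sub_oddProj_mem Q x)⟩
  map_add' x y := by
    apply Subtype.ext
    simp only [map_add, Subalgebra.coe_add]
    abel
  map_smul' r x := by
    apply Subtype.ext
    simp only [map_smul, smul_sub, RingHom.id_apply, Subalgebra.coe_smul]

@[simp] theorem evenPart_coe (x : CliffordAlgebra Q) :
    (evenPart Q x : CliffordAlgebra Q) = x - oddProj Q x := rfl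

/-- left multiplication of the odd part by an odd element, as a map to the even subalgebra -/
noncomputable def mulOddPart (z : CliffordAlgebra Q) (hz : z ∈ evenOdd Q 1) :
    CliffordAlgebra Q →ₗ[R] ↥(CliffordAlgebra.even Q) where
  toFun x := ⟨z * oddProj Q x, (mem_even_iff Q _).mpr (by
    have := SetLike.mul_mem_graded hz (oddProj_mem Q x)
    rwa [show (1 : ZMod 2) + 1 = 0 from rfl] at this)⟩
  map_add' x y := by
    apply Subtype.ext
    simp only [map_add, mul_add, Subalgebra.coe_add]
  map_smul' r x := by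
    apply Subtype.ext
    simp only [map_smul, mul_smul_comm, RingHom.id_apply, Subalgebra.coe_smul]

@[simp] theorem mulOddPart_coe (z : CliffordAlgebra Q) (hz : z ∈ evenOdd Q 1)
    (x : CliffordAlgebra Q) : (mulOddPart Q z hz x : CliffordAlgebra Q) = z * oddProj Q x := rfl

/-- scalars `r` such that `r` times the identity factors through `muMap` on both sides -/
def goodIdeal : Ideal R where
  carrier := {r | ∃ lam : CliffordAlgebra Q →ₗ[R]
      ↥(Subalgebra.center R (CliffordAlgebra Q)) ⊗[R] ↥(CliffordAlgebra.even Q),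
    (∀ x, muMap Q (lam x) = r • x) ∧ (∀ t, lam (muMap Q t) = r • t)}
  add_mem' := by
    rintro r s ⟨l1, h1, h1'⟩ ⟨l2, h2, h2'⟩
    refine ⟨l1 + l2, fun x => ?_, fun t => ?_⟩
    · rw [LinearMap.add_apply, map_add, h1, h2, add_smul]
    · rw [LinearMap.add_apply, h1', h2', add_smul]
  zero_mem' := ⟨0, fun x => by simp, fun t => by simp⟩
  smul_mem' := by
    rintro a r ⟨l, h, h'⟩
    refine ⟨a • l, fun x => ?_, fun t => ?_⟩
    · rw [LinearMap.smul_apply, map_smul, h, smul_smul, smul_eq_mul]
    · rw [LinearMap.smul_apply, h', smul_smul, smul_eq_mul]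

theorem mem_goodIdeal (r : R) : r ∈ goodIdeal Q ↔ ∃ lam : CliffordAlgebra Q →ₗ[R]
      ↥(Subalgebra.center R (CliffordAlgebra Q)) ⊗[R] ↥(CliffordAlgebra.even Q),
    (∀ x, muMap Q (lam x) = r • x) ∧ (∀ t, lam (muMap Q t) = r • t) := Iff.rfl

theorem bijective_muMap_of_one_mem (h : (1 : R) ∈ goodIdeal Q) : Function.Bijective (muMap Q) := by
  obtain ⟨lam, h1, h2⟩ := h
  rw [Function.bijective_iff_has_inverse]
  exact ⟨lam, fun t => by rw [h2, one_smul], fun x => by rw [h1, one_smul]⟩

end Defs

variable {R : Type u} [CommRing R] {M : Type v} [AddCommGroup M] [Module R M] [Module.Free R M]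
  [Module.Finite R M]

/-- squares of odd central elements lie in the good ideal -/
theorem sq_mem_goodIdeal (m : ℕ)
    (b : Module.Basis (Fin (2 * m + 1)) R M) (Q : QuadraticForm R M)
    (hQ : QuadGrp.IsSemiregular b (LinearEquiv.refl R R) Q)
    (z : CliffordAlgebra Q) (hz1 : z ∈ evenOdd Q 1) (hzc : ∀ v, ι Q v * z = z * ι Q v)
    (r : R) (hr : z * z = algebraMap R _ r) : r ∈ goodIdeal Q := by
  have hzZ : z ∈ Subalgebra.center R (CliffordAlgebra Q) :=
    Subalgebra.mem_center_iff.mpr (comm_of_comm_ι Q z hzc)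
  refine ⟨r • ((TensorProduct.mk R _ _ (1 : ↥(Subalgebra.center R (CliffordAlgebra Q)))).comp
      (evenPart Q)) + (TensorProduct.mk R _ _ (⟨z, hzZ⟩ :
        ↥(Subalgebra.center R (CliffordAlgebra Q)))).comp (mulOddPart Q z hz1), fun x => ?_,
      fun t => ?_⟩
  · simp only [LinearMap.add_apply, LinearMap.smul_apply, LinearMap.comp_apply,
      TensorProduct.mk_apply, map_add, map_smul, muMap_tmul, evenPart_coe, mulOddPart_coe,
      OneMemClass.coe_one, one_mul]
    rw [← mul_assoc, hr, ← Algebra.smul_def, smul_sub, sub_add_cancel]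
  · induction t using TensorProduct.induction_on with
    | zero => simp
    | add t1 t2 h1 h2 => rw [map_add, map_add, h1, h2, smul_add]
    | tmul z' c =>
      obtain ⟨x0, h0, x1, h1, hsum⟩ := exists_even_odd Q (z' : CliffordAlgebra Q)
      have hz'c : ∀ v, ι Q v * (x0 + x1) = (x0 + x1) * ι Q v := by
        intro v
        rw [← hsum]
        exact Subalgebra.mem_center_iff.mp z'.2 (ι Q v)
      have hc0 : ∀ v, ι Q v * x0 = x0 * ι Q v := fun v => (comm_parts Q x0 x1 h0 h1 hz'c v).1
      have hc1 : ∀ v, ι Q v * x1 = x1 * ι Q v := fun v => (comm_parts Q x0 x1 h0 h1 hz'c v).2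
      obtain ⟨a, ha⟩ := exists_eq_algebraMap_of_even_comm_global m b Q hQ x0 h0 hc0
      have hzx1 : z * x1 ∈ evenOdd Q 0 := by
        have := SetLike.mul_mem_graded hz1 h1
        rwa [show (1 : ZMod 2) + 1 = 0 from rfl] at this
      obtain ⟨a', ha'⟩ := exists_eq_algebraMap_of_even_comm_global m b Q hQ (z * x1) hzx1
        (fun v => by rw [← mul_assoc, hzc v, mul_assoc, hc1 v, mul_assoc])
      have hce : (c : CliffordAlgebra Q) ∈ evenOdd Q 0 := (mem_even_iff Q _).mp c.2
      -- parts of the product
      have hodd : oddProj Q ((z' : CliffordAlgebra Q) * c) = x1 * c := by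
        rw [hsum, add_mul]
        apply oddProj_add
        · have := SetLike.mul_mem_graded h0 hce
          rwa [add_zero] at this
        · have := SetLike.mul_mem_graded h1 hce
          rwa [add_zero] at this
      have e1 : evenPart Q ((z' : CliffordAlgebra Q) * c) = a • c := by
        apply Subtype.ext
        rw [evenPart_coe, hodd, hsum, add_mul, add_sub_cancel_right, ha, Subalgebra.coe_smul,
          Algebra.smul_def]
      have e2 : mulOddPart Q z hz1 ((z' : CliffordAlgebra Q) * c) = a' • c := by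
        apply Subtype.ext
        rw [mulOddPart_coe, hodd, ← mul_assoc, ha', Subalgebra.coe_smul, Algebra.smul_def]
      have e3 : (r * a) • (1 : ↥(Subalgebra.center R (CliffordAlgebra Q))) +
          a' • (⟨z, hzZ⟩ : ↥(Subalgebra.center R (CliffordAlgebra Q))) = r • z' := by
        apply Subtype.ext
        simp only [Subalgebra.coe_add, Subalgebra.coe_smul, OneMemClass.coe_one]
        have hx1z : x1 * z = z * x1 := comm_of_comm_ι Q z hzc x1
        have : a' • z = r • x1 := by
          rw [Algebra.smul_def, ← ha', mul_assoc, hx1z, ← mul_assoc, hr, ← Algebra.smul_def]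
        rw [this, hsum, smul_add, ha, mul_smul, Algebra.algebraMap_eq_smul_one]
      rw [muMap_tmul]
      simp only [LinearMap.add_apply, LinearMap.smul_apply, LinearMap.comp_apply,
        TensorProduct.mk_apply]
      rw [e1, e2, TensorProduct.tmul_smul, TensorProduct.tmul_smul, smul_smul]
      simp only [TensorProduct.smul_tmul']
      rw [← TensorProduct.add_tmul, e3]

/-- **(c)**: the multiplication map `Z ⊗ C₀ → C` is bijective. -/
theorem bijective_muMap (m : ℕ)
    (b : Module.Basis (Fin (2 * m + 1)) R M) (Q : QuadraticForm R M)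
    (hQ : QuadGrp.IsSemiregular b (LinearEquiv.refl R R) Q) : Function.Bijective (muMap Q) := by
  apply bijective_muMap_of_one_mem
  by_contra hne
  have hne' : goodIdeal Q ≠ ⊤ := fun h => hne (by rw [h]; exact Submodule.mem_top)
  obtain ⟨P, hP, hle⟩ := Ideal.exists_le_maximal _ hne'
  obtain ⟨z, r, h1, h2, h3, h4⟩ := exists_odd_comm_sq_notMem P m b Q hQ
  exact h4 (hle (sq_mem_goodIdeal m b Q hQ z h1 h2 r h3))

end Groth.Agent.Helper7.Clf
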