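import Mathlib
import Groth.Agent.Helper7.ClgG

/-!
# A basis of the Clifford algebra; `C(Q ⊥ H) ≃ M₂(C(Q))` for the hyperbolic plane `H`
-/

set_option autoImplicit false
universe u v w
open QuadraticMap CliffordAlgebra
open scoped TensorProduct

namespace Groth.Agent.Helper7.Clf

section Basis

variable {R : Type u} [CommRing R] {M : Type v} [AddCommGroup M] [Module R M]

/-- a basis of the Clifford algebra of a free module, indexed by the subsets of a basis -/
theorem nonempty_basis_clifford {I : Type*} (b : Module.Basis I R M) (Q : QuadraticForm R M) :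
    Nonempty (Module.Basis (Finset I) R (CliffordAlgebra Q)) := by
  classical
  haveI : Module.Free R M := Module.Free.of_basis b
  letI : LinearOrder I := linearOrderOfSTO WellOrderingRel
  obtain ⟨B, hB⟩ := LinearMap.BilinMap.toQuadraticMap_surjective (-Q)
  have h : B.toQuadraticMap = 0 - Q := by rw [hB, zero_sub]
  exact ⟨(b.ExteriorAlgebra).map (changeFormEquiv h).symm⟩

end Basis

section HypStep

variable {R : Type u} [CommRing R] {N : Type v} [AddCommGroup N] [Module R N]

/-- the hyperbolic plane -/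
def H1 (R : Type u) [CommRing R] : QuadraticForm R (R × R) :=
  QuadraticMap.linMulLin (LinearMap.fst R R R) (LinearMap.snd R R R)

@[simp] theorem H1_apply (p : R × R) : H1 R p = p.1 * p.2 := rfl

variable (QN : QuadraticForm R N)

/-- the orthogonal sum with a hyperbolic plane -/
abbrev QH : QuadraticForm R (N × (R × R)) := QN.prod (H1 R)

theorem QH_apply (v : N × (R × R)) : QH QN v = QN v.1 + v.2.1 * v.2.2 := rfl

/-- the generators in `M₂(C(Q))` -/
noncomputable def stepLin : N × (R × R) →ₗ[R] Matrix (Fin 2) (Fin 2) (CliffordAlgebra QN) where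
  toFun v := !![ι QN v.1, algebraMap R _ v.2.1; algebraMap R _ v.2.2, -ι QN v.1]
  map_add' v w := by
    ext i j
    fin_cases i <;> fin_cases j <;> simp [add_comm]
  map_smul' r v := by
    ext i j
    fin_cases i <;> fin_cases j <;> simp [Algebra.smul_def]

theorem stepLin_apply (v : N × (R × R)) :
    stepLin QN v = !![ι QN v.1, algebraMap R _ v.2.1; algebraMap R _ v.2.2, -ι QN v.1] := rfl

theorem stepLin_sq (v : N × (R × R)) :
    stepLin QN v * stepLin QN v = algebraMap R _ (QH QN v) := by
  rw [stepLin_apply, Matrix.mul_fin_two, QH_apply]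
  ext i j
  fin_cases i <;> fin_cases j
  · simp [Matrix.algebraMap_matrix_apply, ι_sq_scalar]
  · simp [Matrix.algebraMap_matrix_apply]
    rw [Algebra.commutes, add_neg_cancel]
  · simp [Matrix.algebraMap_matrix_apply]
    rw [Algebra.commutes, add_neg_cancel]
  · simp [Matrix.algebraMap_matrix_apply, ι_sq_scalar]
    rw [← map_mul, ← map_mul, mul_comm v.2.2, add_comm]

/-- the algebra map `C(Q ⊥ H) → M₂(C(Q))` -/
noncomputable def stepHom :
    CliffordAlgebra (QH QN) →ₐ[R] Matrix (Fin 2) (Fin 2) (CliffordAlgebra QN) :=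
  CliffordAlgebra.lift (QH QN) ⟨stepLin QN, stepLin_sq QN⟩

@[simp] theorem stepHom_ι (v : N × (R × R)) : stepHom QN (ι (QH QN) v) = stepLin QN v :=
  CliffordAlgebra.lift_ι_apply _ _ v

theorem stepHom_surjective : Function.Surjective (stepHom QN) := by
  set S := (stepHom QN).range with hS
  have hE01 : (!![0, 1; 0, 0] : Matrix (Fin 2) (Fin 2) (CliffordAlgebra QN)) ∈ S := by
    refine ⟨ι _ (0, (1, 0)), ?_⟩
    simp [stepLin_apply]
  have hE10 : (!![0, 0; 1, 0] : Matrix (Fin 2) (Fin 2) (CliffordAlgebra QN)) ∈ S := by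
    refine ⟨ι _ (0, (0, 1)), ?_⟩
    simp [stepLin_apply]
  have hdiag : ∀ n : N,
      (!![ι QN n, 0; 0, -ι QN n] : Matrix (Fin 2) (Fin 2) (CliffordAlgebra QN)) ∈ S := by
    intro n
    refine ⟨ι _ (n, (0, 0)), ?_⟩
    simp [stepLin_apply]
  have hE00 : (!![1, 0; 0, 0] : Matrix (Fin 2) (Fin 2) (CliffordAlgebra QN)) ∈ S := by
    have := S.mul_mem hE01 hE10
    rw [Matrix.mul_fin_two] at this
    simpa using this
  have hE11 : (!![0, 0; 0, 1] : Matrix (Fin 2) (Fin 2) (CliffordAlgebra QN)) ∈ S := by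
    have := S.mul_mem hE10 hE01
    rw [Matrix.mul_fin_two] at this
    simpa using this
  have hsc : ∀ n : N, Matrix.scalarAlgHom (Fin 2) R (ι QN n) ∈ S := by
    intro n
    have h1 := S.mul_mem (hdiag n) (S.sub_mem hE00 hE11)
    have e : Matrix.scalarAlgHom (Fin 2) R (ι QN n) =
        (!![ι QN n, 0; 0, -ι QN n] : Matrix (Fin 2) (Fin 2) (CliffordAlgebra QN)) *
          (!![1, 0; 0, 0] - !![0, 0; 0, 1]) := by
      ext i j
      fin_cases i <;> fin_cases j <;> simp [Matrix.mul_apply, Fin.sum_univ_two]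
    rw [e]
    exact h1
  have hT : S.comap (Matrix.scalarAlgHom (Fin 2) R) = ⊤ := by
    rw [eq_top_iff, ← CliffordAlgebra.adjoin_range_ι, Algebra.adjoin_le_iff]
    rintro _ ⟨n, rfl⟩
    exact hsc n
  have hall : ∀ c : CliffordAlgebra QN, Matrix.scalarAlgHom (Fin 2) R c ∈ S := by
    intro c
    have : c ∈ S.comap (Matrix.scalarAlgHom (Fin 2) R) := by rw [hT]; exact Algebra.mem_top
    exact this
  intro X
  have hX : X = Matrix.scalarAlgHom (Fin 2) R (X 0 0) * !![1, 0; 0, 0] +
      Matrix.scalarAlgHom (Fin 2) R (X 0 1) * !![0, 1; 0, 0] +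
      Matrix.scalarAlgHom (Fin 2) R (X 1 0) * !![0, 0; 1, 0] +
      Matrix.scalarAlgHom (Fin 2) R (X 1 1) * !![0, 0; 0, 1] := by
    ext i j
    fin_cases i <;> fin_cases j <;> simp [Matrix.mul_apply, Fin.sum_univ_two]
  have hmem : X ∈ S := by
    rw [hX]
    exact S.add_mem (S.add_mem (S.add_mem (S.mul_mem (hall _) hE00) (S.mul_mem (hall _) hE01))
      (S.mul_mem (hall _) hE10)) (S.mul_mem (hall _) hE11)
  exact hmem

theorem stepHom_bijective [Module.Free R N] [Module.Finite R N] :
    Function.Bijective (stepHom QN) := by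
  classical
  let bN := Module.Free.chooseBasis R N
  let bH : Module.Basis (Unit ⊕ Unit) R (R × R) :=
    (Module.Basis.singleton Unit R).prod (Module.Basis.singleton Unit R)
  obtain ⟨B1⟩ := nonempty_basis_clifford (bN.prod bH) (QH QN)
  obtain ⟨B0⟩ := nonempty_basis_clifford bN QN
  let B2 := B0.matrix (Fin 2) (Fin 2)
  let e : Finset (Module.Free.ChooseBasisIndex R N ⊕ (Unit ⊕ Unit)) ≃
      Fin 2 × Fin 2 × Finset (Module.Free.ChooseBasisIndex R N) :=
    Fintype.equivOfCardEq (by
      simp only [Fintype.card_finset, Fintype.card_sum, Fintype.card_prod, Fintype.card_fin,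
        Fintype.card_unit, pow_add]
      ring)
  haveI : Module.Finite R (Matrix (Fin 2) (Fin 2) (CliffordAlgebra QN)) := Module.Finite.of_basis B2
  exact OrzechProperty.bijective_of_surjective_of_injective (B1.equiv B2 e).toLinearMap
    (stepHom QN).toLinearMap (B1.equiv B2 e).injective (stepHom_surjective QN)

/-- `C(Q ⊥ H) ≃ M₂(C(Q))` -/
noncomputable def stepEquiv [Module.Free R N] [Module.Finite R N] :
    CliffordAlgebra (QH QN) ≃ₐ[R] Matrix (Fin 2) (Fin 2) (CliffordAlgebra QN) :=
  AlgEquiv.ofBijective (stepHom QN) (stepHom_bijective QN)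

end HypStep

end Groth.Agent.Helper7.Clf
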