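import Mathlib
import Groth.Agent.Helper7.ClgH

/-!
# The Clifford algebra of the standard hyperbolic form is a matrix algebra
-/

set_option autoImplicit false
universe u v w
open QuadraticMap CliffordAlgebra
open scoped TensorProduct

namespace Groth.Agent.Helper7.Clf

section Hyp

variable (R : Type u) [CommRing R]

/-- the standard hyperbolic form on `(R × R)^m` -/
def hypForm (m : ℕ) : QuadraticForm R (Fin m → R × R) :=
  ∑ i, (H1 R).comp (LinearMap.proj i)

theorem hypForm_apply (m : ℕ) (w : Fin m → R × R) :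
    hypForm R m w = ∑ i, (w i).1 * (w i).2 := by
  simp [hypForm, QuadraticMap.comp_apply]

/-- the inductive isometry -/
noncomputable def hypIsom (m : ℕ) : (QH (hypForm R m)).IsometryEquiv (hypForm R (m + 1)) where
  toLinearEquiv := (LinearEquiv.prodComm R (Fin m → R × R) (R × R)).trans
    (Fin.consLinearEquiv R (fun _ : Fin (m + 1) => R × R))
  map_app' v := by
    rw [hypForm_apply, Fin.sum_univ_succ, QH_apply, hypForm_apply]
    simp [add_comm]

theorem bijective_algebraMap_of_subsingleton {M : Type v} [AddCommGroup M] [Module R M]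
    [Subsingleton M] (Q : QuadraticForm R M) :
    Function.Bijective (algebraMap R (CliffordAlgebra Q)) := by
  haveI : Module.Free R M := Module.Free.of_subsingleton R M
  refine ⟨algebraMap_injective_of_free Q, fun x => ?_⟩
  induction x using CliffordAlgebra.induction with
  | algebraMap r => exact ⟨r, rfl⟩
  | ι v => exact ⟨0, by rw [Subsingleton.elim v 0, map_zero, map_zero]⟩
  | mul a b ha hb =>
    obtain ⟨r, rfl⟩ := ha
    obtain ⟨s, rfl⟩ := hb
    exact ⟨r * s, map_mul _ _ _⟩
  | add a b ha hb =>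
    obtain ⟨r, rfl⟩ := ha
    obtain ⟨s, rfl⟩ := hb
    exact ⟨r + s, map_add _ _ _⟩

/-- The Clifford algebra of the standard hyperbolic form of rank `2m` is `M_{2^m}(R)`. -/
theorem nonempty_hyp_matrix (m : ℕ) :
    Nonempty (CliffordAlgebra (hypForm R m) ≃ₐ[R] Matrix (Fin (2 ^ m)) (Fin (2 ^ m)) R) := by
  induction m with
  | zero =>
    have hb := bijective_algebraMap_of_subsingleton R (hypForm R 0)
    let e1 : R ≃ₐ[R] CliffordAlgebra (hypForm R 0) := AlgEquiv.ofBijective (Algebra.ofId R _) hb
    haveI : Subsingleton (Fin (2 ^ 0)) := (finCongr (pow_zero 2)).subsingleton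
    have hb2 : Function.Bijective (algebraMap R (Matrix (Fin (2 ^ 0)) (Fin (2 ^ 0)) R)) := by
      constructor
      · intro r s hrs
        have := congrFun (congrFun hrs ⟨0, by norm_num⟩) ⟨0, by norm_num⟩
        simpa [Matrix.algebraMap_matrix_apply] using this
      · intro X
        refine ⟨X ⟨0, by norm_num⟩ ⟨0, by norm_num⟩, ?_⟩
        ext i j
        rw [Matrix.algebraMap_matrix_apply, if_pos (Subsingleton.elim i j),
          Subsingleton.elim i ⟨0, by norm_num⟩, Subsingleton.elim j ⟨0, by norm_num⟩]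
        rfl
    let e2 : R ≃ₐ[R] Matrix (Fin (2 ^ 0)) (Fin (2 ^ 0)) R :=
      AlgEquiv.ofBijective (Algebra.ofId R _) hb2
    exact ⟨e1.symm.trans e2⟩
  | succ m ih =>
    obtain ⟨e⟩ := ih
    let e1 := (CliffordAlgebra.equivOfIsometry (hypIsom R m)).symm
    let e2 := stepEquiv (hypForm R m)
    let e3 := e.mapMatrix (m := Fin 2)
    let e4 := Matrix.compAlgEquiv (Fin 2) (Fin (2 ^ m)) R R
    let e5 := Matrix.reindexAlgEquiv R R
      (finProdFinEquiv.trans (finCongr (by ring : 2 * 2 ^ m = 2 ^ (m + 1))))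
    exact ⟨e1.trans (e2.trans (e3.trans (e4.trans e5)))⟩

end Hyp

end Groth.Agent.Helper7.Clf
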