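import Mathlib
import Groth.Agent.Helper7.ClgI

/-!
# The even Clifford algebra of the split form of odd rank is a matrix algebra
-/

set_option autoImplicit false
universe u v w
open QuadraticMap CliffordAlgebra
open scoped TensorProduct

namespace Groth.Agent.Helper7.Clf

section EvenIso

variable {R : Type u} [CommRing R] {M₁ : Type v} {M₂ : Type w} [AddCommGroup M₁] [AddCommGroup M₂]
  [Module R M₁] [Module R M₂] {Q₁ : QuadraticForm R M₁} {Q₂ : QuadraticForm R M₂}

theorem map_mem_even (f : Q₁ →qᵢ Q₂) (x : CliffordAlgebra Q₁) (hx : x ∈ evenOdd Q₁ 0) :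
    CliffordAlgebra.map f x ∈ evenOdd Q₂ 0 := by
  induction x, hx using even_induction with
  | algebraMap r => rw [AlgHom.commutes]; exact SetLike.algebraMap_mem_graded _ _
  | add x y _ _ hx hy => rw [map_add]; exact Submodule.add_mem _ hx hy
  | ι_mul_ι_mul m₁ m₂ x _ ih =>
    rw [map_mul, map_mul, map_apply_ι, map_apply_ι]
    have := SetLike.mul_mem_graded (ι_mul_ι_mem_evenOdd_zero Q₂ (f m₁) (f m₂)) ih
    rwa [zero_add] at this

/-- an isometric equivalence induces an isomorphism of even Clifford algebras -/
noncomputable def evenEquivOfIsometry (e : Q₁.IsometryEquiv Q₂) :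
    CliffordAlgebra.even Q₁ ≃ₐ[R] CliffordAlgebra.even Q₂ :=
  AlgEquiv.ofAlgHom
    (((CliffordAlgebra.map e.toIsometry).comp (CliffordAlgebra.even Q₁).val).codRestrict
      (CliffordAlgebra.even Q₂)
      (fun x => (mem_even_iff Q₂ _).mpr (map_mem_even _ _ ((mem_even_iff Q₁ _).mp x.2))))
    (((CliffordAlgebra.map e.symm.toIsometry).comp (CliffordAlgebra.even Q₂).val).codRestrict
      (CliffordAlgebra.even Q₁)
      (fun x => (mem_even_iff Q₁ _).mpr (map_mem_even _ _ ((mem_even_iff Q₂ _).mp x.2))))
    (by
      apply AlgHom.ext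
      intro x
      apply Subtype.ext
      exact (equivOfIsometry e).apply_symm_apply (x : CliffordAlgebra Q₂))
    (by
      apply AlgHom.ext
      intro x
      apply Subtype.ext
      exact (equivOfIsometry e).symm_apply_apply (x : CliffordAlgebra Q₁))

end EvenIso

section Split

variable (A : Type u) [CommRing A] (m : ℕ)

/-- coordinates adapted to the split form of odd rank -/
noncomputable def splitLin : (Fin (2 * m + 1) → A) ≃ₗ[A] (Fin m → A × A) × A where
  toFun x := (fun i => (x ⟨2 * i.val + 1, by omega⟩, x ⟨2 * i.val + 2, by omega⟩),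
    x ⟨0, by omega⟩)
  map_add' x y := rfl
  map_smul' r x := rfl
  invFun p := fun j => if h0 : j.val = 0 then p.2 else
    if h1 : j.val % 2 = 1 then (p.1 ⟨(j.val - 1) / 2, by omega⟩).1
    else (p.1 ⟨(j.val - 2) / 2, by omega⟩).2
  left_inv x := by
    funext j
    by_cases h0 : j.val = 0
    · simp only [dif_pos h0]
      congr 1
      exact Fin.ext h0.symm
    · by_cases h1 : j.val % 2 = 1
      · simp only [dif_neg h0, dif_pos h1]
        congr 1
        apply Fin.ext
        simp only
        omega
      · simp only [dif_neg h0, dif_neg h1]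
        congr 1
        apply Fin.ext
        simp only
        omega
  right_inv p := by
    refine Prod.ext (funext fun i => Prod.ext ?_ ?_) ?_
    · have h0 : ¬ (2 * i.val + 1 = 0) := by omega
      have h1 : (2 * i.val + 1) % 2 = 1 := by omega
      simp only [dif_neg h0, dif_pos h1]
      have e : (⟨(2 * i.val + 1 - 1) / 2, by omega⟩ : Fin m) = i := Fin.ext (by simp)
      rw [e]
    · have h0 : ¬ (2 * i.val + 2 = 0) := by omega
      have h1 : ¬ ((2 * i.val + 2) % 2 = 1) := by omega
      simp only [dif_neg h0, dif_neg h1]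
      have e : (⟨(2 * i.val + 2 - 2) / 2, by omega⟩ : Fin m) = i := Fin.ext (by simp)
      rw [e]
    · simp

theorem splitLin_apply (x : Fin (2 * m + 1) → A) :
    splitLin A m x = (fun i => (x ⟨2 * i.val + 1, by omega⟩, x ⟨2 * i.val + 2, by omega⟩),
      x ⟨0, by omega⟩) := rfl

/-- the negative of the split form of odd rank is `(-hyperbolic) ⊥ ⟨-1⟩` -/
noncomputable def splitIsom : (-(QuadGrp.splitForm A (2 * m + 1))).IsometryEquiv
    (EquivEven.Q' (-hypForm A m)) where
  toLinearEquiv := splitLin A m
  map_app' x := by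
    change EquivEven.Q' (-hypForm A m) (splitLin A m x) = -(QuadGrp.splitForm A (2 * m + 1) x)
    rw [EquivEven.Q'_apply, _root_.neg_apply, hypForm_apply,
      Groth.Agent.Helper7.QSplit.splitForm_apply_odd, Groth.Agent.Helper7.QSplit.oddSplitFun,
      splitLin_apply]
    ring

/-- `-hyperbolic ≅ hyperbolic` -/
noncomputable def negIsom : (-hypForm A m).IsometryEquiv (hypForm A m) where
  toLinearEquiv := LinearEquiv.piCongrRight
    (fun _ => LinearEquiv.prodCongr (LinearEquiv.refl A A) (LinearEquiv.neg A))
  map_app' w := by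
    change hypForm A m _ = -(hypForm A m w)
    rw [hypForm_apply, hypForm_apply, ← Finset.sum_neg_distrib]
    refine Finset.sum_congr rfl fun i _ => ?_
    simp

/-- The even Clifford algebra of the split form of rank `2m+1` is `M_{2^m}`. -/
theorem nonempty_even_split_matrix :
    Nonempty (CliffordAlgebra.even (QuadGrp.splitForm A (2 * m + 1)) ≃ₐ[A]
      Matrix (Fin (2 ^ m)) (Fin (2 ^ m)) A) := by
  obtain ⟨e⟩ := nonempty_hyp_matrix A m
  exact ⟨(evenEquivEvenNeg (QuadGrp.splitForm A (2 * m + 1))).trans
    ((evenEquivOfIsometry (splitIsom A m)).trans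
      ((equivEven (-hypForm A m)).symm.trans ((equivOfIsometry (negIsom A m)).trans e)))⟩

end Split

end Groth.Agent.Helper7.Clf
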