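import Mathlib
import Groth.Agent.Helper7.ClgJ

/-!
# Base change of the even Clifford algebra; fppf-locally the even Clifford algebra of a
semiregular form of odd rank is a matrix algebra
-/

set_option autoImplicit false
universe u v w
open QuadraticMap CliffordAlgebra
open scoped TensorProduct

namespace Groth.Agent.Helper7.Clf

section EvenBC

variable {R : Type u} [CommRing R] {M : Type v} [AddCommGroup M] [Module R M] [Module.Free R M]
variable (A : Type w) [CommRing A] [Algebra R A] (Q : QuadraticForm R M)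

/-- `A ⊗ C₀(Q) → C(Q_A)` -/
noncomputable def evenBC : A ⊗[R] ↥(CliffordAlgebra.even Q) →ₐ[A]
    CliffordAlgebra (QuadGrp.baseChangeForm A Q) :=
  (tensorEquiv A Q).toAlgHom.comp
    (Algebra.TensorProduct.map (AlgHom.id A A) (CliffordAlgebra.even Q).val)

@[simp] theorem evenBC_tmul (a : A) (x : ↥(CliffordAlgebra.even Q)) :
    evenBC A Q (a ⊗ₜ x) = a • ofBC A Q (x : CliffordAlgebra Q) := by
  simp [evenBC]

theorem evenPart_of_mem (x : ↥(CliffordAlgebra.even Q)) :
    evenPart Q (x : CliffordAlgebra Q) = x := by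
  apply Subtype.ext
  rw [evenPart_coe, (oddProj_eq_zero_iff Q _).mpr ((mem_even_iff Q _).mp x.2), sub_zero]

theorem evenBC_injective : Function.Injective (evenBC A Q) := by
  have h1 : Function.Injective (Algebra.TensorProduct.map (AlgHom.id A A)
      (CliffordAlgebra.even Q).val) := by
    apply Function.LeftInverse.injective (g := LinearMap.lTensor A (evenPart Q))
    intro t
    induction t using TensorProduct.induction_on with
    | zero => simp
    | tmul a x =>
      rw [Algebra.TensorProduct.map_tmul, LinearMap.lTensor_tmul]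
      simp only [AlgHom.coe_id, id_eq, Subalgebra.coe_val]
      rw [evenPart_of_mem]
    | add y z hy hz => rw [map_add, map_add, hy, hz]
  exact (tensorEquiv A Q).injective.comp h1

theorem evenBC_range :
    (evenBC A Q).range = CliffordAlgebra.even (QuadGrp.baseChangeForm A Q) := by
  apply le_antisymm
  · rintro _ ⟨t, rfl⟩
    induction t using TensorProduct.induction_on with
    | zero => rw [map_zero]; exact Subalgebra.zero_mem _
    | tmul a x =>
      change evenBC A Q (a ⊗ₜ[R] x) ∈ _
      rw [evenBC_tmul]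
      exact Subalgebra.smul_mem _
        ((mem_even_iff _ _).mpr (ofBC_mem_even A Q _ ((mem_even_iff Q _).mp x.2))) a
    | add y z hy hz => rw [map_add]; exact Subalgebra.add_mem _ hy hz
  · intro y hy
    have h1 := mem_span_ofBC_even A Q y ((mem_even_iff _ _).mp hy)
    have h2 : Submodule.span A (ofBC A Q '' {x | x ∈ evenOdd Q 0}) ≤
        Subalgebra.toSubmodule (evenBC A Q).range := by
      rw [Submodule.span_le]
      rintro _ ⟨x, hx, rfl⟩
      refine ⟨(1 : A) ⊗ₜ[R] (⟨x, (mem_even_iff Q _).mpr hx⟩ : ↥(CliffordAlgebra.even Q)), ?_⟩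
      change evenBC A Q ((1 : A) ⊗ₜ[R] _) = _
      rw [evenBC_tmul, one_smul]
    exact h2 h1

/-- base change of the even Clifford algebra -/
noncomputable def evenBCEquiv : A ⊗[R] ↥(CliffordAlgebra.even Q) ≃ₐ[A]
    ↥(CliffordAlgebra.even (QuadGrp.baseChangeForm A Q)) :=
  (AlgEquiv.ofInjective (evenBC A Q) (evenBC_injective A Q)).trans
    (Subalgebra.equivOfEq _ _ (evenBC_range A Q))

end EvenBC

section Fppf

open Groth.Agent.Helper7.QSplit

variable {R : Type u} [CommRing R] {M : Type u} [AddCommGroup M] [Module R M]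

/-- base change of a transported form -/
noncomputable def transportIsom [Module.Free R M] (A : Type u) [CommRing A] [Algebra R A] {n : ℕ}
    (b : Module.Basis (Fin n) R M) (Q : QuadraticForm R M) :
    (QuadGrp.baseChangeForm A Q).IsometryEquiv
      (QuadGrp.baseChangeForm A (Q.comp (b.equivFun.symm : (Fin n → R) →ₗ[R] M))) where
  toLinearEquiv := LinearEquiv.baseChange R A M (Fin n → R) b.equivFun
  map_app' x := by
    have h : (QuadGrp.baseChangeForm A (Q.comp (b.equivFun.symm : (Fin n → R) →ₗ[R] M))).comp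
        (LinearEquiv.baseChange R A M (Fin n → R) b.equivFun).toLinearMap =
        QuadGrp.baseChangeForm A Q := by
      apply _root_.baseChange_ext
      intro v
      rw [QuadraticMap.comp_apply]
      change QuadGrp.baseChangeForm A _ (LinearEquiv.baseChange R A M (Fin n → R) b.equivFun
        ((1 : A) ⊗ₜ[R] v)) = _
      rw [LinearEquiv.baseChange_tmul, baseChangeForm_one_tmul, baseChangeForm_one_tmul,
        QuadraticMap.comp_apply]
      simp
    exact DFunLike.congr_fun h x

/-- **(a)**: fppf-locally the even Clifford algebra is a matrix algebra. -/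
theorem exists_fppf_even_matrix (m : ℕ) (b : Module.Basis (Fin (2 * m + 1)) R M)
    (Q : QuadraticForm R M) (hQ : QuadGrp.IsSemiregular b (LinearEquiv.refl R R) Q) :
    ∃ (R' : Type u) (_ : CommRing R') (_ : Algebra R R'), Module.FaithfullyFlat R R' ∧
      Algebra.FinitePresentation R R' ∧
      Nonempty ((R' ⊗[R] ↥(CliffordAlgebra.even Q)) ≃ₐ[R']
        Matrix (Fin (2 ^ m)) (Fin (2 ^ m)) R') := by
  haveI : Module.Free R M := Module.Free.of_basis b
  have hQ₀ : QuadGrp.IsSemiregular (Pi.basisFun R (Fin (2 * m + 1))) (LinearEquiv.refl R R)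
      (Q.comp (b.equivFun.symm : (Fin (2 * m + 1) → R) →ₗ[R] M)) := by
    have h1 : QuadGrp.halfDisc (Pi.basisFun R (Fin (2 * m + 1))) (LinearEquiv.refl R R)
        (Q.comp (b.equivFun.symm : (Fin (2 * m + 1) → R) →ₗ[R] M)) =
        Groth.Agent.Helper8.HalfDisc.H (QuadGrp.coeffs (Pi.basisFun R (Fin (2 * m + 1)))
          (LinearEquiv.refl R R) (Q.comp (b.equivFun.symm : (Fin (2 * m + 1) → R) →ₗ[R] M))) := rfl
    have h2 : QuadGrp.halfDisc b (LinearEquiv.refl R R) Q =
        Groth.Agent.Helper8.HalfDisc.H (QuadGrp.coeffs b (LinearEquiv.refl R R) Q) := rfl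
    unfold QuadGrp.IsSemiregular at hQ ⊢
    rw [h1, coeffs_comp_equivFun, ← h2]
    exact hQ
  obtain ⟨A, _, _, hff, hfp, ⟨Ib⟩⟩ := Groth.Agent.Helper7.QSplit.main R m _ hQ₀
  refine ⟨A, inferInstance, inferInstance, hff, hfp, ?_⟩
  have e2 : QuadGrp.baseChangeForm A (QuadGrp.splitForm R (2 * m + 1)) =
      (QuadGrp.splitForm A (2 * m + 1)).comp (phi A).toLinearMap :=
    baseChangeForm_eq A _ _ (fun x => by
      rw [splitForm_apply_odd, splitForm_apply_odd, oddSplitFun_map])
  let Ic : (QuadGrp.baseChangeForm A (QuadGrp.splitForm R (2 * m + 1))).IsometryEquiv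
      (QuadGrp.splitForm A (2 * m + 1)) :=
    { toLinearEquiv := phi A
      map_app' := fun x => by rw [e2]; rfl }
  obtain ⟨e⟩ := nonempty_even_split_matrix A m
  exact ⟨(evenBCEquiv A Q).trans
    ((evenEquivOfIsometry ((transportIsom A b Q).trans (Ib.trans Ic))).trans e)⟩

end Fppf

end Groth.Agent.Helper7.Clf
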