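import Mathlib
import Groth.Agent.Helper7.ClgK

/-!
# The grading on `C(Q ⊥ H) ≃ M₂(C(Q))` and on `C(H^m) ≃ M_{2^m}(R)`
-/

set_option autoImplicit false
universe u v w
open QuadraticMap CliffordAlgebra
open scoped TensorProduct

namespace Groth.Agent.Helper7.Clf

section MapGr

variable {R : Type u} [CommRing R] {M₁ : Type v} {M₂ : Type w} [AddCommGroup M₁] [AddCommGroup M₂]
  [Module R M₁] [Module R M₂] {Q₁ : QuadraticForm R M₁} {Q₂ : QuadraticForm R M₂}

theorem map_mem_odd (f : Q₁ →qᵢ Q₂) (x : CliffordAlgebra Q₁) (hx : x ∈ evenOdd Q₁ 1) :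
    CliffordAlgebra.map f x ∈ evenOdd Q₂ 1 := by
  induction x, hx using odd_induction with
  | ι v => rw [map_apply_ι]; exact ι_mem_evenOdd_one _ _
  | add x y _ _ hx hy => rw [map_add]; exact Submodule.add_mem _ hx hy
  | ι_mul_ι_mul m₁ m₂ x _ ih =>
    rw [map_mul, map_mul, map_apply_ι, map_apply_ι]
    have := SetLike.mul_mem_graded (ι_mul_ι_mem_evenOdd_zero Q₂ (f m₁) (f m₂)) ih
    rwa [zero_add] at this

theorem map_mem_evenOdd (f : Q₁ →qᵢ Q₂) (i : ZMod 2) (x : CliffordAlgebra Q₁)
    (hx : x ∈ evenOdd Q₁ i) : CliffordAlgebra.map f x ∈ evenOdd Q₂ i := by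
  rcases zmod2_cases i with rfl | rfl
  · exact map_mem_even f x hx
  · exact map_mem_odd f x hx

end MapGr

/-- the parity of an index in `Fin 2` -/
def par2 (k : Fin 2) : ZMod 2 := (k.val : ZMod 2)

theorem zmod2_two : (2 : ZMod 2) = 0 := rfl

section Checker

variable {R : Type u} [CommRing R] {N : Type v} [AddCommGroup N] [Module R N]
variable (QN : QuadraticForm R N)

/-- the checkerboard grading on `M₂(C(Q))` -/
def IsCB (i : ZMod 2) (X : Matrix (Fin 2) (Fin 2) (CliffordAlgebra QN)) : Prop :=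
  ∀ k l, X k l ∈ evenOdd QN (i + par2 k + par2 l)

theorem IsCB.add {i : ZMod 2} {X Y : Matrix (Fin 2) (Fin 2) (CliffordAlgebra QN)}
    (hX : IsCB QN i X) (hY : IsCB QN i Y) : IsCB QN i (X + Y) :=
  fun k l => Submodule.add_mem _ (hX k l) (hY k l)

theorem IsCB.mul {i j : ZMod 2} {X Y : Matrix (Fin 2) (Fin 2) (CliffordAlgebra QN)}
    (hX : IsCB QN i X) (hY : IsCB QN j Y) : IsCB QN (i + j) (X * Y) := by
  intro k l
  rw [Matrix.mul_apply]
  refine Submodule.sum_mem _ fun t _ => ?_
  have := SetLike.mul_mem_graded (hX k t) (hY t l)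
  have e : i + par2 k + par2 t + (j + par2 t + par2 l) = i + j + par2 k + par2 l := by
    linear_combination (par2 t) * zmod2_two
  rwa [e] at this

theorem isCB_algebraMap (r : R) :
    IsCB QN 0 (algebraMap R (Matrix (Fin 2) (Fin 2) (CliffordAlgebra QN)) r) := by
  intro k l
  rw [Matrix.algebraMap_matrix_apply]
  split_ifs with h
  · subst h
    have e : (0 : ZMod 2) + par2 k + par2 k = 0 := by linear_combination (par2 k) * zmod2_two
    rw [e]
    exact SetLike.algebraMap_mem_graded _ _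
  · exact Submodule.zero_mem _

theorem isCB_stepLin (v : N × (R × R)) : IsCB QN 1 (stepLin QN v) := by
  intro k l
  rw [stepLin_apply]
  fin_cases k <;> fin_cases l
  · exact ι_mem_evenOdd_one _ _
  · change _ ∈ evenOdd QN 0
    exact SetLike.algebraMap_mem_graded _ _
  · change _ ∈ evenOdd QN 0
    exact SetLike.algebraMap_mem_graded _ _
  · exact Submodule.neg_mem _ (ι_mem_evenOdd_one _ _)

theorem isCB_stepHom (i : ZMod 2) (x : CliffordAlgebra (QH QN)) (hx : x ∈ evenOdd (QH QN) i) :
    IsCB QN i (stepHom QN x) := by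
  have hιι : ∀ m₁ m₂ : N × (R × R),
      IsCB QN 0 (stepHom QN (ι (QH QN) m₁ * ι (QH QN) m₂)) := by
    intro m₁ m₂
    rw [map_mul, stepHom_ι, stepHom_ι]
    have := (isCB_stepLin QN m₁).mul QN (isCB_stepLin QN m₂)
    rwa [show (1 : ZMod 2) + 1 = 0 from rfl] at this
  rcases zmod2_cases i with rfl | rfl
  · induction x, hx using even_induction with
    | algebraMap r => rw [AlgHom.commutes]; exact isCB_algebraMap QN r
    | add x y _ _ hx hy => rw [map_add]; exact hx.add QN hy
    | ι_mul_ι_mul m₁ m₂ x _ ih =>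
      rw [map_mul]
      have := (hιι m₁ m₂).mul QN ih
      rwa [zero_add] at this
  · induction x, hx using odd_induction with
    | ι v => rw [stepHom_ι]; exact isCB_stepLin QN v
    | add x y _ _ hx hy => rw [map_add]; exact hx.add QN hy
    | ι_mul_ι_mul m₁ m₂ x _ ih =>
      rw [map_mul]
      have := (hιι m₁ m₂).mul QN ih
      rwa [zero_add] at this

end Checker

section Tracked

variable (R : Type u) [CommRing R]

/-- graded pieces of a matrix algebra with respect to a parity function on the indices -/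
def IsGr {n : Type*} (p : n → ZMod 2) (i : ZMod 2) (X : Matrix n n R) : Prop :=
  ∀ k l, p k + p l ≠ i → X k l = 0

/-- the index bijection used in the inductive step -/
def sigmaStep (m : ℕ) : Fin 2 × Fin (2 ^ m) ≃ Fin (2 ^ (m + 1)) :=
  finProdFinEquiv.trans (finCongr (by ring : 2 * 2 ^ m = 2 ^ (m + 1)))

/-- the inductive step, with the grading -/
theorem step_graded (m : ℕ)
    (e : CliffordAlgebra (hypForm R m) ≃ₐ[R] Matrix (Fin (2 ^ m)) (Fin (2 ^ m)) R)
    (p : Fin (2 ^ m) → ZMod 2)
    (hp : ∀ (i : ZMod 2) (x : CliffordAlgebra (hypForm R m)), x ∈ evenOdd (hypForm R m) i →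
      IsGr R p i (e x)) :
    ∃ (e' : CliffordAlgebra (hypForm R (m + 1)) ≃ₐ[R]
        Matrix (Fin (2 ^ (m + 1))) (Fin (2 ^ (m + 1))) R),
      ∀ (i : ZMod 2) (x : CliffordAlgebra (hypForm R (m + 1))),
        x ∈ evenOdd (hypForm R (m + 1)) i →
        IsGr R (fun t => par2 ((sigmaStep m).symm t).1 + p ((sigmaStep m).symm t).2) i (e' x) := by
  let e1 := (CliffordAlgebra.equivOfIsometry (hypIsom R m)).symm
  let e2 := stepEquiv (hypForm R m)
  let e3 := e.mapMatrix (m := Fin 2)
  let e4 := Matrix.compAlgEquiv (Fin 2) (Fin (2 ^ m)) R R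
  let e5 := Matrix.reindexAlgEquiv R R (sigmaStep m)
  refine ⟨e1.trans (e2.trans (e3.trans (e4.trans e5))), ?_⟩
  intro i x hx t t' hne
  have he1 : e1 x ∈ evenOdd (QH (hypForm R m)) i :=
    map_mem_evenOdd (hypIsom R m).symm.toIsometry i x hx
  have hcb := isCB_stepHom (hypForm R m) i (e1 x) he1 ((sigmaStep m).symm t).1
    ((sigmaStep m).symm t').1
  have key : (e1.trans (e2.trans (e3.trans (e4.trans e5)))) x t t' =
      e (stepHom (hypForm R m) (e1 x) ((sigmaStep m).symm t).1 ((sigmaStep m).symm t').1)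
        ((sigmaStep m).symm t).2 ((sigmaStep m).symm t').2 := rfl
  rw [key]
  apply hp _ _ hcb
  intro h
  apply hne
  linear_combination h +
    (par2 ((sigmaStep m).symm t).1 + par2 ((sigmaStep m).symm t').1) * zmod2_two

/-- `C(H^m) ≃ M_{2^m}(R)`, compatibly with a grading of the indices -/
theorem exists_hyp_matrix_graded (m : ℕ) :
    ∃ (e : CliffordAlgebra (hypForm R m) ≃ₐ[R] Matrix (Fin (2 ^ m)) (Fin (2 ^ m)) R)
      (p : Fin (2 ^ m) → ZMod 2),
      ∀ (i : ZMod 2) (x : CliffordAlgebra (hypForm R m)), x ∈ evenOdd (hypForm R m) i →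
        IsGr R p i (e x) := by
  induction m with
  | zero =>
    obtain ⟨e⟩ := nonempty_hyp_matrix R 0
    refine ⟨e, fun _ => 0, ?_⟩
    intro i x hx k l hne
    have hi : i = 1 := by
      rcases zmod2_cases i with rfl | rfl
      · exact absurd (add_zero (0 : ZMod 2)) hne
      · rfl
    subst hi
    obtain ⟨r, rfl⟩ := (bijective_algebraMap_of_subsingleton R (hypForm R 0)).2 x
    have h0 : algebraMap R (CliffordAlgebra (hypForm R 0)) r = 0 :=
      eq_zero_of_mem_even_of_mem_odd _ _ (SetLike.algebraMap_mem_graded _ _) hx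
    rw [h0, map_zero]
    rfl
  | succ m ih =>
    obtain ⟨e, p, hp⟩ := ih
    obtain ⟨e', he'⟩ := step_graded R m e p hp
    exact ⟨e', _, he'⟩

/-- for positive rank, the two parity classes of indices have the same size -/
theorem exists_hyp_matrix_graded_succ (m : ℕ) :
    ∃ (e : CliffordAlgebra (hypForm R (m + 1)) ≃ₐ[R]
        Matrix (Fin (2 ^ (m + 1))) (Fin (2 ^ (m + 1))) R)
      (p : Fin (2 ^ (m + 1)) → ZMod 2),
      (∀ (i : ZMod 2) (x : CliffordAlgebra (hypForm R (m + 1))),
        x ∈ evenOdd (hypForm R (m + 1)) i → IsGr R p i (e x)) ∧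
      ∀ a : ZMod 2, Nonempty ({t // p t = a} ≃ Fin (2 ^ m)) := by
  obtain ⟨e, p, hp⟩ := exists_hyp_matrix_graded R m
  obtain ⟨e', he'⟩ := step_graded R m e p hp
  refine ⟨e', _, he', fun a => ⟨?_⟩⟩
  have hpar : ∀ (k : Fin 2) (b c : ZMod 2), par2 k + b = c →
      k = (if b = c then 0 else 1) := by decide
  have hpar' : ∀ (b c : ZMod 2), par2 (if b = c then 0 else 1) + b = c := by decide
  exact
    { toFun := fun t => ((sigmaStep m).symm t.1).2
      invFun := fun j => ⟨sigmaStep m (if p j = a then 0 else 1, j), by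
        simp only [Equiv.symm_apply_apply]
        exact hpar' _ _⟩
      left_inv := by
        rintro ⟨t, ht⟩
        apply Subtype.ext
        simp only
        have h1 := hpar _ _ _ ht
        rw [← h1, Prod.mk.eta, Equiv.apply_symm_apply]
      right_inv := by
        intro j
        simp only [Equiv.symm_apply_apply] }

end Tracked

end Groth.Agent.Helper7.Clf
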