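import Mathlib
import Groth.Agent.Helper7.ClgL

/-!
# The even Clifford algebra of the hyperbolic form of rank `2(m+1)` is `M_{2^m} × M_{2^m}`
-/

set_option autoImplicit false
universe u v w
open QuadraticMap CliffordAlgebra
open scoped TensorProduct

namespace Groth.Agent.Helper7.Clf

section BlockDiag

variable (R : Type u) [CommRing R]

/-- block-diagonal embedding -/
def blockDiagHom (α β : Type*) [Fintype α] [Fintype β] [DecidableEq α] [DecidableEq β] :
    (Matrix α α R × Matrix β β R) →ₐ[R] Matrix (α ⊕ β) (α ⊕ β) R where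
  toFun XY := Matrix.fromBlocks XY.1 0 0 XY.2
  map_one' := Matrix.fromBlocks_one
  map_mul' X Y := by simp [Matrix.fromBlocks_multiply]
  map_zero' := Matrix.fromBlocks_zero
  map_add' X Y := by simp [Matrix.fromBlocks_add]
  commutes' r := by
    ext (i | i) (j | j) <;> simp [Matrix.algebraMap_matrix_apply]

theorem blockDiagHom_apply (α β : Type*) [Fintype α] [Fintype β] [DecidableEq α] [DecidableEq β]
    (XY : Matrix α α R × Matrix β β R) :
    blockDiagHom R α β XY = Matrix.fromBlocks XY.1 0 0 XY.2 := rfl

theorem blockDiagHom_injective (α β : Type*) [Fintype α] [Fintype β] [DecidableEq α]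
    [DecidableEq β] : Function.Injective (blockDiagHom R α β) := by
  intro X Y h
  rw [blockDiagHom_apply, blockDiagHom_apply, Matrix.fromBlocks_inj] at h
  exact Prod.ext h.1 h.2.2.2

variable {n : Type*} [Fintype n] [DecidableEq n] (p : n → ZMod 2)

/-- block-diagonal matrices with respect to a parity function -/
noncomputable def parityHom :
    (Matrix {t // p t = 0} {t // p t = 0} R × Matrix {t // ¬ p t = 0} {t // ¬ p t = 0} R) →ₐ[R]
      Matrix n n R :=
  (Matrix.reindexAlgEquiv R R (Equiv.sumCompl (fun t => p t = 0))).toAlgHom.comp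
    (blockDiagHom R {t // p t = 0} {t // ¬ p t = 0})

theorem parityHom_injective : Function.Injective (parityHom R p) :=
  (Matrix.reindexAlgEquiv R R (Equiv.sumCompl (fun t => p t = 0))).injective.comp
    (blockDiagHom_injective R _ _)

theorem parityHom_apply (XY : Matrix {t // p t = 0} {t // p t = 0} R ×
    Matrix {t // ¬ p t = 0} {t // ¬ p t = 0} R) (k l : n) :
    parityHom R p XY k l = Matrix.fromBlocks XY.1 0 0 XY.2
      ((Equiv.sumCompl (fun t => p t = 0)).symm k) ((Equiv.sumCompl (fun t => p t = 0)).symm l) :=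
  rfl

theorem mem_range_parityHom_iff (X : Matrix n n R) :
    X ∈ (parityHom R p).range ↔ IsGr R p 0 X := by
  constructor
  · rintro ⟨XY, rfl⟩ k l hne
    change parityHom R p XY k l = 0
    rw [parityHom_apply]
    by_cases hk : p k = 0
    · have hl : ¬ p l = 0 := fun hl => hne (by rw [hk, hl, add_zero])
      rw [Equiv.sumCompl_symm_apply_of_pos (p := fun t => p t = 0) (a := k) hk,
        Equiv.sumCompl_symm_apply_of_neg (p := fun t => p t = 0) (a := l) hl]
      rfl
    · have hl : p l = 0 := by
        by_contra hl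
        have h1 : p k = 1 := (zmod2_cases (p k)).resolve_left hk
        have h2 : p l = 1 := (zmod2_cases (p l)).resolve_left hl
        exact hne (by rw [h1, h2]; rfl)
      rw [Equiv.sumCompl_symm_apply_of_neg (p := fun t => p t = 0) (a := k) hk,
        Equiv.sumCompl_symm_apply_of_pos (p := fun t => p t = 0) (a := l) hl]
      rfl
  · intro hX
    set X' := X.submatrix (Equiv.sumCompl (fun t => p t = 0)) (Equiv.sumCompl (fun t => p t = 0))
      with hX'
    refine ⟨(X'.toBlocks₁₁, X'.toBlocks₂₂), ?_⟩
    change parityHom R p (X'.toBlocks₁₁, X'.toBlocks₂₂) = X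
    ext k l
    rw [parityHom_apply]
    have h12 : X'.toBlocks₁₂ = 0 := by
      ext a b
      change X a.1 b.1 = 0
      apply hX
      rw [a.2, zero_add]
      exact b.2
    have h21 : X'.toBlocks₂₁ = 0 := by
      ext a b
      change X a.1 b.1 = 0
      apply hX
      rw [b.2, add_zero]
      exact a.2
    have := Matrix.fromBlocks_toBlocks X'
    rw [h12, h21] at this
    rw [this, hX', Matrix.submatrix_apply, Equiv.apply_symm_apply, Equiv.apply_symm_apply]

end BlockDiag

section EvenHyp

variable (R : Type u) [CommRing R]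

theorem isGr_zero_of_both {n : Type*} (p : n → ZMod 2) (X : Matrix n n R)
    (h0 : IsGr R p 0 X) (h1 : IsGr R p 1 X) : X = 0 := by
  ext k l
  rcases zmod2_cases (p k + p l) with h | h
  · exact h1 k l (by rw [h]; decide)
  · exact h0 k l (by rw [h]; decide)

/-- The even Clifford algebra of the hyperbolic form of rank `2(m+1)`. -/
theorem nonempty_even_hyp_prod (m : ℕ) :
    Nonempty (CliffordAlgebra.even (hypForm R (m + 1)) ≃ₐ[R]
      (Matrix (Fin (2 ^ m)) (Fin (2 ^ m)) R × Matrix (Fin (2 ^ m)) (Fin (2 ^ m)) R)) := by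
  classical
  obtain ⟨e, p, hp, hcount⟩ := exists_hyp_matrix_graded_succ R m
  have hrange : (CliffordAlgebra.even (hypForm R (m + 1))).map e.toAlgHom =
      (parityHom R p).range := by
    apply le_antisymm
    · rintro _ ⟨x, hx, rfl⟩
      rw [mem_range_parityHom_iff]
      exact hp 0 x ((mem_even_iff _ _).mp hx)
    · intro X hX
      rw [mem_range_parityHom_iff] at hX
      obtain ⟨x0, h0, x1, h1, hsum⟩ := exists_even_odd (hypForm R (m + 1)) (e.symm X)
      have hX' : X = e x0 + e x1 := by
        rw [← map_add, ← hsum, AlgEquiv.apply_symm_apply]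
      have h1' : e x1 = 0 := by
        apply isGr_zero_of_both R p _ _ (hp 1 x1 h1)
        have : e x1 = X - e x0 := by rw [hX']; abel
        rw [this]
        intro k l hne
        rw [Matrix.sub_apply, hX k l hne, hp 0 x0 h0 k l hne, sub_zero]
      refine ⟨x0, (mem_even_iff _ _).mpr h0, ?_⟩
      rw [hX', h1', add_zero]
      rfl
  obtain ⟨c0⟩ := hcount 0
  obtain ⟨c1⟩ := hcount 1
  let c1' : {t // ¬ p t = 0} ≃ Fin (2 ^ m) :=
    (Equiv.subtypeEquivRight (fun t => by
      constructor
      · intro h; exact (zmod2_cases (p t)).resolve_left h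
      · intro h h0; rw [h0] at h; exact absurd h (by decide))).trans c1
  exact ⟨(((CliffordAlgebra.even (hypForm R (m + 1))).equivMapOfInjective e.toAlgHom
    e.injective).trans (Subalgebra.equivOfEq _ _ hrange)).trans
    ((AlgEquiv.ofInjective (parityHom R p) (parityHom_injective R p)).symm.trans
      (AlgEquiv.prodCongr (Matrix.reindexAlgEquiv R R c0) (Matrix.reindexAlgEquiv R R c1')))⟩

end EvenHyp

end Groth.Agent.Helper7.Clf
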