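import Mathlib
import Groth.Agent.Helper7.ClgM

/-!
# Regular forms of even rank are fppf-locally hyperbolic; consequences for the Clifford algebra
-/

set_option autoImplicit false
universe u v w
open QuadraticMap CliffordAlgebra Matrix
open scoped TensorProduct

namespace Groth.Agent.Helper7.Clf

section Cover

open Groth.Agent.Helper7.QSplit

/-- a non-degenerate matrix form of even size becomes hyperbolic over an fppf cover -/
theorem exists_fppf_cover_even (A : Type u) [CommRing A] (m : ℕ)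
    (β : Matrix (Fin m ⊕ Fin m) (Fin m ⊕ Fin m) A) (hβ : IsUnit (β + βᵀ).det) :
    ∃ (B : Type u) (_ : CommRing B) (_ : Algebra A B), Module.FaithfullyFlat A B ∧
      Algebra.FinitePresentation A B ∧
      ∃ g g' : Matrix (Fin m ⊕ Fin m) (Fin m ⊕ Fin m) B, g * g' = 1 ∧ g' * g = 1 ∧
        ∀ x : Fin m ⊕ Fin m → B,
          (g *ᵥ x) ⬝ᵥ (β.map (algebraMap A B)) *ᵥ (g *ᵥ x) =
            ∑ j : Fin m, x (Sum.inl j) * x (Sum.inr j) := by
  obtain ⟨n, C, iCR, iAlg, hEt, hcov, hsplit⟩ := exists_etale_cover A m β hβ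
  haveI : ∀ k, Module.Flat A (C k) := fun k => inferInstance
  haveI : ∀ k, Algebra.FinitePresentation A (C k) := fun k => inferInstance
  haveI : Module.Flat A (∀ k, C k) :=
    Module.Flat.of_linearEquiv (DFinsupp.linearEquivFunOnFintype (R := A) (M := C)).symm
  haveI : Module.FaithfullyFlat A (∀ k, C k) := by
    apply Module.FaithfullyFlat.of_comap_surjective
    intro p
    obtain ⟨t, q, hq⟩ := hcov p
    refine ⟨PrimeSpectrum.comap (Pi.evalRingHom C t) q, ?_⟩
    apply PrimeSpectrum.ext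
    rw [← hq]
    rfl
  choose g hg hgx using hsplit
  have hinv : ∀ k, ∃ g' : Matrix (Fin m ⊕ Fin m) (Fin m ⊕ Fin m) (C k),
      g k * g' = 1 ∧ g' * g k = 1 := by
    intro k
    have hu := (Matrix.isUnit_iff_isUnit_det (g k)).mpr (hg k)
    obtain ⟨u, hu⟩ := hu
    exact ⟨↑u⁻¹, by rw [← hu, Units.mul_inv], by rw [← hu, Units.inv_mul]⟩
  choose g' hgg' hg'g using hinv
  refine ⟨∀ k, C k, inferInstance, inferInstance, inferInstance, inferInstance,
    piMat C g, piMat C g', ?_, ?_, ?_⟩
  · apply pi_mat_ext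
    intro k
    rw [Matrix.map_mul, piMat_map, piMat_map, hgg',
      Matrix.map_one _ (map_zero _) (map_one _)]
  · apply pi_mat_ext
    intro k
    rw [Matrix.map_mul, piMat_map, piMat_map, hg'g,
      Matrix.map_one _ (map_zero _) (map_one _)]
  · intro x
    funext k
    have hx := hgx k (fun i => x i k)
    have e1 : ∀ (M : Matrix (Fin m ⊕ Fin m) (Fin m ⊕ Fin m) (∀ k, C k))
        (v : Fin m ⊕ Fin m → ∀ k, C k) (i : Fin m ⊕ Fin m),
        (M *ᵥ v) i k = ((M.map (Pi.evalRingHom C k)) *ᵥ (fun j => v j k)) i := by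
      intro M v i
      simp [Matrix.mulVec, dotProduct]
    have e2 : ∀ (v w : Fin m ⊕ Fin m → ∀ k, C k),
        (v ⬝ᵥ w) k = (fun j => v j k) ⬝ᵥ (fun j => w j k) := by
      intro v w
      simp [dotProduct]
    rw [e2]
    simp only [e1]
    rw [piMat_map]
    have e3 : (β.map (algebraMap A (∀ k, C k))).map (Pi.evalRingHom C k) =
        β.map (algebraMap A (C k)) := by
      ext i j
      rfl
    rw [e3, hx]
    simp

end Cover

section MatForm

variable {A : Type u} [CommRing A] {V : Type v} [AddCommGroup V] [Module A V]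
variable {κ : Type*} [Fintype κ] [DecidableEq κ]

/-- a quadratic form on a free module is given by a matrix -/
theorem exists_matrix_of_basis [Module.Free A V] (b : Module.Basis κ A V) (Q : QuadraticForm A V) :
    ∃ β : Matrix κ κ A, (∀ v, Q v = (b.repr v) ⬝ᵥ β *ᵥ (b.repr v)) ∧
      ∀ i j, (β + βᵀ) i j = polar Q (b i) (b j) := by
  obtain ⟨Bil, hBil⟩ := LinearMap.BilinMap.toQuadraticMap_surjective Q
  refine ⟨LinearMap.toMatrix₂ b b Bil, fun v => ?_, fun i j => ?_⟩
  · rw [← hBil, LinearMap.BilinMap.toQuadraticMap_apply,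
      apply_eq_dotProduct_toMatrix₂_mulVec b b Bil v v]
    rfl
  · rw [Matrix.add_apply, Matrix.transpose_apply, LinearMap.toMatrix₂_apply,
      LinearMap.toMatrix₂_apply, ← hBil, LinearMap.BilinMap.polar_toQuadraticMap]

theorem isUnit_det_of_regular (b : Module.Basis κ A V) (Q : QuadraticForm A V)
    (hQ : Function.Bijective (polarBilin Q)) (G : Matrix κ κ A)
    (hG : ∀ i j, G i j = polar Q (b i) (b j)) : IsUnit G.det := by
  let e : V ≃ₗ[A] Module.Dual A V := LinearEquiv.ofBijective _ hQ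
  have h1 := LinearEquiv.isUnit_det e b b.dualBasis
  have h2 : LinearMap.toMatrix b b.dualBasis (e : V →ₗ[A] Module.Dual A V) = G := by
    ext i j
    rw [LinearMap.toMatrix_apply, Module.Basis.dualBasis_repr, hG]
    change polar Q (b j) (b i) = _
    exact polar_comm Q _ _
  rwa [h2] at h1

/-- the quadratic form of a matrix -/
noncomputable def matQF' (B : Type w) [CommRing B] (β : Matrix κ κ B) : QuadraticForm B (κ → B) :=
  LinearMap.BilinMap.toQuadraticMap (Matrix.toLinearMap₂' B β : LinearMap.BilinMap B (κ → B) B)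

theorem matQF'_apply (B : Type w) [CommRing B] (β : Matrix κ κ B) (x : κ → B) :
    matQF' B β x = x ⬝ᵥ β *ᵥ x := by
  rw [matQF', LinearMap.BilinMap.toQuadraticMap_apply, Matrix.toLinearMap₂'_apply']

theorem baseChangeForm_eq_matQF' [Module.Free A V] (B : Type w) [CommRing B] [Algebra A B]
    (b : Module.Basis κ A V) (Q : QuadraticForm A V) (β : Matrix κ κ A)
    (hβ : ∀ v, Q v = (b.repr v) ⬝ᵥ β *ᵥ (b.repr v)) :
    QuadGrp.baseChangeForm B Q = (matQF' B (β.map (algebraMap A B))).comp
      ((b.baseChange B).equivFun : B ⊗[A] V →ₗ[B] (κ → B)) := by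
  apply _root_.baseChange_ext
  intro v
  rw [baseChangeForm_one_tmul, QuadraticMap.comp_apply, matQF'_apply, hβ]
  have h1 : ((b.baseChange B).equivFun : B ⊗[A] V →ₗ[B] (κ → B)) ((1 : B) ⊗ₜ[A] v) =
      fun i => algebraMap A B (b.repr v i) := by
    funext i
    change (b.baseChange B).repr ((1 : B) ⊗ₜ[A] v) i = _
    rw [Module.Basis.baseChange_repr_tmul, Algebra.smul_def, mul_one]
  rw [h1, RingHom.map_dotProduct]
  congr 1
  funext i
  exact RingHom.map_mulVec (algebraMap A B) β _ i

/-- pairing of coordinates -/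
def pairEquiv (B : Type w) [CommRing B] (m : ℕ) : (Fin m ⊕ Fin m → B) ≃ₗ[B] (Fin m → B × B) where
  toFun x j := (x (Sum.inl j), x (Sum.inr j))
  invFun w := Sum.elim (fun j => (w j).1) (fun j => (w j).2)
  map_add' _ _ := rfl
  map_smul' _ _ := rfl
  left_inv x := by funext j; rcases j with j | j <;> rfl
  right_inv _ := rfl

end MatForm

section Main

variable (A : Type u) [CommRing A] (V : Type u) [AddCommGroup V] [Module A V]
  [Module.Free A V] [Module.Finite A V]

omit [Module.Free A V] [Module.Finite A V] in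
theorem nontrivial_of_finrank_eq_two_mul (m : ℕ) (hV : Module.finrank A V = 2 * m) :
    Nontrivial A := by
  rcases subsingleton_or_nontrivial A with h | h
  · exfalso
    have : Module.finrank A V = 1 := by simp [Module.finrank, rank_subsingleton]
    omega
  · exact h

/-- a regular form of rank `2m` is fppf-locally the standard hyperbolic form -/
theorem exists_fppf_hyp (m : ℕ) (hV : Module.finrank A V = 2 * m) (Q : QuadraticForm A V)
    (hQ : Function.Bijective (polarBilin Q)) :
    ∃ (B : Type u) (_ : CommRing B) (_ : Algebra A B), Module.FaithfullyFlat A B ∧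
      Algebra.FinitePresentation A B ∧
      Nonempty ((QuadGrp.baseChangeForm B Q).IsometryEquiv (hypForm B m)) := by
  haveI := nontrivial_of_finrank_eq_two_mul A V m hV
  let b : Module.Basis (Fin m ⊕ Fin m) A V :=
    (Module.finBasisOfFinrankEq A V hV).reindex
      ((finCongr (two_mul m)).trans finSumFinEquiv.symm)
  obtain ⟨β, hβ, hpol⟩ := exists_matrix_of_basis b Q
  have hdet : IsUnit (β + βᵀ).det := isUnit_det_of_regular b Q hQ _ hpol
  obtain ⟨B, _, _, hff, hfp, g, g', hgg', hg'g, hgx⟩ := exists_fppf_cover_even A m β hdet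
  refine ⟨B, inferInstance, inferInstance, hff, hfp, ⟨?_⟩⟩
  have e1 := baseChangeForm_eq_matQF' B b Q β hβ
  let L : (Fin m ⊕ Fin m → B) ≃ₗ[B] (Fin m ⊕ Fin m → B) :=
    LinearEquiv.ofLinearMap (Matrix.toLin' g') (Matrix.toLin' g)
      (by rw [← Matrix.toLin'_mul, hg'g, Matrix.toLin'_one])
      (by rw [← Matrix.toLin'_mul, hgg', Matrix.toLin'_one])
  refine { toLinearEquiv := ((b.baseChange B).equivFun.trans L).trans (pairEquiv B m),
           map_app' := fun z => ?_ }
  rw [e1, QuadraticMap.comp_apply, matQF'_apply, hypForm_apply]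
  set y := ((b.baseChange B).equivFun : B ⊗[A] V →ₗ[B] (Fin m ⊕ Fin m → B)) z with hy
  have h2 : g *ᵥ (L y) = y := by
    change g *ᵥ (g' *ᵥ y) = y
    rw [Matrix.mulVec_mulVec, hgg', Matrix.one_mulVec]
  have h3 := hgx (L y)
  rw [h2] at h3
  rw [h3]
  rfl

/-- fppf-locally `C(Q)` is a matrix algebra and `C₀(Q)` a product of two matrix algebras -/
theorem exists_fppf_clifford_matrix (m : ℕ) (hm : 1 ≤ m) (hV : Module.finrank A V = 2 * m)
    (Q : QuadraticForm A V) (hQ : Function.Bijective (polarBilin Q)) :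
    ∃ (A' : Type u) (_ : CommRing A') (_ : Algebra A A'), Module.FaithfullyFlat A A' ∧
      Algebra.FinitePresentation A A' ∧
      Nonempty ((A' ⊗[A] CliffordAlgebra Q) ≃ₐ[A'] Matrix (Fin (2 ^ m)) (Fin (2 ^ m)) A') ∧
      Nonempty ((A' ⊗[A] ↥(CliffordAlgebra.even Q)) ≃ₐ[A']
        (Matrix (Fin (2 ^ (m - 1))) (Fin (2 ^ (m - 1))) A' ×
          Matrix (Fin (2 ^ (m - 1))) (Fin (2 ^ (m - 1))) A')) := by
  obtain ⟨B, _, _, hff, hfp, ⟨I⟩⟩ := exists_fppf_hyp A V m hV Q hQ
  refine ⟨B, inferInstance, inferInstance, hff, hfp, ?_, ?_⟩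
  · obtain ⟨e⟩ := nonempty_hyp_matrix B m
    exact ⟨(tensorEquiv B Q).trans ((CliffordAlgebra.equivOfIsometry I).restrictScalars B |>.trans e)⟩
  · obtain ⟨m', rfl⟩ : ∃ m', m = m' + 1 := ⟨m - 1, by omega⟩
    obtain ⟨e⟩ := nonempty_even_hyp_prod B m'
    exact ⟨(evenBCEquiv B Q).trans ((evenEquivOfIsometry I).trans e)⟩

end Main

end Groth.Agent.Helper7.Clf
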