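import Mathlib
import Groth.Agent.Helper7.ClgN

/-!
# Regular forms of even rank over any ring: the centre of the Clifford algebra, and the centralizer
of the centre of the even Clifford algebra
-/

set_option autoImplicit false
universe u v w
open QuadraticMap CliffordAlgebra
open scoped TensorProduct

namespace Groth.Agent.Helper7.Clf

variable {R : Type u} [CommRing R] {M : Type v} [AddCommGroup M] [Module R M] [Module.Free R M]
  [Module.Finite R M]

/-- over a local algebra, the image of an element commuting with vectors is a scalar -/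
theorem ofBC_comm_scalar_even (A : Type w) [CommRing A] [Algebra R A] [IsLocalRing A] (m : ℕ)
    (hM : Module.finrank R M = 2 * m) (Q : QuadraticForm R M)
    (hQ : Function.Bijective (polarBilin Q))
    (z : CliffordAlgebra Q) (hz : ∀ v, ι Q v * z = z * ι Q v) :
    ∃ a : A, ofBC A Q z = algebraMap A _ a := by
  haveI : Nontrivial R := (algebraMap R A).domain_nontrivial
  have hMA : Module.finrank A (A ⊗[R] M) = 2 * m := by rw [Module.finrank_baseChange, hM]
  have hQA := regular_baseChangeForm A Q hQ
  obtain ⟨Z⟩ := nonempty_zElt (QuadGrp.baseChangeForm A Q) hQA m hMA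
  exact exists_eq_algebraMap_of_comm _ hQA Z _ (ofBC_comm_ι A Q z hz)

/-- elements commuting with all vectors are scalars (regular even rank, any base ring) -/
theorem exists_eq_algebraMap_of_comm_global (m : ℕ) (hM : Module.finrank R M = 2 * m)
    (Q : QuadraticForm R M) (hQ : Function.Bijective (polarBilin Q))
    (z : CliffordAlgebra Q) (hz : ∀ v, ι Q v * z = z * ι Q v) :
    ∃ r : R, z = algebraMap R _ r := by
  obtain ⟨π, hπ⟩ := exists_retraction Q
  refine ⟨π z, ?_⟩
  rw [← sub_eq_zero]
  apply eq_zero_of_forall_ofBC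
  intro P _
  obtain ⟨a, ha⟩ := ofBC_comm_scalar_even (Localization.AtPrime P) m hM Q hQ z hz
  obtain ⟨⟨r₀, s⟩, hs⟩ := IsLocalization.surj P.primeCompl a
  have h1 : ofBC (Localization.AtPrime P) Q ((s : R) • z - algebraMap R _ r₀) = 0 := by
    rw [map_sub, ofBC_smul, ofBC_algebraMap, ha, ← hs, Algebra.smul_def, ← map_mul, mul_comm,
      sub_self]
  obtain ⟨t, ht⟩ := (ofBC_eq_zero_iff Q P.primeCompl (Localization.AtPrime P) _).mp h1
  have h2 : ((t : R) * s) • z = algebraMap R _ ((t : R) * r₀) := by
    rw [smul_sub, sub_eq_zero] at ht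
    rw [mul_smul, ht, Algebra.smul_def, ← map_mul]
  have h3 : ((t : R) * s) * π z = (t : R) * r₀ := by
    have := congrArg π h2
    rwa [map_smul, hπ, smul_eq_mul] at this
  apply (ofBC_eq_zero_iff Q P.primeCompl (Localization.AtPrime P) _).mpr
  refine ⟨t * s, ?_⟩
  rw [Submonoid.coe_mul, smul_sub, h2, Algebra.smul_def, ← map_mul, h3, sub_self]

/-- the centre of the Clifford algebra of a regular form of even rank is the base ring -/
theorem center_eq_bot (m : ℕ) (hM : Module.finrank R M = 2 * m)
    (Q : QuadraticForm R M) (hQ : Function.Bijective (polarBilin Q)) :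
    Subalgebra.center R (CliffordAlgebra Q) = ⊥ := by
  apply le_antisymm
  · intro z hz
    rw [Subalgebra.mem_center_iff] at hz
    obtain ⟨r, hr⟩ := exists_eq_algebraMap_of_comm_global m hM Q hQ z (fun v => hz (ι Q v))
    rw [hr]
    exact Subalgebra.algebraMap_mem _ r
  · exact bot_le

/-- over a flat local algebra, an odd element commuting with the centre of the even Clifford
algebra dies -/
theorem ofBC_odd_eq_zero_of_comm (A : Type w) [CommRing A] [Algebra R A] [IsLocalRing A]
    [Module.Flat R A] (m : ℕ)
    (hM : Module.finrank R M = 2 * m) (Q : QuadraticForm R M)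
    (hQ : Function.Bijective (polarBilin Q))
    (x : CliffordAlgebra Q) (hx : x ∈ evenOdd Q 1)
    (hc : ∀ y, EvenCentral Q y → y * x = x * y) : ofBC A Q x = 0 := by
  haveI : Nontrivial R := (algebraMap R A).domain_nontrivial
  have hMA : Module.finrank A (A ⊗[R] M) = 2 * m := by rw [Module.finrank_baseChange, hM]
  have hQA := regular_baseChangeForm A Q hQ
  obtain ⟨Z⟩ := nonempty_zElt (QuadGrp.baseChangeForm A Q) hQA m hMA
  have hZ : EvenCentral (QuadGrp.baseChangeForm A Q) Z.z := ⟨Z.even, fun y hy => Z.even_comm y hy⟩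
  have hspan := mem_span_evenCentral A Q Z.z hZ
  have key : ∀ w ∈ Submodule.span A (ofBC A Q '' {x | EvenCentral Q x}),
      w * ofBC A Q x = ofBC A Q x * w := by
    intro w hw
    induction hw using Submodule.span_induction with
    | mem w hw =>
      obtain ⟨y, hy, rfl⟩ := hw
      rw [← map_mul, ← map_mul, hc y hy]
    | zero => rw [zero_mul, mul_zero]
    | add a b _ _ ha hb => rw [add_mul, mul_add, ha, hb]
    | smul c a _ ha => rw [smul_mul_assoc, mul_smul_comm, ha]
  have hcomm : Z.z * ofBC A Q x = ofBC A Q x * Z.z := key _ hspan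
  have hodd := Z.odd_comm (ofBC A Q x) (ofBC_mem_odd A Q x hx)
  have h2 : Z.z * ofBC A Q x = ofBC A Q x - Z.z * ofBC A Q x := by
    calc Z.z * ofBC A Q x = ofBC A Q x * Z.z := hcomm
      _ = (1 - Z.z) * ofBC A Q x := hodd
      _ = ofBC A Q x - Z.z * ofBC A Q x := by rw [sub_mul, one_mul]
  have hδ : Z.δ * ofBC A Q x = 0 := by
    rw [ZElt.δ, sub_mul, one_mul, mul_assoc, two_mul]
    nth_rewrite 2 [h2]
    abel
  have := congrArg (fun t => Z.δinv * t) hδ
  simpa only [← mul_assoc, Z.δinv_mul_δ, one_mul, mul_zero] using this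

/-- the even Clifford algebra is the centralizer of its own centre -/
theorem centralizer_center_even (m : ℕ) (hM : Module.finrank R M = 2 * m)
    (Q : QuadraticForm R M) (hQ : Function.Bijective (polarBilin Q)) :
    Subalgebra.centralizer R
        ((CliffordAlgebra.even Q).val '' (Subalgebra.center R ↥(CliffordAlgebra.even Q) :
          Set ↥(CliffordAlgebra.even Q))) =
      CliffordAlgebra.even Q := by
  apply le_antisymm
  · intro x hx
    rw [Subalgebra.mem_centralizer_iff] at hx
    have hx' : ∀ y, EvenCentral Q y → y * x = x * y := by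
      intro y hy
      apply hx
      refine ⟨⟨y, (mem_even_iff Q _).mpr hy.1⟩, ?_, rfl⟩
      rw [SetLike.mem_coe, Subalgebra.mem_center_iff]
      intro w
      apply Subtype.ext
      exact hy.2 w ((mem_even_iff Q _).mp w.2)
    obtain ⟨x0, h0, x1, h1, rfl⟩ := exists_even_odd Q x
    have hx1 : ∀ y, EvenCentral Q y → y * x1 = x1 * y := by
      intro y hy
      have e1 := hx' y hy
      have e2 := hy.2 x0 h0
      rw [mul_add, add_mul, ← e2] at e1
      exact add_left_cancel e1
    have hz : x1 = 0 := by
      apply eq_zero_of_forall_ofBC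
      intro P _
      exact ofBC_odd_eq_zero_of_comm (Localization.AtPrime P) m hM Q hQ x1 h1 hx1
    rw [hz, add_zero]
    exact (mem_even_iff Q _).mpr h0
  · intro x hx
    rw [Subalgebra.mem_centralizer_iff]
    rintro _ ⟨c, hc, rfl⟩
    rw [SetLike.mem_coe, Subalgebra.mem_center_iff] at hc
    have := hc ⟨x, hx⟩
    exact (congrArg Subtype.val this).symm

end Groth.Agent.Helper7.Clf
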