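import Mathlib
import Groth.Agent.Helper7.ClgN

/-!
# Universe-generalised fppf splitting of the even Clifford algebra (helper7)
-/

set_option autoImplicit false
universe u v w
open QuadraticMap CliffordAlgebra Matrix
open scoped TensorProduct

namespace Groth.Agent.Helper7.Clf

section Main

variable (A : Type u) [CommRing A] (V : Type v) [AddCommGroup V] [Module A V]
  [Module.Free A V] [Module.Finite A V]

omit [Module.Free A V] [Module.Finite A V] in
theorem nontrivial_of_finrank_eq_two_mul' (m : ℕ) (hV : Module.finrank A V = 2 * m) :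
    Nontrivial A := by
  rcases subsingleton_or_nontrivial A with h | h
  · exfalso
    have : Module.finrank A V = 1 := by simp [Module.finrank, rank_subsingleton]
    omega
  · exact h

/-- a regular form of rank `2m` is fppf-locally the standard hyperbolic form -/
theorem exists_fppf_hyp' (m : ℕ) (hV : Module.finrank A V = 2 * m) (Q : QuadraticForm A V)
    (hQ : Function.Bijective (polarBilin Q)) :
    ∃ (B : Type u) (_ : CommRing B) (_ : Algebra A B), Module.FaithfullyFlat A B ∧
      Algebra.FinitePresentation A B ∧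
      Nonempty ((QuadGrp.baseChangeForm B Q).IsometryEquiv (hypForm B m)) := by
  haveI := nontrivial_of_finrank_eq_two_mul' A V m hV
  let b : Module.Basis (Fin m ⊕ Fin m) A V :=
    (Module.finBasisOfFinrankEq A V hV).reindex
      ((finCongr (two_mul m)).trans finSumFinEquiv.symm)
  obtain ⟨β, hβ, hpol⟩ := exists_matrix_of_basis b Q
  have hdet : IsUnit (β + βᵀ).det := isUnit_det_of_regular b Q hQ _ hpol
  obtain ⟨B, _, _, hff, hfp, g, g', hgg', hg'g, hgx⟩ := exists_fppf_cover_even A m β hdet
  refine ⟨B, inferInstance, inferInstance, hff, hfp, ⟨?_⟩⟩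
  have e1 := baseChangeForm_eq_matQF' B b Q β hβ
  let L : (Fin m ⊕ Fin m → B) ≃ₗ[B] (Fin m ⊕ Fin m → B) :=
    LinearEquiv.ofLinearMap (Matrix.toLin' g') (Matrix.toLin' g)
      (by rw [← Matrix.toLin'_mul, hg'g, Matrix.toLin'_one])
      (by rw [← Matrix.toLin'_mul, hgg', Matrix.toLin'_one])
  refine { toLinearEquiv := ((b.baseChange B).equivFun.trans L).trans (pairEquiv B m),
           map_app' := fun z => ?_ }
  rw [e1, QuadraticMap.comp_apply, matQF'_apply, hypForm_apply]
  set y := ((b.baseChange B).equivFun : B ⊗[A] V →ₗ[B] (Fin m ⊕ Fin m → B)) z with hy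
  have h2 : g *ᵥ (L y) = y := by
    change g *ᵥ (g' *ᵥ y) = y
    rw [Matrix.mulVec_mulVec, hgg', Matrix.one_mulVec]
  have h3 := hgx (L y)
  rw [h2] at h3
  rw [h3]
  rfl

/-- fppf-locally `C₀(Q)` is a product of two matrix algebras -/
theorem exists_fppf_even_prod (m : ℕ) (hm : 1 ≤ m) (hV : Module.finrank A V = 2 * m)
    (Q : QuadraticForm A V) (hQ : Function.Bijective (polarBilin Q)) :
    ∃ (A' : Type u) (_ : CommRing A') (_ : Algebra A A'), Module.FaithfullyFlat A A' ∧
      Algebra.FinitePresentation A A' ∧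
      Nonempty ((A' ⊗[A] ↥(CliffordAlgebra.even Q)) ≃ₐ[A']
        (Matrix (Fin (2 ^ (m - 1))) (Fin (2 ^ (m - 1))) A' ×
          Matrix (Fin (2 ^ (m - 1))) (Fin (2 ^ (m - 1))) A')) := by
  obtain ⟨B, _, _, hff, hfp, ⟨I⟩⟩ := exists_fppf_hyp' A V m hV Q hQ
  refine ⟨B, inferInstance, inferInstance, hff, hfp, ?_⟩
  obtain ⟨m', rfl⟩ : ∃ m', m = m' + 1 := ⟨m - 1, by omega⟩
  obtain ⟨e⟩ := nonempty_even_hyp_prod B m'
  exact ⟨(evenBCEquiv B Q).trans ((evenEquivOfIsometry I).trans e)⟩

end Main

end Groth.Agent.Helper7.Clf
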