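import Mathlib
import Groth.Agent.Helper9.AzuBC

/-!
# Transport of the Azumaya property along ring isomorphisms (helper7)
-/

set_option autoImplicit false
universe u v w w'
open TensorProduct

namespace Groth.Agent.Helper7.CenAz

section Transport

variable {R₁ : Type u} [CommRing R₁] {R₂ : Type v} [CommRing R₂]
  {B₁ : Type w} [Ring B₁] [Algebra R₁ B₁] {B₂ : Type w'} [Ring B₂] [Algebra R₂ B₂]

/-- Azumaya algebras transport along a compatible pair of ring isomorphisms. -/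
theorem isAzumaya_of_ringEquiv (σ : R₁ ≃+* R₂) (τ : B₁ ≃+* B₂)
    (h : ∀ r, τ (algebraMap R₁ B₁ r) = algebraMap R₂ B₂ (σ r)) [IsAzumaya R₁ B₁] :
    IsAzumaya R₂ B₂ := by
  let _ : Algebra R₁ R₂ := (σ : R₁ →+* R₂).toAlgebra
  let _ : Algebra R₁ B₂ := Algebra.compHom B₂ (σ : R₁ →+* R₂)
  have : IsScalarTower R₁ R₂ B₂ := IsScalarTower.of_algebraMap_eq (fun _ => rfl)
  have : IsAzumaya R₂ (R₂ ⊗[R₁] B₁) := Groth.Agent.Helper9.AzuBC.baseChange R₁ R₂ B₁
  let τ' : B₁ →ₐ[R₁] B₂ := { (τ : B₁ →+* B₂) with commutes' := fun r => h r }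
  let φ : R₂ ⊗[R₁] B₁ →ₐ[R₂] B₂ :=
    Algebra.TensorProduct.lift (Algebra.ofId R₂ B₂) τ' (fun s b => Algebra.commutes s (τ' b))
  let σl : R₂ ≃ₗ[R₁] R₁ :=
    { (σ.symm : R₂ ≃+ R₁) with
      map_smul' := fun r s => by
        change σ.symm (σ r * s) = r * σ.symm s
        rw [map_mul, RingEquiv.symm_apply_apply] }
  let L : R₂ ⊗[R₁] B₁ ≃ₗ[R₁] B₁ :=
    (TensorProduct.congr σl (LinearEquiv.refl R₁ B₁)).trans (TensorProduct.lid R₁ B₁)
  have hφ : ∀ x, φ x = τ (L x) := by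
    intro x
    induction x using TensorProduct.induction_on with
    | zero => simp
    | add a b ha hb => rw [map_add, map_add, map_add, ha, hb]
    | tmul s b =>
      have h1 : φ (s ⊗ₜ[R₁] b) = algebraMap R₂ B₂ s * τ b := by
        simp [φ, τ', Algebra.ofId_apply]
      have h2 : L (s ⊗ₜ[R₁] b) = σ.symm s • b := by
        simp [L, σl]
      rw [h1, h2, Algebra.smul_def, map_mul, h, RingEquiv.apply_symm_apply]
  have hbij : Function.Bijective φ := by
    have : (φ : R₂ ⊗[R₁] B₁ → B₂) = τ ∘ L := funext hφ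
    rw [this]
    exact τ.bijective.comp L.bijective
  exact IsAzumaya.of_AlgEquiv (R := R₂) (A := R₂ ⊗[R₁] B₁) (B := B₂)
    (AlgEquiv.ofBijective φ hbij)

/-- Azumaya-ness over the centre is a property of the ring alone. -/
theorem isAzumaya_of_ringEquiv_of_center [IsAzumaya R₁ B₁] [Algebra.IsCentral R₁ B₁]
    (τ : B₁ ≃+* B₂) (hinj : Function.Injective (algebraMap R₂ B₂))
    (hcen : ∀ y : B₂, y ∈ Set.center B₂ → y ∈ Set.range (algebraMap R₂ B₂)) :
    IsAzumaya R₂ B₂ := by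
  have hinj₁ : Function.Injective (algebraMap R₁ B₁) := FaithfulSMul.algebraMap_injective R₁ B₁
  have hcen₁ : ∀ y : B₁, y ∈ Set.center B₁ → y ∈ Set.range (algebraMap R₁ B₁) := by
    intro y hy
    have h1 : y ∈ Subalgebra.center R₁ B₁ := hy
    have h2 := (Algebra.IsCentral.out (K := R₁) (D := B₁)) h1
    exact Algebra.mem_bot.1 h2
  let f₁ : R₁ →+* Subring.center B₁ :=
    (algebraMap R₁ B₁).codRestrict (Subring.center B₁)
      (fun r => Subring.mem_center_iff.2 (fun x => (Algebra.commutes r x).symm))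
  let f₂ : R₂ →+* Subring.center B₂ :=
    (algebraMap R₂ B₂).codRestrict (Subring.center B₂)
      (fun r => Subring.mem_center_iff.2 (fun x => (Algebra.commutes r x).symm))
  have hf₁ : Function.Bijective f₁ := by
    refine ⟨fun a b hab => hinj₁ (congrArg Subtype.val hab), ?_⟩
    rintro ⟨y, hy⟩
    obtain ⟨r, hr⟩ := hcen₁ y hy
    exact ⟨r, Subtype.ext hr⟩
  have hf₂ : Function.Bijective f₂ := by
    refine ⟨fun a b hab => hinj (congrArg Subtype.val hab), ?_⟩
    rintro ⟨y, hy⟩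
    obtain ⟨r, hr⟩ := hcen y hy
    exact ⟨r, Subtype.ext hr⟩
  let j₁ : R₁ ≃+* Subring.center B₁ := RingEquiv.ofBijective f₁ hf₁
  let j₂ : R₂ ≃+* Subring.center B₂ := RingEquiv.ofBijective f₂ hf₂
  let σ : R₁ ≃+* R₂ := j₁.trans ((Subring.centerCongr τ).trans j₂.symm)
  refine isAzumaya_of_ringEquiv σ τ ?_
  intro r
  have h1 : j₂ (σ r) = Subring.centerCongr τ (j₁ r) := by
    simp [σ]
  have h2 := congrArg Subtype.val h1
  exact h2.symm

end Transport

end Groth.Agent.Helper7.CenAz
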