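import Mathlib

/-!
# The centre commutes with flat base change (helper7)
-/

set_option autoImplicit false
universe u v w
open TensorProduct

namespace Groth.Agent.Helper7.CenAz

section CenterBC

variable (A : Type u) [CommRing A] (C : Type w) [Ring C] [Algebra A C]
  (A' : Type v) [CommRing A'] [Algebra A A']

/-- the base change of the inclusion of the centre -/
noncomputable def cenIncl : A' ⊗[A] (Subalgebra.center A C) →ₐ[A'] A' ⊗[A] C :=
  Algebra.TensorProduct.map (AlgHom.id A' A') (Subalgebra.center A C).val

@[simp]
theorem cenIncl_tmul (a : A') (z : Subalgebra.center A C) :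
    cenIncl A C A' (a ⊗ₜ z) = a ⊗ₜ (z : C) := by
  simp [cenIncl]

theorem cenIncl_eq_lTensor (x : A' ⊗[A] (Subalgebra.center A C)) :
    cenIncl A C A' x = ((Subalgebra.center A C).val.toLinearMap.lTensor A') x := by
  induction x using TensorProduct.induction_on with
  | zero => simp
  | add a b ha hb => rw [map_add, map_add, ha, hb]
  | tmul a z => simp

theorem cenIncl_mem_center (x : A' ⊗[A] (Subalgebra.center A C)) :
    cenIncl A C A' x ∈ Set.center (A' ⊗[A] C) := by
  rw [Semigroup.mem_center_iff]
  intro g
  induction x using TensorProduct.induction_on with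
  | zero => simp
  | add a b ha hb => rw [map_add, mul_add, add_mul, ha, hb]
  | tmul a z =>
    induction g using TensorProduct.induction_on with
    | zero => simp
    | add g₁ g₂ h₁ h₂ => rw [add_mul, mul_add, h₁, h₂]
    | tmul b c =>
      rw [cenIncl_tmul, Algebra.TensorProduct.tmul_mul_tmul, Algebra.TensorProduct.tmul_mul_tmul,
        mul_comm b a, Subalgebra.mem_center_iff.1 z.2 c]

theorem cenIncl_injective [Module.Flat A A'] : Function.Injective (cenIncl A C A') := by
  have h := Module.Flat.lTensor_preserves_injective_linearMap (M := A')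
    (Subalgebra.center A C).val.toLinearMap Subtype.val_injective
  intro x y hxy
  rw [cenIncl_eq_lTensor, cenIncl_eq_lTensor] at hxy
  exact h hxy

theorem mem_range_cenIncl [Module.Flat A A'] [Module.Finite A C] (y : A' ⊗[A] C)
    (hy : y ∈ Set.center (A' ⊗[A] C)) : y ∈ Set.range (cenIncl A C A') := by
  classical
  obtain ⟨n, s, hs⟩ := Module.Finite.exists_fin (R := A) (M := C)
  let φ : C →ₗ[A] (Fin n → C) :=
    LinearMap.pi (fun i => LinearMap.mulRight A (s i) - LinearMap.mulLeft A (s i))
  have hφ : ∀ x i, φ x i = x * s i - s i * x := fun x i => rfl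
  have hex : Function.Exact (Subalgebra.center A C).val.toLinearMap φ := by
    intro x
    constructor
    · intro hx
      have hx' : ∀ i, x * s i = s i * x := fun i => by
        have := congrFun hx i
        rw [hφ] at this
        exact sub_eq_zero.1 this
      have hmem : x ∈ Subalgebra.center A C := by
        rw [Subalgebra.mem_center_iff]
        intro b
        have hb : b ∈ Submodule.span A (Set.range s) := by rw [hs]; trivial
        induction hb using Submodule.span_induction with
        | mem b hb =>
          obtain ⟨i, rfl⟩ := hb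
          exact (hx' i).symm
        | zero => simp
        | add a b _ _ ha hb => rw [add_mul, mul_add, ha, hb]
        | smul r a _ ha => rw [smul_mul_assoc, mul_smul_comm, ha]
      exact ⟨⟨x, hmem⟩, rfl⟩
    · rintro ⟨z, rfl⟩
      funext i
      rw [hφ]
      change (z : C) * s i - s i * (z : C) = 0
      rw [Subalgebra.mem_center_iff.1 z.2 (s i), sub_self]
  have hex' := Module.Flat.lTensor_exact A' hex
  have hy0 : (φ.lTensor A') y = 0 := by
    apply (TensorProduct.piRight A A' A' (fun _ : Fin n => C)).injective
    rw [map_zero]
    funext i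
    rw [TensorProduct.piRight_apply]
    have key : ∀ w : A' ⊗[A] C,
        TensorProduct.piRightHom A A' A' (fun _ : Fin n => C) ((φ.lTensor A') w) i =
          w * ((1 : A') ⊗ₜ[A] s i) - ((1 : A') ⊗ₜ[A] s i) * w := by
      intro w
      induction w using TensorProduct.induction_on with
      | zero => simp
      | add a b ha hb => rw [map_add, map_add, Pi.add_apply, ha, hb, add_mul, mul_add]; abel
      | tmul a x =>
        rw [LinearMap.lTensor_tmul, TensorProduct.piRightHom_tmul]
        change a ⊗ₜ[A] φ x i = _
        rw [hφ, Algebra.TensorProduct.tmul_mul_tmul, Algebra.TensorProduct.tmul_mul_tmul, mul_one,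
          one_mul, TensorProduct.tmul_sub]
    rw [key, (Semigroup.mem_center_iff.1 hy _), sub_self]
    rfl
  obtain ⟨x, hx⟩ := (hex' y).1 hy0
  exact ⟨x, by rw [cenIncl_eq_lTensor, hx]⟩

end CenterBC

end Groth.Agent.Helper7.CenAz
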