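import Mathlib
import Groth.Agent.Helper7.ClgR
import Groth.Agent.Helper7.AzuDesc

/-!
# The centre of a twisted form of `M_r × M_r` (helper7)
-/

set_option autoImplicit false
universe u v w
open TensorProduct

namespace Groth.Agent.Helper7.CenAz

theorem mem_center_iff_of_mulEquiv {B₁ B₂ F : Type*} [Semigroup B₁] [Semigroup B₂]
    [EquivLike F B₁ B₂] [MulEquivClass F B₁ B₂] (e : F)
    (y : B₁) : e y ∈ Set.center B₂ ↔ y ∈ Set.center B₁ := by
  rw [Semigroup.mem_center_iff, Semigroup.mem_center_iff]
  constructor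
  · intro h g
    apply EquivLike.injective e
    rw [map_mul, map_mul, h]
  · intro h g
    obtain ⟨g', rfl⟩ := EquivLike.surjective e g
    rw [← map_mul, ← map_mul, h]

theorem mem_range_algebraMap_of_mem_center_matrix {R : Type*} [CommRing R] {n : Type*} [Fintype n]
    [DecidableEq n] (x : Matrix n n R) (hx : x ∈ Set.center (Matrix n n R)) :
    x ∈ Set.range (algebraMap R (Matrix n n R)) := by
  have h1 : x ∈ Subalgebra.center R (Matrix n n R) := hx
  have h2 := (Algebra.IsCentral.out (K := R) (D := Matrix n n R)) h1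
  exact Algebra.mem_bot.1 h2

section Main

variable (A : Type u) [CommRing A] (C : Type w) [Ring C] [Algebra A C]
  (A' : Type v) [CommRing A'] [Algebra A A'] [Module.FaithfullyFlat A A']
  (r : ℕ) (hr : 1 ≤ r)
  (e : A' ⊗[A] C ≃ₐ[A'] (Matrix (Fin r) (Fin r) A' × Matrix (Fin r) (Fin r) A'))

include e in
theorem finite_of_equiv : Module.Finite A C := by
  have : Module.Finite A' (A' ⊗[A] C) := Module.Finite.equiv e.symm.toLinearEquiv
  exact Module.Finite.of_finite_tensorProduct_of_faithfullyFlat A'

include hr e in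
/-- `A' ⊗ Z ≅ A' × A'` -/
theorem nonempty_center_equiv :
    Nonempty (A' ⊗[A] Subalgebra.center A C ≃ₐ[A'] A' × A') := by
  have : Module.Finite A C := finite_of_equiv A C A' r e
  have : Nonempty (Fin r) := ⟨⟨0, hr⟩⟩
  let φ : A' ⊗[A] Subalgebra.center A C →ₐ[A']
      (Matrix (Fin r) (Fin r) A' × Matrix (Fin r) (Fin r) A') :=
    (e : A' ⊗[A] C →ₐ[A'] _).comp (cenIncl A C A')
  let ψ : A' × A' →ₐ[A'] (Matrix (Fin r) (Fin r) A' × Matrix (Fin r) (Fin r) A') :=
    AlgHom.prodMap (Algebra.ofId A' _) (Algebra.ofId A' _)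
  have hφ : Function.Injective φ := e.injective.comp (cenIncl_injective A C A')
  have hinjM : Function.Injective (algebraMap A' (Matrix (Fin r) (Fin r) A')) := by
    intro a b hab
    have := congrFun (congrFun hab ⟨0, hr⟩) ⟨0, hr⟩
    simpa [Matrix.algebraMap_matrix_apply] using this
  have hψ : Function.Injective ψ := by
    rintro ⟨a, b⟩ ⟨a', b'⟩ hab
    have h1 : algebraMap A' (Matrix (Fin r) (Fin r) A') a = algebraMap A' _ a' :=
      congrArg Prod.fst hab
    have h2 : algebraMap A' (Matrix (Fin r) (Fin r) A') b = algebraMap A' _ b' :=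
      congrArg Prod.snd hab
    rw [hinjM h1, hinjM h2]
  have hrange : φ.range = ψ.range := by
    ext x
    constructor
    · rintro ⟨t, rfl⟩
      have h1 : (e (cenIncl A C A' t)) ∈ Set.center _ :=
        (mem_center_iff_of_mulEquiv e _).2 (cenIncl_mem_center A C A' t)
      rw [Set.center_prod] at h1
      obtain ⟨a, ha⟩ := mem_range_algebraMap_of_mem_center_matrix _ h1.1
      obtain ⟨b, hb⟩ := mem_range_algebraMap_of_mem_center_matrix _ h1.2
      exact ⟨(a, b), Prod.ext ha hb⟩
    · rintro ⟨⟨a, b⟩, rfl⟩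
      have h1 : ψ (a, b) ∈ Set.center _ := by
        rw [Set.center_prod]
        refine ⟨?_, ?_⟩
        · exact Semigroup.mem_center_iff.2 (fun g => (Algebra.commutes a g).symm)
        · exact Semigroup.mem_center_iff.2 (fun g => (Algebra.commutes b g).symm)
      obtain ⟨y, hy⟩ := e.surjective (ψ (a, b))
      rw [← hy] at h1
      have h2 := (mem_center_iff_of_mulEquiv e _).1 h1
      obtain ⟨t, ht⟩ := mem_range_cenIncl A C A' y h2
      exact ⟨t, by change e (cenIncl A C A' t) = _; rw [ht, hy]; rfl⟩
  exact ⟨(AlgEquiv.ofInjective φ hφ).trans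
    ((Subalgebra.equivOfEq _ _ hrange).trans (AlgEquiv.ofInjective ψ hψ).symm)⟩

include hr e in
theorem center_props :
    Algebra.Etale A (Subalgebra.center A C) ∧ Module.Finite A (Subalgebra.center A C) ∧
      Module.Projective A (Subalgebra.center A C) ∧
      ∀ p : PrimeSpectrum A, Module.rankAtStalk (Subalgebra.center A C) p = 2 := by
  obtain ⟨E⟩ := nonempty_center_equiv A C A' r hr e
  have hnt : Nontrivial A' ∨ Subsingleton A' := (subsingleton_or_nontrivial A').symm
  let F : (Fin 2 → A') ≃ₐ[A'] A' × A' :=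
    AlgEquiv.ofRingEquiv (f := RingEquiv.piFinTwo (fun _ => A')) (fun x => rfl)
  have : Algebra.Etale A' (A' × A') := Algebra.Etale.of_equiv F
  have : Algebra.Etale A' (A' ⊗[A] Subalgebra.center A C) := Algebra.Etale.of_equiv E.symm
  have : Module.Finite A' (A' ⊗[A] Subalgebra.center A C) :=
    Module.Finite.equiv E.symm.toLinearEquiv
  have : Module.Free A' (A' ⊗[A] Subalgebra.center A C) :=
    Module.Free.of_equiv E.symm.toLinearEquiv
  have hfin : Module.Finite A (Subalgebra.center A C) :=
    Module.Finite.of_finite_tensorProduct_of_faithfullyFlat A'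
  have hflat : Module.Flat A (Subalgebra.center A C) :=
    Module.Flat.of_flat_tensorProduct A (Subalgebra.center A C) A'
  have : Module.FinitePresentation A' (A' ⊗[A] Subalgebra.center A C) :=
    Module.finitePresentation_of_projective A' _
  have hfp : Module.FinitePresentation A (Subalgebra.center A C) :=
    Groth.Agent.Helper7.AzuDesc.finitePresentation_of_faithfullyFlat A A' _
  have hproj : Module.Projective A (Subalgebra.center A C) :=
    Module.Flat.projective_of_finitePresentation
  refine ⟨Algebra.Etale.of_etale_tensorProduct_of_faithfullyFlat A', hfin, hproj, ?_⟩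
  intro p
  obtain ⟨q, rfl⟩ := PrimeSpectrum.comap_surjective_of_faithfullyFlat (A := A) (B := A') p
  rw [← Module.rankAtStalk_baseChange, Module.rankAtStalk_eq_of_equiv E.toLinearEquiv,
    Module.rankAtStalk_eq_finrank_of_free]
  have : Nontrivial A' := q.nontrivial
  simp

end Main

end Groth.Agent.Helper7.CenAz
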