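import Mathlib
import Groth.Agent.Helper7.ClgQ
import Groth.Agent.Helper7.AzuDesc

/-!
# Twisted forms of `M_r × M_r` are Azumaya over their centre (helper7)
-/

set_option autoImplicit false
universe u v w w'
open TensorProduct

namespace Groth.Agent.Helper7.CenAz

section Generic

variable (A : Type u) [CommRing A] (Z : Type w') [CommRing Z] [Algebra A Z]
  (C : Type w) [Ring C] [Algebra A C] [Algebra Z C] [IsScalarTower A Z C]
  (A' : Type v) [CommRing A'] [Algebra A A']

/-- the base change of the structure map `Z → C` -/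
noncomputable def zIncl : A' ⊗[A] Z →ₐ[A'] A' ⊗[A] C :=
  Algebra.TensorProduct.map (AlgHom.id A' A') (IsScalarTower.toAlgHom A Z C)

@[simp]
theorem zIncl_tmul (a : A') (z : Z) :
    zIncl A Z C A' (a ⊗ₜ z) = a ⊗ₜ (algebraMap Z C z) := by
  simp [zIncl]

theorem zIncl_eq_lTensor (x : A' ⊗[A] Z) :
    zIncl A Z C A' x = ((IsScalarTower.toAlgHom A Z C).toLinearMap.lTensor A') x := by
  induction x using TensorProduct.induction_on with
  | zero => simp
  | add a b ha hb => rw [map_add, map_add, ha, hb]
  | tmul a z => simp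

theorem zIncl_injective [Module.Flat A A'] (hinj : Function.Injective (algebraMap Z C)) :
    Function.Injective (zIncl A Z C A') := by
  have h := Module.Flat.lTensor_preserves_injective_linearMap (M := A')
    (IsScalarTower.toAlgHom A Z C).toLinearMap hinj
  intro x y hxy
  rw [zIncl_eq_lTensor, zIncl_eq_lTensor] at hxy
  exact h hxy

theorem mem_range_zIncl [Module.Flat A A'] [Module.Finite A C]
    (hcen : ∀ y : C, y ∈ Set.center C → y ∈ Set.range (algebraMap Z C))
    (y : A' ⊗[A] C)
    (hy : y ∈ Set.center (A' ⊗[A] C)) : y ∈ Set.range (zIncl A Z C A') := by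
  classical
  obtain ⟨n, s, hs⟩ := Module.Finite.exists_fin (R := A) (M := C)
  let φ : C →ₗ[A] (Fin n → C) :=
    LinearMap.pi (fun i => LinearMap.mulRight A (s i) - LinearMap.mulLeft A (s i))
  have hφ : ∀ x i, φ x i = x * s i - s i * x := fun x i => rfl
  have hex : Function.Exact (IsScalarTower.toAlgHom A Z C).toLinearMap φ := by
    intro x
    constructor
    · intro hx
      have hx' : ∀ i, x * s i = s i * x := fun i => by
        have := congrFun hx i
        rw [hφ] at this
        exact sub_eq_zero.1 this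
      have hmem : x ∈ Set.center C := by
        rw [Semigroup.mem_center_iff]
        intro b
        have hb : b ∈ Submodule.span A (Set.range s) := by rw [hs]; trivial
        induction hb using Submodule.span_induction with
        | mem b hb =>
          obtain ⟨i, rfl⟩ := hb
          exact (hx' i).symm
        | zero => simp
        | add a b _ _ ha hb => rw [add_mul, mul_add, ha, hb]
        | smul r a _ ha => rw [smul_mul_assoc, mul_smul_comm, ha]
      exact hcen x hmem
    · rintro ⟨z, rfl⟩
      funext i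
      rw [hφ]
      change algebraMap Z C z * s i - s i * algebraMap Z C z = 0
      rw [Algebra.commutes z (s i), sub_self]
  have hex' := Module.Flat.lTensor_exact A' hex
  have hy0 : (φ.lTensor A') y = 0 := by
    apply (TensorProduct.piRight A A' A' (fun _ : Fin n => C)).injective
    rw [map_zero]
    funext i
    rw [TensorProduct.piRight_apply]
    have key : ∀ w : A' ⊗[A] C,
        TensorProduct.piRightHom A A' A' (fun _ : Fin n => C) ((φ.lTensor A') w) i =
          w * ((1 : A') ⊗ₜ[A] s i) - ((1 : A') ⊗ₜ[A] s i) * w := by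
      intro w
      induction w using TensorProduct.induction_on with
      | zero => simp
      | add a b ha hb => rw [map_add, map_add, Pi.add_apply, ha, hb, add_mul, mul_add]; abel
      | tmul a x =>
        rw [LinearMap.lTensor_tmul, TensorProduct.piRightHom_tmul]
        change a ⊗ₜ[A] φ x i = _
        rw [hφ, Algebra.TensorProduct.tmul_mul_tmul, Algebra.TensorProduct.tmul_mul_tmul, mul_one,
          one_mul, TensorProduct.tmul_sub]
    rw [key, (Semigroup.mem_center_iff.1 hy _), sub_self]
    rfl
  obtain ⟨x, hx⟩ := (hex' y).1 hy0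
  exact ⟨x, by rw [zIncl_eq_lTensor, hx]⟩

/-- the additive comparison `(Z ⊗ A') ⊗_Z C ≃ A' ⊗ C` -/
noncomputable def cmpAdd : ((Z ⊗[A] A') ⊗[Z] C) ≃+ (A' ⊗[A] C) :=
  (TensorProduct.comm Z (Z ⊗[A] A') C).toAddEquiv.trans
    ((TensorProduct.AlgebraTensorModule.cancelBaseChange A Z Z C A').toAddEquiv.trans
      (TensorProduct.comm A C A').toAddEquiv)

theorem cmpAdd_tmul (z : Z) (a : A') (c : C) :
    cmpAdd A Z C A' ((z ⊗ₜ[A] a) ⊗ₜ[Z] c) = a ⊗ₜ[A] (z • c) := by
  simp [cmpAdd]

theorem cmpAdd_mul (x y : (Z ⊗[A] A') ⊗[Z] C) :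
    cmpAdd A Z C A' (x * y) = cmpAdd A Z C A' x * cmpAdd A Z C A' y := by
  induction x using TensorProduct.induction_on with
  | zero => simp
  | add x₁ x₂ h₁ h₂ => rw [add_mul, map_add, map_add, h₁, h₂, add_mul]
  | tmul s₁ c₁ =>
    induction y using TensorProduct.induction_on with
    | zero => simp
    | add y₁ y₂ h₁ h₂ => rw [mul_add, map_add, map_add, h₁, h₂, mul_add]
    | tmul s₂ c₂ =>
      rw [Algebra.TensorProduct.tmul_mul_tmul]
      induction s₁ using TensorProduct.induction_on with
      | zero => simp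
      | add t₁ t₂ h₁ h₂ =>
        rw [add_mul, TensorProduct.add_tmul, map_add, h₁, h₂, TensorProduct.add_tmul, map_add,
          add_mul]
      | tmul z₁ a₁ =>
        induction s₂ using TensorProduct.induction_on with
        | zero => simp
        | add t₁ t₂ h₁ h₂ =>
          rw [mul_add, TensorProduct.add_tmul, map_add, h₁, h₂, TensorProduct.add_tmul, map_add,
            mul_add]
        | tmul z₂ a₂ =>
          rw [Algebra.TensorProduct.tmul_mul_tmul, cmpAdd_tmul, cmpAdd_tmul, cmpAdd_tmul,
            Algebra.TensorProduct.tmul_mul_tmul, smul_mul_smul_comm]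

/-- the ring isomorphism `(Z ⊗ A') ⊗_Z C ≃ A' ⊗ C` -/
noncomputable def cmpRing : ((Z ⊗[A] A') ⊗[Z] C) ≃+* (A' ⊗[A] C) :=
  { cmpAdd A Z C A' with map_mul' := cmpAdd_mul A Z C A' }

theorem cmpRing_algebraMap (s : Z ⊗[A] A') :
    cmpRing A Z C A' (algebraMap (Z ⊗[A] A') ((Z ⊗[A] A') ⊗[Z] C) s) =
      zIncl A Z C A' (TensorProduct.comm A Z A' s) := by
  rw [Algebra.TensorProduct.algebraMap_apply, Algebra.algebraMap_self, RingHom.id_apply]
  induction s using TensorProduct.induction_on with
  | zero => simp
  | add a b ha hb => rw [TensorProduct.add_tmul, map_add, ha, hb, map_add, map_add]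
  | tmul z a =>
    change cmpAdd A Z C A' ((z ⊗ₜ[A] a) ⊗ₜ[Z] 1) = _
    rw [cmpAdd_tmul, TensorProduct.comm_tmul, zIncl_tmul, Algebra.smul_def, mul_one]

end Generic

end Groth.Agent.Helper7.CenAz
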