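import Mathlib
import Groth.Agent.Helper7.ClgS
import Groth.Agent.Helper7.ClgT

/-!
# Twisted forms of `M_r × M_r`: main theorem (helper7)
-/

set_option autoImplicit false
universe u v w w'
open TensorProduct

namespace Groth.Agent.Helper7.CenAz

/-- matrices over a product ring -/
noncomputable def matProd (R₁ R₂ : Type*) [Semiring R₁] [Semiring R₂] (n : Type*) [Fintype n]
    [DecidableEq n] : Matrix n n (R₁ × R₂) ≃+* Matrix n n R₁ × Matrix n n R₂ :=
  { ((RingHom.fst R₁ R₂).mapMatrix.prod (RingHom.snd R₁ R₂).mapMatrix :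
      Matrix n n (R₁ × R₂) →+* Matrix n n R₁ × Matrix n n R₂) with
    invFun := fun XY => Matrix.of (fun i j => (XY.1 i j, XY.2 i j))
    left_inv := fun X => by ext i j <;> rfl
    right_inv := fun XY => by
      refine Prod.ext ?_ ?_ <;> (ext i j; rfl) }

section Main

variable (A : Type u) [CommRing A] (Z : Type w') [CommRing Z] [Algebra A Z]
  (C : Type w) [Ring C] [Algebra A C] [Algebra Z C] [IsScalarTower A Z C]
  (A' : Type v) [CommRing A'] [Algebra A A'] [Module.FaithfullyFlat A A']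
  (r : ℕ) (hr : 1 ≤ r)
  (e : A' ⊗[A] C ≃ₐ[A'] (Matrix (Fin r) (Fin r) A' × Matrix (Fin r) (Fin r) A'))
  (hinj : Function.Injective (algebraMap Z C))
  (hcen : ∀ y : C, y ∈ Set.center C → y ∈ Set.range (algebraMap Z C))

include hr e hinj hcen in
theorem isAzumaya_of_form : IsAzumaya Z C := by
  have : Module.Finite A C := finite_of_equiv A C A' r e
  have : Nonempty (Fin r) := ⟨⟨0, hr⟩⟩
  let τ : Matrix (Fin r) (Fin r) (A' × A') ≃+* ((Z ⊗[A] A') ⊗[Z] C) :=
    (matProd A' A' (Fin r)).trans (e.symm.toRingEquiv.trans (cmpRing A Z C A').symm)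
  have hinj₂ : Function.Injective (algebraMap (Z ⊗[A] A') ((Z ⊗[A] A') ⊗[Z] C)) := by
    intro s s' hss
    have h1 := congrArg (cmpRing A Z C A') hss
    rw [cmpRing_algebraMap, cmpRing_algebraMap] at h1
    exact (TensorProduct.comm A Z A').injective (zIncl_injective A Z C A' hinj h1)
  have hcen₂ : ∀ y : (Z ⊗[A] A') ⊗[Z] C, y ∈ Set.center ((Z ⊗[A] A') ⊗[Z] C) →
      y ∈ Set.range (algebraMap (Z ⊗[A] A') ((Z ⊗[A] A') ⊗[Z] C)) := by
    intro y hy
    have h1 : cmpRing A Z C A' y ∈ Set.center (A' ⊗[A] C) :=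
      (mem_center_iff_of_mulEquiv (cmpRing A Z C A') y).2 hy
    obtain ⟨t, ht⟩ := mem_range_zIncl A Z C A' hcen _ h1
    refine ⟨(TensorProduct.comm A Z A').symm t, ?_⟩
    apply (cmpRing A Z C A').injective
    rw [cmpRing_algebraMap, LinearEquiv.apply_symm_apply, ht]
  have : IsAzumaya (A' × A') (Matrix (Fin r) (Fin r) (A' × A')) := IsAzumaya.matrix _ _
  have : IsAzumaya (Z ⊗[A] A') ((Z ⊗[A] A') ⊗[Z] C) :=
    isAzumaya_of_ringEquiv_of_center (R₁ := A' × A') τ hinj₂ hcen₂
  exact Groth.Agent.Helper7.AzuDesc.isAzumaya_of_faithfullyFlat Z (Z ⊗[A] A') C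

end Main

section Main'

variable (A : Type u) [CommRing A] (Z : Type w') [CommRing Z] [Algebra A Z]
  (C : Type w) [Ring C] [Algebra A C] [Algebra Z C]
  (A' : Type v) [CommRing A'] [Algebra A A'] [Module.FaithfullyFlat A A']
  (r : ℕ) (hr : 1 ≤ r)
  (e : A' ⊗[A] C ≃ₐ[A'] (Matrix (Fin r) (Fin r) A' × Matrix (Fin r) (Fin r) A'))
  (hst : ∀ a : A, algebraMap A C a = algebraMap Z C (algebraMap A Z a))
  (hinj : Function.Injective (algebraMap Z C))
  (hcen : ∀ y : C, y ∈ Set.center C → y ∈ Set.range (algebraMap Z C))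

include hr e hst hinj hcen in
/-- variant of `isAzumaya_of_form` with the scalar tower condition as an explicit hypothesis -/
theorem isAzumaya_of_form' : IsAzumaya Z C := by
  have : IsScalarTower A Z C := IsScalarTower.of_algebraMap_eq hst
  exact isAzumaya_of_form A Z C A' r hr e hinj hcen

end Main'

end Groth.Agent.Helper7.CenAz
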