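import Mathlib
import Groth.Agent.Helper7.GQ7

set_option autoImplicit false
set_option linter.unusedSectionVars false
universe u v

namespace Groth.Agent.Helper7.CoQ

open TensorProduct Groth.Agent.Helper7.GQ

section Antipode

variable {K : Type u} [CommRing K] {H : Type v} [CommRing H] [HopfAlgebra K H]

lemma antipode_antipode (a : H) :
    HopfAlgebra.antipode K (HopfAlgebra.antipode K a) = a := by
  have h1 : WithConv.toConv (HopfAlgebra.antipodeAlgHom K H) =
      (WithConv.toConv (AlgHom.id K H))⁻¹ :=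
    eq_inv_of_mul_eq_one_left AlgHom.antipode_id_cancel
  have h2 : (WithConv.toConv (HopfAlgebra.antipodeAlgHom K H))⁻¹ =
      WithConv.toConv ((HopfAlgebra.antipodeAlgHom K H).comp (HopfAlgebra.antipodeAlgHom K H)) := rfl
  rw [h1, inv_inv] at h2
  have h3 := congrArg (fun f => f.ofConv a) h2
  simpa using h3.symm

end Antipode

variable (K : Type u) [CommRing K] (A : Type v) [CommRing A] [Algebra K A]
  (H : Type v) [CommRing H] [HopfAlgebra K H]

/-- a coaction of `H` on the algebra `A` -/
structure Coact where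
  ρ : A →ₐ[K] A ⊗[K] H
  coassoc : ∀ a, Algebra.TensorProduct.map ρ (AlgHom.id K H) (ρ a) =
    (Algebra.TensorProduct.assoc K K K A H H).symm
      (Algebra.TensorProduct.map (AlgHom.id K A) (Bialgebra.comulAlgHom K H) (ρ a))
  counit : ∀ a, Algebra.TensorProduct.lift (AlgHom.id K A)
    ((Algebra.ofId K A).comp (Bialgebra.counitAlgHom K H)) (fun _ _ => Commute.all _ _) (ρ a) = a

namespace Coact

variable {K A H} (Φ : Coact K A H)

/-- the identity section -/
noncomputable def eHom : A ⊗[K] H →ₐ[K] A :=
  Algebra.TensorProduct.lift (AlgHom.id K A)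
    ((Algebra.ofId K A).comp (Bialgebra.counitAlgHom K H)) (fun _ _ => Commute.all _ _)

lemma eHom_tmul (a : A) (h : H) :
    eHom (K := K) (a ⊗ₜ[K] h) = a * algebraMap K A (Coalgebra.counit h) := by
  simp [eHom, Algebra.ofId_apply]

/-- the inverse -/
noncomputable def iHom : A ⊗[K] H →ₐ[K] A ⊗[K] H :=
  Algebra.TensorProduct.lift Φ.ρ
    ((Algebra.TensorProduct.includeRight : H →ₐ[K] A ⊗[K] H).comp (HopfAlgebra.antipodeAlgHom K H))
    (fun _ _ => Commute.all _ _)

lemma iHom_tmul (a : A) (h : H) :
    Φ.iHom (a ⊗ₜ[K] h) = Φ.ρ a * ((1 : A) ⊗ₜ[K] HopfAlgebra.antipode K h) := by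
  simp [iHom]

/-- `a ⊗ h ↦ a ⊗ ε(h)` -/
noncomputable def epsHom : A ⊗[K] H →ₐ[K] A ⊗[K] H :=
  Algebra.TensorProduct.map (AlgHom.id K A)
    ((Algebra.ofId K H).comp (Bialgebra.counitAlgHom K H))

lemma epsHom_eq (x : A ⊗[K] H) : epsHom (K := K) x = (eHom (K := K) x) ⊗ₜ[K] (1 : H) := by
  induction x using TensorProduct.induction_on with
  | zero => simp
  | tmul a h =>
    rw [eHom_tmul]
    simp only [epsHom, Algebra.TensorProduct.map_tmul, AlgHom.coe_id, id_eq, AlgHom.comp_apply,
      Bialgebra.counitAlgHom_apply, Algebra.ofId_apply]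
    rw [Algebra.algebraMap_eq_smul_one, Algebra.algebraMap_eq_smul_one, TensorProduct.tmul_smul,
      mul_smul_comm, mul_one, TensorProduct.smul_tmul']
  | add x y hx hy => rw [map_add, map_add, hx, hy, TensorProduct.add_tmul]

/-- the key antipode identity -/
lemma iHom_aux (x : A ⊗[K] H) :
    (Algebra.TensorProduct.productMap (AlgHom.id K (A ⊗[K] H))
      ((Algebra.TensorProduct.includeRight : H →ₐ[K] A ⊗[K] H).comp
        (HopfAlgebra.antipodeAlgHom K H)))
      ((Algebra.TensorProduct.assoc K K K A H H).symm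
        (Algebra.TensorProduct.map (AlgHom.id K A) (Bialgebra.comulAlgHom K H) x)) =
    epsHom (K := K) (A := A) (H := H) x := by
  have key : ∀ (a : A) (z : H ⊗[K] H),
      (Algebra.TensorProduct.productMap (AlgHom.id K (A ⊗[K] H))
        ((Algebra.TensorProduct.includeRight : H →ₐ[K] A ⊗[K] H).comp
          (HopfAlgebra.antipodeAlgHom K H)))
        ((Algebra.TensorProduct.assoc K K K A H H).symm (a ⊗ₜ[K] z)) =
      a ⊗ₜ[K] (LinearMap.mul' K H ((HopfAlgebra.antipode K).lTensor H z)) := by
    intro a z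
    induction z using TensorProduct.induction_on with
    | zero => simp
    | tmul x y => simp
    | add x y hx hy => simp only [TensorProduct.tmul_add, map_add, hx, hy]
  induction x using TensorProduct.induction_on with
  | zero => simp
  | tmul a h =>
    rw [Algebra.TensorProduct.map_tmul, AlgHom.coe_id, id_eq, Bialgebra.comulAlgHom_apply, key,
      HopfAlgebra.mul_antipode_lTensor_comul_apply]
    simp [epsHom, Algebra.ofId_apply]
  | add x y hx hy => simp only [map_add, hx, hy]

lemma iHom_rho (a : A) : Φ.iHom (Φ.ρ a) = a ⊗ₜ[K] (1 : H) := by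
  have h1 : ∀ x : A ⊗[K] H, Φ.iHom x =
      (Algebra.TensorProduct.productMap (AlgHom.id K (A ⊗[K] H))
        ((Algebra.TensorProduct.includeRight : H →ₐ[K] A ⊗[K] H).comp
          (HopfAlgebra.antipodeAlgHom K H)))
        (Algebra.TensorProduct.map Φ.ρ (AlgHom.id K H) x) := by
    intro x
    induction x using TensorProduct.induction_on with
    | zero => simp
    | tmul a h => simp [iHom_tmul]
    | add x y hx hy => simp only [map_add, hx, hy]
  rw [h1, Φ.coassoc, iHom_aux, epsHom_eq]
  congr 1
  exact Φ.counit a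

lemma iHom_iHom (x : A ⊗[K] H) : Φ.iHom (Φ.iHom x) = x := by
  induction x using TensorProduct.induction_on with
  | zero => simp
  | tmul a h =>
    rw [iHom_tmul, map_mul, iHom_rho, iHom_tmul, map_one, one_mul, antipode_antipode,
      Algebra.TensorProduct.tmul_mul_tmul, mul_one, one_mul]
  | add x y hx hy => rw [map_add, map_add, hx, hy]

end Coact

end Groth.Agent.Helper7.CoQ
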