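import Mathlib
import Groth.Agent.Helper7.CoQ1

set_option autoImplicit false
set_option linter.unusedSectionVars false
universe u v

namespace Groth.Agent.Helper7.CoQ

open TensorProduct Groth.Agent.Helper7.GQ

variable {K : Type u} [CommRing K] {A : Type v} [CommRing A] [Algebra K A]
  {H : Type v} [CommRing H] [HopfAlgebra K H]

namespace Coact

variable (Φ : Coact K A H)

/-- the target of the composition map -/
abbrev TT : Type v := (A ⊗[K] H) ⊗[A] Via Φ.ρ.toRingHom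

/-- `b ↦ b ⊗ 1` -/
noncomputable def inL : A ⊗[K] H →+* Φ.TT :=
  Algebra.TensorProduct.includeLeftRingHom

/-- `b ↦ 1 ⊗ b` -/
noncomputable def inR : A ⊗[K] H →+* Φ.TT :=
  (Algebra.TensorProduct.includeRight :
    Via Φ.ρ.toRingHom →ₐ[A] Φ.TT).toRingHom.comp (toVia Φ.ρ.toRingHom).toRingHom

lemma inL_apply (b : A ⊗[K] H) : Φ.inL b = b ⊗ₜ[A] (1 : Via Φ.ρ.toRingHom) := rfl

lemma inR_apply (b : A ⊗[K] H) :
    Φ.inR b = (1 : A ⊗[K] H) ⊗ₜ[A] toVia Φ.ρ.toRingHom b := rfl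

lemma inR_rho (a : A) : Φ.inR (Φ.ρ a) = Φ.inL (a ⊗ₜ[K] (1 : H)) := by
  rw [inR_apply, inL_apply]
  have h1 : (a ⊗ₜ[K] (1 : H) : A ⊗[K] H) = a • (1 : A ⊗[K] H) := by
    rw [Algebra.TensorProduct.one_def, TensorProduct.smul_tmul', smul_eq_mul, mul_one]
  have h2 : toVia Φ.ρ.toRingHom (Φ.ρ a) = a • (1 : Via Φ.ρ.toRingHom) := by
    rw [smul_via, mul_one]
    rfl
  rw [h1, h2, TensorProduct.smul_tmul]

/-- the `K`-algebra structure on the target -/
@[reducible] noncomputable def algKT : Algebra K Φ.TT :=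
  (Φ.inL.comp (algebraMap K (A ⊗[K] H))).toAlgebra

attribute [local instance] algKT

/-- `inL` as a `K`-algebra map -/
noncomputable def inLK : A ⊗[K] H →ₐ[K] Φ.TT :=
  { Φ.inL with commutes' := fun _ => rfl }

/-- `inR` as a `K`-algebra map -/
noncomputable def inRK : A ⊗[K] H →ₐ[K] Φ.TT :=
  { Φ.inR with
    commutes' := fun k => by
      change Φ.inR (algebraMap K (A ⊗[K] H) k) = Φ.inL (algebraMap K (A ⊗[K] H) k)
      have h1 : algebraMap K (A ⊗[K] H) k = Φ.ρ (algebraMap K A k) := (Φ.ρ.commutes k).symm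
      have h2 : algebraMap K (A ⊗[K] H) k = (algebraMap K A k) ⊗ₜ[K] (1 : H) := rfl
      rw [h1, inR_rho, ← h2, ← h1] }

@[simp] lemma inLK_apply (b : A ⊗[K] H) : Φ.inLK b = Φ.inL b := rfl
@[simp] lemma inRK_apply (b : A ⊗[K] H) : Φ.inRK b = Φ.inR b := rfl

/-- `(x, h) ↦ inR x * inL (1 ⊗ h)` -/
noncomputable def Xi : (A ⊗[K] H) ⊗[K] H →ₐ[K] Φ.TT :=
  Algebra.TensorProduct.productMap Φ.inRK
    (Φ.inLK.comp (Algebra.TensorProduct.includeRight : H →ₐ[K] A ⊗[K] H))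

lemma Xi_tmul (x : A ⊗[K] H) (h : H) :
    Φ.Xi (x ⊗ₜ[K] h) = Φ.inR x * Φ.inL ((1 : A) ⊗ₜ[K] h) := by
  simp [Xi]

/-- the composition map -/
noncomputable def cHom : A ⊗[K] H →ₐ[K] Φ.TT :=
  Φ.Xi.comp (((Algebra.TensorProduct.assoc K K K A H H).symm : _ →ₐ[K] _).comp
    (Algebra.TensorProduct.map (AlgHom.id K A) (Bialgebra.comulAlgHom K H)))

lemma cHom_apply (x : A ⊗[K] H) :
    Φ.cHom x = Φ.Xi ((Algebra.TensorProduct.assoc K K K A H H).symm
      (Algebra.TensorProduct.map (AlgHom.id K A) (Bialgebra.comulAlgHom K H) x)) := rfl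

lemma Xi_map_rho (x : A ⊗[K] H) :
    Φ.Xi (Algebra.TensorProduct.map Φ.ρ (AlgHom.id K H) x) = Φ.inL x := by
  induction x using TensorProduct.induction_on with
  | zero => simp
  | tmul a h =>
    rw [Algebra.TensorProduct.map_tmul, AlgHom.coe_id, id_eq, Xi_tmul, inR_rho, ← map_mul,
      Algebra.TensorProduct.tmul_mul_tmul, mul_one, one_mul]
  | add x y hx hy => rw [map_add, map_add, hx, hy, map_add]

lemma cHom_rho (a : A) : Φ.cHom (Φ.ρ a) = Φ.inL (Φ.ρ a) := by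
  rw [cHom_apply, ← Φ.coassoc, Xi_map_rho]

lemma cHom_s (a : A) : Φ.cHom (a ⊗ₜ[K] (1 : H)) = Φ.inR (a ⊗ₜ[K] (1 : H)) := by
  rw [cHom_apply, Algebra.TensorProduct.map_tmul, map_one, Algebra.TensorProduct.one_def,
    Algebra.TensorProduct.assoc_symm_tmul, Xi_tmul, ← Algebra.TensorProduct.one_def, map_one,
    mul_one]
  rfl

/-- the ring-level groupoid of a free coaction -/
noncomputable def data (hgen : Submodule.span A (Set.range Φ.ρ) = ⊤) : Data A (A ⊗[K] H) where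
  t := Φ.ρ.toRingHom
  e := (eHom (K := K) (A := A) (H := H)).toRingHom
  i := Φ.iHom.toRingHom
  c := Φ.cHom.toRingHom
  e_s a := by
    change eHom (K := K) (a ⊗ₜ[K] (1 : H)) = a
    rw [eHom_tmul]
    simp
  e_t a := Φ.counit a
  i_s a := by
    change Φ.iHom (a ⊗ₜ[K] (1 : H)) = Φ.ρ a
    rw [iHom_tmul, HopfAlgebra.antipode_one, ← Algebra.TensorProduct.one_def, mul_one]
  i_t a := Φ.iHom_rho a
  c_t a := Φ.cHom_rho a
  c_s a := Φ.cHom_s a
  gen := hgen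

end Coact

end Groth.Agent.Helper7.CoQ
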