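import Mathlib
import Groth.Agent.Helper7.CoQ2

set_option autoImplicit false
set_option linter.unusedSectionVars false
universe u v

namespace Groth.Agent.Helper7.CoQ

open TensorProduct CategoryTheory CategoryTheory.Limits

section L1

variable {K : Type u} [CommRing K] {A : Type v} [CommRing A] [Algebra K A]
  {B' : Type v} [CommRing B'] [Algebra K B'] (H : Type v) [CommRing H] [Algebra K H]

/-- base change of `A → A ⊗ H` along `φ : A → B'` is `B' → B' ⊗ H` -/
theorem isPushout_map (φ : A →ₐ[K] B') :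
    IsPushout (CommRingCat.ofHom φ.toRingHom)
      (CommRingCat.ofHom (algebraMap A (A ⊗[K] H)))
      (CommRingCat.ofHom (algebraMap B' (B' ⊗[K] H)))
      (CommRingCat.ofHom (Algebra.TensorProduct.map φ (AlgHom.id K H)).toRingHom) := by
  letI : Algebra A B' := φ.toRingHom.toAlgebra
  haveI : IsScalarTower K A B' := IsScalarTower.of_algebraMap_eq fun k => (φ.commutes k).symm
  letI : Algebra (A ⊗[K] H) (B' ⊗[K] H) :=
    (Algebra.TensorProduct.map φ (AlgHom.id K H)).toRingHom.toAlgebra
  haveI : IsScalarTower A (A ⊗[K] H) (B' ⊗[K] H) := IsScalarTower.of_algebraMap_eq fun a => by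
    change (φ a) ⊗ₜ[K] (1 : H) = Algebra.TensorProduct.map φ (AlgHom.id K H) (a ⊗ₜ[K] (1 : H))
    simp
  haveI : Algebra.IsPushout A B' (A ⊗[K] H) (B' ⊗[K] H) :=
    Algebra.IsPushout.tensorProduct_tensorProduct K H A B' (by
      ext h
      change Algebra.TensorProduct.map φ (AlgHom.id K H) ((1 : A) ⊗ₜ[K] h) = (1 : B') ⊗ₜ[K] h
      simp)
  exact CommRingCat.isPushout_of_isPushout A B' (A ⊗[K] H) (B' ⊗[K] H)

end L1


section Shear

open Coalgebra HopfAlgebra

variable (K : Type u) [CommRing K] (H : Type v) [CommRing H] [HopfAlgebra K H]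

/-- the shearing map `x ⊗ y ↦ (x ⊗ 1) Δ(y)` -/
noncomputable def shear : H ⊗[K] H →ₐ[H] H ⊗[K] H :=
  Algebra.TensorProduct.lift (Algebra.ofId H (H ⊗[K] H)) (Bialgebra.comulAlgHom K H)
    (fun _ _ => Commute.all _ _)

lemma shear_tmul (x y : H) : shear K H (x ⊗ₜ y) = (x ⊗ₜ[K] (1 : H)) * comul y := by
  simp [shear, Algebra.ofId_apply, Algebra.TensorProduct.algebraMap_apply]

/-- the auxiliary map `a ⊗ w ↦ (S a ⊗ 1) w` -/
noncomputable def shAux : H ⊗[K] (H ⊗[K] H) →ₗ[K] H ⊗[K] H :=
  TensorProduct.lift ((LinearMap.mul K (H ⊗[K] H)) ∘ₗ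
    ((Algebra.TensorProduct.includeLeft (R := K) (S := K) (A := H) (B := H)).toLinearMap ∘ₗ
      antipode K))

lemma shAux_tmul (a : H) (w : H ⊗[K] H) :
    shAux K H (a ⊗ₜ w) = (antipode K a ⊗ₜ[K] (1 : H)) * w := by
  simp [shAux]

lemma shear_rTensor_antipode_comul (y : H) :
    shear K H ((antipode K).rTensor H (comul y)) = (1 : H) ⊗ₜ[K] y := by
  have h1 : ((shear K H).toLinearMap.restrictScalars K) ∘ₗ (antipode K).rTensor H =
      shAux K H ∘ₗ (comul (R := K) (A := H)).lTensor H := by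
    apply TensorProduct.ext'
    intro a b
    simp [shear_tmul, shAux_tmul]
  have h2 : shAux K H ∘ₗ (TensorProduct.assoc K H H H).toLinearMap =
      ((LinearMap.mul' K H) ∘ₗ (antipode K).rTensor H).rTensor H := by
    apply TensorProduct.ext_threefold
    intro a b c
    simp [shAux_tmul]
  have h3 := LinearMap.congr_fun h1 (comul y)
  simp only [LinearMap.coe_comp, Function.comp_apply, LinearMap.coe_restrictScalars,
    AlgHom.toLinearMap_apply] at h3
  rw [h3, ← coassoc_apply]
  have h4 := LinearMap.congr_fun h2 ((comul (R := K) (A := H)).rTensor H (comul y))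
  simp only [LinearMap.coe_comp, Function.comp_apply, LinearEquiv.coe_coe] at h4
  rw [h4, ← LinearMap.rTensor_comp_apply]
  have h5 : (LinearMap.mul' K H ∘ₗ (antipode K).rTensor H) ∘ₗ comul =
      Algebra.linearMap K H ∘ₗ counit := by
    rw [LinearMap.comp_assoc]
    exact HopfAlgebra.mul_antipode_rTensor_comul
  rw [h5, LinearMap.rTensor_comp_apply, rTensor_counit_comul]
  simp

end Shear

end Groth.Agent.Helper7.CoQ
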