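import Mathlib
import Groth.Agent.Helper7.CoQ3

set_option autoImplicit false
set_option linter.unusedSectionVars false
universe u v

namespace Groth.Agent.Helper7.CoQ

open TensorProduct CategoryTheory CategoryTheory.Limits

variable {K : Type u} [CommRing K] {A : Type v} [CommRing A] [Algebra K A]
  {H : Type v} [CommRing H] [HopfAlgebra K H]

variable (K A H) in
/-- `a ⊗ h ↦ Σ (a ⊗ h₁) ⊗ h₂` -/
noncomputable def lam2 : A ⊗[K] H →ₐ[K] (A ⊗[K] H) ⊗[K] H :=
  ((Algebra.TensorProduct.assoc K K K A H H).symm : _ →ₐ[K] _).comp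
    (Algebra.TensorProduct.map (AlgHom.id K A) (Bialgebra.comulAlgHom K H))

variable (K A H) in
/-- `x ⊗ y ↦ (1 ⊗ x) ⊗ y` -/
noncomputable def jHom : H ⊗[K] H →ₐ[K] (A ⊗[K] H) ⊗[K] H :=
  Algebra.TensorProduct.map (Algebra.TensorProduct.includeRight : H →ₐ[K] A ⊗[K] H)
    (AlgHom.id K H)

lemma lam2_one_tmul (y : H) :
    lam2 K A H ((1 : A) ⊗ₜ[K] y) = jHom K A H (Coalgebra.comul y) := by
  have key : ∀ z : H ⊗[K] H,
      (Algebra.TensorProduct.assoc K K K A H H).symm ((1 : A) ⊗ₜ[K] z) = jHom K A H z := by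
    intro z
    induction z using TensorProduct.induction_on with
    | zero => simp
    | tmul x y => simp [jHom]
    | add x y hx hy => simp only [TensorProduct.tmul_add, map_add, hx, hy]
  simp only [lam2, AlgHom.comp_apply, Algebra.TensorProduct.map_tmul, AlgHom.coe_id, id_eq,
    Bialgebra.comulAlgHom_apply]
  exact key _

variable (K A H) in
/-- the shear automorphism of `(A ⊗ H) ⊗ H` over `A ⊗ H` -/
noncomputable def Theta : (A ⊗[K] H) ⊗[K] H →ₐ[A ⊗[K] H] (A ⊗[K] H) ⊗[K] H :=
  Algebra.TensorProduct.lift (Algebra.ofId (A ⊗[K] H) ((A ⊗[K] H) ⊗[K] H))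
    ((lam2 K A H).comp (Algebra.TensorProduct.includeRight : H →ₐ[K] A ⊗[K] H))
    (fun _ _ => Commute.all _ _)

lemma Theta_tmul (b : A ⊗[K] H) (h : H) :
    Theta K A H (b ⊗ₜ[K] h) = (b ⊗ₜ[K] (1 : H)) * lam2 K A H ((1 : A) ⊗ₜ[K] h) := by
  simp [Theta, Algebra.ofId_apply, Algebra.TensorProduct.algebraMap_apply]

lemma Theta_jHom (z : H ⊗[K] H) :
    Theta K A H (jHom K A H z) = jHom K A H (shear K H z) := by
  induction z using TensorProduct.induction_on with
  | zero => simp
  | tmul x y =>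
    rw [shear_tmul, map_mul, ← lam2_one_tmul]
    simp [jHom, Theta_tmul]
  | add x y hx hy => simp only [map_add, hx, hy]

lemma Theta_surjective : Function.Surjective (Theta K A H) := by
  intro w
  induction w using TensorProduct.induction_on with
  | zero => exact ⟨0, map_zero _⟩
  | tmul b h =>
    refine ⟨b • jHom K A H ((HopfAlgebra.antipode K).rTensor H (Coalgebra.comul h)), ?_⟩
    rw [map_smul, Theta_jHom, shear_rTensor_antipode_comul]
    simp only [jHom, Algebra.TensorProduct.map_tmul, map_one, AlgHom.coe_id, id_eq,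
      TensorProduct.smul_tmul', smul_eq_mul, mul_one]
  | add w₁ w₂ h₁ h₂ =>
    obtain ⟨v₁, rfl⟩ := h₁
    obtain ⟨v₂, rfl⟩ := h₂
    exact ⟨v₁ + v₂, map_add _ _ _⟩

lemma Theta_bijective [Module.Finite K H] : Function.Bijective (Theta K A H) :=
  ⟨OrzechProperty.injective_of_surjective_endomorphism (Theta K A H).toLinearMap
    Theta_surjective, Theta_surjective⟩

end Groth.Agent.Helper7.CoQ
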