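import Mathlib
import Groth.Agent.Helper7.CoQ4
import Groth.Agent.Helper8.GrpdNormA

set_option autoImplicit false
set_option linter.unusedSectionVars false
universe u v

namespace Groth.Agent.Helper7.CoQ

open TensorProduct CategoryTheory CategoryTheory.Limits Polynomial
open Groth.Agent.Helper7.GQ Groth.Agent.Helper8

variable {K : Type u} [CommRing K] {A : Type v} [CommRing A] [Algebra K A]
  {H : Type v} [CommRing H] [HopfAlgebra K H]

namespace Coact

variable (Φ : Coact K A H)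

/-- `a ⊗ h ↦ ρ a ⊗ h` -/
noncomputable def lam1 : A ⊗[K] H →ₐ[K] (A ⊗[K] H) ⊗[K] H :=
  Algebra.TensorProduct.map Φ.ρ (AlgHom.id K H)

theorem h1 : IsPushout (CommRingCat.ofHom Φ.ρ.toRingHom)
    (CommRingCat.ofHom (algebraMap A (A ⊗[K] H)))
    (CommRingCat.ofHom (algebraMap (A ⊗[K] H) ((A ⊗[K] H) ⊗[K] H)))
    (CommRingCat.ofHom Φ.lam1.toRingHom) :=
  isPushout_map H Φ.ρ

omit Φ in
theorem h2 [Module.Finite K H] : IsPushout (CommRingCat.ofHom (algebraMap A (A ⊗[K] H)))
    (CommRingCat.ofHom (algebraMap A (A ⊗[K] H)))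
    (CommRingCat.ofHom (algebraMap (A ⊗[K] H) ((A ⊗[K] H) ⊗[K] H)))
    (CommRingCat.ofHom (lam2 K A H).toRingHom) := by
  have h0 := isPushout_map H (Algebra.TensorProduct.includeLeft : A →ₐ[K] A ⊗[K] H)
  let e : ((A ⊗[K] H) ⊗[K] H) ≃+* ((A ⊗[K] H) ⊗[K] H) :=
    RingEquiv.ofBijective (Theta K A H).toRingHom Theta_bijective
  have c1 : CommRingCat.ofHom (Algebra.TensorProduct.includeLeft : A →ₐ[K] A ⊗[K] H).toRingHom ≫
      (Iso.refl (CommRingCat.of (A ⊗[K] H))).hom =
      (Iso.refl (CommRingCat.of A)).hom ≫ CommRingCat.ofHom (algebraMap A (A ⊗[K] H)) := by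
    ext a
    rfl
  have c2 : CommRingCat.ofHom (algebraMap A (A ⊗[K] H)) ≫
      (Iso.refl (CommRingCat.of (A ⊗[K] H))).hom =
      (Iso.refl (CommRingCat.of A)).hom ≫ CommRingCat.ofHom (algebraMap A (A ⊗[K] H)) := by
    ext a
    rfl
  have c3 : CommRingCat.ofHom (algebraMap (A ⊗[K] H) ((A ⊗[K] H) ⊗[K] H)) ≫
      e.toCommRingCatIso.hom = (Iso.refl (CommRingCat.of (A ⊗[K] H))).hom ≫
      CommRingCat.ofHom (algebraMap (A ⊗[K] H) ((A ⊗[K] H) ⊗[K] H)) := by
    refine CommRingCat.hom_ext (RingHom.ext fun b => ?_)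
    change Theta K A H (b ⊗ₜ[K] (1 : H)) = b ⊗ₜ[K] (1 : H)
    rw [Theta_tmul, ← Algebra.TensorProduct.one_def, map_one, mul_one]
  have c4 : CommRingCat.ofHom (Algebra.TensorProduct.map
      (Algebra.TensorProduct.includeLeft : A →ₐ[K] A ⊗[K] H) (AlgHom.id K H)).toRingHom ≫
      e.toCommRingCatIso.hom = (Iso.refl (CommRingCat.of (A ⊗[K] H))).hom ≫
      CommRingCat.ofHom (lam2 K A H).toRingHom := by
    refine CommRingCat.hom_ext (RingHom.ext fun x => ?_)
    change Theta K A H (Algebra.TensorProduct.map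
      (Algebra.TensorProduct.includeLeft : A →ₐ[K] A ⊗[K] H) (AlgHom.id K H) x) = lam2 K A H x
    induction x using TensorProduct.induction_on with
    | zero => simp
    | tmul a h =>
      rw [Algebra.TensorProduct.map_tmul, AlgHom.coe_id, id_eq, Theta_tmul,
        Algebra.TensorProduct.includeLeft_apply]
      have h3 : (a ⊗ₜ[K] (1 : H)) ⊗ₜ[K] (1 : H) = lam2 K A H (a ⊗ₜ[K] (1 : H)) := by
        simp [lam2, Algebra.TensorProduct.one_def]
      rw [h3, ← map_mul, Algebra.TensorProduct.tmul_mul_tmul, mul_one, one_mul]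
    | add x y hx hy => simp only [map_add, hx, hy]
  exact h0.of_iso (Iso.refl _) (Iso.refl _) (Iso.refl _) e.toCommRingCatIso c1 c2 c3 c4

variable [Module.Finite K H] [Module.Projective K H]
variable (hgen : Submodule.span A (Set.range Φ.ρ) = ⊤)

theorem hasNrm : (Φ.data hgen).HasNrm := by
  intro g
  obtain ⟨n, F, Gm, -, -, hFG⟩ := Module.Finite.exists_comp_eq_id_of_projective A (A ⊗[K] H)
  refine ⟨PNorm.nrm F Gm (Φ.ρ g), ?_, fun 𝔭 h𝔭 => ⟨?_, ?_⟩⟩
  · have := (PNorm.invariance_core Φ.ρ.toRingHom Φ.lam1.toRingHom (lam2 K A H).toRingHom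
      Φ.h1 h2 F Gm hFG (Φ.ρ g) (Φ.coassoc g)).2
    exact this.symm
  · intro hf 𝔮 h𝔮 h𝔮𝔭 hg
    exact hf (PNorm.nrm_mem_of_mem F Gm hFG 𝔭 𝔮 h𝔮𝔭 _ hg)
  · intro hall hf
    obtain ⟨q, hq, hqp, hhq⟩ := PNorm.exists_prime_of_nrm_mem F Gm hFG 𝔭 (Φ.ρ g) hf
    exact hall q hq hqp hhq

theorem rho_injective : Function.Injective Φ.ρ := by
  intro a b hab
  rw [← Φ.counit a, ← Φ.counit b, hab]

theorem isIntegral : Algebra.IsIntegral (Φ.data hgen).inv A := by
  refine ⟨fun a => ?_⟩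
  obtain ⟨p, hp, hc, he⟩ := GrpdNormA.exists_monic_invariant Φ.ρ.toRingHom Φ.lam1.toRingHom
    (lam2 K A H).toRingHom Φ.h1 h2 (fun a => Φ.coassoc a) Φ.rho_injective a
  have hsub : (↑p.coeffs : Set A) ⊆ (Φ.data hgen).inv := by
    intro c hc'
    obtain ⟨k, -, rfl⟩ := Polynomial.mem_coeffs_iff.mp (Finset.mem_coe.mp hc')
    exact hc k
  refine ⟨p.toSubring (Φ.data hgen).inv hsub,
    (Polynomial.monic_toSubring p (Φ.data hgen).inv hsub).mpr hp, ?_⟩
  have : (p.toSubring (Φ.data hgen).inv hsub).map (algebraMap (Φ.data hgen).inv A) = p :=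
    Polynomial.map_toSubring p (Φ.data hgen).inv hsub
  rw [← Polynomial.eval_map, this]
  exact he

/-- `B` through `s` is isomorphic to `B` through `ρ` via the inverse map -/
noncomputable def viaEquiv : (A ⊗[K] H) ≃ₗ[A] Via (Φ.data hgen).t where
  toFun b := toVia (Φ.data hgen).t (Φ.iHom b)
  invFun v := Φ.iHom ((toVia (Φ.data hgen).t).symm v)
  left_inv b := by
    change Φ.iHom (Φ.iHom b) = b
    exact Φ.iHom_iHom b
  right_inv v := by
    change Φ.iHom (Φ.iHom _) = _
    exact Φ.iHom_iHom _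
  map_add' b b' := by
    rw [map_add, map_add]
  map_smul' a b := by
    rw [RingHom.id_apply, smul_via, Algebra.smul_def, map_mul, map_mul]
    congr 2
    exact (Φ.data hgen).i_s a

theorem finite_via : Module.Finite A (Via (Φ.data hgen).t) :=
  Module.Finite.equiv (Φ.viaEquiv hgen)

theorem projective_via : Module.Projective A (Via (Φ.data hgen).t) :=
  Module.Projective.of_equiv (Φ.viaEquiv hgen)

/-- the free quotient theorem for a free coaction of a finite locally free Hopf algebra -/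
theorem main : Module.Finite (Φ.data hgen).inv A ∧ Module.Projective (Φ.data hgen).inv A ∧
    Function.Bijective (Φ.data hgen).can := by
  haveI := Φ.finite_via hgen
  haveI := Φ.projective_via hgen
  haveI := Φ.isIntegral hgen
  exact (Φ.data hgen).main (Φ.hasNrm hgen)

end Coact

end Groth.Agent.Helper7.CoQ
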