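import Mathlib
import Groth.Agent.Helper7.CoQ5

set_option autoImplicit false
set_option linter.unusedSectionVars false
universe u v

namespace Groth.Agent.Helper7.CoQ

open TensorProduct Coalgebra

variable {K : Type u} [CommRing K] {A : Type v} [CommRing A] [HopfAlgebra K A]
  {Hq : Type v} [CommRing Hq] [HopfAlgebra K Hq] (π : A →ₐc[K] Hq)

/-- the coaction map `a ↦ Σ a₁ ⊗ π a₂` -/
noncomputable def rhoOf : A →ₐ[K] A ⊗[K] Hq :=
  (Algebra.TensorProduct.map (AlgHom.id K A) (π : A →ₐ[K] Hq)).comp (Bialgebra.comulAlgHom K A)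

lemma rhoOf_apply (a : A) :
    rhoOf π a = Algebra.TensorProduct.map (AlgHom.id K A) (π : A →ₐ[K] Hq) (comul a) := rfl

/-- `(a ⊗ b) ⊗ c ↦ (a ⊗ π b) ⊗ π c` -/
noncomputable def Lam3 : (A ⊗[K] A) ⊗[K] A →ₐ[K] (A ⊗[K] Hq) ⊗[K] Hq :=
  Algebra.TensorProduct.map (Algebra.TensorProduct.map (AlgHom.id K A) (π : A →ₐ[K] Hq))
    (π : A →ₐ[K] Hq)

lemma coassoc_left (x : A ⊗[K] A) :
    Algebra.TensorProduct.map (rhoOf π) (AlgHom.id K Hq)
      (Algebra.TensorProduct.map (AlgHom.id K A) (π : A →ₐ[K] Hq) x) =
    Lam3 π ((comul (R := K) (A := A)).rTensor A x) := by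
  induction x using TensorProduct.induction_on with
  | zero => simp
  | tmul a b => simp [Lam3, rhoOf_apply]
  | add x y hx hy => simp only [map_add, hx, hy]

lemma coassoc_right (x : A ⊗[K] A) :
    (Algebra.TensorProduct.assoc K K K A Hq Hq).symm
      (Algebra.TensorProduct.map (AlgHom.id K A) (Bialgebra.comulAlgHom K Hq)
        (Algebra.TensorProduct.map (AlgHom.id K A) (π : A →ₐ[K] Hq) x)) =
    Lam3 π ((TensorProduct.assoc K A A A).symm ((comul (R := K) (A := A)).lTensor A x)) := by
  have key : ∀ (a : A) (z : A ⊗[K] A),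
      (Algebra.TensorProduct.assoc K K K A Hq Hq).symm
        (a ⊗ₜ[K] (TensorProduct.map (π : A →ₗ[K] Hq) (π : A →ₗ[K] Hq) z)) =
      Lam3 π ((TensorProduct.assoc K A A A).symm (a ⊗ₜ[K] z)) := by
    intro a z
    induction z using TensorProduct.induction_on with
    | zero => simp
    | tmul u w => simp [Lam3]
    | add x y hx hy => simp only [TensorProduct.tmul_add, map_add, hx, hy]
  induction x using TensorProduct.induction_on with
  | zero => simp
  | tmul a b =>
    simp only [Algebra.TensorProduct.map_tmul, AlgHom.coe_id, id_eq, Bialgebra.comulAlgHom_apply,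
      LinearMap.lTensor_tmul]
    rw [← key]
    congr 2
    exact (CoalgHomClass.map_comp_comul_apply π b).symm
  | add x y hx hy => simp only [map_add, hx, hy]

/-- the coaction of a quotient Hopf algebra on `A` by right translations -/
noncomputable def quotCoact : Coact K A Hq where
  ρ := rhoOf π
  coassoc a := by
    rw [rhoOf_apply, coassoc_left, coassoc_right, coassoc_symm_apply]
  counit a := by
    rw [rhoOf_apply]
    have key : ∀ x : A ⊗[K] A,
        Algebra.TensorProduct.lift (AlgHom.id K A)
          ((Algebra.ofId K A).comp (Bialgebra.counitAlgHom K Hq)) (fun _ _ => Commute.all _ _)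
          (Algebra.TensorProduct.map (AlgHom.id K A) (π : A →ₐ[K] Hq) x) =
        (TensorProduct.rid K A) ((counit (R := K) (A := A)).lTensor A x) := by
      intro x
      induction x using TensorProduct.induction_on with
      | zero => simp
      | tmul a b =>
        simp [Algebra.ofId_apply, Algebra.algebraMap_eq_smul_one]
      | add x y hx hy => simp only [map_add, hx, hy]
    rw [key, lTensor_counit_comul]
    simp

@[simp] lemma quotCoact_rho : (quotCoact π).ρ = rhoOf π := rfl

/-- the action by right translations of a closed subgroup is free -/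
theorem gen_quotCoact (hπ : Function.Surjective π) :
    Submodule.span A (Set.range (quotCoact π).ρ) = ⊤ := by
  set N : Submodule A (A ⊗[K] Hq) := Submodule.span A (Set.range (quotCoact π).ρ) with hN
  have h1 : ∀ z : A ⊗[K] A,
      Algebra.TensorProduct.map (AlgHom.id K A) (π : A →ₐ[K] Hq) (shear K A z) ∈ N := by
    intro z
    induction z using TensorProduct.induction_on with
    | zero => simp
    | tmul x y =>
      rw [shear_tmul, map_mul]
      have h2 : Algebra.TensorProduct.map (AlgHom.id K A) (π : A →ₐ[K] Hq) (x ⊗ₜ[K] (1 : A)) *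
          Algebra.TensorProduct.map (AlgHom.id K A) (π : A →ₐ[K] Hq) (comul y) =
          x • rhoOf π y := by
        rw [rhoOf_apply, Algebra.smul_def]
        simp
      rw [h2]
      exact Submodule.smul_mem _ _ (Submodule.subset_span ⟨y, rfl⟩)
    | add x y hx hy =>
      rw [map_add, map_add]
      exact Submodule.add_mem _ hx hy
  rw [eq_top_iff]
  rintro w -
  induction w using TensorProduct.induction_on with
  | zero => exact Submodule.zero_mem _
  | tmul a c =>
    obtain ⟨a', rfl⟩ := hπ c
    have h3 := h1 (a • ((HopfAlgebra.antipode K).rTensor A (comul a')))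
    rw [map_smul, shear_rTensor_antipode_comul] at h3
    simpa [TensorProduct.smul_tmul'] using h3
  | add x y hx hy => exact Submodule.add_mem _ hx hy

end Groth.Agent.Helper7.CoQ
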