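import Mathlib
import Groth.Agent.Helper7.CoQ6

set_option autoImplicit false
set_option linter.unusedSectionVars false
universe u v

namespace Groth.Agent.Helper7.GQ

open TensorProduct

namespace Data

variable {A B : Type u} [CommRing A] [CommRing B] [Algebra A B] (D : Data A B)

attribute [local instance] algInvB

/-- `can` with the factors swapped, as an `A`-linear map (`A` acting on the left factor) -/
noncomputable def canL : A ⊗[D.inv] A →ₗ[A] B where
  toFun z := D.can (TensorProduct.comm D.inv A A z)
  map_add' x y := by rw [map_add, map_add]
  map_smul' a z := by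
    rw [RingHom.id_apply]
    induction z using TensorProduct.induction_on with
    | zero => simp
    | tmul x y =>
      rw [TensorProduct.smul_tmul', TensorProduct.comm_tmul, TensorProduct.comm_tmul, can_tmul,
        can_tmul, smul_eq_mul, map_mul, Algebra.smul_def]
      ring
    | add x y hx hy => rw [smul_add, map_add, map_add, hx, hy, map_add, map_add, smul_add]

lemma canL_bijective (hbij : Function.Bijective D.can) : Function.Bijective D.canL :=
  hbij.comp (TensorProduct.comm D.inv A A).bijective

/-- the rank of `A` over the invariants equals the rank of `B` over `A` -/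
theorem rankAtStalk_inv [Module.Finite D.inv A] [Module.Flat D.inv A]
    (hbij : Function.Bijective D.can) (Q : PrimeSpectrum A) :
    Module.rankAtStalk (R := D.inv) A (Q.comap (algebraMap D.inv A)) =
      Module.rankAtStalk (R := A) B Q := by
  rw [← Module.rankAtStalk_baseChange (R := D.inv) (M := A) (S := A) Q]
  exact congrFun (Module.rankAtStalk_eq_of_equiv
    (LinearEquiv.ofBijective D.canL (D.canL_bijective hbij))) Q

end Data

end Groth.Agent.Helper7.GQ

namespace Groth.Agent.Helper7.CoQ

open TensorProduct Groth.Agent.Helper7.GQ

variable {K : Type u} [CommRing K] {A : Type v} [CommRing A] [Algebra K A]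
  {H : Type v} [CommRing H] [HopfAlgebra K H]

namespace Coact

variable (Φ : Coact K A H) [Module.Finite K H] [Module.Projective K H]
variable (hgen : Submodule.span A (Set.range Φ.ρ) = ⊤)

/-- the rank of `A` over the invariants is the rank of `H` -/
theorem rankAtStalk_inv (Q : PrimeSpectrum A) :
    Module.rankAtStalk (R := (Φ.data hgen).inv) A (Q.comap (algebraMap (Φ.data hgen).inv A)) =
      Module.rankAtStalk (R := K) H (Q.comap (algebraMap K A)) := by
  obtain ⟨hfin, hproj, hbij⟩ := Φ.main hgen
  haveI := hfin
  haveI := hproj
  rw [(Φ.data hgen).rankAtStalk_inv hbij Q]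
  exact Module.rankAtStalk_baseChange (R := K) (M := H) (S := A) Q

end Coact

end Groth.Agent.Helper7.CoQ
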