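import Mathlib
import Groth.Agent.Helper7.CoQ7
import Groth.Agent.Helper3.SemiFree

set_option autoImplicit false
set_option linter.unusedSectionVars false
universe u v

namespace Groth.Agent.Helper7.CoQ

open TensorProduct Groth.Agent.Helper7.GQ

section Field

variable (k : Type u) [Field k] (A : Type v) [CommRing A] [HopfAlgebra k A] [Module.Finite k A]
  (I : Ideal A) [I.IsHopfIdeal k]

/-- the subalgebra of right invariants, as in the statements -/
noncomputable abbrev rightInv : Subalgebra k A :=
  AlgHom.equalizer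
    ((Algebra.TensorProduct.map (AlgHom.id k A) (Ideal.Quotient.mkₐ k I)).comp
      (Bialgebra.comulAlgHom k A))
    (Algebra.TensorProduct.includeLeft : A →ₐ[k] A ⊗[k] (A ⧸ I))

omit [Module.Finite k A] in
include k in
lemma nontrivial_of_hopf : Nontrivial A := by
  refine ⟨⟨1, 0, fun h => ?_⟩⟩
  have h1 := congrArg (Bialgebra.counitAlgHom k A) h
  rw [map_one, map_zero] at h1
  exact one_ne_zero h1

theorem free_rightInv :
    Module.Free (rightInv k A I) A ∧
      Module.finrank (rightInv k A I) A = Module.finrank k (A ⧸ I) := by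
  classical
  haveI := nontrivial_of_hopf k A
  set π : A →ₐc[k] A ⧸ I := Bialgebra.Quotient.mkBialgHom I with hπdef
  have hπ : Function.Surjective π := Ideal.Quotient.mk_surjective
  set Φ := quotCoact π with hΦ
  have hgen := gen_quotCoact π hπ
  set D := Φ.data hgen with hD
  obtain ⟨hfin, hproj, hbij⟩ := Φ.main hgen
  haveI := hfin
  haveI := hproj
  haveI := Φ.isIntegral hgen
  -- the two descriptions of the invariants agree
  have hmem : ∀ a : A, a ∈ D.inv ↔ a ∈ rightInv k A I := by
    intro a
    rw [AlgHom.mem_equalizer]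
    exact eq_comm
  let f : D.inv ≃+* rightInv k A I :=
    { toFun := fun c => ⟨c.1, (hmem c.1).1 c.2⟩
      invFun := fun c => ⟨c.1, (hmem c.1).2 c.2⟩
      left_inv := fun _ => rfl
      right_inv := fun _ => rfl
      map_mul' := fun _ _ => rfl
      map_add' := fun _ _ => rfl }
  -- the invariants form an artinian ring
  haveI : IsArtinianRing (rightInv k A I) := IsArtinianRing.of_finite k _
  haveI : IsArtinianRing D.inv := f.symm.surjective.isArtinianRing
  set n := Module.finrank k (A ⧸ I) with hn
  have rk : ∀ P : MaximalSpectrum D.inv,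
      Module.finrank (D.inv ⧸ P.1) ((D.inv ⧸ P.1) ⊗[D.inv] A) = n := by
    intro P
    haveI := P.isMaximal
    haveI : P.1.IsPrime := P.isMaximal.isPrime
    rw [Groth.Agent.Helper3.SemiFree.finrank_quotient_eq_rankAtStalk D.inv A P.1]
    obtain ⟨Q, -, hQ, hQP⟩ := Ideal.exists_ideal_over_prime_of_isIntegral P.1 (⊥ : Ideal A) (by
      intro c hc
      have h0 : (c : A) = 0 := hc
      have : c = 0 := Subtype.ext h0
      rw [this]
      exact P.1.zero_mem)
    have h1 := Φ.rankAtStalk_inv hgen ⟨Q, hQ⟩
    have h2 : (⟨Q, hQ⟩ : PrimeSpectrum A).comap (algebraMap D.inv A) =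
        ⟨P.1, P.isMaximal.isPrime⟩ := PrimeSpectrum.ext hQP
    rw [h2] at h1
    rw [h1, Module.rankAtStalk_eq_finrank_of_free]
    rfl
  obtain ⟨b⟩ := Module.nonempty_basis_of_flat_of_finrank_eq D.inv A n rk
  let b' : Module.Basis (Fin n) (rightInv k A I) A := b.mapCoeffs f fun c x => rfl
  refine ⟨Module.Free.of_basis b', ?_⟩
  rw [Module.finrank_eq_card_basis b', Fintype.card_fin]

end Field

end Groth.Agent.Helper7.CoQ
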