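import Mathlib
import Groth.Agent.Helper7.CoQ7
import Groth.Agent.Helper7.RkTower

set_option autoImplicit false
set_option linter.unusedSectionVars false
universe u v

namespace Groth.Agent.Helper7.CoQ

open TensorProduct Groth.Agent.Helper7.GQ

variable {K : Type u} [CommRing K] [IsNoetherianRing K] {A : Type v} [CommRing A] [Algebra K A]
  {H : Type v} [CommRing H] [HopfAlgebra K H]
  [Module.Finite K H] [Module.Projective K H] [Module.Finite K A] [Module.Projective K A]

/-- order of `G` = order of `G'` times the index, ring level -/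
theorem Coact.rank_formula (Φ : Coact K A H)
    (hgen : Submodule.span A (Set.range Φ.ρ) = ⊤) (E : Subalgebra K A)
    (hE : ∀ a : A, a ∈ E ↔ a ∈ (Φ.data hgen).inv) (q : PrimeSpectrum K) :
    Module.rankAtStalk A q = Module.rankAtStalk H q * Module.rankAtStalk E q := by
  classical
  set D := Φ.data hgen with hD
  obtain ⟨hfin, hproj, hbij⟩ := Φ.main hgen
  haveI := hfin
  haveI := hproj
  haveI := Φ.isIntegral hgen
  -- `K`-algebra structure on the invariants
  letI algC : Algebra K D.inv :=
    ((algebraMap K A).codRestrict D.inv fun r => (hE _).1 (E.algebraMap_mem r)).toAlgebra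
  haveI : IsScalarTower K D.inv A := IsScalarTower.of_algebraMap_eq fun r => rfl
  let e : E ≃ₗ[K] D.inv :=
    { toFun := fun c => ⟨c.1, (hE c.1).1 c.2⟩
      invFun := fun c => ⟨c.1, (hE c.1).2 c.2⟩
      left_inv := fun _ => rfl
      right_inv := fun _ => rfl
      map_add' := fun _ _ => rfl
      map_smul' := fun r c => by
        apply Subtype.ext
        simp [Algebra.smul_def]
        rfl }
  haveI : IsNoetherian K A := isNoetherian_of_isNoetherianRing_of_finite K A
  haveI : Module.Finite K E :=
    Module.Finite.equiv (Subalgebra.toSubmoduleEquiv E)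
  haveI : Module.Finite K D.inv := Module.Finite.equiv e
  -- the invariants are a direct summand
  obtain ⟨f, hf⟩ := RkTower.exists_retraction (C := D.inv) (A := A) Subtype.val_injective
  haveI : Module.Projective K D.inv := by
    refine Module.Projective.of_split ((Algebra.linearMap D.inv A).restrictScalars K)
      (f.restrictScalars K) ?_
    ext c
    have h1 : (Algebra.linearMap D.inv A) c = c • (1 : A) := by
      rw [Algebra.linearMap_apply, Algebra.algebraMap_eq_smul_one]
    simp only [LinearMap.coe_comp, LinearMap.coe_restrictScalars, Function.comp_apply,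
      LinearMap.id_coe, id_eq]
    rw [h1, map_smul, hf, smul_eq_mul, mul_one]
  -- the rank of `A` over the invariants
  set r := Module.rankAtStalk (R := K) H q with hr
  have hrk : ∀ P : PrimeSpectrum D.inv, P.comap (algebraMap K D.inv) = q →
      Module.rankAtStalk (R := D.inv) A P = r := by
    intro P hP
    obtain ⟨Q, -, hQ, hQP⟩ := Ideal.exists_ideal_over_prime_of_isIntegral P.asIdeal (⊥ : Ideal A) (by
      intro c hc
      have h0 : (c : A) = 0 := hc
      have : c = 0 := Subtype.ext h0
      rw [this]
      exact P.asIdeal.zero_mem)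
    have h1 := Φ.rankAtStalk_inv hgen ⟨Q, hQ⟩
    have h2 : (⟨Q, hQ⟩ : PrimeSpectrum A).comap (algebraMap D.inv A) = P := PrimeSpectrum.ext hQP
    rw [h2] at h1
    rw [h1, hr]
    congr 1
    rw [← hP, ← h2]
    apply PrimeSpectrum.ext
    ext x
    change algebraMap K A x ∈ Q ↔ algebraMap D.inv A (algebraMap K D.inv x) ∈ Q
    rw [← IsScalarTower.algebraMap_apply]
  rw [RkTower.rankAtStalk_tower (R := K) (S := D.inv) A q r hrk]
  congr 1
  exact (congrFun (Module.rankAtStalk_eq_of_equiv e) q).symm

end Groth.Agent.Helper7.CoQ
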