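import Mathlib

set_option autoImplicit false
universe u

namespace Groth.Agent.Helper7.CoeffAlt

theorem result (R : Type u) [CommRing R] (r : ℕ)
    (P : MvPolynomial (Fin r) R) (hP : P.totalDegree ≤ r) :
    MvPolynomial.coeff (∑ i : Fin r, Finsupp.single i 1) P =
      ∑ J : Finset (Fin r), (-1 : R) ^ J.card *
        MvPolynomial.eval (fun j => if j ∈ J then (-1 : R) else 0) P := by
  classical
  set one : Fin r →₀ ℕ := ∑ i : Fin r, Finsupp.single i 1 with hone
  have hone_apply : ∀ i, one i = 1 := by
    intro i; rw [hone, Finsupp.finset_sum_apply]; simp [Finsupp.single_apply]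
  have hbr : ∀ d : Fin r →₀ ℕ, d ∈ P.support →
      ∑ J : Finset (Fin r), (-1 : R) ^ J.card * ∏ i, (if i ∈ J then (-1 : R) else 0) ^ d i
        = if d = one then 1 else 0 := by
    intro d hd
    have h1 : ∀ J : Finset (Fin r),
        (-1 : R) ^ J.card * ∏ i, (if i ∈ J then (-1 : R) else 0) ^ d i
        = (∏ i ∈ J, (-1 : R) ^ (d i + 1)) * ∏ i ∈ Finset.univ \ J, (0 : R) ^ d i := by
      intro J
      rw [← Finset.prod_sdiff (Finset.subset_univ J)]
      have e1 : ∏ i ∈ Finset.univ \ J, (if i ∈ J then (-1 : R) else 0) ^ d i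
          = ∏ i ∈ Finset.univ \ J, (0 : R) ^ d i := by
        apply Finset.prod_congr rfl
        intro i hi
        rw [Finset.mem_sdiff] at hi
        rw [if_neg hi.2]
      have e2 : ∏ i ∈ J, (if i ∈ J then (-1 : R) else 0) ^ d i = ∏ i ∈ J, (-1 : R) ^ d i := by
        apply Finset.prod_congr rfl
        intro i hi
        rw [if_pos hi]
      have e3 : ∏ i ∈ J, (-1 : R) ^ (d i + 1) = (-1 : R) ^ J.card * ∏ i ∈ J, (-1 : R) ^ d i := by
        rw [← Finset.prod_const, ← Finset.prod_mul_distrib]
        apply Finset.prod_congr rfl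
        intro i _
        rw [pow_succ, mul_comm]
      rw [e1, e2, e3]; ring
    rw [Finset.sum_congr rfl (fun J _ => h1 J)]
    have h2 := Finset.prod_add (fun i => (-1 : R) ^ (d i + 1)) (fun i => (0 : R) ^ d i)
      (Finset.univ : Finset (Fin r))
    rw [Finset.powerset_univ] at h2
    rw [← h2]
    by_cases hd1 : d = one
    · rw [if_pos hd1]
      apply Finset.prod_eq_one
      intro i _
      rw [hd1, hone_apply]; norm_num
    · rw [if_neg hd1]
      -- some d i = 0
      have hex : ∃ i, d i = 0 := by
        by_contra hcon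
        push_neg at hcon
        apply hd1
        have hsum : ∑ i, d i ≤ r := by
          have := MvPolynomial.le_totalDegree hd
          rw [Finsupp.sum_fintype _ _ (fun _ => rfl)] at this
          exact this.trans hP
        have hge : ∀ i, 1 ≤ d i := fun i => Nat.one_le_iff_ne_zero.mpr (hcon i)
        have hsum1 : ∑ i : Fin r, (1 : ℕ) = r := by simp
        have heq : ∀ i ∈ (Finset.univ : Finset (Fin r)), (1 : ℕ) = d i := by
          have hle : ∑ i : Fin r, d i ≤ ∑ i : Fin r, (1 : ℕ) := by rw [hsum1]; exact hsum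
          exact (Finset.sum_eq_sum_iff_of_le (fun i _ => hge i)).mp
            (le_antisymm (Finset.sum_le_sum (fun i _ => hge i)) hle)
        ext i
        rw [hone_apply, ← heq i (Finset.mem_univ i)]
      obtain ⟨i, hi⟩ := hex
      apply Finset.prod_eq_zero (Finset.mem_univ i)
      rw [hi]; norm_num
  have hev : ∀ J : Finset (Fin r), MvPolynomial.eval (fun j => if j ∈ J then (-1 : R) else 0) P
      = ∑ d ∈ P.support, MvPolynomial.coeff d P * ∏ i, (if i ∈ J then (-1 : R) else 0) ^ d i := by
    intro J
    rw [MvPolynomial.eval_eq']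
  rw [Finset.sum_congr rfl (fun J _ => by rw [hev J, Finset.mul_sum])]
  rw [Finset.sum_comm]
  have h3 : ∀ d ∈ P.support, ∑ J : Finset (Fin r), (-1 : R) ^ J.card *
      (MvPolynomial.coeff d P * ∏ i, (if i ∈ J then (-1 : R) else 0) ^ d i)
      = MvPolynomial.coeff d P * (if d = one then 1 else 0) := by
    intro d hd
    rw [← hbr d hd, Finset.mul_sum]
    apply Finset.sum_congr rfl
    intro J _
    ring
  rw [Finset.sum_congr rfl h3]
  simp only [mul_ite, mul_one, mul_zero]
  rw [Finset.sum_ite_eq' P.support one]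
  split_ifs with h
  · rfl
  · exact MvPolynomial.notMem_support_iff.mp h

end Groth.Agent.Helper7.CoeffAlt
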