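import Mathlib
import Groth.Prelude.Def_Found
import Groth.Prelude.Def_CAlgX
import Groth.Agent.Helper7.PSEval
import Groth.Agent.Helper7.CohenD
import Groth.Agent.Helper7.CohenP1

set_option autoImplicit false
set_option linter.style.haveILetI false
set_option linter.unusedSectionVars false
universe u v w

namespace Groth.Agent.Helper7.Cohen

open MvPowerSeries IsLocalRing

theorem s9323 (Λ : Type) [CommRing Λ] [IsLocalRing Λ]
    (hΛ : CAlg.IsCohenRing Λ) (n : ℕ) :
    CAlgX.IsAdicFormallySmooth ℤ (MvPowerSeries (Fin n) Λ)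
      (IsLocalRing.maximalIdeal (MvPowerSeries (Fin n) Λ)) := by
  classical
  obtain ⟨hdom, hdvr, hcomp, p, hp, hmax⟩ := hΛ
  intro A _ _ J hJ ψ hψ
  obtain ⟨k, hk⟩ := hψ
  -- elements of the maximal ideal
  have hXmem : ∀ i, (X i : MvPowerSeries (Fin n) Λ) ∈ maximalIdeal (MvPowerSeries (Fin n) Λ) := by
    intro i
    rw [mem_maximalIdeal, mem_nonunits_iff, MvPowerSeries.isUnit_iff_constantCoeff,
      constantCoeff_X]
    exact not_isUnit_zero
  have hpΛ : (p : Λ) ∈ maximalIdeal Λ := hmax ▸ Ideal.subset_span rfl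
  have hpmem : ((p : ℕ) : MvPowerSeries (Fin n) Λ) ∈ maximalIdeal (MvPowerSeries (Fin n) Λ) := by
    rw [mem_maximalIdeal, mem_nonunits_iff, MvPowerSeries.isUnit_iff_constantCoeff, map_natCast]
    exact hpΛ
  -- nilpotency criterion
  have hnil : ∀ (s : MvPowerSeries (Fin n) Λ) (b : A),
      s ∈ maximalIdeal (MvPowerSeries (Fin n) Λ) → Ideal.Quotient.mk J b = ψ s → IsNilpotent b := by
    intro s b hs hb
    have h1 : ψ (s ^ k) = 0 := hk _ (Ideal.pow_mem_pow hs k)
    rw [map_pow, ← hb, ← map_pow, Ideal.Quotient.eq_zero_iff_mem] at h1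
    refine ⟨k * 2, ?_⟩
    have : (b ^ k) ^ 2 ∈ J ^ 2 := Ideal.pow_mem_pow h1 2
    rw [hJ] at this
    rw [pow_mul]; exact this
  have hpA : IsNilpotent ((p : ℕ) : A) := hnil _ _ hpmem (by rw [map_natCast, map_natCast])
  have hker : IsNilpotent (RingHom.ker (Ideal.Quotient.mk J)) := by
    rw [Ideal.mk_ker]; exact ⟨2, hJ⟩
  have hp0 : (p : Λ) ≠ 0 := by
    intro h0
    apply IsDiscreteValuationRing.not_a_field Λ
    rw [hmax, h0, Ideal.span_singleton_eq_bot]
  have hmaxI : (Ideal.span {(p : Λ)}).IsMaximal := hmax ▸ inferInstance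
  obtain ⟨χ₀, hχ₀⟩ := exists_lift_of_nilpotent Λ p hp hp0 hmaxI (Ideal.Quotient.mk J)
    Ideal.Quotient.mk_surjective hker hpA ((ψ : MvPowerSeries (Fin n) Λ →+* A ⧸ J).comp C)
  -- lifts of the variables
  choose a ha using fun i => Ideal.Quotient.mk_surjective (ψ (X i : MvPowerSeries (Fin n) Λ))
  have hanil : ∀ i, IsNilpotent (a i) := fun i => hnil _ _ (hXmem i) (ha i)
  obtain ⟨I, hI⟩ : ∃ I : Ideal A, I = Ideal.span (Set.range a) := ⟨_, rfl⟩
  have hInil : IsNilpotent I := by
    have hfg : I.FG := by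
      rw [hI]
      exact ⟨Finset.univ.image a, by simp⟩
    rw [Ideal.FG.isNilpotent_iff_le_nilradical hfg, hI, Ideal.span_le]
    rintro _ ⟨i, rfl⟩
    exact (mem_nilradical).mpr (hanil i)
  haveI : IsAdicComplete I A := isAdicComplete_of_isNilpotent I hInil
  letI : Algebra Λ A := χ₀.toAlgebra
  obtain ⟨χ, hχ⟩ := PSEval.exists_algHom_X (k := Λ) I a
    (fun i => hI ▸ Ideal.subset_span ⟨i, rfl⟩)
  obtain ⟨N₁, hN₁⟩ := hInil
  have hXle : Ideal.span (Set.range (X : Fin n → MvPowerSeries (Fin n) Λ)) ≤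
      maximalIdeal (MvPowerSeries (Fin n) Λ) := by
    rw [Ideal.span_le]
    rintro _ ⟨i, rfl⟩
    exact hXmem i
  have hχX : ∀ q ∈ Ideal.span (Set.range (X : Fin n → MvPowerSeries (Fin n) Λ)) ^ N₁,
      χ q = 0 := by
    intro q hq
    have h1 : Ideal.map χ.toRingHom
        (Ideal.span (Set.range (X : Fin n → MvPowerSeries (Fin n) Λ)) ^ N₁) ≤ I ^ N₁ := by
      rw [Ideal.map_pow]
      apply Ideal.pow_right_mono
      rw [Ideal.map_span, Ideal.span_le]
      rintro _ ⟨_, ⟨i, rfl⟩, rfl⟩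
      show χ (X i) ∈ I
      rw [hχ]
      exact hI ▸ Ideal.subset_span ⟨i, rfl⟩
    have := h1 (Ideal.mem_map_of_mem _ hq)
    rw [hN₁] at this
    exact this
  have hψX : ∀ q ∈ Ideal.span (Set.range (X : Fin n → MvPowerSeries (Fin n) Λ)) ^ k,
      ψ q = 0 := by
    intro q hq
    exact hk _ (Ideal.pow_right_mono hXle k hq)
  have key : ∀ f, Ideal.Quotient.mk J (χ f) = ψ f := by
    have hpoly : ((Ideal.Quotient.mk J).comp χ.toRingHom).comp
          (MvPolynomial.coeToMvPowerSeries.ringHom (σ := Fin n) (R := Λ)) =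
        (ψ : MvPowerSeries (Fin n) Λ →+* A ⧸ J).comp
          (MvPolynomial.coeToMvPowerSeries.ringHom (σ := Fin n) (R := Λ)) := by
      apply MvPolynomial.ringHom_ext
      · intro c
        have h1 := RingHom.congr_fun hχ₀ c
        simp only [RingHom.comp_apply] at h1
        simp only [RingHom.comp_apply, MvPolynomial.coeToMvPowerSeries.ringHom_apply,
          MvPolynomial.coe_C]
        have h2 : χ (C c) = χ₀ c := by
          have : (C c : MvPowerSeries (Fin n) Λ) = algebraMap Λ _ c := rfl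
          rw [this, χ.commutes]
          rfl
        show Ideal.Quotient.mk J (χ (C c)) = ψ (C c)
        rw [h2]
        exact h1
      · intro i
        simp only [RingHom.comp_apply, MvPolynomial.coeToMvPowerSeries.ringHom_apply,
          MvPolynomial.coe_X]
        show Ideal.Quotient.mk J (χ (X i)) = ψ (X i)
        rw [hχ, ha]
    intro f
    have hr : f - ↑(truncTotal (N₁ + k) f) ∈
        Ideal.span (Set.range (X : Fin n → MvPowerSeries (Fin n) Λ)) ^ (N₁ + k) := by
      apply mem_span_X_pow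
      intro e he
      rw [map_sub, MvPolynomial.coeff_coe, coeff_truncTotal _ he, sub_self]
    have h1 : χ (f - ↑(truncTotal (N₁ + k) f)) = 0 :=
      hχX _ (Ideal.pow_le_pow_right (Nat.le_add_right _ _) hr)
    have h2 : ψ (f - ↑(truncTotal (N₁ + k) f)) = 0 :=
      hψX _ (Ideal.pow_le_pow_right (Nat.le_add_left _ _) hr)
    have h3 := RingHom.congr_fun hpoly (truncTotal (N₁ + k) f)
    simp only [RingHom.comp_apply, MvPolynomial.coeToMvPowerSeries.ringHom_apply] at h3
    rw [map_sub, sub_eq_zero] at h1 h2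
    rw [h1, h2]
    exact h3
  refine ⟨{ χ.toRingHom with commutes' := fun z => ?_ }, ?_⟩
  · simp
  · ext f
    exact key f

end Groth.Agent.Helper7.Cohen
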