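import Mathlib
import Groth.Agent.Helper2.PSReg
import Groth.Agent.Helper7.CohenJ
import Groth.Agent.Helper7.CohenSurj
import Groth.Agent.Helper7.CohenM
import Groth.Agent.Helper7.PSEval
import Groth.Agent.Helper7.CohenP1

set_option autoImplicit false
set_option linter.style.haveILetI false
set_option linter.unusedSectionVars false
universe u v w

namespace Groth.Agent.Helper7.Cohen

open MvPowerSeries IsLocalRing

section
variable {A : Type u} [CommRing A] [IsLocalRing A] [IsArtinianRing A]

/-- the kernel of a surjection from a local ring onto a local ring with `𝔪² = 0` contains the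
square of the maximal ideal -/
theorem sq_le_ker_of_surjective {B : Type*} [CommRing B] [IsLocalRing B]
    (h : maximalIdeal A ^ 2 = ⊥) (ψ : B →+* A) (hψ : Function.Surjective ψ) :
    maximalIdeal B ^ 2 ≤ RingHom.ker ψ := by
  have h1 : (maximalIdeal B ^ 2).map ψ = ⊥ := by
    rw [Ideal.map_pow, IsLocalRing.map_maximalIdeal_of_surjective ψ hψ, h]
  intro x hx
  have := Ideal.mem_map_of_mem ψ hx
  rw [h1] at this
  exact this

/-- equal-characteristic case -/
theorem s2458_field (h : maximalIdeal A ^ 2 = ⊥) {K : Type u} [Field K] [Algebra K A]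
    (hK : Function.Bijective (algebraMap K (ResidueField A))) :
    ∃ (B : Type u) (_ : CommRing B) (_ : IsRegularLocalRing B),
      Nonempty (A ≃+* B ⧸ maximalIdeal B ^ 2) := by
  obtain ⟨n, ψ, hsurj, hker⟩ := CohenSurj.exists_surj (K := K) (A := A) hK
  refine ⟨MvPowerSeries (Fin n) K, inferInstance, Helper5.MvPSDim.isRegular K n, ⟨?_⟩⟩
  have hker' : RingHom.ker ψ.toRingHom = maximalIdeal (MvPowerSeries (Fin n) K) ^ 2 :=
    le_antisymm hker (sq_le_ker_of_surjective h ψ.toRingHom hsurj)
  exact (RingHom.quotientKerEquivOfSurjective (f := ψ.toRingHom) hsurj).symm.trans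
    (Ideal.quotEquivOfEq hker')

end

/-- coefficients of a relation among a minimal generating family of the maximal ideal are
non-units -/
theorem coeff_mem_of_relation {A : Type*} [CommRing A] [IsLocalRing A]
    {ι : Type*} [Fintype ι] (y : ι → A) (hy : Ideal.span (Set.range y) = maximalIdeal A)
    (hcard : Fintype.card ι ≤ (maximalIdeal A).spanFinrank) (r : ι → A)
    (hr : ∑ i, r i * y i = 0) : ∀ i, r i ∈ maximalIdeal A := by
  classical
  intro j
  by_contra hj
  have hu : IsUnit (r j) := by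
    by_contra hnu
    exact hj ((mem_maximalIdeal _).mpr hnu)
  obtain ⟨u, hu⟩ := hu.exists_left_inv
  have hyj : y j ∈ Ideal.span (y '' {i | i ≠ j}) := by
    have h1 := Finset.add_sum_erase Finset.univ (fun i => r i * y i) (Finset.mem_univ j)
    rw [hr] at h1
    have h2 : y j = -(u * ∑ i ∈ Finset.univ.erase j, r i * y i) := by
      have : y j = u * (r j * y j) := by rw [← mul_assoc, hu, one_mul]
      rw [this, eq_neg_of_add_eq_zero_left h1, mul_neg]
    rw [h2]
    refine neg_mem (Ideal.mul_mem_left _ _ (Ideal.sum_mem _ fun i hi => ?_))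
    exact Ideal.mul_mem_left _ _ (Ideal.subset_span ⟨i, Finset.ne_of_mem_erase hi, rfl⟩)
  have hspan : Ideal.span (y '' {i | i ≠ j}) = maximalIdeal A := by
    apply le_antisymm
    · rw [← hy]; exact Ideal.span_mono (Set.image_subset_range _ _)
    · rw [← hy, Ideal.span_le]
      rintro _ ⟨i, rfl⟩
      by_cases hij : i = j
      · subst hij; exact hyj
      · exact Ideal.subset_span ⟨i, hij, rfl⟩
  have h1 : (maximalIdeal A).spanFinrank ≤ (y '' {i | i ≠ j}).ncard := by
    have := Submodule.spanFinrank_span_le_ncard_of_finite (R := A) (s := y '' {i | i ≠ j})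
      (Set.toFinite _)
    rwa [show Submodule.span A (y '' {i | i ≠ j}) = maximalIdeal A from hspan] at this
  have h2 : (y '' {i | i ≠ j}).ncard ≤ ({i | i ≠ j} : Set ι).ncard :=
    Set.ncard_image_le (Set.toFinite _)
  have h3 : ({i | i ≠ j} : Set ι).ncard < Fintype.card ι := by
    have : ({i | i ≠ j} : Set ι) ⊂ Set.univ := by
      rw [Set.ssubset_univ_iff]
      intro h
      have : j ∈ ({i | i ≠ j} : Set ι) := h ▸ Set.mem_univ j
      exact this rfl
    have := Set.ncard_lt_ncard this (Set.toFinite _)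
    rwa [Set.ncard_univ, Nat.card_eq_fintype_card] at this
  omega

/-- exchange: a nonzero element of the maximal ideal (with `𝔪² = 0`) is part of a minimal
generating family -/
theorem exists_family_of_ne_zero {A : Type*} [CommRing A] [IsLocalRing A]
    (h : maximalIdeal A ^ 2 = ⊥) (p : A) (hpm : p ∈ maximalIdeal A) (hp0 : p ≠ 0) :
    ∀ (d : ℕ) (x : Fin d → A), Ideal.span (Set.range x) = maximalIdeal A →
      ∃ (d' : ℕ) (y : Fin (d' + 1) → A), d' + 1 = d ∧ y 0 = p ∧
        Ideal.span (Set.range y) = maximalIdeal A := by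
  classical
  intro d x hx
  have hp' : p ∈ Ideal.span (Set.range x) := hx ▸ hpm
  obtain ⟨r, hr⟩ := Ideal.mem_span_range_iff_exists_fun.mp hp'
  have hex : ∃ j, r j ∉ maximalIdeal A := by
    by_contra hcon
    push Not at hcon
    apply hp0
    rw [← hr]
    refine Finset.sum_eq_zero fun i _ => ?_
    have : r i * x i ∈ maximalIdeal A ^ 2 := by
      rw [pow_two]
      exact Ideal.mul_mem_mul (hcon i) (hx ▸ Ideal.subset_span ⟨i, rfl⟩)
    rw [h] at this
    exact this
  obtain ⟨j, hj⟩ := hex
  cases d with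
  | zero => exact j.elim0
  | succ d' =>
    refine ⟨d', Fin.cons p (x ∘ j.succAbove), rfl, by simp, ?_⟩
    have hu : IsUnit (r j) := by
      by_contra hnu
      exact hj ((mem_maximalIdeal _).mpr hnu)
    obtain ⟨u, hu⟩ := hu.exists_left_inv
    rw [Fin.range_cons]
    apply le_antisymm
    · rw [Ideal.span_le]
      rintro z (rfl | ⟨i, rfl⟩)
      · exact hpm
      · exact hx ▸ Ideal.subset_span ⟨_, rfl⟩
    · rw [← hx, Ideal.span_le]
      rintro _ ⟨i, rfl⟩
      rcases Fin.eq_self_or_eq_succAbove j i with rfl | ⟨i', rfl⟩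
      · rw [Fin.sum_univ_succAbove _ i] at hr
        have h2 : x i = u * (p - ∑ i', r (i.succAbove i') * x (i.succAbove i')) := by
          rw [← hr, add_sub_cancel_right, ← mul_assoc, hu, one_mul]
        rw [h2]
        refine Ideal.mul_mem_left _ _ (sub_mem (Ideal.subset_span (Set.mem_insert _ _))
          (Ideal.sum_mem _ fun i' _ => Ideal.mul_mem_left _ _ ?_))
        exact Ideal.subset_span (Set.mem_insert_of_mem _ ⟨i', rfl⟩)
      · exact Ideal.subset_span (Set.mem_insert_of_mem _ ⟨i', rfl⟩)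

/-- mixed-characteristic case -/
theorem s2458_mixed {A : Type u} [CommRing A] [IsLocalRing A] [IsArtinianRing A]
    (h : maximalIdeal A ^ 2 = ⊥)
    {Λ : Type u} [CommRing Λ] [IsDomain Λ] [IsDiscreteValuationRing Λ]
    (q : ℕ) (hmax : maximalIdeal Λ = Ideal.span {(q : Λ)})
    (v : Λ →+* A) (hv : Function.Surjective ((Ideal.Quotient.mk (maximalIdeal A)).comp v))
    (hqm : (q : A) ∈ maximalIdeal A) (hq0 : (q : A) ≠ 0) :
    ∃ (B : Type u) (_ : CommRing B) (_ : IsRegularLocalRing B),
      Nonempty (A ≃+* B ⧸ maximalIdeal B ^ 2) := by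
  classical
  have hfg : (maximalIdeal A).FG := (maximalIdeal A).fg_of_isNoetherianRing
  obtain ⟨s, hscard, hsspan⟩ := Submodule.FG.exists_span_finset_card_eq_spanFinrank hfg
  obtain ⟨x, hx⟩ : ∃ x : Fin s.card → A, Set.range x = (s : Set A) := by
    refine ⟨fun i => (s.equivFin.symm i : A), ?_⟩
    ext a
    constructor
    · rintro ⟨i, rfl⟩; exact (s.equivFin.symm i).2
    · intro ha; exact ⟨s.equivFin ⟨a, ha⟩, by simp⟩
  have hxspan : Ideal.span (Set.range x) = maximalIdeal A := by rw [hx]; exact hsspan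
  obtain ⟨d', y, hd', hy0, hyspan⟩ :=
    exists_family_of_ne_zero h (q : A) hqm hq0 s.card x hxspan
  have hcard : Fintype.card (Fin (d' + 1)) ≤ (maximalIdeal A).spanFinrank := by
    rw [Fintype.card_fin, hd', hscard]
  have hrel := coeff_mem_of_relation y hyspan hcard
  -- the power series ring
  haveI : IsRegularRing (MvPowerSeries (Fin d') Λ) := Helper2.PSReg.isRegularRing_mvPowerSeries Λ d'
  have hreg : IsRegularLocalRing (MvPowerSeries (Fin d') Λ) :=
    IsRegularLocalRing.of_isRegularRing_of_isLocalRing _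
  refine ⟨MvPowerSeries (Fin d') Λ, inferInstance, hreg, ?_⟩
  have hnil : IsNilpotent (maximalIdeal A) := ⟨2, h⟩
  haveI : IsAdicComplete (maximalIdeal A) A := isAdicComplete_of_isNilpotent _ hnil
  letI : Algebra Λ A := v.toAlgebra
  have hym : ∀ i, y i ∈ maximalIdeal A := fun i => hyspan ▸ Ideal.subset_span ⟨i, rfl⟩
  obtain ⟨ψ, hψ⟩ := PSEval.exists_algHom_X (k := Λ) (maximalIdeal A) (fun i : Fin d' => y i.succ)
    (fun i => hym _)
  have hψC : ∀ c : Λ, ψ (C c) = v c := by
    intro c
    have : (C c : MvPowerSeries (Fin d') Λ) = algebraMap Λ _ c := rfl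
    rw [this, ψ.commutes]
    rfl
  have hψq : ψ ((q : ℕ) : MvPowerSeries (Fin d') Λ) = (q : A) := map_natCast ψ q
  have hsq : ∀ a b : A, a ∈ maximalIdeal A → b ∈ maximalIdeal A → a * b = 0 := by
    intro a b ha hb
    have : a * b ∈ maximalIdeal A ^ 2 := by rw [pow_two]; exact Ideal.mul_mem_mul ha hb
    rw [h] at this
    exact this
  have hres : ∀ z : A, ∃ c : Λ, z - v c ∈ maximalIdeal A := by
    intro z
    obtain ⟨c, hc⟩ := hv (Ideal.Quotient.mk _ z)
    refine ⟨c, ?_⟩
    rw [← Ideal.Quotient.eq]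
    exact hc.symm
  -- surjectivity
  have hsurj : Function.Surjective ψ := by
    have hm : ∀ z ∈ maximalIdeal A, ∃ b, ψ b = z := by
      intro z hz
      rw [← hyspan] at hz
      obtain ⟨c, hc⟩ := Ideal.mem_span_range_iff_exists_fun.mp hz
      choose l hl using fun i => hres (c i)
      refine ⟨C (l 0) * ((q : ℕ) : MvPowerSeries (Fin d') Λ) + ∑ i : Fin d', C (l i.succ) * X i, ?_⟩
      have hterm : ∀ i, c i * y i = v (l i) * y i := by
        intro i
        have := hsq _ _ (hl i) (hym i)
        rw [sub_mul, sub_eq_zero] at this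
        exact this
      rw [map_add, map_mul, hψC, hψq, map_sum, ← hc, Fin.sum_univ_succ, hterm 0, hy0]
      congr 1
      refine Finset.sum_congr rfl fun i _ => ?_
      rw [map_mul, hψC, hψ, hterm]
    intro z
    obtain ⟨c, hc⟩ := hres z
    obtain ⟨b, hb⟩ := hm _ hc
    refine ⟨C c + b, ?_⟩
    rw [map_add, hψC, hb]
    ring
  -- kernel
  have hunit : ∀ b : MvPowerSeries (Fin d') Λ, ψ b ∈ maximalIdeal A →
      b ∈ maximalIdeal (MvPowerSeries (Fin d') Λ) := by
    intro b hb
    rw [mem_maximalIdeal, mem_nonunits_iff]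
    intro hbu
    exact hb (hbu.map ψ)
  have hker : RingHom.ker ψ.toRingHom = maximalIdeal (MvPowerSeries (Fin d') Λ) ^ 2 := by
    apply le_antisymm
    · intro f hf
      have hf0 : ψ f = 0 := hf
      have hfm : f ∈ maximalIdeal (MvPowerSeries (Fin d') Λ) := hunit f (by rw [hf0]; exact zero_mem _)
      rw [maximalIdeal_mvPowerSeries (q : Λ) hmax d', Ideal.mem_span_insert] at hfm
      obtain ⟨b₀, g, hg, rfl⟩ := hfm
      obtain ⟨b, rfl⟩ := Ideal.mem_span_range_iff_exists_fun.mp hg
      have hrel' := hrel (Fin.cons (ψ b₀) (fun i => ψ (b i))) (by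
        rw [Fin.sum_univ_succ]
        simp only [Fin.cons_zero, Fin.cons_succ]
        rw [hy0]
        rw [map_add, map_mul, map_sum, map_natCast C, hψq] at hf0
        rw [← hf0]
        congr 1
        refine Finset.sum_congr rfl fun i _ => ?_
        rw [map_mul, hψ])
      have hb₀ : b₀ ∈ maximalIdeal (MvPowerSeries (Fin d') Λ) := hunit _ (by simpa using hrel' 0)
      have hb : ∀ i, b i ∈ maximalIdeal (MvPowerSeries (Fin d') Λ) :=
        fun i => hunit _ (by simpa using hrel' i.succ)
      have hXm : ∀ i, (X i : MvPowerSeries (Fin d') Λ) ∈ maximalIdeal (MvPowerSeries (Fin d') Λ) := by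
        intro i
        rw [maximalIdeal_mvPowerSeries (q : Λ) hmax d']
        exact Ideal.subset_span (Set.mem_insert_of_mem _ ⟨i, rfl⟩)
      have hCm : (C (q : Λ) : MvPowerSeries (Fin d') Λ) ∈ maximalIdeal (MvPowerSeries (Fin d') Λ) := by
        rw [maximalIdeal_mvPowerSeries (q : Λ) hmax d']
        exact Ideal.subset_span (Set.mem_insert _ _)
      rw [pow_two]
      refine add_mem (Ideal.mul_mem_mul hb₀ hCm) (Ideal.sum_mem _ fun i _ => ?_)
      exact Ideal.mul_mem_mul (hb i) (hXm i)
    · exact sq_le_ker_of_surjective h ψ.toRingHom hsurj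
  exact ⟨(RingHom.quotientKerEquivOfSurjective (f := ψ.toRingHom) hsurj).symm.trans
    (Ideal.quotEquivOfEq hker)⟩

theorem s2458 {A : Type u} [CommRing A] [IsLocalRing A] [IsArtinianRing A]
    (h : maximalIdeal A ^ 2 = ⊥) :
    ∃ (B : Type u) (_ : CommRing B) (_ : IsRegularLocalRing B),
      Nonempty (A ≃+* B ⧸ IsLocalRing.maximalIdeal B ^ 2) := by
  classical
  obtain ⟨q, hqc⟩ : ∃ q, CharP (ResidueField A) q := ⟨ringChar _, ringChar.charP _⟩
  obtain ⟨Λ, _, v, hΛ, hv⟩ := exists_coeffRing' A q
  rcases hΛ with ⟨hF, -, -⟩ | ⟨_, _, -, hqp, hmax⟩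
  · letI : Field Λ := hF.toField
    letI : Algebra Λ A := v.toAlgebra
    refine s2458_field (K := Λ) h ⟨RingHom.injective _, ?_⟩
    exact hv
  · have hqm : (q : A) ∈ maximalIdeal A := by
      rw [← Ideal.Quotient.eq_zero_iff_mem, map_natCast]
      exact CharP.cast_eq_zero (ResidueField A) q
    by_cases hq0 : (q : A) = 0
    · -- equal characteristic
      have hvker : ∀ a ∈ maximalIdeal Λ, v a = 0 := by
        intro a ha
        rw [hmax, Ideal.mem_span_singleton'] at ha
        obtain ⟨c, rfl⟩ := ha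
        rw [map_mul, map_natCast, hq0, mul_zero]
      letI : Algebra (ResidueField Λ) A := (Ideal.Quotient.lift (maximalIdeal Λ) v hvker).toAlgebra
      refine s2458_field (K := ResidueField Λ) h ⟨RingHom.injective _, ?_⟩
      intro z
      obtain ⟨c, hc⟩ := hv z
      exact ⟨residue Λ c, hc⟩
    · exact s2458_mixed h q hmax v hv hqm hq0

end Groth.Agent.Helper7.Cohen
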