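import Mathlib
import Groth.Prelude.Def_EGA41
import Groth.Agent.Helper1.FieldSmooth6
import Groth.Agent.Helper7.CohenF
import Groth.Agent.Helper7.CohenE
import Groth.Agent.Helper7.CohenP1

set_option autoImplicit false
set_option linter.style.haveILetI false
set_option linter.unusedSectionVars false
universe u v w

namespace Groth.Agent.Helper7.Cohen

open IsLocalRing

/-- the prime local ring `ℤ_(p)` (`ℚ` for `p = 0`) -/
abbrev ZP (p : ℕ) [(Ideal.span {(p : ℤ)}).IsPrime] : Type :=
  Localization.AtPrime (Ideal.span {(p : ℤ)})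

section
variable (p : ℕ) [hp : (Ideal.span {(p : ℤ)}).IsPrime]

theorem maximalIdeal_zp : maximalIdeal (ZP p) = Ideal.span {(p : ZP p)} := by
  rw [← Localization.AtPrime.map_eq_maximalIdeal, Ideal.map_span, Set.image_singleton]
  congr 2
  rw [eq_intCast, Int.cast_natCast]

theorem natCast_zp_ne_zero (hp0 : p ≠ 0) : (p : ZP p) ≠ 0 := by
  have hinj : Function.Injective (algebraMap ℤ (ZP p)) :=
    IsLocalization.injective (ZP p) (Ideal.primeCompl_le_nonZeroDivisors (Ideal.span {(p : ℤ)}))
  intro h
  have h1 : algebraMap ℤ (ZP p) (p : ℤ) = 0 := by rw [eq_intCast, Int.cast_natCast]; exact h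
  have := hinj (h1.trans (map_zero _).symm)
  exact hp0 (by exact_mod_cast this)

include hp in
theorem prime_of_ne_zero (hp0 : p ≠ 0) : p.Prime := by
  rw [Nat.prime_iff_prime_int, ← Ideal.span_singleton_prime (by exact_mod_cast hp0)]
  exact hp

variable {A : Type} [CommRing A] [IsLocalRing A] [CharP (ResidueField A) p]
    [Algebra (ZP p) A] [IsLocalHom (algebraMap (ZP p) A)]

theorem map_maximalIdeal_zp : (maximalIdeal (ZP p)).map (algebraMap (ZP p) A) = Ideal.span {(p : A)} := by
  rw [maximalIdeal_zp, Ideal.map_span, Set.image_singleton, map_natCast]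

theorem s4539_mp (h : EGA41.IsCohenAlgebra (ZP p) A) : EGA41.IsCohenRingEGA A := by
  obtain ⟨-, hA, hc, hflat, hm, -⟩ := h
  have hmA : maximalIdeal A = Ideal.span {(p : A)} := by rw [← hm, map_maximalIdeal_zp]
  by_cases hp0 : p = 0
  · left
    have hbot : maximalIdeal A = ⊥ := by
      rw [hmA, hp0, Nat.cast_zero]
      exact Ideal.span_singleton_eq_bot.mpr rfl
    refine ⟨isField_iff_maximalIdeal_eq.mpr hbot, ?_⟩
    haveI : CharP (ResidueField A) 0 := hp0 ▸ (inferInstance : CharP (ResidueField A) p)
    haveI : CharZero (ResidueField A) := CharP.charP_to_charZero _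
    exact RingHom.charZero (residue A)
  · right
    have hpp : p.Prime := prime_of_ne_zero p hp0
    haveI := hc
    haveI := hflat
    have hreg : IsSMulRegular A (p : ZP p) :=
      Module.Flat.isSMulRegular_of_nonZeroDivisors
        (mem_nonZeroDivisors_of_ne_zero (natCast_zp_ne_zero p hp0))
    have hτ : ∀ n : ℕ, (p : A) ^ n ≠ 0 := by
      intro n
      induction n with
      | zero => simp
      | succ n ih =>
        intro h0
        apply ih
        apply hreg
        change (p : ZP p) • (p : A) ^ n = (p : ZP p) • (0 : A)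
        rw [smul_zero, Algebra.smul_def, map_natCast, ← pow_succ']
        exact h0
    haveI : IsDomain A := isDomain_of_principal (p : A) hmA hτ
    have hdvr : IsDiscreteValuationRing A :=
      isDiscreteValuationRing_of_principal (p : A) hmA (by simpa using hτ 1)
    exact ⟨inferInstance, hdvr, hc, p, hpp, hmA⟩

include A in
theorem perfectField_residueField_zp : PerfectField (ResidueField (ZP p)) := by
  by_cases hp0 : p = 0
  · haveI : CharP (ResidueField A) 0 := hp0 ▸ (inferInstance : CharP (ResidueField A) p)
    haveI : CharZero (ResidueField A) := CharP.charP_to_charZero _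
    haveI : CharZero (ResidueField (ZP p)) :=
      RingHom.charZero (ResidueField.map (algebraMap (ZP p) A))
    infer_instance
  · have hbot : Ideal.span {(p : ℤ)} ≠ ⊥ := by
      rw [Ne, Ideal.span_singleton_eq_bot]
      exact_mod_cast hp0
    haveI : (Ideal.span {(p : ℤ)}).IsMaximal := Ideal.IsPrime.isMaximal hp hbot
    haveI : NeZero p := ⟨hp0⟩
    haveI : Finite (ℤ ⧸ Ideal.span {(p : ℤ)}) :=
      Finite.of_equiv _ (Int.quotientSpanNatEquivZMod p).symm.toEquiv
    haveI : Finite (ResidueField (ZP p)) :=
      Finite.of_equiv _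
        (IsLocalization.AtPrime.equivQuotMaximalIdeal (Ideal.span {(p : ℤ)}) (ZP p)).toEquiv
    infer_instance

theorem s4539_mpr (h : EGA41.IsCohenRingEGA A) : EGA41.IsCohenAlgebra (ZP p) A := by
  have key : IsDomain A ∧ IsNoetherianRing A ∧ IsAdicComplete (maximalIdeal A) A ∧
      maximalIdeal A = Ideal.span {(p : A)} ∧ CharZero A := by
    rcases h with ⟨hF, hchar⟩ | ⟨hdom, hdvr, hcompl, p', hp', hmax⟩
    · have hbot : maximalIdeal A = ⊥ := isField_iff_maximalIdeal_eq.mp hF
      haveI : CharZero (ResidueField A) :=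
        charZero_of_injective_ringHom (residue_bijective_of_isField hF).1
      have hp0 : p = 0 := CharP.eq (ResidueField A) inferInstance (CharP.ofCharZero _)
      have hN : IsNoetherianRing A := by
        letI := hF.toField
        infer_instance
      refine ⟨hF.isDomain, hN, ?_, ?_, hchar⟩
      · exact isAdicComplete_of_isNilpotent _ ⟨1, by rw [pow_one, hbot]; rfl⟩
      · rw [hbot, hp0, Nat.cast_zero]
        exact (Ideal.span_singleton_eq_bot.mpr rfl).symm
    · have t0 : CharP (ResidueField A) p := inferInstance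
      haveI := hdom
      haveI := hdvr
      have hpp : p' = p :=
        CharP.eq (ResidueField A) (charP_residueField_of_cohen p' hp' hmax) t0
      rw [hpp] at hmax hp'
      refine ⟨hdom, inferInstance, hcompl, hmax, ?_⟩
      obtain ⟨q, hq⟩ := CharP.exists A
      rcases CharP.char_is_prime_or_zero A q with hqp | hq0
      · exfalso
        have h1 : ((q : ℕ) : A) = 0 := CharP.cast_eq_zero A q
        have h2 : ((q : ℕ) : ResidueField A) = 0 := by
          rw [← map_natCast (residue A), h1, map_zero]
        have h3 : p ∣ q := (CharP.cast_eq_zero_iff (ResidueField A) p q).mp h2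
        have h4 : p = q := (Nat.prime_dvd_prime_iff_eq hp' hqp).mp h3
        exact ne_zero_of_cohen p hmax (h4 ▸ h1)
      · subst hq0
        exact CharP.charP_to_charZero A
  obtain ⟨hdom, hnoeth, hcompl, hmA, hchar⟩ := key
  have hinj : Function.Injective (algebraMap (ZP p) A) := by
    rw [RingHom.injective_iff_ker_eq_bot]
    have h1 := IsLocalization.map_under (Ideal.span {(p : ℤ)}).primeCompl (ZP p)
      (RingHom.ker (algebraMap (ZP p) A))
    have h2 : Ideal.under ℤ (RingHom.ker (algebraMap (ZP p) A)) = ⊥ := by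
      rw [eq_bot_iff]
      intro n hn
      have h3 : algebraMap (ZP p) A (algebraMap ℤ (ZP p) n) = 0 := hn
      rw [eq_intCast, map_intCast] at h3
      have : n = 0 := by exact_mod_cast h3
      rw [this]
      exact zero_mem _
    rw [h2, Ideal.map_bot] at h1
    exact h1.symm
  haveI : Module.IsTorsionFree (ZP p) A := by
    refine ⟨fun a ha b₁ b₂ h => ?_⟩
    have ha0 : a ≠ 0 := ha.ne_zero
    change a • b₁ = a • b₂ at h
    rw [Algebra.smul_def, Algebra.smul_def] at h
    have h2 : algebraMap (ZP p) A a ≠ 0 := fun h0 => ha0 (hinj (by rw [map_zero]; exact h0))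
    exact mul_left_cancel₀ h2 h
  haveI : PerfectField (ResidueField (ZP p)) := perfectField_residueField_zp p (A := A)
  refine ⟨inferInstance, hnoeth, hcompl, inferInstance, ?_, ?_⟩
  · rw [map_maximalIdeal_zp, hmA]
  · exact Groth.Agent.Helper1.FieldSmooth.isGeometricallyReduced_of_perfectField

theorem s4539 : EGA41.IsCohenAlgebra (ZP p) A ↔ EGA41.IsCohenRingEGA A :=
  ⟨s4539_mp p, s4539_mpr p⟩

end

end Groth.Agent.Helper7.Cohen
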