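import Mathlib
import Groth.Agent.Helper7.CohenSurj
import Groth.Agent.Helper7.CohenK2

set_option linter.style.haveILetI false
set_option linter.unusedSectionVars false

namespace Groth.Agent.Helper7.CohenTFAE

open IsLocalRing

universe u

/-- A copy of the residue field, used as a coefficient field. -/
def CF (A : Type u) [CommRing A] [IsLocalRing A] : Type u := ResidueField A

noncomputable instance (A : Type u) [CommRing A] [IsLocalRing A] : Field (CF A) :=
  inferInstanceAs (Field (ResidueField A))

section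
variable (A : Type u) [CommRing A] [IsLocalRing A] [IsNoetherianRing A]
  [IsAdicComplete (maximalIdeal A) A]

theorem surj_of_field (K₀ : Type u) [Field K₀] (f₀ : K₀ →+* A) :
    ∃ (K : Type u) (_ : Field K) (n : ℕ) (f : MvPowerSeries (Fin n) K →+* A),
      Function.Surjective f ∧ RingHom.ker f ≤ maximalIdeal (MvPowerSeries (Fin n) K) ^ 2 := by
  letI : Algebra K₀ A := f₀.toAlgebra
  obtain ⟨s, hs⟩ := Groth.Agent.Helper7.CohenK.exists_coeffField A K₀
  let s' : CF A →+* A := s
  letI : Algebra (CF A) A := s'.toAlgebra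
  have hK : Function.Bijective (algebraMap (CF A) (ResidueField A)) := by
    have key : ∀ c : CF A, algebraMap (CF A) (ResidueField A) c = c := by
      intro c
      have h1 : algebraMap (CF A) (ResidueField A) c = residue A (s c) := rfl
      rw [h1]
      exact congr($hs c)
    constructor
    · intro a b hab
      rwa [key, key] at hab
    · intro b
      exact ⟨b, key b⟩
  obtain ⟨n, ψ, hsurj, hker⟩ := Groth.Agent.Helper7.CohenSurj.exists_surj (K := CF A) (A := A) hK
  exact ⟨CF A, inferInstance, n, ψ.toRingHom, hsurj, hker⟩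

theorem isUnit_intCast [CharZero (ResidueField A)] (y : ℤ) (hy : y ≠ 0) : IsUnit (y : A) := by
  by_contra h
  have h1 : (y : A) ∈ maximalIdeal A := h
  have h2 : residue A (y : A) = 0 := (residue_eq_zero_iff _).mpr h1
  rw [map_intCast] at h2
  exact hy (by exact_mod_cast h2)

theorem field_of_char (p : ℕ) [CharP (ResidueField A) p] (hp : (p : A) = 0) :
    ∃ (K : Type u) (_ : Field K), Nonempty (K →+* A) := by
  rcases CharP.char_is_prime_or_zero (ResidueField A) p with hpp | hp0
  · haveI : Fact p.Prime := ⟨hpp⟩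
    haveI : CharP A p := (CharP.charP_iff_prime_eq_zero hpp).mpr hp
    exact ⟨ULift.{u} (ZMod p), inferInstance,
      ⟨(ZMod.castHom (dvd_refl p) A).comp (ULift.ringEquiv (R := ZMod p)).toRingHom⟩⟩
  · subst hp0
    haveI : CharZero (ResidueField A) := CharP.charP_to_charZero _
    have hu : ∀ y : nonZeroDivisors ℤ, IsUnit (Int.castRingHom A y) := by
      intro y
      exact isUnit_intCast A y (nonZeroDivisors.ne_zero y.2)
    let g : ℚ →+* A := IsLocalization.lift (M := nonZeroDivisors ℤ) (S := ℚ) hu
    exact ⟨ULift.{u} ℚ, inferInstance, ⟨g.comp (ULift.ringEquiv (R := ℚ)).toRingHom⟩⟩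

theorem s4511 (p : ℕ) [CharP (ResidueField A) p] :
    [∃ (K : Type u) (_ : Field K), Nonempty (K →+* A),
     (p : A) = 0,
     ∃ (K : Type u) (_ : Field K) (n : ℕ) (f : MvPowerSeries (Fin n) K →+* A),
       Function.Surjective f].TFAE ∧
    ((p : A) = 0 → ∃ (K : Type u) (_ : Field K) (n : ℕ) (f : MvPowerSeries (Fin n) K →+* A),
      Function.Surjective f ∧ RingHom.ker f ≤ maximalIdeal (MvPowerSeries (Fin n) K) ^ 2) := by
  have hmore : (p : A) = 0 → ∃ (K : Type u) (_ : Field K) (n : ℕ)
      (f : MvPowerSeries (Fin n) K →+* A),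
      Function.Surjective f ∧ RingHom.ker f ≤ maximalIdeal (MvPowerSeries (Fin n) K) ^ 2 := by
    intro hp
    obtain ⟨K₀, hK₀, ⟨f₀⟩⟩ := field_of_char A p hp
    letI : Field K₀ := hK₀
    exact surj_of_field A K₀ f₀
  refine ⟨?_, hmore⟩
  tfae_have 1 → 2 := by
    rintro ⟨K, hK, ⟨f⟩⟩
    letI : Field K := hK
    let φ : K →+* ResidueField A := (residue A).comp f
    haveI : CharP K p := RingHom.charP φ φ.injective p
    have := CharP.cast_eq_zero K p
    have h2 := congrArg f this
    rwa [map_natCast, map_zero] at h2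
  tfae_have 2 → 3 := by
    intro hp
    obtain ⟨K, hK, n, f, hf, -⟩ := hmore hp
    exact ⟨K, hK, n, f, hf⟩
  tfae_have 3 → 1 := by
    rintro ⟨K, hK, n, f, -⟩
    letI : Field K := hK
    exact ⟨K, hK, ⟨f.comp (MvPowerSeries.C (σ := Fin n) (R := K))⟩⟩
  tfae_finish

end

end Groth.Agent.Helper7.CohenTFAE
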