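import Mathlib

set_option autoImplicit false
set_option linter.style.haveILetI false
universe u
open IsLocalRing

namespace Groth.Agent.Helper7.CokerFree

section general
variable {A : Type u} [CommRing A]
  {F₁ F₂ M : Type u} [AddCommGroup F₁] [Module A F₁] [AddCommGroup F₂] [Module A F₂]
  [AddCommGroup M] [Module A M]
  (f : F₁ →ₗ[A] F₂) (g : F₂ →ₗ[A] M) (hex : Function.Exact f g) (hg : Function.Surjective g)
  (b₁ : Module.Basis (Fin 1) A F₁) (b₂ : Module.Basis (Fin 2) A F₂)

include hex hg in
/-- if some coordinate of the relation is a unit, the cokernel is projective. -/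
theorem projective_of_isUnit (i₀ : Fin 2) (hu : IsUnit (b₂.repr (f (b₁ 0)) i₀)) :
    Module.Projective A M := by
  obtain ⟨w, hw⟩ := hu
  -- retraction of f
  let ρ : F₂ →ₗ[A] F₁ :=
    (LinearMap.toSpanSingleton A F₁ (b₁ 0)) ∘ₗ ((↑w⁻¹ : A) • (b₂.coord i₀))
  have hρ : ∀ x, ρ x = ((↑w⁻¹ : A) * b₂.repr x i₀) • b₁ 0 := by
    intro x
    simp [ρ, LinearMap.toSpanSingleton_apply]
  have hρf : ∀ z, ρ (f z) = z := by
    intro z
    have hz : z = (b₁.repr z 0) • b₁ 0 := by
      conv_lhs => rw [← b₁.sum_repr z]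
      simp
    rw [hz, map_smul, map_smul, hρ, ← hw, Units.inv_mul, one_smul]
  let φ : F₂ →ₗ[A] F₂ := LinearMap.id - f ∘ₗ ρ
  have hφ : LinearMap.ker g ≤ LinearMap.ker φ := by
    intro x hx
    rw [LinearMap.mem_ker] at hx ⊢
    obtain ⟨z, rfl⟩ := (hex x).1 hx
    simp [φ, hρf]
  let σ : M →ₗ[A] F₂ :=
    ((LinearMap.ker g).liftQ φ hφ) ∘ₗ (LinearMap.quotKerEquivOfSurjective g hg).symm.toLinearMap
  have hσ : ∀ x, σ (g x) = φ x := by
    intro x
    have : (LinearMap.quotKerEquivOfSurjective g hg).symm (g x) =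
        Submodule.Quotient.mk x := by
      rw [LinearEquiv.symm_apply_eq]
      rfl
    simp only [σ, LinearMap.coe_comp, LinearEquiv.coe_coe, Function.comp_apply, this]
    rfl
  have hgσ : ∀ y, g (σ y) = y := by
    intro y
    obtain ⟨x, rfl⟩ := hg y
    rw [hσ]
    have : g (f (ρ x)) = 0 := (hex _).2 ⟨_, rfl⟩
    simp [φ, this]
  haveI : Module.Free A F₂ := Module.Free.of_basis b₂
  exact Module.Projective.of_split σ g (LinearMap.ext hgσ)

end general

section loc
variable {A : Type u} [CommRing A] [IsDomain A]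
  {F₁ F₂ M : Type u} [AddCommGroup F₁] [Module A F₁] [AddCommGroup F₂] [Module A F₂]
  [AddCommGroup M] [Module A M]
  (f : F₁ →ₗ[A] F₂) (g : F₂ →ₗ[A] M) (hex : Function.Exact f g) (hg : Function.Surjective g)
  (b₁ : Module.Basis (Fin 1) A F₁) (b₂ : Module.Basis (Fin 2) A F₂)

include hex hg in
/-- if all coordinates of the relation lie in a prime `P` and the cokernel is projective at `P`,
the relation vanishes. -/
theorem eq_zero_of_projective_localized (P : Ideal A) [P.IsPrime]
    (hP : ∀ i, b₂.repr (f (b₁ 0)) i ∈ P)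
    (hproj : Module.Projective (Localization.AtPrime P) (LocalizedModule P.primeCompl M)) :
    f (b₁ 0) = 0 := by
  classical
  set S := P.primeCompl with hS
  set v := f (b₁ 0) with hv
  set a := b₂.repr v 0 with ha
  set b := b₂.repr v 1 with hb
  have hvab : v = a • b₂ 0 + b • b₂ 1 := by
    conv_lhs => rw [← b₂.sum_repr v]
    rw [Fin.sum_univ_two]
  let g' := LocalizedModule.map S g
  have hg' : Function.Surjective g' := LocalizedModule.map_surjective S g hg
  obtain ⟨s, hs⟩ := Module.projective_lifting_property g' LinearMap.id hg'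
  have hs' : ∀ y, g' (s y) = y := fun y => LinearMap.congr_fun hs y
  let v' : LocalizedModule S F₂ := LocalizedModule.mk v 1
  have hker : ∀ x : LocalizedModule S F₂, g' x = 0 → ∃ c : Localization.AtPrime P, x = c • v' := by
    intro x hx
    induction x using LocalizedModule.induction_on with
    | h y t =>
      rw [LocalizedModule.map_mk, ← LocalizedModule.zero_mk t, LocalizedModule.mk_eq] at hx
      obtain ⟨r, hr⟩ := hx
      rw [smul_zero, smul_zero, Submonoid.smul_def, Submonoid.smul_def, ← map_smul, ← map_smul]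
        at hr
      obtain ⟨z, hz⟩ := (hex _).1 hr
      have hz' : z = (b₁.repr z 0) • b₁ 0 := by
        conv_lhs => rw [← b₁.sum_repr z]
        simp
      rw [hz', map_smul] at hz
      refine ⟨Localization.mk (b₁.repr z 0) (r * t * t), ?_⟩
      rw [← hv] at hz
      have hrt : (r : A) • (t : A) • y = (r * t : S) • y := by
        rw [Submonoid.smul_def, Submonoid.coe_mul, mul_smul]
      rw [LocalizedModule.mk_smul_mk, mul_one, hz, hrt, LocalizedModule.mk_cancel_common_left]
  have hv'0 : g' v' = 0 := by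
    rw [LocalizedModule.map_mk, (hex v).2 ⟨_, rfl⟩, LocalizedModule.zero_mk]
  let w₀ : LocalizedModule S F₂ := LocalizedModule.mk (b₂ 0) 1
  let w₁ : LocalizedModule S F₂ := LocalizedModule.mk (b₂ 1) 1
  have hv'w : v' = algebraMap A (Localization.AtPrime P) a • w₀ +
      algebraMap A (Localization.AtPrime P) b • w₁ := by
    simp only [v', w₀, w₁, algebraMap_smul, LocalizedModule.smul'_mk, LocalizedModule.mk_add_mk,
      one_smul, mul_one]
    rw [← hvab]
  let π : LocalizedModule S F₂ →ₗ[Localization.AtPrime P] LocalizedModule S F₂ :=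
    LinearMap.id - s ∘ₗ g'
  have hπ : ∀ x, g' (π x) = 0 := by
    intro x
    simp [π, hs']
  obtain ⟨c₀, hc₀⟩ := hker _ (hπ w₀)
  obtain ⟨c₁, hc₁⟩ := hker _ (hπ w₁)
  have hπv : π v' = v' := by
    simp [π, hv'0]
  have h1 : π v' = (algebraMap A (Localization.AtPrime P) a * c₀ +
      algebraMap A (Localization.AtPrime P) b * c₁) • v' := by
    conv_lhs => rw [hv'w]
    rw [map_add, map_smul, map_smul, hc₀, hc₁, add_smul, mul_smul, mul_smul]
  rw [hπv] at h1
  have hmem : algebraMap A (Localization.AtPrime P) a * c₀ +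
      algebraMap A (Localization.AtPrime P) b * c₁ ∈ maximalIdeal (Localization.AtPrime P) := by
    refine Ideal.add_mem _ (Ideal.mul_mem_right _ _ ?_) (Ideal.mul_mem_right _ _ ?_)
    · exact (IsLocalization.AtPrime.to_map_mem_maximal_iff _ P a).2 (hP 0)
    · exact (IsLocalization.AtPrime.to_map_mem_maximal_iff _ P b).2 (hP 1)
  have hunit : IsUnit (1 - (algebraMap A (Localization.AtPrime P) a * c₀ +
      algebraMap A (Localization.AtPrime P) b * c₁)) := by
    by_contra hnu
    have h2 : 1 - (algebraMap A (Localization.AtPrime P) a * c₀ +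
      algebraMap A (Localization.AtPrime P) b * c₁) ∈ maximalIdeal (Localization.AtPrime P) := hnu
    have := Ideal.add_mem _ h2 hmem
    rw [sub_add_cancel] at this
    exact (maximalIdeal.isMaximal _).ne_top ((Ideal.eq_top_iff_one _).2 this)
  have h3 : (1 - (algebraMap A (Localization.AtPrime P) a * c₀ +
      algebraMap A (Localization.AtPrime P) b * c₁)) • v' = 0 := by
    rw [sub_smul, one_smul, ← h1, sub_self]
  have h4 : v' = 0 := by
    have := congrArg (fun x => (hunit.unit⁻¹ : (Localization.AtPrime P)ˣ) • x) h3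
    simpa [Units.smul_def, smul_smul] using this
  rw [← LocalizedModule.zero_mk (1 : S), LocalizedModule.mk_eq] at h4
  obtain ⟨r, hr⟩ := h4
  rw [one_smul, one_smul, smul_zero, Submonoid.smul_def] at hr
  have hr0 : (r : A) ≠ 0 := by
    intro h0
    exact r.2 (h0 ▸ P.zero_mem)
  apply b₂.repr.injective
  rw [map_zero]
  have h5 := congrArg b₂.repr hr
  rw [map_smul, map_zero] at h5
  ext i
  have h6 := DFunLike.congr_fun h5 i
  simp only [Finsupp.smul_apply, smul_eq_mul, Finsupp.zero_apply] at h6
  rcases mul_eq_zero.1 h6 with h | h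
  · exact absurd h hr0
  · simpa using h

end loc

section main
variable {A : Type u} [CommRing A] [IsDomain A] [IsNoetherianRing A] [IsLocalRing A]
  {F₁ F₂ M : Type u} [AddCommGroup F₁] [Module A F₁] [AddCommGroup F₂] [Module A F₂]
  [AddCommGroup M] [Module A M]
  (f : F₁ →ₗ[A] F₂) (g : F₂ →ₗ[A] M) (hex : Function.Exact f g) (hg : Function.Surjective g)
  (b₁ : Module.Basis (Fin 1) A F₁) (b₂ : Module.Basis (Fin 2) A F₂)

include hex hg b₁ b₂ in
theorem main (hdim : ringKrullDim A = 3) (t : A)
    (h0 : ∀ P : PrimeSpectrum A, t ∈ P.asIdeal → P.asIdeal ≠ maximalIdeal A →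
      Module.Free (Localization.AtPrime P.asIdeal) (LocalizedModule P.asIdeal.primeCompl M))
    (hm : ¬ Module.Free A M) :
    ∃ Q : PrimeSpectrum A, t ∉ Q.asIdeal ∧
      ¬ Module.Free (Localization.AtPrime Q.asIdeal)
        (LocalizedModule Q.asIdeal.primeCompl M) := by
  classical
  set v := f (b₁ 0) with hv
  haveI : Module.Finite A F₂ := Module.Finite.of_basis b₂
  haveI : Module.Finite A M := Module.Finite.of_surjective g hg
  -- v ≠ 0
  have hv0 : v ≠ 0 := by
    intro h
    apply hm
    have hf : ∀ z, f z = 0 := by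
      intro z
      have hz' : z = (b₁.repr z 0) • b₁ 0 := by
        conv_lhs => rw [← b₁.sum_repr z]
        simp
      rw [hz', map_smul, ← hv, h, smul_zero]
    have hinj : Function.Injective g := by
      rw [injective_iff_map_eq_zero]
      intro x hx
      obtain ⟨z, rfl⟩ := (hex x).1 hx
      exact hf z
    haveI : Module.Free A F₂ := Module.Free.of_basis b₂
    exact Module.Free.of_equiv (LinearEquiv.ofBijective g ⟨hinj, hg⟩)
  -- coordinates in the maximal ideal
  have hcoord : ∀ i, b₂.repr v i ∈ maximalIdeal A := by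
    intro i
    by_contra hi
    have hu : IsUnit (b₂.repr v i) := by
      rwa [mem_maximalIdeal, mem_nonunits_iff, not_not] at hi
    haveI := projective_of_isUnit f g hex hg b₁ b₂ i hu
    exact hm (Module.free_of_flat_of_isLocalRing)
  set J : Ideal A := Ideal.span {b₂.repr v 0, b₂.repr v 1} with hJ
  have hJm : J ≤ maximalIdeal A := by
    rw [hJ, Ideal.span_le]
    rintro x (rfl | rfl)
    · exact hcoord 0
    · exact hcoord 1
  obtain ⟨Q, hQmin, hQm⟩ := Ideal.exists_minimalPrimes_le hJm
  haveI hQp : Q.IsPrime := hQmin.1.1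
  have hJQ : J ≤ Q := hQmin.1.2
  have hht : Q.height ≤ 2 := by
    have := Ideal.height_le_card_of_mem_minimalPrimes_span_finset
      (s := {b₂.repr v 0, b₂.repr v 1}) (p := Q) (by simpa [hJ] using hQmin)
    refine this.trans ?_
    exact_mod_cast Finset.card_le_two
  have hQne : Q ≠ maximalIdeal A := by
    intro h
    rw [h] at hht
    have h1 : ((maximalIdeal A).height : WithBot ℕ∞) = 3 := by
      rw [maximalIdeal_height_eq_ringKrullDim, hdim]
    have h2 : ((maximalIdeal A).height : WithBot ℕ∞) ≤ ((2 : ℕ∞) : WithBot ℕ∞) :=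
      WithBot.coe_le_coe.2 hht
    rw [h1] at h2
    have h3 : ((3 : ℕ∞) : WithBot ℕ∞) ≤ ((2 : ℕ∞) : WithBot ℕ∞) := h2
    have h4 : (3 : ℕ∞) ≤ 2 := WithBot.coe_le_coe.1 h3
    have h5 : ((3 : ℕ) : ℕ∞) ≤ ((2 : ℕ) : ℕ∞) := h4
    have := Nat.cast_le.1 h5
    omega
  have hQcoord : ∀ i, b₂.repr v i ∈ Q := by
    intro i
    apply hJQ
    fin_cases i
    · exact Ideal.subset_span (by simp)
    · exact Ideal.subset_span (by simp)
  have hnf : ¬ Module.Free (Localization.AtPrime Q) (LocalizedModule Q.primeCompl M) := by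
    intro hfree
    exact hv0 (eq_zero_of_projective_localized f g hex hg b₁ b₂ Q hQcoord inferInstance)
  refine ⟨⟨Q, hQp⟩, ?_, hnf⟩
  intro htQ
  exact hnf (h0 ⟨Q, hQp⟩ htQ hQne)

end main

end Groth.Agent.Helper7.CokerFree
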