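import Mathlib
import Groth.Agent.Helper7.ComodF

set_option autoImplicit false
set_option linter.unusedSectionVars false
universe u v w w'

namespace Groth.Agent.Helper7.Comodule

open TensorProduct HopfRep

section SimpleCoalg

variable {K : Type u} {C : Type v} [Field K] [AddCommGroup C] [Module K C] [Coalgebra K C]

/-- a simple submodule inside a simple subcoalgebra `D` has coefficient space `D` -/
lemma coeff_sub_eq (D : Submodule K C)
    (hD : ∀ b ∈ D, CoalgebraStruct.comul (R := K) b ∈
      LinearMap.range (TensorProduct.map D.subtype D.subtype))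
    (hDs : ∀ B : Submodule K C, B ≤ D → (∀ b ∈ B, CoalgebraStruct.comul (R := K) b ∈
      LinearMap.range (TensorProduct.map B.subtype B.subtype)) → B = ⊥ ∨ B = D)
    (S : Submodule (Dual K C) C) [IsSimpleModule (Dual K C) S]
    (hSD : S.restrictScalars K ≤ D) :
    letI := comodOfDualSub S
    coeff K C ↥(S.restrictScalars K) = D := by
  letI := comodOfDualSub S
  have hle : coeff K C ↥(S.restrictScalars K) ≤ D := by
    refine coeff_le_of_embedding (S.restrictScalars K).subtype
      (subtype_isComodHom _ (isSubcomod_restrictScalars S))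
      (Submodule.subtype_injective _) D hD ?_
    rintro _ ⟨x, rfl⟩
    exact hSD x.2
  have hnt : Nontrivial ↥(S.restrictScalars K) := (isSimpleComod_sub S).1
  rcases hDs _ hle (fun b hb => coeff_comul b hb) with h | h
  · exact absurd h coeff_ne_bot
  · exact h

/-- S14842 -/
theorem exists_simple_subcomod (D : Submodule K C) (hD0 : D ≠ ⊥)
    (hD : ∀ b ∈ D, CoalgebraStruct.comul (R := K) b ∈
      LinearMap.range (TensorProduct.map D.subtype D.subtype))
    (hDs : ∀ B : Submodule K C, B ≤ D → (∀ b ∈ B, CoalgebraStruct.comul (R := K) b ∈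
      LinearMap.range (TensorProduct.map B.subtype B.subtype)) → B = ⊥ ∨ B = D) :
    ∃ E : Submodule K C, E ≤ D ∧ E ≠ ⊥ ∧ HopfRep.IsSubcomod (k := K) (A := C) E ∧
      (∀ E' : Submodule K C, E' ≤ E → HopfRep.IsSubcomod (k := K) (A := C) E' →
        E' = ⊥ ∨ E' = E) ∧
      IsLeast {D' : Submodule K C |
        ∀ e ∈ E, CoalgebraStruct.comul (R := K) e ∈
          LinearMap.range (TensorProduct.map E.subtype D'.subtype)} D := by
  have hsub := isSubcomod_of_subcoalgebra D hD
  have hne : toDualSub D hsub ≠ ⊥ := by
    intro h
    apply hD0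
    rw [← toDualSub_restrictScalars (hW := hsub), h]; rfl
  obtain ⟨S, hSD, hS⟩ := exists_simple_le _ hne
  have hSD' : S.restrictScalars K ≤ D := fun x hx => hSD hx
  have hES := isSubcomod_restrictScalars S
  refine ⟨S.restrictScalars K, hSD', ?_, hES, ?_, ?_⟩
  · have := IsSimpleModule.nontrivial (Dual K C) S
    intro h
    have h' := (Submodule.restrictScalars_eq_bot_iff K (Dual K C) C).1 h
    rw [h'] at this
    exact not_subsingleton (↥(⊥ : Submodule (Dual K C) C)) inferInstance
  · intro E' hE' hE's
    have hatom : IsAtom S := isSimpleModule_iff_isAtom.1 hS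
    have hle' : toDualSub E' hE's ≤ S := fun x hx => hE' hx
    rcases hatom.le_iff.1 hle' with h | h
    · left
      rw [← toDualSub_restrictScalars (hW := hE's), h]; rfl
    · right
      rw [← toDualSub_restrictScalars (hW := hE's), h]
  · letI := comodOfDualSub S
    have hco := coeff_sub_eq D hD hDs S hSD'
    have hinj := rTensor_subtype_injective (C := C) (S.restrictScalars K)
    have key : ∀ D' : Submodule K C,
        (∀ e ∈ S.restrictScalars K, CoalgebraStruct.comul (R := K) e ∈
          LinearMap.range (TensorProduct.map (S.restrictScalars K).subtype D'.subtype)) ↔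
        (∀ e : ↥(S.restrictScalars K), Comod.coact (k := K) (A := C) e ∈
          LinearMap.range (LinearMap.lTensor ↥(S.restrictScalars K) D'.subtype)) := by
      intro D'
      constructor
      · intro h e
        obtain ⟨z, hz⟩ := h e.1 e.2
        refine ⟨z, hinj ?_⟩
        have := rTensor_subCoact (S.restrictScalars K) hES e
        change _ = LinearMap.rTensor C (S.restrictScalars K).subtype
          (subCoact (S.restrictScalars K) hES e)
        rw [this]
        change _ = CoalgebraStruct.comul (R := K) e.1
        rw [← hz, ← LinearMap.rTensor_comp_lTensor]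
        rfl
      · intro h e he
        obtain ⟨z, hz⟩ := h ⟨e, he⟩
        refine ⟨z, ?_⟩
        have := rTensor_subCoact (S.restrictScalars K) hES ⟨e, he⟩
        change _ = CoalgebraStruct.comul (R := K) e at this
        rw [← this]
        change _ = LinearMap.rTensor C (S.restrictScalars K).subtype
          (Comod.coact (k := K) (A := C) (⟨e, he⟩ : ↥(S.restrictScalars K)))
        rw [← hz, ← LinearMap.rTensor_comp_lTensor]
        rfl
    have hl := isLeast_coeff (K := K) (C := C) (V := ↥(S.restrictScalars K))
    rw [hco] at hl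
    refine ⟨(key D).2 hl.1, fun D' hD' => hl.2 ((key D').1 hD')⟩

end SimpleCoalg

end Groth.Agent.Helper7.Comodule
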