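import Mathlib
import Groth.Agent.Helper7.ComodG

set_option autoImplicit false
set_option linter.unusedSectionVars false
universe u v w w'

namespace Groth.Agent.Helper7.Comodule

open TensorProduct HopfRep

section Isotypic

variable {K : Type u} {C : Type v} [Field K] [AddCommGroup C] [Module K C] [Coalgebra K C]
variable {V : Type w} [AddCommGroup V] [Module K V] [Comod K C V]

lemma coeffA_le_sSup_simples [IsSimpleModule (Dual K C) V] :
    coeffA K C V ≤ sSup {m : Submodule (Dual K C) C | IsSimpleModule (Dual K C) m} := by
  refine iSup_le fun l => ?_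
  by_cases hl : phiA (C := C) l = 0
  · rw [hl, LinearMap.range_zero]; exact bot_le
  · have hinj := LinearMap.injective_of_ne_zero hl
    exact le_sSup (IsSimpleModule.congr (LinearEquiv.ofInjective _ hinj).symm)

lemma coeffA_eq_top_of_coeff_eq_top (h : coeff K C V = ⊤) : coeffA K C V = ⊤ := by
  rw [eq_top_iff]
  intro c _
  rw [mem_coeffA_iff, h]
  trivial

/-- S14850 -/
theorem simple_iff_isotypic [Nontrivial C] :
    (∀ B : Submodule K C, (∀ b ∈ B, CoalgebraStruct.comul (R := K) b ∈
      LinearMap.range (TensorProduct.map B.subtype B.subtype)) → B = ⊥ ∨ B = ⊤) ↔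
    ∃ (E : Type v) (_ : AddCommGroup E) (_ : Module K E) (_ : HopfRep.Comod K C E),
      HopfRep.IsSimpleComod K C E ∧
      ∃ (ι : Type v) (f : ι → (E →ₗ[K] C)),
        (∀ i, Hoch.IsComodHom C (f i) ∧ Function.Injective (f i)) ∧
        iSupIndep (fun i => LinearMap.range (f i)) ∧ (⨆ i, LinearMap.range (f i)) = ⊤ := by
  constructor
  · intro h
    have htop : (⊤ : Submodule (Dual K C) C) ≠ ⊥ := top_ne_bot
    obtain ⟨S, -, hS⟩ := exists_simple_le _ htop
    letI := comodOfDualSub S
    have hE := isSimpleComod_sub S
    have hnt : Nontrivial ↥(S.restrictScalars K) := hE.1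
    have hco : coeff K C ↥(S.restrictScalars K) = ⊤ := by
      rcases h (coeff K C ↥(S.restrictScalars K)) (fun b hb => coeff_comul b hb) with h' | h'
      · exact absurd h' (coeff_ne_bot (K := K) (C := C) (V := ↥(S.restrictScalars K)))
      · exact h'
    have hcoA := coeffA_eq_top_of_coeff_eq_top hco
    have hsimpE := isSimpleModule_of_isSimpleComod hE
    have hss : IsSemisimpleModule (Dual K C) C := by
      apply IsSemisimpleModule.of_sSup_simples_eq_top
      rw [eq_top_iff, ← hcoA]
      exact coeffA_le_sSup_simples
    obtain ⟨s, hind, hsup, hsimple⟩ :=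
      IsSemisimpleModule.exists_sSupIndep_sSup_simples_eq_top (Dual K C) C
    have hiso : ∀ m : s, Nonempty (↥(S.restrictScalars K) ≃ₗ[Dual K C] m.1) := by
      intro m
      have := hsimple m.1 m.2
      exact exists_iso_of_simple_le m.1 (by rw [hcoA]; exact le_top)
    let e : ∀ m : s, ↥(S.restrictScalars K) ≃ₗ[Dual K C] m.1 := fun m => (hiso m).some
    refine ⟨↥(S.restrictScalars K), inferInstance, inferInstance, inferInstance, hE, ↥s,
      fun m => ((m.1).subtype ∘ₗ (e m).toLinearMap).restrictScalars K, ?_, ?_, ?_⟩
    · intro m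
      exact ⟨isComodHom_of_dualHom _, (m.1).subtype_injective.comp (e m).injective⟩
    · have hr : ∀ m : s, LinearMap.range
          (((m.1).subtype ∘ₗ (e m).toLinearMap).restrictScalars K) = (m.1).restrictScalars K := by
        intro m
        ext c
        constructor
        · rintro ⟨x, rfl⟩
          exact (e m x).2
        · intro hc
          exact ⟨(e m).symm ⟨c, hc⟩, by simp⟩
      simp only [hr]
      exact iSupIndep_restrictScalars _ ((sSupIndep_iff s).1 hind)
    · have hr : ∀ m : s, LinearMap.range
          (((m.1).subtype ∘ₗ (e m).toLinearMap).restrictScalars K) = (m.1).restrictScalars K := by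
        intro m
        ext c
        constructor
        · rintro ⟨x, rfl⟩
          exact (e m x).2
        · intro hc
          exact ⟨(e m).symm ⟨c, hc⟩, by simp⟩
      simp only [hr]
      rw [← Submodule.restrictScalars_iSup, ← sSup_eq_iSup', hsup]
      rfl
  · rintro ⟨E, _, _, _, hE, ι, f, hf, -, hsup⟩ B hB
    have hco : coeff K C E = ⊤ := by
      rw [eq_top_iff, ← hsup]
      exact iSup_le fun i => range_comodHom_le (f i) (hf i).1
    have := coeff_simple hE B (by rw [hco]; exact le_top) hB
    rwa [hco] at this

end Isotypic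

end Groth.Agent.Helper7.Comodule
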