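import Mathlib
import Groth.Agent.Helper7.ComodH

set_option autoImplicit false
set_option linter.unusedSectionVars false
universe u v w w'

namespace Groth.Agent.Helper7.Comodule

open TensorProduct HopfRep

section Cosemisimple

variable {K : Type u} {C : Type v} [Field K] [AddCommGroup C] [Module K C] [Coalgebra K C]
variable {V : Type w} [AddCommGroup V] [Module K V] [Comod K C V]

/-- a coalgebra which is a sum of simple subcoalgebras is semisimple as a module over its dual -/
theorem isSemisimpleModule_regular_of_decomp {ι : Type*} (D : ι → Submodule K C)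
    (htop : iSup D = ⊤)
    (hD : ∀ i, D i ≠ ⊥ ∧ (∀ b ∈ D i, CoalgebraStruct.comul (R := K) b ∈
        LinearMap.range (TensorProduct.map (D i).subtype (D i).subtype)) ∧
      ∀ B : Submodule K C, B ≤ D i → (∀ b ∈ B, CoalgebraStruct.comul (R := K) b ∈
        LinearMap.range (TensorProduct.map B.subtype B.subtype)) → B = ⊥ ∨ B = D i) :
    IsSemisimpleModule (Dual K C) C := by
  apply IsSemisimpleModule.of_sSup_simples_eq_top
  rw [← Submodule.restrictScalars_eq_top_iff K, eq_top_iff, ← htop]
  refine iSup_le fun i => ?_
  obtain ⟨h0, hc, hs⟩ := hD i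
  have hsub := isSubcomod_of_subcoalgebra (D i) hc
  have hne : toDualSub (D i) hsub ≠ ⊥ := by
    intro h
    apply h0
    rw [← toDualSub_restrictScalars (hW := hsub), h]; rfl
  obtain ⟨S, hSD, hS⟩ := exists_simple_le _ hne
  have hSD' : S.restrictScalars K ≤ D i := fun x hx => hSD hx
  letI := comodOfDualSub S
  have hco := coeff_sub_eq (D i) hc hs S hSD'
  have hsimp := isSimpleModule_of_isSimpleComod (isSimpleComod_sub S)
  intro x hx
  rw [← hco] at hx
  exact coeffA_le_sSup_simples (mem_coeffA_iff.2 hx)

/-- cyclic submodules embed in a finite power of the regular comodule -/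
lemma exists_embedding_cyclic (v : V) :
    ∃ (n : ℕ) (Ψ : ↥(Submodule.span (Dual K C) {v}) →ₗ[Dual K C] (Fin n → C)),
      Function.Injective Ψ := by
  obtain ⟨N, hN⟩ : ∃ N : Submodule (Dual K C) V, N = Submodule.span (Dual K C) {v} := ⟨_, rfl⟩
  rw [← hN]
  have hfin : Module.Finite K N := by rw [hN]; exact finite_span_singleton (K := K) (C := C) v
  let b := Module.finBasis K N
  have hext : ∀ j, ∃ l : V →ₗ[K] K, ∀ x : N, l x.1 = b.coord j x := by
    intro j
    let f : ↥(N.restrictScalars K) →ₗ[K] K :=
      { toFun := fun x => b.coord j ⟨x.1, x.2⟩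
        map_add' := fun x y => by
          change b.coord j (⟨x.1, x.2⟩ + ⟨y.1, y.2⟩) = _
          rw [map_add]
        map_smul' := fun c x => by
          change b.coord j (c • ⟨x.1, x.2⟩) = _
          rw [map_smul]; rfl }
    obtain ⟨l, hl⟩ := LinearMap.exists_extend f
    refine ⟨l, fun x => ?_⟩
    have := LinearMap.congr_fun hl ⟨x.1, x.2⟩
    exact this
  choose l hl using hext
  refine ⟨_, LinearMap.pi (fun j => phiA (C := C) (l j) ∘ₗ N.subtype), ?_⟩
  rw [← LinearMap.ker_eq_bot, LinearMap.ker_eq_bot']
  intro x hx
  apply b.ext_elem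
  intro j
  have h1 : phi (C := C) (l j) x.1 = 0 := congrFun hx j
  have h2 := counit_phi (C := C) (l j) x.1
  rw [h1, map_zero] at h2
  rw [map_zero, Finsupp.zero_apply]
  have := hl j x
  rw [← h2] at this
  exact this.symm

/-- if the regular comodule is semisimple over the dual algebra, so is every comodule -/
theorem isSemisimpleModule_of_regular [IsSemisimpleModule (Dual K C) C] :
    IsSemisimpleModule (Dual K C) V := by
  apply isSemisimpleModule_of_isSemisimpleModule_submodule'
    (p := fun v : V => Submodule.span (Dual K C) {v})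
  · intro v
    obtain ⟨n, Ψ, hΨ⟩ := exists_embedding_cyclic (K := K) (C := C) v
    exact IsSemisimpleModule.of_injective Ψ hΨ
  · rw [eq_top_iff]
    intro v _
    exact (le_iSup (fun v : V => Submodule.span (Dual K C) {v}) v)
      (Submodule.mem_span_singleton_self v)

/-- an isotypic component of the regular comodule is a coefficient space -/
lemma isotypicComponent_eq_coeffA (S : Submodule (Dual K C) C) [IsSimpleModule (Dual K C) S] :
    letI := comodOfDualSub S
    isotypicComponent (Dual K C) C S = coeffA K C ↥(S.restrictScalars K) := by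
  letI := comodOfDualSub S
  have hsimp := isSimpleModule_of_isSimpleComod (isSimpleComod_sub S)
  apply le_antisymm
  · refine sSup_le ?_
    rintro m ⟨e⟩
    let ψ : ↥(S.restrictScalars K) →ₗ[Dual K C] C :=
      m.subtype ∘ₗ (e.symm.toLinearMap ∘ₗ (restrictEquiv S).toLinearMap)
    intro x hx
    rw [mem_coeffA_iff]
    refine range_comodHom_le (ψ.restrictScalars K) (isComodHom_of_dualHom ψ) ?_
    refine ⟨(restrictEquiv S).symm (e ⟨x, hx⟩), ?_⟩
    simp [ψ]
  · refine iSup_le fun l => ?_
    by_cases hl : phiA (C := C) l = 0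
    · rw [hl, LinearMap.range_zero]; exact bot_le
    · have hinj := LinearMap.injective_of_ne_zero hl
      exact le_sSup ⟨(LinearEquiv.ofInjective _ hinj).symm.trans (restrictEquiv S)⟩

/-- S14843 -/
theorem cosemisimple_iff :
    (∃ (ι : Type v) (D : ι → Submodule K C), iSupIndep D ∧ iSup D = ⊤ ∧ ∀ i,
        D i ≠ ⊥ ∧ (∀ b ∈ D i, CoalgebraStruct.comul (R := K) b ∈
          LinearMap.range (TensorProduct.map (D i).subtype (D i).subtype)) ∧
        ∀ B : Submodule K C, B ≤ D i → (∀ b ∈ B, CoalgebraStruct.comul (R := K) b ∈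
          LinearMap.range (TensorProduct.map B.subtype B.subtype)) → B = ⊥ ∨ B = D i) ↔
      ∀ (V : Type v) [AddCommGroup V] [Module K V] [HopfRep.Comod K C V],
        HopfRep.IsSemisimpleComod K C V := by
  constructor
  · rintro ⟨ι, D, -, htop, hD⟩ V _ _ _
    have := isSemisimpleModule_regular_of_decomp D htop hD
    have := isSemisimpleModule_of_regular (K := K) (C := C) (V := V)
    exact isSemisimpleComod_of_isSemisimpleModule
  · intro h
    have hss := isSemisimpleModule_of_isSemisimpleComod (h C)
    refine ⟨↥(isotypicComponents (Dual K C) C), fun c => c.1.restrictScalars K, ?_, ?_, ?_⟩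
    · exact iSupIndep_restrictScalars _
        ((sSupIndep_iff _).1 (sSupIndep_isotypicComponents (Dual K C) C))
    · rw [← Submodule.restrictScalars_iSup, ← sSup_eq_iSup', sSup_isotypicComponents]
      rfl
    · rintro ⟨c, S, hS, rfl⟩
      letI := comodOfDualSub S
      have hE := isSimpleComod_sub S
      have hnt : Nontrivial ↥(S.restrictScalars K) := hE.1
      have hc : (isotypicComponent (Dual K C) C S).restrictScalars K =
          coeff K C ↥(S.restrictScalars K) := by
        rw [isotypicComponent_eq_coeffA S, coeffA_restrictScalars]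
      have key : ∀ D₀ : Submodule K C, D₀ = coeff K C ↥(S.restrictScalars K) →
          (D₀ ≠ ⊥ ∧ (∀ b ∈ D₀, CoalgebraStruct.comul (R := K) b ∈
            LinearMap.range (TensorProduct.map D₀.subtype D₀.subtype)) ∧
          ∀ B : Submodule K C, B ≤ D₀ → (∀ b ∈ B, CoalgebraStruct.comul (R := K) b ∈
            LinearMap.range (TensorProduct.map B.subtype B.subtype)) → B = ⊥ ∨ B = D₀) := by
        rintro _ rfl
        exact ⟨coeff_ne_bot (K := K) (C := C) (V := ↥(S.restrictScalars K)),
          fun b hb => coeff_comul (K := K) (C := C) (V := ↥(S.restrictScalars K)) b hb,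
          fun B hle hB =>
            coeff_simple (K := K) (C := C) (V := ↥(S.restrictScalars K)) hE B hle hB⟩
      exact key _ hc

end Cosemisimple

end Groth.Agent.Helper7.Comodule
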