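import Mathlib
import Groth.Agent.Helper7.ComodI

set_option autoImplicit false
set_option linter.unusedSectionVars false
universe u v w w'

namespace Groth.Agent.Helper7.Comodule

open TensorProduct HopfRep

section HomZero

variable {K : Type u} {C : Type v} [Field K] [AddCommGroup C] [Module K C] [Coalgebra K C]
variable {V : Type w} [AddCommGroup V] [Module K V] [Comod K C V]
variable {W : Type w'} [AddCommGroup W] [Module K W] [Comod K C W]

lemma isSubcomod_range {φ : V →ₗ[K] W} (hφ : Hoch.IsComodHom C φ) :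
    IsSubcomod (k := K) (A := C) (LinearMap.range φ) := by
  apply isSubcomod_of_act_mem
  rintro f _ ⟨v, rfl⟩
  rw [← act_comodHom hφ]
  exact ⟨_, rfl⟩

/-- S14852 (cosemisimplicity is not needed) -/
theorem hom_eq_zero_of_ne (D₁ D₂ : Submodule K C) (hne : D₁ ≠ D₂)
    (hs₁ : ∀ B : Submodule K C, B ≤ D₁ → (∀ b ∈ B, CoalgebraStruct.comul (R := K) b ∈
      LinearMap.range (TensorProduct.map B.subtype B.subtype)) → B = ⊥ ∨ B = D₁)
    (hs₂ : ∀ B : Submodule K C, B ≤ D₂ → (∀ b ∈ B, CoalgebraStruct.comul (R := K) b ∈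
      LinearMap.range (TensorProduct.map B.subtype B.subtype)) → B = ⊥ ∨ B = D₂)
    (hV : ∀ v : V, HopfRep.Comod.coact (k := K) (A := C) v ∈
      LinearMap.range (LinearMap.lTensor V D₁.subtype))
    (hW : ∀ w : W, HopfRep.Comod.coact (k := K) (A := C) w ∈
      LinearMap.range (LinearMap.lTensor W D₂.subtype))
    (φ : V →ₗ[K] W) (hφ : Hoch.IsComodHom C φ) : φ = 0 := by
  have hI := isSubcomod_range hφ
  letI := subComod (LinearMap.range φ) hI
  have hgen : ∀ (l : ↥(LinearMap.range φ) →ₗ[K] K) (x : ↥(LinearMap.range φ)),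
      sliceL l (ρ K C ↥(LinearMap.range φ) x) ∈ D₁ ⊓ D₂ := by
    intro l x
    obtain ⟨lt, hlt⟩ := LinearMap.exists_extend l
    have e1 : sliceL l (ρ K C ↥(LinearMap.range φ) x) = sliceL lt (ρ K C W x.1) := by
      rw [← hlt, ← sliceL_rTensor]
      congr 1
      exact rTensor_subCoact (LinearMap.range φ) hI x
    rw [e1]
    constructor
    · obtain ⟨v, hv⟩ := x.2
      obtain ⟨y, hy⟩ := hV v
      have h := LinearMap.congr_fun hφ v
      simp only [LinearMap.coe_comp, Function.comp_apply] at h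
      rw [← hv]
      change sliceL lt (Comod.coact (k := K) (A := C) (φ v)) ∈ D₁
      rw [h, ← hy, sliceL_rTensor, sliceL_lTensor]
      exact (sliceL _ y).2
    · obtain ⟨y, hy⟩ := hW x.1
      change sliceL lt (Comod.coact (k := K) (A := C) x.1) ∈ D₂
      rw [← hy, sliceL_lTensor]
      exact (sliceL _ y).2
  have hle : coeff K C ↥(LinearMap.range φ) ≤ D₁ ⊓ D₂ := by
    refine Submodule.span_le.2 ?_
    rintro _ ⟨⟨l, x⟩, rfl⟩
    exact hgen l x
  have hB : coeff K C ↥(LinearMap.range φ) = ⊥ := by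
    rcases hs₁ _ (hle.trans inf_le_left)
      (fun b hb => coeff_comul (K := K) (C := C) (V := ↥(LinearMap.range φ)) b hb) with h1 | h1
    · exact h1
    rcases hs₂ _ (hle.trans inf_le_right)
      (fun b hb => coeff_comul (K := K) (C := C) (V := ↥(LinearMap.range φ)) b hb) with h2 | h2
    · exact h2
    exact absurd (h1.symm.trans h2) hne
  have hsub : Subsingleton ↥(LinearMap.range φ) := by
    by_contra hns
    rw [not_subsingleton_iff_nontrivial] at hns
    exact coeff_ne_bot (K := K) (C := C) (V := ↥(LinearMap.range φ)) hB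
  apply LinearMap.ext
  intro v
  have := Subsingleton.elim (⟨φ v, ⟨v, rfl⟩⟩ : ↥(LinearMap.range φ)) 0
  exact congrArg Subtype.val this

end HomZero

end Groth.Agent.Helper7.Comodule
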