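import Mathlib
import Groth.Agent.Helper7.ComodL

set_option autoImplicit false
set_option linter.unusedSectionVars false
universe u v w w'

namespace Groth.Agent.Helper7.Comodule

open TensorProduct HopfRep

section Quot

variable {K : Type u} {C : Type v} [CommRing K] [AddCommGroup C] [Module K C] [Coalgebra K C]
variable {V : Type w} [AddCommGroup V] [Module K V] [Comod K C V]

/-- the coaction on a quotient by a subcomodule -/
noncomputable def quotCoact (W : Submodule K V) (hW : IsSubcomod (k := K) (A := C) W) :
    (V ⧸ W) →ₗ[K] (V ⧸ W) ⊗[K] C :=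
  W.liftQ (LinearMap.rTensor C W.mkQ ∘ₗ ρ K C V) (by
    intro w hw
    obtain ⟨y, hy⟩ := hW w hw
    rw [LinearMap.mem_ker, LinearMap.comp_apply]
    change LinearMap.rTensor C W.mkQ (Comod.coact (k := K) (A := C) w) = 0
    rw [← hy, ← LinearMap.comp_apply, ← LinearMap.rTensor_comp]
    have : W.mkQ ∘ₗ W.subtype = 0 := by
      ext x; simp
    rw [this, LinearMap.rTensor_zero, LinearMap.zero_apply])

lemma quotCoact_mk (W : Submodule K V) (hW : IsSubcomod (k := K) (A := C) W) (v : V) :
    quotCoact W hW (W.mkQ v) = LinearMap.rTensor C W.mkQ (ρ K C V v) := rfl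

private lemma auxQ1 (W : Submodule K V) (hW : IsSubcomod (k := K) (A := C) W) (y : V ⊗[K] C) :
    (TensorProduct.assoc K (V ⧸ W) C C) (LinearMap.rTensor C (quotCoact W hW)
      (LinearMap.rTensor C W.mkQ y)) =
    LinearMap.rTensor (C ⊗[K] C) W.mkQ ((TensorProduct.assoc K V C C)
      (LinearMap.rTensor C (ρ K C V) y)) := by
  induction y using TensorProduct.induction_on with
  | zero => simp
  | tmul v c =>
    rw [LinearMap.rTensor_tmul, LinearMap.rTensor_tmul, quotCoact_mk, LinearMap.rTensor_tmul]
    generalize ρ K C V v = z
    induction z using TensorProduct.induction_on with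
    | zero => simp
    | tmul v' d => simp
    | add a b ha hb => simp only [map_add, TensorProduct.add_tmul, ha, hb]
  | add a b ha hb => simp only [map_add, ha, hb]

private lemma auxQ2 (W : Submodule K V) (y : V ⊗[K] C) :
    LinearMap.lTensor (V ⧸ W) (CoalgebraStruct.comul (R := K) (A := C))
      (LinearMap.rTensor C W.mkQ y) =
    LinearMap.rTensor (C ⊗[K] C) W.mkQ
      (LinearMap.lTensor V (CoalgebraStruct.comul (R := K) (A := C)) y) := by
  induction y using TensorProduct.induction_on with
  | zero => simp
  | tmul v c => simp
  | add a b ha hb => simp only [map_add, ha, hb]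

private lemma auxQ3 (W : Submodule K V) (y : V ⊗[K] C) :
    LinearMap.lTensor (V ⧸ W) (CoalgebraStruct.counit (R := K) (A := C))
      (LinearMap.rTensor C W.mkQ y) =
    LinearMap.rTensor K W.mkQ
      (LinearMap.lTensor V (CoalgebraStruct.counit (R := K) (A := C)) y) := by
  induction y using TensorProduct.induction_on with
  | zero => simp
  | tmul v c => simp
  | add a b ha hb => simp only [map_add, ha, hb]

/-- the quotient of a comodule by a subcomodule -/
@[reducible] noncomputable def quotComod (W : Submodule K V)
    (hW : IsSubcomod (k := K) (A := C) W) : Comod K C (V ⧸ W) where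
  coact := quotCoact W hW
  coassoc := by
    apply Submodule.linearMap_qext
    apply LinearMap.ext
    intro v
    simp only [LinearMap.coe_comp, Function.comp_apply, LinearEquiv.coe_coe]
    rw [quotCoact_mk, auxQ1, auxQ2, coassoc_apply]
  counit_comp := by
    apply Submodule.linearMap_qext
    apply LinearMap.ext
    intro v
    simp only [LinearMap.coe_comp, Function.comp_apply]
    rw [quotCoact_mk, auxQ3]
    have h := LinearMap.congr_fun (Comod.counit_comp (k := K) (A := C) (V := V)) v
    simp only [LinearMap.coe_comp, Function.comp_apply, LinearMap.flip_apply,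
      TensorProduct.mk_apply] at h
    change LinearMap.rTensor K W.mkQ (LinearMap.lTensor V CoalgebraStruct.counit
      (Comod.coact (k := K) (A := C) v)) = _
    rw [h]
    simp

lemma mkQ_isComodHom (W : Submodule K V) (hW : IsSubcomod (k := K) (A := C) W) :
    letI := quotComod W hW
    Hoch.IsComodHom C W.mkQ := by
  letI := quotComod W hW
  apply LinearMap.ext
  intro v
  rfl

end Quot

end Groth.Agent.Helper7.Comodule
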