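import Mathlib
import Groth.Agent.Helper7.ComodM

set_option autoImplicit false
set_option linter.unusedSectionVars false
universe u v w w'

namespace Groth.Agent.Helper7.Comodule

open TensorProduct HopfRep

section Unip

variable {K : Type u} {A : Type v} [Field K] [CommRing A] [Bialgebra K A]

lemma fixedPts_isSubcomod (V : Type w) [AddCommGroup V] [Module K V] [Comod K A V] :
    IsSubcomod (k := K) (A := A) (fixedPts K A V) := by
  intro v hv
  refine ⟨(⟨v, hv⟩ : fixedPts K A V) ⊗ₜ[K] (1 : A), ?_⟩
  rw [LinearMap.rTensor_tmul]
  exact hv.symm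

lemma act_of_mem_fixedPts {V : Type w} [AddCommGroup V] [Module K V] [Comod K A V]
    (g : A →ₐ[K] K) {v : V} (hv : v ∈ fixedPts K A V) : act g.toLinearMap v = v := by
  rw [act_apply]
  change sliceR g.toLinearMap (Comod.coact (k := K) (A := A) v) = v
  rw [show Comod.coact (k := K) (A := A) v = v ⊗ₜ[K] (1 : A) from hv, sliceR_tmul]
  simp

lemma pow_intertwine {V W : Type*} [AddCommGroup V] [Module K V] [AddCommGroup W] [Module K W]
    (π : V →ₗ[K] W) (S : V →ₗ[K] V) (S' : W →ₗ[K] W) (h : ∀ v, π (S v) = S' (π v)) (n : ℕ)
    (v : V) : π ((S ^ n) v) = (S' ^ n) (π v) := by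
  induction n generalizing v with
  | zero => simp
  | succ n ih =>
    rw [pow_succ, pow_succ, Module.End.mul_apply, Module.End.mul_apply, ih, h]

/-- over a unipotent group every point acts unipotently on finite-dimensional comodules -/
theorem act_sub_one_pow_eq_zero (hU : IsUnipotent K A) (g : A →ₐ[K] K) :
    ∀ (n : ℕ) (V : Type v) [AddCommGroup V] [Module K V] [Comod K A V] [Module.Finite K V],
      Module.finrank K V ≤ n → (act (V := V) g.toLinearMap - 1) ^ n = 0 := by
  intro n
  induction n with
  | zero =>
    intro V _ _ _ _ hn
    have h0 : Module.finrank K V = 0 := by omega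
    have : Subsingleton V := Module.finrank_zero_iff.1 h0
    apply LinearMap.ext
    intro v
    exact Subsingleton.elim _ _
  | succ n ih =>
    intro V _ _ _ _ hn
    by_cases hV : Subsingleton V
    · apply LinearMap.ext
      intro v
      exact Subsingleton.elim _ _
    rw [not_subsingleton_iff_nontrivial] at hV
    have hF : fixedPts K A V ≠ ⊥ := hU V inferInstance hV
    have hsub := fixedPts_isSubcomod (K := K) (A := A) V
    letI := quotComod (fixedPts K A V) hsub
    have hlt : Module.finrank K (V ⧸ fixedPts K A V) ≤ n := by
      have h1 := Submodule.finrank_quotient_add_finrank (fixedPts K A V)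
      have h2 : 0 < Module.finrank K (fixedPts K A V) := by
        rw [Module.finrank_pos_iff]
        exact Submodule.nontrivial_iff_ne_bot.2 hF
      omega
    have hq := ih (V ⧸ fixedPts K A V) hlt
    apply LinearMap.ext
    intro v
    rw [pow_succ', Module.End.mul_apply, LinearMap.zero_apply]
    have hmem : ((act (V := V) g.toLinearMap - 1) ^ n) v ∈ fixedPts K A V := by
      rw [← Submodule.Quotient.mk_eq_zero]
      have := pow_intertwine (fixedPts K A V).mkQ (act (V := V) g.toLinearMap - 1)
        (act (V := V ⧸ fixedPts K A V) g.toLinearMap - 1) (by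
          intro w
          simp only [LinearMap.sub_apply, Module.End.one_apply, map_sub]
          rw [act_comodHom (mkQ_isComodHom (fixedPts K A V) hsub)]) n v
      change (fixedPts K A V).mkQ _ = 0
      rw [this, hq, LinearMap.zero_apply]
    rw [LinearMap.sub_apply, Module.End.one_apply, act_of_mem_fixedPts g hmem, sub_self]

end Unip

end Groth.Agent.Helper7.Comodule
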