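import Mathlib
import Groth.Agent.Helper7.ComodN

set_option autoImplicit false
set_option linter.unusedSectionVars false
universe u v w w'

namespace Groth.Agent.Helper7.Comodule

open TensorProduct HopfRep Polynomial

section Poly

variable {K : Type u} [Field K]

lemma one_add_X_pow (n : ℕ) :
    ∃ s : K[X], (1 + X) ^ n = 1 + C (n : K) * X + X ^ 2 * s := by
  induction n with
  | zero => exact ⟨0, by simp⟩
  | succ n ih =>
    obtain ⟨s, hs⟩ := ih
    refine ⟨C (n : K) + s + X * s, ?_⟩
    rw [pow_succ, hs]
    push_cast
    rw [C_add, C_1]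
    ring

/-- a unipotent element of finite order prime to the characteristic is trivial -/
lemma eq_one_of_unipotent_of_pow_eq_one {R : Type*} [Ring R] [Algebra K R] (T : R) (N n : ℕ)
    (hN : (T - 1) ^ N = 0) (hn : T ^ n = 1) (hnK : (n : K) ≠ 0) : T = 1 := by
  obtain ⟨s, hs⟩ := one_add_X_pow (K := K) n
  set U := T - 1 with hU
  have hT : T = 1 + U := by rw [hU]; abel
  have hrel : (n : K) • U + U ^ 2 * aeval U s = 0 := by
    have h1 := congrArg (aeval U) hs
    simp only [map_pow, map_add, map_one, aeval_X, map_mul, aeval_C] at h1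
    rw [← hT, hn] at h1
    have h2 : algebraMap K R (n : K) * U = (n : K) • U := by
      rw [Algebra.smul_def]
    rw [h2] at h1
    have : (1 : R) = 1 + ((n : K) • U + U ^ 2 * aeval U s) := by rw [← add_assoc]; exact h1
    have h3 := congrArg (fun z => z - 1) this
    simp only [sub_self, add_sub_cancel_left] at h3
    exact h3.symm
  have step : ∀ j : ℕ, 1 ≤ j → U ^ (j + 1) = 0 → U ^ j = 0 := by
    intro j hj hj1
    have h4 : U ^ (j - 1) * ((n : K) • U + U ^ 2 * aeval U s) = 0 := by rw [hrel, mul_zero]
    rw [mul_add, mul_smul_comm, ← pow_succ, ← mul_assoc, ← pow_add] at h4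
    have e1 : j - 1 + 1 = j := by omega
    have e2 : j - 1 + 2 = j + 1 := by omega
    rw [e1, e2, hj1, zero_mul, add_zero] at h4
    rcases smul_eq_zero.1 h4 with h | h
    · exact absurd h hnK
    · exact h
  have key : ∀ m : ℕ, U ^ (m + 1) = 0 → U = 0 := by
    intro m
    induction m with
    | zero => intro h; simpa using h
    | succ m ih =>
      intro h
      exact ih (step (m + 1) (by omega) h)
  have hU0 : U = 0 := by
    cases N with
    | zero =>
      rw [pow_zero] at hN
      have : (U : R) = U * 1 := (mul_one U).symm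
      rw [this, hN, mul_zero]
    | succ N => exact key N hN
  rw [hT, hU0, add_zero]

end Poly

end Groth.Agent.Helper7.Comodule
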