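import Mathlib
import Groth.Agent.Helper7.ComodO
import Groth.Agent.Helper7.ComodF

set_option autoImplicit false
set_option linter.unusedSectionVars false
universe u v w w'

namespace Groth.Agent.Helper7.Comodule

open TensorProduct HopfRep

section Pts

variable {K : Type u} {A : Type v} [Field K] [CommRing A] [Bialgebra K A]
variable {V : Type w} [AddCommGroup V] [Module K V] [Comod K A V]

lemma act_pt_mul (g h : WithConv (A →ₐ[K] K)) :
    act (V := V) (g * h).ofConv.toLinearMap =
      act (V := V) g.ofConv.toLinearMap * act (V := V) h.ofConv.toLinearMap := by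
  apply LinearMap.ext
  intro v
  rw [Module.End.mul_apply, ← act_convMul]
  have h1 := AlgHom.toLinearMap_convMul g h
  have h2 := congrArg WithConv.ofConv h1
  rw [WithConv.ofConv_toConv, LinearMap.convMul_def, WithConv.ofConv_toConv] at h2
  rw [h2]

lemma act_pt_one :
    act (V := V) (1 : WithConv (A →ₐ[K] K)).ofConv.toLinearMap = 1 := by
  apply LinearMap.ext
  intro v
  rw [Module.End.one_apply]
  have h0 : (1 : WithConv (A →ₐ[K] K)).ofConv.toLinearMap =
      CoalgebraStruct.counit (R := K) (A := A) := by
    apply LinearMap.ext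
    intro a
    simp [AlgHom.convOne_def]
  rw [h0, act_counit]

lemma act_pt_pow (g : WithConv (A →ₐ[K] K)) (n : ℕ) :
    act (V := V) (g ^ n).ofConv.toLinearMap = (act (V := V) g.ofConv.toLinearMap) ^ n := by
  induction n with
  | zero => rw [pow_zero, pow_zero, act_pt_one]
  | succ n ih => rw [pow_succ, pow_succ, act_pt_mul, ih]

end Pts

end Groth.Agent.Helper7.Comodule

namespace Groth.Agent.Helper7.Comodule

open TensorProduct HopfRep

section Main

variable {K : Type u} {A : Type v} [Field K] [CommRing A] [Bialgebra K A]

/-- a point of finite order prime to the characteristic acts trivially on f.d. comodules -/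
lemma act_eq_one_of_finOrder (hU : IsUnipotent K A) (g : WithConv (A →ₐ[K] K)) (n : ℕ)
    (hn : g ^ n = 1) (hnK : (n : K) ≠ 0)
    (V : Type v) [AddCommGroup V] [Module K V] [Comod K A V] [Module.Finite K V] :
    act (V := V) g.ofConv.toLinearMap = 1 := by
  have h1 := act_sub_one_pow_eq_zero hU g.ofConv (Module.finrank K V) V le_rfl
  have h2 : (act (V := V) g.ofConv.toLinearMap) ^ n = 1 := by
    rw [← act_pt_pow, hn, act_pt_one]
  exact eq_one_of_unipotent_of_pow_eq_one (K := K) _ _ n h1 h2 hnK

theorem pt_eq_one_of_finOrder (hU : IsUnipotent K A) (g : WithConv (A →ₐ[K] K)) (n : ℕ)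
    (hn : g ^ n = 1) (hnK : (n : K) ≠ 0) : g = 1 := by
  have key : ∀ a : A, act (V := A) g.ofConv.toLinearMap a = a := by
    intro a
    let N : Submodule (Dual K A) A := Submodule.span (Dual K A) {a}
    have hfin : Module.Finite K ↥(N.restrictScalars K) := finite_span_singleton (K := K) (C := A) a
    letI := comodOfDualSub N
    have h1 := act_eq_one_of_finOrder hU g n hn hnK ↥(N.restrictScalars K)
    have ha : a ∈ N.restrictScalars K := Submodule.subset_span rfl
    have h2 := val_act_sub (N.restrictScalars K) (isSubcomod_restrictScalars N)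
      g.ofConv.toLinearMap ⟨a, ha⟩
    rw [h1] at h2
    exact h2.symm
  apply WithConv.ofConv_injective
  apply AlgHom.ext
  intro a
  have h3 := apply_sliceL (C := A) (CoalgebraStruct.counit (R := K) (A := A))
    g.ofConv.toLinearMap (CoalgebraStruct.comul (R := K) a)
  rw [sliceL_counit_comul] at h3
  have h4 : sliceR g.ofConv.toLinearMap (CoalgebraStruct.comul (R := K) a) = a := key a
  rw [h4] at h3
  have h5 : g.ofConv a = CoalgebraStruct.counit (R := K) a := h3
  rw [h5]
  simp [AlgHom.convOne_def]

end Main

end Groth.Agent.Helper7.Comodule
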