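import Mathlib
import Groth.Agent.Helper7.ComodF

set_option autoImplicit false
set_option linter.unusedSectionVars false
universe u v w w'

namespace Groth.Agent.Helper7.Comodule

open TensorProduct HopfRep

section FinCoeff

variable {K : Type u} {C : Type v} [Field K] [AddCommGroup C] [Module K C] [Coalgebra K C]
variable {V : Type w} [AddCommGroup V] [Module K V] [Comod K C V]

/-- `phi`, bundled as a linear map in the functional -/
noncomputable def phiL : (V →ₗ[K] K) →ₗ[K] (V →ₗ[K] C) where
  toFun l := phi (C := C) l
  map_add' l l' := by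
    apply LinearMap.ext
    intro v
    simp [phi, sliceL, LinearMap.rTensor_add]
  map_smul' c l := by
    apply LinearMap.ext
    intro v
    simp [phi, sliceL, LinearMap.rTensor_smul]

/-- matrix coefficients of a finite-dimensional comodule span a finite-dimensional space -/
lemma finite_coeff [Module.Finite K V] : Module.Finite K (coeff K C V) := by
  let Φ : (V →ₗ[K] K) ⊗[K] V →ₗ[K] C := TensorProduct.lift (phiL (C := C) (V := V))
  have hle : coeff K C V ≤ LinearMap.range Φ := by
    refine Submodule.span_le.2 ?_
    rintro _ ⟨⟨l, v⟩, rfl⟩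
    exact ⟨l ⊗ₜ[K] v, by simp [Φ, phiL, phi]⟩
  have : Module.Finite K (LinearMap.range Φ) := Module.Finite.range Φ
  exact Module.Finite.of_injective (Submodule.inclusion hle) (Submodule.inclusion_injective hle)

/-- S14839: a simple coalgebra is finite-dimensional -/
theorem finite_of_simple_coalgebra [Nontrivial C]
    (hsimple : ∀ B : Submodule K C,
      (∀ b ∈ B, CoalgebraStruct.comul (R := K) b ∈
        LinearMap.range (TensorProduct.map B.subtype B.subtype)) → B = ⊥ ∨ B = ⊤) :
    Module.Finite K C := by
  obtain ⟨c, hc⟩ := exists_ne (0 : C)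
  let N : Submodule (Dual K C) C := Submodule.span (Dual K C) {c}
  have hfin : Module.Finite K ↥(N.restrictScalars K) := finite_span_singleton (K := K) (C := C) c
  letI := comodOfDualSub N
  have hcN : c ∈ N.restrictScalars K := Submodule.subset_span rfl
  have hnt : Nontrivial ↥(N.restrictScalars K) :=
    ⟨⟨⟨c, hcN⟩, 0, fun h => hc (congrArg Subtype.val h)⟩⟩
  have hB := hsimple (coeff K C ↥(N.restrictScalars K)) (fun b hb => coeff_comul b hb)
  have hfinB : Module.Finite K (coeff K C ↥(N.restrictScalars K)) := finite_coeff
  rcases hB with hB | hB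
  · exact absurd hB coeff_ne_bot
  · rw [hB] at hfinB
    exact Module.Finite.of_surjective (⊤ : Submodule K C).subtype
      (fun x => ⟨⟨x, trivial⟩, rfl⟩)

end FinCoeff

end Groth.Agent.Helper7.Comodule
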