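import Mathlib

namespace Groth.Agent.Helper7.CompLat

open Finset

theorem abstract_index {G : Type*} [AddCommGroup G] (D : G →+ G) (hD : Function.Injective D)
    (S : G →+ ℤ) (hS : Function.Surjective S) (H : AddSubgroup G) (hH : H ≤ (S.comp D).ker) :
    H.relIndex (S.comp D).ker * D.range.index =
      (D.range.map S).index * (H.map D).relIndex S.ker := by
  have hker : (S.comp D).ker.map D = D.range ⊓ S.ker := by
    ext x
    simp only [AddSubgroup.mem_map, AddMonoidHom.mem_ker, AddMonoidHom.comp_apply,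
      AddSubgroup.mem_inf, AddMonoidHom.mem_range]
    constructor
    · rintro ⟨y, hy, rfl⟩
      exact ⟨⟨y, rfl⟩, hy⟩
    · rintro ⟨⟨y, rfl⟩, hy⟩
      exact ⟨y, hy, rfl⟩
  have h1 : H.relIndex (S.comp D).ker = (H.map D).relIndex (D.range ⊓ S.ker) := by
    rw [← hker, AddSubgroup.relIndex_map_map_of_injective _ _ hD]
  have hle1 : H.map D ≤ D.range ⊓ S.ker := by
    rw [← hker]
    exact AddSubgroup.map_mono hH
  have h2 : (H.map D).relIndex S.ker =
      (H.map D).relIndex (D.range ⊓ S.ker) * D.range.relIndex S.ker := by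
    rw [← AddSubgroup.relIndex_mul_relIndex _ _ _ hle1 inf_le_right,
      AddSubgroup.inf_relIndex_right]
  have h3 : D.range.index = D.range.relIndex S.ker * (D.range.map S).index := by
    rw [AddSubgroup.index_map, AddMonoidHom.range_eq_top.mpr hS, AddSubgroup.index_top, mul_one,
      ← AddSubgroup.relIndex_mul_index (le_sup_left : D.range ≤ D.range ⊔ S.ker),
      sup_comm, AddSubgroup.relIndex_sup_right]
  rw [h1, h2, h3]
  ring

theorem card_quot_comap {R M : Type*} [Ring R] [AddCommGroup M] [Module R M]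
    (K P : Submodule R M) :
    Nat.card (↥K ⧸ P.comap K.subtype) = P.toAddSubgroup.relIndex K.toAddSubgroup := rfl

end Groth.Agent.Helper7.CompLat

namespace Groth.Agent.Helper7.CompLat

open Finset

variable {n : ℕ}

/-- sum map -/
abbrev Sm (n : ℕ) : (Fin n → ℤ) →ₗ[ℤ] ℤ := ∑ i : Fin n, (LinearMap.proj i : (Fin n → ℤ) →ₗ[ℤ] ℤ)

theorem Sm_apply (x : Fin n → ℤ) : Sm n x = ∑ i, x i := by
  simp [Sm, LinearMap.sum_apply]

abbrev Dm (δ : Fin n → ℤ) : (Fin n → ℤ) →ₗ[ℤ] (Fin n → ℤ) := Matrix.mulVecLin (Matrix.diagonal δ)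

theorem Dm_apply (δ x : Fin n → ℤ) (i : Fin n) : Dm δ x i = δ i * x i := by
  simp [Dm, Matrix.mulVec_diagonal]

theorem Dm_injective (δ : Fin n → ℤ) (hδ : ∀ i, δ i ≠ 0) : Function.Injective (Dm δ) := by
  intro x y hxy
  ext i
  have := congrFun hxy i
  rw [Dm_apply, Dm_apply] at this
  exact mul_left_cancel₀ (hδ i) this

theorem Sm_surjective (hn : 0 < n) : Function.Surjective (Sm n) := by
  intro c
  refine ⟨Pi.single ⟨0, hn⟩ c, ?_⟩
  rw [Sm_apply, Finset.sum_eq_single ⟨0, hn⟩]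
  · simp
  · intro b _ hb
    simp [Pi.single_apply, hb]
  · simp

theorem range_Dm (δ : Fin n → ℤ) : (LinearMap.range (Dm δ)).toAddSubgroup =
    AddSubgroup.pi Set.univ (fun i => AddSubgroup.zmultiples (δ i)) := by
  ext x
  simp only [Submodule.mem_toAddSubgroup, LinearMap.mem_range, AddSubgroup.mem_pi, Set.mem_univ,
    forall_true_left, Int.mem_zmultiples_iff]
  constructor
  · rintro ⟨y, rfl⟩ i
    rw [Dm_apply]
    exact dvd_mul_right _ _
  · intro h
    choose y hy using h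
    refine ⟨y, ?_⟩
    ext i
    rw [Dm_apply, hy i]

theorem index_range_Dm (δ : Fin n → ℤ) :
    (LinearMap.range (Dm δ)).toAddSubgroup.index = ∏ i, (δ i).natAbs := by
  rw [range_Dm, AddSubgroup.index_pi]
  simp [Int.index_zmultiples]

theorem gcd_mem (T : AddSubgroup ℤ) (δ : Fin n → ℤ) (s : Finset (Fin n))
    (h : ∀ i ∈ s, δ i ∈ T) : s.gcd δ ∈ T := by
  classical
  induction s using Finset.induction_on with
  | empty => simp
  | insert b s hb ih =>
    rw [Finset.gcd_insert, ← Int.coe_gcd, Int.gcd_eq_gcd_ab]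
    apply T.add_mem
    · rw [mul_comm, ← smul_eq_mul]
      exact T.zsmul_mem (h b (Finset.mem_insert_self b s)) _
    · rw [mul_comm, ← smul_eq_mul]
      exact T.zsmul_mem (ih fun i hi => h i (Finset.mem_insert_of_mem hi)) _

theorem map_range_eq (δ : Fin n → ℤ) :
    (LinearMap.range (Dm δ)).toAddSubgroup.map (Sm n).toAddMonoidHom =
      AddSubgroup.zmultiples (univ.gcd δ) := by
  classical
  apply le_antisymm
  · rintro x ⟨y, ⟨z, rfl⟩, rfl⟩
    rw [Int.mem_zmultiples_iff]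
    change _ ∣ Sm n (Dm δ z)
    rw [Sm_apply]
    apply Finset.dvd_sum
    intro i _
    rw [Dm_apply]
    exact Dvd.dvd.mul_right (Finset.gcd_dvd (Finset.mem_univ i)) _
  · rw [AddSubgroup.zmultiples_le]
    apply gcd_mem
    intro i _
    refine ⟨Dm δ (Pi.single i 1), ⟨Pi.single i 1, rfl⟩, ?_⟩
    change Sm n (Dm δ (Pi.single i 1)) = δ i
    rw [Sm_apply, Finset.sum_eq_single i]
    · simp [Dm_apply]
    · intro b _ hb
      simp [Dm_apply, Pi.single_apply, hb]
    · simp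

end Groth.Agent.Helper7.CompLat

namespace Groth.Agent.Helper7.CompLat

open Finset

variable {n : ℕ}

theorem gcd_nonneg (δ : Fin n → ℤ) : 0 ≤ (univ.gcd δ : ℤ) :=
  Int.nonneg_of_normalize_eq_self (Finset.normalize_gcd)

theorem result05 (n : ℕ) (hn : 0 < n) (δ : Fin n → ℤ) (hδ : ∀ i, δ i ≠ 0)
    (A : Matrix (Fin n) (Fin n) ℤ)
    (hSDA : (Sm n) ∘ₗ (Dm δ) ∘ₗ (Matrix.mulVecLin A) = 0) :
    (Nat.card (LinearMap.ker ((Sm n) ∘ₗ (Dm δ)) ⧸
          (LinearMap.range (Matrix.mulVecLin A)).comap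
            (LinearMap.ker ((Sm n) ∘ₗ (Dm δ))).subtype) : ℤ) * |∏ i, δ i| =
      (univ.gcd δ) * Nat.card (LinearMap.ker (Sm n) ⧸
        (LinearMap.range ((Dm δ) ∘ₗ (Matrix.mulVecLin A))).comap (LinearMap.ker (Sm n)).subtype) := by
  rw [card_quot_comap, card_quot_comap]
  have hH : (LinearMap.range (Matrix.mulVecLin A)).toAddSubgroup ≤
      ((Sm n).toAddMonoidHom.comp (Dm δ).toAddMonoidHom).ker := by
    rintro x ⟨y, rfl⟩
    rw [AddMonoidHom.mem_ker]
    exact LinearMap.congr_fun hSDA y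
  have key := abstract_index (Dm δ).toAddMonoidHom (Dm_injective δ hδ) (Sm n).toAddMonoidHom
    (Sm_surjective hn) (LinearMap.range (Matrix.mulVecLin A)).toAddSubgroup hH
  have e1 : ((Sm n).toAddMonoidHom.comp (Dm δ).toAddMonoidHom).ker =
      (LinearMap.ker ((Sm n) ∘ₗ (Dm δ))).toAddSubgroup := by
    ext x; rfl
  have e2 : (Dm δ).toAddMonoidHom.range = (LinearMap.range (Dm δ)).toAddSubgroup := by
    ext x; rfl
  have e3 : (LinearMap.range (Matrix.mulVecLin A)).toAddSubgroup.map (Dm δ).toAddMonoidHom =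
      (LinearMap.range ((Dm δ) ∘ₗ (Matrix.mulVecLin A))).toAddSubgroup := by
    ext x
    simp only [AddSubgroup.mem_map, Submodule.mem_toAddSubgroup, LinearMap.mem_range,
      LinearMap.coe_comp, Function.comp_apply]
    constructor
    · rintro ⟨y, ⟨z, rfl⟩, rfl⟩
      exact ⟨z, rfl⟩
    · rintro ⟨z, rfl⟩
      exact ⟨_, ⟨z, rfl⟩, rfl⟩
  have e4 : (Sm n).toAddMonoidHom.ker = (LinearMap.ker (Sm n)).toAddSubgroup := by
    ext x; rfl
  rw [e1, e2, e3, e4, index_range_Dm, map_range_eq, Int.index_zmultiples] at key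
  have h1 : |∏ i, δ i| = ((∏ i, (δ i).natAbs : ℕ) : ℤ) := by
    rw [Finset.abs_prod, Nat.cast_prod]
    exact Finset.prod_congr rfl fun i _ => (Int.natCast_natAbs _).symm
  have h2 : (univ.gcd δ : ℤ) = (((univ.gcd δ).natAbs : ℕ) : ℤ) :=
    (Int.natAbs_of_nonneg (gcd_nonneg δ)).symm
  rw [h1, h2]
  exact_mod_cast key

end Groth.Agent.Helper7.CompLat
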