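import Groth.Agent.Helper7.CompLat

namespace Groth.Agent.Helper7.CompLat

open Finset

theorem abstract_index2 {G : Type*} [AddCommGroup G] (Am : G →+ G) (E : AddSubgroup G) :
    E.index = E.relIndex Am.ker * (E.map Am).relIndex Am.range := by
  rw [← AddSubgroup.index_comap, AddSubgroup.comap_map_eq,
    ← AddSubgroup.relIndex_mul_index (le_sup_left : E ≤ E ⊔ Am.ker), AddSubgroup.relIndex_sup_left]

variable {n : ℕ}

theorem finrank_ker (hn : 0 < n) (A : Matrix (Fin n) (Fin n) ℤ) (hA : A.rank = n - 1) :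
    Module.finrank ℤ (LinearMap.ker (Matrix.mulVecLin A)) = 1 := by
  have h1 := Submodule.finrank_quotient_add_finrank (LinearMap.ker (Matrix.mulVecLin A))
  have h2 := (LinearMap.quotKerEquivRange (Matrix.mulVecLin A)).finrank_eq
  rw [Matrix.rank] at hA
  rw [h2, hA] at h1
  simp only [Module.finrank_pi, Fintype.card_fin] at h1
  omega

theorem exists_rel (hn : 0 < n) (A : Matrix (Fin n) (Fin n) ℤ) (hA : A.rank = n - 1)
    (x y : Fin n → ℤ) (hx : A.mulVec x = 0) (hy : A.mulVec y = 0) :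
    ∃ a b : ℤ, a • x + b • y = 0 ∧ (a ≠ 0 ∨ b ≠ 0) := by
  have hfr := finrank_ker hn A hA
  have hx' : x ∈ LinearMap.ker (Matrix.mulVecLin A) := by
    rw [LinearMap.mem_ker]; exact hx
  have hy' : y ∈ LinearMap.ker (Matrix.mulVecLin A) := by
    rw [LinearMap.mem_ker]; exact hy
  have hnli : ¬ LinearIndependent ℤ
      (![⟨x, hx'⟩, ⟨y, hy'⟩] : Fin 2 → LinearMap.ker (Matrix.mulVecLin A)) := by
    intro hli
    have := hli.fintype_card_le_finrank
    rw [hfr] at this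
    simp at this
  rw [Fintype.not_linearIndependent_iff] at hnli
  obtain ⟨g, hg, i, hi⟩ := hnli
  refine ⟨g 0, g 1, ?_, ?_⟩
  · have := congrArg Subtype.val hg
    simpa [Fin.sum_univ_two] using this
  · fin_cases i
    · left; exact hi
    · right; exact hi

end Groth.Agent.Helper7.CompLat

namespace Groth.Agent.Helper7.CompLat

open Finset

variable {n : ℕ}

theorem gcd_ne_zero (hn : 0 < n) (δ' : Fin n → ℤ) (hδ' : ∀ i, δ' i ≠ 0) : univ.gcd δ' ≠ 0 := by
  intro h
  rw [Finset.gcd_eq_zero_iff] at h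
  exact hδ' ⟨0, hn⟩ (h _ (Finset.mem_univ _))

theorem ker_eq_zmultiples (hn : 0 < n) (δ' : Fin n → ℤ) (hδ' : ∀ i, δ' i ≠ 0)
    (A : Matrix (Fin n) (Fin n) ℤ) (hA : A.rank = n - 1) (hAδ : A.mulVec δ' = 0) :
    (LinearMap.ker (Matrix.mulVecLin A)).toAddSubgroup =
      AddSubgroup.zmultiples (fun i => δ' i / univ.gcd δ') := by
  set g := univ.gcd δ' with hg
  have hg0 : g ≠ 0 := gcd_ne_zero hn δ' hδ'
  set v₀ : Fin n → ℤ := fun i => δ' i / g with hv₀
  have hgv : ∀ i, g * v₀ i = δ' i := fun i =>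
    Int.mul_ediv_cancel' (Finset.gcd_dvd (Finset.mem_univ i))
  have hgv' : g • v₀ = δ' := by
    ext i; simp [hgv]
  have hprim : univ.gcd v₀ = 1 := Finset.gcd_div_eq_one (Finset.mem_univ ⟨0, hn⟩) (hδ' _)
  have hAv : A.mulVec v₀ = 0 := by
    have : g • A.mulVec v₀ = 0 := by
      rw [← Matrix.mulVec_smul, hgv', hAδ]
    exact (smul_eq_zero.mp this).resolve_left hg0
  apply le_antisymm
  · intro x hx
    have hx' : A.mulVec x = 0 := hx
    obtain ⟨a, b, hab, hne⟩ := exists_rel hn A hA x δ' hx' hAδ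
    have ha : a ≠ 0 := by
      rintro rfl
      rcases hne with h | h
      · exact h rfl
      · apply h
        simp only [zero_smul, zero_add] at hab
        have := congrFun hab ⟨0, hn⟩
        simp only [Pi.smul_apply, smul_eq_mul, Pi.zero_apply, mul_eq_zero] at this
        exact this.resolve_right (hδ' _)
    -- a * x i = (-b * g) * v₀ i
    have hrel : ∀ i, a * x i = (-b * g) * v₀ i := by
      intro i
      have := congrFun hab i
      simp only [Pi.add_apply, Pi.smul_apply, smul_eq_mul, Pi.zero_apply] at this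
      rw [mul_assoc, hgv]
      linarith
    have hdvd : a ∣ (-b * g) := by
      have h1 : a ∣ univ.gcd (fun i => (-b * g) * v₀ i) := by
        apply Finset.dvd_gcd
        intro i _
        exact ⟨x i, (hrel i).symm⟩
      rw [Finset.gcd_mul_left, hprim, mul_one] at h1
      exact dvd_normalize_iff.mp h1
    obtain ⟨e, he⟩ := hdvd
    rw [AddSubgroup.mem_zmultiples_iff]
    refine ⟨e, ?_⟩
    ext i
    have := hrel i
    rw [he, mul_assoc] at this
    simp only [Pi.smul_apply, smul_eq_mul]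
    exact (mul_left_cancel₀ ha this).symm
  · rw [AddSubgroup.zmultiples_le]
    exact hAv

theorem inf_eq_zmultiples (hn : 0 < n) (δ' : Fin n → ℤ) (hδ' : ∀ i, δ' i ≠ 0) :
    (LinearMap.range (Dm δ')).toAddSubgroup ⊓
      AddSubgroup.zmultiples (fun i => δ' i / univ.gcd δ') =
      AddSubgroup.zmultiples δ' := by
  set g := univ.gcd δ' with hg
  have hg0 : g ≠ 0 := gcd_ne_zero hn δ' hδ'
  set v₀ : Fin n → ℤ := fun i => δ' i / g with hv₀
  have hgv : ∀ i, g * v₀ i = δ' i := fun i =>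
    Int.mul_ediv_cancel' (Finset.gcd_dvd (Finset.mem_univ i))
  have hgv' : g • v₀ = δ' := by
    ext i; simp [hgv]
  apply le_antisymm
  · rintro x ⟨hx1, hx2⟩
    have hx2' : x ∈ AddSubgroup.zmultiples v₀ := hx2
    rw [AddSubgroup.mem_zmultiples_iff] at hx2'
    obtain ⟨e, rfl⟩ := hx2'
    have hx1' : e • v₀ ∈ LinearMap.range (Dm δ') := hx1
    obtain ⟨y, hy⟩ := hx1'
    have h0 := congrFun hy ⟨0, hn⟩
    rw [Dm_apply] at h0
    simp only [Pi.smul_apply, smul_eq_mul] at h0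
    have hv0 : v₀ ⟨0, hn⟩ ≠ 0 := by
      intro h
      have := hgv ⟨0, hn⟩
      rw [h, mul_zero] at this
      exact hδ' _ this.symm
    have hdvd : g ∣ e := by
      have : g * v₀ ⟨0, hn⟩ ∣ e * v₀ ⟨0, hn⟩ := by
        rw [hgv]
        exact ⟨y ⟨0, hn⟩, h0.symm⟩
      exact (mul_dvd_mul_iff_right hv0).mp this
    obtain ⟨e', rfl⟩ := hdvd
    rw [AddSubgroup.mem_zmultiples_iff]
    refine ⟨e', ?_⟩
    rw [← hgv', smul_smul, mul_comm]
  · rw [AddSubgroup.zmultiples_le]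
    refine ⟨⟨fun _ => 1, ?_⟩, ?_⟩
    · ext i
      rw [Dm_apply, mul_one]
    · change δ' ∈ AddSubgroup.zmultiples v₀
      rw [AddSubgroup.mem_zmultiples_iff]
      exact ⟨g, hgv'⟩

theorem relIndex_zmultiples (hn : 0 < n) (v₀ : Fin n → ℤ) (hv₀ : v₀ ≠ 0) (g : ℤ) :
    (AddSubgroup.zmultiples (g • v₀)).relIndex (AddSubgroup.zmultiples v₀) = g.natAbs := by
  set f : ℤ →+ (Fin n → ℤ) := zmultiplesHom (Fin n → ℤ) v₀ with hf
  have hfinj : Function.Injective f := by
    intro a b hab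
    simp only [hf, zmultiplesHom_apply] at hab
    have : (a - b) • v₀ = 0 := by rw [sub_smul, hab, sub_self]
    have := (smul_eq_zero.mp this).resolve_right hv₀
    linarith
  have h1 : AddSubgroup.zmultiples v₀ = (⊤ : AddSubgroup ℤ).map f := by
    ext x
    simp [AddSubgroup.mem_zmultiples_iff, hf]
  have h2 : AddSubgroup.zmultiples (g • v₀) = (AddSubgroup.zmultiples g).map f := by
    ext x
    simp only [AddSubgroup.mem_zmultiples_iff, AddSubgroup.mem_map, hf, zmultiplesHom_apply]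
    constructor
    · rintro ⟨k, rfl⟩
      exact ⟨k * g, ⟨k, by simp⟩, by rw [smul_smul]⟩
    · rintro ⟨y, ⟨k, rfl⟩, rfl⟩
      exact ⟨k, by rw [smul_smul]; simp⟩
  rw [h1, h2, AddSubgroup.relIndex_map_map_of_injective _ _ hfinj, AddSubgroup.relIndex_top_right,
    Int.index_zmultiples]

end Groth.Agent.Helper7.CompLat

namespace Groth.Agent.Helper7.CompLat

open Finset

theorem result06 (n : ℕ) (hn : 0 < n) (δ δ' : Fin n → ℤ) (hδ : ∀ i, δ i ≠ 0)
    (hδ' : ∀ i, δ' i ≠ 0)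
    (A : Matrix (Fin n) (Fin n) ℤ) (hA : A.rank = n - 1)
    (hSDA : (Sm n) ∘ₗ (Dm δ) ∘ₗ (Matrix.mulVecLin A) = 0)
    (hADΔ : (Matrix.mulVecLin A) ∘ₗ (Dm δ') ∘ₗ
        (LinearMap.pi fun _ : Fin n => (LinearMap.id : ℤ →ₗ[ℤ] ℤ)) = 0) :
    (Nat.card (LinearMap.ker ((Sm n) ∘ₗ (Dm δ)) ⧸
          (LinearMap.range (Matrix.mulVecLin A)).comap
            (LinearMap.ker ((Sm n) ∘ₗ (Dm δ))).subtype) : ℤ) * |∏ i, δ i| * |∏ i, δ' i| =
      (univ.gcd δ) * (univ.gcd δ') * Nat.card (LinearMap.ker (Sm n) ⧸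
        (LinearMap.range ((Dm δ) ∘ₗ (Matrix.mulVecLin A) ∘ₗ (Dm δ'))).comap
          (LinearMap.ker (Sm n)).subtype) := by
  rw [result05 n hn δ hδ A hSDA, card_quot_comap, card_quot_comap]
  have hAδ : A.mulVec δ' = 0 := by
    have := LinearMap.congr_fun hADΔ 1
    simp only [LinearMap.coe_comp, Function.comp_apply, LinearMap.zero_apply] at this
    have h1 : (Dm δ') ((LinearMap.pi fun _ : Fin n => (LinearMap.id : ℤ →ₗ[ℤ] ℤ)) 1) = δ' := by
      ext i
      rw [Dm_apply]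
      simp
    rw [h1] at this
    exact this
  set g := univ.gcd δ' with hg
  set v₀ : Fin n → ℤ := fun i => δ' i / g with hv₀
  have hgv' : g • v₀ = δ' := by
    ext i
    simp only [Pi.smul_apply, smul_eq_mul, hv₀]
    exact Int.mul_ediv_cancel' (Finset.gcd_dvd (Finset.mem_univ i))
  have hv₀0 : v₀ ≠ 0 := by
    intro h
    rw [h, smul_zero] at hgv'
    exact hδ' ⟨0, hn⟩ (congrFun hgv'.symm ⟨0, hn⟩)
  have hK := ker_eq_zmultiples hn δ' hδ' A hA hAδ
  have hEK : (LinearMap.range (Dm δ')).toAddSubgroup.relIndex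
      (LinearMap.ker (Matrix.mulVecLin A)).toAddSubgroup = g.natAbs := by
    rw [hK, ← AddSubgroup.inf_relIndex_right, inf_eq_zmultiples hn δ' hδ']
    have := relIndex_zmultiples hn v₀ hv₀0 g
    rw [hgv'] at this
    exact this
  have h2 := abstract_index2 (Matrix.mulVecLin A).toAddMonoidHom
    (LinearMap.range (Dm δ')).toAddSubgroup
  have e1 : (Matrix.mulVecLin A).toAddMonoidHom.ker =
      (LinearMap.ker (Matrix.mulVecLin A)).toAddSubgroup := by
    ext x; rfl
  have e2 : (Matrix.mulVecLin A).toAddMonoidHom.range =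
      (LinearMap.range (Matrix.mulVecLin A)).toAddSubgroup := by
    ext x; rfl
  have e3 : (LinearMap.range (Dm δ')).toAddSubgroup.map (Matrix.mulVecLin A).toAddMonoidHom =
      (LinearMap.range ((Matrix.mulVecLin A) ∘ₗ (Dm δ'))).toAddSubgroup := by
    ext x
    simp only [AddSubgroup.mem_map, Submodule.mem_toAddSubgroup, LinearMap.mem_range,
      LinearMap.coe_comp, Function.comp_apply]
    constructor
    · rintro ⟨y, ⟨z, rfl⟩, rfl⟩
      exact ⟨z, rfl⟩
    · rintro ⟨z, rfl⟩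
      exact ⟨_, ⟨z, rfl⟩, rfl⟩
  rw [e1, e2, e3, hEK, index_range_Dm] at h2
  -- transport along D
  have hDinj := Dm_injective δ hδ
  have h3 := AddSubgroup.relIndex_map_map_of_injective
    (LinearMap.range ((Matrix.mulVecLin A) ∘ₗ (Dm δ'))).toAddSubgroup
    (LinearMap.range (Matrix.mulVecLin A)).toAddSubgroup (f := (Dm δ).toAddMonoidHom) hDinj
  have e4 : (LinearMap.range ((Matrix.mulVecLin A) ∘ₗ (Dm δ'))).toAddSubgroup.map
      (Dm δ).toAddMonoidHom =
      (LinearMap.range ((Dm δ) ∘ₗ (Matrix.mulVecLin A) ∘ₗ (Dm δ'))).toAddSubgroup := by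
    ext x
    simp only [AddSubgroup.mem_map, Submodule.mem_toAddSubgroup, LinearMap.mem_range,
      LinearMap.coe_comp, Function.comp_apply]
    constructor
    · rintro ⟨y, ⟨z, rfl⟩, rfl⟩
      exact ⟨z, rfl⟩
    · rintro ⟨z, rfl⟩
      exact ⟨_, ⟨z, rfl⟩, rfl⟩
  have e5 : (LinearMap.range (Matrix.mulVecLin A)).toAddSubgroup.map (Dm δ).toAddMonoidHom =
      (LinearMap.range ((Dm δ) ∘ₗ (Matrix.mulVecLin A))).toAddSubgroup := by
    ext x
    simp only [AddSubgroup.mem_map, Submodule.mem_toAddSubgroup, LinearMap.mem_range,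
      LinearMap.coe_comp, Function.comp_apply]
    constructor
    · rintro ⟨y, ⟨z, rfl⟩, rfl⟩
      exact ⟨z, rfl⟩
    · rintro ⟨z, rfl⟩
      exact ⟨_, ⟨z, rfl⟩, rfl⟩
  rw [e4, e5] at h3
  have hle1 : (LinearMap.range ((Dm δ) ∘ₗ (Matrix.mulVecLin A) ∘ₗ (Dm δ'))).toAddSubgroup ≤
      (LinearMap.range ((Dm δ) ∘ₗ (Matrix.mulVecLin A))).toAddSubgroup := by
    rintro x ⟨z, rfl⟩
    exact ⟨Dm δ' z, rfl⟩
  have hle2 : (LinearMap.range ((Dm δ) ∘ₗ (Matrix.mulVecLin A))).toAddSubgroup ≤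
      (LinearMap.ker (Sm n)).toAddSubgroup := by
    rintro x ⟨z, rfl⟩
    exact LinearMap.congr_fun hSDA z
  have h4 := AddSubgroup.relIndex_mul_relIndex _ _ _ hle1 hle2
  rw [h3] at h4
  have h1 : |∏ i, δ' i| = ((∏ i, (δ' i).natAbs : ℕ) : ℤ) := by
    rw [Finset.abs_prod, Nat.cast_prod]
    exact Finset.prod_congr rfl fun i _ => (Int.natCast_natAbs _).symm
  have hgabs : (g : ℤ) = ((g.natAbs : ℕ) : ℤ) :=
    (Int.natAbs_of_nonneg (gcd_nonneg δ')).symm
  rw [h1, hgabs, ← h4, h2]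
  push_cast
  ring

end Groth.Agent.Helper7.CompLat
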