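import Mathlib

namespace Groth.Agent.Helper7.Compl

set_option linter.unusedSectionVars false

open Pointwise

section core

variable {R : Type*} [CommRing R] (a : R) {M N : Type*} [AddCommGroup M] [Module R M]
  [AddCommGroup N] [Module R N]

lemma mem_pow_smul_top (k : ℕ) (x : M) :
    x ∈ ((Ideal.span {a}) ^ k • ⊤ : Submodule R M) ↔ ∃ y : M, x = a ^ k • y := by
  rw [Ideal.span_singleton_pow, Submodule.ideal_span_singleton_smul,
    Submodule.mem_smul_pointwise_iff_exists]
  constructor
  · rintro ⟨y, -, rfl⟩; exact ⟨y, rfl⟩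
  · rintro ⟨y, rfl⟩; exact ⟨y, trivial, rfl⟩

variable (f : M →ₗ[R] N) (hf : Function.Surjective f) (r : R)
  (hker : ∀ x : M, f x = 0 ↔ ∃ y : M, x = r • y)
  (hreg : IsSMulRegular M r) (c : ℕ)
  (hbd : ∀ y : N, (∃ m : ℕ, a ^ m • y = 0) → a ^ c • y = 0)

include hker hreg hbd in
/-- the key Artin–Rees type estimate -/
lemma key (k : ℕ) (w : M) (hw : r • w ∈ ((Ideal.span {a}) ^ (k + c) • ⊤ : Submodule R M)) :
    w ∈ ((Ideal.span {a}) ^ k • ⊤ : Submodule R M) := by
  rw [mem_pow_smul_top] at hw ⊢
  obtain ⟨y, hy⟩ := hw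
  have h1 : a ^ (k + c) • f y = 0 := by
    rw [← map_smul, ← hy, hker]
    exact ⟨w, rfl⟩
  have h2 : a ^ c • f y = 0 := hbd _ ⟨_, h1⟩
  rw [← map_smul, hker] at h2
  obtain ⟨z, hz⟩ := h2
  refine ⟨z, hreg ?_⟩
  show r • w = r • (a ^ k • z)
  rw [hy, pow_add, mul_smul, hz, smul_comm]

include hker hreg hbd in
theorem smul_injective (x : AdicCompletion (Ideal.span {a}) M) (hx : r • x = 0) : x = 0 := by
  induction x using AdicCompletion.induction_on with
  | h m =>
    apply AdicCompletion.mk_zero_of
    refine ⟨0, fun n _ => ⟨n + c, by omega, n, le_refl _, ?_⟩⟩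
    apply key a f r hker hreg c hbd n
    have h1 := congrArg (fun t => t.val (n + c)) hx
    simp only [AdicCompletion.val_smul_apply, AdicCompletion.mk_apply_coe,
      AdicCompletion.val_zero_apply, Submodule.mkQ_apply] at h1
    rw [← Submodule.Quotient.mk_smul, Submodule.Quotient.mk_eq_zero] at h1
    exact h1

include hf hker hreg hbd in
theorem ker_map (x : AdicCompletion (Ideal.span {a}) M)
    (hx : AdicCompletion.map (Ideal.span {a}) f x = 0) :
    ∃ u : AdicCompletion (Ideal.span {a}) M, x = r • u := by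
  induction x using AdicCompletion.induction_on with
  | h m =>
    -- `f (m k) ∈ a^k N`
    have h1 : ∀ k, ∃ (u : M) (m' : M), m k = r • u + a ^ k • m' := by
      intro k
      have h2 := congrArg (fun t => t.val k) hx
      simp only [AdicCompletion.map_mk, AdicCompletion.mk_apply_coe,
        AdicCompletion.val_zero_apply, Submodule.mkQ_apply] at h2
      rw [Submodule.Quotient.mk_eq_zero] at h2
      have h3 : f (m k) ∈ ((Ideal.span {a}) ^ k • ⊤ : Submodule R N) := h2
      rw [mem_pow_smul_top] at h3
      obtain ⟨y, hy⟩ := h3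
      obtain ⟨m', rfl⟩ := hf y
      have h4 : f (m k - a ^ k • m') = 0 := by rw [map_sub, map_smul, hy, sub_self]
      rw [hker] at h4
      obtain ⟨u, hu⟩ := h4
      exact ⟨u, m', by rw [← hu]; abel⟩
    choose u m' hum using h1
    have hcauchy : ∀ j, u (j + c) ≡ u (j + 1 + c)
        [SMOD ((Ideal.span {a}) ^ j • ⊤ : Submodule R M)] := by
      intro j
      rw [SModEq.sub_mem]
      apply key a f r hker hreg c hbd j
      have h5 : r • (u (j + c) - u (j + 1 + c)) =
          (m (j + c) - m (j + 1 + c)) - a ^ (j + c) • m' (j + c) +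
            a ^ (j + 1 + c) • m' (j + 1 + c) := by
        rw [hum (j + c), hum (j + 1 + c), smul_sub]
        abel
      rw [h5]
      refine Submodule.add_mem _ (Submodule.sub_mem _ ?_ ?_) ?_
      · have := m.property (show j + c ≤ j + 1 + c by omega)
        rw [SModEq.sub_mem] at this
        exact this
      · rw [mem_pow_smul_top]; exact ⟨_, rfl⟩
      · rw [mem_pow_smul_top]
        refine ⟨a • m' (j + 1 + c), ?_⟩
        rw [← mul_smul, ← pow_succ]
        congr 2
        omega
    refine ⟨AdicCompletion.mk _ M (AdicCompletion.AdicCauchySequence.mk _ M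
      (fun j => u (j + c)) hcauchy), ?_⟩
    apply AdicCompletion.ext
    intro j
    simp only [AdicCompletion.val_smul_apply, AdicCompletion.mk_apply_coe, Submodule.mkQ_apply,
      AdicCompletion.AdicCauchySequence.mk_coe]
    rw [← Submodule.Quotient.mk_smul, ← AdicCompletion.AdicCauchySequence.mk_eq_mk
      (show j ≤ j + c by omega) m, Submodule.Quotient.eq, hum (j + c), add_sub_cancel_left]
    have h6 : a ^ (j + c) • m' (j + c) ∈ ((Ideal.span {a}) ^ (j + c) • ⊤ : Submodule R M) := by
      rw [mem_pow_smul_top]; exact ⟨_, rfl⟩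
    exact Submodule.smul_mono_left (Ideal.pow_le_pow_right (by omega)) h6

end core

end Groth.Agent.Helper7.Compl
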