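import Mathlib
import Groth.Agent.Helper7.Compl1

namespace Groth.Agent.Helper7.Compl

set_option linter.unusedSectionVars false

open RingTheory.Sequence

universe u

section main

variable (A : Type u) [CommRing A] (a : A) (rs : List A)

/-- the ideal generated by the first `i` elements -/
abbrev J (i : ℕ) : Ideal A := Ideal.ofList (rs.take i)

lemma J_succ (i : ℕ) (hi : i < rs.length) : J A rs (i + 1) = J A rs i ⊔ Ideal.span {rs[i]} := by
  rw [J, J, List.take_succ_eq_append_getElem hi, Ideal.ofList_append, Ideal.ofList_singleton]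

lemma J_le (i : ℕ) (hi : i < rs.length) : J A rs i ≤ J A rs (i + 1) := by
  rw [J_succ A rs i hi]; exact le_sup_left

/-- the transition maps between successive quotients -/
noncomputable def tr (i : ℕ) (hi : i < rs.length) : (A ⧸ J A rs i) →ₗ[A] (A ⧸ J A rs (i + 1)) :=
  Submodule.mapQ (J A rs i) (J A rs (i + 1)) LinearMap.id (by
    intro x hx
    exact J_le A rs i hi hx)

lemma tr_mk (i : ℕ) (hi : i < rs.length) (t : A) :
    tr A rs i hi (Submodule.Quotient.mk t) = Submodule.Quotient.mk t := rfl

lemma tr_surjective (i : ℕ) (hi : i < rs.length) : Function.Surjective (tr A rs i hi) := by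
  intro y
  obtain ⟨t, rfl⟩ := Submodule.Quotient.mk_surjective _ y
  exact ⟨Submodule.Quotient.mk t, rfl⟩

lemma tr_ker (i : ℕ) (hi : i < rs.length) (x : A ⧸ J A rs i) :
    tr A rs i hi x = 0 ↔ ∃ y : A ⧸ J A rs i, x = rs[i] • y := by
  obtain ⟨t, rfl⟩ := Submodule.Quotient.mk_surjective _ x
  rw [tr_mk, Submodule.Quotient.mk_eq_zero, J_succ A rs i hi, Submodule.mem_sup]
  constructor
  · rintro ⟨j, hj, s, hs, rfl⟩
    rw [Ideal.mem_span_singleton'] at hs
    obtain ⟨s', rfl⟩ := hs
    refine ⟨Submodule.Quotient.mk s', ?_⟩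
    rw [← Submodule.Quotient.mk_smul, Submodule.Quotient.eq, smul_eq_mul, mul_comm]
    simpa using hj
  · rintro ⟨y, hy⟩
    obtain ⟨s, rfl⟩ := Submodule.Quotient.mk_surjective _ y
    rw [← Submodule.Quotient.mk_smul, Submodule.Quotient.eq] at hy
    refine ⟨t - rs[i] • s, hy, rs[i] • s, ?_, by ring⟩
    rw [smul_eq_mul, mul_comm]
    exact Ideal.mul_mem_left _ _ (Ideal.mem_span_singleton_self _)

lemma mkQ_succ (i : ℕ) (hi : i < rs.length) :
    (J A rs (i + 1)).mkQ = (tr A rs i hi).comp (J A rs i).mkQ := by
  ext t
  rfl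

variable (hreg : IsWeaklyRegular A rs)
  (hbd : ∀ i ≤ rs.length, ∃ N : ℕ, ∀ x : A ⧸ Ideal.ofList (rs.take i),
    (∃ m : ℕ, a ^ m • x = 0) → a ^ N • x = 0)

include hreg in
lemma reg_quot (i : ℕ) (hi : i < rs.length) : IsSMulRegular (A ⧸ J A rs i) rs[i] := by
  have h1 := hreg.regular_mod_prev i hi
  have h2 : (Ideal.ofList (rs.take i) • ⊤ : Submodule A A) = J A rs i := by
    rw [smul_eq_mul, Ideal.mul_top]
  exact ((Submodule.quotEquivOfEq _ _ h2).isSMulRegular_congr _).1 h1

include hreg hbd in
/-- regularity on the completed quotients -/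
theorem reg_compl (i : ℕ) (hi : i < rs.length)
    (x : AdicCompletion (Ideal.span {a}) (A ⧸ J A rs i)) (hx : rs[i] • x = 0) : x = 0 := by
  obtain ⟨c, hc⟩ := hbd (i + 1) (by omega)
  exact smul_injective a (tr A rs i hi) rs[i] (tr_ker A rs i hi) (reg_quot A rs hreg i hi) c hc x hx

include hreg hbd in
/-- the kernels of the completed quotient maps -/
theorem ker_iff (i : ℕ) (hi : i ≤ rs.length) (x : AdicCompletion (Ideal.span {a}) A) :
    AdicCompletion.map (Ideal.span {a}) (J A rs i).mkQ x = 0 ↔
      x ∈ (J A rs i).map (algebraMap A (AdicCompletion (Ideal.span {a}) A)) := by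
  induction i generalizing x with
  | zero =>
    have h0 : J A rs 0 = ⊥ := by simp [J]
    rw [h0, Ideal.map_bot, Ideal.mem_bot]
    constructor
    · intro hx
      apply AdicCompletion.ext
      intro n
      have h1 := congrArg (fun t => t.val n) hx
      simp only [AdicCompletion.map_val_apply, AdicCompletion.val_zero_apply] at h1
      obtain ⟨t, ht⟩ := Submodule.Quotient.mk_surjective _ (x.val n)
      rw [← ht, LinearMap.reduceModIdeal_apply, Submodule.Quotient.mk_eq_zero] at h1
      rw [← ht, AdicCompletion.val_zero_apply, Submodule.Quotient.mk_eq_zero]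
      rw [mem_pow_smul_top] at h1 ⊢
      obtain ⟨y, hy⟩ := h1
      obtain ⟨s, rfl⟩ := Submodule.Quotient.mk_surjective _ y
      rw [Submodule.mkQ_apply, ← Submodule.Quotient.mk_smul, Submodule.Quotient.eq,
        Submodule.mem_bot, sub_eq_zero] at hy
      exact ⟨s, hy⟩
    · rintro rfl
      exact map_zero _
  | succ i ih =>
    have hi' : i < rs.length := by omega
    have ih' := ih (by omega)
    constructor
    · intro hx
      rw [mkQ_succ A rs i hi', ← AdicCompletion.map_comp_apply] at hx
      obtain ⟨c, hc⟩ := hbd (i + 1) hi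
      obtain ⟨u, hu⟩ := ker_map a (tr A rs i hi') (tr_surjective A rs i hi') rs[i]
        (tr_ker A rs i hi') (reg_quot A rs hreg i hi') c hc _ hx
      obtain ⟨x', rfl⟩ := AdicCompletion.map_surjective (Ideal.span {a})
        (Submodule.mkQ_surjective (J A rs i)) u
      have h1 : x - algebraMap A (AdicCompletion (Ideal.span {a}) A) rs[i] * x' ∈
          (J A rs i).map (algebraMap A (AdicCompletion (Ideal.span {a}) A)) := by
        rw [← ih', map_sub, hu, ← smul_eq_mul, map_smul, algebraMap_smul, sub_self]
      have h2 : x = (x - algebraMap A (AdicCompletion (Ideal.span {a}) A) rs[i] * x') +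
          algebraMap A (AdicCompletion (Ideal.span {a}) A) rs[i] * x' := by ring
      rw [h2]
      refine Ideal.add_mem _ (Ideal.map_mono (J_le A rs i hi') h1) (Ideal.mul_mem_right _ _ ?_)
      apply Ideal.mem_map_of_mem
      rw [J_succ A rs i hi']
      exact Ideal.mem_sup_right (Ideal.mem_span_singleton_self _)
    · intro hx
      have key : ∀ w ∈ Ideal.map (algebraMap A (AdicCompletion (Ideal.span {a}) A))
          (J A rs (i + 1)),
          AdicCompletion.map (Ideal.span {a}) (J A rs (i + 1)).mkQ w = 0 := by
        intro w hw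
        refine Submodule.span_induction ?_ ?_ ?_ ?_ hw
        · rintro _ ⟨j, hj, rfl⟩
          rw [AdicCompletion.algebraMap_apply, AdicCompletion.map_of, Algebra.algebraMap_self,
            RingHom.id_apply]
          have : (J A rs (i + 1)).mkQ j = 0 := by
            rw [Submodule.mkQ_apply, Submodule.Quotient.mk_eq_zero]; exact hj
          rw [this, map_zero]
        · exact map_zero _
        · intro u v _ _ hu hv
          rw [map_add, hu, hv, add_zero]
        · intro y u _ hu
          have h5 := (AdicCompletion.map (Ideal.span {a}) (J A rs (i + 1)).mkQ).map_smul y u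
          rw [hu, smul_zero] at h5
          exact h5
      exact key x hx

include hreg hbd in
theorem main :
    IsWeaklyRegular (AdicCompletion (Ideal.span {a}) A)
        (rs.map (algebraMap A (AdicCompletion (Ideal.span {a}) A))) ∧
      Function.Surjective (AdicCompletion.map (Ideal.span {a}) (Ideal.ofList rs).mkQ) ∧
      LinearMap.ker (AdicCompletion.map (Ideal.span {a}) (Ideal.ofList rs).mkQ) =
        (Ideal.ofList rs).map (algebraMap A (AdicCompletion (Ideal.span {a}) A)) := by
  refine ⟨?_, AdicCompletion.map_surjective _ (Submodule.mkQ_surjective _), ?_⟩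
  · rw [isWeaklyRegular_iff]
    intro i hi
    have hi' : i < rs.length := by simpa using hi
    rw [isSMulRegular_iff_right_eq_zero_of_smul]
    intro z hz
    obtain ⟨y, rfl⟩ := Submodule.Quotient.mk_surjective _ z
    rw [← Submodule.Quotient.mk_smul, Submodule.Quotient.mk_eq_zero] at hz
    rw [Submodule.Quotient.mk_eq_zero]
    have hK : ∀ w : AdicCompletion (Ideal.span {a}) A,
        w ∈ (Ideal.ofList ((rs.map (algebraMap A (AdicCompletion (Ideal.span {a}) A))).take i) •
        ⊤ : Submodule (AdicCompletion (Ideal.span {a}) A) (AdicCompletion (Ideal.span {a}) A)) ↔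
        AdicCompletion.map (Ideal.span {a}) (J A rs i).mkQ w = 0 := by
      intro w
      rw [ker_iff A a rs hreg hbd i (by omega), smul_eq_mul, Ideal.mul_top, ← List.map_take,
        ← Ideal.map_ofList]
    rw [hK] at hz ⊢
    apply reg_compl A a rs hreg hbd i hi'
    rw [← hz, List.getElem_map, map_smul, algebraMap_smul]
  · apply Submodule.ext
    intro x
    have h1 := ker_iff A a rs hreg hbd rs.length le_rfl x
    rw [J, List.take_length] at h1
    exact h1

end main

end Groth.Agent.Helper7.Compl
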