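import Mathlib

/-! Short exactness can be tested on completions at maximal ideals. -/

universe u

namespace Groth.Agent.Helper7.ComplExact

open AdicCompletion

/-- a finitely generated module all of whose completions at maximal ideals vanish is zero -/
theorem subsingleton_of_completions {A : Type*} [CommRing A] {L : Type*} [AddCommGroup L]
    [Module A L] [Module.Finite A L]
    (h : ∀ (m : Ideal A) [m.IsMaximal], Subsingleton (AdicCompletion m L)) : Subsingleton L := by
  rw [← Module.annihilator_eq_top_iff (R := A)]
  by_contra hne
  obtain ⟨m, hm, hle⟩ := Ideal.exists_le_maximal _ hne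
  haveI := hm
  haveI := h m
  have hsub : Subsingleton (L ⧸ (m ^ 1 • ⊤ : Submodule A L)) := by
    refine ⟨fun x y => ?_⟩
    obtain ⟨x', rfl⟩ := AdicCompletion.eval_surjective m L 1 x
    obtain ⟨y', rfl⟩ := AdicCompletion.eval_surjective m L 1 y
    rw [Subsingleton.elim x' y']
  rw [Submodule.Quotient.subsingleton_iff, pow_one] at hsub
  obtain ⟨r, hr1, hr2⟩ := Submodule.exists_sub_one_mem_and_smul_eq_zero_of_fg_of_le_smul m
    (⊤ : Submodule A L) Module.Finite.fg_top (by rw [hsub])
  have hrm : r ∈ m := hle (Module.mem_annihilator.2 fun x => hr2 x trivial)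
  have : (1 : A) ∈ m := by
    have := m.sub_mem hrm hr1
    rwa [sub_sub_cancel] at this
  exact hm.ne_top ((Ideal.eq_top_iff_one m).2 this)

lemma subsingleton_of_surj_zero {R X Y : Type*} [Semiring R] [AddCommMonoid X] [AddCommMonoid Y]
    [Module R X] [Module R Y] (u : X →ₗ[R] Y) (hu : Function.Surjective u) (h0 : ∀ x, u x = 0) :
    Subsingleton Y :=
  ⟨fun a b => by
    obtain ⟨a', rfl⟩ := hu a
    obtain ⟨b', rfl⟩ := hu b
    rw [h0, h0]⟩

lemma subsingleton_of_inj_zero {R X Y : Type*} [Semiring R] [AddCommMonoid X] [AddCommMonoid Y]
    [Module R X] [Module R Y] (u : X →ₗ[R] Y) (hu : Function.Injective u) (h0 : ∀ x, u x = 0) :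
    Subsingleton X :=
  ⟨fun a b => hu (by rw [h0, h0])⟩

theorem main (A : Type u) [CommRing A] [IsNoetherianRing A]
    (M' M M'' : Type u) [AddCommGroup M'] [Module A M'] [AddCommGroup M] [Module A M]
    [AddCommGroup M''] [Module A M'']
    [Module.Finite A M'] [Module.Finite A M] [Module.Finite A M''] (f : M' →ₗ[A] M)
    (g : M →ₗ[A] M'') :
    (Function.Injective f ∧ Function.Exact f g ∧ Function.Surjective g) ↔
      ∀ (m : Ideal A) [m.IsMaximal],
        Function.Injective (AdicCompletion.map m f) ∧
          Function.Exact (AdicCompletion.map m f) (AdicCompletion.map m g) ∧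
          Function.Surjective (AdicCompletion.map m g) := by
  constructor
  · rintro ⟨hf, hfg, hg⟩ m _
    exact ⟨map_injective m hf, map_exact (I := m) hf hfg hg, map_surjective m hg⟩
  · intro h
    -- Step 1: g ∘ f = 0
    have h1 : g ∘ₗ f = 0 := by
      set L := LinearMap.range (g ∘ₗ f) with hL
      have hLs : Subsingleton L := by
        apply subsingleton_of_completions (A := A)
        intro m _
        obtain ⟨-, hex, -⟩ := h m
        have hφ : Function.Surjective (map m (g ∘ₗ f).rangeRestrict) :=
          map_surjective m (LinearMap.surjective_rangeRestrict _)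
        have hι : Function.Injective (map m L.subtype) := map_injective m L.injective_subtype
        refine subsingleton_of_inj_zero (map m L.subtype) hι fun z => ?_
        obtain ⟨w, rfl⟩ := hφ z
        rw [map_comp_apply]
        have : L.subtype ∘ₗ (g ∘ₗ f).rangeRestrict = g ∘ₗ f := LinearMap.subtype_comp_codRestrict _ _ _
        rw [this, ← map_comp_apply]
        exact (hex _).2 ⟨w, rfl⟩
      refine LinearMap.ext fun x => ?_
      have : (⟨(g ∘ₗ f) x, x, rfl⟩ : L) = 0 := Subsingleton.elim _ _
      exact congrArg Subtype.val this
    have h1' : ∀ x, g (f x) = 0 := fun x => congrArg (fun φ => φ x) h1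
    -- Step 2: f injective
    have h2 : Function.Injective f := by
      rw [← LinearMap.ker_eq_bot]
      set K := LinearMap.ker f with hK
      have hKs : Subsingleton K := by
        apply subsingleton_of_completions (A := A)
        intro m _
        obtain ⟨hinj, -, -⟩ := h m
        have hι : Function.Injective (map m K.subtype) := map_injective m K.injective_subtype
        refine subsingleton_of_inj_zero (map m K.subtype) hι fun z => ?_
        apply hinj
        rw [map_comp_apply, _root_.map_zero]
        have : f ∘ₗ K.subtype = 0 := LinearMap.ext fun x => x.2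
        rw [this, AdicCompletion.map_zero, LinearMap.zero_apply]
      exact Submodule.subsingleton_iff_eq_bot.1 hKs
    -- Step 3: g surjective
    have h3 : Function.Surjective g := by
      rw [← LinearMap.range_eq_top]
      set C := M'' ⧸ LinearMap.range g with hC
      have hCs : Subsingleton C := by
        apply subsingleton_of_completions (A := A)
        intro m _
        obtain ⟨-, -, hsurj⟩ := h m
        have hq : Function.Surjective (map m (LinearMap.range g).mkQ) :=
          map_surjective m (Submodule.mkQ_surjective _)
        refine subsingleton_of_surj_zero (map m (LinearMap.range g).mkQ) hq fun z => ?_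
        obtain ⟨w, rfl⟩ := hsurj z
        rw [map_comp_apply, LinearMap.range_mkQ_comp, AdicCompletion.map_zero,
          LinearMap.zero_apply]
      exact Submodule.Quotient.subsingleton_iff.1 hCs
    refine ⟨h2, ?_, h3⟩
    -- Step 4: exactness
    rw [LinearMap.exact_iff]
    refine le_antisymm ?_ (fun _ ⟨x, hx⟩ => hx ▸ h1' x)
    set Kg := LinearMap.ker g with hKg
    let f' : M' →ₗ[A] Kg := LinearMap.codRestrict Kg f h1'
    have hf' : Kg.subtype ∘ₗ f' = f := LinearMap.subtype_comp_codRestrict _ _ _
    set Q := Kg ⧸ LinearMap.range f' with hQ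
    have hQs : Subsingleton Q := by
      apply subsingleton_of_completions (A := A)
      intro m _
      obtain ⟨-, hex, -⟩ := h m
      have hι : Function.Injective (map m Kg.subtype) := map_injective m Kg.injective_subtype
      have hex' : Function.Exact (map m Kg.subtype) (map m g) :=
        map_exact (I := m) Kg.injective_subtype (LinearMap.exact_subtype_ker_map g) h3
      have hf'surj : Function.Surjective (map m f') := by
        intro z
        have hz : map m g (map m Kg.subtype z) = 0 := (hex' _).2 ⟨z, rfl⟩
        obtain ⟨w, hw⟩ := (hex _).1 hz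
        refine ⟨w, hι ?_⟩
        rw [map_comp_apply, hf', hw]
      have hq : Function.Surjective (map m (LinearMap.range f').mkQ) :=
        map_surjective m (Submodule.mkQ_surjective _)
      refine subsingleton_of_surj_zero (map m (LinearMap.range f').mkQ) hq fun z => ?_
      obtain ⟨w, rfl⟩ := hf'surj z
      rw [map_comp_apply, LinearMap.range_mkQ_comp, AdicCompletion.map_zero,
        LinearMap.zero_apply]
    have htop : LinearMap.range f' = ⊤ := Submodule.Quotient.subsingleton_iff.1 hQs
    intro x hx
    have : (⟨x, hx⟩ : Kg) ∈ LinearMap.range f' := htop ▸ trivial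
    obtain ⟨w, hw⟩ := this
    exact ⟨w, congrArg Subtype.val hw⟩

end Groth.Agent.Helper7.ComplExact
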