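import Mathlib

/-! Completion of `J • M` is `J •` completion of `M` (Noetherian, finite). -/

universe u

namespace Groth.Agent.Helper7.ComplSmul

open AdicCompletion

section

variable {R : Type*} [CommRing R] (I : Ideal R) {M N : Type*} [AddCommGroup M] [Module R M]
  [AddCommGroup N] [Module R N]

lemma map_add_apply (f g : M →ₗ[R] N) (x : AdicCompletion I M) :
    map I (f + g) x = map I f x + map I g x := by
  refine AdicCompletion.ext fun n => ?_
  rw [val_add_apply, map_val_apply, map_val_apply, map_val_apply]
  obtain ⟨m, hm⟩ := Submodule.mkQ_surjective _ (x.val n)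
  rw [← hm]
  simp only [Submodule.mkQ_apply, LinearMap.reduceModIdeal_apply, LinearMap.add_apply,
    Submodule.Quotient.mk_add]

lemma map_sum_apply {ι : Type*} (s : Finset ι) (f : ι → M →ₗ[R] N) (x : AdicCompletion I M) :
    map I (∑ i ∈ s, f i) x = ∑ i ∈ s, map I (f i) x := by
  classical
  induction s using Finset.induction_on with
  | empty => simp
  | insert a s ha ih => rw [Finset.sum_insert ha, Finset.sum_insert ha, map_add_apply, ih]

lemma map_smul_apply (a : R) (f : M →ₗ[R] N) (x : AdicCompletion I M) :
    map I (a • f) x = a • map I f x := by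
  refine AdicCompletion.ext fun n => ?_
  rw [val_smul_apply, map_val_apply, map_val_apply]
  obtain ⟨m, hm⟩ := Submodule.mkQ_surjective _ (x.val n)
  rw [← hm]
  simp only [Submodule.mkQ_apply, LinearMap.reduceModIdeal_apply, LinearMap.smul_apply,
    Submodule.Quotient.mk_smul]

end

theorem main (A : Type u) [CommRing A] [IsNoetherianRing A] (I J : Ideal A)
    (M : Type u) [AddCommGroup M] [Module A M] [Module.Finite A M] :
    Function.Injective (AdicCompletion.map I (J • (⊤ : Submodule A M)).subtype) ∧
      LinearMap.range (AdicCompletion.map I (J • (⊤ : Submodule A M)).subtype) =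
        (J.map (algebraMap A (AdicCompletion I A))) •
          (⊤ : Submodule (AdicCompletion I A) (AdicCompletion I M)) := by
  classical
  set N : Submodule A M := J • ⊤ with hN
  let μ : (j : J) → M →ₗ[A] N := fun j =>
    LinearMap.codRestrict N (j.1 • LinearMap.id)
      (fun m => show j.1 • m ∈ J • (⊤ : Submodule A M) from
        Submodule.smul_mem_smul j.2 (Submodule.mem_top (x := m)))
  have hμ : ∀ (j : J), N.subtype ∘ₗ μ j = j.1 • LinearMap.id := fun j => rfl
  refine ⟨map_injective I N.injective_subtype, le_antisymm ?_ ?_⟩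
  · rintro _ ⟨z, rfl⟩
    obtain ⟨s, hs⟩ := (isNoetherianRing_iff_ideal_fg A).1 inferInstance J
    have hsJ : ∀ i : s, (i.1 : A) ∈ J := fun i => hs ▸ Ideal.subset_span i.2
    let φ : (s → M) →ₗ[A] N := ∑ i : s, μ ⟨i.1, hsJ i⟩ ∘ₗ LinearMap.proj i
    have hcomp : N.subtype ∘ₗ φ = ∑ i : s, (i.1 : A) • LinearMap.proj i := by
      refine LinearMap.ext fun w => ?_
      simp only [φ, LinearMap.comp_apply, LinearMap.sum_apply, Submodule.subtype_apply,
        Submodule.coe_sum, LinearMap.smul_apply, LinearMap.proj_apply]
      rfl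
    have hφ : Function.Surjective φ := by
      rintro ⟨y, hy⟩
      suffices h : ∃ w, (N.subtype ∘ₗ φ) w = y by
        obtain ⟨w, hw⟩ := h
        exact ⟨w, Subtype.ext hw⟩
      rw [hcomp]
      refine Submodule.smul_induction_on hy ?_ ?_
      · intro j hj m _
        rw [← hs] at hj
        obtain ⟨f, -, hf⟩ := Submodule.mem_span_finset.1 hj
        refine ⟨fun i => f i.1 • m, ?_⟩
        rw [LinearMap.sum_apply]
        simp only [LinearMap.smul_apply, LinearMap.proj_apply]
        rw [Finset.sum_coe_sort s (fun a => a • f a • m), ← hf, Finset.sum_smul]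
        refine Finset.sum_congr rfl fun a _ => ?_
        rw [smul_smul, smul_eq_mul, mul_comm]
      · rintro y₁ y₂ ⟨w₁, h₁⟩ ⟨w₂, h₂⟩
        exact ⟨w₁ + w₂, by rw [map_add, h₁, h₂]⟩
    obtain ⟨w, rfl⟩ := map_surjective I hφ z
    rw [map_comp_apply, hcomp, map_sum_apply]
    refine Submodule.sum_mem _ fun i _ => ?_
    rw [map_smul_apply, ← algebraMap_smul (AdicCompletion I A) (i.1 : A)]
    exact Submodule.smul_mem_smul (Ideal.mem_map_of_mem _ (hsJ i)) Submodule.mem_top
  · rw [Submodule.smul_le]
    intro r hr x _
    have key : ∀ x : AdicCompletion I M,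
        r • x ∈ LinearMap.range (AdicCompletion.map I N.subtype) := by
      refine Submodule.span_induction
        (p := fun r _ => ∀ x : AdicCompletion I M,
          r • x ∈ LinearMap.range (AdicCompletion.map I N.subtype)) ?_ ?_ ?_ ?_ hr
      · rintro _ ⟨j, hj, rfl⟩ x
        refine ⟨map I (μ ⟨j, hj⟩) x, ?_⟩
        rw [map_comp_apply, hμ, map_smul_apply, AdicCompletion.map_id, LinearMap.id_apply,
          algebraMap_smul]
      · intro x
        rw [zero_smul]
        exact Submodule.zero_mem _
      · intro r₁ r₂ _ _ h₁ h₂ x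
        rw [add_smul]
        exact Submodule.add_mem _ (h₁ x) (h₂ x)
      · intro a r₁ _ h₁ x
        rw [smul_eq_mul, mul_smul]
        exact Submodule.smul_mem _ a (h₁ x)
    exact key x

end Groth.Agent.Helper7.ComplSmul
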