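import Mathlib
import Groth.Prelude.Def_W4c3severiratdpLat

set_option maxSynthPendingDepth 3
set_option linter.style.haveILetI false

/-!
A verified enumerator of integer vectors with prescribed sum and sum of squares, used to
classify / count conic classes in the lattices `DP δ`.
-/

namespace Groth.Agent.Helper7.ConicEnum

/-- candidate entries: the integers in `[-B, B]`. -/
def cands (B : ℕ) : List ℤ := (List.range (2 * B + 1)).map (fun i : ℕ => (i : ℤ) - (B : ℤ))

lemma mem_cands {B : ℕ} {c : ℤ} : c ∈ cands B ↔ -(B:ℤ) ≤ c ∧ c ≤ B := by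
  unfold cands
  simp only [List.mem_map, List.mem_range]
  constructor
  · rintro ⟨i, hi, rfl⟩; constructor <;> omega
  · rintro ⟨h1, h2⟩; exact ⟨(c + B).toNat, by omega, by omega⟩

lemma nodup_cands (B : ℕ) : (cands B).Nodup := by
  unfold cands
  refine List.Nodup.map ?_ List.nodup_range
  intro i j h
  have : (i : ℤ) = j := by simpa using h
  exact_mod_cast this

/-- sum of squares of a list. -/
def sq (l : List ℤ) : ℤ := (l.map (fun c => c * c)).sum

@[simp] lemma sq_nil : sq [] = 0 := rfl
@[simp] lemma sq_cons (c : ℤ) (l : List ℤ) : sq (c :: l) = c * c + sq l := by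
  simp [sq]

lemma sq_nonneg' (l : List ℤ) : 0 ≤ sq l := by
  induction l with
  | nil => simp
  | cons c l ih => rw [sq_cons]; nlinarith [mul_self_nonneg c]

lemma mul_self_le_sq {l : List ℤ} {x : ℤ} (hx : x ∈ l) : x * x ≤ sq l := by
  induction l with
  | nil => simp at hx
  | cons c l ih =>
    rw [sq_cons]
    rcases List.mem_cons.1 hx with rfl | h
    · have := sq_nonneg' l; linarith
    · have := ih h; nlinarith [mul_self_nonneg c]

/-- Cauchy–Schwarz for lists. -/
lemma sum_mul_sum_le (l : List ℤ) : l.sum * l.sum ≤ l.length * sq l := by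
  induction l with
  | nil => simp
  | cons c l ih =>
    rcases l with _ | ⟨d, l'⟩
    · simp [sq]
    · set l := d :: l' with hl
      have hn : (0 : ℤ) < (l.length : ℤ) := by simp [hl]
      set n : ℤ := (l.length : ℤ) with hn'
      set s := l.sum
      set q := sq l
      have h1 : n * (2 * c * s) ≤ n * (n * (c * c) + q) := by
        nlinarith [sq_nonneg (n * c - s)]
      have h2 : 2 * c * s ≤ n * (c * c) + q := le_of_mul_le_mul_left h1 hn
      rw [List.sum_cons, sq_cons, List.length_cons]
      push_cast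
      nlinarith

/-- all lists of length `k` with entries in `[-B, B]`, sum `S` and sum of squares `Q`;
if `srt` then only the descending ones with first entry `≤ m`. -/
def enum (srt : Bool) (B : ℕ) : ℕ → ℤ → ℤ → ℤ → List (List ℤ)
  | 0, _, S, Q => if S = 0 ∧ Q = 0 then [[]] else []
  | k+1, m, S, Q =>
    if S * S ≤ ((k : ℤ) + 1) * Q then
      (cands B).flatMap (fun c =>
        if srt = true ∧ m < c then [] else
          (enum srt B k c (S - c) (Q - c*c)).map (c :: ·))
    else []

theorem mem_enum (srt : Bool) (B : ℕ) : ∀ (k : ℕ) (m S Q : ℤ) (l : List ℤ), l.length = k →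
    l.sum = S → sq l = Q → Q ≤ B * B →
    (srt = true → l.Pairwise (· ≥ ·) ∧ ∀ x ∈ l, x ≤ m) → l ∈ enum srt B k m S Q := by
  intro k
  induction k with
  | zero =>
    intro m S Q l hl hS hQ _ _
    obtain rfl := List.length_eq_zero_iff.1 hl
    simp only [List.sum_nil] at hS
    simp only [sq_nil] at hQ
    simp [enum, ← hS, ← hQ]
  | succ k ih =>
    intro m S Q l hl hS hQ hB hsrt
    rcases l with _ | ⟨c, l'⟩
    · simp at hl
    have hlen : l'.length = k := by simpa using hl
    have hcs := sum_mul_sum_le (c :: l')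
    rw [hS, hQ, hl] at hcs
    push_cast at hcs
    rw [enum, if_pos hcs, List.mem_flatMap]
    have hcc : c * c ≤ B * B := by
      have := mul_self_le_sq (l := c :: l') (x := c) (by simp)
      rw [hQ] at this; linarith
    have hcB : -(B:ℤ) ≤ c ∧ c ≤ B := by
      have hB0 : (0:ℤ) ≤ B := by positivity
      constructor <;> nlinarith
    refine ⟨c, mem_cands.2 hcB, ?_⟩
    have hno : ¬ (srt = true ∧ m < c) := by
      rintro ⟨h1, h2⟩
      have := (hsrt h1).2 c (by simp)
      omega
    rw [if_neg hno, List.mem_map]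
    refine ⟨l', ?_, rfl⟩
    apply ih c (S - c) (Q - c * c) l' hlen
    · rw [← hS]; simp
    · rw [← hQ]; simp
    · nlinarith [mul_self_nonneg c]
    · intro h1
      obtain ⟨hp, hm⟩ := hsrt h1
      rw [List.pairwise_cons] at hp
      exact ⟨hp.2, fun x hx => hp.1 x hx⟩

theorem of_mem_enum (srt : Bool) (B : ℕ) : ∀ (k : ℕ) (m S Q : ℤ) (l : List ℤ),
    l ∈ enum srt B k m S Q → l.length = k ∧ l.sum = S ∧ sq l = Q := by
  intro k
  induction k with
  | zero =>
    intro m S Q l hl
    rw [enum] at hl
    split_ifs at hl with h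
    · simp only [List.mem_singleton] at hl
      subst hl
      simp [h.1, h.2]
    · simp at hl
  | succ k ih =>
    intro m S Q l hl
    rw [enum] at hl
    split_ifs at hl with h
    · rw [List.mem_flatMap] at hl
      obtain ⟨c, -, hc⟩ := hl
      split_ifs at hc with h2
      · simp at hc
      · rw [List.mem_map] at hc
        obtain ⟨l', hl', rfl⟩ := hc
        obtain ⟨h1, h2, h3⟩ := ih _ _ _ _ hl'
        refine ⟨by simp [h1], ?_, ?_⟩
        · rw [List.sum_cons, h2]; ring
        · rw [sq_cons, h3]; ring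
    · simp at hl

theorem nodup_enum (srt : Bool) (B : ℕ) : ∀ (k : ℕ) (m S Q : ℤ), (enum srt B k m S Q).Nodup := by
  intro k
  induction k with
  | zero =>
    intro m S Q
    rw [enum]
    split_ifs <;> simp
  | succ k ih =>
    intro m S Q
    rw [enum]
    split_ifs with h
    · rw [List.nodup_flatMap]
      constructor
      · intro c _
        split_ifs
        · simp
        · exact (ih _ _ _).map (List.cons_injective)
      · refine (nodup_cands B).imp ?_
        intro c c' hcc'
        simp only [Function.onFun]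
        rw [List.disjoint_left]
        intro l h1 h2
        split_ifs at h1 with h3
        · simp at h1
        split_ifs at h2 with h4
        · simp at h2
        rw [List.mem_map] at h1 h2
        obtain ⟨l1, -, rfl⟩ := h1
        obtain ⟨l2, -, h5⟩ := h2
        exact hcc' (List.cons.inj h5).1.symm
    · simp

end Groth.Agent.Helper7.ConicEnum

namespace Groth.Agent.Helper7.ConicEnum

/-- all `a :: l` with `l` of length `δ`, `sq l = a²`, `l.sum = 3a - 2`. -/
def sols (srt : Bool) (δ : ℕ) : List (List ℤ) :=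
  (List.range 12).flatMap (fun a : ℕ =>
    (enum srt 11 δ 11 (3 * (a:ℤ) - 2) ((a:ℤ) * a)).map ((a:ℤ) :: ·))

theorem mem_sols (srt : Bool) {δ : ℕ} (hδ : δ ≤ 8) (a : ℤ) (l : List ℤ) (hl : l.length = δ)
    (h1 : sq l = a * a) (h2 : l.sum = 3 * a - 2) (hs : srt = true → l.Pairwise (· ≥ ·)) :
    a :: l ∈ sols srt δ := by
  have hcs := sum_mul_sum_le l
  rw [h2, h1, hl] at hcs
  have hδ' : (δ : ℤ) ≤ 8 := by exact_mod_cast hδ
  have h8 : (3 * a - 2) * (3 * a - 2) ≤ 8 * (a * a) := by nlinarith [mul_self_nonneg a]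
  have ha1 : 1 ≤ a := by
    by_contra h
    push Not at h
    have : a ≤ 0 := by omega
    nlinarith [mul_self_nonneg a]
  have ha11 : a ≤ 11 := by
    by_contra h
    push Not at h
    have h12 : 12 ≤ a := by omega
    nlinarith [mul_nonneg (show (0:ℤ) ≤ a by omega) (show (0:ℤ) ≤ a - 12 by omega)]
  have hA : ((a.toNat : ℕ) : ℤ) = a := Int.toNat_of_nonneg (by omega)
  rw [sols, List.mem_flatMap]
  refine ⟨a.toNat, List.mem_range.2 (by omega), ?_⟩
  rw [List.mem_map, hA]
  refine ⟨l, ?_, rfl⟩
  have haa : a * a ≤ 121 := by nlinarith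
  apply mem_enum srt 11 δ 11 _ _ l hl h2 h1 (by push_cast; linarith)
  intro hsrt
  refine ⟨hs hsrt, fun x hx => ?_⟩
  have := mul_self_le_sq hx
  nlinarith

theorem of_mem_sols {srt : Bool} {δ : ℕ} {l : List ℤ} (h : l ∈ sols srt δ) :
    ∃ (a : ℤ) (l' : List ℤ), l = a :: l' ∧ l'.length = δ ∧ sq l' = a * a ∧
      l'.sum = 3 * a - 2 := by
  rw [sols, List.mem_flatMap] at h
  obtain ⟨a, -, h⟩ := h
  rw [List.mem_map] at h
  obtain ⟨l', hl', rfl⟩ := h
  obtain ⟨h1, h2, h3⟩ := of_mem_enum _ _ _ _ _ _ _ hl'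
  exact ⟨a, l', rfl, h1, h3, h2⟩

theorem nodup_sols (srt : Bool) (δ : ℕ) : (sols srt δ).Nodup := by
  rw [sols, List.nodup_flatMap]
  constructor
  · intro a _
    exact (nodup_enum _ _ _ _ _ _).map List.cons_injective
  · refine List.nodup_range.imp ?_
    intro a a' haa'
    simp only [Function.onFun]
    rw [List.disjoint_left]
    intro l h1 h2
    rw [List.mem_map] at h1 h2
    obtain ⟨l1, -, rfl⟩ := h1
    obtain ⟨l2, -, h5⟩ := h2
    exact haa' (by exact_mod_cast (List.cons.inj h5).1.symm)

open W4c3severiratdp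

lemma isConic_iff {δ : ℕ} (v : DP δ) : IsConic v ↔
    sq (List.ofFn fun i : Fin δ => v i.succ) = v 0 * v 0 ∧
      (List.ofFn fun i : Fin δ => v i.succ).sum = 3 * v 0 - 2 := by
  unfold IsConic form canon sq
  simp only [List.map_ofFn, List.sum_ofFn, Fin.cases_zero, Fin.cases_succ, Function.comp_def,
    neg_one_mul, Finset.sum_neg_distrib]
  constructor <;> rintro ⟨h1, h2⟩ <;> constructor <;> linarith

theorem ncard_conic {δ : ℕ} (hδ : δ ≤ 8) :
    {v : DP δ | IsConic v}.ncard = (sols false δ).length := by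
  have hinj : Function.Injective (fun v : DP δ => List.ofFn v) := List.ofFn_injective
  rw [← Set.ncard_image_of_injective _ hinj]
  have : (fun v : DP δ => List.ofFn v) '' {v | IsConic v} = ↑(sols false δ).toFinset := by
    ext l
    simp only [List.coe_toFinset, Set.mem_ofPred_eq, Set.mem_image]
    constructor
    · rintro ⟨v, hv, rfl⟩
      rw [isConic_iff] at hv
      rw [List.ofFn_succ]
      exact mem_sols false hδ _ _ (by simp) hv.1 hv.2 (by simp)
    · intro hl
      obtain ⟨a, l', rfl, h1, h2, h3⟩ := of_mem_sols hl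
      subst h1
      refine ⟨Fin.cons a (fun i => l'.get i), ?_, ?_⟩
      · rw [isConic_iff]
        simp only [Fin.cons_succ, Fin.cons_zero, List.ofFn_get]
        exact ⟨h2, h3⟩
      · rw [List.ofFn_succ]
        simp only [Fin.cons_succ, Fin.cons_zero, List.ofFn_get]
  rw [this, Set.ncard_coe_finset, List.toFinset_card_of_nodup (nodup_sols _ _)]

/-- the fifteen sorted conic classes for `δ = 8`. -/
def L15 : List (DP 8) :=
  [![1, 1, 0, 0, 0, 0, 0, 0, 0], ![2, 1, 1, 1, 1, 0, 0, 0, 0], ![3, 2, 1, 1, 1, 1, 1, 0, 0],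
   ![4, 2, 2, 2, 1, 1, 1, 1, 0], ![4, 3, 1, 1, 1, 1, 1, 1, 1], ![5, 2, 2, 2, 2, 2, 2, 1, 0],
   ![5, 3, 2, 2, 2, 1, 1, 1, 1], ![6, 3, 3, 2, 2, 2, 2, 1, 1], ![7, 3, 3, 3, 3, 2, 2, 2, 1],
   ![7, 4, 3, 2, 2, 2, 2, 2, 2], ![8, 3, 3, 3, 3, 3, 3, 3, 1], ![8, 4, 3, 3, 3, 3, 2, 2, 2],
   ![9, 4, 4, 3, 3, 3, 3, 3, 2], ![10, 4, 4, 4, 4, 3, 3, 3, 3], ![11, 4, 4, 4, 4, 4, 4, 4, 3]]

set_option maxRecDepth 100000 in
theorem sols_true_8 : sols true 8 = L15.map (fun t => List.ofFn t) := by decide +kernel

theorem conic8_iff (v : DP 8) : IsConic v ↔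
    ∃ t ∈ L15, ∃ σ : Equiv.Perm (Fin 8), v 0 = t 0 ∧ ∀ i : Fin 8, v (σ i).succ = t i.succ := by
  constructor
  · intro hv
    rw [isConic_iff] at hv
    set f : Fin 8 → ℤ := fun i => - v i.succ with hf
    set σ := Tuple.sort f with hσ
    have hmono : Monotone (f ∘ σ) := Tuple.monotone_sort f
    set c : Fin 8 → ℤ := fun i => v (σ i).succ with hc
    have hanti : ∀ i j, i < j → c i ≥ c j := fun i j hij => by
      have := hmono hij.le
      simp only [f, Function.comp] at this
      simp only [c]
      linarith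
    have hsum : (List.ofFn c).sum = 3 * v 0 - 2 := by
      rw [List.sum_ofFn, ← hv.2, List.sum_ofFn]
      exact Equiv.sum_comp σ (fun i => v i.succ)
    have hsq : sq (List.ofFn c) = v 0 * v 0 := by
      rw [← hv.1]
      unfold sq
      rw [List.map_ofFn, List.sum_ofFn, List.map_ofFn, List.sum_ofFn]
      exact Equiv.sum_comp σ (fun i => v i.succ * v i.succ)
    have hmem := mem_sols true (le_refl 8) (v 0) (List.ofFn c) (by simp) hsq hsum
      (fun _ => List.pairwise_ofFn.2 hanti)
    rw [sols_true_8, List.mem_map] at hmem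
    obtain ⟨t, ht, hteq⟩ := hmem
    rw [List.ofFn_succ] at hteq
    obtain ⟨h0, hrest⟩ := List.cons.inj hteq
    have := List.ofFn_injective hrest
    exact ⟨t, ht, σ, h0.symm, fun i => (congrFun this i).symm⟩
  · rintro ⟨t, ht, σ, h0, hσ⟩
    have hts : List.ofFn t ∈ sols true 8 := by
      rw [sols_true_8]; exact List.mem_map_of_mem ht
    obtain ⟨a, l', h1, -, h2, h3⟩ := of_mem_sols hts
    rw [List.ofFn_succ] at h1
    obtain ⟨h4, h5⟩ := List.cons.inj h1
    rw [isConic_iff, h0]
    rw [← h5] at h2 h3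
    rw [← h4] at h2 h3
    constructor
    · rw [← h2]
      unfold sq
      rw [List.map_ofFn, List.sum_ofFn, List.map_ofFn, List.sum_ofFn]
      simp only [Function.comp]
      rw [← Equiv.sum_comp σ (fun i => v i.succ * v i.succ)]
      exact Finset.sum_congr rfl (fun i _ => by simp [hσ i])
    · rw [← h3, List.sum_ofFn, List.sum_ofFn, ← Equiv.sum_comp σ (fun i => v i.succ)]
      exact Finset.sum_congr rfl (fun i _ => by simp [hσ i])

set_option maxRecDepth 100000 in
theorem len_sols_8 : (sols false 8).length = 2160 := by decide +kernel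
set_option maxRecDepth 100000 in
theorem len_sols_7 : (sols false 7).length = 126 := by decide +kernel
set_option maxRecDepth 100000 in
theorem len_sols_6 : (sols false 6).length = 27 := by decide +kernel
set_option maxRecDepth 100000 in
theorem len_sols_5 : (sols false 5).length = 10 := by decide +kernel
set_option maxRecDepth 100000 in
theorem len_sols_4 : (sols false 4).length = 5 := by decide +kernel
set_option maxRecDepth 100000 in
theorem len_sols_3 : (sols false 3).length = 3 := by decide +kernel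
set_option maxRecDepth 100000 in
theorem len_sols_2 : (sols false 2).length = 2 := by decide +kernel

end Groth.Agent.Helper7.ConicEnum
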