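import Mathlib

namespace Groth.Agent.Helper7.ConnCompl

open Set TopologicalSpace Topology

universe u

variable {X : Type u} [TopologicalSpace X]

/-- preimage of a preirreducible subset of `W` in the subtype `↥W` is preirreducible. -/
theorem isPreirreducible_preimage_val {W K : Set X} (hK : IsPreirreducible K) (hKW : K ⊆ W) :
    IsPreirreducible ((Subtype.val : W → X) ⁻¹' K) := by
  intro O1 O2 hO1 hO2 h1 h2
  obtain ⟨P1, hP1, rfl⟩ := isOpen_induced_iff.1 hO1
  obtain ⟨P2, hP2, rfl⟩ := isOpen_induced_iff.1 hO2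
  obtain ⟨a, haK, haP⟩ := h1
  obtain ⟨b, hbK, hbP⟩ := h2
  obtain ⟨c, hcK, hc1, hc2⟩ := hK P1 P2 hP1 hP2 ⟨a.1, haK, haP⟩ ⟨b.1, hbK, hbP⟩
  exact ⟨⟨c, hKW hcK⟩, hcK, hc1, hc2⟩

/-- In a quasi-sober locally Noetherian space, a point in the closure of an open set has
a generization inside the open set. -/
theorem exists_specializes_of_mem_closure [QuasiSober X]
    (hloc : ∀ x : X, ∃ U ∈ nhds x, NoetherianSpace ↥U)
    {A : Set X} (hA : IsOpen A) {z : X} (hz : z ∈ closure A) : ∃ η ∈ A, η ⤳ z := by
  obtain ⟨U, hU, hUN⟩ := hloc z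
  set V : Set X := interior U with hV
  have hVo : IsOpen V := isOpen_interior
  have hzV : z ∈ V := mem_interior_iff_mem_nhds.2 hU
  have hVU : V ⊆ U := interior_subset
  have : NoetherianSpace ↥V :=
    (Topology.IsInducing.noetherianSpace (i := Set.inclusion hVU)
      (Topology.IsEmbedding.inclusion hVU).isInducing)
  have : QuasiSober ↥V := hVo.isOpenEmbedding_subtypeVal.quasiSober
  set A' : Set V := Subtype.val ⁻¹' A with hA'
  have hA'o : IsOpen A' := hA.preimage continuous_subtype_val
  set zT : V := ⟨z, hzV⟩ with hzT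
  have hzT' : zT ∈ closure A' := by
    rw [Topology.IsInducing.subtypeVal.closure_eq_preimage_closure_image]
    show z ∈ closure (Subtype.val '' A')
    have : Subtype.val '' A' = V ∩ A := by
      rw [hA', Subtype.image_preimage_coe]
    rw [this]
    exact hVo.inter_closure ⟨hzV, hz⟩
  obtain ⟨S, hSf, hSc, hSi, hSU⟩ :=
    NoetherianSpace.exists_finite_set_isClosed_irreducible (isClosed_closure (s := A'))
  set S' : Set (Set V) := {t ∈ S | (t ∩ A').Nonempty} with hS'
  have hS'f : S'.Finite := hSf.subset (fun t ht => ht.1)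
  have hsub : A' ⊆ ⋃₀ S' := by
    intro a ha
    have : a ∈ ⋃₀ S := hSU ▸ subset_closure ha
    obtain ⟨t, ht, hat⟩ := this
    exact ⟨t, ⟨ht, ⟨a, hat, ha⟩⟩, hat⟩
  have hcl : IsClosed (⋃₀ S') := by
    rw [Set.sUnion_eq_biUnion]
    exact hS'f.isClosed_biUnion (fun t ht => hSc t ht.1)
  have hzin : zT ∈ ⋃₀ S' := closure_minimal hsub hcl hzT'
  obtain ⟨t, ⟨htS, htA⟩, hzt⟩ := hzin
  obtain ⟨η, hη⟩ := QuasiSober.sober (hSi t htS) (hSc t htS)
  have hηA : η ∈ A' := (hη.mem_open_set_iff hA'o).2 htA
  have hηz : η ⤳ zT := hη.specializes hzt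
  exact ⟨η.1, hηA, hηz.map continuous_subtype_val⟩

theorem main [QuasiSober X] [T0Space X]
    (hloc : ∀ x : X, ∃ U ∈ nhds x, NoetherianSpace ↥U) [ConnectedSpace X]
    (Z : Set X) (hZ : IsClosed Z) (hZn : IsNowhereDense Z)
    (hgen : ∀ x ∈ Z, IsPreconnected ({x' : X | x' ⤳ x} \ {x})) :
    IsConnected Zᶜ := by
  have hdense : closure Zᶜ = univ := by
    rw [closure_compl]
    have : interior Z = ∅ := by
      have h := hZn
      unfold IsNowhereDense at h
      rwa [hZ.closure_eq] at h
    rw [this, compl_empty]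
  have hne : (Zᶜ).Nonempty := by
    by_contra h
    rw [Set.not_nonempty_iff_eq_empty] at h
    rw [h, closure_empty] at hdense
    exact (Set.empty_ne_univ (α := X)) hdense
  refine ⟨hne, ?_⟩
  intro u v hu hv huv hAne hBne
  by_contra hcon
  rw [Set.not_nonempty_iff_eq_empty] at hcon
  set A : Set X := Zᶜ ∩ u with hAdef
  set B : Set X := Zᶜ ∩ v with hBdef
  have hAo : IsOpen A := hZ.isOpen_compl.inter hu
  have hBo : IsOpen B := hZ.isOpen_compl.inter hv
  have hAB : Disjoint A B := by
    rw [Set.disjoint_iff_inter_eq_empty]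
    rw [← hcon]
    ext x
    simp only [hAdef, hBdef, Set.mem_inter_iff]
    tauto
  have hAuB : A ∪ B = Zᶜ := by
    ext x
    simp only [hAdef, hBdef, Set.mem_union, Set.mem_inter_iff]
    constructor
    · rintro (h | h) <;> exact h.1
    · intro hx
      rcases huv hx with h | h
      · exact Or.inl ⟨hx, h⟩
      · exact Or.inr ⟨hx, h⟩
  have hcover : closure A ∪ closure B = univ := by
    rw [← closure_union, hAuB, hdense]
  have hAclB : Disjoint A (closure B) := hAB.closure_right hAo
  have hBclA : Disjoint B (closure A) := hAB.symm.closure_right hBo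
  -- a point in both closures
  obtain ⟨w, -, hwA, hwB⟩ := isPreconnected_closed_iff.1 (isPreconnected_univ (α := X))
    (closure A) (closure B) isClosed_closure isClosed_closure (by rw [hcover])
    (by
      obtain ⟨a, ha⟩ := hAne
      exact ⟨a, mem_univ _, subset_closure ha⟩)
    (by
      obtain ⟨b, hb⟩ := hBne
      exact ⟨b, mem_univ _, subset_closure hb⟩)
  set W : Set X := closure A ∩ closure B with hW
  have hWcl : IsClosed W := isClosed_closure.inter isClosed_closure
  have hWA : Disjoint W A := by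
    rw [Set.disjoint_left]
    intro x hx hxA
    exact Set.disjoint_left.1 hAclB hxA hx.2
  have hWB : Disjoint W B := by
    rw [Set.disjoint_left]
    intro x hx hxB
    exact Set.disjoint_left.1 hBclA hxB hx.1
  have hWZ : W ⊆ Z := by
    intro x hx
    by_contra hxZ
    have : x ∈ A ∪ B := hAuB ▸ hxZ
    rcases this with h | h
    · exact Set.disjoint_left.1 hWA hx h
    · exact Set.disjoint_left.1 hWB hx h
  -- irreducible component of W through w
  set W' : Set W := irreducibleComponent (⟨w, hwA, hwB⟩ : W) with hW'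
  set K : Set X := Subtype.val '' W' with hK
  have hKcl : IsClosed K :=
    hWcl.isClosedEmbedding_subtypeVal.isClosedMap _ isClosed_irreducibleComponent
  have hKirr : IsIrreducible K :=
    isIrreducible_irreducibleComponent.image _ continuous_subtype_val.continuousOn
  have hKW : K ⊆ W := by
    rintro _ ⟨a, -, rfl⟩
    exact a.2
  obtain ⟨z, hz⟩ := QuasiSober.sober hKirr hKcl
  have hzW : z ∈ W := hKW hz.mem
  have hmax : ∀ x', x' ⤳ z → x' ∈ W → x' = z := by
    intro x' hx'z hx'W
    set K' : Set X := closure {x'} with hK'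
    have hK'irr : IsIrreducible K' := isIrreducible_singleton.closure
    have hK'W : K' ⊆ W := closure_minimal (Set.singleton_subset_iff.2 hx'W) hWcl
    have hKK' : K ⊆ K' := by
      rw [← hz.def]
      exact closure_minimal (Set.singleton_subset_iff.2 (specializes_iff_mem_closure.1 hx'z))
        isClosed_closure
    have hpre : IsPreirreducible ((Subtype.val : W → X) ⁻¹' K') :=
      isPreirreducible_preimage_val hK'irr.isPreirreducible hK'W
    have hsub : W' ⊆ (Subtype.val : W → X) ⁻¹' K' := by
      intro a ha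
      exact hKK' ⟨a, ha, rfl⟩
    have heq := (irreducibleComponent_property (⟨w, hwA, hwB⟩ : W)).2.2 _ hpre hsub
    have hK'K : K' = K := by
      rw [hK, hW', ← heq, Subtype.image_preimage_coe, Set.inter_eq_right.2 hK'W]
    have hgen' : IsGenericPoint x' K := by
      rw [isGenericPoint_def, ← hK'K]
    exact hgen'.eq hz
  obtain ⟨η, hηA, hηz⟩ := exists_specializes_of_mem_closure hloc hAo hzW.1
  obtain ⟨η', hη'B, hη'z⟩ := exists_specializes_of_mem_closure hloc hBo hzW.2
  have hηne : η ≠ z := by
    rintro rfl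
    exact Set.disjoint_left.1 hWA hzW hηA
  have hη'ne : η' ≠ z := by
    rintro rfl
    exact Set.disjoint_left.1 hWB hzW hη'B
  have hS := hgen z (hWZ hzW)
  obtain ⟨x', -, hx'P, hx'Q⟩ := hS (closure B)ᶜ (closure A)ᶜ isClosed_closure.isOpen_compl
    isClosed_closure.isOpen_compl
    (by
      rintro x' ⟨hx'z, hx'ne⟩
      by_contra hnot
      simp only [Set.mem_union, Set.mem_compl_iff, not_or, not_not] at hnot
      exact hx'ne (hmax x' hx'z ⟨hnot.2, hnot.1⟩))
    ⟨η, ⟨hηz, hηne⟩, fun h => Set.disjoint_left.1 hAclB hηA h⟩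
    ⟨η', ⟨hη'z, hη'ne⟩, fun h => Set.disjoint_left.1 hBclA hη'B h⟩
  have : x' ∈ closure A ∪ closure B := hcover ▸ mem_univ x'
  rcases this with h | h
  · exact hx'Q h
  · exact hx'P h

end Groth.Agent.Helper7.ConnCompl
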