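import Mathlib
import Groth.Agent.Helper7.ComodK
import Groth.Agent.Helper7.ComodF

set_option autoImplicit false
set_option linter.unusedSectionVars false
universe u v w w'

namespace Groth.Agent.Helper7.Comodule

open TensorProduct HopfRep

section Cosep

variable {K : Type u} {C : Type v} [Field K] [AddCommGroup C] [Module K C] [Coalgebra K C]

/-- `κ(· ⊗ a)` -/
noncomputable def kR (κ : C ⊗[K] C →ₗ[K] K) (a : C) : C →ₗ[K] K :=
  κ ∘ₗ (TensorProduct.mk K C C).flip a

/-- `κ(c ⊗ ·)` -/
noncomputable def kL (κ : C ⊗[K] C →ₗ[K] K) (c : C) : C →ₗ[K] K :=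
  κ ∘ₗ (TensorProduct.mk K C C c)

@[simp] lemma kR_apply (κ : C ⊗[K] C →ₗ[K] K) (a c : C) : kR κ a c = κ (c ⊗ₜ[K] a) := rfl
@[simp] lemma kL_apply (κ : C ⊗[K] C →ₗ[K] K) (a c : C) : kL κ c a = κ (c ⊗ₜ[K] a) := rfl

/-- a coseparability pairing on a coalgebra -/
structure IsCosepPairing (κ : C ⊗[K] C →ₗ[K] K) : Prop where
  counit : ∀ c : C, κ (CoalgebraStruct.comul (R := K) c) = CoalgebraStruct.counit (R := K) c
  bal : ∀ c a : C, sliceR (kR κ a) (CoalgebraStruct.comul (R := K) c) =
    sliceL (kL κ c) (CoalgebraStruct.comul (R := K) a)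

variable {W : Type w} [AddCommGroup W] [Module K W] [Comod K C W]

/-- the averaging retraction `W ⊗ C → W` -/
noncomputable def retr (κ : C ⊗[K] C →ₗ[K] K) : W ⊗[K] C →ₗ[K] W :=
  sliceR κ ∘ₗ (TensorProduct.assoc K W C C).toLinearMap ∘ₗ LinearMap.rTensor C (ρ K C W)

private lemma retr_aux (κ : C ⊗[K] C →ₗ[K] K) (a : C) (y : W ⊗[K] C) :
    sliceR κ ((TensorProduct.assoc K W C C) (y ⊗ₜ[K] a)) = sliceR (kR κ a) y := by
  induction y using TensorProduct.induction_on with
  | zero => simp
  | tmul w c => simp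
  | add x y hx hy => simp only [TensorProduct.add_tmul, map_add, hx, hy]

lemma retr_tmul (κ : C ⊗[K] C →ₗ[K] K) (w : W) (a : C) :
    retr κ (w ⊗ₜ[K] a) = act (kR κ a) w := by
  rw [retr, LinearMap.coe_comp, LinearMap.coe_comp, Function.comp_apply, Function.comp_apply,
    LinearMap.rTensor_tmul, LinearEquiv.coe_coe, retr_aux, act_apply]

lemma retr_coact {κ : C ⊗[K] C →ₗ[K] K} (h : IsCosepPairing κ) (w : W) :
    retr κ (ρ K C W w) = w := by
  rw [retr, LinearMap.coe_comp, LinearMap.coe_comp, Function.comp_apply, Function.comp_apply,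
    LinearEquiv.coe_coe, coassoc_apply, sliceR_lTensor]
  have : κ ∘ₗ CoalgebraStruct.comul (R := K) (A := C) = CoalgebraStruct.counit (R := K) (A := C) :=
    LinearMap.ext h.counit
  rw [this]
  exact act_counit w

private lemma mul'_map (g h : C →ₗ[K] K) (z : C ⊗[K] C) :
    LinearMap.mul' K K (TensorProduct.map g h z) = g (sliceR h z) := by
  induction z using TensorProduct.induction_on with
  | zero => simp
  | tmul c d => simp [mul_comm]
  | add x y hx hy => simp only [map_add, hx, hy]

lemma retr_act {κ : C ⊗[K] C →ₗ[K] K} (h : IsCosepPairing κ) (g : C →ₗ[K] K) (t : W ⊗[K] C) :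
    retr κ (LinearMap.lTensor W (act (V := C) g) t) = act g (retr κ t) := by
  induction t using TensorProduct.induction_on with
  | zero => simp
  | tmul w a =>
    have hfun : kR κ (act (V := C) g a) =
        LinearMap.mul' K K ∘ₗ TensorProduct.map g (kR κ a) ∘ₗ CoalgebraStruct.comul := by
      apply LinearMap.ext
      intro c
      rw [LinearMap.coe_comp, LinearMap.coe_comp, Function.comp_apply, Function.comp_apply,
        mul'_map, h.bal, apply_sliceL]
      rfl
    rw [LinearMap.lTensor_tmul, retr_tmul, retr_tmul, ← act_convMul, hfun]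
  | add x y hx hy => simp only [map_add, hx, hy]

variable {V : Type w'} [AddCommGroup V] [Module K V] [Comod K C V]

private lemma rTensor_lTensor_comm {M M' N N' : Type*} [AddCommGroup M] [Module K M]
    [AddCommGroup M'] [Module K M'] [AddCommGroup N] [Module K N] [AddCommGroup N'] [Module K N']
    (p : M →ₗ[K] M') (f : N →ₗ[K] N') (z : M ⊗[K] N) :
    LinearMap.rTensor N' p (LinearMap.lTensor M f z) =
      LinearMap.lTensor M' f (LinearMap.rTensor N p z) := by
  induction z using TensorProduct.induction_on with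
  | zero => simp
  | tmul m n => simp
  | add x y hx hy => simp only [map_add, hx, hy]

private lemma rTensor_rTensor_apply {M M' M'' N : Type*} [AddCommGroup M] [Module K M]
    [AddCommGroup M'] [Module K M'] [AddCommGroup M''] [Module K M''] [AddCommGroup N] [Module K N]
    (p : M' →ₗ[K] M'') (q : M →ₗ[K] M') (z : M ⊗[K] N) :
    LinearMap.rTensor N p (LinearMap.rTensor N q z) = LinearMap.rTensor N (p ∘ₗ q) z := by
  rw [LinearMap.rTensor_comp]
  rfl

/-- Maschke: a coseparable coalgebra has only semisimple comodules -/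
theorem isSemisimpleModule_of_cosep {κ : C ⊗[K] C →ₗ[K] K} (h : IsCosepPairing κ) :
    IsSemisimpleModule (Dual K C) V := by
  suffices hs : ∀ N : Submodule (Dual K C) V, ∃ N', IsCompl N N' from
    { toComplementedLattice := ⟨hs⟩ }
  intro N
  letI := comodOfDualSub N
  have hsub := isSubcomod_restrictScalars (K := K) (C := C) N
  obtain ⟨p, hp⟩ := LinearMap.exists_leftInverse_of_injective (N.restrictScalars K).subtype
    (Submodule.ker_subtype _)
  let pt : V →ₗ[K] ↥(N.restrictScalars K) :=
    retr κ ∘ₗ LinearMap.rTensor C p ∘ₗ ρ K C V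
  have hact : ∀ (g : C →ₗ[K] K) (v : V), pt (act g v) = act g (pt v) := by
    intro g v
    change retr κ (LinearMap.rTensor C p (ρ K C V (act g v))) =
      act g (retr κ (LinearMap.rTensor C p (ρ K C V v)))
    rw [coact_act, ← retr_act h]
    congr 1
    exact rTensor_lTensor_comm p _ _
  have hid : ∀ w : ↥(N.restrictScalars K), pt w.1 = w := by
    intro w
    change retr κ (LinearMap.rTensor C p (ρ K C V w.1)) = w
    have h1 : ρ K C V w.1 = LinearMap.rTensor C (N.restrictScalars K).subtype
        (ρ K C ↥(N.restrictScalars K) w) := (rTensor_subCoact _ hsub w).symm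
    rw [h1, rTensor_rTensor_apply, hp, LinearMap.rTensor_id, LinearMap.id_apply, retr_coact h]
  let ψ : V →ₗ[Dual K C] N :=
    { toFun := fun v => ⟨(pt v).1, (pt v).2⟩
      map_add' := fun x y => by
        apply Subtype.ext
        change (pt (x + y)).1 = (pt x).1 + (pt y).1
        rw [map_add]
        rfl
      map_smul' := fun f v => by
        apply Subtype.ext
        change (pt (act f.fn v)).1 = act f.fn (pt v).1
        rw [hact, val_act_sub (N.restrictScalars K) hsub] }
  refine ⟨LinearMap.ker ψ, LinearMap.isCompl_of_proj (f := ψ) ?_⟩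
  intro x
  apply Subtype.ext
  change (pt x.1).1 = x.1
  have := hid ⟨x.1, x.2⟩
  rw [this]

end Cosep

end Groth.Agent.Helper7.Comodule
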