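import Mathlib

namespace Groth.Agent.Helper7.CotKaeh

open TensorProduct IsLocalRing KaehlerDifferential

universe u

section general

variable {k : Type*} [Field k] {κ : Type*} [Field κ] [Algebra k κ]

theorem finrank_eq_of_bijective (h : Function.Bijective (algebraMap k κ))
    (V : Type*) [AddCommGroup V] [Module k V] [Module κ V] [IsScalarTower k κ V] :
    Module.finrank k V = Module.finrank κ V := by
  have h1 : Module.finrank k κ = 1 := by
    rw [← (LinearEquiv.ofBijective (Algebra.linearMap k κ) h).finrank_eq, Module.finrank_self]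
  rw [← Module.finrank_mul_finrank k κ V, h1, one_mul]

end general

variable {A B : Type u} [CommRing A] [CommRing B] [IsLocalRing B] [Algebra A B]

theorem smul_one_residue_eq_zero (x : maximalIdeal B) : ((x : B) • (1 : ResidueField B)) = 0 := by
  rw [Algebra.smul_def, mul_one, ResidueField.algebraMap_eq, residue_eq_zero_iff]
  exact x.2

/-- `x ↦ 1 ⊗ dx` on the maximal ideal -/
noncomputable def psi0 : (maximalIdeal B) →ₗ[B] (ResidueField B ⊗[B] Ω[B⁄A]) where
  toFun x := (1 : ResidueField B) ⊗ₜ[B] (D A B (x : B))
  map_add' x y := by simp [tmul_add]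
  map_smul' b x := by
    simp only [RingHom.id_apply]
    have : ((b • x : maximalIdeal B) : B) = b * (x : B) := rfl
    rw [this, Derivation.leibniz, tmul_add, tmul_smul, ← smul_tmul, smul_one_residue_eq_zero,
      zero_tmul, add_zero]

theorem psi0_mul (x y : maximalIdeal B) : psi0 (A := A) (x * y) = 0 := by
  have : x * y = (x : B) • y := rfl
  rw [this, map_smul]
  simp only [psi0, LinearMap.coe_mk, AddHom.coe_mk]
  rw [smul_tmul', smul_one_residue_eq_zero, zero_tmul]

/-- `ψ : m/m² → κ ⊗ Ω_{B/A}` -/
noncomputable def psi : (maximalIdeal B).Cotangent →ₗ[B] (ResidueField B ⊗[B] Ω[B⁄A]) :=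
  Ideal.Cotangent.lift psi0 psi0_mul

theorem psi_toCotangent (x : maximalIdeal B) :
    psi (A := A) ((maximalIdeal B).toCotangent x) = (1 : ResidueField B) ⊗ₜ[B] (D A B (x : B)) :=
  rfl

end Groth.Agent.Helper7.CotKaeh

namespace Groth.Agent.Helper7.CotKaeh

open TensorProduct IsLocalRing KaehlerDifferential

universe u

variable {k : Type u} [Field k] {A B : Type u} [CommRing A] [CommRing B] [IsLocalRing A]
  [IsLocalRing B] [Algebra k A] [Algebra k B] [Algebra A B] [IsScalarTower k A B]

/-- the residue of `b` as an element of `k` -/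
noncomputable def cc (hB : Function.Bijective (algebraMap k (ResidueField B))) (b : B) : k :=
  (RingEquiv.ofBijective (algebraMap k (ResidueField B)) hB).symm (residue B b)

theorem cc_spec (hB : Function.Bijective (algebraMap k (ResidueField B))) (b : B) :
    algebraMap k (ResidueField B) (cc hB b) = residue B b :=
  (RingEquiv.ofBijective (algebraMap k (ResidueField B)) hB).apply_symm_apply _

theorem cc_add (hB : Function.Bijective (algebraMap k (ResidueField B))) (b b' : B) :
    cc hB (b + b') = cc hB b + cc hB b' := by
  simp [cc]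

theorem cc_mul (hB : Function.Bijective (algebraMap k (ResidueField B))) (b b' : B) :
    cc hB (b * b') = cc hB b * cc hB b' := by
  simp [cc]

theorem cc_of_mem (hB : Function.Bijective (algebraMap k (ResidueField B))) (b : B)
    (hb : b ∈ maximalIdeal B) : cc hB b = 0 := by
  apply hB.1
  rw [cc_spec, map_zero, residue_eq_zero_iff]
  exact hb

theorem sub_cc_mem (hB : Function.Bijective (algebraMap k (ResidueField B))) (b : B) :
    b - algebraMap k B (cc hB b) ∈ maximalIdeal B := by
  rw [← residue_eq_zero_iff, map_sub, sub_eq_zero]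
  have : residue B (algebraMap k B (cc hB b)) = algebraMap k (ResidueField B) (cc hB b) := by
    rw [IsScalarTower.algebraMap_apply k B (ResidueField B), ResidueField.algebraMap_eq]
  rw [this, cc_spec]

/-- `b ↦ b - c(b)` into the maximal ideal -/
noncomputable def ee (hB : Function.Bijective (algebraMap k (ResidueField B))) (b : B) :
    maximalIdeal B := ⟨b - algebraMap k B (cc hB b), sub_cc_mem hB b⟩

theorem ee_add (hB : Function.Bijective (algebraMap k (ResidueField B))) (b b' : B) :
    ee hB (b + b') = ee hB b + ee hB b' := by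
  apply Subtype.ext
  simp only [ee, cc_add, map_add, Submodule.coe_add]
  ring

theorem ee_of_mem (hB : Function.Bijective (algebraMap k (ResidueField B))) (x : maximalIdeal B) :
    ee hB (x : B) = x := by
  apply Subtype.ext
  simp [ee, cc_of_mem hB x x.2]

theorem toCotangent_ee_mul (hB : Function.Bijective (algebraMap k (ResidueField B))) (b b' : B) :
    (maximalIdeal B).toCotangent (ee hB (b * b')) =
      cc hB b • (maximalIdeal B).toCotangent (ee hB b') +
        cc hB b' • (maximalIdeal B).toCotangent (ee hB b) := by
  rw [← LinearMap.map_smul_of_tower, ← LinearMap.map_smul_of_tower, ← map_add,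
    Ideal.toCotangent_eq]
  have : ((ee hB (b * b') : B) - ((cc hB b • ee hB b' + cc hB b' • ee hB b : maximalIdeal B) : B))
      = (ee hB b : B) * (ee hB b' : B) := by
    simp only [ee, cc_mul, map_mul, Submodule.coe_add, Submodule.coe_smul_of_tower,
      Algebra.smul_def]
    ring
  rw [this, pow_two]
  exact Ideal.mul_mem_mul (ee hB b).2 (ee hB b').2

end Groth.Agent.Helper7.CotKaeh

namespace Groth.Agent.Helper7.CotKaeh

open TensorProduct IsLocalRing KaehlerDifferential

universe u

variable {k : Type u} [Field k] {A B : Type u} [CommRing A] [CommRing B] [IsLocalRing A]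
  [IsLocalRing B] [Algebra k A] [Algebra k B] [Algebra A B] [IsScalarTower k A B]

/-- the map `φ` on cotangent spaces -/
noncomputable abbrev phi
    (hle : maximalIdeal A ≤ Ideal.comap (IsScalarTower.toAlgHom k A B) (maximalIdeal B)) :
    (maximalIdeal A).Cotangent →ₗ[k] (maximalIdeal B).Cotangent :=
  Ideal.mapCotangent (maximalIdeal A) (maximalIdeal B) (IsScalarTower.toAlgHom k A B) hle

theorem toCotangent_ee_algebraMap_mem
    (hle : maximalIdeal A ≤ Ideal.comap (IsScalarTower.toAlgHom k A B) (maximalIdeal B))
    (hB : Function.Bijective (algebraMap k (ResidueField B))) (a : A) :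
    (maximalIdeal B).toCotangent (ee hB (algebraMap A B a)) ∈ LinearMap.range (phi hle) := by
  set a' : A := a - algebraMap k A (cc hB (algebraMap A B a)) with ha'
  have hfa' : algebraMap A B a' = algebraMap A B a - algebraMap k B (cc hB (algebraMap A B a)) := by
    rw [ha', map_sub, ← IsScalarTower.algebraMap_apply k A B]
  have hmem : a' ∈ maximalIdeal A := by
    by_contra hnot
    rw [mem_maximalIdeal, mem_nonunits_iff, not_not] at hnot
    have hu : IsUnit (algebraMap A B a') := hnot.map _
    have hm : algebraMap A B a' ∈ maximalIdeal B := by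
      rw [hfa']; exact sub_cc_mem hB _
    exact (mem_nonunits_iff.mp ((mem_maximalIdeal _).mp hm)) hu
  refine ⟨(maximalIdeal A).toCotangent ⟨a', hmem⟩, ?_⟩
  rw [Ideal.mapCotangent_toCotangent]
  congr 1
  apply Subtype.ext
  simp only [ee]
  exact hfa'

/-- the `A`-derivation `B → κ(B)` attached to a functional on the cotangent space killing
the image of `φ`. -/
noncomputable def der
    (hle : maximalIdeal A ≤ Ideal.comap (IsScalarTower.toAlgHom k A B) (maximalIdeal B))
    (hB : Function.Bijective (algebraMap k (ResidueField B)))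
    (ℓ : (maximalIdeal B).Cotangent →ₗ[k] k) (hℓ : LinearMap.range (phi hle) ≤ LinearMap.ker ℓ) :
    Derivation A B (ResidueField B) := by
  have hmul : ∀ b b' : B,
      algebraMap k (ResidueField B) (ℓ ((maximalIdeal B).toCotangent (ee hB (b * b')))) =
      b • algebraMap k (ResidueField B) (ℓ ((maximalIdeal B).toCotangent (ee hB b'))) +
      b' • algebraMap k (ResidueField B) (ℓ ((maximalIdeal B).toCotangent (ee hB b))) := by
    intro b b'
    rw [toCotangent_ee_mul, map_add, map_smul, map_smul, map_add, smul_eq_mul, smul_eq_mul,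
      map_mul, map_mul, cc_spec, cc_spec, Algebra.smul_def, Algebra.smul_def,
      ResidueField.algebraMap_eq]
  have hzero : ∀ a : A,
      algebraMap k (ResidueField B) (ℓ ((maximalIdeal B).toCotangent (ee hB (algebraMap A B a))))
        = 0 := by
    intro a
    have := hℓ (toCotangent_ee_algebraMap_mem hle hB a)
    rw [LinearMap.mem_ker] at this
    rw [this, map_zero]
  refine Derivation.mk'
    { toFun := fun b => algebraMap k (ResidueField B) (ℓ ((maximalIdeal B).toCotangent (ee hB b)))
      map_add' := fun b b' => by rw [ee_add, map_add, map_add, map_add]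
      map_smul' := fun a b => by
        simp only [RingHom.id_apply]
        rw [Algebra.smul_def, hmul, hzero, smul_zero, add_zero, algebraMap_smul] } ?_
  intro b b'
  exact hmul b b'

theorem der_apply
    (hle : maximalIdeal A ≤ Ideal.comap (IsScalarTower.toAlgHom k A B) (maximalIdeal B))
    (hB : Function.Bijective (algebraMap k (ResidueField B)))
    (ℓ : (maximalIdeal B).Cotangent →ₗ[k] k) (hℓ : LinearMap.range (phi hle) ≤ LinearMap.ker ℓ)
    (b : B) : der hle hB ℓ hℓ b =
      algebraMap k (ResidueField B) (ℓ ((maximalIdeal B).toCotangent (ee hB b))) := rfl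

theorem ker_psi_le
    (hle : maximalIdeal A ≤ Ideal.comap (IsScalarTower.toAlgHom k A B) (maximalIdeal B))
    (hB : Function.Bijective (algebraMap k (ResidueField B)))
    (y : (maximalIdeal B).Cotangent) (hy : psi (A := A) y = 0) :
    y ∈ LinearMap.range (phi hle) := by
  by_contra hnot
  obtain ⟨ℓ, hℓy, hℓ⟩ := Submodule.exists_le_ker_of_notMem hnot
  set d := der hle hB ℓ hℓ with hd
  set χ : ResidueField B ⊗[B] Ω[B⁄A] →ₗ[B] ResidueField B :=
    TensorProduct.lift ((LinearMap.mul B (ResidueField B)).compl₂ d.liftKaehlerDifferential) with hχ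
  obtain ⟨x, rfl⟩ := (maximalIdeal B).toCotangent_surjective y
  have h1 : χ (psi (A := A) ((maximalIdeal B).toCotangent x)) = d (x : B) := by
    rw [psi_toCotangent, hχ, TensorProduct.lift.tmul, LinearMap.compl₂_apply,
      LinearMap.mul_apply', one_mul, Derivation.liftKaehlerDifferential_comp_D]
  rw [hy, map_zero, hd, der_apply, ee_of_mem] at h1
  apply hℓy
  apply hB.1
  rw [← h1, map_zero]

end Groth.Agent.Helper7.CotKaeh

namespace Groth.Agent.Helper7.CotKaeh

open TensorProduct IsLocalRing KaehlerDifferential

universe u

variable {k : Type u} [Field k] {A B : Type u} [CommRing A] [CommRing B] [IsLocalRing A]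
  [IsLocalRing B] [Algebra k A] [Algebra k B] [Algebra A B] [IsScalarTower k A B]

theorem range_phi_le_ker
    (hle : maximalIdeal A ≤ Ideal.comap (IsScalarTower.toAlgHom k A B) (maximalIdeal B))
    (y : (maximalIdeal B).Cotangent) (hy : y ∈ LinearMap.range (phi hle)) :
    psi (A := A) y = 0 := by
  obtain ⟨z, rfl⟩ := hy
  obtain ⟨a, rfl⟩ := (maximalIdeal A).toCotangent_surjective z
  rw [Ideal.mapCotangent_toCotangent, psi_toCotangent]
  simp only [IsScalarTower.coe_toAlgHom']
  rw [Derivation.map_algebraMap, tmul_zero]

theorem psi_surjective (hB : Function.Bijective (algebraMap k (ResidueField B))) :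
    Function.Surjective (psi (A := A) (B := B)) := by
  rw [← LinearMap.range_eq_top, eq_top_iff]
  rintro t -
  induction t using TensorProduct.induction_on with
  | zero => exact Submodule.zero_mem _
  | add x y hx hy => exact Submodule.add_mem _ hx hy
  | tmul r ω =>
    obtain ⟨b, rfl⟩ := residue_surjective r
    have hr : residue B b = b • (1 : ResidueField B) := by
      rw [Algebra.smul_def, mul_one, ResidueField.algebraMap_eq]
    rw [hr, ← smul_tmul']
    apply Submodule.smul_mem
    have hω : ω ∈ Submodule.span B (Set.range (D A B)) := by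
      rw [KaehlerDifferential.span_range_derivation]; trivial
    induction hω using Submodule.span_induction with
    | mem ω h =>
      obtain ⟨b', rfl⟩ := h
      refine ⟨(maximalIdeal B).toCotangent (ee hB b'), ?_⟩
      rw [psi_toCotangent]
      congr 1
      simp only [ee, map_sub]
      rw [IsScalarTower.algebraMap_apply k A B, Derivation.map_algebraMap, sub_zero]
    | zero => rw [tmul_zero]; exact Submodule.zero_mem _
    | add x y _ _ hx hy => rw [tmul_add]; exact Submodule.add_mem _ hx hy
    | smul c x _ hx => rw [tmul_smul]; exact Submodule.smul_mem _ _ hx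

theorem isScalarTower_cot : IsScalarTower k (ResidueField B) (CotangentSpace B) := by
  constructor
  intro c r y
  obtain ⟨b, rfl⟩ := residue_surjective r
  have h1 : c • residue B b = residue B (c • b) := by
    rw [Algebra.smul_def, Algebra.smul_def, map_mul,
      IsScalarTower.algebraMap_apply k B (ResidueField B), ResidueField.algebraMap_eq]
  have h2 : ∀ b' : B, residue B b' • y = b' • y := fun b' => by
    rw [← ResidueField.algebraMap_eq, algebraMap_smul]
  rw [h1, h2, h2, smul_assoc]

theorem result [IsNoetherianRing B]
    (hle : maximalIdeal A ≤ Ideal.comap (IsScalarTower.toAlgHom k A B) (maximalIdeal B))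
    (hB : Function.Bijective (algebraMap k (ResidueField B))) :
    Module.finrank (ResidueField B) (ResidueField B ⊗[B] Ω[B⁄A]) +
      Module.finrank k ↥(LinearMap.range (phi hle)) =
      Module.finrank k (CotangentSpace B) := by
  haveI : IsScalarTower k (ResidueField B) (CotangentSpace B) := isScalarTower_cot
  -- upgrade ψ to a κ-linear map
  set ψ' : CotangentSpace B →ₗ[ResidueField B] (ResidueField B ⊗[B] Ω[B⁄A]) :=
    LinearMap.extendScalarsOfSurjective (residue_surjective (R := B)) (psi (A := A) (B := B))
    with hψ'
  have hψ'_apply : ∀ y, ψ' y = psi (A := A) y := fun y => rfl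
  have hsurj : Function.Surjective ψ' := fun t => by
    obtain ⟨y, hy⟩ := psi_surjective (A := A) hB t
    exact ⟨y, hy⟩
  have hrn := LinearMap.finrank_range_add_finrank_ker ψ'
  rw [LinearMap.range_eq_top.mpr hsurj, finrank_top] at hrn
  rw [finrank_eq_of_bijective hB (CotangentSpace B), ← hrn]
  congr 1
  rw [← finrank_eq_of_bijective hB ↥(LinearMap.ker ψ')]
  have hset : LinearMap.range (phi hle) = (LinearMap.ker ψ').restrictScalars k := by
    ext y
    simp only [Submodule.restrictScalars_mem, LinearMap.mem_ker, hψ'_apply]
    exact ⟨range_phi_le_ker hle y, ker_psi_le hle hB y⟩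
  rw [hset]
  rfl

end Groth.Agent.Helper7.CotKaeh
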