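import Groth.Statements.S15841

set_option autoImplicit false
universe u
open scoped TensorProduct

namespace Groth.Agent.Helper7.Coxeter

variable {ι M N : Type u} [AddCommGroup M] [AddCommGroup N] (P : RootPairing ι ℤ M N)

/-- coreflection as a linear map -/
noncomputable abbrev cr (i : ι) : N →ₗ[ℤ] N := ((P.coreflection i : N ≃ₗ[ℤ] N) : N →ₗ[ℤ] N)

lemma cr_eq (i : ι) :
    cr P i = LinearMap.id - (LinearMap.toSpanSingleton ℤ N (P.coroot i)).comp (P.root' i) := by
  ext n
  simp [cr, RootPairing.coreflection_apply]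

lemma comp_cr (f : N →ₗ[ℤ] ℤ) (i : ι) :
    f.comp (cr P i) = f - (f (P.coroot i)) • P.root' i := by
  ext n
  simp [cr, RootPairing.coreflection_apply, mul_comm]

lemma comp_prod (f : N →ₗ[ℤ] ℤ) (l : List ι) (hf : ∀ j ∈ l, f (P.coroot j) = 0) :
    f.comp ((l.map (fun i => cr P i)).prod) = f := by
  induction l with
  | nil => simp; rfl
  | cons i l ih =>
    rw [List.map_cons, List.prod_cons, Module.End.mul_eq_comp, ← LinearMap.comp_assoc]
    have h1 : f.comp (cr P i) = f := by
      have := comp_cr P f i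
      rw [hf i List.mem_cons_self, zero_smul, sub_zero] at this
      exact this
    rw [h1]
    exact ih (fun j hj => hf j (List.mem_cons_of_mem _ hj))

theorem main (k : Type u) [Field k] (l : List ι) (hl : l.Nodup)
    (hsc : ∀ i ∈ l, ∃ ω : M, P.coroot' i ω = 1 ∧ ∀ j ∈ l, j ≠ i → P.coroot' j ω = 0)
    (H : k ⊗[ℤ] N)
    (hH : ((l.map (fun i => cr P i)).prod).baseChange k H = H) :
    ∀ i ∈ l, (P.root' i).baseChange k H = 0 := by
  induction l with
  | nil => simp
  | cons i l ih =>
    obtain ⟨ω, hω1, hω0⟩ := hsc i List.mem_cons_self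
    have hnd := List.nodup_cons.mp hl
    set f : N →ₗ[ℤ] ℤ := P.toLinearMap ω with hf
    have hfi : f (P.coroot i) = 1 := hω1
    have hfj : ∀ j ∈ l, f (P.coroot j) = 0 := fun j hj =>
      hω0 j (List.mem_cons_of_mem _ hj) (by rintro rfl; exact hnd.1 hj)
    rw [List.map_cons, List.prod_cons, Module.End.mul_eq_comp, LinearMap.baseChange_comp,
      LinearMap.comp_apply] at hH
    set H' := ((l.map (fun i => cr P i)).prod).baseChange k H with hH'
    have h1 : f.baseChange k H' = f.baseChange k H := by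
      rw [hH', ← LinearMap.comp_apply, ← LinearMap.baseChange_comp, comp_prod P f l hfj]
    have h2 : f.baseChange k ((cr P i).baseChange k H') =
        f.baseChange k H' - (P.root' i).baseChange k H' := by
      rw [← LinearMap.comp_apply, ← LinearMap.baseChange_comp, comp_cr, hfi, one_smul,
        LinearMap.baseChange_sub, LinearMap.sub_apply]
    have h3 : (P.root' i).baseChange k H' = 0 := by
      have := congrArg (f.baseChange k) hH
      rw [h2, h1] at this
      exact sub_eq_self.mp this
    have h4 : (cr P i).baseChange k H' = H' := by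
      rw [cr_eq, LinearMap.baseChange_sub, LinearMap.baseChange_id, LinearMap.baseChange_comp,
        LinearMap.sub_apply, LinearMap.comp_apply, h3, map_zero, sub_zero]
      rfl
    have h5 : H' = H := by rw [← h4]; exact hH
    have ih' := ih hnd.2 (fun j hj => by
      obtain ⟨ω', h1', h0'⟩ := hsc j (List.mem_cons_of_mem _ hj)
      exact ⟨ω', h1', fun j' hj' hne => h0' j' (List.mem_cons_of_mem _ hj') hne⟩) h5
    intro j hj
    rcases List.mem_cons.mp hj with rfl | hj
    · rw [← h5]; exact h3
    · exact ih' j hj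

theorem result
    (b : P.Base)
    (hsc : ∀ i ∈ b.support, ∃ ω : M, P.coroot' i ω = 1 ∧ ∀ j ∈ b.support, j ≠ i → P.coroot' j ω = 0)
    (l : List ι) (hl : l.Nodup) (hlb : ∀ i : ι, i ∈ l ↔ i ∈ b.support)
    (k : Type u) [Field k] (H : k ⊗[ℤ] N)
    (hH : ((l.map (fun i => ((P.coreflection i : N ≃ₗ[ℤ] N) : N →ₗ[ℤ] N))).prod).baseChange k H = H) :
    ∀ i ∈ b.support, (P.root' i).baseChange k H = 0 := by
  intro i hi
  refine main P k l hl ?_ H hH i ((hlb i).mpr hi)
  intro i hi
  obtain ⟨ω, h1, h0⟩ := hsc i ((hlb i).mp hi)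
  exact ⟨ω, h1, fun j hj hne => h0 j ((hlb j).mp hj) hne⟩

end Groth.Agent.Helper7.Coxeter
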