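import Mathlib

/-!
# Automorphisms of finite order of a Noetherian local ring acting as a pseudo-reflection on the
cotangent space (helper7)
-/

set_option autoImplicit false

namespace Groth.Agent.Helper7.Cst

open IsLocalRing

section Krull

variable {A : Type*} [CommRing A] [IsLocalRing A] [IsNoetherianRing A]

/-- ideals of a Noetherian local ring are closed -/
theorem mem_of_forall_mem_sup_pow (J : Ideal A) (x : A)
    (h : ∀ N : ℕ, x ∈ J ⊔ maximalIdeal A ^ N) : x ∈ J := by
  have hK := Ideal.iInf_pow_smul_eq_bot_of_isLocalRing (R := A) (M := A ⧸ J) (I := maximalIdeal A)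
    (Ideal.IsPrime.ne_top inferInstance)
  have hx : (Ideal.Quotient.mk J x : A ⧸ J) ∈
      (⨅ i : ℕ, maximalIdeal A ^ i • ⊤ : Submodule A (A ⧸ J)) := by
    rw [Submodule.mem_iInf]
    intro i
    obtain ⟨j, hj, μ, hμ, rfl⟩ := Submodule.mem_sup.mp (h i)
    have : (Ideal.Quotient.mk J (j + μ) : A ⧸ J) = μ • (1 : A ⧸ J) := by
      rw [map_add, Ideal.Quotient.eq_zero_iff_mem.mpr hj, zero_add, Algebra.smul_def, mul_one]
      rfl
    rw [this]
    exact Submodule.smul_mem_smul hμ Submodule.mem_top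
  rw [hK, Submodule.mem_bot] at hx
  exact Ideal.Quotient.eq_zero_iff_mem.mp hx

omit [IsNoetherianRing A] in
theorem sup_pow_mul_pow_le (J : Ideal A) (p q : ℕ) {a b : A} (ha : a ∈ J ⊔ maximalIdeal A ^ p)
    (hb : b ∈ maximalIdeal A ^ q) : a * b ∈ J ⊔ maximalIdeal A ^ (p + q) := by
  obtain ⟨j, hj, μ, hμ, rfl⟩ := Submodule.mem_sup.mp ha
  rw [add_mul]
  refine Submodule.add_mem_sup (Ideal.mul_mem_right _ _ hj) ?_
  rw [pow_add]
  exact Ideal.mul_mem_mul hμ hb

end Krull

section Avg

variable {A : Type*} [CommRing A] {G : Type*} [Group G] [MulSemiringAction G A]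

theorem smul_natCast' (s : G) (m : ℕ) : s • (m : A) = m :=
  map_natCast (MulSemiringAction.toRingHom G A s) m

theorem smul_eq_of_mul_natCast (s : G) (m : ℕ) (u : A) (hum : u * m = 1) : s • u = u := by
  have h1 : s • u * m = 1 := by
    have := congrArg (fun x => s • x) hum
    simpa [smul_mul', smul_natCast'] using this
  calc s • u = s • u * (u * m) := by rw [hum, mul_one]
    _ = (s • u * m) * u := by ring
    _ = u := by rw [h1, one_mul]

/-- stability of an ideal under `s` passes to powers of `s` -/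
theorem pow_smul_sub_mem (s : G) (K : Ideal A) (hK : ∀ x ∈ K, s • x ∈ K) (ζ : A)
    (hζ : s • ζ = ζ) (a : A) (h : s • a - ζ * a ∈ K) (j : ℕ) : s ^ j • a - ζ ^ j * a ∈ K := by
  induction j with
  | zero => simp
  | succ j ih =>
    have e : s ^ (j + 1) • a - ζ ^ (j + 1) * a =
        s • (s ^ j • a - ζ ^ j * a) + ζ ^ j * (s • a - ζ * a) := by
      rw [pow_succ' s, mul_smul, smul_sub, smul_mul', smul_pow', hζ]
      ring
    rw [e]
    exact K.add_mem (hK _ ih) (K.mul_mem_left _ h)

/-- the twisted average -/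
def tavg (s : G) (m : ℕ) (u ζ' : A) (a : A) : A :=
  u * ∑ j ∈ Finset.range m, ζ' ^ j * (s ^ j • a)

theorem smul_tavg (s : G) (m : ℕ) (hs : s ^ m = 1) (u ζ ζ' : A) (hu : s • u = u)
    (hζ' : s • ζ' = ζ') (hζζ' : ζ * ζ' = 1) (hζm : ζ' ^ m = 1) (a : A) :
    s • tavg s m u ζ' a = ζ * tavg s m u ζ' a := by
  unfold tavg
  rw [smul_mul', hu, Finset.smul_sum, mul_left_comm]
  congr 1
  rw [Finset.mul_sum]
  have e1 : ∀ j, s • (ζ' ^ j * s ^ j • a) = ζ' ^ j * s ^ (j + 1) • a := by
    intro j
    rw [smul_mul', smul_pow', hζ', pow_succ' s, mul_smul]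
  simp only [e1]
  cases m with
  | zero => simp
  | succ m =>
    rw [Finset.sum_range_succ, Finset.sum_range_succ' (fun j => ζ * (ζ' ^ j * s ^ j • a))]
    have e2 : ζ' ^ m = ζ := by
      calc ζ' ^ m = (ζ * ζ') * ζ' ^ m := by rw [hζζ', one_mul]
        _ = ζ * ζ' ^ (m + 1) := by ring
        _ = ζ := by rw [hζm, mul_one]
    rw [hs, one_smul, e2, pow_zero, pow_zero, one_smul, one_mul]
    congr 1
    refine Finset.sum_congr rfl fun j _ => ?_
    have e3 : ζ * ζ' ^ (j + 1) = ζ' ^ j := by
      rw [pow_succ, ← mul_assoc, mul_comm ζ, mul_assoc, hζζ', mul_one]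
    rw [← mul_assoc, e3]

theorem tavg_sub_mem (s : G) (m : ℕ) (u ζ ζ' : A) (hum : u * m = 1) (hζζ' : ζ * ζ' = 1)
    (K : Ideal A) (a : A) (h : ∀ j, s ^ j • a - ζ ^ j * a ∈ K) : tavg s m u ζ' a - a ∈ K := by
  have e : tavg s m u ζ' a - a = u * ∑ j ∈ Finset.range m, ζ' ^ j * (s ^ j • a - ζ ^ j * a) := by
    unfold tavg
    have e1 : ∀ j, ζ' ^ j * (s ^ j • a - ζ ^ j * a) = ζ' ^ j * s ^ j • a - a := by
      intro j
      rw [mul_sub, ← mul_assoc, ← mul_pow, mul_comm ζ' ζ, hζζ', one_pow, one_mul]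
    simp only [e1]
    rw [Finset.sum_sub_distrib, mul_sub, Finset.sum_const, Finset.card_range, nsmul_eq_mul,
      ← mul_assoc, hum, one_mul]
  rw [e]
  exact K.mul_mem_left _ (K.sum_mem fun j _ => K.mul_mem_left _ (h j))

end Avg

section LemmaQ

variable {A : Type*} [CommRing A] [IsLocalRing A] {G : Type*} [Group G] [MulSemiringAction G A]

theorem smul_mem_maximalIdeal (s : G) (hres : ∀ a : A, s • a - a ∈ maximalIdeal A) {x : A}
    (hx : x ∈ maximalIdeal A) : s • x ∈ maximalIdeal A := by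
  have := (maximalIdeal A).add_mem (hres x) hx
  simpa using this

theorem smul_mem_pow (s : G) (hres : ∀ a : A, s • a - a ∈ maximalIdeal A) (N : ℕ) {x : A}
    (hx : x ∈ maximalIdeal A ^ N) : s • x ∈ maximalIdeal A ^ N := by
  have h1 : Ideal.map (MulSemiringAction.toRingHom G A s) (maximalIdeal A) ≤ maximalIdeal A := by
    rw [Ideal.map_le_iff_le_comap]
    intro y hy
    exact smul_mem_maximalIdeal s hres hy
  have h2 := Ideal.mem_map_of_mem (MulSemiringAction.toRingHom G A s) hx
  rw [Ideal.map_pow] at h2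
  exact Ideal.pow_right_mono h1 N h2

theorem smul_mem_sup_pow (s : G) (hres : ∀ a : A, s • a - a ∈ maximalIdeal A) (J : Ideal A)
    (hJ : ∀ x ∈ J, s • x ∈ J) (N : ℕ) {x : A}
    (hx : x ∈ J ⊔ maximalIdeal A ^ N) : s • x ∈ J ⊔ maximalIdeal A ^ N := by
  obtain ⟨j, hj, μ, hμ, rfl⟩ := Submodule.mem_sup.mp hx
  rw [smul_add]
  exact Submodule.add_mem_sup (hJ j hj) (smul_mem_pow s hres N hμ)

omit [IsLocalRing A] in
theorem smul_mul_sub (s : G) (x y : A) :
    s • (x * y) - x * y = (s • x - x) * y + (s • y - y) * s • x := by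
  rw [smul_mul']
  ring

/-- `s - 1` raises the `𝔪`-adic filtration modulo `J` -/
theorem smul_sub_mem_of_mem_pow (s : G) (hres : ∀ a : A, s • a - a ∈ maximalIdeal A)
    (J : Ideal A) (hcot : ∀ x ∈ maximalIdeal A, s • x - x ∈ J ⊔ maximalIdeal A ^ 2) :
    ∀ (i : ℕ) (x : A), x ∈ maximalIdeal A ^ (i + 1) → s • x - x ∈ J ⊔ maximalIdeal A ^ (i + 2) := by
  intro i
  induction i with
  | zero =>
    intro x hx
    rw [zero_add, pow_one] at hx
    exact hcot x hx
  | succ i ih =>
    intro x hx
    rw [pow_succ] at hx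
    refine Submodule.mul_induction_on hx ?_ ?_
    · intro x hx y hy
      rw [smul_mul_sub]
      refine Ideal.add_mem _ ?_ ?_
      · have := sup_pow_mul_pow_le J (i + 2) 1 (ih x hx) (by rwa [pow_one])
        exact this
      · have := sup_pow_mul_pow_le J 2 (i + 1) (hcot y hy) (smul_mem_pow s hres (i + 1) hx)
        have e : 2 + (i + 1) = i + 1 + 2 := by omega
        rwa [e] at this
    · intro x y hx hy
      have e : s • (x + y) - (x + y) = (s • x - x) + (s • y - y) := by
        rw [smul_add]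
        ring
      rw [e]
      exact Ideal.add_mem _ hx hy

variable [IsNoetherianRing A]

/-- **Lemma Q**: an automorphism `s` of finite order invertible in `A`, acting trivially on the
residue field and, modulo an `s`-stable ideal `J`, trivially on the cotangent space, acts trivially
on `A ⧸ J`. -/
theorem smul_sub_mem_of_cot (s : G) (m : ℕ) (hs : s ^ m = 1) (u : A) (hum : u * m = 1)
    (J : Ideal A) (hJ : ∀ x ∈ J, s • x ∈ J) (hres : ∀ a : A, s • a - a ∈ maximalIdeal A)
    (hcot : ∀ x ∈ maximalIdeal A, s • x - x ∈ J ⊔ maximalIdeal A ^ 2) (a : A) :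
    s • a - a ∈ J := by
  have hsu : s • u = u := smul_eq_of_mul_natCast s m u hum
  have hs1 : s • (1 : A) = 1 := smul_one s
  have key : ∀ (N : ℕ) (a : A), s • a - a ∈ J ⊔ maximalIdeal A ^ (N + 1) := by
    intro N
    induction N with
    | zero =>
      intro a
      rw [zero_add, pow_one]
      exact Ideal.mem_sup_right (hres a)
    | succ N ih =>
      intro a
      set K : Ideal A := J ⊔ maximalIdeal A ^ (N + 1) with hK
      have hKs : ∀ x ∈ K, s • x ∈ K := fun x hx => smul_mem_sup_pow s hres J hJ (N + 1) hx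
      have h1 : ∀ j, s ^ j • a - 1 ^ j * a ∈ K := by
        intro j
        refine pow_smul_sub_mem s K hKs 1 hs1 a ?_ j
        rw [one_mul]
        exact ih a
      have h2 : tavg s m u 1 a - a ∈ K := tavg_sub_mem s m u 1 1 hum (one_mul 1) K a h1
      have h3 : s • tavg s m u 1 a = tavg s m u 1 a := by
        rw [smul_tavg s m hs u 1 1 hsu hs1 (one_mul 1) (one_pow m), one_mul]
      have e : s • a - a = -(s • (tavg s m u 1 a - a) - (tavg s m u 1 a - a)) := by
        rw [smul_sub, h3]
        ring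
      rw [e]
      refine Ideal.neg_mem_iff _ |>.mpr ?_
      obtain ⟨j, hj, μ, hμ, hjμ⟩ := Submodule.mem_sup.mp h2
      rw [← hjμ]
      have e2 : s • (j + μ) - (j + μ) = (s • j - j) + (s • μ - μ) := by
        rw [smul_add]
        ring
      rw [e2]
      refine Ideal.add_mem _ (Ideal.mem_sup_left (J.sub_mem (hJ j hj) hj)) ?_
      exact smul_sub_mem_of_mem_pow s hres J hcot N μ hμ
  refine mem_of_forall_mem_sup_pow J _ fun N => ?_
  cases N with
  | zero =>
    rw [pow_zero, Ideal.one_eq_top, sup_top_eq]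
    exact Submodule.mem_top
  | succ N => exact key N a

end LemmaQ

section LemmaP

variable {k A G : Type*} [Field k] [CommRing A] [Algebra k A] [IsLocalRing A] [IsNoetherianRing A]
  [Group G] [MulSemiringAction G A] [SMulCommClass G k A]

/-- **Lemma P**: a `k`-algebra automorphism `s` of finite order invertible in `k`, trivial on the
residue field, with `(s - 1)A ⊆ k w + 𝔪²`, satisfies `(s - 1)A ⊆ l A` for some `l ∈ 𝔪`. -/
theorem exists_dvd_smul_sub (s : G) (m : ℕ) (hs : s ^ m = 1) (hm : (m : k) ≠ 0)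
    (hres : ∀ a : A, s • a - a ∈ maximalIdeal A)
    (w : A) (hw : w ∈ maximalIdeal A)
    (hcot : ∀ a : A, ∃ c : k, s • a - a - c • w ∈ maximalIdeal A ^ 2) :
    ∃ l ∈ maximalIdeal A, ∀ a : A, l ∣ s • a - a := by
  set u : A := algebraMap k A (m : k)⁻¹ with hu
  have hum : u * m = 1 := by
    rw [hu, ← map_natCast (algebraMap k A), ← map_mul, inv_mul_cancel₀ hm, map_one]
  by_cases hw2 : w ∈ maximalIdeal A ^ 2
  · refine ⟨0, zero_mem _, fun a => ?_⟩
    have : s • a - a ∈ (⊥ : Ideal A) := by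
      refine smul_sub_mem_of_cot s m hs u hum ⊥ (fun x hx => ?_) hres (fun x _ => ?_) a
      · rw [Ideal.mem_bot] at hx ⊢
        rw [hx, smul_zero]
      · obtain ⟨c, hc⟩ := hcot x
        rw [bot_sup_eq]
        have := Ideal.add_mem _ hc (Submodule.smul_of_tower_mem _ c hw2)
        simpa using this
    rw [Ideal.mem_bot] at this
    rw [this]
  · obtain ⟨cw, hcw⟩ := hcot w
    set ζ : k := 1 + cw with hζdef
    have hζw : s • w - algebraMap k A ζ * w ∈ maximalIdeal A ^ 2 := by
      convert hcw using 1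
      rw [hζdef, map_add, map_one, Algebra.smul_def]
      ring
    have hsζ : ∀ c : k, s • algebraMap k A c = algebraMap k A c := fun c => smul_algebraMap s c
    have hM2 : ∀ x ∈ maximalIdeal A ^ 2, s • x ∈ maximalIdeal A ^ 2 :=
      fun x hx => smul_mem_pow s hres 2 hx
    have hζm : ζ ^ m = 1 := by
      by_contra hne
      have h1 := pow_smul_sub_mem s _ hM2 (algebraMap k A ζ) (hsζ ζ) w hζw m
      rw [hs, one_smul, ← map_pow] at h1
      have h2 : (1 - ζ ^ m) • w ∈ maximalIdeal A ^ 2 := by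
        convert h1 using 1
        rw [sub_smul, one_smul, Algebra.smul_def]
      have h3 : (1 - ζ ^ m) ≠ 0 := sub_ne_zero.mpr (Ne.symm hne)
      apply hw2
      have := Submodule.smul_of_tower_mem (maximalIdeal A ^ 2) (1 - ζ ^ m)⁻¹ h2
      rwa [smul_smul, inv_mul_cancel₀ h3, one_smul] at this
    have hζ0 : ζ ≠ 0 := by
      intro h0
      rw [h0] at hζm
      cases m with
      | zero => exact hm (by simp)
      | succ m => simp at hζm
    have hζζ' : algebraMap k A ζ * algebraMap k A ζ⁻¹ = 1 := by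
      rw [← map_mul, mul_inv_cancel₀ hζ0, map_one]
    set l : A := tavg s m u (algebraMap k A ζ⁻¹) w with hl
    have hsl : s • l = algebraMap k A ζ * l :=
      smul_tavg s m hs u _ _ (smul_eq_of_mul_natCast s m u hum) (hsζ _) hζζ'
        (by rw [← map_pow, inv_pow, hζm, inv_one, map_one]) w
    have hlw : l - w ∈ maximalIdeal A ^ 2 :=
      tavg_sub_mem s m u (algebraMap k A ζ) _ hum hζζ' _ w
        (fun j => pow_smul_sub_mem s _ hM2 _ (hsζ ζ) w hζw j)
    have hlM : l ∈ maximalIdeal A := by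
      have := Ideal.add_mem _ (Ideal.pow_le_self two_ne_zero hlw) hw
      simpa using this
    refine ⟨l, hlM, fun a => ?_⟩
    rw [← Ideal.mem_span_singleton]
    refine smul_sub_mem_of_cot s m hs u hum (Ideal.span {l}) ?_ hres ?_ a
    · intro x hx
      obtain ⟨r, rfl⟩ := Ideal.mem_span_singleton'.mp hx
      rw [smul_mul', hsl]
      exact Ideal.mem_span_singleton'.mpr ⟨s • r * algebraMap k A ζ, by ring⟩
    · intro x _
      obtain ⟨c, hc⟩ := hcot x
      have e : s • x - x = c • l + ((s • x - x - c • w) - c • (l - w)) := by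
        rw [smul_sub]
        ring
      rw [e]
      refine Submodule.add_mem_sup ?_ ?_
      · rw [Algebra.smul_def]
        exact Ideal.mul_mem_left _ _ (Ideal.subset_span rfl)
      · exact Ideal.sub_mem _ hc (Submodule.smul_of_tower_mem _ c hlw)

end LemmaP

end Groth.Agent.Helper7.Cst
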