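import Mathlib
import Groth.Agent.Helper7.CstA

/-!
# Chevalley's lemma for a finite group generated by pseudo-reflections acting on a Noetherian local
domain (helper7)
-/

set_option autoImplicit false

namespace Groth.Agent.Helper7.Cst

open IsLocalRing

section Reynolds

variable {A : Type*} [CommRing A] {G : Type*} [Group G] [Fintype G] [MulSemiringAction G A]

/-- the Reynolds operator -/
def rey (G : Type*) [Group G] [Fintype G] {A : Type*} [CommRing A] [MulSemiringAction G A]
    (u : A) (a : A) : A := u * ∑ g : G, g • a

theorem smul_rey (u : A) (hu : ∀ g : G, g • u = u) (h : G) (a : A) :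
    h • rey G u a = rey G u a := by
  unfold rey
  rw [smul_mul', hu, Finset.smul_sum]
  congr 1
  simp only [smul_smul]
  exact Fintype.sum_bijective (fun g => h * g) (Group.mulLeft_bijective h) _ _ (fun g => rfl)

theorem rey_mul_inv (u a b : A) (hb : ∀ g : G, g • b = b) :
    rey G u (a * b) = rey G u a * b := by
  unfold rey
  simp only [smul_mul', hb]
  rw [← Finset.sum_mul, mul_assoc]

theorem rey_sum (u : A) {ι : Type*} (T : Finset ι) (f : ι → A) :
    rey G u (∑ i ∈ T, f i) = ∑ i ∈ T, rey G u (f i) := by
  unfold rey
  simp only [Finset.smul_sum]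
  rw [Finset.sum_comm, Finset.mul_sum]

theorem rey_zero (u : A) : rey G u (0 : A) = 0 := by
  unfold rey
  simp

theorem sub_rey (u : A) (hu : u * (Fintype.card G : A) = 1) (a : A) :
    a - rey G u a = u * ∑ g : G, (a - g • a) := by
  unfold rey
  rw [Finset.sum_sub_distrib, Finset.sum_const, Finset.card_univ, nsmul_eq_mul, mul_sub,
    ← mul_assoc, hu, one_mul]

end Reynolds

section Chevalley

variable (A : Type*) [CommRing A] [IsLocalRing A] (G : Type*) [Group G] [MulSemiringAction G A]

/-- the ideal generated by the non-unit invariants -/
def invIdeal : Ideal A := Ideal.span {b | (∀ g : G, g • b = b) ∧ b ∈ maximalIdeal A}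

variable {A G}

theorem smul_mem_invIdeal (g : G) {x : A} (hx : x ∈ invIdeal A G) : g • x ∈ invIdeal A G := by
  unfold invIdeal at hx ⊢
  refine Submodule.span_induction ?_ ?_ ?_ ?_ hx
  · intro b hb
    rw [hb.1 g]
    exact Ideal.subset_span hb
  · rw [smul_zero]
    exact zero_mem _
  · intro x y _ _ hx hy
    rw [smul_add]
    exact add_mem hx hy
  · intro r x _ hx
    rw [smul_eq_mul, smul_mul']
    exact Ideal.mul_mem_left _ _ hx

variable [IsDomain A] [IsNoetherianRing A] [Fintype G]

/-- **Chevalley's lemma**, local form. -/
theorem chevalley (u : A) (hu : u * (Fintype.card G : A) = 1)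
    (hres : ∀ (g : G) (a : A), g • a - a ∈ maximalIdeal A)
    (S : Set G) (hS : Subgroup.closure S = ⊤)
    (hS' : ∀ s ∈ S, ∃ l ∈ maximalIdeal A, ∀ a : A, l ∣ s • a - a)
    {ι : Type*} [Fintype ι] [DecidableEq ι] (uu : ι → A) (huu : ∀ i (g : G), g • uu i = uu i)
    (i0 : ι)
    (hi0 : ∀ c : ι → A, (∀ i (g : G), g • c i = c i) →
      uu i0 ≠ ∑ i ∈ Finset.univ.erase i0, c i * uu i)
    (a : ι → A) (hrel : ∑ i, a i * uu i = 0) : a i0 ∈ invIdeal A G := by
  have hgu : ∀ g : G, g • u = u := fun g => smul_eq_of_mul_natCast g _ u hu
  have key : ∀ (N : ℕ) (a : ι → A), ∑ i, a i * uu i = 0 →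
      a i0 ∈ invIdeal A G ⊔ maximalIdeal A ^ N := by
    intro N
    induction N with
    | zero =>
      intro a _
      rw [pow_zero, Ideal.one_eq_top, sup_top_eq]
      exact Submodule.mem_top
    | succ N ih =>
      intro a hrel
      set K : Ideal A := invIdeal A G ⊔ maximalIdeal A ^ (N + 1) with hK
      have hKs : ∀ (g : G), ∀ x ∈ K, g • x ∈ K := fun g x hx =>
        smul_mem_sup_pow g (hres g) (invIdeal A G) (fun x hx => smul_mem_invIdeal g hx) (N + 1) hx
      -- step 1
      have step1 : ∀ g : G, g • a i0 - a i0 ∈ K := by
        intro g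
        have hg : g ∈ Subgroup.closure S := by
          rw [hS]
          exact Subgroup.mem_top g
        refine Subgroup.closure_induction (p := fun g _ => g • a i0 - a i0 ∈ K) ?_ ?_ ?_ ?_ hg
        · intro s hs
          obtain ⟨l, hl, hd⟩ := hS' s hs
          by_cases hl0 : l = 0
          · have := hd (a i0)
            rw [hl0, zero_dvd_iff] at this
            rw [this]
            exact zero_mem _
          · choose d hd' using fun i => hd (a i)
            have hrel' : ∑ i, d i * uu i = 0 := by
              apply mul_left_cancel₀ hl0
              rw [mul_zero, Finset.mul_sum]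
              have e1 : ∀ i, l * (d i * uu i) = s • (a i * uu i) - a i * uu i := by
                intro i
                rw [smul_mul', huu, ← mul_assoc, ← hd' i]
                ring
              simp only [e1]
              rw [Finset.sum_sub_distrib, ← Finset.smul_sum, hrel, smul_zero, sub_zero]
            have h1 := ih d hrel'
            rw [hd' i0, mul_comm]
            exact sup_pow_mul_pow_le (invIdeal A G) N 1 h1 (by rwa [pow_one])
        · rw [one_smul, sub_self]
          exact zero_mem _
        · intro g h _ _ hg hh
          have e : (g * h) • a i0 - a i0 = g • (h • a i0 - a i0) + (g • a i0 - a i0) := by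
            rw [mul_smul, smul_sub]
            ring
          rw [e]
          exact K.add_mem (hKs g _ hh) hg
        · intro g _ hg
          have e : g⁻¹ • a i0 - a i0 = -(g⁻¹ • (g • a i0 - a i0)) := by
            rw [smul_sub, inv_smul_smul]
            ring
          rw [e]
          exact K.neg_mem (hKs g⁻¹ _ hg)
      -- step 2
      have step2 : a i0 - rey G u (a i0) ∈ K := by
        rw [sub_rey u hu]
        refine K.mul_mem_left _ (K.sum_mem fun g _ => ?_)
        have := K.neg_mem (step1 g)
        rwa [neg_sub] at this
      -- step 3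
      have step3 : rey G u (a i0) ∈ invIdeal A G := by
        refine Ideal.subset_span ⟨fun g => smul_rey u hgu g _, ?_⟩
        by_contra hnot
        have hunit : IsUnit (rey G u (a i0)) := by
          by_contra h
          exact hnot ((IsLocalRing.mem_maximalIdeal _).mpr h)
        obtain ⟨v, hv⟩ := hunit.exists_right_inv
        have hvinv : ∀ g : G, g • v = v := by
          intro g
          have h1 : rey G u (a i0) * g • v = 1 := by
            have := congrArg (fun x => g • x) hv
            simpa [smul_mul', smul_rey u hgu] using this
          calc g • v = (rey G u (a i0) * v) * g • v := by rw [hv, one_mul]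
            _ = (rey G u (a i0) * g • v) * v := by ring
            _ = v := by rw [h1, one_mul]
        have hρ : ∑ i, rey G u (a i) * uu i = 0 := by
          have : ∑ i, rey G u (a i) * uu i = rey G u (∑ i, a i * uu i) := by
            rw [rey_sum]
            refine Finset.sum_congr rfl fun i _ => ?_
            rw [rey_mul_inv _ _ _ (huu i)]
          rw [this, hrel, rey_zero]
        refine hi0 (fun i => -(v * rey G u (a i))) (fun i g => ?_) ?_
        · rw [smul_neg, smul_mul', hvinv, smul_rey u hgu]
        · rw [← Finset.add_sum_erase _ _ (Finset.mem_univ i0)] at hρ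
          have h2 : uu i0 = -(v * ∑ i ∈ Finset.univ.erase i0, rey G u (a i) * uu i) := by
            have h3 : rey G u (a i0) * uu i0 =
                -∑ i ∈ Finset.univ.erase i0, rey G u (a i) * uu i := eq_neg_of_add_eq_zero_left hρ
            calc uu i0 = (rey G u (a i0) * v) * uu i0 := by rw [hv, one_mul]
              _ = v * (rey G u (a i0) * uu i0) := by ring
              _ = _ := by rw [h3]; ring
          rw [h2, Finset.mul_sum, ← Finset.sum_neg_distrib]
          refine Finset.sum_congr rfl fun i _ => ?_
          ring
      have e : a i0 = (a i0 - rey G u (a i0)) + rey G u (a i0) := by ring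
      rw [e]
      exact K.add_mem step2 (Ideal.mem_sup_left step3)
  exact mem_of_forall_mem_sup_pow _ _ fun N => key N a hrel

end Chevalley

end Groth.Agent.Helper7.Cst
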