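import Mathlib
import Groth.Agent.Helper7.CstB
import Groth.Agent.Helper3.EN1

/-!
# The ring of invariants of a finite group generated by pseudo-reflections: freeness (helper7)
-/

set_option autoImplicit false
set_option linter.style.haveILetI false
set_option linter.unusedSectionVars false

namespace Groth.Agent.Helper7.Cst

open IsLocalRing TensorProduct

section Inv

variable {k A G : Type*} [Field k] [CommRing A] [Algebra k A] [IsLocalRing A]
  [Group G] [MulSemiringAction G A] [SMulCommClass G k A]

theorem isUnit_inv_iff (b : FixedPoints.subalgebra k A G) : IsUnit b ↔ IsUnit (b : A) := by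
  constructor
  · intro h
    exact h.map (FixedPoints.subalgebra k A G).val
  · intro h
    obtain ⟨v, hv⟩ := h.exists_right_inv
    have hvinv : ∀ g : G, g • v = v := by
      intro g
      have h1 : (b : A) * g • v = 1 := by
        have := congrArg (fun x => g • x) hv
        simpa [smul_mul', b.2 g] using this
      calc g • v = ((b : A) * v) * g • v := by rw [hv, one_mul]
        _ = ((b : A) * g • v) * v := by ring
        _ = v := by rw [h1, one_mul]
    refine IsUnit.of_mul_eq_one (⟨v, hvinv⟩ : FixedPoints.subalgebra k A G) ?_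
    exact Subtype.ext hv

theorem isLocalRing_inv : IsLocalRing (FixedPoints.subalgebra k A G) := by
  haveI : Nontrivial (FixedPoints.subalgebra k A G) :=
    ⟨⟨0, 1, fun h => zero_ne_one (α := A) (congrArg Subtype.val h)⟩⟩
  apply IsLocalRing.of_nonunits_add
  intro a b ha hb
  rw [mem_nonunits_iff, isUnit_inv_iff] at ha hb ⊢
  have ha' : (a : A) ∈ maximalIdeal A := (IsLocalRing.mem_maximalIdeal _).mpr ha
  have hb' : (b : A) ∈ maximalIdeal A := (IsLocalRing.mem_maximalIdeal _).mpr hb
  exact (IsLocalRing.mem_maximalIdeal _).mp ((maximalIdeal A).add_mem ha' hb')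

theorem mem_maximalIdeal_inv_iff [IsLocalRing (FixedPoints.subalgebra k A G)]
    (b : FixedPoints.subalgebra k A G) :
    b ∈ maximalIdeal (FixedPoints.subalgebra k A G) ↔ (b : A) ∈ maximalIdeal A := by
  rw [IsLocalRing.mem_maximalIdeal, IsLocalRing.mem_maximalIdeal, mem_nonunits_iff,
    mem_nonunits_iff, isUnit_inv_iff]

theorem isLocalHom_inv : IsLocalHom (algebraMap (FixedPoints.subalgebra k A G) A) :=
  ⟨fun b hb => (isUnit_inv_iff b).mpr hb⟩

/-- elements of the ideal generated by the non-unit invariants die in `κ ⊗ A` -/
theorem tmul_eq_zero_of_mem_invIdeal [IsLocalRing (FixedPoints.subalgebra k A G)] {x : A}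
    (hx : x ∈ invIdeal A G) :
    (1 : ResidueField (FixedPoints.subalgebra k A G)) ⊗ₜ[FixedPoints.subalgebra k A G] x = 0 := by
  have key : ∀ r : A,
      (1 : ResidueField (FixedPoints.subalgebra k A G)) ⊗ₜ[FixedPoints.subalgebra k A G] (r * x)
        = 0 := by
    unfold invIdeal at hx
    refine Submodule.span_induction (p := fun x _ => ∀ r : A,
      (1 : ResidueField (FixedPoints.subalgebra k A G)) ⊗ₜ[FixedPoints.subalgebra k A G] (r * x)
        = 0) ?_ ?_ ?_ ?_ hx
    · intro b hb r
      have e : r * b = (⟨b, hb.1⟩ : FixedPoints.subalgebra k A G) • r := by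
        rw [Subalgebra.smul_def, smul_eq_mul, mul_comm]
      rw [e, ← TensorProduct.smul_tmul, Algebra.smul_def, mul_one,
        IsLocalRing.ResidueField.algebraMap_eq]
      have : IsLocalRing.residue (FixedPoints.subalgebra k A G) ⟨b, hb.1⟩ = 0 := by
        rw [IsLocalRing.residue_eq_zero_iff, mem_maximalIdeal_inv_iff]
        exact hb.2
      rw [this, TensorProduct.zero_tmul]
    · intro r
      rw [mul_zero, TensorProduct.tmul_zero]
    · intro x y _ _ hx hy r
      rw [mul_add, TensorProduct.tmul_add, hx r, hy r, add_zero]
    · intro r' x _ hx r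
      rw [smul_eq_mul, ← mul_assoc]
      exact hx _
  have := key 1
  rwa [one_mul] at this

end Inv

section Noeth

variable {k A G : Type*} [Field k] [CommRing A] [Algebra k A] [IsNoetherianRing A]
  [Group G] [MulSemiringAction G A] [SMulCommClass G k A]
  [Module.Finite (FixedPoints.subalgebra k A G) A]

theorem isNoetherianRing_inv : IsNoetherianRing (FixedPoints.subalgebra k A G) :=
  Groth.Agent.Helper3.EakinNagata.isNoetherianRing_of_finite_injective _ A Subtype.val_injective

end Noeth

section Free

variable {k A G : Type*} [Field k] [CommRing A] [Algebra k A] [IsLocalRing A] [IsDomain A]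
  [IsNoetherianRing A] [Group G] [Fintype G] [MulSemiringAction G A] [SMulCommClass G k A]
  [Module.Finite (FixedPoints.subalgebra k A G) A]

/-- the combinatorial core of the freeness proof -/
theorem eq_zero_of_rel [IsLocalRing (FixedPoints.subalgebra k A G)]
    (u : A) (hu : u * (Fintype.card G : A) = 1)
    (hres : ∀ (g : G) (a : A), g • a - a ∈ maximalIdeal A)
    (S : Set G) (hS : Subgroup.closure S = ⊤)
    (hS' : ∀ s ∈ S, ∃ l ∈ maximalIdeal A, ∀ a : A, l ∣ s • a - a)
    {ι : Type*} [Fintype ι] [DecidableEq ι] (f : ι → A)
    (hind : ∀ g : ι → FixedPoints.subalgebra k A G, (∑ i, (g i : A) * f i) ∈ invIdeal A G →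
      ∀ i, g i ∈ maximalIdeal (FixedPoints.subalgebra k A G))
    (c : ι → FixedPoints.subalgebra k A G) (hc : ∑ i, (c i : A) * f i = 0) : ∀ i, c i = 0 := by
  classical
  by_contra hne
  push Not at hne
  obtain ⟨i1, hi1⟩ := hne
  let P : Finset ι → Prop := fun T => Ideal.span (c '' (T : Set ι)) = Ideal.span (Set.range c)
  have hPuniv : P Finset.univ := by
    change Ideal.span (c '' ((Finset.univ : Finset ι) : Set ι)) = _
    rw [Finset.coe_univ, Set.image_univ]
  obtain ⟨T, hTmem, hTmin⟩ := Finset.exists_min_image (Finset.univ.filter P) Finset.card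
    ⟨Finset.univ, by simp [hPuniv]⟩
  have hPT : Ideal.span (c '' (T : Set ι)) = Ideal.span (Set.range c) :=
    (Finset.mem_filter.mp hTmem).2
  have hTmin' : ∀ T' : Finset ι, Ideal.span (c '' (T' : Set ι)) = Ideal.span (Set.range c) →
      T.card ≤ T'.card := fun T' h => hTmin T' (by simp [P, h])
  have hTne : T.Nonempty := by
    by_contra h
    rw [Finset.not_nonempty_iff_eq_empty] at h
    have h1 : Ideal.span (Set.range c) = ⊥ := by
      rw [← hPT, h]
      simp
    have h2 : c i1 ∈ Ideal.span (Set.range c) := Ideal.subset_span ⟨i1, rfl⟩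
    rw [h1, Ideal.mem_bot] at h2
    exact hi1 h2
  obtain ⟨t0, ht0⟩ := hTne
  have hex : ∀ i, ∃ lam : ι → FixedPoints.subalgebra k A G, ∑ t ∈ T, lam t • c t = c i := by
    intro i
    have h1 : c i ∈ Ideal.span (c '' (T : Set ι)) := by
      rw [hPT]
      exact Ideal.subset_span ⟨i, rfl⟩
    exact (Submodule.mem_span_image_finset_iff_exists_fun' (R := FixedPoints.subalgebra k A G)).mp h1
  choose lam hlam using hex
  let Λ : ι → ι → FixedPoints.subalgebra k A G := fun i t => if i ∈ T then (if i = t then 1 else 0) else lam i t
  have hΛ : ∀ i, c i = ∑ t ∈ T, Λ i t * c t := by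
    intro i
    by_cases hi : i ∈ T
    · simp only [Λ, if_pos hi]
      rw [Finset.sum_eq_single i]
      · rw [if_pos rfl, one_mul]
      · intro t _ hti
        rw [if_neg (Ne.symm hti), zero_mul]
      · intro h
        exact absurd hi h
    · simp only [Λ, if_neg hi]
      rw [← hlam i]
      rfl
  -- apply Chevalley's lemma
  have hmem : (∑ i, (Λ i t0 : A) * f i) ∈ invIdeal A G := by
    refine chevalley u hu hres S hS hS' (fun i => if i ∈ T then (c i : A) else 0) ?_ t0 ?_
      (fun t => ∑ i, (Λ i t : A) * f i) ?_
    · intro i g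
      by_cases hi : i ∈ T
      · simp only [if_pos hi]
        exact (c i).2 g
      · simp only [if_neg hi, smul_zero]
    · intro c' hc' heq
      simp only [if_pos ht0] at heq
      have h1 : ∑ i ∈ Finset.univ.erase t0, c' i * (if i ∈ T then (c i : A) else 0) =
          ∑ i ∈ T.erase t0, c' i * (c i : A) := by
        have e1 : ∀ i, c' i * (if i ∈ T then (c i : A) else 0) =
            if i ∈ T then c' i * (c i : A) else 0 := by
          intro i
          split_ifs <;> simp
        simp only [e1]
        rw [← Finset.sum_filter]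
        congr 1
        ext i
        simp only [Finset.mem_filter, Finset.mem_erase, Finset.mem_univ, and_true]
      rw [h1] at heq
      have h2 : c t0 = ∑ i ∈ T.erase t0, (⟨c' i, hc' i⟩ : FixedPoints.subalgebra k A G) * c i := by
        apply Subtype.ext
        rw [heq]
        push_cast
        rfl
      have h3 : Ideal.span (c '' ((T.erase t0 : Finset ι) : Set ι)) = Ideal.span (Set.range c) := by
        rw [← hPT]
        apply le_antisymm
        · apply Ideal.span_mono
          apply Set.image_mono
          exact_mod_cast Finset.erase_subset t0 T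
        · rw [Ideal.span_le]
          rintro _ ⟨t, ht, rfl⟩
          by_cases htt : t = t0
          · rw [htt, h2]
            refine Ideal.sum_mem _ fun i hi => Ideal.mul_mem_left _ _ (Ideal.subset_span ⟨i, ?_, rfl⟩)
            exact_mod_cast hi
          · refine Ideal.subset_span ⟨t, ?_, rfl⟩
            exact_mod_cast Finset.mem_erase.mpr ⟨htt, ht⟩
      have h4 := hTmin' _ h3
      rw [Finset.card_erase_of_mem ht0] at h4
      have h5 : 0 < T.card := Finset.card_pos.mpr ⟨t0, ht0⟩
      omega
    · -- the relation
      have e1 : ∀ t, (∑ i, (Λ i t : A) * f i) * (if t ∈ T then (c t : A) else 0) =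
          if t ∈ T then ∑ i, ((Λ i t : A) * (c t : A)) * f i else 0 := by
        intro t
        split_ifs
        · rw [Finset.sum_mul]
          refine Finset.sum_congr rfl fun i _ => ?_
          ring
        · rw [mul_zero]
      simp only [e1]
      rw [← Finset.sum_filter, Finset.filter_mem_eq_inter, Finset.univ_inter, Finset.sum_comm]
      rw [← hc]
      refine Finset.sum_congr rfl fun i _ => ?_
      rw [← Finset.sum_mul, hΛ i]
      push_cast
      rfl
  have h6 := hind (fun i => Λ i t0) hmem t0
  simp only [Λ, if_pos ht0, if_true] at h6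
  exact (Ideal.ne_top_iff_one _).mp (Ideal.IsPrime.ne_top inferInstance) h6

/-- **Freeness** of `A` over the invariants of a group generated by pseudo-reflections. -/
theorem free_inv (u : A) (hu : u * (Fintype.card G : A) = 1)
    (hres : ∀ (g : G) (a : A), g • a - a ∈ maximalIdeal A)
    (S : Set G) (hS : Subgroup.closure S = ⊤)
    (hS' : ∀ s ∈ S, ∃ l ∈ maximalIdeal A, ∀ a : A, l ∣ s • a - a) :
    Module.Free (FixedPoints.subalgebra k A G) A := by
  classical
  haveI : IsLocalRing (FixedPoints.subalgebra k A G) := isLocalRing_inv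
  haveI : IsNoetherianRing (FixedPoints.subalgebra k A G) := isNoetherianRing_inv
  set B := FixedPoints.subalgebra k A G with hB
  let κ := ResidueField B
  let b := Module.finBasis κ (κ ⊗[B] A)
  have hsurj : Function.Surjective (TensorProduct.mk B κ A 1) :=
    TensorProduct.mk_surjective B A κ IsLocalRing.residue_surjective
  choose f hf using fun i => hsurj (b i)
  have hsp : Submodule.span B (Set.range f) = ⊤ :=
    IsLocalRing.span_eq_top_of_tmul_eq_basis f b hf
  have hli : LinearIndependent B f := by
    rw [Fintype.linearIndependent_iff]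
    intro c hc
    refine eq_zero_of_rel u hu hres S hS hS' f ?_ c ?_
    · intro g hg i
      have h1 := tmul_eq_zero_of_mem_invIdeal (k := k) hg
      rw [TensorProduct.tmul_sum] at h1
      have e1 : ∀ i, (1 : ResidueField B) ⊗ₜ[B] ((g i : A) * f i) =
          IsLocalRing.residue B (g i) • b i := by
        intro i
        have e2 : (g i : A) * f i = g i • f i := by
          rw [Subalgebra.smul_def, smul_eq_mul]
        rw [e2, ← TensorProduct.smul_tmul, ← hf i, TensorProduct.mk_apply, TensorProduct.smul_tmul',
          Algebra.smul_def, mul_one, IsLocalRing.ResidueField.algebraMap_eq, smul_eq_mul, mul_one]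
      rw [Finset.sum_congr rfl (fun i _ => e1 i)] at h1
      have h2 := Fintype.linearIndependent_iff.mp b.linearIndependent _ h1 i
      exact (IsLocalRing.residue_eq_zero_iff _).mp h2
    · rw [← hc]
      refine Finset.sum_congr rfl fun i _ => ?_
      rw [Subalgebra.smul_def, smul_eq_mul]
  exact Module.Free.of_basis (Module.Basis.mk hli hsp.ge)

end Free

end Groth.Agent.Helper7.Cst
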