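import Mathlib
import Groth.Agent.Helper7.CstC
import Groth.Agent.Helper5.MvPSDim
import Groth.Agent.Helper2.RegDescent

/-!
# Chevalley–Shephard–Todd for a finite group acting on a power series ring (helper7)
-/

set_option autoImplicit false
set_option linter.style.haveILetI false
set_option linter.unusedSectionVars false

namespace Groth.Agent.Helper7.Cst

open IsLocalRing MvPowerSeries

section general

variable {k A G : Type*} [Field k] [CommRing A] [Algebra k A] [IsLocalRing A] [Group G]
  [MulSemiringAction G A] [SMulCommClass G k A]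

theorem smul_sub_mem_maximalIdeal (hk : ∀ a : A, ∃ c : k, a - algebraMap k A c ∈ maximalIdeal A)
    (g : G) (a : A) : g • a - a ∈ maximalIdeal A := by
  obtain ⟨c, hc⟩ := hk a
  have h1 : g • (a - algebraMap k A c) ∈ maximalIdeal A := by
    rw [IsLocalRing.mem_maximalIdeal, mem_nonunits_iff] at hc ⊢
    intro hu
    apply hc
    have := hu.map (MulSemiringAction.toRingHom G A g⁻¹)
    simpa using this
  have e : g • a - a = g • (a - algebraMap k A c) - (a - algebraMap k A c) := by
    rw [smul_sub, smul_algebraMap]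
    ring
  rw [e]
  exact Ideal.sub_mem _ h1 hc

end general

section PS

variable {k : Type*} [Field k] {n : ℕ}

/-- polynomials of degree `≤ 1` -/
noncomputable def psi : k × (Fin n → k) →ₗ[k] MvPowerSeries (Fin n) k :=
  (LinearMap.toSpanSingleton k _ 1).coprod
    (Fintype.linearCombination k (X : Fin n → MvPowerSeries (Fin n) k))

theorem psi_apply (c : k) (d : Fin n → k) :
    psi (c, d) = c • (1 : MvPowerSeries (Fin n) k) + ∑ i, d i • X i := by
  simp [psi, Fintype.linearCombination_apply]

theorem sub_psi_mem (a : MvPowerSeries (Fin n) k) :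
    a - psi (constantCoeff a, fun i => coeff (Finsupp.single i 1) a) ∈
      maximalIdeal (MvPowerSeries (Fin n) k) ^ 2 := by
  rw [Groth.Agent.Helper5.MvPSDim.maximalIdeal_eq]
  apply Groth.Agent.Helper5.MvPSIdeal.mem_span_X_sq
  · rw [psi_apply]
    simp
  · intro i
    rw [psi_apply]
    simp [coeff_X, Finsupp.single_eq_single_iff, coeff_one]

variable {G : Type*} [Group G] [MulSemiringAction G (MvPowerSeries (Fin n) k)]
  [SMulCommClass G k (MvPowerSeries (Fin n) k)]

/-- the pseudo-reflection hypothesis, unwound -/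
theorem exists_w (g : G)
    (hres : ∀ a : MvPowerSeries (Fin n) k, g • a - a ∈ maximalIdeal (MvPowerSeries (Fin n) k))
    (hg : n ≤ Module.finrank k (MvPowerSeries (Fin n) k ⧸
        (Ideal.span {x : MvPowerSeries (Fin n) k | ∃ a, x = g • a - a} ⊔
          maximalIdeal (MvPowerSeries (Fin n) k) ^ 2))) :
    ∃ w ∈ maximalIdeal (MvPowerSeries (Fin n) k), ∀ a : MvPowerSeries (Fin n) k,
      ∃ c : k, g • a - a - c • w ∈ maximalIdeal (MvPowerSeries (Fin n) k) ^ 2 := by
  set I' : Ideal (MvPowerSeries (Fin n) k) :=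
    Ideal.span {x : MvPowerSeries (Fin n) k | ∃ a, x = g • a - a} ⊔
      maximalIdeal (MvPowerSeries (Fin n) k) ^ 2 with hI'
  have hM2 : maximalIdeal (MvPowerSeries (Fin n) k) ^ 2 ≤ I' := le_sup_right
  have hI'M : I' ≤ maximalIdeal (MvPowerSeries (Fin n) k) := by
    refine sup_le ?_ (Ideal.pow_le_self two_ne_zero)
    rw [Ideal.span_le]
    rintro _ ⟨a, rfl⟩
    exact hres a
  let χ : k × (Fin n → k) →ₗ[k] MvPowerSeries (Fin n) k ⧸ I' :=
    (Ideal.Quotient.mkₐ k I').toLinearMap ∘ₗ psi
  have hχ : ∀ v, χ v = Ideal.Quotient.mk I' (psi v) := fun v => rfl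
  have hsurj : Function.Surjective χ := by
    intro x
    obtain ⟨a, rfl⟩ := Ideal.Quotient.mk_surjective x
    refine ⟨(constantCoeff a, fun i => coeff (Finsupp.single i 1) a), ?_⟩
    rw [hχ]
    symm
    rw [Ideal.Quotient.eq]
    exact hM2 (sub_psi_mem a)
  have hrn := LinearMap.finrank_range_add_finrank_ker χ
  rw [LinearMap.range_eq_top.mpr hsurj, finrank_top, Module.finrank_prod, Module.finrank_self,
    Module.finrank_fintype_fun_eq_card, Fintype.card_fin] at hrn
  have hker : Module.finrank k (LinearMap.ker χ) ≤ 1 := by omega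
  obtain ⟨v, hv⟩ := finrank_le_one_iff.mp hker
  have hvI : psi v.1 ∈ I' := by
    have := v.2
    rw [LinearMap.mem_ker, hχ, Ideal.Quotient.eq_zero_iff_mem] at this
    exact this
  refine ⟨psi v.1, hI'M hvI, fun a => ?_⟩
  set y := g • a - a with hy
  have hyI : y ∈ I' := Ideal.mem_sup_left (Ideal.subset_span ⟨a, rfl⟩)
  set cd : k × (Fin n → k) := (constantCoeff y, fun i => coeff (Finsupp.single i 1) y) with hcd
  have h1 : y - psi cd ∈ maximalIdeal (MvPowerSeries (Fin n) k) ^ 2 := sub_psi_mem y
  have hcdker : cd ∈ LinearMap.ker χ := by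
    rw [LinearMap.mem_ker, hχ, Ideal.Quotient.eq_zero_iff_mem]
    have := I'.sub_mem hyI (hM2 h1)
    simpa using this
  obtain ⟨e, he⟩ := hv ⟨cd, hcdker⟩
  refine ⟨e, ?_⟩
  have h2 : e • psi v.1 = psi cd := by
    rw [← map_smul]
    congr 1
    exact congrArg Subtype.val he
  rw [h2]
  exact h1

end PS

section Main

universe u

variable (k : Type u) [Field k] (n : ℕ) (G : Type u) [Group G] [Finite G]
  [MulSemiringAction G (MvPowerSeries (Fin n) k)] [SMulCommClass G k (MvPowerSeries (Fin n) k)]

/-- **Chevalley–Shephard–Todd**, complete local form. -/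
theorem main (hG : (Nat.card G : k) ≠ 0)
    [Module.Finite (FixedPoints.subalgebra k (MvPowerSeries (Fin n) k) G) (MvPowerSeries (Fin n) k)]
    (hgen : Subgroup.closure {g : G | n ≤ Module.finrank k (MvPowerSeries (Fin n) k ⧸
        (Ideal.span {x : MvPowerSeries (Fin n) k | ∃ a, x = g • a - a} ⊔
          maximalIdeal (MvPowerSeries (Fin n) k) ^ 2))} = ⊤) :
    Module.Flat (FixedPoints.subalgebra k (MvPowerSeries (Fin n) k) G) (MvPowerSeries (Fin n) k) ∧
      IsRegularLocalRing (FixedPoints.subalgebra k (MvPowerSeries (Fin n) k) G) := by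
  classical
  letI : Fintype G := Fintype.ofFinite G
  haveI hreg : IsRegularLocalRing (MvPowerSeries (Fin n) k) :=
    Groth.Agent.Helper5.MvPSDim.isRegular k n
  haveI : IsNoetherianRing (MvPowerSeries (Fin n) k) := inferInstance
  haveI : IsDomain (MvPowerSeries (Fin n) k) := NoZeroDivisors.to_isDomain _
  have hk : ∀ a : MvPowerSeries (Fin n) k, ∃ c : k,
      a - algebraMap k (MvPowerSeries (Fin n) k) c ∈ maximalIdeal (MvPowerSeries (Fin n) k) := by
    intro a
    refine ⟨constantCoeff a, ?_⟩
    rw [IsLocalRing.mem_maximalIdeal, mem_nonunits_iff, MvPowerSeries.isUnit_iff_constantCoeff,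
      MvPowerSeries.algebraMap_apply, Algebra.algebraMap_self, RingHom.id_apply, map_sub,
      MvPowerSeries.constantCoeff_C, sub_self]
    exact not_isUnit_zero
  have hres := fun (g : G) (a : MvPowerSeries (Fin n) k) => smul_sub_mem_maximalIdeal hk g a
  set u : MvPowerSeries (Fin n) k := algebraMap k _ (Nat.card G : k)⁻¹ with hu
  have hum : u * (Fintype.card G : MvPowerSeries (Fin n) k) = 1 := by
    rw [hu, ← Nat.card_eq_fintype_card, ← map_natCast (algebraMap k (MvPowerSeries (Fin n) k)),
      ← map_mul, inv_mul_cancel₀ hG, map_one]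
  have hS' : ∀ s ∈ {g : G | n ≤ Module.finrank k (MvPowerSeries (Fin n) k ⧸
        (Ideal.span {x : MvPowerSeries (Fin n) k | ∃ a, x = g • a - a} ⊔
          maximalIdeal (MvPowerSeries (Fin n) k) ^ 2))},
      ∃ l ∈ maximalIdeal (MvPowerSeries (Fin n) k), ∀ a : MvPowerSeries (Fin n) k,
        l ∣ s • a - a := by
    intro s hs
    obtain ⟨w, hw, hcot⟩ := exists_w s (hres s) hs
    exact exists_dvd_smul_sub s (Nat.card G) pow_card_eq_one' hG (hres s) w hw hcot
  haveI hfree : Module.Free (FixedPoints.subalgebra k (MvPowerSeries (Fin n) k) G)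
      (MvPowerSeries (Fin n) k) := free_inv (k := k) u hum hres _ hgen hS'
  haveI : Module.Flat (FixedPoints.subalgebra k (MvPowerSeries (Fin n) k) G)
      (MvPowerSeries (Fin n) k) := Module.Flat.of_free
  refine ⟨inferInstance, ?_⟩
  haveI : IsLocalRing (FixedPoints.subalgebra k (MvPowerSeries (Fin n) k) G) := isLocalRing_inv
  haveI : IsNoetherianRing (FixedPoints.subalgebra k (MvPowerSeries (Fin n) k) G) :=
    isNoetherianRing_inv
  haveI : IsLocalHom (algebraMap (FixedPoints.subalgebra k (MvPowerSeries (Fin n) k) G)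
      (MvPowerSeries (Fin n) k)) := isLocalHom_inv
  exact Groth.Agent.Helper2.RegDescent.isRegularLocalRing_of_flat
    (FixedPoints.subalgebra k (MvPowerSeries (Fin n) k) G) (MvPowerSeries (Fin n) k)

end Main

end Groth.Agent.Helper7.Cst
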