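import Mathlib

set_option autoImplicit false

namespace Groth.Agent.Helper7.Curvi

open Polynomial Module

universe u

theorem main (k B : Type u) [Field k] [IsAlgClosed k]
    [CommRing B] [IsLocalRing B] [Algebra k B] [Module.Finite k B]
    (hcurv : Module.finrank (IsLocalRing.ResidueField B) (IsLocalRing.CotangentSpace B) ≤ 1) :
    Nonempty (B ≃ₐ[k] (Polynomial k ⧸ Ideal.span {(X : Polynomial k) ^ Module.finrank k B})) := by
  classical
  haveI : IsArtinianRing B := IsArtinianRing.of_finite k B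
  haveI : IsNoetherianRing B := inferInstance
  set m := IsLocalRing.maximalIdeal B with hm
  -- m is principal
  have hprin : m.IsPrincipal := IsLocalRing.finrank_cotangentSpace_le_one_iff.mp hcurv
  obtain ⟨t, ht⟩ := hprin
  have htm : t ∈ m := by
    rw [ht]; exact Submodule.mem_span_singleton_self t
  have hmt : ∀ b ∈ m, ∃ q, b = t * q := by
    intro b hb
    rw [ht] at hb
    obtain ⟨q, rfl⟩ := Submodule.mem_span_singleton.mp hb
    exact ⟨q, by rw [smul_eq_mul, mul_comm]⟩
  -- m nilpotent
  obtain ⟨N, hN⟩ : ∃ N, m ^ N = ⊥ := by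
    have := IsArtinianRing.isNilpotent_jacobson_bot (R := B)
    rw [IsLocalRing.jacobson_eq_maximalIdeal ⊥ bot_ne_top] at this
    exact this
  have htN : t ^ N = 0 := by
    have : t ^ N ∈ m ^ N := Ideal.pow_mem_pow htm N
    rwa [hN, Ideal.mem_bot] at this
  -- residue field is k
  have hres : ∀ b : B, ∃ c : k, b - algebraMap k B c ∈ m := by
    intro b
    haveI : Algebra.IsIntegral k (IsLocalRing.ResidueField B) := Algebra.IsIntegral.of_finite _ _
    have hbij := IsAlgClosed.algebraMap_bijective_of_isIntegral (k := k) (K := IsLocalRing.ResidueField B)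
    obtain ⟨c, hc⟩ := hbij.2 (IsLocalRing.residue B b)
    refine ⟨c, ?_⟩
    rw [hm, ← IsLocalRing.residue_eq_zero_iff, map_sub, ← hc, sub_eq_zero]
    rfl
  -- surjectivity of aeval t
  let φ : Polynomial k →ₐ[k] B := aeval t
  have hstep : ∀ (j : ℕ) (b : B), ∃ (p : Polynomial k) (q : B), b = φ p + t ^ j * q := by
    intro j
    induction j with
    | zero => intro b; exact ⟨0, b, by simp⟩
    | succ j ih =>
      intro b
      obtain ⟨p, q, hb⟩ := ih b
      obtain ⟨c, hc⟩ := hres q
      obtain ⟨q', hq'⟩ := hmt _ hc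
      refine ⟨p + C c * X ^ j, q', ?_⟩
      have hq : q = algebraMap k B c + t * q' := by rw [← hq']; ring
      rw [hb, hq]
      simp only [φ, map_add, map_mul, aeval_C, map_pow, aeval_X]
      ring
  have hφsurj : Function.Surjective φ := by
    intro b
    obtain ⟨p, q, hb⟩ := hstep N b
    exact ⟨p, by rw [hb, htN, zero_mul, add_zero]⟩
  -- kernel
  obtain ⟨g, hg⟩ : (RingHom.ker φ.toRingHom).IsPrincipal := inferInstance
  have hXN : (X : Polynomial k) ^ N ∈ RingHom.ker φ.toRingHom := by
    rw [RingHom.mem_ker]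
    change φ (X ^ N) = 0
    simp [φ, htN]
  have hgdvd : g ∣ X ^ N := by
    rw [hg] at hXN
    exact Submodule.mem_span_singleton.mp hXN |>.elim fun a ha => ⟨a, by rw [← ha, smul_eq_mul, mul_comm]⟩
  obtain ⟨e, _, hassoc⟩ := (dvd_prime_pow Polynomial.prime_X N).mp hgdvd
  have hker : RingHom.ker φ.toRingHom = Ideal.span {(X : Polynomial k) ^ e} := by
    rw [hg]
    exact Ideal.span_singleton_eq_span_singleton.mpr hassoc
  let E : (Polynomial k ⧸ RingHom.ker φ.toRingHom) ≃ₐ[k] B :=
    Ideal.quotientKerAlgEquivOfSurjective hφsurj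
  let E2 : (Polynomial k ⧸ Ideal.span {(X : Polynomial k) ^ e}) ≃ₐ[k] B :=
    (Ideal.quotientEquivAlgOfEq k hker.symm).trans E
  have hfin : Module.finrank k B = e := by
    rw [← E2.toLinearEquiv.finrank_eq, finrank_quotient_span_eq_natDegree, natDegree_X_pow]
  rw [hfin]
  exact ⟨E2.symm⟩

end Groth.Agent.Helper7.Curvi
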