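import Mathlib
import Groth.Agent.Helper7.Curvi

set_option autoImplicit false

namespace Groth.Agent.Helper7.Curvi

open Polynomial Module

universe u

section TruncPoly

variable (k : Type u) [Field k] (n : ℕ)

local notation "Bn" => (Polynomial k ⧸ Ideal.span {(X : Polynomial k) ^ n})

theorem mkX_pow : (Ideal.Quotient.mk (Ideal.span {(X : Polynomial k) ^ n}) X) ^ n = 0 := by
  rw [← map_pow, Ideal.Quotient.eq_zero_iff_mem]
  exact Ideal.mem_span_singleton_self _

/-- every element is a constant plus a multiple of the class of `X` -/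
theorem exists_const_add (b : Bn) : ∃ (c : k) (q : Bn),
    b = algebraMap k Bn c + Ideal.Quotient.mk _ X * q := by
  obtain ⟨p, rfl⟩ := Ideal.Quotient.mk_surjective b
  refine ⟨p.coeff 0, Ideal.Quotient.mk _ p.divX, ?_⟩
  conv_lhs => rw [← Polynomial.divX_mul_X_add p]
  rw [map_add, map_mul]
  rw [add_comm, mul_comm]
  rfl

theorem nontrivial_Bn (hn : 0 < n) : Nontrivial Bn := by
  apply Ideal.Quotient.nontrivial_iff.mpr
  rw [Ne, Ideal.span_singleton_eq_top]
  intro h
  have := Polynomial.natDegree_eq_zero_of_isUnit h
  rw [natDegree_X_pow] at this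
  omega

theorem isUnit_iff (hn : 0 < n) (b : Bn) (c : k) (q : Bn)
    (hb : b = algebraMap k Bn c + Ideal.Quotient.mk _ X * q) : IsUnit b ↔ c ≠ 0 := by
  haveI := nontrivial_Bn k n hn
  have hnil : IsNilpotent (Ideal.Quotient.mk (Ideal.span {(X : Polynomial k) ^ n}) X * q) :=
    (Commute.all _ _).isNilpotent_mul_right ⟨n, mkX_pow k n⟩
  constructor
  · intro hu hc
    rw [hc, map_zero, zero_add] at hb
    rw [hb] at hu
    exact (hnil.not_isUnit) hu
  · intro hc
    rw [hb]
    exact hnil.isUnit_add_left_of_commute ((isUnit_iff_ne_zero.mpr hc).map _) (Commute.all _ _)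

theorem isNilpotent_of_not_isUnit (hn : 0 < n) (b : Bn) (hb : ¬ IsUnit b) : IsNilpotent b := by
  obtain ⟨c, q, hbq⟩ := exists_const_add k n b
  have hc : c = 0 := by
    by_contra hc
    exact hb ((isUnit_iff k n hn b c q hbq).mpr hc)
  rw [hbq, hc, map_zero, zero_add]
  exact (Commute.all _ _).isNilpotent_mul_right ⟨n, mkX_pow k n⟩

theorem isLocalRing_Bn (hn : 0 < n) : IsLocalRing Bn := by
  haveI := nontrivial_Bn k n hn
  apply IsLocalRing.of_nonunits_add
  intro a b ha hb
  have ha' := isNilpotent_of_not_isUnit k n hn a ha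
  have hb' := isNilpotent_of_not_isUnit k n hn b hb
  exact ((Commute.all a b).isNilpotent_add ha' hb').not_isUnit

/-- every element is associated to a power of the class of `X` -/
theorem exists_associated_pow (hn : 0 < n) (b : Bn) :
    ∃ i : ℕ, Associated b ((Ideal.Quotient.mk (Ideal.span {(X : Polynomial k) ^ n}) X) ^ i) := by
  obtain ⟨p, rfl⟩ := Ideal.Quotient.mk_surjective b
  by_cases hp : p = 0
  · refine ⟨n, ?_⟩
    rw [hp, map_zero, mkX_pow]
  · obtain ⟨q, hq, hnd⟩ := Polynomial.exists_eq_pow_rootMultiplicity_mul_and_not_dvd p hp 0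
    rw [C_0, sub_zero] at hq hnd
    refine ⟨p.rootMultiplicity 0, ?_⟩
    have hq0 : q.coeff 0 ≠ 0 := by
      intro h
      apply hnd
      rw [X_dvd_iff]; exact h
    obtain ⟨c, r, hcr⟩ := exists_const_add k n (Ideal.Quotient.mk _ q)
    have hu : IsUnit (Ideal.Quotient.mk (Ideal.span {(X : Polynomial k) ^ n}) q) := by
      refine (isUnit_iff k n hn _ (q.coeff 0) (Ideal.Quotient.mk _ q.divX) ?_).mpr hq0
      conv_lhs => rw [← Polynomial.divX_mul_X_add q]
      rw [map_add, map_mul, add_comm, mul_comm]
      rfl
    obtain ⟨u, hu⟩ := hu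
    refine Associated.symm ⟨u, ?_⟩
    rw [hu, ← map_pow, ← map_mul, ← hq]

/-- divisibility is total -/
theorem dvd_total (hn : 0 < n) (a b : Bn) : a ∣ b ∨ b ∣ a := by
  obtain ⟨i, hi⟩ := exists_associated_pow k n hn a
  obtain ⟨j, hj⟩ := exists_associated_pow k n hn b
  rcases le_total i j with h | h
  · left
    exact hi.dvd.trans ((pow_dvd_pow _ h).trans hj.symm.dvd)
  · right
    exact hj.dvd.trans ((pow_dvd_pow _ h).trans hi.symm.dvd)

end TruncPoly

end Groth.Agent.Helper7.Curvi

namespace Groth.Agent.Helper7.Curvi

open Polynomial Module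

universe u

theorem main2 (k : Type u) [Field k] [IsAlgClosed k] (n : ℕ) (hn : 0 < n)
    (A : Subalgebra k (Polynomial k ⧸ Ideal.span {(X : Polynomial k) ^ n}))
    [Module.Flat A (Polynomial k ⧸ Ideal.span {(X : Polynomial k) ^ n})] :
    ∃ m : ℕ, Nonempty (A ≃ₐ[k] (Polynomial k ⧸ Ideal.span {(X : Polynomial k) ^ m})) := by
  classical
  haveI hBloc := isLocalRing_Bn k n hn
  haveI : Module.Finite k (Polynomial k ⧸ Ideal.span {(X : Polynomial k) ^ n}) :=
    (monic_X_pow n).finite_quotient
  haveI : IsNoetherian k (Polynomial k ⧸ Ideal.span {(X : Polynomial k) ^ n}) := inferInstance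
  haveI : Module.Finite k A := Module.Finite.of_injective (Subalgebra.val A).toLinearMap
    Subtype.val_injective
  haveI : IsArtinianRing A := IsArtinianRing.of_finite k A
  haveI : IsNoetherianRing A := inferInstance
  -- units of A
  have hunit : ∀ a : A, IsUnit ((a : A) : Polynomial k ⧸ Ideal.span {(X : Polynomial k) ^ n}) →
      IsUnit a := by
    intro a ha
    apply IsArtinianRing.isUnit_of_mem_nonZeroDivisors
    rw [mem_nonZeroDivisors_iff_right]
    intro x hx
    have h1 : ((x : A) : Polynomial k ⧸ Ideal.span {(X : Polynomial k) ^ n}) * (a : A) = 0 := by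
      have := congrArg (Subalgebra.val A) hx
      simpa using this
    have h2 := ha.mul_left_eq_zero.mp h1
    exact Subtype.ext h2
  haveI : IsLocalRing A := by
    apply IsLocalRing.of_nonunits_add
    intro a b ha hb
    have ha' : ((a : A) : Polynomial k ⧸ Ideal.span {(X : Polynomial k) ^ n}) ∈
        nonunits _ := fun h => ha (hunit a h)
    have hb' : ((b : A) : Polynomial k ⧸ Ideal.span {(X : Polynomial k) ^ n}) ∈
        nonunits _ := fun h => hb (hunit b h)
    have hab := IsLocalRing.nonunits_add ha' hb'
    intro hu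
    exact hab (hu.map (Subalgebra.val A))
  -- generators of the maximal ideal
  obtain ⟨S, hS⟩ := (IsNoetherian.noetherian (IsLocalRing.maximalIdeal A) :
    (IsLocalRing.maximalIdeal A).FG)
  -- an element of m_A dividing (in B) all elements of a finite set
  have hmin : ∀ T : Finset A, T.Nonempty → ∃ a ∈ T, ∀ x ∈ T,
      ((a : A) : Polynomial k ⧸ Ideal.span {(X : Polynomial k) ^ n}) ∣ (x : A) := by
    intro T hT
    induction hT using Finset.Nonempty.cons_induction with
    | singleton a => exact ⟨a, by simp, by simp⟩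
    | cons b T hb hT ih =>
      obtain ⟨a, haT, ha⟩ := ih
      rcases dvd_total k n hn ((a : A) : Polynomial k ⧸ Ideal.span {(X : Polynomial k) ^ n}) (b : A)
        with h | h
      · refine ⟨a, by simp [haT], ?_⟩
        intro x hx
        rcases Finset.mem_cons.mp hx with rfl | hx
        · exact h
        · exact ha x hx
      · refine ⟨b, by simp, ?_⟩
        intro x hx
        rcases Finset.mem_cons.mp hx with rfl | hx
        · exact dvd_rfl
        · exact h.trans (ha x hx)
  have hprin : (IsLocalRing.maximalIdeal A).IsPrincipal := by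
    by_cases hSe : S = ∅
    · refine ⟨0, ?_⟩
      rw [← hS, hSe]; simp
    · obtain ⟨a, haS, ha⟩ := hmin S (Finset.nonempty_iff_ne_empty.mpr hSe)
      have ham : a ∈ IsLocalRing.maximalIdeal A := by
        rw [← hS]; exact Submodule.subset_span haS
      refine ⟨a, le_antisymm ?_ ?_⟩
      · -- every element of m_A is divisible by a in B, then flatness
        have hdivB : ∀ x ∈ IsLocalRing.maximalIdeal A,
            ((a : A) : Polynomial k ⧸ Ideal.span {(X : Polynomial k) ^ n}) ∣ (x : A) := by
          intro x hx
          rw [← hS] at hx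
          refine Submodule.span_induction ?_ ?_ ?_ ?_ hx
          · intro y hy; exact ha y hy
          · simp
          · intro y z _ _ hy hz
            simpa using dvd_add hy hz
          · intro r y _ hy
            simpa using Dvd.dvd.mul_left hy (r : Polynomial k ⧸ Ideal.span {(X : Polynomial k) ^ n})
        intro x hx
        obtain ⟨b, hb⟩ := hdivB x hx
        -- relation x • 1 - a • b = 0
        let f : Fin 2 → A := ![x, -a]
        let v : Fin 2 → (Polynomial k ⧸ Ideal.span {(X : Polynomial k) ^ n}) := ![1, b]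
        obtain ⟨κ, α, y, hxy, hα⟩ := Module.Flat.isTrivialRelation_of_sum_smul_eq_zero
          (R := A) (M := (Polynomial k ⧸ Ideal.span {(X : Polynomial k) ^ n})) (f := f) (x := v) (by
            simp only [Fin.sum_univ_two, f, v, Matrix.cons_val_zero, Matrix.cons_val_one]
            change ((x : A) : Polynomial k ⧸ Ideal.span {(X : Polynomial k) ^ n}) * 1 +
              ((-a : A) : Polynomial k ⧸ Ideal.span {(X : Polynomial k) ^ n}) * b = 0
            rw [hb]
            push_cast
            ring)
        -- 1 = ∑ α 0 j • y j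
        have h1 := hxy 0
        simp only [v, Matrix.cons_val_zero] at h1
        -- some α 0 j is a unit
        have hex : ∃ j, IsUnit (α 0 j) := by
          by_contra hcon
          push Not at hcon
          have hmem : ∀ j, (α 0 j • y j) ∈ IsLocalRing.maximalIdeal
              (Polynomial k ⧸ Ideal.span {(X : Polynomial k) ^ n}) := by
            intro j
            change ((α 0 j : A) : Polynomial k ⧸ Ideal.span {(X : Polynomial k) ^ n}) * y j ∈ _
            apply Ideal.mul_mem_right
            rw [IsLocalRing.mem_maximalIdeal, mem_nonunits_iff]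
            exact fun h => hcon j (hunit _ h)
          have : (1 : Polynomial k ⧸ Ideal.span {(X : Polynomial k) ^ n}) ∈
              IsLocalRing.maximalIdeal _ := by
            rw [h1]; exact Ideal.sum_mem _ fun j _ => hmem j
          exact (IsLocalRing.maximalIdeal.isMaximal _).ne_top
            ((Ideal.eq_top_iff_one _).mpr this)
        obtain ⟨j, hj⟩ := hex
        have h2 := hα j
        simp only [Fin.sum_univ_two, f, Matrix.cons_val_zero, Matrix.cons_val_one] at h2
        obtain ⟨u, hu⟩ := hj
        have h3 : x = a * (α 1 j * ↑u⁻¹) := by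
          have : x * α 0 j = a * α 1 j := by linear_combination h2
          calc x = x * α 0 j * ↑u⁻¹ := by rw [mul_assoc, ← hu, Units.mul_inv, mul_one]
            _ = a * (α 1 j * ↑u⁻¹) := by rw [this]; ring
        rw [h3]
        exact Submodule.mem_span_singleton.mpr ⟨α 1 j * ↑u⁻¹, by rw [smul_eq_mul, mul_comm]⟩
      · rw [Submodule.span_le, Set.singleton_subset_iff]; exact ham
  have hcurv := IsLocalRing.finrank_cotangentSpace_le_one_iff.mpr hprin
  exact ⟨Module.finrank k A, main k A hcurv⟩

end Groth.Agent.Helper7.Curvi
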