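import Mathlib

set_option autoImplicit false
universe u v w

namespace Groth.Agent.Helper7.CycH1

variable {k : Type u} {G : Type v} {V : Type w} [CommRing k] [Group G] [Finite G]
    [AddCommGroup V] [Module k V] (ρ : Representation k G V) (t : G)

/-- `F j v = Σ_{i<j} T^i v` -/
noncomputable def F (j : ℕ) (v : V) : V := ∑ i ∈ Finset.range j, ρ (t ^ i) v

lemma F_add (a b : ℕ) (v : V) : F ρ t (a + b) v = F ρ t a v + ρ (t ^ a) (F ρ t b v) := by
  unfold F
  rw [Finset.sum_range_add, map_sum]
  congr 1
  apply Finset.sum_congr rfl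
  intro i _
  rw [pow_add, map_mul]; rfl

lemma F_one (v : V) : F ρ t 1 v = v := by
  unfold F; simp

lemma F_zero (v : V) : F ρ t 0 v = 0 := by
  unfold F; simp

lemma sub_F (j : ℕ) (v : V) : ρ t (F ρ t j v) - F ρ t j v = ρ (t ^ j) v - v := by
  have h1 := F_add ρ t 1 j v
  have h2 := F_add ρ t j 1 v
  rw [F_one, pow_one] at h1
  rw [F_one] at h2
  rw [add_comm 1 j, h2] at h1
  -- h1 : F j v + ρ (t^j) v = v + ρ t (F j v)
  have : ρ t (F ρ t j v) = F ρ t j v + ρ (t ^ j) v - v := by rw [h1]; abel
  rw [this]; abel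

theorem result (ht : ∀ g : G, g ∈ Subgroup.zpowers t) (m : ℕ) (hm : m ∣ Nat.card G)
    (htors : ∀ v : V, m • v = 0)
    (htriv : ∀ g : G, g ^ m = 1 → ∀ v : V, ρ g v = v) :
    (∀ f : G → V, (∀ g h : G, f (g * h) = ρ g (f h) + f g) →
        (Representation.Coinvariants.mk ρ (f t) = 0 ↔ ∃ x : V, ∀ g : G, f g = ρ g x - x)) ∧
    (∀ v : V, ∃ f : G → V, (∀ g h : G, f (g * h) = ρ g (f h) + f g) ∧
        Representation.Coinvariants.mk ρ (f t) = Representation.Coinvariants.mk ρ v) := by
  have hord : orderOf t = Nat.card G := orderOf_eq_card_of_forall_mem_zpowers ht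
  have hpow : ∀ g : G, ∃ j : ℕ, t ^ j = g := by
    intro g
    have := ht g
    rw [← mem_powers_iff_mem_zpowers] at this
    exact (Submonoid.mem_powers_iff _ _).mp this
  have hker : ∀ v : V, Representation.Coinvariants.mk ρ v = 0 ↔ ∃ x, v = ρ t x - x := by
    intro v
    rw [Representation.Coinvariants.mk_eq_zero]
    constructor
    · intro hv
      have hle : Representation.Coinvariants.ker ρ ≤ LinearMap.range (ρ t - 1) := by
        unfold Representation.Coinvariants.ker
        apply Submodule.span_le.mpr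
        rintro _ ⟨⟨g, w⟩, rfl⟩
        obtain ⟨j, rfl⟩ := hpow g
        refine ⟨F ρ t j w, ?_⟩
        rw [LinearMap.sub_apply, Module.End.one_apply]
        exact sub_F ρ t j w
      obtain ⟨x, hx⟩ := hle hv
      exact ⟨x, by rw [← hx]; rfl⟩
    · rintro ⟨x, rfl⟩
      exact Representation.Coinvariants.sub_mem_ker t x
  -- crossed homs are determined by value at t
  have hdet : ∀ f f' : G → V, (∀ g h : G, f (g * h) = ρ g (f h) + f g) →
      (∀ g h : G, f' (g * h) = ρ g (f' h) + f' g) → f t = f' t → ∀ g, f g = f' g := by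
    intro f f' hf hf' hft g
    have h1 : ∀ f : G → V, (∀ g h : G, f (g * h) = ρ g (f h) + f g) → f 1 = 0 := by
      intro f hf
      have := hf 1 1
      rw [mul_one, map_one, Module.End.one_apply] at this
      have h2 : f 1 + 0 = f 1 + f 1 := by rw [add_zero]; exact this
      exact (add_left_cancel h2).symm
    obtain ⟨j, rfl⟩ := hpow g
    induction j with
    | zero => rw [pow_zero, h1 f hf, h1 f' hf']
    | succ j ih => rw [pow_succ', hf, hf', ih, hft]
  constructor
  · intro f hf
    rw [hker]
    constructor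
    · rintro ⟨x, hx⟩
      refine ⟨x, ?_⟩
      apply hdet f (fun g => ρ g x - x) hf ?_ hx
      intro g h
      rw [map_mul, Module.End.mul_apply, map_sub]; abel
    · rintro ⟨x, hx⟩
      exact ⟨x, hx t⟩
  · intro v
    -- N v = 0
    obtain ⟨d, hd⟩ := hm
    have hTd : ∀ w : V, ρ (t ^ d) w = w := by
      apply htriv
      rw [← pow_mul, mul_comm, ← hd, ← hord]
      exact pow_orderOf_eq_one t
    have hFqd : ∀ q : ℕ, F ρ t (q * d) v = q • F ρ t d v := by
      intro q
      induction q with
      | zero => rw [zero_mul, zero_smul, F_zero]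
      | succ q ih =>
        rw [add_mul, one_mul, F_add, ih, pow_mul', add_smul, one_smul]
        congr 1
        have : ∀ q : ℕ, ∀ w : V, ρ ((t ^ d) ^ q) w = w := by
          intro q
          induction q with
          | zero => intro w; rw [pow_zero, map_one]; rfl
          | succ q ih2 => intro w; rw [pow_succ, map_mul, Module.End.mul_apply, hTd, ih2]
        exact this q _
    have hN : F ρ t (orderOf t) v = 0 := by
      rw [hord, hd, hFqd, htors]
    have hFn : ∀ q a : ℕ, F ρ t (a + orderOf t * q) v = F ρ t a v := by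
      intro q a
      induction q with
      | zero => rw [mul_zero, add_zero]
      | succ q ih =>
        rw [mul_add, mul_one, ← add_assoc, F_add, ih, hN, map_zero, add_zero]
    have hmod : ∀ a b : ℕ, a ≡ b [MOD orderOf t] → F ρ t a v = F ρ t b v := by
      intro a b hab
      wlog hle : a ≤ b generalizing a b
      · exact (this b a hab.symm (le_of_not_ge hle)).symm
      obtain ⟨q, hq⟩ := (Nat.modEq_iff_dvd' hle).mp hab
      have : b = a + orderOf t * q := by omega
      rw [this, hFn]
    choose j hj using hpow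
    refine ⟨fun g => F ρ t (j g) v, ?_, ?_⟩
    · intro g h
      have h1 : j (g * h) ≡ j g + j h [MOD orderOf t] := by
        rw [← pow_eq_pow_iff_modEq, hj, pow_add, hj, hj]
      show F ρ t (j (g * h)) v = ρ g (F ρ t (j h) v) + F ρ t (j g) v
      rw [hmod _ _ h1, F_add, hj, add_comm]
    · have h1 : j t ≡ 1 [MOD orderOf t] := by
        rw [← pow_eq_pow_iff_modEq, hj, pow_one]
      show Representation.Coinvariants.mk ρ (F ρ t (j t) v) = _
      rw [hmod _ _ h1, F_one]

end Groth.Agent.Helper7.CycH1
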