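import Mathlib
import Groth.Prelude.Def_W4c3severiratdpLat

set_option maxSynthPendingDepth 3
set_option linter.style.haveILetI false

/-!
Basics on the lattices `DP δ`: Weyl elements form a group, matrices with `J`-orthonormal
columns fixing the canonical class give Weyl elements, coordinate permutations are Weyl.
-/

namespace Groth.Agent.Helper7.DPLat

open W4c3severiratdp Matrix

variable {δ : ℕ}

theorem isWeyl_refl : IsWeyl (LinearEquiv.refl ℤ (DP δ)) :=
  ⟨fun _ _ => rfl, rfl⟩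

theorem IsWeyl.trans {g h : DP δ ≃ₗ[ℤ] DP δ} (hg : IsWeyl g) (hh : IsWeyl h) :
    IsWeyl (g.trans h) := by
  refine ⟨fun v w => ?_, ?_⟩
  · simp only [LinearEquiv.trans_apply]
    rw [hh.1, hg.1]
  · simp only [LinearEquiv.trans_apply]
    rw [hg.2, hh.2]

theorem IsWeyl.symm {g : DP δ ≃ₗ[ℤ] DP δ} (hg : IsWeyl g) : IsWeyl g.symm := by
  refine ⟨fun v w => ?_, ?_⟩
  · rw [← hg.1, LinearEquiv.apply_symm_apply, LinearEquiv.apply_symm_apply]
  · rw [LinearEquiv.symm_apply_eq, hg.2]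

theorem IsWeyl.isConic {g : DP δ ≃ₗ[ℤ] DP δ} (hg : IsWeyl g) {v : DP δ} (hv : IsConic v) :
    IsConic (g v) := by
  refine ⟨by rw [hg.1]; exact hv.1, ?_⟩
  have := hg.1 (canon δ) v
  rw [hg.2] at this
  rw [this]; exact hv.2

theorem IsWeyl.isExc {g : DP δ ≃ₗ[ℤ] DP δ} (hg : IsWeyl g) {v : DP δ} (hv : IsExc v) :
    IsExc (g v) := by
  refine ⟨by rw [hg.1]; exact hv.1, ?_⟩
  have := hg.1 (canon δ) v
  rw [hg.2] at this
  rw [this]; exact hv.2

lemma form_comm (v w : DP δ) : form v w = form w v := by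
  unfold form
  rw [mul_comm]
  congr 1
  exact Finset.sum_congr rfl (fun i _ => mul_comm _ _)

/-- the diagonal of the Gram matrix. -/
def dJ (δ : ℕ) : Fin (δ + 1) → ℤ := Fin.cases 1 (fun _ => -1)

lemma dJ_mul_self (k : Fin (δ + 1)) : dJ δ k * dJ δ k = 1 := by
  refine Fin.cases ?_ (fun i => ?_) k <;> simp [dJ]

lemma form_eq_sum (v w : DP δ) : form v w = ∑ k, dJ δ k * v k * w k := by
  rw [Fin.sum_univ_succ]
  simp [form, dJ, Finset.sum_neg_distrib, sub_eq_add_neg]

lemma form_eq_dot (v w : DP δ) : form v w = v ⬝ᵥ (Matrix.diagonal (dJ δ) *ᵥ w) := by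
  rw [form_eq_sum]
  simp only [dotProduct, Matrix.mulVec_diagonal]
  exact Finset.sum_congr rfl (fun k _ => by ring)

/-- a matrix with `J`-orthonormal columns fixing the canonical class. -/
def IsWeylMat (M : Matrix (Fin (δ + 1)) (Fin (δ + 1)) ℤ) : Prop :=
  (∀ i j, form (fun k => M k i) (fun k => M k j) = if i = j then dJ δ i else 0) ∧
    M *ᵥ canon δ = canon δ

instance (M : Matrix (Fin (δ + 1)) (Fin (δ + 1)) ℤ) : Decidable (IsWeylMat M) := by
  unfold IsWeylMat; infer_instance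

theorem exists_weyl_of_mat (M : Matrix (Fin (δ + 1)) (Fin (δ + 1)) ℤ) (h : IsWeylMat M) :
    ∃ g : DP δ ≃ₗ[ℤ] DP δ, IsWeyl g ∧ ∀ v, g v = M *ᵥ v := by
  set D : Matrix (Fin (δ + 1)) (Fin (δ + 1)) ℤ := Matrix.diagonal (dJ δ) with hD
  have h1 : Mᵀ * D * M = D := by
    ext i j
    rw [Matrix.mul_apply]
    have := h.1 i j
    rw [form_eq_sum] at this
    rw [hD, Matrix.diagonal_apply, ← this]
    refine Finset.sum_congr rfl (fun k _ => ?_)
    rw [Matrix.mul_diagonal, Matrix.transpose_apply]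
    ring
  have hDD : D * D = 1 := by
    rw [hD, Matrix.diagonal_mul_diagonal]
    simp only [dJ_mul_self]
    exact Matrix.diagonal_one
  set N := D * Mᵀ * D with hN
  have hNM : N * M = 1 := by
    rw [hN, Matrix.mul_assoc, Matrix.mul_assoc, ← Matrix.mul_assoc Mᵀ, h1, hDD]
  have hMN : M * N = 1 := mul_eq_one_comm.mp hNM
  have happ : ∀ v, (Matrix.toLin'OfInv hNM hMN) v = M *ᵥ v := fun v => by
    funext i
    rw [Matrix.toLin'OfInv_apply, Matrix.toLin'_apply]
  refine ⟨Matrix.toLin'OfInv hNM hMN, ⟨fun v w => ?_, ?_⟩, happ⟩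
  · rw [happ, happ]
    rw [form_eq_dot, form_eq_dot, ← hD, Matrix.mulVec_mulVec, Matrix.dotProduct_mulVec,
      ← Matrix.vecMul_transpose, Matrix.vecMul_vecMul, ← Matrix.mul_assoc, h1,
      ← Matrix.dotProduct_mulVec]
  · rw [happ]
    exact h.2

/-- extend a permutation of `Fin n` to `Fin (n+1)` fixing `0`. -/
def liftPerm {n : ℕ} (σ : Equiv.Perm (Fin n)) : Equiv.Perm (Fin (n + 1)) :=
  Equiv.Perm.decomposeFin.symm (0, σ)

@[simp] lemma liftPerm_zero {n : ℕ} (σ : Equiv.Perm (Fin n)) : liftPerm σ 0 = 0 := by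
  simp [liftPerm]

@[simp] lemma liftPerm_succ {n : ℕ} (σ : Equiv.Perm (Fin n)) (i : Fin n) :
    liftPerm σ i.succ = (σ i).succ := by
  simp [liftPerm]

/-- the coordinate permutation of `DP δ` attached to a permutation of `1..δ`. -/
def permLE (σ : Equiv.Perm (Fin δ)) : DP δ ≃ₗ[ℤ] DP δ :=
  LinearEquiv.funCongrLeft ℤ ℤ (liftPerm σ)

lemma permLE_apply (σ : Equiv.Perm (Fin δ)) (v : DP δ) (i : Fin (δ + 1)) :
    permLE σ v i = v (liftPerm σ i) := rfl

@[simp] lemma permLE_apply_zero (σ : Equiv.Perm (Fin δ)) (v : DP δ) :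
    permLE σ v 0 = v 0 := by rw [permLE_apply, liftPerm_zero]

@[simp] lemma permLE_apply_succ (σ : Equiv.Perm (Fin δ)) (v : DP δ) (i : Fin δ) :
    permLE σ v i.succ = v (σ i).succ := by rw [permLE_apply, liftPerm_succ]

theorem isWeyl_permLE (σ : Equiv.Perm (Fin δ)) : IsWeyl (permLE σ) := by
  refine ⟨fun v w => ?_, ?_⟩
  · unfold form
    simp only [permLE_apply_zero, permLE_apply_succ]
    rw [Equiv.sum_comp σ (fun i => v i.succ * w i.succ)]
  · funext i
    refine Fin.cases ?_ (fun j => ?_) i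
    · simp
    · simp [canon]

end Groth.Agent.Helper7.DPLat
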