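import Mathlib
import Groth.Agent.Helper7.ConicEnum
import Groth.Agent.Helper7.DPLat

set_option maxSynthPendingDepth 3
set_option linter.style.haveILetI false

/-!
Classes in `DP δ` with prescribed self-intersection and degree: enumeration up to coordinate
permutations, and orbit statements deduced from tables of matrix certificates.
-/

namespace Groth.Agent.Helper7.DPTab

open W4c3severiratdp Matrix Groth.Agent.Helper7.ConicEnum Groth.Agent.Helper7.DPLat

/-- the vector of a list. -/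
def vecL (δ : ℕ) (l : List ℤ) : DP δ := fun i => l.getD i 0

lemma vecL_ofFn {δ : ℕ} (v : DP δ) : vecL δ (List.ofFn v) = v := by
  funext i
  have hi : (i : ℕ) < (List.ofFn v).length := by rw [List.length_ofFn]; exact i.2
  rw [vecL, List.getD_eq_getElem?_getD, List.getElem?_eq_getElem hi, Option.getD_some,
    List.getElem_ofFn]

/-- the matrix of a list of rows. -/
def matL (δ : ℕ) (m : List (List ℤ)) : Matrix (Fin (δ + 1)) (Fin (δ + 1)) ℤ :=
  Matrix.of fun i j => (m.getD i []).getD j 0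

/-- classes with `v·v = n`, `K·v = d`. -/
def IsCls {δ : ℕ} (n d : ℤ) (v : DP δ) : Prop := form v v = n ∧ form (canon δ) v = d

lemma isConic_iff_isCls {δ : ℕ} (v : DP δ) : IsConic v ↔ IsCls 0 (-2) v := Iff.rfl
lemma isExc_iff_isCls {δ : ℕ} (v : DP δ) : IsExc v ↔ IsCls (-1) (-1) v := Iff.rfl

lemma IsCls.map {δ : ℕ} {n d : ℤ} {v : DP δ} (hv : IsCls n d v) {g : DP δ ≃ₗ[ℤ] DP δ}
    (hg : IsWeyl g) : IsCls n d (g v) := by
  refine ⟨by rw [hg.1]; exact hv.1, ?_⟩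
  have := hg.1 (canon δ) v
  rw [hg.2] at this
  rw [this]; exact hv.2

lemma isCls_iff {δ : ℕ} (n d : ℤ) (v : DP δ) : IsCls n d v ↔
    ConicEnum.sq (List.ofFn fun i : Fin δ => v i.succ) = v 0 * v 0 - n ∧
      (List.ofFn fun i : Fin δ => v i.succ).sum = 3 * v 0 + d := by
  unfold IsCls form canon ConicEnum.sq
  simp only [List.map_ofFn, List.sum_ofFn, Fin.cases_zero, Fin.cases_succ, Function.comp_def,
    neg_one_mul, Finset.sum_neg_distrib]
  constructor <;> rintro ⟨h1, h2⟩ <;> constructor <;> linarith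

/-- enumeration of the classes (as lists `a :: bs`), optionally with `bs` descending. -/
def solsG (srt : Bool) (δ : ℕ) (n d : ℤ) : List (List ℤ) :=
  (cands 12).flatMap (fun a => (enum srt 12 δ 12 (3 * a + d) (a * a - n)).map (a :: ·))

/-- admissible `(n, d)`: Cauchy–Schwarz bounds `a`. -/
def Adm (n d : ℤ) : Prop :=
  ∀ a : ℤ, (3 * a + d) * (3 * a + d) ≤ 8 * (a * a - n) → -12 ≤ a ∧ a ≤ 12 ∧ a * a - n ≤ 144

lemma adm_conic : Adm 0 (-2) := by
  intro a h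
  have h1 : 0 ≤ a := by
    by_contra h'
    push Not at h'
    nlinarith [mul_self_nonneg a]
  have h2 : a ≤ 11 := by
    by_contra h'
    push Not at h'
    have h12 : 12 ≤ a := by omega
    nlinarith [mul_nonneg (show (0:ℤ) ≤ a by omega) (show (0:ℤ) ≤ a - 12 by omega)]
  refine ⟨by omega, by omega, ?_⟩
  nlinarith

lemma adm_exc : Adm (-1) (-1) := by
  intro a h
  have h1 : -1 ≤ a := by
    by_contra h'
    push Not at h'
    have : a ≤ -2 := by omega
    nlinarith [mul_nonneg (show (0:ℤ) ≤ -a - 2 by omega) (show (0:ℤ) ≤ -a by omega)]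
  have h2 : a ≤ 7 := by
    by_contra h'
    push Not at h'
    have h12 : 8 ≤ a := by omega
    nlinarith [mul_nonneg (show (0:ℤ) ≤ a by omega) (show (0:ℤ) ≤ a - 8 by omega)]
  refine ⟨by omega, by omega, ?_⟩
  nlinarith

theorem mem_solsG (srt : Bool) {δ : ℕ} (hδ : δ ≤ 8) {n d : ℤ} (hnd : Adm n d) (a : ℤ)
    (l : List ℤ) (hl : l.length = δ) (h1 : ConicEnum.sq l = a * a - n) (h2 : l.sum = 3 * a + d)
    (hs : srt = true → l.Pairwise (· ≥ ·)) : a :: l ∈ solsG srt δ n d := by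
  have hcs := sum_mul_sum_le l
  rw [h2, h1, hl] at hcs
  have hδ' : (δ : ℤ) ≤ 8 := by exact_mod_cast hδ
  have hq : 0 ≤ a * a - n := by rw [← h1]; exact sq_nonneg' l
  have h8 : (3 * a + d) * (3 * a + d) ≤ 8 * (a * a - n) := by nlinarith
  obtain ⟨ha1, ha2, ha3⟩ := hnd a h8
  rw [solsG, List.mem_flatMap]
  refine ⟨a, mem_cands.2 ⟨by push_cast; omega, by push_cast; omega⟩, ?_⟩
  rw [List.mem_map]
  refine ⟨l, ?_, rfl⟩
  apply mem_enum srt 12 δ 12 _ _ l hl h2 h1 (by push_cast; linarith)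
  intro hsrt
  refine ⟨hs hsrt, fun x hx => ?_⟩
  have := mul_self_le_sq hx
  nlinarith

theorem of_mem_solsG {srt : Bool} {δ : ℕ} {n d : ℤ} {l : List ℤ} (h : l ∈ solsG srt δ n d) :
    ∃ (a : ℤ) (l' : List ℤ), l = a :: l' ∧ l'.length = δ ∧ ConicEnum.sq l' = a * a - n ∧
      l'.sum = 3 * a + d := by
  rw [solsG, List.mem_flatMap] at h
  obtain ⟨a, -, h⟩ := h
  rw [List.mem_map] at h
  obtain ⟨l', hl', rfl⟩ := h
  obtain ⟨h1, h2, h3⟩ := of_mem_enum _ _ _ _ _ _ _ hl'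
  exact ⟨a, l', rfl, h1, h3, h2⟩

theorem ofFn_mem_solsG {δ : ℕ} (hδ : δ ≤ 8) {n d : ℤ} (hnd : Adm n d) (v : DP δ)
    (hv : IsCls n d v) : List.ofFn v ∈ solsG false δ n d := by
  rw [isCls_iff] at hv
  rw [List.ofFn_succ]
  exact mem_solsG false hδ hnd _ _ (by simp) hv.1 hv.2 (by simp)

theorem exists_sort {δ : ℕ} (hδ : δ ≤ 8) {n d : ℤ} (hnd : Adm n d) (v : DP δ)
    (hv : IsCls n d v) :
    ∃ σ : Equiv.Perm (Fin δ), List.ofFn (permLE σ v) ∈ solsG true δ n d := by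
  set f : Fin δ → ℤ := fun i => - v i.succ with hf
  set σ := Tuple.sort f with hσ
  have hmono : Monotone (f ∘ σ) := Tuple.monotone_sort f
  refine ⟨σ, ?_⟩
  have hv' : IsCls n d (permLE σ v) := hv.map (isWeyl_permLE σ)
  rw [isCls_iff] at hv'
  rw [List.ofFn_succ]
  refine mem_solsG true hδ hnd _ _ (by simp) hv'.1 hv'.2 (fun _ => ?_)
  rw [List.pairwise_ofFn]
  intro i j hij
  have := hmono hij.le
  simp only [f, Function.comp] at this
  simp only [permLE_apply_succ]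
  linarith

/-- enumeration of the classes `a :: b :: bs` with `bs` descending. -/
def sols2G (δ' : ℕ) (n d : ℤ) : List (List ℤ) :=
  (cands 12).flatMap (fun a => (cands 12).flatMap (fun b =>
    (enum true 12 δ' 12 (3 * a + d - b) (a * a - n - b * b)).map (fun l => a :: b :: l)))

theorem mem_sols2G {δ' : ℕ} (hδ : δ' + 1 ≤ 8) {n d : ℤ} (hnd : Adm n d) (a b : ℤ)
    (l : List ℤ) (hl : l.length = δ') (h1 : ConicEnum.sq (b :: l) = a * a - n)
    (h2 : (b :: l).sum = 3 * a + d) (hs : l.Pairwise (· ≥ ·)) :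
    a :: b :: l ∈ sols2G δ' n d := by
  have hcs := sum_mul_sum_le (b :: l)
  have hlen : (b :: l).length = δ' + 1 := by simp [hl]
  rw [h2, h1, hlen] at hcs
  have hδ' : ((δ' + 1 : ℕ) : ℤ) ≤ 8 := by exact_mod_cast hδ
  have hq : 0 ≤ a * a - n := by rw [← h1]; exact sq_nonneg' _
  have h8 : (3 * a + d) * (3 * a + d) ≤ 8 * (a * a - n) := by nlinarith
  obtain ⟨ha1, ha2, ha3⟩ := hnd a h8
  have hbb : b * b ≤ 144 := by
    have := mul_self_le_sq (l := b :: l) (x := b) (by simp)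
    rw [h1] at this; linarith
  have hb : -12 ≤ b ∧ b ≤ 12 := by constructor <;> nlinarith
  rw [sols2G, List.mem_flatMap]
  refine ⟨a, mem_cands.2 ⟨by push_cast; omega, by push_cast; omega⟩, ?_⟩
  rw [List.mem_flatMap]
  refine ⟨b, mem_cands.2 ⟨by push_cast; omega, by push_cast; omega⟩, ?_⟩
  rw [List.mem_map]
  refine ⟨l, ?_, rfl⟩
  rw [sq_cons] at h1
  rw [List.sum_cons] at h2
  apply mem_enum true 12 δ' 12 _ _ l hl (by linarith) (by linarith)
    (by push_cast; nlinarith [mul_self_nonneg b])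
  intro _
  refine ⟨hs, fun x hx => ?_⟩
  have := mul_self_le_sq hx
  nlinarith [mul_self_nonneg b]

theorem exists_tail_sort {δ' : ℕ} (hδ : δ' + 1 ≤ 8) {n d : ℤ} (hnd : Adm n d)
    (v : DP (δ' + 1)) (hv : IsCls n d v) :
    ∃ τ : Equiv.Perm (Fin δ'), List.ofFn (permLE (liftPerm τ) v) ∈ sols2G δ' n d := by
  set f : Fin δ' → ℤ := fun j => - v j.succ.succ with hf
  set τ := Tuple.sort f with hτ
  have hmono : Monotone (f ∘ τ) := Tuple.monotone_sort f
  refine ⟨τ, ?_⟩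
  have hv' : IsCls n d (permLE (liftPerm τ) v) := hv.map (isWeyl_permLE _)
  rw [isCls_iff] at hv'
  rw [List.ofFn_succ, List.ofFn_succ]
  rw [List.ofFn_succ] at hv'
  refine mem_sols2G hδ hnd _ _ _ (by simp) hv'.1 hv'.2 ?_
  rw [List.pairwise_ofFn]
  intro i j hij
  have := hmono hij.le
  simp only [f, Function.comp] at this
  simp only [permLE_apply_succ, liftPerm_succ]
  linarith

/-- transitivity from a table of matrix certificates indexed by sorted classes. -/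
theorem trans_of_table {δ : ℕ} (hδ : δ ≤ 8) {n d : ℤ} (hnd : Adm n d) (x0 : DP δ)
    (tab : List (List ℤ × List (List ℤ)))
    (hchk : ∀ l ∈ solsG true δ n d, ∃ p ∈ tab, p.1 = l ∧ IsWeylMat (matL δ p.2) ∧
      matL δ p.2 *ᵥ vecL δ l = x0) :
    ∀ v : DP δ, IsCls n d v → ∃ g : DP δ ≃ₗ[ℤ] DP δ, IsWeyl g ∧ g v = x0 := by
  intro v hv
  obtain ⟨σ, hσ⟩ := exists_sort hδ hnd v hv
  obtain ⟨p, -, -, hW, hx⟩ := hchk _ hσ
  rw [vecL_ofFn] at hx
  obtain ⟨g0, hg0, hg0v⟩ := exists_weyl_of_mat _ hW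
  exact ⟨(permLE σ).trans g0, IsWeyl.trans (isWeyl_permLE σ) hg0, by
    rw [LinearEquiv.trans_apply, hg0v, hx]⟩

/-- orbits of the stabiliser of `x0` from a table indexed by tail-sorted classes. -/
theorem stab_of_table {δ' : ℕ} (hδ : δ' + 1 ≤ 8) {n d : ℤ} (hnd : Adm n d) (x0 : DP (δ' + 1))
    (hx0 : ∀ j j' : Fin δ', x0 j.succ.succ = x0 j'.succ.succ)
    (G : ℤ → DP (δ' + 1) → Prop) (tab : List (List ℤ × List (List ℤ)))
    (hchk : ∀ l ∈ sols2G δ' n d, ∃ p ∈ tab, p.1 = l ∧ IsWeylMat (matL (δ' + 1) p.2) ∧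
      matL (δ' + 1) p.2 *ᵥ x0 = x0 ∧
      G (form x0 (vecL (δ' + 1) l)) (matL (δ' + 1) p.2 *ᵥ vecL (δ' + 1) l)) :
    ∀ v : DP (δ' + 1), IsCls n d v →
      ∃ s : DP (δ' + 1) ≃ₗ[ℤ] DP (δ' + 1), IsWeyl s ∧ s x0 = x0 ∧ G (form x0 v) (s v) := by
  intro v hv
  obtain ⟨τ, hτ⟩ := exists_tail_sort hδ hnd v hv
  obtain ⟨p, -, -, hW, hfix, hG⟩ := hchk _ hτ
  rw [vecL_ofFn] at hG
  obtain ⟨g0, hg0, hg0v⟩ := exists_weyl_of_mat _ hW
  have hπ := isWeyl_permLE (liftPerm τ)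
  have hπx : permLE (liftPerm τ) x0 = x0 := by
    funext i
    refine Fin.cases ?_ (fun i' => ?_) i
    · simp
    · refine Fin.cases ?_ (fun j => ?_) i'
      · rw [permLE_apply_succ, liftPerm_zero]
      · rw [permLE_apply_succ, liftPerm_succ]
        exact hx0 _ _
  have hform : form x0 (permLE (liftPerm τ) v) = form x0 v := by
    conv_lhs => rw [← hπx]
    exact hπ.1 _ _
  rw [hform] at hG
  refine ⟨(permLE (liftPerm τ)).trans g0, IsWeyl.trans hπ hg0, ?_, ?_⟩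
  · rw [LinearEquiv.trans_apply, hπx, hg0v, hfix]
  · rw [LinearEquiv.trans_apply, hg0v]
    exact hG

/-- orbits of a pointwise stabiliser from a table indexed by all classes satisfying a
condition. -/
theorem fix_of_table {δ : ℕ} (hδ : δ ≤ 8) {n d : ℤ} (hnd : Adm n d) (fixed : List (DP δ))
    (Cond : DP δ → Prop) (G : DP δ → Prop) (tab : List (List ℤ × List (List ℤ)))
    (hchk : ∀ l ∈ solsG false δ n d, Cond (vecL δ l) → ∃ p ∈ tab, p.1 = l ∧
      IsWeylMat (matL δ p.2) ∧ (∀ x ∈ fixed, matL δ p.2 *ᵥ x = x) ∧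
      G (matL δ p.2 *ᵥ vecL δ l)) :
    ∀ v : DP δ, IsCls n d v → Cond v →
      ∃ s : DP δ ≃ₗ[ℤ] DP δ, IsWeyl s ∧ (∀ x ∈ fixed, s x = x) ∧ G (s v) := by
  intro v hv hc
  have hmem := ofFn_mem_solsG hδ hnd v hv
  obtain ⟨p, -, -, hW, hfix, hG⟩ := hchk _ hmem (by rw [vecL_ofFn]; exact hc)
  rw [vecL_ofFn] at hG
  obtain ⟨g0, hg0, hg0v⟩ := exists_weyl_of_mat _ hW
  refine ⟨g0, hg0, fun x hx => ?_, ?_⟩
  · rw [hg0v, hfix x hx]
  · rw [hg0v]; exact hG

end Groth.Agent.Helper7.DPTab
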