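import Mathlib
import Groth.Agent.Helper7.DPTab

set_option maxSynthPendingDepth 3
set_option linter.style.haveILetI false

/-! Certificate tables for conic classes in `DP δ`, `2 ≤ δ ≤ 8` (generated). -/

namespace Groth.Agent.Helper7.DPCon

open W4c3severiratdp Matrix Groth.Agent.Helper7.ConicEnum Groth.Agent.Helper7.DPLat
  Groth.Agent.Helper7.DPTab

/-- the base conic class `ℓ - e₁` for `δ = 2`. -/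
def Q0_2 : DP 2 := ![1, 1, 0]

def tabA_2 : List (List ℤ × List (List ℤ)) := [
  ([1, 1, 0], [[1, 0, 0], [0, 1, 0], [0, 0, 1]])]

def tabB_2 : List (List ℤ × List (List ℤ)) := [
  ([1, 0, 1], [[1, 0, 0], [0, 1, 0], [0, 0, 1]]),
  ([1, 1, 0], [[1, 0, 0], [0, 1, 0], [0, 0, 1]])]

/-- orbit representatives of the stabiliser of `Q0_2` on conic classes. -/
def R_2 (k : ℤ) : DP 2 :=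
  if k = 0 then ![1, 1, 0]
  else ![1, 0, 1]

set_option maxRecDepth 100000 in
theorem chkA_2 : ∀ l ∈ solsG true 2 0 (-2), ∃ p ∈ tabA_2, p.1 = l ∧ IsWeylMat (matL 2 p.2) ∧
    matL 2 p.2 *ᵥ vecL 2 l = Q0_2 := by decide +kernel

set_option maxRecDepth 100000 in
theorem chkB_2 : ∀ l ∈ sols2G 1 0 (-2), ∃ p ∈ tabB_2, p.1 = l ∧
    IsWeylMat (matL (1 + 1) p.2) ∧ matL (1 + 1) p.2 *ᵥ Q0_2 = Q0_2 ∧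
    (fun (k : ℤ) (u : DP (1 + 1)) => u = R_2 k) (form Q0_2 (vecL (1 + 1) l))
      (matL (1 + 1) p.2 *ᵥ vecL (1 + 1) l) := by decide +kernel

theorem transCon_2 (v : DP 2) (hv : IsConic v) :
    ∃ g : DP 2 ≃ₗ[ℤ] DP 2, IsWeyl g ∧ g v = Q0_2 :=
  trans_of_table (by norm_num) adm_conic Q0_2 tabA_2 chkA_2 v hv

theorem stabCon_2 (v : DP 2) (hv : IsConic v) :
    ∃ s : DP 2 ≃ₗ[ℤ] DP 2, IsWeyl s ∧ s Q0_2 = Q0_2 ∧ s v = R_2 (form Q0_2 v) :=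
  stab_of_table (δ' := 1) (by norm_num) adm_conic Q0_2 (by decide)
    (fun (k : ℤ) (u : DP (1 + 1)) => u = R_2 k) tabB_2 chkB_2 v hv

/-- the base conic class `ℓ - e₁` for `δ = 3`. -/
def Q0_3 : DP 3 := ![1, 1, 0, 0]

def tabA_3 : List (List ℤ × List (List ℤ)) := [
  ([1, 1, 0, 0], [[1, 0, 0, 0], [0, 1, 0, 0], [0, 0, 1, 0], [0, 0, 0, 1]])]

def tabB_3 : List (List ℤ × List (List ℤ)) := [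
  ([1, 0, 1, 0], [[1, 0, 0, 0], [0, 1, 0, 0], [0, 0, 1, 0], [0, 0, 0, 1]]),
  ([1, 1, 0, 0], [[1, 0, 0, 0], [0, 1, 0, 0], [0, 0, 1, 0], [0, 0, 0, 1]])]

/-- orbit representatives of the stabiliser of `Q0_3` on conic classes. -/
def R_3 (k : ℤ) : DP 3 :=
  if k = 0 then ![1, 1, 0, 0]
  else ![1, 0, 1, 0]

set_option maxRecDepth 100000 in
theorem chkA_3 : ∀ l ∈ solsG true 3 0 (-2), ∃ p ∈ tabA_3, p.1 = l ∧ IsWeylMat (matL 3 p.2) ∧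
    matL 3 p.2 *ᵥ vecL 3 l = Q0_3 := by decide +kernel

set_option maxRecDepth 100000 in
theorem chkB_3 : ∀ l ∈ sols2G 2 0 (-2), ∃ p ∈ tabB_3, p.1 = l ∧
    IsWeylMat (matL (2 + 1) p.2) ∧ matL (2 + 1) p.2 *ᵥ Q0_3 = Q0_3 ∧
    (fun (k : ℤ) (u : DP (2 + 1)) => u = R_3 k) (form Q0_3 (vecL (2 + 1) l))
      (matL (2 + 1) p.2 *ᵥ vecL (2 + 1) l) := by decide +kernel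

theorem transCon_3 (v : DP 3) (hv : IsConic v) :
    ∃ g : DP 3 ≃ₗ[ℤ] DP 3, IsWeyl g ∧ g v = Q0_3 :=
  trans_of_table (by norm_num) adm_conic Q0_3 tabA_3 chkA_3 v hv

theorem stabCon_3 (v : DP 3) (hv : IsConic v) :
    ∃ s : DP 3 ≃ₗ[ℤ] DP 3, IsWeyl s ∧ s Q0_3 = Q0_3 ∧ s v = R_3 (form Q0_3 v) :=
  stab_of_table (δ' := 2) (by norm_num) adm_conic Q0_3 (by decide)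
    (fun (k : ℤ) (u : DP (2 + 1)) => u = R_3 k) tabB_3 chkB_3 v hv

/-- the base conic class `ℓ - e₁` for `δ = 4`. -/
def Q0_4 : DP 4 := ![1, 1, 0, 0, 0]

def tabA_4 : List (List ℤ × List (List ℤ)) := [
  ([1, 1, 0, 0, 0], [[1, 0, 0, 0, 0], [0, 1, 0, 0, 0], [0, 0, 1, 0, 0], [0, 0, 0, 1, 0], [0, 0, 0, 0, 1]]),
  ([2, 1, 1, 1, 1], [[2, -1, -1, -1, 0], [0, 0, 0, 0, 1], [1, 0, -1, -1, 0], [1, -1, 0, -1, 0], [1, -1, -1, 0, 0]])]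

def tabB_4 : List (List ℤ × List (List ℤ)) := [
  ([1, 0, 1, 0, 0], [[1, 0, 0, 0, 0], [0, 1, 0, 0, 0], [0, 0, 1, 0, 0], [0, 0, 0, 1, 0], [0, 0, 0, 0, 1]]),
  ([2, 1, 1, 1, 1], [[2, -1, 0, -1, -1], [1, 0, 0, -1, -1], [0, 0, 1, 0, 0], [1, -1, 0, 0, -1], [1, -1, 0, -1, 0]]),
  ([1, 1, 0, 0, 0], [[1, 0, 0, 0, 0], [0, 1, 0, 0, 0], [0, 0, 1, 0, 0], [0, 0, 0, 1, 0], [0, 0, 0, 0, 1]])]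

/-- orbit representatives of the stabiliser of `Q0_4` on conic classes. -/
def R_4 (k : ℤ) : DP 4 :=
  if k = 0 then ![1, 1, 0, 0, 0]
  else ![1, 0, 1, 0, 0]

set_option maxRecDepth 100000 in
theorem chkA_4 : ∀ l ∈ solsG true 4 0 (-2), ∃ p ∈ tabA_4, p.1 = l ∧ IsWeylMat (matL 4 p.2) ∧
    matL 4 p.2 *ᵥ vecL 4 l = Q0_4 := by decide +kernel

set_option maxRecDepth 100000 in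
theorem chkB_4 : ∀ l ∈ sols2G 3 0 (-2), ∃ p ∈ tabB_4, p.1 = l ∧
    IsWeylMat (matL (3 + 1) p.2) ∧ matL (3 + 1) p.2 *ᵥ Q0_4 = Q0_4 ∧
    (fun (k : ℤ) (u : DP (3 + 1)) => u = R_4 k) (form Q0_4 (vecL (3 + 1) l))
      (matL (3 + 1) p.2 *ᵥ vecL (3 + 1) l) := by decide +kernel

theorem transCon_4 (v : DP 4) (hv : IsConic v) :
    ∃ g : DP 4 ≃ₗ[ℤ] DP 4, IsWeyl g ∧ g v = Q0_4 :=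
  trans_of_table (by norm_num) adm_conic Q0_4 tabA_4 chkA_4 v hv

theorem stabCon_4 (v : DP 4) (hv : IsConic v) :
    ∃ s : DP 4 ≃ₗ[ℤ] DP 4, IsWeyl s ∧ s Q0_4 = Q0_4 ∧ s v = R_4 (form Q0_4 v) :=
  stab_of_table (δ' := 3) (by norm_num) adm_conic Q0_4 (by decide)
    (fun (k : ℤ) (u : DP (3 + 1)) => u = R_4 k) tabB_4 chkB_4 v hv

/-- the base conic class `ℓ - e₁` for `δ = 5`. -/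
def Q0_5 : DP 5 := ![1, 1, 0, 0, 0, 0]

def tabA_5 : List (List ℤ × List (List ℤ)) := [
  ([1, 1, 0, 0, 0, 0], [[1, 0, 0, 0, 0, 0], [0, 1, 0, 0, 0, 0], [0, 0, 1, 0, 0, 0], [0, 0, 0, 1, 0, 0], [0, 0, 0, 0, 1, 0], [0, 0, 0, 0, 0, 1]]),
  ([2, 1, 1, 1, 1, 0], [[2, -1, -1, -1, 0, 0], [0, 0, 0, 0, 1, 0], [1, 0, -1, -1, 0, 0], [1, -1, 0, -1, 0, 0], [1, -1, -1, 0, 0, 0], [0, 0, 0, 0, 0, 1]])]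

def tabB_5 : List (List ℤ × List (List ℤ)) := [
  ([1, 0, 1, 0, 0, 0], [[1, 0, 0, 0, 0, 0], [0, 1, 0, 0, 0, 0], [0, 0, 1, 0, 0, 0], [0, 0, 0, 1, 0, 0], [0, 0, 0, 0, 1, 0], [0, 0, 0, 0, 0, 1]]),
  ([2, 1, 1, 1, 1, 0], [[2, -1, 0, -1, -1, 0], [1, 0, 0, -1, -1, 0], [0, 0, 1, 0, 0, 0], [1, -1, 0, 0, -1, 0], [1, -1, 0, -1, 0, 0], [0, 0, 0, 0, 0, 1]]),
  ([1, 1, 0, 0, 0, 0], [[1, 0, 0, 0, 0, 0], [0, 1, 0, 0, 0, 0], [0, 0, 1, 0, 0, 0], [0, 0, 0, 1, 0, 0], [0, 0, 0, 0, 1, 0], [0, 0, 0, 0, 0, 1]]),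
  ([2, 0, 1, 1, 1, 1], [[1, 0, 0, 0, 0, 0], [0, 1, 0, 0, 0, 0], [0, 0, 1, 0, 0, 0], [0, 0, 0, 1, 0, 0], [0, 0, 0, 0, 1, 0], [0, 0, 0, 0, 0, 1]])]

/-- orbit representatives of the stabiliser of `Q0_5` on conic classes. -/
def R_5 (k : ℤ) : DP 5 :=
  if k = 0 then ![1, 1, 0, 0, 0, 0]
  else if k = 1 then ![1, 0, 1, 0, 0, 0]
  else ![2, 0, 1, 1, 1, 1]

set_option maxRecDepth 100000 in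
theorem chkA_5 : ∀ l ∈ solsG true 5 0 (-2), ∃ p ∈ tabA_5, p.1 = l ∧ IsWeylMat (matL 5 p.2) ∧
    matL 5 p.2 *ᵥ vecL 5 l = Q0_5 := by decide +kernel

set_option maxRecDepth 100000 in
theorem chkB_5 : ∀ l ∈ sols2G 4 0 (-2), ∃ p ∈ tabB_5, p.1 = l ∧
    IsWeylMat (matL (4 + 1) p.2) ∧ matL (4 + 1) p.2 *ᵥ Q0_5 = Q0_5 ∧
    (fun (k : ℤ) (u : DP (4 + 1)) => u = R_5 k) (form Q0_5 (vecL (4 + 1) l))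
      (matL (4 + 1) p.2 *ᵥ vecL (4 + 1) l) := by decide +kernel

theorem transCon_5 (v : DP 5) (hv : IsConic v) :
    ∃ g : DP 5 ≃ₗ[ℤ] DP 5, IsWeyl g ∧ g v = Q0_5 :=
  trans_of_table (by norm_num) adm_conic Q0_5 tabA_5 chkA_5 v hv

theorem stabCon_5 (v : DP 5) (hv : IsConic v) :
    ∃ s : DP 5 ≃ₗ[ℤ] DP 5, IsWeyl s ∧ s Q0_5 = Q0_5 ∧ s v = R_5 (form Q0_5 v) :=
  stab_of_table (δ' := 4) (by norm_num) adm_conic Q0_5 (by decide)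
    (fun (k : ℤ) (u : DP (4 + 1)) => u = R_5 k) tabB_5 chkB_5 v hv

/-- the base conic class `ℓ - e₁` for `δ = 6`. -/
def Q0_6 : DP 6 := ![1, 1, 0, 0, 0, 0, 0]

def tabA_6 : List (List ℤ × List (List ℤ)) := [
  ([1, 1, 0, 0, 0, 0, 0], [[1, 0, 0, 0, 0, 0, 0], [0, 1, 0, 0, 0, 0, 0], [0, 0, 1, 0, 0, 0, 0], [0, 0, 0, 1, 0, 0, 0], [0, 0, 0, 0, 1, 0, 0], [0, 0, 0, 0, 0, 1, 0], [0, 0, 0, 0, 0, 0, 1]]),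
  ([2, 1, 1, 1, 1, 0, 0], [[2, -1, -1, -1, 0, 0, 0], [0, 0, 0, 0, 1, 0, 0], [1, 0, -1, -1, 0, 0, 0], [1, -1, 0, -1, 0, 0, 0], [1, -1, -1, 0, 0, 0, 0], [0, 0, 0, 0, 0, 1, 0], [0, 0, 0, 0, 0, 0, 1]]),
  ([3, 2, 1, 1, 1, 1, 1], [[3, -2, -1, -1, -1, -1, 0], [0, 0, 0, 0, 0, 0, 1], [2, -1, -1, -1, -1, -1, 0], [1, -1, 0, 0, 0, -1, 0], [1, -1, 0, 0, -1, 0, 0], [1, -1, 0, -1, 0, 0, 0], [1, -1, -1, 0, 0, 0, 0]])]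

def tabB_6 : List (List ℤ × List (List ℤ)) := [
  ([1, 0, 1, 0, 0, 0, 0], [[1, 0, 0, 0, 0, 0, 0], [0, 1, 0, 0, 0, 0, 0], [0, 0, 1, 0, 0, 0, 0], [0, 0, 0, 1, 0, 0, 0], [0, 0, 0, 0, 1, 0, 0], [0, 0, 0, 0, 0, 1, 0], [0, 0, 0, 0, 0, 0, 1]]),
  ([2, 1, 1, 1, 1, 0, 0], [[2, -1, 0, -1, -1, 0, 0], [1, 0, 0, -1, -1, 0, 0], [0, 0, 1, 0, 0, 0, 0], [1, -1, 0, 0, -1, 0, 0], [1, -1, 0, -1, 0, 0, 0], [0, 0, 0, 0, 0, 1, 0], [0, 0, 0, 0, 0, 0, 1]]),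
  ([3, 2, 1, 1, 1, 1, 1], [[3, -2, 0, -1, -1, -1, -1], [2, -1, 0, -1, -1, -1, -1], [0, 0, 1, 0, 0, 0, 0], [1, -1, 0, 0, -1, 0, 0], [1, -1, 0, -1, 0, 0, 0], [1, -1, 0, 0, 0, 0, -1], [1, -1, 0, 0, 0, -1, 0]]),
  ([1, 1, 0, 0, 0, 0, 0], [[1, 0, 0, 0, 0, 0, 0], [0, 1, 0, 0, 0, 0, 0], [0, 0, 1, 0, 0, 0, 0], [0, 0, 0, 1, 0, 0, 0], [0, 0, 0, 0, 1, 0, 0], [0, 0, 0, 0, 0, 1, 0], [0, 0, 0, 0, 0, 0, 1]]),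
  ([2, 0, 1, 1, 1, 1, 0], [[1, 0, 0, 0, 0, 0, 0], [0, 1, 0, 0, 0, 0, 0], [0, 0, 1, 0, 0, 0, 0], [0, 0, 0, 1, 0, 0, 0], [0, 0, 0, 0, 1, 0, 0], [0, 0, 0, 0, 0, 1, 0], [0, 0, 0, 0, 0, 0, 1]]),
  ([3, 1, 2, 1, 1, 1, 1], [[2, -1, -1, 0, 0, 0, -1], [1, 0, -1, 0, 0, 0, -1], [1, -1, 0, 0, 0, 0, -1], [0, 0, 0, 1, 0, 0, 0], [0, 0, 0, 0, 1, 0, 0], [0, 0, 0, 0, 0, 1, 0], [1, -1, -1, 0, 0, 0, 0]])]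

/-- orbit representatives of the stabiliser of `Q0_6` on conic classes. -/
def R_6 (k : ℤ) : DP 6 :=
  if k = 0 then ![1, 1, 0, 0, 0, 0, 0]
  else if k = 1 then ![1, 0, 1, 0, 0, 0, 0]
  else ![2, 0, 1, 1, 1, 1, 0]

set_option maxRecDepth 100000 in
theorem chkA_6 : ∀ l ∈ solsG true 6 0 (-2), ∃ p ∈ tabA_6, p.1 = l ∧ IsWeylMat (matL 6 p.2) ∧
    matL 6 p.2 *ᵥ vecL 6 l = Q0_6 := by decide +kernel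

set_option maxRecDepth 100000 in
theorem chkB_6 : ∀ l ∈ sols2G 5 0 (-2), ∃ p ∈ tabB_6, p.1 = l ∧
    IsWeylMat (matL (5 + 1) p.2) ∧ matL (5 + 1) p.2 *ᵥ Q0_6 = Q0_6 ∧
    (fun (k : ℤ) (u : DP (5 + 1)) => u = R_6 k) (form Q0_6 (vecL (5 + 1) l))
      (matL (5 + 1) p.2 *ᵥ vecL (5 + 1) l) := by decide +kernel

theorem transCon_6 (v : DP 6) (hv : IsConic v) :
    ∃ g : DP 6 ≃ₗ[ℤ] DP 6, IsWeyl g ∧ g v = Q0_6 :=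
  trans_of_table (by norm_num) adm_conic Q0_6 tabA_6 chkA_6 v hv

theorem stabCon_6 (v : DP 6) (hv : IsConic v) :
    ∃ s : DP 6 ≃ₗ[ℤ] DP 6, IsWeyl s ∧ s Q0_6 = Q0_6 ∧ s v = R_6 (form Q0_6 v) :=
  stab_of_table (δ' := 5) (by norm_num) adm_conic Q0_6 (by decide)
    (fun (k : ℤ) (u : DP (5 + 1)) => u = R_6 k) tabB_6 chkB_6 v hv

/-- the base conic class `ℓ - e₁` for `δ = 7`. -/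
def Q0_7 : DP 7 := ![1, 1, 0, 0, 0, 0, 0, 0]

def tabA_7 : List (List ℤ × List (List ℤ)) := [
  ([1, 1, 0, 0, 0, 0, 0, 0], [[1, 0, 0, 0, 0, 0, 0, 0], [0, 1, 0, 0, 0, 0, 0, 0], [0, 0, 1, 0, 0, 0, 0, 0], [0, 0, 0, 1, 0, 0, 0, 0], [0, 0, 0, 0, 1, 0, 0, 0], [0, 0, 0, 0, 0, 1, 0, 0], [0, 0, 0, 0, 0, 0, 1, 0], [0, 0, 0, 0, 0, 0, 0, 1]]),
  ([2, 1, 1, 1, 1, 0, 0, 0], [[2, -1, -1, -1, 0, 0, 0, 0], [0, 0, 0, 0, 1, 0, 0, 0], [1, 0, -1, -1, 0, 0, 0, 0], [1, -1, 0, -1, 0, 0, 0, 0], [1, -1, -1, 0, 0, 0, 0, 0], [0, 0, 0, 0, 0, 1, 0, 0], [0, 0, 0, 0, 0, 0, 1, 0], [0, 0, 0, 0, 0, 0, 0, 1]]),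
  ([3, 2, 1, 1, 1, 1, 1, 0], [[3, -2, -1, -1, -1, -1, 0, 0], [0, 0, 0, 0, 0, 0, 1, 0], [2, -1, -1, -1, -1, -1, 0, 0], [1, -1, 0, 0, 0, -1, 0, 0], [1, -1, 0, 0, -1, 0, 0, 0], [1, -1, 0, -1, 0, 0, 0, 0], [1, -1, -1, 0, 0, 0, 0, 0], [0, 0, 0, 0, 0, 0, 0, 1]]),
  ([4, 2, 2, 2, 1, 1, 1, 1], [[4, -2, -2, -2, -1, -1, -1, 0], [0, 0, 0, 0, 0, 0, 0, 1], [2, -1, -1, -1, 0, -1, -1, 0], [2, -1, -1, -1, -1, 0, -1, 0], [2, -1, -1, -1, -1, -1, 0, 0], [1, 0, -1, -1, 0, 0, 0, 0], [1, -1, 0, -1, 0, 0, 0, 0], [1, -1, -1, 0, 0, 0, 0, 0]]),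
  ([5, 2, 2, 2, 2, 2, 2, 1], [[5, -2, -2, -2, -2, -2, -2, 0], [0, 0, 0, 0, 0, 0, 0, 1], [2, 0, -1, -1, -1, -1, -1, 0], [2, -1, 0, -1, -1, -1, -1, 0], [2, -1, -1, 0, -1, -1, -1, 0], [2, -1, -1, -1, 0, -1, -1, 0], [2, -1, -1, -1, -1, 0, -1, 0], [2, -1, -1, -1, -1, -1, 0, 0]])]

def tabB_7 : List (List ℤ × List (List ℤ)) := [
  ([1, 0, 1, 0, 0, 0, 0, 0], [[1, 0, 0, 0, 0, 0, 0, 0], [0, 1, 0, 0, 0, 0, 0, 0], [0, 0, 1, 0, 0, 0, 0, 0], [0, 0, 0, 1, 0, 0, 0, 0], [0, 0, 0, 0, 1, 0, 0, 0], [0, 0, 0, 0, 0, 1, 0, 0], [0, 0, 0, 0, 0, 0, 1, 0], [0, 0, 0, 0, 0, 0, 0, 1]]),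
  ([2, 1, 1, 1, 1, 0, 0, 0], [[2, -1, 0, -1, -1, 0, 0, 0], [1, 0, 0, -1, -1, 0, 0, 0], [0, 0, 1, 0, 0, 0, 0, 0], [1, -1, 0, 0, -1, 0, 0, 0], [1, -1, 0, -1, 0, 0, 0, 0], [0, 0, 0, 0, 0, 1, 0, 0], [0, 0, 0, 0, 0, 0, 1, 0], [0, 0, 0, 0, 0, 0, 0, 1]]),
  ([3, 2, 1, 1, 1, 1, 1, 0], [[3, -2, 0, -1, -1, -1, -1, 0], [2, -1, 0, -1, -1, -1, -1, 0], [0, 0, 1, 0, 0, 0, 0, 0], [1, -1, 0, 0, -1, 0, 0, 0], [1, -1, 0, -1, 0, 0, 0, 0], [1, -1, 0, 0, 0, 0, -1, 0], [1, -1, 0, 0, 0, -1, 0, 0], [0, 0, 0, 0, 0, 0, 0, 1]]),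
  ([1, 1, 0, 0, 0, 0, 0, 0], [[1, 0, 0, 0, 0, 0, 0, 0], [0, 1, 0, 0, 0, 0, 0, 0], [0, 0, 1, 0, 0, 0, 0, 0], [0, 0, 0, 1, 0, 0, 0, 0], [0, 0, 0, 0, 1, 0, 0, 0], [0, 0, 0, 0, 0, 1, 0, 0], [0, 0, 0, 0, 0, 0, 1, 0], [0, 0, 0, 0, 0, 0, 0, 1]]),
  ([2, 0, 1, 1, 1, 1, 0, 0], [[1, 0, 0, 0, 0, 0, 0, 0], [0, 1, 0, 0, 0, 0, 0, 0], [0, 0, 1, 0, 0, 0, 0, 0], [0, 0, 0, 1, 0, 0, 0, 0], [0, 0, 0, 0, 1, 0, 0, 0], [0, 0, 0, 0, 0, 1, 0, 0], [0, 0, 0, 0, 0, 0, 1, 0], [0, 0, 0, 0, 0, 0, 0, 1]]),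
  ([3, 1, 2, 1, 1, 1, 1, 0], [[2, -1, -1, 0, 0, 0, -1, 0], [1, 0, -1, 0, 0, 0, -1, 0], [1, -1, 0, 0, 0, 0, -1, 0], [0, 0, 0, 1, 0, 0, 0, 0], [0, 0, 0, 0, 1, 0, 0, 0], [0, 0, 0, 0, 0, 1, 0, 0], [1, -1, -1, 0, 0, 0, 0, 0], [0, 0, 0, 0, 0, 0, 0, 1]]),
  ([4, 2, 2, 2, 1, 1, 1, 1], [[3, -2, -1, -1, 0, 0, -1, -1], [2, -1, -1, -1, 0, 0, -1, -1], [1, -1, 0, 0, 0, 0, -1, 0], [1, -1, 0, 0, 0, 0, 0, -1], [0, 0, 0, 0, 1, 0, 0, 0], [0, 0, 0, 0, 0, 1, 0, 0], [1, -1, -1, 0, 0, 0, 0, 0], [1, -1, 0, -1, 0, 0, 0, 0]]),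
  ([3, 0, 2, 1, 1, 1, 1, 1], [[1, 0, 0, 0, 0, 0, 0, 0], [0, 1, 0, 0, 0, 0, 0, 0], [0, 0, 1, 0, 0, 0, 0, 0], [0, 0, 0, 1, 0, 0, 0, 0], [0, 0, 0, 0, 1, 0, 0, 0], [0, 0, 0, 0, 0, 1, 0, 0], [0, 0, 0, 0, 0, 0, 1, 0], [0, 0, 0, 0, 0, 0, 0, 1]]),
  ([4, 1, 2, 2, 2, 1, 1, 1], [[2, -1, 0, -1, -1, 0, 0, 0], [1, 0, 0, -1, -1, 0, 0, 0], [0, 0, 1, 0, 0, 0, 0, 0], [1, -1, 0, 0, -1, 0, 0, 0], [1, -1, 0, -1, 0, 0, 0, 0], [0, 0, 0, 0, 0, 1, 0, 0], [0, 0, 0, 0, 0, 0, 1, 0], [0, 0, 0, 0, 0, 0, 0, 1]]),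
  ([5, 2, 2, 2, 2, 2, 2, 1], [[3, -2, 0, -1, -1, -1, -1, 0], [2, -1, 0, -1, -1, -1, -1, 0], [0, 0, 1, 0, 0, 0, 0, 0], [1, -1, 0, 0, -1, 0, 0, 0], [1, -1, 0, -1, 0, 0, 0, 0], [1, -1, 0, 0, 0, 0, -1, 0], [1, -1, 0, 0, 0, -1, 0, 0], [0, 0, 0, 0, 0, 0, 0, 1]]),
  ([5, 1, 2, 2, 2, 2, 2, 2], [[1, 0, 0, 0, 0, 0, 0, 0], [0, 1, 0, 0, 0, 0, 0, 0], [0, 0, 1, 0, 0, 0, 0, 0], [0, 0, 0, 1, 0, 0, 0, 0], [0, 0, 0, 0, 1, 0, 0, 0], [0, 0, 0, 0, 0, 1, 0, 0], [0, 0, 0, 0, 0, 0, 1, 0], [0, 0, 0, 0, 0, 0, 0, 1]])]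

/-- orbit representatives of the stabiliser of `Q0_7` on conic classes. -/
def R_7 (k : ℤ) : DP 7 :=
  if k = 0 then ![1, 1, 0, 0, 0, 0, 0, 0]
  else if k = 1 then ![1, 0, 1, 0, 0, 0, 0, 0]
  else if k = 2 then ![2, 0, 1, 1, 1, 1, 0, 0]
  else if k = 3 then ![3, 0, 2, 1, 1, 1, 1, 1]
  else ![5, 1, 2, 2, 2, 2, 2, 2]

set_option maxRecDepth 100000 in
theorem chkA_7 : ∀ l ∈ solsG true 7 0 (-2), ∃ p ∈ tabA_7, p.1 = l ∧ IsWeylMat (matL 7 p.2) ∧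
    matL 7 p.2 *ᵥ vecL 7 l = Q0_7 := by decide +kernel

set_option maxRecDepth 100000 in
theorem chkB_7 : ∀ l ∈ sols2G 6 0 (-2), ∃ p ∈ tabB_7, p.1 = l ∧
    IsWeylMat (matL (6 + 1) p.2) ∧ matL (6 + 1) p.2 *ᵥ Q0_7 = Q0_7 ∧
    (fun (k : ℤ) (u : DP (6 + 1)) => u = R_7 k) (form Q0_7 (vecL (6 + 1) l))
      (matL (6 + 1) p.2 *ᵥ vecL (6 + 1) l) := by decide +kernel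

theorem transCon_7 (v : DP 7) (hv : IsConic v) :
    ∃ g : DP 7 ≃ₗ[ℤ] DP 7, IsWeyl g ∧ g v = Q0_7 :=
  trans_of_table (by norm_num) adm_conic Q0_7 tabA_7 chkA_7 v hv

theorem stabCon_7 (v : DP 7) (hv : IsConic v) :
    ∃ s : DP 7 ≃ₗ[ℤ] DP 7, IsWeyl s ∧ s Q0_7 = Q0_7 ∧ s v = R_7 (form Q0_7 v) :=
  stab_of_table (δ' := 6) (by norm_num) adm_conic Q0_7 (by decide)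
    (fun (k : ℤ) (u : DP (6 + 1)) => u = R_7 k) tabB_7 chkB_7 v hv

/-- the base conic class `ℓ - e₁` for `δ = 8`. -/
def Q0_8 : DP 8 := ![1, 1, 0, 0, 0, 0, 0, 0, 0]

def tabA_8 : List (List ℤ × List (List ℤ)) := [
  ([1, 1, 0, 0, 0, 0, 0, 0, 0], [[1, 0, 0, 0, 0, 0, 0, 0, 0], [0, 1, 0, 0, 0, 0, 0, 0, 0], [0, 0, 1, 0, 0, 0, 0, 0, 0], [0, 0, 0, 1, 0, 0, 0, 0, 0], [0, 0, 0, 0, 1, 0, 0, 0, 0], [0, 0, 0, 0, 0, 1, 0, 0, 0], [0, 0, 0, 0, 0, 0, 1, 0, 0], [0, 0, 0, 0, 0, 0, 0, 1, 0], [0, 0, 0, 0, 0, 0, 0, 0, 1]]),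
  ([2, 1, 1, 1, 1, 0, 0, 0, 0], [[2, -1, -1, -1, 0, 0, 0, 0, 0], [0, 0, 0, 0, 1, 0, 0, 0, 0], [1, 0, -1, -1, 0, 0, 0, 0, 0], [1, -1, 0, -1, 0, 0, 0, 0, 0], [1, -1, -1, 0, 0, 0, 0, 0, 0], [0, 0, 0, 0, 0, 1, 0, 0, 0], [0, 0, 0, 0, 0, 0, 1, 0, 0], [0, 0, 0, 0, 0, 0, 0, 1, 0], [0, 0, 0, 0, 0, 0, 0, 0, 1]]),
  ([3, 2, 1, 1, 1, 1, 1, 0, 0], [[3, -2, -1, -1, -1, -1, 0, 0, 0], [0, 0, 0, 0, 0, 0, 1, 0, 0], [2, -1, -1, -1, -1, -1, 0, 0, 0], [1, -1, 0, 0, 0, -1, 0, 0, 0], [1, -1, 0, 0, -1, 0, 0, 0, 0], [1, -1, 0, -1, 0, 0, 0, 0, 0], [1, -1, -1, 0, 0, 0, 0, 0, 0], [0, 0, 0, 0, 0, 0, 0, 1, 0], [0, 0, 0, 0, 0, 0, 0, 0, 1]]),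
  ([4, 2, 2, 2, 1, 1, 1, 1, 0], [[4, -2, -2, -2, -1, -1, -1, 0, 0], [0, 0, 0, 0, 0, 0, 0, 1, 0], [2, -1, -1, -1, 0, -1, -1, 0, 0], [2, -1, -1, -1, -1, 0, -1, 0, 0], [2, -1, -1, -1, -1, -1, 0, 0, 0], [1, 0, -1, -1, 0, 0, 0, 0, 0], [1, -1, 0, -1, 0, 0, 0, 0, 0], [1, -1, -1, 0, 0, 0, 0, 0, 0], [0, 0, 0, 0, 0, 0, 0, 0, 1]]),
  ([4, 3, 1, 1, 1, 1, 1, 1, 1], [[4, -3, -1, -1, -1, -1, -1, -1, 0], [0, 0, 0, 0, 0, 0, 0, 0, 1], [3, -2, -1, -1, -1, -1, -1, -1, 0], [1, -1, 0, 0, 0, 0, 0, -1, 0], [1, -1, 0, 0, 0, 0, -1, 0, 0], [1, -1, 0, 0, 0, -1, 0, 0, 0], [1, -1, 0, 0, -1, 0, 0, 0, 0], [1, -1, 0, -1, 0, 0, 0, 0, 0], [1, -1, -1, 0, 0, 0, 0, 0, 0]]),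
  ([5, 2, 2, 2, 2, 2, 2, 1, 0], [[5, -2, -2, -2, -2, -2, -2, 0, 0], [0, 0, 0, 0, 0, 0, 0, 1, 0], [2, 0, -1, -1, -1, -1, -1, 0, 0], [2, -1, 0, -1, -1, -1, -1, 0, 0], [2, -1, -1, 0, -1, -1, -1, 0, 0], [2, -1, -1, -1, 0, -1, -1, 0, 0], [2, -1, -1, -1, -1, 0, -1, 0, 0], [2, -1, -1, -1, -1, -1, 0, 0, 0], [0, 0, 0, 0, 0, 0, 0, 0, 1]]),
  ([5, 3, 2, 2, 2, 1, 1, 1, 1], [[5, -3, -2, -2, -2, -1, -1, -1, 0], [0, 0, 0, 0, 0, 0, 0, 0, 1], [3, -2, -1, -1, -1, -1, -1, -1, 0], [2, -1, -1, -1, -1, 0, 0, -1, 0], [2, -1, -1, -1, -1, 0, -1, 0, 0], [2, -1, -1, -1, -1, -1, 0, 0, 0], [1, -1, 0, 0, -1, 0, 0, 0, 0], [1, -1, 0, -1, 0, 0, 0, 0, 0], [1, -1, -1, 0, 0, 0, 0, 0, 0]]),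
  ([6, 3, 3, 2, 2, 2, 2, 1, 1], [[6, -3, -3, -2, -2, -2, -2, -1, 0], [0, 0, 0, 0, 0, 0, 0, 0, 1], [3, -1, -2, -1, -1, -1, -1, -1, 0], [3, -2, -1, -1, -1, -1, -1, -1, 0], [2, -1, -1, 0, -1, -1, -1, 0, 0], [2, -1, -1, -1, 0, -1, -1, 0, 0], [2, -1, -1, -1, -1, 0, -1, 0, 0], [2, -1, -1, -1, -1, -1, 0, 0, 0], [1, -1, -1, 0, 0, 0, 0, 0, 0]]),
  ([7, 3, 3, 3, 3, 2, 2, 2, 1], [[7, -3, -3, -3, -3, -2, -2, -2, 0], [0, 0, 0, 0, 0, 0, 0, 0, 1], [3, -1, -1, -1, -2, -1, -1, -1, 0], [3, -1, -1, -2, -1, -1, -1, -1, 0], [3, -1, -2, -1, -1, -1, -1, -1, 0], [3, -2, -1, -1, -1, -1, -1, -1, 0], [2, -1, -1, -1, -1, 0, 0, -1, 0], [2, -1, -1, -1, -1, 0, -1, 0, 0], [2, -1, -1, -1, -1, -1, 0, 0, 0]]),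
  ([7, 4, 3, 2, 2, 2, 2, 2, 2], [[8, -5, -3, -3, -2, -2, -2, -2, -2], [1, -1, 0, -1, 0, 0, 0, 0, 0], [4, -2, -2, -2, -1, -1, -1, -1, -1], [3, -2, -1, -1, 0, -1, -1, -1, -1], [3, -2, -1, -1, -1, 0, -1, -1, -1], [3, -2, -1, -1, -1, -1, 0, -1, -1], [3, -2, -1, -1, -1, -1, -1, 0, -1], [3, -2, -1, -1, -1, -1, -1, -1, 0], [1, -1, -1, 0, 0, 0, 0, 0, 0]]),
  ([8, 3, 3, 3, 3, 3, 3, 3, 1], [[8, -3, -3, -3, -3, -3, -3, -3, 0], [0, 0, 0, 0, 0, 0, 0, 0, 1], [3, -1, -1, -1, -1, -1, -1, -2, 0], [3, -1, -1, -1, -1, -1, -2, -1, 0], [3, -1, -1, -1, -1, -2, -1, -1, 0], [3, -1, -1, -1, -2, -1, -1, -1, 0], [3, -1, -1, -2, -1, -1, -1, -1, 0], [3, -1, -2, -1, -1, -1, -1, -1, 0], [3, -2, -1, -1, -1, -1, -1, -1, 0]]),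
  ([8, 4, 3, 3, 3, 3, 2, 2, 2], [[9, -5, -4, -3, -3, -3, -2, -2, -2], [1, -1, -1, 0, 0, 0, 0, 0, 0], [4, -2, -2, -1, -1, -2, -1, -1, -1], [4, -2, -2, -1, -2, -1, -1, -1, -1], [4, -2, -2, -2, -1, -1, -1, -1, -1], [3, -2, -1, -1, -1, -1, 0, -1, -1], [3, -2, -1, -1, -1, -1, -1, 0, -1], [3, -2, -1, -1, -1, -1, -1, -1, 0], [2, -1, -1, -1, -1, -1, 0, 0, 0]]),
  ([9, 4, 4, 3, 3, 3, 3, 3, 2], [[10, -5, -5, -3, -3, -3, -3, -3, -2], [1, -1, -1, 0, 0, 0, 0, 0, 0], [4, -2, -2, -1, -1, -1, -1, -2, -1], [4, -2, -2, -1, -1, -1, -2, -1, -1], [4, -2, -2, -1, -1, -2, -1, -1, -1], [4, -2, -2, -1, -2, -1, -1, -1, -1], [4, -2, -2, -2, -1, -1, -1, -1, -1], [3, -1, -2, -1, -1, -1, -1, -1, 0], [3, -2, -1, -1, -1, -1, -1, -1, 0]]),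
  ([10, 4, 4, 4, 4, 3, 3, 3, 3], [[12, -5, -5, -5, -5, -4, -3, -3, -3], [2, -1, -1, -1, -1, -1, 0, 0, 0], [5, -2, -2, -2, -2, -2, -1, -1, -2], [5, -2, -2, -2, -2, -2, -1, -2, -1], [5, -2, -2, -2, -2, -2, -2, -1, -1], [4, -1, -2, -2, -2, -1, -1, -1, -1], [4, -2, -1, -2, -2, -1, -1, -1, -1], [4, -2, -2, -1, -2, -1, -1, -1, -1], [4, -2, -2, -2, -1, -1, -1, -1, -1]]),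
  ([11, 4, 4, 4, 4, 4, 4, 4, 3], [[14, -6, -5, -5, -5, -5, -5, -5, -3], [3, -2, -1, -1, -1, -1, -1, -1, 0], [6, -3, -2, -2, -2, -2, -2, -2, -2], [5, -2, -1, -2, -2, -2, -2, -2, -1], [5, -2, -2, -1, -2, -2, -2, -2, -1], [5, -2, -2, -2, -1, -2, -2, -2, -1], [5, -2, -2, -2, -2, -1, -2, -2, -1], [5, -2, -2, -2, -2, -2, -1, -2, -1], [5, -2, -2, -2, -2, -2, -2, -1, -1]])]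

def tabB_8 : List (List ℤ × List (List ℤ)) := [
  ([1, 0, 1, 0, 0, 0, 0, 0, 0], [[1, 0, 0, 0, 0, 0, 0, 0, 0], [0, 1, 0, 0, 0, 0, 0, 0, 0], [0, 0, 1, 0, 0, 0, 0, 0, 0], [0, 0, 0, 1, 0, 0, 0, 0, 0], [0, 0, 0, 0, 1, 0, 0, 0, 0], [0, 0, 0, 0, 0, 1, 0, 0, 0], [0, 0, 0, 0, 0, 0, 1, 0, 0], [0, 0, 0, 0, 0, 0, 0, 1, 0], [0, 0, 0, 0, 0, 0, 0, 0, 1]]),
  ([2, 1, 1, 1, 1, 0, 0, 0, 0], [[2, -1, 0, -1, -1, 0, 0, 0, 0], [1, 0, 0, -1, -1, 0, 0, 0, 0], [0, 0, 1, 0, 0, 0, 0, 0, 0], [1, -1, 0, 0, -1, 0, 0, 0, 0], [1, -1, 0, -1, 0, 0, 0, 0, 0], [0, 0, 0, 0, 0, 1, 0, 0, 0], [0, 0, 0, 0, 0, 0, 1, 0, 0], [0, 0, 0, 0, 0, 0, 0, 1, 0], [0, 0, 0, 0, 0, 0, 0, 0, 1]]),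
  ([3, 2, 1, 1, 1, 1, 1, 0, 0], [[3, -2, 0, -1, -1, -1, -1, 0, 0], [2, -1, 0, -1, -1, -1, -1, 0, 0], [0, 0, 1, 0, 0, 0, 0, 0, 0], [1, -1, 0, 0, -1, 0, 0, 0, 0], [1, -1, 0, -1, 0, 0, 0, 0, 0], [1, -1, 0, 0, 0, 0, -1, 0, 0], [1, -1, 0, 0, 0, -1, 0, 0, 0], [0, 0, 0, 0, 0, 0, 0, 1, 0], [0, 0, 0, 0, 0, 0, 0, 0, 1]]),
  ([4, 3, 1, 1, 1, 1, 1, 1, 1], [[4, -3, 0, -1, -1, -1, -1, -1, -1], [3, -2, 0, -1, -1, -1, -1, -1, -1], [0, 0, 1, 0, 0, 0, 0, 0, 0], [1, -1, 0, 0, -1, 0, 0, 0, 0], [1, -1, 0, -1, 0, 0, 0, 0, 0], [1, -1, 0, 0, 0, 0, -1, 0, 0], [1, -1, 0, 0, 0, -1, 0, 0, 0], [1, -1, 0, 0, 0, 0, 0, 0, -1], [1, -1, 0, 0, 0, 0, 0, -1, 0]]),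
  ([1, 1, 0, 0, 0, 0, 0, 0, 0], [[1, 0, 0, 0, 0, 0, 0, 0, 0], [0, 1, 0, 0, 0, 0, 0, 0, 0], [0, 0, 1, 0, 0, 0, 0, 0, 0], [0, 0, 0, 1, 0, 0, 0, 0, 0], [0, 0, 0, 0, 1, 0, 0, 0, 0], [0, 0, 0, 0, 0, 1, 0, 0, 0], [0, 0, 0, 0, 0, 0, 1, 0, 0], [0, 0, 0, 0, 0, 0, 0, 1, 0], [0, 0, 0, 0, 0, 0, 0, 0, 1]]),
  ([2, 0, 1, 1, 1, 1, 0, 0, 0], [[1, 0, 0, 0, 0, 0, 0, 0, 0], [0, 1, 0, 0, 0, 0, 0, 0, 0], [0, 0, 1, 0, 0, 0, 0, 0, 0], [0, 0, 0, 1, 0, 0, 0, 0, 0], [0, 0, 0, 0, 1, 0, 0, 0, 0], [0, 0, 0, 0, 0, 1, 0, 0, 0], [0, 0, 0, 0, 0, 0, 1, 0, 0], [0, 0, 0, 0, 0, 0, 0, 1, 0], [0, 0, 0, 0, 0, 0, 0, 0, 1]]),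
  ([3, 1, 2, 1, 1, 1, 1, 0, 0], [[2, -1, -1, 0, 0, 0, -1, 0, 0], [1, 0, -1, 0, 0, 0, -1, 0, 0], [1, -1, 0, 0, 0, 0, -1, 0, 0], [0, 0, 0, 1, 0, 0, 0, 0, 0], [0, 0, 0, 0, 1, 0, 0, 0, 0], [0, 0, 0, 0, 0, 1, 0, 0, 0], [1, -1, -1, 0, 0, 0, 0, 0, 0], [0, 0, 0, 0, 0, 0, 0, 1, 0], [0, 0, 0, 0, 0, 0, 0, 0, 1]]),
  ([4, 2, 2, 2, 1, 1, 1, 1, 0], [[3, -2, -1, -1, 0, 0, -1, -1, 0], [2, -1, -1, -1, 0, 0, -1, -1, 0], [1, -1, 0, 0, 0, 0, -1, 0, 0], [1, -1, 0, 0, 0, 0, 0, -1, 0], [0, 0, 0, 0, 1, 0, 0, 0, 0], [0, 0, 0, 0, 0, 1, 0, 0, 0], [1, -1, -1, 0, 0, 0, 0, 0, 0], [1, -1, 0, -1, 0, 0, 0, 0, 0], [0, 0, 0, 0, 0, 0, 0, 0, 1]]),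
  ([5, 3, 2, 2, 2, 1, 1, 1, 1], [[4, -3, -1, -1, -1, 0, -1, -1, -1], [3, -2, -1, -1, -1, 0, -1, -1, -1], [1, -1, 0, 0, 0, 0, -1, 0, 0], [1, -1, 0, 0, 0, 0, 0, -1, 0], [1, -1, 0, 0, 0, 0, 0, 0, -1], [0, 0, 0, 0, 0, 1, 0, 0, 0], [1, -1, -1, 0, 0, 0, 0, 0, 0], [1, -1, 0, -1, 0, 0, 0, 0, 0], [1, -1, 0, 0, -1, 0, 0, 0, 0]]),
  ([3, 0, 2, 1, 1, 1, 1, 1, 0], [[1, 0, 0, 0, 0, 0, 0, 0, 0], [0, 1, 0, 0, 0, 0, 0, 0, 0], [0, 0, 1, 0, 0, 0, 0, 0, 0], [0, 0, 0, 1, 0, 0, 0, 0, 0], [0, 0, 0, 0, 1, 0, 0, 0, 0], [0, 0, 0, 0, 0, 1, 0, 0, 0], [0, 0, 0, 0, 0, 0, 1, 0, 0], [0, 0, 0, 0, 0, 0, 0, 1, 0], [0, 0, 0, 0, 0, 0, 0, 0, 1]]),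
  ([4, 1, 2, 2, 2, 1, 1, 1, 0], [[2, -1, 0, -1, -1, 0, 0, 0, 0], [1, 0, 0, -1, -1, 0, 0, 0, 0], [0, 0, 1, 0, 0, 0, 0, 0, 0], [1, -1, 0, 0, -1, 0, 0, 0, 0], [1, -1, 0, -1, 0, 0, 0, 0, 0], [0, 0, 0, 0, 0, 1, 0, 0, 0], [0, 0, 0, 0, 0, 0, 1, 0, 0], [0, 0, 0, 0, 0, 0, 0, 1, 0], [0, 0, 0, 0, 0, 0, 0, 0, 1]]),
  ([4, 1, 3, 1, 1, 1, 1, 1, 1], [[2, -1, -1, 0, 0, 0, 0, 0, -1], [1, 0, -1, 0, 0, 0, 0, 0, -1], [1, -1, 0, 0, 0, 0, 0, 0, -1], [0, 0, 0, 1, 0, 0, 0, 0, 0], [0, 0, 0, 0, 1, 0, 0, 0, 0], [0, 0, 0, 0, 0, 1, 0, 0, 0], [0, 0, 0, 0, 0, 0, 1, 0, 0], [0, 0, 0, 0, 0, 0, 0, 1, 0], [1, -1, -1, 0, 0, 0, 0, 0, 0]]),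
  ([5, 2, 2, 2, 2, 2, 2, 1, 0], [[3, -2, 0, -1, -1, -1, -1, 0, 0], [2, -1, 0, -1, -1, -1, -1, 0, 0], [0, 0, 1, 0, 0, 0, 0, 0, 0], [1, -1, 0, 0, -1, 0, 0, 0, 0], [1, -1, 0, -1, 0, 0, 0, 0, 0], [1, -1, 0, 0, 0, 0, -1, 0, 0], [1, -1, 0, 0, 0, -1, 0, 0, 0], [0, 0, 0, 0, 0, 0, 0, 1, 0], [0, 0, 0, 0, 0, 0, 0, 0, 1]]),
  ([5, 2, 3, 2, 2, 1, 1, 1, 1], [[3, -2, -1, -1, -1, 0, 0, 0, -1], [2, -1, -1, -1, -1, 0, 0, 0, -1], [1, -1, 0, 0, 0, 0, 0, 0, -1], [1, -1, 0, 0, -1, 0, 0, 0, 0], [1, -1, 0, -1, 0, 0, 0, 0, 0], [0, 0, 0, 0, 0, 1, 0, 0, 0], [0, 0, 0, 0, 0, 0, 1, 0, 0], [0, 0, 0, 0, 0, 0, 0, 1, 0], [1, -1, -1, 0, 0, 0, 0, 0, 0]]),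
  ([6, 3, 3, 2, 2, 2, 2, 1, 1], [[4, -3, -1, -1, -1, -1, -1, 0, -1], [3, -2, -1, -1, -1, -1, -1, 0, -1], [1, -1, 0, 0, 0, 0, 0, 0, -1], [1, -1, 0, 0, -1, 0, 0, 0, 0], [1, -1, 0, -1, 0, 0, 0, 0, 0], [1, -1, 0, 0, 0, 0, -1, 0, 0], [1, -1, 0, 0, 0, -1, 0, 0, 0], [0, 0, 0, 0, 0, 0, 0, 1, 0], [1, -1, -1, 0, 0, 0, 0, 0, 0]]),
  ([7, 4, 3, 2, 2, 2, 2, 2, 2], [[4, -3, -1, -1, -1, -1, -1, 0, -1], [3, -2, -1, -1, -1, -1, -1, 0, -1], [0, 0, 0, 0, 0, 0, 0, 1, 0], [1, -1, 0, 0, -1, 0, 0, 0, 0], [1, -1, 0, -1, 0, 0, 0, 0, 0], [1, -1, 0, 0, 0, 0, -1, 0, 0], [1, -1, 0, 0, 0, -1, 0, 0, 0], [1, -1, 0, 0, 0, 0, 0, 0, -1], [1, -1, -1, 0, 0, 0, 0, 0, 0]]),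
  ([4, 0, 2, 2, 2, 1, 1, 1, 1], [[1, 0, 0, 0, 0, 0, 0, 0, 0], [0, 1, 0, 0, 0, 0, 0, 0, 0], [0, 0, 1, 0, 0, 0, 0, 0, 0], [0, 0, 0, 1, 0, 0, 0, 0, 0], [0, 0, 0, 0, 1, 0, 0, 0, 0], [0, 0, 0, 0, 0, 1, 0, 0, 0], [0, 0, 0, 0, 0, 0, 1, 0, 0], [0, 0, 0, 0, 0, 0, 0, 1, 0], [0, 0, 0, 0, 0, 0, 0, 0, 1]]),
  ([5, 1, 3, 2, 2, 2, 1, 1, 1], [[2, -1, -1, 0, 0, -1, 0, 0, 0], [1, 0, -1, 0, 0, -1, 0, 0, 0], [1, -1, 0, 0, 0, -1, 0, 0, 0], [0, 0, 0, 1, 0, 0, 0, 0, 0], [0, 0, 0, 0, 1, 0, 0, 0, 0], [1, -1, -1, 0, 0, 0, 0, 0, 0], [0, 0, 0, 0, 0, 0, 1, 0, 0], [0, 0, 0, 0, 0, 0, 0, 1, 0], [0, 0, 0, 0, 0, 0, 0, 0, 1]]),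
  ([6, 2, 3, 3, 2, 2, 2, 1, 1], [[3, -2, -1, -1, 0, -1, -1, 0, 0], [2, -1, -1, -1, 0, -1, -1, 0, 0], [1, -1, 0, 0, 0, -1, 0, 0, 0], [1, -1, 0, 0, 0, 0, -1, 0, 0], [0, 0, 0, 0, 1, 0, 0, 0, 0], [1, -1, -1, 0, 0, 0, 0, 0, 0], [1, -1, 0, -1, 0, 0, 0, 0, 0], [0, 0, 0, 0, 0, 0, 0, 1, 0], [0, 0, 0, 0, 0, 0, 0, 0, 1]]),
  ([7, 3, 3, 3, 3, 2, 2, 2, 1], [[4, -3, -1, -1, -1, -1, -1, -1, 0], [3, -2, -1, -1, -1, -1, -1, -1, 0], [1, -1, 0, 0, 0, -1, 0, 0, 0], [1, -1, 0, 0, 0, 0, -1, 0, 0], [1, -1, 0, 0, 0, 0, 0, -1, 0], [1, -1, -1, 0, 0, 0, 0, 0, 0], [1, -1, 0, -1, 0, 0, 0, 0, 0], [1, -1, 0, 0, -1, 0, 0, 0, 0], [0, 0, 0, 0, 0, 0, 0, 0, 1]]),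
  ([8, 4, 3, 3, 3, 3, 2, 2, 2], [[4, -3, -1, -1, -1, -1, -1, -1, 0], [3, -2, -1, -1, -1, -1, -1, -1, 0], [0, 0, 0, 0, 0, 0, 0, 0, 1], [1, -1, 0, 0, 0, 0, -1, 0, 0], [1, -1, 0, 0, 0, 0, 0, -1, 0], [1, -1, -1, 0, 0, 0, 0, 0, 0], [1, -1, 0, -1, 0, 0, 0, 0, 0], [1, -1, 0, 0, -1, 0, 0, 0, 0], [1, -1, 0, 0, 0, -1, 0, 0, 0]]),
  ([5, 0, 2, 2, 2, 2, 2, 2, 1], [[1, 0, 0, 0, 0, 0, 0, 0, 0], [0, 1, 0, 0, 0, 0, 0, 0, 0], [0, 0, 1, 0, 0, 0, 0, 0, 0], [0, 0, 0, 1, 0, 0, 0, 0, 0], [0, 0, 0, 0, 1, 0, 0, 0, 0], [0, 0, 0, 0, 0, 1, 0, 0, 0], [0, 0, 0, 0, 0, 0, 1, 0, 0], [0, 0, 0, 0, 0, 0, 0, 1, 0], [0, 0, 0, 0, 0, 0, 0, 0, 1]]),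
  ([6, 1, 3, 3, 2, 2, 2, 2, 1], [[2, -1, -1, -1, 0, 0, 0, 0, 0], [1, 0, -1, -1, 0, 0, 0, 0, 0], [1, -1, 0, -1, 0, 0, 0, 0, 0], [1, -1, -1, 0, 0, 0, 0, 0, 0], [0, 0, 0, 0, 1, 0, 0, 0, 0], [0, 0, 0, 0, 0, 1, 0, 0, 0], [0, 0, 0, 0, 0, 0, 1, 0, 0], [0, 0, 0, 0, 0, 0, 0, 1, 0], [0, 0, 0, 0, 0, 0, 0, 0, 1]]),
  ([7, 2, 3, 3, 3, 3, 2, 2, 1], [[3, -2, -1, -1, -1, -1, 0, 0, 0], [2, -1, -1, -1, -1, -1, 0, 0, 0], [1, -1, 0, -1, 0, 0, 0, 0, 0], [1, -1, -1, 0, 0, 0, 0, 0, 0], [1, -1, 0, 0, 0, -1, 0, 0, 0], [1, -1, 0, 0, -1, 0, 0, 0, 0], [0, 0, 0, 0, 0, 0, 1, 0, 0], [0, 0, 0, 0, 0, 0, 0, 1, 0], [0, 0, 0, 0, 0, 0, 0, 0, 1]]),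
  ([7, 2, 4, 3, 2, 2, 2, 2, 2], [[2, -1, -1, -1, 0, 0, 0, 0, 0], [1, 0, -1, -1, 0, 0, 0, 0, 0], [1, -1, 0, -1, 0, 0, 0, 0, 0], [0, 0, 0, 0, 0, 0, 0, 0, 1], [0, 0, 0, 0, 1, 0, 0, 0, 0], [0, 0, 0, 0, 0, 1, 0, 0, 0], [0, 0, 0, 0, 0, 0, 1, 0, 0], [0, 0, 0, 0, 0, 0, 0, 1, 0], [1, -1, -1, 0, 0, 0, 0, 0, 0]]),
  ([8, 3, 3, 3, 3, 3, 3, 3, 1], [[4, -3, -1, -1, -1, -1, -1, -1, 0], [3, -2, -1, -1, -1, -1, -1, -1, 0], [1, -1, 0, -1, 0, 0, 0, 0, 0], [1, -1, -1, 0, 0, 0, 0, 0, 0], [1, -1, 0, 0, 0, -1, 0, 0, 0], [1, -1, 0, 0, -1, 0, 0, 0, 0], [1, -1, 0, 0, 0, 0, 0, -1, 0], [1, -1, 0, 0, 0, 0, -1, 0, 0], [0, 0, 0, 0, 0, 0, 0, 0, 1]]),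
  ([8, 3, 4, 3, 3, 3, 2, 2, 2], [[3, -2, -1, -1, -1, -1, 0, 0, 0], [2, -1, -1, -1, -1, -1, 0, 0, 0], [1, -1, 0, -1, 0, 0, 0, 0, 0], [0, 0, 0, 0, 0, 0, 0, 0, 1], [1, -1, 0, 0, 0, -1, 0, 0, 0], [1, -1, 0, 0, -1, 0, 0, 0, 0], [0, 0, 0, 0, 0, 0, 1, 0, 0], [0, 0, 0, 0, 0, 0, 0, 1, 0], [1, -1, -1, 0, 0, 0, 0, 0, 0]]),
  ([9, 4, 4, 3, 3, 3, 3, 3, 2], [[4, -3, -1, -1, -1, -1, -1, -1, 0], [3, -2, -1, -1, -1, -1, -1, -1, 0], [1, -1, 0, -1, 0, 0, 0, 0, 0], [0, 0, 0, 0, 0, 0, 0, 0, 1], [1, -1, 0, 0, 0, -1, 0, 0, 0], [1, -1, 0, 0, -1, 0, 0, 0, 0], [1, -1, 0, 0, 0, 0, 0, -1, 0], [1, -1, 0, 0, 0, 0, -1, 0, 0], [1, -1, -1, 0, 0, 0, 0, 0, 0]]),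
  ([5, 1, 2, 2, 2, 2, 2, 2, 0], [[1, 0, 0, 0, 0, 0, 0, 0, 0], [0, 1, 0, 0, 0, 0, 0, 0, 0], [0, 0, 1, 0, 0, 0, 0, 0, 0], [0, 0, 0, 1, 0, 0, 0, 0, 0], [0, 0, 0, 0, 1, 0, 0, 0, 0], [0, 0, 0, 0, 0, 1, 0, 0, 0], [0, 0, 0, 0, 0, 0, 1, 0, 0], [0, 0, 0, 0, 0, 0, 0, 1, 0], [0, 0, 0, 0, 0, 0, 0, 0, 1]]),
  ([7, 3, 4, 2, 2, 2, 2, 2, 2], [[2, -1, -1, 0, 0, 0, 0, 0, -1], [1, 0, -1, 0, 0, 0, 0, 0, -1], [1, -1, 0, 0, 0, 0, 0, 0, -1], [0, 0, 0, 1, 0, 0, 0, 0, 0], [0, 0, 0, 0, 1, 0, 0, 0, 0], [0, 0, 0, 0, 0, 1, 0, 0, 0], [0, 0, 0, 0, 0, 0, 1, 0, 0], [0, 0, 0, 0, 0, 0, 0, 1, 0], [1, -1, -1, 0, 0, 0, 0, 0, 0]]),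
  ([7, 1, 3, 3, 3, 3, 2, 2, 2], [[1, 0, 0, 0, 0, 0, 0, 0, 0], [0, 1, 0, 0, 0, 0, 0, 0, 0], [0, 0, 1, 0, 0, 0, 0, 0, 0], [0, 0, 0, 1, 0, 0, 0, 0, 0], [0, 0, 0, 0, 1, 0, 0, 0, 0], [0, 0, 0, 0, 0, 1, 0, 0, 0], [0, 0, 0, 0, 0, 0, 1, 0, 0], [0, 0, 0, 0, 0, 0, 0, 1, 0], [0, 0, 0, 0, 0, 0, 0, 0, 1]]),
  ([8, 2, 4, 3, 3, 3, 3, 2, 2], [[2, -1, -1, 0, 0, 0, -1, 0, 0], [1, 0, -1, 0, 0, 0, -1, 0, 0], [1, -1, 0, 0, 0, 0, -1, 0, 0], [0, 0, 0, 1, 0, 0, 0, 0, 0], [0, 0, 0, 0, 1, 0, 0, 0, 0], [0, 0, 0, 0, 0, 1, 0, 0, 0], [1, -1, -1, 0, 0, 0, 0, 0, 0], [0, 0, 0, 0, 0, 0, 0, 1, 0], [0, 0, 0, 0, 0, 0, 0, 0, 1]]),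
  ([9, 3, 4, 4, 3, 3, 3, 3, 2], [[3, -2, -1, -1, 0, 0, -1, -1, 0], [2, -1, -1, -1, 0, 0, -1, -1, 0], [1, -1, 0, 0, 0, 0, -1, 0, 0], [1, -1, 0, 0, 0, 0, 0, -1, 0], [0, 0, 0, 0, 1, 0, 0, 0, 0], [0, 0, 0, 0, 0, 1, 0, 0, 0], [1, -1, -1, 0, 0, 0, 0, 0, 0], [1, -1, 0, -1, 0, 0, 0, 0, 0], [0, 0, 0, 0, 0, 0, 0, 0, 1]]),
  ([10, 4, 4, 4, 4, 3, 3, 3, 3], [[4, -3, -1, -1, -1, 0, -1, -1, -1], [3, -2, -1, -1, -1, 0, -1, -1, -1], [1, -1, 0, 0, 0, 0, -1, 0, 0], [1, -1, 0, 0, 0, 0, 0, -1, 0], [1, -1, 0, 0, 0, 0, 0, 0, -1], [0, 0, 0, 0, 0, 1, 0, 0, 0], [1, -1, -1, 0, 0, 0, 0, 0, 0], [1, -1, 0, -1, 0, 0, 0, 0, 0], [1, -1, 0, 0, -1, 0, 0, 0, 0]]),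
  ([8, 1, 3, 3, 3, 3, 3, 3, 3], [[1, 0, 0, 0, 0, 0, 0, 0, 0], [0, 1, 0, 0, 0, 0, 0, 0, 0], [0, 0, 1, 0, 0, 0, 0, 0, 0], [0, 0, 0, 1, 0, 0, 0, 0, 0], [0, 0, 0, 0, 1, 0, 0, 0, 0], [0, 0, 0, 0, 0, 1, 0, 0, 0], [0, 0, 0, 0, 0, 0, 1, 0, 0], [0, 0, 0, 0, 0, 0, 0, 1, 0], [0, 0, 0, 0, 0, 0, 0, 0, 1]]),
  ([9, 2, 4, 4, 3, 3, 3, 3, 3], [[2, -1, -1, -1, 0, 0, 0, 0, 0], [1, 0, -1, -1, 0, 0, 0, 0, 0], [1, -1, 0, -1, 0, 0, 0, 0, 0], [1, -1, -1, 0, 0, 0, 0, 0, 0], [0, 0, 0, 0, 1, 0, 0, 0, 0], [0, 0, 0, 0, 0, 1, 0, 0, 0], [0, 0, 0, 0, 0, 0, 1, 0, 0], [0, 0, 0, 0, 0, 0, 0, 1, 0], [0, 0, 0, 0, 0, 0, 0, 0, 1]]),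
  ([10, 3, 4, 4, 4, 4, 3, 3, 3], [[3, -2, -1, -1, -1, -1, 0, 0, 0], [2, -1, -1, -1, -1, -1, 0, 0, 0], [1, -1, 0, -1, 0, 0, 0, 0, 0], [1, -1, -1, 0, 0, 0, 0, 0, 0], [1, -1, 0, 0, 0, -1, 0, 0, 0], [1, -1, 0, 0, -1, 0, 0, 0, 0], [0, 0, 0, 0, 0, 0, 1, 0, 0], [0, 0, 0, 0, 0, 0, 0, 1, 0], [0, 0, 0, 0, 0, 0, 0, 0, 1]]),
  ([11, 4, 4, 4, 4, 4, 4, 4, 3], [[4, -3, -1, -1, -1, -1, -1, -1, 0], [3, -2, -1, -1, -1, -1, -1, -1, 0], [1, -1, 0, -1, 0, 0, 0, 0, 0], [1, -1, -1, 0, 0, 0, 0, 0, 0], [1, -1, 0, 0, 0, -1, 0, 0, 0], [1, -1, 0, 0, -1, 0, 0, 0, 0], [1, -1, 0, 0, 0, 0, 0, -1, 0], [1, -1, 0, 0, 0, 0, -1, 0, 0], [0, 0, 0, 0, 0, 0, 0, 0, 1]]),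
  ([11, 3, 4, 4, 4, 4, 4, 4, 4], [[1, 0, 0, 0, 0, 0, 0, 0, 0], [0, 1, 0, 0, 0, 0, 0, 0, 0], [0, 0, 1, 0, 0, 0, 0, 0, 0], [0, 0, 0, 1, 0, 0, 0, 0, 0], [0, 0, 0, 0, 1, 0, 0, 0, 0], [0, 0, 0, 0, 0, 1, 0, 0, 0], [0, 0, 0, 0, 0, 0, 1, 0, 0], [0, 0, 0, 0, 0, 0, 0, 1, 0], [0, 0, 0, 0, 0, 0, 0, 0, 1]])]

/-- the second orbit representative for `k = 4`, `δ = 8`. -/
def q2 : DP 8 := ![4, 0, 2, 2, 2, 1, 1, 1, 1]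

/-- orbit representatives of the stabiliser of `Q0_8` on conic classes. -/
def R_8 (k : ℤ) : DP 8 :=
  if k = 0 then ![1, 1, 0, 0, 0, 0, 0, 0, 0]
  else if k = 1 then ![1, 0, 1, 0, 0, 0, 0, 0, 0]
  else if k = 2 then ![2, 0, 1, 1, 1, 1, 0, 0, 0]
  else if k = 3 then ![3, 0, 2, 1, 1, 1, 1, 1, 0]
  else if k = 4 then ![5, 1, 2, 2, 2, 2, 2, 2, 0]
  else if k = 5 then ![5, 0, 2, 2, 2, 2, 2, 2, 1]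
  else if k = 6 then ![7, 1, 3, 3, 3, 3, 2, 2, 2]
  else if k = 7 then ![8, 1, 3, 3, 3, 3, 3, 3, 3]
  else ![11, 3, 4, 4, 4, 4, 4, 4, 4]

set_option maxRecDepth 100000 in
theorem chkA_8 : ∀ l ∈ solsG true 8 0 (-2), ∃ p ∈ tabA_8, p.1 = l ∧ IsWeylMat (matL 8 p.2) ∧
    matL 8 p.2 *ᵥ vecL 8 l = Q0_8 := by decide +kernel

set_option maxRecDepth 100000 in
theorem chkB_8 : ∀ l ∈ sols2G 7 0 (-2), ∃ p ∈ tabB_8, p.1 = l ∧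
    IsWeylMat (matL (7 + 1) p.2) ∧ matL (7 + 1) p.2 *ᵥ Q0_8 = Q0_8 ∧
    (fun (k : ℤ) (u : DP (7 + 1)) => u = R_8 k ∨ (k = 4 ∧ u = q2)) (form Q0_8 (vecL (7 + 1) l))
      (matL (7 + 1) p.2 *ᵥ vecL (7 + 1) l) := by decide +kernel

theorem transCon_8 (v : DP 8) (hv : IsConic v) :
    ∃ g : DP 8 ≃ₗ[ℤ] DP 8, IsWeyl g ∧ g v = Q0_8 :=
  trans_of_table (by norm_num) adm_conic Q0_8 tabA_8 chkA_8 v hv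

theorem stabCon_8 (v : DP 8) (hv : IsConic v) :
    ∃ s : DP 8 ≃ₗ[ℤ] DP 8, IsWeyl s ∧ s Q0_8 = Q0_8 ∧
      (s v = R_8 (form Q0_8 v) ∨ (form Q0_8 v = 4 ∧ s v = q2)) :=
  stab_of_table (δ' := 7) (by norm_num) adm_conic Q0_8 (by decide)
    (fun (k : ℤ) (u : DP (7 + 1)) => u = R_8 k ∨ (k = 4 ∧ u = q2)) tabB_8 chkB_8 v hv

end Groth.Agent.Helper7.DPCon
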