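import Mathlib
import Groth.Agent.Helper7.DPCon

set_option maxSynthPendingDepth 3
set_option linter.style.haveILetI false

/-! Orbits of the Weyl groups on ordered pairs of conic classes. -/

namespace Groth.Agent.Helper7.DPConMain

open W4c3severiratdp Matrix Groth.Agent.Helper7.ConicEnum Groth.Agent.Helper7.DPLat
  Groth.Agent.Helper7.DPTab Groth.Agent.Helper7.DPCon

theorem pair_orbit {δ : ℕ} (Q0 : DP δ) (R : ℤ → DP δ) (Good : ℤ → Prop)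
    (hA : ∀ v : DP δ, IsConic v → ∃ g : DP δ ≃ₗ[ℤ] DP δ, IsWeyl g ∧ g v = Q0)
    (hB : ∀ v : DP δ, IsConic v → ∃ s : DP δ ≃ₗ[ℤ] DP δ, IsWeyl s ∧ s Q0 = Q0 ∧
      (Good (form Q0 v) → s v = R (form Q0 v)))
    (v₁ v₂ w₁ w₂ : DP δ) (hv₁ : IsConic v₁) (hv₂ : IsConic v₂) (hw₁ : IsConic w₁)
    (hw₂ : IsConic w₂) (heq : form v₁ v₂ = form w₁ w₂) (hg : Good (form v₁ v₂)) :
    ∃ g : DP δ ≃ₗ[ℤ] DP δ, IsWeyl g ∧ g v₁ = w₁ ∧ g v₂ = w₂ := by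
  obtain ⟨t1, ht1, ht1v⟩ := hA v₁ hv₁
  obtain ⟨t2, ht2, ht2w⟩ := hA w₁ hw₁
  obtain ⟨s1, hs1, hs1Q, hs1v⟩ := hB (t1 v₂) (IsWeyl.isConic ht1 hv₂)
  obtain ⟨s2, hs2, hs2Q, hs2w⟩ := hB (t2 w₂) (IsWeyl.isConic ht2 hw₂)
  have hk1 : form Q0 (t1 v₂) = form v₁ v₂ := by rw [← ht1v, ht1.1]
  have hk2 : form Q0 (t2 w₂) = form v₁ v₂ := by rw [← ht2w, ht2.1, heq]
  rw [hk1] at hs1v
  rw [hk2] at hs2w
  have e1 := hs1v hg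
  have e2 := hs2w hg
  refine ⟨(t1.trans s1).trans (t2.trans s2).symm,
    IsWeyl.trans (IsWeyl.trans ht1 hs1) (IsWeyl.symm (IsWeyl.trans ht2 hs2)), ?_, ?_⟩
  · rw [LinearEquiv.trans_apply, LinearEquiv.symm_apply_eq]
    simp only [LinearEquiv.trans_apply]
    rw [ht1v, hs1Q, ht2w, hs2Q]
  · rw [LinearEquiv.trans_apply, LinearEquiv.symm_apply_eq]
    simp only [LinearEquiv.trans_apply]
    rw [e1, e2]

theorem main_15907 (δ : ℕ) (h2 : 2 ≤ δ) (h8 : δ ≤ 8)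
    (v₁ v₂ w₁ w₂ : DP δ) (hv₁ : IsConic v₁) (hv₂ : IsConic v₂) (hw₁ : IsConic w₁)
    (hw₂ : IsConic w₂) (heq : form v₁ v₂ = form w₁ w₂)
    (hexc : ¬ (δ = 8 ∧ form v₁ v₂ = 4)) :
    ∃ g : DP δ ≃ₗ[ℤ] DP δ, IsWeyl g ∧ g v₁ = w₁ ∧ g v₂ = w₂ := by
  interval_cases δ
  · exact pair_orbit Q0_2 R_2 (fun _ => True) transCon_2 (fun v hv => by
      obtain ⟨s, h1, h2, h3⟩ := stabCon_2 v hv
      exact ⟨s, h1, h2, fun _ => h3⟩) v₁ v₂ w₁ w₂ hv₁ hv₂ hw₁ hw₂ heq trivial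
  · exact pair_orbit Q0_3 R_3 (fun _ => True) transCon_3 (fun v hv => by
      obtain ⟨s, h1, h2, h3⟩ := stabCon_3 v hv
      exact ⟨s, h1, h2, fun _ => h3⟩) v₁ v₂ w₁ w₂ hv₁ hv₂ hw₁ hw₂ heq trivial
  · exact pair_orbit Q0_4 R_4 (fun _ => True) transCon_4 (fun v hv => by
      obtain ⟨s, h1, h2, h3⟩ := stabCon_4 v hv
      exact ⟨s, h1, h2, fun _ => h3⟩) v₁ v₂ w₁ w₂ hv₁ hv₂ hw₁ hw₂ heq trivial
  · exact pair_orbit Q0_5 R_5 (fun _ => True) transCon_5 (fun v hv => by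
      obtain ⟨s, h1, h2, h3⟩ := stabCon_5 v hv
      exact ⟨s, h1, h2, fun _ => h3⟩) v₁ v₂ w₁ w₂ hv₁ hv₂ hw₁ hw₂ heq trivial
  · exact pair_orbit Q0_6 R_6 (fun _ => True) transCon_6 (fun v hv => by
      obtain ⟨s, h1, h2, h3⟩ := stabCon_6 v hv
      exact ⟨s, h1, h2, fun _ => h3⟩) v₁ v₂ w₁ w₂ hv₁ hv₂ hw₁ hw₂ heq trivial
  · exact pair_orbit Q0_7 R_7 (fun _ => True) transCon_7 (fun v hv => by
      obtain ⟨s, h1, h2, h3⟩ := stabCon_7 v hv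
      exact ⟨s, h1, h2, fun _ => h3⟩) v₁ v₂ w₁ w₂ hv₁ hv₂ hw₁ hw₂ heq trivial
  · exact pair_orbit Q0_8 R_8 (fun k => k ≠ 4) transCon_8 (fun v hv => by
      obtain ⟨s, h1, h2, h3⟩ := stabCon_8 v hv
      exact ⟨s, h1, h2, fun hk => h3.resolve_right (fun h => hk h.1)⟩)
      v₁ v₂ w₁ w₂ hv₁ hv₂ hw₁ hw₂ heq (fun h => hexc ⟨rfl, h⟩)

/-- the first orbit representative for `k = 4`, `δ = 8`. -/
def p2 : DP 8 := ![5, 1, 2, 2, 2, 2, 2, 2, 0]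

lemma R_8_four : R_8 4 = p2 := by
  unfold R_8 p2
  norm_num

lemma isConic_of_list {δ : ℕ} (v : DP δ) (h : ConicEnum.sq (List.ofFn fun i : Fin δ => v i.succ) = v 0 * v 0 - 0 ∧
      (List.ofFn fun i : Fin δ => v i.succ).sum = 3 * v 0 + -2) : IsConic v :=
  (isCls_iff 0 (-2) v).2 h

theorem main_15908 :
    ∃ p₁ p₂ q₁ q₂ : DP 8, IsConic p₁ ∧ IsConic p₂ ∧ IsConic q₁ ∧ IsConic q₂ ∧
      form p₁ p₂ = 4 ∧ form q₁ q₂ = 4 ∧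
      (¬ ∃ g : DP 8 ≃ₗ[ℤ] DP 8, IsWeyl g ∧ g p₁ = q₁ ∧ g p₂ = q₂) ∧
      ∀ v₁ v₂ : DP 8, IsConic v₁ → IsConic v₂ → form v₁ v₂ = 4 →
        ∃ g : DP 8 ≃ₗ[ℤ] DP 8, IsWeyl g ∧
          ((g v₁ = p₁ ∧ g v₂ = p₂) ∨ (g v₁ = q₁ ∧ g v₂ = q₂)) := by
  refine ⟨Q0_8, p2, Q0_8, q2, ?_, ?_, ?_, ?_, ?_, ?_, ?_, ?_⟩
  · exact isConic_of_list _ (by decide)
  · exact isConic_of_list _ (by decide)
  · exact isConic_of_list _ (by decide)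
  · exact isConic_of_list _ (by decide)
  · decide
  · decide
  · rintro ⟨g, -, h1, h2⟩
    have h3 : g (p2 - Q0_8) = q2 - Q0_8 := by rw [map_sub, h1, h2]
    have h4 : p2 - Q0_8 = (2 : ℤ) • (![2, 0, 1, 1, 1, 1, 1, 1, 0] : DP 8) := by
      decide
    rw [h4, map_smul] at h3
    have h5 := congrFun h3 0
    simp only [Pi.smul_apply, smul_eq_mul, Pi.sub_apply] at h5
    have h6 : q2 0 - Q0_8 0 = 3 := by decide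
    omega
  · intro v₁ v₂ hv₁ hv₂ h
    obtain ⟨t, ht, htv⟩ := transCon_8 v₁ hv₁
    obtain ⟨s, hs, hsQ, hsv⟩ := stabCon_8 (t v₂) (IsWeyl.isConic ht hv₂)
    have hk : form Q0_8 (t v₂) = 4 := by rw [← htv, ht.1, h]
    rw [hk, R_8_four] at hsv
    refine ⟨t.trans s, IsWeyl.trans ht hs, ?_⟩
    simp only [LinearEquiv.trans_apply]
    rw [htv, hsQ]
    rcases hsv with h1 | ⟨-, h1⟩
    · exact Or.inl ⟨rfl, h1⟩
    · exact Or.inr ⟨rfl, h1⟩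

end Groth.Agent.Helper7.DPConMain
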