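import Mathlib
import Groth.Agent.Helper7.DPTab

set_option maxSynthPendingDepth 3
set_option linter.style.haveILetI false

/-! Certificate tables for exceptional classes in `DP 8` (generated). -/

namespace Groth.Agent.Helper7.DPExc8

open W4c3severiratdp Matrix Groth.Agent.Helper7.ConicEnum Groth.Agent.Helper7.DPLat
  Groth.Agent.Helper7.DPTab

/-- the base exceptional class `e₁`. -/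
def L0 : DP 8 := ![0, -1, 0, 0, 0, 0, 0, 0, 0]

def tabA : List (List ℤ × List (List ℤ)) := [
  ([0, 0, 0, 0, 0, 0, 0, 0, -1], [[1, 0, 0, 0, 0, 0, 0, 0, 0], [0, 0, 0, 0, 0, 0, 0, 0, 1], [0, 1, 0, 0, 0, 0, 0, 0, 0], [0, 0, 1, 0, 0, 0, 0, 0, 0], [0, 0, 0, 1, 0, 0, 0, 0, 0], [0, 0, 0, 0, 1, 0, 0, 0, 0], [0, 0, 0, 0, 0, 1, 0, 0, 0], [0, 0, 0, 0, 0, 0, 1, 0, 0], [0, 0, 0, 0, 0, 0, 0, 1, 0]]),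
  ([1, 1, 1, 0, 0, 0, 0, 0, 0], [[2, -1, -1, -1, 0, 0, 0, 0, 0], [1, -1, -1, 0, 0, 0, 0, 0, 0], [1, 0, -1, -1, 0, 0, 0, 0, 0], [1, -1, 0, -1, 0, 0, 0, 0, 0], [0, 0, 0, 0, 1, 0, 0, 0, 0], [0, 0, 0, 0, 0, 1, 0, 0, 0], [0, 0, 0, 0, 0, 0, 1, 0, 0], [0, 0, 0, 0, 0, 0, 0, 1, 0], [0, 0, 0, 0, 0, 0, 0, 0, 1]]),
  ([2, 1, 1, 1, 1, 1, 0, 0, 0], [[3, -2, -1, -1, -1, -1, 0, 0, 0], [2, -1, -1, -1, -1, -1, 0, 0, 0], [1, -1, 0, 0, 0, -1, 0, 0, 0], [1, -1, 0, 0, -1, 0, 0, 0, 0], [1, -1, 0, -1, 0, 0, 0, 0, 0], [1, -1, -1, 0, 0, 0, 0, 0, 0], [0, 0, 0, 0, 0, 0, 1, 0, 0], [0, 0, 0, 0, 0, 0, 0, 1, 0], [0, 0, 0, 0, 0, 0, 0, 0, 1]]),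
  ([3, 2, 1, 1, 1, 1, 1, 1, 0], [[4, -3, -1, -1, -1, -1, -1, -1, 0], [3, -2, -1, -1, -1, -1, -1, -1, 0], [1, -1, 0, 0, 0, 0, 0, -1, 0], [1, -1, 0, 0, 0, 0, -1, 0, 0], [1, -1, 0, 0, 0, -1, 0, 0, 0], [1, -1, 0, 0, -1, 0, 0, 0, 0], [1, -1, 0, -1, 0, 0, 0, 0, 0], [1, -1, -1, 0, 0, 0, 0, 0, 0], [0, 0, 0, 0, 0, 0, 0, 0, 1]]),
  ([4, 2, 2, 2, 1, 1, 1, 1, 1], [[6, -3, -3, -3, -2, -1, -1, -1, -1], [4, -2, -2, -2, -1, -1, -1, -1, -1], [2, -1, -1, -1, -1, 0, 0, 0, -1], [2, -1, -1, -1, -1, 0, 0, -1, 0], [2, -1, -1, -1, -1, 0, -1, 0, 0], [2, -1, -1, -1, -1, -1, 0, 0, 0], [1, 0, -1, -1, 0, 0, 0, 0, 0], [1, -1, 0, -1, 0, 0, 0, 0, 0], [1, -1, -1, 0, 0, 0, 0, 0, 0]]),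
  ([5, 2, 2, 2, 2, 2, 2, 1, 1], [[8, -4, -3, -3, -3, -3, -3, -1, -1], [5, -2, -2, -2, -2, -2, -2, -1, -1], [3, -2, -1, -1, -1, -1, -1, 0, -1], [3, -2, -1, -1, -1, -1, -1, -1, 0], [2, -1, 0, -1, -1, -1, -1, 0, 0], [2, -1, -1, 0, -1, -1, -1, 0, 0], [2, -1, -1, -1, 0, -1, -1, 0, 0], [2, -1, -1, -1, -1, 0, -1, 0, 0], [2, -1, -1, -1, -1, -1, 0, 0, 0]]),
  ([6, 3, 2, 2, 2, 2, 2, 2, 2], [[10, -6, -3, -3, -3, -3, -3, -3, -3], [6, -3, -2, -2, -2, -2, -2, -2, -2], [3, -2, 0, -1, -1, -1, -1, -1, -1], [3, -2, -1, 0, -1, -1, -1, -1, -1], [3, -2, -1, -1, 0, -1, -1, -1, -1], [3, -2, -1, -1, -1, 0, -1, -1, -1], [3, -2, -1, -1, -1, -1, 0, -1, -1], [3, -2, -1, -1, -1, -1, -1, 0, -1], [3, -2, -1, -1, -1, -1, -1, -1, 0]])]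

def tabB : List (List ℤ × List (List ℤ)) := [
  ([0, -1, 0, 0, 0, 0, 0, 0, 0], [[1, 0, 0, 0, 0, 0, 0, 0, 0], [0, 1, 0, 0, 0, 0, 0, 0, 0], [0, 0, 1, 0, 0, 0, 0, 0, 0], [0, 0, 0, 1, 0, 0, 0, 0, 0], [0, 0, 0, 0, 1, 0, 0, 0, 0], [0, 0, 0, 0, 0, 1, 0, 0, 0], [0, 0, 0, 0, 0, 0, 1, 0, 0], [0, 0, 0, 0, 0, 0, 0, 1, 0], [0, 0, 0, 0, 0, 0, 0, 0, 1]]),
  ([0, 0, 0, 0, 0, 0, 0, 0, -1], [[1, 0, 0, 0, 0, 0, 0, 0, 0], [0, 1, 0, 0, 0, 0, 0, 0, 0], [0, 0, 1, 0, 0, 0, 0, 0, 0], [0, 0, 0, 1, 0, 0, 0, 0, 0], [0, 0, 0, 0, 1, 0, 0, 0, 0], [0, 0, 0, 0, 0, 1, 0, 0, 0], [0, 0, 0, 0, 0, 0, 1, 0, 0], [0, 0, 0, 0, 0, 0, 0, 1, 0], [0, 0, 0, 0, 0, 0, 0, 0, 1]]),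
  ([1, 0, 1, 1, 0, 0, 0, 0, 0], [[2, 0, -1, -1, 0, 0, 0, 0, -1], [0, 1, 0, 0, 0, 0, 0, 0, 0], [1, 0, 0, -1, 0, 0, 0, 0, -1], [1, 0, -1, 0, 0, 0, 0, 0, -1], [0, 0, 0, 0, 1, 0, 0, 0, 0], [0, 0, 0, 0, 0, 1, 0, 0, 0], [0, 0, 0, 0, 0, 0, 1, 0, 0], [0, 0, 0, 0, 0, 0, 0, 1, 0], [1, 0, -1, -1, 0, 0, 0, 0, 0]]),
  ([2, 0, 1, 1, 1, 1, 1, 0, 0], [[5, 0, -2, -2, -2, -2, -2, 0, -2], [0, 1, 0, 0, 0, 0, 0, 0, 0], [2, 0, 0, -1, -1, -1, -1, 0, -1], [2, 0, -1, 0, -1, -1, -1, 0, -1], [2, 0, -1, -1, 0, -1, -1, 0, -1], [2, 0, -1, -1, -1, 0, -1, 0, -1], [2, 0, -1, -1, -1, -1, 0, 0, -1], [0, 0, 0, 0, 0, 0, 0, 1, 0], [2, 0, -1, -1, -1, -1, -1, 0, 0]]),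
  ([3, 0, 2, 1, 1, 1, 1, 1, 1], [[6, 0, -3, -2, -2, -2, -2, -1, -3], [0, 1, 0, 0, 0, 0, 0, 0, 0], [3, 0, -1, -1, -1, -1, -1, -1, -2], [2, 0, -1, 0, -1, -1, -1, 0, -1], [2, 0, -1, -1, 0, -1, -1, 0, -1], [2, 0, -1, -1, -1, 0, -1, 0, -1], [2, 0, -1, -1, -1, -1, 0, 0, -1], [1, 0, -1, 0, 0, 0, 0, 0, -1], [3, 0, -2, -1, -1, -1, -1, -1, -1]]),
  ([1, 1, 1, 0, 0, 0, 0, 0, 0], [[1, 0, 0, 0, 0, 0, 0, 0, 0], [0, 1, 0, 0, 0, 0, 0, 0, 0], [0, 0, 1, 0, 0, 0, 0, 0, 0], [0, 0, 0, 1, 0, 0, 0, 0, 0], [0, 0, 0, 0, 1, 0, 0, 0, 0], [0, 0, 0, 0, 0, 1, 0, 0, 0], [0, 0, 0, 0, 0, 0, 1, 0, 0], [0, 0, 0, 0, 0, 0, 0, 1, 0], [0, 0, 0, 0, 0, 0, 0, 0, 1]]),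
  ([2, 1, 1, 1, 1, 1, 0, 0, 0], [[2, 0, 0, -1, -1, -1, 0, 0, 0], [0, 1, 0, 0, 0, 0, 0, 0, 0], [0, 0, 1, 0, 0, 0, 0, 0, 0], [1, 0, 0, 0, -1, -1, 0, 0, 0], [1, 0, 0, -1, 0, -1, 0, 0, 0], [1, 0, 0, -1, -1, 0, 0, 0, 0], [0, 0, 0, 0, 0, 0, 1, 0, 0], [0, 0, 0, 0, 0, 0, 0, 1, 0], [0, 0, 0, 0, 0, 0, 0, 0, 1]]),
  ([3, 1, 2, 1, 1, 1, 1, 1, 0], [[5, 0, -2, -2, -2, -2, -2, -2, 0], [0, 1, 0, 0, 0, 0, 0, 0, 0], [2, 0, 0, -1, -1, -1, -1, -1, 0], [2, 0, -1, 0, -1, -1, -1, -1, 0], [2, 0, -1, -1, 0, -1, -1, -1, 0], [2, 0, -1, -1, -1, 0, -1, -1, 0], [2, 0, -1, -1, -1, -1, 0, -1, 0], [2, 0, -1, -1, -1, -1, -1, 0, 0], [0, 0, 0, 0, 0, 0, 0, 0, 1]]),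
  ([4, 1, 2, 2, 2, 1, 1, 1, 1], [[6, 0, -2, -3, -3, -2, -2, -2, -1], [0, 1, 0, 0, 0, 0, 0, 0, 0], [2, 0, 0, -1, -1, -1, -1, -1, 0], [3, 0, -1, -1, -2, -1, -1, -1, -1], [3, 0, -1, -2, -1, -1, -1, -1, -1], [2, 0, -1, -1, -1, 0, -1, -1, 0], [2, 0, -1, -1, -1, -1, 0, -1, 0], [2, 0, -1, -1, -1, -1, -1, 0, 0], [1, 0, 0, -1, -1, 0, 0, 0, 0]]),
  ([5, 1, 2, 2, 2, 2, 2, 2, 1], [[5, 0, -2, -2, -2, -2, -2, -2, 0], [0, 1, 0, 0, 0, 0, 0, 0, 0], [0, 0, 0, 0, 0, 0, 0, 0, 1], [2, 0, -1, 0, -1, -1, -1, -1, 0], [2, 0, -1, -1, 0, -1, -1, -1, 0], [2, 0, -1, -1, -1, 0, -1, -1, 0], [2, 0, -1, -1, -1, -1, 0, -1, 0], [2, 0, -1, -1, -1, -1, -1, 0, 0], [2, 0, 0, -1, -1, -1, -1, -1, 0]]),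
  ([3, 2, 1, 1, 1, 1, 1, 1, 0], [[1, 0, 0, 0, 0, 0, 0, 0, 0], [0, 1, 0, 0, 0, 0, 0, 0, 0], [0, 0, 1, 0, 0, 0, 0, 0, 0], [0, 0, 0, 1, 0, 0, 0, 0, 0], [0, 0, 0, 0, 1, 0, 0, 0, 0], [0, 0, 0, 0, 0, 1, 0, 0, 0], [0, 0, 0, 0, 0, 0, 1, 0, 0], [0, 0, 0, 0, 0, 0, 0, 1, 0], [0, 0, 0, 0, 0, 0, 0, 0, 1]]),
  ([4, 2, 2, 2, 1, 1, 1, 1, 1], [[2, 0, -1, -1, 0, 0, 0, 0, -1], [0, 1, 0, 0, 0, 0, 0, 0, 0], [1, 0, 0, -1, 0, 0, 0, 0, -1], [1, 0, -1, 0, 0, 0, 0, 0, -1], [0, 0, 0, 0, 1, 0, 0, 0, 0], [0, 0, 0, 0, 0, 1, 0, 0, 0], [0, 0, 0, 0, 0, 0, 1, 0, 0], [0, 0, 0, 0, 0, 0, 0, 1, 0], [1, 0, -1, -1, 0, 0, 0, 0, 0]]),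
  ([5, 2, 2, 2, 2, 2, 2, 1, 1], [[5, 0, -2, -2, -2, -2, -2, 0, -2], [0, 1, 0, 0, 0, 0, 0, 0, 0], [2, 0, 0, -1, -1, -1, -1, 0, -1], [2, 0, -1, 0, -1, -1, -1, 0, -1], [2, 0, -1, -1, 0, -1, -1, 0, -1], [2, 0, -1, -1, -1, 0, -1, 0, -1], [2, 0, -1, -1, -1, -1, 0, 0, -1], [0, 0, 0, 0, 0, 0, 0, 1, 0], [2, 0, -1, -1, -1, -1, -1, 0, 0]]),
  ([6, 2, 3, 2, 2, 2, 2, 2, 2], [[6, 0, -3, -2, -2, -2, -2, -1, -3], [0, 1, 0, 0, 0, 0, 0, 0, 0], [3, 0, -1, -1, -1, -1, -1, -1, -2], [2, 0, -1, 0, -1, -1, -1, 0, -1], [2, 0, -1, -1, 0, -1, -1, 0, -1], [2, 0, -1, -1, -1, 0, -1, 0, -1], [2, 0, -1, -1, -1, -1, 0, 0, -1], [1, 0, -1, 0, 0, 0, 0, 0, -1], [3, 0, -2, -1, -1, -1, -1, -1, -1]]),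
  ([6, 3, 2, 2, 2, 2, 2, 2, 2], [[1, 0, 0, 0, 0, 0, 0, 0, 0], [0, 1, 0, 0, 0, 0, 0, 0, 0], [0, 0, 1, 0, 0, 0, 0, 0, 0], [0, 0, 0, 1, 0, 0, 0, 0, 0], [0, 0, 0, 0, 1, 0, 0, 0, 0], [0, 0, 0, 0, 0, 1, 0, 0, 0], [0, 0, 0, 0, 0, 0, 1, 0, 0], [0, 0, 0, 0, 0, 0, 0, 1, 0], [0, 0, 0, 0, 0, 0, 0, 0, 1]])]

/-- representatives of the orbits of the stabiliser of `L0` on exceptional classes. -/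
def Rexc (k : ℤ) : DP 8 :=
  if k = -1 then ![0, -1, 0, 0, 0, 0, 0, 0, 0]
  else if k = 0 then ![0, 0, 0, 0, 0, 0, 0, 0, -1]
  else if k = 1 then ![1, 1, 1, 0, 0, 0, 0, 0, 0]
  else if k = 2 then ![3, 2, 1, 1, 1, 1, 1, 1, 0]
  else ![6, 3, 2, 2, 2, 2, 2, 2, 2]

set_option maxRecDepth 100000 in
theorem chkA : ∀ l ∈ solsG true 8 (-1) (-1), ∃ p ∈ tabA, p.1 = l ∧ IsWeylMat (matL 8 p.2) ∧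
    matL 8 p.2 *ᵥ vecL 8 l = L0 := by decide +kernel

set_option maxRecDepth 100000 in
theorem chkB : ∀ l ∈ sols2G 7 (-1) (-1), ∃ p ∈ tabB, p.1 = l ∧ IsWeylMat (matL (7 + 1) p.2) ∧
    matL (7 + 1) p.2 *ᵥ L0 = L0 ∧
    (fun (k : ℤ) (u : DP (7 + 1)) => u = Rexc k) (form L0 (vecL (7 + 1) l))
      (matL (7 + 1) p.2 *ᵥ vecL (7 + 1) l) := by decide +kernel

theorem transExc (v : DP 8) (hv : IsExc v) :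
    ∃ g : DP 8 ≃ₗ[ℤ] DP 8, IsWeyl g ∧ g v = L0 :=
  trans_of_table (le_refl 8) adm_exc L0 tabA chkA v hv

theorem stabExc (v : DP 8) (hv : IsExc v) :
    ∃ s : DP 8 ≃ₗ[ℤ] DP 8, IsWeyl s ∧ s L0 = L0 ∧ s v = Rexc (form L0 v) :=
  stab_of_table (δ' := 7) (by norm_num) adm_exc L0 (by decide)
    (fun (k : ℤ) (u : DP (7 + 1)) => u = Rexc k) tabB chkB v hv

theorem main_15909 (L L₁ L₂ : DP 8) (hL : IsExc L) (hL₁ : IsExc L₁) (hL₂ : IsExc L₂)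
    (h : form L₁ L = form L₂ L) :
    ∃ g : DP 8 ≃ₗ[ℤ] DP 8, IsWeyl g ∧ g L = L ∧ g L₁ = L₂ := by
  obtain ⟨t, ht, htL⟩ := transExc L hL
  obtain ⟨s1, hs1, hs1L, hs1v⟩ := stabExc (t L₁) (IsWeyl.isExc ht hL₁)
  obtain ⟨s2, hs2, hs2L, hs2v⟩ := stabExc (t L₂) (IsWeyl.isExc ht hL₂)
  have hk : form L0 (t L₁) = form L0 (t L₂) := by
    rw [← htL, ht.1, ht.1, form_comm L L₁, form_comm L L₂, h]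
  rw [hk] at hs1v
  refine ⟨t.trans (s1.trans (s2.symm.trans t.symm)),
    IsWeyl.trans ht (IsWeyl.trans hs1 (IsWeyl.trans (IsWeyl.symm hs2) (IsWeyl.symm ht))), ?_, ?_⟩
  · simp only [LinearEquiv.trans_apply]
    rw [htL, hs1L, (LinearEquiv.symm_apply_eq s2).2 hs2L.symm,
      (LinearEquiv.symm_apply_eq t).2 htL.symm]
  · simp only [LinearEquiv.trans_apply]
    rw [hs1v, ← hs2v, LinearEquiv.symm_apply_apply, LinearEquiv.symm_apply_apply]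

end Groth.Agent.Helper7.DPExc8
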