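import Mathlib
import Groth.Agent.Helper7.DPExc8

set_option maxSynthPendingDepth 3
set_option linter.style.haveILetI false

/-! Orbits of the stabiliser of an exceptional class on triples of exceptional classes with
sum `L - 2K` in `DP 8`. -/

namespace Groth.Agent.Helper7.DPExcTri

open W4c3severiratdp Matrix Groth.Agent.Helper7.ConicEnum Groth.Agent.Helper7.DPLat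
  Groth.Agent.Helper7.DPTab Groth.Agent.Helper7.DPExc8

/-- `ℓ - e₁ - e₂`. -/
def R1 : DP 8 := ![1, 1, 1, 0, 0, 0, 0, 0, 0]
/-- `e₈`. -/
def E8 : DP 8 := ![0, 0, 0, 0, 0, 0, 0, 0, -1]
/-- `L0 - 2K`. -/
def T : DP 8 := ![6, 1, 2, 2, 2, 2, 2, 2, 2]
/-- `L0 - 2K - R1`. -/
def Dv : DP 8 := ![5, 0, 1, 2, 2, 2, 2, 2, 2]
/-- base point of the last orbit. -/
def mu0 : DP 8 := ![2, 0, 0, 0, 1, 1, 1, 1, 1]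

def tabC : List (List ℤ × List (List ℤ)) := [
  ([2, 0, 0, 0, 1, 1, 1, 1, 1], [[1, 0, 0, 0, 0, 0, 0, 0, 0], [0, 1, 0, 0, 0, 0, 0, 0, 0], [0, 0, 1, 0, 0, 0, 0, 0, 0], [0, 0, 0, 1, 0, 0, 0, 0, 0], [0, 0, 0, 0, 1, 0, 0, 0, 0], [0, 0, 0, 0, 0, 1, 0, 0, 0], [0, 0, 0, 0, 0, 0, 1, 0, 0], [0, 0, 0, 0, 0, 0, 0, 1, 0], [0, 0, 0, 0, 0, 0, 0, 0, 1]]),
  ([2, 0, 0, 1, 0, 1, 1, 1, 1], [[1, 0, 0, 0, 0, 0, 0, 0, 0], [0, 1, 0, 0, 0, 0, 0, 0, 0], [0, 0, 1, 0, 0, 0, 0, 0, 0], [0, 0, 0, 0, 1, 0, 0, 0, 0], [0, 0, 0, 1, 0, 0, 0, 0, 0], [0, 0, 0, 0, 0, 1, 0, 0, 0], [0, 0, 0, 0, 0, 0, 1, 0, 0], [0, 0, 0, 0, 0, 0, 0, 1, 0], [0, 0, 0, 0, 0, 0, 0, 0, 1]]),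
  ([2, 0, 0, 1, 1, 0, 1, 1, 1], [[1, 0, 0, 0, 0, 0, 0, 0, 0], [0, 1, 0, 0, 0, 0, 0, 0, 0], [0, 0, 1, 0, 0, 0, 0, 0, 0], [0, 0, 0, 0, 0, 1, 0, 0, 0], [0, 0, 0, 0, 1, 0, 0, 0, 0], [0, 0, 0, 1, 0, 0, 0, 0, 0], [0, 0, 0, 0, 0, 0, 1, 0, 0], [0, 0, 0, 0, 0, 0, 0, 1, 0], [0, 0, 0, 0, 0, 0, 0, 0, 1]]),
  ([2, 0, 0, 1, 1, 1, 0, 1, 1], [[1, 0, 0, 0, 0, 0, 0, 0, 0], [0, 1, 0, 0, 0, 0, 0, 0, 0], [0, 0, 1, 0, 0, 0, 0, 0, 0], [0, 0, 0, 0, 0, 0, 1, 0, 0], [0, 0, 0, 0, 1, 0, 0, 0, 0], [0, 0, 0, 0, 0, 1, 0, 0, 0], [0, 0, 0, 1, 0, 0, 0, 0, 0], [0, 0, 0, 0, 0, 0, 0, 1, 0], [0, 0, 0, 0, 0, 0, 0, 0, 1]]),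
  ([2, 0, 0, 1, 1, 1, 1, 0, 1], [[1, 0, 0, 0, 0, 0, 0, 0, 0], [0, 1, 0, 0, 0, 0, 0, 0, 0], [0, 0, 1, 0, 0, 0, 0, 0, 0], [0, 0, 0, 0, 0, 0, 0, 1, 0], [0, 0, 0, 0, 1, 0, 0, 0, 0], [0, 0, 0, 0, 0, 1, 0, 0, 0], [0, 0, 0, 0, 0, 0, 1, 0, 0], [0, 0, 0, 1, 0, 0, 0, 0, 0], [0, 0, 0, 0, 0, 0, 0, 0, 1]]),
  ([2, 0, 0, 1, 1, 1, 1, 1, 0], [[1, 0, 0, 0, 0, 0, 0, 0, 0], [0, 1, 0, 0, 0, 0, 0, 0, 0], [0, 0, 1, 0, 0, 0, 0, 0, 0], [0, 0, 0, 0, 0, 0, 0, 0, 1], [0, 0, 0, 0, 1, 0, 0, 0, 0], [0, 0, 0, 0, 0, 1, 0, 0, 0], [0, 0, 0, 0, 0, 0, 1, 0, 0], [0, 0, 0, 0, 0, 0, 0, 1, 0], [0, 0, 0, 1, 0, 0, 0, 0, 0]]),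
  ([3, 0, 1, 1, 1, 1, 1, 1, 2], [[2, 0, -1, -1, 0, 0, 0, 0, -1], [0, 1, 0, 0, 0, 0, 0, 0, 0], [1, 0, 0, -1, 0, 0, 0, 0, -1], [1, 0, -1, 0, 0, 0, 0, 0, -1], [0, 0, 0, 0, 1, 0, 0, 0, 0], [0, 0, 0, 0, 0, 1, 0, 0, 0], [0, 0, 0, 0, 0, 0, 1, 0, 0], [0, 0, 0, 0, 0, 0, 0, 1, 0], [1, 0, -1, -1, 0, 0, 0, 0, 0]]),
  ([3, 0, 1, 1, 1, 1, 1, 2, 1], [[2, 0, -1, -1, 0, 0, 0, -1, 0], [0, 1, 0, 0, 0, 0, 0, 0, 0], [1, 0, 0, -1, 0, 0, 0, -1, 0], [1, 0, -1, 0, 0, 0, 0, -1, 0], [0, 0, 0, 0, 1, 0, 0, 0, 0], [0, 0, 0, 0, 0, 1, 0, 0, 0], [0, 0, 0, 0, 0, 0, 1, 0, 0], [1, 0, -1, -1, 0, 0, 0, 0, 0], [0, 0, 0, 0, 0, 0, 0, 0, 1]]),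
  ([3, 0, 1, 1, 1, 1, 2, 1, 1], [[2, 0, -1, -1, 0, 0, -1, 0, 0], [0, 1, 0, 0, 0, 0, 0, 0, 0], [1, 0, 0, -1, 0, 0, -1, 0, 0], [1, 0, -1, 0, 0, 0, -1, 0, 0], [0, 0, 0, 0, 1, 0, 0, 0, 0], [0, 0, 0, 0, 0, 1, 0, 0, 0], [1, 0, -1, -1, 0, 0, 0, 0, 0], [0, 0, 0, 0, 0, 0, 0, 1, 0], [0, 0, 0, 0, 0, 0, 0, 0, 1]]),
  ([3, 0, 1, 1, 1, 2, 1, 1, 1], [[2, 0, -1, -1, 0, -1, 0, 0, 0], [0, 1, 0, 0, 0, 0, 0, 0, 0], [1, 0, 0, -1, 0, -1, 0, 0, 0], [1, 0, -1, 0, 0, -1, 0, 0, 0], [0, 0, 0, 0, 1, 0, 0, 0, 0], [1, 0, -1, -1, 0, 0, 0, 0, 0], [0, 0, 0, 0, 0, 0, 1, 0, 0], [0, 0, 0, 0, 0, 0, 0, 1, 0], [0, 0, 0, 0, 0, 0, 0, 0, 1]]),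
  ([3, 0, 1, 1, 2, 1, 1, 1, 1], [[2, 0, -1, -1, -1, 0, 0, 0, 0], [0, 1, 0, 0, 0, 0, 0, 0, 0], [1, 0, 0, -1, -1, 0, 0, 0, 0], [1, 0, -1, 0, -1, 0, 0, 0, 0], [1, 0, -1, -1, 0, 0, 0, 0, 0], [0, 0, 0, 0, 0, 1, 0, 0, 0], [0, 0, 0, 0, 0, 0, 1, 0, 0], [0, 0, 0, 0, 0, 0, 0, 1, 0], [0, 0, 0, 0, 0, 0, 0, 0, 1]]),
  ([3, 0, 1, 2, 1, 1, 1, 1, 1], [[2, 0, -1, -1, -1, 0, 0, 0, 0], [0, 1, 0, 0, 0, 0, 0, 0, 0], [1, 0, 0, -1, -1, 0, 0, 0, 0], [1, 0, -1, -1, 0, 0, 0, 0, 0], [1, 0, -1, 0, -1, 0, 0, 0, 0], [0, 0, 0, 0, 0, 1, 0, 0, 0], [0, 0, 0, 0, 0, 0, 1, 0, 0], [0, 0, 0, 0, 0, 0, 0, 1, 0], [0, 0, 0, 0, 0, 0, 0, 0, 1]])]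

/-- the condition cutting out the twelve classes. -/
def CondC (v : DP 8) : Prop :=
  form L0 v = 0 ∧ form (Dv - v) (Dv - v) = -1 ∧ form (canon 8) (Dv - v) = -1

instance : DecidablePred CondC := fun v => by unfold CondC; infer_instance

set_option maxRecDepth 100000 in
theorem chkC : ∀ l ∈ solsG false 8 (-1) (-1), CondC (vecL 8 l) → ∃ p ∈ tabC, p.1 = l ∧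
    IsWeylMat (matL 8 p.2) ∧ (∀ x ∈ [L0, R1], matL 8 p.2 *ᵥ x = x) ∧
    (fun u : DP 8 => u = mu0) (matL 8 p.2 *ᵥ vecL 8 l) := by decide +kernel

theorem fixC (v : DP 8) (hv : IsExc v) (hc : CondC v) :
    ∃ s : DP 8 ≃ₗ[ℤ] DP 8, IsWeyl s ∧ (∀ x ∈ [L0, R1], s x = x) ∧ s v = mu0 :=
  fix_of_table (le_refl 8) adm_exc [L0, R1] CondC (fun u : DP 8 => u = mu0) tabC chkC v hv hc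

end Groth.Agent.Helper7.DPExcTri
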