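import Mathlib
import Groth.Agent.Helper7.DPExcTri

set_option maxSynthPendingDepth 3
set_option linter.style.haveILetI false

/-! Orbits of the stabiliser of an exceptional class on triples of exceptional classes with
sum `L - 2K` in `DP 8`: the four orbits. -/

namespace Groth.Agent.Helper7.DPExcTri

open W4c3severiratdp Matrix Groth.Agent.Helper7.ConicEnum Groth.Agent.Helper7.DPLat
  Groth.Agent.Helper7.DPTab Groth.Agent.Helper7.DPExc8

lemma form_add_right {δ : ℕ} (u v w : DP δ) : form u (v + w) = form u v + form u w := by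
  unfold form
  simp only [Pi.add_apply, mul_add, Finset.sum_add_distrib]
  ring

/-- a triple with sum `T` from its first two members. -/
def mk3 (x y : DP 8) : Fin 3 → DP 8 := ![x, y, T - x - y]

/-- the four orbit representatives (for `L = L0`). -/
def r0 : Fin 4 → Fin 3 → DP 8 := ![mk3 L0 L0, mk3 L0 E8, mk3 L0 R1, mk3 R1 mu0]

lemma T_eq : T = L0 - 2 • canon 8 := by decide

lemma weyl_T {g : DP 8 ≃ₗ[ℤ] DP 8} (hg : IsWeyl g) (hL : g L0 = L0) : g T = T := by
  rw [T_eq, map_sub, map_nsmul, hg.2, hL]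

lemma r0_exc : ∀ j i, IsExc (r0 j i) := by
  have : ∀ j i, form (r0 j i) (r0 j i) = -1 ∧ form (canon 8) (r0 j i) = -1 := by decide
  exact this

lemma r0_sum : ∀ j, r0 j 0 + r0 j 1 + r0 j 2 = T := by decide

/-- the invariant separating the four orbits. -/
def inv (j : Fin 4) : ℤ := ∑ i, (form L0 (r0 j i)) ^ 2

lemma inv_inj : ∀ j j', inv j = inv j' → j = j' := by decide

lemma triple_of_two (t : Fin 3 → DP 8) (ht : t 0 + t 1 + t 2 = T) (σ : Equiv.Perm (Fin 3))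
    (g : DP 8 ≃ₗ[ℤ] DP 8) (hg : IsWeyl g) (hL : g L0 = L0) (x y : DP 8)
    (hx : g (t (σ 0)) = x) (hy : g (t (σ 1)) = y) : ∀ i, g (t (σ i)) = mk3 x y i := by
  have hsum : t (σ 0) + t (σ 1) + t (σ 2) = T := by
    rw [← ht]
    have := Equiv.sum_comp σ t
    rw [Fin.sum_univ_three, Fin.sum_univ_three] at this
    exact this
  have h2 : t (σ 2) = T - t (σ 0) - t (σ 1) := by rw [← hsum]; abel
  intro i
  fin_cases i
  · exact hx
  · exact hy
  · show g (t (σ 2)) = T - x - y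
    rw [h2, map_sub, map_sub, weyl_T hg hL, hx, hy]

lemma Rexc_range (k : ℤ) (h : k = form L0 (Rexc k)) : -1 ≤ k ∧ k ≤ 3 := by
  unfold Rexc at h
  split_ifs at h with h1 h2 h3 h4
  · omega
  · omega
  · omega
  · omega
  · have : form L0 ![6, 3, 2, 2, 2, 2, 2, 2, 2] = 3 := by decide
    rw [this] at h; omega

lemma form_L0_range (v : DP 8) (hv : IsExc v) : -1 ≤ form L0 v ∧ form L0 v ≤ 3 := by
  obtain ⟨s, hs, hsL, hsv⟩ := stabExc v hv
  have e := hs.1 L0 v
  rw [hsL, hsv] at e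
  exact Rexc_range _ e.symm

lemma eq_L0_of_form (v : DP 8) (hv : IsExc v) (h : form L0 v = -1) : v = L0 := by
  obtain ⟨s, hs, hsL, hsv⟩ := stabExc v hv
  rw [h] at hsv
  have : Rexc (-1) = L0 := by unfold Rexc L0; norm_num
  rw [this] at hsv
  exact s.injective (hsv.trans hsL.symm)

lemma Rexc_zero : Rexc 0 = E8 := by unfold Rexc E8; norm_num
lemma Rexc_one : Rexc 1 = R1 := by unfold Rexc R1; norm_num
lemma Rexc_neg_one : Rexc (-1) = L0 := by unfold Rexc L0; norm_num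

/-- the cyclic permutation `0 ↦ 2, 1 ↦ 0, 2 ↦ 1`. -/
def cyc : Equiv.Perm (Fin 3) := Equiv.addLeft (2 : Fin 3)

theorem tri_L0 (t : Fin 3 → DP 8) (hexc : ∀ i, IsExc (t i)) (ht : t 0 + t 1 + t 2 = T) :
    ∃ j, ∃ g : DP 8 ≃ₗ[ℤ] DP 8, IsWeyl g ∧ g L0 = L0 ∧
      ∃ σ : Equiv.Perm (Fin 3), ∀ i, g (t (σ i)) = r0 j i := by
  set k : Fin 3 → ℤ := fun i => form L0 (t i) with hk
  have hrange : ∀ i, -1 ≤ k i ∧ k i ≤ 3 := fun i => form_L0_range (t i) (hexc i)
  have hsumk : k 0 + k 1 + k 2 = 1 := by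
    simp only [k]
    rw [← form_add_right, ← form_add_right, ht]
    decide
  set σ0 := Tuple.sort k with hσ0
  have hmono : Monotone (k ∘ σ0) := Tuple.monotone_sort k
  have hs' : k (σ0 0) + k (σ0 1) + k (σ0 2) = 1 := by
    have := Equiv.sum_comp σ0 k
    rw [Fin.sum_univ_three, Fin.sum_univ_three] at this
    linarith
  have h01 : k (σ0 0) ≤ k (σ0 1) := hmono (by decide : (0 : Fin 3) ≤ 1)
  have h12 : k (σ0 1) ≤ k (σ0 2) := hmono (by decide : (1 : Fin 3) ≤ 2)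
  have r0' := hrange (σ0 0)
  have r1' := hrange (σ0 1)
  have r2' := hrange (σ0 2)
  have hcase : k (σ0 0) = -1 ∨ k (σ0 0) = 0 := by omega
  rcases hcase with hc | hc
  · -- first member is `L0`
    have h0 : t (σ0 0) = L0 := eq_L0_of_form _ (hexc _) hc
    obtain ⟨s1, hs1, hs1L, hs1v⟩ := stabExc (t (σ0 1)) (hexc _)
    have hk1 : k (σ0 1) = -1 ∨ k (σ0 1) = 0 ∨ k (σ0 1) = 1 := by omega
    have hk1' : form L0 (t (σ0 1)) = k (σ0 1) := rfl
    rw [hk1'] at hs1v
    rcases hk1 with h1 | h1 | h1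
    · rw [h1, Rexc_neg_one] at hs1v
      exact ⟨0, s1, hs1, hs1L, σ0,
        triple_of_two t ht σ0 s1 hs1 hs1L L0 L0 (by rw [h0, hs1L]) hs1v⟩
    · rw [h1, Rexc_zero] at hs1v
      exact ⟨1, s1, hs1, hs1L, σ0,
        triple_of_two t ht σ0 s1 hs1 hs1L L0 E8 (by rw [h0, hs1L]) hs1v⟩
    · rw [h1, Rexc_one] at hs1v
      exact ⟨2, s1, hs1, hs1L, σ0,
        triple_of_two t ht σ0 s1 hs1 hs1L L0 R1 (by rw [h0, hs1L]) hs1v⟩
  · -- `(0, 0, 1)`
    have hk1 : k (σ0 1) = 0 := by omega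
    have hk2 : k (σ0 2) = 1 := by omega
    obtain ⟨s, hs, hsL, hsv⟩ := stabExc (t (σ0 2)) (hexc _)
    have hk2' : form L0 (t (σ0 2)) = k (σ0 2) := rfl
    rw [hk2', hk2, Rexc_one] at hsv
    have hsumσ : t (σ0 0) + t (σ0 1) + t (σ0 2) = T := by
      rw [← ht]
      have := Equiv.sum_comp σ0 t
      rw [Fin.sum_univ_three, Fin.sum_univ_three] at this
      exact this
    have hD : s (t (σ0 1)) = Dv - s (t (σ0 0)) := by
      have e : s (t (σ0 0)) + s (t (σ0 1)) + s (t (σ0 2)) = T := by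
        rw [← map_add, ← map_add, hsumσ, weyl_T hs hsL]
      rw [hsv] at e
      have hDv : Dv = T - R1 := by decide
      rw [hDv, ← e]; abel
    have hμ : IsExc (s (t (σ0 0))) := IsWeyl.isExc hs (hexc _)
    have hν : IsExc (s (t (σ0 1))) := IsWeyl.isExc hs (hexc _)
    have hcond : CondC (s (t (σ0 0))) := by
      refine ⟨?_, ?_, ?_⟩
      · have e := hs.1 L0 (t (σ0 0))
        rw [hsL] at e
        rw [e]; exact hc
      · rw [← hD]; exact hν.1
      · rw [← hD]; exact hν.2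
    obtain ⟨s', hs', hfix, hs'v⟩ := fixC _ hμ hcond
    have hs'L : s' L0 = L0 := hfix L0 (by simp)
    have hs'R : s' R1 = R1 := hfix R1 (by simp)
    have hc0 : cyc 0 = 2 := by decide
    have hc1 : cyc 1 = 0 := by decide
    refine ⟨3, s.trans s', IsWeyl.trans hs hs', ?_, cyc.trans σ0,
      triple_of_two t ht (cyc.trans σ0) (s.trans s') (IsWeyl.trans hs hs') ?_ R1 mu0 ?_ ?_⟩
    · rw [LinearEquiv.trans_apply, hsL, hs'L]
    · rw [LinearEquiv.trans_apply, hsL, hs'L]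
    · rw [Equiv.trans_apply, hc0, LinearEquiv.trans_apply, hsv, hs'R]
    · rw [Equiv.trans_apply, hc1, LinearEquiv.trans_apply, hs'v]

theorem main_15910 (L : DP 8) (hL : IsExc L) :
    ∃ r : Fin 4 → (Fin 3 → DP 8),
      (∀ j, (∀ i, IsExc (r j i)) ∧ r j 0 + r j 1 + r j 2 = L - 2 • canon 8) ∧
      (∀ j j', (∃ g : DP 8 ≃ₗ[ℤ] DP 8, IsWeyl g ∧ g L = L ∧
        ∃ σ : Equiv.Perm (Fin 3), ∀ i, g (r j (σ i)) = r j' i) → j = j') ∧
      ∀ t : Fin 3 → DP 8, (∀ i, IsExc (t i)) → t 0 + t 1 + t 2 = L - 2 • canon 8 →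
        ∃ j, ∃ g : DP 8 ≃ₗ[ℤ] DP 8, IsWeyl g ∧ g L = L ∧
          ∃ σ : Equiv.Perm (Fin 3), ∀ i, g (t (σ i)) = r j i := by
  obtain ⟨h, hh, hhL⟩ := transExc L hL
  have hsymm := IsWeyl.symm hh
  have hLsymm : h.symm L0 = L := (LinearEquiv.symm_apply_eq h).2 hhL.symm
  have hT : h.symm T = L - 2 • canon 8 := by
    rw [T_eq, map_sub, map_nsmul, hsymm.2, hLsymm]
  have hT' : h (L - 2 • canon 8) = T := by
    rw [← hT, LinearEquiv.apply_symm_apply]
  refine ⟨fun j i => h.symm (r0 j i), ?_, ?_, ?_⟩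
  · intro j
    refine ⟨fun i => IsWeyl.isExc hsymm (r0_exc j i), ?_⟩
    rw [← map_add, ← map_add, r0_sum j, hT]
  · rintro j j' ⟨g, hg, hgL, σ, hσ⟩
    have key : ∀ i, form L0 (r0 j' i) = form L0 (r0 j (σ i)) := by
      intro i
      have e1 : ∀ x, form L (h.symm x) = form L0 x := fun x => by
        rw [← hLsymm, hsymm.1]
      calc form L0 (r0 j' i) = form L (h.symm (r0 j' i)) := (e1 _).symm
        _ = form L (g (h.symm (r0 j (σ i)))) := by rw [hσ i]
        _ = form (g L) (g (h.symm (r0 j (σ i)))) := by rw [hgL]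
        _ = form L (h.symm (r0 j (σ i))) := hg.1 _ _
        _ = form L0 (r0 j (σ i)) := e1 _
    apply inv_inj
    unfold inv
    rw [← Equiv.sum_comp σ (fun i => (form L0 (r0 j i)) ^ 2)]
    exact Finset.sum_congr rfl (fun i _ => by rw [key i])
  · intro t htexc htsum
    obtain ⟨j, g0, hg0, hg0L, σ, hσ⟩ := tri_L0 (fun i => h (t i))
      (fun i => IsWeyl.isExc hh (htexc i)) (by rw [← map_add, ← map_add, htsum, hT'])
    refine ⟨j, h.trans (g0.trans h.symm), IsWeyl.trans hh (IsWeyl.trans hg0 hsymm), ?_, σ,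
      fun i => ?_⟩
    · simp only [LinearEquiv.trans_apply]
      rw [hhL, hg0L, hLsymm]
    · simp only [LinearEquiv.trans_apply]
      rw [hσ i]

end Groth.Agent.Helper7.DPExcTri
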