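import Mathlib
import Groth.Prelude.Def_DeRham
import Groth.Prelude.Def_DiffOp
import Groth.Agent.Helper7.DR

set_option autoImplicit false
universe u

namespace Groth.Agent.Helper7.DR

open exteriorPower DeRham

variable {R A : Type u} [CommRing R] [CommRing A] [Algebra R A]

theorem comm_gen
    (d : ∀ p : ℕ, ↥(⋀[A]^p (Ω[A⁄R])) →ₗ[R] ↥(⋀[A]^(p + 1) (Ω[A⁄R])))
    (hd : DeRham.IsRule (KaehlerDifferential.D R A) d) (p : ℕ) (a b₀ : A) (b : Fin p → A) :
    d p (a • gen (KaehlerDifferential.D R A) p b₀ b) - a • d p (gen (KaehlerDifferential.D R A) p b₀ b)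
      = b₀ • ιMulti A (p + 1) (Fin.cons (KaehlerDifferential.D R A a)
          (fun i => KaehlerDifferential.D R A (b i))) := by
  have h1 : a • gen (KaehlerDifferential.D R A) p b₀ b = gen (KaehlerDifferential.D R A) p (a * b₀) b := by
    unfold gen; rw [mul_smul]
  rw [h1, hd, hd, Derivation.leibniz]
  have := (ιMulti A (p + 1) (M := Ω[A⁄R])).toMultilinearMap.cons_add
    (fun i => KaehlerDifferential.D R A (b i)) (a • KaehlerDifferential.D R A b₀)
    (b₀ • KaehlerDifferential.D R A a)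
  have h2 := (ιMulti A (p + 1) (M := Ω[A⁄R])).toMultilinearMap.cons_smul
    (fun i => KaehlerDifferential.D R A (b i)) a (KaehlerDifferential.D R A b₀)
  have h3 := (ιMulti A (p + 1) (M := Ω[A⁄R])).toMultilinearMap.cons_smul
    (fun i => KaehlerDifferential.D R A (b i)) b₀ (KaehlerDifferential.D R A a)
  simp only [AlternatingMap.coe_multilinearMap] at this h2 h3
  rw [this, h2, h3]
  abel

theorem diffop_one
    (d : ∀ p : ℕ, ↥(⋀[A]^p (Ω[A⁄R])) →ₗ[R] ↥(⋀[A]^(p + 1) (Ω[A⁄R])))
    (hd : DeRham.IsRule (KaehlerDifferential.D R A) d) (p : ℕ) :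
    Diff16.IsDiffOpLE R A ↥(⋀[A]^p (Ω[A⁄R])) ↥(⋀[A]^(p + 1) (Ω[A⁄R])) 1 (d p) := by
  intro a c x
  show (Diff16.commutator R A _ _ (d p) a) (c • x) = c • (Diff16.commutator R A _ _ (d p) a) x
  have hC : ∀ y, (Diff16.commutator R A _ _ (d p) a) y = d p (a • y) - a • d p y := by
    intro y; rfl
  rw [hC, hC]
  refine forms_induction p (fun x => d p (a • c • x) - a • d p (c • x) = c • (d p (a • x) - a • d p x))
    (by simp) ?_ ?_ x
  · intro x y hx hy
    simp only [smul_add, map_add, smul_sub] at hx hy ⊢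
    rw [add_sub_add_comm, hx, hy]
    abel
  · intro b₀ b
    have h1 : c • gen (KaehlerDifferential.D R A) p b₀ b = gen (KaehlerDifferential.D R A) p (c * b₀) b := by
      unfold gen; rw [mul_smul]
    rw [h1, comm_gen d hd, comm_gen d hd, mul_smul]

end Groth.Agent.Helper7.DR
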