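import Mathlib
import Groth.Prelude.Def_DeRham
import Groth.Agent.Helper7.ExtBC
import Groth.Agent.Helper7.DR

set_option linter.style.haveILetI false
set_option linter.unusedSectionVars false

/-! The de Rham complex commutes with base change (degreewise bijectivity). -/

namespace Groth.Agent.Helper7.ExtBC

open TensorProduct exteriorPower KaehlerDifferential

universe u

theorem map_equiv_bijective {B : Type u} [CommRing B] {M N : Type u} [AddCommGroup M] [Module B M]
    [AddCommGroup N] [Module B N] (e : M ≃ₗ[B] N) (p : ℕ) :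
    Function.Bijective (exteriorPower.map p e.toLinearMap) := by
  have h1 : (exteriorPower.map p e.symm.toLinearMap).comp (exteriorPower.map p e.toLinearMap) =
      LinearMap.id := by
    rw [← exteriorPower.map_comp]
    have : e.symm.toLinearMap.comp e.toLinearMap = LinearMap.id := by ext; simp
    rw [this, exteriorPower.map_id]
  have h2 : (exteriorPower.map p e.toLinearMap).comp (exteriorPower.map p e.symm.toLinearMap) =
      LinearMap.id := by
    rw [← exteriorPower.map_comp]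
    have : e.toLinearMap.comp e.symm.toLinearMap = LinearMap.id := by ext; simp
    rw [this, exteriorPower.map_id]
  exact ⟨Function.LeftInverse.injective (g := exteriorPower.map p e.symm.toLinearMap)
      (fun x => LinearMap.congr_fun h1 x),
    Function.RightInverse.surjective (g := exteriorPower.map p e.symm.toLinearMap)
      (fun x => LinearMap.congr_fun h2 x)⟩

variable (R S A B : Type u) [CommRing R] [CommRing S] [CommRing A] [CommRing B]
    [Algebra R S] [Algebra R A] [Algebra R B] [Algebra A B] [Algebra S B]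
    [IsScalarTower R A B] [IsScalarTower R S B] [Algebra.IsPushout R S A B]

/-- The composite `⋀^p Ω_{A/R} → ⋀^p_B (B ⊗ Ω_{A/R}) → ⋀^p Ω_{B/S}`. -/
noncomputable def comp1 (p : ℕ) : ↥(⋀[A]^p (Ω[A⁄R])) →ₗ[A] ↥(⋀[B]^p (Ω[B⁄S])) :=
  ((exteriorPower.map p (tensorKaehlerEquiv R S A B).toLinearMap).restrictScalars A).comp
    (incl A B (Ω[A⁄R]) p)

theorem comp1_gen (p : ℕ) (b₀ : A) (b : Fin p → A) :
    comp1 R S A B p (DeRham.gen (D R A) p b₀ b) =
      DeRham.gen (D S B) p (algebraMap A B b₀) (fun i => algebraMap A B (b i)) := by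
  unfold DeRham.gen
  rw [map_smul, comp1, LinearMap.comp_apply, incl_ιMulti, LinearMap.restrictScalars_apply,
    exteriorPower.map_apply_ιMulti, algebraMap_smul]
  congr 2
  funext i
  simp

variable {R S A B}

theorem comp1_eq (ψ : ∀ p : ℕ, ↥(⋀[A]^p (Ω[A⁄R])) →+ ↥(⋀[B]^p (Ω[B⁄S])))
    (hψ : DeRham.IsCxMap (D R A) (D S B) (algebraMap A B) ψ) (p : ℕ)
    (x : ↥(⋀[A]^p (Ω[A⁄R]))) : comp1 R S A B p x = ψ p x := by
  refine Groth.Agent.Helper7.DR.forms_induction p (fun x => comp1 R S A B p x = ψ p x)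
    (by simp) ?_ ?_ x
  · intro x y hx hy
    simp only [map_add, hx, hy]
  · intro b₀ b
    rw [comp1_gen, hψ p b₀ b]

theorem result_aux (ψ : ∀ p : ℕ, ↥(⋀[A]^p (Ω[A⁄R])) →+ ↥(⋀[B]^p (Ω[B⁄S])))
    (hψ : DeRham.IsCxMap (D R A) (D S B) (algebraMap A B) ψ)
    (p : ℕ) (Φ : S ⊗[R] ↥(⋀[A]^p (Ω[A⁄R])) →+ ↥(⋀[B]^p (Ω[B⁄S])))
    (hΦ : ∀ (s : S) (x : ↥(⋀[A]^p (Ω[A⁄R]))), Φ (s ⊗ₜ[R] x) = s • ψ p x) :
    Function.Bijective Φ := by
  let e1 := (Algebra.IsPushout.cancelBaseChange R S A B ↥(⋀[A]^p (Ω[A⁄R]))).symm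
  let Θ : S ⊗[R] ↥(⋀[A]^p (Ω[A⁄R])) → ↥(⋀[B]^p (Ω[B⁄S])) := fun t =>
    exteriorPower.map p (tensorKaehlerEquiv R S A B).toLinearMap
      (beta A B (Ω[A⁄R]) p (e1 t))
  have hΘ : Function.Bijective Θ :=
    (map_equiv_bijective (tensorKaehlerEquiv R S A B) p).comp
      ((beta_bijective A B (Ω[A⁄R]) p).comp e1.bijective)
  have hΘadd : ∀ t t', Θ (t + t') = Θ t + Θ t' := by
    intro t t'
    simp only [Θ, map_add]
  have hΘ0 : Θ 0 = 0 := by simp only [Θ, map_zero]
  have heq : ∀ t, Φ t = Θ t := by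
    intro t
    induction t with
    | zero => rw [map_zero, hΘ0]
    | add x y hx hy => rw [map_add, hΘadd, hx, hy]
    | tmul s x =>
      rw [hΦ, ← comp1_eq ψ hψ]
      change _ = exteriorPower.map p (tensorKaehlerEquiv R S A B).toLinearMap
        (beta A B (Ω[A⁄R]) p (e1 (s ⊗ₜ[R] x)))
      rw [show e1 (s ⊗ₜ[R] x) = algebraMap S B s ⊗ₜ[A] x from
        Algebra.IsPushout.cancelBaseChange_symm_tmul R S A B _ s x, beta_tmul, map_smul,
        algebraMap_smul]
      rfl
  have : (Φ : _ → _) = Θ := funext heq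
  rw [this]
  exact hΘ

end Groth.Agent.Helper7.ExtBC
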