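import Mathlib
import Groth.Prelude.Def_DeRham
import Groth.Agent.Helper7.ExtBC2

set_option linter.style.haveILetI false
set_option linter.unusedSectionVars false

/-! Closed and exact forms under flat base change of the base ring. -/

namespace Groth.Agent.Helper7.DRBC

open TensorProduct exteriorPower KaehlerDifferential Groth.Agent.Helper7.ExtBC

universe u

variable {R S A B : Type u} [CommRing R] [CommRing S] [CommRing A] [CommRing B]
    [Algebra R S] [Algebra R A] [Algebra R B] [Algebra A B] [Algebra S B]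
    [IsScalarTower R A B] [IsScalarTower R S B] [Algebra.IsPushout R S A B]

variable (R S A B) in
/-- The base change comparison map `S ⊗[R] ⋀^p Ω_{A/R} → ⋀^p Ω_{B/S}`. -/
noncomputable def PhiL (p : ℕ) : S ⊗[R] ↥(⋀[A]^p (Ω[A⁄R])) →ₗ[S] ↥(⋀[B]^p (Ω[B⁄S])) :=
  ((comp1 R S A B p).restrictScalars R).liftBaseChange S

theorem PhiL_tmul (p : ℕ) (s : S) (x : ↥(⋀[A]^p (Ω[A⁄R]))) :
    PhiL R S A B p (s ⊗ₜ x) = s • comp1 R S A B p x :=
  LinearMap.liftBaseChange_tmul _ _ _ _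

variable (ψ : ∀ p : ℕ, ↥(⋀[A]^p (Ω[A⁄R])) →+ ↥(⋀[B]^p (Ω[B⁄S])))
    (hψ : DeRham.IsCxMap (D R A) (D S B) (algebraMap A B) ψ)

include hψ in
theorem PhiL_bijective (p : ℕ) : Function.Bijective (PhiL R S A B p) := by
  refine result_aux ψ hψ p (PhiL R S A B p).toAddMonoidHom (fun s x => ?_)
  change PhiL R S A B p (s ⊗ₜ x) = _
  rw [PhiL_tmul, comp1_eq ψ hψ]

variable (d : ∀ p : ℕ, ↥(⋀[A]^p (Ω[A⁄R])) →ₗ[R] ↥(⋀[A]^(p + 1) (Ω[A⁄R])))
    (d' : ∀ p : ℕ, ↥(⋀[B]^p (Ω[B⁄S])) →ₗ[S] ↥(⋀[B]^(p + 1) (Ω[B⁄S])))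
    (hcomm : ∀ (p : ℕ) (x : ↥(⋀[A]^p (Ω[A⁄R]))), ψ (p + 1) (d p x) = d' p (ψ p x))

include hψ hcomm in
theorem PhiL_comm (p : ℕ) (t : S ⊗[R] ↥(⋀[A]^p (Ω[A⁄R]))) :
    PhiL R S A B (p + 1) ((d p).lTensor S t) = d' p (PhiL R S A B p t) := by
  induction t with
  | zero => simp
  | add x y hx hy => rw [map_add, map_add, hx, hy, map_add, map_add]
  | tmul s x =>
    rw [LinearMap.lTensor_tmul, PhiL_tmul, PhiL_tmul, map_smul, comp1_eq ψ hψ, comp1_eq ψ hψ, hcomm]

include hψ hcomm in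
theorem span_cocycles [Module.Flat R S] (p : ℕ) :
    Submodule.span S (ψ p '' (DeRham.cocycles d p : Set ↥(⋀[A]^p (Ω[A⁄R])))) =
      DeRham.cocycles d' p := by
  apply le_antisymm
  · rw [Submodule.span_le]
    rintro _ ⟨x, hx, rfl⟩
    change d' p (ψ p x) = 0
    rw [← hcomm, show d p x = 0 from hx, map_zero]
  · intro y hy
    obtain ⟨t, rfl⟩ := (PhiL_bijective ψ hψ p).2 y
    have h1 : (d p).lTensor S t = 0 := by
      apply (PhiL_bijective ψ hψ (p + 1)).1
      rw [PhiL_comm ψ hψ d d' hcomm, map_zero]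
      exact hy
    have h0 : Function.Exact (LinearMap.ker (d p)).subtype (d p) :=
      LinearMap.exact_subtype_ker_map (d p)
    have hex := Module.Flat.lTensor_exact (R := R) S (N := ↥(LinearMap.ker (d p)))
      (N' := ↥(⋀[A]^p (Ω[A⁄R]))) (N'' := ↥(⋀[A]^(p + 1) (Ω[A⁄R]))) h0
    obtain ⟨u, rfl⟩ := (hex t).1 h1
    have key : ∀ u : S ⊗[R] ↥(LinearMap.ker (d p)),
        PhiL R S A B p ((LinearMap.ker (d p)).subtype.lTensor S u) ∈
          Submodule.span S (ψ p '' (DeRham.cocycles d p : Set ↥(⋀[A]^p (Ω[A⁄R])))) := by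
      intro u
      induction u with
      | zero => simp
      | add x y hx hy =>
        rw [map_add, map_add]
        exact Submodule.add_mem _ hx hy
      | tmul s z =>
        rw [LinearMap.lTensor_tmul, PhiL_tmul, comp1_eq ψ hψ]
        exact Submodule.smul_mem _ _ (Submodule.subset_span ⟨z.1, z.2, rfl⟩)
    exact key u

include hψ hcomm in
theorem span_coboundaries (p : ℕ) :
    Submodule.span S (ψ p '' (DeRham.coboundaries d p : Set ↥(⋀[A]^p (Ω[A⁄R])))) =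
      DeRham.coboundaries d' p := by
  cases p with
  | zero =>
    change Submodule.span S (ψ 0 '' (((⊥ : Submodule R ↥(⋀[A]^0 (Ω[A⁄R]))) :
      Submodule R ↥(⋀[A]^0 (Ω[A⁄R]))) : Set ↥(⋀[A]^0 (Ω[A⁄R])))) = ⊥
    rw [Submodule.span_eq_bot]
    rintro _ ⟨x, hx, rfl⟩
    rw [show x = 0 from hx, map_zero]
  | succ p =>
    change Submodule.span S (ψ (p + 1) '' (LinearMap.range (d p) : Set _)) = LinearMap.range (d' p)
    apply le_antisymm
    · rw [Submodule.span_le]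
      rintro _ ⟨_, ⟨x, rfl⟩, rfl⟩
      exact ⟨ψ p x, (hcomm p x).symm⟩
    · rintro _ ⟨z, rfl⟩
      obtain ⟨t, rfl⟩ := (PhiL_bijective ψ hψ p).2 z
      induction t with
      | zero => simp
      | add x y hx hy =>
        rw [map_add, map_add]
        exact Submodule.add_mem _ hx hy
      | tmul s x =>
        rw [PhiL_tmul, map_smul, comp1_eq ψ hψ, ← hcomm]
        exact Submodule.smul_mem _ _ (Submodule.subset_span ⟨d p x, ⟨x, rfl⟩, rfl⟩)

end Groth.Agent.Helper7.DRBC
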