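import Mathlib
import Groth.Prelude.Def_DeRham
import Groth.Agent.Helper7.DRP1

set_option linter.style.haveILetI false
set_option linter.unusedSectionVars false

/-! Abstract Poincaré lemma: for a receptacle with a basis `δ t_i` such that the operators
`E + q` (`E` the Euler derivation) are bijective for `q ≥ 1`, closed forms of positive degree are
exact. -/

namespace Groth.Agent.Helper7.DRG

open exteriorPower DeRham

universe u v

variable {R A : Type u} [CommRing R] [CommRing A] [Algebra R A]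
variable {M : Type u} [AddCommGroup M] [Module A M] [Module R M] [IsScalarTower R A M]
variable {δ : Derivation R A M} (F : Datum δ)
variable {σ : Type v} [LinearOrder σ] (t : σ → A) (b : Module.Basis σ A M)

/-- The Euler linear form `δ t_i ↦ t_i`. -/
noncomputable def euler : Module.Dual A M := b.constr A t

variable (hb : ∀ i, b i = δ (t i))

include hb in
theorem euler_δ (i : σ) : euler t b (δ (t i)) = t i := by
  rw [← hb, euler, Module.Basis.constr_basis]

include hb in
theorem Lie_ι_b (i : σ) :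
    Lie F (euler t b) (ExteriorAlgebra.ι A (b i)) = ExteriorAlgebra.ι A (b i) := by
  rw [hb, Lie_ι_δ, euler_δ t b hb]

/-- The operator `E + q`. -/
noncomputable def Tq (q : ℕ) (a : A) : A := euler t b (δ a) + (q : A) * a

theorem Tq_zero (q : ℕ) : Tq (δ := δ) t b q 0 = 0 := by
  simp [Tq]

include hb in
theorem Lie_smul_family (q : ℕ) (s : Set.powersetCard σ q) (f : A) :
    Lie F (euler t b) (f • ((ιMulti_family A q b s : ↥(⋀[A]^q M)) : ExteriorAlgebra A M)) =
      Tq (δ := δ) t b q f • ((ιMulti_family A q b s : ↥(⋀[A]^q M)) : ExteriorAlgebra A M) := by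
  rw [ιMulti_family, ιMulti_apply_coe]
  exact Lie_smul_ιMulti F (euler t b) q _ (fun i => Lie_ι_b F t b hb _) f

include hb in
theorem Lie_surjOn (q : ℕ) (hT : Function.Surjective (Tq (δ := δ) t b q))
    (x : ↥(⋀[A]^q M)) :
    ∃ y : ↥(⋀[A]^q M), Lie F (euler t b) (y : ExteriorAlgebra A M) = (x : ExteriorAlgebra A M) := by
  have hx : x ∈ Submodule.span A (Set.range (ιMulti_family A q b)) := by
    rw [ιMulti_family_span_of_span A b.span_eq]; trivial
  induction hx using Submodule.closure_induction with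
  | zero => exact ⟨0, by simp⟩
  | add x y _ _ hx hy =>
    obtain ⟨y1, h1⟩ := hx
    obtain ⟨y2, h2⟩ := hy
    exact ⟨y1 + y2, by rw [Submodule.coe_add, map_add, h1, h2, Submodule.coe_add]⟩
  | smul_mem f x hx =>
    obtain ⟨s, rfl⟩ := hx
    obtain ⟨g, hg⟩ := hT f
    refine ⟨g • ιMulti_family A q b s, ?_⟩
    rw [Submodule.coe_smul, Lie_smul_family F t b hb, hg, Submodule.coe_smul]

include hb in
theorem Lie_injOn (q : ℕ) (hT : Function.Injective (Tq (δ := δ) t b q))
    (x : ↥(⋀[A]^q M)) (hx : Lie F (euler t b) (x : ExteriorAlgebra A M) = 0) : x = 0 := by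
  classical
  set B := b.exteriorPower q with hB
  have h1 : x = ∑ s ∈ (B.repr x).support, B.repr x s • B s := by
    conv_lhs => rw [← B.linearCombination_repr x]
    rw [Finsupp.linearCombination_apply, Finsupp.sum]
  have h2 : (x : ExteriorAlgebra A M) =
      ∑ s ∈ (B.repr x).support, B.repr x s • ((B s : ↥(⋀[A]^q M)) : ExteriorAlgebra A M) := by
    conv_lhs => rw [h1]
    rw [Submodule.coe_sum]
    rfl
  have h3 : ∑ s ∈ (B.repr x).support, Tq (δ := δ) t b q (B.repr x s) • B s = 0 := by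
    apply Subtype.ext
    rw [Submodule.coe_sum, Submodule.coe_zero, ← hx, h2, map_sum]
    refine Finset.sum_congr rfl fun s _ => ?_
    rw [Submodule.coe_smul, hB, basis_apply, Lie_smul_family F t b hb]
  have h4 := linearIndependent_iff'.1 B.linearIndependent _ _ h3
  have h5 : (B.repr x).support = ∅ := by
    rw [Finset.eq_empty_iff_forall_notMem]
    intro s hs
    have := h4 s hs
    rw [← Tq_zero (δ := δ) t b q] at this
    exact (Finsupp.mem_support_iff.1 hs) (hT this)
  rw [h1, h5, Finset.sum_empty]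

include hb in
/-- Abstract Poincaré lemma. -/
theorem poincare (hT : ∀ q : ℕ, 1 ≤ q → Function.Bijective (Tq (δ := δ) t b q)) (p : ℕ)
    (ω : ↥(⋀[A]^(p + 1) M)) (hω : dAdd F (ω : ExteriorAlgebra A M) = 0) :
    ∃ θ : ↥(⋀[A]^p M), dAdd F (θ : ExteriorAlgebra A M) = (ω : ExteriorAlgebra A M) := by
  obtain ⟨ω', hω'⟩ := Lie_surjOn F t b hb (p + 1) (hT (p + 1) (by omega)).2 ω
  have h1 : (⟨dAdd F (ω' : ExteriorAlgebra A M), dAdd_mem F (p + 1) ω'.2⟩ :
      ↥(⋀[A]^(p + 1 + 1) M)) = 0 := by
    apply Lie_injOn F t b hb (p + 1 + 1) (hT (p + 1 + 1) (by omega)).1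
    change Lie F (euler t b) (dAdd F (ω' : ExteriorAlgebra A M)) = 0
    rw [Lie_dAdd, hω', hω]
  have h2 : dAdd F (ω' : ExteriorAlgebra A M) = 0 := congrArg Subtype.val h1
  refine ⟨⟨hC (euler t b) (ω' : ExteriorAlgebra A M), hC_mem _ p ω'.2⟩, ?_⟩
  change dAdd F (hC (euler t b) (ω' : ExteriorAlgebra A M)) = _
  rw [← hω', Lie_apply, h2, map_zero, add_zero]

include F hb in
/-- Family form. -/
theorem poincare_family (hT : ∀ q : ℕ, 1 ≤ q → Function.Bijective (Tq (δ := δ) t b q))
    (d : ∀ p : ℕ, ↥(⋀[A]^p M) →ₗ[R] ↥(⋀[A]^(p + 1) M)) (hd : IsRule δ d) (p : ℕ) :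
    DeRham.cocycles d (p + 1) ≤ DeRham.coboundaries d (p + 1) := by
  intro ω hω
  have h0 : d (p + 1) ω = 0 := hω
  have h1 : dAdd F (ω : ExteriorAlgebra A M) = 0 := by
    rw [← coe_rule F d hd, h0]; rfl
  obtain ⟨θ, hθ⟩ := poincare F t b hb hT p ω h1
  refine ⟨θ, ?_⟩
  apply Subtype.ext
  rw [coe_rule F d hd, hθ]

end Groth.Agent.Helper7.DRG
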