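import Mathlib
import Groth.Prelude.Def_DeRham
import Groth.Agent.Helper7.DRP2

set_option linter.style.haveILetI false
set_option linter.unusedSectionVars false

/-! A `Datum` from a basis `δ t_i` and a family satisfying the de Rham rule. -/

namespace Groth.Agent.Helper7.DRG

open exteriorPower DeRham

universe u v

variable {R A : Type u} [CommRing R] [CommRing A] [Algebra R A]
variable {M : Type u} [AddCommGroup M] [Module A M] [Module R M] [IsScalarTower R A M]
variable {δ : Derivation R A M}
variable {σ : Type v} [Fintype σ] (t : σ → A) (b : Module.Basis σ A M)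
variable (hb : ∀ i, b i = δ (t i))
variable (d : ∀ p : ℕ, ↥(⋀[A]^p M) →ₗ[R] ↥(⋀[A]^(p + 1) M)) (hd : IsRule δ d)

theorem coe_gen_one (c a : A) :
    ((gen δ 1 c (fun _ => a) : ↥(⋀[A]^1 M)) : ExteriorAlgebra A M) =
      c • ExteriorAlgebra.ι A (δ a) := by
  unfold gen
  rw [Submodule.coe_smul, ιMulti_apply_coe, ExteriorAlgebra.ιMulti_succ_apply,
    ExteriorAlgebra.ιMulti_zero_apply, mul_one]

theorem coe_ιMulti_two (x y : M) :
    ((ιMulti A 2 (Fin.cons x (fun _ : Fin 1 => y)) : ↥(⋀[A]^2 M)) : ExteriorAlgebra A M) =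
      ExteriorAlgebra.ι A x * ExteriorAlgebra.ι A y := by
  rw [ιMulti_apply_coe, ExteriorAlgebra.ιMulti_succ_apply, ExteriorAlgebra.ιMulti_succ_apply,
    ExteriorAlgebra.ιMulti_zero_apply, mul_one]
  rfl

include hb hd in
theorem sum_wedge_eq_zero (a : A) :
    ∑ i, ExteriorAlgebra.ι A (δ (b.repr (δ a) i)) * ExteriorAlgebra.ι A (δ (t i)) = 0 := by
  have h1 : ∑ i, gen δ 1 (b.repr (δ a) i) (fun _ => t i) = gen δ 1 1 (fun _ => a) := by
    apply Subtype.ext
    rw [Submodule.coe_sum, coe_gen_one, one_smul]
    simp only [coe_gen_one]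
    have : ∑ i, b.repr (δ a) i • ExteriorAlgebra.ι A (δ (t i)) =
        ExteriorAlgebra.ι A (∑ i, b.repr (δ a) i • b i) := by
      rw [map_sum]
      refine Finset.sum_congr rfl fun i _ => ?_
      rw [map_smul, hb]
    rw [this, b.sum_repr]
  have h2 := congrArg (d 1) h1
  rw [map_sum] at h2
  have hd' : ∀ (b₀ : A) (b : Fin 1 → A),
      d 1 (gen δ 1 b₀ b) = ιMulti A 2 (Fin.cons (δ b₀) fun i => δ (b i)) := hd 1
  simp only [hd'] at h2
  have h3 := congrArg (Subtype.val) h2
  rw [Submodule.coe_sum] at h3
  simp only [coe_ιMulti_two] at h3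
  rw [h3, Derivation.map_one_eq_zero, map_zero, zero_mul]

include hb hd in
/-- The datum built from a basis `δ t_i` and a family satisfying the rule. -/
noncomputable def datumOfBasis : Datum δ where
  f := b.constr A (fun i => der δ (t i))
  hf a := by
    classical
    rw [Module.Basis.constr_apply_fintype]
    ext
    · have : TT.fst δ (∑ i, b.equivFun (δ a) i • der δ (t i)) =
          ∑ i, TT.fst δ (b.equivFun (δ a) i • der δ (t i)) := by
        induction (Finset.univ : Finset σ) using Finset.induction_on with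
        | empty => simp
        | insert i s hi ih => rw [Finset.sum_insert hi, Finset.sum_insert hi, TT.fst_add, ih]
      rw [this, fst_der]
      simp only [fst_smul, fst_der, Module.Basis.equivFun_apply]
      have h2 : ∑ i, b.repr (δ a) i • ExteriorAlgebra.ι A (δ (t i)) =
          ExteriorAlgebra.ι A (∑ i, b.repr (δ a) i • b i) := by
        rw [map_sum]
        refine Finset.sum_congr rfl fun i _ => ?_
        rw [map_smul, hb]
      rw [h2, b.sum_repr]
    · have : TT.snd δ (∑ i, b.equivFun (δ a) i • der δ (t i)) =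
          ∑ i, TT.snd δ (b.equivFun (δ a) i • der δ (t i)) := by
        induction (Finset.univ : Finset σ) using Finset.induction_on with
        | empty => simp
        | insert i s hi ih => rw [Finset.sum_insert hi, Finset.sum_insert hi, TT.snd_add, ih]
      rw [this, snd_der]
      simp only [snd_smul, fst_der, snd_der, smul_zero, add_zero, Module.Basis.equivFun_apply]
      exact sum_wedge_eq_zero t b hb d hd a
  hspan := by
    rw [eq_top_iff, ← b.span_eq]
    refine Submodule.span_mono ?_
    rintro _ ⟨i, rfl⟩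
    exact ⟨t i, (hb i).symm⟩

end Groth.Agent.Helper7.DRG
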