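import Mathlib
import Groth.Prelude.Def_DeRham
import Groth.Agent.Helper7.DRP3

set_option linter.style.haveILetI false
set_option linter.unusedSectionVars false

/-! The formal Poincaré lemma for power series rings in characteristic zero. -/

namespace Groth.Agent.Helper7.DRP4

open exteriorPower DeRham Groth.Agent.Helper7.DRG MvPowerSeries

universe u

variable (k : Type u) [Field k] [CharZero k] (σ : Type u) [Fintype σ]

theorem coeff_pderiv_mul_X (f : MvPowerSeries σ k) (i : σ) (μ : σ →₀ ℕ) :
    coeff μ (pderiv k i f * X i) = (μ i : k) * coeff μ f := by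
  classical
  rw [X_def, coeff_mul_monomial]
  split_ifs with h
  · have h1 : 1 ≤ μ i := by
      have := h i
      simpa using this
    rw [coeff_pderiv, tsub_add_cancel_of_le h, mul_one, Finsupp.tsub_apply,
      Finsupp.single_eq_same, mul_comm]
    congr 1
    have h2 : μ i - 1 + 1 = μ i := Nat.sub_add_cancel h1
    exact_mod_cast congrArg (Nat.cast (R := k)) h2
  · have h1 : μ i = 0 := by
      by_contra hne
      apply h
      intro j
      by_cases hj : j = i
      · subst hj
        simp only [Finsupp.single_eq_same]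
        omega
      · rw [Finsupp.single_eq_of_ne hj]
        exact Nat.zero_le _
    rw [h1, Nat.cast_zero, zero_mul]

variable {k σ}
variable (δ : Derivation k (MvPowerSeries σ k) (σ → MvPowerSeries σ k))
    (hδ : ∀ (f : MvPowerSeries σ k) (i : σ), δ f i = MvPowerSeries.pderiv k i f)

include hδ in
theorem Tq_coeff (q : ℕ) (f : MvPowerSeries σ k) (μ : σ →₀ ℕ) :
    coeff μ (Tq (δ := δ) (fun i => (X i : MvPowerSeries σ k))
      (Pi.basisFun (MvPowerSeries σ k) σ) q f) =
      ((∑ i, μ i : ℕ) + q : k) * coeff μ f := by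
  rw [Tq, euler, Module.Basis.constr_apply_fintype]
  simp only [Pi.basisFun_equivFun, LinearEquiv.refl_apply, smul_eq_mul, hδ]
  rw [map_add, map_sum]
  simp only [coeff_pderiv_mul_X]
  rw [← Finset.sum_mul, add_mul, Nat.cast_sum]
  congr 1
  rw [← map_natCast (C (σ := σ) (R := k)), coeff_C_mul]

include hδ in
theorem Tq_bijective (q : ℕ) (hq : 1 ≤ q) :
    Function.Bijective (Tq (δ := δ) (fun i => (X i : MvPowerSeries σ k))
      (Pi.basisFun (MvPowerSeries σ k) σ) q) := by
  have hne : ∀ μ : σ →₀ ℕ, ((∑ i, μ i : ℕ) + q : k) ≠ 0 := by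
    intro μ
    rw [← Nat.cast_add, Nat.cast_ne_zero]
    omega
  constructor
  · intro f g hfg
    ext μ
    have := congrArg (coeff μ) hfg
    rw [Tq_coeff δ hδ, Tq_coeff δ hδ] at this
    exact mul_left_cancel₀ (hne μ) this
  · intro g
    refine ⟨fun μ => coeff μ g / ((∑ i, μ i : ℕ) + q : k), ?_⟩
    ext μ
    rw [Tq_coeff δ hδ]
    change _ * (coeff μ g / _) = _
    rw [mul_div_cancel₀ _ (hne μ)]

include hδ in
theorem main (d : ∀ p : ℕ, ↥(⋀[MvPowerSeries σ k]^p (σ → MvPowerSeries σ k)) →ₗ[k]
      ↥(⋀[MvPowerSeries σ k]^(p + 1) (σ → MvPowerSeries σ k)))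
    (hd : DeRham.IsDiff δ d) (p : ℕ) :
    DeRham.cocycles d (p + 1) ≤ DeRham.coboundaries d (p + 1) := by
  classical
  letI : LinearOrder σ := linearOrderOfSTO WellOrderingRel
  have hb : ∀ i, (Pi.basisFun (MvPowerSeries σ k) σ) i = δ (X i : MvPowerSeries σ k) := by
    intro i
    funext j
    rw [hδ, Pi.basisFun_apply, pderiv_X]
    by_cases h : j = i
    · subst h; simp
    · rw [Pi.single_eq_of_ne h, Pi.single_eq_of_ne (Ne.symm h)]
  exact poincare_family (datumOfBasis _ _ hb d hd.1) _ _ hb (Tq_bijective δ hδ) d hd.1 p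

end Groth.Agent.Helper7.DRP4
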