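import Mathlib
import Groth.Prelude.Def_DeRham
import Groth.Agent.Helper7.DRP3
import Groth.Agent.Helper7.DRExt3
import Groth.Agent.Helper7.DRExt6

set_option linter.style.haveILetI false
set_option linter.unusedSectionVars false

/-! The Poincaré lemma for polynomial rings in characteristic zero. -/

namespace Groth.Agent.Helper7.DRP5

open exteriorPower DeRham Groth.Agent.Helper7.DRG MvPolynomial KaehlerDifferential

universe u

variable (k : Type u) [Field k] [CharZero k] (n : ℕ)

theorem coeff_pderiv_mul_X (f : MvPolynomial (Fin n) k) (i : Fin n) (μ : Fin n →₀ ℕ) :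
    coeff μ (pderiv i f * X i) = (μ i : k) * coeff μ f := by
  classical
  rw [coeff_mul_X']
  split_ifs with h
  · have h1 : 1 ≤ μ i := by
      rw [Finsupp.mem_support_iff] at h
      omega
    have hle : Finsupp.single i 1 ≤ μ := by
      rw [Finsupp.single_le_iff]
      exact h1
    rw [coeff_pderiv, tsub_add_cancel_of_le hle, Finsupp.tsub_apply,
      Finsupp.single_eq_same, mul_comm]
    congr 1
    have h2 : μ i - 1 + 1 = μ i := Nat.sub_add_cancel h1
    exact_mod_cast congrArg (Nat.cast (R := k)) h2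
  · have h1 : μ i = 0 := by
      rw [Finsupp.mem_support_iff, not_not] at h
      exact h
    rw [h1, Nat.cast_zero, zero_mul]

theorem Tq_coeff (q : ℕ) (f : MvPolynomial (Fin n) k) (μ : Fin n →₀ ℕ) :
    coeff μ (Tq (δ := D k (MvPolynomial (Fin n) k)) (fun i => (X i : MvPolynomial (Fin n) k))
      (mvPolynomialBasis k (Fin n)) q f) =
      ((∑ i, μ i : ℕ) + q : k) * coeff μ f := by
  rw [Tq, euler, Module.Basis.constr_apply_fintype]
  simp only [Module.Basis.equivFun_apply, mvPolynomialBasis_repr_apply, smul_eq_mul]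
  rw [coeff_add, coeff_sum]
  simp only [coeff_pderiv_mul_X]
  rw [← Finset.sum_mul, add_mul, Nat.cast_sum]
  congr 1
  rw [← map_natCast (C (σ := Fin n) (R := k)), coeff_C_mul]

theorem Tq_bijective (q : ℕ) (hq : 1 ≤ q) :
    Function.Bijective (Tq (δ := D k (MvPolynomial (Fin n) k))
      (fun i => (X i : MvPolynomial (Fin n) k)) (mvPolynomialBasis k (Fin n)) q) := by
  classical
  have hne : ∀ μ : Fin n →₀ ℕ, ((∑ i, μ i : ℕ) + q : k) ≠ 0 := by
    intro μ
    rw [← Nat.cast_add, Nat.cast_ne_zero]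
    omega
  constructor
  · intro f g hfg
    ext μ
    have := congrArg (coeff μ) hfg
    rw [Tq_coeff, Tq_coeff] at this
    exact mul_left_cancel₀ (hne μ) this
  · intro g
    refine ⟨∑ μ ∈ g.support, monomial μ (coeff μ g / ((∑ i, μ i : ℕ) + q : k)), ?_⟩
    ext ν
    rw [Tq_coeff, coeff_sum]
    simp only [coeff_monomial]
    rw [Finset.sum_ite_eq']
    split_ifs with h
    · rw [mul_div_cancel₀ _ (hne ν)]
    · rw [mul_zero]
      rw [mem_support_iff, not_not] at h
      exact h.symm

theorem const_of_D_eq_zero (a : MvPolynomial (Fin n) k) (ha : D k (MvPolynomial (Fin n) k) a = 0) :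
    ∃ c : k, a = C c := by
  classical
  refine ⟨coeff 0 a, ?_⟩
  ext μ
  rw [coeff_C]
  split_ifs with h
  · rw [h]
  · have hex : ∃ i, μ i ≠ 0 := by
      by_contra hcon
      push Not at hcon
      exact h (Finsupp.ext fun i => (hcon i).symm ▸ rfl)
    obtain ⟨i, hi⟩ := hex
    have h1 : pderiv i a = 0 := by
      rw [← mvPolynomialBasis_repr_apply, ha, map_zero, Finsupp.zero_apply]
    have h2 := coeff_pderiv_mul_X k n a i μ
    rw [h1, zero_mul, coeff_zero] at h2
    have h3 : (μ i : k) ≠ 0 := Nat.cast_ne_zero.2 hi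
    exact (mul_eq_zero.1 h2.symm).resolve_left h3

/-- The two constructions of the de Rham differential agree. -/
theorem dAdd_eq (R A : Type u) [CommRing R] [CommRing A] [Algebra R A] :
    DRG.dAdd (kDatum R A) = Groth.Agent.Helper7.DRExt.dAdd R A :=
  Groth.Agent.Helper7.DRExt.dAdd_unique R A (DRG.dAdd (kDatum R A))
    (fun a => DRG.dAdd_algebraMap (kDatum R A) a)
    (fun x => DRG.dAdd_dAdd (kDatum R A) x)
    (fun _ _ x y _ _ => DRG.dAdd_mul (kDatum R A) x y)

theorem main
    (d : ExteriorAlgebra (MvPolynomial (Fin n) k) (KaehlerDifferential k (MvPolynomial (Fin n) k)) →ₗ[k]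
      ExteriorAlgebra (MvPolynomial (Fin n) k) (KaehlerDifferential k (MvPolynomial (Fin n) k)))
    (h0 : ∀ a : MvPolynomial (Fin n) k,
      d (algebraMap (MvPolynomial (Fin n) k) _ a) =
        ExteriorAlgebra.ι (MvPolynomial (Fin n) k) (KaehlerDifferential.D k (MvPolynomial (Fin n) k) a))
    (hder : ∀ (p : ℕ) (ω η : ExteriorAlgebra (MvPolynomial (Fin n) k) (KaehlerDifferential k (MvPolynomial (Fin n) k))),
      ω ∈ ExteriorAlgebra.exteriorPower (MvPolynomial (Fin n) k) p (KaehlerDifferential k (MvPolynomial (Fin n) k)) →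
        d (ω * η) = d ω * η + (-1) ^ p * ω * d η)
    (hdd : ∀ ω, d (d ω) = 0) :
    (∀ a : MvPolynomial (Fin n) k, d (algebraMap (MvPolynomial (Fin n) k) _ a) = 0 →
        ∃ c : k, a = MvPolynomial.C c) ∧
    ∀ (p : ℕ) (ω : ExteriorAlgebra (MvPolynomial (Fin n) k) (KaehlerDifferential k (MvPolynomial (Fin n) k))),
      ω ∈ ExteriorAlgebra.exteriorPower (MvPolynomial (Fin n) k) (p + 1) (KaehlerDifferential k (MvPolynomial (Fin n) k)) →
        d ω = 0 →
          ∃ θ ∈ ExteriorAlgebra.exteriorPower (MvPolynomial (Fin n) k) p (KaehlerDifferential k (MvPolynomial (Fin n) k)),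
            d θ = ω := by
  have hd : ∀ x, d x = DRG.dAdd (kDatum k (MvPolynomial (Fin n) k)) x := by
    have key := Groth.Agent.Helper7.DRExt.dAdd_unique k (MvPolynomial (Fin n) k) d.toAddMonoidHom
      h0 hdd (fun p q x y hx _ => by
        rw [Groth.Agent.Helper7.DRExt.inv_of_mem k (MvPolynomial (Fin n) k) hx]
        exact hder p x y hx)
    intro x
    rw [dAdd_eq, ← key]
    rfl
  refine ⟨fun a ha => ?_, fun p ω hω hdω => ?_⟩
  · rw [h0, ExteriorAlgebra.ι_eq_zero_iff] at ha
    exact const_of_D_eq_zero k n a ha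
  · rw [hd] at hdω
    obtain ⟨θ, hθ⟩ := poincare (kDatum k (MvPolynomial (Fin n) k))
      (fun i => (X i : MvPolynomial (Fin n) k)) (mvPolynomialBasis k (Fin n))
      (fun i => mvPolynomialBasis_apply k (Fin n) i) (Tq_bijective k n) p ⟨ω, hω⟩ hdω
    exact ⟨θ.1, θ.2, by rw [hd]; exact hθ⟩

end Groth.Agent.Helper7.DRP5
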