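import Mathlib
import Groth.Prelude.Def_W4c5grrsingularflatDSeq

/-!
# d-sequences: general lemmas (helper7)
prime avoidance with two extra ideals, an exchange lemma for generators in a local ring,
a height step, irredundancy by counting, the d-sequence colon condition from regularity.
-/

set_option autoImplicit false
set_option linter.unusedSectionVars false
set_option linter.style.haveILetI false

namespace Groth.Agent.Helper7.DSeq

open IsLocalRing

universe u

variable {R : Type u} [CommRing R]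

/-- prime avoidance with two arbitrary ideals and finitely many primes -/
theorem exists_avoid (p J₁ J₂ : Ideal R) (S : Set (Ideal R)) (hS : S.Finite)
    (hSp : ∀ q ∈ S, q.IsPrime) (h1 : ¬ p ≤ J₁) (h2 : ¬ p ≤ J₂) (h3 : ∀ q ∈ S, ¬ p ≤ q) :
    ∃ x ∈ p, x ∉ J₁ ∧ x ∉ J₂ ∧ ∀ q ∈ S, x ∉ q := by
  classical
  by_contra hcon
  push Not at hcon
  have hsub : (p : Set R) ⊆
      ⋃ P ∈ (↑(insert J₁ (insert J₂ hS.toFinset)) : Set (Ideal R)), ((id P : Ideal R) : Set R) := by
    intro z hz
    by_cases hz1 : z ∈ J₁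
    · exact Set.mem_iUnion₂.mpr ⟨J₁, by simp, hz1⟩
    by_cases hz2 : z ∈ J₂
    · exact Set.mem_iUnion₂.mpr ⟨J₂, by simp, hz2⟩
    obtain ⟨q, hq, hzq⟩ := hcon z hz hz1 hz2
    exact Set.mem_iUnion₂.mpr ⟨q, by simp [hq], hzq⟩
  rw [Ideal.subset_union_prime J₁ J₂] at hsub
  · obtain ⟨P, hP, hpP⟩ := hsub
    simp only [Finset.mem_insert, Set.Finite.mem_toFinset] at hP
    rcases hP with rfl | rfl | hP
    · exact h1 hpP
    · exact h2 hpP
    · exact h3 P hP hpP
  · intro P hP hP1 hP2
    simp only [Finset.mem_insert, Set.Finite.mem_toFinset] at hP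
    rcases hP with rfl | rfl | hP
    · exact absurd rfl hP1
    · exact absurd rfl hP2
    · exact hSp P hP

/-- exchange lemma: in a local ring, an element of `P = I + (zs)` outside `I + 𝔪P` can replace
one of the `zs` -/
theorem exchange [IsLocalRing R] (P I : Ideal R) (hIP : I ≤ P) (r : ℕ) (zs : Fin (r + 1) → R)
    (hP : P = I ⊔ Ideal.span (Set.range zs)) (x : R) (hx : x ∈ P)
    (hx' : x ∉ I ⊔ maximalIdeal R * P) :
    ∃ zs' : Fin r → R, P = I ⊔ Ideal.span {x} ⊔ Ideal.span (Set.range zs') := by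
  classical
  have hzsP : ∀ l, zs l ∈ P := by
    intro l
    rw [hP]
    exact Ideal.mem_sup_right (Ideal.subset_span ⟨l, rfl⟩)
  have hx2 := hx
  rw [hP, Submodule.mem_sup] at hx2
  obtain ⟨a, ha, b, hb, hab⟩ := hx2
  obtain ⟨c, hc⟩ := (Ideal.mem_span_range_iff_exists_fun).1 hb
  obtain ⟨l, hl⟩ : ∃ l, c l ∉ maximalIdeal R := by
    by_contra hcon
    push Not at hcon
    apply hx'
    rw [← hab]
    refine Submodule.add_mem_sup ha ?_
    rw [← hc]
    exact Ideal.sum_mem _ fun l _ => Ideal.mul_mem_mul (hcon l) (hzsP l)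
  have hu : IsUnit (c l) := by
    rwa [mem_maximalIdeal, mem_nonunits_iff, not_not] at hl
  refine ⟨zs ∘ l.succAbove, ?_⟩
  set Q := I ⊔ Ideal.span {x} ⊔ Ideal.span (Set.range (zs ∘ l.succAbove)) with hQ
  have hIQ : I ≤ Q := le_sup_of_le_left le_sup_left
  have hxQ : x ∈ Q := Ideal.mem_sup_left (Ideal.mem_sup_right (Ideal.subset_span rfl))
  have hzQ : ∀ j, zs (l.succAbove j) ∈ Q := fun j =>
    Ideal.mem_sup_right (Ideal.subset_span ⟨j, rfl⟩)
  apply le_antisymm
  · rw [hP]
    refine sup_le hIQ ?_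
    rw [Ideal.span_le]
    rintro _ ⟨j, rfl⟩
    rcases Fin.eq_self_or_eq_succAbove l j with rfl | ⟨j', rfl⟩
    · -- `c l * zs l = x - a - Σ ...`
      have h1 : c j * zs j = x - a - ∑ j', c (j.succAbove j') * zs (j.succAbove j') := by
        rw [Fin.sum_univ_succAbove _ j] at hc
        rw [← hab, ← hc]
        ring
      have h2 : c j * zs j ∈ Q := by
        rw [h1]
        refine Q.sub_mem (Q.sub_mem hxQ (hIQ ha)) ?_
        exact Ideal.sum_mem _ fun j' _ => Ideal.mul_mem_left _ _ (hzQ j')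
      exact (Ideal.unit_mul_mem_iff_mem _ hu).1 h2
    · exact hzQ j'
  · refine sup_le (sup_le hIP ?_) ?_
    · rw [Ideal.span_le]
      rintro _ rfl
      exact hx
    · rw [Ideal.span_le]
      rintro _ ⟨j, rfl⟩
      exact hzsP _

/-- adding an element avoiding all minimal primes raises the height -/
theorem height_step [IsNoetherianRing R] (I : Ideal R) (x : R) (i : ℕ)
    (hI : (i : ℕ∞) ≤ I.height) (hx : ∀ q ∈ I.minimalPrimes, x ∉ q) :
    ((i + 1 : ℕ) : ℕ∞) ≤ (I ⊔ Ideal.span {x}).height := by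
  rw [Ideal.height_eq_inf_minimalPrimes]
  refine le_iInf₂ fun Q hQ => ?_
  haveI := hQ.1.1
  have hIQ : I ≤ Q := le_sup_left.trans hQ.1.2
  have hxQ : x ∈ Q := hQ.1.2 (Ideal.mem_sup_right (Ideal.subset_span rfl))
  obtain ⟨Q', hQ', hQ'Q⟩ := Ideal.exists_minimalPrimes_le hIQ
  haveI := hQ'.1.1
  have hlt : Q' < Q := lt_of_le_of_ne hQ'Q (fun h => hx Q' hQ' (h ▸ hxQ))
  have h1 : Q'.height < Q.height := Ideal.height_strict_mono_of_isPrime hlt
  have h2 : (i : ℕ∞) ≤ Q'.height := by
    rw [Ideal.height_eq_inf_minimalPrimes] at hI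
    exact hI.trans (iInf₂_le Q' hQ')
  calc ((i + 1 : ℕ) : ℕ∞) = (i : ℕ∞) + 1 := by push_cast; rfl
    _ ≤ Q'.height + 1 := by gcongr
    _ ≤ Q.height := Order.add_one_le_of_lt h1

/-- a generating list of minimal length is irredundant -/
theorem irredundant (ts : List R) (h : ts.length ≤ (Ideal.ofList ts).spanFinrank)
    (i : Fin ts.length) :
    ts[i] ∉ Ideal.span
      (Set.range fun j : {j : Fin ts.length // j ≠ i} => ts[(j : Fin ts.length)]) := by
  classical
  intro hi
  set g := fun j : {j : Fin ts.length // j ≠ i} => ts[(j : Fin ts.length)] with hg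
  have heq : Ideal.ofList ts = Ideal.span (Set.range g) := by
    apply le_antisymm
    · rw [Ideal.ofList, Ideal.span_le]
      intro t ht
      obtain ⟨j, hj, rfl⟩ := List.mem_iff_getElem.1 ht
      by_cases hji : (⟨j, hj⟩ : Fin ts.length) = i
      · subst hji
        exact hi
      · exact Ideal.subset_span ⟨⟨⟨j, hj⟩, hji⟩, rfl⟩
    · rw [Ideal.span_le]
      rintro _ ⟨j, rfl⟩
      exact Ideal.subset_span (List.getElem_mem _)
  have h1 : (Ideal.span (Set.range g)).spanFinrank ≤ (Set.range g).ncard :=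
    Submodule.spanFinrank_span_le_ncard_of_finite (Set.finite_range g)
  have h2 : (Set.range g).ncard ≤ Fintype.card {j : Fin ts.length // j ≠ i} := by
    rw [← Set.image_univ, ← Nat.card_eq_fintype_card, ← Set.ncard_univ]
    exact Set.ncard_image_le (Set.finite_univ)
  have h3 : Fintype.card {j : Fin ts.length // j ≠ i} = ts.length - 1 := by
    rw [Fintype.card_subtype_compl, Fintype.card_subtype_eq, Fintype.card_fin]
  rw [heq] at h
  have : 0 < ts.length := i.pos
  omega

open RingTheory.Sequence in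
/-- the colon condition of a d-sequence at a position inside a weakly regular prefix -/
theorem colon_eq_of_regular (xs tl : List R) (hreg : IsWeaklyRegular R xs) (i k : ℕ)
    (hi : i < xs.length) (hk : k < (xs ++ tl).length) (hik : i ≤ k) :
    (Ideal.ofList ((xs ++ tl).take i)).colon
        {(xs ++ tl)[k] * (xs ++ tl)[i]'(Nat.lt_of_le_of_lt hik hk)} =
      (Ideal.ofList ((xs ++ tl).take i)).colon {(xs ++ tl)[k]} := by
  have h1 : (xs ++ tl).take i = xs.take i := List.take_append_of_le_length hi.le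
  have h2 : (xs ++ tl)[i]'(Nat.lt_of_le_of_lt hik hk) = xs[i] := List.getElem_append_left hi
  rw [h1, h2]
  have hr := hreg.regular_mod_prev i hi
  rw [isSMulRegular_quotient_iff_mem_of_smul_mem] at hr
  ext y
  rw [Submodule.mem_colon_singleton, Submodule.mem_colon_singleton]
  constructor
  · intro hy
    have := hr (y • (xs ++ tl)[k]) (by
      rw [smul_eq_mul, Ideal.mul_top, smul_eq_mul, smul_eq_mul]
      rw [smul_eq_mul] at hy
      convert hy using 1
      ring)
    rwa [smul_eq_mul, Ideal.mul_top] at this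
  · intro hy
    rw [smul_eq_mul] at hy ⊢
    rw [← mul_assoc]
    exact Ideal.mul_mem_right _ _ hy

end Groth.Agent.Helper7.DSeq
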