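import Mathlib
import Groth.Prelude.Def_CAlg
import Groth.Prelude.Def_W4c5grrsingularflatDSeq
import Groth.Agent.Helper7.DSeq1
import Groth.Agent.Helper6.CINormal
import Groth.Agent.Helper6.CMCaten
import Groth.Agent.Helper2.DepthCM2

/-!
# d-sequences: the key colon step in a Cohen–Macaulay local ring (helper7)
-/

set_option autoImplicit false
set_option linter.unusedSectionVars false
set_option linter.style.haveILetI false

namespace Groth.Agent.Helper7.DSeq

open IsLocalRing RingTheory.Sequence Module

universe u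

variable {T : Type u} [CommRing T] [hT : LocCoh.IsCohenMacaulayLocalRing T]

theorem spanFinrank_ofList_le {R : Type u} [CommRing R] (xs : List R) :
    (Ideal.ofList xs).spanFinrank ≤ xs.length := by
  classical
  have h1 : {x | x ∈ xs} = (↑xs.toFinset : Set R) := by
    ext x; simp
  rw [Ideal.ofList, h1]
  refine (Submodule.spanFinrank_span_le_ncard_of_finite (Finset.finite_toSet _)).trans ?_
  rw [Set.ncard_coe_finset]
  exact List.toFinset_card_le xs

/-- generation by a list whose ideal has height at least its length gives a regular sequence -/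
theorem weaklyRegular_of_height (xs : List T) (hmem : ∀ x ∈ xs, x ∈ maximalIdeal T)
    (hht : (xs.length : ℕ∞) ≤ (Ideal.ofList xs).height) : IsWeaklyRegular T xs := by
  haveI : IsNoetherianRing T := hT.toIsNoetherian
  haveI : IsLocalRing T := hT.toIsLocalRing
  obtain ⟨hdrop, -⟩ :=
    Groth.Agent.Helper6.CINormal.cm_quot_of_height hT.supportDim_eq_depth xs hmem hht
  exact Groth.Agent.Helper2.DepthCM2.weaklyRegular_of_dim_drop xs T hT.supportDim_eq_depth
    hmem hdrop

/-- the key step: `(I : z²) = (I : z)` when `p = I + (z)` has the height of the regular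
sequence generating `I` and `I` equals `p` locally at `p` -/
theorem key_step (p : Ideal T) [hpp : p.IsPrime] (xs : List T)
    (hmem : ∀ x ∈ xs, x ∈ maximalIdeal T)
    (hht : (xs.length : ℕ∞) ≤ (Ideal.ofList xs).height)
    (hp : p.height = xs.length) (z s : T)
    (hpz : p = Ideal.ofList xs ⊔ Ideal.span {z}) (hs : s ∉ p)
    (hsz : s * z ∈ Ideal.ofList xs) (y : T) (hy : y * (z * z) ∈ Ideal.ofList xs) :
    y * z ∈ Ideal.ofList xs := by
  haveI : IsNoetherianRing T := hT.toIsNoetherian
  haveI : IsLocalRing T := hT.toIsLocalRing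
  by_contra hyz
  set I := Ideal.ofList xs with hI
  have hItop : (I • (⊤ : Submodule T T)) = I := by rw [smul_eq_mul, Ideal.mul_top]
  set e : T ⧸ (I • (⊤ : Submodule T T)) := Submodule.Quotient.mk (y * z) with he
  have hmk : ∀ a : T, (Submodule.Quotient.mk a : T ⧸ (I • (⊤ : Submodule T T))) = 0 ↔ a ∈ I := by
    intro a
    rw [Submodule.Quotient.mk_eq_zero, hItop]
  have he0 : e ≠ 0 := fun h => hyz ((hmk _).1 h)
  obtain ⟨q, hq, hle⟩ := exists_le_isAssociatedPrime_of_isNoetherianRing T e he0
  haveI hqp : q.IsPrime := hq.isPrime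
  have hcol : ∀ a : T, a * (y * z) ∈ I → a ∈ q := by
    intro a ha
    apply hle
    rw [Submodule.mem_colon_singleton, Submodule.mem_bot, he, ← Submodule.Quotient.mk_smul,
      smul_eq_mul]
    exact (hmk _).2 ha
  have hIq : I ≤ q := fun a ha => hcol a (I.mul_mem_right _ ha)
  have hzq : z ∈ q := hcol z (by convert hy using 1; ring)
  have hsq : s ∈ q := hcol s (by
    have : s * (y * z) = y * (s * z) := by ring
    rw [this]
    exact I.mul_mem_left _ hsz)
  have hpq : p ≤ q := by
    rw [hpz]
    refine sup_le hIq ?_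
    rw [Ideal.span_le]
    rintro _ rfl
    exact hzq
  -- heights
  obtain ⟨hdrop, hCMq⟩ :=
    Groth.Agent.Helper6.CINormal.cm_quot_of_height hT.supportDim_eq_depth xs hmem hht
  obtain ⟨d, -, hd⟩ := Groth.Agent.Helper2.DepthCM2.cm_exists_nat hCMq
  have h1 := Groth.Agent.Helper2.DepthCM2.cm_dim_quot_ass _ hCMq q hq
  have h2 := Groth.Agent.Helper6.CMCaten.dim_eq (Groth.Agent.Helper6.CMCaten.hasCMFull_of_cm T)
    ⟨q, hqp⟩
  rw [Module.supportDim_self_eq_ringKrullDim, hd] at hdrop
  rw [h1, hd, ← hdrop] at h2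
  obtain ⟨m, hm⟩ := ENat.ne_top_iff_exists.1 (Ideal.height_ne_top_of_isPrime (I := q))
  have hm' : (⟨q, hqp⟩ : PrimeSpectrum T).asIdeal.height = (m : ℕ∞) := hm.symm
  rw [hm'] at h2
  have h3 : d + xs.length = d + m := by exact_mod_cast h2
  have h4 : q.height = xs.length := by
    rw [← hm]
    have : m = xs.length := by omega
    rw [this]
  have hpq' : p = q := by
    by_contra hne
    have hlt : p < q := lt_of_le_of_ne hpq hne
    have := Ideal.height_strict_mono_of_isPrime hlt
    rw [hp, h4] at this
    exact lt_irrefl _ this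
  exact hs (hpq' ▸ hsq)

end Groth.Agent.Helper7.DSeq
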