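import Mathlib
import Groth.Prelude.Def_CAlg
import Groth.Prelude.Def_W4c5grrsingularflatDSeq
import Groth.Agent.Helper7.DSeq2

/-!
# Huneke: almost complete intersection primes which are locally regular are generated by
d-sequences (helper7)
-/

set_option autoImplicit false
set_option linter.unusedSectionVars false
set_option linter.style.haveILetI false

namespace Groth.Agent.Helper7.DSeq

open IsLocalRing RingTheory.Sequence Module

universe u

theorem exists_fin_of_finset {R : Type u} (s : Finset R) :
    ∃ g : Fin s.card → R, Set.range g = (s : Set R) := by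
  refine ⟨fun j => (s.equivFin.symm j : R), ?_⟩
  ext x
  constructor
  · rintro ⟨j, rfl⟩
    exact (s.equivFin.symm j).2
  · intro hx
    exact ⟨s.equivFin ⟨x, hx⟩, by simp⟩

variable {T : Type u} [CommRing T] [hT : LocCoh.IsCohenMacaulayLocalRing T]

/-- the inductive construction -/
theorem construction (p : Ideal T) [hpp : p.IsPrime] (n : ℕ) (hn : p.height = n)
    (hμ : p.spanFinrank = n + 1) [hreg : IsRegularLocalRing (Localization.AtPrime p)]
    (i : ℕ) (hi : i ≤ n) :
    ∃ xs : List T, xs.length = i ∧ (∀ x ∈ xs, x ∈ p) ∧ (i : ℕ∞) ≤ (Ideal.ofList xs).height ∧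
      (∃ (r : ℕ) (zs : Fin r → T), r + i = n + 1 ∧
        p = Ideal.ofList xs ⊔ Ideal.span (Set.range zs)) ∧
      (∃ (r : ℕ) (ws : Fin r → Localization.AtPrime p), r + i = n ∧
        maximalIdeal (Localization.AtPrime p) =
          (Ideal.ofList xs).map (algebraMap T (Localization.AtPrime p)) ⊔
            Ideal.span (Set.range ws)) := by
  classical
  haveI : IsNoetherianRing T := hT.toIsNoetherian
  haveI : IsLocalRing T := hT.toIsLocalRing
  set Ap := Localization.AtPrime p with hAp
  set f := algebraMap T Ap with hf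
  set M := maximalIdeal Ap with hM
  have hMmap : p.map f = M := Localization.AtPrime.map_eq_maximalIdeal
  have hMht : M.height = n := by
    have h1 : ((M.height : ℕ∞) : WithBot ℕ∞) = ((p.height : ℕ∞) : WithBot ℕ∞) := by
      rw [IsLocalRing.maximalIdeal_height_eq_ringKrullDim,
        IsLocalization.AtPrime.ringKrullDim_eq_height p Ap]
    rw [← hn]
    exact_mod_cast h1
  induction i with
  | zero =>
    refine ⟨[], rfl, by simp, by simp, ?_, ?_⟩
    · obtain ⟨s, hcard, hspan⟩ :=
        Submodule.FG.exists_span_finset_card_eq_spanFinrank (IsNoetherian.noetherian p)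
      obtain ⟨g, hg⟩ := exists_fin_of_finset s
      refine ⟨s.card, g, by omega, ?_⟩
      rw [Ideal.ofList_nil, bot_sup_eq, hg]
      exact hspan.symm
    · obtain ⟨s, hcard, hspan⟩ :=
        Submodule.FG.exists_span_finset_card_eq_spanFinrank (IsNoetherian.noetherian M)
      obtain ⟨g, hg⟩ := exists_fin_of_finset s
      have hsf : (M.spanFinrank : WithBot ℕ∞) = ringKrullDim Ap := hreg.spanFinrank_maximalIdeal
      have hcard' : s.card = n := by
        rw [hcard]
        rw [← IsLocalRing.maximalIdeal_height_eq_ringKrullDim, hMht] at hsf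
        exact_mod_cast hsf
      refine ⟨s.card, g, by omega, ?_⟩
      rw [Ideal.ofList_nil, Ideal.map_bot, bot_sup_eq, hg]
      exact hspan.symm
  | succ i ih =>
    obtain ⟨xs, hlen, hxsp, hht, ⟨r, zs, hr, hpz⟩, ⟨r₂, ws, hr₂, hMw⟩⟩ := ih (by omega)
    set I := Ideal.ofList xs with hI
    have hIp : I ≤ p := by
      rw [hI, Ideal.ofList, Ideal.span_le]
      exact fun x hx => hxsp x hx
    have hIfr : I.spanFinrank ≤ i := hlen ▸ spanFinrank_ofList_le xs
    -- avoidance
    have h1 : ¬ p ≤ I ⊔ maximalIdeal T * p := by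
      intro hle
      have h2 : p ≤ I := Submodule.le_of_le_smul_of_le_jacobson_bot (IsNoetherian.noetherian p)
        (IsLocalRing.maximalIdeal_le_jacobson ⊥) hle
      have h3 : p = I := le_antisymm h2 hIp
      rw [h3] at hμ
      omega
    have h2 : ¬ p ≤ (I.map f ⊔ M * M).comap f := by
      intro hle
      rw [← Ideal.map_le_iff_le_comap, hMmap] at hle
      have h3 : M ≤ I.map f := Submodule.le_of_le_smul_of_le_jacobson_bot
        (IsNoetherian.noetherian M) (IsLocalRing.maximalIdeal_le_jacobson ⊥) hle
      have h4 : M = I.map f := le_antisymm h3 (hMmap ▸ Ideal.map_mono hIp)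
      have h5 : M.height ≤ (I.map f).spanFinrank := by
        rw [← h4]
        exact Ideal.height_le_spanFinrank M (Ideal.IsPrime.ne_top inferInstance)
      have h6 : (I.map f).spanFinrank ≤ i := by
        rw [hI, Ideal.map_ofList]
        refine (spanFinrank_ofList_le _).trans ?_
        rw [List.length_map, hlen]
      rw [hMht] at h5
      have h7 : (n : ℕ∞) ≤ (i : ℕ∞) := h5.trans (by exact_mod_cast h6)
      have : n ≤ i := by exact_mod_cast h7
      omega
    have h3 : ∀ q ∈ I.minimalPrimes, ¬ p ≤ q := by
      intro q hq hle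
      have h4 : q.height ≤ ({x | x ∈ xs} : Set T).ncard :=
        Ideal.height_le_card_of_mem_minimalPrimes_span (List.finite_toSet xs) hq
      have h5 : ({x | x ∈ xs} : Set T).ncard ≤ i := by
        have e : {x | x ∈ xs} = (↑xs.toFinset : Set T) := by ext x; simp
        rw [e, Set.ncard_coe_finset, ← hlen]
        exact List.toFinset_card_le xs
      have h6 : p.height ≤ q.height := Ideal.height_mono hle
      rw [hn] at h6
      have h7 : (n : ℕ∞) ≤ (i : ℕ∞) := h6.trans (h4.trans (by exact_mod_cast h5))
      have : n ≤ i := by exact_mod_cast h7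
      omega
    obtain ⟨x, hxp, hx1, hx2, hx3⟩ := exists_avoid p _ _ I.minimalPrimes
      (Ideal.finite_minimalPrimes_of_isNoetherianRing T I) (fun q hq => hq.1.1) h1 h2 h3
    have hof : Ideal.ofList (xs ++ [x]) = I ⊔ Ideal.span {x} := by
      rw [Ideal.ofList_append, Ideal.ofList_singleton]
    refine ⟨xs ++ [x], by rw [List.length_append, hlen]; rfl, ?_, ?_, ?_, ?_⟩
    · intro y hy
      rcases List.mem_append.1 hy with h | h
      · exact hxsp y h
      · rw [List.mem_singleton] at h; rw [h]; exact hxp
    · rw [hof]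
      exact height_step I x i hht hx3
    · obtain ⟨r', rfl⟩ : ∃ r', r = r' + 1 := ⟨r - 1, by omega⟩
      obtain ⟨zs', hzs'⟩ := exchange p I hIp r' zs hpz x hxp hx1
      exact ⟨r', zs', by omega, by rw [hof]; exact hzs'⟩
    · obtain ⟨r', rfl⟩ : ∃ r', r₂ = r' + 1 := ⟨r₂ - 1, by omega⟩
      have hfx : f x ∈ M := by
        rw [← hMmap]; exact Ideal.mem_map_of_mem f hxp
      have hfx' : f x ∉ I.map f ⊔ maximalIdeal Ap * M := fun h => hx2 (Ideal.mem_comap.2 h)
      obtain ⟨ws', hws'⟩ := exchange M (I.map f) (hMmap ▸ Ideal.map_mono hIp) r' ws hMw (f x)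
        hfx hfx'
      refine ⟨r', ws', by omega, ?_⟩
      rw [hof, Ideal.map_sup, Ideal.map_span f {x}, Set.image_singleton]
      exact hws'

end Groth.Agent.Helper7.DSeq
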