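import Mathlib
import Groth.Prelude.Def_CAlg
import Groth.Prelude.Def_W4c5grrsingularflatDSeq
import Groth.Agent.Helper7.DSeq3

/-!
# Huneke: main theorem (helper7)
-/

set_option autoImplicit false
set_option linter.unusedSectionVars false
set_option linter.style.haveILetI false

namespace Groth.Agent.Helper7.DSeq

open IsLocalRing RingTheory.Sequence Module

universe u

theorem main {T : Type u} [CommRing T] [hT : LocCoh.IsCohenMacaulayLocalRing T]
    (p : Ideal T) [hpp : p.IsPrime] (hgen : (Submodule.spanFinrank p : ℕ∞) ≤ p.height + 1)
    [IsRegularLocalRing (Localization.AtPrime p)] :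
    ∃ ts : List T, Ideal.ofList ts = p ∧ W4c5grrsingularflat.IsDSeq ts := by
  classical
  haveI : IsNoetherianRing T := hT.toIsNoetherian
  haveI : IsLocalRing T := hT.toIsLocalRing
  obtain ⟨n, hn⟩ := ENat.ne_top_iff_exists.1 (Ideal.height_ne_top_of_isPrime (I := p))
  have hpm : p ≤ maximalIdeal T := le_maximalIdeal hpp.ne_top
  by_cases hcase : p.spanFinrank ≤ n
  · -- complete intersection case
    obtain ⟨s, hcard, hspan⟩ :=
      Submodule.FG.exists_span_finset_card_eq_spanFinrank (IsNoetherian.noetherian p)
    set ts := s.toList with hts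
    have hof : Ideal.ofList ts = p := by
      rw [Ideal.ofList, ← hspan]
      congr 1
      ext x
      simp [hts]
    have hlen : ts.length = p.spanFinrank := by rw [hts, Finset.length_toList, hcard]
    have hht : (ts.length : ℕ∞) ≤ (Ideal.ofList ts).height := by
      rw [hof, ← hn, hlen]
      exact_mod_cast hcase
    have hmem : ∀ x ∈ ts, x ∈ maximalIdeal T := fun x hx =>
      hpm (hof ▸ Ideal.subset_span hx)
    have hreg := weaklyRegular_of_height ts hmem hht
    refine ⟨ts, hof, ?_, ?_⟩
    · intro i
      exact irredundant ts (by rw [hof, hlen]) i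
    · intro i k hk hik
      have h := colon_eq_of_regular ts [] hreg i k (by omega) (by simpa using hk) hik
      simpa using h
  · -- almost complete intersection case
    have hμ : p.spanFinrank = n + 1 := by
      have h1 : (p.spanFinrank : ℕ∞) ≤ ((n + 1 : ℕ) : ℕ∞) := by
        rw [← hn] at hgen
        exact_mod_cast hgen
      have h2 : p.spanFinrank ≤ n + 1 := by exact_mod_cast h1
      omega
    obtain ⟨xs, hlen, hxsp, hht, ⟨r, zs, hr, hpz⟩, ⟨r₂, ws, hr₂, hMw⟩⟩ :=
      construction p n hn.symm hμ n le_rfl
    have hr1 : r = 1 := by omega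
    have hr0 : r₂ = 0 := by omega
    subst hr1 hr0
    set z := zs 0 with hz
    have hrange : Set.range zs = {z} := by
      ext y
      simp only [Set.mem_range, Set.mem_singleton_iff]
      constructor
      · rintro ⟨j, rfl⟩
        rw [Subsingleton.elim j 0]
      · rintro rfl
        exact ⟨0, rfl⟩
    rw [hrange] at hpz
    have hws : Ideal.span (Set.range ws) = ⊥ := by
      rw [Set.range_eq_empty, Ideal.span_empty]
    rw [hws, sup_bot_eq] at hMw
    have hzp : z ∈ p := by
      rw [hpz]; exact Ideal.mem_sup_right (Ideal.subset_span rfl)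
    have hfz : algebraMap T (Localization.AtPrime p) z ∈
        (Ideal.ofList xs).map (algebraMap T (Localization.AtPrime p)) := by
      rw [← hMw, ← Localization.AtPrime.map_eq_maximalIdeal]
      exact Ideal.mem_map_of_mem _ hzp
    rw [IsLocalization.mem_map_algebraMap_iff p.primeCompl] at hfz
    obtain ⟨⟨⟨a, ha⟩, ⟨s, hs⟩⟩, has⟩ := hfz
    simp only at has
    rw [← map_mul, IsLocalization.eq_iff_exists p.primeCompl] at has
    obtain ⟨⟨t, ht⟩, hts⟩ := has
    simp only at hts
    have hs' : t * s ∉ p := fun h => (hpp.mem_or_mem h).elim ht hs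
    have hsz : (t * s) * z ∈ Ideal.ofList xs := by
      have : t * s * z = t * a := by rw [← hts]; ring
      rw [this]
      exact Ideal.mul_mem_left _ _ ha
    have hof : Ideal.ofList (xs ++ [z]) = p := by
      rw [Ideal.ofList_append, Ideal.ofList_singleton]
      exact hpz.symm
    have hmem : ∀ x ∈ xs, x ∈ maximalIdeal T := fun x hx => hpm (hxsp x hx)
    have hht' : (xs.length : ℕ∞) ≤ (Ideal.ofList xs).height := by rw [hlen]; exact hht
    have hreg := weaklyRegular_of_height xs hmem hht'
    have hpht : p.height = xs.length := by rw [hlen]; exact hn.symm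
    refine ⟨xs ++ [z], hof, ?_, ?_⟩
    · intro i
      exact irredundant (xs ++ [z]) (by rw [hof, hμ, List.length_append, hlen]; rfl) i
    · intro i k hk hik
      by_cases hin : i < xs.length
      · exact colon_eq_of_regular xs [z] hreg i k hin hk hik
      · have hk2 : k < xs.length + 1 := by simpa using hk
        obtain rfl : i = xs.length := by omega
        obtain rfl : k = xs.length := by omega
        have e1 : (xs ++ [z]).take xs.length = xs := List.take_left' rfl
        have e2 : (xs ++ [z])[xs.length]'hk = z := List.getElem_concat_length rfl _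
        rw [e1, e2]
        ext y
        rw [Submodule.mem_colon_singleton, Submodule.mem_colon_singleton, smul_eq_mul, smul_eq_mul]
        constructor
        · intro hy
          exact key_step p xs hmem hht' hpht z (t * s) hpz hs' hsz y hy
        · intro hy
          rw [← mul_assoc]
          exact Ideal.mul_mem_right _ _ hy

end Groth.Agent.Helper7.DSeq
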