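import Mathlib

/-!
# Adapted bases for submodules `ϖ M ⊆ P ⊆ M` over a PID

Helper library for S16417.
-/

namespace Groth.Agent.Helper7.DdHom

open Module

variable {R : Type*} [CommRing R] [IsDomain R] [IsPrincipalIdealRing R]
variable {M : Type*} [AddCommGroup M] [Module R M] [Module.Free R M] [Module.Finite R M]

/-- If `ϖ` is irreducible and `ϖ M ⊆ P ⊆ M` with `M` finite free over a PID, there is a basis
`b` of `M` and a set `d` of indices such that `P` is the set of vectors whose coordinates outside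
`d` are divisible by `ϖ`. -/
theorem exists_adapted_basis (ϖ : R) (hϖ : Irreducible ϖ) (P : Submodule R M)
    (hP : ∀ m : M, ϖ • m ∈ P) :
    ∃ (b : Basis (Free.ChooseBasisIndex R M) R M) (d : Free.ChooseBasisIndex R M → Prop),
      ∀ x : M, x ∈ P ↔ ∀ j, ¬ d j → ϖ ∣ b.repr x j := by
  classical
  obtain ⟨n, snf⟩ := Submodule.smithNormalForm (Free.chooseBasis R M) P
  have hsurj : Function.Surjective snf.f := by
    intro j
    by_contra hj
    have hj' : j ∉ Set.range snf.f := hj
    have h1 := snf.repr_eq_zero_of_notMem_range ⟨ϖ • snf.bM j, hP _⟩ hj'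
    simp at h1
    exact hϖ.ne_zero h1
  have hdiv : ∀ i, snf.a i ∣ ϖ := by
    intro i
    have h1 := snf.repr_apply_embedding_eq_repr_smul ⟨ϖ • snf.bM (snf.f i), hP _⟩ (i := i)
    have h2 : ∀ m : P, snf.bN.repr (snf.a i • m) i = snf.a i * snf.bN.repr m i := fun m => by
      rw [map_smul, Finsupp.smul_apply, smul_eq_mul]
    rw [h2] at h1
    simp at h1
    exact ⟨_, h1⟩
  have hmem : ∀ x : M, x ∈ P ↔ ∀ i, snf.a i ∣ snf.bM.repr x (snf.f i) := by
    intro x
    constructor
    · intro hx i
      have h1 := snf.repr_apply_embedding_eq_repr_smul ⟨x, hx⟩ (i := i)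
      have h2 : ∀ m : P, snf.bN.repr (snf.a i • m) i = snf.a i * snf.bN.repr m i := fun m => by
        rw [map_smul, Finsupp.smul_apply, smul_eq_mul]
      rw [h2] at h1
      exact ⟨_, h1⟩
    · intro hx
      rw [← snf.bM.sum_repr x]
      refine Submodule.sum_mem _ fun j _ => ?_
      obtain ⟨i, rfl⟩ := hsurj j
      obtain ⟨q, hq⟩ := hx i
      rw [hq, mul_comm, mul_smul, ← snf.snf]
      exact P.smul_mem _ (snf.bN i).2
  refine ⟨snf.bM, fun j => ∀ i, snf.f i = j → IsUnit (snf.a i), fun x => ?_⟩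
  rw [hmem]
  constructor
  · intro hx j hj
    push Not at hj
    obtain ⟨i, rfl, hi⟩ := hj
    obtain ⟨c, hc⟩ := hdiv i
    have hcu : IsUnit c := (hϖ.isUnit_or_isUnit hc).resolve_left hi
    have hass : Associated (snf.a i) ϖ := ⟨hcu.unit, by rw [hc]; rfl⟩
    exact hass.dvd_iff_dvd_left.mp (hx i)
  · intro hx i
    by_cases hi : IsUnit (snf.a i)
    · exact hi.dvd
    · refine (hdiv i).trans (hx _ ?_)
      intro h
      exact hi (h i rfl)

end Groth.Agent.Helper7.DdHom
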