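import Groth.Agent.Helper7.DdHomA

/-!
# Lifting maps and lengths of `Hom` quotients for `ϖ M ⊆ P ⊆ M` over a PID

Helper library for S16417.
-/

namespace Groth.Agent.Helper7.DdHom

open Module

variable {R : Type*} [CommRing R] [IsDomain R] [IsPrincipalIdealRing R]
variable {M : Type*} [AddCommGroup M] [Module R M] [Module.Free R M] [Module.Finite R M]
variable {N : Type*} [AddCommGroup N] [Module R N]

omit [IsDomain R] [IsPrincipalIdealRing R] [Module.Free R M] [Module.Finite R M] in
theorem basis_mem_of_adapted {ι : Type*} (ϖ : R) (P : Submodule R M) (b : Basis ι R M)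
    (d : ι → Prop) (hb : ∀ x : M, x ∈ P ↔ ∀ j, ¬ d j → ϖ ∣ b.repr x j) (j : ι) (hj : d j) :
    b j ∈ P := by
  classical
  rw [hb]
  intro i hi
  have hne : j ≠ i := fun h => hi (h ▸ hj)
  rw [b.repr_self, Finsupp.single_apply, if_neg hne]
  exact dvd_zero _

/-- Part (b): a linear map `P → N ⧸ Q` killing `ϖ M` is induced by a linear map `M → N`. -/
theorem exists_lift_of_vanish (ϖ : R) (hϖ : Irreducible ϖ) (P : Submodule R M)
    (hP : ∀ m : M, ϖ • m ∈ P) (Q : Submodule R N) (g : P →ₗ[R] N ⧸ Q)
    (hg : ∀ m : M, g ⟨ϖ • m, hP m⟩ = 0) :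
    ∃ h : M →ₗ[R] N, ∀ x : P, Q.mkQ (h x) = g x := by
  classical
  obtain ⟨b, d, hb⟩ := exists_adapted_basis ϖ hϖ P hP
  have hbP : ∀ j, d j → b j ∈ P := basis_mem_of_adapted ϖ P b d hb
  have hv : ∀ j, ∃ n : N, (∀ hd : d j, Q.mkQ n = g ⟨b j, hbP j hd⟩) ∧ (¬ d j → n = 0) := by
    intro j
    by_cases hd : d j
    · obtain ⟨n, hn⟩ := Q.mkQ_surjective (g ⟨b j, hbP j hd⟩)
      exact ⟨n, fun _ => hn, fun h => absurd hd h⟩
    · exact ⟨0, fun h => absurd h hd, fun _ => rfl⟩
  choose v hv1 hv0 using hv
  refine ⟨b.constr R v, ?_⟩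
  rintro ⟨x, hx⟩
  have key : ∀ j, ∃ hj : b.repr x j • b j ∈ P, g ⟨_, hj⟩ = b.repr x j • Q.mkQ (v j) := by
    intro j
    by_cases hd : d j
    · refine ⟨P.smul_mem _ (hbP j hd), ?_⟩
      rw [hv1 j hd, ← map_smul g]
      rfl
    · obtain ⟨c, hc⟩ := (hb x).mp hx j hd
      have h1 : b.repr x j • b j = ϖ • (c • b j) := by rw [hc, mul_smul]
      have h2 : b.repr x j • b j ∈ P := h1 ▸ hP _
      refine ⟨h2, ?_⟩
      rw [hv0 j hd, map_zero, smul_zero]
      have h3 : (⟨b.repr x j • b j, h2⟩ : P) = ⟨ϖ • (c • b j), hP _⟩ := Subtype.ext h1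
      rw [h3, hg]
  choose hk1 hk2 using key
  have hx' : (⟨x, hx⟩ : P) = ∑ j, ⟨b.repr x j • b j, hk1 j⟩ := by
    apply Subtype.ext
    rw [AddSubmonoidClass.coe_finsetSum]
    exact (b.sum_repr x).symm
  have hL : Q.mkQ (b.constr R v x) = ∑ j, b.repr x j • Q.mkQ (v j) := by
    rw [Basis.constr_apply_fintype, map_sum]
    refine Finset.sum_congr rfl fun j _ => ?_
    rw [map_smul, Basis.equivFun_apply]
  have hR : g ⟨x, hx⟩ = ∑ j, b.repr x j • Q.mkQ (v j) := by
    rw [hx', map_sum]
    exact Finset.sum_congr rfl fun j _ => hk2 j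
  exact hL.trans hR.symm

omit [IsDomain R] [IsPrincipalIdealRing R] in
theorem length_pi_quot {ι : Type*} [Fintype ι] [DecidableEq ι] {Ms : ι → Type*}
    [∀ i, AddCommGroup (Ms i)] [∀ i, Module R (Ms i)] (p : ∀ i, Submodule R (Ms i)) :
    Module.length R ((∀ i, Ms i) ⧸ Submodule.pi Set.univ p) =
      ∑ i, Module.length R (Ms i ⧸ p i) := by
  rw [(Submodule.quotientPi p).length_eq, Module.length_pi_of_fintype]

omit [IsDomain R] [IsPrincipalIdealRing R] [Module.Free R M] [Module.Finite R M] in
theorem map_equiv_eq_of_mem_iff {M' : Type*} [AddCommGroup M'] [Module R M'] (e : M ≃ₗ[R] M')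
    (P : Submodule R M) (P' : Submodule R M') (h : ∀ x, x ∈ P ↔ e x ∈ P') :
    P.map (e : M →ₗ[R] M') = P' := by
  ext y
  constructor
  · rintro ⟨x, hx, rfl⟩
    exact (h x).mp hx
  · intro hy
    exact ⟨e.symm y, (h _).mpr (by simpa using hy), by simp⟩

omit [IsDomain R] [IsPrincipalIdealRing R] [Module.Free R M] [Module.Finite R M] in
theorem length_quot_eq_of_mem_iff {M' : Type*} [AddCommGroup M'] [Module R M'] (e : M ≃ₗ[R] M')
    (P : Submodule R M) (P' : Submodule R M') (h : ∀ x, x ∈ P ↔ e x ∈ P') :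
    Module.length R (M ⧸ P) = Module.length R (M' ⧸ P') :=
  (Submodule.Quotient.equiv P P' e (map_equiv_eq_of_mem_iff e P P' h)).length_eq

omit [IsDomain R] [IsPrincipalIdealRing R] in
theorem length_quot_top (N : Type*) [AddCommGroup N] [Module R N] :
    Module.length R (N ⧸ (⊤ : Submodule R N)) = 0 :=
  Module.length_eq_zero_iff.mpr inferInstance

omit [IsDomain R] in
theorem length_quot_span_irreducible (ϖ : R) (hϖ : Irreducible ϖ) :
    Module.length R (R ⧸ (Ideal.span {ϖ} : Ideal R)) = 1 := by
  rw [Module.length_eq_one_iff, isSimpleModule_iff_isCoatom, ← Ideal.isMaximal_def]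
  exact PrincipalIdealRing.isMaximal_of_irreducible hϖ

/-- Part (c): the length of `Hom(M, N)` modulo the maps sending `P` into `Q`. -/
theorem length_hom_quot (ϖ : R) (hϖ : Irreducible ϖ) (P : Submodule R M)
    (hP : ∀ m : M, ϖ • m ∈ P) (Q : Submodule R N) (hQ : ∀ n : N, ϖ • n ∈ Q) (r s : ℕ)
    (hr : Module.length R (N ⧸ Q) = r)
    (hs : (Module.finrank R M : ℕ∞) = Module.length R (M ⧸ P) + s) :
    Module.length R ((M →ₗ[R] N) ⧸
      (⨅ x : P, Q.comap (LinearMap.applyₗ (x : M) : (M →ₗ[R] N) →ₗ[R] N))) = (r * s : ℕ) := by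
  classical
  obtain ⟨b, d, hb⟩ := exists_adapted_basis ϖ hϖ P hP
  have hbP : ∀ j, d j → b j ∈ P := basis_mem_of_adapted ϖ P b d hb
  -- length of `M ⧸ P`
  have h1 : Module.length R (M ⧸ P) = (Finset.univ.filter (fun j => ¬ d j)).card := by
    rw [length_quot_eq_of_mem_iff b.equivFun P
      (Submodule.pi Set.univ (fun j => if d j then (⊤ : Ideal R) else Ideal.span {ϖ}))]
    · rw [length_pi_quot]
      have : ∀ j, Module.length R (R ⧸ (if d j then (⊤ : Ideal R) else Ideal.span {ϖ})) =
          if ¬ d j then 1 else 0 := by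
        intro j
        by_cases hd : d j
        · rw [if_pos hd, if_neg (not_not.mpr hd)]
          exact length_quot_top R
        · rw [if_neg hd, if_pos hd]
          exact length_quot_span_irreducible ϖ hϖ
      rw [Finset.sum_congr rfl fun j _ => this j, Finset.sum_boole]
    · intro x
      rw [hb, Submodule.mem_pi]
      constructor
      · intro h j _
        by_cases hd : d j
        · rw [if_pos hd]; exact Submodule.mem_top
        · rw [if_neg hd, Ideal.mem_span_singleton, Basis.equivFun_apply]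
          exact h j hd
      · intro h j hd
        have := h j (Set.mem_univ _)
        rw [if_neg hd, Ideal.mem_span_singleton, Basis.equivFun_apply] at this
        exact this
  -- length of the Hom quotient
  have h2 : Module.length R ((M →ₗ[R] N) ⧸
      (⨅ x : P, Q.comap (LinearMap.applyₗ (x : M) : (M →ₗ[R] N) →ₗ[R] N))) =
      ((Finset.univ.filter (fun j => d j)).card : ℕ∞) * r := by
    rw [← length_quot_eq_of_mem_iff (b.constr R)
      (Submodule.pi Set.univ (fun j => if d j then Q else ⊤))]
    · rw [length_pi_quot]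
      have : ∀ j, Module.length R (N ⧸ (if d j then Q else ⊤)) = if d j then (r : ℕ∞) else 0 := by
        intro j
        by_cases hd : d j
        · rw [if_pos hd, if_pos hd]
          exact hr
        · rw [if_neg hd, if_neg hd]
          exact length_quot_top N
      rw [Finset.sum_congr rfl fun j _ => this j, Finset.sum_ite, Finset.sum_const,
        Finset.sum_const_zero, add_zero, nsmul_eq_mul]
    · intro v
      rw [Submodule.mem_pi, Submodule.mem_iInf]
      constructor
      · rintro h ⟨x, hx⟩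
        rw [Submodule.mem_comap, LinearMap.applyₗ_apply_apply, Basis.constr_apply_fintype]
        refine Submodule.sum_mem _ fun j _ => ?_
        by_cases hd : d j
        · have := h j (Set.mem_univ _)
          rw [if_pos hd] at this
          exact Q.smul_mem _ this
        · obtain ⟨c, hc⟩ := (hb x).mp hx j hd
          rw [Basis.equivFun_apply, hc, mul_smul]
          exact hQ _
      · intro h j _
        by_cases hd : d j
        · rw [if_pos hd]
          have := h ⟨b j, hbP j hd⟩
          rw [Submodule.mem_comap, LinearMap.applyₗ_apply_apply, Basis.constr_basis] at this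
          exact this
        · rw [if_neg hd]; exact Submodule.mem_top
  rw [h2]
  rw [h1, Module.finrank_eq_card_chooseBasisIndex] at hs
  have h3 : (Finset.univ.filter (fun j => d j)).card + (Finset.univ.filter (fun j => ¬ d j)).card
      = Fintype.card (Free.ChooseBasisIndex R M) := by
    rw [Finset.card_filter_add_card_filter_not, Finset.card_univ]
  have h4 : Fintype.card (Free.ChooseBasisIndex R M) =
      (Finset.univ.filter (fun j => ¬ d j)).card + s := by exact_mod_cast hs
  have h5 : (Finset.univ.filter (fun j => d j)).card = s := by omega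
  rw [h5]
  push_cast
  rw [mul_comm]

end Groth.Agent.Helper7.DdHom
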