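import Groth.Agent.Helper7.DdHomB

/-!
# Part (a) of S16417 and assembly
-/

namespace Groth.Agent.Helper7.DdHom

open Module

section partA

variable {R : Type*} [CommRing R] (σ : R →+* R) (ϖ : R)
variable {M : Type*} [AddCommGroup M] [Module R M]
variable {N : Type*} [AddCommGroup N] [Module R N]

theorem mem_span_range_iff (VN : N →+ N) (hVN : ∀ (a : R) (n : N), VN (σ a • n) = a • VN n)
    (x : N) : x ∈ Submodule.span R (Set.range VN) ↔ ∃ n, VN n = x := by
  constructor
  · intro hx
    induction hx using Submodule.span_induction with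
    | mem x hx => exact hx
    | zero => exact ⟨0, map_zero _⟩
    | add x y _ _ hx hy =>
      obtain ⟨n1, rfl⟩ := hx
      obtain ⟨n2, rfl⟩ := hy
      exact ⟨n1 + n2, map_add _ _ _⟩
    | smul a x _ hx =>
      obtain ⟨n, rfl⟩ := hx
      exact ⟨σ a • n, hVN a n⟩
  · rintro ⟨n, rfl⟩
    exact Submodule.subset_span ⟨n, rfl⟩

theorem verschiebung_iff (hσ : Function.Surjective σ) (hN : ∀ n : N, ϖ • n = 0 → n = 0)
    (VM : M →+ M) (FN VN : N →+ N)
    (hVM : ∀ (a : R) (m : M), VM (σ a • m) = a • VM m)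
    (hVN : ∀ (a : R) (n : N), VN (σ a • n) = a • VN n)
    (hFVN : ∀ n : N, FN (VN n) = ϖ • n) (h : M →ₗ[R] N) :
    (∀ m : M, h (VM m) ∈ Submodule.span R (Set.range VN)) ↔
      ∃ h' : M →ₗ[R] N, ∀ m : M, h (VM m) = VN (h' m) := by
  have hinj : Function.Injective VN := by
    rw [injective_iff_map_eq_zero]
    intro n hn
    apply hN
    rw [← hFVN, hn, map_zero]
  constructor
  · intro hh
    have hex : ∀ m, ∃ n, VN n = h (VM m) := fun m => (mem_span_range_iff σ VN hVN _).mp (hh m)
    choose f hf using hex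
    refine ⟨{ toFun := f, map_add' := ?_, map_smul' := ?_ }, fun m => (hf m).symm⟩
    · intro m1 m2
      apply hinj
      rw [hf, map_add, map_add, map_add, hf, hf]
    · intro a m
      obtain ⟨a', rfl⟩ := hσ a
      apply hinj
      rw [hf, RingHom.id_apply, hVN, hVM, map_smul, hf]
  · rintro ⟨h', hh'⟩ m
    rw [hh']
    exact Submodule.subset_span ⟨_, rfl⟩

end partA

end Groth.Agent.Helper7.DdHom
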