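import Mathlib
import Groth.Agent.Helper7.RingPB

/-! Descent of the Dedekind property along a finite flat injective map. -/

universe u v

namespace Groth.Agent.Helper7.DedDesc

open Groth.Agent.Helper7.RingPB

theorem isDedekindDomain_of_finite_flat_injective (A : Type u) (B : Type v)
    [CommRing A] [CommRing B] [Algebra A B] [IsDedekindDomain B]
    (hinj : Function.Injective (algebraMap A B)) [Module.Finite A B] [Module.Flat A B] :
    IsDedekindDomain A := by
  haveI : Module.FaithfullyFlat A B := faithfullyFlat_of_finite_flat_injective A B hinj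
  haveI : IsDomain A := hinj.isDomain (algebraMap A B)
  haveI : Algebra.IsIntegral A B := Algebra.IsIntegral.of_finite A B
  -- Noetherian
  have hN : IsNoetherianRing A := by
    rw [isNoetherianRing_iff, isNoetherian_iff']
    let emb : Ideal A ↪o Ideal B := OrderEmbedding.ofMapLEIff (Ideal.map (algebraMap A B))
      (fun I J => ⟨fun h => by
        have := Ideal.comap_mono (f := algebraMap A B) h
        rwa [Ideal.comap_map_eq_self_of_faithfullyFlat, Ideal.comap_map_eq_self_of_faithfullyFlat]
          at this, fun h => Ideal.map_mono h⟩)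
    exact emb.wellFoundedGT
  -- dimension
  have hD : Ring.DimensionLEOne A := by
    refine ⟨fun {p} hp0 hp => ?_⟩
    have hker : (⊥ : Ideal B).comap (algebraMap A B) ≤ p := by
      rw [← RingHom.ker_eq_comap_bot, (RingHom.injective_iff_ker_eq_bot _).1 hinj]
      exact bot_le
    obtain ⟨q, -, hq, hqp⟩ := Ideal.exists_ideal_over_prime_of_isIntegral p ⊥ hker
    have hq0 : q ≠ ⊥ := by
      rintro rfl
      apply hp0
      rw [← hqp, ← RingHom.ker_eq_comap_bot, (RingHom.injective_iff_ker_eq_bot _).1 hinj]
    haveI : q.IsMaximal := Ring.DimensionLEOne.maximalOfPrime hq0 hq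
    rw [← hqp]
    exact Ideal.isMaximal_comap_of_isIntegral_of_isMaximal q
  refine { toIsDedekindRing := (isDedekindRing_iff A (FractionRing A)).2 ⟨hN, hD, ?_⟩ }
  intro x hx
  let K := FractionRing A
  let L := FractionRing B
  let g : A →+* L := (algebraMap B L).comp (algebraMap A B)
  have hg : Function.Injective g := (IsFractionRing.injective B L).comp hinj
  let φ : K →+* L := IsFractionRing.lift hg
  have hφ : ∀ a : A, φ (algebraMap A K a) = g a := fun a => IsFractionRing.lift_algebraMap hg a
  -- `φ x` is integral over `B`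
  obtain ⟨p, hpm, hpx⟩ := hx
  have hint : IsIntegral B (φ x) := by
    refine ⟨p.map (algebraMap A B), hpm.map _, ?_⟩
    rw [Polynomial.eval₂_map]
    have : (algebraMap B L).comp (algebraMap A B) = φ.comp (algebraMap A K) := by
      ext a
      exact (hφ a).symm
    rw [this, ← Polynomial.hom_eval₂, hpx, map_zero]
  obtain ⟨b, hb⟩ := (isIntegrallyClosed_iff L).1 inferInstance hint
  obtain ⟨a, s, rfl⟩ := IsLocalization.exists_mk'_eq (nonZeroDivisors A) x
  have hs0 : algebraMap A K (s : A) ≠ 0 := by
    intro h
    exact nonZeroDivisors.ne_zero s.2 ((IsFractionRing.injective A K) (by rw [h, map_zero]))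
  have h1 : IsLocalization.mk' K a s * algebraMap A K (s : A) = algebraMap A K a :=
    IsLocalization.mk'_spec K a s
  have h2 := congrArg φ h1
  rw [map_mul, hφ, hφ, ← hb] at h2
  have h3 : b * algebraMap A B (s : A) = algebraMap A B a := by
    apply IsFractionRing.injective B L
    rw [map_mul]
    exact h2
  have h4 : a ∈ ((Ideal.span {(s : A)}).map (algebraMap A B)).comap (algebraMap A B) := by
    rw [Ideal.mem_comap, ← h3, Ideal.map_span, Set.image_singleton]
    exact Ideal.mem_span_singleton'.2 ⟨b, rfl⟩
  rw [Ideal.comap_map_eq_self_of_faithfullyFlat, Ideal.mem_span_singleton'] at h4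
  obtain ⟨a', ha'⟩ := h4
  refine ⟨a', ?_⟩
  apply mul_right_cancel₀ hs0
  rw [h1, ← map_mul, ha']

end Groth.Agent.Helper7.DedDesc
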