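import Mathlib
import Groth.Prelude.Def_QFDual
import Groth.Agent.Helper1.TraceEtale

set_option autoImplicit false
set_option linter.style.haveILetI false
set_option linter.unusedSectionVars false

universe u

namespace Groth.Agent.Helper7.DedDiff

open QFDual

variable (A K B L : Type u) [CommRing A] [CommRing K] [CommRing B] [CommRing L] [Algebra A K]
  [Algebra A B] [Algebra B L] [Algebra K L] [Algebra A L] [IsScalarTower A K L]
  [IsScalarTower A B L] (h : QFDual.IsDedekindDefined A K B L)

include h in
/-- nondegeneracy of the trace form of `L/K` -/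
theorem eq_zero_of_trace (z : L) (hz : ∀ y, Algebra.trace K L (z * y) = 0) : z = 0 := by
  classical
  haveI := h.free
  haveI := h.finiteKL
  haveI := h.etale
  let b := Module.Free.chooseBasis K L
  obtain ⟨c, hc⟩ := Groth.Agent.Helper1.TraceEtale.exists_dualFamily_of_unramified b
  exact hc.eq_zero_of_trace z hz

include h in
/-- every `K`-linear form on `L` is a trace form -/
theorem exists_trace_eq (ψ : L →ₗ[K] K) : ∃ x : L, ∀ y, Algebra.trace K L (x * y) = ψ y := by
  classical
  haveI := h.free
  haveI := h.finiteKL
  haveI := h.etale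
  let b := Module.Free.chooseBasis K L
  have hex : ∃ c : _ → L, Groth.Agent.Helper1.TraceEtale.IsDualFamily b c :=
    Groth.Agent.Helper1.TraceEtale.exists_dualFamily_of_unramified b
  obtain ⟨x, hx⟩ := ((Groth.Agent.Helper1.TraceEtale.exists_dualFamily_iff_bijective b).1 hex).2 ψ
  refine ⟨x, fun y => ?_⟩
  have := LinearMap.congr_fun hx y
  rwa [Algebra.traceForm_apply] at this

include h in
theorem algebraMap_injective : Function.Injective (algebraMap A K) :=
  haveI := h.isFractionRing
  IsFractionRing.injective A K

include h in
/-- traces against `B` determine traces against `L` -/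
theorem trace_eq_zero_of_forall (x : L)
    (hx : ∀ b : B, Algebra.trace K L (x * algebraMap B L b) = 0) (y : L) :
    Algebra.trace K L (x * y) = 0 := by
  haveI := h.isFractionRing
  haveI := h.isLocalization
  obtain ⟨⟨b, s⟩, hbs⟩ := IsLocalization.surj (Algebra.algebraMapSubmonoid B (nonZeroDivisors A)) y
  obtain ⟨a, ha, has⟩ := s.2
  simp only at hbs
  -- y * algebraMap s = algebraMap b
  have h1 : algebraMap A K a * Algebra.trace K L (x * y) = 0 := by
    rw [← smul_eq_mul, ← map_smul, Algebra.smul_def, ← hx b, ← hbs]
    congr 1
    rw [← has, ← IsScalarTower.algebraMap_apply A B L, IsScalarTower.algebraMap_apply A K L]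
    ring
  have hu : IsUnit (algebraMap A K a) := IsLocalization.map_units K ⟨a, ha⟩
  exact (hu.mul_right_eq_zero).1 h1

end Groth.Agent.Helper7.DedDiff
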