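import Mathlib
import Groth.Prelude.Def_QFDual
import Groth.Agent.Helper7.DedDiff

set_option autoImplicit false
set_option linter.style.haveILetI false
set_option linter.unusedSectionVars false

universe u

namespace Groth.Agent.Helper7.DedDiff

open QFDual

variable (A K B L : Type u) [CommRing A] [CommRing K] [CommRing B] [CommRing L] [Algebra A K]
  [Algebra A B] [Algebra B L] [Algebra K L] [Algebra A L] [IsScalarTower A K L]
  [IsScalarTower A B L]

/-- `b ↦ Tr(x b)` as an `A`-linear map `B → K`. -/
noncomputable def trK (x : L) : B →ₗ[A] K :=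
  ((Algebra.trace K L).restrictScalars A) ∘ₗ ((LinearMap.mulLeft A x) ∘ₗ
    (IsScalarTower.toAlgHom A B L).toLinearMap)

@[simp] theorem trK_apply (x : L) (b : B) :
    trK A K B L x b = Algebra.trace K L (x * algebraMap B L b) := rfl

variable (h : QFDual.IsDedekindDefined A K B L)

/-- the functional attached to an element of the complementary module -/
noncomputable def toForm (x : complementary A K B L) : B →ₗ[A] A :=
  (LinearEquiv.ofInjective (Algebra.linearMap A K) (algebraMap_injective A K B L h)).symm.toLinearMap ∘ₗ
    ((trK A K B L x.1).codRestrict (LinearMap.range (Algebra.linearMap A K)) (fun b => by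
      obtain ⟨a, ha⟩ := x.2 b
      exact ⟨a, ha⟩))

theorem algebraMap_toForm (x : complementary A K B L) (b : B) :
    algebraMap A K (toForm A K B L h x b) = Algebra.trace K L ((x : L) * algebraMap B L b) := by
  unfold toForm
  rw [LinearMap.comp_apply]
  have := (LinearEquiv.ofInjective (Algebra.linearMap A K) (algebraMap_injective A K B L h)).apply_symm_apply
    ((trK A K B L x.1).codRestrict (LinearMap.range (Algebra.linearMap A K)) (fun b => by
      obtain ⟨a, ha⟩ := x.2 b
      exact ⟨a, ha⟩) b)
  have h2 := congrArg Subtype.val this
  rw [LinearEquiv.ofInjective_apply] at h2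
  exact h2

/-- the `B`-linear map `𝓛 → ω` -/
noncomputable def eMap : complementary A K B L →ₗ[B] Disc.Omega A B where
  toFun x := ⟨toForm A K B L h x⟩
  map_add' x y := by
    apply Disc.Omega.ext
    apply LinearMap.ext
    intro b
    apply algebraMap_injective A K B L h
    show algebraMap A K (toForm A K B L h (x + y) b) =
      algebraMap A K (toForm A K B L h x b + toForm A K B L h y b)
    rw [map_add, algebraMap_toForm, algebraMap_toForm, algebraMap_toForm, Submodule.coe_add,
      add_mul, map_add]
  map_smul' c x := by
    apply Disc.Omega.ext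
    apply LinearMap.ext
    intro b
    apply algebraMap_injective A K B L h
    show algebraMap A K (toForm A K B L h (c • x) b) =
      algebraMap A K (toForm A K B L h x (c * b))
    rw [algebraMap_toForm, algebraMap_toForm, Submodule.coe_smul, Algebra.smul_def,
      RingHom.map_mul (algebraMap B L)]
    congr 1
    ring

theorem eMap_apply (x : complementary A K B L) (b : B) :
    algebraMap A K ((eMap A K B L h x).toLinearMap b) =
      Algebra.trace K L ((x : L) * algebraMap B L b) :=
  algebraMap_toForm A K B L h x b

theorem eMap_injective : Function.Injective (eMap A K B L h) := by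
  rw [injective_iff_map_eq_zero]
  intro x hx
  apply Subtype.ext
  apply eq_zero_of_trace A K B L h
  apply trace_eq_zero_of_forall A K B L h
  intro b
  rw [← eMap_apply A K B L h, hx]
  simp

theorem eMap_surjective : Function.Surjective (eMap A K B L h) := by
  intro φ
  haveI := h.isFractionRing
  haveI := h.isLocalization
  -- extend φ to L → K
  let f : B →ₗ[A] L := (IsScalarTower.toAlgHom A B L).toLinearMap
  let ψ₀ : L →ₗ[A] K := IsLocalizedModule.map (nonZeroDivisors A) f (Algebra.linearMap A K)
    φ.toLinearMap
  let ψ : L →ₗ[K] K := ψ₀.extendScalarsOfIsLocalization (nonZeroDivisors A) K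
  obtain ⟨x, hx⟩ := exists_trace_eq A K B L h ψ
  have hψ : ∀ b : B, ψ (algebraMap B L b) = algebraMap A K (φ.toLinearMap b) := by
    intro b
    show ψ₀ (f b) = _
    rw [IsLocalizedModule.map_apply]
    rfl
  have hmem : x ∈ complementary A K B L := by
    intro b
    rw [hx, hψ]
    exact ⟨_, rfl⟩
  refine ⟨⟨x, hmem⟩, ?_⟩
  apply Disc.Omega.ext
  apply LinearMap.ext
  intro b
  apply algebraMap_injective A K B L h
  rw [eMap_apply, ← hψ, ← hx]

include h in
theorem s8962 : ∃ e : QFDual.complementary A K B L ≃ₗ[B] Disc.Omega A B,
    ∀ (x : QFDual.complementary A K B L) (b : B),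
      algebraMap A K ((e x).toLinearMap b) = Algebra.trace K L ((x : L) * algebraMap B L b) :=
  ⟨LinearEquiv.ofBijective (eMap A K B L h) ⟨eMap_injective A K B L h, eMap_surjective A K B L h⟩,
    fun x b => eMap_apply A K B L h x b⟩

end Groth.Agent.Helper7.DedDiff
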