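import Mathlib
import Groth.Prelude.Def_QFDual
import Groth.Agent.Helper7.DedDiff2

set_option autoImplicit false
set_option linter.style.haveILetI false
set_option linter.unusedSectionVars false

universe u

namespace Groth.Agent.Helper7.DedDiff

open QFDual

variable (A K B L : Type u) [CommRing A] [CommRing K] [CommRing B] [CommRing L] [Algebra A K]
  [Algebra A B] [Algebra B L] [Algebra K L] [Algebra A L] [IsScalarTower A K L]
  [IsScalarTower A B L] (h : QFDual.IsDedekindDefined A K B L)
  [Module.Finite A B] [Module.Free A B]

include h in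
theorem trace_algebraMap (b : B) :
    Algebra.trace K L (algebraMap B L b) = algebraMap A K (Algebra.trace A B b) := by
  haveI := h.isFractionRing
  haveI := h.isLocalization
  exact Algebra.trace_localization A (nonZeroDivisors A) b

include h in
theorem one_mem : (1 : L) ∈ complementary A K B L := by
  intro b
  rw [one_mul, trace_algebraMap A K B L h]
  exact ⟨_, rfl⟩

/-- the unit of the complementary module -/
noncomputable def one : complementary A K B L := ⟨1, one_mem A K B L h⟩

theorem eMap_one : eMap A K B L h (one A K B L h) = Disc.Omega.trace A B := by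
  apply Disc.Omega.ext
  apply LinearMap.ext
  intro b
  apply algebraMap_injective A K B L h
  rw [eMap_apply]
  show Algebra.trace K L ((1 : L) * algebraMap B L b) = algebraMap A K (Algebra.trace A B b)
  rw [one_mul, trace_algebraMap A K B L h]

include h in
theorem s8965 : QFDual.dedekindDifferent A K B L =
    Submodule.map (Algebra.linearMap B L) (QFDual.different B (Disc.Omega.trace A B)) := by
  apply le_antisymm
  · intro x hx
    obtain ⟨b₀, hb₀⟩ := hx 1 (one_mem A K B L h)
    rw [mul_one] at hb₀
    refine ⟨b₀, ?_, hb₀⟩
    show b₀ ∈ QFDual.different B (Disc.Omega.trace A B)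
    rw [QFDual.mem_different_iff]
    intro m
    obtain ⟨y, rfl⟩ := eMap_surjective A K B L h m
    obtain ⟨c, hc⟩ := hx y.1 y.2
    refine ⟨c, ?_⟩
    rw [← eMap_one A K B L h, ← map_smul, ← map_smul]
    congr 1
    apply Subtype.ext
    show c • (1 : L) = b₀ • (y : L)
    rw [Algebra.smul_def, Algebra.smul_def, mul_one, hc, hb₀]
  · rintro _ ⟨b, hb, rfl⟩
    have hb' : b ∈ QFDual.different B (Disc.Omega.trace A B) := hb
    rw [QFDual.mem_different_iff] at hb'
    intro y hy
    obtain ⟨c, hc⟩ := hb' (eMap A K B L h ⟨y, hy⟩)
    rw [← eMap_one A K B L h, ← map_smul, ← map_smul] at hc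
    have := eMap_injective A K B L h hc
    have h2 := congrArg Subtype.val this
    refine ⟨c, ?_⟩
    have h3 : c • (1 : L) = b • y := h2
    rw [Algebra.smul_def, Algebra.smul_def, mul_one] at h3
    rw [h3]
    rfl

end Groth.Agent.Helper7.DedDiff
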