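import Mathlib
import Groth.Agent.Helper2.ArtinReg

set_option linter.style.haveILetI false
set_option linter.unusedSectionVars false
set_option autoImplicit false

namespace Groth.Agent.Helper7.DefHB

universe u v

open Function TensorProduct LinearMap
open Groth.Agent.Helper2.TorReg Groth.Agent.Helper2.TorOne Groth.Agent.Helper2.ContentIdeal
open Groth.Agent.Helper2.FlatFibre

section gen

variable {A : Type u} [CommRing A] {M N P : Type v} [AddCommGroup M] [Module A M]
  [AddCommGroup N] [Module A N] [AddCommGroup P] [Module A P]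

/-- `f` is injective modulo `J`. -/
def InjMod (f : M →ₗ[A] N) (J : Ideal A) : Prop :=
  ∀ z : M, f z ∈ (J • ⊤ : Submodule A N) → z ∈ (J • ⊤ : Submodule A M)

/-- An injective map with flat cokernel is injective modulo every ideal. -/
theorem injMod_of_flat_coker (f : M →ₗ[A] N) (hf : Injective f) (π : N →ₗ[A] P)
    (hπ : Surjective π) (hex : Exact f π) [Module.Flat A P] (J : Ideal A) : InjMod f J := by
  intro z hz
  have h1 : f z ∈ LinearMap.ker π ⊓ J • ⊤ := ⟨(hex _).2 ⟨z, rfl⟩, hz⟩
  have h2 := ker_inf_smul_le π hπ J h1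
  have h3 : LinearMap.ker π = Submodule.map f ⊤ := by
    rw [Submodule.map_top, LinearMap.exact_iff.mp hex]
  rw [h3, ← Submodule.map_smul''] at h2
  obtain ⟨z', hz', hzz'⟩ := h2
  rw [← hf hzz']
  exact hz'

/-- If `f` is injective modulo a nilpotent maximal ideal and the target is flat, the cokernel is
flat. -/
theorem flat_coker' (𝔪 : Ideal A) [𝔪.IsMaximal] (hnil : IsNilpotent 𝔪) [Module.Flat A N]
    (f : M →ₗ[A] N) (h : InjMod f 𝔪)
    (π : N →ₗ[A] P) (hπ : Surjective π) (hex : Exact f π) : Module.Flat A P := by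
  letI := Ideal.Quotient.field 𝔪
  refine flat_of_isNilpotent 𝔪 ?_ hnil
  rw [injective_iff_map_eq_zero]
  intro x hx
  obtain ⟨y, rfl⟩ := lTensor_surjective 𝔪 hπ x
  have h0 : π (muI 𝔪 y) = 0 := by rw [← muI_natural, hx]
  obtain ⟨z, hz⟩ := (hex _).1 h0
  have hz' : z ∈ (𝔪 • ⊤ : Submodule A M) := h z (by rw [hz]; exact muI_mem 𝔪 y)
  obtain ⟨y', hy'⟩ := exists_muI_eq 𝔪 z hz'
  have hinj : Injective (muI (M := N) 𝔪) := by
    rw [muI_injective_iff]
    exact Module.Flat.rTensor_preserves_injective_linearMap _ 𝔪.injective_subtype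
  have hyy : y = lTensor 𝔪 f y' := by
    apply hinj
    rw [muI_natural, hy', hz]
  rw [hyy, ← LinearMap.comp_apply, ← lTensor_comp]
  have : π ∘ₗ f = 0 := by ext n; exact (hex _).2 ⟨n, rfl⟩
  rw [this]; simp

/-- If `f` is injective modulo a nilpotent maximal ideal and the target is flat, it is
injective. -/
theorem injective_of_injMod' (𝔪 : Ideal A) [𝔪.IsMaximal] (hnil : IsNilpotent 𝔪) [Module.Flat A N]
    (f : M →ₗ[A] N) (h : InjMod f 𝔪) : Injective f := by
  have hPflat : Module.Flat A (N ⧸ LinearMap.range f) :=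
    flat_coker' 𝔪 hnil f h (LinearMap.range f).mkQ (Submodule.mkQ_surjective _)
      (LinearMap.exact_map_mkQ_range f)
  have hFflat : Module.Flat A (LinearMap.range f) :=
    flat_of_exact_of_flat (LinearMap.range f).subtype (LinearMap.range f).mkQ
      (LinearMap.range f).injective_subtype (LinearMap.exact_subtype_mkQ _)
      (Submodule.mkQ_surjective _)
  have hK := ker_eq_bot_of_flat_of_le_smul f.rangeRestrict f.surjective_rangeRestrict 𝔪 hnil ?_
  · rw [LinearMap.ker_rangeRestrict] at hK
    exact LinearMap.ker_eq_bot.1 hK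
  · intro x hx
    rw [LinearMap.ker_rangeRestrict] at hx
    apply h
    rw [hx]
    exact zero_mem _

end gen

section complex

variable {A : Type u} [CommRing A] {F₂ F₁ F₀ : Type v} [AddCommGroup F₂] [Module A F₂]
  [AddCommGroup F₁] [Module A F₁] [AddCommGroup F₀] [Module A F₀]
  (d₂ : F₂ →ₗ[A] F₁) (d₁ : F₁ →ₗ[A] F₀)

/-- Exactness in the middle modulo `J`. -/
def ExactMod (J : Ideal A) : Prop :=
  ∀ v : F₁, d₁ v ∈ (J • ⊤ : Submodule A F₀) → ∃ u : F₂, v - d₂ u ∈ (J • ⊤ : Submodule A F₁)

/-- A flat resolution of a flat module stays exact modulo every ideal. -/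
theorem injMod_exactMod_of_flat [Module.Flat A F₁] [Module.Flat A F₀]
    (hinj : Injective d₂) (hex : LinearMap.range d₂ = LinearMap.ker d₁)
    [Module.Flat A (F₀ ⧸ LinearMap.range d₁)] (J : Ideal A) :
    InjMod d₂ J ∧ ExactMod d₂ d₁ J := by
  -- `Z = range d₁` is flat
  have hZflat : Module.Flat A (LinearMap.range d₁) :=
    flat_of_exact_of_flat (LinearMap.range d₁).subtype (LinearMap.range d₁).mkQ
      (LinearMap.range d₁).injective_subtype (LinearMap.exact_subtype_mkQ _)
      (Submodule.mkQ_surjective _)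
  have hZ : InjMod (LinearMap.range d₁).subtype J :=
    injMod_of_flat_coker _ (LinearMap.range d₁).injective_subtype (LinearMap.range d₁).mkQ
      (Submodule.mkQ_surjective _) (LinearMap.exact_subtype_mkQ _) J
  have hex' : Exact d₂ d₁.rangeRestrict := by
    rw [LinearMap.exact_iff, LinearMap.ker_rangeRestrict, hex]
  constructor
  · exact injMod_of_flat_coker d₂ hinj d₁.rangeRestrict d₁.surjective_rangeRestrict hex' J
  · intro v hv
    have h1 : d₁.rangeRestrict v ∈ (J • ⊤ : Submodule A (LinearMap.range d₁)) := hZ _ hv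
    have h2 : (J • ⊤ : Submodule A (LinearMap.range d₁)) =
        Submodule.map d₁.rangeRestrict (J • ⊤) := by
      rw [Submodule.map_smul'', Submodule.map_top, LinearMap.range_rangeRestrict]
    rw [h2] at h1
    obtain ⟨w, hw, hwv⟩ := h1
    have h3 : v - w ∈ LinearMap.ker d₁ := by
      rw [LinearMap.mem_ker, map_sub, sub_eq_zero]
      exact (congrArg Subtype.val hwv).symm
    rw [← hex] at h3
    obtain ⟨u, hu⟩ := h3
    refine ⟨u, ?_⟩
    rw [hu, sub_sub_cancel]
    exact hw

/-- The main lifting criterion: a complex of flat modules over a ring with nilpotent maximal ideal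
`𝔪` which is a resolution modulo `𝔪` is a resolution, with flat cokernel. -/
theorem resolution_of_mod (𝔪 : Ideal A) [𝔪.IsMaximal] (hnil : IsNilpotent 𝔪)
    [Module.Flat A F₁] [Module.Flat A F₀] (hcomp : d₁ ∘ₗ d₂ = 0)
    (h2 : InjMod d₂ 𝔪) (h1 : ExactMod d₂ d₁ 𝔪) :
    Injective d₂ ∧ LinearMap.range d₂ = LinearMap.ker d₁ ∧
      Module.Flat A (F₀ ⧸ LinearMap.range d₁) := by
  have hinj := injective_of_injMod' 𝔪 hnil d₂ h2
  -- the induced map on the cokernel of `d₂`
  have hle : LinearMap.range d₂ ≤ LinearMap.ker d₁ := by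
    rintro _ ⟨u, rfl⟩
    rw [LinearMap.mem_ker, ← LinearMap.comp_apply, hcomp, LinearMap.zero_apply]
  let dt : (F₁ ⧸ LinearMap.range d₂) →ₗ[A] F₀ := (LinearMap.range d₂).liftQ d₁ hle
  have hdt : InjMod dt 𝔪 := by
    intro q hq
    obtain ⟨v, rfl⟩ := Submodule.Quotient.mk_surjective _ q
    have : dt (Submodule.Quotient.mk v) = d₁ v := Submodule.liftQ_apply _ _ _
    rw [this] at hq
    obtain ⟨u, hu⟩ := h1 v hq
    have h3 : (Submodule.Quotient.mk v : F₁ ⧸ LinearMap.range d₂) =
        (LinearMap.range d₂).mkQ (v - d₂ u) := by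
      rw [Submodule.mkQ_apply, Submodule.Quotient.mk_sub]
      have : (Submodule.Quotient.mk (d₂ u) : F₁ ⧸ LinearMap.range d₂) = 0 :=
        (Submodule.Quotient.mk_eq_zero _).mpr ⟨u, rfl⟩
      rw [this, sub_zero]
    rw [h3]
    have h4 : (𝔪 • ⊤ : Submodule A (F₁ ⧸ LinearMap.range d₂)) =
        Submodule.map (LinearMap.range d₂).mkQ (𝔪 • ⊤) := by
      rw [Submodule.map_smul'', Submodule.map_top, Submodule.range_mkQ]
    rw [h4]
    exact Submodule.mem_map_of_mem hu
  have hdtinj := injective_of_injMod' 𝔪 hnil dt hdt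
  have hrange : LinearMap.range dt = LinearMap.range d₁ := Submodule.range_liftQ _ _ _
  refine ⟨hinj, le_antisymm hle ?_, ?_⟩
  · intro v hv
    have : dt (Submodule.Quotient.mk v) = 0 := by
      rw [LinearMap.mem_ker] at hv
      show (LinearMap.range d₂).liftQ d₁ hle (Submodule.Quotient.mk v) = 0
      rw [Submodule.liftQ_apply, hv]
    have h0 := hdtinj (this.trans (map_zero dt).symm)
    exact (Submodule.Quotient.mk_eq_zero _).mp h0
  · have := flat_coker' 𝔪 hnil dt hdt (LinearMap.range dt).mkQ (Submodule.mkQ_surjective _)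
      (LinearMap.exact_map_mkQ_range dt)
    rw [hrange] at this
    exact this

end complex

end Groth.Agent.Helper7.DefHB
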