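import Mathlib

set_option linter.style.haveILetI false
set_option linter.unusedSectionVars false

namespace Groth.Agent.Helper7.HB

universe u

open Matrix

variable {A : Type u} [CommRing A]

/-- The signed maximal minors of an `(r+1) × r` matrix. -/
noncomputable def Δ {r : ℕ} (φ : Matrix (Fin (r + 1)) (Fin r) A) (i : Fin (r + 1)) : A :=
  (-1 : A) ^ (i : ℕ) * (φ.submatrix i.succAbove id).det

/-- The augmented square matrix `[v | φ]`. -/
def aug {r : ℕ} (v : Fin (r + 1) → A) (φ : Matrix (Fin (r + 1)) (Fin r) A) :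
    Matrix (Fin (r + 1)) (Fin (r + 1)) A :=
  Matrix.of fun i k => Fin.cases (v i) (fun k' => φ i k') k

@[simp] lemma aug_zero {r : ℕ} (v : Fin (r + 1) → A) (φ : Matrix (Fin (r + 1)) (Fin r) A)
    (i : Fin (r + 1)) : aug v φ i 0 = v i := rfl

@[simp] lemma aug_succ {r : ℕ} (v : Fin (r + 1) → A) (φ : Matrix (Fin (r + 1)) (Fin r) A)
    (i : Fin (r + 1)) (k : Fin r) : aug v φ i k.succ = φ i k := rfl

lemma det_aug {r : ℕ} (v : Fin (r + 1) → A) (φ : Matrix (Fin (r + 1)) (Fin r) A) :
    (aug v φ).det = ∑ i, v i * Δ φ i := by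
  rw [Matrix.det_succ_column_zero]
  refine Finset.sum_congr rfl fun i _ => ?_
  have : (aug v φ).submatrix i.succAbove Fin.succ = φ.submatrix i.succAbove id := by
    ext a b
    simp [Matrix.submatrix_apply]
  rw [this, aug_zero, Δ]
  ring

lemma aug_mulVec {r : ℕ} (v : Fin (r + 1) → A) (φ : Matrix (Fin (r + 1)) (Fin r) A)
    (w : Fin (r + 1) → A) :
    aug v φ *ᵥ w = w 0 • v + φ *ᵥ (Fin.tail w) := by
  ext i
  simp only [Matrix.mulVec, dotProduct, Fin.sum_univ_succ, aug_zero, aug_succ, Pi.add_apply,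
    Pi.smul_apply, smul_eq_mul, Fin.tail]
  ring

lemma sum_mul_Δ_col {r : ℕ} (φ : Matrix (Fin (r + 1)) (Fin r) A) (j : Fin r) :
    ∑ i, φ i j * Δ φ i = 0 := by
  rw [← det_aug (fun i => φ i j) φ]
  exact Matrix.det_zero_of_column_eq (i := 0) (j := j.succ) (Fin.succ_ne_zero j).symm
    (fun k => by simp)

lemma sum_Δ_mulVec {r : ℕ} (φ : Matrix (Fin (r + 1)) (Fin r) A) (u : Fin r → A) :
    ∑ i, (φ *ᵥ u) i * Δ φ i = 0 := by
  simp only [Matrix.mulVec, dotProduct, Finset.sum_mul]
  rw [Finset.sum_comm]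
  refine Finset.sum_eq_zero fun j _ => ?_
  have := sum_mul_Δ_col φ j
  calc ∑ i, φ i j * u j * Δ φ i = u j * ∑ i, φ i j * Δ φ i := by
        rw [Finset.mul_sum]; exact Finset.sum_congr rfl fun i _ => by ring
    _ = 0 := by rw [this, mul_zero]

lemma Δ_map {B : Type*} [CommRing B] (f : A →+* B) {r : ℕ}
    (φ : Matrix (Fin (r + 1)) (Fin r) A) (i : Fin (r + 1)) :
    Δ (φ.map f) i = f (Δ φ i) := by
  simp only [Δ, map_mul, map_pow, map_neg, map_one]
  congr 1
  rw [RingHom.map_det]
  rfl

section Domain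

variable [IsDomain A]

/-- If `[v | φ]` has determinant zero and `φ` is injective, then a nonzero multiple of `v` is in the
image of `φ`. -/
lemma exists_of_det_aug_eq_zero {r : ℕ} (φ : Matrix (Fin (r + 1)) (Fin r) A)
    (hφ : Function.Injective φ.mulVecLin) (v : Fin (r + 1) → A) (h : (aug v φ).det = 0) :
    ∃ (c : A) (u : Fin r → A), c ≠ 0 ∧ φ *ᵥ u = c • v := by
  obtain ⟨w, hw, hw0⟩ := Matrix.exists_mulVec_eq_zero_iff.mpr h
  rw [aug_mulVec] at hw0
  refine ⟨w 0, -Fin.tail w, ?_, ?_⟩
  · intro h0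
    rw [h0, zero_smul, zero_add] at hw0
    have ht : Fin.tail w = 0 := by
      apply hφ
      rw [Matrix.mulVecLin_apply, hw0, map_zero]
    apply hw
    funext k
    refine Fin.cases h0 (fun k' => ?_) k
    exact congrFun ht k'
  · rw [Matrix.mulVec_neg]
    exact (eq_neg_of_add_eq_zero_right hw0).symm ▸ (neg_neg _)

/-- An injective `(r+1) × r` matrix over a domain has a nonzero maximal minor. -/
theorem exists_Δ_ne_zero {r : ℕ} (φ : Matrix (Fin (r + 1)) (Fin r) A)
    (hφ : Function.Injective φ.mulVecLin) : ∃ i, Δ φ i ≠ 0 := by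
  classical
  by_contra hcon
  push Not at hcon
  have h1 : ∀ i : Fin (r + 1), ∃ (c : A) (u : Fin r → A), c ≠ 0 ∧ φ *ᵥ u = c • Pi.single i 1 := by
    intro i
    apply exists_of_det_aug_eq_zero φ hφ
    rw [det_aug]
    exact Finset.sum_eq_zero fun k _ => by rw [hcon k, mul_zero]
  choose c u hc hu using h1
  let ψ : (Fin (r + 1) → A) →ₗ[A] (Fin r → A) :=
    ∑ i, ((∏ k ∈ Finset.univ.erase i, c k) • (LinearMap.proj i : (Fin (r + 1) → A) →ₗ[A] A)).smulRight (u i)
  have hψ : ∀ v, φ *ᵥ (ψ v) = (∏ k, c k) • v := by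
    intro v
    have : ψ v = ∑ i, ((∏ k ∈ Finset.univ.erase i, c k) * v i) • u i := by
      simp [ψ, LinearMap.sum_apply]
    rw [this, Matrix.mulVec_sum]
    have h2 : ∀ i, φ *ᵥ (((∏ k ∈ Finset.univ.erase i, c k) * v i) • u i) =
        ((∏ k, c k) * v i) • Pi.single i (1 : A) := by
      intro i
      rw [Matrix.mulVec_smul, hu, smul_smul, ← Finset.mul_prod_erase Finset.univ c (Finset.mem_univ i)]
      congr 1; ring
    simp_rw [h2]
    funext k
    simp [Finset.sum_apply, Pi.single_apply]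
  have hinj : Function.Injective ψ := by
    rw [← LinearMap.ker_eq_bot, LinearMap.ker_eq_bot']
    intro v hv
    have h3 := hψ v
    rw [hv, Matrix.mulVec_zero] at h3
    have hprod : (∏ k, c k) ≠ 0 := Finset.prod_ne_zero_iff.mpr fun k _ => hc k
    funext k
    have := congrFun h3 k
    simp only [Pi.zero_apply, Pi.smul_apply, smul_eq_mul] at this
    exact (mul_eq_zero.mp this.symm).resolve_left hprod
  have := le_of_fin_injective A ψ hinj
  omega

variable {r : ℕ} (φ : Matrix (Fin (r + 1)) (Fin r) A) (g : Fin (r + 1) → A)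

/-- Exactness at the middle transfers from `g` to the minors. -/
theorem lc_Δ_eq_zero_iff (hφ : Function.Injective φ.mulVecLin)
    (hex : LinearMap.range φ.mulVecLin = LinearMap.ker (Fintype.linearCombination A g))
    (v : Fin (r + 1) → A) :
    ∑ i, v i * Δ φ i = 0 ↔ ∑ i, v i * g i = 0 := by
  constructor
  · intro h
    rw [← det_aug] at h
    obtain ⟨c, u, hc, hu⟩ := exists_of_det_aug_eq_zero φ hφ v h
    have hmem : φ *ᵥ u ∈ LinearMap.ker (Fintype.linearCombination A g) := by
      rw [← hex]; exact ⟨u, rfl⟩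
    rw [hu, LinearMap.mem_ker, map_smul, smul_eq_mul] at hmem
    have := (mul_eq_zero.mp hmem).resolve_left hc
    simpa [Fintype.linearCombination_apply, smul_eq_mul] using this
  · intro h
    have hmem : v ∈ LinearMap.ker (Fintype.linearCombination A g) := by
      rw [LinearMap.mem_ker]
      simpa [Fintype.linearCombination_apply, smul_eq_mul] using h
    rw [← hex] at hmem
    obtain ⟨u, rfl⟩ := hmem
    exact sum_Δ_mulVec φ u

theorem ker_lc_Δ (hφ : Function.Injective φ.mulVecLin)
    (hex : LinearMap.range φ.mulVecLin = LinearMap.ker (Fintype.linearCombination A g)) :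
    LinearMap.ker (Fintype.linearCombination A (Δ φ)) =
      LinearMap.ker (Fintype.linearCombination A g) := by
  ext v
  simp only [LinearMap.mem_ker, Fintype.linearCombination_apply, smul_eq_mul]
  exact lc_Δ_eq_zero_iff φ g hφ hex v

lemma sum_cross_mul [DecidableEq (Fin (r + 1))] (a b : A) (i j : Fin (r + 1)) (x : Fin (r + 1) → A) :
    ∑ k, (a • Pi.single i (1 : A) - b • Pi.single j (1 : A) : Fin (r + 1) → A) k * x k =
      a * x i - b * x j := by
  simp only [Pi.sub_apply, Pi.smul_apply, smul_eq_mul, sub_mul, Finset.sum_sub_distrib,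
    Pi.single_apply, mul_ite, mul_one, mul_zero, ite_mul, zero_mul, Finset.sum_ite_eq',
    Finset.mem_univ, if_true]

theorem cross_eq (hφ : Function.Injective φ.mulVecLin)
    (hex : LinearMap.range φ.mulVecLin = LinearMap.ker (Fintype.linearCombination A g))
    (i j : Fin (r + 1)) : g j * Δ φ i = g i * Δ φ j := by
  classical
  have h := (lc_Δ_eq_zero_iff φ g hφ hex
    (g j • Pi.single i (1 : A) - g i • Pi.single j (1 : A))).mpr (by
      rw [sum_cross_mul]; ring)
  rw [sum_cross_mul] at h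
  exact sub_eq_zero.mp h

end Domain

end Groth.Agent.Helper7.HB
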