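import Mathlib
import Groth.Agent.Helper7.DefHB1
import Groth.Agent.Helper7.HB1

set_option linter.style.haveILetI false
set_option linter.unusedSectionVars false
set_option autoImplicit false

namespace Groth.Agent.Helper7.DefHB

universe u

open Function LinearMap Matrix
open Groth.Agent.Helper7.HB

section mem

variable {R S : Type u} [CommRing R] [CommRing S] [Algebra R S]

theorem mem_smul_top_self_iff (𝔞 : Ideal R) (x : S) :
    x ∈ (𝔞 • ⊤ : Submodule R S) ↔ x ∈ 𝔞.map (algebraMap R S) := by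
  rw [Ideal.smul_top_eq_map]
  rfl

theorem mem_smul_top_pi_iff (𝔞 : Ideal R) {n : ℕ} (x : Fin n → S) :
    x ∈ (𝔞 • ⊤ : Submodule R (Fin n → S)) ↔ ∀ i, x i ∈ 𝔞.map (algebraMap R S) := by
  classical
  constructor
  · intro hx i
    induction hx using Submodule.smul_induction_on' with
    | smul a ha y _ =>
      rw [Pi.smul_apply, Algebra.smul_def]
      exact Ideal.mul_mem_right _ _ (Ideal.mem_map_of_mem _ ha)
    | add y _ z _ hy hz =>
      rw [Pi.add_apply]
      exact add_mem hy hz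
  · intro hx
    have hsum : x = ∑ i, (LinearMap.single R (fun _ : Fin n => S) i) (x i) := by
      funext k
      simp [Finset.sum_apply, Pi.single_apply]
    rw [hsum]
    refine Submodule.sum_mem _ fun i _ => ?_
    have hi : x i ∈ (𝔞 • ⊤ : Submodule R S) := (mem_smul_top_self_iff 𝔞 _).mpr (hx i)
    have h1 : (LinearMap.single R (fun _ : Fin n => S) i) (x i) ∈
        Submodule.map (LinearMap.single R (fun _ : Fin n => S) i) (𝔞 • ⊤) :=
      Submodule.mem_map_of_mem hi
    rw [Submodule.map_smul''] at h1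
    exact Submodule.smul_mono le_rfl le_top h1

variable (J 𝔪 : Ideal R) (hJ : J ≤ 𝔪)

include hJ in
theorem mk_mem_map_map_iff (s : S) :
    Ideal.Quotient.mk (J.map (algebraMap R S)) s ∈
        (𝔪.map (Ideal.Quotient.mk J)).map (algebraMap (R ⧸ J) (S ⧸ J.map (algebraMap R S))) ↔
      s ∈ 𝔪.map (algebraMap R S) := by
  have h1 : (𝔪.map (Ideal.Quotient.mk J)).map (algebraMap (R ⧸ J) (S ⧸ J.map (algebraMap R S))) =
      (𝔪.map (algebraMap R S)).map (Ideal.Quotient.mk (J.map (algebraMap R S))) := by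
    rw [Ideal.map_map, Ideal.map_map]
    rfl
  rw [h1]
  exact Ideal.mem_quotient_iff_mem (Ideal.map_mono hJ)

end mem

end Groth.Agent.Helper7.DefHB

namespace Groth.Agent.Helper7.DefHB

universe u

open Function LinearMap Matrix
open Groth.Agent.Helper7.HB

section main

variable {R : Type u} [CommRing R] (𝔪 : Ideal R) [𝔪.IsMaximal] (hnil : IsNilpotent 𝔪)
  (J : Ideal R) (hJ : J ≤ 𝔪) {S : Type u} [CommRing S] [Algebra R S] [Module.Flat R S]
  {r : ℕ} (φ' : Matrix (Fin (r + 1)) (Fin r) S)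

theorem flat_pi_fin {R₀ M₀ : Type u} [CommRing R₀] [AddCommGroup M₀] [Module R₀ M₀]
    [Module.Flat R₀ M₀] (n : ℕ) : Module.Flat R₀ (Fin n → M₀) := by
  have : Module.Flat R₀ (Π₀ _ : Fin n, M₀) := inferInstance
  exact Module.Flat.of_linearEquiv
    (DFinsupp.linearEquivFunOnFintype (R := R₀) (M := fun _ : Fin n => M₀)).symm

theorem flat_quot_of_range_eq {R₀ S₀ : Type u} [CommRing R₀] [CommRing S₀] [Algebra R₀ S₀]
    (I : Ideal S₀) (N : Submodule R₀ S₀) (hN : N = I.restrictScalars R₀) :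
    Module.Flat R₀ (S₀ ⧸ N) ↔ Module.Flat R₀ (S₀ ⧸ I) := by
  have e : (S₀ ⧸ N) ≃ₗ[R₀] (S₀ ⧸ I) :=
    (Submodule.quotEquivOfEq _ _ hN).trans (Submodule.Quotient.restrictScalarsEquiv R₀ I)
  exact Module.Flat.equiv_iff e

theorem range_lc_restrictScalars {R₀ S₀ : Type u} [CommRing R₀] [CommRing S₀] [Algebra R₀ S₀]
    {n : ℕ} (g : Fin n → S₀) :
    LinearMap.range ((Fintype.linearCombination S₀ g).restrictScalars R₀) =
      (Ideal.span (Set.range g)).restrictScalars R₀ := by
  ext x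
  have h : x ∈ LinearMap.range (Fintype.linearCombination S₀ g) ↔
      x ∈ Ideal.span (Set.range g) := by
    rw [Fintype.range_linearCombination]
  exact h

include hnil hJ in
theorem schaps_a
    (hinj : Injective (φ'.map (Ideal.Quotient.mk (J.map (algebraMap R S)))).mulVecLin)
    (hex : LinearMap.range (φ'.map (Ideal.Quotient.mk (J.map (algebraMap R S)))).mulVecLin =
      LinearMap.ker (Fintype.linearCombination (S ⧸ J.map (algebraMap R S))
        (Δ (φ'.map (Ideal.Quotient.mk (J.map (algebraMap R S)))))))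
    [Module.Flat (R ⧸ J) ((S ⧸ J.map (algebraMap R S)) ⧸
      Ideal.span (Set.range (Δ (φ'.map (Ideal.Quotient.mk (J.map (algebraMap R S)))))))] :
    Injective φ'.mulVecLin ∧
      LinearMap.range φ'.mulVecLin = LinearMap.ker (Fintype.linearCombination S (Δ φ')) ∧
      Module.Flat R (S ⧸ Ideal.span (Set.range (Δ φ'))) := by
  classical
  set q := Ideal.Quotient.mk (J.map (algebraMap R S)) with hq
  set φb := φ'.map q with hφb
  -- flatness of the barred modules
  haveI hSb : Module.Flat (R ⧸ J) (S ⧸ J.map (algebraMap R S)) :=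
    Module.Flat.of_linearEquiv
      (Algebra.TensorProduct.quotIdealMapEquivQuotTensor S J).toLinearEquiv
  -- the barred maps
  let e₂ : (Fin r → S ⧸ J.map (algebraMap R S)) →ₗ[R ⧸ J] (Fin (r + 1) → S ⧸ J.map (algebraMap R S)) :=
    φb.mulVecLin.restrictScalars (R ⧸ J)
  let e₁ : (Fin (r + 1) → S ⧸ J.map (algebraMap R S)) →ₗ[R ⧸ J] (S ⧸ J.map (algebraMap R S)) :=
    (Fintype.linearCombination (S ⧸ J.map (algebraMap R S)) (Δ φb)).restrictScalars (R ⧸ J)
  have he₂ : Injective e₂ := hinj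
  have hee : LinearMap.range e₂ = LinearMap.ker e₁ := by
    ext x
    have := congrArg (fun N => x ∈ N) hex
    exact iff_of_eq this
  haveI := flat_pi_fin (R₀ := R ⧸ J) (M₀ := S ⧸ J.map (algebraMap R S)) (r + 1)
  haveI := flat_pi_fin (R₀ := R) (M₀ := S) (r + 1)
  haveI : Module.Flat (R ⧸ J) ((S ⧸ J.map (algebraMap R S)) ⧸ LinearMap.range e₁) :=
    (flat_quot_of_range_eq _ _ (range_lc_restrictScalars (Δ φb))).mpr inferInstance
  obtain ⟨hb2, hb1⟩ := injMod_exactMod_of_flat e₂ e₁ he₂ hee (𝔪.map (Ideal.Quotient.mk J))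
  -- the maps upstairs
  let d₂ : (Fin r → S) →ₗ[R] (Fin (r + 1) → S) := φ'.mulVecLin.restrictScalars R
  let d₁ : (Fin (r + 1) → S) →ₗ[R] S := (Fintype.linearCombination S (Δ φ')).restrictScalars R
  -- reduction compatibilities
  have hred₂ : ∀ u : Fin r → S, (fun i => q ((φ' *ᵥ u) i)) = φb *ᵥ (fun j => q (u j)) := by
    intro u
    funext i
    exact RingHom.map_mulVec q φ' u i
  have hred₁ : ∀ v : Fin (r + 1) → S, q (∑ i, v i * Δ φ' i) = ∑ i, q (v i) * Δ φb i := by
    intro v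
    rw [map_sum]
    refine Finset.sum_congr rfl fun i _ => ?_
    rw [map_mul, hφb, Δ_map]
  have hmem : ∀ {n : ℕ} (x : Fin n → S),
      (fun i => q (x i)) ∈ ((𝔪.map (Ideal.Quotient.mk J)) • ⊤ :
        Submodule (R ⧸ J) (Fin n → S ⧸ J.map (algebraMap R S))) ↔
      x ∈ (𝔪 • ⊤ : Submodule R (Fin n → S)) := by
    intro n x
    rw [mem_smul_top_pi_iff, mem_smul_top_pi_iff]
    exact forall_congr' fun i => mk_mem_map_map_iff J 𝔪 hJ (x i)
  have hmem0 : ∀ x : S, q x ∈ ((𝔪.map (Ideal.Quotient.mk J)) • ⊤ :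
        Submodule (R ⧸ J) (S ⧸ J.map (algebraMap R S))) ↔ x ∈ (𝔪 • ⊤ : Submodule R S) := by
    intro x
    rw [mem_smul_top_self_iff, mem_smul_top_self_iff]
    exact mk_mem_map_map_iff J 𝔪 hJ x
  have h2 : InjMod d₂ 𝔪 := by
    intro u hu
    have hu' : φ' *ᵥ u ∈ (𝔪 • ⊤ : Submodule R (Fin (r + 1) → S)) := hu
    rw [← hmem, hred₂] at hu'
    have := hb2 (fun j => q (u j)) hu'
    exact (hmem u).mp this
  have h1 : ExactMod d₂ d₁ 𝔪 := by
    intro v hv
    have hv' : (∑ i, v i * Δ φ' i) ∈ (𝔪 • ⊤ : Submodule R S) := by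
      have : d₁ v = ∑ i, v i * Δ φ' i := by
        simp [d₁, Fintype.linearCombination_apply, smul_eq_mul]
      rw [← this]; exact hv
    rw [← hmem0, hred₁] at hv'
    have hv'' : e₁ (fun i => q (v i)) ∈ ((𝔪.map (Ideal.Quotient.mk J)) • ⊤ :
        Submodule (R ⧸ J) (S ⧸ J.map (algebraMap R S))) := by
      have : e₁ (fun i => q (v i)) = ∑ i, q (v i) * Δ φb i := by
        simp [e₁, Fintype.linearCombination_apply, smul_eq_mul]
      rw [this]; exact hv'
    obtain ⟨ub, hub⟩ := hb1 (fun i => q (v i)) hv''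
    obtain ⟨u, rfl⟩ : ∃ u : Fin r → S, (fun j => q (u j)) = ub :=
      (Ideal.Quotient.mk_surjective.comp_left) ub
    refine ⟨u, ?_⟩
    rw [← hmem]
    have : (fun i => q ((v - d₂ u) i)) = (fun i => q (v i)) - e₂ (fun j => q (u j)) := by
      have h3 : e₂ (fun j => q (u j)) = φb *ᵥ (fun j => q (u j)) := rfl
      rw [h3, ← hred₂]
      funext i
      simp [d₂]
    rw [this]
    exact hub
  have hcomp : d₁ ∘ₗ d₂ = 0 := by
    apply LinearMap.ext
    intro u
    have : (d₁ ∘ₗ d₂) u = ∑ i, (φ' *ᵥ u) i * Δ φ' i := by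
      simp [d₁, d₂, Fintype.linearCombination_apply, smul_eq_mul]
    rw [this, sum_Δ_mulVec]
    rfl
  obtain ⟨r1, r2, r3⟩ := resolution_of_mod d₂ d₁ 𝔪 hnil hcomp h2 h1
  refine ⟨r1, ?_, ?_⟩
  · ext x
    have := congrArg (fun N => x ∈ N) r2
    exact iff_of_eq this
  · exact (flat_quot_of_range_eq _ _ (range_lc_restrictScalars (Δ φ'))).mp r3

end main

end Groth.Agent.Helper7.DefHB
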