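import Mathlib
import Groth.Agent.Helper7.DefHB2
import Groth.Agent.Helper2.ArtinLift

set_option linter.style.haveILetI false
set_option linter.unusedSectionVars false
set_option autoImplicit false

namespace Groth.Agent.Helper7.DefHB

universe u

open Function LinearMap Matrix
open Groth.Agent.Helper7.HB

section cross

variable {S : Type u} [CommRing S] {n : ℕ}

lemma sum_cross_mul' [DecidableEq (Fin n)] (a b : S) (i j : Fin n) (x : Fin n → S) :
    ∑ k, (a • Pi.single i (1 : S) - b • Pi.single j (1 : S) : Fin n → S) k * x k =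
      a * x i - b * x j := by
  simp only [Pi.sub_apply, Pi.smul_apply, smul_eq_mul, sub_mul, Finset.sum_sub_distrib,
    Pi.single_apply, mul_ite, mul_one, mul_zero, ite_mul, zero_mul, Finset.sum_ite_eq',
    Finset.mem_univ, if_true]

/-- If `g` kills the columns of `φ` and `ker Δ ≤ range φ` then `g` and `Δ` are proportional. -/
theorem cross_of_kills {r : ℕ} (φ : Matrix (Fin (r + 1)) (Fin r) S) (g : Fin (r + 1) → S)
    (hg : ∀ j, ∑ i, φ i j * g i = 0)
    (hex : LinearMap.ker (Fintype.linearCombination S (Δ φ)) ≤ LinearMap.range φ.mulVecLin)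
    (i j : Fin (r + 1)) : g j * Δ φ i = g i * Δ φ j := by
  classical
  set v : Fin (r + 1) → S := Δ φ j • Pi.single i (1 : S) - Δ φ i • Pi.single j (1 : S) with hv
  have hvk : v ∈ LinearMap.ker (Fintype.linearCombination S (Δ φ)) := by
    rw [LinearMap.mem_ker, Fintype.linearCombination_apply]
    simp only [smul_eq_mul]
    rw [hv, sum_cross_mul']
    ring
  obtain ⟨u, hu⟩ := hex hvk
  have h1 : ∑ k, v k * g k = 0 := by
    rw [← hu]
    simp only [Matrix.mulVecLin_apply, Matrix.mulVec, dotProduct, Finset.sum_mul]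
    rw [Finset.sum_comm]
    refine Finset.sum_eq_zero fun l _ => ?_
    calc ∑ k, φ k l * u l * g k = u l * ∑ k, φ k l * g k := by
          rw [Finset.mul_sum]; exact Finset.sum_congr rfl fun k _ => by ring
      _ = 0 := by rw [hg l, mul_zero]
  rw [hv, sum_cross_mul'] at h1
  have := sub_eq_zero.mp h1
  rw [mul_comm (g j), mul_comm (g i)]
  exact this.symm

/-- Proportional families: a regular sequence of length two in `(Δ)` gives the factor. -/
theorem eq_mul_of_regular (D g : Fin n → S) (hcross : ∀ i j, g j * D i = g i * D j)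
    (c d : Fin n → S) (hx : IsSMulRegular S (∑ i, c i * D i))
    (hy : IsSMulRegular (QuotSMulTop (∑ i, c i * D i) S) (∑ i, d i * D i)) :
    ∃ a : S, (∑ i, c i * g i) = a * (∑ i, c i * D i) ∧ ∀ i, g i = a * D i := by
  set x := ∑ i, c i * D i with hxdef
  set y := ∑ i, d i * D i with hydef
  set x' := ∑ i, c i * g i with hx'def
  set y' := ∑ i, d i * g i with hy'def
  have H1 : ∀ i, g i * x = x' * D i := by
    intro i
    rw [hxdef, hx'def, Finset.mul_sum, Finset.sum_mul]
    refine Finset.sum_congr rfl fun k _ => ?_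
    calc g i * (c k * D k) = c k * (g i * D k) := by ring
      _ = c k * (g k * D i) := by rw [hcross k i]
      _ = c k * g k * D i := by ring
  have H1y : ∀ i, g i * y = y' * D i := by
    intro i
    rw [hydef, hy'def, Finset.mul_sum, Finset.sum_mul]
    refine Finset.sum_congr rfl fun k _ => ?_
    calc g i * (d k * D k) = d k * (g i * D k) := by ring
      _ = d k * (g k * D i) := by rw [hcross k i]
      _ = d k * g k * D i := by ring
  have H2 : x' * y = y' * x := by
    calc x' * y = ∑ i, c i * (g i * y) := by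
          rw [hx'def, Finset.sum_mul]; exact Finset.sum_congr rfl fun i _ => by ring
      _ = ∑ i, c i * (y' * D i) := by simp_rw [H1y]
      _ = y' * x := by
          rw [hxdef, Finset.mul_sum]; exact Finset.sum_congr rfl fun i _ => by ring
  -- `x'` is divisible by `x`
  have H3 : (Submodule.Quotient.mk x' : QuotSMulTop x S) = 0 := by
    apply hy
    show y • (Submodule.Quotient.mk x' : QuotSMulTop x S) = y • 0
    rw [smul_zero, ← Submodule.Quotient.mk_smul, Submodule.Quotient.mk_eq_zero, smul_eq_mul,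
      mul_comm, H2]
    exact (Submodule.mem_smul_pointwise_iff_exists _ _ _).mpr ⟨y', Submodule.mem_top, by
      rw [smul_eq_mul, mul_comm]⟩
  rw [Submodule.Quotient.mk_eq_zero] at H3
  obtain ⟨a, -, ha⟩ := (Submodule.mem_smul_pointwise_iff_exists _ _ _).mp H3
  rw [smul_eq_mul] at ha
  refine ⟨a, by rw [← ha, mul_comm], fun i => ?_⟩
  apply hx
  show x • g i = x • (a * D i)
  rw [smul_eq_mul, smul_eq_mul, mul_comm x (g i), H1 i, ← ha]
  ring

end cross

end Groth.Agent.Helper7.DefHB

namespace Groth.Agent.Helper7.DefHB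

universe u

open Function LinearMap Matrix IsLocalRing
open Groth.Agent.Helper7.HB
open Groth.Agent.Helper2.ContentIdeal

section lift

variable {R : Type u} [CommRing R] {S : Type u} [CommRing S] [Algebra R S]

/-- A nilpotent ideal plus `K` is everything only if `K` is. -/
theorem eq_top_of_map_eq_top (N : Ideal S) (hN : IsNilpotent N) (K : Ideal S)
    (h : K.map (Ideal.Quotient.mk N) = ⊤) : K = ⊤ := by
  have h1 : (1 : S ⧸ N) ∈ K.map (Ideal.Quotient.mk N) := by rw [h]; trivial
  rw [Ideal.mem_map_iff_of_surjective _ Ideal.Quotient.mk_surjective] at h1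
  obtain ⟨k, hk, hk1⟩ := h1
  have h2 : k - 1 ∈ N := by
    rw [← Ideal.Quotient.eq_zero_iff_mem, map_sub, hk1, map_one, sub_self]
  obtain ⟨m, hm⟩ := hN
  have h3 : IsNilpotent (k - 1) := ⟨m, by
    have : (k - 1) ^ m ∈ N ^ m := Ideal.pow_mem_pow h2 m
    rw [hm] at this
    exact this⟩
  have h4 : IsUnit k := by
    have := h3.isUnit_add_one
    rwa [sub_add_cancel] at this
  exact Ideal.eq_top_of_isUnit_mem K hk h4

theorem isNilpotent_map_of_isNilpotent (𝔞 : Ideal R) (h : IsNilpotent 𝔞) :
    IsNilpotent (𝔞.map (algebraMap R S)) := by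
  obtain ⟨m, hm⟩ := h
  refine ⟨m, ?_⟩
  rw [← Ideal.map_pow, hm, Ideal.zero_eq_bot, Ideal.map_bot]
  rfl

/-- Elements of `I' ∩ JS` are combinations of generators of `I'` with coefficients in `JS`, when
`S ⧸ I'` is flat. -/
theorem exists_coeff_of_mem_inf (J : Ideal R) (I' : Ideal S) [Module.Flat R (S ⧸ I')]
    {n : ℕ} (g : Fin n → S) (hg : I' = Ideal.span (Set.range g)) (s : S) (hs : s ∈ I')
    (hsJ : s ∈ J.map (algebraMap R S)) :
    ∃ c : Fin n → S, (∀ i, c i ∈ J.map (algebraMap R S)) ∧ s = ∑ i, c i * g i := by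
  set π : S →ₗ[R] (S ⧸ I') := (Ideal.Quotient.mkₐ R I').toLinearMap with hπ
  have hπs : Surjective π := Ideal.Quotient.mk_surjective
  have hker : ∀ z : S, z ∈ LinearMap.ker π ↔ z ∈ I' := by
    intro z
    rw [LinearMap.mem_ker]
    exact Ideal.Quotient.eq_zero_iff_mem
  have key : ∀ t : S, t ∈ J • LinearMap.ker π →
      ∃ c : Fin n → S, (∀ i, c i ∈ J.map (algebraMap R S)) ∧ t = ∑ i, c i * g i := by
    intro t ht
    induction ht using Submodule.smul_induction_on' with
    | smul a ha z hz =>
      have hz' : z ∈ Ideal.span (Set.range g) := by rw [← hg]; exact (hker z).mp hz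
      obtain ⟨c, hc⟩ := (Ideal.mem_span_range_iff_exists_fun).mp hz'
      refine ⟨fun i => algebraMap R S a * c i, fun i => ?_, ?_⟩
      · exact Ideal.mul_mem_right _ _ (Ideal.mem_map_of_mem _ ha)
      · rw [Algebra.smul_def, ← hc, Finset.mul_sum]
        exact Finset.sum_congr rfl fun i _ => by ring
    | add y _ z _ hy hz =>
      obtain ⟨c₁, hc₁, e₁⟩ := hy
      obtain ⟨c₂, hc₂, e₂⟩ := hz
      refine ⟨c₁ + c₂, fun i => add_mem (hc₁ i) (hc₂ i), ?_⟩
      rw [e₁, e₂, ← Finset.sum_add_distrib]
      exact Finset.sum_congr rfl fun i _ => by rw [Pi.add_apply]; ring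
  have h1 : s ∈ LinearMap.ker π ⊓ J • ⊤ :=
    ⟨(hker s).mpr hs, (mem_smul_top_self_iff J s).mpr hsJ⟩
  exact key s (ker_inf_smul_le π hπs J h1)

end lift

end Groth.Agent.Helper7.DefHB
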