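import Mathlib
import Groth.Agent.Helper7.DefHB3

set_option linter.style.haveILetI false
set_option linter.unusedSectionVars false
set_option autoImplicit false

namespace Groth.Agent.Helper7.DefHB

universe u

open Function LinearMap Matrix IsLocalRing
open Groth.Agent.Helper7.HB

/-- Schaps (b): a flat lift of a determinantal codimension-two ideal is determinantal, with a
matrix lifting the given one. -/
theorem schaps_b {R : Type u} [CommRing R] [IsLocalRing R] (hnil : IsNilpotent (maximalIdeal R))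
    (J : Ideal R) (hJ : J ≠ ⊤) {S : Type u} [CommRing S] [Algebra R S] [Module.Flat R S]
    {r : ℕ} (φ : Matrix (Fin (r + 1)) (Fin r) (S ⧸ J.map (algebraMap R S)))
    (hinj : Injective φ.mulVecLin)
    (hex : LinearMap.range φ.mulVecLin =
      LinearMap.ker (Fintype.linearCombination (S ⧸ J.map (algebraMap R S)) (Δ φ)))
    [Module.Flat (R ⧸ J) ((S ⧸ J.map (algebraMap R S)) ⧸ Ideal.span (Set.range (Δ φ)))]
    (I' : Ideal S) [Module.Flat R (S ⧸ I')]
    (hI' : I'.map (Ideal.Quotient.mk (J.map (algebraMap R S))) = Ideal.span (Set.range (Δ φ)))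
    (hgrade : I'.map (Ideal.Quotient.mk ((maximalIdeal R).map (algebraMap R S))) = ⊤ ∨
      ∃ x₀ y₀, x₀ ∈ I'.map (Ideal.Quotient.mk ((maximalIdeal R).map (algebraMap R S))) ∧
        y₀ ∈ I'.map (Ideal.Quotient.mk ((maximalIdeal R).map (algebraMap R S))) ∧
        RingTheory.Sequence.IsRegular (S ⧸ (maximalIdeal R).map (algebraMap R S)) [x₀, y₀]) :
    ∃ φ' : Matrix (Fin (r + 1)) (Fin r) S,
      φ'.map (Ideal.Quotient.mk (J.map (algebraMap R S))) = φ ∧
      I' = Ideal.span (Set.range (Δ φ')) := by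
  classical
  set q := Ideal.Quotient.mk (J.map (algebraMap R S)) with hq
  set q₀ := Ideal.Quotient.mk ((maximalIdeal R).map (algebraMap R S)) with hq₀
  have hJm : J ≤ maximalIdeal R := le_maximalIdeal hJ
  have hJnil : IsNilpotent J := Groth.Agent.Helper2.ArtinLift.isNilpotent_of_ne_top hnil J hJ
  have hmSnil : IsNilpotent ((maximalIdeal R).map (algebraMap R S)) :=
    isNilpotent_map_of_isNilpotent _ hnil
  -- (A) generators
  have hA : ∀ i, ∃ gi ∈ I', q gi = Δ φ i := by
    intro i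
    have : Δ φ i ∈ I'.map q := by rw [hI']; exact Ideal.subset_span ⟨i, rfl⟩
    rwa [Ideal.mem_map_iff_of_surjective q Ideal.Quotient.mk_surjective] at this
  choose g hgI hgq using hA
  -- (B) they generate
  have hB : I' = Ideal.span (Set.range g) := by
    apply Groth.Agent.Helper2.ArtinLift.eq_span_of_map_eq_span J hJnil I' g hgI
    rw [hI']
    congr 2
    funext i
    exact (hgq i).symm
  -- (C) lift the relations
  obtain ⟨ψ, hψ⟩ : ∃ ψ : Matrix (Fin (r + 1)) (Fin r) S, ψ.map q = φ := by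
    refine ⟨Matrix.of fun i j => Classical.choose (Ideal.Quotient.mk_surjective (φ i j)), ?_⟩
    ext i j
    exact Classical.choose_spec (Ideal.Quotient.mk_surjective (φ i j))
  have hC : ∀ j, ∃ c : Fin (r + 1) → S, (∀ i, c i ∈ J.map (algebraMap R S)) ∧
      ∑ i, ψ i j * g i = ∑ i, c i * g i := by
    intro j
    apply exists_coeff_of_mem_inf J I' g hB
    · exact Ideal.sum_mem _ fun i _ => Ideal.mul_mem_left _ _ (hgI i)
    · rw [← Ideal.Quotient.eq_zero_iff_mem, map_sum]
      have : ∀ i, q (ψ i j * g i) = φ i j * Δ φ i := by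
        intro i
        rw [map_mul, hgq, ← hψ]
        rfl
      rw [Finset.sum_congr rfl fun i _ => this i]
      exact sum_mul_Δ_col φ j
  choose c hcJ hc using hC
  set φ'' : Matrix (Fin (r + 1)) (Fin r) S := Matrix.of fun i j => ψ i j - c j i with hφ''
  have hφ''q : φ''.map q = φ := by
    ext i j
    have h0 : q (c j i) = 0 := Ideal.Quotient.eq_zero_iff_mem.mpr (hcJ j i)
    have : (φ''.map q) i j = q (ψ i j) - q (c j i) := by
      simp [hφ'', Matrix.map_apply]
    rw [this, h0, sub_zero, ← hψ]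
    rfl
  have hkill : ∀ j, ∑ i, φ'' i j * g i = 0 := by
    intro j
    have : ∀ i, φ'' i j * g i = ψ i j * g i - c j i * g i := by
      intro i
      simp [hφ'', sub_mul]
    rw [Finset.sum_congr rfl fun i _ => this i, Finset.sum_sub_distrib, hc j, sub_self]
  -- (D) the lifted matrix gives a resolution
  have hinj' : Injective (φ''.map q).mulVecLin := by rw [hφ''q]; exact hinj
  have hex' : LinearMap.range (φ''.map q).mulVecLin =
      LinearMap.ker (Fintype.linearCombination (S ⧸ J.map (algebraMap R S)) (Δ (φ''.map q))) := by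
    rw [hφ''q]; exact hex
  haveI : Module.Flat (R ⧸ J) ((S ⧸ J.map (algebraMap R S)) ⧸
      Ideal.span (Set.range (Δ (φ''.map q)))) := by
    rw [hφ''q]; infer_instance
  obtain ⟨-, d2, -⟩ := schaps_a (maximalIdeal R) hnil J hJm φ'' hinj' hex'
  -- (F) cross relations
  have hcross := cross_of_kills φ'' g hkill (le_of_eq d2.symm)
  refine ⟨φ'', hφ''q, ?_⟩
  -- reductions modulo the maximal ideal agree
  have hgΔ : ∀ i, g i - Δ φ'' i ∈ (maximalIdeal R).map (algebraMap R S) := by
    intro i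
    apply Ideal.map_mono hJm
    rw [← Ideal.Quotient.eq_zero_iff_mem, map_sub, sub_eq_zero]
    show q (g i) = q (Δ φ'' i)
    rw [hgq, ← Δ_map, hφ''q]
  have hq₀ : ∀ i, q₀ (g i) = q₀ (Δ φ'' i) := by
    intro i
    rw [← sub_eq_zero, ← map_sub]
    exact Ideal.Quotient.eq_zero_iff_mem.mpr (hgΔ i)
  have hmapeq : I'.map q₀ = (Ideal.span (Set.range (Δ φ''))).map q₀ := by
    rw [hB, Ideal.map_span, Ideal.map_span]
    congr 1
    ext z
    constructor
    · rintro ⟨_, ⟨i, rfl⟩, rfl⟩
      exact ⟨_, ⟨i, rfl⟩, (hq₀ i).symm⟩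
    · rintro ⟨_, ⟨i, rfl⟩, rfl⟩
      exact ⟨_, ⟨i, rfl⟩, hq₀ i⟩
  rcases hgrade with htop | ⟨x₀, y₀, hx₀, hy₀, hreg⟩
  · have h1 : I' = ⊤ := eq_top_of_map_eq_top _ hmSnil I' htop
    have h2 : Ideal.span (Set.range (Δ φ'')) = ⊤ :=
      eq_top_of_map_eq_top _ hmSnil _ (by rw [← hmapeq]; exact htop)
    rw [h1, h2]
  · rw [hmapeq, Ideal.mem_map_iff_of_surjective q₀ Ideal.Quotient.mk_surjective] at hx₀ hy₀
    obtain ⟨x, hxI, rfl⟩ := hx₀
    obtain ⟨y, hyI, rfl⟩ := hy₀
    obtain ⟨cx, hcx⟩ := (Ideal.mem_span_range_iff_exists_fun).mp hxI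
    obtain ⟨cy, hcy⟩ := (Ideal.mem_span_range_iff_exists_fun).mp hyI
    have hregS := (Groth.Agent.Helper2.ArtinLift.isRegular_and_flat_of_isRegular_quotient hnil
      (maximalIdeal R) (maximalIdeal.isMaximal R).ne_top [x, y] hreg).1
    have hw := hregS.toIsWeaklyRegular
    rw [RingTheory.Sequence.isWeaklyRegular_cons_iff] at hw
    obtain ⟨hxreg, hw2⟩ := hw
    rw [RingTheory.Sequence.isWeaklyRegular_singleton_iff] at hw2
    rw [← hcx] at hxreg hw2
    rw [← hcy] at hw2
    obtain ⟨a, ha1, ha2⟩ := eq_mul_of_regular (Δ φ'') g hcross cx cy hxreg hw2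
    -- `a` is a unit
    have hx₀reg : IsSMulRegular (S ⧸ (maximalIdeal R).map (algebraMap R S)) (q₀ x) := by
      have := hreg.toIsWeaklyRegular
      rw [RingTheory.Sequence.isWeaklyRegular_cons_iff] at this
      exact this.1
    have h3 : q₀ (a - 1) = 0 := by
      apply hx₀reg
      show q₀ x • q₀ (a - 1) = q₀ x • 0
      rw [smul_zero, smul_eq_mul, ← map_mul, ← hcx]
      have : (∑ i, cx i * Δ φ'' i) * (a - 1) = ∑ i, cx i * (g i - Δ φ'' i) := by
        rw [mul_sub, mul_one, mul_comm, ← ha1, ← Finset.sum_sub_distrib]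
        exact Finset.sum_congr rfl fun i _ => by ring
      rw [this, map_sum]
      refine Finset.sum_eq_zero fun i _ => ?_
      rw [map_mul, Ideal.Quotient.eq_zero_iff_mem.mpr (hgΔ i), mul_zero]
    have h4 : a - 1 ∈ (maximalIdeal R).map (algebraMap R S) := Ideal.Quotient.eq_zero_iff_mem.mp h3
    obtain ⟨m, hm⟩ := hmSnil
    have h5 : IsNilpotent (a - 1) := ⟨m, by
      have : (a - 1) ^ m ∈ ((maximalIdeal R).map (algebraMap R S)) ^ m := Ideal.pow_mem_pow h4 m
      rw [hm] at this
      exact this⟩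
    have haunit : IsUnit a := by
      have := h5.isUnit_add_one
      rwa [sub_add_cancel] at this
    rw [hB]
    apply le_antisymm
    · rw [Ideal.span_le]
      rintro _ ⟨i, rfl⟩
      rw [ha2 i]
      exact Ideal.mul_mem_left _ _ (Ideal.subset_span ⟨i, rfl⟩)
    · rw [Ideal.span_le]
      rintro _ ⟨i, rfl⟩
      obtain ⟨b, hb⟩ := haunit.exists_left_inv
      have : Δ φ'' i = b * g i := by rw [ha2 i, ← mul_assoc, hb, one_mul]
      rw [this]
      exact Ideal.mul_mem_left _ _ (Ideal.subset_span ⟨i, rfl⟩)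

end Groth.Agent.Helper7.DefHB
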