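import Mathlib
import Groth.Agent.Helper7.DefHB4
import Groth.Agent.Helper1.RegGrade
import Groth.Agent.Helper2.DepthCM
import Groth.Agent.Helper2.DepthRees
import Groth.Agent.Helper2.Ass
import Groth.Agent.Helper2.SepTensorReg

set_option linter.style.haveILetI false
set_option linter.unusedSectionVars false
set_option autoImplicit false

namespace Groth.Agent.Helper7.DefHB

universe u

open Function IsLocalRing RingTheory.Sequence

/-- In a regular ring, an ideal all of whose primes have height at least two contains a regular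
sequence of length two. -/
theorem exists_regular_pair {B : Type u} [CommRing B] [IsRegularRing B] (I : Ideal B) (hI : I ≠ ⊤)
    (hht : ∀ p : Ideal B, p.IsPrime → I ≤ p → (2 : ℕ∞) ≤ p.height) :
    ∃ x y, x ∈ I ∧ y ∈ I ∧ IsRegular B [x, y] := by
  classical
  have hIM : I • (⊤ : Submodule B B) ≠ ⊤ := by
    rw [smul_eq_mul, Ideal.mul_top]; exact hI
  obtain ⟨rs, hreg, hmem, hmax, hlen⟩ :=
    Groth.Agent.Helper2.DepthCM.exists_length_eq_idealDepth I B hIM
  have hle : Ideal.ofList rs ≤ I := Groth.Agent.Helper2.DepthCM.ofList_le rs hmem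
  have hne : Ideal.ofList rs • (⊤ : Submodule B B) ≠ ⊤ := by
    rw [smul_eq_mul, Ideal.mul_top]
    exact fun h => hI (top_le_iff.mp (h ▸ hle))
  haveI : Nontrivial (B ⧸ Ideal.ofList rs • (⊤ : Submodule B B)) :=
    Submodule.Quotient.nontrivial_iff.2 hne
  have hnr : ∀ x ∈ I, ¬ IsSMulRegular (B ⧸ Ideal.ofList rs • (⊤ : Submodule B B)) x := by
    intro x hx hxr
    apply hmax x hx
    rw [isWeaklyRegular_append_iff]
    exact ⟨hreg, (isWeaklyRegular_singleton_iff _ x).2 hxr⟩
  obtain ⟨p₀, hp₀⟩ := associatedPrimes.nonempty B (B ⧸ Ideal.ofList rs • (⊤ : Submodule B B))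
  obtain ⟨P, hPass, hIP⟩ : ∃ P ∈ associatedPrimes B (B ⧸ Ideal.ofList rs • (⊤ : Submodule B B)),
      I ≤ P := by
    rcases Groth.Agent.Helper2.Ass.exists_le_assPrime_or_le B
      (B ⧸ Ideal.ofList rs • (⊤ : Submodule B B)) I p₀ (fun x hx _ => hnr x hx) with h1 | h1
    · exact ⟨p₀, hp₀, h1⟩
    · exact h1
  have hPass' : IsAssociatedPrime P (B ⧸ Ideal.ofList rs • (⊤ : Submodule B B)) := hPass
  haveI hPprime : P.IsPrime := hPass'.isPrime
  obtain ⟨-, y, hy⟩ := (isAssociatedPrime_iff).1 hPass'
  have hy0 : y ≠ 0 := by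
    rintro rfl
    apply hPprime.ne_top
    rw [hy, eq_top_iff]
    intro r _
    rw [Submodule.mem_colon_singleton, smul_zero]
    exact Submodule.zero_mem _
  have hmaxP : ∀ r ∈ P, ¬ IsWeaklyRegular B (rs ++ [r]) := by
    intro r hr hw
    rw [isWeaklyRegular_append_iff, isWeaklyRegular_singleton_iff] at hw
    have hry : r • y = 0 := by
      rw [hy, Submodule.mem_colon_singleton, Submodule.mem_bot] at hr
      exact hr
    exact hy0 (hw.2 (hry.trans (smul_zero r).symm))
  have hPM : P • (⊤ : Submodule B B) ≠ ⊤ := by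
    rw [smul_eq_mul, Ideal.mul_top]; exact hPprime.ne_top
  have hlenP := Groth.Agent.Helper2.DepthRees.length_eq_idealDepth_of_maximal (I := P) B hPM rs
    hreg (fun r hr => hIP (hmem r hr)) hmaxP
  have h2 : (2 : ℕ∞) ≤ rs.length := by
    rw [hlenP]
    exact (hht P hPprime hIP).trans (Groth.Agent.Helper1.RegGrade.height_le_idealDepth P)
  have h2' : 2 ≤ rs.length := by exact_mod_cast h2
  obtain ⟨x, y', rest, rfl⟩ : ∃ x y' rest, rs = x :: y' :: rest := by
    match rs, h2' with
    | x :: y' :: rest, _ => exact ⟨x, y', rest, rfl⟩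
  refine ⟨x, y', hmem x (by simp), hmem y' (by simp), ?_, ?_⟩
  · have : x :: y' :: rest = [x, y'] ++ rest := rfl
    rw [this, isWeaklyRegular_append_iff] at hreg
    exact hreg.1
  · have hle2 : Ideal.ofList [x, y'] ≤ I := by
      apply Groth.Agent.Helper2.DepthCM.ofList_le
      intro r hr
      apply hmem
      simp only [List.mem_cons, List.not_mem_nil, or_false] at hr
      rcases hr with rfl | rfl <;> simp
    rw [smul_eq_mul, Ideal.mul_top]
    exact fun h => hI (top_le_iff.mp (h ▸ hle2))

/-- The special fibre of a smooth finite type algebra is a regular ring. -/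
theorem isRegularRing_fibre (C : Type u) [CommRing C] [IsLocalRing C] (A : Type u) [CommRing A]
    [Algebra C A] [Algebra.FiniteType C A]
    [Algebra.Smooth (C ⧸ maximalIdeal C) (A ⧸ (maximalIdeal C).map (algebraMap C A))] :
    IsRegularRing (A ⧸ (maximalIdeal C).map (algebraMap C A)) := by
  letI : Field (C ⧸ maximalIdeal C) := Ideal.Quotient.field _
  haveI : Algebra.FinitePresentation (C ⧸ maximalIdeal C)
      (A ⧸ (maximalIdeal C).map (algebraMap C A)) := Algebra.Smooth.finitePresentation
  haveI : Algebra.FiniteType (C ⧸ maximalIdeal C) (A ⧸ (maximalIdeal C).map (algebraMap C A)) :=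
    inferInstance
  haveI : Algebra.EssFiniteType (C ⧸ maximalIdeal C)
      (A ⧸ (maximalIdeal C).map (algebraMap C A)) := inferInstance
  haveI : Algebra.FormallySmooth (C ⧸ maximalIdeal C)
      (A ⧸ (maximalIdeal C).map (algebraMap C A)) := Algebra.Smooth.formallySmooth
  exact Groth.Agent.Helper2.SepTensorReg.isRegularRing_of_formallySmooth (C ⧸ maximalIdeal C) _

end Groth.Agent.Helper7.DefHB
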