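import Mathlib
import Groth.Agent.Helper7.DefHB5

set_option linter.style.haveILetI false
set_option linter.unusedSectionVars false
set_option autoImplicit false

namespace Groth.Agent.Helper7.DefHB

universe u

open Function IsLocalRing RingTheory.Sequence Matrix
open Groth.Agent.Helper7.HB

theorem isNilpotent_maximalIdeal' (C : Type u) [CommRing C] [IsLocalRing C] [IsArtinianRing C] :
    IsNilpotent (maximalIdeal C) := by
  rw [← IsLocalRing.jacobson_eq_maximalIdeal (⊥ : Ideal C) bot_ne_top]
  exact IsArtinianRing.isNilpotent_jacobson_bot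

theorem s11458 (C : Type u) [CommRing C]
    [IsLocalRing C] [IsArtinianRing C] (A : Type u) [CommRing A] [Algebra C A] [Module.Flat C A]
    [Algebra.FiniteType C A]
    [Algebra.Smooth (C ⧸ maximalIdeal C) (A ⧸ (maximalIdeal C).map (algebraMap C A))]
    (I : Ideal A) [Module.Flat C (A ⧸ I)]
    (hcodim : ∀ p : Ideal (A ⧸ (maximalIdeal C).map (algebraMap C A)), p.IsPrime →
      I.map (Ideal.Quotient.mk ((maximalIdeal C).map (algebraMap C A))) ≤ p → (2 : ℕ∞) ≤ p.height)
    (r : ℕ)
    (φ₀ : Matrix (Fin (r + 1)) (Fin r) (A ⧸ (maximalIdeal C).map (algebraMap C A)))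
    (h₀ : Ideal.span (Set.range (Δ φ₀)) =
        I.map (Ideal.Quotient.mk ((maximalIdeal C).map (algebraMap C A))) ∧
      Function.Injective φ₀.mulVecLin ∧
      LinearMap.range φ₀.mulVecLin = LinearMap.ker
        (Fintype.linearCombination (A ⧸ (maximalIdeal C).map (algebraMap C A)) (Δ φ₀))) :
    ∃ φ : Matrix (Fin (r + 1)) (Fin r) A, Ideal.span (Set.range (Δ φ)) = I ∧
      Function.Injective φ.mulVecLin ∧
      LinearMap.range φ.mulVecLin = LinearMap.ker (Fintype.linearCombination A (Δ φ)) := by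
  have hnil := isNilpotent_maximalIdeal' C
  have hne : maximalIdeal C ≠ ⊤ := (maximalIdeal.isMaximal C).ne_top
  obtain ⟨h01, h02, h03⟩ := h₀
  haveI : IsRegularRing (A ⧸ (maximalIdeal C).map (algebraMap C A)) := isRegularRing_fibre C A
  haveI hflat0 : Module.Flat (C ⧸ maximalIdeal C) ((A ⧸ (maximalIdeal C).map (algebraMap C A)) ⧸
      Ideal.span (Set.range (Δ φ₀))) := by
    letI : Field (C ⧸ maximalIdeal C) := Ideal.Quotient.field _
    infer_instance
  have hgrade : I.map (Ideal.Quotient.mk ((maximalIdeal C).map (algebraMap C A))) = ⊤ ∨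
      ∃ x₀ y₀, x₀ ∈ I.map (Ideal.Quotient.mk ((maximalIdeal C).map (algebraMap C A))) ∧
        y₀ ∈ I.map (Ideal.Quotient.mk ((maximalIdeal C).map (algebraMap C A))) ∧
        IsRegular (A ⧸ (maximalIdeal C).map (algebraMap C A)) [x₀, y₀] := by
    by_cases htop : I.map (Ideal.Quotient.mk ((maximalIdeal C).map (algebraMap C A))) = ⊤
    · exact Or.inl htop
    · exact Or.inr (exists_regular_pair _ htop hcodim)
  obtain ⟨φ', hφ'1, hφ'2⟩ := schaps_b hnil (maximalIdeal C) hne φ₀ h02 h03 I h01.symm hgrade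
  have hinj' : Injective (φ'.map (Ideal.Quotient.mk
      ((maximalIdeal C).map (algebraMap C A)))).mulVecLin := by rw [hφ'1]; exact h02
  have hex' : LinearMap.range (φ'.map (Ideal.Quotient.mk
      ((maximalIdeal C).map (algebraMap C A)))).mulVecLin =
      LinearMap.ker (Fintype.linearCombination (A ⧸ (maximalIdeal C).map (algebraMap C A))
        (Δ (φ'.map (Ideal.Quotient.mk ((maximalIdeal C).map (algebraMap C A)))))) := by
    rw [hφ'1]; exact h03
  haveI : Module.Flat (C ⧸ maximalIdeal C) ((A ⧸ (maximalIdeal C).map (algebraMap C A)) ⧸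
      Ideal.span (Set.range (Δ (φ'.map (Ideal.Quotient.mk
        ((maximalIdeal C).map (algebraMap C A))))))) := by
    rw [hφ'1]; exact hflat0
  obtain ⟨d1, d2, -⟩ := schaps_a (maximalIdeal C) hnil (maximalIdeal C) le_rfl φ' hinj' hex'
  exact ⟨φ', hφ'2.symm, d1, d2⟩

end Groth.Agent.Helper7.DefHB
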