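import Mathlib
import Groth.Agent.Helper7.DefHB6

set_option linter.style.haveILetI false
set_option linter.unusedSectionVars false
set_option autoImplicit false

namespace Groth.Agent.Helper7.DefHB

universe u

open Function IsLocalRing RingTheory.Sequence Matrix
open Groth.Agent.Helper7.HB

/-- Heights do not grow under comap along a surjection with nil kernel. -/
theorem height_comap_le_nat {A A₀ : Type u} [CommRing A] [CommRing A₀] (π : A →+* A₀)
    (hπ : Surjective π) (hker : RingHom.ker π ≤ nilradical A) :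
    ∀ (n : ℕ) (p₀ : Ideal A₀) [p₀.IsPrime], p₀.height ≤ n → (p₀.comap π).height ≤ n := by
  intro n
  induction n with
  | zero =>
    intro p₀ _ h
    rw [Ideal.height_le_iff] at h ⊢
    intro q hq hqp
    exfalso
    have hkq : RingHom.ker π ≤ q := hker.trans (nilradical_le_prime q)
    haveI : (q.map π).IsPrime := Ideal.map_isPrime_of_surjective hπ hkq
    have hcm : (q.map π).comap π = q := by
      rw [Ideal.comap_map_of_surjective π hπ]
      exact sup_eq_left.mpr (by rwa [← RingHom.ker_eq_comap_bot])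
    have hlt : q.map π < p₀ := by
      rw [lt_iff_le_and_ne]
      refine ⟨Ideal.map_le_iff_le_comap.mpr hqp.le, ?_⟩
      intro heq
      rw [← heq, hcm] at hqp
      exact lt_irrefl _ hqp
    have := h (q.map π) inferInstance hlt
    simp at this
  | succ n ih =>
    intro p₀ _ h
    rw [Ideal.height_le_iff] at h ⊢
    intro q hq hqp
    have hkq : RingHom.ker π ≤ q := hker.trans (nilradical_le_prime q)
    haveI : (q.map π).IsPrime := Ideal.map_isPrime_of_surjective hπ hkq
    have hcm : (q.map π).comap π = q := by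
      rw [Ideal.comap_map_of_surjective π hπ]
      exact sup_eq_left.mpr (by rwa [← RingHom.ker_eq_comap_bot])
    have hlt : q.map π < p₀ := by
      rw [lt_iff_le_and_ne]
      refine ⟨Ideal.map_le_iff_le_comap.mpr hqp.le, ?_⟩
      intro heq
      rw [← heq, hcm] at hqp
      exact lt_irrefl _ hqp
    have h1 := h (q.map π) inferInstance hlt
    have h2 : (q.map π).height ≤ n := by
      have : (q.map π).height < (n : ℕ∞) + 1 := by exact_mod_cast h1
      exact (ENat.lt_add_one_iff (ENat.natCast_ne_top n)).mp this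
    have h3 := ih (q.map π) h2
    rw [hcm] at h3
    exact lt_of_le_of_lt h3 (by exact_mod_cast Nat.lt_succ_self n)

theorem two_le_height_of_comap {A A₀ : Type u} [CommRing A] [CommRing A₀] (π : A →+* A₀)
    (hπ : Surjective π) (hker : RingHom.ker π ≤ nilradical A) (p₀ : Ideal A₀) [p₀.IsPrime]
    (h : (2 : ℕ∞) ≤ (p₀.comap π).height) : (2 : ℕ∞) ≤ p₀.height := by
  by_contra hcon
  push Not at hcon
  have h1 : p₀.height ≤ (1 : ℕ) := by
    have : p₀.height < (1 : ℕ∞) + 1 := by
      rw [one_add_one_eq_two]; exact hcon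
    exact (ENat.lt_add_one_iff ENat.one_ne_top).mp this
  have h2 := height_comap_le_nat π hπ hker 1 p₀ h1
  have : (2 : ℕ∞) ≤ (1 : ℕ) := h.trans h2
  norm_num at this

theorem s11459 (C' : Type u) [CommRing C'] [IsLocalRing C'] [IsArtinianRing C'] (J : Ideal C')
    (hJne : J ≠ ⊤) (A' : Type u) [CommRing A'] [Algebra C' A'] [Module.Flat C' A']
    [Algebra.FiniteType C' A']
    [Algebra.Smooth (C' ⧸ maximalIdeal C') (A' ⧸ (maximalIdeal C').map (algebraMap C' A'))]
    (r : ℕ) (φ : Matrix (Fin (r + 1)) (Fin r) (A' ⧸ J.map (algebraMap C' A')))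
    (hφ : Function.Injective φ.mulVecLin ∧
      LinearMap.range φ.mulVecLin = LinearMap.ker
        (Fintype.linearCombination (A' ⧸ J.map (algebraMap C' A')) (Δ φ)))
    [Module.Flat (C' ⧸ J) ((A' ⧸ J.map (algebraMap C' A')) ⧸ Ideal.span (Set.range (Δ φ)))]
    (hcodim : ∀ p : Ideal (A' ⧸ J.map (algebraMap C' A')), p.IsPrime →
      Ideal.span (Set.range (Δ φ)) ≤ p → (2 : ℕ∞) ≤ p.height)
    (I' : Ideal A') [Module.Flat C' (A' ⧸ I')]
    (hI' : I'.map (Ideal.Quotient.mk (J.map (algebraMap C' A'))) = Ideal.span (Set.range (Δ φ))) :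
    ∃ φ' : Matrix (Fin (r + 1)) (Fin r) A',
      φ'.map (Ideal.Quotient.mk (J.map (algebraMap C' A'))) = φ ∧
      I' = Ideal.span (Set.range (Δ φ')) := by
  have hnil := isNilpotent_maximalIdeal' C'
  have hJm : J ≤ maximalIdeal C' := le_maximalIdeal hJne
  haveI : IsRegularRing (A' ⧸ (maximalIdeal C').map (algebraMap C' A')) := isRegularRing_fibre C' A'
  set q := Ideal.Quotient.mk (J.map (algebraMap C' A')) with hq
  set q₀ := Ideal.Quotient.mk ((maximalIdeal C').map (algebraMap C' A')) with hq₀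
  have hle : J.map (algebraMap C' A') ≤ (maximalIdeal C').map (algebraMap C' A') :=
    Ideal.map_mono hJm
  set π : (A' ⧸ J.map (algebraMap C' A')) →+* (A' ⧸ (maximalIdeal C').map (algebraMap C' A')) :=
    Ideal.Quotient.factor hle with hπdef
  have hπs : Surjective π := Ideal.Quotient.factor_surjective hle
  have hπq : π.comp q = q₀ := Ideal.Quotient.factor_comp_mk hle
  have hker : RingHom.ker π ≤ nilradical (A' ⧸ J.map (algebraMap C' A')) := by
    intro z hz
    obtain ⟨a, rfl⟩ := Ideal.Quotient.mk_surjective z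
    have h1 : q₀ a = 0 := by
      rw [← hπq]; exact hz
    have h2 : a ∈ (maximalIdeal C').map (algebraMap C' A') := Ideal.Quotient.eq_zero_iff_mem.mp h1
    obtain ⟨m, hm⟩ := isNilpotent_map_of_isNilpotent (S := A') _ hnil
    have h3 : a ^ m = 0 := by
      have : a ^ m ∈ ((maximalIdeal C').map (algebraMap C' A')) ^ m := Ideal.pow_mem_pow h2 m
      rw [hm] at this
      exact this
    rw [mem_nilradical]
    exact ⟨m, by rw [← map_pow, h3, map_zero]⟩
  have hcodim₀ : ∀ p₀ : Ideal (A' ⧸ (maximalIdeal C').map (algebraMap C' A')), p₀.IsPrime →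
      I'.map q₀ ≤ p₀ → (2 : ℕ∞) ≤ p₀.height := by
    intro p₀ hp₀ hIp
    haveI := hp₀
    apply two_le_height_of_comap π hπs hker p₀
    apply hcodim (p₀.comap π) inferInstance
    rw [← hI', Ideal.map_le_iff_le_comap, Ideal.comap_comap, hπq, ← Ideal.map_le_iff_le_comap]
    exact hIp
  have hgrade : I'.map q₀ = ⊤ ∨
      ∃ x₀ y₀, x₀ ∈ I'.map q₀ ∧ y₀ ∈ I'.map q₀ ∧
        IsRegular (A' ⧸ (maximalIdeal C').map (algebraMap C' A')) [x₀, y₀] := by
    by_cases htop : I'.map q₀ = ⊤
    · exact Or.inl htop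
    · exact Or.inr (exists_regular_pair _ htop hcodim₀)
  exact schaps_b hnil J hJne φ hφ.1 hφ.2 I' hI' hgrade

end Groth.Agent.Helper7.DefHB
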