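import Mathlib
import Groth.Agent.Helper7.Deligne3

set_option autoImplicit false
universe u

open CategoryTheory CategoryTheory.Limits MonoidalCategory CartesianMonoidalCategory MonObj GrpObj
  AlgebraicGeometry TensorProduct

namespace Groth.Agent.Helper7.DelSch

/-- cocommutativity from commutativity of the convolution monoid of `A ⊗ A`-points -/
theorem isCocomm_of_comm {R A : Type*} [CommRing R] [CommRing A] [Bialgebra R A]
    (h : ∀ f g : WithConv (A →ₐ[R] A ⊗[R] A), f * g = g * f) : Coalgebra.IsCocomm R A := by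
  constructor
  ext a
  have h1 := congrArg (fun φ : WithConv (A →ₐ[R] A ⊗[R] A) => φ.ofConv a)
    (h (WithConv.toConv Algebra.TensorProduct.includeRight)
      (WithConv.toConv Algebra.TensorProduct.includeLeft))
  change (WithConv.toConv Algebra.TensorProduct.includeRight *
    WithConv.toConv Algebra.TensorProduct.includeLeft : WithConv (A →ₐ[R] A ⊗[R] A)) a =
    (WithConv.toConv Algebra.TensorProduct.includeLeft *
    WithConv.toConv Algebra.TensorProduct.includeRight : WithConv (A →ₐ[R] A ⊗[R] A)) a at h1
  rw [AlgHom.convMul_apply, AlgHom.convMul_apply] at h1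
  have key1 : ∀ z : A ⊗[R] A, Algebra.TensorProduct.lift
      (Algebra.TensorProduct.includeRight : A →ₐ[R] A ⊗[R] A)
      (Algebra.TensorProduct.includeLeft : A →ₐ[R] A ⊗[R] A) (fun _ _ => .all ..) z =
      TensorProduct.comm R A A z := by
    intro z
    induction z using TensorProduct.induction_on with
    | zero => simp
    | tmul x y => simp [mul_comm]
    | add x y hx hy => simp only [map_add, hx, hy]
  have key2 : ∀ z : A ⊗[R] A, Algebra.TensorProduct.lift
      (Algebra.TensorProduct.includeLeft : A →ₐ[R] A ⊗[R] A)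
      (Algebra.TensorProduct.includeRight : A →ₐ[R] A ⊗[R] A) (fun _ _ => .all ..) z = z := by
    intro z
    induction z using TensorProduct.induction_on with
    | zero => simp
    | tmul x y => simp
    | add x y hx hy => simp only [map_add, hx, hy]
  rw [key1, key2] at h1
  exact h1

/-- transport of `(𝟙)^r = 1` along an isomorphism of monoid objects -/
lemma id_pow_of_iso {C : Type*} [Category C] [CartesianMonoidalCategory C] {X G : C} [MonObj X]
    [MonObj G] (ψ : X ⟶ G) [IsMonHom ψ] [IsIso ψ] (r : ℕ) (h : (𝟙 X : X ⟶ X) ^ r = 1) :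
    (𝟙 G : G ⟶ G) ^ r = 1 := by
  have h1 : (𝟙 G : G ⟶ G) = inv ψ ≫ (𝟙 X ≫ ψ) := by simp
  rw [h1, ← MonObj.comp_pow, ← MonObj.pow_comp, h, MonObj.one_comp, MonObj.comp_one]

theorem pow_eq_one_affine (R : CommRingCat.{u}) (G : Over (Spec R)) [GrpObj G] [IsCommMonObj G]
    [IsFinite G.hom] [Flat G.hom] [LocallyOfFinitePresentation G.hom] (r : ℕ)
    (hr : ∀ s, G.hom.finrank s = r) : (𝟙 G : G ⟶ G) ^ r = 1 := by
  haveI : IsAffine G.left := isAffine_of_isAffineHom G.hom
  obtain ⟨H, ⟨e⟩⟩ := (essImage_hopfSpec (G := Grp.mk G)).mpr ‹_›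
  let A := H.unop
  let X : Over (Spec R) := ((hopfSpec R).obj H).X
  let ψ : X ⟶ G := e.hom.hom.hom
  haveI : IsMonHom ψ := e.hom.hom.isMonHom_hom
  haveI : IsIso ψ := (inferInstance : IsIso ((Grp.forget _).map e.hom))
  apply id_pow_of_iso ψ
  set φ : R ⟶ CommRingCat.of A := CommRingCat.ofHom (algebraMap R A) with hφ
  have hXhom : X.hom = Spec.map φ := rfl
  have hw : ψ.left ≫ G.hom = Spec.map φ := Over.w ψ
  haveI : IsIso ψ.left := (inferInstance : IsIso ((Over.forget _).map ψ))
  have hfinS : IsFinite (Spec.map φ) := by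
    rw [← hw]; exact (MorphismProperty.cancel_left_of_respectsIso @IsFinite ψ.left G.hom).mpr ‹_›
  have hflatS : Flat (Spec.map φ) := by
    rw [← hw]; exact (MorphismProperty.cancel_left_of_respectsIso @Flat ψ.left G.hom).mpr ‹_›
  have hfpS : LocallyOfFinitePresentation (Spec.map φ) := by
    rw [← hw]
    exact (MorphismProperty.cancel_left_of_respectsIso @LocallyOfFinitePresentation ψ.left G.hom).mpr ‹_›
  have hfin : Module.Finite R A :=
    RingHom.finite_algebraMap.mp ((IsFinite.SpecMap_iff φ).mp hfinS)
  have hflat : Module.Flat R A :=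
    (RingHom.flat_algebraMap_iff).mp (Flat.SpecMap_iff.mp hflatS)
  have hfp : Algebra.FinitePresentation R A :=
    RingHom.finitePresentation_algebraMap.mp ((LocallyOfFinitePresentation.SpecMap_iff φ).mp hfpS)
  haveI : Module.FinitePresentation R A := Module.FinitePresentation.of_finite_of_finitePresentation R A
  have hproj : Module.Projective R A := Module.Flat.projective_of_finitePresentation
  have hrank : ∀ p : PrimeSpectrum R, Module.rankAtStalk (R := R) A p = r := by
    intro p
    have h2 := Scheme.Hom.finrank_SpecMap_algebraMap R A p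
    have h3 : (Spec.map φ).finrank p = G.hom.finrank p := by
      have := Scheme.Hom.finrank_comp_left_of_isIso ψ.left G.hom
      rw [← congrFun this p]
      congr 1
      exact hw.symm
    rw [← h2]
    exact h3.trans (hr p)
  have hcocomm : Coalgebra.IsCocomm R A := by
    apply isCocomm_of_comm
    intro f g
    let Ψ := Spec.mapMulEquiv (R := R) (S := A) (T := A ⊗[R] A)
    apply Ψ.injective
    rw [map_mul, map_mul]
    have key : ∀ (Y : Over (Spec R)) (a b : Y ⟶ X), a * b = b * a := by
      intro Y a b
      rw [← cancel_mono ψ, MonObj.mul_comp, MonObj.mul_comp]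
      exact mul_comm _ _
    exact key _ (Ψ f) (Ψ g)
  let Φ := Spec.mapMulEquiv (R := R) (S := A) (T := A)
  have hΦ : Φ (WithConv.toConv (AlgHom.id R A)) = 𝟙 X := by
    ext1
    simp [Φ, Spec.mapMulEquiv]
    rfl
  have h1 := congrArg Φ (Groth.Agent.Helper7.Deligne.pow_rank_eq_one (R := R) (A := A) r hrank)
  rw [map_pow, map_one, hΦ] at h1
  exact h1

end Groth.Agent.Helper7.DelSch
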