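import Mathlib
import Groth.Agent.Helper7.DelSchA

set_option autoImplicit false
universe u

open CategoryTheory CategoryTheory.Limits MonoidalCategory CartesianMonoidalCategory MonObj GrpObj
  AlgebraicGeometry TensorProduct
open scoped CategoryTheory.Obj

namespace Groth.Agent.Helper7.DelSch

variable {S : Scheme.{u}} (G : Over S) [GrpObj G] [IsCommMonObj G]
    [IsFinite G.hom] [Flat G.hom] [LocallyOfFinitePresentation G.hom]
    (r : ℕ) (hr : ∀ s : S, Scheme.Hom.finrank G.hom s = r)

include hr in
lemma map_pow_eq (R : CommRingCat.{u}) (f : Spec R ⟶ S) (T : Over S) (g : T ⟶ G) :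
    (Over.pullback f).map (g ^ r) = (Over.pullback f).map 1 := by
  haveI : IsFinite ((Over.pullback f).obj G).hom := by
    change IsFinite (pullback.snd G.hom f); infer_instance
  haveI : Flat ((Over.pullback f).obj G).hom := by
    change Flat (pullback.snd G.hom f); infer_instance
  haveI : LocallyOfFinitePresentation ((Over.pullback f).obj G).hom := by
    change LocallyOfFinitePresentation (pullback.snd G.hom f); infer_instance
  have hr' : ∀ s, ((Over.pullback f).obj G).hom.finrank s = r := by
    intro s
    change (pullback.snd G.hom f).finrank s = r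
    rw [Scheme.Hom.finrank_pullback_snd, hr]
  have h0 := pow_eq_one_affine R ((Over.pullback f).obj G) r hr'
  rw [Functor.map_one]
  have : (Over.pullback f).map (g ^ r) = ((Over.pullback f).map g) ^ r :=
    map_pow ((Over.pullback f).homMonoidHom) g r
  rw [this]
  have h2 : (Over.pullback f).map g = (Over.pullback f).map g ≫ 𝟙 _ := (Category.comp_id _).symm
  rw [h2, ← MonObj.comp_pow, h0, MonObj.comp_one]

include hr in
theorem pow_eq_one (T : Over S) (g : T ⟶ G) : g ^ r = 1 := by
  apply Over.OverMorphism.ext
  refine Scheme.Cover.hom_ext (S.affineOpenCover.openCover.pullback₁ T.hom) _ _ fun j => ?_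
  have h1 := map_pow_eq G r hr (S.affineOpenCover.X j) (S.affineOpenCover.f j) T g
  have h3 := congrArg (fun φ => φ.left ≫ pullback.fst G.hom (S.affineOpenCover.f j)) h1
  simp only [Over.pullback_map_left, pullback.lift_fst] at h3
  exact h3

end Groth.Agent.Helper7.DelSch
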