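import Mathlib

set_option autoImplicit false
set_option linter.style.haveILetI false
set_option linter.unusedSectionVars false

/-!
# A ring with normal local rings is integrally closed in localizations at nonzerodivisors
-/

namespace Groth.Agent.Helper7.DeltaBCA

/-- A ring whose localizations at maximal ideals are integrally closed domains is integrally
closed in any localization at a submonoid of nonzerodivisors. -/
theorem mem_range_of_isIntegral {T K : Type*} [CommRing T] [CommRing K] [Algebra T K]
    (S : Submonoid T) [IsLocalization S K] (hS : S ≤ nonZeroDivisors T)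
    (hloc : ∀ (M : Ideal T) [M.IsMaximal], ∃ _ : IsDomain (Localization.AtPrime M),
      IsIntegrallyClosed (Localization.AtPrime M))
    (y : K) (hy : IsIntegral T y) : y ∈ (algebraMap T K).range := by
  classical
  by_contra hne
  let D : Ideal T :=
    { carrier := {d | algebraMap T K d * y ∈ (algebraMap T K).range}
      add_mem' := fun {a b} ha hb => by
        simp only [Set.mem_ofPred_eq, map_add, add_mul] at *
        exact Subring.add_mem _ ha hb
      zero_mem' := by
        simp only [Set.mem_ofPred_eq, map_zero, zero_mul]
        exact Subring.zero_mem _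
      smul_mem' := fun c x hx => by
        simp only [Set.mem_ofPred_eq, smul_eq_mul, map_mul, mul_assoc] at *
        exact Subring.mul_mem _ ⟨c, rfl⟩ hx }
  have hD : D ≠ ⊤ := by
    intro h
    have h1 : (1 : T) ∈ D := h ▸ Submodule.mem_top
    apply hne
    have h2 : algebraMap T K 1 * y ∈ (algebraMap T K).range := h1
    rwa [map_one, one_mul] at h2
  obtain ⟨M, hM, hDM⟩ := Ideal.exists_le_maximal D hD
  obtain ⟨hdom, hic⟩ := hloc M
  -- the map to the fraction field of the local ring
  have hunits : ∀ s : S, IsUnit (((algebraMap (Localization.AtPrime M)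
      (FractionRing (Localization.AtPrime M))).comp
      (algebraMap T (Localization.AtPrime M))) s) := by
    intro s
    have h1 : algebraMap T (Localization.AtPrime M) s ∈
        nonZeroDivisors (Localization.AtPrime M) :=
      IsLocalization.map_nonZeroDivisors_le M.primeCompl (Localization.AtPrime M)
        (Submonoid.mem_map_of_mem _ (hS s.2))
    exact IsLocalization.map_units (FractionRing (Localization.AtPrime M)) ⟨_, h1⟩
  let θ : K →+* FractionRing (Localization.AtPrime M) := IsLocalization.lift hunits
  have hθ : ∀ t : T, θ (algebraMap T K t) = algebraMap (Localization.AtPrime M)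
      (FractionRing (Localization.AtPrime M)) (algebraMap T (Localization.AtPrime M) t) :=
    fun t => IsLocalization.lift_eq hunits t
  have hint : IsIntegral (Localization.AtPrime M) (θ y) := by
    refine IsIntegral.map_of_comp_eq (algebraMap T (Localization.AtPrime M)) θ ?_ hy
    ext t
    exact (hθ t).symm
  obtain ⟨l, hl⟩ := IsIntegrallyClosed.isIntegral_iff.mp hint
  obtain ⟨a, s, rfl⟩ := IsLocalization.exists_mk'_eq M.primeCompl l
  obtain ⟨⟨n, d⟩, hnd⟩ := IsLocalization.surj S y
  simp only at hnd
  -- equation in the local ring
  have h1 : IsLocalization.mk' (Localization.AtPrime M) a s *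
      algebraMap T (Localization.AtPrime M) d = algebraMap T (Localization.AtPrime M) n := by
    apply IsFractionRing.injective (Localization.AtPrime M)
      (FractionRing (Localization.AtPrime M))
    rw [map_mul, hl, ← hθ, ← hθ, ← map_mul, hnd]
  have h2 : algebraMap T (Localization.AtPrime M) (a * d) =
      algebraMap T (Localization.AtPrime M) (n * s) := by
    rw [map_mul, map_mul, ← h1, ← IsLocalization.mk'_spec (Localization.AtPrime M) a s]
    ring
  obtain ⟨u, hu⟩ := (IsLocalization.eq_iff_exists M.primeCompl (Localization.AtPrime M)).mp h2
  -- `u * s` is a denominator of `y`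
  have h3 : (u : T) * s ∈ D := by
    change algebraMap T K ((u : T) * s) * y ∈ (algebraMap T K).range
    refine ⟨(u : T) * a, ?_⟩
    have hdu : IsUnit (algebraMap T K d) := IsLocalization.map_units K d
    apply hdu.mul_right_cancel
    rw [mul_assoc, hnd, ← map_mul, ← map_mul]
    congr 1
    calc (u : T) * a * d = u * (a * d) := by ring
      _ = u * (n * s) := hu
      _ = u * s * n := by ring
  have h4 := hDM h3
  rcases hM.isPrime.mem_or_mem h4 with h | h
  · exact u.2 h
  · exact s.2 h

/-- transport of "normal local rings at maximal ideals" along a ring isomorphism. -/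
theorem hloc_of_ringEquiv {T T' : Type*} [CommRing T] [CommRing T'] (e : T ≃+* T')
    (h : ∀ (M : Ideal T) [M.IsMaximal], ∃ _ : IsDomain (Localization.AtPrime M),
      IsIntegrallyClosed (Localization.AtPrime M))
    (M' : Ideal T') [hM' : M'.IsMaximal] :
    ∃ _ : IsDomain (Localization.AtPrime M'), IsIntegrallyClosed (Localization.AtPrime M') := by
  haveI hM : (M'.comap e.toRingHom).IsMaximal :=
    Ideal.comap_isMaximal_of_surjective e.toRingHom e.surjective
  obtain ⟨hd, hic⟩ := h (M'.comap e.toRingHom)
  have H : Submonoid.map e.toMonoidHom (M'.comap e.toRingHom).primeCompl = M'.primeCompl := by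
    ext x
    constructor
    · rintro ⟨y, hy, rfl⟩
      exact fun hx => hy hx
    · intro hx
      refine ⟨e.symm x, fun hy => hx ?_, e.apply_symm_apply x⟩
      have h1 : e.toRingHom (e.symm x) ∈ M' := hy
      rwa [RingEquiv.toRingHom_eq_coe, RingEquiv.coe_toRingHom, e.apply_symm_apply] at h1
  let e' : Localization.AtPrime (M'.comap e.toRingHom) ≃+* Localization.AtPrime M' :=
    IsLocalization.ringEquivOfRingEquiv (Localization.AtPrime (M'.comap e.toRingHom))
      (Localization.AtPrime M') e H
  exact ⟨e'.symm.toMulEquiv.isDomain _,
    IsIntegrallyClosed.of_equiv (R := Localization.AtPrime (M'.comap e.toRingHom)) e'⟩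

end Groth.Agent.Helper7.DeltaBCA
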