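import Mathlib
import Groth.Agent.Helper2.SepAlg
import Groth.Agent.Helper2.NormCountG3

set_option autoImplicit false
set_option linter.style.haveILetI false
set_option linter.unusedSectionVars false

/-!
# Fibres of `A' ⊗[A] B` over maximal ideals of `A'` for a separable residue field extension
-/

namespace Groth.Agent.Helper7.DeltaBCB

universe u

open TensorProduct

section Fib

variable {A A' B : Type u} [CommRing A] [CommRing A'] [CommRing B] [Algebra A A'] [Algebra A B]
  (p : Ideal A) (q : Ideal B) [q.LiesOver p]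

/-- every element of `(A ⧸ p) ⊗[A] B` is of the form `1 ⊗ b`. -/
theorem exists_one_tmul (x : (A ⧸ p) ⊗[A] B) : ∃ b : B, x = (1 : A ⧸ p) ⊗ₜ[A] b := by
  induction x using TensorProduct.induction_on with
  | zero => exact ⟨0, by rw [TensorProduct.tmul_zero]⟩
  | tmul a b =>
    obtain ⟨a, rfl⟩ := Ideal.Quotient.mk_surjective a
    refine ⟨a • b, ?_⟩
    rw [← TensorProduct.smul_tmul, Algebra.smul_def, mul_one]
    rfl
  | add x y hx hy =>
    obtain ⟨b, rfl⟩ := hx
    obtain ⟨c, rfl⟩ := hy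
    exact ⟨b + c, by rw [TensorProduct.tmul_add]⟩

theorem one_tmul_eq_zero (b : B) (hb : b ∈ p.map (algebraMap A B)) :
    (1 : A ⧸ p) ⊗ₜ[A] b = 0 := by
  refine Submodule.span_induction (p := fun b _ => (1 : A ⧸ p) ⊗ₜ[A] b = 0) ?_ ?_ ?_ ?_ hb
  · rintro _ ⟨a, ha, rfl⟩
    rw [Algebra.algebraMap_eq_smul_one, ← TensorProduct.smul_tmul,
      Algebra.smul_def, mul_one]
    have h0 : algebraMap A (A ⧸ p) a = 0 := Ideal.Quotient.eq_zero_iff_mem.mpr ha
    rw [h0, TensorProduct.zero_tmul]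
  · rw [TensorProduct.tmul_zero]
  · intro x y _ _ hx hy
    rw [TensorProduct.tmul_add, hx, hy, add_zero]
  · intro c x _ hx
    have h1 : (1 : A ⧸ p) ⊗ₜ[A] (c • x) = ((1 : A ⧸ p) ⊗ₜ[A] c) * ((1 : A ⧸ p) ⊗ₜ[A] x) := by
      rw [Algebra.TensorProduct.tmul_mul_tmul, one_mul, smul_eq_mul]
    rw [h1, hx, mul_zero]

/-- the comparison map `(A ⧸ p) ⊗[A] B → B ⧸ q`. -/
noncomputable def jMap : (A ⧸ p) ⊗[A] B →ₐ[A ⧸ p] (B ⧸ q) :=
  Algebra.TensorProduct.lift (Algebra.ofId (A ⧸ p) (B ⧸ q)) (IsScalarTower.toAlgHom A B (B ⧸ q))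
    (fun _ _ => Commute.all _ _)

theorem jMap_one_tmul (b : B) : jMap p q ((1 : A ⧸ p) ⊗ₜ[A] b) = Ideal.Quotient.mk q b := by
  rw [jMap, Algebra.TensorProduct.lift_tmul, map_one, one_mul]
  rfl

theorem jMap_injective (hq : q = p.map (algebraMap A B)) : Function.Injective (jMap p q) := by
  rw [injective_iff_map_eq_zero]
  intro x hx
  obtain ⟨b, rfl⟩ := exists_one_tmul p x
  rw [jMap_one_tmul, Ideal.Quotient.eq_zero_iff_mem, hq] at hx
  exact one_tmul_eq_zero p b hx

variable (P : Ideal A') [P.LiesOver p]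

/-- the fibre of `A' ⊗[A] B` over a maximal ideal `P` of `A'` is reduced when the residue
field extension `A ⧸ p → B ⧸ q` is separable. -/
theorem isReduced_fibre [p.IsMaximal] [q.IsMaximal] [P.IsMaximal] [Module.Finite A A']
    (hq : q = p.map (algebraMap A B)) [Algebra.IsSeparable (A ⧸ p) (B ⧸ q)] :
    IsReduced ((A' ⊗[A] B) ⧸ P.map (algebraMap A' (A' ⊗[A] B))) := by
  letI : Field (A ⧸ p) := Ideal.Quotient.field p
  letI : Field (B ⧸ q) := Ideal.Quotient.field q
  letI : Field (A' ⧸ P) := Ideal.Quotient.field P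
  haveI : Module.Finite (A ⧸ p) (A' ⧸ P) := by
    haveI : Module.Finite A (A' ⧸ P) :=
      Module.Finite.of_surjective (Ideal.Quotient.mkₐ A P).toLinearMap Ideal.Quotient.mk_surjective
    exact Module.Finite.of_restrictScalars_finite A (A ⧸ p) (A' ⧸ P)
  haveI : Algebra.IsAlgebraic (A ⧸ p) (A' ⧸ P) := Algebra.IsAlgebraic.of_finite _ _
  haveI : Algebra.IsGeometricallyReduced (A ⧸ p) (B ⧸ q) :=
    Groth.Agent.Helper2.SepAlg.isGeometricallyReduced (A ⧸ p) (B ⧸ q)
  haveI hred : IsReduced ((A' ⧸ P) ⊗[A ⧸ p] (B ⧸ q)) := inferInstance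
  -- the chain of ring homomorphisms
  let e1 := Algebra.TensorProduct.quotientTensorEquiv (R := A) A B A' P
  let e2 := Algebra.TensorProduct.cancelBaseChange A (A ⧸ p) (A ⧸ p) (A' ⧸ P) B
  let f3 : (A' ⧸ P) ⊗[A ⧸ p] ((A ⧸ p) ⊗[A] B) →ₐ[A ⧸ p] (A' ⧸ P) ⊗[A ⧸ p] (B ⧸ q) :=
    Algebra.TensorProduct.map (AlgHom.id (A ⧸ p) (A' ⧸ P)) (jMap p q)
  have hf3 : Function.Injective f3 := by
    have h1 : ⇑f3 = ⇑(LinearMap.lTensor (A' ⧸ P) (jMap p q).toLinearMap) := by
      ext x
      induction x using TensorProduct.induction_on with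
      | zero => simp
      | tmul a b => simp [f3]
      | add x y hx hy => rw [map_add, map_add, hx, hy]
    rw [h1]
    exact Module.Flat.lTensor_preserves_injective_linearMap _ (jMap_injective p q hq)
  let g : ((A' ⊗[A] B) ⧸ P.map (algebraMap A' (A' ⊗[A] B))) →+*
      (A' ⧸ P) ⊗[A ⧸ p] (B ⧸ q) :=
    (f3.toRingHom.comp e2.symm.toAlgHom.toRingHom).comp e1.symm.toAlgHom.toRingHom
  have hg : Function.Injective g := by
    intro x y hxy
    apply e1.symm.injective
    apply e2.symm.injective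
    exact hf3 hxy
  exact isReduced_of_injective g hg

end Fib

section DVR

open IsLocalRing Groth.Agent.Helper2.NormCountG

variable {A A' B : Type u} [CommRing A] [CommRing A'] [CommRing B] [Algebra A A'] [Algebra A B]
  [IsLocalRing A] [IsLocalRing B] [IsNoetherianRing A'] [IsNoetherianRing B] [Module.Finite A A']
  [Module.Flat A B] [IsLocalHom (algebraMap A B)]
  [Algebra.IsSeparable (A ⧸ maximalIdeal A) (B ⧸ maximalIdeal B)]

/-- the local rings of `A' ⊗[A] B` at maximal ideals are DVRs when those of `A'` are, `B` is flat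
over `A` with `𝔪_B = 𝔪_A B` and separable residue field extension. -/
theorem dvr_atMax (hmax : maximalIdeal B = (maximalIdeal A).map (algebraMap A B))
    (hdvr : ∀ (P : Ideal A') [P.IsMaximal], ∃ _ : IsDomain (Localization.AtPrime P),
      IsDiscreteValuationRing (Localization.AtPrime P))
    (M : Ideal (A' ⊗[A] B)) [hM : M.IsMaximal] :
    ∃ _ : IsDomain (Localization.AtPrime M), IsDiscreteValuationRing (Localization.AtPrime M) := by
  haveI : Algebra.IsIntegral A A' := Algebra.IsIntegral.of_finite A A'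
  haveI := isNoetherianRing_T (A := A) (B := A') (C := B)
  haveI hP := comap_isMaximal hmax M
  obtain ⟨hd, hv⟩ := hdvr (M.comap (algebraMap A' (A' ⊗[A] B)))
  haveI : (M.comap (algebraMap A' (A' ⊗[A] B))).LiesOver (maximalIdeal A) :=
    ⟨(comap_eq_maximalIdeal (M.comap (algebraMap A' (A' ⊗[A] B)))).symm⟩
  have hp : IsReduced ((A' ⊗[A] B) ⧸
      (M.comap (algebraMap A' (A' ⊗[A] B))).map (algebraMap A' (A' ⊗[A] B))) :=
    isReduced_fibre (maximalIdeal A) (maximalIdeal B) (M.comap (algebraMap A' (A' ⊗[A] B))) hmax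
  have hq : M ∈ associatedPrimes (A' ⊗[A] B) ((A' ⊗[A] B) ⧸
      (M.comap (algebraMap A' (A' ⊗[A] B))).map (algebraMap A' (A' ⊗[A] B))) := by
    apply Module.associatedPrimes.minimalPrimes_annihilator_subset_associatedPrimes
    rw [Ideal.annihilator_quotient]
    refine ⟨⟨hM.isPrime, Ideal.map_comap_le⟩, ?_⟩
    rintro q ⟨hqprime, hPq⟩ hqM
    haveI := hqprime
    have hmT : mT A A' B ≤ q := le_trans (mT_le_map _) hPq
    have h1 : maximalIdeal B ≤ q.comap (incl A A' B) := by
      intro b hb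
      rw [Ideal.mem_comap, incl_apply]
      exact hmT (tmul_mem_mT hmax 1 b hb)
    have h2 : q.comap (incl A A' B) ≠ ⊤ := (Ideal.comap_isPrime _ q).ne_top
    have h3 : (q.comap (incl A A' B)).IsMaximal := by
      rw [← (maximalIdeal.isMaximal B).eq_of_le h2 h1]
      exact maximalIdeal.isMaximal B
    have h4 : q.IsMaximal := Ideal.isMaximal_of_isIntegral_of_isMaximal_comap' (incl A A' B)
      (includeRight_isIntegral A A' B) q h3
    exact le_of_eq (h4.eq_of_le hM.ne_top hqM).symm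
  exact Groth.Agent.Helper2.AnUnram.main_general A' (A' ⊗[A] B)
    (M.comap (algebraMap A' (A' ⊗[A] B))) hp M hq

end DVR

end Groth.Agent.Helper7.DeltaBCB
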