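import Mathlib
import Groth.Prelude
import Groth.Agent.Helper7.DeltaBCA
import Groth.Agent.Helper7.DeltaBCB
import Groth.Agent.Helper2.NormCount1

set_option autoImplicit false
set_option linter.style.haveILetI false
set_option linter.unusedSectionVars false

/-!
# The δ-invariant under flat local base change with `𝔪_B = 𝔪_A B` and separable residue extension
-/

namespace Groth.Agent.Helper7.DeltaBCC

universe u

open TensorProduct IsLocalRing

section Psi

variable (A B : Type u) [CommRing A] [CommRing B] [Algebra A B] [Module.Flat A B]

theorem nonZeroDivisors_le_comap :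
    nonZeroDivisors A ≤ (nonZeroDivisors B).comap (algebraMap A B) := by
  intro a ha
  rw [Submonoid.mem_comap, mem_nonZeroDivisors_iff_right]
  intro x hx
  have h1 : IsSMulRegular B a := Module.Flat.isSMulRegular_of_nonZeroDivisors ha
  apply h1
  change a • x = a • (0 : B)
  rw [smul_zero, Algebra.smul_def, mul_comm]
  exact hx

/-- the map of total fraction rings. -/
noncomputable def phi : FractionRing A →+* FractionRing B :=
  IsLocalization.map (FractionRing B) (algebraMap A B) (nonZeroDivisors_le_comap A B)

theorem phi_algebraMap (a : A) :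
    phi A B (algebraMap A (FractionRing A) a) = algebraMap B (FractionRing B) (algebraMap A B a) :=
  IsLocalization.map_eq _ a

/-- `phi` restricted to the integral closure, as an `A`-algebra map. -/
noncomputable def phiA : integralClosure A (FractionRing A) →ₐ[A] FractionRing B where
  toRingHom := (phi A B).comp (algebraMap (integralClosure A (FractionRing A)) (FractionRing A))
  commutes' := fun a => by
    change phi A B (algebraMap (integralClosure A (FractionRing A)) (FractionRing A)
      (algebraMap A (integralClosure A (FractionRing A)) a)) = _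
    rw [← IsScalarTower.algebraMap_apply, phi_algebraMap, ← IsScalarTower.algebraMap_apply]

theorem phiA_apply (x : integralClosure A (FractionRing A)) : phiA A B x = phi A B x.1 := rfl

/-- the comparison map `B ⊗[A] A' → Frac B`. -/
noncomputable def Psi : B ⊗[A] (integralClosure A (FractionRing A)) →ₐ[B] FractionRing B :=
  Algebra.TensorProduct.lift (Algebra.ofId B (FractionRing B)) (phiA A B)
    (fun _ _ => Commute.all _ _)

theorem Psi_tmul (b : B) (x : integralClosure A (FractionRing A)) :
    Psi A B (b ⊗ₜ[A] x) = algebraMap B (FractionRing B) b * phi A B x.1 := by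
  rw [Psi, Algebra.TensorProduct.lift_tmul]
  rfl

theorem isIntegral_Psi (z : B ⊗[A] (integralClosure A (FractionRing A))) :
    IsIntegral B (Psi A B z) := by
  haveI : Algebra.IsIntegral A (integralClosure A (FractionRing A)) := inferInstance
  haveI : Algebra.IsIntegral B (B ⊗[A] (integralClosure A (FractionRing A))) :=
    Algebra.IsIntegral.tensorProduct A B _
  exact (Algebra.IsIntegral.isIntegral z).map (Psi A B)

variable {A} in
/-- multiplying by the conductor lands in `B`. -/
theorem exists_smul_eq (c : A)
    (hcond : ∀ x : integralClosure A (FractionRing A), ∃ r : A,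
      algebraMap A (integralClosure A (FractionRing A)) c * x =
        algebraMap A (integralClosure A (FractionRing A)) r)
    (z : B ⊗[A] (integralClosure A (FractionRing A))) :
    ∃ b : B, c • z = algebraMap B (B ⊗[A] (integralClosure A (FractionRing A))) b := by
  induction z using TensorProduct.induction_on with
  | zero => exact ⟨0, by rw [smul_zero, map_zero]⟩
  | tmul b x =>
    obtain ⟨r, hr⟩ := hcond x
    refine ⟨r • b, ?_⟩
    rw [TensorProduct.smul_tmul', TensorProduct.smul_tmul, Algebra.smul_def c x, hr,
      Algebra.algebraMap_eq_smul_one r, ← TensorProduct.smul_tmul,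
      Algebra.TensorProduct.algebraMap_apply]
    rfl
  | add x y hx hy =>
    obtain ⟨a, ha⟩ := hx
    obtain ⟨b, hb⟩ := hy
    exact ⟨a + b, by rw [smul_add, ha, hb, map_add]⟩

variable {A} in
theorem smul_eq_zero_imp (c : A)
    (hc : algebraMap A (integralClosure A (FractionRing A)) c ∈
      nonZeroDivisors (integralClosure A (FractionRing A)))
    (z : B ⊗[A] (integralClosure A (FractionRing A))) (hz : c • z = 0) : z = 0 := by
  let m : integralClosure A (FractionRing A) →ₗ[A] integralClosure A (FractionRing A) :=
    LinearMap.lsmul A _ c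
  have hm : Function.Injective m := by
    intro x y hxy
    have h1 : c • x = c • y := hxy
    rw [Algebra.smul_def, Algebra.smul_def] at h1
    exact (mem_nonZeroDivisors_iff_left.mp hc |> fun h => by
      have h2 : algebraMap A (integralClosure A (FractionRing A)) c * (x - y) = 0 := by
        rw [mul_sub, h1, sub_self]
      have := h (x - y) h2
      exact sub_eq_zero.mp this)
  have h2 : Function.Injective (LinearMap.lTensor B m) :=
    Module.Flat.lTensor_preserves_injective_linearMap m hm
  apply h2
  rw [map_zero]
  have h3 : ∀ w : B ⊗[A] (integralClosure A (FractionRing A)),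
      LinearMap.lTensor B m w = c • w := by
    intro w
    induction w using TensorProduct.induction_on with
    | zero => simp
    | tmul b x => simp [m, TensorProduct.tmul_smul]
    | add x y hx hy => rw [map_add, smul_add, hx, hy]
  rw [h3]
  exact hz

variable {A} in
theorem Psi_injective (c : A)
    (hc : algebraMap A (integralClosure A (FractionRing A)) c ∈
      nonZeroDivisors (integralClosure A (FractionRing A)))
    (hcond : ∀ x : integralClosure A (FractionRing A), ∃ r : A,
      algebraMap A (integralClosure A (FractionRing A)) c * x =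
        algebraMap A (integralClosure A (FractionRing A)) r) :
    Function.Injective (Psi A B) := by
  rw [injective_iff_map_eq_zero]
  intro z hz
  obtain ⟨b, hb⟩ := exists_smul_eq B c hcond z
  have h1 : Psi A B (c • z) = 0 := by
    rw [← algebraMap_smul B c z, map_smul, hz, smul_zero]
  rw [hb, AlgHom.commutes] at h1
  have h2 : b = 0 := IsFractionRing.injective B (FractionRing B) (by rw [h1, map_zero])
  rw [h2, map_zero] at hb
  exact smul_eq_zero_imp B c hc z hb

/-- every element of `Frac B` integral over `B` is in the image of `B ⊗[A] A'`. -/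
theorem mem_range_Psi (hinj : Function.Injective (Psi A B))
    (hloc : ∀ (M : Ideal (B ⊗[A] (integralClosure A (FractionRing A)))) [M.IsMaximal],
      ∃ _ : IsDomain (Localization.AtPrime M), IsIntegrallyClosed (Localization.AtPrime M))
    (y : FractionRing B) (hy : IsIntegral B y) : y ∈ Set.range (Psi A B) := by
  letI : Algebra (B ⊗[A] (integralClosure A (FractionRing A))) (FractionRing B) :=
    (Psi A B).toRingHom.toAlgebra
  have halg : ∀ z, algebraMap (B ⊗[A] (integralClosure A (FractionRing A))) (FractionRing B) z =
      Psi A B z := fun _ => rfl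
  haveI : IsScalarTower B (B ⊗[A] (integralClosure A (FractionRing A))) (FractionRing B) :=
    IsScalarTower.of_algebraMap_eq (R := B) (S := B ⊗[A] (integralClosure A (FractionRing A)))
      (A := FractionRing B) (fun b => by rw [halg, AlgHom.commutes])
  haveI : IsLocalization (Submonoid.map
      (algebraMap B (B ⊗[A] (integralClosure A (FractionRing A)))) (nonZeroDivisors B))
      (FractionRing B) := by
    rw [isLocalization_iff]
    refine ⟨?_, ?_, ?_⟩
    · rintro ⟨_, b, hb, rfl⟩
      rw [halg, AlgHom.commutes]
      exact IsLocalization.map_units (FractionRing B) ⟨b, hb⟩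
    · intro z
      obtain ⟨⟨n, d⟩, hnd⟩ := IsLocalization.surj (nonZeroDivisors B) z
      refine ⟨⟨algebraMap B _ n, ⟨algebraMap B _ d, d, d.2, rfl⟩⟩, ?_⟩
      simp only
      rw [halg, halg, AlgHom.commutes, AlgHom.commutes]
      exact hnd
    · intro x y hxy
      exact ⟨1, by rw [hinj hxy]⟩
  have hS : Submonoid.map (algebraMap B (B ⊗[A] (integralClosure A (FractionRing A))))
      (nonZeroDivisors B) ≤ nonZeroDivisors (B ⊗[A] (integralClosure A (FractionRing A))) := by
    rintro _ ⟨b, hb, rfl⟩
    rw [mem_nonZeroDivisors_iff_right]
    intro x hx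
    apply hinj
    have h1 := congrArg (Psi A B) hx
    rw [map_mul, AlgHom.commutes, map_zero] at h1
    have hu : IsUnit (algebraMap B (FractionRing B) b) :=
      IsLocalization.map_units (FractionRing B) ⟨b, hb⟩
    rw [map_zero]
    exact hu.mul_left_eq_zero.mp h1
  have hyT : IsIntegral (B ⊗[A] (integralClosure A (FractionRing A))) y := hy.tower_top
  obtain ⟨z, hz⟩ := Groth.Agent.Helper7.DeltaBCA.mem_range_of_isIntegral _ hS hloc y hyT
  exact ⟨z, hz⟩

end Psi

section Main

variable (A B : Type u) [CommRing A] [CommRing B] [Algebra A B] [IsLocalRing A] [IsLocalRing B]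
  [IsNoetherianRing A] [IsNoetherianRing B] [IsReduced A] [Module.Flat A B]
  [IsLocalHom (algebraMap A B)] [Module.Finite A (integralClosure A (FractionRing A))]
  [Algebra.IsSeparable (A ⧸ maximalIdeal A) (B ⧸ maximalIdeal B)]

theorem hloc_tensor {A' : Type u} [CommRing A'] [Algebra A A'] [IsNoetherianRing A']
    [Module.Finite A A']
    (hmax : maximalIdeal B = (maximalIdeal A).map (algebraMap A B))
    (hdvr : ∀ (P : Ideal A') [P.IsMaximal], ∃ _ : IsDomain (Localization.AtPrime P),
      IsDiscreteValuationRing (Localization.AtPrime P))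
    (M : Ideal (B ⊗[A] A')) [M.IsMaximal] :
    ∃ _ : IsDomain (Localization.AtPrime M), IsIntegrallyClosed (Localization.AtPrime M) := by
  have h1 : ∀ (N : Ideal (A' ⊗[A] B)) [N.IsMaximal],
      ∃ _ : IsDomain (Localization.AtPrime N), IsIntegrallyClosed (Localization.AtPrime N) := by
    intro N hN
    obtain ⟨hd, hv⟩ := Groth.Agent.Helper7.DeltaBCB.dvr_atMax hmax hdvr N
    exact ⟨hd, inferInstance⟩
  exact Groth.Agent.Helper7.DeltaBCA.hloc_of_ringEquiv
    (Algebra.TensorProduct.comm A A' B).toRingEquiv h1 M

theorem exists_tmul_one (w : B ⊗[A] A) : ∃ b : B, w = b ⊗ₜ[A] (1 : A) := by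
  induction w using TensorProduct.induction_on with
  | zero => exact ⟨0, by rw [TensorProduct.zero_tmul]⟩
  | tmul b a =>
    refine ⟨a • b, ?_⟩
    rw [TensorProduct.smul_tmul, smul_eq_mul, mul_one]
  | add x y hx hy =>
    obtain ⟨b, rfl⟩ := hx
    obtain ⟨c, rfl⟩ := hy
    exact ⟨b + c, by rw [TensorProduct.add_tmul]⟩

/-- the δ-invariant is unchanged under a flat local extension `A → B` with `𝔪_B = 𝔪_A B` and
separable residue field extension. -/
theorem deltaInv_eq (hdim : ringKrullDim A = 1)
    (hmax : maximalIdeal B = (maximalIdeal A).map (algebraMap A B)) :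
    Curv2.deltaInv B = Curv2.deltaInv A := by
  obtain ⟨c, -, hc, hcond⟩ := Groth.Agent.Helper2.NormCount.exists_conductor' A
  have hinj := Psi_injective B c hc hcond
  haveI : IsNoetherianRing (integralClosure A (FractionRing A)) :=
    IsNoetherianRing.of_finite A _
  have hloc := fun (M : Ideal (B ⊗[A] (integralClosure A (FractionRing A)))) [M.IsMaximal] =>
    hloc_tensor A B hmax (fun P _ => Groth.Agent.Helper2.NormCount.dvr_atPrime A hdim P) M
  let Ψ' : B ⊗[A] (integralClosure A (FractionRing A)) →ₐ[B]
      integralClosure B (FractionRing B) :=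
    (Psi A B).codRestrict (integralClosure B (FractionRing B)) (isIntegral_Psi A B)
  have hΨ'inj : Function.Injective Ψ' := fun x y h => hinj (congrArg Subtype.val h)
  have hΨ'surj : Function.Surjective Ψ' := by
    intro y
    obtain ⟨z, hz⟩ := mem_range_Psi A B hinj hloc y.1 y.2
    exact ⟨z, Subtype.ext hz⟩
  let E : B ⊗[A] (integralClosure A (FractionRing A)) ≃ₐ[B]
      integralClosure B (FractionRing B) := AlgEquiv.ofBijective Ψ' ⟨hΨ'inj, hΨ'surj⟩
  let ι : A →ₗ[A] integralClosure A (FractionRing A) := Algebra.linearMap A _
  let π : integralClosure A (FractionRing A) →ₗ[A]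
      (integralClosure A (FractionRing A)) ⧸ LinearMap.range ι := (LinearMap.range ι).mkQ
  let g : integralClosure B (FractionRing B) →ₗ[B]
      B ⊗[A] ((integralClosure A (FractionRing A)) ⧸ LinearMap.range ι) :=
    (TensorProduct.AlgebraTensorModule.lTensor B B π) ∘ₗ E.symm.toLinearMap
  have hgsurj : Function.Surjective g := by
    have h1 : Function.Surjective (TensorProduct.AlgebraTensorModule.lTensor B B π) := by
      rw [TensorProduct.AlgebraTensorModule.coe_lTensor]
      exact LinearMap.lTensor_surjective B (Submodule.mkQ_surjective _)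
    exact h1.comp E.symm.surjective
  have hπ1 : π 1 = 0 := (Submodule.Quotient.mk_eq_zero _).mpr ⟨1, by simp [ι]⟩
  have hker : LinearMap.ker g =
      LinearMap.range (Algebra.linearMap B (integralClosure B (FractionRing B))) := by
    ext x
    constructor
    · intro hx
      have h1 : LinearMap.lTensor B π (E.symm x) = 0 := hx
      have hex := lTensor_exact B (LinearMap.exact_map_mkQ_range ι) (Submodule.mkQ_surjective _)
      obtain ⟨w, hw⟩ := (hex (E.symm x)).mp h1
      obtain ⟨b, rfl⟩ := exists_tmul_one A B w
      refine ⟨b, ?_⟩
      have h2 : E.symm x = algebraMap B _ b := by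
        rw [← hw, LinearMap.lTensor_tmul, Algebra.TensorProduct.algebraMap_apply]
        simp [ι]
      apply E.symm.injective
      rw [h2]
      exact E.symm.commutes b
    · rintro ⟨b, rfl⟩
      change LinearMap.lTensor B π (E.symm (algebraMap B _ b)) = 0
      rw [AlgEquiv.commutes, Algebra.TensorProduct.algebraMap_apply, Algebra.algebraMap_self,
        RingHom.id_apply, LinearMap.lTensor_tmul, hπ1, TensorProduct.tmul_zero]
  unfold Curv2.deltaInv
  have e1 := (g.quotKerEquivOfSurjective hgsurj).length_eq
  have e2 := (Submodule.quotEquivOfEq _ _ hker).length_eq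
  have e3 := IsLocalRing.length_baseChange A B
    ((integralClosure A (FractionRing A)) ⧸ LinearMap.range ι)
  have e4 : Module.length B (B ⧸ (maximalIdeal A).map (algebraMap A B)) = 1 := by
    rw [← hmax, Module.length_eq_one_iff]
    exact isSimpleModule_iff_quot_maximal.mpr
      ⟨maximalIdeal B, inferInstance, ⟨LinearEquiv.refl _ _⟩⟩
  rw [e4, mul_one] at e3
  rw [← e2, e1, e3]

end Main

end Groth.Agent.Helper7.DeltaBCC
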