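import Mathlib
import Groth.Prelude
import Groth.Agent.Helper7.DeltaBCC
import Groth.Agent.Helper7.NormProd2
import Groth.Agent.Helper1.HensReg
import Groth.Agent.Helper1.HensStrictNoeth

set_option autoImplicit false
set_option linter.style.haveILetI false
set_option linter.unusedSectionVars false

/-!
# The δ-invariant of the henselization, strict henselization and completion
-/

namespace Groth.Agent.Helper7.DeltaBCD

universe u

open IsLocalRing Groth.Agent.Helper1.Hens

theorem isSeparable_of_surjective {k k' : Type*} [Field k] [Field k'] [Algebra k k']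
    (h : Function.Surjective (algebraMap k k')) : Algebra.IsSeparable k k' :=
  ⟨fun x => by
    obtain ⟨y, rfl⟩ := h x
    exact isSeparable_algebraMap y⟩

section

variable (A : Type u) [CommRing A] [IsLocalRing A] [IsNoetherianRing A] [IsReduced A]
  [Module.Finite A (integralClosure A (FractionRing A))] (hdim : ringKrullDim A = 1)

include hdim

theorem deltaInv_henselization (B : Type u) [CommRing B] [IsLocalRing B] [Algebra A B]
    [IsLocalHom (algebraMap A B)] [Hensel.IsHenselization A B] :
    Curv2.deltaInv B = Curv2.deltaInv A := by
  haveI := isNoetherianRing_of_isHenselization A B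
  haveI := faithfullyFlat_of_isHenselization A B
  haveI : Algebra.IsSeparable (ResidueField A) (ResidueField B) := by
    apply isSeparable_of_surjective
    intro z
    obtain ⟨x, hx⟩ := (residueField_map_bijective_of_isHenselization A B).2 z
    exact ⟨x, hx⟩
  haveI : Algebra.IsSeparable (A ⧸ maximalIdeal A) (B ⧸ maximalIdeal B) :=
    (inferInstance : Algebra.IsSeparable (ResidueField A) (ResidueField B))
  exact Groth.Agent.Helper7.DeltaBCC.deltaInv_eq A B hdim
    (map_maximalIdeal_of_isHenselization A B).symm

theorem deltaInv_strictHenselization (B : Type u) [CommRing B] [IsLocalRing B] [Algebra A B]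
    [IsLocalHom (algebraMap A B)] [hS : Hensel.IsStrictHenselization A B] :
    Curv2.deltaInv B = Curv2.deltaInv A := by
  haveI := isNoetherianRing_of_isStrictHenselization A B
  haveI := faithfullyFlat_of_isStrictHenselization A B
  haveI : Algebra.IsSeparable (ResidueField A) (ResidueField B) := hS.isSepClosure.separable
  haveI : Algebra.IsSeparable (A ⧸ maximalIdeal A) (B ⧸ maximalIdeal B) :=
    (inferInstance : Algebra.IsSeparable (ResidueField A) (ResidueField B))
  exact Groth.Agent.Helper7.DeltaBCC.deltaInv_eq A B hdim
    (map_maximalIdeal_of_isStrictHenselization A B).symm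

theorem deltaInv_completion :
    Curv2.deltaInv (AdicCompletion (maximalIdeal A) A) = Curv2.deltaInv A := by
  haveI : Module.Flat A (AdicCompletion (maximalIdeal A) A) :=
    AdicCompletion.flat_of_isNoetherian (maximalIdeal A)
  haveI : Algebra.IsSeparable (ResidueField A)
      (ResidueField (AdicCompletion (maximalIdeal A) A)) := by
    apply isSeparable_of_surjective
    intro z
    obtain ⟨x, hx⟩ := (AdicCompletion.residueField_map_bijective A).2 z
    exact ⟨x, hx⟩
  haveI : Algebra.IsSeparable (A ⧸ maximalIdeal A)
      (AdicCompletion (maximalIdeal A) A ⧸ maximalIdeal (AdicCompletion (maximalIdeal A) A)) :=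
    (inferInstance : Algebra.IsSeparable (ResidueField A)
      (ResidueField (AdicCompletion (maximalIdeal A) A)))
  exact Groth.Agent.Helper7.DeltaBCC.deltaInv_eq A (AdicCompletion (maximalIdeal A) A) hdim
    AdicCompletion.maximalIdeal_eq_map

end

end Groth.Agent.Helper7.DeltaBCD
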