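import Mathlib

set_option autoImplicit false
universe u
open TensorProduct

namespace Groth.Agent.Helper7.DenseBC

theorem result (B₀ B : Type u) [CommRing B₀] [CommRing B] [Algebra B₀ B]
    [TopologicalSpace B] [IsTopologicalRing B] (hφ : DenseRange (algebraMap B₀ B))
    (M₀ : Type u) [AddCommGroup M₀] [Module B₀ M₀] [Module.Finite B₀ M₀]
    [TopologicalSpace (B ⊗[B₀] M₀)] [IsTopologicalAddGroup (B ⊗[B₀] M₀)] [ContinuousSMul B (B ⊗[B₀] M₀)] :
    DenseRange (fun m : M₀ => (1 : B) ⊗ₜ[B₀] m) := by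
  classical
  obtain ⟨s, hs⟩ := (Module.Finite.fg_top (R := B₀) (M := M₀))
  let F : (s → B) →ₗ[B] B ⊗[B₀] M₀ :=
    Fintype.linearCombination B (fun m : s => (1 : B) ⊗ₜ[B₀] (m : M₀))
  have hFapp : ∀ c, F c = ∑ m : s, c m • ((1 : B) ⊗ₜ[B₀] (m : M₀)) := fun c => by
    simp [F, Fintype.linearCombination_apply]
  have hFc : Continuous F := by
    have : (F : (s → B) → B ⊗[B₀] M₀) = fun c => ∑ m : s, c m • ((1 : B) ⊗ₜ[B₀] (m : M₀)) :=
      funext hFapp
    rw [this]
    refine continuous_finset_sum _ (fun m _ => ?_)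
    exact Continuous.smul (f := fun c : s → B => c m)
      (g := fun _ : s → B => ((1 : B) ⊗ₜ[B₀] (m : M₀))) (continuous_apply m) continuous_const
  have hmem : ∀ m : M₀, (1 : B) ⊗ₜ[B₀] m ∈ LinearMap.range F := by
    intro m
    have hm : m ∈ Submodule.span B₀ (s : Set M₀) := hs ▸ Submodule.mem_top
    induction hm using Submodule.span_induction with
    | mem x hx =>
      refine ⟨Pi.single ⟨x, hx⟩ 1, ?_⟩
      rw [hFapp, Finset.sum_eq_single ⟨x, hx⟩]
      · simp
      · intro b _ hb; simp [Pi.single_apply, hb]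
      · intro h; exact absurd (Finset.mem_univ _) h
    | zero => rw [TensorProduct.tmul_zero]; exact Submodule.zero_mem _
    | add x y _ _ hx hy => rw [TensorProduct.tmul_add]; exact Submodule.add_mem _ hx hy
    | smul a x _ hx =>
      have : (1 : B) ⊗ₜ[B₀] (a • x) = algebraMap B₀ B a • ((1 : B) ⊗ₜ[B₀] x) := by
        rw [TensorProduct.tmul_smul, TensorProduct.smul_tmul', TensorProduct.smul_tmul',
          Algebra.smul_def, smul_eq_mul]
      rw [this]
      exact Submodule.smul_mem _ _ hx
  have hFs : Function.Surjective F := by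
    rw [← LinearMap.range_eq_top, eq_top_iff]
    intro x _
    clear * - x hmem
    induction x using TensorProduct.induction_on with
    | zero => exact Submodule.zero_mem _
    | add x y hx hy => exact Submodule.add_mem _ hx hy
    | tmul b m =>
      have : b ⊗ₜ[B₀] m = b • ((1 : B) ⊗ₜ[B₀] m) := by
        rw [TensorProduct.smul_tmul', smul_eq_mul, mul_one]
      rw [this]
      exact Submodule.smul_mem _ _ (hmem m)
  have hd : DenseRange (Pi.map (fun (_ : s) => (algebraMap B₀ B : B₀ → B))) :=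
    DenseRange.piMap (fun _ => hφ)
  have hcomp := hFs.denseRange.comp hd hFc
  refine hcomp.mono ?_
  rintro _ ⟨c, rfl⟩
  refine ⟨∑ m : s, c m • (m : M₀), ?_⟩
  simp only [Function.comp_apply, hFapp, Pi.map_apply]
  rw [TensorProduct.tmul_sum]
  refine Finset.sum_congr rfl (fun m _ => ?_)
  rw [TensorProduct.tmul_smul, TensorProduct.smul_tmul', TensorProduct.smul_tmul',
    Algebra.smul_def, smul_eq_mul]

end Groth.Agent.Helper7.DenseBC
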