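import Mathlib

set_option autoImplicit false

namespace Groth.Agent.Helper7.DerDet

open Matrix

variable {k A : Type*} [CommRing k] [CommRing A] [Algebra k A]

/-- Leibniz rule for finite products. -/
theorem leibniz_prod {ι : Type*} [DecidableEq ι] (d : Derivation k A A) (s : Finset ι) (f : ι → A) :
    d (∏ b ∈ s, f b) = ∑ a ∈ s, (∏ b ∈ s.erase a, f b) * d (f a) := by
  induction s using Finset.induction_on with
  | empty => simp
  | insert i s his ih =>
    rw [Finset.prod_insert his, Derivation.leibniz, ih, Finset.sum_insert his,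
      Finset.erase_insert his, smul_eq_mul, smul_eq_mul, Finset.mul_sum, add_comm]
    congr 1
    refine Finset.sum_congr rfl fun a ha => ?_
    have hia : i ≠ a := fun h => his (h ▸ ha)
    rw [Finset.erase_insert_of_ne hia, Finset.prod_insert (fun h => his (Finset.mem_of_mem_erase h))]
    ring

variable {n : Type*} [Fintype n] [DecidableEq n]

/-- derivative of a determinant: sum over the rows. -/
theorem map_det (d : Derivation k A A) (N : Matrix n n A) :
    d N.det = ∑ i, (N.updateRow i (fun j => d (N i j))).det := by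
  have hdet : ∀ M : Matrix n n A, M.det = ∑ σ : Equiv.Perm n, ((Equiv.Perm.sign σ : ℤ) : A) * ∏ i, M i (σ i) := by
    intro M
    rw [← det_transpose, det_apply']
    rfl
  rw [hdet N, map_sum]
  have h1 : ∀ σ : Equiv.Perm n, d (((Equiv.Perm.sign σ : ℤ) : A) * ∏ i, N i (σ i)) =
      ∑ i, ((Equiv.Perm.sign σ : ℤ) : A) * ((∏ l ∈ Finset.univ.erase i, N l (σ l)) * d (N i (σ i))) := by
    intro σ
    rw [Derivation.leibniz, Derivation.map_intCast, smul_zero, add_zero, smul_eq_mul, leibniz_prod,
      Finset.mul_sum]
  rw [Finset.sum_congr rfl (fun σ _ => h1 σ), Finset.sum_comm]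
  refine Finset.sum_congr rfl fun i _ => ?_
  rw [hdet]
  refine Finset.sum_congr rfl fun σ _ => ?_
  congr 1
  rw [← Finset.prod_erase_mul _ _ (Finset.mem_univ i), updateRow_self]
  congr 1
  refine Finset.prod_congr rfl fun l hl => ?_
  rw [updateRow_ne (Finset.ne_of_mem_erase hl)]

/-- a symmetric array against an alternating array sums to zero (valid in characteristic two). -/
theorem sum_symm_mul_alt (c B : n → n → A) (hc : ∀ j l, c j l = c l j)
    (hB0 : ∀ j, B j j = 0) (hB : ∀ j l, B j l + B l j = 0) :
    ∑ j, ∑ l, c j l * B j l = 0 := by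
  rw [← Finset.sum_product']
  refine Finset.sum_involution (fun a _ => Prod.swap a) ?_ ?_ (fun a _ => Finset.mem_univ _)
    (fun a _ => Prod.swap_swap a)
  · rintro ⟨j, l⟩ _
    show c j l * B j l + c l j * B l j = 0
    rw [hc l j, ← mul_add, hB, mul_zero]
  · rintro ⟨j, l⟩ _ hne hswap
    have hjl : l = j := congrArg Prod.fst hswap
    subst hjl
    exact hne (by show c l l * B l l = 0; rw [hB0, mul_zero])

end Groth.Agent.Helper7.DerDet
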