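import Mathlib
import Groth.Agent.Helper7.DerDetA

set_option autoImplicit false

namespace Groth.Agent.Helper7.DerDet

open Matrix

variable {k A : Type*} [CommRing k] [CommRing A] [Algebra k A]
variable {n : Type*} [Fintype n] [DecidableEq n]

/-- linearity of the determinant in one row, expanded on the standard basis. -/
theorem det_updateRow_eq_sum (M : Matrix n n A) (i : n) (v : n → A) :
    (M.updateRow i v).det = ∑ l, v l * (M.updateRow i (Pi.single l 1)).det := by
  have h := LinearMap.pi_apply_eq_sum_univ
    ((Matrix.detRowAlternating (n := n) (R := A)).toMultilinearMap.toLinearMap M i) v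
  simp only [smul_eq_mul] at h
  have e : ∀ l : n, (fun j => if l = j then (1 : A) else 0) = Pi.single l 1 := by
    intro l
    funext j
    rw [Pi.single_apply]
    by_cases h : l = j
    · rw [if_pos h, if_pos h.symm]
    · rw [if_neg h, if_neg (Ne.symm h)]
  simp only [e] at h
  exact h

variable (δ : n → Derivation k A A)

/-- the cofactors along a row are divergence free when the other rows are closed. -/
theorem sum_map_adjugate_eq_zero (N : Matrix n n A) (k0 : n)
    (hcl : ∀ i, i ≠ k0 → ∀ a b, δ a (N i b) = δ b (N i a)) :
    ∑ j, δ j (N.adjugate j k0) = 0 := by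
  have h1 : ∀ j, δ j (N.adjugate j k0) =
      ∑ i ∈ Finset.univ.erase k0,
        ((N.updateRow k0 (Pi.single j 1)).updateRow i (fun l => δ j (N i l))).det := by
    intro j
    rw [adjugate_apply, map_det, ← Finset.add_sum_erase _ _ (Finset.mem_univ k0)]
    have hz : ((N.updateRow k0 (Pi.single j 1)).updateRow k0
        (fun l => δ j ((N.updateRow k0 (Pi.single j 1)) k0 l))).det = 0 := by
      apply det_eq_zero_of_row_eq_zero k0
      intro l
      rw [updateRow_self, updateRow_self, Pi.single_apply]
      split_ifs
      · exact Derivation.map_one_eq_zero _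
      · exact map_zero _
    rw [hz, zero_add]
    refine Finset.sum_congr rfl fun i hi => ?_
    have hik : i ≠ k0 := Finset.ne_of_mem_erase hi
    congr 2
    funext l
    rw [updateRow_ne hik]
  rw [Finset.sum_congr rfl (fun j _ => h1 j), Finset.sum_comm]
  refine Finset.sum_eq_zero fun i hi => ?_
  have hik : i ≠ k0 := Finset.ne_of_mem_erase hi
  have h2 : ∀ j, ((N.updateRow k0 (Pi.single j 1)).updateRow i (fun l => δ j (N i l))).det =
      ∑ l, δ j (N i l) *
        ((N.updateRow k0 (Pi.single j 1)).updateRow i (Pi.single l 1)).det :=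
    fun j => det_updateRow_eq_sum _ i _
  rw [Finset.sum_congr rfl (fun j _ => h2 j)]
  refine sum_symm_mul_alt (fun j l => δ j (N i l))
    (fun j l => ((N.updateRow k0 (Pi.single j 1)).updateRow i (Pi.single l 1)).det)
    (fun j l => hcl i hik j l) ?_ ?_
  · intro j
    apply det_zero_of_row_eq hik
    rw [updateRow_self, updateRow_ne hik.symm, updateRow_self]
  · intro j l
    have h3 := (Matrix.detRowAlternating (n := n) (R := A)).map_swap_add
      ((N.updateRow k0 (Pi.single j 1)).updateRow i (Pi.single l 1)) hik
    have h4 : ((N.updateRow k0 (Pi.single j 1)).updateRow i (Pi.single l 1)) ∘ (Equiv.swap i k0) =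
        ((N.updateRow k0 (Pi.single l 1)).updateRow i (Pi.single j 1)) := by
      funext x
      rw [Function.comp_apply]
      by_cases hxi : x = i
      · subst hxi
        rw [Equiv.swap_apply_left, updateRow_ne hik.symm, updateRow_self, updateRow_self]
      · by_cases hxk : x = k0
        · subst hxk
          rw [Equiv.swap_apply_right, updateRow_self, updateRow_ne hxi, updateRow_self]
        · rw [Equiv.swap_apply_of_ne_of_ne hxi hxk, updateRow_ne hxi, updateRow_ne hxk,
            updateRow_ne hxi, updateRow_ne hxk]
    rw [h4] at h3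
    rw [add_comm]
    exact h3

/-- a determinant with one gradient row and all other rows closed is a divergence. -/
theorem det_eq_sum_map (N : Matrix n n A) (k0 : n) (g : A) (hrow : ∀ j, N k0 j = δ j g)
    (hcl : ∀ i, i ≠ k0 → ∀ a b, δ a (N i b) = δ b (N i a)) :
    N.det = ∑ j, δ j (g * N.adjugate j k0) := by
  have h1 : ∀ j, δ j (g * N.adjugate j k0) = g * δ j (N.adjugate j k0) + N k0 j * N.adjugate j k0 := by
    intro j
    rw [Derivation.leibniz, smul_eq_mul, smul_eq_mul, hrow j]
    ring
  rw [Finset.sum_congr rfl (fun j _ => h1 j), Finset.sum_add_distrib, ← Finset.mul_sum,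
    sum_map_adjugate_eq_zero δ N k0 hcl, mul_zero, zero_add]
  exact det_eq_sum_mul_adjugate_row N k0

end Groth.Agent.Helper7.DerDet
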