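import Mathlib
import Groth.Agent.Helper7.DerDetB

set_option autoImplicit false

namespace Groth.Agent.Helper7.DerDet

open Matrix Finset

variable {k A : Type*} [CommRing k] [CommRing A] [Algebra k A]

/-- general Leibniz rule for iterates of a derivation. -/
theorem iterate_mul (D : Derivation k A A) (n : ℕ) (a b : A) :
    D^[n] (a * b) = ∑ ij ∈ antidiagonal n, n.choose ij.1 • (D^[ij.1] a * D^[ij.2] b) := by
  induction n with
  | zero => simp
  | succ n ih =>
    rw [sum_antidiagonal_choose_succ_nsmul (M := A) (fun i j => D^[i] a * D^[j] b) n]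
    rw [Function.iterate_succ_apply', ih, map_sum]
    have h1 : ∀ ij ∈ antidiagonal n, D (n.choose ij.1 • (D^[ij.1] a * D^[ij.2] b)) =
        n.choose ij.1 • (D^[ij.1] a * D^[ij.2 + 1] b) +
          n.choose ij.2 • (D^[ij.1 + 1] a * D^[ij.2] b) := by
      rintro ⟨i, j⟩ hij
      rw [map_nsmul, Derivation.leibniz, smul_eq_mul, smul_eq_mul, smul_add,
        Function.iterate_succ_apply', Function.iterate_succ_apply',
        n.choose_symm_of_eq_add (HasAntidiagonal.mem_antidiagonal.1 hij).symm, mul_comm (D^[j] b)]
    rw [sum_congr rfl h1, sum_add_distrib]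

variable (p : ℕ) [hp : Fact p.Prime] [CharP A p]

/-- in characteristic `p`, the `p`-th iterate of a derivation satisfies the Leibniz rule. -/
theorem iterate_p_mul (D : Derivation k A A) (a b : A) :
    D^[p] (a * b) = a * D^[p] b + b * D^[p] a := by
  have hp1 := hp.out.one_lt
  rw [iterate_mul, Finset.sum_eq_add_of_mem (0, p) (p, 0) (by simp) (by simp)
    (by intro h; have := congrArg Prod.fst h; simp at this; omega)]
  · simp [mul_comm]
  · rintro ⟨i, j⟩ hij ⟨h1, h2⟩
    rw [HasAntidiagonal.mem_antidiagonal] at hij
    simp only at hij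
    have hi0 : i ≠ 0 := by
      intro h; apply h1; subst h; simp at hij; rw [hij]
    have hip : i < p := by
      rcases Nat.lt_or_ge i p with h | h
      · exact h
      · exfalso; apply h2
        have : i = p ∧ j = 0 := by omega
        rw [this.1, this.2]
    have hdvd : p ∣ p.choose i := hp.out.dvd_choose_self hi0 hip
    rw [← Nat.cast_smul_eq_nsmul A, (CharP.cast_eq_zero_iff A p _).mpr hdvd, zero_smul]

end Groth.Agent.Helper7.DerDet
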