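import Mathlib
import Groth.Agent.Helper7.DerDetC

set_option autoImplicit false

namespace Groth.Agent.Helper7.DerDet

open Matrix Finset

variable {k A : Type*} [CommRing k] [CommRing A] [Algebra k A]

/-- iterated derivative of `w * t^r` when `D t = 1`, `D w = 0`. -/
theorem iterate_mul_pow (D : Derivation k A A) (ti : A) (hD : D ti = 1) (w : A) (hw : D w = 0)
    (r m : ℕ) : D^[m] (w * ti ^ r) = w * (r.descFactorial m : A) * ti ^ (r - m) := by
  induction m with
  | zero => simp
  | succ m ih =>
    rw [Function.iterate_succ_apply', ih, Derivation.leibniz, Derivation.leibniz_pow, hD,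
      Derivation.leibniz, hw, Derivation.map_natCast, Nat.descFactorial_succ]
    simp only [smul_eq_mul, smul_zero, mul_zero, add_zero, nsmul_eq_mul, mul_one, Nat.cast_mul]
    rw [Nat.sub_add_eq]
    ring

section Lambda

variable (p : ℕ) {n : ℕ} (δ : Fin n → Derivation k A A)

/-- the operator `∏_{j ∈ l} δ_j^{p-1}`. -/
noncomputable def Lam (l : List (Fin n)) : Module.End k A :=
  (l.map fun j => (δ j).toLinearMap ^ (p - 1)).prod

theorem Lam_cons (i : Fin n) (l : List (Fin n)) :
    Lam p δ (i :: l) = (δ i).toLinearMap ^ (p - 1) * Lam p δ l := by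
  rw [Lam, List.map_cons, List.prod_cons]; rfl

variable (hcomm : ∀ i j a, δ i (δ j a) = δ j (δ i a))
include hcomm

theorem commute_toLinearMap (i j : Fin n) :
    Commute (δ i).toLinearMap (δ j).toLinearMap :=
  LinearMap.ext fun a => hcomm i j a

theorem commute_Lam (j : Fin n) (l : List (Fin n)) :
    Commute (δ j).toLinearMap (Lam p δ l) := by
  apply Commute.list_prod_right
  intro x hx
  rw [List.mem_map] at hx
  obtain ⟨i, _, rfl⟩ := hx
  exact (commute_toLinearMap δ hcomm j i).pow_right _

variable (hp1 : 1 ≤ p) (hnil : ∀ j a, (δ j)^[p] a = 0)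
include hp1 hnil

theorem Lam_mul_eq_zero (l : List (Fin n)) (j : Fin n) (hj : j ∈ l) :
    Lam p δ l * (δ j).toLinearMap = 0 := by
  induction l with
  | nil => simp at hj
  | cons i l ih =>
    rw [Lam_cons]
    rcases List.mem_cons.mp hj with h | h
    · subst h
      rw [mul_assoc, ← (commute_Lam p δ hcomm j l).eq, ← mul_assoc, ← pow_succ,
        Nat.sub_add_cancel hp1]
      have : (δ j).toLinearMap ^ p = 0 := by
        refine LinearMap.ext fun a => ?_
        rw [Module.End.pow_apply]
        exact hnil j a
      rw [this, zero_mul]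
    · rw [mul_assoc, ih h, mul_zero]

theorem Lam_map_eq_zero (l : List (Fin n)) (j : Fin n) (hj : j ∈ l) (h : A) :
    Lam p δ l (δ j h) = 0 := by
  have := LinearMap.congr_fun (Lam_mul_eq_zero p δ hcomm hp1 hnil l j hj) h
  exact this

end Lambda

end Groth.Agent.Helper7.DerDet
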