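import Mathlib
import Groth.Agent.Helper7.DerDetD

set_option autoImplicit false

namespace Groth.Agent.Helper7.DerDet

open Matrix Finset

variable {k A : Type*} [CommRing k] [CommRing A] [Algebra k A]

section Lambda

variable (p : ℕ) {n : ℕ} (δ : Fin n → Derivation k A A) (t : Fin n → A)
variable (hδt : ∀ i j, δ j (t i) = if i = j then 1 else 0)
include hδt

theorem map_pow_eq_zero_of_ne (i j : Fin n) (hij : i ≠ j) (r : ℕ) : δ j (t i ^ r) = 0 := by
  rw [Derivation.leibniz_pow, hδt, if_neg hij, smul_zero, smul_zero]

theorem Lam_prod (l : List (Fin n)) (hl : l.Nodup) (u : A) (hu : ∀ j ∈ l, δ j u = 0) :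
    Lam p δ l (u * (l.map fun j => t j ^ (p - 1)).prod) =
      (((p - 1).factorial ^ l.length : ℕ) : A) * u := by
  induction l generalizing u with
  | nil => simp [Lam]
  | cons i l ih =>
    rw [List.nodup_cons] at hl
    have hu' : ∀ j ∈ l, δ j (u * t i ^ (p - 1)) = 0 := by
      intro j hj
      have hij : i ≠ j := fun h => hl.1 (h ▸ hj)
      rw [Derivation.leibniz, map_pow_eq_zero_of_ne δ t hδt i j hij, hu j (List.mem_cons_of_mem _ hj),
        smul_zero, smul_zero, add_zero]
    rw [Lam_cons, List.map_cons, List.prod_cons, ← mul_assoc, Module.End.mul_apply, ih hl.2 _ hu',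
      Module.End.pow_apply]
    have hw : δ i ((((p - 1).factorial ^ l.length : ℕ) : A) * u) = 0 := by
      rw [Derivation.leibniz, hu i List.mem_cons_self, Derivation.map_natCast, smul_zero, smul_zero,
        add_zero]
    have h1 := iterate_mul_pow (δ i) (t i) (by rw [hδt, if_pos rfl])
      ((((p - 1).factorial ^ l.length : ℕ) : A) * u) hw (p - 1) (p - 1)
    rw [Nat.descFactorial_self, Nat.sub_self, pow_zero, mul_one] at h1
    rw [← mul_assoc]
    refine h1.trans ?_
    rw [List.length_cons, pow_succ]
    push_cast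
    ring

end Lambda

end Groth.Agent.Helper7.DerDet
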