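import Mathlib
import Groth.Agent.Helper7.DerDetE

set_option autoImplicit false

namespace Groth.Agent.Helper7.DerDet

open Matrix Finset

variable {k A : Type*} [CommRing k] [CommRing A] [Algebra k A]

section Main

variable (p : ℕ) {n : ℕ} (δ : Fin n → Derivation k A A) (t : Fin n → A)
variable (hδt : ∀ i j, δ j (t i) = if i = j then 1 else 0)
variable (hcomm : ∀ i j a, δ i (δ j a) = δ j (δ i a))
variable (hp1 : 1 ≤ p) (hnil : ∀ j a, (δ j)^[p] a = 0)
include hδt hcomm hp1 hnil

theorem Lam_det (f : Fin n → A) :
    Lam p δ (List.finRange n)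
      (Matrix.of fun i j : Fin n => (if i = j then t i ^ (p - 1) else 0) + δ j (f i)).det =
      (((p - 1).factorial ^ n : ℕ) : A) := by
  classical
  set J : Fin n → Fin n → A := fun i j => δ j (f i) with hJ
  set D0 : Fin n → Fin n → A := fun i j => if i = j then t i ^ (p - 1) else 0 with hD0
  have hM : (Matrix.of fun i j : Fin n => (if i = j then t i ^ (p - 1) else 0) + δ j (f i)) =
      Matrix.of (J + D0) := by
    ext i j
    simp only [of_apply, Pi.add_apply, hJ, hD0]
    ring
  have hsum : (Matrix.of (J + D0)).det = ∑ s : Finset (Fin n), (Matrix.of (s.piecewise J D0)).det :=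
    (Matrix.detRowAlternating (n := Fin n) (R := A)).toMultilinearMap.map_add_univ J D0
  rw [hM, hsum, map_sum, Finset.sum_eq_single (∅ : Finset (Fin n))]
  · -- the diagonal term
    have hd : Matrix.of ((∅ : Finset (Fin n)).piecewise J D0) = Matrix.diagonal fun i => t i ^ (p - 1) := by
      ext i j
      simp [hD0, Matrix.diagonal_apply]
    rw [hd, det_diagonal]
    have h1 := Lam_prod p δ t hδt (List.finRange n) (List.nodup_finRange n) 1
      (fun j _ => Derivation.map_one_eq_zero _)
    rw [one_mul, mul_one, List.length_finRange, ← List.ofFn_eq_map, List.prod_ofFn] at h1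
    exact h1
  · -- the other terms are divergences
    intro s _ hs
    obtain ⟨k0, hk0⟩ := Finset.nonempty_iff_ne_empty.mpr hs
    have hcl : ∀ i, ∀ a b, δ a (Matrix.of (s.piecewise J D0) i b) = δ b (Matrix.of (s.piecewise J D0) i a) := by
      intro i a b
      simp only [of_apply, Finset.piecewise]
      split_ifs with his
      · exact hcomm a b (f i)
      · simp only [hD0]
        by_cases hib : i = b
        · by_cases hia : i = a
          · rw [← hib, ← hia]
          · rw [if_pos hib, if_neg hia, map_zero, map_pow_eq_zero_of_ne δ t hδt i a hia]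
        · by_cases hia : i = a
          · rw [if_neg hib, if_pos hia, map_zero, map_pow_eq_zero_of_ne δ t hδt i b hib]
          · rw [if_neg hib, if_neg hia, map_zero, map_zero]
    have hrow : ∀ j, Matrix.of (s.piecewise J D0) k0 j = δ j (f k0) := by
      intro j
      simp only [of_apply, Finset.piecewise, if_pos hk0, hJ]
    rw [det_eq_sum_map δ _ k0 (f k0) hrow (fun i _ => hcl i), map_sum]
    exact Finset.sum_eq_zero fun j _ =>
      Lam_map_eq_zero p δ hcomm hp1 hnil _ j (List.mem_finRange j) _
  · intro h
    exact absurd (Finset.mem_univ _) h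

end Main

end Groth.Agent.Helper7.DerDet
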