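import Mathlib
import Groth.Agent.Helper7.DerDetF

set_option autoImplicit false

namespace Groth.Agent.Helper7.DerDet

open Matrix Finset

universe u v

variable (p : ℕ) [hp : Fact p.Prime] (k : Type u) [Field k] [CharP k p]
  (A : Type v) [CommRing A] [Nontrivial A] [Algebra k A]
  {n : ℕ} (t : Fin n → A) (b : Module.Basis (Fin n) A (KaehlerDifferential k A))
  (hb : ∀ i, b i = KaehlerDifferential.D k A (t i))

/-- the coordinate derivations `∂/∂t_j`. -/
noncomputable def coordDer (j : Fin n) : Derivation k A A :=
  (b.coord j).compDer (KaehlerDifferential.D k A)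

theorem coordDer_apply (j : Fin n) (a : A) :
    coordDer k A b j a = b.coord j (KaehlerDifferential.D k A a) := rfl

include hb

theorem coordDer_t (i j : Fin n) : coordDer k A b j (t i) = if i = j then 1 else 0 := by
  rw [coordDer_apply, ← hb, Module.Basis.coord_apply, Module.Basis.repr_self, Finsupp.single_apply]

/-- a derivation killing all `t_i` vanishes. -/
theorem derivation_eq_zero (d : Derivation k A A) (hd : ∀ i, d (t i) = 0) : d = 0 := by
  have h1 : d.liftKaehlerDifferential = 0 := by
    apply b.ext
    intro i
    rw [hb, Derivation.liftKaehlerDifferential_comp_D, hd, LinearMap.zero_apply]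
  ext a
  rw [← Derivation.liftKaehlerDifferential_comp_D d a, h1, LinearMap.zero_apply, Derivation.zero_apply]

theorem coordDer_comm (i j : Fin n) (a : A) :
    coordDer k A b i (coordDer k A b j a) = coordDer k A b j (coordDer k A b i a) := by
  have h : ⁅coordDer k A b i, coordDer k A b j⁆ = 0 := by
    apply derivation_eq_zero k A t b hb
    intro l
    rw [Derivation.commutator_apply, coordDer_t k A t b hb, coordDer_t k A t b hb]
    split_ifs <;> simp
  have := congrArg (fun d : Derivation k A A => d a) h
  simp only [Derivation.commutator_apply, Derivation.zero_apply] at this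
  exact sub_eq_zero.mp this

theorem coordDer_iterate_p [CharP A p] (j : Fin n) (a : A) : (coordDer k A b j)^[p] a = 0 := by
  let d : Derivation k A A := Derivation.mk' ((coordDer k A b j).toLinearMap ^ p) (by
    intro x y
    rw [Module.End.pow_apply, Module.End.pow_apply, Module.End.pow_apply, smul_eq_mul, smul_eq_mul]
    exact iterate_p_mul p (coordDer k A b j) x y)
  have hd : d = 0 := by
    apply derivation_eq_zero k A t b hb
    intro i
    show ((coordDer k A b j).toLinearMap ^ p) (t i) = 0
    rw [Module.End.pow_apply]
    obtain ⟨q, hq⟩ : ∃ q, p = q + 1 := ⟨p - 1, by have := hp.out.one_lt; omega⟩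
    rw [hq, Function.iterate_succ_apply]
    have : (coordDer k A b j).toLinearMap (t i) = coordDer k A b j (t i) := rfl
    rw [this, coordDer_t k A t b hb]
    split_ifs
    · rcases q with _ | q
      · exfalso; have := hp.out.one_lt; omega
      · rw [Function.iterate_succ_apply]
        have : (coordDer k A b j).toLinearMap (1 : A) = 0 := Derivation.map_one_eq_zero _
        rw [this]
        exact iterate_map_zero _ _
    · exact iterate_map_zero _ _
  have := congrArg (fun d : Derivation k A A => d a) hd
  simp only [Derivation.zero_apply] at this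
  have h2 : d a = ((coordDer k A b j).toLinearMap ^ p) a := rfl
  rw [h2, Module.End.pow_apply] at this
  exact this

theorem det_ne_zero (f : Fin n → A) :
    (Matrix.of fun i j : Fin n =>
        (if i = j then t i ^ (p - 1) else 0) +
          b.coord j (KaehlerDifferential.D k A (f i))).det ≠ 0 := by
  haveI : CharP A p := charP_of_injective_algebraMap (FaithfulSMul.algebraMap_injective k A) p
  intro h0
  have h1 := Lam_det p (coordDer k A b) t (coordDer_t k A t b hb) (coordDer_comm k A t b hb)
    hp.out.one_lt.le (coordDer_iterate_p p k A t b hb) f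
  have h2 : (Matrix.of fun i j : Fin n => (if i = j then t i ^ (p - 1) else 0) +
      coordDer k A b j (f i)) = (Matrix.of fun i j : Fin n =>
        (if i = j then t i ^ (p - 1) else 0) + b.coord j (KaehlerDifferential.D k A (f i))) := rfl
  rw [h2, h0, map_zero] at h1
  have h3 : p ∣ (p - 1).factorial ^ n := (CharP.cast_eq_zero_iff A p _).mp h1.symm
  have h4 : p ∣ (p - 1).factorial := hp.out.dvd_of_dvd_pow h3
  have h5 := (hp.out.dvd_factorial).mp h4
  have := hp.out.one_lt
  omega

end Groth.Agent.Helper7.DerDet
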