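import Mathlib
import Groth.Agent.Helper7.VascF

set_option autoImplicit false

/-!
# A regular sequence is quasi-regular: `I/I²` is free on the classes of the generators
-/

namespace Groth.Agent.Helper7.DetCot

open RingTheory.Sequence Groth.Agent.Helper7.Vasc

universe u

variable {P : Type u} [CommRing P] {r : ℕ} (F : Fin r → P)

/-- the ideal generated by the first `k` elements -/
def Ik (k : ℕ) : Ideal P := Ideal.span (F '' {i : Fin r | (i : ℕ) < k})

theorem Ik_mono {k l : ℕ} (h : k ≤ l) : Ik F k ≤ Ik F l :=
  Ideal.span_mono (Set.image_mono (fun _ hi => lt_of_lt_of_le hi h))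

theorem mem_Ik (i : Fin r) {k : ℕ} (h : (i : ℕ) < k) : F i ∈ Ik F k :=
  Ideal.subset_span ⟨i, h, rfl⟩

theorem Ik_eq_ofList (k : ℕ) : Ik F k = Ideal.ofList ((List.ofFn F).take k) := by
  unfold Ik Ideal.ofList
  congr 1
  ext x
  simp only [Set.mem_image, Set.mem_ofPred_eq]
  constructor
  · rintro ⟨i, hi, rfl⟩
    rw [List.mem_take_iff_getElem]
    refine ⟨i, ?_, ?_⟩
    · simp only [List.length_ofFn, lt_inf_iff]
      exact ⟨hi, i.2⟩
    · simp
  · intro hx
    rw [List.mem_take_iff_getElem] at hx
    obtain ⟨i, hi, rfl⟩ := hx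
    simp only [List.length_ofFn, lt_inf_iff] at hi
    exact ⟨⟨i, hi.2⟩, hi.1, by simp⟩

theorem Ik_top : Ik F r = Ideal.span (Set.range F) := by
  unfold Ik
  congr 1
  ext x
  simp only [Set.mem_image, Set.mem_ofPred_eq, Set.mem_range]
  constructor
  · rintro ⟨i, _, rfl⟩; exact ⟨i, rfl⟩
  · rintro ⟨i, rfl⟩; exact ⟨i, i.2, rfl⟩

theorem regular_step (hF : IsWeaklyRegular P (List.ofFn F)) (k : Fin r) (x : P)
    (hx : F k * x ∈ Ik F k) : x ∈ Ik F k := by
  rw [isWeaklyRegular_iff_forall] at hF
  have h := hF k (by simp) x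
  rw [← Ik_eq_ofList] at h
  apply h
  simpa using hx

theorem mem_Ik_iff_exists (k : ℕ) (x : P) :
    x ∈ Ik F k ↔ ∃ b : Fin r → P, (∀ j : Fin r, k ≤ (j : ℕ) → b j = 0) ∧ x = ∑ j, b j * F j := by
  classical
  constructor
  · intro hx
    unfold Ik at hx
    induction hx using Submodule.span_induction with
    | mem y hy =>
      obtain ⟨i, hi, rfl⟩ := hy
      refine ⟨Pi.single i 1, fun j hj => ?_, ?_⟩
      · rw [Pi.single_eq_of_ne]
        rintro rfl
        exact absurd hi (not_lt.mpr hj)
      · rw [Finset.sum_eq_single i]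
        · simp
        · intro j _ hji
          rw [Pi.single_eq_of_ne hji, zero_mul]
        · intro h; exact absurd (Finset.mem_univ _) h
    | zero => exact ⟨0, fun _ _ => rfl, by simp⟩
    | add y z _ _ hy hz =>
      obtain ⟨b, hb, rfl⟩ := hy
      obtain ⟨c, hc, rfl⟩ := hz
      refine ⟨b + c, fun j hj => by rw [Pi.add_apply, hb j hj, hc j hj, add_zero], ?_⟩
      rw [← Finset.sum_add_distrib]
      exact Finset.sum_congr rfl fun j _ => by rw [Pi.add_apply, add_mul]
    | smul a y _ hy =>
      obtain ⟨b, hb, rfl⟩ := hy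
      refine ⟨a • b, fun j hj => by rw [Pi.smul_apply, hb j hj, smul_zero], ?_⟩
      rw [Finset.smul_sum]
      exact Finset.sum_congr rfl fun j _ => by rw [Pi.smul_apply, smul_eq_mul, smul_eq_mul, mul_assoc]
  · rintro ⟨b, hb, rfl⟩
    refine Ideal.sum_mem _ fun j _ => ?_
    by_cases hj : (j : ℕ) < k
    · exact Ideal.mul_mem_left _ _ (mem_Ik F j hj)
    · rw [hb j (not_lt.mp hj), zero_mul]
      exact Ideal.zero_mem _

/-- syzygies of a regular sequence have coefficients in the ideal -/
theorem syzygy (hF : IsWeaklyRegular P (List.ofFn F)) :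
    ∀ (k : ℕ), k ≤ r → ∀ c : Fin r → P, (∀ j : Fin r, k ≤ (j : ℕ) → c j = 0) →
      ∑ j, c j * F j = 0 → ∀ j, c j ∈ Ik F k := by
  classical
  intro k
  induction k with
  | zero =>
    intro _ c hc _ j
    rw [hc j (Nat.zero_le _)]
    exact Ideal.zero_mem _
  | succ k ih =>
    intro hk c hc hsum j
    let kk : Fin r := ⟨k, hk⟩
    -- `c_k F_k ∈ I_k`
    have h1 : F kk * c kk ∈ Ik F k := by
      have h2 : F kk * c kk = -∑ j ∈ Finset.univ.erase kk, c j * F j := by
        rw [← Finset.add_sum_erase _ _ (Finset.mem_univ kk)] at hsum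
        rw [mul_comm]
        exact eq_neg_of_add_eq_zero_left hsum
      rw [h2]
      refine Ideal.neg_mem_iff _ |>.mpr (Ideal.sum_mem _ fun j hj => ?_)
      by_cases hjk : (j : ℕ) < k
      · exact Ideal.mul_mem_left _ _ (mem_Ik F j hjk)
      · have hne : j ≠ kk := Finset.ne_of_mem_erase hj
        have : k + 1 ≤ (j : ℕ) := by
          rcases Nat.lt_or_ge k (j : ℕ) with h | h
          · exact h
          · exfalso
            apply hne
            apply Fin.ext
            show (j : ℕ) = k
            omega
        rw [hc j this, zero_mul]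
        exact Ideal.zero_mem _
    have h3 : c kk ∈ Ik F k := regular_step F hF kk _ h1
    obtain ⟨b, hb, hbk⟩ := (mem_Ik_iff_exists F k _).mp h3
    -- the modified syzygy
    let c' : Fin r → P := fun j => if (j : ℕ) < k then c j + b j * F kk else 0
    have hc' : ∀ j : Fin r, k ≤ (j : ℕ) → c' j = 0 := fun j hj => by
      simp only [c', if_neg (not_lt.mpr hj)]
    have hsum' : ∑ j, c' j * F j = 0 := by
      have h4 : ∀ j : Fin r, c' j * F j =
          (if j = kk then 0 else c j * F j) + F kk * (b j * F j) := by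
        intro j
        by_cases hjk : (j : ℕ) < k
        · have hne : j ≠ kk := by
            rintro rfl; exact absurd hjk (lt_irrefl _)
          simp only [c', if_pos hjk, if_neg hne]
          ring
        · have hbj : b j = 0 := hb j (not_lt.mp hjk)
          simp only [c', if_neg hjk, hbj, zero_mul, mul_zero, add_zero]
          by_cases hjk' : j = kk
          · rw [if_pos hjk']
          · rw [if_neg hjk']
            have : k + 1 ≤ (j : ℕ) := by
              rcases Nat.lt_or_ge k (j : ℕ) with h | h
              · exact h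
              · exfalso
                apply hjk'
                apply Fin.ext
                show (j : ℕ) = k
                omega
            rw [hc j this, zero_mul]
      rw [Finset.sum_congr rfl (fun j _ => h4 j), Finset.sum_add_distrib, ← Finset.mul_sum, ← hbk]
      rw [← Finset.add_sum_erase _ _ (Finset.mem_univ kk)] at hsum
      have h5 : ∑ j, (if j = kk then 0 else c j * F j) = ∑ j ∈ Finset.univ.erase kk, c j * F j := by
        rw [← Finset.add_sum_erase _ _ (Finset.mem_univ kk), if_pos rfl, zero_add]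
        exact Finset.sum_congr rfl fun j hj => by rw [if_neg (Finset.ne_of_mem_erase hj)]
      rw [h5]
      linear_combination hsum
    have hih := ih (Nat.le_of_succ_le hk) c' hc' hsum'
    by_cases hjk : (j : ℕ) < k
    · have h6 : c j = c' j - b j * F kk := by
        simp only [c', if_pos hjk]; ring
      rw [h6]
      refine Ideal.sub_mem _ (Ik_mono F (Nat.le_succ k) (hih j)) ?_
      exact Ideal.mul_mem_left _ _ (mem_Ik F kk (Nat.lt_succ_self k))
    · by_cases hjk' : j = kk
      · rw [hjk']
        exact Ik_mono F (Nat.le_succ k) h3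
      · have : k + 1 ≤ (j : ℕ) := by
          rcases Nat.lt_or_ge k (j : ℕ) with h | h
          · exact h
          · exfalso
            apply hjk'
            apply Fin.ext
            show (j : ℕ) = k
            omega
        rw [hc j this]
        exact Ideal.zero_mem _

section cot

variable (I : Ideal P) (hI : I = Ideal.span (Set.range F))

/-- the classes of the generators in the conormal module -/
noncomputable def gen (hI : I = Ideal.span (Set.range F)) (j : Fin r) : I.Cotangent :=
  I.toCotangent ⟨F j, hI ▸ Ideal.subset_span ⟨j, rfl⟩⟩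

theorem sum_smul_gen (hI : I = Ideal.span (Set.range F)) (c : Fin r → P) :
    ∑ j, (Ideal.Quotient.mk I (c j)) • gen F I hI j =
      I.toCotangent ⟨∑ j, c j * F j, I.sum_mem fun j _ =>
        I.mul_mem_left _ (hI ▸ Ideal.subset_span ⟨j, rfl⟩)⟩ := by
  have h1 : ∀ j, (Ideal.Quotient.mk I (c j)) • gen F I hI j =
      I.toCotangent (c j • (⟨F j, hI ▸ Ideal.subset_span ⟨j, rfl⟩⟩ : I)) := by
    intro j
    rw [map_smul]
    rfl
  rw [Finset.sum_congr rfl (fun j _ => h1 j), ← map_sum]
  congr 1
  apply Subtype.ext
  rw [AddSubmonoidClass.coe_finsetSum]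
  rfl

include hI in
theorem span_gen : Submodule.span (P ⧸ I) (Set.range (gen F I hI)) = ⊤ := by
  rw [eq_top_iff]
  rintro x -
  obtain ⟨⟨y, hy⟩, rfl⟩ := I.toCotangent_surjective x
  have hy' := hy
  rw [hI, Ideal.mem_span_range_iff_exists_fun] at hy'
  obtain ⟨c, hc⟩ := hy'
  have : I.toCotangent ⟨y, hy⟩ = ∑ j, (Ideal.Quotient.mk I (c j)) • gen F I hI j := by
    rw [sum_smul_gen]
    congr 1
    apply Subtype.ext
    exact hc.symm
  rw [this]
  exact Submodule.sum_mem _ fun j _ => Submodule.smul_mem _ _ (Submodule.subset_span ⟨j, rfl⟩)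

include hI in
theorem linearIndependent_gen (hF : IsWeaklyRegular P (List.ofFn F)) :
    LinearIndependent (P ⧸ I) (gen F I hI) := by
  classical
  rw [Fintype.linearIndependent_iff]
  intro g hg j
  choose c hc using fun j => Ideal.Quotient.mk_surjective (g j)
  have hg' : ∑ j, (Ideal.Quotient.mk I (c j)) • gen F I hI j = 0 := by
    rw [← hg]
    exact Finset.sum_congr rfl fun j _ => by rw [hc j]
  rw [sum_smul_gen, Ideal.toCotangent_eq_zero] at hg'
  have h2 : ∑ j, c j * F j ∈ I • Submodule.span P (Set.range F) := by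
    have : I ^ 2 = I • Submodule.span P (Set.range F) := by
      rw [pow_two, smul_eq_mul]
      congr 1
    rw [← this]
    exact hg'
  rw [Submodule.mem_ideal_smul_span_iff_exists_sum] at h2
  obtain ⟨a, ha, hsum⟩ := h2
  have hsum' : ∑ j, (c j - a j) * F j = 0 := by
    rw [Finsupp.sum_fintype _ _ (fun _ => by simp)] at hsum
    simp only [smul_eq_mul] at hsum
    simp only [sub_mul, Finset.sum_sub_distrib]
    rw [hsum, sub_self]
  have h3 := syzygy F hF r le_rfl (fun j => c j - a j)
    (fun j hj => absurd j.2 (not_lt.mpr hj)) hsum' j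
  rw [Ik_top, ← hI] at h3
  have h4 : c j ∈ I := by
    have := I.add_mem h3 (ha j)
    simpa using this
  rw [← hc j]
  exact Ideal.Quotient.eq_zero_iff_mem.mpr h4

/-- the conormal module of a regular sequence is free on the classes of the generators -/
noncomputable def cotBasis (hI : I = Ideal.span (Set.range F))
    (hF : IsWeaklyRegular P (List.ofFn F)) : Module.Basis (Fin r) (P ⧸ I) I.Cotangent :=
  Module.Basis.mk (linearIndependent_gen F I hI hF) (span_gen F I hI).ge

theorem cotBasis_apply (hI : I = Ideal.span (Set.range F))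
    (hF : IsWeaklyRegular P (List.ofFn F)) (j : Fin r) : cotBasis F I hI hF j = gen F I hI j := by
  unfold cotBasis
  rw [Module.Basis.mk_apply]

end cot

end Groth.Agent.Helper7.DetCot
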