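import Mathlib

set_option autoImplicit false

/-!
# Top exterior power of a complement of a free direct summand

If `F = s(Q) ⊕ ⟨e₁,…,e_r⟩` then `⋀^m Q ≃ ⋀^(r+m) F` whenever `⋀^(r+m) F` is generated by an element
killed by left multiplication with the `e_j`.
-/

namespace Groth.Agent.Helper7.DetCot

open ExteriorAlgebra

universe u v w

variable {B : Type u} [CommRing B] {F : Type v} [AddCommGroup F] [Module B F]

section contraction

/-- contraction by a linear form -/
noncomputable abbrev cl (d : Module.Dual B F) : ExteriorAlgebra B F →ₗ[B] ExteriorAlgebra B F :=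
  CliffordAlgebra.contractLeft (Q := (0 : QuadraticForm B F)) d

theorem cl_ι_mul (d : Module.Dual B F) (a : F) (b : ExteriorAlgebra B F) :
    cl d (ι B a * b) = d a • b - ι B a * cl d b :=
  CliffordAlgebra.contractLeft_ι_mul d a b

theorem cl_algebraMap (d : Module.Dual B F) (c : B) :
    cl d (algebraMap B (ExteriorAlgebra B F) c) = 0 :=
  CliffordAlgebra.contractLeft_algebraMap _ d c

theorem cl_ι (d : Module.Dual B F) (a : F) :
    cl d (ι B a) = algebraMap B _ (d a) :=
  CliffordAlgebra.contractLeft_ι _ d a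

/-- the set of `z` past which contraction by `d` moves -/
def passes (d : Module.Dual B F) (z : ExteriorAlgebra B F) : Prop :=
  ∀ w : ExteriorAlgebra B F, cl d (w * z) = cl d w * z

theorem passes_one (d : Module.Dual B F) : passes d (1 : ExteriorAlgebra B F) := by
  intro w; rw [mul_one, mul_one]

theorem passes_mul (d : Module.Dual B F) {z z' : ExteriorAlgebra B F} (h : passes d z)
    (h' : passes d z') : passes d (z * z') := by
  intro w
  rw [← mul_assoc, h' (w * z), h w, mul_assoc]

theorem passes_add (d : Module.Dual B F) {z z' : ExteriorAlgebra B F} (h : passes d z)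
    (h' : passes d z') : passes d (z + z') := by
  intro w
  rw [mul_add, map_add, h w, h' w, mul_add]

theorem passes_algebraMap (d : Module.Dual B F) (c : B) :
    passes d (algebraMap B (ExteriorAlgebra B F) c) := by
  intro w
  rw [← Algebra.commutes, ← Algebra.smul_def, map_smul, Algebra.smul_def, Algebra.commutes]

theorem passes_ι (d : Module.Dual B F) (x : F) (hx : d x = 0) : passes d (ι B x) := by
  intro w
  induction w using CliffordAlgebra.left_induction with
  | algebraMap c =>
    rw [← Algebra.smul_def, map_smul, cl_ι, hx, map_zero, smul_zero, cl_algebraMap, zero_mul]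
  | add a b ha hb => rw [add_mul, map_add, ha, hb, map_add, add_mul]
  | ι_mul a m ha =>
    change cl d (ι B m * a * ι B x) = cl d (ι B m * a) * ι B x
    rw [mul_assoc, cl_ι_mul, ha, cl_ι_mul, sub_mul, smul_mul_assoc, mul_assoc]

theorem passes_zero_of (d : Module.Dual B F) {z : ExteriorAlgebra B F} (h : passes d z) :
    cl d z = 0 := by
  have := h 1
  rw [one_mul] at this
  rw [this]
  have h1 : cl d (1 : ExteriorAlgebra B F) = 0 := CliffordAlgebra.contractLeft_one _ d
  rw [h1, zero_mul]

theorem passes_ιMulti (d : Module.Dual B F) : ∀ (r : ℕ) (e : Fin r → F), (∀ j, d (e j) = 0) →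
    passes d (ιMulti B r e) := by
  intro r
  induction r with
  | zero => intro e _; rw [ιMulti_zero_apply]; exact passes_one d
  | succ r ih =>
    intro e he
    rw [ιMulti_succ_apply]
    exact passes_mul d (passes_ι d _ (he 0)) (ih _ (fun j => he j.succ))

/-- iterated contraction: first by `d 0`, then by `d 1`, … -/
noncomputable def contr : (r : ℕ) → (Fin r → Module.Dual B F) →
    (ExteriorAlgebra B F →ₗ[B] ExteriorAlgebra B F)
  | 0, _ => LinearMap.id
  | (r + 1), d => (contr r (Matrix.vecTail d)) ∘ₗ cl (d 0)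

theorem contr_zero (d : Fin 0 → Module.Dual B F) (x : ExteriorAlgebra B F) : contr 0 d x = x := rfl

theorem contr_succ {r : ℕ} (d : Fin (r + 1) → Module.Dual B F) (x : ExteriorAlgebra B F) :
    contr (r + 1) d x = contr r (Matrix.vecTail d) (cl (d 0) x) := rfl

/-- `C(e₁⋯e_r z) = z` -/
theorem contr_ιMulti_mul : ∀ (r : ℕ) (e : Fin r → F) (d : Fin r → Module.Dual B F),
    (∀ i j, d i (e j) = if i = j then 1 else 0) → ∀ z : ExteriorAlgebra B F,
    (∀ i, passes (d i) z) → contr r d (ιMulti B r e * z) = z := by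
  intro r
  induction r with
  | zero => intro e d _ z _; rw [contr_zero, ιMulti_zero_apply, one_mul]
  | succ r ih =>
    intro e d hde z hz
    rw [contr_succ, ιMulti_succ_apply, mul_assoc, cl_ι_mul, hde 0 0, if_pos rfl, one_smul]
    have h1 : passes (d 0) (ιMulti B r (Matrix.vecTail e)) :=
      passes_ιMulti (d 0) r _ (fun j => by
        change d 0 (e j.succ) = 0
        rw [hde 0 j.succ, if_neg (Fin.succ_ne_zero j).symm])
    have h2 : cl (d 0) (ιMulti B r (Matrix.vecTail e) * z) = 0 :=
      passes_zero_of (d 0) (passes_mul (d 0) h1 (hz 0))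
    rw [h2, mul_zero, sub_zero]
    refine ih (Matrix.vecTail e) (Matrix.vecTail d) (fun i j => ?_) z (fun i => hz i.succ)
    change d i.succ (e j.succ) = _
    rw [hde]
    simp only [Fin.succ_inj]

/-- `e₁⋯e_r C(ω) = ω` for `ω` killed by the `e_j` -/
theorem ιMulti_mul_contr : ∀ (r : ℕ) (e : Fin r → F) (d : Fin r → Module.Dual B F),
    (∀ i j, d i (e j) = if i = j then 1 else 0) → ∀ ω : ExteriorAlgebra B F,
    (∀ j, ι B (e j) * ω = 0) → ιMulti B r e * contr r d ω = ω := by
  intro r
  induction r with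
  | zero => intro e d _ ω _; rw [contr_zero, ιMulti_zero_apply, one_mul]
  | succ r ih =>
    intro e d hde ω hω
    rw [contr_succ, ιMulti_succ_apply, mul_assoc]
    have h1 : ∀ j : Fin r, ι B (Matrix.vecTail e j) * cl (d 0) ω = 0 := by
      intro j
      have h2 := cl_ι_mul (d 0) (e j.succ) ω
      rw [hω j.succ, map_zero, hde 0 j.succ, if_neg (Fin.succ_ne_zero j).symm, zero_smul,
        zero_sub, eq_comm, neg_eq_zero] at h2
      exact h2
    rw [ih (Matrix.vecTail e) (Matrix.vecTail d) (fun i j => by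
      change d i.succ (e j.succ) = _
      rw [hde]
      simp only [Fin.succ_inj]) (cl (d 0) ω) h1]
    have h3 := cl_ι_mul (d 0) (e 0) ω
    rw [hω 0, map_zero, hde 0 0, if_pos rfl, one_smul, eq_comm, sub_eq_zero] at h3
    exact h3.symm

end contraction

section degree

theorem ι_mem_one (a : F) : ι B a ∈ ⋀[B]^1 F := by
  rw [exteriorPower, pow_one]
  exact LinearMap.mem_range_self _ _

theorem mul_mem_add {r m : ℕ} {a b : ExteriorAlgebra B F} (ha : a ∈ ⋀[B]^r F)
    (hb : b ∈ ⋀[B]^m F) : a * b ∈ ⋀[B]^(r + m) F := by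
  rw [exteriorPower, pow_add]
  exact Submodule.mul_mem_mul ha hb

theorem ιMulti_mem (r : ℕ) (e : Fin r → F) : ιMulti B r e ∈ ⋀[B]^r F :=
  ιMulti_range B r ⟨e, rfl⟩

theorem cl_mem (d : Module.Dual B F) : ∀ (k : ℕ) (x : ExteriorAlgebra B F),
    x ∈ ⋀[B]^(k + 1) F → cl d x ∈ ⋀[B]^k F := by
  intro k
  induction k with
  | zero =>
    intro x hx
    rw [exteriorPower, zero_add, pow_one] at hx
    obtain ⟨a, rfl⟩ := hx
    rw [cl_ι, exteriorPower, pow_zero]
    exact Submodule.mem_one.mpr ⟨_, rfl⟩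
  | succ k ih =>
    intro x hx
    rw [← ιMulti_span_fixedDegree] at hx
    induction hx using Submodule.span_induction with
    | mem y hy =>
      obtain ⟨v, rfl⟩ := hy
      rw [ιMulti_succ_apply, cl_ι_mul]
      refine Submodule.sub_mem _ (Submodule.smul_mem _ _ (ιMulti_mem _ _)) ?_
      have h1 := ih _ (ιMulti_mem (k + 1) (Matrix.vecTail v))
      have h2 := mul_mem_add (ι_mem_one (v 0)) h1
      rwa [add_comm] at h2
    | zero => rw [map_zero]; exact Submodule.zero_mem _
    | add y z _ _ hy hz => rw [map_add]; exact Submodule.add_mem _ hy hz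
    | smul c y _ hy => rw [map_smul]; exact Submodule.smul_mem _ _ hy

theorem contr_mem : ∀ (r : ℕ) (d : Fin r → Module.Dual B F) (m : ℕ) (x : ExteriorAlgebra B F),
    x ∈ ⋀[B]^(r + m) F → contr r d x ∈ ⋀[B]^m F := by
  intro r
  induction r with
  | zero => intro d m x hx; rw [zero_add] at hx; exact hx
  | succ r ih =>
    intro d m x hx
    rw [contr_succ]
    apply ih
    apply cl_mem
    rwa [show r + m + 1 = r + 1 + m by omega]

theorem map_mem {Q : Type w} [AddCommGroup Q] [Module B Q] (f : F →ₗ[B] Q) (k : ℕ)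
    (x : ExteriorAlgebra B F) (hx : x ∈ ⋀[B]^k F) : ExteriorAlgebra.map f x ∈ ⋀[B]^k Q := by
  rw [← ιMulti_span_fixedDegree] at hx
  induction hx using Submodule.span_induction with
  | mem y hy =>
    obtain ⟨v, rfl⟩ := hy
    rw [map_apply_ιMulti]
    exact ιMulti_mem _ _
  | zero => rw [map_zero]; exact Submodule.zero_mem _
  | add y z _ _ hy hz => rw [map_add]; exact Submodule.add_mem _ hy hz
  | smul c y _ hy => rw [map_smul]; exact Submodule.smul_mem _ _ hy

theorem ι_mul_ι_neg (x y : F) : ι B x * ι B y = -(ι B y * ι B x) :=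
  eq_neg_of_add_eq_zero_left (ι_add_mul_swap x y)

theorem ιMulti_mul_ι : ∀ (r : ℕ) (e : Fin r → F) (a : F),
    ιMulti B r e * ι B a = (-1 : B) ^ r • (ι B a * ιMulti B r e) := by
  intro r
  induction r with
  | zero => intro e a; simp
  | succ r ih =>
    intro e a
    rw [ιMulti_succ_apply, mul_assoc, ih, mul_smul_comm, ← mul_assoc, ι_mul_ι_neg, neg_mul,
      smul_neg, mul_assoc, pow_succ, mul_smul]
    rw [neg_one_smul B, smul_neg]

theorem ιMulti_mul_ι_self {r : ℕ} (e : Fin r → F) (j : Fin r) :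
    ιMulti B r e * ι B (e j) = 0 := by
  have h1 : ι B (e j) = ιMulti B 1 (fun _ => e j) := by
    rw [ιMulti_succ_apply, ιMulti_zero_apply, mul_one]
  rw [h1, ιMulti_mul_ιMulti]
  apply ιMulti_eq_zero_of_not_inj
  intro hinj
  have h2 : Fin.append e (fun _ : Fin 1 => e j) (Fin.castAdd 1 j) =
      Fin.append e (fun _ : Fin 1 => e j) (Fin.natAdd r 0) := by
    rw [Fin.append_left, Fin.append_right]
  have h3 := hinj h2
  rw [Fin.ext_iff] at h3
  simp only [Fin.val_castAdd, Fin.val_natAdd, Fin.val_zero, add_zero] at h3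
  exact absurd h3 (Nat.ne_of_lt j.2)

end degree

section main

variable {Q : Type w} [AddCommGroup Q] [Module B Q] {r m : ℕ}
  (e : Fin r → F) (d : Fin r → Module.Dual B F) (π : F →ₗ[B] Q) (s : Q →ₗ[B] F)

theorem passes_map (hds : ∀ i q, d i (s q) = 0) (i : Fin r) (y : ExteriorAlgebra B Q) :
    passes (d i) (ExteriorAlgebra.map s y) := by
  induction y using ExteriorAlgebra.induction with
  | algebraMap c => rw [AlgHom.commutes]; exact passes_algebraMap _ _
  | ι q => rw [map_apply_ι]; exact passes_ι _ _ (hds i q)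
  | mul a b ha hb => rw [map_mul]; exact passes_mul _ ha hb
  | add a b ha hb => rw [map_add]; exact passes_add _ ha hb

theorem key_inj (hde : ∀ i j, d i (e j) = if i = j then 1 else 0)
    (hπs : ∀ q, π (s q) = q) (hds : ∀ i q, d i (s q) = 0) (y : ExteriorAlgebra B Q) :
    ExteriorAlgebra.map π (contr r d (ιMulti B r e * ExteriorAlgebra.map s y)) = y := by
  rw [contr_ιMulti_mul r e d hde _ (fun i => passes_map d s hds i y)]
  have h1 : (ExteriorAlgebra.map π).comp (ExteriorAlgebra.map s) = AlgHom.id B _ := by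
    rw [ExteriorAlgebra.map_comp_map]
    have : π ∘ₗ s = LinearMap.id := LinearMap.ext hπs
    rw [this, ExteriorAlgebra.map_id]
  exact DFunLike.congr_fun h1 y

theorem key_surj (hdec : ∀ x, x = s (π x) + ∑ j, d j x • e j) (z : ExteriorAlgebra B F) :
    ιMulti B r e * ExteriorAlgebra.map (s ∘ₗ π) z = ιMulti B r e * z := by
  induction z using CliffordAlgebra.left_induction with
  | algebraMap c => rw [AlgHom.commutes]
  | add a b ha hb => rw [map_add, mul_add, ha, hb, mul_add]
  | ι_mul a x ha =>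
    change ιMulti B r e * ExteriorAlgebra.map (s ∘ₗ π) (ι B x * a) = ιMulti B r e * (ι B x * a)
    have h1 : ιMulti B r e * ι B ((s ∘ₗ π) x) = ιMulti B r e * ι B x := by
      have h2 : ι B x = ι B ((s ∘ₗ π) x) + ∑ j, d j x • ι B (e j) := by
        conv_lhs => rw [hdec x]
        rw [map_add, map_sum]
        congr 1
        exact Finset.sum_congr rfl fun j _ => by rw [map_smul]
      rw [h2, mul_add, Finset.mul_sum]
      have h3 : ∀ j ∈ Finset.univ, ιMulti B r e * (d j x • ι B (e j)) = 0 := by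
        intro j _
        rw [mul_smul_comm, ιMulti_mul_ι_self, smul_zero]
      rw [Finset.sum_eq_zero h3, add_zero]
    rw [map_mul, map_apply_ι, ← mul_assoc, h1, ιMulti_mul_ι, smul_mul_assoc, mul_assoc, ha,
      ← mul_assoc, ← smul_mul_assoc, ← ιMulti_mul_ι, mul_assoc]

/-- the comparison map `⋀^m Q → ⋀^(r+m) F`, `y ↦ e₁ ∧ ⋯ ∧ e_r ∧ s(y)` -/
noncomputable def Φ : ⋀[B]^m Q →ₗ[B] ⋀[B]^(r + m) F :=
  LinearMap.codRestrict _
    ((LinearMap.mulLeft B (ιMulti B r e)) ∘ₗ (ExteriorAlgebra.map s).toLinearMap ∘ₗ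
      (⋀[B]^m Q).subtype)
    (fun y => mul_mem_add (ιMulti_mem r e) (map_mem s m _ y.2))

theorem Φ_coe (y : ⋀[B]^m Q) :
    ((Φ e s y : ⋀[B]^(r + m) F) : ExteriorAlgebra B F) =
      ιMulti B r e * ExteriorAlgebra.map s (y : ExteriorAlgebra B Q) := rfl

theorem nonempty_equiv (hde : ∀ i j, d i (e j) = if i = j then 1 else 0)
    (hπs : ∀ q, π (s q) = q) (hds : ∀ i q, d i (s q) = 0)
    (hdec : ∀ x, x = s (π x) + ∑ j, d j x • e j)
    (ω : ⋀[B]^(r + m) F) (hω : Submodule.span B {ω} = ⊤)
    (hωe : ∀ j, ι B (e j) * (ω : ExteriorAlgebra B F) = 0) :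
    Nonempty (⋀[B]^m Q ≃ₗ[B] ⋀[B]^(r + m) F) := by
  refine ⟨LinearEquiv.ofBijective (Φ (m := m) e s) ⟨?_, ?_⟩⟩
  · rw [injective_iff_map_eq_zero]
    intro y hy
    have h1 := key_inj e d π s hde hπs hds (y : ExteriorAlgebra B Q)
    rw [← Φ_coe, hy] at h1
    apply Subtype.ext
    rw [← h1]
    simp
  · have hωmem : ω ∈ LinearMap.range (Φ (m := m) e s) := by
      have h1 := ιMulti_mul_contr r e d hde (ω : ExteriorAlgebra B F) hωe
      have h2 : contr r d (ω : ExteriorAlgebra B F) ∈ ⋀[B]^m F := contr_mem r d m _ ω.2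
      refine ⟨⟨ExteriorAlgebra.map π (contr r d ω), map_mem π m _ h2⟩, ?_⟩
      apply Subtype.ext
      rw [Φ_coe]
      change ιMulti B r e * ExteriorAlgebra.map s (ExteriorAlgebra.map π (contr r d ω)) = _
      have h3 : ExteriorAlgebra.map s (ExteriorAlgebra.map π (contr r d (ω : ExteriorAlgebra B F))) =
          ExteriorAlgebra.map (s ∘ₗ π) (contr r d ω) := by
        have := ExteriorAlgebra.map_comp_map (R := B) π s
        exact DFunLike.congr_fun this _
      rw [h3, key_surj e d π s hdec, h1]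
    intro x
    have hx : x ∈ Submodule.span B {ω} := by rw [hω]; trivial
    rw [Submodule.mem_span_singleton] at hx
    obtain ⟨c, rfl⟩ := hx
    obtain ⟨y, hy⟩ := hωmem
    exact ⟨c • y, by rw [map_smul, hy]⟩

end main

end Groth.Agent.Helper7.DetCot
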