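import Mathlib
import Groth.Agent.Helper7.DetCotA
import Groth.Agent.Helper7.DetCotB

set_option autoImplicit false

/-!
# Top forms of a finite free module, and the splitting data of the conormal sequence
-/

namespace Groth.Agent.Helper7.DetCot

open ExteriorAlgebra RingTheory.Sequence TensorProduct

universe u v

section topform
variable {B : Type u} [CommRing B] {F : Type v} [AddCommGroup F] [Module B F]

theorem exists_top_form {n : ℕ} (b : Module.Basis (Fin n) B F) :
    ∃ ω : ⋀[B]^n F, Submodule.span B {ω} = ⊤ ∧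
      ∀ x : F, ι B x * (ω : ExteriorAlgebra B F) = 0 := by
  classical
  have hc1 : Nat.card (Set.powersetCard (Fin n) n) = 1 := by
    rw [Set.powersetCard.card, Nat.card_fin, Nat.choose_self]
  have hc0 : Nat.card (Set.powersetCard (Fin n) (n + 1)) = 0 := by
    rw [Set.powersetCard.card, Nat.card_fin, Nat.choose_succ_self]
  haveI : Finite (Set.powersetCard (Fin n) (n + 1)) := by
    have : Finite (Finset (Fin n)) := inferInstance
    exact Subtype.finite
  haveI : IsEmpty (Set.powersetCard (Fin n) (n + 1)) := (Nat.card_eq_zero.mp hc0).resolve_right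
    (fun h => absurd ‹Finite _› (not_finite_iff_infinite.mpr h))
  obtain ⟨s₀, hs₀⟩ := Nat.card_eq_one_iff_exists.mp hc1
  let bn := b.exteriorPower n
  let bn1 := b.exteriorPower (n + 1)
  refine ⟨bn s₀, ?_, fun x => ?_⟩
  · rw [← bn.span_eq]
    congr 1
    ext y
    simp only [Set.mem_singleton_iff, Set.mem_range]
    constructor
    · rintro rfl; exact ⟨s₀, rfl⟩
    · rintro ⟨s, rfl⟩; rw [hs₀ s]
  · have hsub : Subsingleton (⋀[B]^(n + 1) F) := by
      refine ⟨fun a c => ?_⟩
      apply bn1.repr.injective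
      ext s
      exact isEmptyElim s
    have hmem : ι B x * ((bn s₀ : ⋀[B]^n F) : ExteriorAlgebra B F) ∈ ⋀[B]^(n + 1) F := by
      have := mul_mem_add (ι_mem_one (B := B) x) (bn s₀).2
      rwa [add_comm] at this
    have := Subsingleton.elim (⟨_, hmem⟩ : ⋀[B]^(n + 1) F) 0
    exact congrArg Subtype.val this

end topform

section split

variable {A P B : Type u} [CommRing A] [CommRing P] [CommRing B] [Algebra A P] [Algebra A B]
  [Algebra P B] [IsScalarTower A P B]

theorem exists_split_data [Algebra.FormallySmooth A P] [Algebra.FormallySmooth A B]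
    (hsurj : Function.Surjective (algebraMap P B)) {r : ℕ} (f : Fin r → P)
    (hf : IsWeaklyRegular P (List.ofFn f))
    (hK : RingHom.ker (algebraMap P B) = Ideal.span (Set.range f)) :
    ∃ (e : Fin r → B ⊗[P] Ω[P⁄A]) (d : Fin r → Module.Dual B (B ⊗[P] Ω[P⁄A]))
      (s : Ω[B⁄A] →ₗ[B] B ⊗[P] Ω[P⁄A]),
      (∀ i j, d i (e j) = if i = j then 1 else 0) ∧
      (∀ q, KaehlerDifferential.mapBaseChange A P B (s q) = q) ∧
      (∀ i q, d i (s q) = 0) ∧
      (∀ x, x = s (KaehlerDifferential.mapBaseChange A P B x) + ∑ j, d j x • e j) := by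
  classical
  set K := RingHom.ker (algebraMap P B) with hKdef
  let κ := KaehlerDifferential.kerCotangentToTensor A P B
  let π := KaehlerDifferential.mapBaseChange A P B
  obtain ⟨l, hl⟩ := (Algebra.FormallySmooth.iff_split_injection hsurj).mp
    (inferInstance : Algebra.FormallySmooth A B)
  have hl' : ∀ y, l (κ y) = y := fun y => DFunLike.congr_fun hl y
  have hex : Function.Exact κ π :=
    KaehlerDifferential.exact_kerCotangentToTensor_mapBaseChange A P B hsurj
  have hπsurj : Function.Surjective π := KaehlerDifferential.mapBaseChange_surjective A P B hsurj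
  let g : Fin r → K.Cotangent := gen f K hK
  have hsmul : ∀ (c : P) (y : K.Cotangent), (Ideal.Quotient.mk K c) • y = c • y := by
    intro c y
    rw [← Ideal.Quotient.algebraMap_eq, algebraMap_smul]
  let G : (Fin r → P) →ₗ[P] K.Cotangent := Fintype.linearCombination P g
  have hGapp : ∀ c, G c = ∑ j, (Ideal.Quotient.mk K (c j)) • g j := by
    intro c
    rw [Fintype.linearCombination_apply]
    exact Finset.sum_congr rfl fun j _ => (hsmul _ _).symm
  have hGsurj : Function.Surjective G := by
    intro y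
    have hy : y ∈ Submodule.span (P ⧸ K) (Set.range g) := by
      rw [span_gen f K hK]; trivial
    rw [Submodule.mem_span_range_iff_exists_fun] at hy
    obtain ⟨c', hc'⟩ := hy
    choose c hc using fun j => Ideal.Quotient.mk_surjective (c' j)
    refine ⟨c, ?_⟩
    rw [hGapp, ← hc']
    exact Finset.sum_congr rfl fun j _ => by rw [hc j]
  have hGker : ∀ c, G c = 0 → ∀ j, c j ∈ K := by
    intro c hc j
    rw [hGapp] at hc
    have := Fintype.linearIndependent_iff.mp (linearIndependent_gen f K hK hf) _ hc j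
    exact Ideal.Quotient.eq_zero_iff_mem.mp this
  let H : (Fin r → P) →ₗ[P] (Fin r → B) :=
    LinearMap.pi fun j => (Algebra.linearMap P B) ∘ₗ LinearMap.proj j
  have hHapp : ∀ c j, H c j = algebraMap P B (c j) := fun c j => rfl
  have hle : LinearMap.ker G ≤ LinearMap.ker H := by
    intro c hc
    rw [LinearMap.mem_ker] at hc ⊢
    funext j
    rw [hHapp]
    exact (RingHom.mem_ker).mp (hGker c hc j)
  let τ : K.Cotangent →ₗ[P] (Fin r → B) :=
    ((LinearMap.ker G).liftQ H hle) ∘ₗ (G.quotKerEquivOfSurjective hGsurj).symm.toLinearMap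
  have hτ : ∀ c, τ (G c) = H c := by
    intro c
    have h1 : (G.quotKerEquivOfSurjective hGsurj).symm (G c) = Submodule.Quotient.mk c := by
      rw [LinearEquiv.symm_apply_eq]
      rfl
    change (LinearMap.ker G).liftQ H hle ((G.quotKerEquivOfSurjective hGsurj).symm (G c)) = _
    rw [h1, Submodule.liftQ_apply]
  -- the data
  let e : Fin r → B ⊗[P] Ω[P⁄A] := fun j => κ (g j)
  let d : Fin r → Module.Dual B (B ⊗[P] Ω[P⁄A]) := fun j =>
    ((LinearMap.proj j) ∘ₗ τ ∘ₗ l).extendScalarsOfSurjective hsurj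
  have hdapp : ∀ j x, d j x = τ (l x) j := fun j x => rfl
  have hgG : ∀ j, g j = G (Pi.single j 1) := by
    intro j
    rw [Fintype.linearCombination_apply_single, one_smul]
  have hde : ∀ i j, d i (e j) = if i = j then 1 else 0 := by
    intro i j
    rw [hdapp, hl', hgG, hτ, hHapp]
    by_cases hij : i = j
    · subst hij
      rw [Pi.single_eq_same, map_one, if_pos rfl]
    · rw [Pi.single_eq_of_ne hij, map_zero, if_neg hij]
  have hdκ : ∀ c j, d j (κ (G c)) = algebraMap P B (c j) := by
    intro c j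
    rw [hdapp, hl', hτ, hHapp]
  let ε : (B ⊗[P] Ω[P⁄A]) →ₗ[B] (B ⊗[P] Ω[P⁄A]) :=
    LinearMap.id - ∑ j, (d j).smulRight (e j)
  have hεapp : ∀ x, ε x = x - ∑ j, d j x • e j := by
    intro x
    simp only [ε, LinearMap.sub_apply, LinearMap.id_apply, LinearMap.sum_apply,
      LinearMap.smulRight_apply]
  have hεκ : ∀ y, ε (κ y) = 0 := by
    intro y
    obtain ⟨c, rfl⟩ := hGsurj y
    rw [hεapp, sub_eq_zero]
    have h1 : κ (G c) = ∑ j, c j • e j := by
      rw [Fintype.linearCombination_apply, map_sum]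
      exact Finset.sum_congr rfl fun j _ => by rw [map_smul]
    conv_lhs => rw [h1]
    exact Finset.sum_congr rfl fun j _ => by rw [hdκ, algebraMap_smul]
  have hkerle : LinearMap.ker π ≤ LinearMap.ker ε := by
    intro x hx
    rw [LinearMap.mem_ker] at hx ⊢
    obtain ⟨y, rfl⟩ := (hex x).mp hx
    exact hεκ y
  let s : Ω[B⁄A] →ₗ[B] B ⊗[P] Ω[P⁄A] :=
    ((LinearMap.ker π).liftQ ε hkerle) ∘ₗ (π.quotKerEquivOfSurjective hπsurj).symm.toLinearMap
  have hsπ : ∀ x, s (π x) = ε x := by
    intro x
    have h1 : (π.quotKerEquivOfSurjective hπsurj).symm (π x) = Submodule.Quotient.mk x := by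
      rw [LinearEquiv.symm_apply_eq]
      rfl
    change (LinearMap.ker π).liftQ ε hkerle ((π.quotKerEquivOfSurjective hπsurj).symm (π x)) = _
    rw [h1, Submodule.liftQ_apply]
  have hπe : ∀ j, π (e j) = 0 := fun j => (hex _).mpr ⟨_, rfl⟩
  refine ⟨e, d, s, hde, ?_, ?_, ?_⟩
  · intro q
    obtain ⟨x, rfl⟩ := hπsurj q
    rw [hsπ, hεapp, map_sub, map_sum]
    have : ∀ j ∈ Finset.univ, π (d j x • e j) = 0 := fun j _ => by
      rw [map_smul, hπe, smul_zero]
    rw [Finset.sum_eq_zero this, sub_zero]
  · intro i q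
    obtain ⟨x, rfl⟩ := hπsurj q
    rw [hsπ, hεapp, map_sub, map_sum]
    have : ∀ j ∈ Finset.univ, d i (d j x • e j) = if i = j then d j x else 0 := fun j _ => by
      rw [map_smul, hde, smul_eq_mul, mul_ite, mul_one, mul_zero]
    rw [Finset.sum_congr rfl this, Finset.sum_ite_eq Finset.univ i, if_pos (Finset.mem_univ _),
      sub_self]
  · intro x
    change x = s (π x) + _
    rw [hsπ, hεapp, sub_add_cancel]

end split

end Groth.Agent.Helper7.DetCot
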