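import Mathlib
import Groth.Agent.Helper7.DetCotC

set_option autoImplicit false

/-!
# The canonical module of a smooth complete intersection
-/

namespace Groth.Agent.Helper7.DetCot

open ExteriorAlgebra RingTheory.Sequence TensorProduct

universe u v

theorem nonempty_top_equiv {B : Type u} [CommRing B] {F : Type v} [AddCommGroup F] [Module B F]
    {n : ℕ} (b : Module.Basis (Fin n) B F) : Nonempty (⋀[B]^n F ≃ₗ[B] B) := by
  classical
  have hc1 : Nat.card (Set.powersetCard (Fin n) n) = 1 := by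
    rw [Set.powersetCard.card, Nat.card_fin, Nat.choose_self]
  obtain ⟨s₀, hs₀⟩ := Nat.card_eq_one_iff_exists.mp hc1
  haveI : Unique (Set.powersetCard (Fin n) n) := ⟨⟨s₀⟩, hs₀⟩
  exact ⟨(b.exteriorPower n).equivFun ≪≫ₗ LinearEquiv.funUnique _ B B⟩

theorem main (A : Type u) [CommRing A] [IsNoetherianRing A]
    (n r : ℕ) (hrn : r ≤ n) (F : Fin r → MvPolynomial (Fin n) A)
    (hreg : RingTheory.Sequence.IsWeaklyRegular (MvPolynomial (Fin n) A) (List.ofFn F))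
    (I : Ideal (MvPolynomial (Fin n) A)) (hI : I = Ideal.span (Set.range F))
    [Algebra.Smooth A (MvPolynomial (Fin n) A ⧸ I)] :
    Nonempty ((Module.Dual (MvPolynomial (Fin n) A ⧸ I) (⋀[MvPolynomial (Fin n) A ⧸ I]^r I.Cotangent)) ⊗[MvPolynomial (Fin n) A ⧸ I]
        ((MvPolynomial (Fin n) A ⧸ I) ⊗[MvPolynomial (Fin n) A] (⋀[MvPolynomial (Fin n) A]^n (Ω[MvPolynomial (Fin n) A⁄A])))
      ≃ₗ[MvPolynomial (Fin n) A ⧸ I] (⋀[MvPolynomial (Fin n) A ⧸ I]^(n - r) (Ω[(MvPolynomial (Fin n) A ⧸ I)⁄A]))) := by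
  classical
  have hsurj : Function.Surjective (algebraMap (MvPolynomial (Fin n) A) (MvPolynomial (Fin n) A ⧸ I)) :=
    Ideal.Quotient.mk_surjective
  have hK : RingHom.ker (algebraMap (MvPolynomial (Fin n) A) (MvPolynomial (Fin n) A ⧸ I)) =
      Ideal.span (Set.range F) := by
    rw [Ideal.Quotient.algebraMap_eq, Ideal.mk_ker, hI]
  let bP := KaehlerDifferential.mvPolynomialBasis A (Fin n)
  let bF := bP.baseChange (MvPolynomial (Fin n) A ⧸ I)
  have hnr : r + (n - r) = n := by omega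
  let bF' := bF.reindex (finCongr hnr.symm)
  obtain ⟨ω, hω, hωe⟩ := exists_top_form bF'
  obtain ⟨e, d, s, hde, hπs, hds, hdec⟩ := exists_split_data (A := A) hsurj F hreg hK
  obtain ⟨E1⟩ := nonempty_equiv e d (KaehlerDifferential.mapBaseChange A (MvPolynomial (Fin n) A)
    (MvPolynomial (Fin n) A ⧸ I)) s hde hπs hds hdec ω hω (fun j => hωe (e j))
  obtain ⟨E2⟩ := nonempty_top_equiv bF'
  obtain ⟨E3⟩ := nonempty_top_equiv (cotBasis F I hI hreg)
  obtain ⟨E4⟩ := nonempty_top_equiv bP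
  let E5 : Module.Dual (MvPolynomial (Fin n) A ⧸ I) (⋀[MvPolynomial (Fin n) A ⧸ I]^r I.Cotangent)
      ≃ₗ[MvPolynomial (Fin n) A ⧸ I] (MvPolynomial (Fin n) A ⧸ I) :=
    E3.symm.dualMap ≪≫ₗ LinearMap.ringLmapEquivSelf _ _ _
  let E6 : (MvPolynomial (Fin n) A ⧸ I) ⊗[MvPolynomial (Fin n) A]
      (⋀[MvPolynomial (Fin n) A]^n (Ω[MvPolynomial (Fin n) A⁄A]))
      ≃ₗ[MvPolynomial (Fin n) A ⧸ I] (MvPolynomial (Fin n) A ⧸ I) :=
    (TensorProduct.AlgebraTensorModule.congr (LinearEquiv.refl _ _) E4) ≪≫ₗ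
      TensorProduct.AlgebraTensorModule.rid _ _ _
  exact ⟨(TensorProduct.congr E5 E6) ≪≫ₗ TensorProduct.lid _ _ ≪≫ₗ E2.symm ≪≫ₗ E1.symm⟩

end Groth.Agent.Helper7.DetCot
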