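import Mathlib
import Groth.Prelude.Def_QFDual
import Groth.Agent.Helper7.DiffBC3

set_option linter.style.haveILetI false
set_option linter.unusedSectionVars false

namespace Groth.Agent.Helper7.DiffBC

open TensorProduct

universe u

section Omega

variable {A A' B B' : Type u} [CommRing A] [CommRing A'] [CommRing B] [CommRing B']
  [Algebra A A'] [Algebra A B] [Algebra A' B'] [Algebra B B'] [Algebra A B']
  [IsScalarTower A A' B'] [IsScalarTower A B B']

/-- the trace form is compatible with base change -/
theorem bcFin_trace (hB : Algebra.IsPushout A A' B B') [Module.Finite A B] [Module.Free A B]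
    [Module.Finite A' B'] [Module.Free A' B'] :
    QFDual.bcFin hB (Disc.Omega.trace A B) = Disc.Omega.trace A' B' := by
  apply Disc.Omega.ext
  refine hB.out.algHom_ext _ _ fun b => ?_
  change (QFDual.bcFin hB (Disc.Omega.trace A B)).toLinearMap (algebraMap B B' b) =
    Algebra.trace A' B' (algebraMap B B' b)
  rw [QFDual.bcFin_apply_algebraMap]
  change algebraMap A A' (Algebra.trace A B b) = _
  classical
  let bs := Module.Free.chooseBasis A B
  let bs' := hB.out.basis bs
  rw [Algebra.trace_eq_matrix_trace bs, Algebra.trace_eq_matrix_trace bs']
  rw [Matrix.trace, Matrix.trace, map_sum]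
  refine Finset.sum_congr rfl fun i _ => ?_
  rw [Matrix.diag_apply, Matrix.diag_apply, Algebra.leftMulMatrix_eq_repr_mul,
    Algebra.leftMulMatrix_eq_repr_mul]
  have h1 : bs' i = algebraMap B B' (bs i) := by
    simp [bs', IsBaseChange.basis_apply]
  rw [h1, ← map_mul]
  have h2 := hB.out.basis_repr_comp_apply bs (b * bs i) i
  exact h2.symm

/-- All base-change statements for the different of a finite free algebra at once. -/
theorem master (hB : Algebra.IsPushout A A' B B') [Module.Finite A B] [Module.Free A B]
    [Module.Finite A' B'] [Module.Free A' B'] :
    (Ideal.map (algebraMap B B') (QFDual.different B (Disc.Omega.trace A B)) ≤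
      QFDual.different B' (Disc.Omega.trace A' B')) ∧
    ((Ideal.map (algebraMap B B') (QFDual.different B (Disc.Omega.trace A B))).radical =
      (QFDual.different B' (Disc.Omega.trace A' B')).radical) ∧
    (Module.Flat A A' → Ideal.map (algebraMap B B') (QFDual.different B (Disc.Omega.trace A B)) =
      QFDual.different B' (Disc.Omega.trace A' B')) ∧
    (Module.Invertible B (Disc.Omega A B) →
      Ideal.map (algebraMap B B') (QFDual.different B (Disc.Omega.trace A B)) =
      QFDual.different B' (Disc.Omega.trace A' B')) := by
  letI mB : Module B (Disc.Omega A' B') := Module.compHom _ (algebraMap B B')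
  haveI : IsScalarTower B B' (Disc.Omega A' B') := IsScalarTower.of_algebraMap_smul (fun _ _ => rfl)
  let f : Disc.Omega A B →ₗ[B] Disc.Omega A' B' :=
    { toFun := QFDual.bcFin hB
      map_add' := (QFDual.bcFin hB).map_add
      map_smul' := fun b x => (QFDual.bcFin hB).map_smulₛₗ b x }
  have hfτ : f (Disc.Omega.trace A B) = Disc.Omega.trace A' B' := bcFin_trace hB
  have hf : IsBaseChange B' f := by
    letI : Module A (Disc.Omega A B) := Module.compHom _ (algebraMap A B)
    letI : Module A (Disc.Omega A' B') := Module.compHom _ (algebraMap A B')
    letI : Module A' (Disc.Omega A' B') := Module.compHom _ (algebraMap A' B')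
    haveI : IsScalarTower A B (Disc.Omega A B) := IsScalarTower.of_algebraMap_smul (fun _ _ => rfl)
    haveI : IsScalarTower A' B' (Disc.Omega A' B') :=
      IsScalarTower.of_algebraMap_smul (fun _ _ => rfl)
    haveI : IsScalarTower A B' (Disc.Omega A' B') :=
      IsScalarTower.of_algebraMap_smul (fun _ _ => rfl)
    haveI : IsScalarTower A A' (Disc.Omega A' B') := IsScalarTower.of_algebraMap_smul (fun a x => by
      change algebraMap A' B' (algebraMap A A' a) • x = algebraMap A B' a • x
      rw [← IsScalarTower.algebraMap_apply A A' B'])
    haveI : IsScalarTower A B (Disc.Omega A' B') := IsScalarTower.of_algebraMap_smul (fun a x => by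
      change algebraMap B B' (algebraMap A B a) • x = algebraMap A B' a • x
      rw [← IsScalarTower.algebraMap_apply A B B'])
    apply isBaseChange_of_isPushout hB f
    let e : Disc.Omega A B ≃ₗ[A] Module.Dual A B :=
      { toFun := Disc.Omega.toLinearMap
        invFun := Disc.Omega.mk
        left_inv := fun _ => rfl
        right_inv := fun _ => rfl
        map_add' := fun _ _ => rfl
        map_smul' := fun a φ => by
          apply LinearMap.ext
          intro x
          change φ.toLinearMap (algebraMap A B a * x) = a • φ.toLinearMap x
          rw [← Algebra.smul_def, map_smul] }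
    let e' : Disc.Omega A' B' ≃ₗ[A'] Module.Dual A' B' :=
      { toFun := Disc.Omega.toLinearMap
        invFun := Disc.Omega.mk
        left_inv := fun _ => rfl
        right_inv := fun _ => rfl
        map_add' := fun _ _ => rfl
        map_smul' := fun a φ => by
          apply LinearMap.ext
          intro x
          change φ.toLinearMap (algebraMap A' B' a * x) = a • φ.toLinearMap x
          rw [← Algebra.smul_def, map_smul] }
    have ht : IsBaseChange A' hB.out.toDual := hB.out.dual
    have h1 := ((IsBaseChange.ofEquiv e).comp ht).comp (IsBaseChange.ofEquiv e'.symm)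
    have h2 : f.restrictScalars A =
        ((e'.symm.toLinearMap.restrictScalars A).comp
          ((hB.out.toDual.restrictScalars A).comp e.toLinearMap)) := by
      apply LinearMap.ext
      intro x
      rfl
    rw [h2]
    exact h1
  haveI : Module.Finite B (Disc.Omega A B) := by
    letI : Module A (Disc.Omega A B) := Module.compHom _ (algebraMap A B)
    haveI : IsScalarTower A B (Disc.Omega A B) := IsScalarTower.of_algebraMap_smul (fun _ _ => rfl)
    let e : Disc.Omega A B ≃ₗ[A] Module.Dual A B :=
      { toFun := Disc.Omega.toLinearMap
        invFun := Disc.Omega.mk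
        left_inv := fun _ => rfl
        right_inv := fun _ => rfl
        map_add' := fun _ _ => rfl
        map_smul' := fun a φ => by
          apply LinearMap.ext
          intro x
          change φ.toLinearMap (algebraMap A B a * x) = a • φ.toLinearMap x
          rw [← Algebra.smul_def, map_smul] }
    haveI : Module.Finite A (Disc.Omega A B) := Module.Finite.equiv e.symm
    exact Module.Finite.of_restrictScalars_finite A B _
  refine ⟨?_, ?_, ?_, ?_⟩
  · rw [← hfτ]
    exact map_different_le f hf _
  · rw [← hfτ]
    exact (radical_different_eq f hf _).symm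
  · intro hflat
    haveI : Module.Flat B B' :=
      Module.Flat.isBaseChange (R := A) (M := A') (S := B) B' hB.symm.out
    rw [← hfτ]
    exact (different_eq_of_flat f hf _).symm
  · intro hinv
    rw [← hfτ]
    exact (different_eq_of_invertible f hf _).symm

end Omega

end Groth.Agent.Helper7.DiffBC
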