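import Mathlib
import Groth.Prelude.Def_CAlg
import Groth.Agent.Helper2.Depth

/-!
# Noetherian local rings of dimension one: elements avoiding the minimal primes
-/

set_option autoImplicit false
set_option linter.style.haveILetI false
set_option linter.unusedSectionVars false
universe u

namespace Groth.Agent.Helper7.Dim1

open IsLocalRing

variable {A : Type u} [CommRing A] [IsLocalRing A] [IsNoetherianRing A]

lemma height_maximalIdeal (hdim : ringKrullDim A = 1) : (maximalIdeal A).height = 1 := by
  have := IsLocalRing.maximalIdeal_height_eq_ringKrullDim (R := A)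
  rw [hdim] at this
  exact_mod_cast this

lemma maximalIdeal_notMem_minimalPrimes (hdim : ringKrullDim A = 1) :
    maximalIdeal A ∉ minimalPrimes A := by
  intro h
  rw [← Ideal.height_eq_zero_iff, height_maximalIdeal hdim] at h
  exact one_ne_zero h

/-- in dimension one every prime is minimal or maximal -/
lemma mem_minimalPrimes_or_eq (hdim : ringKrullDim A = 1) (p : Ideal A) [p.IsPrime] :
    p ∈ minimalPrimes A ∨ p = maximalIdeal A := by
  by_cases hp : p = maximalIdeal A
  · exact Or.inr hp
  · left
    have hlt : p < maximalIdeal A := lt_of_le_of_ne (le_maximalIdeal (Ideal.IsPrime.ne_top ‹_›)) hp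
    have h1 := Ideal.height_strict_mono_of_isPrime_of_isPrime hlt
    rw [height_maximalIdeal hdim] at h1
    rw [← Ideal.height_eq_zero_iff]
    exact Order.lt_one_iff.mp h1

/-- (a): some element of the maximal ideal avoids all minimal primes -/
theorem exists_avoiding (hdim : ringKrullDim A = 1) :
    ∃ f ∈ maximalIdeal A, ∀ p ∈ minimalPrimes A, f ∉ p := by
  classical
  have hfin : (minimalPrimes A).Finite := minimalPrimes.finite_of_isNoetherianRing A
  by_contra hcon
  push Not at hcon
  have hsub : ((maximalIdeal A : Ideal A) : Set A) ⊆ ⋃ p ∈ (hfin.toFinset : Set (Ideal A)), (p : Set A) := by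
    intro f hf
    obtain ⟨p, hp, hfp⟩ := hcon f hf
    simp only [Set.mem_iUnion]
    exact ⟨p, by simpa using hp, hfp⟩
  rcases hfin.toFinset.eq_empty_or_nonempty with hemp | ⟨a, ha⟩
  · rw [hemp] at hsub
    simp only [Finset.coe_empty, Set.mem_empty_iff_false, Set.iUnion_of_empty,
      Set.iUnion_empty, Set.subset_empty_iff] at hsub
    have : (0 : A) ∈ ((maximalIdeal A : Ideal A) : Set A) := zero_mem _
    rw [hsub] at this
    exact this
  · rw [Ideal.subset_union_prime (f := fun p : Ideal A => p) a a (fun i hi _ _ => by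
      have : i ∈ minimalPrimes A := by simpa using hi
      exact this.1.1)] at hsub
    obtain ⟨p, hp, hle⟩ := hsub
    have hp' : p ∈ minimalPrimes A := by simpa using hp
    have hpp : p.IsPrime := hp'.1.1
    have : p = maximalIdeal A := le_antisymm (le_maximalIdeal hpp.ne_top) hle
    exact maximalIdeal_notMem_minimalPrimes hdim (this ▸ hp')

/-- (b): `m = √(f)` iff `f` avoids all minimal primes -/
theorem radical_iff (hdim : ringKrullDim A = 1) (f : A) (hf : f ∈ maximalIdeal A) :
    (maximalIdeal A = (Ideal.span {f}).radical) ↔ (∀ p ∈ minimalPrimes A, f ∉ p) := by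
  constructor
  · intro h p hp hfp
    have hpp : p.IsPrime := hp.1.1
    have hle : (Ideal.span {f}).radical ≤ p :=
      hpp.radical_le_iff.mpr ((Ideal.span_singleton_le_iff_mem _).mpr hfp)
    rw [← h] at hle
    have : p = maximalIdeal A := le_antisymm (le_maximalIdeal hpp.ne_top) hle
    exact maximalIdeal_notMem_minimalPrimes hdim (this ▸ hp)
  · intro h
    apply le_antisymm
    · rw [Ideal.radical_eq_sInf]
      apply le_sInf
      rintro J ⟨hJ, hJp⟩
      rcases mem_minimalPrimes_or_eq hdim J with hmin | heq
      · exact absurd ((Ideal.span_singleton_le_iff_mem _).mp hJ) (h J hmin)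
      · exact heq.ge
    · exact (IsLocalRing.maximalIdeal.isMaximal A).isPrime.radical_le_iff.mpr
        ((Ideal.span_singleton_le_iff_mem _).mpr hf)

/-- nonzerodivisors avoid the minimal primes -/
lemma notMem_of_mem_nonZeroDivisors {f : A} (hf : f ∈ nonZeroDivisors A) :
    ∀ p ∈ minimalPrimes A, f ∉ p := by
  intro p hp hfp
  exact Set.disjoint_left.mp (Ideal.disjoint_nonZeroDivisors_of_mem_minimalPrimes hp) hfp hf

/-- under depth one or reducedness, the maximal ideal is not associated -/
lemma maximalIdeal_notMem_ass (hdim : ringKrullDim A = 1)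
    (h : LocCoh.depth A A = 1 ∨ IsReduced A) : maximalIdeal A ∉ associatedPrimes A A := by
  intro hass
  rcases h with h | h
  · have h0 : LocCoh.depth A A = 0 := by
      rw [Groth.Agent.Helper2.Depth.depth_eq_zero_iff]
      intro a ha
      exact Groth.Agent.Helper2.Depth.not_regular_of_mem_ass A A (maximalIdeal A) hass a ha
    rw [h0] at h
    exact zero_ne_one h
  · rw [AssociatedPrimes.mem_iff, isAssociatedPrime_iff] at hass
    obtain ⟨-, x, hx⟩ := hass
    have hmem : ∀ a, a ∈ maximalIdeal A ↔ a * x = 0 := by
      intro a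
      rw [hx, Submodule.mem_colon_singleton, Submodule.mem_bot, smul_eq_mul]
    by_cases hxm : x ∈ maximalIdeal A
    · have hxx : x * x = 0 := (hmem x).1 hxm
      have hx0 : x = 0 := by
        have : IsNilpotent x := ⟨2, by rw [pow_two]; exact hxx⟩
        exact this.eq_zero
      have h1 : (1 : A) ∈ maximalIdeal A := (hmem 1).2 (by rw [hx0, mul_zero])
      exact (Ideal.ne_top_iff_one _).mp (IsLocalRing.maximalIdeal.isMaximal A).ne_top h1
    · have hu : IsUnit x := by
        by_contra hnu
        exact hxm hnu
      have hbot : maximalIdeal A = ⊥ := by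
        rw [eq_bot_iff]
        intro a ha
        have := (hmem a).1 ha
        exact (hu.mul_left_eq_zero).mp this
      have := height_maximalIdeal hdim
      rw [hbot] at this
      have h0 : (⊥ : Ideal A).height = 0 := by
        haveI : (⊥ : Ideal A).IsPrime := hbot ▸ (IsLocalRing.maximalIdeal.isMaximal A).isPrime
        rw [Ideal.height_eq_zero_iff]
        exact ⟨⟨inferInstance, bot_le⟩, fun _ _ _ => bot_le⟩
      rw [h0] at this
      exact zero_ne_one this

/-- (d1): under depth one or reducedness, avoiding minimal primes iff nonzerodivisor -/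
theorem nzd_iff (hdim : ringKrullDim A = 1) (h : LocCoh.depth A A = 1 ∨ IsReduced A) (f : A) :
    (∀ p ∈ minimalPrimes A, f ∉ p) ↔ f ∈ nonZeroDivisors A := by
  refine ⟨fun hf => ?_, notMem_of_mem_nonZeroDivisors⟩
  by_contra hnz
  have hmem : f ∈ (↑(nonZeroDivisors A) : Set A)ᶜ := hnz
  rw [← biUnion_associatedPrimes_eq_compl_nonZeroDivisors] at hmem
  simp only [Set.mem_iUnion] at hmem
  obtain ⟨p, hp, hfp⟩ := hmem
  haveI : p.IsPrime := (AssociatedPrimes.mem_iff.mp hp).isPrime
  rcases mem_minimalPrimes_or_eq hdim p with hmin | heq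
  · exact hf p hmin hfp
  · exact maximalIdeal_notMem_ass hdim h (heq ▸ hp)

end Groth.Agent.Helper7.Dim1
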