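import Mathlib
import Groth.Prelude.Def_CAlg
import Groth.Agent.Helper7.Dim1A

/-!
# Noetherian local rings of dimension one: the localization `A_f`
-/

set_option autoImplicit false
set_option linter.style.haveILetI false
set_option linter.unusedSectionVars false
universe u

namespace Groth.Agent.Helper7.Dim1

open IsLocalRing

variable {A : Type u} [CommRing A] [IsLocalRing A] [IsNoetherianRing A]

section Away

variable (hdim : ringKrullDim A = 1) (f : A) (hfm : f ∈ maximalIdeal A)
  (hf : ∀ p ∈ minimalPrimes A, f ∉ p)

include hdim hfm

/-- primes of `A_f` contract to minimal primes -/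
lemma comap_mem_minimalPrimes (P : Ideal (Localization.Away f)) [P.IsPrime] :
    P.comap (algebraMap A (Localization.Away f)) ∈ minimalPrimes A := by
  haveI : (P.comap (algebraMap A (Localization.Away f))).IsPrime := Ideal.comap_isPrime _ _
  rcases mem_minimalPrimes_or_eq hdim (P.comap (algebraMap A (Localization.Away f))) with h | h
  · exact h
  · exfalso
    have : f ∈ P.comap (algebraMap A (Localization.Away f)) := h ▸ hfm
    rw [Ideal.mem_comap] at this
    exact (Ideal.IsPrime.ne_top ‹P.IsPrime›) (Ideal.eq_top_of_isUnit_mem _ this
      (IsLocalization.Away.algebraMap_isUnit f))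

lemma krullDimLE_zero_away : Ring.KrullDimLE 0 (Localization.Away f) := by
  apply Ring.KrullDimLE.mk₀
  intro I hI
  obtain ⟨M, hM, hIM⟩ := Ideal.exists_le_maximal I hI.ne_top
  haveI := hM.isPrime
  have h1 := comap_mem_minimalPrimes hdim f hfm I
  have h2 := comap_mem_minimalPrimes hdim f hfm M
  have hle : I.comap (algebraMap A (Localization.Away f)) ≤
      M.comap (algebraMap A (Localization.Away f)) := Ideal.comap_mono hIM
  have hge := h2.2 ⟨h1.1.1, bot_le⟩ hle
  have heq : I.comap (algebraMap A (Localization.Away f)) =
      M.comap (algebraMap A (Localization.Away f)) := le_antisymm hle hge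
  have : I = M := by
    rw [← IsLocalization.map_under (Submonoid.powers f) (Localization.Away f) I,
      ← IsLocalization.map_under (Submonoid.powers f) (Localization.Away f) M, Ideal.under_def,
      Ideal.under_def, heq]
  rw [this]
  exact hM

lemma isArtinianRing_away : IsArtinianRing (Localization.Away f) := by
  rw [isArtinianRing_iff_isNoetherianRing_krullDimLE_zero]
  exact ⟨inferInstance, krullDimLE_zero_away hdim f hfm⟩

/-- the minimal primes of `A` as an index type -/
abbrev MinIdx (A : Type u) [CommRing A] : Type u :=
  {p : PrimeSpectrum A // p.asIdeal ∈ minimalPrimes A}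

include hf in
/-- primes of `A_f` correspond to minimal primes of `A` -/
noncomputable def sigma : PrimeSpectrum (Localization.Away f) ≃ MinIdx A :=
  Equiv.ofBijective
    (fun P => ⟨PrimeSpectrum.comap (algebraMap A (Localization.Away f)) P,
      comap_mem_minimalPrimes hdim f hfm P.asIdeal⟩)
    (by
      constructor
      · intro P P' h
        have h' : P.asIdeal.comap (algebraMap A (Localization.Away f)) =
            P'.asIdeal.comap (algebraMap A (Localization.Away f)) :=
          congrArg (fun x : MinIdx A => x.1.asIdeal) h
        apply PrimeSpectrum.ext
        rw [← IsLocalization.map_under (Submonoid.powers f) (Localization.Away f) P.asIdeal,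
          ← IsLocalization.map_under (Submonoid.powers f) (Localization.Away f) P'.asIdeal,
          Ideal.under_def, Ideal.under_def, h']
      · rintro ⟨p, hp⟩
        have hdisj : Disjoint (Submonoid.powers f : Set A) (p.asIdeal : Set A) := by
          rw [Set.disjoint_left]
          rintro x ⟨n, rfl⟩ hx
          exact hf _ hp (p.2.mem_of_pow_mem n hx)
        have hprime := IsLocalization.isPrime_of_isPrime_disjoint (Submonoid.powers f)
          (Localization.Away f) p.asIdeal p.2 hdisj
        refine ⟨⟨p.asIdeal.map (algebraMap A (Localization.Away f)), hprime⟩, ?_⟩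
        apply Subtype.ext
        apply PrimeSpectrum.ext
        exact IsLocalization.under_map_of_isPrime_disjoint (Submonoid.powers f)
          (Localization.Away f) p.2 hdisj)

include hf in
lemma sigma_apply (P : PrimeSpectrum (Localization.Away f)) :
    (sigma hdim f hfm hf P).1.asIdeal = P.asIdeal.comap (algebraMap A (Localization.Away f)) :=
  rfl

include hf in
/-- (c, forward): `A_f` is the product of the localizations at the minimal primes -/
theorem nonempty_algEquiv :
    Nonempty (Localization.Away f ≃ₐ[A] (∀ p : MinIdx A, Localization.AtPrime p.1.asIdeal)) := by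
  haveI := isArtinianRing_away hdim f hfm
  let e1 : Localization.Away f ≃ₐ[Localization.Away f]
      PrimeSpectrum.PiLocalization (Localization.Away f) :=
    AlgEquiv.ofBijective (PrimeSpectrum.toPiLocalization (Localization.Away f))
      PrimeSpectrum.toPiLocalization_bijective
  let e1' : Localization.Away f ≃ₐ[A] PrimeSpectrum.PiLocalization (Localization.Away f) :=
    e1.restrictScalars A
  let e2 : PrimeSpectrum.PiLocalization (Localization.Away f) ≃ₐ[A]
      (∀ P : PrimeSpectrum (Localization.Away f),
        Localization.AtPrime (sigma hdim f hfm hf P).1.asIdeal) :=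
    AlgEquiv.piCongrRight (fun P => by
      haveI : IsLocalization.AtPrime (Localization.AtPrime P.asIdeal)
          (P.asIdeal.comap (algebraMap A (Localization.Away f))) :=
        IsLocalization.isLocalization_isLocalization_atPrime_isLocalization (Submonoid.powers f)
          (Localization.AtPrime P.asIdeal) P.asIdeal
      exact IsLocalization.algEquiv
        (P.asIdeal.comap (algebraMap A (Localization.Away f))).primeCompl
        (Localization.AtPrime P.asIdeal)
        (Localization.AtPrime (P.asIdeal.comap (algebraMap A (Localization.Away f)))))
  let e3 := AlgEquiv.piCongrLeft A (fun p : MinIdx A => Localization.AtPrime p.1.asIdeal)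
    (sigma hdim f hfm hf)
  exact ⟨(e1'.trans e2).trans e3⟩

end Away

end Groth.Agent.Helper7.Dim1
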