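import Mathlib
import Groth.Prelude.Def_CAlg
import Groth.Agent.Helper7.Dim1B

/-!
# Noetherian local rings of dimension one: the remaining equivalences
-/

set_option autoImplicit false
set_option linter.style.haveILetI false
set_option linter.unusedSectionVars false
universe u

namespace Groth.Agent.Helper7.Dim1

open IsLocalRing

variable {A : Type u} [CommRing A] [IsLocalRing A] [IsNoetherianRing A]

omit [IsLocalRing A] [IsNoetherianRing A] in
/-- an element of a minimal prime is nilpotent in the localization -/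
lemma isNilpotent_algebraMap_of_mem_minimalPrimes (p : Ideal A) [p.IsPrime]
    (hp : p ∈ minimalPrimes A) (f : A) (hf : f ∈ p) :
    IsNilpotent (algebraMap A (Localization.AtPrime p) f) := by
  have hdim : ringKrullDim (Localization.AtPrime p) = 0 := by
    rw [IsLocalization.AtPrime.ringKrullDim_eq_height p, Ideal.height_eq_zero_iff.mpr hp]
    rfl
  haveI : Ring.KrullDimLE 0 (Localization.AtPrime p) :=
    (Ring.krullDimLE_iff).mpr hdim.le
  have : algebraMap A (Localization.AtPrime p) f ∈ nilradical (Localization.AtPrime p) := by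
    rw [Ring.KrullDimLE.nilradical_eq_maximalIdeal]
    exact (IsLocalization.AtPrime.to_map_mem_maximal_iff (Localization.AtPrime p) p f).mpr hf
  exact this

omit [IsLocalRing A] [IsNoetherianRing A] in
lemma not_isUnit_of_isNilpotent {R : Type*} [CommRing R] [Nontrivial R] {x : R}
    (h : IsNilpotent x) : ¬ IsUnit x := by
  intro hu
  obtain ⟨n, hn⟩ := h
  have := hu.pow n
  rw [hn] at this
  exact not_isUnit_zero this

/-- (c, backward) -/
theorem notMem_of_algEquiv (f : A)
    (e : Localization.Away f ≃ₐ[A] (∀ p : MinIdx A, Localization.AtPrime p.1.asIdeal)) :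
    ∀ p ∈ minimalPrimes A, f ∉ p := by
  intro p hp hfp
  haveI hpp : p.IsPrime := hp.1.1
  let i : MinIdx A := ⟨⟨p, hpp⟩, hp⟩
  have hu : IsUnit (algebraMap A (Localization.Away f) f) :=
    IsLocalization.Away.algebraMap_isUnit f
  have hu2 : IsUnit (e (algebraMap A (Localization.Away f) f)) := hu.map e
  rw [AlgEquiv.commutes] at hu2
  have hu3 : IsUnit ((Pi.evalRingHom (fun p : MinIdx A => Localization.AtPrime p.1.asIdeal) i)
      (algebraMap A (∀ p : MinIdx A, Localization.AtPrime p.1.asIdeal) f)) := hu2.map _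
  have hu4 : IsUnit (algebraMap A (Localization.AtPrime p) f) := hu3
  exact not_isUnit_of_isNilpotent (isNilpotent_algebraMap_of_mem_minimalPrimes p hp f hfp) hu4

/-- (e, backward) -/
theorem notMem_of_algEquiv_residueField (f : A)
    (e : Localization.Away f ≃ₐ[A] (∀ p : MinIdx A, p.1.asIdeal.ResidueField)) :
    ∀ p ∈ minimalPrimes A, f ∉ p := by
  intro p hp hfp
  haveI hpp : p.IsPrime := hp.1.1
  let i : MinIdx A := ⟨⟨p, hpp⟩, hp⟩
  have hu : IsUnit (algebraMap A (Localization.Away f) f) :=
    IsLocalization.Away.algebraMap_isUnit f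
  have hu2 : IsUnit (e (algebraMap A (Localization.Away f) f)) := hu.map e
  rw [AlgEquiv.commutes] at hu2
  have hu3 : IsUnit ((Pi.evalRingHom (fun p : MinIdx A => p.1.asIdeal.ResidueField) i)
      (algebraMap A (∀ p : MinIdx A, p.1.asIdeal.ResidueField) f)) := hu2.map _
  have hu4 : IsUnit (algebraMap A p.ResidueField f) := hu3
  rw [Ideal.algebraMap_residueField_eq_zero.mpr hfp] at hu4
  exact not_isUnit_zero hu4

omit [IsLocalRing A] [IsNoetherianRing A] in
/-- for a minimal prime of a reduced ring, the localization is the residue field -/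
noncomputable def locEquivResidueField [IsReduced A] (p : Ideal A) [p.IsPrime]
    (hp : p ∈ minimalPrimes A) : Localization.AtPrime p ≃ₐ[A] p.ResidueField := by
  have hdim : ringKrullDim (Localization.AtPrime p) = 0 := by
    rw [IsLocalization.AtPrime.ringKrullDim_eq_height p, Ideal.height_eq_zero_iff.mpr hp]
    rfl
  haveI : Ring.KrullDimLE 0 (Localization.AtPrime p) :=
    (Ring.krullDimLE_iff).mpr hdim.le
  haveI : IsReduced (Localization.AtPrime p) := inferInstance
  have hbot : maximalIdeal (Localization.AtPrime p) = ⊥ := by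
    rw [← Ring.KrullDimLE.nilradical_eq_maximalIdeal, nilradical_eq_zero]
    rfl
  refine AlgEquiv.ofBijective
    (IsScalarTower.toAlgHom A (Localization.AtPrime p) p.ResidueField) ⟨?_, ?_⟩
  · rw [injective_iff_map_eq_zero]
    intro x hx
    have hx' : IsLocalRing.residue (Localization.AtPrime p) x = 0 := hx
    rw [IsLocalRing.residue_eq_zero_iff, hbot] at hx'
    exact hx'
  · exact IsLocalRing.residue_surjective

/-- (e, forward) -/
theorem nonempty_algEquiv_residueField [IsReduced A] (hdim : ringKrullDim A = 1) (f : A)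
    (hfm : f ∈ maximalIdeal A) (hf : ∀ p ∈ minimalPrimes A, f ∉ p) :
    Nonempty (Localization.Away f ≃ₐ[A] (∀ p : MinIdx A, p.1.asIdeal.ResidueField)) := by
  obtain ⟨e⟩ := nonempty_algEquiv hdim f hfm hf
  exact ⟨e.trans (AlgEquiv.piCongrRight fun p => locEquivResidueField p.1.asIdeal p.2)⟩

/-- (d2) -/
theorem isLocalization_iff (hdim : ringKrullDim A = 1)
    (h : LocCoh.depth A A = 1 ∨ IsReduced A) (f : A) (hfm : f ∈ maximalIdeal A) :
    (∀ p ∈ minimalPrimes A, f ∉ p) ↔
      IsLocalization (nonZeroDivisors A) (Localization.Away f) := by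
  constructor
  · intro hf
    have hfnz : f ∈ nonZeroDivisors A := (nzd_iff hdim h f).mp hf
    have hpow : ∀ n : ℕ, f ^ n ∈ nonZeroDivisors A := fun n => pow_mem hfnz n
    refine ⟨?_, ?_, ?_⟩
    · rintro ⟨s, hs⟩
      show IsUnit (algebraMap A (Localization.Away f) s)
      by_contra hnu
      obtain ⟨M, hM, hsM⟩ := exists_max_ideal_of_mem_nonunits hnu
      haveI := hM.isPrime
      have hmin := comap_mem_minimalPrimes hdim f hfm M
      exact notMem_of_mem_nonZeroDivisors hs _ hmin hsM
    · intro z
      obtain ⟨⟨a, ⟨s, hs⟩⟩, hz⟩ := IsLocalization.surj (Submonoid.powers f) z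
      obtain ⟨n, rfl⟩ := hs
      exact ⟨⟨a, ⟨f ^ n, hpow n⟩⟩, hz⟩
    · intro a b hab
      obtain ⟨⟨c, hc⟩, hcab⟩ := (IsLocalization.eq_iff_exists (Submonoid.powers f)
        (Localization.Away f)).mp hab
      obtain ⟨n, rfl⟩ := hc
      exact ⟨⟨f ^ n, hpow n⟩, hcab⟩
  · intro hloc
    apply notMem_of_mem_nonZeroDivisors
    have hinj : Function.Injective (algebraMap A (Localization.Away f)) :=
      IsLocalization.injective (Localization.Away f) (le_refl (nonZeroDivisors A))
    rw [mem_nonZeroDivisors_iff_right]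
    intro a ha
    apply hinj
    rw [map_zero]
    have h1 : algebraMap A (Localization.Away f) a * algebraMap A (Localization.Away f) f = 0 := by
      rw [← map_mul, ha, map_zero]
    exact ((IsLocalization.Away.algebraMap_isUnit f).mul_left_eq_zero).mp h1

end Groth.Agent.Helper7.Dim1
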