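import Mathlib

namespace Groth.Agent.Helper7.DiscAnti

open Polynomial

/-- antiderivative of `X^n` for the backward difference operator -/
noncomputable def T (n : ℕ) : ℚ[X] := C (1 / ((n : ℚ) + 1)) * Polynomial.bernoulli (n + 1) + X ^ n

theorem T_eval (n : ℕ) (x : ℚ) : (T n).eval x - (T n).eval (x - 1) = x ^ n := by
  have h := Polynomial.bernoulli_eval_one_add (n + 1) (x - 1)
  have hne : ((n : ℚ) + 1) ≠ 0 := by positivity
  simp only [T, eval_add, eval_mul, eval_C, eval_pow, eval_X]
  rw [show (1 : ℚ) + (x - 1) = x by ring] at h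
  rw [h]
  simp only [Nat.add_sub_cancel, Nat.cast_add, Nat.cast_one]
  field_simp
  ring

theorem T_coeff_top (n : ℕ) : (T n).coeff (n + 1) = 1 / ((n : ℚ) + 1) := by
  simp only [T, coeff_add, coeff_C_mul, Polynomial.coeff_bernoulli, coeff_X_pow]
  simp

theorem T_coeff_gt (n i : ℕ) (hi : n + 1 < i) : (T n).coeff i = 0 := by
  simp only [T, coeff_add, coeff_C_mul, Polynomial.coeff_bernoulli, coeff_X_pow]
  rw [if_neg (by omega), if_neg (by omega)]
  simp

theorem result (φ : ℤ → ℚ) (d : ℕ) (Q : ℚ[X]) (hQ : Q ≠ 0)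
    (hd : Q.natDegree = d) (h : ∀ m : ℤ, φ m - φ (m - 1) = Q.eval (m : ℚ)) :
    ∃ P : ℚ[X], P.natDegree = d + 1 ∧ ∀ m : ℤ, φ m = P.eval (m : ℚ) := by
  set P0 : ℚ[X] := ∑ n ∈ Finset.range (d + 1), C (Q.coeff n) * T n with hP0
  set P : ℚ[X] := P0 + C (φ 0 - P0.eval 0) with hP
  have hdiff : ∀ x : ℚ, P.eval x - P.eval (x - 1) = Q.eval x := by
    intro x
    have : P.eval x - P.eval (x - 1) = ∑ n ∈ Finset.range (d + 1),
        Q.coeff n * ((T n).eval x - (T n).eval (x - 1)) := by
      simp only [hP, hP0, eval_add, eval_finset_sum, eval_mul, eval_C, mul_sub,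
        Finset.sum_sub_distrib]
      ring
    rw [this, Polynomial.eval_eq_sum_range, hd]
    exact Finset.sum_congr rfl fun n _ => by rw [T_eval]
  have hcoeff_gt : ∀ i, d + 1 < i → P.coeff i = 0 := by
    intro i hi
    simp only [hP, hP0, coeff_add, finset_sum_coeff, coeff_C_mul]
    rw [Finset.sum_eq_zero, coeff_C, if_neg (by omega), add_zero]
    intro n hn
    rw [T_coeff_gt n i (by have := Finset.mem_range.mp hn; omega), mul_zero]
  have hcoeff_top : P.coeff (d + 1) = Q.coeff d * (1 / ((d : ℚ) + 1)) := by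
    simp only [hP, hP0, coeff_add, finset_sum_coeff, coeff_C_mul]
    rw [Finset.sum_eq_single d, T_coeff_top, coeff_C, if_neg (by omega), add_zero]
    · intro n hn hnd
      have := Finset.mem_range.mp hn
      rw [T_coeff_gt n (d + 1) (by omega), mul_zero]
    · intro hh
      simp at hh
  refine ⟨P, ?_, ?_⟩
  · apply le_antisymm
    · rw [natDegree_le_iff_coeff_eq_zero]
      intro i hi
      exact hcoeff_gt i hi
    · apply le_natDegree_of_ne_zero
      rw [hcoeff_top]
      have hlc : Q.coeff d ≠ 0 := by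
        rw [← hd]
        exact leadingCoeff_ne_zero.mpr hQ
      have : ((d : ℚ) + 1) ≠ 0 := by positivity
      positivity
  · intro m
    induction m using Int.induction_on with
    | zero => simp [hP]
    | succ i ih =>
      have h1 := h (i + 1)
      have h2 := hdiff ((i : ℚ) + 1)
      simp only [add_sub_cancel_right] at h1 h2
      push_cast at h1 ih ⊢
      linarith
    | pred i ih =>
      have h1 := h (-i)
      have h2 := hdiff (-(i : ℚ))
      push_cast at h1 ih ⊢
      linarith

end Groth.Agent.Helper7.DiscAnti
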