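import Mathlib
import Groth.Prelude.Def_W4c1extbt610Disp

/-!
# Universal property of the exterior power of a 3n-display (S13685)
-/

open W4c1extbt610

namespace Groth.Agent.Helper7.DispExt

universe u v w

variable {p : ℕ} [Fact p.Prime] {R : Type u} [CommRing R]
variable {P : Type v} [AddCommGroup P] [Module (WittVector p R) P]
variable {P' : Type w} [AddCommGroup P'] [Module (WittVector p R) P']

theorem V_smul_mem (D : Display3n p R P) (w : WittVector p R) (x : P) :
    WittVector.verschiebung w • x ∈ D.Q :=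
  D.IV_smul_le (Submodule.smul_mem_smul (verschiebung_mem_IV p R w) Submodule.mem_top)

/-- in a 3n-display `F x = V⁻¹ (V 1 • x)` -/
theorem F_eq (D : Display3n p R P) (x : P) :
    D.F x = D.Vinv ⟨WittVector.verschiebung (1 : WittVector p R) • x, V_smul_mem D 1 x⟩ := by
  have := D.Vinv_verschiebung_smul 1 x
  rw [one_smul] at this
  exact this.symm

theorem Vinv_congr (D : Display3n p R P) {x y : P} (hx : x ∈ D.Q) (hxy : x = y) :
    D.Vinv ⟨x, hx⟩ = D.Vinv ⟨y, hxy ▸ hx⟩ := by
  subst hxy; rfl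

theorem Vinv_zero' (D : Display3n p R P) (h : (0 : P) ∈ D.Q) : D.Vinv ⟨0, h⟩ = 0 :=
  map_zero D.Vinv

theorem Vinv_add' (D : Display3n p R P) {a b : P} (ha : a ∈ D.Q) (hb : b ∈ D.Q)
    (hab : a + b ∈ D.Q) : D.Vinv ⟨a + b, hab⟩ = D.Vinv ⟨a, ha⟩ + D.Vinv ⟨b, hb⟩ :=
  map_add D.Vinv ⟨a, ha⟩ ⟨b, hb⟩

theorem Vinv_smul' (D : Display3n p R P) (c : WittVector p R) {a : P} (ha : a ∈ D.Q)
    (hca : c • a ∈ D.Q) : D.Vinv ⟨c • a, hca⟩ = WittVector.frobenius c • D.Vinv ⟨a, ha⟩ :=
  D.Vinv.map_smulₛₗ c ⟨a, ha⟩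

variable {r : ℕ}

theorem isAltMult_ιMulti (D : Display3n p R P) (E : Display3n p R (⋀[WittVector p R]^r P))
    (hE : IsExtPow D r E) :
    IsAltMult D E (exteriorPower.ιMulti (WittVector p R) r) := by
  classical
  have hmem : ∀ q : Fin r → D.Q,
      exteriorPower.ιMulti (WittVector p R) r (fun i => (q i : P)) ∈ E.Q := by
    intro q
    rw [hE.1]
    exact Submodule.subset_span ⟨q, rfl⟩
  refine ⟨hmem, fun q => hE.2 q (hmem q), ?_⟩
  intro i x q
  -- the family with `V 1 • x` at the slot `i`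
  let q' : Fin r → D.Q := Function.update q i
    ⟨WittVector.verschiebung (1 : WittVector p R) • x, V_smul_mem D 1 x⟩
  have hq' : (fun j => ((q' j : D.Q) : P)) =
      Function.update (fun j => (q j : P)) i (WittVector.verschiebung (1 : WittVector p R) • x) := by
    funext j
    by_cases h : j = i
    · subst h; simp [q']
    · simp [q', Function.update_of_ne h]
  have hsm : WittVector.verschiebung (1 : WittVector p R) •
      exteriorPower.ιMulti (WittVector p R) r (Function.update (fun j => (q j : P)) i x) =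
      exteriorPower.ιMulti (WittVector p R) r (fun j => ((q' j : D.Q) : P)) := by
    rw [hq', AlternatingMap.map_update_smul]
  rw [F_eq E, Vinv_congr E _ hsm, hE.2 q' (hmem q')]
  congr 1
  funext j
  by_cases h : j = i
  · subst h
    simp only [q', Function.update_self]
    exact (F_eq D x).symm
  · simp only [q', Function.update_of_ne h]

theorem isHom_lift (D : Display3n p R P) (E : Display3n p R (⋀[WittVector p R]^r P))
    (hE : IsExtPow D r E) (D' : Display3n p R P') (φ : P [⋀^Fin r]→ₗ[WittVector p R] P')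
    (hφ : IsAltMult D D' φ) :
    IsHom E D' (exteriorPower.alternatingMapLinearEquiv φ) := by
  set ψ := exteriorPower.alternatingMapLinearEquiv φ with hψ
  have hψι : ∀ v : Fin r → P, ψ (exteriorPower.ιMulti (WittVector p R) r v) = φ v :=
    fun v => exteriorPower.alternatingMapLinearEquiv_apply_ιMulti φ v
  have hmaps : ∀ y : ⋀[WittVector p R]^r P, y ∈ E.Q → ψ y ∈ D'.Q := by
    intro y hy
    rw [hE.1] at hy
    induction hy using Submodule.span_induction with
    | mem y hy =>
      obtain ⟨q, rfl⟩ := hy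
      rw [hψι]
      exact hφ.mapsTo q
    | zero => rw [map_zero]; exact zero_mem _
    | add a b _ _ ha hb => rw [map_add]; exact add_mem ha hb
    | smul c a _ ha => rw [map_smul]; exact Submodule.smul_mem _ _ ha
  have hV : ∀ (y : ⋀[WittVector p R]^r P) (hy : y ∈ E.Q),
      ψ (E.Vinv ⟨y, hy⟩) = D'.Vinv ⟨ψ y, hmaps y hy⟩ := by
    intro y hy
    have hy' := hy
    rw [hE.1] at hy'
    induction hy' using Submodule.span_induction with
    | mem y hy0 =>
      obtain ⟨q, rfl⟩ := hy0
      rw [hE.2 q hy, hψι]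
      have h1 : ψ (exteriorPower.ιMulti (WittVector p R) r (fun i => (q i : P))) =
        φ (fun i => (q i : P)) := hψι _
      rw [Vinv_congr D' _ h1]
      exact (hφ.vCond q).symm
    | zero =>
      have h1 : ψ (0 : ⋀[WittVector p R]^r P) = 0 := map_zero _
      rw [Vinv_congr D' (hmaps 0 hy) h1, Vinv_zero' D', Vinv_zero' E, map_zero]
    | add a b ha0 hb0 ha hb =>
      have haQ : a ∈ E.Q := by rw [hE.1]; exact ha0
      have hbQ : b ∈ E.Q := by rw [hE.1]; exact hb0
      have h1 : ψ (a + b) = ψ a + ψ b := map_add _ _ _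
      rw [Vinv_congr D' (hmaps (a + b) hy) h1, Vinv_add' D' (hmaps a haQ) (hmaps b hbQ),
        Vinv_add' E haQ hbQ, map_add, ha haQ, hb hbQ]
    | smul c a ha0 ha =>
      have haQ : a ∈ E.Q := by rw [hE.1]; exact ha0
      have h1 : ψ (c • a) = c • ψ a := map_smul _ _ _
      rw [Vinv_congr D' (hmaps (c • a) hy) h1, Vinv_smul' D' c (hmaps a haQ),
        Vinv_smul' E c haQ, map_smul, ha haQ]
  refine ⟨hmaps, ?_, fun q => hV q.1 q.2⟩
  intro x
  rw [F_eq E, hV, F_eq D']
  exact Vinv_congr D' _ (map_smul _ _ _)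

theorem main (D : Display3n p R P) (E : Display3n p R (⋀[WittVector p R]^r P))
    (hE : IsExtPow D r E) :
    IsAltMult D E (exteriorPower.ιMulti (WittVector p R) r) ∧
      ∀ (P' : Type w) [AddCommGroup P'] [Module (WittVector p R) P'] (D' : Display3n p R P')
        (φ : P [⋀^Fin r]→ₗ[WittVector p R] P'), IsAltMult D D' φ →
        ∃! ψ : ⋀[WittVector p R]^r P →ₗ[WittVector p R] P',
          IsHom E D' ψ ∧ ψ.compAlternatingMap (exteriorPower.ιMulti (WittVector p R) r) = φ := by
  refine ⟨isAltMult_ιMulti D E hE, ?_⟩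
  intro P' _ _ D' φ hφ
  refine ⟨exteriorPower.alternatingMapLinearEquiv φ, ⟨isHom_lift D E hE D' φ hφ, ?_⟩, ?_⟩
  · exact exteriorPower.alternatingMapLinearEquiv_comp_ιMulti φ
  · rintro ψ ⟨_, hψ⟩
    rw [← hψ]
    exact (exteriorPower.alternatingMapLinearEquiv.apply_symm_apply ψ).symm ▸ rfl

end Groth.Agent.Helper7.DispExt
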