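import Mathlib

/-!
# Exterior power helpers for S13684: expansion of a wedge along one vector, semilinear exterior
power, projectivity of exterior powers.
-/

namespace Groth.Agent.Helper7.DispExt

open exteriorPower

section Expand

variable {A : Type*} [CommRing A] {M : Type*} [AddCommGroup M] [Module A M] {r : ℕ}

theorem ιMulti_add_smul_aux (t : M) (c : Fin r → A) (S : Finset (Fin r)) :
    ∀ l : Fin r → M, ιMulti A r (fun j => l j + (if j ∈ S then c j • t else 0)) =
      ιMulti A r l + ∑ i ∈ S, c i • ιMulti A r (Function.update l i t) := by
  classical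
  induction S using Finset.induction_on with
  | empty => intro l; simp
  | insert a S ha ih =>
    intro l
    have hx : (fun j => l j + (if j ∈ insert a S then c j • t else 0)) =
        Function.update (fun j => l j + (if j ∈ S then c j • t else 0)) a (l a + c a • t) := by
      funext j
      by_cases h : j = a
      · subst h; simp
      · simp [Finset.mem_insert, h]
    have hx0 : (fun j => l j + (if j ∈ S then c j • t else 0)) =
        Function.update (fun j => l j + (if j ∈ S then c j • t else 0)) a (l a) := by
      funext j
      by_cases h : j = a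
      · subst h; simp [ha]
      · simp [Function.update_of_ne h]
    have hxt : Function.update (fun j => l j + (if j ∈ S then c j • t else 0)) a t =
        (fun j => (Function.update l a t) j + (if j ∈ S then c j • t else 0)) := by
      funext j
      by_cases h : j = a
      · subst h; simp [ha]
      · simp [Function.update_of_ne h]
    have hz : ∀ i ∈ S, ιMulti A r (Function.update (Function.update l a t) i t) = 0 := by
      intro i hi
      have hia : i ≠ a := fun h => ha (h ▸ hi)
      apply AlternatingMap.map_eq_zero_of_eq _ _ (i := i) (j := a) _ hia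
      rw [Function.update_self, Function.update_of_ne hia.symm, Function.update_self]
    have e2 : ιMulti A r (fun j => (Function.update l a t) j + (if j ∈ S then c j • t else 0)) =
        ιMulti A r (Function.update l a t) := by
      rw [ih (Function.update l a t),
        Finset.sum_eq_zero (fun i hi => by rw [hz i hi, smul_zero]), add_zero]
    rw [hx, AlternatingMap.map_update_add, ← hx0, AlternatingMap.map_update_smul, hxt, e2, ih l,
      Finset.sum_insert ha]
    abel

/-- expansion of a wedge of vectors `l j + c j • t` -/
theorem ιMulti_add_smul (t : M) (c : Fin r → A) (l : Fin r → M) :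
    ιMulti A r (fun j => l j + c j • t) =
      ιMulti A r l + ∑ i, c i • ιMulti A r (Function.update l i t) := by
  have := ιMulti_add_smul_aux t c Finset.univ l
  simpa using this

end Expand

section Semilinear

variable {A : Type*} [CommRing A] (σ : A →+* A)

/-- the module `N` with scalars acting through `σ` -/
def Tw (_σ : A →+* A) (N : Type*) := N

instance (N : Type*) [AddCommGroup N] : AddCommGroup (Tw σ N) := inferInstanceAs (AddCommGroup N)

instance (N : Type*) [AddCommGroup N] [Module A N] : Module A (Tw σ N) := Module.compHom N σ

variable {σ} {M N : Type*} [AddCommGroup M] [Module A M] [AddCommGroup N] [Module A N]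

theorem comp_update {ι : Type*} [DecidableEq ι] (Φ : M → N) (v : ι → M) (i : ι) (z : M) :
    (fun j => Φ (Function.update v i z j)) = Function.update (fun j => Φ (v j)) i (Φ z) := by
  funext j
  by_cases h : j = i
  · subst h; simp
  · simp [Function.update_of_ne h]

/-- the alternating map `v ↦ Φ v₁ ∧ ⋯ ∧ Φ v_r` with values in the twisted module -/
noncomputable def altS (Φ : M →ₛₗ[σ] N) (r : ℕ) : M [⋀^Fin r]→ₗ[A] Tw σ (⋀[A]^r N) :=
  { toFun := fun v => (ιMulti A r (fun i => Φ (v i)) : ⋀[A]^r N)
    map_update_add' := by
      intro _ v i x y
      show (ιMulti A r (fun j => Φ (Function.update v i (x + y) j)) : ⋀[A]^r N) =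
        (ιMulti A r (fun j => Φ (Function.update v i x j)) +
          ιMulti A r (fun j => Φ (Function.update v i y j)) : ⋀[A]^r N)
      rw [comp_update Φ v i (x + y), comp_update Φ v i x, comp_update Φ v i y, map_add,
        AlternatingMap.map_update_add]
    map_update_smul' := by
      intro _ v i c x
      show (ιMulti A r (fun j => Φ (Function.update v i (c • x) j)) : ⋀[A]^r N) =
        (σ c • ιMulti A r (fun j => Φ (Function.update v i x j)) : ⋀[A]^r N)
      rw [comp_update Φ v i (c • x), comp_update Φ v i x, LinearMap.map_smulₛₗ,
        AlternatingMap.map_update_smul]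
    map_eq_zero_of_eq' := by
      intro v i j hv hij
      show (ιMulti A r (fun i => Φ (v i)) : ⋀[A]^r N) = (0 : ⋀[A]^r N)
      exact (ιMulti A r).map_eq_zero_of_eq (fun i => Φ (v i)) (by simp only [hv]) hij }

/-- the `σ`-semilinear exterior power of a `σ`-semilinear map -/
noncomputable def extS (Φ : M →ₛₗ[σ] N) (r : ℕ) : ⋀[A]^r M →ₛₗ[σ] ⋀[A]^r N :=
  { toFun := fun x => (alternatingMapLinearEquiv (altS Φ r) x : Tw σ (⋀[A]^r N))
    map_add' := fun x y => map_add (alternatingMapLinearEquiv (altS Φ r)) x y
    map_smul' := fun c x => map_smul (alternatingMapLinearEquiv (altS Φ r)) c x }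

theorem extS_ιMulti (Φ : M →ₛₗ[σ] N) (r : ℕ) (v : Fin r → M) :
    extS Φ r (ιMulti A r v) = ιMulti A r (fun i => Φ (v i)) :=
  alternatingMapLinearEquiv_apply_ιMulti (altS Φ r) v

end Semilinear

section Proj

variable {A : Type*} [CommRing A] {P : Type*} [AddCommGroup P] [Module A P]

theorem projective_extPow [Module.Finite A P] [Module.Projective A P] (r : ℕ) :
    Module.Projective A (⋀[A]^r P) := by
  obtain ⟨n, f, g, -, -, hfg⟩ := Module.Finite.exists_comp_eq_id_of_projective A P
  refine Module.Projective.of_split (exteriorPower.map r g) (exteriorPower.map r f) ?_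
  rw [← exteriorPower.map_comp, hfg, exteriorPower.map_id]

end Proj

end Groth.Agent.Helper7.DispExt
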