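import Mathlib
import Groth.Prelude.Def_W4c1extbt610Disp

/-!
# Witt vector helpers for S13684: the ideal `I = V(W)`, the inverse of `V` on `I`, and the
"division by `V`" of a Frobenius-semilinear map on `I • M` for `M` finite projective.
-/

open W4c1extbt610

namespace Groth.Agent.Helper7.DispExt

universe u

variable {p : ℕ} [Fact p.Prime] {R : Type u} [CommRing R]

theorem V_mul (w a : WittVector p R) :
    WittVector.verschiebung w * a = WittVector.verschiebung (w * WittVector.frobenius a) :=
  (WittVector.verschiebung_mul_frobenius w a).symm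

theorem mem_IV_iff (a : WittVector p R) :
    a ∈ IV p R ↔ ∃ w : WittVector p R, WittVector.verschiebung w = a := by
  constructor
  · intro ha
    unfold IV at ha
    induction ha using Submodule.span_induction with
    | mem x hx => exact hx
    | zero => exact ⟨0, map_zero _⟩
    | add x y _ _ hx hy =>
      obtain ⟨u, rfl⟩ := hx
      obtain ⟨v, rfl⟩ := hy
      exact ⟨u + v, map_add _ _ _⟩
    | smul c x _ hx =>
      obtain ⟨u, rfl⟩ := hx
      exact ⟨u * WittVector.frobenius c, by rw [smul_eq_mul, ← V_mul, mul_comm]⟩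
  · rintro ⟨w, rfl⟩
    exact verschiebung_mem_IV p R w

/-- a left inverse of the Verschiebung -/
noncomputable def Vi : WittVector p R → WittVector p R :=
  Function.invFun (WittVector.verschiebung : WittVector p R → WittVector p R)

theorem Vi_V (w : WittVector p R) : Vi (WittVector.verschiebung w) = w :=
  Function.leftInverse_invFun (WittVector.verschiebung_injective p R) w

theorem Vi_add {a b : WittVector p R} (ha : a ∈ IV p R) (hb : b ∈ IV p R) :
    Vi (a + b) = Vi a + Vi b := by
  obtain ⟨u, rfl⟩ := (mem_IV_iff a).1 ha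
  obtain ⟨v, rfl⟩ := (mem_IV_iff b).1 hb
  rw [← map_add, Vi_V, Vi_V, Vi_V]

theorem Vi_mul (c : WittVector p R) {b : WittVector p R} (hb : b ∈ IV p R) :
    Vi (c * b) = WittVector.frobenius c * Vi b := by
  obtain ⟨v, rfl⟩ := (mem_IV_iff b).1 hb
  rw [mul_comm, V_mul, Vi_V, Vi_V, mul_comm]

theorem frobenius_V (w : WittVector p R) :
    WittVector.frobenius (WittVector.verschiebung w) = (p : WittVector p R) * w := by
  rw [WittVector.frobenius_verschiebung, mul_comm]

section Theta

variable {M : Type*} [AddCommGroup M] [Module (WittVector p R) M]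
variable {N : Type*} [AddCommGroup N] [Module (WittVector p R) N]

theorem coord_mem {n : ℕ} (g : M →ₗ[WittVector p R] (Fin n → WittVector p R)) {y : M}
    (hy : y ∈ IV p R • (⊤ : Submodule (WittVector p R) M)) (k : Fin n) : g y k ∈ IV p R := by
  refine Submodule.smul_induction_on (p := fun y => g y k ∈ IV p R) hy ?_ ?_
  · intro a ha x _
    rw [map_smul, Pi.smul_apply, smul_eq_mul]
    exact Ideal.mul_mem_right _ _ ha
  · intro x y hx hy
    rw [map_add, Pi.add_apply]
    exact add_mem hx hy

/-- the semilinear map `V w • x ↦ w • Ψ x` on `I • M`, built from a splitting `f ∘ g = id` -/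
noncomputable def thetaL {n : ℕ} (f : (Fin n → WittVector p R) →ₗ[WittVector p R] M)
    (g : M →ₗ[WittVector p R] (Fin n → WittVector p R))
    (Ψ : M →ₛₗ[(WittVector.frobenius : WittVector p R →+* WittVector p R)] N) :
    ↥(IV p R • (⊤ : Submodule (WittVector p R) M)) →ₛₗ[(WittVector.frobenius :
      WittVector p R →+* WittVector p R)] N :=
  { toFun := fun y => ∑ k, Vi (g y.1 k) • Ψ (f (Pi.single k 1))
    map_add' := by
      intro x y
      rw [← Finset.sum_add_distrib]
      refine Finset.sum_congr rfl fun k _ => ?_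
      rw [Submodule.coe_add, map_add, Pi.add_apply, Vi_add (coord_mem g x.2 k) (coord_mem g y.2 k),
        add_smul]
    map_smul' := by
      intro c y
      rw [Finset.smul_sum]
      refine Finset.sum_congr rfl fun k _ => ?_
      rw [Submodule.coe_smul, map_smul, Pi.smul_apply, smul_eq_mul, Vi_mul c (coord_mem g y.2 k),
        mul_smul] }

theorem thetaL_V_smul {n : ℕ} (f : (Fin n → WittVector p R) →ₗ[WittVector p R] M)
    (g : M →ₗ[WittVector p R] (Fin n → WittVector p R)) (hfg : f ∘ₗ g = LinearMap.id)
    (Ψ : M →ₛₗ[(WittVector.frobenius : WittVector p R →+* WittVector p R)] N)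
    (w : WittVector p R) (x : M)
    (h : WittVector.verschiebung w • x ∈ IV p R • (⊤ : Submodule (WittVector p R) M)) :
    thetaL f g Ψ ⟨WittVector.verschiebung w • x, h⟩ = w • Ψ x := by
  have hx : x = ∑ k, g x k • f (Pi.single k 1) := by
    have h1 : f (g x) = x := by rw [← LinearMap.comp_apply, hfg, LinearMap.id_apply]
    conv_lhs => rw [← h1, LinearMap.pi_apply_eq_sum_univ f (g x)]
    refine Finset.sum_congr rfl fun k _ => ?_
    congr 2
    funext j
    simp [Pi.single_apply, eq_comm]
  show ∑ k, Vi (g (WittVector.verschiebung w • x) k) • Ψ (f (Pi.single k 1)) = w • Ψ x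
  conv_rhs => rw [hx, map_sum, Finset.smul_sum]
  refine Finset.sum_congr rfl fun k _ => ?_
  rw [map_smul, Pi.smul_apply, smul_eq_mul, V_mul, Vi_V, LinearMap.map_smulₛₗ, mul_smul]

end Theta

end Groth.Agent.Helper7.DispExt
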