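import Mathlib
import Groth.Prelude.Def_W4c1extbt610Disp
import Groth.Agent.Helper7.DispExtA
import Groth.Agent.Helper7.DispExtB
import Groth.Agent.Helper7.DispExtC

/-!
# The exterior power of a 3n-display with rank-one tangent module (S13684)
-/

open W4c1extbt610 exteriorPower

namespace Groth.Agent.Helper7.DispExt

universe u v

variable {p : ℕ} [Fact p.Prime] {R : Type u} [CommRing R]
variable {P : Type v} [AddCommGroup P] [Module (WittVector p R) P]

local notation "σ" => (WittVector.frobenius : WittVector p R →+* WittVector p R)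

section Data

variable (D : Display3n p R P) (t : P) (τ : P →ₗ[WittVector p R] WittVector p R)

/-- the projection `x ↦ x - τ x • t` onto `ker τ` -/
noncomputable def pL : P →ₗ[WittVector p R] P := LinearMap.id - τ.smulRight t

theorem pL_apply (x : P) : pL t τ x = x - τ x • t := by
  simp [pL]

variable {t τ}

theorem τ_pL (hτ : τ t = 1) (x : P) : τ (pL t τ x) = 0 := by
  rw [pL_apply, map_sub, map_smul, hτ, smul_eq_mul, mul_one, sub_self]

theorem pL_t (hτ : τ t = 1) : pL t τ t = 0 := by
  rw [pL_apply, hτ, one_smul, sub_self]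

theorem pL_pL (hτ : τ t = 1) (x : P) : pL t τ (pL t τ x) = pL t τ x := by
  rw [pL_apply t τ (pL t τ x), τ_pL hτ, zero_smul, sub_zero]

theorem decomp (x : P) : x = pL t τ x + τ x • t := by
  rw [pL_apply]; abel

variable {D}
variable (hτ : τ t = 1) (hQ : ∀ x, x ∈ D.Q ↔ τ x ∈ IV p R)

include hτ hQ

theorem pL_mem_Q (x : P) : pL t τ x ∈ D.Q := by
  rw [hQ, τ_pL hτ]; exact zero_mem _

theorem smul_t_mem_Q {a : WittVector p R} (ha : a ∈ IV p R) : a • t ∈ D.Q := by
  rw [hQ, map_smul, hτ, smul_eq_mul, mul_one]; exact ha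

/-- `V⁻¹` in terms of the decomposition -/
theorem Vinv_eq (q : P) (hq : q ∈ D.Q) :
    D.Vinv ⟨q, hq⟩ = D.Vinv ⟨pL t τ q, pL_mem_Q hτ hQ q⟩ + Vi (τ q) • D.F t := by
  have hτq : τ q ∈ IV p R := (hQ q).1 hq
  obtain ⟨w, hw⟩ := (mem_IV_iff _).1 hτq
  have h1 : q = pL t τ q + WittVector.verschiebung w • t := by
    rw [hw]; exact decomp q
  have hmem : WittVector.verschiebung w • t ∈ D.Q := V_smul_mem D w t
  rw [Vinv_congr D hq h1, Vinv_add' D (pL_mem_Q hτ hQ q) hmem, ← hw, Vi_V]
  congr 1
  exact D.Vinv_verschiebung_smul w t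

/-- the Frobenius-semilinear map `V⁻¹ ∘ pL + F ∘ (τ · t)` -/
noncomputable def Phi : P →ₛₗ[σ] P :=
  D.Vinv.comp ((pL t τ).codRestrict D.Q (pL_mem_Q hτ hQ)) + D.F.comp (τ.smulRight t)

omit hτ hQ in
theorem Phi_apply (hτ : τ t = 1) (hQ : ∀ x, x ∈ D.Q ↔ τ x ∈ IV p R) (x : P) :
    Phi hτ hQ x = D.Vinv ⟨pL t τ x, pL_mem_Q hτ hQ x⟩ + WittVector.frobenius (τ x) • D.F t := by
  unfold Phi
  rw [LinearMap.add_apply, LinearMap.comp_apply, LinearMap.comp_apply, LinearMap.smulRight_apply,
    LinearMap.map_smulₛₗ]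
  rfl

theorem Phi_pL (x : P) : Phi hτ hQ (pL t τ x) = D.Vinv ⟨pL t τ x, pL_mem_Q hτ hQ x⟩ := by
  rw [Phi_apply, τ_pL hτ, map_zero, zero_smul, add_zero]
  exact (Vinv_congr D _ (pL_pL hτ x)).trans rfl

theorem Phi_t : Phi hτ hQ t = D.F t := by
  rw [Phi_apply, hτ, map_one, one_smul]
  have h0 : pL t τ t = 0 := pL_t hτ
  rw [Vinv_congr D _ h0, Vinv_zero', zero_add]

end Data

section Ext

variable (D : Display3n p R P) {t : P} {τ : P →ₗ[WittVector p R] WittVector p R} (r : ℕ)

/-- the span of the wedges of elements of `Q` -/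
noncomputable def Qr : Submodule (WittVector p R) (⋀[WittVector p R]^r P) :=
  Submodule.span (WittVector p R)
    (Set.range fun q : Fin r → D.Q => ιMulti (WittVector p R) r (fun i => (q i : P)))

variable {D r}

theorem ιMulti_mem_Qr {l : Fin r → P} (hl : ∀ j, l j ∈ D.Q) :
    ιMulti (WittVector p R) r l ∈ Qr D r :=
  Submodule.subset_span ⟨fun j => ⟨l j, hl j⟩, rfl⟩

variable (t τ r) in
/-- the projection `⋀^r pL` -/
noncomputable def AA : ⋀[WittVector p R]^r P →ₗ[WittVector p R] ⋀[WittVector p R]^r P :=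
  exteriorPower.map r (pL t τ)

theorem AA_ιMulti (x : Fin r → P) :
    AA t τ r (ιMulti (WittVector p R) r x) = ιMulti (WittVector p R) r (fun j => pL t τ (x j)) := by
  unfold AA
  rw [exteriorPower.map_apply_ιMulti]
  rfl

theorem AA_idem (hτ : τ t = 1) : IsIdempotentElem (AA t τ r) := by
  unfold AA
  show exteriorPower.map r (pL t τ) ∘ₗ exteriorPower.map r (pL t τ) = exteriorPower.map r (pL t τ)
  rw [← exteriorPower.map_comp]
  congr 1
  ext x
  exact pL_pL hτ x

/-- the basic expansion of a wedge along `t` -/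
theorem ιMulti_expand (x : Fin r → P) :
    ιMulti (WittVector p R) r x = ιMulti (WittVector p R) r (fun j => pL t τ (x j)) +
      ∑ i, τ (x i) • ιMulti (WittVector p R) r
        (Function.update (fun j => pL t τ (x j)) i t) := by
  conv_lhs => rw [show x = fun j => pL t τ (x j) + τ (x j) • t from funext fun j => decomp (x j)]
  exact ιMulti_add_smul t (fun j => τ (x j)) (fun j => pL t τ (x j))

theorem AA_update_t (hτ : τ t = 1) (l : Fin r → P) (i : Fin r) :
    AA t τ r (ιMulti (WittVector p R) r (Function.update l i t)) = 0 := by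
  rw [AA_ιMulti]
  apply AlternatingMap.map_coord_zero _ i
  rw [Function.update_self, pL_t hτ]

theorem one_sub_AA_ιMulti (x : Fin r → P) :
    ιMulti (WittVector p R) r x - AA t τ r (ιMulti (WittVector p R) r x) =
      ∑ i, τ (x i) • ιMulti (WittVector p R) r
        (Function.update (fun j => pL t τ (x j)) i t) := by
  rw [AA_ιMulti, sub_eq_iff_eq_add']
  exact ιMulti_expand x

variable (hτ : τ t = 1) (hQ : ∀ x, x ∈ D.Q ↔ τ x ∈ IV p R)

include hτ hQ

theorem smul_update_t_mem {l : Fin r → P} (hl : ∀ j, l j ∈ D.Q) (i : Fin r)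
    {b : WittVector p R} (hb : b ∈ IV p R) :
    b • ιMulti (WittVector p R) r (Function.update l i t) ∈ Qr D r := by
  rw [← AlternatingMap.map_update_smul]
  refine ιMulti_mem_Qr fun j => ?_
  by_cases h : j = i
  · subst h
    rw [Function.update_self]
    exact smul_t_mem_Q hτ hQ hb
  · rw [Function.update_of_ne h]
    exact hl j

theorem IV_smul_le_Qr :
    IV p R • (⊤ : Submodule (WittVector p R) (⋀[WittVector p R]^r P)) ≤ Qr D r := by
  rw [Submodule.smul_le]
  intro a ha y _
  have key : ∀ y : ⋀[WittVector p R]^r P, a • y ∈ Qr D r := by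
    intro y
    have hy : y ∈ Submodule.span (WittVector p R)
        (Set.range (ιMulti (WittVector p R) r (M := P))) := by
      rw [exteriorPower.ιMulti_span]; exact Submodule.mem_top
    induction hy using Submodule.span_induction with
    | mem y hy =>
      obtain ⟨x, rfl⟩ := hy
      rw [ιMulti_expand (t := t) (τ := τ) x, smul_add, Finset.smul_sum]
      refine add_mem (Submodule.smul_mem _ _ (ιMulti_mem_Qr fun j => pL_mem_Q hτ hQ (x j))) ?_
      refine Submodule.sum_mem _ fun i _ => ?_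
      rw [smul_smul]
      exact smul_update_t_mem hτ hQ (fun j => pL_mem_Q hτ hQ (x j)) i
        (Ideal.mul_mem_right _ _ ha)
    | zero => rw [smul_zero]; exact zero_mem _
    | add y z _ _ hy hz => rw [smul_add]; exact add_mem hy hz
    | smul c y _ hy => rw [smul_comm]; exact Submodule.smul_mem _ _ hy
  exact key y

omit hτ in
theorem one_sub_AA_mem {y : ⋀[WittVector p R]^r P} (hy : y ∈ Qr D r) :
    (LinearMap.id - AA t τ r : ⋀[WittVector p R]^r P →ₗ[WittVector p R] ⋀[WittVector p R]^r P) y ∈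
      IV p R • (⊤ : Submodule (WittVector p R) (⋀[WittVector p R]^r P)) := by
  have hle : Qr D r ≤ Submodule.comap (LinearMap.id - AA t τ r)
      (IV p R • (⊤ : Submodule (WittVector p R) (⋀[WittVector p R]^r P))) := by
    unfold Qr
    rw [Submodule.span_le]
    rintro _ ⟨q, rfl⟩
    rw [SetLike.mem_coe, Submodule.mem_comap, LinearMap.sub_apply, LinearMap.id_apply,
      one_sub_AA_ιMulti]
    exact Submodule.sum_mem _ fun i _ =>
      Submodule.smul_mem_smul ((hQ _).1 (q i).2) Submodule.mem_top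
  exact hle hy

theorem Qr_eq : Qr D r = LinearMap.range (AA t τ r) ⊔ IV p R • LinearMap.ker (AA t τ r) := by
  apply le_antisymm
  · unfold Qr
    rw [Submodule.span_le]
    rintro _ ⟨q, rfl⟩
    beta_reduce
    rw [SetLike.mem_coe, ιMulti_expand (t := t) (τ := τ) (fun i => (q i : P))]
    refine add_mem (Submodule.mem_sup_left ⟨ιMulti (WittVector p R) r (fun i => (q i : P)), ?_⟩)
      (Submodule.mem_sup_right ?_)
    · exact AA_ιMulti _
    · exact Submodule.sum_mem _ fun i _ =>
        Submodule.smul_mem_smul ((hQ _).1 (q i).2) (AA_update_t hτ _ i)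
  · refine sup_le ?_ ((Submodule.smul_mono le_rfl le_top).trans (IV_smul_le_Qr hτ hQ))
    rw [LinearMap.range_eq_map, ← exteriorPower.ιMulti_span, Submodule.map_span, Submodule.span_le]
    rintro _ ⟨_, ⟨x, rfl⟩, rfl⟩
    rw [AA_ιMulti]
    exact ιMulti_mem_Qr fun j => pL_mem_Q hτ hQ (x j)

end Ext

section Build

variable {D : Display3n p R P} {t : P} {τ : P →ₗ[WittVector p R] WittVector p R}
variable (hτ : τ t = 1) (hQ : ∀ x, x ∈ D.Q ↔ τ x ∈ IV p R) (r : ℕ)
variable {n : ℕ} (f : (Fin n → WittVector p R) →ₗ[WittVector p R] ⋀[WittVector p R]^r P)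
  (g : ⋀[WittVector p R]^r P →ₗ[WittVector p R] (Fin n → WittVector p R))

theorem V_Vi {a : WittVector p R} (ha : a ∈ IV p R) : WittVector.verschiebung (Vi a) = a := by
  obtain ⟨w, rfl⟩ := (mem_IV_iff a).1 ha
  rw [Vi_V]

/-- `⋀^r Φ` -/
noncomputable def Psi : ⋀[WittVector p R]^r P →ₛₗ[σ] ⋀[WittVector p R]^r P :=
  extS (Phi hτ hQ) r

theorem Psi_ιMulti (v : Fin r → P) :
    Psi hτ hQ r (ιMulti (WittVector p R) r v) =
      ιMulti (WittVector p R) r (fun i => Phi hτ hQ (v i)) :=
  extS_ιMulti _ r v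

/-- the Frobenius of the exterior power -/
noncomputable def Fr : ⋀[WittVector p R]^r P →ₛₗ[σ] ⋀[WittVector p R]^r P :=
  (Psi hτ hQ r).comp ((p : WittVector p R) • AA t τ r + (LinearMap.id - AA t τ r))

theorem Fr_apply (x : ⋀[WittVector p R]^r P) :
    Fr hτ hQ r x = (p : WittVector p R) • Psi hτ hQ r (AA t τ r x) +
      Psi hτ hQ r (x - AA t τ r x) := by
  unfold Fr
  rw [LinearMap.comp_apply, LinearMap.add_apply, LinearMap.smul_apply, map_add,
    LinearMap.map_smulₛₗ, map_natCast, LinearMap.sub_apply, LinearMap.id_apply]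

/-- `V⁻¹` of the exterior power -/
noncomputable def Vr : ↥(Qr D r) →ₛₗ[σ] ⋀[WittVector p R]^r P :=
  (Psi hτ hQ r).comp ((AA t τ r).comp (Qr D r).subtype) +
    (thetaL f g (Psi hτ hQ r)).comp
      (((LinearMap.id - AA t τ r).comp (Qr D r).subtype).codRestrict _
        (fun y => one_sub_AA_mem hQ y.2))

theorem Vr_apply (y : ⋀[WittVector p R]^r P) (hy : y ∈ Qr D r) :
    Vr hτ hQ r f g ⟨y, hy⟩ = Psi hτ hQ r (AA t τ r y) +
      thetaL f g (Psi hτ hQ r) ⟨y - AA t τ r y, one_sub_AA_mem hQ hy⟩ := rfl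

variable (hfg : f ∘ₗ g = LinearMap.id)

include hfg in
theorem Vr_V_smul (w : WittVector p R) (x : ⋀[WittVector p R]^r P)
    (h : WittVector.verschiebung w • x ∈ Qr D r) :
    Vr hτ hQ r f g ⟨WittVector.verschiebung w • x, h⟩ = w • Fr hτ hQ r x := by
  have h1 : Psi hτ hQ r (AA t τ r (WittVector.verschiebung w • x)) =
      w • ((p : WittVector p R) • Psi hτ hQ r (AA t τ r x)) := by
    rw [map_smul, LinearMap.map_smulₛₗ, frobenius_V, smul_smul, mul_comm]
  have hmem : WittVector.verschiebung w • (x - AA t τ r x) ∈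
      IV p R • (⊤ : Submodule (WittVector p R) (⋀[WittVector p R]^r P)) :=
    Submodule.smul_mem_smul (verschiebung_mem_IV p R w) Submodule.mem_top
  have h2 : thetaL f g (Psi hτ hQ r) ⟨WittVector.verschiebung w • x -
      AA t τ r (WittVector.verschiebung w • x), one_sub_AA_mem hQ h⟩ =
      w • Psi hτ hQ r (x - AA t τ r x) := by
    rw [← thetaL_V_smul f g hfg (Psi hτ hQ r) w (x - AA t τ r x) hmem]
    refine congrArg _ (Subtype.ext ?_)
    show WittVector.verschiebung w • x - AA t τ r (WittVector.verschiebung w • x) =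
      WittVector.verschiebung w • (x - AA t τ r x)
    rw [map_smul, smul_sub]
  rw [Vr_apply, Fr_apply, smul_add, h1, h2]

include hfg in
theorem Vr_ιMulti (q : Fin r → D.Q)
    (hq : ιMulti (WittVector p R) r (fun i => (q i : P)) ∈ Qr D r) :
    Vr hτ hQ r f g ⟨ιMulti (WittVector p R) r (fun i => (q i : P)), hq⟩ =
      ιMulti (WittVector p R) r (fun i => D.Vinv (q i)) := by
  classical
  set l' : Fin r → P := fun j => D.Vinv ⟨pL t τ (q j), pL_mem_Q hτ hQ (q j)⟩ with hl'
  set wv : Fin r → WittVector p R := fun j => Vi (τ (q j)) with hwv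
  have hV : ∀ j, WittVector.verschiebung (wv j) = τ (q j) := fun j => V_Vi ((hQ _).1 (q j).2)
  have hR : ιMulti (WittVector p R) r (fun i => D.Vinv (q i)) =
      ιMulti (WittVector p R) r l' +
        ∑ i, wv i • ιMulti (WittVector p R) r (Function.update l' i (D.F t)) := by
    rw [← ιMulti_add_smul]
    congr 1
    funext j
    exact Vinv_eq hτ hQ (q j) (q j).2
  have h1 : Psi hτ hQ r (AA t τ r (ιMulti (WittVector p R) r (fun i => (q i : P)))) =
      ιMulti (WittVector p R) r l' := by
    rw [AA_ιMulti, Psi_ιMulti]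
    congr 1
    funext j
    exact Phi_pL hτ hQ (q j)
  have hz : ∀ i, WittVector.verschiebung (wv i) • ιMulti (WittVector p R) r
      (Function.update (fun j => pL t τ (q j)) i t) ∈
      IV p R • (⊤ : Submodule (WittVector p R) (⋀[WittVector p R]^r P)) := fun i =>
    Submodule.smul_mem_smul (verschiebung_mem_IV p R _) Submodule.mem_top
  have h2 : thetaL f g (Psi hτ hQ r)
      ⟨ιMulti (WittVector p R) r (fun i => (q i : P)) -
        AA t τ r (ιMulti (WittVector p R) r (fun i => (q i : P))), one_sub_AA_mem hQ hq⟩ =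
      ∑ i, wv i • ιMulti (WittVector p R) r (Function.update l' i (D.F t)) := by
    have e : (⟨ιMulti (WittVector p R) r (fun i => (q i : P)) -
        AA t τ r (ιMulti (WittVector p R) r (fun i => (q i : P))), one_sub_AA_mem hQ hq⟩ :
        ↥(IV p R • (⊤ : Submodule (WittVector p R) (⋀[WittVector p R]^r P)))) =
        ∑ i, ⟨WittVector.verschiebung (wv i) • ιMulti (WittVector p R) r
          (Function.update (fun j => pL t τ (q j)) i t), hz i⟩ := by
      apply Subtype.ext
      rw [AddSubmonoidClass.coe_finsetSum]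
      show ιMulti (WittVector p R) r (fun i => (q i : P)) -
        AA t τ r (ιMulti (WittVector p R) r (fun i => (q i : P))) = _
      rw [one_sub_AA_ιMulti]
      refine Finset.sum_congr rfl fun i _ => ?_
      show _ = WittVector.verschiebung (wv i) • _
      rw [hV]
    rw [e, map_sum]
    refine Finset.sum_congr rfl fun i _ => ?_
    rw [thetaL_V_smul f g hfg, Psi_ιMulti, comp_update, Phi_t]
    congr 3
    funext j
    exact Phi_pL hτ hQ (q j)
  rw [Vr_apply, h1, h2, hR]

/-- the exterior power 3n-display -/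
noncomputable def mkE : Display3n p R (⋀[WittVector p R]^r P) :=
  { Q := Qr D r
    F := Fr hτ hQ r
    Vinv := Vr hτ hQ r f g
    finite := by
      haveI := D.finite
      infer_instance
    projective := by
      haveI := D.finite
      haveI := D.projective
      exact projective_extPow r
    IV_smul_le := IV_smul_le_Qr hτ hQ
    exists_normal := ⟨LinearMap.range (AA t τ r), LinearMap.ker (AA t τ r),
      LinearMap.IsIdempotentElem.isCompl (AA_idem hτ), Qr_eq hτ hQ⟩
    span_range_Vinv := by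
      rw [eq_top_iff, ← exteriorPower.ιMulti_span_of_span (WittVector p R) r P D.span_range_Vinv,
        Submodule.span_le]
      rintro _ ⟨a, ha, rfl⟩
      choose q hq using fun j => ha ⟨j, rfl⟩
      apply Submodule.subset_span
      refine ⟨⟨ιMulti (WittVector p R) r (fun i => (q i : P)),
        ιMulti_mem_Qr (fun j => (q j).2)⟩, ?_⟩
      rw [Vr_ιMulti hτ hQ r f g hfg q]
      congr 1
      funext j
      exact hq j
    Vinv_verschiebung_smul := fun w x => Vr_V_smul hτ hQ r f g hfg w x _ }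

theorem mkE_isExtPow : IsExtPow D r (mkE hτ hQ r f g hfg) :=
  ⟨rfl, fun q hq => Vr_ιMulti hτ hQ r f g hfg q hq⟩

end Build

section Unique

variable {M : Type*} [AddCommGroup M] [Module (WittVector p R) M]

theorem display_ext (E E' : Display3n p R M) (hQ : E.Q = E'.Q)
    (hV : ∀ (y : M) (hy : y ∈ E.Q), E.Vinv ⟨y, hy⟩ = E'.Vinv ⟨y, hQ ▸ hy⟩) : E = E' := by
  have hF : ∀ x, E.F x = E'.F x := by
    intro x
    rw [F_eq E, F_eq E', hV]
  obtain ⟨Q, F, Vinv, h1, h2, h3, h4, h5, h6⟩ := E
  obtain ⟨Q', F', Vinv', h1', h2', h3', h4', h5', h6'⟩ := E'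
  simp only at hQ
  subst hQ
  have hVeq : Vinv = Vinv' := LinearMap.ext fun y => hV y.1 y.2
  subst hVeq
  have hFeq : F = F' := LinearMap.ext hF
  subst hFeq
  rfl

variable {r : ℕ}

theorem isExtPow_unique (D : Display3n p R P) (E E' : Display3n p R (⋀[WittVector p R]^r P))
    (hE : IsExtPow D r E) (hE' : IsExtPow D r E') : E' = E := by
  have hQ : E'.Q = E.Q := hE'.1.trans hE.1.symm
  refine display_ext E' E hQ ?_
  intro y hy
  have hy' := hy
  rw [hE'.1] at hy'
  induction hy' using Submodule.span_induction with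
  | mem y hy0 =>
    obtain ⟨q, rfl⟩ := hy0
    rw [hE'.2 q hy, hE.2 q (hQ ▸ hy)]
  | zero => rw [Vinv_zero' E', Vinv_zero' E]
  | add a b ha0 hb0 ha hb =>
    have haQ : a ∈ E'.Q := by rw [hE'.1]; exact ha0
    have hbQ : b ∈ E'.Q := by rw [hE'.1]; exact hb0
    rw [Vinv_add' E' haQ hbQ, Vinv_add' E (hQ ▸ haQ) (hQ ▸ hbQ), ha haQ, hb hbQ]
  | smul c a ha0 ha =>
    have haQ : a ∈ E'.Q := by rw [hE'.1]; exact ha0
    rw [Vinv_smul' E' c haQ, Vinv_smul' E c (hQ ▸ haQ), ha haQ]

end Unique

section Main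

theorem main_exists (D : Display3n p R P)
    (hT : ∃ L T : Submodule (WittVector p R) P, IsCompl L T ∧ D.Q = L ⊔ IV p R • T ∧
      Nonempty (T ≃ₗ[WittVector p R] WittVector p R)) (r : ℕ) :
    ∃ E : Display3n p R (⋀[WittVector p R]^r P), IsExtPow D r E ∧
      ∀ E' : Display3n p R (⋀[WittVector p R]^r P), IsExtPow D r E' → E' = E := by
  obtain ⟨L, T, hLT, hQ0, ⟨e⟩⟩ := hT
  -- the data `t`, `τ`
  let τ : P →ₗ[WittVector p R] WittVector p R := e.toLinearMap ∘ₗ T.projectionOnto L hLT.symm
  let t : P := ((e.symm 1 : T) : P)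
  have hτ : τ t = 1 := by
    show e (T.projectionOnto L hLT.symm ((e.symm 1 : T) : P)) = 1
    rw [Submodule.projectionOnto_apply_left, LinearEquiv.apply_symm_apply]
  have hτL : ∀ l ∈ L, τ l = 0 := by
    intro l hl
    show e (T.projectionOnto L hLT.symm l) = 0
    rw [Submodule.projectionOnto_apply_of_mem_right hLT.symm hl, map_zero]
  have hQ : ∀ x, x ∈ D.Q ↔ τ x ∈ IV p R := by
    intro x
    constructor
    · intro hx
      rw [hQ0] at hx
      obtain ⟨l, hl, y, hy, rfl⟩ := Submodule.mem_sup.1 hx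
      rw [map_add, hτL l hl, zero_add]
      refine Submodule.smul_induction_on (p := fun y => τ y ∈ IV p R) hy ?_ ?_
      · intro a ha z _
        rw [map_smul, smul_eq_mul]
        exact Ideal.mul_mem_right _ _ ha
      · intro y z hy hz
        rw [map_add]
        exact add_mem hy hz
    · intro hx
      rw [hQ0, ← Submodule.projection_add_projection_eq_self hLT x]
      refine add_mem (Submodule.mem_sup_left (Submodule.projection_apply_mem hLT x))
        (Submodule.mem_sup_right ?_)
      have h1 : (T.projection L hLT.symm x : P) = τ x • t := by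
        show ((T.projectionOnto L hLT.symm x : T) : P) = τ x • ((e.symm 1 : T) : P)
        rw [← Submodule.coe_smul, ← map_smul, smul_eq_mul, mul_one]
        show _ = ((e.symm (e (T.projectionOnto L hLT.symm x)) : T) : P)
        rw [LinearEquiv.symm_apply_apply]
      rw [h1]
      exact Submodule.smul_mem_smul hx (e.symm 1 : T).2
  haveI := D.finite
  haveI := D.projective
  haveI : Module.Projective (WittVector p R) (⋀[WittVector p R]^r P) := projective_extPow r
  obtain ⟨n, f, g, -, -, hfg⟩ :=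
    Module.Finite.exists_comp_eq_id_of_projective (WittVector p R) (⋀[WittVector p R]^r P)
  exact ⟨mkE hτ hQ r f g hfg, mkE_isExtPow hτ hQ r f g hfg,
    fun E' hE' => isExtPow_unique D _ E' (mkE_isExtPow hτ hQ r f g hfg) hE'⟩

end Main

end Groth.Agent.Helper7.DispExt
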