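import Mathlib

set_option autoImplicit false
universe u

namespace Groth.Agent.Helper7.DispRig

open WittVector MvPolynomial

variable {p : ℕ} [hp : Fact p.Prime] {S : Type u} [CommRing S]

/-- Witt vectors with all coefficients in the ideal `𝔟`. -/
noncomputable def wI (p : ℕ) [Fact p.Prime] (𝔟 : Ideal S) : Ideal (WittVector p S) :=
  RingHom.ker (WittVector.map (Ideal.Quotient.mk 𝔟) : WittVector p S →+* WittVector p (S ⧸ 𝔟))

theorem mem_wI {𝔟 : Ideal S} {x : WittVector p S} : x ∈ wI p 𝔟 ↔ ∀ n, x.coeff n ∈ 𝔟 := by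
  rw [wI, RingHom.mem_ker, WittVector.ext_iff]
  simp only [WittVector.map_coeff, WittVector.zero_coeff, Ideal.Quotient.eq_zero_iff_mem]

theorem wI_mono {𝔟 𝔠 : Ideal S} (h : 𝔟 ≤ 𝔠) : wI p 𝔟 ≤ wI p 𝔠 := by
  intro x hx
  rw [mem_wI] at hx ⊢
  exact fun n => h (hx n)

theorem wI_bot : wI p (⊥ : Ideal S) = ⊥ := by
  rw [eq_bot_iff]
  intro x hx
  rw [mem_wI] at hx
  rw [Ideal.mem_bot]
  ext n
  simpa using hx n

theorem verschiebung_mem_wI_iff {𝔟 : Ideal S} {x : WittVector p S} :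
    verschiebung x ∈ wI p 𝔟 ↔ x ∈ wI p 𝔟 := by
  rw [mem_wI, mem_wI]
  constructor
  · intro h n
    have := h (n + 1)
    rwa [verschiebung_coeff_succ] at this
  · intro h n
    cases n with
    | zero => rw [verschiebung_coeff_zero]; exact zero_mem _
    | succ n => rw [verschiebung_coeff_succ]; exact h n

theorem teichmuller_mem_wI {𝔟 : Ideal S} {b : S} (hb : b ∈ 𝔟) : teichmuller p b ∈ wI p 𝔟 := by
  rw [mem_wI]
  intro n
  cases n with
  | zero => rw [teichmuller_coeff_zero]; exact hb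
  | succ n => rw [teichmuller_coeff_pos p b _ (Nat.succ_pos n)]; exact zero_mem _

theorem shift_mem_wI {𝔟 : Ideal S} {x : WittVector p S} (hx : x ∈ wI p 𝔟) (k : ℕ) :
    x.shift k ∈ wI p 𝔟 := by
  rw [mem_wI] at hx ⊢
  intro n
  rw [shift_coeff]
  exact hx _

/-- a polynomial with zero constant coefficient evaluated at elements of an ideal lies in the ideal. -/
theorem aeval_mem_of_constantCoeff_eq_zero {σ : Type*} (q : MvPolynomial σ ℤ) (hq : constantCoeff q = 0)
    {𝔟 : Ideal S} (f : σ → S) (hf : ∀ n, f n ∈ 𝔟) : aeval f q ∈ 𝔟 := by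
  classical
  rw [q.as_sum, map_sum]
  refine Ideal.sum_mem _ fun m hm => ?_
  rw [aeval_monomial]
  apply Ideal.mul_mem_left
  have hm0 : m ≠ 0 := by
    rintro rfl
    rw [mem_support_iff] at hm
    exact hm (by simpa [constantCoeff_eq] using hq)
  obtain ⟨i, hi⟩ : ∃ i, m i ≠ 0 := by
    by_contra h
    push Not at h
    exact hm0 (Finsupp.ext h)
  rw [Finsupp.prod]
  have hi' : i ∈ m.support := Finsupp.mem_support_iff.mpr hi
  rw [← Finset.mul_prod_erase _ _ hi']
  apply Ideal.mul_mem_right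
  exact Ideal.pow_mem_of_mem _ (hf i) _ (Nat.pos_of_ne_zero hi)

theorem constantCoeff_frobeniusPolyAux (n : ℕ) : constantCoeff (frobeniusPolyAux p n) = 0 := by
  have h := WittVector.coeff_frobenius (p := p) (0 : WittVector p ℤ) n
  rw [map_zero, WittVector.zero_coeff, frobeniusPoly, map_add, map_mul, map_pow, aeval_X, aeval_C] at h
  have h0 : ((0 : WittVector p ℤ).coeff : ℕ → ℤ) = 0 := by
    ext k; simp
  rw [h0, MvPolynomial.aeval_zero] at h
  simp only [Pi.zero_apply, ne_eq, hp.out.ne_zero, not_false_eq_true, zero_pow, zero_add,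
    algebraMap_int_eq, eq_intCast, Int.cast_natCast, Int.cast_eq, Int.cast_id] at h
  have hp0 : (p : ℤ) ≠ 0 := by exact_mod_cast hp.out.ne_zero
  rcases mul_eq_zero.mp h.symm with h1 | h1
  · exact absurd h1 hp0
  · exact h1

theorem frobenius_mem_wI {𝔟 𝔠 : Ideal S} {x : WittVector p S} (hx : x ∈ wI p 𝔟)
    (h1 : 𝔟 ^ 2 ≤ 𝔠) (h2 : ∀ b ∈ 𝔟, (p : S) * b ∈ 𝔠) : frobenius x ∈ wI p 𝔠 := by
  rw [mem_wI] at hx ⊢
  intro n
  rw [coeff_frobenius, frobeniusPoly, map_add, map_mul, map_pow, aeval_X, aeval_C]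
  apply add_mem
  · apply h1
    have : 𝔟 ^ p ≤ 𝔟 ^ 2 := Ideal.pow_le_pow_right hp.out.two_le
    exact this (Ideal.pow_mem_pow (hx n) p)
  · have := h2 _ (aeval_mem_of_constantCoeff_eq_zero (frobeniusPolyAux p n)
      (constantCoeff_frobeniusPolyAux n) x.coeff hx)
    simpa using this

theorem natCast_mul_mem_wI {𝔟 𝔠 : Ideal S} {x : WittVector p S} (hx : x ∈ wI p 𝔟)
    (h1 : 𝔟 ^ 2 ≤ 𝔠) (h2 : ∀ b ∈ 𝔟, (p : S) * b ∈ 𝔠) : (p : WittVector p S) * x ∈ wI p 𝔠 := by
  have : (p : WittVector p S) * x = frobenius (verschiebung x) := by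
    rw [frobenius_verschiebung, mul_comm]
  rw [this]
  exact frobenius_mem_wI (verschiebung_mem_wI_iff.mpr hx) h1 h2

theorem verschiebung_mul_mem_wI {𝔟 𝔠 : Ideal S} {x : WittVector p S} (hx : x ∈ wI p 𝔟)
    (h1 : 𝔟 ^ 2 ≤ 𝔠) (h2 : ∀ b ∈ 𝔟, (p : S) * b ∈ 𝔠) (w : WittVector p S) :
    verschiebung w * x ∈ wI p 𝔠 := by
  rw [← verschiebung_mul_frobenius, verschiebung_mem_wI_iff]
  exact Ideal.mul_mem_left _ _ (frobenius_mem_wI hx h1 h2)

/-- decomposition `x = [x₀] + V (shift x)`. -/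
theorem eq_teichmuller_add_verschiebung_shift (x : WittVector p S) :
    x = teichmuller p (x.coeff 0) + verschiebung (x.shift 1) := by
  ext n
  rw [coeff_add_of_disjoint]
  · cases n with
    | zero => rw [teichmuller_coeff_zero, verschiebung_coeff_zero, add_zero]
    | succ n =>
      rw [teichmuller_coeff_pos p _ _ (Nat.succ_pos n), verschiebung_coeff_succ, shift_coeff, zero_add,
        add_comm]
  · intro k
    cases k with
    | zero => right; exact verschiebung_coeff_zero _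
    | succ k => left; exact teichmuller_coeff_pos p _ _ (Nat.succ_pos k)

theorem shift_teichmuller_add_verschiebung (a : S) (y : WittVector p S) :
    (teichmuller p a + verschiebung y).shift 1 = y := by
  ext n
  rw [shift_coeff, coeff_add_of_disjoint]
  · rw [add_comm 1 n, teichmuller_coeff_pos p _ _ (Nat.succ_pos n), verschiebung_coeff_succ, zero_add]
  · intro k
    cases k with
    | zero => right; exact verschiebung_coeff_zero _
    | succ k => left; exact teichmuller_coeff_pos p _ _ (Nat.succ_pos k)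

end Groth.Agent.Helper7.DispRig
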