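import Mathlib
import Groth.Agent.Helper7.DispRigA

set_option autoImplicit false
universe u

namespace Groth.Agent.Helper7.DispRig

open WittVector MvPolynomial

variable {p : ℕ} [hp : Fact p.Prime] {S : Type u} [CommRing S]

/-- the universal sum of two Teichmüller representatives. -/
noncomputable def tsum (p : ℕ) [Fact p.Prime] : WittVector p (MvPolynomial (Fin 2) ℤ) :=
  teichmuller p (X 0) + teichmuller p (X 1)

theorem isHomogeneous_of_C_mul {σ : Type*} {a : ℤ} (ha : a ≠ 0) {q : MvPolynomial σ ℤ} {d : ℕ}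
    (h : (C a * q).IsHomogeneous d) : q.IsHomogeneous d := by
  intro m hm
  apply h
  rw [coeff_C_mul]
  exact mul_ne_zero ha hm

theorem tsum_coeff_isHomogeneous (n : ℕ) : ((tsum p).coeff n).IsHomogeneous (p ^ n) := by
  induction n using Nat.strong_induction_on with
  | _ n ih =>
    have h1 : ghostComponent n (tsum p) = (X 0 : MvPolynomial (Fin 2) ℤ) ^ p ^ n + X 1 ^ p ^ n := by
      rw [tsum, map_add, ghostComponent_teichmuller, ghostComponent_teichmuller]
    rw [ghostComponent_apply, wittPolynomial_eq_sum_C_mul_X_pow, map_sum, Finset.sum_range_succ] at h1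
    simp only [map_mul, map_pow, aeval_C, aeval_X, Nat.sub_self, pow_zero, pow_one,
      eq_intCast, Int.cast_natCast, map_natCast] at h1
    have hC : ∀ i : ℕ, ((p : MvPolynomial (Fin 2) ℤ)) ^ i = C ((p : ℤ) ^ i) := by
      intro i; simp
    simp only [hC] at h1
    have h2 : C ((p : ℤ) ^ n) * (tsum p).coeff n =
        (X 0 : MvPolynomial (Fin 2) ℤ) ^ p ^ n + X 1 ^ p ^ n -
          ∑ i ∈ Finset.range n, C ((p : ℤ) ^ i) *
            (tsum p).coeff i ^ p ^ (n - i) := by
      rw [← h1]
      ring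
    apply isHomogeneous_of_C_mul (a := (p : ℤ) ^ n)
      (pow_ne_zero _ (by exact_mod_cast hp.out.ne_zero))
    rw [h2]
    apply IsHomogeneous.sub
    · exact (isHomogeneous_X_pow 0 _).add (isHomogeneous_X_pow 1 _)
    · apply IsHomogeneous.sum
      intro i hi
      rw [Finset.mem_range] at hi
      apply IsHomogeneous.C_mul
      have := (ih i hi).pow (p ^ (n - i))
      rwa [← pow_add, Nat.add_sub_cancel' hi.le] at this

theorem aeval_mem_pow_of_isHomogeneous {σ : Type*} (q : MvPolynomial σ ℤ) (d : ℕ)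
    (hq : q.IsHomogeneous d) {𝔟 : Ideal S} (f : σ → S) (hf : ∀ i, f i ∈ 𝔟) : aeval f q ∈ 𝔟 ^ d := by
  classical
  rw [q.as_sum, map_sum]
  refine Ideal.sum_mem _ fun m hm => ?_
  rw [aeval_monomial]
  apply Ideal.mul_mem_left
  rw [hq.degree_eq_sum_deg_support hm, Finsupp.prod, ← Finset.prod_pow_eq_pow_sum]
  apply Ideal.prod_mem_prod
  intro i _
  exact Ideal.pow_mem_pow (hf i) _

theorem teichmuller_add_eq_map (a b : S) :
    teichmuller p a + teichmuller p b =
      WittVector.map (aeval ![a, b] : MvPolynomial (Fin 2) ℤ →ₐ[ℤ] S).toRingHom (tsum p) := by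
  rw [tsum, map_add, map_teichmuller, map_teichmuller]
  simp

theorem teichmuller_add {𝔟 : Ideal S} (a b : S) (ha : a ∈ 𝔟) (hb : b ∈ 𝔟) :
    ∃ δ ∈ wI p (𝔟 ^ 2),
      teichmuller p a + teichmuller p b = teichmuller p (a + b) + verschiebung δ := by
  refine ⟨(teichmuller p a + teichmuller p b).shift 1, ?_, ?_⟩
  · rw [mem_wI]
    intro n
    rw [shift_coeff, teichmuller_add_eq_map, map_coeff]
    have h1 := aeval_mem_pow_of_isHomogeneous _ _ (tsum_coeff_isHomogeneous (p := p) (1 + n))
      (𝔟 := 𝔟) ![a, b] (by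
        intro i
        fin_cases i
        · exact ha
        · exact hb)
    have h2 : 𝔟 ^ (p ^ (1 + n)) ≤ 𝔟 ^ 2 := by
      apply Ideal.pow_le_pow_right
      calc 2 ≤ p := hp.out.two_le
        _ = p ^ 1 := (pow_one p).symm
        _ ≤ p ^ (1 + n) := Nat.pow_le_pow_right hp.out.pos (by omega)
    exact h2 h1
  · have h := eq_teichmuller_add_verschiebung_shift (teichmuller p a + teichmuller p b)
    rw [add_coeff_zero, teichmuller_coeff_zero, teichmuller_coeff_zero] at h
    exact h

theorem shift_verschiebung (x : WittVector p S) : (verschiebung x).shift 1 = x := by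
  have := shift_teichmuller_add_verschiebung (p := p) (0 : S) x
  rwa [teichmuller_zero, zero_add] at this

/-- additivity of the shift modulo squares. -/
theorem shift_add {𝔟 : Ideal S} (ξ η : WittVector p S) (hξ : ξ ∈ wI p 𝔟) (hη : η ∈ wI p 𝔟) :
    (ξ + η).shift 1 - (ξ.shift 1 + η.shift 1) ∈ wI p (𝔟 ^ 2) := by
  obtain ⟨δ, hδ, h⟩ := teichmuller_add (p := p) (ξ.coeff 0) (η.coeff 0)
    (mem_wI.mp hξ 0) (mem_wI.mp hη 0)
  have h1 : ξ + η = teichmuller p (ξ.coeff 0 + η.coeff 0) +
      verschiebung (δ + (ξ.shift 1 + η.shift 1)) := by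
    conv_lhs => rw [eq_teichmuller_add_verschiebung_shift ξ, eq_teichmuller_add_verschiebung_shift η]
    rw [map_add verschiebung, map_add verschiebung]
    have h' : teichmuller p (ξ.coeff 0 + η.coeff 0) = teichmuller p (ξ.coeff 0) +
        teichmuller p (η.coeff 0) - verschiebung δ := by rw [h]; abel
    rw [h']
    abel
  have h2 : (ξ + η).shift 1 = δ + (ξ.shift 1 + η.shift 1) := by
    rw [h1, shift_teichmuller_add_verschiebung]
  rw [h2, add_sub_cancel_right]
  exact hδ

/-- semilinearity of the shift modulo `𝔠`. -/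
theorem shift_mul {𝔟 𝔠 : Ideal S} (w ξ : WittVector p S) (hξ : ξ ∈ wI p 𝔟)
    (h1 : 𝔟 ^ 2 ≤ 𝔠) (h2 : ∀ b ∈ 𝔟, (p : S) * b ∈ 𝔠) :
    (w * ξ).shift 1 - frobenius w * ξ.shift 1 ∈ wI p 𝔠 := by
  have hw := eq_teichmuller_add_verschiebung_shift w
  have hx := eq_teichmuller_add_verschiebung_shift ξ
  have e1 : w * ξ = teichmuller p (w.coeff 0 * ξ.coeff 0) +
      verschiebung (w.shift 1 * frobenius (teichmuller p (ξ.coeff 0)) + frobenius w * ξ.shift 1) := by
    have e2 : w * verschiebung (ξ.shift 1) = verschiebung (frobenius w * ξ.shift 1) := by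
      rw [mul_comm, ← verschiebung_mul_frobenius, mul_comm]
    have e3 : verschiebung (w.shift 1) * teichmuller p (ξ.coeff 0) =
        verschiebung (w.shift 1 * frobenius (teichmuller p (ξ.coeff 0))) := by
      rw [verschiebung_mul_frobenius]
    conv_lhs => rw [hx, mul_add, e2]
    conv_lhs => enter [1]; rw [hw, add_mul, e3, ← map_mul]
    rw [map_add verschiebung]
    abel
  have e4 : (w * ξ).shift 1 =
      w.shift 1 * frobenius (teichmuller p (ξ.coeff 0)) + frobenius w * ξ.shift 1 := by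
    rw [e1, shift_teichmuller_add_verschiebung]
  rw [e4, add_sub_cancel_right]
  apply Ideal.mul_mem_left
  exact frobenius_mem_wI (teichmuller_mem_wI (mem_wI.mp hξ 0)) h1 h2

end Groth.Agent.Helper7.DispRig
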