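import Mathlib
import Groth.Prelude.Def_Disp2
import Groth.Agent.Helper7.DispRigB

set_option autoImplicit false
universe u v

namespace Groth.Agent.Helper7.DispRig

open WittVector W4c1extbt610

variable {p : ℕ} [hp : Fact p.Prime] {S : Type u} [CommRing S]
variable {P' : Type v} [AddCommGroup P'] [Module (WittVector p S) P']

/-- linear functionals map `J • ⊤` into `J`. -/
theorem lin_mem_of_mem_smul_top {A : Type*} [CommRing A] {M : Type*} [AddCommGroup M] [Module A M]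
    (J : Ideal A) (ℓ : M →ₗ[A] A) {x : M} (hx : x ∈ J • (⊤ : Submodule A M)) : ℓ x ∈ J := by
  refine Submodule.smul_induction_on hx ?_ ?_
  · intro a ha m _
    rw [map_smul, smul_eq_mul]
    exact Ideal.mul_mem_right _ _ ha
  · intro x y hx hy
    rw [map_add]
    exact add_mem hx hy

/-- linear endomorphisms preserve `J • ⊤`. -/
theorem end_mem_of_mem_smul_top {A : Type*} [CommRing A] {M M' : Type*} [AddCommGroup M] [Module A M]
    [AddCommGroup M'] [Module A M']
    (J : Ideal A) (φ : M →ₗ[A] M') {x : M} (hx : x ∈ J • (⊤ : Submodule A M)) :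
    φ x ∈ J • (⊤ : Submodule A M') := by
  refine Submodule.smul_induction_on hx ?_ ?_
  · intro a ha m _
    rw [map_smul]
    exact Submodule.smul_mem_smul ha Submodule.mem_top
  · intro x y hx hy
    rw [map_add]
    exact add_mem hx hy

theorem eq_verschiebung_shift_of_mem_IV {a : WittVector p S} (ha : a ∈ IV p S) :
    a = verschiebung (a.shift 1) := by
  have h : ∃ w : WittVector p S, verschiebung w = a := by
    unfold IV at ha
    refine Submodule.span_induction ?_ ?_ ?_ ?_ ha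
    · rintro _ ⟨w, rfl⟩; exact ⟨w, rfl⟩
    · exact ⟨0, map_zero _⟩
    · rintro _ _ _ _ ⟨w₁, rfl⟩ ⟨w₂, rfl⟩; exact ⟨w₁ + w₂, map_add _ _ _⟩
    · rintro r _ _ ⟨w, rfl⟩
      refine ⟨w * WittVector.frobenius r, ?_⟩
      rw [WittVector.verschiebung_mul_frobenius, smul_eq_mul, mul_comm]
  obtain ⟨w, rfl⟩ := h
  rw [shift_verschiebung]

section Vtilde

variable (𝔟 𝔠 : Ideal S)

/-- the module `J P' / J' P'`. -/
abbrev NQ (p : ℕ) [Fact p.Prime] {S : Type u} [CommRing S] (𝔟 𝔠 : Ideal S)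
    (P' : Type v) [AddCommGroup P'] [Module (WittVector p S) P'] : Type v :=
  ↥(wI p 𝔟 • (⊤ : Submodule (WittVector p S) P')) ⧸
    ((wI p 𝔠 • (⊤ : Submodule (WittVector p S) P')).comap
      (wI p 𝔟 • (⊤ : Submodule (WittVector p S) P')).subtype)

variable {𝔟 𝔠}

theorem mk_eq_mk_iff {x y : ↥(wI p 𝔟 • (⊤ : Submodule (WittVector p S) P'))} :
    (Submodule.Quotient.mk x : NQ p 𝔟 𝔠 P') = Submodule.Quotient.mk y ↔
      (x : P') - (y : P') ∈ wI p 𝔠 • (⊤ : Submodule (WittVector p S) P') := by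
  rw [Submodule.Quotient.eq]
  rfl

variable (h1 : 𝔟 ^ 2 ≤ 𝔠) (h2 : ∀ b ∈ 𝔟, (p : S) * b ∈ 𝔠)

include h1 h2 in
/-- `ξ ↦ [shift ξ • m]`, a Frobenius-semilinear map `J → J P'/J' P'`. -/
noncomputable def sm (m : P') :
    ↥(wI p 𝔟) →ₛₗ[(WittVector.frobenius : WittVector p S →+* WittVector p S)] NQ p 𝔟 𝔠 P' where
  toFun ξ := Submodule.Quotient.mk
    ⟨(ξ : WittVector p S).shift 1 • m, Submodule.smul_mem_smul (shift_mem_wI ξ.2 1) Submodule.mem_top⟩
  map_add' ξ η := by
    rw [← Submodule.Quotient.mk_add, mk_eq_mk_iff]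
    change ((ξ : WittVector p S) + η).shift 1 • m -
      ((ξ : WittVector p S).shift 1 • m + (η : WittVector p S).shift 1 • m) ∈ _
    rw [← add_smul, ← sub_smul]
    exact Submodule.smul_mem_smul (wI_mono h1 (shift_add _ _ ξ.2 η.2)) Submodule.mem_top
  map_smul' w ξ := by
    rw [← Submodule.Quotient.mk_smul, mk_eq_mk_iff]
    change (w * (ξ : WittVector p S)).shift 1 • m -
      WittVector.frobenius w • ((ξ : WittVector p S).shift 1 • m) ∈ _
    rw [smul_smul, ← sub_smul]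
    exact Submodule.smul_mem_smul (shift_mul w ξ ξ.2 h1 h2) Submodule.mem_top

theorem sm_apply (m : P') (ξ : ↥(wI p 𝔟)) :
    sm h1 h2 m ξ = Submodule.Quotient.mk
      ⟨(ξ : WittVector p S).shift 1 • m,
        Submodule.smul_mem_smul (shift_mem_wI ξ.2 1) Submodule.mem_top⟩ := rfl

/-- restriction of a functional to `J P' → J`. -/
noncomputable def resJ (ℓ : P' →ₗ[WittVector p S] WittVector p S) :
    ↥(wI p 𝔟 • (⊤ : Submodule (WittVector p S) P')) →ₗ[WittVector p S] ↥(wI p 𝔟) :=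
  (ℓ.comp (Submodule.subtype _)).codRestrict _ (fun x => lin_mem_of_mem_smul_top _ ℓ x.2)

theorem resJ_coe (ℓ : P' →ₗ[WittVector p S] WittVector p S)
    (x : ↥(wI p 𝔟 • (⊤ : Submodule (WittVector p S) P'))) :
    ((resJ ℓ x : ↥(wI p 𝔟)) : WittVector p S) = ℓ (x : P') := rfl

variable {n : ℕ} (G : Fin n → P') (ℓ : Fin n → P' →ₗ[WittVector p S] WittVector p S)

/-- the pre-extension `J P' → J P'/J' P'`, `x ↦ Σ_k [shift (ℓ_k x) • G_k]`. -/
noncomputable def Vt1 :
    ↥(wI p 𝔟 • (⊤ : Submodule (WittVector p S) P'))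
      →ₛₗ[(WittVector.frobenius : WittVector p S →+* WittVector p S)] NQ p 𝔟 𝔠 P' :=
  ∑ k, (sm h1 h2 (G k)).comp (resJ (ℓ k))

theorem Vt1_apply (x : ↥(wI p 𝔟 • (⊤ : Submodule (WittVector p S) P'))) :
    Vt1 h1 h2 G ℓ x = Submodule.Quotient.mk
      ⟨∑ k, (ℓ k (x : P')).shift 1 • G k,
        Submodule.sum_mem _ fun k _ => Submodule.smul_mem_smul
          (shift_mem_wI (lin_mem_of_mem_smul_top _ (ℓ k) x.2) 1) Submodule.mem_top⟩ := by
  rw [Vt1, LinearMap.sum_apply]
  simp only [LinearMap.comp_apply, sm_apply, resJ_coe]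
  have hsum := (map_sum (Submodule.mkQ ((wI p 𝔠 • (⊤ : Submodule (WittVector p S) P')).comap
      (wI p 𝔟 • (⊤ : Submodule (WittVector p S) P')).subtype))
    (fun k => (⟨(ℓ k (x : P')).shift 1 • G k, Submodule.smul_mem_smul
          (shift_mem_wI (lin_mem_of_mem_smul_top _ (ℓ k) x.2) 1) Submodule.mem_top⟩ :
            ↥(wI p 𝔟 • (⊤ : Submodule (WittVector p S) P'))))
    Finset.univ).symm
  simp only [Submodule.mkQ_apply] at hsum
  rw [hsum]
  congr 1
  apply Subtype.ext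
  rw [Submodule.coe_sum]

/-- the extension `ṽ` of `V⁻¹` as an endomorphism of `J P'/J' P'`. -/
noncomputable def Vt :
    NQ p 𝔟 𝔠 P' →ₛₗ[(WittVector.frobenius : WittVector p S →+* WittVector p S)] NQ p 𝔟 𝔠 P' :=
  Submodule.liftQ _ (Vt1 h1 h2 G ℓ) (by
    intro x hx
    rw [Submodule.mem_comap] at hx
    rw [LinearMap.mem_ker, Vt1_apply, Submodule.Quotient.mk_eq_zero, Submodule.mem_comap]
    change ∑ k, (ℓ k (x : P')).shift 1 • G k ∈ _
    exact Submodule.sum_mem _ fun k _ => Submodule.smul_mem_smul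
      (shift_mem_wI (lin_mem_of_mem_smul_top _ (ℓ k) hx) 1) Submodule.mem_top)

theorem Vt_mk (x : ↥(wI p 𝔟 • (⊤ : Submodule (WittVector p S) P'))) :
    Vt h1 h2 G ℓ (Submodule.Quotient.mk x) = Submodule.Quotient.mk
      ⟨∑ k, (ℓ k (x : P')).shift 1 • G k,
        Submodule.sum_mem _ fun k _ => Submodule.smul_mem_smul
          (shift_mem_wI (lin_mem_of_mem_smul_top _ (ℓ k) x.2) 1) Submodule.mem_top⟩ := by
  rw [Vt]
  erw [Submodule.liftQ_apply]
  exact Vt1_apply h1 h2 G ℓ x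

end Vtilde

end Groth.Agent.Helper7.DispRig
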