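import Mathlib
import Groth.Prelude.Def_Disp2
import Groth.Agent.Helper7.DispRigC

set_option autoImplicit false
universe u v

namespace Groth.Agent.Helper7.DispRig

open WittVector W4c1extbt610

variable {p : ℕ} [hp : Fact p.Prime] {S : Type u} [CommRing S]
variable {P' : Type v} [AddCommGroup P'] [Module (WittVector p S) P']

section Key

variable (D' : Display3n p S P') {L T : Submodule (WittVector p S) P'} (hLT : IsCompl L T)
variable {n : ℕ} (e : Fin n → P') (lam : Fin n → P' →ₗ[WittVector p S] WittVector p S)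

/-- `G_k = F (pr_T e_k)`. -/
noncomputable def GG (k : Fin n) : P' := D'.F (T.projection L hLT.symm (e k))

/-- `ℓ_k = λ_k ∘ pr_T`. -/
noncomputable def ll (k : Fin n) : P' →ₗ[WittVector p S] WittVector p S :=
  (lam k).comp (T.projection L hLT.symm)

variable (hdual : ∀ x, x = ∑ k, lam k x • e k)

include hdual in
theorem pT_eq_sum (y : P') : T.projection L hLT.symm y =
    ∑ k, lam k (T.projection L hLT.symm y) • T.projection L hLT.symm (e k) := by
  have h := hdual (T.projection L hLT.symm y)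
  have h' := congrArg (T.projection L hLT.symm) h
  rw [Submodule.projection_apply_of_mem_left hLT.symm (Submodule.projection_apply_mem hLT.symm y),
    map_sum] at h'
  simpa only [map_smul] using h'

include hdual in
theorem pL_eq_sum (y : P') : L.projection T hLT y =
    ∑ k, lam k (L.projection T hLT y) • L.projection T hLT (e k) := by
  have h := hdual (L.projection T hLT y)
  have h' := congrArg (L.projection T hLT) h
  rw [Submodule.projection_apply_of_mem_left hLT (Submodule.projection_apply_mem hLT y),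
    map_sum] at h'
  simpa only [map_smul] using h'

variable (hQ : D'.Q = L ⊔ IV p S • T)

include hQ in
theorem pT_mem_IVT (q : P') (hq : q ∈ D'.Q) : T.projection L hLT.symm q ∈ IV p S • T := by
  rw [hQ] at hq
  obtain ⟨l, hl, z, hz, rfl⟩ := Submodule.mem_sup.mp hq
  have hzT : z ∈ T := Submodule.smul_le_right hz
  rw [map_add, Submodule.projection_apply_of_mem_right hLT.symm hl,
    Submodule.projection_apply_of_mem_left hLT.symm hzT, zero_add]
  exact hz

include hQ in
theorem pL_mem_Q (x : P') : L.projection T hLT x ∈ D'.Q := by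
  rw [hQ]
  exact Submodule.mem_sup_left (Submodule.projection_apply_mem hLT x)

include hQ in
theorem pT_mem_Q (q : P') (hq : q ∈ D'.Q) : T.projection L hLT.symm q ∈ D'.Q := by
  rw [hQ]
  exact Submodule.mem_sup_right (pT_mem_IVT D' hLT hQ q hq)

variable {𝔟 𝔠 : Ideal S} (hcb : 𝔠 ≤ 𝔟) (h1 : 𝔟 ^ 2 ≤ 𝔠) (h2 : ∀ b ∈ 𝔟, (p : S) * b ∈ 𝔠)

include hdual hQ h1 h2 in
/-- `V⁻¹` of the `L`-part of an element of `J P'` lies in `J' P'`. -/
theorem Vinv_pL_mem (y : P') (hyJ : y ∈ wI p 𝔟 • (⊤ : Submodule (WittVector p S) P')) :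
    D'.Vinv ⟨L.projection T hLT y, pL_mem_Q D' hLT hQ y⟩ ∈
      wI p 𝔠 • (⊤ : Submodule (WittVector p S) P') := by
  have hsub : (⟨L.projection T hLT y, pL_mem_Q D' hLT hQ y⟩ : D'.Q) =
      ∑ k, lam k (L.projection T hLT y) •
        (⟨L.projection T hLT (e k), pL_mem_Q D' hLT hQ (e k)⟩ : D'.Q) := by
    apply Subtype.ext
    rw [Submodule.coe_sum]
    exact pL_eq_sum hLT e lam hdual y
  rw [hsub, map_sum]
  refine Submodule.sum_mem _ fun k _ => ?_
  rw [LinearMap.map_smulₛₗ]
  apply Submodule.smul_mem_smul _ Submodule.mem_top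
  apply frobenius_mem_wI _ h1 h2
  exact lin_mem_of_mem_smul_top _ (lam k) (end_mem_of_mem_smul_top _ (L.projection T hLT) hyJ)

include hdual hQ in
/-- `V⁻¹` of the `T`-part of an element of `Q`. -/
theorem Vinv_pT_eq (y : P') (hyQ : y ∈ D'.Q) :
    D'.Vinv ⟨T.projection L hLT.symm y, pT_mem_Q D' hLT hQ y hyQ⟩ =
      ∑ k, (ll hLT lam k y).shift 1 • GG D' hLT e k := by
  have hIV : ∀ k, lam k (T.projection L hLT.symm y) ∈ IV p S := fun k =>
    lin_mem_of_mem_smul_top _ (lam k)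
      (Submodule.smul_mono le_rfl le_top (pT_mem_IVT D' hLT hQ y hyQ))
  have hsub : (⟨T.projection L hLT.symm y, pT_mem_Q D' hLT hQ y hyQ⟩ : D'.Q) =
      ∑ k, (⟨verschiebung ((lam k (T.projection L hLT.symm y)).shift 1) •
          T.projection L hLT.symm (e k),
        D'.IV_smul_le (Submodule.smul_mem_smul (verschiebung_mem_IV p S _) Submodule.mem_top)⟩ :
          D'.Q) := by
    apply Subtype.ext
    rw [Submodule.coe_sum]
    simp only
    refine (pT_eq_sum hLT e lam hdual y).trans ?_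
    refine Finset.sum_congr rfl fun k _ => ?_
    rw [← eq_verschiebung_shift_of_mem_IV (hIV k)]
  rw [hsub, map_sum]
  refine Finset.sum_congr rfl fun k _ => ?_
  rw [D'.Vinv_verschiebung_smul]
  rfl

include hdual hQ hcb h1 h2 in
theorem Vinv_mem_and_Vt (y : P') (hyQ : y ∈ D'.Q)
    (hyJ : y ∈ wI p 𝔟 • (⊤ : Submodule (WittVector p S) P')) :
    ∃ h : (D'.Vinv ⟨y, hyQ⟩) ∈ wI p 𝔟 • (⊤ : Submodule (WittVector p S) P'),
      Vt h1 h2 (GG D' hLT e) (ll hLT lam) (Submodule.Quotient.mk ⟨y, hyJ⟩) =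
        Submodule.Quotient.mk ⟨D'.Vinv ⟨y, hyQ⟩, h⟩ := by
  have hsplit : (⟨y, hyQ⟩ : D'.Q) = ⟨L.projection T hLT y, pL_mem_Q D' hLT hQ y⟩ +
      ⟨T.projection L hLT.symm y, pT_mem_Q D' hLT hQ y hyQ⟩ := by
    apply Subtype.ext
    exact (Submodule.projection_add_projection_eq_self hLT y).symm
  have hV : D'.Vinv ⟨y, hyQ⟩ = D'.Vinv ⟨L.projection T hLT y, pL_mem_Q D' hLT hQ y⟩ +
      ∑ k, (ll hLT lam k y).shift 1 • GG D' hLT e k := by
    rw [hsplit, map_add, Vinv_pT_eq D' hLT e lam hdual hQ y hyQ]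
  have hr := Vinv_pL_mem D' hLT e lam hdual hQ h1 h2 y hyJ
  have hsum : ∑ k, (ll hLT lam k y).shift 1 • GG D' hLT e k ∈
      wI p 𝔟 • (⊤ : Submodule (WittVector p S) P') :=
    Submodule.sum_mem _ fun k _ => Submodule.smul_mem_smul
      (shift_mem_wI (lin_mem_of_mem_smul_top _ (ll hLT lam k) hyJ) 1) Submodule.mem_top
  have hmem : D'.Vinv ⟨y, hyQ⟩ ∈ wI p 𝔟 • (⊤ : Submodule (WittVector p S) P') := by
    rw [hV]
    exact add_mem (Submodule.smul_mono_left (wI_mono hcb) hr) hsum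
  refine ⟨hmem, ?_⟩
  rw [Vt_mk, mk_eq_mk_iff]
  change ∑ k, (ll hLT lam k y).shift 1 • GG D' hLT e k - D'.Vinv ⟨y, hyQ⟩ ∈ _
  rw [hV, sub_add_cancel_right]
  exact neg_mem hr

end Key

end Groth.Agent.Helper7.DispRig
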