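import Mathlib
import Groth.Prelude.Def_Disp2
import Groth.Agent.Helper7.DispRigD

set_option autoImplicit false
universe u v w

namespace Groth.Agent.Helper7.DispRig

open W4c1extbt610 Dieu

variable {p : ℕ} [hp : Fact p.Prime] {S : Type u} [CommRing S]
variable {P : Type v} [AddCommGroup P] [Module (WittVector p S) P]
variable {N : Type w} [AddCommGroup N] [Module (WittVector p S) N]

local notation "σ" => (WittVector.frobenius : WittVector p S →+* WittVector p S)

section Iter

variable (v : N →ₛₗ[(WittVector.frobenius : WittVector p S →+* WittVector p S)] N)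

theorem iter_smul (k : ℕ) (a : WittVector p S) (m : N) :
    v^[k] (a • m) = (σ ^ k) a • v^[k] m := by
  induction k with
  | zero => simp
  | succ k ih =>
    rw [Function.iterate_succ_apply', ih, LinearMap.map_smulₛₗ, Function.iterate_succ_apply',
      pow_succ', RingHom.mul_def, RingHom.comp_apply]

/-- `x ↦ v^{n+1} (ψ x)` as a `σ^{n+1}`-semilinear map. -/
noncomputable def theta (ψb : P →ₗ[WittVector p S] N) (n : ℕ) : P →ₛₗ[(σ ^ (n + 1))] N where
  toFun x := v^[n + 1] (ψb x)
  map_add' x y := by rw [map_add, iterate_map_add]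
  map_smul' a x := by rw [map_smul, iter_smul]

theorem theta_apply (ψb : P →ₗ[WittVector p S] N) (n : ℕ) (x : P) :
    theta v ψb n x = v^[n + 1] (ψb x) := rfl

variable (D : Display3n p S P)
  (Vs : P →ₗ[WittVector p S] BC (WittVector.frobenius : WittVector p S →+* WittVector p S) P)
  (hVs : IsVSharp D Vs)
variable (ψb : P →ₗ[WittVector p S] N) (hfix : ∀ y : D.Q, ψb (D.Vinv y) = v (ψb y))

include hVs hfix in
theorem fixed_eq (x : P) : ψb x = BC.lift σ (v.comp ψb) (Vs x) := by
  have h : ψb = (BC.lift σ (v.comp ψb)).comp Vs := by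
    apply LinearMap.ext_on D.span_range_Vinv
    rintro _ ⟨y, rfl⟩
    have h1 := hVs.app_smul_Vinv 1 y
    rw [one_smul] at h1
    rw [LinearMap.comp_apply, h1, BC.lift_tmul, one_smul, LinearMap.comp_apply]
    exact hfix y
  exact congrArg (fun g => g x) h

include hVs hfix in
theorem iter_eq (n : ℕ) : ∀ x : P, ψb x = BC.lift (σ ^ (n + 1)) (theta v ψb n) (vSharpPow Vs n x) := by
  induction n with
  | zero =>
    intro x
    rw [fixed_eq v D Vs hVs ψb hfix x, vSharpPow_zero_apply]
    generalize Vs x = z
    induction z using BC.induction_on σ with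
    | zero => simp
    | tmul a y =>
      rw [BC.castHom_tmul, BC.lift_tmul, BC.lift_tmul]
      rfl
    | add z₁ z₂ h₁ h₂ => rw [map_add, map_add, map_add, h₁, h₂]
  | succ n ih =>
    intro x
    rw [fixed_eq v D Vs hVs ψb hfix x, vSharpPow_succ_apply]
    generalize Vs x = z
    -- inner claim
    have inner : ∀ u : BC (σ ^ (n + 1)) P,
        v (BC.lift (σ ^ (n + 1)) (theta v ψb n) u) =
          BC.lift (σ ^ (n + 1 + 1)) (theta v ψb (n + 1))
            (BC.castHom (comp_pow_eq_pow_succ σ (n + 1)) (BC.push (σ ^ (n + 1)) σ u)) := by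
      intro u
      induction u using BC.induction_on (σ ^ (n + 1)) with
      | zero => simp
      | tmul a y =>
        rw [BC.lift_tmul, BC.push_tmul, BC.castHom_tmul, BC.lift_tmul, LinearMap.map_smulₛₗ,
          theta_apply, theta_apply, Function.iterate_succ_apply' _ (n + 1)]
      | add u₁ u₂ h₁ h₂ => simp only [map_add, h₁, h₂]
    induction z using BC.induction_on σ with
    | zero => simp
    | tmul a y =>
      rw [BC.lift_tmul, BC.map_tmul, BC.lift_tmul, map_smul, map_smul, LinearMap.comp_apply,
        ih y, inner]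
    | add z₁ z₂ h₁ h₂ => simp only [map_add, h₁, h₂]

include hVs hfix in
theorem psib_eq_zero (𝔞 : Ideal (WittVector p S)) (hkill : ∀ a ∈ 𝔞, ∀ m : N, a • m = 0)
    (n : ℕ) (hnil : ∀ x : P, vSharpPow Vs n x ∈
      𝔞 • (⊤ : Submodule (WittVector p S) (BC (σ ^ (n + 1)) P))) (x : P) : ψb x = 0 := by
  rw [iter_eq v D Vs hVs ψb hfix n x]
  refine Submodule.smul_induction_on (hnil x) ?_ ?_
  · intro a ha m _
    rw [map_smul]
    exact hkill a ha _
  · intro y z hy hz
    rw [map_add, hy, hz, add_zero]

end Iter

end Groth.Agent.Helper7.DispRig
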