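import Mathlib
import Groth.Prelude.Def_Disp2
import Groth.Agent.Helper7.DispRigE

set_option autoImplicit false
universe u v

namespace Groth.Agent.Helper7.DispRig

open W4c1extbt610 Dieu

variable {p : ℕ} [hp : Fact p.Prime] {S : Type u} [CommRing S]
variable {P : Type v} [AddCommGroup P] [Module (WittVector p S) P]
variable {P' : Type v} [AddCommGroup P'] [Module (WittVector p S) P']

local notation "σ" => (WittVector.frobenius : WittVector p S →+* WittVector p S)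

/-- `(I_S + pW) · J ⊆ J'`. -/
theorem kill_mem {𝔟 𝔠 : Ideal S} (h1 : 𝔟 ^ 2 ≤ 𝔠) (h2 : ∀ b ∈ 𝔟, (p : S) * b ∈ 𝔠)
    {a : WittVector p S} (ha : a ∈ IV p S ⊔ Ideal.span {(p : WittVector p S)})
    {ξ : WittVector p S} (hξ : ξ ∈ wI p 𝔟) : a * ξ ∈ wI p 𝔠 := by
  obtain ⟨i, hi, c, hc, rfl⟩ := Submodule.mem_sup.mp ha
  obtain ⟨c', rfl⟩ := Ideal.mem_span_singleton'.mp hc
  rw [add_mul]
  apply add_mem
  · rw [eq_verschiebung_shift_of_mem_IV hi]
    exact verschiebung_mul_mem_wI hξ h1 h2 _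
  · rw [mul_assoc]
    exact Ideal.mul_mem_left _ _ (natCast_mul_mem_wI hξ h1 h2)

/-- one step of the rigidity argument. -/
theorem step (D : Display3n p S P) (D' : Display3n p S P')
    (Vs : P →ₗ[WittVector p S] BC σ P) (hVs : IsVSharp D Vs) (hnil : IsVNilpotent Vs)
    (ψ : P →ₗ[WittVector p S] P') (hψ : IsHom D D' ψ)
    {𝔟 𝔠 : Ideal S} (hcb : 𝔠 ≤ 𝔟) (h1 : 𝔟 ^ 2 ≤ 𝔠) (h2 : ∀ b ∈ 𝔟, (p : S) * b ∈ 𝔠)
    (hψJ : ∀ x, ψ x ∈ wI p 𝔟 • (⊤ : Submodule (WittVector p S) P')) :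
    ∀ x, ψ x ∈ wI p 𝔠 • (⊤ : Submodule (WittVector p S) P') := by
  obtain ⟨L, T, hLT, hQ⟩ := D'.exists_normal
  haveI := D'.finite
  haveI := D'.projective
  obtain ⟨n, f, g, -, -, hfg⟩ := Module.Finite.exists_comp_eq_id_of_projective (WittVector p S) P'
  let e : Fin n → P' := fun k => f (fun j => if k = j then 1 else 0)
  let lam : Fin n → P' →ₗ[WittVector p S] WittVector p S := fun k => (LinearMap.proj k).comp g
  have hdual : ∀ x, x = ∑ k, lam k x • e k := by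
    intro x
    have h := LinearMap.pi_apply_eq_sum_univ f (g x)
    have h' : f (g x) = x := congrArg (fun φ => φ x) hfg
    rw [h'] at h
    exact h
  obtain ⟨m, hm⟩ := hnil
  -- the reduction of ψ
  let ψb : P →ₗ[WittVector p S] NQ p 𝔟 𝔠 P' :=
    (Submodule.mkQ _).comp (ψ.codRestrict _ hψJ)
  have hfix : ∀ y : D.Q, ψb (D.Vinv y) =
      Vt h1 h2 (GG D' hLT e) (ll hLT lam) (ψb y) := by
    intro y
    obtain ⟨hmem, hVt⟩ := Vinv_mem_and_Vt D' hLT e lam hdual hQ hcb h1 h2 (ψ y)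
      (hψ.mapsTo y y.2) (hψJ y)
    change Submodule.Quotient.mk ⟨ψ (D.Vinv y), hψJ _⟩ =
      Vt h1 h2 (GG D' hLT e) (ll hLT lam) (Submodule.Quotient.mk ⟨ψ y, hψJ _⟩)
    rw [hVt]
    congr 2
    exact hψ.comm_Vinv y
  have hkill : ∀ a ∈ IV p S ⊔ Ideal.span {(p : WittVector p S)},
      ∀ z : NQ p 𝔟 𝔠 P', a • z = 0 := by
    intro a ha z
    obtain ⟨x', rfl⟩ := Submodule.Quotient.mk_surjective
      ((wI p 𝔠 • (⊤ : Submodule (WittVector p S) P')).comap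
        (wI p 𝔟 • (⊤ : Submodule (WittVector p S) P')).subtype) z
    obtain ⟨x, hx⟩ := x'
    rw [← Submodule.Quotient.mk_smul, Submodule.Quotient.mk_eq_zero, Submodule.mem_comap]
    change a • x ∈ _
    refine Submodule.smul_induction_on hx ?_ ?_
    · intro ξ hξ y _
      rw [smul_smul]
      exact Submodule.smul_mem_smul (kill_mem h1 h2 ha hξ) Submodule.mem_top
    · intro y z hy hz
      rw [smul_add]
      exact add_mem hy hz
  intro x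
  have h0 := psib_eq_zero (Vt h1 h2 (GG D' hLT e) (ll hLT lam)) D Vs hVs ψb hfix _ hkill m hm x
  have h0' : (Submodule.Quotient.mk
      (⟨ψ x, hψJ x⟩ : ↥(wI p 𝔟 • (⊤ : Submodule (WittVector p S) P'))) : NQ p 𝔟 𝔠 P') = 0 := h0
  rw [Submodule.Quotient.mk_eq_zero, Submodule.mem_comap] at h0'
  exact h0'

/-- Rigidity: a homomorphism from a display to a 3n-display with values in `W(𝔞) P'`, `𝔞` nilpotent,
vanishes. -/
theorem rigidity (hpn : IsNilpotent (p : S)) (𝔞 : Ideal S) (h𝔞 : IsNilpotent 𝔞)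
    (D : Display3n p S P) (D' : Display3n p S P') (hD : IsDisplay D)
    (ψ : P →ₗ[WittVector p S] P') (hψ : IsHom D D' ψ)
    (hψ𝔞 : ∀ x, ψ x ∈ wI p 𝔞 • (⊤ : Submodule (WittVector p S) P')) : ψ = 0 := by
  obtain ⟨Vs, hVs, hnil⟩ := hD
  set 𝔫 : Ideal S := 𝔞 ⊔ Ideal.span {(p : S)} with h𝔫
  have hpn' : (p : S) ∈ 𝔫 := Ideal.mem_sup_right (Ideal.mem_span_singleton_self _)
  have h𝔞𝔫 : 𝔞 ≤ 𝔫 := le_sup_left
  have hnil𝔫 : ∃ m, 𝔫 ^ m = ⊥ := by
    obtain ⟨a, ha⟩ := h𝔞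
    obtain ⟨b, hb⟩ := hpn
    refine ⟨a + b, ?_⟩
    rw [eq_bot_iff]
    refine Ideal.sup_pow_add_le_pow_sup_pow.trans ?_
    rw [ha, Ideal.span_singleton_pow, hb]
    simp
  have key : ∀ k : ℕ, ∀ x, ψ x ∈ wI p (𝔞 * 𝔫 ^ k) • (⊤ : Submodule (WittVector p S) P') := by
    intro k
    induction k with
    | zero => simpa using hψ𝔞
    | succ k ih =>
      apply step D D' Vs hVs hnil ψ hψ (𝔟 := 𝔞 * 𝔫 ^ k) _ _ _ ih
      · exact Ideal.mul_mono_right (Ideal.pow_le_pow_right (Nat.le_succ k))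
      · calc (𝔞 * 𝔫 ^ k) ^ 2 = (𝔞 * 𝔫 ^ k) * (𝔞 * 𝔫 ^ k) := pow_two _
          _ ≤ (𝔞 * 𝔫 ^ k) * 𝔫 := Ideal.mul_mono_right (Ideal.mul_le_left.trans h𝔞𝔫)
          _ = 𝔞 * 𝔫 ^ (k + 1) := by rw [mul_assoc, ← pow_succ]
      · intro b hb
        have : (p : S) * b ∈ (𝔞 * 𝔫 ^ k) * 𝔫 := by
          rw [mul_comm (p : S) b]
          exact Ideal.mul_mem_mul hb hpn'
        rwa [mul_assoc, ← pow_succ] at this
  obtain ⟨m, hm⟩ := hnil𝔫
  ext x
  have h := key m x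
  rw [hm, Ideal.mul_bot, wI_bot, Submodule.bot_smul, Submodule.mem_bot] at h
  rw [h, LinearMap.zero_apply]

end Groth.Agent.Helper7.DispRig
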