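import Mathlib
import Groth.Prelude.Def_Disp2
import Groth.Agent.Helper7.DispRigF

set_option autoImplicit false
universe u v

namespace Groth.Agent.Helper7.DispRig

open W4c1extbt610 Dieu WittVector MvPolynomial

variable {p : ℕ} [hp : Fact p.Prime] {S : Type u} [CommRing S]
variable {P : Type v} [AddCommGroup P] [Module (WittVector p S) P]
variable {P' : Type v} [AddCommGroup P'] [Module (WittVector p S) P']

/-- over a reduced ring in which `p = 0`, multiplication by `p` on Witt vectors is injective. -/
theorem eq_zero_of_p_mul_eq_zero {R : Type u} [CommRing R] [IsReduced R] (hpR : (p : R) = 0)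
    (y : WittVector p R) (hy : (p : WittVector p R) * y = 0) : y = 0 := by
  have h1 : frobenius (verschiebung y) = 0 := by
    rw [frobenius_verschiebung, mul_comm]; exact hy
  have h2 : verschiebung y = 0 := by
    ext n
    have h3 := congrArg (fun z : WittVector p R => z.coeff n) h1
    simp only [WittVector.zero_coeff] at h3
    rw [coeff_frobenius, frobeniusPoly, map_add, map_mul, map_pow, aeval_X, aeval_C] at h3
    have h4 : (algebraMap ℤ R) (p : ℤ) = 0 := by simpa using hpR
    rw [h4, zero_mul, add_zero] at h3
    rw [WittVector.zero_coeff]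
    exact IsReduced.eq_zero _ ⟨p, h3⟩
  exact verschiebung_injective p R (by rw [h2, map_zero])

/-- `p`-torsion Witt vectors have nilpotent coefficients (when `p` is nilpotent). -/
theorem mem_wI_nilradical_of_p_mul_eq_zero (hpn : IsNilpotent (p : S))
    (ξ : WittVector p S) (hξ : (p : WittVector p S) * ξ = 0) : ξ ∈ wI p (nilradical S) := by
  rw [wI, RingHom.mem_ker]
  haveI : IsReduced (S ⧸ nilradical S) :=
    (Ideal.isRadical_iff_quotient_reduced (nilradical S)).mp (Ideal.radical_isRadical _)
  apply eq_zero_of_p_mul_eq_zero (p := p) (R := S ⧸ nilradical S)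
  · have : (Ideal.Quotient.mk (nilradical S)) (p : S) = 0 :=
      Ideal.Quotient.eq_zero_iff_mem.mpr (mem_nilradical.mpr hpn)
    simpa using this
  · have := congrArg (WittVector.map (Ideal.Quotient.mk (nilradical S))) hξ
    rw [map_mul, map_natCast, map_zero] at this
    exact this

/-- The group of homomorphisms of displays has no `p`-torsion when the nilradical is nilpotent. -/
theorem no_p_torsion (hpn : IsNilpotent (p : S)) (hn : IsNilpotent (nilradical S))
    (D : Display3n p S P) (D' : Display3n p S P') (hD : IsDisplay D)
    (ψ : P →ₗ[WittVector p S] P') (hψ : IsHom D D' ψ)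
    (h : (p : WittVector p S) • ψ = 0) : ψ = 0 := by
  apply rigidity hpn (nilradical S) hn D D' hD ψ hψ
  intro x
  haveI := D'.finite
  haveI := D'.projective
  obtain ⟨n, f, g, -, -, hfg⟩ := Module.Finite.exists_comp_eq_id_of_projective (WittVector p S) P'
  have h1 := LinearMap.pi_apply_eq_sum_univ f (g (ψ x))
  have h' : f (g (ψ x)) = ψ x := congrArg (fun φ => φ (ψ x)) hfg
  rw [h'] at h1
  rw [h1]
  refine Submodule.sum_mem _ fun k _ => Submodule.smul_mem_smul ?_ Submodule.mem_top
  apply mem_wI_nilradical_of_p_mul_eq_zero hpn
  have h2 : (p : WittVector p S) • ψ x = 0 := by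
    have := congrArg (fun φ => φ x) h
    rw [LinearMap.smul_apply, LinearMap.zero_apply] at this
    exact this
  have h3 : g ((p : WittVector p S) • ψ x) k = 0 := by rw [h2, map_zero]; rfl
  rw [map_smul, Pi.smul_apply, smul_eq_mul] at h3
  exact h3

end Groth.Agent.Helper7.DispRig
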