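import Mathlib
import Groth.Prelude.Def_Disp2
import Groth.Agent.Helper7.DispRigG

set_option autoImplicit false
universe u v

namespace Groth.Agent.Helper7.DispRig

open Dieu TensorProduct

section Ker

variable {A : Type u} {B : Type u} [CommRing A] [CommRing B] (g : A →+* B)
variable {M : Type v} [AddCommGroup M] [Module A M]

/-- `Res g → A / ker g` for surjective `g`. -/
noncomputable def resToQuot (hg : Function.Surjective g) : Res g →ₗ[A] (A ⧸ RingHom.ker g) where
  toFun b := (RingHom.quotientKerEquivOfSurjective hg).symm (Res.val b)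
  map_add' b c := by rw [Res.val_add, map_add]
  map_smul' a b := by
    rw [Res.val_smul, map_mul, RingHom.quotientKerEquivOfSurjective_symm_apply, RingHom.id_apply,
      Algebra.smul_def]
    rfl

theorem mem_ker_smul_top_of_tmul_one_eq_zero (hg : Function.Surjective g) (x : M)
    (h : BC.tmul g 1 x = 0) : x ∈ (RingHom.ker g) • (⊤ : Submodule A M) := by
  have h' : (Res.mk g 1) ⊗ₜ[A] x = (0 : Res g ⊗[A] M) := h
  have h2 := congrArg (fun z => (TensorProduct.quotTensorEquivQuotSMul M (RingHom.ker g))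
    ((LinearMap.rTensor M (resToQuot g hg)) z)) h'
  simp only [LinearMap.rTensor_tmul, map_zero] at h2
  have h3 : resToQuot g hg (Res.mk g 1) = Ideal.Quotient.mk (RingHom.ker g) 1 := by
    change (RingHom.quotientKerEquivOfSurjective hg).symm (1 : B) = _
    rw [map_one, map_one]
  rw [h3, TensorProduct.quotTensorEquivQuotSMul_mk_tmul, one_smul,
    Submodule.Quotient.mk_eq_zero] at h2
  exact h2

theorem tmul_one_eq_zero_of_mem {x : M} (hx : x ∈ (RingHom.ker g) • (⊤ : Submodule A M)) :
    BC.tmul g 1 x = 0 := by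
  refine Submodule.smul_induction_on hx ?_ ?_
  · intro a ha m _
    rw [← BC.tmul_apply_eq, (RingHom.mem_ker).mp ha, BC.zero_tmul]
  · intro y z hy hz
    rw [BC.tmul_add, hy, hz, add_zero]

theorem exists_tmul_one_eq (hg : Function.Surjective g) (z : BC g M) : ∃ y : M, BC.tmul g 1 y = z := by
  induction z using BC.induction_on g with
  | zero => exact ⟨0, BC.tmul_zero g 1⟩
  | tmul b x =>
    obtain ⟨a, rfl⟩ := hg b
    exact ⟨a • x, (BC.tmul_apply_eq g a x).symm⟩
  | add z₁ z₂ h₁ h₂ =>
    obtain ⟨y₁, rfl⟩ := h₁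
    obtain ⟨y₂, rfl⟩ := h₂
    exact ⟨y₁ + y₂, BC.tmul_add g 1 y₁ y₂⟩

theorem tmul_one_sub (x y : M) : BC.tmul g 1 (x - y) = BC.tmul g 1 x - BC.tmul g 1 y := by
  rw [sub_eq_add_neg, BC.tmul_add, BC.tmul_neg, ← sub_eq_add_neg]

theorem tmul_one_smul (a : A) (x : M) : BC.tmul g 1 (a • x) = g a • BC.tmul g 1 x := by
  rw [← BC.tmul_apply_eq, BC.smul_tmul, mul_one]

end Ker

end Groth.Agent.Helper7.DispRig
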