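import Mathlib
import Groth.Prelude.Def_Disp2
import Groth.Agent.Helper7.DispRigH

set_option autoImplicit false
universe u v

namespace Groth.Agent.Helper7.DispRig

open Dieu W4c1extbt610

variable {p : ℕ} [hp : Fact p.Prime] {S R : Type u} [CommRing S] [CommRing R]

theorem ker_map_eq (f : S →+* R) :
    RingHom.ker (WittVector.map f : WittVector p S →+* WittVector p R) = wI p (RingHom.ker f) := by
  ext x
  rw [RingHom.mem_ker, mem_wI, WittVector.ext_iff]
  simp only [WittVector.map_coeff, WittVector.zero_coeff, RingHom.mem_ker]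

/-- a power of `p` kills `W(𝔞)` when `𝔞` and `p` are nilpotent. -/
theorem exists_pow_p_kills (hpn : IsNilpotent (p : S)) (𝔞 : Ideal S) (h𝔞 : IsNilpotent 𝔞) :
    ∃ N : ℕ, ∀ ξ ∈ wI p 𝔞, (p : WittVector p S) ^ N * ξ = 0 := by
  set 𝔫 : Ideal S := 𝔞 ⊔ Ideal.span {(p : S)} with h𝔫
  have hpn' : (p : S) ∈ 𝔫 := Ideal.mem_sup_right (Ideal.mem_span_singleton_self _)
  have h𝔞𝔫 : 𝔞 ≤ 𝔫 := le_sup_left
  have hnil𝔫 : ∃ m, 𝔫 ^ m = ⊥ := by
    obtain ⟨a, ha⟩ := h𝔞
    obtain ⟨b, hb⟩ := hpn
    refine ⟨a + b, ?_⟩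
    rw [eq_bot_iff]
    refine Ideal.sup_pow_add_le_pow_sup_pow.trans ?_
    rw [ha, Ideal.span_singleton_pow, hb]
    simp
  have key : ∀ k : ℕ, ∀ ξ ∈ wI p 𝔞, (p : WittVector p S) ^ k * ξ ∈ wI p (𝔞 * 𝔫 ^ k) := by
    intro k
    induction k with
    | zero => intro ξ hξ; simpa using hξ
    | succ k ih =>
      intro ξ hξ
      have e1 : (p : WittVector p S) ^ (k + 1) * ξ =
          (p : WittVector p S) * ((p : WittVector p S) ^ k * ξ) := by
        rw [pow_succ']; ring
      rw [e1]
      apply natCast_mul_mem_wI (ih ξ hξ)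
      · calc (𝔞 * 𝔫 ^ k) ^ 2 = (𝔞 * 𝔫 ^ k) * (𝔞 * 𝔫 ^ k) := pow_two _
          _ ≤ (𝔞 * 𝔫 ^ k) * 𝔫 := Ideal.mul_mono_right (Ideal.mul_le_left.trans h𝔞𝔫)
          _ = 𝔞 * 𝔫 ^ (k + 1) := by rw [mul_assoc, ← pow_succ]
      · intro b hb
        have : (p : S) * b ∈ (𝔞 * 𝔫 ^ k) * 𝔫 := by
          rw [mul_comm (p : S) b]
          exact Ideal.mul_mem_mul hb hpn'
        rwa [mul_assoc, ← pow_succ] at this
  obtain ⟨m, hm⟩ := hnil𝔫
  refine ⟨m, fun ξ hξ => ?_⟩
  have h := key m ξ hξ
  rw [hm, Ideal.mul_bot, wI_bot, Ideal.mem_bot] at h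
  exact h

variable {P : Type v} [AddCommGroup P] [Module (WittVector p S) P]
variable {P' : Type v} [AddCommGroup P'] [Module (WittVector p S) P']

section BCQ

variable (f : S →+* R) (hf : Function.Surjective f)

theorem tmul_one_mem_QR {D : Display3n p S P}
    {DR : Display3n p R (BC (WittVector.map f : WittVector p S →+* WittVector p R) P)}
    (hDR : IsDispBaseChange f D DR) (y : P) (hy : y ∈ D.Q) :
    BC.tmul (WittVector.map f : WittVector p S →+* WittVector p R) 1 y ∈ DR.Q := by
  rw [hDR.Q_eq, LinearMap.mem_ker, bcQuotMap_tmul]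
  have : D.Q.mkQ y = 0 := by
    rw [Submodule.mkQ_apply, Submodule.Quotient.mk_eq_zero]; exact hy
  rw [this, BC.tmul_zero]

include hf in
/-- elements of `P` whose image lies in `Q_R` lie in `Q + W(𝔞) P`. -/
theorem exists_sub_mem_of_tmul_mem_QR {D : Display3n p S P}
    {DR : Display3n p R (BC (WittVector.map f : WittVector p S →+* WittVector p R) P)}
    (hDR : IsDispBaseChange f D DR) (z : P)
    (hz : BC.tmul (WittVector.map f : WittVector p S →+* WittVector p R) 1 z ∈ DR.Q) :
    ∃ q ∈ D.Q, z - q ∈ wI p (RingHom.ker f) • (⊤ : Submodule (WittVector p S) P) := by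
  rw [hDR.Q_eq, LinearMap.mem_ker, bcQuotMap_tmul, map_one] at hz
  have hsurj : Function.Surjective ((WittVector.constantCoeff : WittVector p R →+* R).comp
      (WittVector.map f : WittVector p S →+* WittVector p R)) := by
    intro r
    obtain ⟨s, rfl⟩ := hf r
    refine ⟨WittVector.teichmuller p s, ?_⟩
    simp [WittVector.constantCoeff_apply, WittVector.map_coeff, WittVector.teichmuller_coeff_zero]
  have h1 := mem_ker_smul_top_of_tmul_one_eq_zero _ hsurj _ hz
  -- transport along mkQ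
  have h2 : (RingHom.ker ((WittVector.constantCoeff : WittVector p R →+* R).comp
      (WittVector.map f : WittVector p S →+* WittVector p R))) •
      (⊤ : Submodule (WittVector p S) (P ⧸ D.Q)) =
      ((RingHom.ker ((WittVector.constantCoeff : WittVector p R →+* R).comp
      (WittVector.map f : WittVector p S →+* WittVector p R))) •
      (⊤ : Submodule (WittVector p S) P)).map D.Q.mkQ := by
    rw [Submodule.map_smul'', Submodule.map_top, Submodule.range_mkQ]
  rw [h2] at h1
  obtain ⟨z', hz', hzz'⟩ := h1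
  -- z' ∈ K + Q
  have h3 : z' ∈ wI p (RingHom.ker f) • (⊤ : Submodule (WittVector p S) P) ⊔ D.Q := by
    refine Submodule.smul_induction_on hz' ?_ ?_
    · intro a ha m _
      rw [RingHom.mem_ker, RingHom.comp_apply, WittVector.constantCoeff_apply,
        WittVector.map_coeff] at ha
      rw [eq_teichmuller_add_verschiebung_shift a, add_smul]
      apply Submodule.add_mem
      · apply Submodule.mem_sup_left
        apply Submodule.smul_mem_smul _ Submodule.mem_top
        exact teichmuller_mem_wI ((RingHom.mem_ker).mpr ha)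
      · apply Submodule.mem_sup_right
        exact D.IV_smul_le (Submodule.smul_mem_smul (verschiebung_mem_IV p S _) Submodule.mem_top)
    · intro x y hx hy
      exact Submodule.add_mem _ hx hy
  obtain ⟨k, hk, q, hq, rfl⟩ := Submodule.mem_sup.mp h3
  have h4 : z - (k + q) ∈ D.Q := by
    rw [← Submodule.Quotient.mk_eq_zero, Submodule.Quotient.mk_sub, sub_eq_zero]
    exact hzz'.symm
  refine ⟨(z - (k + q)) + q, Submodule.add_mem _ h4 hq, ?_⟩
  have : z - (z - (k + q) + q) = k := by abel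
  rw [this]
  exact hk

end BCQ

end Groth.Agent.Helper7.DispRig
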