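import Mathlib
import Groth.Prelude.Def_Disp2
import Groth.Agent.Helper7.DispRigI

set_option autoImplicit false
universe u v

namespace Groth.Agent.Helper7.DispRig

open Dieu W4c1extbt610

variable {p : ℕ} [hp : Fact p.Prime] {S R : Type u} [CommRing S] [CommRing R]
variable {P : Type v} [AddCommGroup P] [Module (WittVector p S) P]
variable {P' : Type v} [AddCommGroup P'] [Module (WittVector p S) P']

/-- `W(f)`. -/
noncomputable abbrev Wf (p : ℕ) [Fact p.Prime] (f : S →+* R) : WittVector p S →+* WittVector p R :=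
  WittVector.map f

/-- the difference of two homomorphisms of 3n-displays is one. -/
theorem isHom_sub {D : Display3n p S P} {D' : Display3n p S P'}
    {ψ χ : P →ₗ[WittVector p S] P'} (hψ : IsHom D D' ψ) (hχ : IsHom D D' χ) :
    IsHom D D' (ψ - χ) where
  mapsTo q hq := by
    rw [LinearMap.sub_apply]
    exact Submodule.sub_mem _ (hψ.mapsTo q hq) (hχ.mapsTo q hq)
  comm_F x := by
    rw [LinearMap.sub_apply, LinearMap.sub_apply, hψ.comm_F, hχ.comm_F, map_sub]
  comm_Vinv q := by
    rw [LinearMap.sub_apply, hψ.comm_Vinv, hχ.comm_Vinv, ← map_sub]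
    rfl

/-- injectivity of base change on homomorphisms of displays along a nilpotent thickening. -/
theorem baseChange_injective (hpn : IsNilpotent (p : S)) (f : S →+* R)
    (hf : Function.Surjective f) (hker : IsNilpotent (RingHom.ker f))
    (D : Display3n p S P) (D' : Display3n p S P') (hD : IsDisplay D)
    (ψ χ : P →ₗ[WittVector p S] P') (hψ : IsHom D D' ψ) (hχ : IsHom D D' χ)
    (h : BC.map (WittVector.map f : WittVector p S →+* WittVector p R) ψ =
      BC.map (WittVector.map f : WittVector p S →+* WittVector p R) χ) : ψ = χ := by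
  rw [← sub_eq_zero]
  apply rigidity hpn (RingHom.ker f) hker D D' hD (ψ - χ) (isHom_sub hψ hχ)
  intro x
  rw [← ker_map_eq]
  apply mem_ker_smul_top_of_tmul_one_eq_zero _ (WittVector.map_surjective f hf)
  rw [LinearMap.sub_apply, tmul_one_sub, sub_eq_zero]
  have := congrArg (fun φ => φ (BC.tmul (WittVector.map f : WittVector p S →+* WittVector p R) 1 x)) h
  simpa only [BC.map_tmul] using this

/-- the cokernel of base change on homomorphisms of displays is `p`-power torsion. -/
theorem baseChange_coker (hpn : IsNilpotent (p : S)) (f : S →+* R)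
    (hf : Function.Surjective f) (hker : IsNilpotent (RingHom.ker f))
    (D : Display3n p S P) (D' : Display3n p S P')
    (DR : Display3n p R (BC (WittVector.map f : WittVector p S →+* WittVector p R) P))
    (hDR : IsDispBaseChange f D DR)
    (DR' : Display3n p R (BC (WittVector.map f : WittVector p S →+* WittVector p R) P'))
    (hDR' : IsDispBaseChange f D' DR')
    (χ : BC (WittVector.map f : WittVector p S →+* WittVector p R) P →ₗ[WittVector p R]
      BC (WittVector.map f : WittVector p S →+* WittVector p R) P')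
    (hχ : IsHom DR DR' χ) :
    ∃ (n : ℕ) (ψ : P →ₗ[WittVector p S] P'), IsHom D D' ψ ∧
      BC.map (WittVector.map f : WittVector p S →+* WittVector p R) ψ =
        ((p : WittVector p R) ^ n) • χ := by
  have hgsurj : Function.Surjective (Wf p f) := WittVector.map_surjective f hf
  -- a lift ψ₀ of χ
  haveI := D.finite
  haveI := D.projective
  obtain ⟨n, fP, gP, -, -, hfg⟩ := Module.Finite.exists_comp_eq_id_of_projective (WittVector p S) P
  let e : Fin n → P := fun k => fP (fun j => if k = j then 1 else 0)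
  let lam : Fin n → P →ₗ[WittVector p S] WittVector p S := fun k => (LinearMap.proj k).comp gP
  have hdual : ∀ x, x = ∑ k, lam k x • e k := by
    intro x
    have h := LinearMap.pi_apply_eq_sum_univ fP (gP x)
    have h' : fP (gP x) = x := congrArg (fun φ => φ x) hfg
    rw [h'] at h
    exact h
  choose y hy using fun k => exists_tmul_one_eq (Wf p f) hgsurj (χ (BC.tmul (Wf p f) 1 (e k)))
  let ψ₀ : P →ₗ[WittVector p S] P' := ∑ k, (lam k).smulRight (y k)
  have hψ₀ : ∀ x, ψ₀ x = ∑ k, lam k x • y k := by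
    intro x
    simp only [ψ₀, LinearMap.sum_apply, LinearMap.smulRight_apply]
  have hι : ∀ (M : Type v) [AddCommGroup M] [Module (WittVector p S) M] (s : Finset (Fin n))
      (c : Fin n → WittVector p S) (m : Fin n → M),
      BC.tmul (Wf p f) 1 (∑ k ∈ s, c k • m k) = ∑ k ∈ s, (Wf p f) (c k) • BC.tmul (Wf p f) 1 (m k) := by
    intro M _ _ s c m
    have := map_sum (BC.ι (Wf p f) M) (fun k => c k • m k) s
    simp only [BC.ι_apply] at this
    rw [this]
    refine Finset.sum_congr rfl fun k _ => ?_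
    exact tmul_one_smul (Wf p f) (c k) (m k)
  have hχ₀ : ∀ x, BC.tmul (Wf p f) 1 (ψ₀ x) = χ (BC.tmul (Wf p f) 1 x) := by
    intro x
    rw [hψ₀, hι]
    conv_rhs => rw [hdual x, hι, map_sum]
    refine Finset.sum_congr rfl fun k _ => ?_
    rw [map_smul, hy]
  -- the kernel
  have hK : ∀ z : P', BC.tmul (Wf p f) 1 z = 0 →
      z ∈ wI p (RingHom.ker f) • (⊤ : Submodule (WittVector p S) P') := by
    intro z hz
    rw [← ker_map_eq]
    exact mem_ker_smul_top_of_tmul_one_eq_zero _ hgsurj z hz
  have hK' : ∀ z : P', z ∈ wI p (RingHom.ker f) • (⊤ : Submodule (WittVector p S) P') →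
      BC.tmul (Wf p f) 1 z = 0 := by
    intro z hz
    rw [← ker_map_eq] at hz
    exact tmul_one_eq_zero_of_mem _ hz
  -- F-compatibility modulo the kernel
  have hF : ∀ x, ψ₀ (D.F x) - D'.F (ψ₀ x) ∈
      wI p (RingHom.ker f) • (⊤ : Submodule (WittVector p S) P') := by
    intro x
    apply hK
    rw [tmul_one_sub, sub_eq_zero, hχ₀]
    have h1 := hDR.F_tmul 1 x
    rw [map_one] at h1
    have h2 := hDR'.F_tmul 1 (ψ₀ x)
    rw [map_one] at h2
    rw [← h1, hχ.comm_F, ← hχ₀, h2]
  -- Q and Vinv compatibility modulo the kernel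
  have hV : ∀ y : D.Q, ∃ q' : D'.Q,
      ψ₀ y - q' ∈ wI p (RingHom.ker f) • (⊤ : Submodule (WittVector p S) P') ∧
      ψ₀ (D.Vinv y) - D'.Vinv q' ∈ wI p (RingHom.ker f) • (⊤ : Submodule (WittVector p S) P') := by
    intro y
    have hy1 : BC.tmul (Wf p f) 1 (y : P) ∈ DR.Q := tmul_one_mem_QR f hDR y y.2
    have hy2 : BC.tmul (Wf p f) 1 (ψ₀ y) ∈ DR'.Q := by
      rw [hχ₀]
      exact hχ.mapsTo _ hy1
    obtain ⟨q', hq', hsub⟩ := exists_sub_mem_of_tmul_mem_QR f hf hDR' (ψ₀ y) hy2
    refine ⟨⟨q', hq'⟩, hsub, ?_⟩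
    apply hK
    have hq1 : BC.tmul (Wf p f) 1 q' ∈ DR'.Q := tmul_one_mem_QR f hDR' q' hq'
    have e1 : BC.tmul (Wf p f) 1 (ψ₀ y) = BC.tmul (Wf p f) 1 q' := by
      have := hK' _ hsub
      rwa [tmul_one_sub, sub_eq_zero] at this
    have h1 := hDR.Vinv_tmul 1 y hy1
    rw [map_one] at h1
    have h2 := hDR'.Vinv_tmul 1 ⟨q', hq'⟩ hq1
    rw [map_one] at h2
    have h3 := hχ.comm_Vinv ⟨BC.tmul (Wf p f) 1 (y : P), hy1⟩
    rw [tmul_one_sub, sub_eq_zero, hχ₀, ← h1, h3, ← h2]
    congr 1
    apply Subtype.ext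
    change χ (BC.tmul (Wf p f) 1 (y : P)) = BC.tmul (Wf p f) 1 q'
    rw [← hχ₀, e1]
  -- the killing power of p
  obtain ⟨N, hN⟩ := exists_pow_p_kills hpn (RingHom.ker f) hker
  have hNK : ∀ z ∈ wI p (RingHom.ker f) • (⊤ : Submodule (WittVector p S) P'),
      ((p : WittVector p S) ^ N) • z = 0 := by
    intro z hz
    refine Submodule.smul_induction_on hz ?_ ?_
    · intro ξ hξ m _
      rw [smul_smul, hN ξ hξ, zero_smul]
    · intro a b ha hb
      rw [smul_add, ha, hb, add_zero]
  have hσc : WittVector.frobenius ((p : WittVector p S) ^ N) = (p : WittVector p S) ^ N := by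
    rw [map_pow, map_natCast]
  have hsub_eq : ∀ a b : P', a - b ∈ wI p (RingHom.ker f) • (⊤ : Submodule (WittVector p S) P') →
      ((p : WittVector p S) ^ N) • a = ((p : WittVector p S) ^ N) • b := by
    intro a b hab
    have := hNK _ hab
    rwa [smul_sub, sub_eq_zero] at this
  refine ⟨N, ((p : WittVector p S) ^ N) • ψ₀, ⟨?_, ?_, ?_⟩, ?_⟩
  · intro q hq
    obtain ⟨q', hq', -⟩ := hV ⟨q, hq⟩
    rw [LinearMap.smul_apply, hsub_eq _ _ hq']
    exact Submodule.smul_mem _ _ q'.2
  · intro x
    rw [LinearMap.smul_apply, LinearMap.smul_apply, hsub_eq _ _ (hF x), LinearMap.map_smulₛₗ, hσc]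
  · intro q
    obtain ⟨q', hq', hq''⟩ := hV q
    rw [LinearMap.smul_apply, hsub_eq _ _ hq'']
    have e2 : (⟨(((p : WittVector p S) ^ N) • ψ₀) (q : P), by
        rw [LinearMap.smul_apply, hsub_eq _ _ hq']
        exact Submodule.smul_mem _ _ q'.2⟩ : D'.Q) = ((p : WittVector p S) ^ N) • q' := by
      apply Subtype.ext
      change (((p : WittVector p S) ^ N) • ψ₀) (q : P) = ((p : WittVector p S) ^ N) • (q' : P')
      exact (LinearMap.smul_apply _ _ _).trans (hsub_eq _ _ hq')
    rw [e2, LinearMap.map_smulₛₗ, hσc]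
  · apply BC.ext
    intro x
    rw [BC.map_tmul, LinearMap.smul_apply, LinearMap.smul_apply, tmul_one_smul, hχ₀, map_pow,
      map_natCast]

end Groth.Agent.Helper7.DispRig
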