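import Mathlib
import Groth.Agent.Helper7.ArtinSchreier

set_option autoImplicit false
set_option linter.unusedSectionVars false
universe u v w

namespace Groth.Agent.Helper7.DivAlgP

open Polynomial Module

section

variable (K : Type u) [Field K] (p : ℕ) [Fact p.Prime] [CharP K p]

/-- The embedding of the prime field. -/
noncomputable abbrev phi : ZMod p →+* K := ZMod.castHom (dvd_refl p) K

theorem X_pow_sub_X_eq :
    (X ^ p - X : K[X]) =
      X * (((Finset.univ : Finset (ZMod p)).erase 0).toList.map
        (fun c => (X - C (phi K p c) : K[X]))).prod := by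
  have hp : p.Prime := Fact.out
  have h1 : (X ^ p - X : (ZMod p)[X]) = ∏ c : ZMod p, (X - C c) := by
    have hroots := FiniteField.roots_X_pow_card_sub_X (ZMod p)
    rw [ZMod.card] at hroots
    have hmonic : (X ^ p - X : (ZMod p)[X]).Monic :=
      monic_X_pow_sub (by rw [degree_X]; exact_mod_cast hp.one_lt)
    have hdeg : (X ^ p - X : (ZMod p)[X]).natDegree = p :=
      FiniteField.X_pow_card_sub_X_natDegree_eq (ZMod p) hp.one_lt
    have := Polynomial.prod_multiset_X_sub_C_of_monic_of_roots_card_eq hmonic
      (by rw [hroots, hdeg]; simp)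
    rw [hroots] at this
    exact this.symm
  have h2 := congrArg (Polynomial.map (phi K p)) h1
  rw [Polynomial.map_sub, Polynomial.map_pow, Polynomial.map_X, Polynomial.map_prod] at h2
  rw [h2, ← Finset.mul_prod_erase Finset.univ _ (Finset.mem_univ (0 : ZMod p)),
    Finset.prod_map_toList]
  congr 1
  · rw [Polynomial.map_sub, Polynomial.map_X, Polynomial.map_C, map_zero, map_zero, sub_zero]
  · apply Finset.prod_congr rfl
    intro c _
    rw [Polynomial.map_sub, Polynomial.map_X, Polynomial.map_C]

variable {K p}
variable {A : Type v} [Ring A] [Algebra K A]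

/-- An operator with `D ^ p = D` which is non-zero has an eigenvector with a non-zero eigenvalue
in the prime field. -/
theorem exists_eigen (D : Module.End K A) (hD : D ^ p = D) (w : A) (hw : D w ≠ 0) :
    ∃ (c : ZMod p) (u : A), c ≠ 0 ∧ u ≠ 0 ∧ D u = (phi K p c) • u := by
  by_contra H
  push Not at H
  set g : ZMod p → Module.End K A := fun c => D - algebraMap K (Module.End K A) (phi K p c) with hg
  have hpeel : ∀ l : List (ZMod p), (∀ c ∈ l, c ≠ 0) → ∀ y : A, (l.map g).prod y = 0 → y = 0 := by
    intro l
    induction l with
    | nil =>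
      intro _ y hy
      simpa using hy
    | cons c l ih =>
      intro hl y hy
      rw [List.map_cons, List.prod_cons, Module.End.mul_apply] at hy
      have hc : c ≠ 0 := hl c List.mem_cons_self
      have hz : (l.map g).prod y = 0 := by
        by_contra hne
        apply H c _ hc hne
        have : g c ((l.map g).prod y) = 0 := hy
        rw [hg] at this
        simp only [LinearMap.sub_apply, Module.algebraMap_end_apply] at this
        exact sub_eq_zero.1 this
      exact ih (fun c' hc' => hl c' (List.mem_cons_of_mem _ hc')) y hz
  set l := ((Finset.univ : Finset (ZMod p)).erase 0).toList with hl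
  have hl0 : ∀ c ∈ l, c ≠ 0 := by
    intro c hc
    rw [hl, Finset.mem_toList] at hc
    exact Finset.ne_of_mem_erase hc
  have hpoly := X_pow_sub_X_eq K p
  have h1 := congrArg (Polynomial.aeval D) hpoly
  rw [map_sub, map_pow, aeval_X, hD, sub_self, mul_comm, map_mul, aeval_X, map_list_prod,
    List.map_map] at h1
  have h2 : (l.map g).prod (D w) = 0 := by
    have h3 : (List.map ((⇑(Polynomial.aeval D)) ∘ fun c => (X - C (phi K p c) : K[X]))
        ((Finset.univ : Finset (ZMod p)).erase 0).toList) = l.map g := by
      apply List.map_congr_left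
      intro c _
      simp only [Function.comp_apply, map_sub, aeval_X, aeval_C, hg]
    rw [h3] at h1
    have := congrArg (fun E : Module.End K A => E w) h1
    simp only [Module.End.mul_apply, LinearMap.zero_apply] at this
    exact this.symm
  exact hw (hpeel l hl0 _ h2)

end

/-- A central division algebra in characteristic `p` containing a non-central element `t` with
`t ^ p - t` central has an element which is not separable over the centre. -/
theorem exists_not_isSeparable (K : Type u) [Field K] (p : ℕ) [Fact p.Prime] [CharP K p]
    (A : Type v) [DivisionRing A] [Algebra K A]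
    (t : A) (a₀ : K) (ht : t ^ p - t = algebraMap K A a₀) (w : A) (hw : t * w ≠ w * t) :
    ∃ v : A, ¬ IsSeparable K v := by
  have hcharE : CharP (Module.End K A) p :=
    charP_of_injective_algebraMap (algebraMap K (Module.End K A)).injective p
  set D : Module.End K A := LinearMap.mulLeft K t - LinearMap.mulRight K t with hD
  have hDapp : ∀ x : A, D x = t * x - x * t := fun x => rfl
  have hDp : D ^ p = D := by
    rw [hD, sub_pow_char_of_commute p (LinearMap.commute_mulLeft_right t t),
      LinearMap.pow_mulLeft, LinearMap.pow_mulRight]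
    have htp : t ^ p = t + algebraMap K A a₀ := by rw [← ht]; abel
    ext x
    simp only [LinearMap.sub_apply, LinearMap.mulLeft_apply, LinearMap.mulRight_apply]
    rw [htp, add_mul, mul_add, Algebra.commutes a₀ x]
    abel
  have hDw : D w ≠ 0 := by
    rw [hDapp]
    exact sub_ne_zero.2 hw
  obtain ⟨c, u, hc, hu, hDu⟩ := exists_eigen D hDp w hDw
  have hφc : phi K p c ≠ 0 := by
    intro h
    exact hc ((map_eq_zero_iff _ (RingHom.injective _)).1 h)
  have hleib : ∀ x y : A, D (x * y) = D x * y + x * D y := by
    intro x y
    rw [hDapp, hDapp, hDapp]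
    noncomm_ring
  have hpow : ∀ n : ℕ, D (u ^ n) = ((n : K) * phi K p c) • u ^ n := by
    intro n
    induction n with
    | zero =>
      rw [pow_zero, hDapp, mul_one, one_mul, sub_self, Nat.cast_zero, zero_mul, zero_smul]
    | succ n ih =>
      rw [pow_succ, hleib, ih, hDu, Nat.cast_succ, add_mul, one_mul, add_smul, smul_mul_assoc,
        mul_smul_comm]
  have hder : ∀ g : K[X], D (aeval u g) = (phi K p c) • (u * aeval u (derivative g)) := by
    intro g
    induction g using Polynomial.induction_on' with
    | add f g hf hg =>
      rw [map_add, map_add, hf, hg, derivative_add, map_add, mul_add, smul_add]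
    | monomial n a =>
      rw [aeval_monomial, derivative_monomial, aeval_monomial, ← Algebra.smul_def, map_smul, hpow,
        ← Algebra.smul_def]
      rcases Nat.eq_zero_or_pos n with h0 | h0
      · subst h0
        simp
      · have : u * u ^ (n - 1) = u ^ n := by
          rw [← pow_succ', Nat.sub_add_cancel h0]
        rw [mul_smul_comm, this, smul_smul, smul_smul]
        congr 1
        ring
  refine ⟨u, fun hsep => ?_⟩
  have h0 := hder (minpoly K u)
  rw [minpoly.aeval, map_zero] at h0
  have h1 : aeval u (derivative (minpoly K u)) = 0 := by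
    have h2 : u * aeval u (derivative (minpoly K u)) = 0 := by
      by_contra hne
      exact absurd h0.symm (smul_ne_zero hφc hne)
    rcases mul_eq_zero.1 h2 with h3 | h3
    · exact absurd h3 hu
    · exact h3
  have hsep' : (minpoly K u).Separable := hsep
  obtain ⟨a, b, hab⟩ := hsep'
  have h4 := congrArg (aeval u) hab
  rw [map_add, map_mul, map_mul, minpoly.aeval, h1, mul_zero, mul_zero, add_zero, map_one] at h4
  exact zero_ne_one h4

section DegP

variable (K : Type u) [Field K] (A : Type v) [DivisionRing A] [Algebra K A]
  [FiniteDimensional K A]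

/-- The embedding of the simple extension generated by an element of a division algebra. -/
noncomputable def adjoinRootHom (x : A) : AdjoinRoot (minpoly K x) →ₐ[K] A :=
  Ideal.Quotient.liftₐ (Ideal.span {minpoly K x}) (aeval x : K[X] →ₐ[K] A) (by
    intro a ha
    obtain ⟨q, rfl⟩ := Ideal.mem_span_singleton.1 ha
    rw [map_mul, minpoly.aeval, zero_mul])

theorem adjoinRootHom_root (x : A) : adjoinRootHom K A x (AdjoinRoot.root (minpoly K x)) = x := by
  show Ideal.Quotient.liftₐ _ (aeval x : K[X] →ₐ[K] A) _ (Ideal.Quotient.mk _ X) = x
  rw [Ideal.Quotient.liftₐ_apply, Ideal.Quotient.lift_mk]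
  exact aeval_X x

theorem irreducible_minpoly (x : A) : Irreducible (minpoly K x) :=
  minpoly.irreducible (IsIntegral.of_finite K x)

/-- The degree of a non-central element of a central division algebra of dimension `p ^ 2`. -/
theorem natDegree_minpoly_eq [Algebra.IsCentral K A] (p : ℕ) (hp : p.Prime)
    (hA : Module.finrank K A = p ^ 2) (x : A) (hx : x ∉ Set.range (algebraMap K A)) :
    (minpoly K x).natDegree = p := by
  have hirr := irreducible_minpoly K A x
  have : Fact (Irreducible (minpoly K x)) := ⟨hirr⟩
  set F := AdjoinRoot (minpoly K x) with hF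
  set φ := adjoinRootHom K A x with hφ
  have hφinj : Function.Injective φ := φ.toRingHom.injective
  let _ : Module F A := Module.compHom A φ.toRingHom
  have hsmul : ∀ (f : F) (a : A), f • a = φ f * a := fun f a => rfl
  have : IsScalarTower K F A := ⟨fun k f a => by
    rw [hsmul, hsmul, map_smul, smul_mul_assoc]⟩
  have htower := Module.finrank_mul_finrank K F A
  have hne : minpoly K x ≠ 0 := hirr.ne_zero
  have hfin : Module.finrank K F = (minpoly K x).natDegree := by
    rw [(AdjoinRoot.powerBasis hne).finrank, AdjoinRoot.powerBasis_dim]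
  rw [hfin, hA] at htower
  have hdvd : (minpoly K x).natDegree ∣ p ^ 2 := ⟨_, htower.symm⟩
  obtain ⟨k, hk, hkeq⟩ := (Nat.dvd_prime_pow hp).1 hdvd
  interval_cases k
  · -- degree one: central
    exfalso
    rw [pow_zero] at hkeq
    have := (minpoly.natDegree_eq_one_iff).1 hkeq
    exact hx this
  · rw [pow_one] at hkeq
    exact hkeq
  · -- degree p^2 : A would be commutative
    exfalso
    rw [hkeq] at htower
    have hpos : 0 < p ^ 2 := pow_pos hp.pos 2
    have h1 : Module.finrank F A = 1 := by
      have : p ^ 2 * Module.finrank F A = p ^ 2 * 1 := by rw [htower, mul_one]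
      exact Nat.eq_of_mul_eq_mul_left hpos this
    obtain ⟨v, hv, hspan⟩ := finrank_eq_one_iff'.1 h1
    obtain ⟨c₀, hc₀⟩ := hspan 1
    have hc₀' : φ c₀ * v = 1 := hc₀
    have hrange : ∀ w : A, ∃ c : F, φ c = w := by
      intro w
      obtain ⟨c, hc⟩ := hspan w
      have hc' : φ c * v = w := hc
      have hc₀ne : φ c₀ ≠ 0 := by
        intro h0
        rw [h0, zero_mul] at hc₀'
        exact zero_ne_one hc₀'
      have hv' : v = (φ c₀)⁻¹ := eq_inv_of_mul_eq_one_right hc₀'
      refine ⟨c * c₀⁻¹, ?_⟩
      rw [map_mul, map_inv₀, ← hv', hc']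
    apply hx
    have hcentral : x ∈ Subalgebra.center K A := by
      rw [Subalgebra.mem_center_iff]
      intro b
      obtain ⟨c, rfl⟩ := hrange b
      obtain ⟨c', hc'⟩ := hrange x
      calc φ c * x = φ c * φ c' := by rw [hc']
        _ = φ c' * φ c := by rw [← map_mul, ← map_mul, mul_comm]
        _ = x * φ c := by rw [hc']
    rw [Algebra.IsCentral.center_eq_bot, Algebra.mem_bot] at hcentral
    exact hcentral

end DegP

end Groth.Agent.Helper7.DivAlgP
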