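import Mathlib
import Groth.Agent.Helper7.DivAlgP
import Groth.Agent.S0188
import Groth.Prelude.Def_GSzCSA

set_option autoImplicit false
set_option linter.unusedSectionVars false
universe u v w

namespace Groth.Agent.Helper7.DivAlgK

open Polynomial Module Groth.Agent.Helper7.DivAlgP

section

variable (K : Type u) [Field K] (A : Type v) [DivisionRing A] [Algebra K A]
  [Algebra.IsCentral K A] [FiniteDimensional K A]

/-- The degree of an element of a central division algebra of dimension `n ^ 2` divides `n`. -/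
theorem natDegree_minpoly_dvd (n : ℕ) (hn : Module.finrank K A = n ^ 2) (x : A) :
    (minpoly K x).natDegree ∣ n := by
  have hirr := irreducible_minpoly K A x
  have : Fact (Irreducible (minpoly K x)) := ⟨hirr⟩
  set F := AdjoinRoot (minpoly K x) with hF
  set φ := adjoinRootHom K A x with hφ
  have hφinj : Function.Injective φ := φ.toRingHom.injective
  have hne : minpoly K x ≠ 0 := hirr.ne_zero
  have hfin : Module.finrank K F = (minpoly K x).natDegree := by
    rw [(AdjoinRoot.powerBasis hne).finrank, AdjoinRoot.powerBasis_dim]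
  -- the image of F
  set B : Subalgebra K A := φ.range with hB
  let e : F ≃ₐ[K] B := AlgEquiv.ofInjective φ hφinj
  have hBs : IsSimpleRing B := IsSimpleRing.of_ringEquiv e.toRingEquiv inferInstance
  have hBfin : Module.finrank K B = (minpoly K x).natDegree := by
    rw [← hfin]; exact (e.toLinearEquiv.finrank_eq).symm
  have h188 := Groth.Agent.S0188.result K A B
  set Cn := Subalgebra.centralizer K (B : Set A) with hC
  have hBC : ∀ f : F, φ f ∈ Cn := by
    intro f
    rw [hC, Subalgebra.mem_centralizer_iff]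
    rintro _ ⟨g, rfl⟩
    change φ g * φ f = φ f * φ g
    rw [← map_mul, ← map_mul, mul_comm]
  let ψ : F →ₐ[K] Cn := φ.codRestrict Cn hBC
  let _ : Module F Cn := Module.compHom Cn ψ.toRingHom
  have hsmul : ∀ (f : F) (a : Cn), f • a = ψ f * a := fun f a => rfl
  have : IsScalarTower K F Cn := ⟨fun k f a => by
    rw [hsmul, hsmul, map_smul, smul_mul_assoc]⟩
  have htower := Module.finrank_mul_finrank K F Cn
  rw [hfin] at htower
  rw [hn, hBfin, ← htower, ← mul_assoc, ← sq] at h188
  have hdvd : (minpoly K x).natDegree ^ 2 ∣ n ^ 2 := ⟨_, h188⟩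
  exact (Nat.pow_dvd_pow_iff (by norm_num)).1 hdvd


/-- Kummer: if `K` contains all roots of unity and some power of `x` is in `K`, then
`x ^ deg x` is in `K`. -/
theorem exists_pow_natDegree_eq (hK : ∀ n : ℕ, 0 < n → (X ^ n - 1 : K[X]).Splits)
    (x : A) (hx : x ≠ 0) (hxm : ∃ m : ℕ, 0 < m ∧ x ^ m ∈ (algebraMap K A).range) :
    ∃ c : K, x ^ (minpoly K x).natDegree = algebraMap K A c := by
  obtain ⟨m, hm, a, ha⟩ := hxm
  have hirr := irreducible_minpoly K A x
  have : Fact (Irreducible (minpoly K x)) := ⟨hirr⟩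
  set F := AdjoinRoot (minpoly K x) with hF
  set φ := adjoinRootHom K A x with hφ
  have hφinj : Function.Injective φ := φ.toRingHom.injective
  have hne : minpoly K x ≠ 0 := hirr.ne_zero
  have hfin : Module.finrank K F = (minpoly K x).natDegree := by
    rw [(AdjoinRoot.powerBasis hne).finrank, AdjoinRoot.powerBasis_dim]
  have : Module.Finite K F := (AdjoinRoot.powerBasis hne).finite
  set r := (minpoly K x).natDegree with hr
  set y : F := AdjoinRoot.root (minpoly K x) with hy
  have hφy : φ y = x := adjoinRootHom_root K A x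
  have hy0 : y ≠ 0 := by
    intro h0
    rw [h0, map_zero] at hφy
    exact hx hφy.symm
  have hym : y ^ m = algebraMap K F a := by
    apply hφinj
    rw [map_pow, hφy, AlgHom.commutes, ha]
  set c := Algebra.norm K y with hc
  have hc0 : c ≠ 0 := by
    rw [hc, Ne, Algebra.norm_eq_zero_iff]
    exact hy0
  have hcm : c ^ m = a ^ r := by
    rw [hc, ← map_pow, hym, Algebra.norm_algebraMap, hfin]
  set u : F := y ^ r * (algebraMap K F c)⁻¹ with hu
  have hcF : algebraMap K F c ≠ 0 := by
    rw [Ne, map_eq_zero]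
    exact hc0
  have hum : u ^ m = 1 := by
    rw [hu, mul_pow, ← pow_mul, mul_comm r m, pow_mul, hym, inv_pow, ← map_pow, ← map_pow, hcm]
    exact mul_inv_cancel₀ (by rw [Ne, map_eq_zero, ← hcm]; exact pow_ne_zero _ hc0)
  have hroot : ((X ^ m - 1 : K[X]).map (algebraMap K F)).IsRoot u := by
    rw [IsRoot.def, Polynomial.map_sub, Polynomial.map_pow, Polynomial.map_X, Polynomial.map_one,
      eval_sub, eval_pow, eval_X, eval_one, hum, sub_self]
  have hXm : (X ^ m - 1 : K[X]) ≠ 0 := (monic_X_pow_sub_C (1 : K) hm.ne').ne_zero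
  obtain ⟨ζ, hζ⟩ := (hK m hm).mem_range_of_isRoot hXm hroot
  refine ⟨ζ * c, ?_⟩
  have h1 : y ^ r = algebraMap K F (ζ * c) := by
    rw [map_mul]
    change (algebraMap K F) ζ = u at hζ
    rw [hζ, hu, mul_assoc, inv_mul_cancel₀ hcF, mul_one]
  have h2 := congrArg φ h1
  rwa [map_pow, hφy, AlgHom.commutes] at h2

/-- S15168 -/
theorem pow_mem_range (hK : ∀ n : ℕ, 0 < n → (X ^ n - 1 : K[X]).Splits)
    (n : ℕ) (hn : Module.finrank K A = n ^ 2)
    (x : A) (hxm : ∃ m : ℕ, 0 < m ∧ x ^ m ∈ (algebraMap K A).range) :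
    x ^ n ∈ (algebraMap K A).range := by
  have hn0 : n ≠ 0 := by
    rintro rfl
    have : 0 < Module.finrank K A := Module.finrank_pos
    rw [hn] at this
    exact absurd this (by norm_num)
  by_cases hx : x = 0
  · rw [hx, zero_pow hn0]
    exact ⟨0, map_zero _⟩
  · obtain ⟨c, hc⟩ := exists_pow_natDegree_eq K A hK x hx hxm
    obtain ⟨t, ht⟩ := natDegree_minpoly_dvd K A n hn x
    refine ⟨c ^ t, ?_⟩
    rw [map_pow]
    change algebraMap K A c ^ t = x ^ n
    rw [← hc, ← pow_mul, ← ht]


open scoped TensorProduct in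
/-- the reduced norm of a scalar -/
theorem redNorm_algebraMap (N : A →* K) (hN : CSAGal.IsRedNorm K A N)
    (n : ℕ) (hn : Module.finrank K A = n ^ 2) (c : K) : N (algebraMap K A c) = c ^ n := by
  obtain ⟨K', _, _, _, n', φ, h⟩ := hN
  have hdim : n' = n := by
    have h1 : Module.finrank K' (K' ⊗[K] A) = n ^ 2 := by
      rw [Module.finrank_baseChange, hn]
    have h2 : Module.finrank K' (Matrix (Fin n') (Fin n') K') = n' ^ 2 := by
      rw [Module.finrank_matrix, Fintype.card_fin, Module.finrank_self, mul_one, sq]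
    have h3 := φ.toLinearEquiv.finrank_eq
    rw [h1, h2] at h3
    exact (Nat.pow_left_injective (by norm_num : 2 ≠ 0) h3).symm
  apply (algebraMap K K').injective
  rw [h, map_pow]
  have e1 : (1 : K') ⊗ₜ[K] (algebraMap K A c) = algebraMap K' (K' ⊗[K] A) (algebraMap K K' c) := by
    rw [Algebra.TensorProduct.algebraMap_apply, Algebra.algebraMap_eq_smul_one (R := K) (A := A),
      Algebra.algebraMap_eq_smul_one (R := K) (A := K'), TensorProduct.tmul_smul,
      TensorProduct.smul_tmul']
    simp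
  rw [e1, AlgEquiv.commutes, Algebra.algebraMap_eq_smul_one, Matrix.det_smul, Matrix.det_one,
    mul_one, Fintype.card_fin, hdim]

/-- S15185 -/
theorem pow_coprimePart_mem_range (p : ℕ) [Fact p.Prime] [CharP K p]
    (hK : ∀ n : ℕ, 0 < n → (X ^ n - 1 : K[X]).Splits)
    (n n' m : ℕ) (hA : Module.finrank K A = n ^ 2) (hn : n = n' * p ^ m) (hn' : ¬ p ∣ n')
    (N : A →* K) (hN : CSAGal.IsRedNorm K A N)
    (x : A) (hx : x ≠ 0) (hxr : ∃ r : ℕ, 0 < r ∧ x ^ r ∈ (algebraMap K A).range)
    (hNx : ∃ b : K, b ≠ 0 ∧ N x = b ^ (p ^ m)) :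
    x ^ n' ∈ (algebraMap K A).range := by
  have hp : p.Prime := Fact.out
  obtain ⟨c, hc⟩ := exists_pow_natDegree_eq K A hK x hx hxr
  have hsn := natDegree_minpoly_dvd K A n hA x
  set s := (minpoly K x).natDegree with hs
  obtain ⟨b, hb0, hb⟩ := hNx
  have hc0 : c ≠ 0 := by
    rintro rfl
    rw [map_zero] at hc
    exact hx ((pow_eq_zero_iff (minpoly.natDegree_pos (IsIntegral.of_finite K x)).ne').1 hc)
  have h1 : N x ^ s = c ^ n := by
    rw [← map_pow, hc, redNorm_algebraMap K A N hN n hA]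
  rw [hb, hn, ← pow_mul, mul_comm (p ^ m) s, pow_mul, pow_mul] at h1
  have h2 : b ^ s = c ^ n' := by
    have : (b ^ s - c ^ n') ^ p ^ m = 0 := by
      rw [sub_pow_char_pow, h1, sub_self]
    exact sub_eq_zero.1 (pow_eq_zero_iff (pow_pos hp.pos m).ne' |>.1 this)
  by_cases hps : p ∣ s
  · exfalso
    obtain ⟨s₁, hs₁⟩ := hps
    have hcop : IsCoprime (n' : ℤ) (p : ℤ) := by
      rw [Int.isCoprime_iff_gcd_eq_one, Int.gcd_natCast_natCast]
      exact Nat.Coprime.symm ((Nat.Prime.coprime_iff_not_dvd hp).2 hn')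
    obtain ⟨u, v, huv⟩ := hcop
    set δ : K := (b ^ s₁) ^ u * c ^ v with hδ
    have hδp : δ ^ p = c := by
      have e1 : ((b ^ s₁) ^ u) ^ p = (c ^ n') ^ u := by
        rw [← zpow_natCast, ← zpow_mul, mul_comm, zpow_mul, zpow_natCast, ← pow_mul,
          mul_comm s₁ p, ← hs₁, h2]
      have e2 : (c ^ v) ^ p = c ^ (v * p) := by rw [← zpow_natCast (c ^ v), ← zpow_mul]
      have e3 : (c ^ n') ^ u = c ^ ((n' : ℤ) * u) := by rw [← zpow_natCast c, ← zpow_mul]
      rw [hδ, mul_pow, e1, e2, e3, ← zpow_add₀ hc0]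
      have : (n' : ℤ) * u + v * p = 1 := by rw [mul_comm (n' : ℤ)]; exact huv
      rw [this, zpow_one]
    have hmin : minpoly K x = X ^ s - C c := by
      have hmonic : (X ^ s - C c : K[X]).Monic := monic_X_pow_sub_C c (by
        rw [hs]; exact (minpoly.natDegree_pos (IsIntegral.of_finite K x)).ne')
      symm
      apply eq_of_monic_of_dvd_of_natDegree_le (minpoly.monic (IsIntegral.of_finite K x)) hmonic
      · apply minpoly.dvd
        rw [map_sub, map_pow, aeval_X, aeval_C, hc, sub_self]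
      · rw [natDegree_X_pow_sub_C]
    have hpow : (X ^ s - C c : K[X]) = (X ^ s₁ - C δ) ^ p := by
      rw [sub_pow_char, ← pow_mul, mul_comm s₁ p, ← hs₁, ← C_pow, hδp]
    have hirr := irreducible_minpoly K A x
    rw [hmin, hpow] at hirr
    exact not_irreducible_pow hp.one_lt.ne' hirr
  · have hcop : Nat.Coprime s (p ^ m) :=
      Nat.Coprime.pow_right m (Nat.Coprime.symm ((Nat.Prime.coprime_iff_not_dvd hp).2 hps))
    rw [hn] at hsn
    obtain ⟨t, ht⟩ := hcop.dvd_of_dvd_mul_right hsn
    refine ⟨c ^ t, ?_⟩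
    rw [map_pow]
    change algebraMap K A c ^ t = x ^ n'
    rw [← hc, ← pow_mul, ← ht]

end

end Groth.Agent.Helper7.DivAlgK
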