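import Mathlib
import Groth.Agent.Helper7.DivAlgP

set_option autoImplicit false
set_option linter.unusedSectionVars false
universe u v w

namespace Groth.Agent.Helper7.DivAlgP

open Polynomial Module

/-- Conjugation by a non-zero element as an algebra endomorphism. -/
noncomputable def conjHom (K : Type u) [Field K] (A : Type v) [DivisionRing A] [Algebra K A]
    (v : A) (hv : v ≠ 0) : A →ₐ[K] A where
  toFun x := v * x * v⁻¹
  map_one' := by rw [mul_one, mul_inv_cancel₀ hv]
  map_mul' x y := by
    rw [mul_assoc (v * x), ← mul_assoc v⁻¹, ← mul_assoc v⁻¹, inv_mul_cancel₀ hv, one_mul]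
    noncomm_ring
  map_zero' := by rw [mul_zero, zero_mul]
  map_add' x y := by rw [mul_add, add_mul]
  commutes' r := by
    rw [← Algebra.commutes r v, mul_assoc, mul_inv_cancel₀ hv, mul_one]

theorem conjHom_apply (K : Type u) [Field K] (A : Type v) [DivisionRing A] [Algebra K A]
    (v : A) (hv : v ≠ 0) (x : A) : conjHom K A v hv x = v * x * v⁻¹ := rfl

/-- A Galois extension structure on a simple extension whose generator can be translated by 1. -/
theorem isGalois_adjoinRoot_of_comp (K : Type u) [Field K] (p : ℕ) [Fact p.Prime] [CharP K p]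
    (m : K[X]) [Fact (Irreducible m)] (hmonic : m.Monic) (hdeg : m.natDegree = p)
    (hcomp : m.comp (X + C 1) = m) :
    IsGalois K (AdjoinRoot m) ∧ Module.finrank K (AdjoinRoot m) = p := by
  have hp : p.Prime := Fact.out
  have hne : m ≠ 0 := hmonic.ne_zero
  set F := AdjoinRoot m with hF
  have hcharF : CharP F p := charP_of_injective_algebraMap (algebraMap K F).injective p
  have hfd : FiniteDimensional K F := (AdjoinRoot.powerBasis hne).finite
  have hfin : Module.finrank K F = p := by
    rw [(AdjoinRoot.powerBasis hne).finrank, AdjoinRoot.powerBasis_dim, hdeg]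
  have hcompn : ∀ n : ℕ, m.comp (X + C (n : K)) = m := by
    intro n
    induction n with
    | zero => rw [Nat.cast_zero, C_0, add_zero, comp_X]
    | succ n ih =>
      have : (X + C ((n + 1 : ℕ) : K) : K[X]) = (X + C (1 : K) : K[X]).comp (X + C (n : K)) := by
        rw [add_comp, X_comp, C_comp, Nat.cast_succ, C_add]
        ring
      rw [this, ← comp_assoc, hcomp, ih]
  set r := AdjoinRoot.root m with hr
  have hroot : ∀ n : ℕ, eval₂ (↑(Algebra.ofId K F) : K →+* F) (r + (n : F)) m = 0 := by
    intro n
    have h1 : aeval (r + (n : F)) m = aeval r (m.comp (X + C (n : K))) := by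
      rw [aeval_comp, map_add, aeval_X, aeval_C]
      simp
    rw [hcompn n, AdjoinRoot.aeval_eq, AdjoinRoot.mk_self] at h1
    exact h1
  let τ : ℕ → (F →ₐ[K] F) := fun n => AdjoinRoot.liftAlgHom m (Algebra.ofId K F) (r + (n : F)) (hroot n)
  have hτ : ∀ n, τ n r = r + (n : F) := fun n => AdjoinRoot.liftAlgHom_root m _ _ _
  let σ : Fin p → (F ≃ₐ[K] F) := fun n => AlgEquiv.ofBijective (τ n) (AlgHom.bijective (τ n))
  have hσinj : Function.Injective σ := by
    intro a b hab
    have h1 : σ a r = σ b r := by rw [hab]
    have h2 : τ a r = τ b r := h1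
    rw [hτ, hτ] at h2
    have h3 : ((a : ℕ) : F) = ((b : ℕ) : F) := add_left_cancel h2
    exact Fin.ext (CharP.natCast_injOn_Iio F p a.2 b.2 h3)
  have hfinite : Finite (F ≃ₐ[K] F) := inferInstance
  have hcard : Nat.card (F ≃ₐ[K] F) = Module.finrank K F := by
    apply le_antisymm
    · rw [Nat.card_eq_fintype_card]
      exact AlgEquiv.card_le
    · rw [hfin]
      have := Nat.card_le_card_of_injective σ hσinj
      rw [Nat.card_eq_fintype_card, Fintype.card_fin] at this
      exact this
  exact ⟨IsGalois.of_card_aut_eq_finrank K F hcard, hfin⟩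

/-- Transport of a Galois extension into a prescribed universe along an embedding. -/
theorem exists_transport (K : Type u) [Field K] (A : Type v) [Ring A] [Algebra K A]
    (F : Type w) [Field F] [Algebra K F] [IsGalois K F] (φ : F →ₐ[K] A) (hφ : Function.Injective φ)
    (p : ℕ) (hfin : Module.finrank K F = p) :
    ∃ (L : Type v) (_ : Field L) (_ : Algebra K L), IsGalois K L ∧ Module.finrank K L = p ∧
      Nonempty (L →ₐ[K] A) := by
  let e : ↥(Set.range φ) ≃ F := (Equiv.ofInjective φ hφ).symm
  let fL : Field ↥(Set.range φ) := e.field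
  let aL : Algebra K ↥(Set.range φ) := e.algebra K
  let ae : ↥(Set.range φ) ≃ₐ[K] F := e.algEquiv K
  refine ⟨↥(Set.range φ), fL, aL, ?_, ?_, ?_⟩
  · exact IsGalois.of_algEquiv ae.symm
  · rw [← hfin]
    exact ae.toLinearEquiv.finrank_eq
  · exact ⟨φ.comp ae.toAlgHom⟩

/-- A central division algebra of dimension `p ^ 2` in characteristic `p` containing elements with
`v * u - u * v = 1` has a Galois subfield of degree `p`. -/
theorem exists_galois_subfield (K : Type u) [Field K] (p : ℕ) [Fact p.Prime] [CharP K p]
    (A : Type v) [DivisionRing A] [Algebra K A] [Algebra.IsCentral K A] [FiniteDimensional K A]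
    (hA : Module.finrank K A = p ^ 2) (v u : A) (hvu : v * u - u * v = 1) :
    ∃ (L : Type v) (_ : Field L) (_ : Algebra K L), IsGalois K L ∧ Module.finrank K L = p ∧
      Nonempty (L →ₐ[K] A) := by
  have hp : p.Prime := Fact.out
  have hv0 : v ≠ 0 := by
    rintro rfl
    rw [zero_mul, mul_zero, sub_zero] at hvu
    exact zero_ne_one hvu
  set θ := u * v with hθ
  have hvθ : v * θ = (θ + 1) * v := by
    have h1 : v * u = u * v + 1 := by rw [← hvu]; abel
    rw [hθ, ← mul_assoc, h1]
  have hθK : θ ∉ Set.range (algebraMap K A) := by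
    rintro ⟨k, hk⟩
    rw [← hk, add_mul, one_mul, Algebra.commutes k v] at hvθ
    exact hv0 (left_eq_add.1 hvθ)
  set m := minpoly K θ with hm
  have hirr : Irreducible m := irreducible_minpoly K A θ
  have : Fact (Irreducible m) := ⟨hirr⟩
  have hmonic : m.Monic := minpoly.monic (IsIntegral.of_finite K θ)
  have hdeg : m.natDegree = p := natDegree_minpoly_eq K A p hp hA θ hθK
  have hconj : conjHom K A v hv0 θ = θ + 1 := by
    rw [conjHom_apply, hvθ, mul_assoc, mul_inv_cancel₀ hv0, mul_one]
  have h1 : aeval (θ + 1) m = 0 := by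
    rw [← hconj, aeval_algHom_apply, minpoly.aeval, map_zero]
  have hcomp : m.comp (X + C 1) = m := by
    have hdvd : m ∣ m.comp (X + C 1) := by
      apply minpoly.dvd
      rw [aeval_comp, map_add, aeval_X, aeval_C, map_one]
      exact h1
    apply eq_of_monic_of_dvd_of_natDegree_le hmonic (hmonic.comp_X_add_C 1) hdvd
    rw [natDegree_comp, natDegree_X_add_C, mul_one]
  obtain ⟨hgal, hfin⟩ := isGalois_adjoinRoot_of_comp K p m hmonic hdeg hcomp
  have hφinj : Function.Injective (adjoinRootHom K A θ) := (adjoinRootHom K A θ).toRingHom.injective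
  exact exists_transport K A (AdjoinRoot m) (adjoinRootHom K A θ) hφinj p hfin

end Groth.Agent.Helper7.DivAlgP
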