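import Mathlib
import Groth.Agent.Helper7.DivAlgP2

set_option autoImplicit false
set_option linter.unusedSectionVars false
universe u v w

namespace Groth.Agent.Helper7.DivAlgP

open Polynomial Module

section

variable (K : Type u) [Field K] (p : ℕ) [Fact p.Prime] [CharP K p]
  (A : Type v) [DivisionRing A] [Algebra K A] [Algebra.IsCentral K A] [FiniteDimensional K A]

/-- `(ad a) ^ p = ad (a ^ p)` in characteristic `p`. -/
theorem ad_pow_char (a : A) :
    (LinearMap.mulLeft K a - LinearMap.mulRight K a) ^ p =
      LinearMap.mulLeft K (a ^ p) - LinearMap.mulRight K (a ^ p) := by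
  have hcharE : CharP (Module.End K A) p :=
    charP_of_injective_algebraMap (algebraMap K (Module.End K A)).injective p
  rw [sub_pow_char_of_commute p (LinearMap.commute_mulLeft_right a a),
    LinearMap.pow_mulLeft, LinearMap.pow_mulRight]

/-- An inseparable element of a central division algebra of dimension `p ^ 2` has its `p`-th
power in the centre. -/
theorem pow_mem_of_not_isSeparable (hA : Module.finrank K A = p ^ 2) (v : A)
    (hv : ¬ IsSeparable K v) :
    v ∉ Set.range (algebraMap K A) ∧ v ^ p ∈ (algebraMap K A).range := by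
  have hp : p.Prime := Fact.out
  have hvK : v ∉ Set.range (algebraMap K A) := by
    rintro ⟨k, rfl⟩
    apply hv
    show (minpoly K (algebraMap K A k)).Separable
    rw [minpoly.eq_X_sub_C_of_algebraMap_inj k (algebraMap K A).injective]
    exact separable_X_sub_C
  refine ⟨hvK, ?_⟩
  have hirr := irreducible_minpoly K A v
  have hdeg := natDegree_minpoly_eq K A p hp hA v hvK
  rcases separable_or p hirr with hsep | ⟨_, g, hg, hexp⟩
  · exact absurd hsep hv
  · have hgdeg : g.natDegree = 1 := by
      have h1 := natDegree_expand p g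
      rw [hexp, hdeg] at h1
      have : 1 * p = g.natDegree * p := by rw [one_mul]; exact h1
      exact (Nat.eq_of_mul_eq_mul_right hp.pos this).symm
    have hroot : aeval (v ^ p) g = 0 := by
      rw [← expand_aeval, hexp, minpoly.aeval]
    have hg1 := eq_X_add_C_of_natDegree_le_one hgdeg.le
    have ha : g.coeff 1 ≠ 0 := by
      intro h0
      have : g.natDegree = 0 := by
        rw [hg1, h0, C_0, zero_mul, zero_add, natDegree_C]
      rw [this] at hgdeg
      exact zero_ne_one hgdeg
    rw [hg1, map_add, map_mul, aeval_C, aeval_X, aeval_C] at hroot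
    refine ⟨-(g.coeff 0) / g.coeff 1, ?_⟩
    have h2 : algebraMap K A (g.coeff 1) * v ^ p = - algebraMap K A (g.coeff 0) :=
      eq_neg_of_add_eq_zero_left hroot
    have h3 : algebraMap K A (g.coeff 1) ≠ 0 := by
      rw [Ne, map_eq_zero_iff _ (algebraMap K A).injective]
      exact ha
    have h4 : v ^ p = (algebraMap K A (g.coeff 1))⁻¹ * (-algebraMap K A (g.coeff 0)) := by
      rw [← h2, ← mul_assoc, inv_mul_cancel₀ h3, one_mul]
    rw [h4, div_eq_inv_mul, map_mul, map_inv₀, map_neg]

theorem exists_weyl_pair (hA : Module.finrank K A = p ^ 2) (v : A)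
    (hvK : v ∉ Set.range (algebraMap K A)) (hvp : v ^ p ∈ (algebraMap K A).range) :
    ∃ u : A, u ^ p ∈ (algebraMap K A).range ∧ v * u - u * v = 1 ∧
      Algebra.adjoin K {v, u} = ⊤ := by
  classical
  have hp : p.Prime := Fact.out
  set D : Module.End K A := LinearMap.mulLeft K v - LinearMap.mulRight K v with hD
  have hDapp : ∀ x : A, D x = v * x - x * v := fun x => rfl
  have hDp : D ^ p = 0 := by
    rw [hD, ad_pow_char]
    obtain ⟨k, hk⟩ := hvp
    ext x
    simp only [LinearMap.sub_apply, LinearMap.mulLeft_apply, LinearMap.mulRight_apply,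
      LinearMap.zero_apply]
    rw [← hk, Algebra.commutes k x, sub_self]
  -- a non-commuting element
  obtain ⟨x, hx⟩ : ∃ x : A, D x ≠ 0 := by
    by_contra h
    push Not at h
    apply hvK
    have hmem : v ∈ Subalgebra.center K A := by
      rw [Subalgebra.mem_center_iff]
      intro b
      have := h b
      rw [hDapp, sub_eq_zero] at this
      exact this.symm
    rw [Algebra.IsCentral.center_eq_bot, Algebra.mem_bot] at hmem
    exact hmem
  have hex : ∃ k : ℕ, (D ^ (k + 1)) x = 0 := ⟨p - 1, by
    rw [Nat.sub_add_cancel hp.pos, hDp]; rfl⟩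
  set k := Nat.find hex with hk
  have hk1 : (D ^ (k + 1)) x = 0 := Nat.find_spec hex
  have hkpos : 0 < k := by
    rcases Nat.eq_zero_or_pos k with h0 | h0
    · exfalso
      rw [h0, zero_add, pow_one] at hk1
      exact hx hk1
    · exact h0
  have hk0 : (D ^ k) x ≠ 0 := by
    have := Nat.find_min hex (m := k - 1) (by omega)
    rw [Nat.sub_add_cancel hkpos] at this
    exact this
  set w := (D ^ (k - 1)) x with hw
  set y := D w with hy
  have hyk : y = (D ^ k) x := by
    rw [hy, hw, ← Module.End.mul_apply, ← pow_succ', Nat.sub_add_cancel hkpos]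
  have hy0 : y ≠ 0 := by rw [hyk]; exact hk0
  have hDy : D y = 0 := by
    rw [hyk, ← Module.End.mul_apply, ← pow_succ']
    exact hk1
  have hvy : v * y = y * v := by
    rw [hDapp, sub_eq_zero] at hDy
    exact hDy
  have hvyinv : v * y⁻¹ = y⁻¹ * v := by
    have h1 : y⁻¹ * (v * y) * y⁻¹ = y⁻¹ * (y * v) * y⁻¹ := by rw [hvy]
    rw [← mul_assoc, mul_assoc, mul_inv_cancel₀ hy0, mul_one, ← mul_assoc, inv_mul_cancel₀ hy0,
      one_mul] at h1
    exact h1.symm
  set u := w * y⁻¹ with hu
  have hvu : v * u - u * v = 1 := by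
    have h1 : v * w - w * v = y := (hDapp w).symm
    rw [hu, mul_assoc w, ← hvyinv, ← mul_assoc, ← mul_assoc, ← sub_mul, h1, mul_inv_cancel₀ hy0]
  -- generation
  set T : Subalgebra K A := Algebra.adjoin K {v, u} with hT
  have hvT : v ∈ T := Algebra.subset_adjoin (Set.mem_insert v {u})
  have huT : u ∈ T := Algebra.subset_adjoin (Set.mem_insert_of_mem v rfl)
  have hTtop : T = ⊤ := by
    set φ := adjoinRootHom K A v with hφ
    have hirr := irreducible_minpoly K A v
    have : Fact (Irreducible (minpoly K v)) := ⟨hirr⟩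
    have hφinj : Function.Injective φ := φ.toRingHom.injective
    have hdeg := natDegree_minpoly_eq K A p hp hA v hvK
    have hS₀fin : Module.finrank K φ.range = p := by
      rw [← (AlgEquiv.ofInjective φ hφinj).toLinearEquiv.finrank_eq,
        (AdjoinRoot.powerBasis hirr.ne_zero).finrank, AdjoinRoot.powerBasis_dim, hdeg]
    have hS₀le : φ.range ≤ T := by
      rintro _ ⟨f, rfl⟩
      obtain ⟨q, rfl⟩ := AdjoinRoot.mk_surjective f
      have : φ (AdjoinRoot.mk (minpoly K v) q) = aeval v q := by
        show Ideal.Quotient.liftₐ _ (aeval v : K[X] →ₐ[K] A) _ (Ideal.Quotient.mk _ q) = _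
        rw [Ideal.Quotient.liftₐ_apply, Ideal.Quotient.lift_mk]
        rfl
      show φ (AdjoinRoot.mk (minpoly K v) q) ∈ T
      rw [this]
      exact Algebra.adjoin_mono (Set.singleton_subset_iff.2 (Set.mem_insert v {u}))
        (aeval_mem_adjoin_singleton K v)
    have huS₀ : u ∉ φ.range := by
      rintro ⟨f, hf⟩
      have hvφ : φ (AdjoinRoot.root (minpoly K v)) = v := adjoinRootHom_root K A v
      have hf' : φ f = u := hf
      have hcomm : φ (AdjoinRoot.root (minpoly K v)) * φ f = φ f * φ (AdjoinRoot.root (minpoly K v)) := by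
        rw [← map_mul, ← map_mul, mul_comm]
      rw [hvφ, hf'] at hcomm
      have : v * u - u * v = 0 := sub_eq_zero.2 hcomm
      rw [hvu] at this
      exact one_ne_zero this
    have hlt : Subalgebra.toSubmodule φ.range < Subalgebra.toSubmodule T := by
      refine lt_of_le_of_ne (fun a ha => hS₀le ha) ?_
      intro heq
      apply huS₀
      have : u ∈ Subalgebra.toSubmodule T := huT
      rw [← heq] at this
      exact this
    have hfinlt : p < Module.finrank K T := by
      have := Submodule.finrank_lt_finrank_of_lt hlt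
      rw [show Module.finrank K (Subalgebra.toSubmodule φ.range) = p from hS₀fin] at this
      exact this
    let _ : DivisionRing T := divisionRingOfFiniteDimensional K T
    have htower := Module.finrank_mul_finrank K T A
    rw [hA] at htower
    have hdvd : Module.finrank K T ∣ p ^ 2 := ⟨_, htower.symm⟩
    obtain ⟨j, hj, hjeq⟩ := (Nat.dvd_prime_pow hp).1 hdvd
    have hTfin : Module.finrank K T = p ^ 2 := by
      interval_cases j
      · rw [hjeq, pow_zero] at hfinlt
        exact absurd hfinlt (not_lt.2 hp.one_lt.le)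
      · rw [hjeq, pow_one] at hfinlt
        exact absurd hfinlt (lt_irrefl _)
      · exact hjeq
    rw [← Algebra.toSubmodule_eq_top]
    apply Submodule.eq_top_of_finrank_eq
    rw [hA]
    exact hTfin
  refine ⟨u, ?_, hvu, hTtop⟩
  -- u ^ p is central
  set E : Module.End K A := LinearMap.mulLeft K u - LinearMap.mulRight K u with hE
  have hEapp : ∀ x : A, E x = u * x - x * u := fun x => rfl
  have hEv : E v = -1 := by
    rw [hEapp, ← hvu]
    abel
  have hE2 : (E ^ 2) v = 0 := by
    rw [pow_two, Module.End.mul_apply, hEv, hEapp]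
    simp
  have hEp : (E ^ p) v = 0 := by
    have : p = (p - 2) + 2 := by have := hp.two_le; omega
    rw [this, pow_add, Module.End.mul_apply, hE2, map_zero]
  rw [hE, ad_pow_char] at hEp
  simp only [LinearMap.sub_apply, LinearMap.mulLeft_apply, LinearMap.mulRight_apply] at hEp
  have hcv : v * u ^ p = u ^ p * v := (sub_eq_zero.1 hEp).symm
  have hcu : u * u ^ p = u ^ p * u := by rw [← pow_succ', ← pow_succ]
  have hle : T ≤ Subalgebra.centralizer K {u ^ p} := by
    apply Algebra.adjoin_le
    intro z hz
    rw [SetLike.mem_coe, Subalgebra.mem_centralizer_iff]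
    intro g hg
    rw [Set.mem_singleton_iff] at hg
    subst hg
    rcases hz with rfl | hz
    · exact hcv.symm
    · rw [Set.mem_singleton_iff] at hz
      subst hz
      exact hcu.symm
  have hcentral : u ^ p ∈ Subalgebra.center K A := by
    rw [Subalgebra.mem_center_iff]
    intro b
    have hb : b ∈ T := by rw [hTtop]; exact Algebra.mem_top
    have := (Subalgebra.mem_centralizer_iff K).1 (hle hb) (u ^ p) rfl
    exact this.symm
  rw [Algebra.IsCentral.center_eq_bot, Algebra.mem_bot] at hcentral
  obtain ⟨k', hk'⟩ := hcentral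
  exact ⟨k', hk'⟩

end

end Groth.Agent.Helper7.DivAlgP
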