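import Mathlib.RingTheory.DividedPowers.Padic
import Mathlib.RingTheory.DividedPowers.RatAlgebra
import Mathlib.RingTheory.DividedPowers.DPMorphism
import Mathlib.RingTheory.DividedPowers.SubDPIdeal
import Mathlib.Algebra.MvPolynomial.Basic
import Mathlib.RingTheory.MvPolynomial.Basic
import Mathlib.LinearAlgebra.Basis.Basic
import Mathlib.LinearAlgebra.Basis.Bilinear
import Mathlib.RingTheory.Ideal.BigOperators
import Mathlib.RingTheory.TensorProduct.Free
import Mathlib.RingTheory.Flat.Basic
import Mathlib.RingTheory.PowerSeries.Basic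

/-!
# Presentations of divided power polynomial algebras (helper7)

`Pres R P Λ`: an `R`-algebra `P` with elements `x l n` (`= X_l^[n]`) satisfying `x l 0 = 1`,
`x l n * x l m = C(n+m,n) x l (n+m)`, and such that the monomials `∏ x l (e l)` form an `R`-basis.
-/

set_option autoImplicit false

namespace Groth.Agent.Helper7.DivPw

open Finset

universe u v w t

section Fam

variable {S : Type*} [CommRing S] {Λ : Type*} (y : Λ → ℕ → S)

/-- the monomial attached to an exponent vector -/
noncomputable def mon (e : Λ →₀ ℕ) : S := e.prod (fun l k => y l k)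

open Classical in
/-- the structure constants -/
noncomputable def cst (e e' : Λ →₀ ℕ) : ℕ :=
  ∏ l ∈ e.support ∪ e'.support, (e l + e' l).choose (e l)

theorem mon_zero : mon y (0 : Λ →₀ ℕ) = 1 := by
  simp [mon]

theorem mon_single (h0 : ∀ l, y l 0 = 1) (l : Λ) (k : ℕ) : mon y (Finsupp.single l k) = y l k := by
  unfold mon
  rw [Finsupp.prod_single_index (h0 l)]

theorem mon_eq_prod (h0 : ∀ l, y l 0 = 1) (e : Λ →₀ ℕ) (s : Finset Λ) (hs : e.support ⊆ s) :
    mon y e = ∏ l ∈ s, y l (e l) := by
  unfold mon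
  exact Finsupp.prod_of_support_subset e hs _ (fun l _ => h0 l)

theorem mon_mul (h0 : ∀ l, y l 0 = 1)
    (hm : ∀ l n m, y l n * y l m = ((n + m).choose n : S) * y l (n + m)) (e e' : Λ →₀ ℕ) :
    mon y e * mon y e' = (cst e e' : S) * mon y (e + e') := by
  classical
  rw [mon_eq_prod y h0 e (e.support ∪ e'.support) Finset.subset_union_left,
    mon_eq_prod y h0 e' (e.support ∪ e'.support) Finset.subset_union_right,
    mon_eq_prod y h0 (e + e') (e.support ∪ e'.support) Finsupp.support_add,
    ← Finset.prod_mul_distrib, cst, Nat.cast_prod, ← Finset.prod_mul_distrib]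
  apply Finset.prod_congr rfl
  intro l _
  rw [hm, Finsupp.add_apply]

theorem map_mon {S' : Type*} [CommRing S'] (f : S →+* S') (e : Λ →₀ ℕ) :
    f (mon y e) = mon (fun l k => f (y l k)) e := by
  unfold mon
  rw [map_finsuppProd]

end Fam

/-- A presentation of `P` as a divided power polynomial algebra over `R` in variables `Λ`. -/
structure Pres (R : Type u) (P : Type v) (Λ : Type w) [CommRing R] [CommRing P] [Algebra R P] where
  x : Λ → ℕ → P
  x_zero : ∀ l, x l 0 = 1
  x_mul : ∀ l n m, x l n * x l m = ((n + m).choose n : P) * x l (n + m)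
  b : Module.Basis (Λ →₀ ℕ) R P
  hb : ∀ e : Λ →₀ ℕ, b e = e.prod (fun l k => x l k)

namespace Pres

variable {R : Type u} {P : Type v} {Λ : Type w} [CommRing R] [CommRing P] [Algebra R P]
  (pr : Pres R P Λ)

theorem b_eq_mon (e : Λ →₀ ℕ) : pr.b e = mon pr.x e := pr.hb e

theorem b_zero : pr.b 0 = 1 := by rw [pr.b_eq_mon, mon_zero]

theorem b_single (l : Λ) (k : ℕ) : pr.b (Finsupp.single l k) = pr.x l k := by
  rw [pr.b_eq_mon, mon_single _ pr.x_zero]

theorem b_mul (e e' : Λ →₀ ℕ) : pr.b e * pr.b e' = (cst e e' : P) * pr.b (e + e') := by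
  rw [pr.b_eq_mon, pr.b_eq_mon, pr.b_eq_mon, mon_mul _ pr.x_zero pr.x_mul]

section Lift

variable {S : Type t} [CommRing S] [Algebra R S] (y : Λ → ℕ → S) (h0 : ∀ l, y l 0 = 1)
  (hm : ∀ l n m, y l n * y l m = ((n + m).choose n : S) * y l (n + m))

/-- the algebra map out of a presented dp polynomial algebra -/
noncomputable def lift : P →ₐ[R] S :=
  AlgHom.ofLinearMap (pr.b.constr R (mon y))
    (by rw [← pr.b_zero, Module.Basis.constr_basis, mon_zero])
    (by
      have : (LinearMap.mul R P).compr₂ (pr.b.constr R (mon y)) =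
          (LinearMap.mul R S).compl₁₂ (pr.b.constr R (mon y)) (pr.b.constr R (mon y)) := by
        apply LinearMap.ext_basis pr.b pr.b
        intro e e'
        simp only [LinearMap.compr₂_apply, LinearMap.mul_apply', LinearMap.compl₁₂_apply]
        rw [pr.b_mul, ← nsmul_eq_mul, map_nsmul, Module.Basis.constr_basis,
          Module.Basis.constr_basis, Module.Basis.constr_basis, nsmul_eq_mul, mon_mul y h0 hm]
      intro a c
      exact LinearMap.congr_fun₂ this a c)

theorem lift_b (e : Λ →₀ ℕ) : pr.lift y h0 hm (pr.b e) = mon y e := by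
  show pr.b.constr R (mon y) (pr.b e) = _
  rw [Module.Basis.constr_basis]

theorem lift_x (l : Λ) (k : ℕ) : pr.lift y h0 hm (pr.x l k) = y l k := by
  rw [← pr.b_single, lift_b, mon_single _ h0]

theorem lift_unique (φ : P →ₐ[R] S) (hφ : ∀ l k, φ (pr.x l k) = y l k) : φ = pr.lift y h0 hm := by
  apply AlgHom.toLinearMap_injective
  apply pr.b.ext
  intro e
  show φ (pr.b e) = pr.lift y h0 hm (pr.b e)
  rw [lift_b, pr.b_eq_mon]
  have := map_mon pr.x (φ : P →+* S) e
  simp only [RingHom.coe_coe] at this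
  rw [this]
  congr 1
  funext l k
  exact hφ l k

end Lift

/-- the augmentation ideal -/
def augIdeal : Ideal P := Ideal.span {p : P | ∃ (l : Λ) (n : ℕ), 1 ≤ n ∧ p = pr.x l n}

theorem x_mem_augIdeal (l : Λ) {n : ℕ} (hn : 1 ≤ n) : pr.x l n ∈ pr.augIdeal :=
  Ideal.subset_span ⟨l, n, hn, rfl⟩

/-- the augmentation -/
noncomputable def aug : P →ₐ[R] R :=
  pr.lift (fun _ n => if n = 0 then 1 else 0) (fun _ => by simp)
    (by
      intro l n m
      by_cases hn : n = 0
      · subst hn; simp
      · have : n + m ≠ 0 := by omega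
        simp [hn, this])

theorem aug_x (l : Λ) (n : ℕ) : pr.aug (pr.x l n) = if n = 0 then 1 else 0 := by
  unfold aug
  rw [lift_x]

open Classical in
theorem aug_b (e : Λ →₀ ℕ) : pr.aug (pr.b e) = if e = 0 then 1 else 0 := by
  unfold aug
  rw [lift_b]
  unfold mon
  by_cases he : e = 0
  · subst he; simp
  · rw [if_neg he]
    obtain ⟨l, hl⟩ : ∃ l, e l ≠ 0 := by
      by_contra h
      push Not at h
      exact he (Finsupp.ext h)
    unfold Finsupp.prod
    apply Finset.prod_eq_zero (Finsupp.mem_support_iff.mpr hl)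
    simp [hl]

theorem aug_eq_repr (p : P) : pr.aug p = pr.b.repr p 0 := by
  classical
  conv_lhs => rw [← pr.b.linearCombination_repr p]
  rw [Finsupp.linearCombination_apply, Finsupp.sum, map_sum]
  simp only [map_smul, aug_b, smul_eq_mul, mul_ite, mul_one, mul_zero]
  rw [Finset.sum_ite_eq']
  split_ifs with h
  · rfl
  · exact (Finsupp.notMem_support_iff.mp h).symm

theorem b_mem_augIdeal {e : Λ →₀ ℕ} (he : e ≠ 0) : pr.b e ∈ pr.augIdeal := by
  obtain ⟨l, hl⟩ : ∃ l, e l ≠ 0 := by
    by_contra h
    push Not at h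
    exact he (Finsupp.ext h)
  rw [pr.hb]
  unfold Finsupp.prod
  have hmem : l ∈ e.support := Finsupp.mem_support_iff.mpr hl
  exact Ideal.mem_of_dvd _ (Finset.dvd_prod_of_mem _ hmem) (pr.x_mem_augIdeal l (by omega))

theorem mem_augIdeal_iff (p : P) : p ∈ pr.augIdeal ↔ pr.b.repr p 0 = 0 := by
  constructor
  · intro hp
    rw [← aug_eq_repr]
    have : pr.augIdeal ≤ RingHom.ker (pr.aug : P →+* R) := by
      unfold augIdeal
      rw [Ideal.span_le]
      rintro _ ⟨l, n, hn, rfl⟩
      simp only [SetLike.mem_coe, RingHom.mem_ker, RingHom.coe_coe]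
      rw [aug_x, if_neg (by omega)]
    exact this hp
  · intro h
    rw [← pr.b.linearCombination_repr p, Finsupp.linearCombination_apply, Finsupp.sum]
    apply Ideal.sum_mem
    intro e he
    by_cases h0 : e = 0
    · subst h0
      rw [h, zero_smul]
      exact Ideal.zero_mem _
    · rw [Algebra.smul_def]
      exact Ideal.mul_mem_left _ _ (pr.b_mem_augIdeal h0)

theorem mem_augIdeal_iff_aug (p : P) : p ∈ pr.augIdeal ↔ pr.aug p = 0 := by
  rw [mem_augIdeal_iff, aug_eq_repr]

/-- every element is its augmentation plus an element of the augmentation ideal -/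
theorem sub_aug_mem (p : P) : p - algebraMap R P (pr.aug p) ∈ pr.augIdeal := by
  rw [mem_augIdeal_iff_aug, map_sub, AlgHom.commutes]
  simp

end Pres

end Groth.Agent.Helper7.DivPw
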