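import Groth.Agent.Helper7.DivPwA

/-!
# The model of the divided power polynomial algebra over a subring of a ℚ-algebra (helper7)
-/

set_option autoImplicit false

namespace Groth.Agent.Helper7.DivPw

open Finset

noncomputable section

namespace Model

variable (R₀ : Type*) (Q₀ : Type*) (Λ : Type*) [CommRing R₀] [CommRing Q₀] [Algebra ℚ Q₀]
  [Algebra R₀ Q₀]

/-- the ideal of the variables -/
def XI : Ideal (MvPolynomial Λ Q₀) := Ideal.span (Set.range MvPolynomial.X)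

open Classical in
/-- the divided powers `x^n/n!` on the ideal of the variables -/
def γB : DividedPowers (XI Q₀ Λ) := DividedPowers.RatAlgebra.dividedPowers _

variable {Λ} in
theorem X_mem (l : Λ) : (MvPolynomial.X l : MvPolynomial Λ Q₀) ∈ XI Q₀ Λ :=
  Ideal.subset_span ⟨l, rfl⟩

/-- `X_l^n/n!` -/
def xB (l : Λ) (n : ℕ) : MvPolynomial Λ Q₀ := (γB Q₀ Λ).dpow n (MvPolynomial.X l)

theorem xB_zero (l : Λ) : xB Q₀ Λ l 0 = 1 := (γB Q₀ Λ).dpow_zero (X_mem Q₀ l)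

theorem xB_one (l : Λ) : xB Q₀ Λ l 1 = MvPolynomial.X l := (γB Q₀ Λ).dpow_one (X_mem Q₀ l)

theorem xB_mul (l : Λ) (n m : ℕ) :
    xB Q₀ Λ l n * xB Q₀ Λ l m = ((n + m).choose n : MvPolynomial Λ Q₀) * xB Q₀ Λ l (n + m) :=
  (γB Q₀ Λ).mul_dpow (X_mem Q₀ l)

theorem xB_eq (l : Λ) (n : ℕ) :
    xB Q₀ Λ l n = ((n.factorial : ℚ)⁻¹) • (MvPolynomial.X l : MvPolynomial Λ Q₀) ^ n := by
  unfold xB
  rw [DividedPowers.RatAlgebra.dpow_eq_inv_fact_smul _ (γB Q₀ Λ) (X_mem Q₀ l), Ring.inverse_eq_inv']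

theorem dpow_xB (l : Λ) (n m : ℕ) (hm : m ≠ 0) :
    (γB Q₀ Λ).dpow n (xB Q₀ Λ l m) =
      (Nat.uniformBell n m : MvPolynomial Λ Q₀) * xB Q₀ Λ l (n * m) :=
  (γB Q₀ Λ).dpow_comp hm (X_mem Q₀ l)

/-- the monomials `∏ X_l^{e_l}/e_l!` -/
def βB (e : Λ →₀ ℕ) : MvPolynomial Λ Q₀ := mon (xB Q₀ Λ) e

/-- the scalar `∏ 1/e_l!` -/
def cB (e : Λ →₀ ℕ) : ℚ := ∏ l ∈ e.support, ((e l).factorial : ℚ)⁻¹

theorem cB_ne_zero (e : Λ →₀ ℕ) : cB Λ e ≠ 0 := by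
  unfold cB
  rw [Finset.prod_ne_zero_iff]
  intro l _
  exact inv_ne_zero (Nat.cast_ne_zero.mpr (Nat.factorial_ne_zero _))

theorem βB_eq (e : Λ →₀ ℕ) : βB Q₀ Λ e = cB Λ e • MvPolynomial.monomial e (1 : Q₀) := by
  unfold βB mon Finsupp.prod cB
  simp only [xB_eq]
  rw [Finset.prod_smul, MvPolynomial.prod_X_pow_eq_monomial]

variable {R₀ Q₀} in
theorem βB_linearIndependent (hinj : Function.Injective (algebraMap R₀ Q₀)) :
    LinearIndependent R₀ (βB Q₀ Λ) := by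
  classical
  rw [linearIndependent_iff]
  intro c hc
  ext e
  have h1 := congrArg (MvPolynomial.coeff e) hc
  rw [Finsupp.linearCombination_apply, Finsupp.sum, MvPolynomial.coeff_sum] at h1
  simp only [MvPolynomial.coeff_smul, βB_eq, MvPolynomial.coeff_monomial, MvPolynomial.coeff_zero]
    at h1
  rw [Finset.sum_eq_single e] at h1
  · rw [if_pos rfl] at h1
    have hu : IsUnit (algebraMap ℚ Q₀ (cB Λ e)) :=
      (isUnit_iff_ne_zero.mpr (cB_ne_zero Λ e)).map _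
    have h2 : algebraMap R₀ Q₀ (c e) * algebraMap ℚ Q₀ (cB Λ e) = 0 := by
      rw [← h1, Algebra.smul_def, Algebra.smul_def, mul_one]
    have h3 : algebraMap R₀ Q₀ (c e) = 0 := by
      rwa [hu.mul_left_eq_zero] at h2
    rw [Finsupp.zero_apply]
    exact hinj (by rw [h3, map_zero])
  · intro e' _ he'
    rw [if_neg he', smul_zero, smul_zero]
  · intro he
    rw [Finsupp.notMem_support_iff.mp he, zero_smul]

/-- the `R₀`-span of the monomials -/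
def Dsub : Submodule R₀ (MvPolynomial Λ Q₀) := Submodule.span R₀ (Set.range (βB Q₀ Λ))

theorem βB_mem (e : Λ →₀ ℕ) : βB Q₀ Λ e ∈ Dsub R₀ Q₀ Λ := Submodule.subset_span ⟨e, rfl⟩

theorem one_mem_Dsub : (1 : MvPolynomial Λ Q₀) ∈ Dsub R₀ Q₀ Λ := by
  have := βB_mem R₀ Q₀ Λ 0
  rwa [βB, mon_zero] at this

theorem mul_mem_Dsub (a c : MvPolynomial Λ Q₀) (ha : a ∈ Dsub R₀ Q₀ Λ) (hc : c ∈ Dsub R₀ Q₀ Λ) :
    a * c ∈ Dsub R₀ Q₀ Λ := by
  have h : Dsub R₀ Q₀ Λ * Dsub R₀ Q₀ Λ ≤ Dsub R₀ Q₀ Λ := by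
    unfold Dsub
    rw [Submodule.span_mul_span, Submodule.span_le]
    rintro _ ⟨_, ⟨e, rfl⟩, _, ⟨e', rfl⟩, rfl⟩
    show βB Q₀ Λ e * βB Q₀ Λ e' ∈ _
    unfold βB
    rw [mon_mul _ (xB_zero Q₀ Λ) (xB_mul Q₀ Λ), ← nsmul_eq_mul]
    exact Submodule.smul_of_tower_mem _ _ (Submodule.subset_span ⟨e + e', rfl⟩)
  exact h (Submodule.mul_mem_mul ha hc)

/-- the model of the divided power polynomial algebra, as a subalgebra -/
def D : Subalgebra R₀ (MvPolynomial Λ Q₀) :=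
  (Dsub R₀ Q₀ Λ).toSubalgebra (one_mem_Dsub R₀ Q₀ Λ) (mul_mem_Dsub R₀ Q₀ Λ)

theorem mem_D_iff (a : MvPolynomial Λ Q₀) : a ∈ D R₀ Q₀ Λ ↔ a ∈ Dsub R₀ Q₀ Λ := Iff.rfl

/-- the monomials in the model -/
def βD (e : Λ →₀ ℕ) : D R₀ Q₀ Λ := ⟨βB Q₀ Λ e, βB_mem R₀ Q₀ Λ e⟩

/-- the generators in the model -/
def xD (l : Λ) (n : ℕ) : D R₀ Q₀ Λ :=
  ⟨xB Q₀ Λ l n, by
    have := βB_mem R₀ Q₀ Λ (Finsupp.single l n)
    rwa [βB, mon_single _ (xB_zero Q₀ Λ)] at this⟩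

variable {R₀ Q₀} in
theorem βD_linearIndependent (hinj : Function.Injective (algebraMap R₀ Q₀)) :
    LinearIndependent R₀ (βD R₀ Q₀ Λ) := by
  apply LinearIndependent.of_comp (D R₀ Q₀ Λ).val.toLinearMap
  exact βB_linearIndependent Λ hinj

theorem βD_span : ⊤ ≤ Submodule.span R₀ (Set.range (βD R₀ Q₀ Λ)) := by
  rintro ⟨a, ha⟩ -
  have h1 : Submodule.map (D R₀ Q₀ Λ).val.toLinearMap (Submodule.span R₀ (Set.range (βD R₀ Q₀ Λ)))
      = Dsub R₀ Q₀ Λ := by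
    rw [Submodule.map_span, ← Set.range_comp]
    rfl
  have h2 : a ∈ Submodule.map (D R₀ Q₀ Λ).val.toLinearMap
      (Submodule.span R₀ (Set.range (βD R₀ Q₀ Λ))) := by
    rw [h1]; exact ha
  obtain ⟨y, hy, hya⟩ := h2
  have : y = ⟨a, ha⟩ := Subtype.ext hya
  rwa [← this]

variable {R₀ Q₀} in
/-- the model is a presented dp polynomial algebra -/
def pres (hinj : Function.Injective (algebraMap R₀ Q₀)) : Pres R₀ (D R₀ Q₀ Λ) Λ where
  x := xD R₀ Q₀ Λ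
  x_zero l := Subtype.ext (xB_zero Q₀ Λ l)
  x_mul l n m := Subtype.ext (by
    simp only [xD, MulMemClass.coe_mul, xB_mul]
    simp)
  b := Module.Basis.mk (βD_linearIndependent Λ hinj) (βD_span R₀ Q₀ Λ)
  hb e := by
    rw [Module.Basis.mk_apply]
    apply Subtype.ext
    have := map_mon (xD R₀ Q₀ Λ) ((D R₀ Q₀ Λ).val : D R₀ Q₀ Λ →+* MvPolynomial Λ Q₀) e
    unfold mon at this
    simp only [RingHom.coe_coe, Subalgebra.coe_val] at this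
    rw [this]
    rfl

section DP

variable {R₀ Q₀} (hinj : Function.Injective (algebraMap R₀ Q₀))

theorem map_augIdeal :
    (pres Λ hinj).augIdeal.map ((D R₀ Q₀ Λ).val : D R₀ Q₀ Λ →+* MvPolynomial Λ Q₀) = XI Q₀ Λ := by
  unfold Pres.augIdeal
  rw [Ideal.map_span]
  apply le_antisymm
  · rw [Ideal.span_le]
    rintro _ ⟨_, ⟨l, n, hn, rfl⟩, rfl⟩
    exact (γB Q₀ Λ).dpow_mem (by omega) (X_mem Q₀ l)
  · unfold XI
    rw [Ideal.span_le]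
    rintro _ ⟨l, rfl⟩
    exact Ideal.subset_span ⟨xD R₀ Q₀ Λ l 1, ⟨l, 1, le_rfl, rfl⟩, xB_one Q₀ Λ l⟩

theorem val_mem_XI {a : D R₀ Q₀ Λ} (ha : a ∈ (pres Λ hinj).augIdeal) :
    (a : MvPolynomial Λ Q₀) ∈ XI Q₀ Λ := by
  rw [← map_augIdeal Λ hinj]
  exact Ideal.mem_map_of_mem _ ha

theorem hmem_aux (a : D R₀ Q₀ Λ) (ha : a ∈ (pres Λ hinj).augIdeal) :
    ∀ n : ℕ, ∃ y : D R₀ Q₀ Λ, (n ≠ 0 → y ∈ (pres Λ hinj).augIdeal) ∧
      (y : MvPolynomial Λ Q₀) = (γB Q₀ Λ).dpow n (a : MvPolynomial Λ Q₀) := by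
  unfold Pres.augIdeal at ha
  induction ha using Submodule.span_induction with
  | mem a h =>
    obtain ⟨l, m, hm, rfl⟩ := h
    intro n
    refine ⟨(Nat.uniformBell n m : D R₀ Q₀ Λ) * xD R₀ Q₀ Λ l (n * m), ?_, ?_⟩
    · intro hn
      apply Ideal.mul_mem_left
      apply (pres Λ hinj).x_mem_augIdeal
      exact Nat.one_le_iff_ne_zero.mpr (Nat.mul_ne_zero hn (by omega))
    · show _ = (γB Q₀ Λ).dpow n (xB Q₀ Λ l m)
      rw [dpow_xB Q₀ Λ l n m (by omega)]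
      simp [xD]
  | zero =>
    intro n
    by_cases hn : n = 0
    · subst hn
      exact ⟨1, fun h => absurd rfl h, by
        rw [ZeroMemClass.coe_zero, (γB Q₀ Λ).dpow_zero (Ideal.zero_mem _)]; rfl⟩
    · exact ⟨0, fun _ => Ideal.zero_mem _, by
        rw [ZeroMemClass.coe_zero, (γB Q₀ Λ).dpow_eval_zero hn]⟩
  | add a c ha hc iha ihc =>
    intro n
    choose ya hya1 hya2 using iha
    choose yc hyc1 hyc2 using ihc
    refine ⟨∑ k ∈ antidiagonal n, ya k.1 * yc k.2, ?_, ?_⟩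
    · intro hn
      apply Ideal.sum_mem
      intro k hk
      rw [Finset.HasAntidiagonal.mem_antidiagonal] at hk
      by_cases h1 : k.1 = 0
      · exact Ideal.mul_mem_left _ _ (hyc1 k.2 (by omega))
      · exact Ideal.mul_mem_right _ _ (hya1 k.1 h1)
    · have ha' : (a : MvPolynomial Λ Q₀) ∈ XI Q₀ Λ := val_mem_XI Λ hinj ha
      have hc' : (c : MvPolynomial Λ Q₀) ∈ XI Q₀ Λ := val_mem_XI Λ hinj hc
      rw [AddMemClass.coe_add, (γB Q₀ Λ).dpow_add ha' hc', AddSubmonoidClass.coe_finsetSum]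
      apply Finset.sum_congr rfl
      intro k _
      rw [MulMemClass.coe_mul, hya2, hyc2]
  | smul r a ha ih =>
    intro n
    obtain ⟨y, hy1, hy2⟩ := ih n
    refine ⟨r ^ n * y, fun hn => Ideal.mul_mem_left _ _ (hy1 hn), ?_⟩
    have ha' : (a : MvPolynomial Λ Q₀) ∈ XI Q₀ Λ := val_mem_XI Λ hinj ha
    have e1 : ((r • a : D R₀ Q₀ Λ) : MvPolynomial Λ Q₀) =
        (r : MvPolynomial Λ Q₀) * (a : MvPolynomial Λ Q₀) := rfl
    rw [e1, (γB Q₀ Λ).dpow_mul ha', MulMemClass.coe_mul, SubmonoidClass.coe_pow, hy2]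

/-- the divided powers on the augmentation ideal of the model -/
def γ₀ : DividedPowers (pres Λ hinj).augIdeal :=
  DividedPowers.ofInjective _ _ ((D R₀ Q₀ Λ).val : D R₀ Q₀ Λ →+* MvPolynomial Λ Q₀)
    Subtype.val_injective (γB Q₀ Λ) (map_augIdeal Λ hinj)
    (fun n {x} hx => by
      obtain ⟨y, hy1, hy2⟩ := hmem_aux Λ hinj x hx n
      exact ⟨y, hy1, hy2⟩)

theorem val_γ₀ (n : ℕ) {a : D R₀ Q₀ Λ} (ha : a ∈ (pres Λ hinj).augIdeal) :
    (((γ₀ Λ hinj).dpow n a : D R₀ Q₀ Λ) : MvPolynomial Λ Q₀) =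
      (γB Q₀ Λ).dpow n (a : MvPolynomial Λ Q₀) := by
  have h' : ∃ (y : D R₀ Q₀ Λ) (_ : n ≠ 0 → y ∈ (pres Λ hinj).augIdeal),
      ((D R₀ Q₀ Λ).val : D R₀ Q₀ Λ →+* MvPolynomial Λ Q₀) y =
        (γB Q₀ Λ).dpow n (((D R₀ Q₀ Λ).val : D R₀ Q₀ Λ →+* MvPolynomial Λ Q₀) a) := by
    obtain ⟨y, hy1, hy2⟩ := hmem_aux Λ hinj a ha n
    exact ⟨y, hy1, hy2⟩
  simp only [γ₀, DividedPowers.ofInjective, dif_pos ha]
  exact h'.choose_spec.2

theorem γ₀_x (l : Λ) (n : ℕ) :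
    (γ₀ Λ hinj).dpow n ((pres Λ hinj).x l 1) = (pres Λ hinj).x l n := by
  apply Subtype.ext
  rw [val_γ₀ Λ hinj n ((pres Λ hinj).x_mem_augIdeal l le_rfl)]
  show (γB Q₀ Λ).dpow n (xB Q₀ Λ l 1) = xB Q₀ Λ l n
  rw [xB_one]
  rfl

end DP

end Model

end

end Groth.Agent.Helper7.DivPw
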