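import Groth.Agent.Helper7.DivPwB

/-!
# Divided powers from generators (helper7)

If a family `d n` satisfies the "exponential" axioms of divided powers on an ideal `I`, and the
product and composition rules on a generating set, then it is a divided power structure.
-/

set_option autoImplicit false

namespace Groth.Agent.Helper7.DivPw

open Finset

universe u

section

variable {A : Type u} [CommRing A] (I : Ideal A) (S : Set A) (hS : Ideal.span S = I)
  (d : ℕ → A → A) (h_zero : ∀ x ∈ I, d 0 x = 1) (h_one : ∀ x ∈ I, d 1 x = x)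
  (h_mem : ∀ (n : ℕ) (x : A), n ≠ 0 → x ∈ I → d n x ∈ I)
  (h_add : ∀ (n : ℕ) (x y : A), x ∈ I → y ∈ I →
    d n (x + y) = (antidiagonal n).sum fun k => d k.1 x * d k.2 y)
  (h_mul : ∀ (n : ℕ) (a x : A), x ∈ I → d n (a * x) = a ^ n * d n x)
  (h_mul_dpow : ∀ (m n : ℕ) (x : A), x ∈ S → d m x * d n x = (m + n).choose m * d (m + n) x)
  (h_comp : ∀ (m n : ℕ) (x : A), n ≠ 0 → x ∈ S →
    d m (d n x) = Nat.uniformBell m n * d (m * n) x)

include hS h_zero h_one h_mem h_add h_mul h_mul_dpow h_comp in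
theorem gens_key (z : A) (hz : z ∈ I) :
    (∀ m n : ℕ, d m z * d n z = (m + n).choose m * d (m + n) z) ∧
      (∀ m n : ℕ, n ≠ 0 → d m (d n z) = Nat.uniformBell m n * d (m * n) z) := by
  classical
  have hSI : ∀ s ∈ S, s ∈ I := fun s hs => hS ▸ Ideal.subset_span hs
  have hd0 : ∀ n : ℕ, n ≠ 0 → d n 0 = 0 := by
    intro n hn
    have := h_mul n 0 0 (Ideal.zero_mem _)
    rw [mul_zero, zero_pow hn, zero_mul] at this
    exact this
  -- a representation of `z`
  rw [← hS, Ideal.span, Submodule.mem_span_set] at hz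
  obtain ⟨c, hc, hcz⟩ := hz
  -- the universal situation
  let Λ := {s : A // s ∈ S}
  let R₀ := MvPolynomial Λ ℤ
  let Q₀ := MvPolynomial Λ ℚ
  letI : Algebra R₀ Q₀ := (MvPolynomial.map (Int.castRingHom ℚ)).toAlgebra
  have hinj : Function.Injective (algebraMap R₀ Q₀) :=
    MvPolynomial.map_injective (Int.castRingHom ℚ) Int.cast_injective
  let a : Λ → A := fun s => c s.1
  letI : Algebra R₀ A := (MvPolynomial.aeval a : MvPolynomial Λ ℤ →ₐ[ℤ] A).toRingHom.toAlgebra
  have halg : ∀ s : Λ, algebraMap R₀ A (MvPolynomial.X s) = a s := by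
    intro s
    show (MvPolynomial.aeval a : MvPolynomial Λ ℤ →ₐ[ℤ] A) (MvPolynomial.X s) = a s
    rw [MvPolynomial.aeval_X]
  let pr := Model.pres (R₀ := R₀) (Q₀ := Q₀) Λ hinj
  let γ₀ := Model.γ₀ (R₀ := R₀) (Q₀ := Q₀) Λ hinj
  have hγ₀x : ∀ (l : Λ) (n : ℕ), γ₀.dpow n (pr.x l 1) = pr.x l n := Model.γ₀_x Λ hinj
  let φ : Model.D R₀ Q₀ Λ →ₐ[R₀] A :=
    pr.lift (fun s n => d n s.1) (fun s => h_zero _ (hSI _ s.2))
      (fun s n m => by
        exact h_mul_dpow n m s.1 s.2)
  have hφx : ∀ (s : Λ) (n : ℕ), φ (pr.x s n) = d n s.1 := fun s n => pr.lift_x _ _ _ s n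
  -- the key compatibility
  have claim : ∀ y ∈ pr.augIdeal, φ y ∈ I ∧ ∀ n, φ (γ₀.dpow n y) = d n (φ y) := by
    intro y hy
    unfold Pres.augIdeal at hy
    induction hy using Submodule.span_induction with
    | mem y h =>
      obtain ⟨s, m, hm, rfl⟩ := h
      have hm0 : m ≠ 0 := by omega
      refine ⟨by rw [hφx]; exact h_mem m _ hm0 (hSI _ s.2), fun n => ?_⟩
      rw [← hγ₀x s m, γ₀.dpow_comp hm0 (pr.x_mem_augIdeal s le_rfl), hγ₀x, hγ₀x, map_mul,
        map_natCast, hφx, hφx, h_comp n m s.1 hm0 s.2]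
    | zero =>
      refine ⟨by rw [map_zero]; exact Ideal.zero_mem _, fun n => ?_⟩
      by_cases hn : n = 0
      · subst hn
        rw [γ₀.dpow_zero (Ideal.zero_mem _), map_one, map_zero, h_zero 0 (Ideal.zero_mem _)]
      · rw [γ₀.dpow_eval_zero hn, map_zero, hd0 n hn]
    | add y y' hy hy' ihy ihy' =>
      refine ⟨by rw [map_add]; exact Ideal.add_mem _ ihy.1 ihy'.1, fun n => ?_⟩
      rw [γ₀.dpow_add hy hy', map_sum, map_add, h_add n _ _ ihy.1 ihy'.1]
      apply Finset.sum_congr rfl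
      intro k _
      rw [map_mul, ihy.2, ihy'.2]
    | smul r y hy ihy =>
      refine ⟨by rw [smul_eq_mul, map_mul]; exact Ideal.mul_mem_left _ _ ihy.1, fun n => ?_⟩
      rw [smul_eq_mul, γ₀.dpow_mul hy, map_mul, map_pow, ihy.2, map_mul, h_mul n _ _ ihy.1]
  -- the universal element
  let F : Finset Λ := c.support.subtype (· ∈ S)
  let y₀ : Model.D R₀ Q₀ Λ := ∑ s ∈ F, (MvPolynomial.X s : R₀) • pr.x s 1
  have hy₀ : y₀ ∈ pr.augIdeal := by
    apply Ideal.sum_mem
    intro s _
    rw [Algebra.smul_def]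
    exact Ideal.mul_mem_left _ _ (pr.x_mem_augIdeal s le_rfl)
  have hφy₀ : φ y₀ = z := by
    rw [← hcz, map_sum]
    simp only [map_smul, hφx]
    rw [Finsupp.sum, ← Finset.sum_subtype_of_mem (fun m => c m • m) (p := (· ∈ S))
      (fun x hx => hc hx)]
    apply Finset.sum_congr rfl
    intro s _
    rw [Algebra.smul_def, halg, h_one _ (hSI _ s.2), smul_eq_mul]
  obtain ⟨-, hcl⟩ := claim y₀ hy₀
  constructor
  · intro m n
    rw [← hφy₀, ← hcl, ← hcl, ← hcl, ← map_mul, γ₀.mul_dpow hy₀, map_mul, map_natCast]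
  · intro m n hn
    rw [← hφy₀, ← hcl n, ← (claim _ (γ₀.dpow_mem hn hy₀)).2, γ₀.dpow_comp hn hy₀, map_mul,
      map_natCast, hcl]

include hS h_zero h_one h_mem h_add h_mul h_mul_dpow h_comp in
/-- **Divided powers from generators.** -/
theorem dividedPowers_of_gens (h_null : ∀ (n : ℕ) (x : A), x ∉ I → d n x = 0) :
    ∃ γ : DividedPowers I, γ.dpow = d := by
  have key := gens_key I S hS d h_zero h_one h_mem h_add h_mul h_mul_dpow h_comp
  exact ⟨{ dpow := d
           dpow_null := fun {n x} hx => h_null n x hx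
           dpow_zero := fun {x} hx => h_zero x hx
           dpow_one := fun {x} hx => h_one x hx
           dpow_mem := fun {n x} hn hx => h_mem n x hn hx
           dpow_add := fun {n x y} hx hy => h_add n x y hx hy
           dpow_mul := fun {n a x} hx => h_mul n a x hx
           mul_dpow := fun {m n x} hx => (key x hx).1 m n
           dpow_comp := fun {m n x} hn hx => (key x hx).2 m n hn }, rfl⟩

end

end Groth.Agent.Helper7.DivPw
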