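import Groth.Agent.Helper7.DivPwC

/-!
# Divided powers from an exponential, and divided powers on a sum of ideals (helper7)
-/

set_option autoImplicit false

namespace Groth.Agent.Helper7.DivPw

open Finset PowerSeries

universe u

section Exp

variable {A : Type u} [CommRing A] (I : Ideal A) (S : Set A) (hS : Ideal.span S = I)
  (E : A → PowerSeries A)
  (hE0 : ∀ z ∈ I, coeff 0 (E z) = 1)
  (hE1 : ∀ z ∈ I, coeff 1 (E z) = z)
  (hEmem : ∀ z ∈ I, ∀ n : ℕ, n ≠ 0 → coeff n (E z) ∈ I)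
  (hEadd : ∀ z ∈ I, ∀ z' ∈ I, E (z + z') = E z * E z')
  (hEmul : ∀ (c : A), ∀ z ∈ I, E (c * z) = rescale c (E z))
  (hS1 : ∀ x ∈ S, ∀ m n : ℕ,
    coeff m (E x) * coeff n (E x) = (m + n).choose m * coeff (m + n) (E x))
  (hS2 : ∀ x ∈ S, ∀ m n : ℕ, n ≠ 0 →
    coeff m (E (coeff n (E x))) = Nat.uniformBell m n * coeff (m * n) (E x))

include hS hE0 hE1 hEmem hEadd hEmul hS1 hS2 in
/-- divided powers from an "exponential" -/
theorem dividedPowers_of_exp :
    ∃ γ : DividedPowers I, ∀ z ∈ I, ∀ n : ℕ, γ.dpow n z = coeff n (E z) := by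
  classical
  have hSI : ∀ s ∈ S, s ∈ I := fun s hs => hS ▸ Ideal.subset_span hs
  let d : ℕ → A → A := fun n z => if z ∈ I then coeff n (E z) else 0
  have hd : ∀ n z, z ∈ I → d n z = coeff n (E z) := fun n z hz => if_pos hz
  obtain ⟨γ, hγ⟩ := dividedPowers_of_gens I S hS d
    (fun x hx => by rw [hd _ _ hx, hE0 x hx])
    (fun x hx => by rw [hd _ _ hx, hE1 x hx])
    (fun n x hn hx => by rw [hd _ _ hx]; exact hEmem x hx n hn)
    (fun n x y hx hy => by
      rw [hd _ _ (Ideal.add_mem _ hx hy), hEadd x hx y hy, coeff_mul]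
      apply Finset.sum_congr rfl
      intro k _
      rw [hd _ _ hx, hd _ _ hy])
    (fun n a x hx => by
      rw [hd _ _ (Ideal.mul_mem_left _ _ hx), hd _ _ hx, hEmul a x hx, coeff_rescale])
    (fun m n x hx => by
      rw [hd _ _ (hSI x hx), hd _ _ (hSI x hx), hd _ _ (hSI x hx), hS1 x hx])
    (fun m n x hn hx => by
      rw [hd n _ (hSI x hx), hd _ _ (hEmem x (hSI x hx) n hn), hd _ _ (hSI x hx), hS2 x hx m n hn])
    (fun n x hx => if_neg hx)
  exact ⟨γ, fun z hz n => by rw [hγ]; exact hd n z hz⟩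

end Exp

section DPExp

variable {A : Type u} [CommRing A] {I : Ideal A} (γ : DividedPowers I)

theorem exp_zero' : γ.exp 0 = 1 := by
  ext n
  rw [DividedPowers.exp, coeff_mk, coeff_one]
  by_cases hn : n = 0
  · subst hn; rw [if_pos rfl, γ.dpow_zero (Ideal.zero_mem _)]
  · rw [if_neg hn, γ.dpow_eval_zero hn]

theorem coeff_exp (n : ℕ) (a : A) : coeff n (γ.exp a) = γ.dpow n a := by
  rw [DividedPowers.exp, coeff_mk]

theorem exp_mul' (c : A) {a : A} (ha : a ∈ I) : γ.exp (c * a) = rescale c (γ.exp a) := by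
  ext n
  rw [coeff_rescale, coeff_exp, coeff_exp, γ.dpow_mul ha]

end DPExp

section IdealAdd

variable {A : Type u} [CommRing A] {I J : Ideal A} (γ : DividedPowers I) (δ : DividedPowers J)
  (h : ∀ (n : ℕ) (x : A), x ∈ I ⊓ J → γ.dpow n x = δ.dpow n x)

include h in
theorem exp_mul_exp_eq {a a' b b' : A} (ha : a ∈ I) (ha' : a' ∈ I) (hb : b ∈ J) (hb' : b' ∈ J)
    (hab : a + b = a' + b') : γ.exp a * δ.exp b = γ.exp a' * δ.exp b' := by
  have hcI : a - a' ∈ I := Ideal.sub_mem _ ha ha'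
  have hcJ : a - a' ∈ J := by
    have : a - a' = b' - b := by linear_combination hab
    rw [this]
    exact Ideal.sub_mem _ hb' hb
  have e1 : γ.exp a = γ.exp a' * γ.exp (a - a') := by
    rw [← γ.exp_add ha' hcI]; congr 1; ring
  have e2 : δ.exp b' = δ.exp b * δ.exp (a - a') := by
    rw [← δ.exp_add hb hcJ]; congr 1; linear_combination -hab
  have e3 : γ.exp (a - a') = δ.exp (a - a') := by
    ext n
    rw [coeff_exp, coeff_exp, h n _ ⟨hcI, hcJ⟩]
  rw [e1, e2, e3]
  ring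

open Classical in
/-- the exponential on `I ⊔ J` -/
noncomputable def expAdd (z : A) : PowerSeries A :=
  if hz : z ∈ I ⊔ J then
    γ.exp (Submodule.mem_sup.mp hz).choose * δ.exp (Submodule.mem_sup.mp hz).choose_spec.2.choose
  else 0

include h in
theorem expAdd_eq {a b : A} (ha : a ∈ I) (hb : b ∈ J) :
    expAdd γ δ (a + b) = γ.exp a * δ.exp b := by
  have hz : a + b ∈ I ⊔ J := Submodule.add_mem_sup ha hb
  unfold expAdd
  rw [dif_pos hz]
  have h1 := (Submodule.mem_sup.mp hz).choose_spec.1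
  have h2 := (Submodule.mem_sup.mp hz).choose_spec.2.choose_spec.1
  have h3 := (Submodule.mem_sup.mp hz).choose_spec.2.choose_spec.2
  exact exp_mul_exp_eq γ δ h h1 ha h2 hb h3

include h in
/-- **Divided powers on a sum of ideals**, existence -/
theorem exists_dividedPowers_sup :
    ∃ ε : DividedPowers (I ⊔ J), ∀ a ∈ I, ∀ b ∈ J, ∀ n : ℕ,
      ε.dpow n (a + b) = coeff n (γ.exp a * δ.exp b) := by
  have hS : Ideal.span ((I : Set A) ∪ (J : Set A)) = I ⊔ J := by
    rw [Ideal.span_union, Ideal.span_eq, Ideal.span_eq]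
  have hdec : ∀ z ∈ I ⊔ J, ∃ a ∈ I, ∃ b ∈ J, a + b = z := fun z hz => Submodule.mem_sup.mp hz
  have hI : ∀ x ∈ I, expAdd γ δ x = γ.exp x := by
    intro x hx
    have := expAdd_eq γ δ h hx (Ideal.zero_mem J)
    rwa [add_zero, exp_zero', mul_one] at this
  have hJ : ∀ x ∈ J, expAdd γ δ x = δ.exp x := by
    intro x hx
    have := expAdd_eq γ δ h (Ideal.zero_mem I) hx
    rwa [zero_add, exp_zero', one_mul] at this
  obtain ⟨ε, hε⟩ := dividedPowers_of_exp (I ⊔ J) ((I : Set A) ∪ (J : Set A)) hS (expAdd γ δ)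
    (by
      intro z hz
      obtain ⟨a, ha, b, hb, rfl⟩ := hdec z hz
      rw [expAdd_eq γ δ h ha hb, coeff_mul]
      simp [coeff_exp, γ.dpow_zero ha, δ.dpow_zero hb])
    (by
      intro z hz
      obtain ⟨a, ha, b, hb, rfl⟩ := hdec z hz
      rw [expAdd_eq γ δ h ha hb, coeff_mul]
      simp only [coeff_exp]
      rw [Finset.Nat.sum_antidiagonal_eq_sum_range_succ_mk, Finset.sum_range_succ,
        Finset.sum_range_one]
      simp only [Nat.sub_zero, Nat.sub_self]
      rw [γ.dpow_zero ha, δ.dpow_zero hb, γ.dpow_one ha, δ.dpow_one hb]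
      ring)
    (by
      intro z hz n hn
      obtain ⟨a, ha, b, hb, rfl⟩ := hdec z hz
      rw [expAdd_eq γ δ h ha hb, coeff_mul]
      apply Ideal.sum_mem
      intro k hk
      rw [Finset.mem_antidiagonal] at hk
      rw [coeff_exp, coeff_exp]
      by_cases h1 : k.1 = 0
      · exact Ideal.mul_mem_left _ _ (Ideal.mem_sup_right (δ.dpow_mem (by omega) hb))
      · exact Ideal.mul_mem_right _ _ (Ideal.mem_sup_left (γ.dpow_mem h1 ha)))
    (by
      intro z hz z' hz'
      obtain ⟨a, ha, b, hb, rfl⟩ := hdec z hz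
      obtain ⟨a', ha', b', hb', rfl⟩ := hdec z' hz'
      have e : a + b + (a' + b') = (a + a') + (b + b') := by ring
      rw [e, expAdd_eq γ δ h (Ideal.add_mem _ ha ha') (Ideal.add_mem _ hb hb'),
        expAdd_eq γ δ h ha hb, expAdd_eq γ δ h ha' hb', γ.exp_add ha ha', δ.exp_add hb hb']
      ring)
    (by
      intro c z hz
      obtain ⟨a, ha, b, hb, rfl⟩ := hdec z hz
      rw [mul_add, expAdd_eq γ δ h (Ideal.mul_mem_left _ c ha) (Ideal.mul_mem_left _ c hb),
        expAdd_eq γ δ h ha hb, exp_mul' γ c ha, exp_mul' δ c hb, map_mul])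
    (by
      rintro x (hx | hx) m n
      · rw [hI x hx, coeff_exp, coeff_exp, coeff_exp, γ.mul_dpow hx]
      · rw [hJ x hx, coeff_exp, coeff_exp, coeff_exp, δ.mul_dpow hx])
    (by
      rintro x (hx | hx) m n hn
      · rw [hI x hx, coeff_exp, hI _ (γ.dpow_mem hn hx), coeff_exp, coeff_exp, γ.dpow_comp hn hx]
      · rw [hJ x hx, coeff_exp, hJ _ (δ.dpow_mem hn hx), coeff_exp, coeff_exp, δ.dpow_comp hn hx])
  refine ⟨ε, fun a ha b hb n => ?_⟩
  rw [hε _ (Submodule.add_mem_sup ha hb), expAdd_eq γ δ h ha hb]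

include h in
/-- **Divided powers on a sum of ideals** -/
theorem existsUnique_dividedPowers_sup :
    ∃! ε : DividedPowers (I ⊔ J),
      (∀ (n : ℕ) (x : A), x ∈ I → ε.dpow n x = γ.dpow n x) ∧
        (∀ (n : ℕ) (x : A), x ∈ J → ε.dpow n x = δ.dpow n x) := by
  obtain ⟨ε, hε⟩ := exists_dividedPowers_sup γ δ h
  have h1 : ∀ (n : ℕ) (x : A), x ∈ I → ε.dpow n x = γ.dpow n x := by
    intro n x hx
    have := hε x hx 0 (Ideal.zero_mem _) n
    rwa [add_zero, exp_zero', mul_one, coeff_exp] at this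
  have h2 : ∀ (n : ℕ) (x : A), x ∈ J → ε.dpow n x = δ.dpow n x := by
    intro n x hx
    have := hε 0 (Ideal.zero_mem _) x hx n
    rwa [zero_add, exp_zero', one_mul, coeff_exp] at this
  refine ⟨ε, ⟨h1, h2⟩, ?_⟩
  rintro ε' ⟨h1', h2'⟩
  have hS : I ⊔ J = Ideal.span ((I : Set A) ∪ (J : Set A)) := by
    rw [Ideal.span_union, Ideal.span_eq, Ideal.span_eq]
  apply DividedPowers.dpow_eq_from_gens ε ε' hS
  rintro n a (ha | ha)
  · rw [h1 n a ha, h1' n a ha]
  · rw [h2 n a ha, h2' n a ha]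

end IdealAdd

end Groth.Agent.Helper7.DivPw
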