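import Groth.Agent.Helper7.DivPwD

/-!
# Extension of divided powers along a ring map with `B ⊗ I → B` injective (e.g. flat) (helper7)
-/

set_option autoImplicit false

namespace Groth.Agent.Helper7.DivPw

open Finset PowerSeries TensorProduct

universe u v

noncomputable section

namespace Ext

variable {A : Type u} {B : Type v} [CommRing A] [CommRing B] [Algebra A B] {I : Ideal A}
  (γ : DividedPowers I)

/-- `e₀ b x = Σ_k γ_k(x) b^k t^k` -/
def e₀ (b : B) (x : I) : PowerSeries B :=
  PowerSeries.mk fun k => algebraMap A B (γ.dpow k x) * b ^ k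

theorem coeff_e₀ (b : B) (x : I) (k : ℕ) :
    coeff k (e₀ γ b x) = algebraMap A B (γ.dpow k x) * b ^ k := by
  rw [e₀, coeff_mk]

theorem e₀_zero_left (x : I) : e₀ γ (0 : B) x = 1 := by
  ext n
  rw [coeff_e₀, coeff_one]
  by_cases hn : n = 0
  · subst hn; rw [if_pos rfl, γ.dpow_zero x.2, map_one, pow_zero, one_mul]
  · rw [if_neg hn, zero_pow hn, mul_zero]

theorem e₀_zero_right (b : B) : e₀ γ b (0 : I) = 1 := by
  ext n
  rw [coeff_e₀, coeff_one]
  by_cases hn : n = 0
  · subst hn
    rw [if_pos rfl, ZeroMemClass.coe_zero, γ.dpow_zero (Ideal.zero_mem _), map_one, pow_zero,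
      one_mul]
  · rw [if_neg hn, ZeroMemClass.coe_zero, γ.dpow_eval_zero hn, map_zero, zero_mul]

theorem e₀_add_left (b b' : B) (x : I) : e₀ γ (b + b') x = e₀ γ b x * e₀ γ b' x := by
  ext n
  rw [coeff_mul, coeff_e₀, add_pow, Finset.mul_sum, Finset.Nat.sum_antidiagonal_eq_sum_range_succ_mk]
  apply Finset.sum_congr rfl
  intro i hi
  rw [Finset.mem_range] at hi
  rw [coeff_e₀, coeff_e₀]
  have h1 := γ.mul_dpow (m := i) (n := n - i) x.2
  have h2 : i + (n - i) = n := by omega
  rw [h2] at h1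
  have h3 : algebraMap A B (γ.dpow i x) * algebraMap A B (γ.dpow (n - i) x) =
      (n.choose i : B) * algebraMap A B (γ.dpow n x) := by
    rw [← map_mul, h1, map_mul, map_natCast]
  calc algebraMap A B (γ.dpow n x) * (b ^ i * b' ^ (n - i) * (n.choose i : B))
      = ((n.choose i : B) * algebraMap A B (γ.dpow n x)) * (b ^ i * b' ^ (n - i)) := by ring
    _ = algebraMap A B (γ.dpow i x) * b ^ i * (algebraMap A B (γ.dpow (n - i) x) * b' ^ (n - i)) := by
      rw [← h3]; ring

theorem e₀_add_right (b : B) (x x' : I) : e₀ γ b (x + x') = e₀ γ b x * e₀ γ b x' := by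
  ext n
  rw [coeff_mul, coeff_e₀, AddMemClass.coe_add, γ.dpow_add x.2 x'.2, map_sum, Finset.sum_mul]
  apply Finset.sum_congr rfl
  intro k hk
  rw [Finset.mem_antidiagonal] at hk
  rw [coeff_e₀, coeff_e₀, map_mul, ← hk, pow_add]
  ring

theorem e₀_smul (a : A) (b : B) (x : I) : e₀ γ (a • b) x = e₀ γ b (a • x) := by
  ext n
  rw [coeff_e₀, coeff_e₀, Submodule.coe_smul, smul_eq_mul, γ.dpow_mul x.2, map_mul, map_pow,
    Algebra.smul_def, mul_pow]
  ring

theorem e₀_mul (c b : B) (x : I) : e₀ γ (c * b) x = rescale c (e₀ γ b x) := by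
  ext n
  rw [coeff_rescale, coeff_e₀, coeff_e₀, mul_pow]
  ring

/-- the additive map underlying the exponential on the tensor product -/
def E₀ : B ⊗[A] I →+ Additive (PowerSeries B) :=
  TensorProduct.liftAddHom
    { toFun := fun b =>
        { toFun := fun x => Additive.ofMul (e₀ γ b x)
          map_zero' := by
            show Additive.ofMul (e₀ γ b 0) = 0
            rw [e₀_zero_right]; rfl
          map_add' := fun x x' => by
            show Additive.ofMul (e₀ γ b (x + x')) = _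
            rw [e₀_add_right]; rfl }
      map_zero' := by
        apply AddMonoidHom.ext
        intro x
        show Additive.ofMul (e₀ γ (0 : B) x) = 0
        rw [e₀_zero_left]; rfl
      map_add' := fun b b' => by
        apply AddMonoidHom.ext
        intro x
        show Additive.ofMul (e₀ γ (b + b') x) = _
        rw [e₀_add_left]; rfl }
    (fun a b x => by
      show Additive.ofMul (e₀ γ (a • b) x) = Additive.ofMul (e₀ γ b (a • x))
      rw [e₀_smul])

theorem E₀_tmul (b : B) (x : I) : (E₀ γ (b ⊗ₜ x)).toMul = e₀ γ b x := rfl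

theorem E₀_zero : (E₀ γ (0 : B ⊗[A] I)).toMul = 1 := by
  rw [map_zero]; rfl

theorem E₀_add (w w' : B ⊗[A] I) : (E₀ γ (w + w')).toMul = (E₀ γ w).toMul * (E₀ γ w').toMul := by
  rw [map_add]; rfl

variable (B I) in
/-- the multiplication map `B ⊗ I → B` -/
def μ : B ⊗[A] I →ₗ[B] B :=
  (TensorProduct.AlgebraTensorModule.rid A B B).toLinearMap.comp (I.subtype.baseChange B)

theorem μ_tmul (b : B) (x : I) : μ B I (b ⊗ₜ x) = algebraMap A B x * b := by
  simp [μ, Algebra.smul_def]

theorem μ_mem (w : B ⊗[A] I) : μ B I w ∈ I.map (algebraMap A B) := by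
  induction w using TensorProduct.induction_on with
  | zero => rw [map_zero]; exact Ideal.zero_mem _
  | tmul b x => rw [μ_tmul]; exact Ideal.mul_mem_right _ _ (Ideal.mem_map_of_mem _ x.2)
  | add w w' hw hw' => rw [map_add]; exact Ideal.add_mem _ hw hw'

theorem exists_μ_eq {z : B} (hz : z ∈ I.map (algebraMap A B)) : ∃ w, μ B I w = z := by
  unfold Ideal.map at hz
  induction hz using Submodule.span_induction with
  | mem z h =>
    obtain ⟨x, hx, rfl⟩ := h
    exact ⟨1 ⊗ₜ ⟨x, hx⟩, by rw [μ_tmul, mul_one]⟩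
  | zero => exact ⟨0, map_zero _⟩
  | add z z' _ _ hz hz' =>
    obtain ⟨w, rfl⟩ := hz
    obtain ⟨w', rfl⟩ := hz'
    exact ⟨w + w', map_add _ _ _⟩
  | smul c z _ hz =>
    obtain ⟨w, rfl⟩ := hz
    exact ⟨c • w, map_smul _ _ _⟩

theorem E₀_props (w : B ⊗[A] I) :
    coeff 0 (E₀ γ w).toMul = 1 ∧ coeff 1 (E₀ γ w).toMul = μ B I w ∧
      (∀ n : ℕ, n ≠ 0 → coeff n (E₀ γ w).toMul ∈ I.map (algebraMap A B)) ∧
      (∀ c : B, (E₀ γ (c • w)).toMul = rescale c (E₀ γ w).toMul) := by
  induction w using TensorProduct.induction_on with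
  | zero =>
    refine ⟨?_, ?_, ?_, ?_⟩
    · rw [E₀_zero, coeff_one, if_pos rfl]
    · rw [E₀_zero, coeff_one, if_neg one_ne_zero, map_zero]
    · intro n hn
      rw [E₀_zero, coeff_one, if_neg hn]
      exact Ideal.zero_mem _
    · intro c
      rw [smul_zero, E₀_zero, map_one]
  | tmul b x =>
    refine ⟨?_, ?_, ?_, ?_⟩
    · rw [E₀_tmul, coeff_e₀, γ.dpow_zero x.2, map_one, pow_zero, one_mul]
    · rw [E₀_tmul, coeff_e₀, γ.dpow_one x.2, pow_one, μ_tmul]
    · intro n hn
      rw [E₀_tmul, coeff_e₀]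
      exact Ideal.mul_mem_right _ _ (Ideal.mem_map_of_mem _ (γ.dpow_mem hn x.2))
    · intro c
      rw [TensorProduct.smul_tmul', smul_eq_mul, E₀_tmul, E₀_tmul, e₀_mul]
  | add w w' hw hw' =>
    obtain ⟨h0, h1, hm, hr⟩ := hw
    obtain ⟨h0', h1', hm', hr'⟩ := hw'
    refine ⟨?_, ?_, ?_, ?_⟩
    · rw [E₀_add, coeff_mul]
      simp [h0, h0']
    · rw [E₀_add, coeff_mul, Finset.Nat.sum_antidiagonal_eq_sum_range_succ_mk,
        Finset.sum_range_succ, Finset.sum_range_one]
      simp only [Nat.sub_zero, Nat.sub_self]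
      rw [h0, h0', h1, h1', map_add]
      ring
    · intro n hn
      rw [E₀_add, coeff_mul]
      apply Ideal.sum_mem
      intro k hk
      rw [Finset.mem_antidiagonal] at hk
      by_cases hk1 : k.1 = 0
      · exact Ideal.mul_mem_left _ _ (hm' k.2 (by omega))
      · exact Ideal.mul_mem_right _ _ (hm k.1 hk1)
    · intro c
      rw [smul_add, E₀_add, E₀_add, hr, hr', map_mul]

variable (hμ : Function.Injective (μ B I))

open Classical in
/-- the exponential on `IB` -/
def EB (z : B) : PowerSeries B :=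
  if hz : z ∈ I.map (algebraMap A B) then (E₀ γ (exists_μ_eq hz).choose).toMul else 0

include hμ in
theorem EB_μ (w : B ⊗[A] I) : EB γ (μ B I w) = (E₀ γ w).toMul := by
  unfold EB
  rw [dif_pos (μ_mem w)]
  have := (exists_μ_eq (μ_mem w)).choose_spec
  rw [hμ this]

include hμ in
/-- **Extension of divided powers** along `A → B` when `B ⊗ I → B` is injective. -/
theorem exists_dividedPowers_map :
    ∃ δ : DividedPowers (I.map (algebraMap A B)), γ.IsDPMorphism δ (algebraMap A B) := by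
  have hS : Ideal.span ((algebraMap A B) '' (I : Set A)) = I.map (algebraMap A B) := rfl
  have hgen : ∀ x : I, EB γ (algebraMap A B x) = e₀ γ 1 x := by
    intro x
    have := EB_μ γ hμ (1 ⊗ₜ x)
    rwa [μ_tmul, mul_one, E₀_tmul] at this
  have hgen' : ∀ (x : I) (n : ℕ), coeff n (EB γ (algebraMap A B x)) =
      algebraMap A B (γ.dpow n x) := by
    intro x n
    rw [hgen, coeff_e₀, one_pow, mul_one]
  obtain ⟨δ, hδ⟩ := dividedPowers_of_exp (I.map (algebraMap A B)) _ hS (EB γ)
    (by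
      intro z hz
      obtain ⟨w, rfl⟩ := exists_μ_eq hz
      rw [EB_μ γ hμ]; exact (E₀_props γ w).1)
    (by
      intro z hz
      obtain ⟨w, rfl⟩ := exists_μ_eq hz
      rw [EB_μ γ hμ]; exact (E₀_props γ w).2.1)
    (by
      intro z hz n hn
      obtain ⟨w, rfl⟩ := exists_μ_eq hz
      rw [EB_μ γ hμ]; exact (E₀_props γ w).2.2.1 n hn)
    (by
      intro z hz z' hz'
      obtain ⟨w, rfl⟩ := exists_μ_eq hz
      obtain ⟨w', rfl⟩ := exists_μ_eq hz'
      rw [← map_add, EB_μ γ hμ, EB_μ γ hμ, EB_μ γ hμ, E₀_add])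
    (by
      intro c z hz
      obtain ⟨w, rfl⟩ := exists_μ_eq hz
      rw [← smul_eq_mul, ← map_smul, EB_μ γ hμ, EB_μ γ hμ, (E₀_props γ w).2.2.2])
    (by
      rintro _ ⟨x, hx, rfl⟩ m n
      rw [hgen' ⟨x, hx⟩, hgen' ⟨x, hx⟩, hgen' ⟨x, hx⟩, ← map_mul, γ.mul_dpow hx, map_mul,
        map_natCast])
    (by
      rintro _ ⟨x, hx, rfl⟩ m n hn
      rw [hgen' ⟨x, hx⟩ n]
      have := hgen' ⟨γ.dpow n x, γ.dpow_mem hn hx⟩ m
      simp only at this
      rw [this, hgen' ⟨x, hx⟩, γ.dpow_comp hn hx, map_mul, map_natCast])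
  refine ⟨δ, ⟨le_refl _, fun {n} a ha => ?_⟩⟩
  rw [hδ _ (Ideal.mem_map_of_mem _ ha), hgen' ⟨a, ha⟩]

theorem μ_injective_of_flat [Module.Flat A B] : Function.Injective (μ B I) := by
  unfold μ
  rw [LinearMap.coe_comp, LinearEquiv.coe_coe, EquivLike.comp_injective]
  rw [LinearMap.baseChange_eq_ltensor]
  exact Module.Flat.lTensor_preserves_injective_linearMap _ Subtype.val_injective

/-- **Extension of divided powers along a flat map.** -/
theorem exists_dividedPowers_map_of_flat [Module.Flat A B] :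
    ∃ δ : DividedPowers (I.map (algebraMap A B)), γ.IsDPMorphism δ (algebraMap A B) :=
  exists_dividedPowers_map γ μ_injective_of_flat

/-- uniqueness of the extension -/
theorem dividedPowers_map_unique (δ δ' : DividedPowers (I.map (algebraMap A B)))
    (h : γ.IsDPMorphism δ (algebraMap A B)) (h' : γ.IsDPMorphism δ' (algebraMap A B)) :
    δ = δ' := by
  have hS : I.map (algebraMap A B) = Ideal.span ((algebraMap A B) '' (I : Set A)) := rfl
  apply DividedPowers.dpow_eq_from_gens δ' δ hS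
  rintro n _ ⟨x, hx, rfl⟩
  rw [h'.2 x hx, h.2 x hx]

end Ext

end

end Groth.Agent.Helper7.DivPw
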