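import Groth.Agent.Helper7.DivPwE

/-!
# Divided powers on the augmentation ideal of a presented dp polynomial algebra (helper7)
-/

set_option autoImplicit false

namespace Groth.Agent.Helper7.DivPw

open Finset

universe u v w

namespace Pres

variable {R : Type u} {P : Type v} {Λ : Type w} [CommRing R] [CommRing P] [Algebra R P]
  (pr : Pres R P Λ)

/-- **Existence of the divided powers on the augmentation ideal.** -/
theorem exists_dividedPowers :
    ∃ γ : DividedPowers pr.augIdeal, ∀ (l : Λ) (n : ℕ), γ.dpow n (pr.x l 1) = pr.x l n := by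
  classical
  let R₀ := MvPolynomial R ℤ
  let Q₀ := MvPolynomial R ℚ
  letI : Algebra R₀ Q₀ := (MvPolynomial.map (Int.castRingHom ℚ)).toAlgebra
  have hinj : Function.Injective (algebraMap R₀ Q₀) :=
    MvPolynomial.map_injective (Int.castRingHom ℚ) Int.cast_injective
  let σ : R₀ →+* R := (MvPolynomial.aeval id : MvPolynomial R ℤ →ₐ[ℤ] R).toRingHom
  have hσX : ∀ r : R, σ (MvPolynomial.X r) = r := by
    intro r
    show (MvPolynomial.aeval id : MvPolynomial R ℤ →ₐ[ℤ] R) (MvPolynomial.X r) = r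
    rw [MvPolynomial.aeval_X]; rfl
  letI : Algebra R₀ P := ((algebraMap R P).comp σ).toAlgebra
  have halg : ∀ c : R₀, algebraMap R₀ P c = algebraMap R P (σ c) := fun c => rfl
  let prD := Model.pres (R₀ := R₀) (Q₀ := Q₀) Λ hinj
  let γ₀ := Model.γ₀ (R₀ := R₀) (Q₀ := Q₀) Λ hinj
  have hγ₀x : ∀ (l : Λ) (n : ℕ), γ₀.dpow n (prD.x l 1) = prD.x l n := Model.γ₀_x Λ hinj
  let π : Model.D R₀ Q₀ Λ →ₐ[R₀] P := prD.lift pr.x pr.x_zero pr.x_mul
  have hπx : ∀ l n, π (prD.x l n) = pr.x l n := fun l n => prD.lift_x _ _ _ l n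
  have hπb : ∀ e, π (prD.b e) = pr.b e := by
    intro e
    rw [pr.b_eq_mon]
    exact prD.lift_b _ _ _ e
  have hπsmul : ∀ (c : R₀) (y : Model.D R₀ Q₀ Λ), π (c • y) = σ c • π y := by
    intro c y
    rw [map_smul, Algebra.smul_def, halg, ← Algebra.smul_def]
  -- surjectivity
  have hsurj : Function.Surjective (π : Model.D R₀ Q₀ Λ →+* P) := by
    intro p
    refine ⟨∑ e ∈ (pr.b.repr p).support, (MvPolynomial.X (pr.b.repr p e) : R₀) • prD.b e, ?_⟩
    show π _ = p
    rw [map_sum]
    conv_rhs => rw [← pr.b.linearCombination_repr p, Finsupp.linearCombination_apply, Finsupp.sum]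
    apply Finset.sum_congr rfl
    intro e _
    rw [hπsmul, hσX, hπb]
  -- image of the augmentation ideal
  have hmap : pr.augIdeal = prD.augIdeal.map (π : Model.D R₀ Q₀ Λ →+* P) := by
    unfold Pres.augIdeal
    rw [Ideal.map_span]
    congr 1
    ext p
    constructor
    · rintro ⟨l, n, hn, rfl⟩
      exact ⟨prD.x l n, ⟨l, n, hn, rfl⟩, hπx l n⟩
    · rintro ⟨_, ⟨l, n, hn, rfl⟩, rfl⟩
      exact ⟨l, n, hn, hπx l n⟩
  -- the kernel condition
  have hT : ∀ y ∈ RingHom.ker (π : Model.D R₀ Q₀ Λ →+* P) ⊓ prD.augIdeal,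
      ∀ n : ℕ, n ≠ 0 → π (γ₀.dpow n y) = 0 := by
    rintro y ⟨hyk, hya⟩
    have hyk' : π y = 0 := RingHom.mem_ker.mp hyk
    -- coefficients
    have hc0 : prD.b.repr y 0 = 0 := (prD.mem_augIdeal_iff y).mp hya
    have hcσ : ∀ e, σ (prD.b.repr y e) = 0 := by
      intro e
      have h1 : π y = ∑ e ∈ (prD.b.repr y).support, σ (prD.b.repr y e) • pr.b e := by
        conv_lhs => rw [← prD.b.linearCombination_repr y, Finsupp.linearCombination_apply,
          Finsupp.sum, map_sum]
        apply Finset.sum_congr rfl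
        intro e _
        rw [hπsmul, hπb]
      rw [hyk'] at h1
      have h2 := congrArg (fun q => pr.b.repr q e) h1
      simp only [map_zero, Finsupp.zero_apply, map_sum, map_smul, Module.Basis.repr_self,
        Finsupp.coe_finsetSum, Finsupp.coe_smul, Finset.sum_apply, Pi.smul_apply,
        Finsupp.single_apply, smul_eq_mul, mul_ite, mul_one, mul_zero] at h2
      rw [Finset.sum_ite_eq'] at h2
      by_cases he : e ∈ (prD.b.repr y).support
      · rw [if_pos he] at h2; exact h2.symm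
      · rw [Finsupp.notMem_support_iff.mp he, map_zero]
    -- the good set
    have hgood : ∀ s : Finset (Λ →₀ ℕ), (∀ e ∈ s, e ≠ 0) →
        (∑ e ∈ s, prD.b.repr y e • prD.b e) ∈ prD.augIdeal ∧
          ∀ n : ℕ, n ≠ 0 → π (γ₀.dpow n (∑ e ∈ s, prD.b.repr y e • prD.b e)) = 0 := by
      intro s
      induction s using Finset.induction_on with
      | empty =>
        intro _
        refine ⟨by rw [Finset.sum_empty]; exact Ideal.zero_mem _, fun n hn => ?_⟩
        rw [Finset.sum_empty, γ₀.dpow_eval_zero hn, map_zero]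
      | insert e s hes ih =>
        intro hs
        obtain ⟨ih1, ih2⟩ := ih (fun e' he' => hs e' (Finset.mem_insert_of_mem he'))
        have he0 : e ≠ 0 := hs e (Finset.mem_insert_self _ _)
        have hbe : prD.b e ∈ prD.augIdeal := prD.b_mem_augIdeal he0
        have hterm : prD.b.repr y e • prD.b e ∈ prD.augIdeal := by
          rw [Algebra.smul_def]; exact Ideal.mul_mem_left _ _ hbe
        rw [Finset.sum_insert hes]
        refine ⟨Ideal.add_mem _ hterm ih1, fun n hn => ?_⟩
        rw [γ₀.dpow_add hterm ih1, map_sum]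
        apply Finset.sum_eq_zero
        intro k hk
        rw [Finset.mem_antidiagonal] at hk
        rw [map_mul]
        by_cases hk1 : k.1 = 0
        · rw [ih2 k.2 (by omega), mul_zero]
        · have : π (γ₀.dpow k.1 (prD.b.repr y e • prD.b e)) = 0 := by
            rw [Algebra.smul_def, γ₀.dpow_mul hbe, map_mul, map_pow, AlgHom.commutes, halg, hcσ,
              map_zero, zero_pow hk1, zero_mul]
          rw [this, zero_mul]
    intro n hn
    have hy : y = ∑ e ∈ (prD.b.repr y).support, prD.b.repr y e • prD.b e := by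
      conv_lhs => rw [← prD.b.linearCombination_repr y, Finsupp.linearCombination_apply,
        Finsupp.sum]
    rw [hy]
    apply (hgood _ ?_).2 n hn
    intro e he he0
    rw [Finsupp.mem_support_iff, he0] at he
    exact he hc0
  have hIf : γ₀.IsSubDPIdeal (RingHom.ker (π : Model.D R₀ Q₀ Λ →+* P) ⊓ prD.augIdeal) :=
    { isSubideal := inf_le_right
      dpow_mem := fun n hn {j} hj => ⟨RingHom.mem_ker.mpr (hT j hj n hn), γ₀.dpow_mem hn hj.2⟩ }
  let γ := DividedPowers.Quotient.OfSurjective.dividedPowers γ₀ hsurj hmap hIf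
  refine ⟨γ, fun l n => ?_⟩
  have h1 := DividedPowers.Quotient.OfSurjective.dpow_apply γ₀ hsurj hmap hIf (n := n)
    (prD.x_mem_augIdeal l le_rfl)
  have e1 : (π : Model.D R₀ Q₀ Λ →+* P) (prD.x l 1) = pr.x l 1 := hπx l 1
  rw [e1, hγ₀x] at h1
  rw [h1]
  exact hπx l n

theorem dpow_x (γ : DividedPowers pr.augIdeal)
    (hγ : ∀ (l : Λ) (n : ℕ), γ.dpow n (pr.x l 1) = pr.x l n) (l : Λ) (m n : ℕ) (hn : n ≠ 0) :
    γ.dpow m (pr.x l n) = (Nat.uniformBell m n : P) * pr.x l (m * n) := by
  rw [← hγ l n, γ.dpow_comp hn (pr.x_mem_augIdeal l le_rfl), hγ]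

/-- uniqueness -/
theorem dividedPowers_unique (γ γ' : DividedPowers pr.augIdeal)
    (hγ : ∀ (l : Λ) (n : ℕ), γ.dpow n (pr.x l 1) = pr.x l n)
    (hγ' : ∀ (l : Λ) (n : ℕ), γ'.dpow n (pr.x l 1) = pr.x l n) : γ = γ' := by
  apply DividedPowers.dpow_eq_from_gens γ' γ (S := {p : P | ∃ (l : Λ) (n : ℕ), 1 ≤ n ∧ p = pr.x l n})
    rfl
  rintro n _ ⟨l, m, hm, rfl⟩
  have hm0 : m ≠ 0 := by omega
  rw [pr.dpow_x γ hγ l n m hm0, pr.dpow_x γ' hγ' l n m hm0]

end Pres

end Groth.Agent.Helper7.DivPw
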