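import Groth.Agent.Helper7.DivPwF

/-!
# Divided power polynomial algebras over a divided power ring (helper7)
-/

set_option autoImplicit false

namespace Groth.Agent.Helper7.DivPw

open Finset TensorProduct

universe u v w

namespace Pres

variable {R : Type u} {P : Type v} {Λ : Type w} [CommRing R] [CommRing P] [Algebra R P]
  (pr : Pres R P Λ)

include pr in
theorem flat : Module.Flat R P := by
  haveI := Module.Free.of_basis pr.b
  infer_instance

/-- `IP ∩ P₊ ⊆ IP · P₊` -/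
theorem inf_le_mul (I : Ideal R) :
    I.map (algebraMap R P) ⊓ pr.augIdeal ≤ I.map (algebraMap R P) * pr.augIdeal := by
  classical
  rintro z ⟨hz1, hz2⟩
  have h1 : z ∈ I • (⊤ : Submodule R P) := by
    rw [Ideal.smul_top_eq_map]
    exact hz1
  rw [← pr.b.span_eq, Submodule.mem_ideal_smul_span_iff_exists_sum] at h1
  obtain ⟨a, ha, rfl⟩ := h1
  have hrepr : pr.b.repr (a.sum fun i c => c • pr.b i) = a := by
    have : (a.sum fun i c => c • pr.b i) = Finsupp.linearCombination R pr.b a := by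
      rw [Finsupp.linearCombination_apply]
    rw [this, pr.b.repr_linearCombination]
  have ha0 : a 0 = 0 := by
    have := (pr.mem_augIdeal_iff _).mp hz2
    rwa [hrepr] at this
  rw [Finsupp.sum]
  apply Ideal.sum_mem
  intro e he
  have he0 : e ≠ 0 := by
    rintro rfl
    exact (Finsupp.mem_support_iff.mp he) ha0
  rw [Algebra.smul_def]
  exact Ideal.mul_mem_mul (Ideal.mem_map_of_mem _ (ha e)) (pr.b_mem_augIdeal he0)

variable {I : Ideal R} (γ : DividedPowers I) (δplus : DividedPowers pr.augIdeal)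

/-- **The divided powers on `IP + P₊`.** -/
theorem existsUnique_dividedPowers_map_sup :
    ∃! δ : DividedPowers (I.map (algebraMap R P) ⊔ pr.augIdeal),
      γ.IsDPMorphism δ (algebraMap R P) ∧
        ∀ (n : ℕ) (y : P), y ∈ pr.augIdeal → δ.dpow n y = δplus.dpow n y := by
  haveI := pr.flat
  obtain ⟨γP, hγP⟩ := Ext.exists_dividedPowers_map_of_flat (B := P) γ
  have hagree : ∀ (n : ℕ) (x : P), x ∈ I.map (algebraMap R P) ⊓ pr.augIdeal →
      γP.dpow n x = δplus.dpow n x := by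
    intro n x hx
    exact γP.coincide_on_smul δplus (by rw [smul_eq_mul]; exact pr.inf_le_mul I hx)
  obtain ⟨ε, ⟨hε1, hε2⟩, -⟩ := existsUnique_dividedPowers_sup γP δplus hagree
  have hmor : γ.IsDPMorphism ε (algebraMap R P) :=
    ⟨le_sup_left, fun {n} a ha => by
      rw [hε1 n _ (Ideal.mem_map_of_mem _ ha), hγP.2 a ha]⟩
  refine ⟨ε, ⟨hmor, hε2⟩, ?_⟩
  rintro ε' ⟨hmor', hε2'⟩
  have hS : I.map (algebraMap R P) ⊔ pr.augIdeal =
      Ideal.span ((algebraMap R P) '' (I : Set R) ∪ (pr.augIdeal : Set P)) := by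
    rw [Ideal.span_union, Ideal.span_eq]
    rfl
  apply DividedPowers.dpow_eq_from_gens ε ε' hS
  rintro n a (⟨x, hx, rfl⟩ | ha)
  · rw [hmor.2 x hx, hmor'.2 x hx]
  · rw [hε2 n a ha, hε2' n a ha]

end Pres

/-! ### Base change of a presentation over `ℤ` -/

section BaseChange

variable {Dz : Type v} [CommRing Dz] {Λ : Type w} (prZ : Pres ℤ Dz Λ) (R : Type u) [CommRing R]

/-- the presentation of `R ⊗[ℤ] Dz` -/
noncomputable def Pres.baseChange : Pres R (R ⊗[ℤ] Dz) Λ where
  x l n := (Algebra.TensorProduct.includeRight : Dz →ₐ[ℤ] R ⊗[ℤ] Dz) (prZ.x l n)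
  x_zero l := by rw [prZ.x_zero, map_one]
  x_mul l n m := by rw [← map_mul, prZ.x_mul, map_mul, map_natCast]
  b := Algebra.TensorProduct.basis R prZ.b
  hb e := by
    rw [Algebra.TensorProduct.basis_apply, prZ.hb]
    have := map_mon prZ.x
      ((Algebra.TensorProduct.includeRight : Dz →ₐ[ℤ] R ⊗[ℤ] Dz) : Dz →+* R ⊗[ℤ] Dz) e
    unfold mon at this
    simp only [RingHom.coe_coe] at this
    rw [← this]
    rfl

end BaseChange

/-! ### The universal divided power polynomial algebra over a divided power ring -/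

section Universal

variable {A : Type u} [CommRing A] {I : Ideal A} (γ : DividedPowers I)
  {D : Type v} [CommRing D] [Algebra A D] {Λ : Type w} (pr : Pres A D Λ)
  (δplus : DividedPowers pr.augIdeal)
  (hδplus : ∀ (l : Λ) (n : ℕ), δplus.dpow n (pr.x l 1) = pr.x l n)
  (δ : DividedPowers (I.map (algebraMap A D) ⊔ pr.augIdeal))
  (hδ1 : γ.IsDPMorphism δ (algebraMap A D))
  (hδ2 : ∀ (n : ℕ) (y : D), y ∈ pr.augIdeal → δ.dpow n y = δplus.dpow n y)

include hδplus hδ1 hδ2 in
/-- the universal property -/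
theorem Pres.universal {C : Type*} [CommRing C] [Algebra A C] (K : Ideal C)
    (ε : DividedPowers K) (hε : γ.IsDPMorphism ε (algebraMap A C)) (k : Λ → C)
    (hk : ∀ l, k l ∈ K) :
    ∃! φ : D →ₐ[A] C, (∀ l, φ (pr.x l 1) = k l) ∧ δ.IsDPMorphism ε φ.toRingHom := by
  let φ : D →ₐ[A] C := pr.lift (fun l n => ε.dpow n (k l)) (fun l => ε.dpow_zero (hk l))
    (fun l n m => ε.mul_dpow (hk l))
  have hφx : ∀ l n, φ (pr.x l n) = ε.dpow n (k l) := fun l n => pr.lift_x _ _ _ l n
  have hS : I.map (algebraMap A D) ⊔ pr.augIdeal =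
      Ideal.span ((algebraMap A D) '' (I : Set A) ∪
        {p : D | ∃ (l : Λ) (n : ℕ), 1 ≤ n ∧ p = pr.x l n}) := by
    rw [Ideal.span_union]
    rfl
  refine ⟨φ, ⟨fun l => by rw [hφx, ε.dpow_one (hk l)], ?_⟩, ?_⟩
  · apply DividedPowers.IsDPMorphism.on_span δ ε hS
    · rintro _ (⟨a, ha, rfl⟩ | ⟨l, n, hn, rfl⟩)
      · show φ (algebraMap A D a) ∈ K
        rw [AlgHom.commutes]
        exact hε.1 (Ideal.mem_map_of_mem _ ha)
      · show φ (pr.x l n) ∈ K
        rw [hφx]
        exact ε.dpow_mem (by omega) (hk l)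
    · rintro n _ (⟨a, ha, rfl⟩ | ⟨l, m, hm, rfl⟩)
      · show φ (δ.dpow n (algebraMap A D a)) = ε.dpow n (φ (algebraMap A D a))
        rw [hδ1.2 a ha, AlgHom.commutes, AlgHom.commutes, hε.2 a ha]
      · show φ (δ.dpow n (pr.x l m)) = ε.dpow n (φ (pr.x l m))
        rw [hδ2 n _ (pr.x_mem_augIdeal l hm), pr.dpow_x δplus hδplus l n m (by omega), map_mul,
          map_natCast, hφx, hφx, ε.dpow_comp (by omega) (hk l)]
  · rintro φ' ⟨hφ'1, hφ'2⟩
    apply pr.lift_unique
    intro l n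
    have h1 : pr.x l 1 ∈ I.map (algebraMap A D) ⊔ pr.augIdeal :=
      Ideal.mem_sup_right (pr.x_mem_augIdeal l le_rfl)
    have h2 := hφ'2.2 (n := n) (pr.x l 1) h1
    rw [hδ2 n _ (pr.x_mem_augIdeal l le_rfl), hδplus] at h2
    have h3 : φ'.toRingHom (pr.x l 1) = k l := hφ'1 l
    rw [h3] at h2
    exact h2.symm

end Universal

end Groth.Agent.Helper7.DivPw
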