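import Groth.Agent.Helper7.DivPwG

/-!
# Existence of divided power polynomial algebras over a divided power ring (helper7)
-/

set_option autoImplicit false

namespace Groth.Agent.Helper7.DivPw

open Finset TensorProduct

universe u w

section

variable {A : Type u} [CommRing A] {I : Ideal A} (γ : DividedPowers I) (Λ : Type w)

/-- the dp polynomial algebra over `ℤ` -/
abbrev Dz : Type w := Model.D ℤ ℚ Λ

/-- its presentation -/
noncomputable def prZ : Pres ℤ (Dz Λ) Λ :=
  Model.pres (R₀ := ℤ) (Q₀ := ℚ) Λ (RingHom.injective_int (algebraMap ℤ ℚ))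

/-- **Existence of the divided power polynomial algebra** over a divided power ring. -/
theorem exists_dpPolynomial :
    ∃ (D : Type (max u w)) (_ : CommRing D) (_ : Algebra A D) (pr : Pres A D Λ)
      (δplus : DividedPowers pr.augIdeal)
      (δ : DividedPowers (I.map (algebraMap A D) ⊔ pr.augIdeal)),
      (∀ (l : Λ) (n : ℕ), δplus.dpow n (pr.x l 1) = pr.x l n) ∧
        γ.IsDPMorphism δ (algebraMap A D) ∧
        ∀ (n : ℕ) (y : D), y ∈ pr.augIdeal → δ.dpow n y = δplus.dpow n y := by
  let pr : Pres A (A ⊗[ℤ] Dz Λ) Λ := (prZ Λ).baseChange A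
  obtain ⟨δplus, hδplus⟩ := pr.exists_dividedPowers
  obtain ⟨δ, ⟨hδ1, hδ2⟩, -⟩ := pr.existsUnique_dividedPowers_map_sup γ δplus
  exact ⟨A ⊗[ℤ] Dz Λ, inferInstance, inferInstance, pr, δplus, δ, hδplus, hδ1, hδ2⟩

end

end Groth.Agent.Helper7.DivPw
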