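import Groth.Agent.Helper7.DivPwH

/-!
# The divided power envelope (helper7)
-/

set_option autoImplicit false

namespace Groth.Agent.Helper7.DivPw

open Finset TensorProduct

universe u

section

variable {A B : Type u} [CommRing A] [CommRing B] [Algebra A B] {I : Ideal A}
  (γ : DividedPowers I) (J : Ideal B) (hIJ : I.map (algebraMap A B) ≤ J)

include hIJ in
/-- the divided power envelope built from a dp polynomial algebra on the variables `J` -/
theorem exists_dpEnvelope_aux {P : Type u} [CommRing P] [Algebra B P] (pr : Pres B P ↥J) :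
    ∃ (D : Type u) (_ : CommRing D) (_ : Algebra B D) (JD : Ideal D) (γD : DividedPowers JD),
      J.map (algebraMap B D) ≤ JD ∧
      γ.IsDPMorphism γD ((algebraMap B D).comp (algebraMap A B)) ∧
      ∀ (C : Type u) [CommRing C] [Algebra A C] (K : Ideal C) (δ : DividedPowers K),
        γ.IsDPMorphism δ (algebraMap A C) →
        ∀ ψ : B →ₐ[A] C, J.map ψ ≤ K →
          ∃! χ : D →+* C, χ.comp (algebraMap B D) = ψ ∧ γD.IsDPMorphism δ χ := by
  classical
  let Λ := ↥J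
  obtain ⟨δplus, hδplus⟩ := pr.exists_dividedPowers
  let fJ : ↥I → Λ := fun y => ⟨algebraMap A B y, hIJ (Ideal.mem_map_of_mem _ y.2)⟩
  let G₁ : Set P := {p | ∃ j : Λ, p = pr.x j 1 - algebraMap B P j}
  let G₂ : Set P := {p | ∃ (y : ↥I) (n : ℕ), 1 ≤ n ∧
    p = pr.x (fJ y) n - algebraMap B P (algebraMap A B (γ.dpow n y))}
  let 𝔞₀ : Ideal P := Ideal.span (G₁ ∪ G₂)
  let fam : Set (Ideal P) := {𝔟 | 𝔞₀ ≤ 𝔟 ∧ δplus.IsSubDPIdeal (𝔟 ⊓ pr.augIdeal)}
  let 𝔞 : Ideal P := sInf fam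
  have h𝔞₀ : 𝔞₀ ≤ 𝔞 := le_sInf fun 𝔟 h𝔟 => h𝔟.1
  have h𝔞sub : δplus.IsSubDPIdeal (𝔞 ⊓ pr.augIdeal) :=
    { isSubideal := inf_le_right
      dpow_mem := fun n hn {j} hj => by
        refine ⟨?_, δplus.dpow_mem hn hj.2⟩
        show δplus.dpow n j ∈ sInf fam
        have hj1 : j ∈ sInf fam := hj.1
        rw [Submodule.mem_sInf] at hj1 ⊢
        intro 𝔟 h𝔟
        have hj' : j ∈ 𝔟 ⊓ pr.augIdeal := ⟨hj1 𝔟 h𝔟, hj.2⟩
        exact (h𝔟.2.dpow_mem n hn hj').1 }
  let mk : P →+* P ⧸ 𝔞 := Ideal.Quotient.mk 𝔞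
  let JD : Ideal (P ⧸ 𝔞) := pr.augIdeal.map (Ideal.Quotient.mk 𝔞)
  let γD : DividedPowers (pr.augIdeal.map (Ideal.Quotient.mk 𝔞)) :=
    DividedPowers.Quotient.dividedPowers δplus h𝔞sub
  have hγD : ∀ (n : ℕ) (p : P), p ∈ pr.augIdeal → γD.dpow n (mk p) = mk (δplus.dpow n p) :=
    fun n p hp => DividedPowers.Quotient.dpow_apply δplus h𝔞sub hp
  have halgD : ∀ b : B, algebraMap B (P ⧸ 𝔞) b = mk (algebraMap B P b) := fun b =>
    (Ideal.Quotient.mk_algebraMap B 𝔞 b).symm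
  -- relations in the quotient
  have hrel1 : ∀ j : Λ, mk (algebraMap B P j) = mk (pr.x j 1) := by
    intro j
    symm
    rw [← sub_eq_zero, ← map_sub]
    exact Ideal.Quotient.eq_zero_iff_mem.mpr
      (h𝔞₀ (Ideal.subset_span (Or.inl ⟨j, rfl⟩)))
  have hrel2 : ∀ (y : ↥I) (n : ℕ), 1 ≤ n →
      mk (pr.x (fJ y) n) = mk (algebraMap B P (algebraMap A B (γ.dpow n y))) := by
    intro y n hn
    rw [← sub_eq_zero, ← map_sub]
    exact Ideal.Quotient.eq_zero_iff_mem.mpr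
      (h𝔞₀ (Ideal.subset_span (Or.inr ⟨y, n, hn, rfl⟩)))
  have hJle : J.map (algebraMap B (P ⧸ 𝔞)) ≤ JD := by
    rw [Ideal.map_le_iff_le_comap]
    intro j hj
    rw [Ideal.mem_comap, halgD]
    have := hrel1 ⟨j, hj⟩
    simp only at this
    rw [this]
    exact Ideal.mem_map_of_mem _ (pr.x_mem_augIdeal _ le_rfl)
  refine ⟨P ⧸ 𝔞, inferInstance, inferInstance, JD, γD, hJle, ?_, ?_⟩
  · rw [DividedPowers.isDPMorphism_iff]
    refine ⟨?_, ?_⟩
    · rw [← Ideal.map_map]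
      exact le_trans (Ideal.map_mono hIJ) hJle
    · intro n hn a ha
      have hn1 : 1 ≤ n := Nat.one_le_iff_ne_zero.mpr hn
      show γD.dpow n (algebraMap B (P ⧸ 𝔞) (algebraMap A B a)) =
        algebraMap B (P ⧸ 𝔞) (algebraMap A B (γ.dpow n a))
      rw [halgD, halgD]
      have h1 := hrel1 (fJ ⟨a, ha⟩)
      have h2 := hrel2 ⟨a, ha⟩ n hn1
      simp only [fJ] at h1 h2
      rw [h1, hγD n _ (pr.x_mem_augIdeal _ le_rfl), hδplus]
      exact h2
  · intro C _ _ K δ hδ ψ hψ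
    letI : Algebra B C := ψ.toRingHom.toAlgebra
    have halgC : ∀ b : B, algebraMap B C b = ψ b := fun b => rfl
    have hψK : ∀ j : Λ, ψ j ∈ K := fun j => hψ (Ideal.mem_map_of_mem _ j.2)
    let Φ : P →ₐ[B] C := pr.lift (fun j n => δ.dpow n (ψ j)) (fun j => δ.dpow_zero (hψK j))
      (fun j n m => δ.mul_dpow (hψK j))
    have hΦx : ∀ j n, Φ (pr.x j n) = δ.dpow n (ψ j) := fun j n => pr.lift_x _ _ _ j n
    have hΦalg : ∀ b : B, Φ (algebraMap B P b) = ψ b := fun b => by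
      rw [AlgHom.commutes, halgC]
    have hΦdp : δplus.IsDPMorphism δ (Φ : P →+* C) := by
      apply DividedPowers.IsDPMorphism.on_span δplus δ
        (S := {p : P | ∃ (l : Λ) (n : ℕ), 1 ≤ n ∧ p = pr.x l n}) rfl
      · rintro _ ⟨j, n, hn, rfl⟩
        show Φ (pr.x j n) ∈ K
        rw [hΦx]
        exact δ.dpow_mem (by omega) (hψK j)
      · rintro m _ ⟨j, n, hn, rfl⟩
        show Φ (δplus.dpow m (pr.x j n)) = δ.dpow m (Φ (pr.x j n))
        rw [pr.dpow_x δplus hδplus j m n (by omega), map_mul, map_natCast, hΦx, hΦx,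
          δ.dpow_comp (by omega) (hψK j)]
    have hker : 𝔞 ≤ RingHom.ker (Φ : P →+* C) := by
      apply sInf_le
      refine ⟨?_, DividedPowers.isSubDPIdeal_ker δplus δ hΦdp⟩
      rw [Ideal.span_le]
      rintro p (⟨j, rfl⟩ | ⟨y, n, hn, rfl⟩)
      · rw [SetLike.mem_coe, RingHom.mem_ker]
        show Φ (pr.x j 1 - algebraMap B P j) = 0
        rw [map_sub, hΦx, hΦalg, δ.dpow_one (hψK j), sub_self]
      · rw [SetLike.mem_coe, RingHom.mem_ker]
        show Φ (pr.x (fJ y) n - algebraMap B P (algebraMap A B (γ.dpow n y))) = 0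
        rw [map_sub, hΦx, hΦalg]
        have e1 : ψ ((fJ y : Λ) : B) = algebraMap A C y := by
          show ψ (algebraMap A B y) = _
          rw [AlgHom.commutes]
        rw [e1, AlgHom.commutes, hδ.2 _ y.2, sub_self]
    let χ : P ⧸ 𝔞 →+* C := Ideal.Quotient.lift 𝔞 (Φ : P →+* C) (fun a ha => RingHom.mem_ker.mp (hker ha))
    have hχmk : ∀ p : P, χ (mk p) = Φ p := fun p => Ideal.Quotient.lift_mk _ _ _
    have hχ1 : χ.comp (algebraMap B (P ⧸ 𝔞)) = ψ := by
      ext b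
      show χ (algebraMap B (P ⧸ 𝔞) b) = ψ b
      rw [halgD, hχmk, hΦalg]
    have hχ2 : γD.IsDPMorphism δ χ := by
      refine ⟨?_, ?_⟩
      · rw [Ideal.map_le_iff_le_comap]
        intro d hd
        obtain ⟨p, hp, rfl⟩ := (Ideal.mem_map_iff_of_surjective mk Ideal.Quotient.mk_surjective).mp hd
        rw [Ideal.mem_comap, hχmk]
        exact hΦdp.1 (Ideal.mem_map_of_mem _ hp)
      · intro n d hd
        obtain ⟨p, hp, rfl⟩ := (Ideal.mem_map_iff_of_surjective mk Ideal.Quotient.mk_surjective).mp hd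
        rw [hγD n p hp, hχmk, hχmk]
        exact hΦdp.2 p hp
    refine ⟨χ, ⟨hχ1, hχ2⟩, ?_⟩
    rintro χ' ⟨hχ'1, hχ'2⟩
    -- the composite with the quotient map
    have hχ'alg : ∀ b : B, χ' (mk (algebraMap B P b)) = ψ b := by
      intro b
      have := congrArg (fun g : B →+* C => g b) hχ'1
      simpa [halgD] using this
    let Φ' : P →ₐ[B] C :=
      { (χ'.comp mk) with
        commutes' := fun b => by
          show χ' (mk (algebraMap B P b)) = algebraMap B C b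
          rw [hχ'alg, halgC] }
    have hΦ'x : ∀ j n, Φ' (pr.x j n) = δ.dpow n (ψ j) := by
      intro j n
      show χ' (mk (pr.x j n)) = _
      have hmem : mk (pr.x j 1) ∈ JD := Ideal.mem_map_of_mem _ (pr.x_mem_augIdeal j le_rfl)
      rw [← hδplus j n, ← hγD n _ (pr.x_mem_augIdeal j le_rfl), ← hχ'2.2 _ hmem, ← hrel1 j,
        hχ'alg]
    have hΦ' : Φ' = Φ := pr.lift_unique _ _ _ Φ' hΦ'x
    apply Ideal.Quotient.ringHom_ext
    ext p
    show χ' (mk p) = χ (mk p)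
    rw [hχmk]
    have := congrArg (fun g : P →ₐ[B] C => g p) hΦ'
    exact this

include hIJ in
/-- **The divided power envelope.** -/
theorem exists_dpEnvelope :
    ∃ (D : Type u) (_ : CommRing D) (_ : Algebra B D) (JD : Ideal D) (γD : DividedPowers JD),
      J.map (algebraMap B D) ≤ JD ∧
      γ.IsDPMorphism γD ((algebraMap B D).comp (algebraMap A B)) ∧
      ∀ (C : Type u) [CommRing C] [Algebra A C] (K : Ideal C) (δ : DividedPowers K),
        γ.IsDPMorphism δ (algebraMap A C) →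
        ∀ ψ : B →ₐ[A] C, J.map ψ ≤ K →
          ∃! χ : D →+* C, χ.comp (algebraMap B D) = ψ ∧ γD.IsDPMorphism δ χ :=
  exists_dpEnvelope_aux γ J hIJ ((prZ ↥J).baseChange B)

end

end Groth.Agent.Helper7.DivPw
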