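import Groth.Agent.Helper7.DivPwI
import Mathlib.NumberTheory.Padics.PadicVal.Basic

/-!
# Integer facts for divided powers determined by the `p`-th one (helper7)
-/

set_option autoImplicit false

namespace Groth.Agent.Helper7.DivPw

open Nat

/-- `w p n = n! / (p!^(n/p) (n/p)!)` -/
def w (p n : ℕ) : ℕ := (n % p)! * Nat.uniformBell (n / p) p * Nat.choose n (n % p)

theorem w_mul (p n : ℕ) (hp : p ≠ 0) : w p n * (p ! ^ (n / p) * (n / p)!) = n ! := by
  have h1 : Nat.uniformBell (n / p) p * p ! ^ (n / p) * (n / p)! = (n / p * p)! :=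
    Nat.uniformBell_mul_eq (n / p) hp
  have h2 : Nat.choose n (n % p) * (n % p)! * (n - n % p)! = n ! :=
    Nat.choose_mul_factorial_mul_factorial (Nat.mod_le n p)
  have h3 : n - n % p = n / p * p := by
    have := Nat.div_add_mod' n p
    omega
  rw [h3, ← h1] at h2
  unfold w
  rw [← h2]
  ring

theorem w_pos (p n : ℕ) (hp : p ≠ 0) : w p n ≠ 0 := by
  intro h
  have := w_mul p n hp
  rw [h, zero_mul] at this
  exact Nat.factorial_ne_zero n this.symm

theorem not_dvd_w (p n : ℕ) (hp : p.Prime) : ¬ p ∣ w p n := by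
  haveI : Fact p.Prime := ⟨hp⟩
  have hw := w_mul p n hp.ne_zero
  have hw0 := w_pos p n hp.ne_zero
  rw [dvd_iff_padicValNat_ne_zero hw0, not_not]
  have h1 : padicValNat p (n !) = padicValNat p (n / p)! + n / p := by
    have e : n = p * (n / p) + n % p := (Nat.div_add_mod n p).symm
    conv_lhs => rw [e]
    rw [padicValNat_factorial_mul_add _ (Nat.mod_lt n hp.pos), padicValNat_factorial_mul]
  have hp1 : padicValNat p (p !) = 1 := by
    have := padicValNat_factorial_mul (p := p) 1
    rw [mul_one] at this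
    rw [this]
    simp
  have h2 : padicValNat p (w p n * (p ! ^ (n / p) * (n / p)!)) =
      padicValNat p (w p n) + (n / p + padicValNat p (n / p)!) := by
    rw [padicValNat.mul hw0 (Nat.mul_ne_zero (pow_ne_zero _ (Nat.factorial_ne_zero p))
      (Nat.factorial_ne_zero _)),
      padicValNat.mul (pow_ne_zero _ (Nat.factorial_ne_zero p)) (Nat.factorial_ne_zero _),
      padicValNat.pow, hp1, mul_one]
  rw [hw, h1] at h2
  omega

theorem w_of_lt (p n : ℕ) (h : n < p) : w p n = n ! := by
  unfold w
  rw [Nat.mod_eq_of_lt h, Nat.div_eq_of_lt h, Nat.uniformBell_zero_left, Nat.choose_self]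
  ring

theorem w_self (p : ℕ) (hp : 2 ≤ p) : w p p = 1 := by
  unfold w
  rw [Nat.mod_self, Nat.div_self (by omega), Nat.uniformBell_one_left]
  simp

/-- no carry -/
theorem w_add_of_lt (p m n : ℕ) (hp : p ≠ 0) (h : m % p + n % p < p) :
    w p (m + n) * Nat.choose (m / p + n / p) (m / p) = Nat.choose (m + n) m * w p m * w p n := by
  have hdiv : (m + n) / p = m / p + n / p := by
    rw [Nat.add_div (Nat.pos_of_ne_zero hp), if_neg (by omega)]
    simp
  have hc : Nat.choose (m / p + n / p) (m / p) * (m / p)! * (n / p)! = (m / p + n / p)! := by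
    rw [Nat.choose_symm_add]
    exact Nat.add_choose_mul_factorial_mul_factorial _ _
  have hc2 : Nat.choose (m + n) m * m ! * n ! = (m + n)! := by
    rw [Nat.choose_symm_add]
    exact Nat.add_choose_mul_factorial_mul_factorial _ _
  have h1 := w_mul p (m + n) hp
  have h2 := w_mul p m hp
  have h3 := w_mul p n hp
  rw [hdiv] at h1
  have hne : p ! ^ (m / p + n / p) * ((m / p)! * (n / p)!) ≠ 0 :=
    Nat.mul_ne_zero (pow_ne_zero _ (Nat.factorial_ne_zero p))
      (Nat.mul_ne_zero (Nat.factorial_ne_zero _) (Nat.factorial_ne_zero _))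
  apply Nat.eq_of_mul_eq_mul_right (Nat.pos_of_ne_zero hne)
  calc w p (m + n) * Nat.choose (m / p + n / p) (m / p) *
        (p ! ^ (m / p + n / p) * ((m / p)! * (n / p)!))
      = w p (m + n) * (p ! ^ (m / p + n / p) *
          (Nat.choose (m / p + n / p) (m / p) * (m / p)! * (n / p)!)) := by ring
    _ = (m + n)! := by rw [hc, h1]
    _ = Nat.choose (m + n) m * (w p m * (p ! ^ (m / p) * (m / p)!)) *
          (w p n * (p ! ^ (n / p) * (n / p)!)) := by rw [h2, h3, hc2]
    _ = Nat.choose (m + n) m * w p m * w p n *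
          (p ! ^ (m / p + n / p) * ((m / p)! * (n / p)!)) := by rw [pow_add]; ring

/-- carry -/
theorem w_add_of_le (p m n : ℕ) (hp : p ≠ 0) (h : p ≤ m % p + n % p) :
    w p (m + n) * (Nat.choose (m / p + n / p) (m / p) * p ! * (m / p + n / p + 1)) =
      Nat.choose (m + n) m * w p m * w p n := by
  have hdiv : (m + n) / p = m / p + n / p + 1 := by
    rw [Nat.add_div (Nat.pos_of_ne_zero hp), if_pos h]
  have hc : Nat.choose (m / p + n / p) (m / p) * (m / p)! * (n / p)! = (m / p + n / p)! := by
    rw [Nat.choose_symm_add]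
    exact Nat.add_choose_mul_factorial_mul_factorial _ _
  have hc2 : Nat.choose (m + n) m * m ! * n ! = (m + n)! := by
    rw [Nat.choose_symm_add]
    exact Nat.add_choose_mul_factorial_mul_factorial _ _
  have h1 := w_mul p (m + n) hp
  have h2 := w_mul p m hp
  have h3 := w_mul p n hp
  rw [hdiv] at h1
  have hne : p ! ^ (m / p + n / p) * ((m / p)! * (n / p)!) ≠ 0 :=
    Nat.mul_ne_zero (pow_ne_zero _ (Nat.factorial_ne_zero p))
      (Nat.mul_ne_zero (Nat.factorial_ne_zero _) (Nat.factorial_ne_zero _))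
  apply Nat.eq_of_mul_eq_mul_right (Nat.pos_of_ne_zero hne)
  calc w p (m + n) * (Nat.choose (m / p + n / p) (m / p) * p ! * (m / p + n / p + 1)) *
        (p ! ^ (m / p + n / p) * ((m / p)! * (n / p)!))
      = w p (m + n) * (p ! ^ (m / p + n / p + 1) * ((m / p + n / p + 1) *
          (Nat.choose (m / p + n / p) (m / p) * (m / p)! * (n / p)!))) := by
        rw [pow_succ]; ring
    _ = (m + n)! := by rw [hc, ← Nat.factorial_succ, h1]
    _ = Nat.choose (m + n) m * (w p m * (p ! ^ (m / p) * (m / p)!)) *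
          (w p n * (p ! ^ (n / p) * (n / p)!)) := by rw [h2, h3, hc2]
    _ = Nat.choose (m + n) m * w p m * w p n *
          (p ! ^ (m / p + n / p) * ((m / p)! * (n / p)!)) := by rw [pow_add]; ring

end Groth.Agent.Helper7.DivPw
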