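import Groth.Agent.Helper7.DivPwJ

set_option autoImplicit false

namespace Groth.Agent.Helper7.DivPw

open Nat

theorem w_cast (p n : ℕ) (hp : p ≠ 0) :
    (w p n : ℚ) = (n ! : ℚ) / ((p ! : ℚ) ^ (n / p) * ((n / p)! : ℚ)) := by
  have h := w_mul p n hp
  have h' : (w p n : ℚ) * ((p ! : ℚ) ^ (n / p) * ((n / p)! : ℚ)) = (n ! : ℚ) := by exact_mod_cast h
  have hne : ((p ! : ℚ) ^ (n / p) * ((n / p)! : ℚ)) ≠ 0 := by positivity
  rw [eq_div_iff hne, h']

theorem uB_cast (a b : ℕ) (hb : b ≠ 0) :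
    (Nat.uniformBell a b : ℚ) = ((a * b)! : ℚ) / ((b ! : ℚ) ^ a * (a ! : ℚ)) := by
  have h := Nat.uniformBell_mul_eq a hb
  have h' : (Nat.uniformBell a b : ℚ) * ((b ! : ℚ) ^ a * (a ! : ℚ)) = ((a * b)! : ℚ) := by
    rw [← mul_assoc]; exact_mod_cast h
  have hne : ((b ! : ℚ) ^ a * (a ! : ℚ)) ≠ 0 := by positivity
  rw [eq_div_iff hne, h']

theorem w_step_aux (q m₀ m' : ℕ) (L N P M K : ℚ) (hP : P ≠ 0) (hM : M ≠ 0) (hN : N ≠ 0) :
    L / (N ^ (q + 1) * P) * (N / (P ^ m' * M)) ^ q * (K / (P ^ m' * M)) =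
      L / (P ^ (m₀ + (q + 1) * m') * N) * P ^ m₀ * (K / (M ^ (q + 1) * P)) := by
  rw [_root_.div_pow, _root_.div_mul_div_comm, _root_.div_mul_div_comm, _root_.div_mul_eq_mul_div, _root_.div_mul_div_comm,
    _root_.div_eq_div_iff (by positivity) (by positivity)]
  ring

/-- the identity for the inductive step of `d (g_m x)` -/
theorem w_step (p m₀ m' : ℕ) (hp : 2 ≤ p) (hm₀ : m₀ < p) (hm' : m' ≠ 0) :
    Nat.uniformBell p (m₀ + p * m') * w p (m₀ + p * m') ^ (p - 1) * w p (p * m') =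
      w p (p * (m₀ + p * m')) * p ! ^ m₀ * Nat.uniformBell p m' := by
  have hp0 : p ≠ 0 := by omega
  obtain ⟨q, rfl⟩ : ∃ q, p = q + 1 := ⟨p - 1, by omega⟩
  have hm : m₀ + (q + 1) * m' ≠ 0 := by
    have : 0 < (q + 1) * m' := Nat.mul_pos (by omega) (Nat.pos_of_ne_zero hm')
    omega
  have e1 : (m₀ + (q + 1) * m') / (q + 1) = m' := by
    rw [Nat.add_mul_div_left _ _ (by omega : 0 < q + 1), Nat.div_eq_of_lt hm₀, zero_add]
  have e2 : ((q + 1) * m') / (q + 1) = m' := Nat.mul_div_cancel_left _ (by omega)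
  have e3 : ((q + 1) * (m₀ + (q + 1) * m')) / (q + 1) = m₀ + (q + 1) * m' :=
    Nat.mul_div_cancel_left _ (by omega)
  have e4 : q + 1 - 1 = q := by omega
  apply Nat.cast_injective (R := ℚ)
  rw [e4]
  simp only [Nat.cast_mul, Nat.cast_pow]
  rw [w_cast _ _ hp0, w_cast _ _ hp0, w_cast _ _ hp0, uB_cast _ _ hm, uB_cast _ _ hm', e1, e2, e3]
  exact w_step_aux q m₀ m' _ _ _ _ _ (by positivity) (by positivity) (by positivity)

theorem w_base_aux (q r : ℕ) (L P M : ℚ) (hP : P ≠ 0) (hM : M ≠ 0) :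
    L / (M ^ (q + 1) * P) * M ^ q = L / (P ^ (r + 1) * M) * P ^ r := by
  rw [_root_.div_mul_eq_mul_div, _root_.div_mul_eq_mul_div, _root_.div_eq_div_iff (by positivity) (by positivity)]
  ring

/-- the identity for the base case of `d (g_m x)`, `1 ≤ m < p` -/
theorem w_base (p m : ℕ) (hp : 2 ≤ p) (hm : m ≠ 0) :
    Nat.uniformBell p m * m ! ^ (p - 1) = w p (p * m) * p ! ^ (m - 1) := by
  have hp0 : p ≠ 0 := by omega
  obtain ⟨q, rfl⟩ : ∃ q, p = q + 1 := ⟨p - 1, by omega⟩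
  obtain ⟨r, rfl⟩ : ∃ r, m = r + 1 := ⟨m - 1, by omega⟩
  have e3 : ((q + 1) * (r + 1)) / (q + 1) = r + 1 := Nat.mul_div_cancel_left _ (by omega)
  have e4 : q + 1 - 1 = q := by omega
  have e5 : r + 1 - 1 = r := by omega
  apply Nat.cast_injective (R := ℚ)
  rw [e4, e5]
  simp only [Nat.cast_mul, Nat.cast_pow]
  rw [w_cast _ _ hp0, uB_cast _ _ hm, e3]
  exact w_base_aux q r _ _ _ (by positivity) (by positivity)

end Groth.Agent.Helper7.DivPw
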