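import Groth.Agent.Helper7.DivPwK
import Mathlib.Data.Nat.Prime.Factorial

set_option autoImplicit false

namespace Groth.Agent.Helper7.DivPw

open Finset

universe u

section Prime

variable {A : Type u} [CommRing A] (p : ℕ) (d : A → A)

/-- the candidate divided powers determined by the `p`-th one -/
noncomputable def gp (n : ℕ) (x : A) : A :=
  if h : n = 0 then 1
  else if hp : 2 ≤ p then Ring.inverse (w p n : A) * x ^ (n % p) * gp (n / p) (d x)
  else 0
termination_by n
decreasing_by exact Nat.div_lt_self (by omega) hp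

theorem gp_zero (x : A) : gp p d 0 x = 1 := by
  rw [gp]; simp

theorem gp_of_ne_zero (hp : 2 ≤ p) {n : ℕ} (hn : n ≠ 0) (x : A) :
    gp p d n x = Ring.inverse (w p n : A) * x ^ (n % p) * gp p d (n / p) (d x) := by
  rw [gp]; simp [hn, hp]

variable (hp : p.Prime) (hA : ∀ n : ℕ, ¬ p ∣ n → IsUnit (n : A))

include hp hA in
theorem isUnit_w (n : ℕ) : IsUnit ((w p n : ℕ) : A) := hA _ (not_dvd_w p n hp)

include hp hA in
theorem isUnit_factorial {i : ℕ} (hi : i < p) : IsUnit ((i.factorial : ℕ) : A) := by
  apply hA
  rw [hp.dvd_factorial]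
  omega

include hp hA in
/-- the basic rewriting rule -/
theorem w_mul_gp (n : ℕ) (x : A) :
    (w p n : A) * gp p d n x = x ^ (n % p) * gp p d (n / p) (d x) := by
  by_cases hn : n = 0
  · subst hn
    simp [gp_zero, w_of_lt p 0 hp.pos]
  · rw [gp_of_ne_zero p d hp.two_le hn, ← mul_assoc, ← mul_assoc,
      Ring.mul_inverse_cancel _ (isUnit_w p hp hA n), one_mul]

include hp hA in
theorem gp_of_lt {n : ℕ} (hn : n < p) (x : A) :
    (n.factorial : A) * gp p d n x = x ^ n := by
  have := w_mul_gp p d hp hA n x
  rwa [w_of_lt p n hn, Nat.mod_eq_of_lt hn, Nat.div_eq_of_lt hn, gp_zero, mul_one] at this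

include hp hA in
theorem gp_one (x : A) : gp p d 1 x = x := by
  have := gp_of_lt p d hp hA hp.one_lt x
  simpa using this

include hp hA in
theorem gp_self (x : A) : gp p d p x = d x := by
  have := w_mul_gp p d hp hA p x
  rwa [w_self p hp.two_le, Nat.mod_self, Nat.div_self hp.pos, gp_one p d hp hA, Nat.cast_one,
    one_mul, pow_zero, one_mul] at this

variable {I : Ideal A} (hdI : ∀ x ∈ I, d x ∈ I)

include hp hdI in
theorem gp_mem {n : ℕ} (hn : n ≠ 0) : ∀ {x : A}, x ∈ I → gp p d n x ∈ I := by
  induction n using Nat.strong_induction_on with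
  | _ n ih =>
    intro x hx
    rw [gp_of_ne_zero p d hp.two_le hn]
    by_cases h0 : n % p = 0
    · have hn' : n / p ≠ 0 := by
        intro h
        have := Nat.div_add_mod n p
        rw [h, h0] at this
        simp at this
        exact hn this.symm
      exact Ideal.mul_mem_left _ _ (ih _ (Nat.div_lt_self (by omega) hp.one_lt) hn' (hdI x hx))
    · exact Ideal.mul_mem_right _ _ (Ideal.mul_mem_left _ _ (Ideal.pow_mem_of_mem _ hx _ (by omega)))

variable (h1 : ∀ x ∈ I, (p.factorial : A) * d x = x ^ p)
  (h2 : ∀ (a x : A), x ∈ I → d (a * x) = a ^ p * d x)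

include hp hA hdI h2 in
theorem gp_smul (n : ℕ) : ∀ (a : A) {x : A}, x ∈ I → gp p d n (a * x) = a ^ n * gp p d n x := by
  induction n using Nat.strong_induction_on with
  | _ n ih =>
    intro a x hx
    by_cases hn : n = 0
    · subst hn; simp [gp_zero]
    apply (isUnit_w p hp hA n).mul_left_cancel
    rw [w_mul_gp p d hp hA, h2 a x hx, ih _ (Nat.div_lt_self (by omega) hp.one_lt) _ (hdI x hx)]
    calc (a * x) ^ (n % p) * ((a ^ p) ^ (n / p) * gp p d (n / p) (d x))
        = a ^ (n % p + p * (n / p)) * (x ^ (n % p) * gp p d (n / p) (d x)) := by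
          rw [pow_add, pow_mul, mul_pow]; ring
      _ = a ^ n * ((w p n : A) * gp p d n x) := by
          rw [Nat.mod_add_div, w_mul_gp p d hp hA]
      _ = (w p n : A) * (a ^ n * gp p d n x) := by ring

include hp hA hdI h1 in
theorem gp_mul_aux (s : ℕ) : ∀ (m n : ℕ) {x : A}, m + n = s → x ∈ I →
    gp p d m x * gp p d n x = ((m + n).choose m : A) * gp p d (m + n) x := by
  induction s using Nat.strong_induction_on with
  | _ s ih =>
    intro m n x hs hx
    by_cases hm : m = 0
    · subst hm; simp [gp_zero]
    by_cases hn : n = 0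
    · subst hn; simp [gp_zero]
    have hp2 := hp.two_le
    have hlt : m / p + n / p < s := by
      have h1 := Nat.div_lt_self (Nat.pos_of_ne_zero hm) hp.one_lt
      have h2 := Nat.div_le_self n p
      omega
    have hu : IsUnit ((w p m : A) * (w p n : A) * (w p (m + n) : A)) :=
      ((isUnit_w p hp hA m).mul (isUnit_w p hp hA n)).mul (isUnit_w p hp hA (m + n))
    apply hu.mul_left_cancel
    have e1 : (w p m : A) * (w p n : A) * (w p (m + n) : A) * (gp p d m x * gp p d n x) =
        (w p (m + n) : A) * (x ^ (m % p + n % p) *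
          (((m / p + n / p).choose (m / p) : A) * gp p d (m / p + n / p) (d x))) := by
      rw [← ih _ hlt (m / p) (n / p) rfl (hdI x hx)]
      calc (w p m : A) * (w p n : A) * (w p (m + n) : A) * (gp p d m x * gp p d n x)
          = (w p (m + n) : A) * (((w p m : A) * gp p d m x) * ((w p n : A) * gp p d n x)) := by ring
        _ = _ := by
          rw [w_mul_gp p d hp hA, w_mul_gp p d hp hA, pow_add]; ring
    have e2 : (w p m : A) * (w p n : A) * (w p (m + n) : A) *
        (((m + n).choose m : A) * gp p d (m + n) x) =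
        (((m + n).choose m * w p m * w p n : ℕ) : A) *
          (x ^ ((m + n) % p) * gp p d ((m + n) / p) (d x)) := by
      rw [← w_mul_gp p d hp hA]
      push_cast
      ring
    rw [e1, e2]
    by_cases hc : m % p + n % p < p
    · -- no carry
      have hdiv : (m + n) / p = m / p + n / p := by
        rw [Nat.add_div hp.pos, if_neg (by omega)]
        simp
      have hmod : (m + n) % p = m % p + n % p := by
        rw [Nat.add_mod, Nat.mod_eq_of_lt hc]
      rw [← w_add_of_lt p m n hp.ne_zero hc, hdiv, hmod]
      push_cast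
      ring
    · -- carry
      push Not at hc
      have hdiv : (m + n) / p = m / p + n / p + 1 := by
        rw [Nat.add_div hp.pos, if_pos hc]
      have hmod : m % p + n % p = p + (m + n) % p := by
        have a1 := Nat.div_add_mod m p
        have a2 := Nat.div_add_mod n p
        have a3 := Nat.div_add_mod (m + n) p
        rw [hdiv] at a3
        have a4 : p * (m / p + n / p + 1) = p * (m / p) + p * (n / p) + p := by ring
        omega
      have hlt' : 1 + (m / p + n / p) < s := by
        have h1 := Nat.div_add_mod m p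
        have h2 := Nat.div_add_mod n p
        have h3 : p * (m / p) + p * (n / p) = p * (m / p + n / p) := by ring
        have h4 : 2 * (m / p + n / p) ≤ p * (m / p + n / p) := Nat.mul_le_mul_right _ hp2
        omega
      have h5 := ih _ hlt' 1 (m / p + n / p) rfl (hdI x hx)
      rw [gp_one p d hp hA] at h5
      rw [← w_add_of_le p m n hp.ne_zero hc, hdiv, hmod, pow_add, ← h1 x hx]
      have h6 : ((1 + (m / p + n / p)).choose 1 : A) = ((m / p + n / p + 1 : ℕ) : A) := by
        rw [Nat.choose_one_right]; congr 1; omega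
      rw [h6, add_comm 1 (m / p + n / p)] at h5
      calc (w p (m + n) : A) * ((p.factorial : A) * d x * x ^ ((m + n) % p) *
            (((m / p + n / p).choose (m / p) : A) * gp p d (m / p + n / p) (d x)))
          = (w p (m + n) : A) * (p.factorial : A) * x ^ ((m + n) % p) *
            ((m / p + n / p).choose (m / p) : A) * (d x * gp p d (m / p + n / p) (d x)) := by ring
        _ = _ := by
          rw [h5]
          push_cast
          ring

include hp hA hdI h1 in
theorem gp_mul (m n : ℕ) {x : A} (hx : x ∈ I) :
    gp p d m x * gp p d n x = ((m + n).choose m : A) * gp p d (m + n) x :=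
  gp_mul_aux p d hp hA hdI h1 _ m n rfl hx

include hp hA hdI h1 h2 in
/-- `d (g_n x) = (pn)!/(p! n!^p) g_{pn}(x)` -/
theorem d_gp {n : ℕ} (hn : n ≠ 0) : ∀ {x : A}, x ∈ I →
    d (gp p d n x) = (Nat.uniformBell p n : A) * gp p d (p * n) x := by
  induction n using Nat.strong_induction_on with
  | _ n ih =>
    intro x hx
    have hp2 := hp.two_le
    have hpn : (w p (p * n) : A) * gp p d (p * n) x = gp p d n (d x) := by
      rw [w_mul_gp p d hp hA, Nat.mul_mod_right, pow_zero, one_mul, Nat.mul_div_cancel_left _ hp.pos]
    by_cases hlt : n < p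
    · -- base case
      have hu : IsUnit (((n.factorial : ℕ) : A) ^ p * (w p (p * n) : A)) :=
        ((isUnit_factorial p hp hA hlt).pow p).mul (isUnit_w p hp hA _)
      apply hu.mul_left_cancel
      have hx' : ((n.factorial : ℕ) : A) * gp p d n x = x ^ (n - 1) * x := by
        rw [gp_of_lt p d hp hA hlt, ← pow_succ]; congr 1; omega
      have e1 : ((n.factorial : ℕ) : A) ^ p * d (gp p d n x) = x ^ (p * (n - 1)) * d x := by
        rw [← h2 _ _ (gp_mem p d hp hdI hn hx), hx', h2 _ _ hx, ← pow_mul, mul_comm (n - 1) p]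
      have e2 : x ^ (p * (n - 1)) = ((p.factorial : ℕ) : A) ^ (n - 1) * d x ^ (n - 1) := by
        rw [pow_mul, ← h1 x hx, mul_pow]
      have e3 : d x ^ (n - 1) * d x = ((n.factorial : ℕ) : A) * gp p d n (d x) := by
        rw [gp_of_lt p d hp hA hlt, ← pow_succ]; congr 1; omega
      have e4 := congrArg (Nat.cast (R := A)) (w_base p n hp2 hn)
      push_cast at e4
      have e5 : ((n.factorial : ℕ) : A) ^ p = ((n.factorial : ℕ) : A) ^ (p - 1) * (n.factorial : ℕ) := by
        rw [← pow_succ]; congr 1; omega
      calc ((n.factorial : ℕ) : A) ^ p * (w p (p * n) : A) * d (gp p d n x)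
          = (w p (p * n) : A) * (((n.factorial : ℕ) : A) ^ p * d (gp p d n x)) := by ring
        _ = ((w p (p * n) : A) * ((p.factorial : ℕ) : A) ^ (n - 1)) *
              (d x ^ (n - 1) * d x) := by rw [e1, e2]; ring
        _ = ((Nat.uniformBell p n : A) * ((n.factorial : ℕ) : A) ^ (p - 1)) *
              (((n.factorial : ℕ) : A) * gp p d n (d x)) := by rw [e3, e4]
        _ = ((n.factorial : ℕ) : A) ^ p * (w p (p * n) : A) *
              ((Nat.uniformBell p n : A) * gp p d (p * n) x) := by
            rw [e5, ← hpn]; ring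
    · -- inductive step
      push Not at hlt
      have hn' : n / p ≠ 0 := by
        have := Nat.div_pos hlt hp.pos
        omega
      have hlt' : n / p < n := Nat.div_lt_self (by omega) hp.one_lt
      have hdx := hdI x hx
      have hg : gp p d (n / p) (d x) ∈ I := gp_mem p d hp hdI hn' hdx
      have en : n % p + p * (n / p) = n := Nat.mod_add_div n p
      have hstep := congrArg (Nat.cast (R := A))
        (w_step p (n % p) (n / p) hp2 (Nat.mod_lt n hp.pos) hn')
      rw [en] at hstep
      push_cast at hstep
      have hu : IsUnit ((w p n : A) ^ p * (w p (p * (n / p)) : A) * (w p (p * n) : A)) :=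
        (((isUnit_w p hp hA n).pow p).mul (isUnit_w p hp hA _)).mul (isUnit_w p hp hA _)
      apply hu.mul_left_cancel
      have e1 : (w p n : A) ^ p * d (gp p d n x) =
          x ^ (p * (n % p)) * d (gp p d (n / p) (d x)) := by
        rw [← h2 _ _ (gp_mem p d hp hdI hn hx), w_mul_gp p d hp hA, h2 _ _ hg, ← pow_mul,
          mul_comm (n % p) p]
      have e2 : x ^ (p * (n % p)) = ((p.factorial : ℕ) : A) ^ (n % p) * d x ^ (n % p) := by
        rw [pow_mul, ← h1 x hx, mul_pow]
      have e3 : (w p (p * (n / p)) : A) * gp p d (p * (n / p)) (d x) = gp p d (n / p) (d (d x)) := by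
        rw [w_mul_gp p d hp hA, Nat.mul_mod_right, pow_zero, one_mul,
          Nat.mul_div_cancel_left _ hp.pos]
      have e5 : (w p n : A) ^ p = (w p n : A) ^ (p - 1) * (w p n : A) := by
        rw [← pow_succ]; congr 1; omega
      calc (w p n : A) ^ p * (w p (p * (n / p)) : A) * (w p (p * n) : A) * d (gp p d n x)
          = (w p (p * (n / p)) : A) * (w p (p * n) : A) * ((w p n : A) ^ p * d (gp p d n x)) := by
            ring
        _ = (w p (p * n) : A) * ((p.factorial : ℕ) : A) ^ (n % p) * (Nat.uniformBell p (n / p) : A) *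
              (d x ^ (n % p) * ((w p (p * (n / p)) : A) * gp p d (p * (n / p)) (d x))) := by
            rw [e1, e2, ih _ hlt' hn' hdx]; ring
        _ = (Nat.uniformBell p n : A) * (w p n : A) ^ (p - 1) * (w p (p * (n / p)) : A) *
              (d x ^ (n % p) * gp p d (n / p) (d (d x))) := by rw [e3, hstep]
        _ = (Nat.uniformBell p n : A) * (w p n : A) ^ (p - 1) * (w p (p * (n / p)) : A) *
              ((w p n : A) * gp p d n (d x)) := by rw [w_mul_gp p d hp hA n (d x)]
        _ = (w p n : A) ^ p * (w p (p * (n / p)) : A) * (w p (p * n) : A) *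
              ((Nat.uniformBell p n : A) * gp p d (p * n) x) := by
            rw [e5, ← hpn]; ring

end Prime

end Groth.Agent.Helper7.DivPw
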