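import Groth.Agent.Helper7.DivPwL

set_option autoImplicit false

namespace Groth.Agent.Helper7.DivPw

open Finset

universe u

/-- the denominator-free formula expressing `γ_n` by `γ_p`, in any divided power ring -/
theorem w_mul_dpow {A : Type u} [CommRing A] {I : Ideal A} (γ : DividedPowers I) (p : ℕ)
    (hp : p ≠ 0) (n : ℕ) {y : A} (hy : y ∈ I) :
    (w p n : A) * γ.dpow n y = y ^ (n % p) * γ.dpow (n / p) (γ.dpow p y) := by
  rw [γ.dpow_comp hp hy, ← γ.factorial_mul_dpow_eq_pow hy]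
  calc (w p n : A) * γ.dpow n y
      = ((n % p).factorial : A) * (Nat.uniformBell (n / p) p : A) *
          (((n % p + n / p * p).choose (n % p) : A) * γ.dpow (n % p + n / p * p) y) := by
        rw [Nat.mod_add_div']; unfold w; push_cast; ring
    _ = _ := by
        rw [← γ.mul_dpow hy]; ring

/-- the standard divided powers on the augmentation ideal of `ℤ⟨Λ⟩` -/
noncomputable def gZ (Λ : Type) : DividedPowers (prZ Λ).augIdeal :=
  Model.γ₀ (R₀ := ℤ) (Q₀ := ℚ) Λ (RingHom.injective_int (algebraMap ℤ ℚ))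

theorem gZ_x (Λ : Type) (l : Λ) (n : ℕ) : (gZ Λ).dpow n ((prZ Λ).x l 1) = (prZ Λ).x l n :=
  Model.γ₀_x (R₀ := ℤ) (Q₀ := ℚ) Λ (RingHom.injective_int (algebraMap ℤ ℚ)) l n

theorem sum_antidiagonal_split (p : ℕ) (hp : p ≠ 0) {M : Type*} [AddCommMonoid M]
    (F : ℕ × ℕ → M) :
    ∑ k ∈ antidiagonal p, F k = F (0, p) + F (p, 0) +
      ∑ k ∈ (antidiagonal p).filter (fun k => 0 < k.1 ∧ 0 < k.2), F k := by
  rw [← Finset.sum_filter_add_sum_filter_not (antidiagonal p) (fun k => 0 < k.1 ∧ 0 < k.2)]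
  have : (antidiagonal p).filter (fun k => ¬ (0 < k.1 ∧ 0 < k.2)) = {(0, p), (p, 0)} := by
    ext ⟨a, b⟩
    simp only [mem_filter, Finset.HasAntidiagonal.mem_antidiagonal, mem_insert, mem_singleton,
      Prod.mk.injEq]
    omega
  rw [this, sum_pair (by simp only [ne_eq, Prod.mk.injEq, not_and]; omega)]
  abel

section Prime

variable {A : Type u} [CommRing A] (p : ℕ) (d : A → A)
  (hp : p.Prime) (hA : ∀ n : ℕ, ¬ p ∣ n → IsUnit (n : A)) {I : Ideal A}
  (hdI : ∀ x ∈ I, d x ∈ I) (h1 : ∀ x ∈ I, (p.factorial : A) * d x = x ^ p)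
  (h2 : ∀ (a x : A), x ∈ I → d (a * x) = a ^ p * d x)
  (h3 : ∀ x ∈ I, ∀ y ∈ I, d (x + y) = d x + d y +
      ((Finset.antidiagonal p).filter fun k => 0 < k.1 ∧ 0 < k.2).sum
        fun k => Ring.inverse ((k.1.factorial * k.2.factorial : ℕ) : A) * x ^ k.1 * y ^ k.2)
  {Λ : Type} (x : Λ → A) (hx : ∀ l, x l ∈ I)

/-- the comparison map from the divided power polynomial algebra -/
noncomputable def phi : Dz Λ →ₐ[ℤ] A :=
  (prZ Λ).lift (fun l n => gp p d n (x l)) (fun l => gp_zero p d (x l))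
    (fun l n m => gp_mul p d hp hA hdI h1 n m (hx l))

theorem phi_x (l : Λ) (n : ℕ) :
    phi p d hp hA hdI h1 x hx ((prZ Λ).x l n) = gp p d n (x l) :=
  Pres.lift_x _ _ _ _ l n

theorem phi_mem {f : Dz Λ} (hf : f ∈ (prZ Λ).augIdeal) : phi p d hp hA hdI h1 x hx f ∈ I := by
  have : (prZ Λ).augIdeal ≤ I.comap (phi p d hp hA hdI h1 x hx) := by
    unfold Pres.augIdeal
    rw [Ideal.span_le]
    rintro _ ⟨l, n, hn, rfl⟩
    simp only [SetLike.mem_coe, Ideal.mem_comap]
    rw [phi_x]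
    exact gp_mem p d hp hdI (by omega) (hx l)
  exact this hf

include hp hA in
theorem phi_dpow_of_lt {i : ℕ} (hi : i < p) {f : Dz Λ} (hf : f ∈ (prZ Λ).augIdeal) :
    phi p d hp hA hdI h1 x hx ((gZ Λ).dpow i f) =
      Ring.inverse ((i.factorial : ℕ) : A) * phi p d hp hA hdI h1 x hx f ^ i := by
  have h := congrArg (phi p d hp hA hdI h1 x hx) ((gZ Λ).factorial_mul_dpow_eq_pow (n := i) hf)
  rw [map_mul, map_natCast, map_pow] at h
  rw [← h, Ring.inverse_mul_cancel_left _ _ (isUnit_factorial p hp hA hi)]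

include h2 h3 in
theorem phi_dpow_p {f : Dz Λ} (hf : f ∈ (prZ Λ).augIdeal) :
    phi p d hp hA hdI h1 x hx ((gZ Λ).dpow p f) = d (phi p d hp hA hdI h1 x hx f) := by
  have hd0 : d 0 = 0 := by
    have := h2 0 0 I.zero_mem
    rwa [zero_mul, zero_pow hp.ne_zero, zero_mul] at this
  have hf' := hf
  unfold Pres.augIdeal at hf'
  induction hf' using Submodule.span_induction with
  | mem f hfS =>
    obtain ⟨l, n, hn, rfl⟩ := hfS
    rw [(prZ Λ).dpow_x (gZ Λ) (gZ_x Λ) l p n (by omega), map_mul, map_natCast, phi_x, phi_x,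
      d_gp p d hp hA hdI h1 h2 (by omega) (hx l)]
  | zero => rw [(gZ Λ).dpow_eval_zero hp.ne_zero, map_zero, hd0]
  | add f f' hf1 hf1' ih ih' =>
    have hfa : f ∈ (prZ Λ).augIdeal := hf1
    have hfa' : f' ∈ (prZ Λ).augIdeal := hf1'
    rw [(gZ Λ).dpow_add hfa hfa', sum_antidiagonal_split p hp.ne_zero, map_add, map_add, map_mul,
      map_mul, (gZ Λ).dpow_zero hfa, (gZ Λ).dpow_zero hfa', map_one, one_mul, mul_one, ih hfa,
      ih' hfa', map_add,
      h3 _ (phi_mem p d hp hA hdI h1 x hx hfa) _ (phi_mem p d hp hA hdI h1 x hx hfa'), map_sum]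
    rw [add_comm (d _) (d _)]
    congr 1
    apply Finset.sum_congr rfl
    intro k hk
    rw [mem_filter, Finset.HasAntidiagonal.mem_antidiagonal] at hk
    rw [map_mul, phi_dpow_of_lt p d hp hA hdI h1 x hx (by omega) hfa,
      phi_dpow_of_lt p d hp hA hdI h1 x hx (by omega) hfa']
    push_cast
    rw [Ring.mul_inverse_rev]
    ring
  | smul c f hf1 ih =>
    have hfa : f ∈ (prZ Λ).augIdeal := hf1
    rw [smul_eq_mul, (gZ Λ).dpow_mul hfa, map_mul, map_pow, ih hfa, map_mul,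
      h2 _ _ (phi_mem p d hp hA hdI h1 x hx hfa)]

include h2 h3 in
theorem phi_dpow (n : ℕ) : ∀ {f : Dz Λ}, f ∈ (prZ Λ).augIdeal →
    phi p d hp hA hdI h1 x hx ((gZ Λ).dpow n f) = gp p d n (phi p d hp hA hdI h1 x hx f) := by
  induction n using Nat.strong_induction_on with
  | _ n ih =>
    intro f hf
    by_cases hn : n = 0
    · subst hn
      rw [(gZ Λ).dpow_zero hf, map_one, gp_zero]
    apply (isUnit_w p hp hA n).mul_left_cancel
    have h := congrArg (phi p d hp hA hdI h1 x hx) (w_mul_dpow (gZ Λ) p hp.ne_zero n hf)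
    rw [map_mul, map_natCast, map_mul, map_pow,
      ih _ (Nat.div_lt_self (by omega) hp.one_lt) ((gZ Λ).dpow_mem hp.ne_zero hf),
      phi_dpow_p p d hp hA hdI h1 h2 h3 x hx hf] at h
    rw [h, w_mul_gp p d hp hA]

end Prime

section Main

variable {A : Type u} [CommRing A] (p : ℕ) (d : A → A)
  (hp : p.Prime) (hA : ∀ n : ℕ, ¬ p ∣ n → IsUnit (n : A)) {I : Ideal A}
  (hdI : ∀ x ∈ I, d x ∈ I) (h1 : ∀ x ∈ I, (p.factorial : A) * d x = x ^ p)
  (h2 : ∀ (a x : A), x ∈ I → d (a * x) = a ^ p * d x)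
  (h3 : ∀ x ∈ I, ∀ y ∈ I, d (x + y) = d x + d y +
      ((Finset.antidiagonal p).filter fun k => 0 < k.1 ∧ 0 < k.2).sum
        fun k => Ring.inverse ((k.1.factorial * k.2.factorial : ℕ) : A) * x ^ k.1 * y ^ k.2)

include hp hA hdI h1 h2 h3 in
theorem gp_add (n : ℕ) {x y : A} (hx : x ∈ I) (hy : y ∈ I) :
    gp p d n (x + y) = ∑ k ∈ antidiagonal n, gp p d k.1 x * gp p d k.2 y := by
  let X : Bool → A := fun b => if b then x else y
  have hX : ∀ b, X b ∈ I := by
    intro b
    cases b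
    · exact hy
    · exact hx
  have hu : (prZ Bool).x true 1 ∈ (prZ Bool).augIdeal := (prZ Bool).x_mem_augIdeal _ le_rfl
  have hv : (prZ Bool).x false 1 ∈ (prZ Bool).augIdeal := (prZ Bool).x_mem_augIdeal _ le_rfl
  have eu : phi p d hp hA hdI h1 X hX ((prZ Bool).x true 1) = x := by
    rw [phi_x, gp_one p d hp hA]; rfl
  have ev : phi p d hp hA hdI h1 X hX ((prZ Bool).x false 1) = y := by
    rw [phi_x, gp_one p d hp hA]; rfl
  have h := phi_dpow p d hp hA hdI h1 h2 h3 X hX n (Ideal.add_mem _ hu hv)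
  rw [map_add, eu, ev, (gZ Bool).dpow_add hu hv, map_sum] at h
  rw [← h]
  apply Finset.sum_congr rfl
  intro k _
  rw [map_mul, gZ_x, gZ_x, phi_x, phi_x]
  rfl

include hp hA hdI h1 h2 h3 in
theorem gp_comp (m : ℕ) {n : ℕ} (hn : n ≠ 0) {x : A} (hx : x ∈ I) :
    gp p d m (gp p d n x) = (Nat.uniformBell m n : A) * gp p d (m * n) x := by
  let X : Unit → A := fun _ => x
  have hX : ∀ b, X b ∈ I := fun _ => hx
  have hu : (prZ Unit).x () n ∈ (prZ Unit).augIdeal := (prZ Unit).x_mem_augIdeal _ (by omega)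
  have h := phi_dpow p d hp hA hdI h1 h2 h3 X hX m hu
  rw [(prZ Unit).dpow_x (gZ Unit) (gZ_x Unit) () m n hn, map_mul, map_natCast, phi_x, phi_x] at h
  exact h.symm

open Classical in
/-- the divided power structure with prescribed `p`-th divided power -/
noncomputable def gammaP : DividedPowers I where
  dpow n x := if x ∈ I then gp p d n x else 0
  dpow_null {n x} hx := if_neg hx
  dpow_zero {x} hx := by rw [if_pos hx, gp_zero]
  dpow_one {x} hx := by rw [if_pos hx, gp_one p d hp hA]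
  dpow_mem {n x} hn hx := by rw [if_pos hx]; exact gp_mem p d hp hdI hn hx
  dpow_add {n x y} hx hy := by
    simp only [if_pos (I.add_mem hx hy), if_pos hx, if_pos hy]
    exact gp_add p d hp hA hdI h1 h2 h3 n hx hy
  dpow_mul {n a x} hx := by
    rw [if_pos (I.mul_mem_left a hx), if_pos hx, gp_smul p d hp hA hdI h2 n a hx]
  mul_dpow {m n x} hx := by
    simp only [if_pos hx]
    exact gp_mul p d hp hA hdI h1 m n hx
  dpow_comp {m n x} hn hx := by
    simp only [if_pos hx, if_pos (gp_mem p d hp hdI hn hx)]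
    exact gp_comp p d hp hA hdI h1 h2 h3 m hn hx

theorem gammaP_dpow (n : ℕ) {x : A} (hx : x ∈ I) :
    (gammaP p d hp hA hdI h1 h2 h3).dpow n x = gp p d n x := by
  simp only [gammaP, if_pos hx]

include hp hA hdI in
/-- any divided power structure with `γ_p = d` is given by `gp` -/
theorem dpow_eq_gp (γ : DividedPowers I) (hγ : ∀ x ∈ I, γ.dpow p x = d x) (n : ℕ) :
    ∀ {x : A}, x ∈ I → γ.dpow n x = gp p d n x := by
  induction n using Nat.strong_induction_on with
  | _ n ih =>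
    intro x hx
    by_cases hn : n = 0
    · subst hn
      rw [γ.dpow_zero hx, gp_zero]
    apply (isUnit_w p hp hA n).mul_left_cancel
    rw [w_mul_dpow γ p hp.ne_zero n hx, hγ x hx,
      ih _ (Nat.div_lt_self (by omega) hp.one_lt) (hdI x hx), w_mul_gp p d hp hA]

include hp hA hdI h1 h2 h3 in
/-- **Divided powers are determined by the `p`-th one** over a `ℤ_(p)`-algebra: existence and
uniqueness. -/
theorem existsUnique_dividedPowers_of_dpow_prime :
    ∃! γ : DividedPowers I, ∀ x ∈ I, γ.dpow p x = d x := by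
  refine ⟨gammaP p d hp hA hdI h1 h2 h3, ?_, ?_⟩
  · intro x hx
    rw [gammaP_dpow p d hp hA hdI h1 h2 h3 p hx, gp_self p d hp hA]
  · intro γ hγ
    apply DividedPowers.ext
    intro n x hx
    rw [dpow_eq_gp p d hp hA hdI γ hγ n hx, gammaP_dpow p d hp hA hdI h1 h2 h3 n hx]

end Main

end Groth.Agent.Helper7.DivPw
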