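import Mathlib
import Groth.Prelude.Def_EtRam
import Groth.Agent.Helper7.DomValD

/-!
# DomValE: a common extension of a valuation ring `W ⊇ B` and a local extension `C ⊇ B`
-/

set_option autoImplicit false
universe u

namespace Groth.Agent.Helper7.DomVal

open IsLocalRing TensorProduct

attribute [local instance] Algebra.TensorProduct.rightAlgebra

section Construction

variable {B C W : Type u} [CommRing B] [IsDomain B] [IsDiscreteValuationRing B]
  [CommRing C] [IsDomain C] [IsLocalRing C] [CommRing W] [IsDomain W] [IsLocalRing W]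
  [Algebra B C] [IsLocalHom (algebraMap B C)] [Algebra B W] [IsLocalHom (algebraMap B W)]

/-- a prime of `W ⊗[B] C` containing both maximal ideals -/
theorem exists_prime_tensor :
    ∃ P : Ideal (W ⊗[B] C), P.IsPrime ∧
      (∀ w ∈ maximalIdeal W, algebraMap W (W ⊗[B] C) w ∈ P) ∧
      (∀ c ∈ maximalIdeal C, algebraMap C (W ⊗[B] C) c ∈ P) := by
  let T := ResidueField W ⊗[ResidueField B] ResidueField C
  let f₁ : W →ₐ[B] T :=
    (Algebra.TensorProduct.includeLeft : ResidueField W →ₐ[B] T).comp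
      (IsScalarTower.toAlgHom B W (ResidueField W))
  let f₂ : C →ₐ[B] T :=
    ((Algebra.TensorProduct.includeRight : ResidueField C →ₐ[ResidueField B] T).restrictScalars
      B).comp (IsScalarTower.toAlgHom B C (ResidueField C))
  let φ : W ⊗[B] C →ₐ[B] T := Algebra.TensorProduct.lift f₁ f₂ (fun _ _ => Commute.all _ _)
  obtain ⟨P', hP'⟩ := Ideal.exists_maximal T
  refine ⟨P'.comap φ.toRingHom, Ideal.comap_isPrime _ _, ?_, ?_⟩
  · intro w hw
    rw [Ideal.mem_comap]
    have : φ.toRingHom (algebraMap W (W ⊗[B] C) w) = 0 := by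
      change φ (w ⊗ₜ 1) = 0
      rw [Algebra.TensorProduct.lift_tmul, map_one, mul_one]
      change (residue W w) ⊗ₜ[ResidueField B] (1 : ResidueField C) = 0
      rw [(residue_eq_zero_iff w).2 hw, zero_tmul]
    rw [this]
    exact Ideal.zero_mem _
  · intro c hc
    rw [Ideal.mem_comap]
    have : φ.toRingHom (algebraMap C (W ⊗[B] C) c) = 0 := by
      change φ (1 ⊗ₜ c) = 0
      rw [Algebra.TensorProduct.lift_tmul, map_one, one_mul]
      change (1 : ResidueField W) ⊗ₜ[ResidueField B] (residue C c) = 0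
      rw [(residue_eq_zero_iff c).2 hc, tmul_zero]
    rw [this]
    exact Ideal.zero_mem _

/-- a minimal prime below it meets `W` and `C` trivially (going down for flat maps) -/
theorem exists_primes_tensor (hBW : Function.Injective (algebraMap B W))
    (hBC : Function.Injective (algebraMap B C)) :
    ∃ P₀ P : Ideal (W ⊗[B] C), P₀.IsPrime ∧ P.IsPrime ∧ P₀ ≤ P ∧
      P₀.comap (algebraMap W (W ⊗[B] C)) = ⊥ ∧ P₀.comap (algebraMap C (W ⊗[B] C)) = ⊥ ∧
      (∀ w ∈ maximalIdeal W, algebraMap W (W ⊗[B] C) w ∈ P) ∧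
      (∀ c ∈ maximalIdeal C, algebraMap C (W ⊗[B] C) c ∈ P) := by
  obtain ⟨P, hP, hPW, hPC⟩ := exists_prime_tensor (B := B) (C := C) (W := W)
  obtain ⟨P₀, hP₀min, hP₀le⟩ := Ideal.exists_minimalPrimes_le (bot_le : (⊥ : Ideal (W ⊗[B] C)) ≤ P)
  haveI hP₀ : P₀.IsPrime := hP₀min.1.1
  haveI : Module.IsTorsionFree B W := Module.isTorsionFree_iff_algebraMap_injective.2 hBW
  haveI : Module.IsTorsionFree B C := Module.isTorsionFree_iff_algebraMap_injective.2 hBC
  haveI : Module.Flat B W := inferInstance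
  haveI : Module.Flat B C := inferInstance
  haveI : Module.Flat W (W ⊗[B] C) := inferInstance
  haveI : Module.Flat C (W ⊗[B] C) :=
    Module.Flat.isBaseChange B C W (W ⊗[B] C)
      (TensorProduct.isPushout' (R := B) (S := W) (T := C)).out
  refine ⟨P₀, P, hP₀, hP, hP₀le, ?_, ?_, hPW, hPC⟩
  · by_contra hne
    have hlt : (⊥ : Ideal W) < P₀.under W := bot_lt_iff_ne_bot.2 hne
    haveI : (⊥ : Ideal W).IsPrime := Ideal.isPrime_bot
    obtain ⟨Q, hQlt, hQp, _⟩ := Ideal.exists_ideal_lt_liesOver_of_lt (p := (⊥ : Ideal W))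
      (q := P₀.under W) P₀ hlt
    exact absurd (hP₀min.2 ⟨hQp, bot_le⟩ hQlt.le) (not_le_of_gt hQlt)
  · by_contra hne
    have hlt : (⊥ : Ideal C) < P₀.under C := bot_lt_iff_ne_bot.2 hne
    haveI : (⊥ : Ideal C).IsPrime := Ideal.isPrime_bot
    obtain ⟨Q, hQlt, hQp, _⟩ := Ideal.exists_ideal_lt_liesOver_of_lt (p := (⊥ : Ideal C))
      (q := P₀.under C) P₀ hlt
    exact absurd (hP₀min.2 ⟨hQp, bot_le⟩ hQlt.le) (not_le_of_gt hQlt)

/-- the common domain quotient of `W ⊗[B] C` -/
theorem exists_domain (hBW : Function.Injective (algebraMap B W))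
    (hBC : Function.Injective (algebraMap B C)) :
    ∃ (D : Type u) (_ : CommRing D) (_ : IsDomain D) (gW : W →+* D) (gC : C →+* D)
      (PD : Ideal D), PD.IsPrime ∧ Function.Injective gW ∧ Function.Injective gC ∧
      gW.comp (algebraMap B W) = gC.comp (algebraMap B C) ∧
      (∀ w ∈ maximalIdeal W, gW w ∈ PD) ∧ (∀ c ∈ maximalIdeal C, gC c ∈ PD) ∧
      (∀ S : Subring D, (∀ w, gW w ∈ S) → (∀ c, gC c ∈ S) → S = ⊤) := by
  obtain ⟨P₀, P, hP₀, hP, hle, hW0, hC0, hPW, hPC⟩ :=
    exists_primes_tensor (B := B) (C := C) (W := W) hBW hBC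
  haveI : (P.map (Ideal.Quotient.mk P₀)).IsPrime :=
    Ideal.map_isPrime_of_surjective Ideal.Quotient.mk_surjective (by
      rw [Ideal.mk_ker]; exact hle)
  refine ⟨(W ⊗[B] C) ⧸ P₀, inferInstance, inferInstance,
    (Ideal.Quotient.mk P₀).comp (algebraMap W (W ⊗[B] C)),
    (Ideal.Quotient.mk P₀).comp (algebraMap C (W ⊗[B] C)),
    P.map (Ideal.Quotient.mk P₀), inferInstance, ?_, ?_, ?_, ?_, ?_, ?_⟩
  · rw [injective_iff_map_eq_zero]
    intro w hw
    have : w ∈ P₀.comap (algebraMap W (W ⊗[B] C)) := by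
      rw [Ideal.mem_comap]; exact Ideal.Quotient.eq_zero_iff_mem.1 hw
    rw [hW0] at this
    exact this
  · rw [injective_iff_map_eq_zero]
    intro c hc
    have : c ∈ P₀.comap (algebraMap C (W ⊗[B] C)) := by
      rw [Ideal.mem_comap]; exact Ideal.Quotient.eq_zero_iff_mem.1 hc
    rw [hC0] at this
    exact this
  · ext b
    simp only [RingHom.comp_apply]
    rw [← IsScalarTower.algebraMap_apply B W (W ⊗[B] C),
      ← IsScalarTower.algebraMap_apply B C (W ⊗[B] C)]
  · intro w hw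
    exact Ideal.mem_map_of_mem _ (hPW w hw)
  · intro c hc
    exact Ideal.mem_map_of_mem _ (hPC c hc)
  · intro S hSW hSC
    rw [eq_top_iff]
    intro d hd
    clear hd
    obtain ⟨r, rfl⟩ := Ideal.Quotient.mk_surjective d
    induction r using TensorProduct.induction_on with
    | zero => simp
    | add x y hx hy => rw [map_add]; exact S.add_mem hx hy
    | tmul w c =>
      have : (w ⊗ₜ[B] c : W ⊗[B] C) =
          algebraMap W (W ⊗[B] C) w * algebraMap C (W ⊗[B] C) c := by
        change w ⊗ₜ[B] c = (w ⊗ₜ[B] 1) * (1 ⊗ₜ[B] c)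
        rw [Algebra.TensorProduct.tmul_mul_tmul, mul_one, one_mul]
      rw [this, map_mul]
      exact S.mul_mem (hSW w) (hSC c)

end Construction

end Groth.Agent.Helper7.DomVal

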