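import Mathlib
import Groth.Prelude.Def_EtRam
import Groth.Agent.Helper7.DomValE

/-!
# DomValF: the common extension of fields and valuation rings
-/

set_option autoImplicit false
universe u

namespace Groth.Agent.Helper7.DomVal

open IsLocalRing

section FieldSide

variable {C D : Type u} [CommRing C] [IsDomain C] [CommRing D] [IsDomain D]
  {M M₀ : Type u} [Field M] [Field M₀] [Algebra C M₀] [IsFractionRing C M₀]

/-- from a domain `D` receiving `W` and `C` injectively, with a prime containing both maximal
ideals, to a valuation ring of `Frac D` -/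
theorem exists_valuation_extension [IsLocalRing C] (W : ValuationSubring M)
    (gW : W →+* D) (gC : C →+* D) (PD : Ideal D) [PD.IsPrime]
    (hgW : Function.Injective gW) (hgC : Function.Injective gC)
    (hPW : ∀ w ∈ maximalIdeal W, gW w ∈ PD) (hPC : ∀ c ∈ maximalIdeal C, gC c ∈ PD)
    (hgen : ∀ S : Subring D, (∀ w, gW w ∈ S) → (∀ c, gC c ∈ S) → S = ⊤) :
    ∃ (ι : M →+* FractionRing D) (j : M₀ →+* FractionRing D)
      (W' : ValuationSubring (FractionRing D)),
      (∀ w : W, ι (w : M) = algebraMap D (FractionRing D) (gW w)) ∧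
      (∀ c : C, j (algebraMap C M₀ c) = algebraMap D (FractionRing D) (gC c)) ∧
      W'.comap ι = W ∧
      ((∀ c : C, j (algebraMap C M₀ c) ∈ W') ∧
        ∀ c ∈ maximalIdeal C, W'.valuation (j (algebraMap C M₀ c)) < 1) ∧
      ∀ F : Subfield (FractionRing D), (∀ w ∈ W, ι w ∈ F) →
        (∀ c : C, j (algebraMap C M₀ c) ∈ F) → F = ⊤ := by
  classical
  have hDM' : Function.Injective (algebraMap D (FractionRing D)) :=
    IsFractionRing.injective D (FractionRing D)
  have hinjW : Function.Injective ((algebraMap D (FractionRing D)).comp gW) :=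
    fun x y h => hgW (hDM' h)
  have hinjC : Function.Injective ((algebraMap D (FractionRing D)).comp gC) :=
    fun x y h => hgC (hDM' h)
  let ι : M →+* FractionRing D := IsFractionRing.lift (A := W) (K := M) hinjW
  let j : M₀ →+* FractionRing D := IsFractionRing.lift (A := C) (K := M₀) hinjC
  have hι : ∀ w : W, ι (w : M) = algebraMap D (FractionRing D) (gW w) := fun w =>
    IsFractionRing.lift_algebraMap hinjW w
  have hj : ∀ c : C, j (algebraMap C M₀ c) = algebraMap D (FractionRing D) (gC c) := fun c =>
    IsFractionRing.lift_algebraMap hinjC c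
  -- the valuation ring `W'`
  let I : Ideal (algebraMap D (FractionRing D)).range :=
    Ideal.map (algebraMap D (FractionRing D)).rangeRestrict PD
  have hI : I ≠ ⊤ := by
    intro htop
    have h1 : (1 : (algebraMap D (FractionRing D)).range) ∈ I := by
      rw [htop]; exact Submodule.mem_top
    obtain ⟨d, hd, hd1⟩ := (Ideal.mem_map_iff_of_surjective _
      (algebraMap D (FractionRing D)).rangeRestrict_surjective).1 h1
    have hd1' : d = 1 := by
      apply hDM'
      have := congrArg Subtype.val hd1
      rw [map_one]
      exact this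
    subst hd1'
    exact Ideal.IsPrime.ne_top' ((Ideal.eq_top_iff_one PD).2 hd)
  obtain ⟨W', hA'W', hIW'⟩ := Ideal.image_subset_nonunits_valuationSubring I hI
  have hmemW' : ∀ d : D, algebraMap D (FractionRing D) d ∈ W' := fun d => hA'W' ⟨_, rfl⟩
  have hnonunit : ∀ d ∈ PD, algebraMap D (FractionRing D) d ∈ W'.nonunits := by
    intro d hd
    apply hIW'
    exact ⟨(algebraMap D (FractionRing D)).rangeRestrict d, Ideal.mem_map_of_mem _ hd, rfl⟩
  refine ⟨ι, j, W', hι, hj, ?_, ⟨?_, ?_⟩, ?_⟩
  · apply le_antisymm
    · rw [← ValuationSubring.nonunits_le_nonunits]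
      intro x hx
      obtain ⟨hxW, hxm⟩ := ValuationSubring.mem_nonunits_iff_exists_mem_maximalIdeal.1 hx
      change (W'.comap ι).valuation x < 1
      rw [valuation_comap_lt_one_iff]
      have := hι ⟨x, hxW⟩
      change ι x = _ at this
      rw [this]
      exact hnonunit _ (hPW _ hxm)
    · intro x hx
      rw [ValuationSubring.mem_comap]
      have := hι ⟨x, hx⟩
      change ι x = _ at this
      rw [this]
      exact hmemW' _
  · intro c
    rw [hj]
    exact hmemW' _
  · intro c hc
    rw [hj]
    exact hnonunit _ (hPC c hc)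
  · intro F hFW hFC
    rw [eq_top_iff]
    intro x _
    let S : Subring D := F.toSubring.comap (algebraMap D (FractionRing D))
    have hS : S = ⊤ := by
      apply hgen
      · intro w
        change algebraMap D (FractionRing D) (gW w) ∈ F
        rw [← hι]
        exact hFW _ w.2
      · intro c
        change algebraMap D (FractionRing D) (gC c) ∈ F
        rw [← hj]
        exact hFC c
    have hD : ∀ d : D, algebraMap D (FractionRing D) d ∈ F := by
      intro d
      have : d ∈ S := by rw [hS]; exact Subring.mem_top d
      exact this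
    obtain ⟨a, b, hb, rfl⟩ := IsFractionRing.div_surjective (A := D) x
    exact F.div_mem (hD a) (hD b)

end FieldSide

section Fields

variable {B C : Type u} [CommRing B] [IsDomain B] [IsDiscreteValuationRing B]
  [CommRing C] [IsDomain C] [IsLocalRing C] [Algebra B C] [IsLocalHom (algebraMap B C)]
  {L M M₀ : Type u} [Field L] [Field M] [Field M₀] [Algebra B L] [IsFractionRing B L]
  [Algebra L M] [Algebra L M₀] [Algebra C M₀] [IsFractionRing C M₀] [Algebra B M₀]
  [IsScalarTower B C M₀] [IsScalarTower B L M₀]

theorem exists_common_extension (hBC : Function.Injective (algebraMap B C))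
    (W : ValuationSubring M)
    (hW : EtRam.Dominates B ((algebraMap L M).comp (algebraMap B L)) W) :
    ∃ (M' : Type u) (_ : Field M') (ι : M →+* M') (j : M₀ →+* M') (W' : ValuationSubring M'),
      ι.comp (algebraMap L M) = j.comp (algebraMap L M₀) ∧
      W'.comap ι = W ∧
      EtRam.Dominates C (j.comp (algebraMap C M₀)) W' ∧
      ∀ F : Subfield M', (∀ w ∈ W, ι w ∈ F) → (∀ c : C, j (algebraMap C M₀ c) ∈ F) → F = ⊤ := by
  letI algBW : Algebra B W :=
    (RingHom.codRestrict ((algebraMap L M).comp (algebraMap B L)) W hW.1).toAlgebra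
  haveI hlocBW : IsLocalHom (algebraMap B W) := isLocalHom_codRestrict _ _ hW
  have hBW : Function.Injective (algebraMap B W) := by
    intro x y hxy
    have := congrArg Subtype.val hxy
    exact IsFractionRing.injective B L ((algebraMap L M).injective this)
  obtain ⟨D, _, _, gW, gC, PD, hPD, hgW, hgC, hcompat, hPW, hPC, hgen⟩ :=
    exists_domain (B := B) (C := C) (W := W) hBW hBC
  obtain ⟨ι, j, W', hι, hj, hWW', hdom, hF⟩ :=
    exists_valuation_extension (M₀ := M₀) W gW gC PD hgW hgC hPW hPC hgen
  refine ⟨FractionRing D, inferInstance, ι, j, W', ?_, hWW', ?_, hF⟩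
  · apply IsLocalization.ringHom_ext (nonZeroDivisors B)
    ext b
    simp only [RingHom.comp_apply]
    have h1 : algebraMap L M (algebraMap B L b) = ((algebraMap B W b : W) : M) := rfl
    rw [h1, hι, ← IsScalarTower.algebraMap_apply B L M₀, IsScalarTower.algebraMap_apply B C M₀, hj]
    congr 1
    exact congrArg (fun f => f b) hcompat
  · exact ⟨fun c => hdom.1 c, fun c hc => hdom.2 c hc⟩

end Fields

end Groth.Agent.Helper7.DomVal
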