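import Mathlib
import Groth.Prelude.Def_EtRam
import Groth.Agent.Helper7.DomValF

/-!
# DomValG: (weak) solutions go down a tower of DVR extensions
-/

set_option autoImplicit false
universe u

namespace Groth.Agent.Helper7.DomVal

open IsLocalRing

section Down

variable {B C : Type u} [CommRing B] [IsDomain B] [IsDiscreteValuationRing B]
  [CommRing C] [IsDomain C] [IsLocalRing C] [Algebra B C] [IsLocalHom (algebraMap B C)]
  {K L M₀ K₁ : Type u} [Field K] [Field L] [Field M₀] [Field K₁] [Algebra K L] [Algebra K M₀]
  [Algebra L M₀] [IsScalarTower K L M₀] [Algebra K K₁] [Algebra.IsAlgebraic K K₁]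
  [Algebra B L] [IsFractionRing B L] [Algebra C M₀] [IsFractionRing C M₀] [Algebra B M₀]
  [IsScalarTower B C M₀] [IsScalarTower B L M₀]

theorem forallLocalExt_descend (hBC : Function.Injective (algebraMap B C))
    {P : ∀ (M : Type u) [Field M], ValuationSubring M → (K₁ →+* M) → Prop}
    (hP : ∀ (M M' : Type u) [Field M] [Field M'] (ι : M →+* M') (f : K₁ →+* M)
      (W' : ValuationSubring M'), P M' W' (ι.comp f) → P M (W'.comap ι) f)
    (h : EtRam.ForallLocalExt C K M₀ K₁ P) : EtRam.ForallLocalExt B K L K₁ P := by
  intro M _ _ _ _ _ _ hadj W hW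
  obtain ⟨M', _, ι, j, W', hcompat, rfl, hdom, hF⟩ :=
    exists_common_extension (B := B) (C := C) (L := L) (M := M) (M₀ := M₀) hBC W hW
  apply hP M M' ι (algebraMap K₁ M) W'
  letI a1 : Algebra M₀ M' := j.toAlgebra
  letI a2 : Algebra K₁ M' := (ι.comp (algebraMap K₁ M)).toAlgebra
  letI a3 : Algebra K M' := (j.comp (algebraMap K M₀)).toAlgebra
  letI a4 : Algebra L M' := (j.comp (algebraMap L M₀)).toAlgebra
  haveI t1 : IsScalarTower K M₀ M' := IsScalarTower.of_algebraMap_eq' rfl
  haveI t3 : IsScalarTower L M₀ M' := IsScalarTower.of_algebraMap_eq' rfl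
  haveI t2 : IsScalarTower K K₁ M' := IsScalarTower.of_algebraMap_eq' (by
    change j.comp (algebraMap K M₀) = (ι.comp (algebraMap K₁ M)).comp (algebraMap K K₁)
    rw [RingHom.comp_assoc, ← IsScalarTower.algebraMap_eq K K₁ M,
      IsScalarTower.algebraMap_eq K L M, ← RingHom.comp_assoc, hcompat, RingHom.comp_assoc,
      ← IsScalarTower.algebraMap_eq K L M₀])
  have hrange : ∀ x ∈ Set.range (algebraMap K₁ M'), IsAlgebraic M₀ x := by
    rintro _ ⟨k, rfl⟩
    have h1 : IsAlgebraic K k := Algebra.IsAlgebraic.isAlgebraic k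
    have h2 : IsAlgebraic K (algebraMap K₁ M' k) := h1.algebraMap
    exact h2.tower_top M₀
  have hadj' : Algebra.adjoin M₀ (Set.range (algebraMap K₁ M')) = ⊤ := by
    rw [← IntermediateField.adjoin_toSubalgebra_of_isAlgebraic hrange]
    have htop : (IntermediateField.adjoin M₀ (Set.range (algebraMap K₁ M'))).toSubfield = ⊤ := by
      apply hF
      · -- `ι(M)` lies in the adjoin
        let ιL : M →ₐ[L] M' :=
          { ι with commutes' := fun x => congrArg (fun f => f x) hcompat }
        let T : Subalgebra L M :=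
          ((IntermediateField.adjoin M₀ (Set.range (algebraMap K₁ M'))).toSubalgebra.restrictScalars
            L).comap ιL
        have hT : T = ⊤ := by
          rw [eq_top_iff, ← hadj]
          apply Algebra.adjoin_le
          rintro _ ⟨k, rfl⟩
          change ι (algebraMap K₁ M k) ∈ IntermediateField.adjoin M₀ _
          exact IntermediateField.subset_adjoin _ _ ⟨k, rfl⟩
        intro w _
        have : w ∈ T := by rw [hT]; exact Algebra.mem_top
        exact this
      · intro c
        exact (IntermediateField.adjoin M₀ (Set.range (algebraMap K₁ M'))).algebraMap_mem _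
    rw [eq_top_iff]
    intro x _
    have : x ∈ (IntermediateField.adjoin M₀ (Set.range (algebraMap K₁ M'))).toSubfield := by
      rw [htop]; exact Subfield.mem_top x
    exact this
  exact h M' hadj' W' hdom

end Down

end Groth.Agent.Helper7.DomVal
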