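import Mathlib
import Groth.Prelude.Def_EtRam
import Groth.Agent.Helper7.DomValG

/-!
# DomValH: unramified extensions in the sense of `Def_EtRam` and `Algebra.FormallyUnramified`
-/

set_option autoImplicit false
universe u

namespace Groth.Agent.Helper7.DomVal

open IsLocalRing

section Ess

variable {A K L : Type u} [CommRing A] [IsDomain A] [IsDiscreteValuationRing A] [Field K]
  [Algebra A K] [IsFractionRing A K] [Field L] [Algebra K L] [Algebra A L] [IsScalarTower A K L]
  [FiniteDimensional K L] [Algebra.IsSeparable K L]

include K in
/-- a valuation subring of a finite separable extension dominating a DVR is essentially of finite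
type over it -/
theorem essFiniteType_of_dominates (V : ValuationSubring L) [Algebra A V] [IsScalarTower A V L]
    (hV : EtRam.Dominates A (algebraMap A L) V) : Algebra.EssFiniteType A V := by
  classical
  -- the integral closure lies in `V`
  have hCV : ∀ x : L, x ∈ integralClosure A L → x ∈ V := by
    intro x hx
    have hx' : IsIntegral V x := IsIntegral.tower_top (A := V) hx
    obtain ⟨y, rfl⟩ := IsIntegrallyClosed.isIntegral_iff.mp hx'
    exact y.2
  haveI : IsDedekindDomain (integralClosure A L) := integralClosure.isDedekindDomain A K L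
  haveI : IsFractionRing (integralClosure A L) L :=
    integralClosure.isFractionRing_of_finite_extension K L
  let f : integralClosure A L →+* V :=
    RingHom.codRestrict (algebraMap (integralClosure A L) L) V (fun x => hCV _ x.2)
  letI algCV : Algebra (integralClosure A L) V := f.toAlgebra
  haveI : IsScalarTower (integralClosure A L) V L := IsScalarTower.of_algebraMap_eq' rfl
  have hfinj : Function.Injective (algebraMap (integralClosure A L) V) := by
    intro x y hxy
    have := congrArg (algebraMap V L) hxy
    rw [← IsScalarTower.algebraMap_apply, ← IsScalarTower.algebraMap_apply] at this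
    exact IsFractionRing.injective (integralClosure A L) L this
  let q : Ideal (integralClosure A L) := (maximalIdeal V).comap (algebraMap (integralClosure A L) V)
  haveI hqp : q.IsPrime := Ideal.comap_isPrime _ _
  -- `q ≠ ⊥`
  obtain ⟨ϖ, hϖ⟩ := IsDiscreteValuationRing.exists_irreducible A
  have hq0 : q ≠ ⊥ := by
    intro hq
    have hmem : algebraMap A (integralClosure A L) ϖ ∈ q := by
      change algebraMap (integralClosure A L) V (algebraMap A (integralClosure A L) ϖ) ∈ maximalIdeal V
      rw [mem_maximalIdeal_iff]
      have := hV.2 ϖ ((Irreducible.maximalIdeal_eq hϖ).symm ▸ Ideal.mem_span_singleton_self ϖ)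
      exact this
    rw [hq, Ideal.mem_bot] at hmem
    have h2 := congrArg (algebraMap (integralClosure A L) L) hmem
    rw [← IsScalarTower.algebraMap_apply, map_zero, IsScalarTower.algebraMap_apply A K L,
      map_eq_zero, IsFractionRing.to_map_eq_zero_iff] at h2
    exact hϖ.ne_zero h2
  -- the DVR `D = C_q`
  let D := Localization.AtPrime q
  haveI : IsDiscreteValuationRing D :=
    IsLocalization.AtPrime.isDiscreteValuationRing_of_dedekind_domain (integralClosure A L) hq0 D
  have hunit : ∀ s : q.primeCompl, IsUnit (algebraMap (integralClosure A L) V s) := by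
    intro s
    by_contra hs
    exact s.2 hs
  haveI : IsLocalization.AtPrime V q := by
    refine ⟨hunit, ?_, ?_⟩
    · -- surjectivity
      intro x
      by_cases hx0 : x = 0
      · exact ⟨⟨0, 1⟩, by simp [hx0]⟩
      letI algDL : Algebra D L :=
        (IsLocalization.lift (M := q.primeCompl) (S := D)
          (g := algebraMap (integralClosure A L) L) (fun s => by
            rw [IsScalarTower.algebraMap_apply (integralClosure A L) V L]
            exact (hunit s).map _)).toAlgebra
      haveI : IsScalarTower (integralClosure A L) D L :=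
        IsScalarTower.of_algebraMap_eq' (by
          rw [RingHom.algebraMap_toAlgebra, IsLocalization.lift_comp])
      haveI : IsFractionRing D L :=
        IsFractionRing.isFractionRing_of_isDomain_of_isLocalization q.primeCompl D L
      have key : ∀ d : D, ∃ (c : integralClosure A L) (s : q.primeCompl),
          algebraMap D L d * algebraMap (integralClosure A L) L s =
            algebraMap (integralClosure A L) L c := by
        intro d
        obtain ⟨⟨c, s⟩, hcs⟩ := IsLocalization.surj q.primeCompl d
        refine ⟨c, s, ?_⟩
        have := congrArg (algebraMap D L) hcs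
        rw [map_mul, ← IsScalarTower.algebraMap_apply, ← IsScalarTower.algebraMap_apply] at this
        exact this
      rcases ValuationRing.isInteger_or_isInteger D ((x : V) : L) with ⟨d, hd⟩ | ⟨d, hd⟩
      · obtain ⟨c, s, hcs⟩ := key d
        refine ⟨⟨c, s⟩, ?_⟩
        apply Subtype.ext
        rw [hd] at hcs
        exact hcs
      · -- `x⁻¹ ∈ D`
        by_cases hdu : IsUnit d
        · obtain ⟨d', hd'⟩ := hdu.exists_left_inv
          obtain ⟨c, s, hcs⟩ := key d'
          refine ⟨⟨c, s⟩, ?_⟩
          apply Subtype.ext
          have hx : ((x : V) : L) = algebraMap D L d' := by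
            have h1 := congrArg (algebraMap D L) hd'
            rw [map_mul, map_one, hd] at h1
            have hxne : ((x : V) : L) ≠ 0 := fun h => hx0 (Subtype.ext h)
            field_simp at h1
            exact h1.symm
          change ((x : V) : L) * algebraMap (integralClosure A L) L s = _
          rw [hx]
          exact hcs
        · exfalso
          have hdm : d ∈ maximalIdeal D := hdu
          rw [← IsLocalization.AtPrime.map_eq_maximalIdeal q D] at hdm
          obtain ⟨⟨⟨c, hc⟩, s⟩, hcs⟩ := (IsLocalization.mem_map_algebraMap_iff q.primeCompl D).1 hdm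
          simp only at hcs
          have h1 := congrArg (algebraMap D L) hcs
          rw [map_mul, ← IsScalarTower.algebraMap_apply, ← IsScalarTower.algebraMap_apply, hd] at h1
          -- `x⁻¹ * s = c`, with `c ∈ m_V`, `s` unit
          have hxne : ((x : V) : L) ≠ 0 := fun h => hx0 (Subtype.ext h)
          have h2 : algebraMap (integralClosure A L) V s =
              x * algebraMap (integralClosure A L) V c := by
            apply Subtype.ext
            change algebraMap (integralClosure A L) L s = (x : L) * algebraMap (integralClosure A L) L c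
            rw [← h1]
            field_simp
          have h3 : algebraMap (integralClosure A L) V s ∈ maximalIdeal V := by
            rw [h2]
            exact Ideal.mul_mem_left _ _ hc
          exact h3 (hunit s)
    · intro x y hxy
      exact ⟨1, by rw [hfinj hxy]⟩
  haveI : IsScalarTower A (integralClosure A L) V := IsScalarTower.of_algebraMap_eq (by
    intro a
    apply Subtype.ext
    change algebraMap V L (algebraMap A V a) = algebraMap (integralClosure A L) L
      (algebraMap A (integralClosure A L) a)
    rw [← IsScalarTower.algebraMap_apply, ← IsScalarTower.algebraMap_apply])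
  haveI : Module.Finite A (integralClosure A L) :=
    IsIntegralClosure.finite A K L (integralClosure A L)
  haveI : Algebra.EssFiniteType (integralClosure A L) V :=
    Algebra.EssFiniteType.of_isLocalization V q.primeCompl
  exact Algebra.EssFiniteType.comp A (integralClosure A L) V

end Ess

section Bridge

variable {R S : Type u} [CommRing R] [CommRing S] [Algebra R S] [IsLocalRing R] [IsLocalRing S]
  [IsLocalHom (algebraMap R S)]

theorem unramAt_iff_formallyUnramified [Algebra.EssFiniteType R S] :
    UnramAt R S ↔ Algebra.FormallyUnramified R S := by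
  rw [Algebra.FormallyUnramified.iff_map_maximalIdeal_eq]
  unfold UnramAt EtRam.IsWeaklyUnramified
  exact and_comm

end Bridge

section Core

open TensorProduct

variable {A B V' : Type u} [CommRing A] [CommRing B] [IsDomain B] [IsDiscreteValuationRing B]
  [CommRing V'] [Algebra A B] [Algebra A V'] [Algebra.FormallyUnramified A V']
  [Algebra.EssFiniteType A V'] {F : Type u} [Field F] (W : ValuationSubring F)
  [Algebra B W] [IsLocalHom (algebraMap B W)] [Algebra A W] [IsScalarTower A B W]

theorem formallyUnramified_of_baseChange (ν : V' →ₐ[A] W)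
    (hinj : Function.Injective (algebraMap B W))
    (hgen : ∀ S : Subring F, (∀ b : B, ((algebraMap B W b : W) : F) ∈ S) →
      (∀ v : V', ((ν v : W) : F) ∈ S) → ∀ x : F, ∃ d₁ ∈ S, ∃ d₂ ∈ S, d₂ ≠ 0 ∧ x = d₁ / d₂) :
    Algebra.FormallyUnramified B W ∧ Algebra.EssFiniteType B W := by
  classical
  let ψ : B ⊗[A] V' →ₐ[B] W :=
    Algebra.TensorProduct.lift (Algebra.ofId B W) ν (fun _ _ => Commute.all _ _)
  let q' : Ideal (B ⊗[A] V') := (maximalIdeal W).comap ψ.toRingHom
  haveI hq' : q'.IsPrime := Ideal.comap_isPrime _ _
  have hunits : ∀ y : q'.primeCompl, IsUnit (ψ y) := by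
    intro y
    by_contra hy
    exact y.2 hy
  let ψ' : Localization.AtPrime q' →ₐ[B] W := IsLocalization.liftAlgHom (M := q'.primeCompl) hunits
  haveI : Algebra.FormallyUnramified (B ⊗[A] V') (Localization.AtPrime q') :=
    Algebra.FormallyUnramified.of_isLocalization q'.primeCompl
  haveI : Algebra.FormallyUnramified B (Localization.AtPrime q') :=
    Algebra.FormallyUnramified.comp B (B ⊗[A] V') (Localization.AtPrime q')
  suffices hsurj : Function.Surjective ψ' from
    ⟨Algebra.FormallyUnramified.of_surjective ψ' hsurj, Algebra.EssFiniteType.of_surjective ψ' hsurj⟩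
  -- the image `D`
  let D := Localization.AtPrime q' ⧸ RingHom.ker ψ'.toRingHom
  haveI : (RingHom.ker ψ'.toRingHom).IsPrime := RingHom.ker_isPrime _
  let ψb : D →ₐ[B] W := Ideal.Quotient.liftₐ (RingHom.ker ψ'.toRingHom) ψ' (fun a ha => ha)
  have hψb : Function.Injective ψb := by
    rw [injective_iff_map_eq_zero]
    intro d hd
    obtain ⟨a, rfl⟩ := Ideal.Quotient.mk_surjective d
    exact Ideal.Quotient.eq_zero_iff_mem.2 hd
  haveI : IsLocalRing D := IsLocalRing.of_surjective' (Ideal.Quotient.mk _)
    Ideal.Quotient.mk_surjective
  have hψbB : ∀ b : B, ψb (algebraMap B D b) = algebraMap B W b := fun b => ψb.commutes b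
  haveI : IsLocalHom (algebraMap B D) := by
    constructor
    intro b hb
    have : IsUnit (algebraMap B W b) := by rw [← hψbB]; exact hb.map ψb
    exact isUnit_of_map_unit (algebraMap B W) b this
  haveI : IsNoetherianRing D := Algebra.EssFiniteType.isNoetherianRing B D
  have hmax : (maximalIdeal B).map (algebraMap B D) = maximalIdeal D :=
    Algebra.FormallyUnramified.map_maximalIdeal (R := B) (S := D)
  obtain ⟨ϖ, hϖ⟩ := IsDiscreteValuationRing.exists_irreducible B
  have hprin : (maximalIdeal D).IsPrincipal := by
    rw [← hmax, Irreducible.maximalIdeal_eq hϖ, Ideal.map_span, Set.image_singleton]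
    exact ⟨⟨_, rfl⟩⟩
  have hVR : ValuationRing D :=
    ((tfae_of_isNoetherianRing_of_isLocalRing_of_isDomain D).out 4 1).1 hprin
  -- `ψb` maps the maximal ideal into the maximal ideal
  have hloc : ∀ d ∈ maximalIdeal D, ψb d ∈ maximalIdeal W := by
    intro d hd
    rw [← hmax, Irreducible.maximalIdeal_eq hϖ, Ideal.map_span, Set.image_singleton] at hd
    obtain ⟨c, rfl⟩ := Ideal.mem_span_singleton'.1 hd
    rw [map_mul, hψbB]
    apply Ideal.mul_mem_left
    have hnu : ¬ IsUnit (algebraMap B W ϖ) := fun h =>
      hϖ.not_isUnit (isUnit_of_map_unit (algebraMap B W) ϖ h)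
    exact hnu
  intro x
  let S : Subring F := (W.subtype.comp ψb.toRingHom).range
  obtain ⟨d₁, ⟨a, rfl⟩, d₂, ⟨b, rfl⟩, hd₂, hx⟩ := hgen S
    (fun b => ⟨algebraMap B D b, by simp only [RingHom.comp_apply]; exact congrArg _ (hψbB b)⟩)
    (fun v => ⟨Ideal.Quotient.mk _ (algebraMap (B ⊗[A] V') (Localization.AtPrime q')
      ((1 : B) ⊗ₜ[A] v)), by
        simp only [RingHom.comp_apply]
        apply congrArg
        change ψ' (algebraMap (B ⊗[A] V') (Localization.AtPrime q') ((1 : B) ⊗ₜ[A] v)) = ν v
        rw [IsLocalization.liftAlgHom_apply, IsLocalization.lift_eq]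
        change ψ ((1 : B) ⊗ₜ[A] v) = ν v
        rw [Algebra.TensorProduct.lift_tmul, map_one, one_mul]⟩) (x : F)
  simp only [RingHom.comp_apply] at hx hd₂
  have hb0 : ψb b ≠ 0 := fun h => hd₂ (by
    change ((ψb b : W) : F) = 0
    rw [h]; rfl)
  have hsurjb : ∃ d : D, ψb d = x := by
    obtain ⟨c, hc | hc⟩ := hVR.cond' a b
    · -- a * c = b : x * ψb c = 1
      have h1 : x * ψb c = 1 := by
        apply Subtype.ext
        have hbc : ψb b = ψb a * ψb c := by rw [← map_mul, hc]
        have ha0 : ψb a ≠ 0 := fun h => hb0 (by rw [hbc, h, zero_mul])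
        have ha0' : ((ψb a : W) : F) ≠ 0 := fun h => ha0 (Subtype.ext h)
        change (x : F) * ((ψb c : W) : F) = 1
        rw [hx]
        change ((ψb a : W) : F) / ((ψb b : W) : F) * ((ψb c : W) : F) = 1
        rw [hbc]
        change ((ψb a : W) : F) / (((ψb a : W) : F) * ((ψb c : W) : F)) * ((ψb c : W) : F) = 1
        have hc0 : ((ψb c : W) : F) ≠ 0 := by
          intro h
          apply hb0
          rw [hbc]
          apply Subtype.ext
          change ((ψb a : W) : F) * ((ψb c : W) : F) = 0
          rw [h, mul_zero]
        field_simp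
      by_cases hcu : IsUnit c
      · obtain ⟨c', hc'⟩ := hcu.exists_right_inv
        refine ⟨c', ?_⟩
        have h2 : ψb c * ψb c' = 1 := by rw [← map_mul, hc', map_one]
        calc ψb c' = (x * ψb c) * ψb c' := by rw [h1, one_mul]
          _ = x * (ψb c * ψb c') := by ring
          _ = x := by rw [h2, mul_one]
      · exfalso
        have hcm : ψb c ∈ maximalIdeal W := hloc c hcu
        have : (1 : W) ∈ maximalIdeal W := by rw [← h1]; exact Ideal.mul_mem_left _ _ hcm
        exact (Ideal.ne_top_iff_one _).1 Ideal.IsPrime.ne_top' this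
    · -- b * c = a
      refine ⟨c, ?_⟩
      apply Subtype.ext
      have hbc : ψb a = ψb b * ψb c := by rw [← map_mul, hc]
      have hb0' : ((ψb b : W) : F) ≠ 0 := fun h => hb0 (Subtype.ext h)
      rw [hx]
      change ((ψb c : W) : F) = ((ψb a : W) : F) / ((ψb b : W) : F)
      rw [hbc]
      change ((ψb c : W) : F) = (((ψb b : W) : F) * ((ψb c : W) : F)) / ((ψb b : W) : F)
      field_simp
  obtain ⟨d, hd⟩ := hsurjb
  obtain ⟨t, rfl⟩ := Ideal.Quotient.mk_surjective d
  exact ⟨t, hd⟩

end Core

end Groth.Agent.Helper7.DomVal
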