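import Mathlib
import Groth.Prelude.Def_EtRam
import Groth.Agent.Helper7.DomValH

/-!
# DomValI: unramified extensions base change along an extension of DVRs
-/

set_option autoImplicit false
universe u

namespace Groth.Agent.Helper7.DomVal

open IsLocalRing TensorProduct

section BC

variable {A B K L K' : Type u} [CommRing A] [IsDomain A]
  [IsDiscreteValuationRing A] [CommRing B] [IsDomain B] [IsDiscreteValuationRing B] [Algebra A B]
  [IsLocalHom (algebraMap A B)]
  [Field K] [Field L] [Field K'] [Algebra A K] [IsFractionRing A K] [Algebra B L] [IsFractionRing B L]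
  [Algebra K L] [Algebra A L] [IsScalarTower A K L] [IsScalarTower A B L]
  [Algebra K K'] [FiniteDimensional K K'] [Algebra.IsSeparable K K']

/-- fractions of elements of a subring -/
def IsFrac {F : Type u} [Field F] (S : Subring F) (x : F) : Prop :=
  ∃ d₁ ∈ S, ∃ d₂ ∈ S, d₂ ≠ 0 ∧ x = d₁ / d₂

theorem isFrac_add {F : Type u} [Field F] (S : Subring F) {x y : F} (hx : IsFrac S x)
    (hy : IsFrac S y) : IsFrac S (x + y) := by
  obtain ⟨a, ha, b, hb, hb0, rfl⟩ := hx
  obtain ⟨c, hc, d, hd, hd0, rfl⟩ := hy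
  refine ⟨a * d + c * b, S.add_mem (S.mul_mem ha hd) (S.mul_mem hc hb), b * d, S.mul_mem hb hd,
    mul_ne_zero hb0 hd0, ?_⟩
  field_simp

theorem isFrac_mul {F : Type u} [Field F] (S : Subring F) {x y : F} (hx : IsFrac S x)
    (hy : IsFrac S y) : IsFrac S (x * y) := by
  obtain ⟨a, ha, b, hb, hb0, rfl⟩ := hx
  obtain ⟨c, hc, d, hd, hd0, rfl⟩ := hy
  refine ⟨a * c, S.mul_mem ha hc, b * d, S.mul_mem hb hd, mul_ne_zero hb0 hd0, ?_⟩
  field_simp

theorem isFrac_of_mem {F : Type u} [Field F] (S : Subring F) {x : F} (hx : x ∈ S) : IsFrac S x :=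
  ⟨x, hx, 1, S.one_mem, one_ne_zero, by simp⟩

theorem isFrac_inv {F : Type u} [Field F] (S : Subring F) {x : F} (hx : x ∈ S) (hx0 : x ≠ 0) :
    IsFrac S x⁻¹ :=
  ⟨1, S.one_mem, x, hx, hx0, by simp⟩

theorem unramified_baseChange
    (h : EtRam.IsUnramifiedExt A ((algebraMap K K').comp (algebraMap A K)))
    (F : Type u) [Field F] [Algebra (K' ⊗[K] L) F]
    (hF : Function.Surjective (algebraMap (K' ⊗[K] L) F)) :
    EtRam.IsUnramifiedExt B ((algebraMap (K' ⊗[K] L) F).comp
      ((Algebra.TensorProduct.includeRight : L →ₐ[K] K' ⊗[K] L).toRingHom.comp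
        (algebraMap B L))) := by
  intro W hW
  intro hlocBW
  letI algBW : Algebra B W := (RingHom.codRestrict _ W hW.1).toAlgebra
  -- the two field maps
  let φ' : K' →+* F := (algebraMap (K' ⊗[K] L) F).comp
    (Algebra.TensorProduct.includeLeft : K' →ₐ[K] K' ⊗[K] L).toRingHom
  let lam : L →+* F := (algebraMap (K' ⊗[K] L) F).comp
    (Algebra.TensorProduct.includeRight : L →ₐ[K] K' ⊗[K] L).toRingHom
  have hcompatK : ∀ k : K, φ' (algebraMap K K' k) = lam (algebraMap K L k) := by
    intro k
    change algebraMap (K' ⊗[K] L) F ((algebraMap K K' k) ⊗ₜ 1) =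
      algebraMap (K' ⊗[K] L) F (1 ⊗ₜ (algebraMap K L k))
    congr 1
    rw [Algebra.algebraMap_eq_smul_one, Algebra.algebraMap_eq_smul_one, smul_tmul]
  have hcompat : ∀ a : A, φ' (algebraMap K K' (algebraMap A K a)) =
      lam (algebraMap B L (algebraMap A B a)) := by
    intro a
    rw [hcompatK, ← IsScalarTower.algebraMap_apply A K L, IsScalarTower.algebraMap_apply A B L]
  -- `V' = W ∩ K'` dominates `A`
  have hV' : EtRam.Dominates A ((algebraMap K K').comp (algebraMap A K)) (W.comap φ') := by
    refine ⟨fun a => ?_, fun a ha => ?_⟩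
    · rw [ValuationSubring.mem_comap]
      change φ' (algebraMap K K' (algebraMap A K a)) ∈ W
      rw [hcompat]
      exact hW.1 (algebraMap A B a)
    · rw [valuation_comap_lt_one_iff]
      change W.valuation (φ' (algebraMap K K' (algebraMap A K a))) < 1
      rw [hcompat]
      refine hW.2 (algebraMap A B a) ?_
      have hl : IsLocalHom (algebraMap A B) := inferInstance
      have hle : maximalIdeal A ≤ (maximalIdeal B).comap (algebraMap A B) :=
        ((local_hom_TFAE (algebraMap A B)).out 0 3).1 hl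
      exact hle ha
  letI algAV : Algebra A (W.comap φ') := (RingHom.codRestrict _ (W.comap φ') hV'.1).toAlgebra
  haveI hlocAV : IsLocalHom (algebraMap A (W.comap φ')) := isLocalHom_codRestrict _ _ hV'
  letI algAK' : Algebra A K' := ((algebraMap K K').comp (algebraMap A K)).toAlgebra
  haveI : IsScalarTower A K K' := IsScalarTower.of_algebraMap_eq' rfl
  haveI : IsScalarTower A (W.comap φ') K' := IsScalarTower.of_algebraMap_eq' rfl
  haveI hess : Algebra.EssFiniteType A (W.comap φ') :=
    essFiniteType_of_dominates (K := K) (W.comap φ') hV'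
  have hunr : UnramAt A (W.comap φ') := h _ hV'
  haveI hfu : Algebra.FormallyUnramified A (W.comap φ') :=
    unramAt_iff_formallyUnramified.1 hunr
  -- apply the core lemma
  letI algAW : Algebra A W := ((algebraMap B W).comp (algebraMap A B)).toAlgebra
  haveI : IsScalarTower A B W := IsScalarTower.of_algebraMap_eq' rfl
  let ν : (W.comap φ') →ₐ[A] W :=
    { EtRam.inclOfComap W φ' with
      commutes' := fun a => Subtype.ext (hcompat a) }
  have hinj : Function.Injective (algebraMap B W) := by
    intro x y hxy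
    have h1 := congrArg Subtype.val hxy
    exact IsFractionRing.injective B L (lam.injective h1)
  have hgen : ∀ S : Subring F, (∀ b : B, ((algebraMap B W b : W) : F) ∈ S) →
      (∀ v : W.comap φ', ((ν v : W) : F) ∈ S) → ∀ x : F, IsFrac S x := by
    intro S hSB hSV x
    obtain ⟨t, rfl⟩ := hF x
    have hφ : ∀ k' : K', IsFrac S (φ' k') := by
      intro k'
      rcases (W.comap φ').mem_or_inv_mem k' with hk | hk
      · exact isFrac_of_mem S (hSV ⟨k', hk⟩)
      · by_cases hk0 : k' = 0
        · rw [hk0, map_zero]; exact isFrac_of_mem S S.zero_mem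
        · have := isFrac_inv S (hSV ⟨k'⁻¹, hk⟩) (by
            change φ' k'⁻¹ ≠ 0
            rw [map_ne_zero]; exact inv_ne_zero hk0)
          have h2 : ((ν ⟨k'⁻¹, hk⟩ : W) : F)⁻¹ = φ' k' := by
            change (φ' k'⁻¹)⁻¹ = φ' k'
            rw [map_inv₀, inv_inv]
          rwa [h2] at this
    have hlam : ∀ l : L, IsFrac S (lam l) := by
      intro l
      obtain ⟨b₁, b₂, hb₂, rfl⟩ := IsFractionRing.div_surjective (A := B) l
      rw [map_div₀]
      refine ⟨_, hSB b₁, _, hSB b₂, ?_, rfl⟩
      change lam (algebraMap B L b₂) ≠ 0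
      rw [map_ne_zero]
      exact IsFractionRing.to_map_ne_zero_of_mem_nonZeroDivisors hb₂
    induction t using TensorProduct.induction_on with
    | zero => rw [map_zero]; exact isFrac_of_mem S S.zero_mem
    | add x y hx hy => rw [map_add]; exact isFrac_add S hx hy
    | tmul k' l =>
      have : (k' ⊗ₜ[K] l : K' ⊗[K] L) = (k' ⊗ₜ[K] 1) * (1 ⊗ₜ[K] l) := by
        rw [Algebra.TensorProduct.tmul_mul_tmul, mul_one, one_mul]
      rw [this, map_mul]
      exact isFrac_mul S (hφ k') (hlam l)
  obtain ⟨hfuW, hessW⟩ := formallyUnramified_of_baseChange W ν hinj hgen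
  exact unramAt_iff_formallyUnramified.2 hfuW

end BC

end Groth.Agent.Helper7.DomVal
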