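import Mathlib

namespace Groth.Agent.Helper7.DualAut

open TrivSqZeroExt

universe u v

variable (k : Type u) [Field k] (A : Type u) [CommRing A] [Algebra k A]

/-- the algebra endomorphism `x ↦ (x₀, x₁ + D x₀)` of `A[ε]` -/
noncomputable def phiHom (D : Derivation k A A) : DualNumber A →ₐ[k] DualNumber A where
  toFun x := inl x.fst + inr (x.snd + D x.fst)
  map_one' := by
    apply TrivSqZeroExt.ext <;> simp
  map_mul' x y := by
    apply TrivSqZeroExt.ext
    · simp
    · simp only [snd_add, snd_inl, snd_inr, zero_add, DualNumber.snd_mul, fst_mul, fst_add, fst_inl,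
        fst_inr, add_zero, Derivation.leibniz, smul_eq_mul]
      ring
  map_zero' := by
    apply TrivSqZeroExt.ext <;> simp
  map_add' x y := by
    apply TrivSqZeroExt.ext
    · simp
    · simp only [snd_add, snd_inl, snd_inr, zero_add, fst_add, map_add]
      abel
  commutes' c := by
    rw [TrivSqZeroExt.algebraMap_eq_inl']
    apply TrivSqZeroExt.ext
    · simp
    · simp

theorem phiHom_fst (D : Derivation k A A) (x : DualNumber A) : (phiHom k A D x).fst = x.fst := by
  simp [phiHom]

theorem phiHom_snd (D : Derivation k A A) (x : DualNumber A) :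
    (phiHom k A D x).snd = x.snd + D x.fst := by
  simp [phiHom]

/-- the automorphism attached to a derivation -/
noncomputable def phi (D : Derivation k A A) : DualNumber A ≃ₐ[k] DualNumber A :=
  AlgEquiv.ofAlgHom (phiHom k A D) (phiHom k A (-D))
    (by
      apply AlgHom.ext
      intro x
      apply TrivSqZeroExt.ext
      · simp [phiHom_fst]
      · simp [phiHom_fst, phiHom_snd])
    (by
      apply AlgHom.ext
      intro x
      apply TrivSqZeroExt.ext
      · simp [phiHom_fst]
      · simp [phiHom_fst, phiHom_snd])

theorem phi_apply (D : Derivation k A A) (x : DualNumber A) : phi k A D x = phiHom k A D x := rfl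

variable {k A}

theorem map_inr_of (φ : DualNumber A ≃ₐ[k] DualNumber A)
    (h1 : φ DualNumber.eps = DualNumber.eps) (h2 : ∀ x, (φ x).fst = x.fst) (b : A) :
    φ (inr b) = inr b := by
  have : (inr b : DualNumber A) = inl b * DualNumber.eps := by
    apply TrivSqZeroExt.ext <;> simp [DualNumber.snd_mul]
  rw [this, map_mul, h1]
  apply TrivSqZeroExt.ext
  · simp [h2]
  · simp [DualNumber.snd_mul, h2]

/-- the derivation attached to an automorphism -/
noncomputable def der (φ : DualNumber A ≃ₐ[k] DualNumber A) (h2 : ∀ x, (φ x).fst = x.fst) :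
    Derivation k A A :=
  Derivation.mk'
    { toFun := fun a => (φ (inl a)).snd
      map_add' := by
        intro a b
        rw [inl_add, map_add, snd_add]
      map_smul' := by
        intro c a
        rw [RingHom.id_apply, inl_smul, map_smul, snd_smul] }
    (by
      intro a b
      change (φ (inl (a * b))).snd = a • (φ (inl b)).snd + b • (φ (inl a)).snd
      rw [inl_mul, map_mul, DualNumber.snd_mul, h2, h2, fst_inl, fst_inl, smul_eq_mul, smul_eq_mul]
      ring)

theorem der_apply (φ : DualNumber A ≃ₐ[k] DualNumber A) (h2 : ∀ x, (φ x).fst = x.fst) (a : A) :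
    der φ h2 a = (φ (inl a)).snd := rfl

theorem main {ι : Type v} (q : ι → (A →ₐ[k] k)) :
    ∃ e : {φ : DualNumber A ≃ₐ[k] DualNumber A //
            φ DualNumber.eps = DualNumber.eps ∧ (∀ x, (φ x).fst = x.fst) ∧
              ∀ i x, q i (φ x).snd = q i x.snd} ≃
          {D : Derivation k A A // ∀ i a, q i (D a) = 0},
      ∀ φ (a : A), (e φ).1 a = (φ.1 (inl a : DualNumber A)).snd := by
  refine ⟨
    { toFun := fun φ => ⟨der φ.1 φ.2.2.1, fun i a => by
        rw [der_apply, φ.2.2.2 i (inl a), snd_inl, map_zero]⟩
      invFun := fun D => ⟨phi k A D.1, by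
        rw [phi_apply]
        apply TrivSqZeroExt.ext
        · simp [phiHom_fst]
        · simp [phiHom_snd], fun x => phiHom_fst k A D.1 x, fun i x => by
        rw [phi_apply, phiHom_snd, map_add, D.2 i, add_zero]⟩
      left_inv := ?_
      right_inv := ?_ }, fun φ a => rfl⟩
  · rintro ⟨φ, h1, h2, h3⟩
    apply Subtype.ext
    apply AlgEquiv.ext
    intro x
    change phiHom k A (der φ h2) x = φ x
    have hx : x = inl x.fst + inr x.snd := by
      apply TrivSqZeroExt.ext <;> simp
    conv_rhs => rw [hx, map_add, map_inr_of φ h1 h2]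
    apply TrivSqZeroExt.ext
    · rw [phiHom_fst, fst_add, h2, fst_inl, fst_inr, add_zero]
    · rw [phiHom_snd, snd_add, snd_inr, der_apply, add_comm]
  · rintro ⟨D, hD⟩
    apply Subtype.ext
    ext a
    change (phiHom k A D (inl a)).snd = D a
    rw [phiHom_snd, snd_inl, fst_inl, zero_add]

end Groth.Agent.Helper7.DualAut
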