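import Mathlib
import Groth.Agent.Helper2.NilpCrit

set_option linter.style.haveILetI false
set_option linter.unusedSectionVars false
set_option autoImplicit false

universe u

namespace Groth.Agent.Helper7.DualFlat

open TensorProduct DualNumber TrivSqZeroExt

/-- flatness transfers along a bijective ring map -/
theorem flat_of_bijective (A Q N : Type*) [CommRing A] [CommRing Q] [Algebra A Q]
    (hbij : Function.Bijective (algebraMap A Q)) [AddCommGroup N] [Module A N] [Module Q N]
    [IsScalarTower A Q N] [Module.Flat A N] : Module.Flat Q N := by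
  let e : A ≃+* Q := RingEquiv.ofBijective (algebraMap A Q) hbij
  letI : Algebra Q A := e.symm.toRingHom.toAlgebra
  have halg : ∀ q : Q, algebraMap Q A q = e.symm q := fun _ => rfl
  haveI : IsScalarTower Q A N := by
    refine ⟨fun q a n => ?_⟩
    rw [Algebra.smul_def, halg, mul_smul]
    have : (e.symm q) • (a • n) = (algebraMap A Q (e.symm q)) • (a • n) :=
      (algebraMap_smul Q (e.symm q) (a • n)).symm
    rw [this]
    congr 1
    exact e.apply_symm_apply q
  haveI : Module.Flat Q A := by
    let l : Q ≃ₗ[Q] A :=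
      { e.symm with
        map_smul' := fun q q' => by
          change e.symm (q * q') = q • e.symm q'
          rw [Algebra.smul_def, halg, map_mul] }
    exact Module.Flat.of_linearEquiv l.symm
  exact Module.Flat.trans Q A N

section dual

variable (A : Type u) [CommRing A]

/-- the ideal `(ε)` of the dual numbers -/
noncomputable def epsIdeal : Ideal (DualNumber A) := Ideal.span {(ε : DualNumber A)}

theorem eps_mul' (s : DualNumber A) : (ε : DualNumber A) * s = inr s.fst := by
  apply TrivSqZeroExt.ext <;> simp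

theorem sub_inl_fst (s : DualNumber A) : s - inl s.fst = (ε : DualNumber A) * inl s.snd := by
  apply TrivSqZeroExt.ext <;> simp

theorem mem_epsIdeal_iff (s : DualNumber A) : s ∈ epsIdeal A ↔ s.fst = 0 := by
  unfold epsIdeal
  rw [Ideal.mem_span_singleton']
  constructor
  · rintro ⟨t, rfl⟩
    simp
  · intro h
    refine ⟨inl s.snd, ?_⟩
    rw [mul_comm, ← sub_inl_fst, h, inl_zero, sub_zero]

theorem epsIdeal_sq : epsIdeal A ^ 2 = ⊥ := by
  unfold epsIdeal
  rw [Ideal.span_singleton_pow, pow_two, eps_mul_eps, Ideal.span_singleton_eq_bot]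

/-- the quotient `A[ε]/(ε)` -/
abbrev Qd : Type u := DualNumber A ⧸ epsIdeal A

theorem algebraMap_quot_apply (a : A) :
    (algebraMap A (Qd A) : A →+* Qd A) a = Ideal.Quotient.mk (epsIdeal A) (inl a) := rfl

theorem bijective_algebraMap_quot :
    Function.Bijective (algebraMap A (Qd A) : A →+* Qd A) := by
  constructor
  · rw [injective_iff_map_eq_zero]
    intro a ha
    rw [algebraMap_quot_apply, Ideal.Quotient.eq_zero_iff_mem, mem_epsIdeal_iff] at ha
    simpa using ha
  · intro q
    obtain ⟨s, rfl⟩ := Ideal.Quotient.mk_surjective q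
    refine ⟨s.fst, ?_⟩
    rw [algebraMap_quot_apply, eq_comm, Ideal.Quotient.eq, mem_epsIdeal_iff]
    simp

end dual

section crit

variable (A : Type u) [CommRing A] (M : Type u) [AddCommGroup M] [Module (DualNumber A) M]

theorem rTensor_injective_of_eq_top (K : Ideal (DualNumber A)) (hK : K = ⊤) :
    Function.Injective (LinearMap.rTensor M K.subtype) := by
  subst hK
  have : LinearMap.rTensor M (⊤ : Ideal (DualNumber A)).subtype =
      (LinearEquiv.rTensor M (Submodule.topEquiv : _ ≃ₗ[DualNumber A] DualNumber A)).toLinearMap := by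
    ext x m
    rfl
  rw [this]
  exact LinearEquiv.injective _

theorem rTensor_injective_of_eq_bot (K : Ideal (DualNumber A)) (hK : K = ⊥) :
    Function.Injective (LinearMap.rTensor M K.subtype) := by
  subst hK
  have hz : ∀ z : (⊥ : Ideal (DualNumber A)) ⊗[DualNumber A] M, z = 0 := by
    intro z
    induction z using TensorProduct.induction_on with
    | zero => rfl
    | tmul x m =>
      have : x = 0 := Subsingleton.elim _ _
      rw [this, zero_tmul]
    | add x y hx hy => rw [hx, hy, add_zero]
  intro z z' _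
  rw [hz z, hz z']

/-- the generator of `(ε)` as an element of the ideal -/
noncomputable def epsElt : epsIdeal A := ⟨ε, Ideal.subset_span rfl⟩

theorem exists_eps_tmul (z : epsIdeal A ⊗[DualNumber A] M) : ∃ m : M, z = epsElt A ⊗ₜ m := by
  induction z using TensorProduct.induction_on with
  | zero => exact ⟨0, (tmul_zero _ _).symm⟩
  | tmul x m =>
    obtain ⟨x, hx⟩ := x
    obtain ⟨t, rfl⟩ := Ideal.mem_span_singleton'.mp hx
    refine ⟨t • m, ?_⟩
    rw [← smul_tmul]
    congr 1
  | add x y hx hy =>
    obtain ⟨m, rfl⟩ := hx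
    obtain ⟨m', rfl⟩ := hy
    exact ⟨m + m', (tmul_add _ _ _).symm⟩

theorem rTensor_injective_eps
    (ha : ∀ m : M, (ε : DualNumber A) • m = 0 → ∃ m', m = (ε : DualNumber A) • m')
    (K : Ideal (DualNumber A)) (hK : K = epsIdeal A) :
    Function.Injective (LinearMap.rTensor M K.subtype) := by
  subst hK
  rw [injective_iff_map_eq_zero]
  intro z hz
  obtain ⟨m, rfl⟩ := exists_eps_tmul A M z
  rw [LinearMap.rTensor_tmul] at hz
  have h1 := congrArg (TensorProduct.lid (DualNumber A) M) hz
  rw [TensorProduct.lid_tmul, map_zero] at h1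
  obtain ⟨m', rfl⟩ := ha m h1
  rw [← smul_tmul]
  have : (ε : DualNumber A) • epsElt A = 0 := by
    apply Subtype.ext
    change (ε : DualNumber A) * ε = 0
    exact eps_mul_eps
  rw [this, zero_tmul]

variable [Module A M] [IsScalarTower A (DualNumber A) M]
  (N : Type u) [AddCommGroup N] [Module A N] [Module.Flat A N]
  (π : M →ₗ[A] N) (hπ : Function.Surjective π)
  (hk : ∀ m, π m = 0 ↔ ∃ m', m = (ε : DualNumber A) • m')
  (ha : ∀ m : M, (ε : DualNumber A) • m = 0 → ∃ m', m = (ε : DualNumber A) • m')

include hπ hk in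
theorem flat_quot_tensor : Module.Flat (Qd A) (Qd A ⊗[DualNumber A] M) := by
  haveI : Module.Flat A (Qd A ⊗[DualNumber A] M) := by
    let ψ₀ : M →ₗ[A] Qd A ⊗[DualNumber A] M :=
      (TensorProduct.mk (DualNumber A) (Qd A) M 1).restrictScalars A
    have hψ₀ : ∀ m, ψ₀ m = (1 : Qd A) ⊗ₜ[DualNumber A] m := fun _ => rfl
    have hle : LinearMap.ker π ≤ LinearMap.ker ψ₀ := by
      intro m hm
      rw [LinearMap.mem_ker] at hm ⊢
      obtain ⟨m', rfl⟩ := (hk m).mp hm
      rw [hψ₀, ← smul_tmul]
      have : (ε : DualNumber A) • (1 : Qd A) = 0 := by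
        change Ideal.Quotient.mk (epsIdeal A) ((ε : DualNumber A) • (1 : DualNumber A)) = 0
        rw [smul_eq_mul, mul_one, Ideal.Quotient.eq_zero_iff_mem]
        exact Ideal.subset_span rfl
      rw [this, zero_tmul]
    let ψ : N →ₗ[A] Qd A ⊗[DualNumber A] M :=
      ((LinearMap.ker π).liftQ ψ₀ hle).comp (π.quotKerEquivOfSurjective hπ).symm.toLinearMap
    have hψ : ∀ m, ψ (π m) = (1 : Qd A) ⊗ₜ[DualNumber A] m := by
      intro m
      have : (π.quotKerEquivOfSurjective hπ).symm (π m) = Submodule.Quotient.mk m := by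
        rw [LinearEquiv.symm_apply_eq]
        rfl
      change (LinearMap.ker π).liftQ ψ₀ hle ((π.quotKerEquivOfSurjective hπ).symm (π m)) = _
      rw [this, Submodule.liftQ_apply]
      exact hψ₀ m
    have hsurj : Function.Surjective ψ := by
      intro z
      induction z using TensorProduct.induction_on with
      | zero => exact ⟨0, map_zero _⟩
      | tmul q m =>
        obtain ⟨s, rfl⟩ := Ideal.Quotient.mk_surjective q
        refine ⟨π (s • m), ?_⟩
        rw [hψ, ← smul_tmul]
        congr 1
        change Ideal.Quotient.mk (epsIdeal A) (s • (1 : DualNumber A)) = _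
        rw [smul_eq_mul, mul_one]
      | add x y hx hy =>
        obtain ⟨n, rfl⟩ := hx
        obtain ⟨n', rfl⟩ := hy
        exact ⟨n + n', map_add _ _ _⟩
    have hinj : Function.Injective ψ := by
      rw [injective_iff_map_eq_zero]
      intro n hn
      obtain ⟨m, rfl⟩ := hπ n
      rw [hψ] at hn
      have h1 := congrArg (TensorProduct.quotTensorEquivQuotSMul M (epsIdeal A)) hn
      rw [map_zero] at h1
      have h2 : TensorProduct.quotTensorEquivQuotSMul M (epsIdeal A)
          ((1 : Qd A) ⊗ₜ[DualNumber A] m) = Submodule.Quotient.mk m := by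
        have := TensorProduct.quotTensorEquivQuotSMul_mk_tmul (epsIdeal A) (1 : DualNumber A) m
        rw [one_smul] at this
        exact this
      rw [h2, Submodule.Quotient.mk_eq_zero] at h1
      unfold epsIdeal at h1
      rw [Submodule.ideal_span_singleton_smul] at h1
      obtain ⟨m', -, rfl⟩ := h1
      exact (hk _).mpr ⟨m', rfl⟩
    exact Module.Flat.of_linearEquiv (LinearEquiv.ofBijective ψ ⟨hinj, hsurj⟩).symm
  exact flat_of_bijective A (Qd A) _ (bijective_algebraMap_quot A)

include hπ hk ha in
theorem flat_of_dual : Module.Flat (DualNumber A) M := by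
  haveI := flat_quot_tensor A M N π hπ hk
  refine Groth.Agent.Helper2.NilpCrit.flat_of_nilpotent (epsIdeal A) ⟨2, epsIdeal_sq A⟩ ?_
  intro j
  rcases j with _ | _ | j
  · exact rTensor_injective_of_eq_top A M _ (by rw [pow_zero, Ideal.one_eq_top])
  · exact rTensor_injective_eps A M ha _ (by rw [zero_add, pow_one])
  · refine rTensor_injective_of_eq_bot A M _ ?_
    have : j + 1 + 1 = j + 2 := rfl
    rw [this, pow_add, epsIdeal_sq, Ideal.mul_bot]

end crit

section conv

variable (A : Type u) [CommRing A] (M : Type u) [AddCommGroup M] [Module (DualNumber A) M]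

theorem exists_eps_smul_of_flat [Module.Flat (DualNumber A) M] (m : M)
    (h : (ε : DualNumber A) • m = 0) : ∃ m', m = (ε : DualNumber A) • m' := by
  have hrel : ∑ i : Fin 1, (fun _ : Fin 1 => (ε : DualNumber A)) i • (fun _ : Fin 1 => m) i = 0 := by
    simpa using h
  obtain ⟨k, a, y, h1, h2⟩ := Module.Flat.isTrivialRelation_of_sum_smul_eq_zero hrel
  have h1' : m = ∑ j, a 0 j • y j := h1 0
  have h2' : ∀ j, (ε : DualNumber A) * a 0 j = 0 := by
    intro j
    simpa using h2 j
  have h3 : ∀ j, a 0 j = (ε : DualNumber A) * inl (a 0 j).snd := by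
    intro j
    have := h2' j
    rw [eps_mul'] at this
    have hfst : (a 0 j).fst = 0 := by
      have := congrArg TrivSqZeroExt.snd this
      simpa using this
    rw [← sub_inl_fst, hfst, inl_zero, sub_zero]
  refine ⟨∑ j, (inl (a 0 j).snd : DualNumber A) • y j, ?_⟩
  rw [h1', Finset.smul_sum]
  refine Finset.sum_congr rfl fun j _ => ?_
  rw [smul_smul, ← h3 j]

end conv

end Groth.Agent.Helper7.DualFlat
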