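import Mathlib

namespace Groth.Agent.Helper7.DualFree

open DualNumber Pointwise TrivSqZeroExt

universe u v

variable (R : Type u) [CommRing R] (M : Type v)
  [AddCommGroup M] [Module R[ε] M] [Module R M] [IsScalarTower R R[ε] M]

/-- `εM` -/
abbrev E : Submodule R[ε] M := (ε : R[ε]) • (⊤ : Submodule R[ε] M)

variable {R M}

theorem mem_E (m : M) : m ∈ E R M ↔ ∃ m' : M, (ε : R[ε]) • m' = m := by
  rw [Submodule.mem_smul_pointwise_iff_exists]
  constructor
  · rintro ⟨s, -, h⟩; exact ⟨s, h⟩
  · rintro ⟨s, h⟩; exact ⟨s, trivial, h⟩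

theorem smul_eq_inl_smul (x : R) (m : M) : x • m = (inl x : R[ε]) • m := by
  rw [← TrivSqZeroExt.algebraMap_eq_inl, algebraMap_smul]

theorem eps_eps_smul (m : M) : (ε : R[ε]) • (ε : R[ε]) • m = 0 := by
  rw [← mul_smul, DualNumber.eps_mul_eps, zero_smul]

theorem decomp (a : R[ε]) : a = inl a.fst + inl a.snd * ε := by
  apply TrivSqZeroExt.ext <;> simp

theorem smul_decomp (a : R[ε]) (m : M) : a • m = a.fst • m + a.snd • ((ε : R[ε]) • m) := by
  conv_lhs => rw [decomp a, add_smul, mul_smul]
  rw [smul_eq_inl_smul (R := R) a.fst m, smul_eq_inl_smul (R := R) a.snd ((ε : R[ε]) • m)]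

theorem eps_smul_comm (x : R) (m : M) : (ε : R[ε]) • (x • m) = x • ((ε : R[ε]) • m) := by
  rw [smul_eq_inl_smul (R := R) x m, smul_eq_inl_smul (R := R) x ((ε : R[ε]) • m), ← mul_smul,
    ← mul_smul, mul_comm]

theorem eps_smul_mem (m : M) : (ε : R[ε]) • m ∈ E R M := (mem_E _).mpr ⟨m, rfl⟩

theorem equivFun_sum {r : ℕ} (b : Module.Basis (Fin r) R[ε] M) (c : Fin r → R[ε]) :
    b.equivFun (∑ j, c j • b j) = c := by
  rw [← b.equivFun_symm_apply]
  exact b.equivFun.apply_symm_apply c

theorem forward {r : ℕ} (b : Module.Basis (Fin r) R[ε] M) :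
    Nonempty (Module.Basis (Fin r) R (M ⧸ E R M)) ∧
      Nonempty (Module.Basis (Fin r) R ((E R M).restrictScalars R)) := by
  classical
  constructor
  · have hli : LinearIndependent R (fun i => (Submodule.Quotient.mk (b i) : M ⧸ E R M)) := by
      rw [Fintype.linearIndependent_iff]
      intro g hg i
      have h1 : (Submodule.Quotient.mk (∑ j, g j • b j) : M ⧸ E R M) = 0 := by
        rw [← hg, ← Submodule.mkQ_apply, map_sum]
        rfl
      rw [Submodule.Quotient.mk_eq_zero, mem_E] at h1
      obtain ⟨m', hm'⟩ := h1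
      have h2 : b.equivFun ((ε : R[ε]) • m') i = inl (g i) := by
        rw [hm']
        have : ∑ j, g j • b j = ∑ j, (inl (g j) : R[ε]) • b j :=
          Finset.sum_congr rfl fun j _ => smul_eq_inl_smul (g j) (b j)
        rw [this, equivFun_sum]
      rw [map_smul, Pi.smul_apply, smul_eq_mul] at h2
      have h3 := congrArg TrivSqZeroExt.fst h2
      simpa using h3.symm
    have hsp : ⊤ ≤ Submodule.span R (Set.range fun i => (Submodule.Quotient.mk (b i) : M ⧸ E R M)) := by
      rintro q -
      obtain ⟨m, rfl⟩ := Submodule.Quotient.mk_surjective _ q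
      have hm : m = ∑ i, (b.equivFun m i) • b i := (b.sum_equivFun m).symm
      have h1 : (Submodule.Quotient.mk m : M ⧸ E R M) =
          ∑ i, (b.equivFun m i).fst • (Submodule.Quotient.mk (b i) : M ⧸ E R M) := by
        conv_lhs => rw [hm]
        rw [← Submodule.mkQ_apply, map_sum]
        apply Finset.sum_congr rfl
        intro i _
        rw [smul_decomp, map_add, Submodule.mkQ_apply, Submodule.mkQ_apply,
          Submodule.Quotient.mk_smul, Submodule.Quotient.mk_smul,
          (Submodule.Quotient.mk_eq_zero (E R M)).mpr (eps_smul_mem (R := R) (b i)), smul_zero, add_zero]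
      rw [h1]
      exact Submodule.sum_mem _ fun i _ =>
        Submodule.smul_mem _ _ (Submodule.subset_span ⟨i, rfl⟩)
    exact ⟨Module.Basis.mk hli hsp⟩
  · let eb : Fin r → ((E R M).restrictScalars R) := fun i => ⟨(ε : R[ε]) • b i, eps_smul_mem (b i)⟩
    have hli : LinearIndependent R eb := by
      rw [Fintype.linearIndependent_iff]
      intro g hg i
      have h1 : ∑ j, g j • ((ε : R[ε]) • b j) = 0 := by
        have := congrArg (Subtype.val) hg
        simpa [eb] using this
      have h2 : ∑ j, g j • ((ε : R[ε]) • b j) = ∑ j, ((inl (g j) : R[ε]) * ε) • b j :=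
        Finset.sum_congr rfl fun j _ => by rw [mul_smul, smul_eq_inl_smul]
      rw [h2] at h1
      have h3 := congrFun (equivFun_sum b (fun j => (inl (g j) : R[ε]) * ε)) i
      rw [h1, map_zero, Pi.zero_apply] at h3
      have h4 := congrArg TrivSqZeroExt.snd h3
      simpa using h4.symm
    have hsp : ⊤ ≤ Submodule.span R (Set.range eb) := by
      rintro ⟨m, hm⟩ -
      obtain ⟨m', rfl⟩ := (mem_E m).mp hm
      have hm' : m' = ∑ i, (b.equivFun m' i) • b i := (b.sum_equivFun m').symm
      have h1 : (⟨(ε : R[ε]) • m', hm⟩ : (E R M).restrictScalars R) =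
          ∑ i, (b.equivFun m' i).fst • eb i := by
        apply Subtype.ext
        rw [Submodule.coe_sum]
        simp only [Submodule.coe_smul, eb]
        conv_lhs => rw [hm', Finset.smul_sum]
        apply Finset.sum_congr rfl
        intro i _
        rw [smul_eq_inl_smul (R := R) _ ((ε : R[ε]) • b i), ← mul_smul, ← mul_smul]
        congr 1
        apply TrivSqZeroExt.ext <;> simp
      rw [h1]
      exact Submodule.sum_mem _ fun i _ =>
        Submodule.smul_mem _ _ (Submodule.subset_span ⟨i, rfl⟩)
    exact ⟨Module.Basis.mk hli hsp⟩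

/-- multiplication by `ε`, as an `R`-linear map `M → εM` -/
def mu0 : M →ₗ[R] ((E R M).restrictScalars R) where
  toFun m := ⟨(ε : R[ε]) • m, eps_smul_mem m⟩
  map_add' m m' := Subtype.ext (smul_add _ _ _)
  map_smul' x m := Subtype.ext (eps_smul_comm x m)

/-- multiplication by `ε`, as an `R`-linear map `M/εM → εM` -/
noncomputable def mu : (M ⧸ E R M) →ₗ[R] ((E R M).restrictScalars R) :=
  (Submodule.liftQ ((E R M).restrictScalars R) mu0 (by
    intro m hm
    obtain ⟨m', rfl⟩ := (mem_E m).mp hm
    rw [LinearMap.mem_ker]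
    exact Subtype.ext (eps_eps_smul m'))) ∘ₗ
    (Submodule.Quotient.restrictScalarsEquiv R (E R M)).symm.toLinearMap

theorem mu_mk (m : M) : mu (Submodule.Quotient.mk m : M ⧸ E R M) = mu0 (R := R) m := rfl

theorem mu_surjective : Function.Surjective (mu (R := R) (M := M)) := by
  rintro ⟨m, hm⟩
  obtain ⟨m', rfl⟩ := (mem_E m).mp hm
  exact ⟨Submodule.Quotient.mk m', rfl⟩

theorem backward {r : ℕ} (bQ : Module.Basis (Fin r) R (M ⧸ E R M))
    (bE : Module.Basis (Fin r) R ((E R M).restrictScalars R)) :
    Nonempty (Module.Basis (Fin r) R[ε] M) := by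
  classical
  have hinj : Function.Injective (mu (R := R) (M := M)) := by
    have h1 : Function.Surjective
        (bE.equivFun.toLinearMap ∘ₗ mu ∘ₗ bQ.equivFun.symm.toLinearMap) :=
      bE.equivFun.surjective.comp (mu_surjective.comp bQ.equivFun.symm.surjective)
    have h2 := OrzechProperty.injective_of_surjective_endomorphism _ h1
    have h3 : Function.Injective (⇑bE.equivFun ∘ (⇑(mu (R := R) (M := M)) ∘ ⇑bQ.equivFun.symm)) := h2
    have h4 := Function.Injective.of_comp h3
    intro a a' haa
    have := h4 (a₁ := bQ.equivFun a) (a₂ := bQ.equivFun a') (by simpa using haa)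
    exact bQ.equivFun.injective this
  choose e he using fun i => Submodule.Quotient.mk_surjective (E R M) (bQ i)
  have hmk : ∀ (a : R[ε]) (i : Fin r),
      (Submodule.Quotient.mk (a • e i) : M ⧸ E R M) = a.fst • bQ i := by
    intro a i
    rw [smul_decomp, Submodule.Quotient.mk_add, Submodule.Quotient.mk_smul,
      Submodule.Quotient.mk_smul,
      (Submodule.Quotient.mk_eq_zero (E R M)).mpr (eps_smul_mem (R := R) (e i)), smul_zero,
      add_zero, he]
  have hli : LinearIndependent R[ε] e := by
    rw [Fintype.linearIndependent_iff]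
    intro g hg
    have h1 : ∑ i, (g i).fst • bQ i = 0 := by
      have := congrArg (fun m => (Submodule.Quotient.mk m : M ⧸ E R M)) hg
      beta_reduce at this
      rw [← Submodule.mkQ_apply, map_sum, Submodule.Quotient.mk_zero] at this
      rw [← this]
      exact Finset.sum_congr rfl fun i _ => (hmk (g i) i).symm
    have hfst : ∀ i, (g i).fst = 0 := Fintype.linearIndependent_iff.mp bQ.linearIndependent _ h1
    have h2 : mu (R := R) (∑ i, (g i).snd • bQ i) = 0 := by
      apply Subtype.ext
      rw [map_sum, Submodule.coe_sum, Submodule.coe_zero, ← hg]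
      apply Finset.sum_congr rfl
      intro i _
      rw [map_smul, ← he i, mu_mk, smul_decomp (g i) (e i), hfst i, zero_smul, zero_add]
      rfl
    have h3 : ∑ i, (g i).snd • bQ i = 0 := hinj (h2.trans (map_zero _).symm)
    have hsnd : ∀ i, (g i).snd = 0 := Fintype.linearIndependent_iff.mp bQ.linearIndependent _ h3
    intro i
    exact TrivSqZeroExt.ext (hfst i) (hsnd i)
  have hdec : ∀ m : M, ∃ (x : Fin r → R) (m' : M), m = ∑ i, x i • e i + (ε : R[ε]) • m' := by
    intro m
    have h1 : (Submodule.Quotient.mk (m - ∑ i, bQ.equivFun (Submodule.Quotient.mk m) i • e i) :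
        M ⧸ E R M) = 0 := by
      rw [Submodule.Quotient.mk_sub, ← Submodule.mkQ_apply _ (∑ i, _), map_sum]
      simp only [Submodule.mkQ_apply, Submodule.Quotient.mk_smul, he]
      rw [bQ.sum_equivFun, sub_self]
    rw [Submodule.Quotient.mk_eq_zero, mem_E] at h1
    obtain ⟨m', hm'⟩ := h1
    exact ⟨_, m', by rw [hm']; abel⟩
  have hsp : ⊤ ≤ Submodule.span R[ε] (Set.range e) := by
    rintro m -
    obtain ⟨x, m', rfl⟩ := hdec m
    obtain ⟨y, m'', rfl⟩ := hdec m'
    have hmem : ∀ i, e i ∈ Submodule.span R[ε] (Set.range e) := fun i =>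
      Submodule.subset_span ⟨i, rfl⟩
    apply Submodule.add_mem
    · apply Submodule.sum_mem
      intro i _
      rw [smul_eq_inl_smul]
      exact Submodule.smul_mem _ _ (hmem i)
    · rw [smul_add, eps_eps_smul, add_zero]
      apply Submodule.smul_mem
      apply Submodule.sum_mem
      intro i _
      rw [smul_eq_inl_smul]
      exact Submodule.smul_mem _ _ (hmem i)
  exact ⟨Module.Basis.mk hli hsp⟩

end Groth.Agent.Helper7.DualFree

namespace Groth.Agent.Helper7.DualFree

open DualNumber Pointwise TrivSqZeroExt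

universe u v

theorem main (R : Type u) [CommRing R] (M : Type v)
    [AddCommGroup M] [Module R[ε] M] [Module R M] [IsScalarTower R R[ε] M] (r : ℕ) :
    Nonempty (Module.Basis (Fin r) R[ε] M) ↔
      (Nonempty (Module.Basis (Fin r) R (M ⧸ ((ε : R[ε]) • (⊤ : Submodule R[ε] M)))) ∧
        Nonempty (Module.Basis (Fin r) R
          (((ε : R[ε]) • (⊤ : Submodule R[ε] M)).restrictScalars R))) := by
  constructor
  · rintro ⟨b⟩
    exact forward b
  · rintro ⟨⟨bQ⟩, ⟨bE⟩⟩
    exact backward bQ bE

end Groth.Agent.Helper7.DualFree
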