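import Groth.Agent.Helper7.DualAut

namespace Groth.Agent.Helper7.DualMark

open TrivSqZeroExt

universe u v

variable {k : Type u} [Field k] {A : Type u} [CommRing A] [Algebra k A]

/-- a vector field with prescribed values at finitely many distinct rational points -/
theorem exists_derivation [Algebra.Smooth k A] {ι : Type v} [Finite ι] (q : ι → (A →ₐ[k] k))
    (hq : Function.Injective q) (δ : ι → (A →ₗ[k] k))
    (hδ : ∀ i a b, δ i (a * b) = q i a * δ i b + q i b * δ i a) :
    ∃ D : Derivation k A A, ∀ i a, q i (D a) = δ i a := by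
  classical
  -- the ring hom Q : A → ι → k
  let Q : A →ₐ[k] (ι → k) := Pi.algHom k (fun _ => k) q
  letI instMod : Module A (ι → k) := Module.compHom (ι → k) Q.toRingHom
  have hsmul : ∀ (a : A) (v : ι → k), a • v = Q a * v := fun a v => rfl
  haveI : IsScalarTower k A (ι → k) := ⟨fun c a v => by
    rw [hsmul, hsmul, map_smul, smul_mul_assoc]⟩
  -- the derivation δ : A → ι → k
  let δ' : Derivation k A (ι → k) := Derivation.mk'
    (LinearMap.pi δ)
    (by
      intro a b
      funext i
      rw [LinearMap.pi_apply, Pi.add_apply, hsmul, hsmul, Pi.mul_apply, Pi.mul_apply, hδ]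
      rfl)
  -- the surjection A → ι → k
  let π : A →ₗ[A] (ι → k) :=
    { toFun := fun a => Q a
      map_add' := fun a b => map_add Q a b
      map_smul' := fun a b => by
        rw [RingHom.id_apply, smul_eq_mul, map_mul, hsmul] }
  have hker : ∀ i j, i ≠ j → RingHom.ker (q i) ≠ RingHom.ker (q j) := by
    intro i j hij hk
    apply hij
    apply hq
    apply AlgHom.ext
    intro a
    have h1 : a - algebraMap k A (q i a) ∈ RingHom.ker (q i) := by
      rw [RingHom.mem_ker, map_sub, AlgHom.commutes]
      exact sub_self _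
    rw [hk, RingHom.mem_ker, map_sub, AlgHom.commutes, sub_eq_zero] at h1
    exact h1.symm
  have hmax : ∀ i, (RingHom.ker (q i)).IsMaximal := fun i =>
    RingHom.ker_isMaximal_of_surjective (q i) (fun c => ⟨algebraMap k A c, by
      rw [AlgHom.commutes]; rfl⟩)
  have hcop : Pairwise (Function.onFun IsCoprime fun i => RingHom.ker (q i)) := by
    intro i j hij
    exact Ideal.isCoprime_iff_sup_eq.mpr ((hmax i).coprime_of_ne (hmax j) (hker i j hij))
  have hπ : Function.Surjective π := by
    intro v
    obtain ⟨r, hr⟩ := Ideal.exists_forall_sub_mem_ideal hcop (fun i => algebraMap k A (v i))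
    refine ⟨r, ?_⟩
    funext i
    have := hr i
    rw [RingHom.mem_ker, map_sub, AlgHom.commutes, sub_eq_zero] at this
    exact this
  obtain ⟨L, hL⟩ := Module.projective_lifting_property π δ'.liftKaehlerDifferential hπ
  refine ⟨L.compDer (KaehlerDifferential.D k A), ?_⟩
  intro i a
  have h1 : π (L (KaehlerDifferential.D k A a)) = δ' a := by
    rw [← LinearMap.comp_apply, hL, Derivation.liftKaehlerDifferential_comp_D]
  exact congrFun h1 i

theorem main [Algebra.Smooth k A]
    {ι : Type v} [Finite ι] (q : ι → (A →ₐ[k] k)) (hq : Function.Injective q)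
    (q' : ι → (DualNumber A →ₐ[k] DualNumber k))
    (hε : ∀ i, q' i DualNumber.eps = DualNumber.eps) (hq' : ∀ i x, (q' i x).fst = q i x.fst) :
    ∃ φ : DualNumber A ≃ₐ[k] DualNumber A,
      φ DualNumber.eps = DualNumber.eps ∧ (∀ x, (φ x).fst = x.fst) ∧
        ∀ i x, (q' i (φ x)).fst = q i x.fst ∧ (q' i (φ x)).snd = q i x.snd := by
  -- δ_i
  let δ : ι → (A →ₗ[k] k) := fun i =>
    { toFun := fun a => - (q' i (inl a)).snd
      map_add' := by
        intro a b
        rw [inl_add, map_add, snd_add, neg_add]
      map_smul' := by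
        intro c a
        rw [RingHom.id_apply, inl_smul, map_smul, snd_smul, smul_neg] }
  have hδ : ∀ i a b, δ i (a * b) = q i a * δ i b + q i b * δ i a := by
    intro i a b
    change - (q' i (inl (a * b))).snd = q i a * (- (q' i (inl b)).snd) + q i b * (- (q' i (inl a)).snd)
    rw [inl_mul, map_mul, DualNumber.snd_mul, hq', hq', fst_inl, fst_inl]
    ring
  obtain ⟨D, hD⟩ := exists_derivation q hq δ hδ
  have hinr : ∀ i (b : A), q' i (inr b) = inr (q i b) := by
    intro i b
    have : (inr b : DualNumber A) = inl b * DualNumber.eps := by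
      apply TrivSqZeroExt.ext <;> simp
    rw [this, map_mul, hε]
    apply TrivSqZeroExt.ext
    · simp
    · simp [hq']
  have hsnd : ∀ i (y : DualNumber A), (q' i y).snd = (q' i (inl y.fst)).snd + q i y.snd := by
    intro i y
    have hy : y = inl y.fst + inr y.snd := by
      apply TrivSqZeroExt.ext <;> simp
    conv_lhs => rw [hy, map_add, hinr, snd_add, snd_inr]
  refine ⟨DualAut.phi k A D, ?_, fun x => DualAut.phiHom_fst k A D x, ?_⟩
  · rw [DualAut.phi_apply]
    apply TrivSqZeroExt.ext
    · simp [DualAut.phiHom_fst]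
    · simp [DualAut.phiHom_snd]
  · intro i x
    refine ⟨?_, ?_⟩
    · rw [hq', DualAut.phi_apply, DualAut.phiHom_fst]
    · rw [hsnd, DualAut.phi_apply, DualAut.phiHom_fst, DualAut.phiHom_snd, map_add, hD]
      change (q' i (inl x.fst)).snd + (q i x.snd + - (q' i (inl x.fst)).snd) = _
      ring

end Groth.Agent.Helper7.DualMark
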