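import Mathlib

set_option autoImplicit false

namespace Groth.Agent.Helper7.Dub


open Finset

/-- the arithmetic behind the bound. -/
theorem sum_bound (a b c : ℕ → ℕ) (d : ℕ) (h0 : a 0 = c 0)
    (ha : ∀ n, a (n + 1) = c (n + 1) + a n)
    (hba : ∀ n, b n ≤ a n)
    (hb : ∀ n, c n + a n ≤ b (n + 1))
    (hb' : ∀ n, 0 < c n → c n + a n + 1 ≤ b (n + 1))
    (hc : ∀ n, c n ≤ n + 1) (hd : 0 < a d) :
    ∀ M, ∑ n ∈ range (M + 1), (a n - b n) ≤ d + 1 := by
  have hmono : ∀ n, c n ≤ c (n + 1) := by
    intro n
    have h1 := hb n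
    have h2 := hba (n + 1)
    have h3 := ha n
    omega
  have hpos : ∀ n m, n ≤ m → 0 < c n → 0 < c m := by
    intro n m hnm hn
    induction m, hnm using Nat.le_induction with
    | base => exact hn
    | succ m _ ih => exact lt_of_lt_of_le ih (hmono m)
  -- weak bound
  have hweak : ∀ M, ∑ n ∈ range (M + 1), (a n - b n) ≤ c M := by
    intro M
    induction M with
    | zero =>
      rw [zero_add, sum_range_one, ← h0]
      exact Nat.sub_le _ _
    | succ M ih =>
      rw [sum_range_succ]
      have h1 := hb M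
      have h2 := hba (M + 1)
      have h3 := ha M
      omega
  -- some `c α > 0` with `α ≤ d`
  have hex : ∃ α, α ≤ d ∧ 0 < c α := by
    by_contra hcon
    push Not at hcon
    have : ∀ n, n ≤ d → a n = 0 := by
      intro n
      induction n with
      | zero =>
        intro _
        have := hcon 0 (Nat.zero_le _)
        omega
      | succ n ih =>
        intro hn
        have h1 := hcon (n + 1) hn
        have h2 := ih (by omega)
        have h3 := ha n
        omega
    have := this d le_rfl
    omega
  obtain ⟨α, hαd, hα⟩ := hex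
  have hstrong : ∀ M, α ≤ M → ∑ n ∈ range (M + 1), (a n - b n) + M ≤ c M + α := by
    intro M hM
    induction M, hM using Nat.le_induction with
    | base =>
      have := hweak α
      omega
    | succ M hM ih =>
      rw [sum_range_succ]
      have h1 := hb' M (hpos α M hM hα)
      have h2 := hba (M + 1)
      have h3 := ha M
      omega
  intro M
  by_cases hM : α ≤ M
  · have h1 := hstrong M hM
    have h2 := hc M
    omega
  · push Not at hM
    have h1 : ∑ n ∈ range (M + 1), (a n - b n) ≤ ∑ n ∈ range (α + 1), (a n - b n) :=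
      sum_le_sum_of_subset (range_mono (by omega))
    have h2 := hweak α
    have h3 := hc α
    omega



open MvPolynomial Module

section uv
variable {K : Type*} [Field K]

/-- `uW + vW`. -/
noncomputable def mulUV (W : Submodule K (MvPolynomial (Fin 2) K)) :
    Submodule K (MvPolynomial (Fin 2) K) :=
  W.map (LinearMap.mulLeft K (X 0)) ⊔ W.map (LinearMap.mulLeft K (X 1))

theorem mulLeft_X_injective {σ : Type*} (i : σ) :
    Function.Injective (LinearMap.mulLeft K (X i : MvPolynomial σ K)) := by
  intro f g h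
  exact mul_left_cancel₀ (X_ne_zero i) h

theorem finrank_mulUV_ge (W : Submodule K (MvPolynomial (Fin 2) K)) [FiniteDimensional K W]
    (hW : W ≠ ⊥) : finrank K W + 1 ≤ finrank K (mulUV W) := by
  classical
  set A := W.map (LinearMap.mulLeft K (X 0 : MvPolynomial (Fin 2) K)) with hA
  set B := W.map (LinearMap.mulLeft K (X 1 : MvPolynomial (Fin 2) K)) with hB
  have hfA : finrank K A = finrank K W :=
    (Submodule.equivMapOfInjective _ (mulLeft_X_injective (K := K) 0) W).finrank_eq.symm
  have hfB : finrank K B = finrank K W :=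
    (Submodule.equivMapOfInjective _ (mulLeft_X_injective (K := K) 1) W).finrank_eq.symm
  haveI : FiniteDimensional K A := by rw [hA]; infer_instance
  haveI : FiniteDimensional K B := by rw [hB]; infer_instance
  -- a nonzero element of minimal v-degree
  have hex : ∃ n, ∃ f ∈ W, f ≠ 0 ∧ degreeOf 1 f = n := by
    obtain ⟨f, hf, hf0⟩ := (Submodule.ne_bot_iff W).1 hW
    exact ⟨_, f, hf, hf0, rfl⟩
  obtain ⟨f₀, hf₀W, hf₀0, hf₀d⟩ := Nat.find_spec hex
  have hmin : ∀ g ∈ W, g ≠ 0 → Nat.find hex ≤ degreeOf 1 g := fun g hg hg0 =>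
    Nat.find_min' hex ⟨g, hg, hg0, rfl⟩
  have hlt : A ⊓ B < A := by
    refine lt_of_le_of_ne inf_le_left fun heq => ?_
    have h1 : X 0 * f₀ ∈ A := ⟨f₀, hf₀W, rfl⟩
    rw [← heq] at h1
    obtain ⟨g, hgW, hg⟩ := h1.2
    have hg' : X 1 * g = X 0 * f₀ := hg
    have hg0 : g ≠ 0 := by
      rintro rfl
      rw [mul_zero] at hg'
      exact (mul_ne_zero (X_ne_zero 0) hf₀0) hg'.symm
    have hd1 : degreeOf 1 (X 1 * g) = degreeOf 1 g + 1 := by
      rw [mul_comm]
      exact (degreeOf_mul_X_eq_degreeOf_add_one_iff 1 g).2 hg0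
    have hd2 : degreeOf 1 (X 0 * f₀) = degreeOf 1 f₀ := by
      rw [mul_comm]
      exact degreeOf_mul_X_of_ne f₀ (by decide)
    have := hmin g hgW hg0
    rw [hg', hd2, hf₀d] at hd1
    omega
  have h2 := Submodule.finrank_lt_finrank_of_lt hlt
  have h3 := Submodule.finrank_sup_add_finrank_inf_eq A B
  show finrank K W + 1 ≤ finrank K (A ⊔ B : Submodule K _)
  omega

end uv



open MvPolynomial Module

section proj
variable {K : Type*} [Field K] (lam mu : K)

/-- the linear form `x₀ + λ x₁ + μ x₂`. -/
noncomputable def ell : MvPolynomial (Fin 3) K := X 0 + C lam * X 1 + C mu * X 2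

/-- images of the variables. -/
noncomputable def piv : Fin 3 → MvPolynomial (Fin 2) K :=
  ![-(C lam * X 0 + C mu * X 1), X 0, X 1]

/-- the projection `K[x₀,x₁,x₂] → K[u,v]` killing `ell`. -/
noncomputable def pi : MvPolynomial (Fin 3) K →ₐ[K] MvPolynomial (Fin 2) K := aeval (piv lam mu)

/-- the section `u ↦ x₁, v ↦ x₂`. -/
noncomputable def iota : MvPolynomial (Fin 2) K →ₐ[K] MvPolynomial (Fin 3) K :=
  aeval (![X 1, X 2] : Fin 2 → MvPolynomial (Fin 3) K)

@[simp] theorem pi_X0 : pi lam mu (X 0) = -(C lam * X 0 + C mu * X 1) := by simp [pi, piv]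
@[simp] theorem pi_X1 : pi lam mu (X 1) = X 0 := by simp [pi, piv]
@[simp] theorem pi_X2 : pi lam mu (X 2) = X 1 := by simp [pi, piv]
@[simp] theorem iota_X0 : iota (K := K) (X 0) = X 1 := by simp [iota]
@[simp] theorem iota_X1 : iota (K := K) (X 1) = X 2 := by simp [iota]

@[simp] theorem pi_C (a : K) : pi lam mu (C a) = C a := by simp [pi]
@[simp] theorem iota_C (a : K) : iota (K := K) (C a) = C a := by simp [iota]

theorem pi_ell : pi lam mu (ell lam mu) = 0 := by
  simp only [ell, map_add, map_mul, pi_X0, pi_X1, pi_X2, pi_C]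
  ring

theorem ell_isHomogeneous : (ell lam mu).IsHomogeneous 1 :=
  ((isHomogeneous_X K 0).add (isHomogeneous_C_mul_X lam 1)).add (isHomogeneous_C_mul_X mu 2)

theorem ell_ne_zero : ell lam mu ≠ 0 := by
  intro h
  have := congrArg (coeff (Finsupp.single 0 1)) h
  simp [ell, coeff_X', coeff_C_mul, Finsupp.single_eq_single_iff] at this

theorem piv_isHomogeneous (i : Fin 3) : (piv lam mu i).IsHomogeneous 1 := by
  fin_cases i
  · exact ((isHomogeneous_C_mul_X lam 0).add (isHomogeneous_C_mul_X mu 1)).neg
  · exact isHomogeneous_X K 0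
  · exact isHomogeneous_X K 1

theorem pi_isHomogeneous {f : MvPolynomial (Fin 3) K} {n : ℕ} (hf : f.IsHomogeneous n) :
    (pi lam mu f).IsHomogeneous n := by
  have := hf.aeval (piv lam mu) (piv_isHomogeneous lam mu)
  rwa [one_mul] at this

theorem sub_iota_pi_mem (f : MvPolynomial (Fin 3) K) :
    f - iota (pi lam mu f) ∈ Ideal.span {ell lam mu} := by
  induction f using MvPolynomial.induction_on with
  | C a => simp [pi, iota]
  | add p q hp hq =>
    rw [map_add, map_add, add_sub_add_comm]
    exact add_mem hp hq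
  | mul_X p i hp =>
    rw [map_mul, map_mul]
    have hX : X i - iota (pi lam mu (X i)) ∈ Ideal.span {ell lam mu} := by
      fin_cases i
      · have : (X 0 : MvPolynomial (Fin 3) K) - iota (pi lam mu (X 0)) = ell lam mu := by
          simp only [pi_X0, map_neg, map_add, map_mul, iota_X0, iota_X1, iota_C, ell]
          ring
        show (X 0 : MvPolynomial (Fin 3) K) - iota (pi lam mu (X 0)) ∈ _
        rw [this]
        exact Ideal.subset_span rfl
      · show (X 1 : MvPolynomial (Fin 3) K) - iota (pi lam mu (X 1)) ∈ _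
        rw [pi_X1, iota_X0, sub_self]
        exact zero_mem _
      · show (X 2 : MvPolynomial (Fin 3) K) - iota (pi lam mu (X 2)) ∈ _
        rw [pi_X2, iota_X1, sub_self]
        exact zero_mem _
    have : p * X i - iota (pi lam mu p) * iota (pi lam mu (X i)) =
        (p - iota (pi lam mu p)) * X i + iota (pi lam mu p) * (X i - iota (pi lam mu (X i))) := by
      ring
    rw [this]
    exact add_mem (Ideal.mul_mem_right _ _ hp) (Ideal.mul_mem_left _ _ hX)

theorem exists_eq_ell_mul_of_pi_eq_zero (f : MvPolynomial (Fin 3) K) (h : pi lam mu f = 0) :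
    ∃ g, f = ell lam mu * g := by
  have := sub_iota_pi_mem lam mu f
  rw [h, map_zero, sub_zero] at this
  obtain ⟨a, ha⟩ := Ideal.mem_span_singleton'.1 this
  exact ⟨a, by rw [← ha, mul_comm]⟩

/-- homogeneous component of a product with a homogeneous polynomial. -/
theorem hc_mul {σ : Type*} {m : ℕ} (f : MvPolynomial σ K)
    (hf : f.IsHomogeneous m) (q : MvPolynomial σ K) (t : ℕ) (ht : m ≤ t) :
    homogeneousComponent t (f * q) = f * homogeneousComponent (t - m) q := by
  classical
  conv_lhs => rw [← sum_homogeneousComponent q, Finset.mul_sum, map_sum]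
  rw [Finset.sum_eq_single (t - m)]
  · have h1 : (f * homogeneousComponent (t - m) q).IsHomogeneous t := by
      have := hf.mul (homogeneousComponent_isHomogeneous (t - m) q)
      rwa [Nat.add_sub_cancel' ht] at this
    exact homogeneousComponent_eq_self h1
  · intro j _ hj
    have h1 : (f * homogeneousComponent j q).IsHomogeneous (m + j) :=
      hf.mul (homogeneousComponent_isHomogeneous j q)
    rw [homogeneousComponent_of_mem h1, if_neg]
    omega
  · intro h
    rw [Finset.mem_range, not_lt] at h
    have : homogeneousComponent (t - m) q = 0 := homogeneousComponent_eq_zero _ _ (by omega)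
    rw [this, mul_zero, map_zero]

theorem exists_homog_eq_ell_mul (f : MvPolynomial (Fin 3) K) (n : ℕ)
    (hf : f.IsHomogeneous (n + 1)) (h : pi lam mu f = 0) :
    ∃ g, g.IsHomogeneous n ∧ f = ell lam mu * g := by
  obtain ⟨g, hg⟩ := exists_eq_ell_mul_of_pi_eq_zero lam mu f h
  refine ⟨homogeneousComponent n g, homogeneousComponent_isHomogeneous n g, ?_⟩
  have h1 := hc_mul (ell lam mu) (ell_isHomogeneous lam mu) g (n + 1) (by omega)
  rw [Nat.add_sub_cancel, ← hg, homogeneousComponent_eq_self hf] at h1
  exact h1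

end proj

end Groth.Agent.Helper7.Dub
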