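import Groth.Agent.Helper7.Dub1

set_option autoImplicit false

namespace Groth.Agent.Helper7.Dub

open MvPolynomial Module Finset

section count
variable {K : Type*} [Field K] (lam mu : K)

/-- `S₁ · V`. -/
noncomputable def mulS1 (V : Submodule K (MvPolynomial (Fin 3) K)) :
    Submodule K (MvPolynomial (Fin 3) K) :=
  ⨆ i : Fin 3, V.map (LinearMap.mulLeft K (X i))

theorem mul_mem_mulS1 {V : Submodule K (MvPolynomial (Fin 3) K)} (i : Fin 3)
    {g : MvPolynomial (Fin 3) K} (hg : g ∈ V) : X i * g ∈ mulS1 V :=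
  (le_iSup (fun i : Fin 3 => V.map (LinearMap.mulLeft K (X i))) i) ⟨g, hg, rfl⟩

theorem mulS1_le {V U : Submodule K (MvPolynomial (Fin 3) K)}
    (h : ∀ i g, g ∈ V → X i * g ∈ U) : mulS1 V ≤ U := by
  refine iSup_le fun i => ?_
  rintro _ ⟨g, hg, rfl⟩
  exact h i g hg

theorem finrank_map_add_finrank_inf_ker {V₁ V₂ : Type*} [AddCommGroup V₁] [Module K V₁]
    [AddCommGroup V₂] [Module K V₂] (T : V₁ →ₗ[K] V₂) (V : Submodule K V₁)
    [FiniteDimensional K V] :
    finrank K (V.map T) + finrank K (V ⊓ LinearMap.ker T : Submodule K V₁) = finrank K V := by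
  have h := (T.domRestrict V).finrank_range_add_finrank_ker
  have h1 : LinearMap.range (T.domRestrict V) = V.map T := by
    ext x
    simp only [LinearMap.mem_range, Submodule.mem_map, LinearMap.domRestrict_apply,
      Subtype.exists, exists_prop]
  have h2 : finrank K (LinearMap.ker (T.domRestrict V)) =
      finrank K (V ⊓ LinearMap.ker T : Submodule K V₁) := by
    have e : LinearMap.ker (T.domRestrict V) ≃ₗ[K] (V ⊓ LinearMap.ker T : Submodule K V₁) :=
      { toFun := fun x => ⟨x.1.1, x.1.2, x.2⟩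
        map_add' := fun _ _ => rfl
        map_smul' := fun _ _ => rfl
        invFun := fun y => ⟨⟨y.1, y.2.1⟩, y.2.2⟩
        left_inv := fun _ => rfl
        right_inv := fun _ => rfl }
    exact e.finrank_eq
  rw [h1, h2] at h
  exact h

/-- the hypotheses on the family of graded pieces. -/
structure Fam (W : ℕ → Submodule K (MvPolynomial (Fin 3) K)) : Prop where
  homog : ∀ n, W n ≤ homogeneousSubmodule (Fin 3) K n
  mulX : ∀ n i g, g ∈ W n → X i * g ∈ W (n + 1)
  div : ∀ n g, g.IsHomogeneous n → ell lam mu * g ∈ W (n + 1) → g ∈ W n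

instance finiteDimensional_homogeneousSubmodule (σ : Type*) [Finite σ] (n : ℕ) :
    FiniteDimensional K (homogeneousSubmodule σ K n) :=
  Module.Finite.iff_fg.2 (homogeneousSubmodule_fg σ K n)

variable {lam mu}

theorem Fam.finiteDimensional {W : ℕ → Submodule K (MvPolynomial (Fin 3) K)}
    (hW : Fam lam mu W) (n : ℕ) : FiniteDimensional K (W n) :=
  Submodule.finiteDimensional_of_le (hW.homog n)

theorem map_pi_mulS1 (V : Submodule K (MvPolynomial (Fin 3) K)) :
    (mulS1 V).map (pi lam mu).toLinearMap = mulUV (V.map (pi lam mu).toLinearMap) := by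
  apply le_antisymm
  · rw [Submodule.map_le_iff_le_comap]
    refine mulS1_le fun i g hg => ?_
    rw [Submodule.mem_comap, AlgHom.toLinearMap_apply, map_mul]
    have hg' : pi lam mu g ∈ V.map (pi lam mu).toLinearMap := ⟨g, hg, rfl⟩
    fin_cases i
    · show pi lam mu (X 0) * pi lam mu g ∈ _
      rw [pi_X0]
      have : -(C lam * X 0 + C mu * X 1) * pi lam mu g =
          X 0 * ((-lam) • pi lam mu g) + X 1 * ((-mu) • pi lam mu g) := by
        rw [smul_eq_C_mul, smul_eq_C_mul, map_neg, map_neg]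
        ring
      rw [this]
      exact Submodule.add_mem_sup ⟨_, Submodule.smul_mem _ _ hg', rfl⟩
        ⟨_, Submodule.smul_mem _ _ hg', rfl⟩
    · show pi lam mu (X 1) * pi lam mu g ∈ _
      rw [pi_X1]
      exact Submodule.mem_sup_left ⟨_, hg', rfl⟩
    · show pi lam mu (X 2) * pi lam mu g ∈ _
      rw [pi_X2]
      exact Submodule.mem_sup_right ⟨_, hg', rfl⟩
  · refine sup_le ?_ ?_
    · rintro _ ⟨_, ⟨g, hg, rfl⟩, rfl⟩
      refine ⟨X 1 * g, mul_mem_mulS1 1 hg, ?_⟩
      rw [AlgHom.toLinearMap_apply, map_mul, pi_X1]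
      rfl
    · rintro _ ⟨_, ⟨g, hg, rfl⟩, rfl⟩
      refine ⟨X 2 * g, mul_mem_mulS1 2 hg, ?_⟩
      rw [AlgHom.toLinearMap_apply, map_mul, pi_X2]
      rfl

theorem ell_mul_mem_mulS1 {V : Submodule K (MvPolynomial (Fin 3) K)}
    {g : MvPolynomial (Fin 3) K} (hg : g ∈ V) : ell lam mu * g ∈ mulS1 V := by
  have : ell lam mu * g = X 0 * g + X 1 * (lam • g) + X 2 * (mu • g) := by
    rw [smul_eq_C_mul, smul_eq_C_mul, ell]
    ring
  rw [this]
  exact add_mem (add_mem (mul_mem_mulS1 0 hg) (mul_mem_mulS1 1 (Submodule.smul_mem _ _ hg)))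
    (mul_mem_mulS1 2 (Submodule.smul_mem _ _ hg))

variable {W : ℕ → Submodule K (MvPolynomial (Fin 3) K)}

theorem Fam.mulS1_le (hW : Fam lam mu W) (n : ℕ) : mulS1 (W n) ≤ W (n + 1) :=
  Dub.mulS1_le (hW.mulX n)

theorem Fam.inf_ker (hW : Fam lam mu W) (n : ℕ) :
    W (n + 1) ⊓ LinearMap.ker (pi lam mu).toLinearMap =
      (W n).map (LinearMap.mulLeft K (ell lam mu)) := by
  apply le_antisymm
  · rintro f ⟨hf, hker⟩
    have hker' : pi lam mu f = 0 := hker
    obtain ⟨g, hg, rfl⟩ := exists_homog_eq_ell_mul lam mu f n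
      ((mem_homogeneousSubmodule _ _).1 (hW.homog (n + 1) hf)) hker'
    exact ⟨g, hW.div n g hg hf, rfl⟩
  · rintro _ ⟨g, hg, rfl⟩
    refine ⟨hW.mulS1_le n (ell_mul_mem_mulS1 hg), ?_⟩
    show pi lam mu (ell lam mu * g) = 0
    rw [map_mul, pi_ell, zero_mul]

theorem Fam.mulS1_inf_ker (hW : Fam lam mu W) (n : ℕ) :
    mulS1 (W n) ⊓ LinearMap.ker (pi lam mu).toLinearMap =
      (W n).map (LinearMap.mulLeft K (ell lam mu)) := by
  apply le_antisymm
  · rw [← hW.inf_ker n]
    exact inf_le_inf_right _ (hW.mulS1_le n)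
  · rintro _ ⟨g, hg, rfl⟩
    refine ⟨ell_mul_mem_mulS1 hg, ?_⟩
    show pi lam mu (ell lam mu * g) = 0
    rw [map_mul, pi_ell, zero_mul]

theorem finrank_map_mulLeft_ell (V : Submodule K (MvPolynomial (Fin 3) K)) :
    finrank K (V.map (LinearMap.mulLeft K (ell lam mu))) = finrank K V := by
  have hinj : Function.Injective (LinearMap.mulLeft K (ell lam mu)) := fun f g h =>
    mul_left_cancel₀ (ell_ne_zero lam mu) h
  exact (Submodule.equivMapOfInjective _ hinj V).finrank_eq.symm

/-- the dimension of the image of `W n` in `K[u,v]`. -/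
noncomputable def cdim (lam mu : K) (W : ℕ → Submodule K (MvPolynomial (Fin 3) K)) (n : ℕ) : ℕ :=
  finrank K ((W n).map (pi lam mu).toLinearMap)

/-- the dimension of `S₁ W_{n-1}`. -/
noncomputable def bdim (W : ℕ → Submodule K (MvPolynomial (Fin 3) K)) : ℕ → ℕ
  | 0 => 0
  | (n + 1) => finrank K (mulS1 (W n))

theorem Fam.adim_succ (hW : Fam lam mu W) (n : ℕ) :
    finrank K (W (n + 1)) = cdim lam mu W (n + 1) + finrank K (W n) := by
  haveI := hW.finiteDimensional (n + 1)
  have h := finrank_map_add_finrank_inf_ker (pi lam mu).toLinearMap (W (n + 1))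
  rw [hW.inf_ker n, finrank_map_mulLeft_ell] at h
  exact h.symm

theorem Fam.adim_zero (hW : Fam lam mu W) : finrank K (W 0) = cdim lam mu W 0 := by
  haveI := hW.finiteDimensional 0
  have h := finrank_map_add_finrank_inf_ker (pi lam mu).toLinearMap (W 0)
  have h0 : W 0 ⊓ LinearMap.ker (pi lam mu).toLinearMap = ⊥ := by
    rw [eq_bot_iff]
    rintro f ⟨hf, hker⟩
    have hker' : pi lam mu f = 0 := hker
    have hf0 : f.IsHomogeneous 0 := (mem_homogeneousSubmodule _ _).1 (hW.homog 0 hf)
    rw [← totalDegree_zero_iff_isHomogeneous, totalDegree_eq_zero_iff_eq_C] at hf0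
    obtain ⟨a, rfl⟩ : ∃ a, f = C a := ⟨_, hf0⟩
    rw [pi_C] at hker'
    have ha : a = 0 := C_injective (Fin 2) K (hker'.trans C_0.symm)
    rw [ha, C_0]
    exact zero_mem _
  rw [h0, finrank_bot, add_zero] at h
  exact h.symm

theorem Fam.bdim_succ (hW : Fam lam mu W) (n : ℕ) :
    bdim W (n + 1) =
      finrank K (mulUV ((W n).map (pi lam mu).toLinearMap)) + finrank K (W n) := by
  haveI := hW.finiteDimensional (n + 1)
  haveI : FiniteDimensional K (mulS1 (W n)) :=
    Submodule.finiteDimensional_of_le (hW.mulS1_le n)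
  have h := finrank_map_add_finrank_inf_ker (pi lam mu).toLinearMap (mulS1 (W n))
  rw [hW.mulS1_inf_ker n, finrank_map_mulLeft_ell, map_pi_mulS1] at h
  exact h.symm

theorem Fam.bdim_le (hW : Fam lam mu W) (n : ℕ) : bdim W n ≤ finrank K (W n) := by
  cases n with
  | zero => exact Nat.zero_le _
  | succ n =>
    haveI := hW.finiteDimensional (n + 1)
    exact Submodule.finrank_mono (hW.mulS1_le n)

theorem finrank_homogeneousSubmodule_two (n : ℕ) :
    finrank K (homogeneousSubmodule (Fin 2) K n) = n + 1 := by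
  classical
  rw [homogeneousSubmodule_eq_finsupp_supported]
  have hset : {d : Fin 2 →₀ ℕ | d.degree = n}
      = ↑((Finset.univ : Finset (Fin 2)).finsuppAntidiag n) := by
    ext d
    simp only [Set.mem_setOf_eq, Finset.mem_coe, Finset.mem_finsuppAntidiag, Finset.subset_univ,
      and_true]
    rw [Finsupp.degree_eq_sum]
  rw [hset]
  rw [LinearEquiv.finrank_eq (AddMonoidAlgebra.supportedEquivFinsupp _)]
  rw [Module.finrank_finsupp_self]
  simp only [Finset.coe_sort_coe, Fintype.card_coe]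
  rw [Finset.card_finsuppAntidiag_nat_eq_choose, Finset.card_univ, Fintype.card_fin]
  have : 2 + n - 1 = n + 1 := by omega
  rw [this, Nat.choose_succ_self_right]

theorem Fam.cdim_le (hW : Fam lam mu W) (n : ℕ) : cdim lam mu W n ≤ n + 1 := by
  have hle : (W n).map (pi lam mu).toLinearMap ≤ homogeneousSubmodule (Fin 2) K n := by
    rintro _ ⟨f, hf, rfl⟩
    exact (mem_homogeneousSubmodule _ _).2
      (pi_isHomogeneous lam mu ((mem_homogeneousSubmodule _ _).1 (hW.homog n hf)))
  have := Submodule.finrank_mono hle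
  rw [finrank_homogeneousSubmodule_two] at this
  exact this

theorem Fam.sum_le (hW : Fam lam mu W) (d : ℕ) (hd : W d ≠ ⊥) (M : ℕ) :
    ∑ n ∈ range (M + 1), (finrank K (W n) - bdim W n) ≤ d + 1 := by
  refine sum_bound (fun n => finrank K (W n)) (bdim W) (cdim lam mu W) d hW.adim_zero
    hW.adim_succ hW.bdim_le ?_ ?_ hW.cdim_le ?_ M
  · intro n
    rw [hW.bdim_succ n]
    have hinj : Function.Injective (LinearMap.mulLeft K (X 0 : MvPolynomial (Fin 2) K)) :=
      mulLeft_X_injective 0
    have h1 : finrank K (((W n).map (pi lam mu).toLinearMap).map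
        (LinearMap.mulLeft K (X 0 : MvPolynomial (Fin 2) K))) = cdim lam mu W n :=
      (Submodule.equivMapOfInjective _ hinj _).finrank_eq.symm
    haveI := hW.finiteDimensional n
    haveI : FiniteDimensional K (mulUV ((W n).map (pi lam mu).toLinearMap)) := by
      unfold mulUV
      infer_instance
    have h2 : finrank K (((W n).map (pi lam mu).toLinearMap).map
        (LinearMap.mulLeft K (X 0 : MvPolynomial (Fin 2) K))) ≤
        finrank K (mulUV ((W n).map (pi lam mu).toLinearMap)) :=
      Submodule.finrank_mono le_sup_left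
    show cdim lam mu W n + finrank K (W n) ≤ _
    omega
  · intro n hn
    rw [hW.bdim_succ n]
    haveI := hW.finiteDimensional n
    have hne : (W n).map (pi lam mu).toLinearMap ≠ ⊥ := by
      intro h
      have : cdim lam mu W n = 0 := by
        unfold cdim
        rw [h, finrank_bot]
      omega
    have := finrank_mulUV_ge _ hne
    show cdim lam mu W n + finrank K (W n) + 1 ≤ _
    unfold cdim
    omega
  · haveI := hW.finiteDimensional d
    exact Module.finrank_pos_iff_exists_ne_zero.2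
      (by
        obtain ⟨x, hx, hx0⟩ := (Submodule.ne_bot_iff _).1 hd
        exact ⟨⟨x, hx⟩, fun h => hx0 (congrArg Subtype.val h)⟩)

end count

end Groth.Agent.Helper7.Dub
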