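import Groth.Agent.Helper7.Dub2

set_option autoImplicit false

namespace Groth.Agent.Helper7.Dub

open MvPolynomial Module Finset

section gens
variable {k : Type*} [Field k]

theorem exists_finset_compl {V : Type*} [AddCommGroup V] [Module k V] (A B : Submodule k V)
    [FiniteDimensional k A] (hBA : B ≤ A) :
    ∃ s : Finset V, s.card + finrank k B ≤ finrank k A ∧ (↑s : Set V) ⊆ A ∧
      A ≤ B ⊔ Submodule.span k (↑s : Set V) := by
  classical
  obtain ⟨D, hD⟩ := Submodule.exists_isCompl B
  set C := D ⊓ A with hC
  have hCA : C ≤ A := inf_le_right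
  haveI : FiniteDimensional k B := Submodule.finiteDimensional_of_le hBA
  haveI : FiniteDimensional k C := Submodule.finiteDimensional_of_le hCA
  have hsup : B ⊔ C = A := by
    rw [hC, ← sup_inf_assoc_of_le D hBA, hD.sup_eq_top, top_inf_eq]
  have hinf : B ⊓ C = ⊥ := by
    rw [eq_bot_iff, ← hD.inf_eq_bot]
    exact inf_le_inf_left _ inf_le_left
  have hfin := Submodule.finrank_sup_add_finrank_inf_eq B C
  rw [hsup, hinf, finrank_bot, add_zero] at hfin
  let b := Module.finBasis k C
  refine ⟨Finset.univ.image (fun i => ((b i : C) : V)), ?_, ?_, ?_⟩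
  · have := Finset.card_image_le (s := (Finset.univ : Finset (Fin (finrank k C))))
      (f := fun i => ((b i : C) : V))
    rw [Finset.card_univ, Fintype.card_fin] at this
    omega
  · intro x hx
    rw [Finset.coe_image, Finset.coe_univ, Set.image_univ] at hx
    obtain ⟨i, rfl⟩ := hx
    exact hCA (b i).2
  · have hspan : Submodule.span k (↑(Finset.univ.image (fun i => ((b i : C) : V))) : Set V) = C := by
      rw [Finset.coe_image, Finset.coe_univ, Set.image_univ]
      have h1 : Set.range (fun i => ((b i : C) : V)) = C.subtype '' Set.range b := by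
        rw [← Set.range_comp]
        rfl
      rw [h1, Submodule.span_image, b.span_eq, Submodule.map_subtype_top]
    rw [hspan, hsup]

/-- the degree `n` piece of an ideal. -/
noncomputable def grade (I : Ideal (MvPolynomial (Fin 3) k)) (n : ℕ) :
    Submodule k (MvPolynomial (Fin 3) k) :=
  I.restrictScalars k ⊓ homogeneousSubmodule (Fin 3) k n

theorem mem_grade {I : Ideal (MvPolynomial (Fin 3) k)} {n : ℕ} {f : MvPolynomial (Fin 3) k} :
    f ∈ grade I n ↔ f ∈ I ∧ f.IsHomogeneous n := by
  unfold grade
  rw [Submodule.mem_inf, Submodule.restrictScalars_mem, mem_homogeneousSubmodule]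

instance (I : Ideal (MvPolynomial (Fin 3) k)) (n : ℕ) : FiniteDimensional k (grade I n) :=
  Submodule.finiteDimensional_of_le (inf_le_right : grade I n ≤ homogeneousSubmodule (Fin 3) k n)

theorem mulS1_grade_le (I : Ideal (MvPolynomial (Fin 3) k)) (n : ℕ) :
    mulS1 (grade I n) ≤ grade I (n + 1) := by
  refine mulS1_le fun i g hg => ?_
  rw [mem_grade] at hg ⊢
  refine ⟨I.mul_mem_left _ hg.1, ?_⟩
  have := (isHomogeneous_X k i).mul hg.2
  rwa [add_comm] at this

/-- `S₁ I_{n-1}` as a family. -/
noncomputable def bsub (I : Ideal (MvPolynomial (Fin 3) k)) :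
    ℕ → Submodule k (MvPolynomial (Fin 3) k)
  | 0 => ⊥
  | (n + 1) => mulS1 (grade I n)

theorem bsub_le (I : Ideal (MvPolynomial (Fin 3) k)) (n : ℕ) : bsub I n ≤ grade I n := by
  cases n with
  | zero => exact bot_le
  | succ n => exact mulS1_grade_le I n

theorem finrank_bsub (I : Ideal (MvPolynomial (Fin 3) k)) (n : ℕ) :
    finrank k (bsub I n) = bdim (grade I) n := by
  cases n with
  | zero => exact finrank_bot k _
  | succ n => rfl

theorem spanFinrank_le_sum (I : Ideal (MvPolynomial (Fin 3) k))
    (hom : ∀ f ∈ I, ∀ n, homogeneousComponent n f ∈ I) :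
    ∃ M, Submodule.spanFinrank I ≤
      ∑ n ∈ range (M + 1), (finrank k (grade I n) - bdim (grade I) n) := by
  classical
  choose G hGcard hGsub hGspan using fun n => exists_finset_compl (grade I n) (bsub I n) (bsub_le I n)
  let J : ℕ → Ideal (MvPolynomial (Fin 3) k) := fun M =>
    Ideal.span (↑((range (M + 1)).biUnion G) : Set (MvPolynomial (Fin 3) k))
  have hJmono : Monotone J := by
    intro m m' hmm'
    apply Ideal.span_mono
    rw [Finset.coe_subset]
    exact Finset.biUnion_subset_biUnion_of_subset_left _ (range_mono (by omega))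
  have hGJ : ∀ n, (↑(G n) : Set (MvPolynomial (Fin 3) k)) ⊆ J n := by
    intro n x hx
    apply Ideal.subset_span
    rw [Finset.mem_coe, Finset.mem_biUnion]
    exact ⟨n, Finset.mem_range.2 (Nat.lt_succ_self n), hx⟩
  have hgrJ : ∀ n, ∀ f ∈ grade I n, f ∈ J n := by
    intro n
    induction n with
    | zero =>
      intro f hf
      have h1 := hGspan 0 hf
      have h2 : bsub I 0 ⊔ Submodule.span k (↑(G 0) : Set _) ≤ (J 0).restrictScalars k := by
        refine sup_le bot_le ?_
        rw [Submodule.span_le]
        exact hGJ 0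
      exact h2 h1
    | succ n ih =>
      intro f hf
      have h1 := hGspan (n + 1) hf
      have h2 : bsub I (n + 1) ⊔ Submodule.span k (↑(G (n + 1)) : Set _) ≤
          (J (n + 1)).restrictScalars k := by
        refine sup_le ?_ ?_
        · refine mulS1_le fun i g hg => ?_
          exact (J (n + 1)).mul_mem_left _ (hJmono (Nat.le_succ n) (ih g hg))
        · rw [Submodule.span_le]
          exact hGJ (n + 1)
      exact h2 h1
  obtain ⟨M, hM⟩ := monotone_stabilizes_iff_noetherian.2
    (inferInstance : IsNoetherian (MvPolynomial (Fin 3) k) (MvPolynomial (Fin 3) k)) ⟨J, hJmono⟩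
  have hM' : ∀ m, J m ≤ J M := by
    intro m
    rcases le_total m M with h | h
    · exact hJmono h
    · exact (hM m h).symm.le
  have hIJ : I = J M := by
    apply le_antisymm
    · intro f hf
      rw [← sum_homogeneousComponent f]
      refine Ideal.sum_mem _ fun n _ => ?_
      exact hM' n (hgrJ n _ (mem_grade.2 ⟨hom f hf n, homogeneousComponent_isHomogeneous n f⟩))
    · apply Ideal.span_le.2
      intro x hx
      rw [Finset.mem_coe, Finset.mem_biUnion] at hx
      obtain ⟨n, -, hxn⟩ := hx
      exact (mem_grade.1 (hGsub n hxn)).1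
  refine ⟨M, ?_⟩
  have h1 : Submodule.spanFinrank I ≤ ((range (M + 1)).biUnion G).card := by
    rw [hIJ]
    have := Submodule.spanFinrank_span_le_ncard_of_finite (R := MvPolynomial (Fin 3) k)
      (Finset.finite_toSet ((range (M + 1)).biUnion G))
    rwa [Set.ncard_coe_finset] at this
  refine h1.trans (Finset.card_biUnion_le.trans (Finset.sum_le_sum fun n _ => ?_))
  have := hGcard n
  rw [finrank_bsub] at this
  omega

end gens

end Groth.Agent.Helper7.Dub
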