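import Groth.Agent.Helper7.Dub3

set_option autoImplicit false

namespace Groth.Agent.Helper7.Dub

open MvPolynomial Module Finset

section vgrade
variable {F : Type*} [Field F]

/-- forms of degree `n` vanishing on `Z`. -/
noncomputable def vgrade (Z : Finset (Fin 3 → F)) (n : ℕ) :
    Submodule F (MvPolynomial (Fin 3) F) where
  carrier := {f | f.IsHomogeneous n ∧ ∀ p ∈ Z, eval p f = 0}
  zero_mem' := ⟨isHomogeneous_zero _ _ _, fun p _ => map_zero _⟩
  add_mem' := fun ha hb => ⟨ha.1.add hb.1, fun p hp => by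
    rw [map_add, ha.2 p hp, hb.2 p hp, add_zero]⟩
  smul_mem' := fun c f hf => ⟨by rw [smul_eq_C_mul]; exact hf.1.C_mul c, fun p hp => by
    rw [smul_eval, hf.2 p hp, mul_zero]⟩

theorem mem_vgrade {Z : Finset (Fin 3 → F)} {n : ℕ} {f : MvPolynomial (Fin 3) F} :
    f ∈ vgrade Z n ↔ f.IsHomogeneous n ∧ ∀ p ∈ Z, eval p f = 0 := Iff.rfl

theorem eval_ell (lam mu : F) (p : Fin 3 → F) :
    eval p (ell lam mu) = p 0 + lam * p 1 + mu * p 2 := by
  simp [ell]

theorem vgrade_fam (Z : Finset (Fin 3 → F)) (lam mu : F)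
    (hl : ∀ p ∈ Z, p 0 + lam * p 1 + mu * p 2 ≠ 0) : Fam lam mu (vgrade Z) where
  homog := fun n f hf => (mem_homogeneousSubmodule _ _).2 hf.1
  mulX := fun n i g hg => ⟨by
    have := (isHomogeneous_X F i).mul hg.1
    rwa [add_comm] at this, fun p hp => by rw [map_mul, hg.2 p hp, mul_zero]⟩
  div := fun n g hg h => ⟨hg, fun p hp => by
    have := h.2 p hp
    rw [map_mul, eval_ell] at this
    exact (mul_eq_zero.1 this).resolve_left (hl p hp)⟩

theorem exists_ell [Infinite F] (Z : Finset (Fin 3 → F)) (hZ : ∀ p ∈ Z, p ≠ 0) :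
    ∃ t : F, ∀ p ∈ Z, p 0 + t * p 1 + t ^ 2 * p 2 ≠ 0 := by
  classical
  let q : (Fin 3 → F) → Polynomial F := fun p =>
    Polynomial.C (p 0) + Polynomial.C (p 1) * Polynomial.X + Polynomial.C (p 2) * Polynomial.X ^ 2
  have hq : ∀ p ∈ Z, q p ≠ 0 := by
    intro p hp h
    apply hZ p hp
    have h0 := congrArg (fun r => Polynomial.coeff r 0) h
    have h1 := congrArg (fun r => Polynomial.coeff r 1) h
    have h2 := congrArg (fun r => Polynomial.coeff r 2) h
    simp [q, Polynomial.coeff_X, Polynomial.coeff_X_pow] at h0 h1 h2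
    funext i
    fin_cases i
    · exact h0
    · exact h1
    · exact h2
  have hP : (∏ p ∈ Z, q p) ≠ 0 := Finset.prod_ne_zero_iff.2 hq
  obtain ⟨t, ht⟩ := Infinite.exists_notMem_finset (∏ p ∈ Z, q p).roots.toFinset
  rw [Multiset.mem_toFinset, Polynomial.mem_roots hP, Polynomial.IsRoot.def,
    Polynomial.eval_prod, Finset.prod_eq_zero_iff] at ht
  push Not at ht
  refine ⟨t, fun p hp => ?_⟩
  have := ht p hp
  simp only [q, Polynomial.eval_add, Polynomial.eval_mul, Polynomial.eval_C, Polynomial.eval_X,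
    Polynomial.eval_pow] at this
  intro h
  apply this
  rw [← h]
  ring

end vgrade

end Groth.Agent.Helper7.Dub
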