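import Groth.Agent.Helper7.Dub4

set_option autoImplicit false

namespace Groth.Agent.Helper7.Dub

open MvPolynomial Module Finset
open scoped TensorProduct

section descent
variable {k K : Type*} [Field k] [Field K] [Algebra k K]

/-- extension of scalars of a subspace of polynomials. -/
noncomputable def ext (V : Submodule k (MvPolynomial (Fin 3) k)) :
    Submodule K (MvPolynomial (Fin 3) K) :=
  Submodule.span K ((fun f => map (algebraMap k K) f) '' (V : Set (MvPolynomial (Fin 3) k)))

theorem map_mem_ext {V : Submodule k (MvPolynomial (Fin 3) k)} {f : MvPolynomial (Fin 3) k}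
    (hf : f ∈ V) : map (algebraMap k K) f ∈ ext (K := K) V :=
  Submodule.subset_span ⟨f, hf, rfl⟩

theorem map_smul' (c : k) (f : MvPolynomial (Fin 3) k) :
    map (algebraMap k K) (c • f) = algebraMap k K c • map (algebraMap k K) f := by
  rw [smul_eq_C_mul, map_mul, map_C, ← smul_eq_C_mul]

theorem finrank_ext (V : Submodule k (MvPolynomial (Fin 3) k)) [FiniteDimensional k V] :
    finrank K (ext (K := K) V) = finrank k V := by
  classical
  let b := Module.finBasis k V
  let v : Fin (finrank k V) → MvPolynomial (Fin 3) k := fun i => ((b i : V) : MvPolynomial (Fin 3) k)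
  have hv : LinearIndependent k v :=
    b.linearIndependent.map' V.subtype (Submodule.ker_subtype V)
  have hv1 := Module.Flat.linearIndependent_one_tmul (S := K) hv
  have hv2 : LinearIndependent K (fun i => map (algebraMap k K) (v i)) := by
    have := hv1.map' (algebraTensorAlgEquiv k K).toLinearMap
      (LinearMap.ker_eq_bot.2 (algebraTensorAlgEquiv k K).injective)
    have hfun : (fun i => map (algebraMap k K) (v i)) =
        (⇑(algebraTensorAlgEquiv k K).toLinearMap ∘ fun x => (1 : K) ⊗ₜ[k] v x) := by
      funext i
      simp [algebraTensorAlgEquiv_tmul]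
    rw [hfun]
    exact this
  have hspan : ext (K := K) V =
      Submodule.span K (Set.range fun i => map (algebraMap k K) (v i)) := by
    apply le_antisymm
    · apply Submodule.span_le.2
      rintro _ ⟨f, hf, rfl⟩
      have hsum : f = ∑ i, (b.repr ⟨f, hf⟩ i) • v i := by
        have := congrArg Subtype.val (b.sum_repr ⟨f, hf⟩)
        rw [Submodule.coe_sum] at this
        simpa [v] using this.symm
      show map (algebraMap k K) f ∈ _
      rw [hsum, map_sum]
      refine Submodule.sum_mem _ fun i _ => ?_
      rw [map_smul']
      exact Submodule.smul_mem _ _ (Submodule.subset_span ⟨i, rfl⟩)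
    · apply Submodule.span_le.2
      rintro _ ⟨i, rfl⟩
      exact map_mem_ext (b i).2
  rw [hspan, finrank_span_eq_card hv2, Fintype.card_fin]

theorem ext_mulS1 (V : Submodule k (MvPolynomial (Fin 3) k)) :
    ext (K := K) (mulS1 V) = mulS1 (ext (K := K) V) := by
  apply le_antisymm
  · apply Submodule.span_le.2
    rintro _ ⟨f, hf, rfl⟩
    show map (algebraMap k K) f ∈ mulS1 (ext (K := K) V)
    unfold mulS1 at hf
    induction hf using Submodule.iSup_induction' with
    | mem i x hx =>
      obtain ⟨g, hg, rfl⟩ := hx
      show map (algebraMap k K) (X i * g) ∈ _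
      rw [map_mul, map_X]
      exact mul_mem_mulS1 i (map_mem_ext hg)
    | zero => rw [map_zero]; exact zero_mem _
    | add x y _ _ hx hy => rw [map_add]; exact add_mem hx hy
  · refine mulS1_le fun i h hh => ?_
    unfold ext at hh
    induction hh using Submodule.span_induction with
    | mem x hx =>
      obtain ⟨g, hg, rfl⟩ := hx
      have : X i * map (algebraMap k K) g = map (algebraMap k K) (X i * g) := by
        rw [map_mul, map_X]
      show X i * map (algebraMap k K) g ∈ _
      rw [this]
      exact map_mem_ext (mul_mem_mulS1 i hg)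
    | zero => rw [mul_zero]; exact zero_mem _
    | add x y _ _ hx hy => rw [mul_add]; exact add_mem hx hy
    | smul c x _ hx => rw [mul_smul_comm]; exact Submodule.smul_mem _ _ hx

theorem bdim_ext (W : ℕ → Submodule k (MvPolynomial (Fin 3) k))
    (hW : ∀ n, FiniteDimensional k (mulS1 (W n))) (n : ℕ) :
    bdim (fun n => ext (K := K) (W n)) n = bdim W n := by
  cases n with
  | zero => rfl
  | succ n =>
    show finrank K (mulS1 (ext (K := K) (W n))) = finrank k (mulS1 (W n))
    haveI := hW n
    rw [← ext_mulS1, finrank_ext]

/-- decomposition along a basis of `K` over `k`. -/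
theorem exists_decomp {ι : Type*} (b : Basis ι k K) (f : MvPolynomial (Fin 3) K) :
    ∃ g : ι →₀ MvPolynomial (Fin 3) k,
      f = g.sum fun j gj => b j • map (algebraMap k K) gj := by
  classical
  induction f using MvPolynomial.induction_on' with
  | monomial m c =>
    refine ⟨(b.repr c).mapRange (monomial m) (by simp), ?_⟩
    rw [Finsupp.sum_mapRange_index (by simp)]
    have h1 : ∀ (j : ι) (r : k), b j • map (algebraMap k K) (monomial m r) =
        monomial m (r • b j) := by
      intro j r
      rw [map_monomial, smul_monomial, smul_eq_mul, Algebra.smul_def, mul_comm]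
    simp_rw [h1]
    conv_lhs => rw [← b.linearCombination_repr c, Finsupp.linearCombination_apply]
    rw [Finsupp.sum, Finsupp.sum, map_sum]
  | add p q hp hq =>
    obtain ⟨g, rfl⟩ := hp
    obtain ⟨g', rfl⟩ := hq
    refine ⟨g + g', (Finsupp.sum_add_index' (by simp) ?_).symm⟩
    intro j x y
    rw [map_add, smul_add]

theorem homogeneousComponent_map (n : ℕ) (f : MvPolynomial (Fin 3) k) :
    homogeneousComponent n (map (algebraMap k K) f) =
      map (algebraMap k K) (homogeneousComponent n f) := by
  ext m
  rw [coeff_homogeneousComponent, coeff_map, coeff_map, coeff_homogeneousComponent]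
  split_ifs
  · rfl
  · rw [map_zero]

theorem eval_map' (p : Fin 3 → k) (f : MvPolynomial (Fin 3) k) :
    eval (fun i => algebraMap k K (p i)) (map (algebraMap k K) f) = algebraMap k K (eval p f) := by
  rw [eval_map]
  have := eval₂_comp_left (algebraMap k K) (RingHom.id k) p f
  rw [eval₂_id, RingHom.comp_id] at this
  exact this.symm

theorem ext_vgrade (Z : Finset (Fin 3 → k)) (n : ℕ) [DecidableEq (Fin 3 → K)] :
    ext (K := K) (vgrade Z n) =
      vgrade (Z.image fun p => fun i => algebraMap k K (p i)) n := by
  classical
  apply le_antisymm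
  · apply Submodule.span_le.2
    rintro _ ⟨f, hf, rfl⟩
    refine ⟨hf.1.map _, fun p hp => ?_⟩
    rw [Finset.mem_image] at hp
    obtain ⟨p', hp', rfl⟩ := hp
    rw [eval_map', hf.2 p' hp', map_zero]
  · intro f hf
    let b := Basis.ofVectorSpace k K
    obtain ⟨g, hg⟩ := exists_decomp b f
    -- homogeneous parts
    have hf' : f = ∑ j ∈ g.support, b j • map (algebraMap k K) (homogeneousComponent n (g j)) := by
      conv_lhs => rw [← homogeneousComponent_eq_self hf.1, hg, Finsupp.sum, map_sum]
      refine Finset.sum_congr rfl fun j _ => ?_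
      rw [LinearMap.map_smul_of_tower, homogeneousComponent_map]
    have hvan : ∀ j ∈ g.support, homogeneousComponent n (g j) ∈ vgrade Z n := by
      intro j hj
      refine ⟨homogeneousComponent_isHomogeneous n _, fun p hp => ?_⟩
      have h1 := hf.2 (fun i => algebraMap k K (p i)) (Finset.mem_image.2 ⟨p, hp, rfl⟩)
      rw [hf', map_sum] at h1
      have h2 : ∑ j ∈ g.support, (eval p (homogeneousComponent n (g j))) • b j = 0 := by
        rw [← h1]
        refine Finset.sum_congr rfl fun j _ => ?_
        rw [smul_eval, eval_map', Algebra.smul_def, mul_comm]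
      exact linearIndependent_iff'.1 b.linearIndependent g.support
        (fun j => eval p (homogeneousComponent n (g j))) h2 j hj
    rw [hf']
    exact Submodule.sum_mem _ fun j hj => Submodule.smul_mem _ _ (map_mem_ext (hvan j hj))

end descent

end Groth.Agent.Helper7.Dub
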