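import Groth.Agent.Helper7.Dub5

set_option autoImplicit false
universe u

namespace Groth.Agent.Helper7.Dub

open MvPolynomial Module Finset

theorem result12914 (k : Type u) [Field k]
    (Z : Finset (Fin 3 → k)) (hZ : ∀ p ∈ Z, p ≠ 0) (I : Ideal (MvPolynomial (Fin 3) k))
    (hI : ∀ f : MvPolynomial (Fin 3) k, f ∈ I ↔
      ∀ p ∈ Z, ∀ j : ℕ, MvPolynomial.eval p (MvPolynomial.homogeneousComponent j f) = 0)
    (d : ℕ) (hf : ∃ f ∈ I, MvPolynomial.IsHomogeneous f d ∧ f ≠ 0) :
    Submodule.spanFinrank I ≤ d + 1 := by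
  classical
  have hom : ∀ f ∈ I, ∀ n, homogeneousComponent n f ∈ I := by
    intro f hf n
    rw [hI] at hf ⊢
    intro p hp j
    rw [homogeneousComponent_of_mem (homogeneousComponent_isHomogeneous n f)]
    split_ifs
    · exact hf p hp n
    · exact map_zero _
  have hgr : ∀ n, grade I n = vgrade Z n := by
    intro n
    ext f
    rw [mem_grade, mem_vgrade]
    constructor
    · rintro ⟨hfI, hfh⟩
      refine ⟨hfh, fun p hp => ?_⟩
      have := (hI f).1 hfI p hp n
      rwa [homogeneousComponent_eq_self hfh] at this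
    · rintro ⟨hfh, hv⟩
      refine ⟨(hI f).2 fun p hp j => ?_, hfh⟩
      rw [homogeneousComponent_of_mem hfh]
      split_ifs
      · exact hv p hp
      · exact map_zero _
  obtain ⟨M, hM⟩ := spanFinrank_le_sum I hom
  refine hM.trans ?_
  let K := AlgebraicClosure k
  let ZK : Finset (Fin 3 → K) := Z.image fun p => fun i => algebraMap k K (p i)
  have hZK : ∀ p ∈ ZK, p ≠ 0 := by
    intro p hp
    obtain ⟨p', hp', rfl⟩ := Finset.mem_image.1 hp
    intro h
    apply hZ p' hp'
    funext i
    have := congrFun h i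
    exact (algebraMap k K).injective (this.trans (map_zero _).symm)
  obtain ⟨t, ht⟩ := exists_ell ZK hZK
  have hfam := vgrade_fam ZK t (t ^ 2) ht
  have hgrK : ∀ n, ext (K := K) (grade I n) = vgrade ZK n := fun n => by
    rw [hgr n, ext_vgrade]
  have hne : vgrade ZK d ≠ ⊥ := by
    obtain ⟨f, hfI, hfh, hf0⟩ := hf
    rw [← hgrK d]
    intro hbot
    have : map (algebraMap k K) f ∈ ext (K := K) (grade I d) :=
      map_mem_ext (mem_grade.2 ⟨hfI, hfh⟩)
    rw [hbot, Submodule.mem_bot] at this
    exact hf0 (map_injective _ (algebraMap k K).injective (this.trans (map_zero _).symm))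
  have hsum := hfam.sum_le d hne M
  have heq : ∀ n, finrank K (vgrade ZK n) - bdim (vgrade ZK) n =
      finrank k (grade I n) - bdim (grade I) n := by
    intro n
    have h1 : finrank K (vgrade ZK n) = finrank k (grade I n) := by
      rw [← hgrK n, finrank_ext]
    have h2 : bdim (vgrade ZK) n = bdim (grade I) n := by
      have : vgrade ZK = fun n => ext (K := K) (grade I n) := by
        funext m
        exact (hgrK m).symm
      rw [this, bdim_ext]
      intro m
      exact Submodule.finiteDimensional_of_le (mulS1_grade_le I m)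
    rw [h1, h2]
  calc ∑ n ∈ range (M + 1), (finrank k (grade I n) - bdim (grade I) n)
      = ∑ n ∈ range (M + 1), (finrank K (vgrade ZK n) - bdim (vgrade ZK) n) :=
        Finset.sum_congr rfl fun n _ => (heq n).symm
    _ ≤ d + 1 := hsum

end Groth.Agent.Helper7.Dub
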