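import Mathlib

set_option autoImplicit false

namespace Groth.Agent.Helper7.DvrSub

open TensorProduct Module

universe u v

theorem exists_one_tmul {R : Type*} [CommRing R] [IsLocalRing R] {M : Type*} [AddCommGroup M]
    [Module R M] (t : IsLocalRing.ResidueField R ⊗[R] M) :
    ∃ x : M, (1 : IsLocalRing.ResidueField R) ⊗ₜ[R] x = t := by
  induction t using TensorProduct.induction_on with
  | zero => exact ⟨0, by simp⟩
  | tmul a y =>
    obtain ⟨r, rfl⟩ := IsLocalRing.residue_surjective a
    refine ⟨r • y, ?_⟩
    rw [TensorProduct.tmul_smul, TensorProduct.smul_tmul']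
    congr 1
    rw [Algebra.smul_def, mul_one]; rfl
  | add a b ha hb =>
    obtain ⟨x, rfl⟩ := ha
    obtain ⟨y, rfl⟩ := hb
    exact ⟨x + y, by rw [TensorProduct.tmul_add]⟩

theorem main (R : Type u) [CommRing R] [IsDomain R] [IsPrincipalIdealRing R] [IsLocalRing R]
    (M : Type v) [AddCommGroup M] [Module R M] [Module.Finite R M]
    (N : Submodule R M) :
    Module.finrank (IsLocalRing.ResidueField R) (IsLocalRing.ResidueField R ⊗[R] N) ≤
      Module.finrank (IsLocalRing.ResidueField R) (IsLocalRing.ResidueField R ⊗[R] M) := by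
  classical
  set m := Module.finrank (IsLocalRing.ResidueField R) (IsLocalRing.ResidueField R ⊗[R] M) with hm
  let b : Basis (Fin m) (IsLocalRing.ResidueField R) (IsLocalRing.ResidueField R ⊗[R] M) :=
    Module.finBasis _ _
  have hx : ∀ i, ∃ x : M, (1 : IsLocalRing.ResidueField R) ⊗ₜ[R] x = b i :=
    fun i => exists_one_tmul (b i)
  choose x hx using hx
  have hspan := IsLocalRing.span_eq_top_of_tmul_eq_basis x b hx
  let G : (Fin m → R) →ₗ[R] M := Fintype.linearCombination R x
  have hG : Function.Surjective G := by
    rw [← LinearMap.range_eq_top, Fintype.range_linearCombination, hspan]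
  let P : Submodule R (Fin m → R) := N.comap G
  let g : P →ₗ[R] N := G.restrict (fun p hp => hp)
  have hg : Function.Surjective g := by
    rintro ⟨y, hy⟩
    obtain ⟨c, rfl⟩ := hG y
    exact ⟨⟨c, hy⟩, rfl⟩
  have hgk : Function.Surjective (g.baseChange (IsLocalRing.ResidueField R)) := by
    rw [LinearMap.baseChange_eq_ltensor]
    exact LinearMap.lTensor_surjective _ hg
  have h1 := LinearMap.finrank_le_finrank_of_surjective hgk
  have h2 : Module.finrank (IsLocalRing.ResidueField R) (IsLocalRing.ResidueField R ⊗[R] P) =
      Module.finrank R P := Module.finrank_baseChange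
  have h3 : Module.finrank R P ≤ Module.finrank R (Fin m → R) := Submodule.finrank_le P
  rw [Module.finrank_fin_fun] at h3
  omega

end Groth.Agent.Helper7.DvrSub
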