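import Mathlib

/-!
# Flatness over a base `R` and (faithfully) flat base change of the algebra

`A` an `R`-algebra, `M` an `A`-module (compatibly an `R`-module), `B` a flat `A`-algebra.
* `flat_tensor` : `M` flat over `R` ⇒ `B ⊗[A] M` flat over `R`.
* `flat_of_tensor` : `B` faithfully flat over `A`, `B ⊗[A] M` flat over `R` ⇒ `M` flat over `R`.
Versions for `IsBaseChange`.
-/

set_option autoImplicit false
universe u v w
open scoped TensorProduct
open TensorProduct

namespace Groth.Agent.Helper7.EDv

section Tensor

variable (R : Type*) [CommRing R] (A : Type*) [CommRing A] [Algebra R A]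
  (B : Type*) [CommRing B] [Algebra A B] [Algebra R B] [IsScalarTower R A B]
  (M : Type*) [AddCommGroup M] [Module A M] [Module R M] [IsScalarTower R A M]

/-- naturality square for the associator. -/
theorem assoc_nat {X Y : Type*} [AddCommGroup X] [AddCommGroup Y] [Module R X] [Module R Y]
    (f : X →ₗ[R] Y) (t : (B ⊗[A] M) ⊗[R] X) :
    AlgebraTensorModule.assoc R A B B M Y (f.lTensor (B ⊗[A] M) t) =
      (AlgebraTensorModule.lTensor A M f).lTensor B (AlgebraTensorModule.assoc R A B B M X t) := by
  induction t using TensorProduct.induction_on with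
  | zero => simp
  | add x y hx hy => simp only [map_add, hx, hy]
  | tmul bm x =>
    induction bm using TensorProduct.induction_on with
    | zero => simp
    | add a b ha hb =>
      simp only [TensorProduct.add_tmul, map_add, ha, hb]
    | tmul b m =>
      simp

theorem lTensor_inj_iff {X Y : Type*} [AddCommGroup X] [AddCommGroup Y] [Module R X] [Module R Y]
    (f : X →ₗ[R] Y) :
    Function.Injective (f.lTensor (B ⊗[A] M)) ↔
      Function.Injective ((AlgebraTensorModule.lTensor A M f).lTensor B) := by
  constructor
  · intro h a b hab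
    have ha := (AlgebraTensorModule.assoc R A B B M X).surjective a
    have hb := (AlgebraTensorModule.assoc R A B B M X).surjective b
    obtain ⟨a', rfl⟩ := ha
    obtain ⟨b', rfl⟩ := hb
    rw [← assoc_nat, ← assoc_nat] at hab
    have := h ((AlgebraTensorModule.assoc R A B B M Y).injective hab)
    rw [this]
  · intro h a b hab
    apply (AlgebraTensorModule.assoc R A B B M X).injective
    apply h
    rw [← assoc_nat, ← assoc_nat, hab]

theorem flat_tensor [Module.Flat A B] [Module.Flat R M] : Module.Flat R (B ⊗[A] M) := by
  rw [Module.Flat.iff_lTensor_injective']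
  intro I
  rw [lTensor_inj_iff]
  apply Module.Flat.lTensor_preserves_injective_linearMap
  have := Module.Flat.lTensor_preserves_injective_linearMap (M := M) I.subtype
    Subtype.val_injective
  exact this

theorem flat_of_tensor [Module.FaithfullyFlat A B] (h : Module.Flat R (B ⊗[A] M)) :
    Module.Flat R M := by
  rw [Module.Flat.iff_lTensor_injective']
  intro I
  have h1 := Module.Flat.lTensor_preserves_injective_linearMap (M := B ⊗[A] M) I.subtype
    Subtype.val_injective
  rw [lTensor_inj_iff] at h1
  have h2 := (Module.FaithfullyFlat.lTensor_injective_iff_injective A B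
    (AlgebraTensorModule.lTensor A M I.subtype)).mp h1
  exact h2

end Tensor

section BaseChange

variable (R : Type*) [CommRing R] {A : Type*} [CommRing A] [Algebra R A]
  (B : Type*) [CommRing B] [Algebra A B] [Algebra R B] [IsScalarTower R A B]
  {M : Type*} [AddCommGroup M] [Module A M] [Module R M] [IsScalarTower R A M]
  {M' : Type*} [AddCommGroup M'] [Module A M'] [Module B M'] [Module R M']
  [IsScalarTower A B M'] [IsScalarTower R B M']
  {g : M →ₗ[A] M'}

theorem flat_of_isBaseChange (hg : IsBaseChange B g) [Module.Flat A B] [Module.Flat R M] :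
    Module.Flat R M' := by
  have := flat_tensor R A B M
  exact Module.Flat.of_linearEquiv (hg.equiv.restrictScalars R).symm

theorem flat_of_isBaseChange_of_faithfullyFlat (hg : IsBaseChange B g) [Module.FaithfullyFlat A B]
    (h : Module.Flat R M') : Module.Flat R M := by
  apply flat_of_tensor R A B M
  exact Module.Flat.of_linearEquiv (hg.equiv.restrictScalars R)

theorem flat_iff_of_isBaseChange (hg : IsBaseChange B g) [Module.FaithfullyFlat A B] :
    Module.Flat R M ↔ Module.Flat R M' :=
  ⟨fun _ => flat_of_isBaseChange R B hg, flat_of_isBaseChange_of_faithfullyFlat R B hg⟩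

end BaseChange

section Square

variable (R : Type*) [CommRing R] {S A S' B : Type*} [CommRing S] [CommRing A] [CommRing S']
  [CommRing B] [Algebra S A] [Algebra S S'] [Algebra S' B] [Algebra A B] [Algebra S B]
  [IsScalarTower S A B] [IsScalarTower S S' B] [Algebra R A] [Algebra R B] [IsScalarTower R A B]
  {N NA G GB : Type*} [AddCommGroup N] [AddCommGroup NA] [AddCommGroup G] [AddCommGroup GB]
  [Module S N] [Module S NA] [Module A NA] [IsScalarTower S A NA] [Module R NA]
  [IsScalarTower R A NA]
  [Module S G] [Module S' G] [IsScalarTower S S' G]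
  [Module S GB] [Module S' GB] [Module B GB] [Module A GB] [IsScalarTower S' B GB]
  [IsScalarTower S S' GB] [IsScalarTower S B GB] [IsScalarTower A B GB] [IsScalarTower S A GB]
  [Module R GB] [IsScalarTower R B GB]

theorem isBaseChange_square {f1 : N →ₗ[S] NA} (h1 : IsBaseChange A f1) {g : N →ₗ[S] G}
    (hg : IsBaseChange S' g) {f2 : G →ₗ[S'] GB} (h2 : IsBaseChange B f2) :
    IsBaseChange B (h1.lift ((f2.restrictScalars S).comp g)) := by
  apply IsBaseChange.of_comp h1
  have h3 : IsBaseChange B ((f2.restrictScalars S).comp g) := hg.comp h2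
  have e : ((h1.lift ((f2.restrictScalars S).comp g)).restrictScalars S).comp f1 =
      (f2.restrictScalars S).comp g := h1.lift_comp _
  rw [e]
  exact h3

theorem flat_iff_of_square [Module.FaithfullyFlat A B] {f1 : N →ₗ[S] NA} (h1 : IsBaseChange A f1)
    {g : N →ₗ[S] G} (hg : IsBaseChange S' g) {f2 : G →ₗ[S'] GB} (h2 : IsBaseChange B f2) :
    Module.Flat R NA ↔ Module.Flat R GB :=
  flat_iff_of_isBaseChange R B (isBaseChange_square h1 hg h2)

end Square

end Groth.Agent.Helper7.EDv
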