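import Groth.Agent.Helper7.EDvA

set_option autoImplicit false
set_option linter.style.haveILetI false
universe u v w
open scoped TensorProduct
open TensorProduct

namespace Groth.Agent.Helper7.EDv

section AtPrime

variable (R : Type*) {S S' : Type*} [CommRing R] [CommRing S] [CommRing S'] [Algebra R S]
  [Algebra S S'] [Algebra R S'] [IsScalarTower R S S'] [Module.Flat S S']
  (q : Ideal S) [q.IsPrime] (q' : Ideal S') [q'.IsPrime] [q'.LiesOver q]
  {N : Type*} [AddCommGroup N] [Module S N] [Module R N] [IsScalarTower R S N]
  {G : Type*} [AddCommGroup G] [Module S' G] [Module S G] [IsScalarTower S S' G] [Module R G]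
  [IsScalarTower R S' G]

/-- Flatness over `R` of `N_q` is equivalent to that of `G_{q'}` when `G` is the base change of `N`
along a flat map `S → S'` and `q'` lies over `q`. -/
theorem flatAt_iff_of_isBaseChange {g : N →ₗ[S] G} (hg : IsBaseChange S' g) :
    Module.Flat R (LocalizedModule q.primeCompl N) ↔
      Module.Flat R (LocalizedModule q'.primeCompl G) := by
  letI := Localization.AtPrime.algebraOfLiesOver q q'
  letI : Module (Localization.AtPrime q) (LocalizedModule q'.primeCompl G) :=
    Module.compHom _ (algebraMap (Localization.AtPrime q) (Localization.AtPrime q'))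
  haveI : IsScalarTower (Localization.AtPrime q) (Localization.AtPrime q')
      (LocalizedModule q'.primeCompl G) := IsScalarTower.of_compHom _ _ _
  haveI : IsScalarTower S (Localization.AtPrime q) (LocalizedModule q'.primeCompl G) := by
    refine IsScalarTower.of_algebraMap_smul fun r x => ?_
    change (algebraMap (Localization.AtPrime q) (Localization.AtPrime q')
      (algebraMap S (Localization.AtPrime q) r)) • x = r • x
    rw [← IsScalarTower.algebraMap_apply S (Localization.AtPrime q) (Localization.AtPrime q'),
      algebraMap_smul]
  haveI : Module.FaithfullyFlat (Localization.AtPrime q) (Localization.AtPrime q') :=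
    Module.FaithfullyFlat.of_flat_of_isLocalHom
  exact flat_iff_of_square R (A := Localization.AtPrime q) (B := Localization.AtPrime q')
    (LocalizedModule.isBaseChange q.primeCompl N) hg
    (LocalizedModule.isBaseChange q'.primeCompl G)

end AtPrime

end Groth.Agent.Helper7.EDv
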