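import Groth.Agent.Helper7.EDvB

set_option autoImplicit false
set_option linter.style.haveILetI false
universe u v w
open scoped TensorProduct
open TensorProduct

namespace Groth.Agent.Helper7.EDv

section LocTransfer

variable {D C : Type*} [CommRing D] [CommRing C] [Algebra D C]
  {G : Type*} [AddCommGroup G] [Module C G] [Module D G] [IsScalarTower D C G]
  (T : Submonoid D) (U : Submonoid C)

/-- The `C`-localization of `G` at `U` is also the `D`-localization at `T`, when `T` maps into `U`
and every element of `U` divides the image of an element of `T`. -/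
theorem isLocalizedModule_of_dvd (h1 : ∀ t ∈ T, algebraMap D C t ∈ U)
    (h2 : ∀ u ∈ U, ∃ c : C, ∃ t ∈ T, u * c = algebraMap D C t) :
    IsLocalizedModule T ((LocalizedModule.mkLinearMap U G).restrictScalars D) := by
  constructor
  · intro t
    have hu : IsUnit (algebraMap C (Module.End C (LocalizedModule U G)) (algebraMap D C t)) :=
      IsLocalizedModule.map_units (LocalizedModule.mkLinearMap U G) ⟨_, h1 t t.2⟩
    rw [Module.End.isUnit_iff] at hu ⊢
    convert hu using 1
    ext x
    simp [Module.algebraMap_end_apply]
  · intro y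
    induction y using LocalizedModule.induction_on with
    | _ g u =>
      obtain ⟨c, t, ht, hc⟩ := h2 u u.2
      refine ⟨(c • g, ⟨t, ht⟩), ?_⟩
      change t • LocalizedModule.mk g u = LocalizedModule.mk (c • g) 1
      rw [LocalizedModule.smul'_mk, LocalizedModule.mk_eq]
      refine ⟨1, ?_⟩
      simp only [one_smul]
      rw [← algebraMap_smul C t g, ← hc, mul_smul]
      rfl
  · intro x₁ x₂ h
    change LocalizedModule.mk x₁ 1 = LocalizedModule.mk x₂ 1 at h
    rw [LocalizedModule.mk_eq] at h
    obtain ⟨u, hu⟩ := h
    obtain ⟨c, t, ht, hc⟩ := h2 u u.2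
    refine ⟨⟨t, ht⟩, ?_⟩
    simp only [one_smul, Submonoid.smul_def] at hu
    change t • x₁ = t • x₂
    rw [← algebraMap_smul C t x₁, ← algebraMap_smul C t x₂, ← hc, mul_comm, mul_smul, mul_smul, hu]

variable (R' : Type*) [CommRing R'] [Algebra R' D] [Algebra R' C]
  [Module R' G] [IsScalarTower R' D G] [IsScalarTower R' C G]

theorem isScalarTower_loc : IsScalarTower R' D (LocalizedModule U G) := by
  refine ⟨fun r d x => ?_⟩
  induction x using LocalizedModule.induction_on with
  | _ g u =>
    rw [LocalizedModule.smul'_mk, LocalizedModule.smul'_mk, LocalizedModule.smul'_mk, smul_assoc]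

/-- Flatness over `R'` of the two localizations agree. -/
theorem flat_localizedModule_iff (h1 : ∀ t ∈ T, algebraMap D C t ∈ U)
    (h2 : ∀ u ∈ U, ∃ c : C, ∃ t ∈ T, u * c = algebraMap D C t) :
    Module.Flat R' (LocalizedModule T G) ↔ Module.Flat R' (LocalizedModule U G) := by
  haveI := isLocalizedModule_of_dvd (G := G) T U h1 h2
  haveI := isScalarTower_loc (D := D) (G := G) U R'
  let e : LocalizedModule T G ≃ₗ[R'] LocalizedModule U G :=
    (IsLocalizedModule.iso T ((LocalizedModule.mkLinearMap U G).restrictScalars D)).restrictScalars R'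
  exact Module.Flat.equiv_iff e

end LocTransfer

section Unique

variable {D C : Type*} [CommRing D] [CommRing C] [Algebra D C] [Algebra.IsIntegral D C]
  (y : Ideal D) [y.IsPrime] (z : Ideal C) [z.IsPrime]

/-- If `z` is the only prime of the integral `D`-algebra `C` over `y`, every element outside `z`
divides the image of an element outside `y`. -/
theorem exists_mul_eq_of_unique_prime
    (uniq : ∀ (z₁ : Ideal C) [z₁.IsPrime], z₁.LiesOver y → z₁ = z) (u : C) (hu : u ∉ z) :
    ∃ c : C, ∃ t ∈ y.primeCompl, u * c = algebraMap D C t := by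
  by_contra hcon
  push Not at hcon
  have hle : (Ideal.span {u}).comap (algebraMap D C) ≤ y := by
    intro d hd
    by_contra hdy
    rw [Ideal.mem_comap, Ideal.mem_span_singleton'] at hd
    obtain ⟨c, hc⟩ := hd
    exact hcon c d hdy (by rw [← hc, mul_comm])
  obtain ⟨Q, hQ, hQp, hQy⟩ := Ideal.exists_ideal_over_prime_of_isIntegral y (Ideal.span {u}) hle
  have := uniq Q ⟨hQy.symm⟩
  apply hu
  rw [← this]
  exact hQ (Ideal.subset_span rfl)

end Unique

end Groth.Agent.Helper7.EDv
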