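import Groth.Agent.Helper7.EDvC
import Groth.Prelude.Def_FlatCA

set_option autoImplicit false
set_option linter.style.haveILetI false
universe u
open scoped TensorProduct
open TensorProduct FlatCA

namespace Groth.Agent.Helper7.EDv

variable {R S : Type u} [CommRing R] [CommRing S] [Algebra R S]
  {N : Type u} [AddCommGroup N] [Module S N] [Module R N] [IsScalarTower R S N]
  {p : Ideal R} [p.IsPrime] {q : Ideal S} [q.IsPrime] {n : ℕ} (E : ElemDevissage R S N p q n)

theorem tfae_one : [FlatAt R q N, FlatAt E.R' E.z E.G, FlatAt E.R' E.y E.G].TFAE := by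
  letI mSG : Module S E.G := Module.compHom E.G (algebraMap S E.S')
  haveI tSS'G : IsScalarTower S E.S' E.G := IsScalarTower.of_compHom _ _ _
  letI mRG : Module R E.G := Module.compHom E.G (algebraMap R E.R')
  haveI tRR'G : IsScalarTower R E.R' E.G := IsScalarTower.of_compHom _ _ _
  haveI tR'S'G : IsScalarTower E.R' E.S' E.G := by
    refine IsScalarTower.of_algebraMap_smul fun r x => ?_
    rw [← algebraMap_smul E.C (algebraMap E.R' E.S' r) x,
      ← IsScalarTower.algebraMap_apply E.R' E.S' E.C, algebraMap_smul]
  haveI tRS'G : IsScalarTower R E.S' E.G := by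
    refine IsScalarTower.of_algebraMap_smul fun r x => ?_
    rw [IsScalarTower.algebraMap_apply R E.R' E.S', algebraMap_smul, algebraMap_smul]
  obtain ⟨hetS, hqq, -⟩ := E.etaleS
  obtain ⟨hetR, -, -⟩ := E.etaleR
  -- the base change map `N → G`
  have hg : IsBaseChange E.S' ((E.iso.restrictScalars S).toLinearMap.comp E.f) := by
    refine IsBaseChange.of_equiv (E.isBaseChange.equiv.trans E.iso) (fun x => ?_)
    simp [IsBaseChange.equiv_tmul]
  have e1 : FlatAt R q N ↔ Module.Flat R (LocalizedModule E.q'.primeCompl E.G) :=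
    flatAt_iff_of_isBaseChange R q E.q' hg
  haveI tRR'L : IsScalarTower R E.R' (LocalizedModule E.q'.primeCompl E.G) := by
    refine ⟨fun r r' x => ?_⟩
    induction x using LocalizedModule.induction_on with
    | _ g u =>
      rw [LocalizedModule.smul'_mk, LocalizedModule.smul'_mk, LocalizedModule.smul'_mk, smul_assoc]
  have e2 : Module.Flat R (LocalizedModule E.q'.primeCompl E.G) ↔
      Module.Flat E.R' (LocalizedModule E.q'.primeCompl E.G) :=
    ⟨fun _ => Algebra.FormallyUnramified.flat_of_restrictScalars R E.R' _,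
      fun _ => Module.Flat.trans R E.R' _⟩
  have e3 : Module.Flat E.R' (LocalizedModule E.q'.primeCompl E.G) ↔ FlatAt E.R' E.z E.G := by
    refine flat_localizedModule_iff (D := E.S') (C := E.C) E.q'.primeCompl E.z.primeCompl E.R'
      ?_ ?_
    · intro t ht hz
      apply ht
      have := E.zOver.over
      rw [this]
      exact hz
    · intro u hu
      obtain ⟨s, rfl⟩ := E.surjC u
      refine ⟨1, s, ?_, by simp⟩
      intro hs
      apply hu
      have := E.zOver.over
      rw [this] at hs
      exact hs
  haveI : Algebra.IsIntegral E.D E.C := by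
    haveI := E.finiteDC
    infer_instance
  have e4 : FlatAt E.R' E.y E.G ↔ FlatAt E.R' E.z E.G := by
    refine flat_localizedModule_iff (D := E.D) (C := E.C) E.y.primeCompl E.z.primeCompl E.R'
      ?_ ?_
    · intro t ht hz
      apply ht
      have := E.zOverY.over
      rw [this]
      exact hz
    · intro u hu
      exact exists_mul_eq_of_unique_prime E.y E.z (fun z₁ _ h => E.uniq z₁ h) u hu
  tfae_have 1 ↔ 2 := e1.trans (e2.trans e3)
  tfae_have 3 ↔ 2 := e4
  tfae_finish

end Groth.Agent.Helper7.EDv
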