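import Groth.Agent.Helper7.EDvC

set_option autoImplicit false
set_option linter.style.haveILetI false
universe u v w
open scoped TensorProduct
open TensorProduct

namespace Groth.Agent.Helper7.EDv

section Mono

variable (R' : Type*) [CommRing R'] {C : Type*} [CommRing C] [Algebra R' C]
  {G : Type*} [AddCommGroup G] [Module C G] [Module R' G] [IsScalarTower R' C G]

/-- Localizing further preserves flatness over the base. -/
theorem flat_loc_mono {U U' : Submonoid C} (h : U ≤ U')
    (hf : Module.Flat R' (LocalizedModule U G)) : Module.Flat R' (LocalizedModule U' G) := by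
  have hb : IsBaseChange (Localization U') (LocalizedModule.liftOfLE (M := G) U U' h) :=
    IsLocalizedModule.isBaseChange U' (Localization U') _
  exact flat_of_isBaseChange R' (Localization U') hb

/-- The saturation of the powers of an element. -/
def sat (a : C) : Submonoid C where
  carrier := {u | ∃ (k : ℕ) (c : C), u * c = a ^ k}
  one_mem' := ⟨0, 1, by simp⟩
  mul_mem' := by
    rintro u v ⟨k, c, hc⟩ ⟨l, d, hd⟩
    exact ⟨k + l, c * d, by rw [pow_add, ← hc, ← hd]; ring⟩

theorem powers_le_sat (a b : C) : Submonoid.powers a ≤ sat (a * b) := by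
  rintro _ ⟨k, rfl⟩
  exact ⟨k, b ^ k, by rw [mul_pow]⟩

end Mono

section Comp

variable {S : Type*} [CommRing S] {M M₁ M₂ : Type*} [AddCommGroup M] [AddCommGroup M₁]
  [AddCommGroup M₂] [Module S M] [Module S M₁] [Module S M₂]

theorem isLocalizedModule_comp {S₁ S₂ : Submonoid S} (h : S₁ ≤ S₂) (f : M →ₗ[S] M₁)
    [IsLocalizedModule S₁ f] (g : M₁ →ₗ[S] M₂) [IsLocalizedModule S₂ g] :
    IsLocalizedModule S₂ (g.comp f) := by
  constructor
  · exact IsLocalizedModule.map_units g
  · intro y
    obtain ⟨⟨x₁, s₂⟩, h2⟩ := IsLocalizedModule.surj S₂ g y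
    obtain ⟨⟨x, s₁⟩, h1⟩ := IsLocalizedModule.surj S₁ f x₁
    refine ⟨(x, ⟨s₁.1 * s₂.1, S₂.mul_mem (h s₁.2) s₂.2⟩), ?_⟩
    simp only [LinearMap.comp_apply] at h1 h2 ⊢
    rw [← h1, Submonoid.smul_def, Submonoid.smul_def, map_smul, ← h2, Submonoid.smul_def, mul_smul]
  · intro x x' hx
    simp only [LinearMap.comp_apply] at hx
    obtain ⟨s₂, h2⟩ := IsLocalizedModule.exists_of_eq (S := S₂) (f := g) hx
    rw [Submonoid.smul_def, Submonoid.smul_def, ← map_smul, ← map_smul] at h2
    obtain ⟨s₁, h1⟩ := IsLocalizedModule.exists_of_eq (S := S₁) (f := f) h2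
    refine ⟨⟨s₁.1 * s₂.1, S₂.mul_mem (h s₁.2) s₂.2⟩, ?_⟩
    rw [Submonoid.smul_def, Submonoid.smul_def] at h1 ⊢
    simpa [mul_smul] using h1

end Comp

section LocBC

variable (R : Type*) {S S' : Type*} [CommRing R] [CommRing S] [CommRing S'] [Algebra R S]
  [Algebra S S'] [Algebra R S'] [IsScalarTower R S S'] [Module.Flat S S']
  (T : Submonoid S)
  {N : Type*} [AddCommGroup N] [Module S N] [Module R N] [IsScalarTower R S N]
  {G : Type*} [AddCommGroup G] [Module S' G] [Module S G] [IsScalarTower S S' G] [Module R G]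
  [IsScalarTower R S' G]

/-- Localization commutes with flat base change, flatness form. -/
theorem flat_loc_of_isBaseChange {g : N →ₗ[S] G} (hg : IsBaseChange S' g)
    (hf : Module.Flat R (LocalizedModule T N)) :
    Module.Flat R (LocalizedModule (Algebra.algebraMapSubmonoid S' T) G) := by
  let A := Localization T
  let B := Localization (Algebra.algebraMapSubmonoid S' T)
  letI : Module A (LocalizedModule (Algebra.algebraMapSubmonoid S' T) G) :=
    Module.compHom _ (algebraMap A B)
  haveI : IsScalarTower A B (LocalizedModule (Algebra.algebraMapSubmonoid S' T) G) :=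
    IsScalarTower.of_compHom _ _ _
  haveI : IsScalarTower S A (LocalizedModule (Algebra.algebraMapSubmonoid S' T) G) := by
    refine IsScalarTower.of_algebraMap_smul fun r x => ?_
    change (algebraMap A B (algebraMap S A r)) • x = r • x
    rw [← IsScalarTower.algebraMap_apply S A B, algebraMap_smul]
  haveI : Module.Flat A B := by
    rw [Module.flat_iff_of_isLocalization A T B]
    infer_instance
  haveI : IsScalarTower R A B := by
    refine IsScalarTower.of_algebraMap_eq fun r => ?_
    rw [IsScalarTower.algebraMap_apply R S A, ← IsScalarTower.algebraMap_apply S A B,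
      ← IsScalarTower.algebraMap_apply R S B]
  have hb := isBaseChange_square (A := A) (B := B)
    (LocalizedModule.isBaseChange T N) hg
    (LocalizedModule.isBaseChange (Algebra.algebraMapSubmonoid S' T) G)
  exact flat_of_isBaseChange R B hb

end LocBC

end Groth.Agent.Helper7.EDv
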