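import Groth.Agent.Helper7.EDvE

set_option autoImplicit false
set_option linter.style.haveILetI false
universe u v w
open scoped TensorProduct
open TensorProduct

namespace Groth.Agent.Helper7.EDv

section Away

variable (R : Type*) [CommRing R] {S : Type*} [CommRing S] [Algebra R S]
  {N : Type*} [AddCommGroup N] [Module S N] [Module R N] [IsScalarTower R S N]

/-- Flatness over `R` of `N_g` can be checked at the primes of `D(g)`. -/
theorem flat_away_of_forall_prime (g : S)
    (H : ∀ (𝔮 : Ideal S) [𝔮.IsPrime], g ∉ 𝔮 →
      Module.Flat R (LocalizedModule 𝔮.primeCompl N)) :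
    Module.Flat R (LocalizedModule (Submonoid.powers g) N) := by
  let A := Localization.Away g
  let M := LocalizedModule (Submonoid.powers g) N
  refine Module.flat_of_isLocalized_maximal (R := R) A M
    (fun P _ => LocalizedModule P.primeCompl M)
    (fun P _ => LocalizedModule.mkLinearMap P.primeCompl M) ?_
  intro P hP
  let 𝔮 : Ideal S := P.comap (algebraMap S A)
  haveI : 𝔮.IsPrime := Ideal.comap_isPrime _ _
  have hg𝔮 : g ∉ 𝔮 := by
    intro hg
    have hu : IsUnit (algebraMap S A g) := IsLocalization.Away.algebraMap_isUnit g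
    exact hP.ne_top (Ideal.eq_top_of_isUnit_mem _ hg hu)
  have hle : Submonoid.powers g ≤ 𝔮.primeCompl := by
    rintro _ ⟨k, rfl⟩ hk
    exact hg𝔮 (Ideal.IsPrime.mem_of_pow_mem inferInstance k hk)
  haveI i1 : IsLocalizedModule 𝔮.primeCompl
      ((LocalizedModule.mkLinearMap P.primeCompl M).restrictScalars S) := by
    refine isLocalizedModule_of_dvd (D := S) (C := A) (G := M) 𝔮.primeCompl P.primeCompl ?_ ?_
    · intro t ht hP'
      exact ht hP'
    · intro u hu
      obtain ⟨⟨a, b⟩, hab⟩ := IsLocalization.surj (Submonoid.powers g) u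
      refine ⟨algebraMap S A b, a, ?_, hab⟩
      intro ha
      apply hu
      have hmem : u * algebraMap S A b ∈ P := by
        rw [hab]
        exact ha
      have hb : IsUnit (algebraMap S A (b : S)) := IsLocalization.map_units A b
      rcases hP.isPrime.mem_or_mem hmem with h | h
      · exact h
      · exact absurd (Ideal.eq_top_of_isUnit_mem _ h hb) hP.ne_top
  haveI i2 : IsLocalizedModule 𝔮.primeCompl
      (((LocalizedModule.mkLinearMap P.primeCompl M).restrictScalars S).comp
        (LocalizedModule.mkLinearMap (Submonoid.powers g) N)) :=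
    isLocalizedModule_comp hle _ _
  haveI := isScalarTower_loc (D := S) (C := A) (G := M) P.primeCompl R
  let e : LocalizedModule 𝔮.primeCompl N ≃ₗ[R] LocalizedModule P.primeCompl M :=
    (IsLocalizedModule.iso 𝔮.primeCompl
      (((LocalizedModule.mkLinearMap P.primeCompl M).restrictScalars S).comp
        (LocalizedModule.mkLinearMap (Submonoid.powers g) N))).restrictScalars R
  have := H 𝔮 hg𝔮
  exact Module.Flat.of_linearEquiv e.symm

end Away

end Groth.Agent.Helper7.EDv
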