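import Groth.Agent.Helper7.EDvD
import Groth.Agent.Helper7.EDvE
import Groth.Agent.Helper7.EDvG

set_option autoImplicit false
set_option linter.style.haveILetI false
universe u
open scoped TensorProduct
open TensorProduct FlatCA

namespace Groth.Agent.Helper7.EDv

variable {R S : Type u} [CommRing R] [CommRing S] [Algebra R S]
  {N : Type u} [AddCommGroup N] [Module S N] [Module R N] [IsScalarTower R S N]
  {p : Ideal R} [p.IsPrime] {q : Ideal S} [q.IsPrime] {n : ℕ} (E : ElemDevissage R S N p q n)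

omit [Module R N] [IsScalarTower R S N] in
theorem two_iff_three :
    (∃ g : E.C, g ∉ E.z ∧ Module.Flat E.R' (LocalizedModule (Submonoid.powers g) E.G)) ↔
    (∃ g : E.D, g ∉ E.y ∧ Module.Flat E.R' (LocalizedModule (Submonoid.powers g) E.G)) := by
  haveI : Algebra.IsIntegral E.D E.C := by
    haveI := E.finiteDC
    infer_instance
  constructor
  · rintro ⟨c, hc, hflat⟩
    obtain ⟨c', d, hd, hcd⟩ :=
      exists_mul_eq_of_unique_prime E.y E.z (fun z₁ _ h => E.uniq z₁ h) c hc
    refine ⟨d, hd, ?_⟩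
    have h1 := flat_loc_mono E.R' (powers_le_sat c c') hflat
    refine (flat_localizedModule_iff (D := E.D) (C := E.C) (Submonoid.powers d) (sat (c * c'))
      E.R' ?_ ?_).mpr h1
    · rintro _ ⟨k, rfl⟩
      exact ⟨k, 1, by rw [map_pow, ← hcd, mul_one]⟩
    · rintro u ⟨k, e, he⟩
      exact ⟨e, d ^ k, ⟨k, rfl⟩, by rw [he, map_pow, hcd]⟩
  · rintro ⟨d, hd, hflat⟩
    refine ⟨algebraMap E.D E.C d, ?_, ?_⟩
    · intro hz
      apply hd
      have := E.zOverY.over
      rw [this]
      exact hz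
    · refine (flat_localizedModule_iff (D := E.D) (C := E.C) (Submonoid.powers d)
        (Submonoid.powers (algebraMap E.D E.C d)) E.R' ?_ ?_).mp hflat
      · rintro _ ⟨k, rfl⟩
        exact ⟨k, by rw [map_pow]⟩
      · rintro _ ⟨k, rfl⟩
        exact ⟨1, d ^ k, ⟨k, rfl⟩, by rw [map_pow, mul_one]⟩

theorem one_imp_two
    (h : ∃ g : S, g ∉ q ∧ Module.Flat R (LocalizedModule (Submonoid.powers g) N)) :
    ∃ g : E.C, g ∉ E.z ∧ Module.Flat E.R' (LocalizedModule (Submonoid.powers g) E.G) := by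
  letI mSG : Module S E.G := Module.compHom E.G (algebraMap S E.S')
  haveI tSS'G : IsScalarTower S E.S' E.G := IsScalarTower.of_compHom _ _ _
  letI mRG : Module R E.G := Module.compHom E.G (algebraMap R E.R')
  haveI tRR'G : IsScalarTower R E.R' E.G := IsScalarTower.of_compHom _ _ _
  haveI tR'S'G : IsScalarTower E.R' E.S' E.G := by
    refine IsScalarTower.of_algebraMap_smul fun r x => ?_
    rw [← algebraMap_smul E.C (algebraMap E.R' E.S' r) x,
      ← IsScalarTower.algebraMap_apply E.R' E.S' E.C, algebraMap_smul]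
  haveI tRS'G : IsScalarTower R E.S' E.G := by
    refine IsScalarTower.of_algebraMap_smul fun r x => ?_
    rw [IsScalarTower.algebraMap_apply R E.R' E.S', algebraMap_smul, algebraMap_smul]
  obtain ⟨hetS, hqq, -⟩ := E.etaleS
  obtain ⟨hetR, -, -⟩ := E.etaleR
  have hg : IsBaseChange E.S' ((E.iso.restrictScalars S).toLinearMap.comp E.f) := by
    refine IsBaseChange.of_equiv (E.isBaseChange.equiv.trans E.iso) (fun x => ?_)
    simp [IsBaseChange.equiv_tmul]
  obtain ⟨g, hgq, hflat⟩ := h
  have h1 := flat_loc_of_isBaseChange R (Submonoid.powers g) hg hflat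
  rw [Algebra.algebraMapSubmonoid_powers] at h1
  haveI tRR'L : IsScalarTower R E.R'
      (LocalizedModule (Submonoid.powers (algebraMap S E.S' g)) E.G) := by
    refine ⟨fun r r' x => ?_⟩
    induction x using LocalizedModule.induction_on with
    | _ g u =>
      rw [LocalizedModule.smul'_mk, LocalizedModule.smul'_mk, LocalizedModule.smul'_mk, smul_assoc]
  have h2 : Module.Flat E.R' (LocalizedModule (Submonoid.powers (algebraMap S E.S' g)) E.G) :=
    Algebra.FormallyUnramified.flat_of_restrictScalars R E.R' _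
  refine ⟨algebraMap E.S' E.C (algebraMap S E.S' g), ?_, ?_⟩
  · intro hz
    apply hgq
    have h3 := E.zOver.over
    have h4 := hqq.over
    rw [h4, h3]
    exact hz
  · refine (flat_localizedModule_iff (D := E.S') (C := E.C)
      (Submonoid.powers (algebraMap S E.S' g))
      (Submonoid.powers (algebraMap E.S' E.C (algebraMap S E.S' g))) E.R' ?_ ?_).mp h2
    · rintro _ ⟨k, rfl⟩
      exact ⟨k, by rw [map_pow]⟩
    · rintro _ ⟨k, rfl⟩
      exact ⟨1, (algebraMap S E.S' g) ^ k, ⟨k, rfl⟩, by rw [map_pow, mul_one]⟩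

theorem two_imp_one
    (h : ∃ g : E.C, g ∉ E.z ∧ Module.Flat E.R' (LocalizedModule (Submonoid.powers g) E.G)) :
    ∃ g : S, g ∉ q ∧ Module.Flat R (LocalizedModule (Submonoid.powers g) N) := by
  letI mSG : Module S E.G := Module.compHom E.G (algebraMap S E.S')
  haveI tSS'G : IsScalarTower S E.S' E.G := IsScalarTower.of_compHom _ _ _
  letI mRG : Module R E.G := Module.compHom E.G (algebraMap R E.R')
  haveI tRR'G : IsScalarTower R E.R' E.G := IsScalarTower.of_compHom _ _ _
  haveI tR'S'G : IsScalarTower E.R' E.S' E.G := by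
    refine IsScalarTower.of_algebraMap_smul fun r x => ?_
    rw [← algebraMap_smul E.C (algebraMap E.R' E.S' r) x,
      ← IsScalarTower.algebraMap_apply E.R' E.S' E.C, algebraMap_smul]
  haveI tRS'G : IsScalarTower R E.S' E.G := by
    refine IsScalarTower.of_algebraMap_smul fun r x => ?_
    rw [IsScalarTower.algebraMap_apply R E.R' E.S', algebraMap_smul, algebraMap_smul]
  obtain ⟨hetS, hqq, -⟩ := E.etaleS
  obtain ⟨hetR, -, -⟩ := E.etaleR
  have hg : IsBaseChange E.S' ((E.iso.restrictScalars S).toLinearMap.comp E.f) := by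
    refine IsBaseChange.of_equiv (E.isBaseChange.equiv.trans E.iso) (fun x => ?_)
    simp [IsBaseChange.equiv_tmul]
  obtain ⟨c, hcz, hflat⟩ := h
  obtain ⟨s', rfl⟩ := E.surjC c
  have hs' : s' ∉ E.q' := by
    intro hs
    apply hcz
    have := E.zOver.over
    rw [this] at hs
    exact hs
  -- flatness over `R` of the `S'`-localization
  have h2 : Module.Flat E.R' (LocalizedModule (Submonoid.powers s') E.G) := by
    refine (flat_localizedModule_iff (D := E.S') (C := E.C) (Submonoid.powers s')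
      (Submonoid.powers (algebraMap E.S' E.C s')) E.R' ?_ ?_).mpr hflat
    · rintro _ ⟨k, rfl⟩
      exact ⟨k, by rw [map_pow]⟩
    · rintro _ ⟨k, rfl⟩
      exact ⟨1, s' ^ k, ⟨k, rfl⟩, by rw [map_pow, mul_one]⟩
  haveI tRR'L : IsScalarTower R E.R' (LocalizedModule (Submonoid.powers s') E.G) := by
    refine ⟨fun r r' x => ?_⟩
    induction x using LocalizedModule.induction_on with
    | _ g u =>
      rw [LocalizedModule.smul'_mk, LocalizedModule.smul'_mk, LocalizedModule.smul'_mk, smul_assoc]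
  have h3 : Module.Flat R (LocalizedModule (Submonoid.powers s') E.G) :=
    Module.Flat.trans R E.R' _
  -- openness
  have hopen : IsOpenMap (PrimeSpectrum.comap (algebraMap S E.S')) :=
    PrimeSpectrum.isOpenMap_comap_of_hasGoingDown_of_finitePresentation
  have hU := hopen _ (PrimeSpectrum.basicOpen s').isOpen
  have hqU : (⟨q, inferInstance⟩ : PrimeSpectrum S) ∈
      PrimeSpectrum.comap (algebraMap S E.S') '' (PrimeSpectrum.basicOpen s' : Set _) := by
    refine ⟨⟨E.q', inferInstance⟩, hs', ?_⟩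
    ext1
    exact hqq.over.symm
  obtain ⟨_, ⟨g, rfl⟩, hqg, hgU⟩ :=
    PrimeSpectrum.isTopologicalBasis_basic_opens.exists_subset_of_mem_open hqU hU
  refine ⟨g, hqg, ?_⟩
  refine flat_away_of_forall_prime R g ?_
  intro 𝔮 h𝔮 hg𝔮
  obtain ⟨𝔮', h𝔮's, h𝔮'⟩ := hgU (show (⟨𝔮, h𝔮⟩ : PrimeSpectrum S) ∈ _ from hg𝔮)
  haveI : 𝔮'.asIdeal.LiesOver 𝔮 := ⟨by
    have := congrArg PrimeSpectrum.asIdeal h𝔮'
    exact this.symm⟩
  have hle : Submonoid.powers s' ≤ 𝔮'.asIdeal.primeCompl := by
    rintro _ ⟨k, rfl⟩ hk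
    exact h𝔮's (Ideal.IsPrime.mem_of_pow_mem inferInstance k hk)
  have h4 : Module.Flat R (LocalizedModule 𝔮'.asIdeal.primeCompl E.G) :=
    flat_loc_mono R hle h3
  exact (flatAt_iff_of_isBaseChange R 𝔮 𝔮'.asIdeal hg).mpr h4

end Groth.Agent.Helper7.EDv
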