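import Groth.Agent.Helper7.EDvG

set_option autoImplicit false
set_option linter.style.haveILetI false
universe u v w
open scoped TensorProduct
open TensorProduct

namespace Groth.Agent.Helper7.EDv

section FPDescent

variable {A B : Type*} [CommRing A] [CommRing B] [Algebra A B]
  {M : Type*} [AddCommGroup M] [Module A M]

/-- Finite presentation descends along faithfully flat base change (tensor form). -/
theorem fp_of_tensor_of_faithfullyFlat [Module.FaithfullyFlat A B]
    [Module.FinitePresentation B (B ⊗[A] M)] : Module.FinitePresentation A M := by
  haveI : Module.Finite A M := Module.Finite.of_finite_tensorProduct_of_faithfullyFlat B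
  obtain ⟨n, f, hf⟩ := Module.Finite.exists_fin' A M
  have hex : Function.Exact ((LinearMap.ker f).subtype.baseChange B) (f.baseChange B) :=
    lTensor_exact B f.exact_subtype_ker_map hf
  have hsurj : Function.Surjective (f.baseChange B) := LinearMap.lTensor_surjective B hf
  have hker : (LinearMap.ker (f.baseChange B)).FG :=
    Module.FinitePresentation.fg_ker (f.baseChange B) hsurj
  have hinj : Function.Injective ((LinearMap.ker f).subtype.baseChange B) :=
    Module.Flat.lTensor_preserves_injective_linearMap _ Subtype.val_injective
  rw [LinearMap.exact_iff] at hex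
  rw [hex] at hker
  haveI : Module.Finite B (B ⊗[A] (LinearMap.ker f)) := by
    have e := LinearEquiv.ofInjective _ hinj
    have : Module.Finite B (LinearMap.range ((LinearMap.ker f).subtype.baseChange B)) :=
      Module.Finite.iff_fg.mpr hker
    exact Module.Finite.equiv e.symm
  haveI : Module.Finite A (LinearMap.ker f) :=
    Module.Finite.of_finite_tensorProduct_of_faithfullyFlat B
  exact Module.finitePresentation_of_surjective f hf (Module.Finite.iff_fg.mp inferInstance)

variable {M' : Type*} [AddCommGroup M'] [Module A M'] [Module B M'] [IsScalarTower A B M']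

theorem fp_of_isBaseChange_of_faithfullyFlat [Module.FaithfullyFlat A B] {g : M →ₗ[A] M'}
    (hg : IsBaseChange B g) [Module.FinitePresentation B M'] : Module.FinitePresentation A M := by
  haveI : Module.FinitePresentation B (B ⊗[A] M) := Module.FinitePresentation.of_equiv hg.equiv.symm
  exact fp_of_tensor_of_faithfullyFlat (B := B)

theorem fp_iff_of_isBaseChange_of_faithfullyFlat [Module.FaithfullyFlat A B] {g : M →ₗ[A] M'}
    (hg : IsBaseChange B g) : Module.FinitePresentation A M ↔ Module.FinitePresentation B M' :=
  ⟨fun _ => FinitePresentation.of_isBaseChange g hg,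
    fun _ => fp_of_isBaseChange_of_faithfullyFlat hg⟩

end FPDescent

section FPFinite

variable {A B : Type*} [CommRing A] [CommRing B] [Algebra A B]
  {M : Type*} [AddCommGroup M] [Module A M] [Module B M] [IsScalarTower A B M]

/-- Over a module-finite algebra, finite presentation over the base implies it over the
algebra. -/
theorem fp_of_fp_restrict [Module.Finite A B] [Module.FinitePresentation A M] :
    Module.FinitePresentation B M := by
  haveI : Module.Finite B M := Module.Finite.of_restrictScalars_finite A B M
  obtain ⟨n, f, hf⟩ := Module.Finite.exists_fin' B M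
  refine Module.finitePresentation_of_surjective f hf ?_
  haveI : Module.Finite A (Fin n → B) := Module.Finite.pi
  have h1 : (LinearMap.ker (f.restrictScalars A)).FG :=
    Module.FinitePresentation.fg_ker (f.restrictScalars A) hf
  obtain ⟨s, hs⟩ := h1
  refine ⟨s, le_antisymm ?_ ?_⟩
  · rw [Submodule.span_le]
    intro x hx
    have : x ∈ LinearMap.ker (f.restrictScalars A) := hs ▸ Submodule.subset_span hx
    exact this
  · intro x hx
    have hx' : x ∈ LinearMap.ker (f.restrictScalars A) := hx
    rw [← hs] at hx'
    exact Submodule.span_le_restrictScalars A B _ hx'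

theorem fp_iff_fp_restrict [Module.Finite A B] [Module.FinitePresentation A B] :
    Module.FinitePresentation B M ↔ Module.FinitePresentation A M :=
  ⟨fun _ => Module.FinitePresentation.trans A M B, fun _ => fp_of_fp_restrict (A := A)⟩

end FPFinite

end Groth.Agent.Helper7.EDv
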