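import Groth.Prelude.Def_FlatCA
import Mathlib

set_option autoImplicit false
set_option linter.style.haveILetI false
universe u
open FlatMor

namespace Groth.Agent.Helper7.EDv

theorem smooth_of_smoothRelDim (n : ℕ) (R D : Type u) [CommRing R] [CommRing D] [Algebra R D]
    (h : FlatCA.SmoothRelDim n R D) : Algebra.Smooth R D := by
  haveI := h
  have h1 : AlgebraicGeometry.Smooth
      (AlgebraicGeometry.Spec.map (CommRingCat.ofHom (algebraMap R D))) :=
    AlgebraicGeometry.SmoothOfRelativeDimension.smooth n _
  rw [AlgebraicGeometry.HasRingHomProperty.Spec_iff (P := @AlgebraicGeometry.Smooth)] at h1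
  exact RingHom.smooth_algebraMap.mp h1

theorem fp_DC {R S : Type u} [CommRing R] [CommRing S] [Algebra R S]
    [Algebra.FinitePresentation R S]
    (N : Type u) [AddCommGroup N] [Module S N]
    (p : Ideal R) [p.IsPrime] (q : Ideal S) [q.IsPrime] (n : ℕ)
    (E : FlatCA.ElemDevissage R S N p q n) :
    Algebra.FinitePresentation E.D E.C := by
  obtain ⟨hetS, -, -⟩ := E.etaleS
  obtain ⟨hetR, -, -⟩ := E.etaleR
  haveI := hetS
  haveI := hetR
  haveI : Algebra.FinitePresentation R E.S' := Algebra.FinitePresentation.trans R S E.S'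
  haveI : Algebra.FinitePresentation E.R' E.S' :=
    Algebra.FinitePresentation.of_restrict_scalars_finitePresentation R E.R' E.S'
  haveI := E.fpC
  haveI : Algebra.FinitePresentation E.R' E.C := Algebra.FinitePresentation.trans E.R' E.S' E.C
  haveI : Algebra.Smooth E.R' E.D := smooth_of_smoothRelDim n _ _ E.smooth
  exact Algebra.FinitePresentation.of_restrict_scalars_finitePresentation E.R' E.D E.C

end Groth.Agent.Helper7.EDv
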