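import Groth.Agent.Helper7.EDvH

set_option autoImplicit false
set_option linter.style.haveILetI false
universe u v w
open scoped TensorProduct
open TensorProduct

namespace Groth.Agent.Helper7.EDv

section LocTransfer2

variable {D C : Type*} [CommRing D] [CommRing C] [Algebra D C]
  {G : Type*} [AddCommGroup G] [Module C G] [Module D G] [IsScalarTower D C G]
  {G' : Type*} [AddCommGroup G'] [Module C G'] [Module D G'] [IsScalarTower D C G']
  (T : Submonoid D) (U : Submonoid C)

/-- A `C`-localization of `G` at `U` is also a `D`-localization at `T`, when `T` maps into `U`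
and every element of `U` divides the image of an element of `T`. -/
theorem isLocalizedModule_of_dvd' (f : G →ₗ[C] G') [IsLocalizedModule U f]
    (h1 : ∀ t ∈ T, algebraMap D C t ∈ U)
    (h2 : ∀ u ∈ U, ∃ c : C, ∃ t ∈ T, u * c = algebraMap D C t) :
    IsLocalizedModule T (f.restrictScalars D) := by
  constructor
  · intro t
    have hu : IsUnit (algebraMap C (Module.End C G') (algebraMap D C t)) :=
      IsLocalizedModule.map_units f ⟨_, h1 t t.2⟩
    rw [Module.End.isUnit_iff] at hu ⊢
    convert hu using 1
    ext x
    simp [Module.algebraMap_end_apply]
  · intro y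
    obtain ⟨⟨g, u⟩, hgu⟩ := IsLocalizedModule.surj U f y
    obtain ⟨c, t, ht, hc⟩ := h2 u u.2
    refine ⟨(c • g, ⟨t, ht⟩), ?_⟩
    change t • y = f (c • g)
    have hgu' : (u : C) • y = f g := hgu
    rw [map_smul, ← hgu', ← algebraMap_smul C t y, ← hc, mul_comm, mul_smul]
  · intro x₁ x₂ h
    have h' : f x₁ = f x₂ := h
    obtain ⟨u, hu⟩ := IsLocalizedModule.exists_of_eq (S := U) h'
    obtain ⟨c, t, ht, hc⟩ := h2 u u.2
    refine ⟨⟨t, ht⟩, ?_⟩
    have hu' : (u : C) • x₁ = (u : C) • x₂ := hu
    change t • x₁ = t • x₂
    rw [← algebraMap_smul C t x₁, ← algebraMap_smul C t x₂, ← hc, mul_comm, mul_smul, mul_smul, hu']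

end LocTransfer2

section GLfin

variable {A B : Type*} [CommRing A] [CommRing B] [Algebra A B]
  [Module.FinitePresentation A B]
  (T : Submonoid A) (U : Submonoid B)
  {M : Type*} [AddCommGroup M] [Module B M] [Module A M] [IsScalarTower A B M]

/-- For a module-finite, finitely presented `A`-algebra `B`, finite presentation of the
localization of a `B`-module `M` at `U ⊆ B` over `B_U` is the same as finite presentation of its
localization at `T ⊆ A` over `A_T`, if `T` maps into `U` and every element of `U` divides the image
of an element of `T`. -/
theorem fp_loc_iff_of_finite (h1 : ∀ t ∈ T, algebraMap A B t ∈ U)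
    (h2 : ∀ u ∈ U, ∃ c : B, ∃ t ∈ T, u * c = algebraMap A B t) :
    Module.FinitePresentation (Localization U) (LocalizedModule U M) ↔
      Module.FinitePresentation (Localization T) (LocalizedModule T M) := by
  have hunit : ∀ t : T, IsUnit (algebraMap A (Localization U) t) := by
    intro t
    rw [IsScalarTower.algebraMap_apply A B (Localization U)]
    exact IsLocalization.map_units (Localization U) (⟨_, h1 t t.2⟩ : U)
  letI alg : Algebra (Localization T) (Localization U) :=
    (IsLocalization.lift (M := T) (g := algebraMap A (Localization U)) hunit).toAlgebra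
  haveI tw1 : IsScalarTower A (Localization T) (Localization U) :=
    IsScalarTower.of_algebraMap_eq (fun a => (IsLocalization.lift_eq hunit a).symm)
  letI mod : Module (Localization T) (LocalizedModule U M) :=
    Module.compHom _ (algebraMap (Localization T) (Localization U))
  haveI tw2 : IsScalarTower (Localization T) (Localization U) (LocalizedModule U M) :=
    IsScalarTower.of_compHom _ _ _
  haveI tw3 : IsScalarTower A (Localization T) (LocalizedModule U M) := by
    refine IsScalarTower.of_algebraMap_smul fun r x => ?_
    change (algebraMap (Localization T) (Localization U)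
      (algebraMap A (Localization T) r)) • x = r • x
    rw [← IsScalarTower.algebraMap_apply A (Localization T) (Localization U),
      algebraMap_smul]
  -- the module
  haveI l1 := isLocalizedModule_of_dvd (G := M) T U h1 h2
  let e₀ : LocalizedModule T M ≃ₗ[A] LocalizedModule U M :=
    IsLocalizedModule.iso T ((LocalizedModule.mkLinearMap U M).restrictScalars A)
  let e : LocalizedModule T M ≃ₗ[Localization T] LocalizedModule U M :=
    LinearEquiv.extendScalarsOfIsLocalization T (Localization T) e₀
  -- the ring
  haveI l2 : IsLocalizedModule T ((Algebra.linearMap B (Localization U)).restrictScalars A) :=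
    isLocalizedModule_of_dvd' T U (Algebra.linearMap B (Localization U)) h1 h2
  have hbc : IsBaseChange (Localization T)
      ((Algebra.linearMap B (Localization U)).restrictScalars A) :=
    (isLocalizedModule_iff_isBaseChange T (Localization T) _).mp l2
  haveI fpB : Module.FinitePresentation (Localization T) (Localization U) :=
    FinitePresentation.of_isBaseChange _ hbc
  rw [fp_iff_fp_restrict (A := Localization T) (B := Localization U)]
  exact ⟨fun _ => Module.FinitePresentation.of_equiv e.symm,
    fun _ => Module.FinitePresentation.of_equiv e⟩

end GLfin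

end Groth.Agent.Helper7.EDv
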