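import Groth.Agent.Helper7.EDvJ

set_option autoImplicit false
set_option linter.style.haveILetI false
universe u v w
open scoped TensorProduct
open TensorProduct

namespace Groth.Agent.Helper7.EDv

section GLbc

variable {S S' : Type*} [CommRing S] [CommRing S'] [Algebra S S']
  (U : Submonoid S) (U' : Submonoid S')
  {N : Type*} [AddCommGroup N] [Module S N]
  {G : Type*} [AddCommGroup G] [Module S' G] [Module S G] [IsScalarTower S S' G]

/-- The algebra structure on a localization of `S'` over a localization of `S`. -/
noncomputable abbrev locAlg (hU : ∀ u : U, IsUnit (algebraMap S (Localization U') u)) :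
    Algebra (Localization U) (Localization U') :=
  (IsLocalization.lift (M := U) (g := algebraMap S (Localization U')) hU).toAlgebra

theorem fp_loc_bc (hU : ∀ u : U, IsUnit (algebraMap S (Localization U') u))
    {g : N →ₗ[S] G} (hg : IsBaseChange S' g) :
    (Module.FinitePresentation (Localization U) (LocalizedModule U N) →
      Module.FinitePresentation (Localization U') (LocalizedModule U' G)) ∧
    (@Module.FaithfullyFlat (Localization U) (Localization U') _ _ (locAlg U U' hU).toModule →
      Module.FinitePresentation (Localization U') (LocalizedModule U' G) →
      Module.FinitePresentation (Localization U) (LocalizedModule U N)) := by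
  letI alg : Algebra (Localization U) (Localization U') := locAlg U U' hU
  haveI tw1 : IsScalarTower S (Localization U) (Localization U') :=
    IsScalarTower.of_algebraMap_eq (fun a => (IsLocalization.lift_eq hU a).symm)
  letI mod : Module (Localization U) (LocalizedModule U' G) :=
    Module.compHom _ (algebraMap (Localization U) (Localization U'))
  haveI tw2 : IsScalarTower (Localization U) (Localization U') (LocalizedModule U' G) :=
    IsScalarTower.of_compHom _ _ _
  haveI tw3 : IsScalarTower S (Localization U) (LocalizedModule U' G) := by
    refine IsScalarTower.of_algebraMap_smul fun r x => ?_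
    change (algebraMap (Localization U) (Localization U')
      (algebraMap S (Localization U) r)) • x = r • x
    rw [← IsScalarTower.algebraMap_apply S (Localization U) (Localization U'),
      algebraMap_smul]
  have hsq := isBaseChange_square (A := Localization U) (B := Localization U')
    (LocalizedModule.isBaseChange U N) hg (LocalizedModule.isBaseChange U' G)
  refine ⟨fun _ => FinitePresentation.of_isBaseChange _ hsq, fun hff _ => ?_⟩
  haveI := hff
  exact fp_of_isBaseChange_of_faithfullyFlat hsq

omit [AddCommGroup N] [Module S N] [AddCommGroup G] [Module S' G] [Module S G]
  [IsScalarTower S S' G] in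
/-- Faithful flatness of a localization of a flat algebra over a localization of the base, when
the primes surviving in the localization of the base lift. -/
theorem ff_locAlg [Module.Flat S S'] (hU : ∀ u : U, IsUnit (algebraMap S (Localization U') u))
    (hsurj : ∀ P : Ideal S, P.IsPrime → Disjoint (U : Set S) P →
      ∃ P' : Ideal S', P'.IsPrime ∧ Disjoint (U' : Set S') P' ∧
        P'.comap (algebraMap S S') = P) :
    @Module.FaithfullyFlat (Localization U) (Localization U') _ _ (locAlg U U' hU).toModule := by
  letI alg : Algebra (Localization U) (Localization U') := locAlg U U' hU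
  haveI tw1 : IsScalarTower S (Localization U) (Localization U') :=
    IsScalarTower.of_algebraMap_eq (fun a => (IsLocalization.lift_eq hU a).symm)
  haveI : Module.Flat S (Localization U') := Module.Flat.trans S S' (Localization U')
  haveI : Module.Flat (Localization U) (Localization U') :=
    (Module.flat_iff_of_isLocalization (Localization U) U (Localization U')).mpr inferInstance
  apply Module.FaithfullyFlat.of_comap_surjective
  intro P
  obtain ⟨hP1, hP2⟩ := (IsLocalization.isPrime_iff_isPrime_disjoint U (Localization U)
    P.asIdeal).mp P.isPrime
  obtain ⟨P', hP', hdis, hcomap⟩ := hsurj _ hP1 hP2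
  refine ⟨⟨P'.map (algebraMap S' (Localization U')),
    IsLocalization.isPrime_of_isPrime_disjoint U' _ _ hP' hdis⟩, ?_⟩
  apply PrimeSpectrum.localization_comap_injective (Localization U) U
  ext1
  simp only [PrimeSpectrum.comap_asIdeal]
  rw [Ideal.comap_comap, ← IsScalarTower.algebraMap_eq,
    IsScalarTower.algebraMap_eq S S' (Localization U'), ← Ideal.comap_comap]
  have := IsLocalization.under_map_of_isPrime_disjoint U' (Localization U') hP' hdis
  rw [Ideal.under] at this
  rw [this, hcomap]

end GLbc

section AtPrime2

variable {S S' : Type*} [CommRing S] [CommRing S']
  [Algebra S S'] [Module.Flat S S']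
  (q : Ideal S) [q.IsPrime] (q' : Ideal S') [q'.IsPrime] [q'.LiesOver q]
  {N : Type*} [AddCommGroup N] [Module S N]
  {G : Type*} [AddCommGroup G] [Module S' G] [Module S G] [IsScalarTower S S' G]

/-- Finite presentation of `N_q` over `S_q` is equivalent to that of `G_{q'}` over `S'_{q'}`
when `G` is the base change of `N` along a flat map `S → S'` and `q'` lies over `q`. -/
theorem fpAt_iff_of_isBaseChange {g : N →ₗ[S] G} (hg : IsBaseChange S' g) :
    Module.FinitePresentation (Localization.AtPrime q) (LocalizedModule q.primeCompl N) ↔
      Module.FinitePresentation (Localization.AtPrime q')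
        (LocalizedModule q'.primeCompl G) := by
  letI := Localization.AtPrime.algebraOfLiesOver q q'
  letI : Module (Localization.AtPrime q) (LocalizedModule q'.primeCompl G) :=
    Module.compHom _ (algebraMap (Localization.AtPrime q) (Localization.AtPrime q'))
  haveI : IsScalarTower (Localization.AtPrime q) (Localization.AtPrime q')
      (LocalizedModule q'.primeCompl G) := IsScalarTower.of_compHom _ _ _
  haveI : IsScalarTower S (Localization.AtPrime q) (LocalizedModule q'.primeCompl G) := by
    refine IsScalarTower.of_algebraMap_smul fun r x => ?_
    change (algebraMap (Localization.AtPrime q) (Localization.AtPrime q')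
      (algebraMap S (Localization.AtPrime q) r)) • x = r • x
    rw [← IsScalarTower.algebraMap_apply S (Localization.AtPrime q) (Localization.AtPrime q'),
      algebraMap_smul]
  haveI : Module.FaithfullyFlat (Localization.AtPrime q) (Localization.AtPrime q') :=
    Module.FaithfullyFlat.of_flat_of_isLocalHom
  exact fp_iff_of_isBaseChange_of_faithfullyFlat
    (isBaseChange_square (A := Localization.AtPrime q) (B := Localization.AtPrime q')
      (LocalizedModule.isBaseChange q.primeCompl N) hg
      (LocalizedModule.isBaseChange q'.primeCompl G))

end AtPrime2

end Groth.Agent.Helper7.EDv
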