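import Groth.Agent.Helper7.EDvI
import Groth.Agent.Helper7.EDvK

set_option autoImplicit false
set_option linter.style.haveILetI false
universe u
open scoped TensorProduct
open TensorProduct FlatCA

namespace Groth.Agent.Helper7.EDv

section Mono

variable {C : Type*} [CommRing C] {G : Type*} [AddCommGroup G] [Module C G]

/-- Finite presentation on a basic open passes to a smaller basic open. -/
theorem fp_away_mul (a b : C)
    (h : Module.FinitePresentation (Localization.Away a) (LocalizedModule (Submonoid.powers a) G)) :
    Module.FinitePresentation (Localization.Away (a * b))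
      (LocalizedModule (Submonoid.powers (a * b)) G) := by
  have hU : ∀ u : Submonoid.powers a,
      IsUnit (algebraMap C (Localization (Submonoid.powers (a * b))) u) := by
    rintro ⟨_, k, rfl⟩
    rw [map_pow]
    apply IsUnit.pow
    have h1 : IsUnit (algebraMap C (Localization (Submonoid.powers (a * b))) (a * b)) :=
      IsLocalization.map_units _ (⟨a * b, Submonoid.mem_powers _⟩ : Submonoid.powers (a * b))
    rw [map_mul] at h1
    exact isUnit_of_mul_isUnit_left h1
  exact (fp_loc_bc (S := C) (S' := C) (Submonoid.powers a) (Submonoid.powers (a * b)) hU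
    (IsBaseChange.ofEquiv (LinearEquiv.refl C G))).1 h

end Mono

variable {R S : Type u} [CommRing R] [CommRing S] [Algebra R S]
  {N : Type u} [AddCommGroup N] [Module S N]
  {p : Ideal R} [p.IsPrime] {q : Ideal S} [q.IsPrime] {n : ℕ} (E : ElemDevissage R S N p q n)

theorem fpMod_S'C : Module.FinitePresentation E.S' E.C := by
  haveI : Module.Finite E.S' E.C := Module.Finite.of_surjective (Algebra.linearMap E.S' E.C) E.surjC
  haveI := E.fpC
  exact Module.FinitePresentation.of_finite_of_finitePresentation E.S' E.C

theorem fpMod_DC [Algebra.FinitePresentation R S] : Module.FinitePresentation E.D E.C := by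
  haveI := E.finiteDC
  haveI := fp_DC N p q n E
  exact Module.FinitePresentation.of_finite_of_finitePresentation E.D E.C

theorem mem_z_iff_q' (s' : E.S') : algebraMap E.S' E.C s' ∈ E.z ↔ s' ∈ E.q' := by
  have := E.zOver.over
  rw [this]
  rfl

theorem mem_z_iff_y (d : E.D) : algebraMap E.D E.C d ∈ E.z ↔ d ∈ E.y := by
  have := E.zOverY.over
  rw [this]
  rfl

/-- `(1') ↔ (2)` at primes. -/
theorem fpAt_q'_iff_z :
    Module.FinitePresentation (Localization.AtPrime E.z) (LocalizedModule E.z.primeCompl E.G) ↔
      Module.FinitePresentation (Localization.AtPrime E.q')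
        (LocalizedModule E.q'.primeCompl E.G) := by
  haveI := fpMod_S'C E
  refine fp_loc_iff_of_finite (A := E.S') (B := E.C) E.q'.primeCompl E.z.primeCompl ?_ ?_
  · intro t ht hz
    exact ht ((mem_z_iff_q' E t).mp hz)
  · intro u hu
    obtain ⟨s', rfl⟩ := E.surjC u
    exact ⟨1, s', fun hs => hu ((mem_z_iff_q' E s').mpr hs), by rw [mul_one]⟩

/-- `(2) ↔ (3)` at primes. -/
theorem fpAt_z_iff_y [Algebra.FinitePresentation R S] :
    Module.FinitePresentation (Localization.AtPrime E.z) (LocalizedModule E.z.primeCompl E.G) ↔
      Module.FinitePresentation (Localization.AtPrime E.y)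
        (LocalizedModule E.y.primeCompl E.G) := by
  haveI := fpMod_DC E
  haveI : Algebra.IsIntegral E.D E.C := by
    haveI := E.finiteDC
    infer_instance
  refine fp_loc_iff_of_finite (A := E.D) (B := E.C) E.y.primeCompl E.z.primeCompl ?_ ?_
  · intro t ht hz
    exact ht ((mem_z_iff_y E t).mp hz)
  · intro u hu
    exact exists_mul_eq_of_unique_prime E.y E.z (fun z₁ _ h => E.uniq z₁ h) u hu

/-- `(1) ↔ (1')` at primes. -/
theorem fpAt_q_iff_q' :
    Module.FinitePresentation (Localization.AtPrime q) (LocalizedModule q.primeCompl N) ↔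
      Module.FinitePresentation (Localization.AtPrime E.q')
        (LocalizedModule E.q'.primeCompl E.G) := by
  letI mSG : Module S E.G := Module.compHom E.G (algebraMap S E.S')
  haveI tSS'G : IsScalarTower S E.S' E.G := IsScalarTower.of_compHom _ _ _
  obtain ⟨hetS, hqq, -⟩ := E.etaleS
  have hg : IsBaseChange E.S' ((E.iso.restrictScalars S).toLinearMap.comp E.f) := by
    refine IsBaseChange.of_equiv (E.isBaseChange.equiv.trans E.iso) (fun x => ?_)
    simp [IsBaseChange.equiv_tmul]
  exact fpAt_iff_of_isBaseChange q E.q' hg

theorem part1 [Algebra.FinitePresentation R S] :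
    [Module.FinitePresentation (Localization.AtPrime q) (LocalizedModule q.primeCompl N),
     Module.FinitePresentation (Localization.AtPrime E.z) (LocalizedModule E.z.primeCompl E.G),
     Module.FinitePresentation (Localization.AtPrime E.y)
      (LocalizedModule E.y.primeCompl E.G)].TFAE := by
  tfae_have 1 ↔ 2 := (fpAt_q_iff_q' E).trans (fpAt_q'_iff_z E).symm
  tfae_have 2 ↔ 3 := fpAt_z_iff_y E
  tfae_finish

end Groth.Agent.Helper7.EDv
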