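import Groth.Agent.Helper7.EDvL

set_option autoImplicit false
set_option linter.style.haveILetI false
universe u
open scoped TensorProduct
open TensorProduct FlatCA

namespace Groth.Agent.Helper7.EDv

variable {R S : Type u} [CommRing R] [CommRing S] [Algebra R S]
  {N : Type u} [AddCommGroup N] [Module S N]
  {p : Ideal R} [p.IsPrime] {q : Ideal S} [q.IsPrime] {n : ℕ} (E : ElemDevissage R S N p q n)

/-- `(B) ↔ (C)` on basic opens. -/
theorem fpAway_z_iff_y [Algebra.FinitePresentation R S] :
    (∃ g : E.C, g ∉ E.z ∧ Module.FinitePresentation (Localization.Away g)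
      (LocalizedModule (Submonoid.powers g) E.G)) ↔
    (∃ g : E.D, g ∉ E.y ∧ Module.FinitePresentation (Localization.Away g)
      (LocalizedModule (Submonoid.powers g) E.G)) := by
  haveI := fpMod_DC E
  haveI : Algebra.IsIntegral E.D E.C := by
    haveI := E.finiteDC
    infer_instance
  constructor
  · rintro ⟨c, hc, hfp⟩
    obtain ⟨c', d, hd, hcd⟩ :=
      exists_mul_eq_of_unique_prime E.y E.z (fun z₁ _ h => E.uniq z₁ h) c hc
    refine ⟨d, hd, ?_⟩
    have h1 := fp_away_mul c c' hfp
    rw [hcd] at h1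
    refine (fp_loc_iff_of_finite (A := E.D) (B := E.C) (Submonoid.powers d)
      (Submonoid.powers (algebraMap E.D E.C d)) ?_ ?_).mp h1
    · rintro _ ⟨k, rfl⟩
      exact ⟨k, by rw [map_pow]⟩
    · rintro _ ⟨k, rfl⟩
      exact ⟨1, d ^ k, ⟨k, rfl⟩, by rw [map_pow, mul_one]⟩
  · rintro ⟨d, hd, hfp⟩
    refine ⟨algebraMap E.D E.C d, fun hz => hd ((mem_z_iff_y E d).mp hz), ?_⟩
    refine (fp_loc_iff_of_finite (A := E.D) (B := E.C) (Submonoid.powers d)
      (Submonoid.powers (algebraMap E.D E.C d)) ?_ ?_).mpr hfp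
    · rintro _ ⟨k, rfl⟩
      exact ⟨k, by rw [map_pow]⟩
    · rintro _ ⟨k, rfl⟩
      exact ⟨1, d ^ k, ⟨k, rfl⟩, by rw [map_pow, mul_one]⟩

/-- `(A') ↔ (B)` on basic opens. -/
theorem fpAway_q'_iff_z :
    (∃ g : E.S', g ∉ E.q' ∧ Module.FinitePresentation (Localization.Away g)
      (LocalizedModule (Submonoid.powers g) E.G)) ↔
    (∃ g : E.C, g ∉ E.z ∧ Module.FinitePresentation (Localization.Away g)
      (LocalizedModule (Submonoid.powers g) E.G)) := by
  haveI := fpMod_S'C E
  constructor
  · rintro ⟨d, hd, hfp⟩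
    refine ⟨algebraMap E.S' E.C d, fun hz => hd ((mem_z_iff_q' E d).mp hz), ?_⟩
    refine (fp_loc_iff_of_finite (A := E.S') (B := E.C) (Submonoid.powers d)
      (Submonoid.powers (algebraMap E.S' E.C d)) ?_ ?_).mpr hfp
    · rintro _ ⟨k, rfl⟩
      exact ⟨k, by rw [map_pow]⟩
    · rintro _ ⟨k, rfl⟩
      exact ⟨1, d ^ k, ⟨k, rfl⟩, by rw [map_pow, mul_one]⟩
  · rintro ⟨c, hc, hfp⟩
    obtain ⟨d, rfl⟩ := E.surjC c
    refine ⟨d, fun hd => hc ((mem_z_iff_q' E d).mpr hd), ?_⟩
    refine (fp_loc_iff_of_finite (A := E.S') (B := E.C) (Submonoid.powers d)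
      (Submonoid.powers (algebraMap E.S' E.C d)) ?_ ?_).mp hfp
    · rintro _ ⟨k, rfl⟩
      exact ⟨k, by rw [map_pow]⟩
    · rintro _ ⟨k, rfl⟩
      exact ⟨1, d ^ k, ⟨k, rfl⟩, by rw [map_pow, mul_one]⟩

/-- `(A) ↔ (A')` on basic opens. -/
theorem fpAway_q_iff_q' :
    (∃ g : S, g ∉ q ∧ Module.FinitePresentation (Localization.Away g)
      (LocalizedModule (Submonoid.powers g) N)) ↔
    (∃ g : E.S', g ∉ E.q' ∧ Module.FinitePresentation (Localization.Away g)
      (LocalizedModule (Submonoid.powers g) E.G)) := by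
  letI mSG : Module S E.G := Module.compHom E.G (algebraMap S E.S')
  haveI tSS'G : IsScalarTower S E.S' E.G := IsScalarTower.of_compHom _ _ _
  obtain ⟨hetS, hqq, -⟩ := E.etaleS
  have hg : IsBaseChange E.S' ((E.iso.restrictScalars S).toLinearMap.comp E.f) := by
    refine IsBaseChange.of_equiv (E.isBaseChange.equiv.trans E.iso) (fun x => ?_)
    simp [IsBaseChange.equiv_tmul]
  have hmem : ∀ s : S, algebraMap S E.S' s ∈ E.q' ↔ s ∈ q := by
    intro s
    have h0 : s ∈ q ↔ s ∈ Ideal.under S E.q' := by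
      have := hqq.over
      exact ⟨fun h => this ▸ h, fun h => this.symm ▸ h⟩
    rw [h0]
    rfl
  constructor
  · rintro ⟨g, hgq, hfp⟩
    refine ⟨algebraMap S E.S' g, fun h => hgq ((hmem g).mp h), ?_⟩
    have hU : ∀ u : Submonoid.powers g,
        IsUnit (algebraMap S (Localization (Submonoid.powers (algebraMap S E.S' g))) u) := by
      rintro ⟨_, k, rfl⟩
      rw [map_pow]
      apply IsUnit.pow
      rw [IsScalarTower.algebraMap_apply S E.S' (Localization _)]
      exact IsLocalization.map_units _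
        (⟨_, Submonoid.mem_powers _⟩ : Submonoid.powers (algebraMap S E.S' g))
    exact (fp_loc_bc (Submonoid.powers g) (Submonoid.powers (algebraMap S E.S' g)) hU hg).1 hfp
  · rintro ⟨s', hs', hfp⟩
    -- openness
    have hopen : IsOpenMap (PrimeSpectrum.comap (algebraMap S E.S')) :=
      PrimeSpectrum.isOpenMap_comap_of_hasGoingDown_of_finitePresentation
    have hUo := hopen _ (PrimeSpectrum.basicOpen s').isOpen
    have hqU : (⟨q, inferInstance⟩ : PrimeSpectrum S) ∈
        PrimeSpectrum.comap (algebraMap S E.S') '' (PrimeSpectrum.basicOpen s' : Set _) := by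
      refine ⟨⟨E.q', inferInstance⟩, hs', ?_⟩
      ext1
      exact hqq.over.symm
    obtain ⟨_, ⟨g, rfl⟩, hqg, hgU⟩ :=
      PrimeSpectrum.isTopologicalBasis_basic_opens.exists_subset_of_mem_open hqU hUo
    refine ⟨g, hqg, ?_⟩
    have h1 := fp_away_mul s' (algebraMap S E.S' g) hfp
    have hU : ∀ u : Submonoid.powers g,
        IsUnit (algebraMap S (Localization (Submonoid.powers (s' * algebraMap S E.S' g))) u) := by
      rintro ⟨_, k, rfl⟩
      rw [map_pow]
      apply IsUnit.pow
      rw [IsScalarTower.algebraMap_apply S E.S' (Localization _)]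
      have h2 : IsUnit (algebraMap E.S' (Localization (Submonoid.powers (s' * algebraMap S E.S' g)))
          (s' * algebraMap S E.S' g)) :=
        IsLocalization.map_units _
          (⟨_, Submonoid.mem_powers _⟩ : Submonoid.powers (s' * algebraMap S E.S' g))
      rw [map_mul] at h2
      exact isUnit_of_mul_isUnit_right h2
    refine (fp_loc_bc (Submonoid.powers g) (Submonoid.powers (s' * algebraMap S E.S' g))
      hU hg).2 ?_ h1
    apply ff_locAlg
    intro P hP hdis
    haveI := hP
    have hgP : g ∉ P := (Ideal.disjoint_powers_iff_notMem_of_isPrime g).mp hdis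
    obtain ⟨P', hP's, hP'⟩ := hgU (show (⟨P, hP⟩ : PrimeSpectrum S) ∈ _ from hgP)
    have hcomap : P'.asIdeal.comap (algebraMap S E.S') = P := by
      have := congrArg PrimeSpectrum.asIdeal hP'
      exact this
    refine ⟨P'.asIdeal, P'.isPrime, ?_, hcomap⟩
    rw [Ideal.disjoint_powers_iff_notMem_of_isPrime]
    intro hmul
    rcases P'.isPrime.mem_or_mem hmul with h | h
    · exact hP's h
    · apply hgP
      rw [← hcomap]
      exact h

theorem part2 [Algebra.FinitePresentation R S] :
    [∃ g : S, g ∉ q ∧ Module.FinitePresentation (Localization.Away g)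
        (LocalizedModule (Submonoid.powers g) N),
     ∃ g : E.C, g ∉ E.z ∧ Module.FinitePresentation (Localization.Away g)
        (LocalizedModule (Submonoid.powers g) E.G),
     ∃ g : E.D, g ∉ E.y ∧ Module.FinitePresentation (Localization.Away g)
        (LocalizedModule (Submonoid.powers g) E.G)].TFAE := by
  tfae_have 1 ↔ 2 := (fpAway_q_iff_q' E).trans (fpAway_q'_iff_z E)
  tfae_have 2 ↔ 3 := fpAway_z_iff_y E
  tfae_finish

end Groth.Agent.Helper7.EDv
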