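import Mathlib

/-!
# EEvA: linear algebra for the Eisenbud–Evans basic element argument
-/

set_option autoImplicit false
universe u

namespace Groth.Agent.Helper7.EEv

open Module

section LinAlg

variable {K V : Type*} [Field K] [AddCommGroup V] [Module K V]

/-- span of a finite family -/
abbrev sp {n : ℕ} (w : Fin n → V) : Submodule K V := Submodule.span K (Set.range w)

/-- the modified family `w i + a i • z` -/
def modf {n : ℕ} (w : Fin n → V) (a : Fin n → K) (z : V) : Fin n → V := fun i => w i + a i • z

theorem sp_modf_sup {n : ℕ} (w : Fin n → V) (a : Fin n → K) (z : V) :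
    sp (modf w a z) ⊔ Submodule.span K {z} = sp (K := K) w ⊔ Submodule.span K {z} := by
  apply le_antisymm
  · rw [sup_le_iff]
    refine ⟨?_, le_sup_right⟩
    rw [Submodule.span_le]
    rintro _ ⟨i, rfl⟩
    exact Submodule.add_mem _ (Submodule.mem_sup_left (Submodule.subset_span ⟨i, rfl⟩))
      (Submodule.mem_sup_right (Submodule.smul_mem _ _ (Submodule.mem_span_singleton_self z)))
  · rw [sup_le_iff]
    refine ⟨?_, le_sup_right⟩
    rw [Submodule.span_le]
    rintro _ ⟨i, rfl⟩
    have : w i = modf w a z i - a i • z := by simp [modf]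
    rw [this]
    exact Submodule.sub_mem _ (Submodule.mem_sup_left (Submodule.subset_span ⟨i, rfl⟩))
      (Submodule.mem_sup_right (Submodule.smul_mem _ _ (Submodule.mem_span_singleton_self z)))

/-- modifying loses at most one dimension -/
theorem finrank_sup_le_modf {n : ℕ} (w : Fin n → V) (a : Fin n → K) (z : V) :
    finrank K ↥(sp (K := K) w ⊔ Submodule.span K {z}) ≤ finrank K ↥(sp (K := K) (modf w a z)) + 1 := by
  rw [← sp_modf_sup w a z]
  haveI : FiniteDimensional K ↥(sp (K := K) (modf w a z)) :=
    FiniteDimensional.span_of_finite K (Set.finite_range _)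
  have h1 := Submodule.finrank_add_le_finrank_add_finrank (sp (K := K) (modf w a z)) (Submodule.span K {z})
  have h2 : finrank K ↥(Submodule.span K {z}) ≤ 1 :=
    (finrank_span_le_card (R := K) ({z} : Set V)).trans (by simp)
  omega

theorem sp_modf_le {n : ℕ} (w : Fin n → V) (a : Fin n → K) (z : V) :
    sp (modf w a z) ≤ sp (K := K) w ⊔ Submodule.span K {z} := by
  rw [← sp_modf_sup w a z]
  exact le_sup_left

/-- the adjustment lemma: if the total span has dimension at most `n`, then either `w` already
spans it or adding `c • z` to a suitable member of the family does, for every `c ≠ 0`. -/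
theorem exists_adjust {n : ℕ} (w : Fin n → V) (z : V)
    (h : finrank K ↥(sp (K := K) w ⊔ Submodule.span K {z}) ≤ n) :
    sp (K := K) w = sp (K := K) w ⊔ Submodule.span K {z} ∨
      ∃ i₀ : Fin n, ∀ c : K, c ≠ 0 →
        sp (modf w (fun i => if i = i₀ then c else 0) z) =
          sp (K := K) w ⊔ Submodule.span K {z} := by
  by_cases hz : z ∈ sp (K := K) w
  · left
    symm
    rw [sup_eq_left, Submodule.span_singleton_le_iff_mem]
    exact hz
  · right
    -- `w` is linearly dependent
    have hdep : ¬ LinearIndependent K w := by
      intro hli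
      have h1 : finrank K ↥(sp (K := K) w) = n := by
        rw [finrank_span_eq_card hli, Fintype.card_fin]
      have hlt : sp (K := K) w < sp (K := K) w ⊔ Submodule.span K {z} := by
        rw [lt_iff_le_and_ne]
        refine ⟨le_sup_left, fun heq => hz ?_⟩
        rw [heq]
        exact Submodule.mem_sup_right (Submodule.mem_span_singleton_self z)
      haveI : FiniteDimensional K ↥(sp (K := K) w ⊔ Submodule.span K {z}) := by
        rw [← Submodule.span_union]
        exact FiniteDimensional.span_of_finite K ((Set.finite_range w).union (Set.finite_singleton z))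
      have := Submodule.finrank_lt_finrank_of_lt hlt
      omega
    rw [Fintype.not_linearIndependent_iff] at hdep
    obtain ⟨g, hg, i₀, hi₀⟩ := hdep
    refine ⟨i₀, fun c hc => ?_⟩
    apply le_antisymm (sp_modf_le w _ z)
    set w' := modf w (fun i => if i = i₀ then c else 0) z with hw'
    have hne : ∀ i, i ≠ i₀ → w i ∈ sp (K := K) w' := by
      intro i hi
      have : w i = w' i := by simp [hw', modf, hi]
      rw [this]
      exact Submodule.subset_span ⟨i, rfl⟩
    have hi₀mem : w i₀ ∈ sp (K := K) w' := by
      have hsum : g i₀ • w i₀ = - ∑ i ∈ Finset.univ.erase i₀, g i • w i := by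
        rw [eq_neg_iff_add_eq_zero]
        rw [← hg]
        exact Finset.add_sum_erase Finset.univ (fun i => g i • w i) (Finset.mem_univ i₀)
      have : w i₀ = (g i₀)⁻¹ • (- ∑ i ∈ Finset.univ.erase i₀, g i • w i) := by
        rw [← hsum, smul_smul, inv_mul_cancel₀ hi₀, one_smul]
      rw [this]
      refine Submodule.smul_mem _ _ (Submodule.neg_mem _ (Submodule.sum_mem _ ?_))
      intro i hi
      exact Submodule.smul_mem _ _ (hne i (Finset.ne_of_mem_erase hi))
    have hzmem : z ∈ sp (K := K) w' := by
      have : z = c⁻¹ • (w' i₀ - w i₀) := by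
        simp [hw', modf, smul_smul, inv_mul_cancel₀ hc]
      rw [this]
      exact Submodule.smul_mem _ _ (Submodule.sub_mem _ (Submodule.subset_span ⟨i₀, rfl⟩) hi₀mem)
    rw [sup_le_iff]
    refine ⟨?_, ?_⟩
    · rw [Submodule.span_le]
      rintro _ ⟨i, rfl⟩
      by_cases hi : i = i₀
      · rw [hi]; exact hi₀mem
      · exact hne i hi
    · rw [Submodule.span_singleton_le_iff_mem]
      exact hzmem

end LinAlg

end Groth.Agent.Helper7.EEv
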