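import Mathlib
import Groth.Agent.Helper7.EEvA

/-!
# EEvB: ranks of finite families in the fibres of a module
-/

set_option autoImplicit false
universe u

namespace Groth.Agent.Helper7.EEv

open TensorProduct Module

section LinAlg

variable {K V : Type*} [Field K] [AddCommGroup V] [Module K V]

theorem sp_snoc {n : ℕ} (v : Fin (n + 1) → V) :
    sp (K := K) v = sp (K := K) (fun i : Fin n => v i.castSucc) ⊔
      Submodule.span K {v (Fin.last n)} := by
  apply le_antisymm
  · rw [Submodule.span_le]
    rintro _ ⟨i, rfl⟩
    induction i using Fin.lastCases with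
    | last => exact Submodule.mem_sup_right (Submodule.mem_span_singleton_self _)
    | cast j => exact Submodule.mem_sup_left (Submodule.subset_span ⟨j, rfl⟩)
  · rw [sup_le_iff]
    refine ⟨Submodule.span_mono ?_, ?_⟩
    · rintro _ ⟨j, rfl⟩
      exact ⟨j.castSucc, rfl⟩
    · rw [Submodule.span_singleton_le_iff_mem]
      exact Submodule.subset_span ⟨_, rfl⟩

end LinAlg

variable {A : Type u} [CommRing A] {M : Type u} [AddCommGroup M] [Module A M]

/-- image of a family in the fibre at `p` -/
noncomputable def fib (p : Ideal A) [p.IsPrime] {ι : Type*} (v : ι → M) :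
    ι → p.ResidueField ⊗[A] M :=
  fun i => (1 : p.ResidueField) ⊗ₜ[A] v i

/-- rank of a finite family in the fibre at `p` -/
noncomputable def rk (p : Ideal A) [p.IsPrime] {n : ℕ} (v : Fin n → M) : ℕ :=
  finrank p.ResidueField (sp (K := p.ResidueField) (fib p v))

theorem rk_le_card (p : Ideal A) [p.IsPrime] {n : ℕ} (v : Fin n → M) : rk p v ≤ n := by
  have := finrank_range_le_card (R := p.ResidueField) (fib p v)
  simpa [rk, sp, Set.finrank] using this

theorem fib_add_smul (p : Ideal A) [p.IsPrime] {n : ℕ} (w : Fin n → M) (a : Fin n → A) (z : M) :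
    fib p (fun i => w i + a i • z) =
      modf (fib p w) (fun i => algebraMap A p.ResidueField (a i))
        ((1 : p.ResidueField) ⊗ₜ[A] z) := by
  funext i
  simp only [fib, modf, TensorProduct.tmul_add, TensorProduct.tmul_smul]
  rw [algebraMap_smul]

/-- the reduced family `v i + a i • v last` -/
def red {n : ℕ} (v : Fin (n + 1) → M) (a : Fin n → A) : Fin n → M :=
  fun i => v i.castSucc + a i • v (Fin.last n)

theorem rk_full (p : Ideal A) [p.IsPrime] {n : ℕ} (v : Fin (n + 1) → M) :
    rk p v = finrank p.ResidueField
      ↥(sp (K := p.ResidueField) (fib p (fun i : Fin n => v i.castSucc)) ⊔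
        Submodule.span p.ResidueField {(1 : p.ResidueField) ⊗ₜ[A] v (Fin.last n)}) := by
  unfold rk
  rw [sp_snoc]
  rfl

theorem fib_red (p : Ideal A) [p.IsPrime] {n : ℕ} (v : Fin (n + 1) → M) (a : Fin n → A) :
    fib p (red v a) =
      modf (fib p (fun i : Fin n => v i.castSucc)) (fun i => algebraMap A p.ResidueField (a i))
        ((1 : p.ResidueField) ⊗ₜ[A] v (Fin.last n)) :=
  fib_add_smul p _ a _

/-- reducing loses at most one -/
theorem rk_le_rk_red_add_one (p : Ideal A) [p.IsPrime] {n : ℕ} (v : Fin (n + 1) → M)
    (a : Fin n → A) : rk p v ≤ rk p (red v a) + 1 := by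
  rw [rk_full]
  unfold rk
  rw [fib_red]
  exact finrank_sup_le_modf _ _ _

theorem rk_red_le (p : Ideal A) [p.IsPrime] {n : ℕ} (v : Fin (n + 1) → M)
    (a : Fin n → A) : rk p (red v a) ≤ rk p v := by
  rw [rk_full]
  unfold rk
  rw [fib_red]
  haveI : FiniteDimensional p.ResidueField
      ↥(sp (K := p.ResidueField) (fib p (fun i : Fin n => v i.castSucc)) ⊔
        Submodule.span p.ResidueField {(1 : p.ResidueField) ⊗ₜ[A] v (Fin.last n)}) := by
    rw [← Submodule.span_union]
    exact FiniteDimensional.span_of_finite _ ((Set.finite_range _).union (Set.finite_singleton _))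
  exact Submodule.finrank_mono (sp_modf_le _ _ _)

/-- the rank of the reduced family only depends on `a` modulo `p` -/
theorem rk_red_congr (p : Ideal A) [p.IsPrime] {n : ℕ} (v : Fin (n + 1) → M)
    (a b : Fin n → A) (h : ∀ i, a i - b i ∈ p) : rk p (red v a) = rk p (red v b) := by
  unfold rk
  rw [fib_red, fib_red]
  have : (fun i => algebraMap A p.ResidueField (a i)) =
      fun i => algebraMap A p.ResidueField (b i) := by
    funext i
    rw [← sub_eq_zero, ← map_sub, Ideal.algebraMap_residueField_eq_zero]
    exact h i
  rw [this]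

/-- adjusting: either the reduced family keeps the rank, or a one-coordinate change does -/
theorem rk_red_adjust (p : Ideal A) [p.IsPrime] {n : ℕ} (v : Fin (n + 1) → M)
    (hv : rk p v ≤ n) (a : Fin n → A) :
    rk p (red v a) = rk p v ∨
      ∃ i₀ : Fin n, ∀ c : A, c ∉ p →
        rk p (red v (fun i => a i + if i = i₀ then c else 0)) = rk p v := by
  have hfull := rk_full p v
  -- the current reduced family, in the fibre
  set w := fib p (fun i : Fin n => v i.castSucc) with hw
  set z := (1 : p.ResidueField) ⊗ₜ[A] v (Fin.last n) with hz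
  set ā : Fin n → p.ResidueField := fun i => algebraMap A p.ResidueField (a i) with hā
  have hsup : sp (K := p.ResidueField) (modf w ā z) ⊔ Submodule.span p.ResidueField {z} =
      sp (K := p.ResidueField) w ⊔ Submodule.span p.ResidueField {z} := sp_modf_sup w ā z
  have hle : finrank p.ResidueField
      ↥(sp (K := p.ResidueField) (modf w ā z) ⊔ Submodule.span p.ResidueField {z}) ≤ n := by
    rw [hsup, ← hfull]; exact hv
  rcases exists_adjust (modf w ā z) z hle with h | ⟨i₀, h⟩
  · left
    unfold rk at hfull ⊢
    rw [hfull, fib_red, ← hsup, ← h]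
  · right
    refine ⟨i₀, fun c hc => ?_⟩
    have hc' : algebraMap A p.ResidueField c ≠ 0 := by
      rwa [Ne, Ideal.algebraMap_residueField_eq_zero]
    have := h _ hc'
    have hfam : modf w (fun i => algebraMap A p.ResidueField (a i + if i = i₀ then c else 0)) z =
        modf (modf w ā z) (fun i => if i = i₀ then algebraMap A p.ResidueField c else 0) z := by
      funext i
      simp only [modf, hā]
      split_ifs with hi
      · rw [map_add, add_smul, add_assoc]
      · rw [add_zero, zero_smul, add_zero]
    unfold rk at hfull ⊢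
    rw [hfull, fib_red, hfam, this, hsup]

end Groth.Agent.Helper7.EEv
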