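import Mathlib
import Groth.Agent.Helper7.EEvB
import Groth.Agent.Helper7.Fitt10

/-!
# EEvC: simultaneous adjustment, quotient formula, closedness
-/

set_option autoImplicit false
universe u

namespace Groth.Agent.Helper7.EEv

open TensorProduct Module

section Simul

variable {A : Type*} [CommRing A]

/-- simultaneous adjustment at finitely many primes -/
theorem exists_simul {n : ℕ} (S : Finset (PrimeSpectrum A))
    (Good : PrimeSpectrum A → (Fin n → A) → Prop)
    (hcongr : ∀ p ∈ S, ∀ a b : Fin n → A, (∀ i, a i - b i ∈ p.asIdeal) → Good p a → Good p b)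
    (hadj : ∀ p ∈ S, ∀ a : Fin n → A, Good p a ∨
      ∃ i₀ : Fin n, ∀ c : A, c ∉ p.asIdeal → Good p (fun i => a i + if i = i₀ then c else 0)) :
    ∃ a : Fin n → A, ∀ p ∈ S, Good p a := by
  classical
  induction S using Finset.strongInduction with
  | H S ih =>
    rcases S.eq_empty_or_nonempty with rfl | hne
    · exact ⟨fun _ => 0, by simp⟩
    · obtain ⟨p₀, hp₀, hmin⟩ := S.exists_minimal hne
      have hsub : S.erase p₀ ⊂ S := Finset.erase_ssubset hp₀
      obtain ⟨a, ha⟩ := ih (S.erase p₀) hsub
        (fun p hp => hcongr p (Finset.mem_of_mem_erase hp))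
        (fun p hp => hadj p (Finset.mem_of_mem_erase hp))
      -- an element of all other primes, not in `p₀`
      have hnot : ¬ (∏ q ∈ S.erase p₀, q.asIdeal) ≤ p₀.asIdeal := by
        intro hle
        obtain ⟨q, hq, hqp⟩ := (Ideal.IsPrime.prod_le p₀.isPrime).1 hle
        have hqS : q ∈ S := Finset.mem_of_mem_erase hq
        have hqne : q ≠ p₀ := Finset.ne_of_mem_erase hq
        have hqle : q ≤ p₀ := hqp
        exact hqne (le_antisymm hqle (hmin hqS hqle))
      obtain ⟨c, hcprod, hcp⟩ := SetLike.not_le_iff_exists.1 hnot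
      have hcq : ∀ q ∈ S.erase p₀, c ∈ q.asIdeal := by
        intro q hq
        exact Ideal.le_of_dvd (Finset.dvd_prod_of_mem (fun q : PrimeSpectrum A => q.asIdeal) hq)
          hcprod
      rcases hadj p₀ hp₀ a with hgood | ⟨i₀, hi₀⟩
      · refine ⟨a, fun p hp => ?_⟩
        by_cases hpp : p = p₀
        · rw [hpp]; exact hgood
        · exact ha p (Finset.mem_erase.2 ⟨hpp, hp⟩)
      · refine ⟨fun i => a i + if i = i₀ then c else 0, fun p hp => ?_⟩
        by_cases hpp : p = p₀
        · rw [hpp]; exact hi₀ c hcp
        · have hpe : p ∈ S.erase p₀ := Finset.mem_erase.2 ⟨hpp, hp⟩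
          refine hcongr p hp a _ (fun i => ?_) (ha p hpe)
          simp only [sub_add_cancel_left]
          split_ifs
          · exact neg_mem (hcq p hpe)
          · simp

end Simul

variable {A : Type u} [CommRing A] {M : Type u} [AddCommGroup M] [Module A M]

theorem range_fib (p : Ideal A) [p.IsPrime] {n : ℕ} (v : Fin n → M) :
    (TensorProduct.mk A p.ResidueField M 1) '' (Set.range v) = Set.range (fib p v) := by
  ext x
  constructor
  · rintro ⟨_, ⟨i, rfl⟩, rfl⟩
    exact ⟨i, rfl⟩
  · rintro ⟨i, rfl⟩
    exact ⟨v i, ⟨i, rfl⟩, rfl⟩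

theorem baseChange_span_eq (p : Ideal A) [p.IsPrime] {n : ℕ} (v : Fin n → M) :
    (Submodule.span A (Set.range v)).baseChange p.ResidueField =
      sp (K := p.ResidueField) (fib p v) := by
  rw [Submodule.baseChange_span, range_fib]

/-- the fibre of the quotient by the span of a family -/
theorem finrank_quot_add_rk (p : Ideal A) [p.IsPrime] [Module.Finite A M] {n : ℕ}
    (v : Fin n → M) :
    finrank p.ResidueField (p.ResidueField ⊗[A] (M ⧸ Submodule.span A (Set.range v))) + rk p v =
      finrank p.ResidueField (p.ResidueField ⊗[A] M) := by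
  set N := Submodule.span A (Set.range v) with hN
  set Q := N.mkQ.baseChange p.ResidueField with hQ
  have hsurj : Function.Surjective Q := by
    rw [hQ, LinearMap.baseChange_eq_ltensor]
    exact LinearMap.lTensor_surjective _ N.mkQ_surjective
  have hker : LinearMap.ker Q = sp (K := p.ResidueField) (fib p v) := by
    rw [← baseChange_span_eq]
    ext x
    rw [LinearMap.mem_ker]
    have h1 := lTensor_mkQ p.ResidueField N
    have h2 : x ∈ LinearMap.ker (LinearMap.lTensor p.ResidueField N.mkQ) ↔
        x ∈ LinearMap.range (LinearMap.lTensor p.ResidueField N.subtype) := by rw [h1]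
    rw [LinearMap.mem_ker] at h2
    exact h2
  have := LinearMap.finrank_range_add_finrank_ker Q
  rw [LinearMap.range_eq_top.2 hsurj, finrank_top, hker] at this
  exact this

/-- a generating family has full rank in every fibre -/
theorem rk_of_span_eq_top (p : Ideal A) [p.IsPrime] [Module.Finite A M] {n : ℕ}
    (v : Fin n → M) (hv : Submodule.span A (Set.range v) = ⊤) :
    rk p v = finrank p.ResidueField (p.ResidueField ⊗[A] M) := by
  unfold rk
  rw [← baseChange_span_eq, hv, Submodule.baseChange_top, finrank_top]

/-- the ideal cutting out `rk ≤ t` -/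
noncomputable def cut {n : ℕ} (v : Fin n → M) (ρ t : ℕ) : Ideal A :=
  if t < ρ then Fitt.ideal A (M ⧸ Submodule.span A (Set.range v)) (ρ - t - 1) else ⊥

theorem rk_le_iff (p : Ideal A) [p.IsPrime] [Module.Finite A M] {n : ℕ}
    (v : Fin n → M) (ρ t : ℕ) (hρ : finrank p.ResidueField (p.ResidueField ⊗[A] M) = ρ) :
    rk p v ≤ t ↔ cut v ρ t ≤ p := by
  have h1 := finrank_quot_add_rk p v
  rw [hρ] at h1
  unfold cut
  split_ifs with ht
  · have h2 := (FittLib.fitt_not_le_iff (M ⧸ Submodule.span A (Set.range v)) (ρ - t - 1) p).1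
    constructor
    · intro hle
      by_contra hcon
      have := h2.1 hcon
      omega
    · intro hle
      by_contra hcon
      have : finrank p.ResidueField
          (p.ResidueField ⊗[A] (M ⧸ Submodule.span A (Set.range v))) ≤ ρ - t - 1 := by omega
      exact (h2.2 this) hle
  · constructor
    · intro _; exact bot_le
    · intro _; omega

end Groth.Agent.Helper7.EEv
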