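import Mathlib
import Groth.Agent.Helper7.EEvC

/-!
# EEvD: the Eisenbud–Evans reduction step and basic families
-/

set_option autoImplicit false
universe u

namespace Groth.Agent.Helper7.EEv

open TensorProduct Module

variable {A : Type u} [CommRing A] {M : Type u} [AddCommGroup M] [Module A M]

/-- the condition maintained by the Eisenbud–Evans reduction -/
def CondC (X : Set (PrimeSpectrum A)) (d : PrimeSpectrum A → ℕ) {n : ℕ} (v : Fin n → M) : Prop :=
  ∀ p ∈ X, min n (d p) ≤ rk p.asIdeal v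

variable [IsNoetherianRing A] [Module.Finite A M]

theorem finite_bad (X : Set (PrimeSpectrum A)) (d : PrimeSpectrum A → ℕ) (ρ : ℕ)
    (hgen : ∀ p ∈ X, ∀ q : PrimeSpectrum A, q ≤ p → q ∈ X)
    (hdlt : ∀ p ∈ X, ∀ q : PrimeSpectrum A, q < p → d p + 1 ≤ d q)
    (hfr : ∀ p ∈ X, finrank p.asIdeal.ResidueField (p.asIdeal.ResidueField ⊗[A] M) = ρ)
    {n : ℕ} (v : Fin (n + 2) → M) (hC : CondC X d v) :
    {p : PrimeSpectrum A | p ∈ X ∧ rk p.asIdeal v = d p ∧ d p ≤ n + 1}.Finite := by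
  have hfin : ∀ t, {p : PrimeSpectrum A | p.asIdeal ∈ (cut v ρ t).minimalPrimes}.Finite := by
    intro t
    have := Ideal.finite_minimalPrimes_of_isNoetherianRing A (cut v ρ t)
    exact this.preimage (fun p _ q _ h => PrimeSpectrum.ext h)
  refine ((Set.finite_Iio (n + 2)).biUnion (fun t _ => hfin t)).subset ?_
  rintro p ⟨hpX, hrk, hdn⟩
  simp only [Set.mem_iUnion, Set.mem_Iio, Set.mem_ofPred_eq, exists_prop]
  refine ⟨rk p.asIdeal v, by omega, ?_⟩
  refine ⟨⟨p.isPrime, (rk_le_iff p.asIdeal v ρ _ (hfr p hpX)).1 le_rfl⟩, ?_⟩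
  rintro q ⟨hqprime, hqle⟩ hqp
  by_contra hnot
  let q' : PrimeSpectrum A := ⟨q, hqprime⟩
  have hlt : q' < p := lt_of_le_not_ge (show q' ≤ p from hqp) (fun h => hnot h)
  have hq'X := hgen p hpX q' hlt.le
  have h1 : rk q'.asIdeal v ≤ rk p.asIdeal v :=
    (rk_le_iff q'.asIdeal v ρ _ (hfr q' hq'X)).2 hqle
  have h2 := hC q' hq'X
  have h3 := hdlt p hpX q' hlt
  omega

theorem ee_step (X : Set (PrimeSpectrum A)) (d : PrimeSpectrum A → ℕ) (ρ : ℕ)
    (hgen : ∀ p ∈ X, ∀ q : PrimeSpectrum A, q ≤ p → q ∈ X)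
    (hdlt : ∀ p ∈ X, ∀ q : PrimeSpectrum A, q < p → d p + 1 ≤ d q)
    (hfr : ∀ p ∈ X, finrank p.asIdeal.ResidueField (p.asIdeal.ResidueField ⊗[A] M) = ρ)
    {n : ℕ} (v : Fin (n + 2) → M) (hC : CondC X d v) :
    ∃ a : Fin (n + 1) → A, CondC X d (red v a) := by
  classical
  have hfin := finite_bad X d ρ hgen hdlt hfr v hC
  obtain ⟨a, ha⟩ := exists_simul hfin.toFinset
    (fun p a => rk p.asIdeal (red v a) = rk p.asIdeal v)
    (fun p _ a b hab h => by rw [← rk_red_congr p.asIdeal v a b hab]; exact h)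
    (fun p hp a => by
      obtain ⟨_, h1, h2⟩ := hfin.mem_toFinset.1 hp
      exact rk_red_adjust p.asIdeal v (by omega) a)
  refine ⟨a, fun p hpX => ?_⟩
  have h1 := rk_le_rk_red_add_one p.asIdeal v a
  have h2 := hC p hpX
  by_cases hE : rk p.asIdeal v = d p ∧ d p ≤ n + 1
  · have := ha p (hfin.mem_toFinset.2 ⟨hpX, hE⟩)
    rw [this]
    omega
  · omega

theorem ee_iter (X : Set (PrimeSpectrum A)) (d : PrimeSpectrum A → ℕ) (ρ : ℕ)
    (hgen : ∀ p ∈ X, ∀ q : PrimeSpectrum A, q ≤ p → q ∈ X)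
    (hdlt : ∀ p ∈ X, ∀ q : PrimeSpectrum A, q < p → d p + 1 ≤ d q)
    (hfr : ∀ p ∈ X, finrank p.asIdeal.ResidueField (p.asIdeal.ResidueField ⊗[A] M) = ρ)
    (s' : ℕ) : ∀ n, s' ≤ n → ∀ v : Fin (n + 1) → M, CondC X d v →
      ∃ m : Fin (s' + 1) → M, CondC X d m := by
  intro n hn
  induction n, hn using Nat.le_induction with
  | base => intro v hv; exact ⟨v, hv⟩
  | succ n hn ih =>
    intro v hv
    obtain ⟨a, ha⟩ := ee_step X d ρ hgen hdlt hfr v hv
    exact ih _ ha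

/-- existence of a family which is linearly independent in all fibres over `X` -/
theorem exists_basic (X : Set (PrimeSpectrum A)) (d : PrimeSpectrum A → ℕ) (ρ : ℕ)
    (hgen : ∀ p ∈ X, ∀ q : PrimeSpectrum A, q ≤ p → q ∈ X)
    (hdlt : ∀ p ∈ X, ∀ q : PrimeSpectrum A, q < p → d p + 1 ≤ d q)
    (hfr : ∀ p ∈ X, finrank p.asIdeal.ResidueField (p.asIdeal.ResidueField ⊗[A] M) = ρ)
    (hdρ : ∀ p ∈ X, d p ≤ ρ) (s : ℕ) (hs : ∀ p ∈ X, s ≤ d p) :
    ∃ m : Fin s → M, ∀ p ∈ X, rk p.asIdeal m = s := by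
  rcases s with _ | s'
  · exact ⟨fun i => i.elim0, fun p _ => Nat.le_zero.1 (rk_le_card _ _)⟩
  · obtain ⟨n₀, g, hg⟩ := Module.Finite.exists_fin (R := A) (M := M)
    let v : Fin (n₀ + s' + 1) → M := fun i => if h : (i : ℕ) < n₀ then g ⟨i, h⟩ else 0
    have hv : Submodule.span A (Set.range v) = ⊤ := by
      rw [eq_top_iff, ← hg]
      apply Submodule.span_mono
      rintro _ ⟨i, rfl⟩
      refine ⟨⟨i, by omega⟩, ?_⟩
      simp [v]
    have hCv : CondC X d v := fun p hp => by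
      rw [rk_of_span_eq_top _ v hv, hfr p hp]
      exact (min_le_right _ _).trans (hdρ p hp)
    obtain ⟨m, hm⟩ := ee_iter X d ρ hgen hdlt hfr s' (n₀ + s') (by omega) v hCv
    refine ⟨m, fun p hp => le_antisymm (rk_le_card _ _) ?_⟩
    have h1 := hm p hp
    have h2 := hs p hp
    omega

end Groth.Agent.Helper7.EEv
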