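import Mathlib

/-!
# EEvE: local algebra — part of a basis of a free module over a local ring
-/

set_option autoImplicit false
universe u

namespace Groth.Agent.Helper7.EEv

open TensorProduct Module IsLocalRing

section Local

variable {R : Type*} [CommRing R] [IsLocalRing R] {F : Type*} [AddCommGroup F] [Module R F]

theorem lTensor_linearCombination_injective {s : ℕ} (x : Fin s → F)
    (hx : LinearIndependent (ResidueField R) (fun i => (1 : ResidueField R) ⊗ₜ[R] x i)) :
    Function.Injective ((Fintype.linearCombination R x).lTensor (ResidueField R)) := by
  classical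
  set l := Fintype.linearCombination R x with hl
  let b : Basis (Fin s) (ResidueField R) (ResidueField R ⊗[R] (Fin s → R)) :=
    (Pi.basisFun R (Fin s)).baseChange (ResidueField R)
  have hcomp : l.baseChange (ResidueField R) =
      Fintype.linearCombination (ResidueField R) (fun i => (1 : ResidueField R) ⊗ₜ[R] x i) ∘ₗ
        b.equivFun.toLinearMap := by
    apply b.ext
    intro i
    have hb : b i = (1 : ResidueField R) ⊗ₜ[R] (Pi.single i (1 : R) : Fin s → R) := by
      simp [b, Basis.baseChange_apply]
    have hbe : b.equivFun (b i) = Pi.single i (1 : ResidueField R) := by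
      ext j
      rw [Basis.equivFun_self, Pi.single_apply]
      simp [eq_comm]
    rw [LinearMap.comp_apply, LinearEquiv.coe_coe, hbe, hb,
      LinearMap.baseChange_tmul, hl, Fintype.linearCombination_apply_single,
      Fintype.linearCombination_apply_single, one_smul, one_smul]
  have hinj : Function.Injective (l.baseChange (ResidueField R)) := by
    rw [hcomp]
    exact (linearIndependent_iff_injective_fintypeLinearCombination.1 hx).comp
      b.equivFun.injective
  intro a c hac
  apply hinj
  rw [← LinearMap.baseChange_eq_ltensor] at hac
  exact hac

theorem local_split {r s : ℕ} (e : F ≃ₗ[R] (Fin r → R)) (x : Fin s → F)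
    (hx : LinearIndependent (ResidueField R) (fun i => (1 : ResidueField R) ⊗ₜ[R] x i)) :
    LinearIndependent R x ∧
      Nonempty ((F ⧸ Submodule.span R (Set.range x)) ≃ₗ[R] (Fin (r - s) → R)) := by
  haveI : Module.Free R F := Module.Free.of_equiv e.symm
  haveI : Module.Finite R F := Module.Finite.equiv e.symm
  set l := Fintype.linearCombination R x with hl
  have hinj := lTensor_linearCombination_injective x hx
  obtain ⟨l', hl'⟩ := (IsLocalRing.split_injective_iff_lTensor_residueField_injective l).2 hinj
  have hlinj : Function.Injective l :=
    Function.HasLeftInverse.injective ⟨l', LinearMap.congr_fun hl'⟩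
  refine ⟨linearIndependent_iff_injective_fintypeLinearCombination.2 hlinj, ?_⟩
  haveI : Module.Free R (F ⧸ LinearMap.range l) :=
    Module.free_of_lTensor_residueField_injective l (LinearMap.range l).mkQ
      (Submodule.mkQ_surjective _) l.exact_map_mkQ_range hinj
  obtain ⟨e', -⟩ := Function.Exact.splitInjectiveEquiv l.exact_map_mkQ_range
    (Submodule.mkQ_surjective _) ⟨l', hl'⟩
  have h1 : finrank R F = r := by rw [e.finrank_eq, Module.finrank_fin_fun]
  have h2 : finrank R F = s + finrank R (F ⧸ LinearMap.range l) := by
    rw [e'.finrank_eq, Module.finrank_prod, Module.finrank_fin_fun]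
  have h3 : finrank R (F ⧸ LinearMap.range l) = r - s := by omega
  have e'' := (Module.finBasisOfFinrankEq R (F ⧸ LinearMap.range l) h3).equivFun
  have hr : LinearMap.range l = Submodule.span R (Set.range x) :=
    Fintype.range_linearCombination R x
  exact ⟨(Submodule.quotEquivOfEq _ _ hr.symm).trans e''⟩

end Local

end Groth.Agent.Helper7.EEv
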