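import Mathlib
import Groth.Agent.Helper7.EEvD
import Groth.Agent.Helper7.EEvE

/-!
# EEvF: fibres versus localizations, and the free submodule theorem
-/

set_option autoImplicit false
universe u

namespace Groth.Agent.Helper7.EEv

open TensorProduct Module

section Conv

variable {A : Type u} [CommRing A] (p : Ideal A) [p.IsPrime]
  (M : Type u) [AddCommGroup M] [Module A M]

/-- the fibre of the localization is the fibre -/
noncomputable def fibEquiv :
    p.ResidueField ⊗[Localization.AtPrime p] (LocalizedModule p.primeCompl M)
      ≃ₗ[p.ResidueField] p.ResidueField ⊗[A] M :=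
  (AlgebraTensorModule.congr (LinearEquiv.refl p.ResidueField p.ResidueField)
    (IsLocalizedModule.isBaseChange p.primeCompl (Localization.AtPrime p)
      (LocalizedModule.mkLinearMap p.primeCompl M)).equiv.symm) ≪≫ₗ
  AlgebraTensorModule.cancelBaseChange A (Localization.AtPrime p) p.ResidueField p.ResidueField M

theorem fibEquiv_tmul (m : M) :
    fibEquiv p M ((1 : p.ResidueField) ⊗ₜ[Localization.AtPrime p]
      LocalizedModule.mkLinearMap p.primeCompl M m) = (1 : p.ResidueField) ⊗ₜ[A] m := by
  simp only [fibEquiv, LinearEquiv.trans_apply, AlgebraTensorModule.congr_tmul,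
    LinearEquiv.refl_apply]
  rw [IsBaseChange.equiv_symm_apply, AlgebraTensorModule.cancelBaseChange_tmul, one_smul]

theorem linearIndependent_local {s : ℕ} (m : Fin s → M) (h : rk p m = s) :
    LinearIndependent (IsLocalRing.ResidueField (Localization.AtPrime p))
      (fun i => (1 : IsLocalRing.ResidueField (Localization.AtPrime p)) ⊗ₜ[Localization.AtPrime p]
        (LocalizedModule.mkLinearMap p.primeCompl M (m i))) := by
  have h1 : LinearIndependent p.ResidueField (fib p m) := by
    rw [linearIndependent_iff_card_eq_finrank_span, Fintype.card_fin]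
    exact h.symm
  apply LinearIndependent.of_comp (fibEquiv p M).toLinearMap
  have : (fibEquiv p M).toLinearMap ∘
      (fun i => (1 : IsLocalRing.ResidueField (Localization.AtPrime p)) ⊗ₜ[Localization.AtPrime p]
        (LocalizedModule.mkLinearMap p.primeCompl M (m i))) = fib p m := by
    funext i
    exact fibEquiv_tmul p M (m i)
  rw [this]
  exact h1

theorem finrank_fibre_of_free {r : ℕ}
    (e : LocalizedModule p.primeCompl M ≃ₗ[Localization.AtPrime p]
      (Fin r → Localization.AtPrime p)) :
    finrank p.ResidueField (p.ResidueField ⊗[A] M) = r := by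
  rw [← (fibEquiv p M).finrank_eq]
  haveI : Module.Free (Localization.AtPrime p) (LocalizedModule p.primeCompl M) :=
    Module.Free.of_equiv e.symm
  rw [Module.finrank_baseChange, e.finrank_eq, Module.finrank_fin_fun]

end Conv

end Groth.Agent.Helper7.EEv
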