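import Mathlib
import Groth.Agent.Helper7.EEvF

/-!
# EEvG: the free submodule theorem (Eisenbud–Evans / Serre)
-/

set_option autoImplicit false
universe u

namespace Groth.Agent.Helper7.EEv

open TensorProduct Module

theorem main (A : Type u) [CommRing A] [IsNoetherianRing A]
    (M : Type u) [AddCommGroup M] [Module A M] [Module.Finite A M] (k r : ℕ) (hkr : k ≤ r)
    (hAss : ∀ p ∈ associatedPrimes A A, p.height ≤ k)
    (hM : ∀ p : PrimeSpectrum A, p.asIdeal.height ≤ k →
      Nonempty (LocalizedModule p.asIdeal.primeCompl M ≃ₗ[Localization.AtPrime p.asIdeal]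
        (Fin r → Localization.AtPrime p.asIdeal))) :
    ∃ N : Submodule A M, Nonempty (N ≃ₗ[A] (Fin (r - k) → A)) ∧
      ∀ p : PrimeSpectrum A, p.asIdeal.height ≤ k →
        Nonempty (LocalizedModule p.asIdeal.primeCompl (M ⧸ N) ≃ₗ[Localization.AtPrime p.asIdeal]
          (Fin k → Localization.AtPrime p.asIdeal)) := by
  classical
  set X : Set (PrimeSpectrum A) := {p | p.asIdeal.height ≤ k} with hX
  set d : PrimeSpectrum A → ℕ := fun p => r - p.asIdeal.height.toNat with hd
  have hgen : ∀ p ∈ X, ∀ q : PrimeSpectrum A, q ≤ p → q ∈ X := fun p hp q hq =>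
    (Ideal.height_mono hq).trans hp
  have htoNat : ∀ p ∈ X, (p.asIdeal.height.toNat : ℕ∞) = p.asIdeal.height ∧
      p.asIdeal.height.toNat ≤ k := by
    intro p hp
    have hp' : p.asIdeal.height ≤ k := hp
    have hne : p.asIdeal.height ≠ ⊤ := ne_top_of_le_ne_top (ENat.natCast_ne_top k) hp'
    refine ⟨ENat.natCast_toNat hne, ?_⟩
    have := ENat.toNat_le_toNat hp' (ENat.natCast_ne_top k)
    simpa using this
  have hdlt : ∀ p ∈ X, ∀ q : PrimeSpectrum A, q < p → d p + 1 ≤ d q := by
    intro p hp q hq
    have h1 := Ideal.height_add_one_le_of_lt_of_isPrime (I := q.asIdeal) (J := p.asIdeal) hq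
    obtain ⟨hp1, hp2⟩ := htoNat p hp
    obtain ⟨hq1, hq2⟩ := htoNat q (hgen p hp q hq.le)
    rw [← hp1, ← hq1] at h1
    have h2 : q.asIdeal.height.toNat + 1 ≤ p.asIdeal.height.toNat := by exact_mod_cast h1
    simp only [hd]
    omega
  have hfr : ∀ p ∈ X,
      finrank p.asIdeal.ResidueField (p.asIdeal.ResidueField ⊗[A] M) = r := fun p hp => by
    obtain ⟨e⟩ := hM p hp
    exact finrank_fibre_of_free p.asIdeal M e
  have hdρ : ∀ p ∈ X, d p ≤ r := fun p _ => Nat.sub_le _ _
  have hs : ∀ p ∈ X, r - k ≤ d p := fun p hp => by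
    have := (htoNat p hp).2
    simp only [hd]
    omega
  obtain ⟨m, hm⟩ := exists_basic X d r hgen hdlt hfr hdρ (r - k) hs
  have hloc : ∀ p ∈ X,
      LinearIndependent (Localization.AtPrime p.asIdeal)
        (fun i => LocalizedModule.mkLinearMap p.asIdeal.primeCompl M (m i)) ∧
      Nonempty ((LocalizedModule p.asIdeal.primeCompl M ⧸
        Submodule.span (Localization.AtPrime p.asIdeal)
          (Set.range fun i => LocalizedModule.mkLinearMap p.asIdeal.primeCompl M (m i)))
        ≃ₗ[Localization.AtPrime p.asIdeal] (Fin (r - (r - k)) → Localization.AtPrime p.asIdeal)) := by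
    intro p hp
    obtain ⟨e⟩ := hM p hp
    exact local_split e _ (linearIndependent_local p.asIdeal M m (hm p hp))
  set l := Fintype.linearCombination A m with hl
  have hinj : Function.Injective l := by
    rw [← LinearMap.ker_eq_bot]
    by_contra hne
    haveI : Nontrivial (LinearMap.ker l) := Submodule.nontrivial_iff_ne_bot.2 hne
    obtain ⟨P, hP⟩ := associatedPrimes.nonempty A (LinearMap.ker l)
    obtain ⟨hPprime, ⟨y, hy⟩, hPy⟩ := (isAssociatedPrime_iff.1 hP)
    have hmemP : ∀ a : A, a ∈ P ↔ ∀ i, a * y i = 0 := by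
      intro a
      rw [hPy, Submodule.mem_colon_singleton, Submodule.mem_bot, ← Subtype.coe_inj]
      simp [funext_iff]
    have hex : ∃ i₀, ∀ a : A, a * y i₀ = 0 → a ∈ P := by
      by_contra hcon
      push Not at hcon
      choose a ha1 ha2 using hcon
      have hprod : ∏ i, a i ∈ P := (hmemP _).2 (fun i => by
        rw [← Finset.mul_prod_erase Finset.univ a (Finset.mem_univ i), mul_right_comm, ha1,
          zero_mul])
      obtain ⟨i, -, hi⟩ := (hPprime.prod_mem_iff).1 hprod
      exact ha2 i hi
    obtain ⟨i₀, hi₀⟩ := hex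
    have hPass : P ∈ associatedPrimes A A := by
      refine isAssociatedPrime_iff.2 ⟨hPprime, y i₀, ?_⟩
      ext a
      rw [Submodule.mem_colon_singleton, Submodule.mem_bot, smul_eq_mul]
      exact ⟨fun h => (hmemP a).1 h i₀, hi₀ a⟩
    have hPht := hAss P hPass
    let P' : PrimeSpectrum A := ⟨P, hPprime⟩
    have hli := (hloc P' hPht).1
    have hrel : ∑ i, algebraMap A (Localization.AtPrime P) (y i) •
        LocalizedModule.mkLinearMap P.primeCompl M (m i) = 0 := by
      have h0 : l y = 0 := hy
      rw [hl, Fintype.linearCombination_apply] at h0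
      have := congrArg (LocalizedModule.mkLinearMap P.primeCompl M) h0
      rw [map_sum, map_zero] at this
      rw [← this]
      refine Finset.sum_congr rfl (fun i _ => ?_)
      rw [map_smul, algebraMap_smul]
    have hzero := Fintype.linearIndependent_iff.1 hli _ hrel i₀
    obtain ⟨t, ht⟩ := (IsLocalization.map_eq_zero_iff P.primeCompl _ _).1 hzero
    exact t.2 (hi₀ _ ht)
  refine ⟨LinearMap.range l, ⟨(LinearEquiv.ofInjective l hinj).symm⟩, fun p hp => ?_⟩
  obtain ⟨-, ⟨e2⟩⟩ := hloc p hp
  have hr : LinearMap.range l = Submodule.span A (Set.range m) :=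
    Fintype.range_linearCombination A m
  have hloc' : (LinearMap.range l).localized p.asIdeal.primeCompl =
      Submodule.span (Localization.AtPrime p.asIdeal)
        (Set.range fun i => LocalizedModule.mkLinearMap p.asIdeal.primeCompl M (m i)) := by
    rw [hr]
    unfold Submodule.localized
    rw [Submodule.localized'_span, ← Set.range_comp]
    rfl
  have e1 := (localizedQuotientEquiv p.asIdeal.primeCompl (LinearMap.range l)).symm
  have e3 := Submodule.quotEquivOfEq _ _ hloc'
  have hk : r - (r - k) = k := by omega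
  rw [hk] at e2
  exact ⟨(e1.trans e3).trans e2⟩

end Groth.Agent.Helper7.EEv
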