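import Mathlib
import Groth.Agent.Helper2.TakEq
import Groth.Agent.Helper5.HopfNil
import Groth.Agent.Helper5.HopfSplit

/-!
# An étale quotient with radiciel kernel over a perfect field lifts uniquely (the reduced subgroup)
-/

namespace Groth.Agent.Helper7.EtRad

open TensorProduct

universe u

section idem

/-- in a reduced Artinian ring every ideal is generated by an idempotent -/
theorem exists_idempotent_span {R : Type*} [CommRing R] [IsArtinianRing R] [IsReduced R]
    (I : Ideal R) : ∃ e : R, IsIdempotentElem e ∧ I = Ideal.span {e} := by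
  haveI : IsNoetherianRing R := inferInstance
  have hfg : I.FG := IsNoetherian.noetherian I
  have hid : IsIdempotentElem I := by
    apply le_antisymm
    · exact Ideal.mul_le_left
    · intro x hx
      obtain ⟨z, hz⟩ := Groth.Agent.Helper5.HopfSplit.exists_eq_sq_mul x
      rw [hz, pow_two, mul_assoc]
      exact Ideal.mul_mem_mul hx (Ideal.mul_mem_right _ _ hx)
  obtain ⟨e, he, hI⟩ := (Ideal.isIdempotentElem_iff_of_fg I hfg).1 hid
  exact ⟨e, he, hI⟩

/-- an ideal generated by an idempotent in a reduced ring is radical -/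
theorem mem_of_pow_mem_span_idempotent {R : Type*} [CommRing R] [IsReduced R] {e : R}
    (he : IsIdempotentElem e) {x : R} {n : ℕ} (hx : x ^ n ∈ Ideal.span {e}) :
    x ∈ Ideal.span {e} := by
  obtain ⟨y, hy⟩ := Ideal.mem_span_singleton'.1 hx
  have h1 : (x * (1 - e)) ^ (n + 1) = 0 := by
    have h2 : e * (1 - e) = 0 := by rw [mul_sub, mul_one, he.eq, sub_self]
    rw [mul_pow, pow_succ x n, ← hy, pow_succ (1 - e) n]
    calc y * e * x * ((1 - e) ^ n * (1 - e)) = y * x * (1 - e) ^ n * (e * (1 - e)) := by ring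
      _ = 0 := by rw [h2, mul_zero]
  have h3 : x * (1 - e) = 0 := IsReduced.eq_zero _ ⟨n + 1, h1⟩
  have h4 : x = x * e := by
    have : x * (1 - e) = x - x * e := by ring
    rw [this] at h3
    exact sub_eq_zero.1 h3
  rw [h4]
  exact Ideal.mul_mem_left _ _ (Ideal.mem_span_singleton_self e)

end idem

variable {k : Type u} [Field k] [PerfectField k] {A C : Type u} [CommRing A] [HopfAlgebra k A]
  [Algebra.FiniteType k A] [CommRing C] [HopfAlgebra k C] [Algebra.Etale k C]

/-- elements of the augmentation ideal of `A` are nilpotent modulo `J` when `A/J` is local -/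
theorem pow_mem_of_counit_eq_zero (J : Ideal A)
    (hJε : J ≤ RingHom.ker (Bialgebra.counitAlgHom k A)) [IsLocalRing (A ⧸ J)]
    (a : A) (ha : Bialgebra.counitAlgHom k A a = 0) : ∃ n : ℕ, a ^ n ∈ J := by
  haveI : Algebra.FiniteType k (A ⧸ J) :=
    Algebra.FiniteType.of_surjective (Ideal.Quotient.mkₐ k J) (Ideal.Quotient.mkₐ_surjective k J)
  haveI : IsJacobsonRing (A ⧸ J) := isJacobsonRing_of_finiteType (A := k) (B := A ⧸ J)
  let εbar : A ⧸ J →ₐ[k] k := Ideal.Quotient.liftₐ J (Bialgebra.counitAlgHom k A) (fun x hx => hJε hx)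
  have hmax : (RingHom.ker (εbar : A ⧸ J →+* k)).IsMaximal := by
    apply RingHom.ker_isMaximal_of_surjective
    intro c
    exact ⟨algebraMap k _ c, by rw [AlgHom.coe_toRingHom, AlgHom.commutes]; rfl⟩
  have h1 : RingHom.ker (εbar : A ⧸ J →+* k) = IsLocalRing.maximalIdeal (A ⧸ J) :=
    IsLocalRing.eq_maximalIdeal hmax
  have h2 : Ideal.Quotient.mk J a ∈ IsLocalRing.maximalIdeal (A ⧸ J) := by
    rw [← h1, RingHom.mem_ker]
    change εbar (Ideal.Quotient.mk J a) = 0
    simp only [εbar, Ideal.Quotient.liftₐ_apply, Ideal.Quotient.lift_mk]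
    exact ha
  rw [← IsLocalRing.jacobson_eq_maximalIdeal ⊥ bot_ne_top, ← Ideal.radical_eq_jacobson] at h2
  obtain ⟨n, hn⟩ := h2
  refine ⟨n, ?_⟩
  rw [← map_pow, Submodule.mem_bot, Ideal.Quotient.eq_zero_iff_mem] at hn
  exact hn

end Groth.Agent.Helper7.EtRad
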