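import Mathlib
import Groth.Agent.Helper7.ER1

/-!
# An étale quotient with radiciel kernel over a perfect field lifts uniquely (main)
-/

namespace Groth.Agent.Helper7.EtRad

open TensorProduct

universe u

variable {k : Type u} [Field k] [PerfectField k] {A C : Type u} [CommRing A] [HopfAlgebra k A]
  [Algebra.FiniteType k A] [CommRing C] [HopfAlgebra k C] [Algebra.Etale k C]

theorem main (ψ : C →ₐc[k] A) (hψ : Function.Injective ψ)
    (J : Ideal A) [J.IsHopfIdeal k]
    (hJ : J = Ideal.map (ψ : C →+* A) (RingHom.ker (Bialgebra.counitAlgHom k C)))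
    [IsLocalRing (A ⧸ J)] :
    (∃! r : A →ₐc[k] C, r.comp ψ = BialgHom.id k C) ∧
    ∀ r : A →ₐc[k] C, r.comp ψ = BialgHom.id k C → RingHom.ker (r : A →+* C) = nilradical A := by
  classical
  haveI hN : (nilradical A).IsHopfIdeal k := Groth.Agent.Helper5.HopfNil.s11926 k A
  haveI hCred : IsReduced C := Algebra.FormallyUnramified.isReduced_of_field k C
  haveI hCfin : Module.Finite k C := Algebra.FormallyUnramified.finite_of_free (R := k) (S := C)
  haveI hCart : IsArtinianRing C := IsArtinianRing.of_finite k C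
  set N := nilradical A with hNdef
  let π : A →ₐc[k] A ⧸ N := Bialgebra.Quotient.mkBialgHom (R := k) N
  have hπ : ∀ a, π a = Ideal.Quotient.mk N a := fun _ => rfl
  let ψ' : C →ₐc[k] A ⧸ N := π.comp ψ
  have hψ' : ∀ c, ψ' c = Ideal.Quotient.mk N (ψ c) := fun _ => rfl
  haveI hEred : IsReduced (A ⧸ N) :=
    (Ideal.isRadical_iff_quotient_reduced N).1 (Ideal.radical_isRadical _)
  -- injectivity of ψ'
  have hinj : Function.Injective ψ' := by
    rw [injective_iff_map_eq_zero]
    intro c hc
    rw [hψ', Ideal.Quotient.eq_zero_iff_mem] at hc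
    obtain ⟨n, hn⟩ := (mem_nilradical.1 hc)
    rw [← map_pow] at hn
    have : c ^ n = 0 := hψ (by rw [hn, map_zero])
    exact IsReduced.eq_zero _ ⟨n, this⟩
  -- `J ≤ ker ε`
  have hJε : J ≤ RingHom.ker (Bialgebra.counitAlgHom k A) := by
    rw [hJ, Ideal.map_le_iff_le_comap]
    intro c hc
    rw [Ideal.mem_comap, RingHom.mem_ker]
    have h1 : Bialgebra.counitAlgHom k A (ψ c) = Bialgebra.counitAlgHom k C c :=
      DFunLike.congr_fun (BialgHom.counitAlgHom_comp ψ) c
    exact h1.trans hc
  -- the augmentation ideal of `C` is generated by an idempotent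
  obtain ⟨f, hf, hfC⟩ := exists_idempotent_span (RingHom.ker (Bialgebra.counitAlgHom k C))
  set J' : Ideal (A ⧸ N) := Ideal.map (ψ' : C →+* A ⧸ N) (RingHom.ker (Bialgebra.counitAlgHom k C))
    with hJ'
  have hJ'span : J' = Ideal.span {ψ' f} := by
    rw [hJ', hfC, Ideal.map_span, Set.image_singleton]
    rfl
  have hf' : IsIdempotentElem (ψ' f) := by
    change ψ' f * ψ' f = ψ' f
    rw [← map_mul, hf.eq]
  -- the augmentation ideal of `A/N` lies in `J'`
  have haug : ∀ x : A ⧸ N, Bialgebra.counitAlgHom k (A ⧸ N) x = 0 → x ∈ J' := by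
    intro x hx
    obtain ⟨a, rfl⟩ := Ideal.Quotient.mk_surjective x
    have ha : Bialgebra.counitAlgHom k A a = 0 := by
      have h1 : Bialgebra.counitAlgHom k (A ⧸ N) (π a) = Bialgebra.counitAlgHom k A a :=
        DFunLike.congr_fun (BialgHom.counitAlgHom_comp π) a
      rw [← h1]
      exact hx
    obtain ⟨n, hn⟩ := pow_mem_of_counit_eq_zero J hJε a ha
    have h2 : (Ideal.Quotient.mk N a) ^ n ∈ J' := by
      rw [← map_pow]
      have h3 : Ideal.map (Ideal.Quotient.mk N) J ≤ J' := by
        rw [hJ, hJ', Ideal.map_map]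
        exact le_of_eq rfl
      exact h3 (Ideal.mem_map_of_mem _ hn)
    rw [hJ'span] at h2 ⊢
    exact mem_of_pow_mem_span_idempotent hf' h2
  -- surjectivity of ψ'
  have hsurj : Function.Surjective ψ' := by
    intro x
    apply Groth.Agent.Helper2.TakEq.mem_range_of_coinv ψ' J' hJ' x
    have key : ∀ t : (A ⧸ N) ⊗[k] (A ⧸ N),
        LinearMap.lTensor (A ⧸ N) (Ideal.Quotient.mkₐ k J').toLinearMap t =
          ((TensorProduct.rid k (A ⧸ N)) (LinearMap.lTensor (A ⧸ N)
            (Coalgebra.counit (R := k) (A := A ⧸ N)) t)) ⊗ₜ[k] (1 : (A ⧸ N) ⧸ J') := by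
      intro t
      induction t using TensorProduct.induction_on with
      | zero => simp
      | add x y hx hy => rw [map_add, hx, hy, map_add, map_add, TensorProduct.add_tmul]
      | tmul x y =>
        rw [LinearMap.lTensor_tmul, LinearMap.lTensor_tmul, TensorProduct.rid_tmul,
          TensorProduct.smul_tmul]
        congr 1
        change Ideal.Quotient.mkₐ k J' y = _
        have h4 : y - algebraMap k (A ⧸ N) (Coalgebra.counit (R := k) y) ∈ J' := by
          apply haug
          rw [map_sub, AlgHom.commutes]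
          change Coalgebra.counit (R := k) y - _ = 0
          rw [Algebra.algebraMap_self_apply, sub_self]
        have h5 : Ideal.Quotient.mkₐ k J' (y - algebraMap k (A ⧸ N) (Coalgebra.counit (R := k) y)) = 0 :=
          (Ideal.Quotient.eq_zero_iff_mem).2 h4
        rw [map_sub, sub_eq_zero] at h5
        rw [h5, AlgHom.commutes, Algebra.algebraMap_eq_smul_one]
    rw [key, Coalgebra.lTensor_counit_comul]
    simp
  -- the inverse
  let e : C ≃ₐc[k] A ⧸ N := BialgEquiv.ofBijective ψ' ⟨hinj, hsurj⟩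
  have he : ∀ c, e c = ψ' c := fun _ => rfl
  let r : A →ₐc[k] C := (e.symm : A ⧸ N →ₐc[k] C).comp π
  have hr : ∀ a, r a = e.symm (Ideal.Quotient.mk N a) := fun _ => rfl
  -- every retraction factors through the reduction
  have huniq : ∀ r' : A →ₐc[k] C, r'.comp ψ = BialgHom.id k C → ∀ a, r' a = r a := by
    intro r' hr' a
    have hker : ∀ x ∈ N, r' x = 0 := by
      intro x hx
      obtain ⟨n, hn⟩ := mem_nilradical.1 hx
      exact IsReduced.eq_zero _ ⟨n, by rw [← map_pow, hn, map_zero]⟩
    obtain ⟨c, hc⟩ := hsurj (Ideal.Quotient.mk N a)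
    have h1 : a - ψ c ∈ N := by
      rw [← Ideal.Quotient.eq, ← hc, hψ']
    have h2 : r' a = c := by
      have := hker _ h1
      rw [map_sub, sub_eq_zero] at this
      rw [this]
      exact DFunLike.congr_fun hr' c
    rw [h2, hr, ← hc, ← he, BialgEquiv.symm_apply_apply]
  have hrψ : r.comp ψ = BialgHom.id k C := by
    ext c
    change e.symm (ψ' c) = c
    rw [← he, BialgEquiv.symm_apply_apply]
  refine ⟨⟨r, hrψ, fun r' hr' => ?_⟩, fun r' hr' => ?_⟩
  · ext a
    exact huniq r' hr' a
  · ext a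
    rw [RingHom.mem_ker]
    change r' a = 0 ↔ _
    rw [huniq r' hr' a, hr, EmbeddingLike.map_eq_zero_iff, Ideal.Quotient.eq_zero_iff_mem]

end Groth.Agent.Helper7.EtRad
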