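import Mathlib

namespace Groth.Agent.Helper7.Eis

set_option linter.unusedSectionVars false
set_option linter.style.haveILetI false

open Polynomial

universe u

section ring

variable (A : Type u) [CommRing A] [IsDomain A] [IsDiscreteValuationRing A] (π : A)
  (hπ : Irreducible π) (n : ℕ) (hn : 0 < n)

/-- the Eisenstein polynomial -/
noncomputable abbrev f : A[X] := X ^ n - C π

include hn in
lemma f_monic : (f A π n).Monic := monic_X_pow_sub_C π hn.ne'

include hn in
lemma f_natDegree : (f A π n).natDegree = n := natDegree_X_pow_sub_C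

include hπ hn in
theorem f_irreducible : Irreducible (f A π n) := by
  have hprime : (Ideal.span {π}).IsPrime :=
    (Ideal.span_singleton_prime hπ.ne_zero).2 hπ.prime
  have hE : (f A π n).IsEisensteinAt (Ideal.span {π}) := by
    refine ⟨?_, ?_, ?_⟩
    · rw [(f_monic A π n hn).leadingCoeff]
      intro h1
      exact hprime.ne_top ((Ideal.eq_top_iff_one _).2 h1)
    · intro i hi
      rw [f_natDegree A π n hn] at hi
      rw [f, coeff_sub, coeff_X_pow, if_neg hi.ne, zero_sub, coeff_C]
      split_ifs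
      · exact (Ideal.neg_mem_iff _).2 (Ideal.mem_span_singleton_self π)
      · simp
    · rw [f, coeff_sub, coeff_X_pow, if_neg hn.ne, zero_sub, coeff_C_zero, Ideal.span_singleton_pow,
        Ideal.neg_mem_iff, Ideal.mem_span_singleton]
      intro hdvd
      obtain ⟨c, hc⟩ := hdvd
      have h1 : π * (π * c) = π * 1 := by rw [mul_one, ← mul_assoc, ← sq]; exact hc.symm
      have h2 := mul_left_cancel₀ hπ.ne_zero h1
      exact hπ.not_isUnit (IsUnit.of_mul_eq_one _ h2)
  exact hE.irreducible hprime (f_monic A π n hn).isPrimitive (by rw [f_natDegree A π n hn]; exact hn)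

include hπ hn in
theorem isDomain : IsDomain (AdjoinRoot (f A π n)) :=
  AdjoinRoot.isDomain_of_prime (f_irreducible A π hπ n hn).prime

/-- the root -/
noncomputable abbrev x : AdjoinRoot (f A π n) := AdjoinRoot.root (f A π n)

lemma x_pow : x A π n ^ n = AdjoinRoot.of (f A π n) π := by
  have h := AdjoinRoot.eval₂_root (f A π n)
  rw [f, eval₂_sub, eval₂_pow, eval₂_X, eval₂_C, sub_eq_zero] at h
  exact h

lemma exists_eq_of_add (z : AdjoinRoot (f A π n)) :
    ∃ (a : A) (w : AdjoinRoot (f A π n)), z = AdjoinRoot.of (f A π n) a + x A π n * w := by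
  obtain ⟨g, rfl⟩ := AdjoinRoot.mk_surjective z
  refine ⟨g.coeff 0, AdjoinRoot.mk (f A π n) g.divX, ?_⟩
  conv_lhs => rw [← divX_mul_X_add g]
  rw [map_add, map_mul, AdjoinRoot.mk_X, AdjoinRoot.mk_C, add_comm, mul_comm]

include hn in
/-- evaluation at zero modulo `π` -/
noncomputable def phi : AdjoinRoot (f A π n) →+* A ⧸ Ideal.span {π} :=
  AdjoinRoot.lift (Ideal.Quotient.mk (Ideal.span {π})) 0 (by
    rw [f, eval₂_sub, eval₂_pow, eval₂_X, eval₂_C, zero_pow hn.ne', zero_sub, neg_eq_zero,
      Ideal.Quotient.eq_zero_iff_mem]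
    exact Ideal.mem_span_singleton_self π)

lemma phi_of (a : A) : phi A π n hn (AdjoinRoot.of (f A π n) a) = Ideal.Quotient.mk _ a := by
  simp [phi]

lemma phi_x : phi A π n hn (x A π n) = 0 := by
  simp [phi]

lemma phi_surjective : Function.Surjective (phi A π n hn) := by
  intro y
  obtain ⟨a, rfl⟩ := Ideal.Quotient.mk_surjective y
  exact ⟨AdjoinRoot.of _ a, phi_of A π n hn a⟩

include hn in
lemma of_mem_span_x (a : A) (ha : a ∈ Ideal.span {π}) :
    AdjoinRoot.of (f A π n) a ∈ Ideal.span {x A π n} := by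
  rw [Ideal.mem_span_singleton] at ha
  obtain ⟨c, rfl⟩ := ha
  obtain ⟨d, hd⟩ : ∃ d, n = d + 1 := ⟨n - 1, by omega⟩
  rw [map_mul, ← x_pow, Ideal.mem_span_singleton]
  refine ⟨x A π n ^ d * AdjoinRoot.of _ c, ?_⟩
  rw [hd, pow_succ]
  ring

lemma ker_phi : RingHom.ker (phi A π n hn) = Ideal.span {x A π n} := by
  apply le_antisymm
  · intro z hz
    rw [RingHom.mem_ker] at hz
    obtain ⟨a, w, rfl⟩ := exists_eq_of_add A π n z
    rw [map_add, map_mul, phi_x, zero_mul, add_zero, phi_of, Ideal.Quotient.eq_zero_iff_mem] at hz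
    exact Ideal.add_mem _ (of_mem_span_x A π n hn a hz)
      (Ideal.mul_mem_right _ _ (Ideal.mem_span_singleton_self _))
  · rw [Ideal.span_le, Set.singleton_subset_iff]
    exact phi_x A π n hn

include hπ in
lemma span_pi_isMaximal : (Ideal.span {π}).IsMaximal :=
  PrincipalIdealRing.isMaximal_of_irreducible hπ

include hπ hn in
lemma span_x_isMaximal : (Ideal.span {x A π n}).IsMaximal := by
  haveI := span_pi_isMaximal A π hπ
  letI := Ideal.Quotient.field (Ideal.span {π})
  rw [← ker_phi A π n hn]
  exact RingHom.ker_isMaximal_of_surjective _ (phi_surjective A π n hn)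

include hn in
lemma finite : Module.Finite A (AdjoinRoot (f A π n)) :=
  (f_monic A π n hn).finite_adjoinRoot

include hπ hn in
lemma x_mem_of_isMaximal (M : Ideal (AdjoinRoot (f A π n))) (hM : M.IsMaximal) :
    x A π n ∈ M := by
  haveI := finite A π n hn
  haveI : Algebra.IsIntegral A (AdjoinRoot (f A π n)) := Algebra.IsIntegral.of_finite _ _
  have h1 : (M.comap (algebraMap A (AdjoinRoot (f A π n)))).IsMaximal :=
    Ideal.isMaximal_comap_of_isIntegral_of_isMaximal M
  have h2 : M.comap (algebraMap A (AdjoinRoot (f A π n))) = IsLocalRing.maximalIdeal A :=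
    IsLocalRing.eq_maximalIdeal h1
  have h3 : π ∈ M.comap (algebraMap A (AdjoinRoot (f A π n))) := by
    rw [h2, hπ.maximalIdeal_eq]
    exact Ideal.mem_span_singleton_self π
  have h4 : x A π n ^ n ∈ M := by
    rw [x_pow]
    exact h3
  exact hM.isPrime.mem_of_pow_mem n h4

include hπ hn in
theorem isLocalRing : IsLocalRing (AdjoinRoot (f A π n)) := by
  apply IsLocalRing.of_unique_max_ideal
  refine ⟨Ideal.span {x A π n}, span_x_isMaximal A π hπ n hn, fun M hM => ?_⟩
  have hle : Ideal.span {x A π n} ≤ M := by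
    rw [Ideal.span_le, Set.singleton_subset_iff]
    exact x_mem_of_isMaximal A π hπ n hn M hM
  exact ((span_x_isMaximal A π hπ n hn).eq_of_le hM.ne_top hle).symm

include hπ hn in
lemma of_injective : Function.Injective (AdjoinRoot.of (f A π n)) :=
  AdjoinRoot.of.injective_of_degree_ne_zero (by
    rw [degree_eq_natDegree (f_monic A π n hn).ne_zero, f_natDegree A π n hn]
    exact_mod_cast hn.ne')

include hπ hn in
lemma x_ne_zero : x A π n ≠ 0 := by
  intro h0
  have := x_pow A π n
  rw [h0, zero_pow hn.ne'] at this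
  have h2 : AdjoinRoot.of (f A π n) π = AdjoinRoot.of (f A π n) 0 := by rw [← this, map_zero]
  exact hπ.ne_zero (of_injective A π hπ n hn h2)

include hπ hn in
lemma maximalIdeal_eq [IsLocalRing (AdjoinRoot (f A π n))] :
    IsLocalRing.maximalIdeal (AdjoinRoot (f A π n)) = Ideal.span {x A π n} :=
  (IsLocalRing.eq_maximalIdeal (span_x_isMaximal A π hπ n hn)).symm

include hn in
lemma isNoetherianRing : IsNoetherianRing (AdjoinRoot (f A π n)) := by
  haveI := finite A π n hn
  have : IsNoetherian A (AdjoinRoot (f A π n)) := isNoetherian_of_isNoetherianRing_of_finite A _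
  exact isNoetherianRing_iff.mpr (isNoetherian_of_tower A this)

include hπ hn in
theorem isDVR [IsDomain (AdjoinRoot (f A π n))] : IsDiscreteValuationRing (AdjoinRoot (f A π n)) := by
  haveI := isLocalRing A π hπ n hn
  haveI := isNoetherianRing A π n hn
  have hmax := maximalIdeal_eq A π hπ n hn
  have hnf : ¬ IsField (AdjoinRoot (f A π n)) := by
    rw [IsLocalRing.isField_iff_maximalIdeal_eq, hmax, Ideal.span_singleton_eq_bot]
    exact x_ne_zero A π hπ n hn
  refine ((IsDiscreteValuationRing.TFAE (AdjoinRoot (f A π n)) hnf).out 0 4).2 ?_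
  rw [hmax]
  exact ⟨⟨x A π n, rfl⟩⟩

include hπ hn in
theorem map_maximalIdeal [IsLocalRing (AdjoinRoot (f A π n))] :
    (IsLocalRing.maximalIdeal A).map (algebraMap A (AdjoinRoot (f A π n))) =
      IsLocalRing.maximalIdeal (AdjoinRoot (f A π n)) ^ n := by
  rw [maximalIdeal_eq A π hπ n hn, hπ.maximalIdeal_eq, Ideal.map_span, Set.image_singleton,
    Ideal.span_singleton_pow, x_pow]
  rfl

end ring

end Groth.Agent.Helper7.Eis
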