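import Mathlib
import Groth.Prelude.Def_EtRam
import Groth.Agent.Helper7.Eis1

namespace Groth.Agent.Helper7.Eis

set_option linter.unusedSectionVars false
set_option linter.style.haveILetI false

open Polynomial

universe u

section val

variable (A : Type u) [CommRing A] [IsDomain A] [IsDiscreteValuationRing A] (π : A)
  (hπ : Irreducible π) (n : ℕ) (hn : 0 < n)
  [IsDomain (AdjoinRoot (f A π n))] [IsDiscreteValuationRing (AdjoinRoot (f A π n))]
  (K₁ : Type u) [Field K₁] [Algebra (AdjoinRoot (f A π n)) K₁]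
  [IsFractionRing (AdjoinRoot (f A π n)) K₁]

/-- the structure map to the fraction field of the extension -/
noncomputable abbrev g : A →+* K₁ :=
  (algebraMap (AdjoinRoot (f A π n)) K₁).comp (algebraMap A (AdjoinRoot (f A π n)))

/-- the image of the root -/
noncomputable abbrev xi : K₁ := algebraMap (AdjoinRoot (f A π n)) K₁ (x A π n)

lemma xi_pow : xi A π n K₁ ^ n = g A π n K₁ π := by
  rw [xi, ← map_pow, x_pow]
  rfl

variable (V : ValuationSubring K₁) (hV : EtRam.Dominates A (g A π n K₁) V)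

include hn hV in
lemma xi_mem : xi A π n K₁ ∈ V := by
  rcases V.mem_or_inv_mem (xi A π n K₁) with h | h
  · exact h
  · by_cases h0 : xi A π n K₁ = 0
    · rw [h0]; exact zero_mem V
    · obtain ⟨d, hd⟩ : ∃ d, n = d + 1 := ⟨n - 1, by omega⟩
      have key : ∀ (t : K₁), t ≠ 0 → ∀ m e : ℕ, m = e + 1 → t = t ^ m * t⁻¹ ^ e := by
        intro t ht m e hm
        subst hm
        rw [pow_succ, mul_assoc, mul_comm t, ← mul_assoc, ← mul_pow,
          mul_inv_cancel₀ ht, one_pow, one_mul]
      have h1 : xi A π n K₁ = xi A π n K₁ ^ n * (xi A π n K₁)⁻¹ ^ d := key _ h0 n d hd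
      rw [h1, xi_pow]
      exact mul_mem (hV.1 π) (pow_mem h d)

include hn hV in
lemma range_le (b : AdjoinRoot (f A π n)) : algebraMap (AdjoinRoot (f A π n)) K₁ b ∈ V := by
  induction b using AdjoinRoot.induction_on with
  | ih p =>
    induction p using Polynomial.induction_on with
    | C a =>
      rw [AdjoinRoot.mk_C]
      exact hV.1 a
    | add p q hp hq =>
      rw [map_add, map_add]
      exact add_mem hp hq
    | monomial k a _ =>
      rw [map_mul, map_pow, AdjoinRoot.mk_C, AdjoinRoot.mk_X, map_mul, map_pow]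
      exact mul_mem (hV.1 a) (pow_mem (xi_mem A π n hn K₁ V hV) _)

include hπ hn hV in
lemma val_xi_lt : V.valuation (xi A π n K₁) < 1 := by
  have h1 : V.valuation (g A π n K₁ π) < 1 := hV.2 π (by
    rw [hπ.maximalIdeal_eq]; exact Ideal.mem_span_singleton_self π)
  by_contra h
  push Not at h
  have h2 : 1 ≤ V.valuation (xi A π n K₁) ^ n := one_le_pow₀ h
  rw [← map_pow, xi_pow] at h2
  exact absurd h1 (not_lt.2 h2)

include hπ hn hV in
lemma le_range (z : K₁) (hz : z ∈ V) : ∃ b : AdjoinRoot (f A π n),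
    algebraMap (AdjoinRoot (f A π n)) K₁ b = z := by
  rcases ValuationRing.isInteger_or_isInteger (AdjoinRoot (f A π n)) z with ⟨b, hb⟩ | ⟨b, hb⟩
  · exact ⟨b, hb⟩
  · by_cases hz0 : z = 0
    · exact ⟨0, by rw [hz0, map_zero]⟩
    · by_cases hu : IsUnit b
      · obtain ⟨u, rfl⟩ := hu
        refine ⟨((u⁻¹ : (AdjoinRoot (f A π n))ˣ) : AdjoinRoot (f A π n)), ?_⟩
        have h1 : algebraMap (AdjoinRoot (f A π n)) K₁ (u : AdjoinRoot (f A π n)) *
            algebraMap (AdjoinRoot (f A π n)) K₁ ((u⁻¹ : (AdjoinRoot (f A π n))ˣ) :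
              AdjoinRoot (f A π n)) = 1 := by
          rw [← map_mul, Units.mul_inv, map_one]
        have hb' : algebraMap (AdjoinRoot (f A π n)) K₁ (u : AdjoinRoot (f A π n)) = z⁻¹ := hb
        rw [hb'] at h1
        have h2 : z⁻¹ * z = 1 := inv_mul_cancel₀ hz0
        exact mul_left_cancel₀ (inv_ne_zero hz0) (h1.trans h2.symm)
      · exfalso
        have hmem : b ∈ IsLocalRing.maximalIdeal (AdjoinRoot (f A π n)) := hu
        rw [maximalIdeal_eq A π hπ n hn, Ideal.mem_span_singleton] at hmem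
        obtain ⟨c, rfl⟩ := hmem
        have hb' : xi A π n K₁ * algebraMap (AdjoinRoot (f A π n)) K₁ c = z⁻¹ := by
          rw [← hb, map_mul]
        have h1 : V.valuation (z⁻¹) < 1 := by
          rw [← hb', map_mul]
          have h2 := val_xi_lt A π hπ n hn K₁ V hV
          have h3 : V.valuation (algebraMap (AdjoinRoot (f A π n)) K₁ c) ≤ 1 :=
            (V.valuation_le_one_iff _).2 (range_le A π n hn K₁ V hV c)
          calc V.valuation (xi A π n K₁) * V.valuation (algebraMap (AdjoinRoot (f A π n)) K₁ c)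
              ≤ V.valuation (xi A π n K₁) * 1 := mul_le_mul_right h3 _
            _ = V.valuation (xi A π n K₁) := mul_one _
            _ < 1 := h2
        have h4 : V.valuation z ≤ 1 := (V.valuation_le_one_iff _).2 hz
        have h5 : V.valuation z * V.valuation z⁻¹ = 1 := by
          rw [← map_mul, mul_inv_cancel₀ hz0, map_one]
        have h6 : V.valuation z * V.valuation z⁻¹ < 1 :=
          calc V.valuation z * V.valuation z⁻¹ ≤ 1 * V.valuation z⁻¹ := mul_le_mul_left h4 _
            _ = V.valuation z⁻¹ := one_mul _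
            _ < 1 := h1
        rw [h5] at h6
        exact lt_irrefl _ h6

include hπ hn hV in
lemma eq_of_dominates (V' : ValuationSubring K₁) (hV' : EtRam.Dominates A (g A π n K₁) V') :
    V = V' := by
  ext z
  constructor
  · intro hz
    obtain ⟨b, rfl⟩ := le_range A π hπ n hn K₁ V hV z hz
    exact range_le A π n hn K₁ V' hV' b
  · intro hz
    obtain ⟨b, rfl⟩ := le_range A π hπ n hn K₁ V' hV' z hz
    exact range_le A π n hn K₁ V hV b

include hπ hn hV in
lemma residue_surjective :
    Function.Surjective (fun a : A =>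
      IsLocalRing.residue V (RingHom.codRestrict (g A π n K₁) V hV.1 a)) := by
  intro y
  obtain ⟨⟨z, hz⟩, rfl⟩ := IsLocalRing.residue_surjective y
  obtain ⟨b, rfl⟩ := le_range A π hπ n hn K₁ V hV z hz
  obtain ⟨a, w, rfl⟩ := exists_eq_of_add A π n b
  refine ⟨a, ?_⟩
  show IsLocalRing.residue V (RingHom.codRestrict (g A π n K₁) V hV.1 a) = _
  rw [← sub_eq_zero, ← map_sub, IsLocalRing.residue_eq_zero_iff, ← neg_mem_iff,
    ValuationSubring.valuation_lt_one_iff]
  have h1 : ((-(RingHom.codRestrict (g A π n K₁) V hV.1 a -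
      ⟨algebraMap (AdjoinRoot (f A π n)) K₁ (AdjoinRoot.of (f A π n) a + x A π n * w), hz⟩) : V) : K₁)
      = xi A π n K₁ * algebraMap (AdjoinRoot (f A π n)) K₁ w := by
    simp only [NegMemClass.coe_neg, AddSubgroupClass.coe_sub, RingHom.codRestrict_apply, map_add,
      map_mul]
    show -((algebraMap (AdjoinRoot (f A π n)) K₁) (AdjoinRoot.of (f A π n) a) - _) = _
    ring
  rw [h1, map_mul]
  have h2 := val_xi_lt A π hπ n hn K₁ V hV
  have h3 : V.valuation (algebraMap (AdjoinRoot (f A π n)) K₁ w) ≤ 1 :=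
    (V.valuation_le_one_iff _).2 (range_le A π n hn K₁ V hV w)
  calc V.valuation (xi A π n K₁) * V.valuation (algebraMap (AdjoinRoot (f A π n)) K₁ w)
      ≤ V.valuation (xi A π n K₁) * 1 := mul_le_mul_right h3 _
    _ = V.valuation (xi A π n K₁) := mul_one _
    _ < 1 := h2

/-- the valuation subring given by the extension itself -/
noncomputable def V0 : ValuationSubring K₁ :=
  { (algebraMap (AdjoinRoot (f A π n)) K₁).range with
    mem_or_inv_mem' := fun z => by
      rcases ValuationRing.isInteger_or_isInteger (AdjoinRoot (f A π n)) z with ⟨b, hb⟩ | ⟨b, hb⟩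
      · exact Or.inl ⟨b, hb⟩
      · exact Or.inr ⟨b, hb⟩ }

lemma mem_V0 (z : K₁) : z ∈ V0 A π n K₁ ↔ ∃ b, algebraMap (AdjoinRoot (f A π n)) K₁ b = z :=
  Iff.rfl

include hπ hn in
lemma V0_dominates : EtRam.Dominates A (g A π n K₁) (V0 A π n K₁) := by
  refine ⟨fun a => ⟨_, rfl⟩, fun a ha => ?_⟩
  have hmem : g A π n K₁ a ∈ V0 A π n K₁ := ⟨_, rfl⟩
  have := (ValuationSubring.valuation_lt_one_iff (V0 A π n K₁) ⟨g A π n K₁ a, hmem⟩).1
  apply this
  rw [IsLocalRing.mem_maximalIdeal]
  intro hu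
  obtain ⟨u, hu⟩ := hu
  obtain ⟨b, hb⟩ := (mem_V0 A π n K₁ _).1 ((u⁻¹ : (V0 A π n K₁)ˣ) : V0 A π n K₁).2
  have h1 : g A π n K₁ a * algebraMap (AdjoinRoot (f A π n)) K₁ b = 1 := by
    have h2 := congrArg Subtype.val u.mul_inv
    rw [hb]
    simp only [MulMemClass.coe_mul, OneMemClass.coe_one, hu] at h2
    exact h2
  have h3 : AdjoinRoot.of (f A π n) a * b = 1 := by
    apply IsFractionRing.injective (AdjoinRoot (f A π n)) K₁
    rw [map_mul, map_one]
    exact h1
  have h4 : AdjoinRoot.of (f A π n) a ∈ IsLocalRing.maximalIdeal (AdjoinRoot (f A π n)) := by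
    rw [maximalIdeal_eq A π hπ n hn]
    apply of_mem_span_x A π n hn
    rw [← hπ.maximalIdeal_eq]
    exact ha
  exact h4 (IsUnit.of_mul_eq_one _ h3)

include hπ hn in
theorem totallyRamified : EtRam.IsTotallyRamified A (g A π n K₁) :=
  ⟨⟨V0 A π n K₁, V0_dominates A π hπ n hn K₁⟩,
    fun V V' hV hV' => eq_of_dominates A π hπ n hn K₁ V hV V' hV',
    fun V hV => residue_surjective A π hπ n hn K₁ V hV⟩

end val

end Groth.Agent.Helper7.Eis
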