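import Groth.Agent.Helper7.QSplitD

/-!
# Étale-local isomorphisms of Weierstrass curves: framework and étale root extraction
-/

universe u

namespace Groth.Agent.Helper7.EllJ

open WeierstrassCurve
open Groth.Agent.Helper7.QSplit (exists_etale_root)

section framework

variable {A : Type u} [CommRing A]

/-- `W₁` and `W₂` become related by a change of variables on an étale neighbourhood of `p`. -/
def Solv (p : Ideal A) (W₁ W₂ : WeierstrassCurve A) : Prop :=
  ∃ (B : Type u) (_ : CommRing B) (_ : Algebra A B), Algebra.Etale A B ∧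
    (∃ q : Ideal B, q.IsPrime ∧ q.comap (algebraMap A B) = p) ∧
    ∃ C : VariableChange B, C • (W₁.map (algebraMap A B)) = W₂.map (algebraMap A B)

lemma Solv.of_change {p : Ideal A} [p.IsPrime] {W₁ W₂ : WeierstrassCurve A}
    (C : VariableChange A) (h : C • W₁ = W₂) : Solv p W₁ W₂ := by
  refine ⟨A, inferInstance, inferInstance, inferInstance, ⟨p, ‹_›, Ideal.comap_id p⟩, C, ?_⟩
  rw [Algebra.algebraMap_self, map_id, map_id, h]

lemma Solv.of_etale {p : Ideal A} {W₁ W₂ : WeierstrassCurve A} (B : Type u) [CommRing B]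
    [Algebra A B] [Algebra.Etale A B] (q : Ideal B) (hq : q.comap (algebraMap A B) = p)
    (h : Solv q (W₁.map (algebraMap A B)) (W₂.map (algebraMap A B))) : Solv p W₁ W₂ := by
  obtain ⟨B', _, _, hE, ⟨q', hq', hq'q⟩, C, hC⟩ := h
  letI : Algebra A B' := ((algebraMap B B').comp (algebraMap A B)).toAlgebra
  haveI : IsScalarTower A B B' := IsScalarTower.of_algebraMap_eq (fun _ => rfl)
  refine ⟨B', inferInstance, inferInstance, Algebra.Etale.comp A B B', ⟨q', hq', ?_⟩, C, ?_⟩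
  · rw [IsScalarTower.algebraMap_eq A B B', ← Ideal.comap_comap, hq'q, hq]
  · rw [map_map, map_map] at hC
    exact hC

lemma Solv.of_left {p : Ideal A} {W₁ W₂ : WeierstrassCurve A} (C : VariableChange A)
    (h : Solv p (C • W₁) W₂) : Solv p W₁ W₂ := by
  obtain ⟨B, _, _, hE, hq, C', hC'⟩ := h
  refine ⟨B, inferInstance, inferInstance, hE, hq, C' * C.map (algebraMap A B), ?_⟩
  rw [mul_smul, map_variableChange, hC']

lemma Solv.of_right {p : Ideal A} {W₁ W₂ : WeierstrassCurve A} (C : VariableChange A)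
    (h : Solv p W₁ (C • W₂)) : Solv p W₁ W₂ := by
  obtain ⟨B, _, _, hE, hq, C', hC'⟩ := h
  refine ⟨B, inferInstance, inferInstance, hE, hq, (C.map (algebraMap A B))⁻¹ * C', ?_⟩
  rw [mul_smul, hC', ← map_variableChange, inv_smul_smul]

end framework

section roots

variable {A : Type u} [CommRing A]

/-- Inverting an element outside a prime. -/
theorem exists_nbhd_unit (p : Ideal A) [p.IsPrime] (f : A) (hf : f ∉ p) :
    ∃ (B : Type u) (_ : CommRing B) (_ : Algebra A B), Algebra.Etale A B ∧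
      (∃ q : Ideal B, q.IsPrime ∧ q.comap (algebraMap A B) = p) ∧ IsUnit (algebraMap A B f) := by
  have hdisj : Disjoint (Submonoid.powers f : Set A) (p : Set A) := by
    rw [Set.disjoint_left]
    rintro x ⟨n, rfl⟩ hx
    exact hf (Ideal.IsPrime.mem_of_pow_mem ‹_› n hx)
  refine ⟨Localization.Away f, inferInstance, inferInstance, inferInstance,
    ⟨p.map (algebraMap A (Localization.Away f)),
      IsLocalization.isPrime_of_isPrime_disjoint (Submonoid.powers f) _ p ‹_› hdisj,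
      IsLocalization.under_map_of_isPrime_disjoint (Submonoid.powers f) _ ‹_› hdisj⟩,
    IsLocalization.Away.algebraMap_isUnit f⟩

/-- A root of a quadratic with unit leading coefficient and discriminant, and an extra unit. -/
theorem exists_nbhd_root (p : Ideal A) [p.IsPrime] (f : A) (hf : f ∉ p) (a b c : A)
    (ha : a ∉ p) (hD : b ^ 2 - 4 * a * c ∉ p) :
    ∃ (B : Type u) (_ : CommRing B) (_ : Algebra A B), Algebra.Etale A B ∧
      (∃ q : Ideal B, q.IsPrime ∧ q.comap (algebraMap A B) = p) ∧ IsUnit (algebraMap A B f) ∧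
      ∃ t : B, algebraMap A B a * t ^ 2 + algebraMap A B b * t + algebraMap A B c = 0 := by
  obtain ⟨B₀, _, _, hE₀, ⟨q₀, hq₀, hq₀p⟩, hu⟩ := exists_nbhd_unit p f hf
  haveI := hq₀
  have ha' : algebraMap A B₀ a ∉ q₀ := by
    rw [← Ideal.mem_comap, hq₀p]; exact ha
  have hD' : (algebraMap A B₀ b) ^ 2 - 4 * algebraMap A B₀ a * algebraMap A B₀ c ∉ q₀ := by
    have : (algebraMap A B₀ b) ^ 2 - 4 * algebraMap A B₀ a * algebraMap A B₀ c =
        algebraMap A B₀ (b ^ 2 - 4 * a * c) := by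
      simp only [map_sub, map_mul, map_pow, map_ofNat]
    rw [this, ← Ideal.mem_comap, hq₀p]; exact hD
  obtain ⟨B₁, _, _, hE₁, ⟨q₁, hq₁, hq₁q⟩, t, ht, -⟩ := exists_etale_root (algebraMap A B₀ a)
    (algebraMap A B₀ b) (algebraMap A B₀ c) q₀ ha' hD'
  letI : Algebra A B₁ := ((algebraMap B₀ B₁).comp (algebraMap A B₀)).toAlgebra
  haveI : IsScalarTower A B₀ B₁ := IsScalarTower.of_algebraMap_eq (fun _ => rfl)
  refine ⟨B₁, inferInstance, inferInstance, Algebra.Etale.comp A B₀ B₁, ⟨q₁, hq₁, ?_⟩, ?_, t, ?_⟩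
  · rw [IsScalarTower.algebraMap_eq A B₀ B₁, ← Ideal.comap_comap, hq₁q, hq₀p]
  · rw [IsScalarTower.algebraMap_apply A B₀ B₁]
    exact hu.map _
  · simpa only [IsScalarTower.algebraMap_apply A B₀ B₁] using ht

/-- A root of a quadratic `α t² + b t + c` with `α ∈ p` and `b ∉ p`, and an extra unit. -/
theorem exists_nbhd_nm_root (p : Ideal A) [p.IsPrime] (f : A) (hf : f ∉ p) (α b c : A)
    (hα : α ∈ p) (hb : b ∉ p) :
    ∃ (B : Type u) (_ : CommRing B) (_ : Algebra A B), Algebra.Etale A B ∧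
      (∃ q : Ideal B, q.IsPrime ∧ q.comap (algebraMap A B) = p) ∧ IsUnit (algebraMap A B f) ∧
      ∃ t : B, algebraMap A B α * t ^ 2 + algebraMap A B b * t + algebraMap A B c = 0 := by
  have hD : b ^ 2 - 4 * 1 * (α * c) ∉ p := by
    intro h
    have h1 : 4 * 1 * (α * c) ∈ p := by
      have : (4 : A) * 1 * (α * c) = α * (4 * c) := by ring
      rw [this]; exact p.mul_mem_right _ hα
    have := (Submodule.sub_mem_iff_left p h1).mp h
    exact hb (Ideal.IsPrime.mem_of_pow_mem ‹_› 2 this)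
  obtain ⟨B₀, _, _, hE₀, ⟨q₀, hq₀, hq₀p⟩, hu, θ₀, hθ₀⟩ :=
    exists_nbhd_root p f hf 1 b (α * c) (fun h => ‹p.IsPrime›.ne_top ((Ideal.eq_top_iff_one p).mpr h)) hD
  haveI := hq₀
  simp only [map_one, one_mul, map_mul] at hθ₀
  -- choose the root which is a unit at `q₀`
  have hbq : algebraMap A B₀ b ∉ q₀ := by
    rw [← Ideal.mem_comap, hq₀p]; exact hb
  obtain ⟨θ, hθ, hθq⟩ : ∃ θ : B₀, θ ^ 2 + algebraMap A B₀ b * θ +
      algebraMap A B₀ α * algebraMap A B₀ c = 0 ∧ θ ∉ q₀ := by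
    by_cases h : θ₀ ∈ q₀
    · refine ⟨-algebraMap A B₀ b - θ₀, by linear_combination hθ₀, fun h' => hbq ?_⟩
      have : algebraMap A B₀ b = -((-algebraMap A B₀ b - θ₀) + θ₀) := by ring
      rw [this]
      exact q₀.neg_mem (q₀.add_mem h' h)
    · exact ⟨θ₀, hθ₀, h⟩
  obtain ⟨B₁, _, _, hE₁, ⟨q₁, hq₁, hq₁q⟩, hu₁⟩ := exists_nbhd_unit q₀ θ hθq
  letI : Algebra A B₁ := ((algebraMap B₀ B₁).comp (algebraMap A B₀)).toAlgebra
  haveI : IsScalarTower A B₀ B₁ := IsScalarTower.of_algebraMap_eq (fun _ => rfl)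
  obtain ⟨v, hv⟩ := hu₁.exists_left_inv
  refine ⟨B₁, inferInstance, inferInstance, Algebra.Etale.comp A B₀ B₁, ⟨q₁, hq₁, ?_⟩, ?_,
    algebraMap A B₁ c * v, ?_⟩
  · rw [IsScalarTower.algebraMap_eq A B₀ B₁, ← Ideal.comap_comap, hq₁q, hq₀p]
  · rw [IsScalarTower.algebraMap_apply A B₀ B₁]
    exact hu.map _
  · have h1 := congrArg (algebraMap B₀ B₁) hθ
    simp only [map_add, map_mul, map_pow, map_zero,
      ← IsScalarTower.algebraMap_apply A B₀ B₁] at h1
    linear_combination (algebraMap A B₁ c * v ^ 2) * h1 +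
      (-(algebraMap A B₁ c * (1 + v * algebraMap B₀ B₁ θ))
        - algebraMap A B₁ b * algebraMap A B₁ c * v) * hv

end roots

end Groth.Agent.Helper7.EllJ
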