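import Groth.Agent.Helper7.EllJA

/-!
# Étale-local isomorphisms of Weierstrass curves: residue characteristic two
-/

universe u

namespace Groth.Agent.Helper7.EllJ

open WeierstrassCurve

section general

variable {A : Type u} [CommRing A]

lemma j_mul_Δ (W : WeierstrassCurve A) [W.IsElliptic] : W.j * W.Δ = W.c₄ ^ 3 := by
  rw [j, mul_comm, ← mul_assoc, ← coe_Δ', Units.mul_inv, one_mul]

lemma j_sub_mul_Δ (W : WeierstrassCurve A) [W.IsElliptic] :
    (W.j - 1728) * W.Δ = W.c₆ ^ 2 := by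
  rw [sub_mul, j_mul_Δ, c_relation]
  ring

lemma isUnit_c₄ (W : WeierstrassCurve A) [W.IsElliptic] (h : IsUnit W.j) : IsUnit W.c₄ := by
  have : IsUnit (W.c₄ ^ 3) := by rw [← j_mul_Δ]; exact h.mul W.isUnit_Δ
  exact (isUnit_pow_iff (by norm_num)).mp this

lemma isUnit_c₆ (W : WeierstrassCurve A) [W.IsElliptic] (h : IsUnit (W.j - 1728)) :
    IsUnit W.c₆ := by
  have : IsUnit (W.c₆ ^ 2) := by rw [← j_sub_mul_Δ]; exact h.mul W.isUnit_Δ
  exact (isUnit_pow_iff (by norm_num)).mp this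

lemma notMem_of_isUnit {p : Ideal A} [p.IsPrime] {x : A} (h : IsUnit x) : x ∉ p :=
  fun hx => ‹p.IsPrime›.ne_top (Ideal.eq_top_of_isUnit_mem _ hx h)

lemma inv_pow_mul_eq {B : Type*} [CommRing B] {u : Bˣ} {x y : B} (k : ℕ)
    (h : x = (u : B) ^ k * y) : ((u⁻¹ : Bˣ) : B) ^ k * x = y := by
  rw [h, ← mul_assoc, ← mul_pow, Units.inv_mul, one_pow, one_mul]

lemma inv_pow_mul_zero {B : Type*} [CommRing B] {u : Bˣ} {x : B} (k : ℕ)
    (h : x = 0) : ((u⁻¹ : Bˣ) : B) ^ k * x = 0 := by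
  rw [h, mul_zero]

end general

section two

variable {A : Type u} [CommRing A]

/-- In residue characteristic two, `c₄ ∉ p` forces `a₁ ∉ p`. -/
lemma a₁_notMem_of_two (p : Ideal A) [p.IsPrime] (h2 : (2 : A) ∈ p) (W : WeierstrassCurve A)
    (hc : W.c₄ ∉ p) : W.a₁ ∉ p := by
  intro h
  apply hc
  have : W.c₄ = W.a₁ * (W.a₁ ^ 3 + 8 * W.a₁ * W.a₂ - 24 * W.a₃) +
      2 * (8 * W.a₂ ^ 2 - 24 * W.a₄) := by
    simp only [c₄, b₂, b₄]; ring
  rw [this]
  exact p.add_mem (p.mul_mem_right _ h) (p.mul_mem_right _ h2)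

/-- Normal form `a₁ = 1`, `a₃ = a₄ = 0` étale-locally in residue characteristic two. -/
theorem normalize_two (p : Ideal A) [p.IsPrime] (h2 : (2 : A) ∈ p) (W : WeierstrassCurve A)
    (hc : W.c₄ ∉ p) :
    ∃ (B : Type u) (_ : CommRing B) (_ : Algebra A B), Algebra.Etale A B ∧
      (∃ q : Ideal B, q.IsPrime ∧ q.comap (algebraMap A B) = p) ∧
      ∃ C : VariableChange B, (C • W.map (algebraMap A B)).a₁ = 1 ∧
        (C • W.map (algebraMap A B)).a₃ = 0 ∧ (C • W.map (algebraMap A B)).a₄ = 0 := by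
  have ha₁ := a₁_notMem_of_two p h2 W hc
  have h12 : (12 : A) ∈ p := by
    have : (12 : A) = 2 * 6 := by norm_num
    rw [this]; exact p.mul_mem_right _ h2
  have hb : 12 * W.a₃ - W.a₁ * W.b₂ ∉ p := by
    intro h
    have h1 : 12 * W.a₃ ∈ p := p.mul_mem_right _ h12
    have h3 : W.a₁ * W.b₂ ∈ p := by
      have := p.sub_mem h1 h
      rwa [sub_sub_cancel] at this
    rcases Ideal.IsPrime.mem_or_mem ‹_› h3 with h4 | h4
    · exact ha₁ h4
    · have h5 : W.a₁ ^ 2 ∈ p := by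
        have h6 : 4 * W.a₂ ∈ p := by
          have : (4 : A) * W.a₂ = 2 * (2 * W.a₂) := by ring
          rw [this]; exact p.mul_mem_right _ h2
        have := p.sub_mem h4 h6
        simpa [b₂] using this
      exact ha₁ (Ideal.IsPrime.mem_of_pow_mem ‹_› 2 h5)
  obtain ⟨B, _, _, hE, ⟨q, hq, hqp⟩, hu, t, ht⟩ := exists_nbhd_nm_root p W.a₁ ha₁ 12
    (12 * W.a₃ - W.a₁ * W.b₂) (W.a₁ ^ 2 * W.a₄ - 2 * W.a₁ * W.a₂ * W.a₃ + 3 * W.a₃ ^ 2) h12 hb
  refine ⟨B, inferInstance, inferInstance, hE, ⟨q, hq, hqp⟩, ?_⟩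
  obtain ⟨v, hv⟩ := hu.exists_left_inv
  set a := algebraMap A B W.a₁ with ha
  set r : B := -(algebraMap A B W.a₃ + 2 * t) * v with hr
  have hra : r * a + algebraMap A B W.a₃ + 2 * t = 0 := by
    rw [hr]; linear_combination (-(algebraMap A B W.a₃ + 2 * t)) * hv
  refine ⟨⟨hu.unit, r, 0, t⟩, ?_, ?_, ?_⟩
  · rw [variableChange_a₁]
    simp only [map_a₁, mul_zero, add_zero]
    exact hu.val_inv_mul
  · rw [variableChange_a₃]
    simp only [map_a₃, map_a₁]
    apply inv_pow_mul_zero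
    linear_combination hra
  · rw [variableChange_a₄]
    simp only [map_a₄, map_a₃, map_a₂, map_a₁]
    apply inv_pow_mul_zero
    have key : a ^ 2 * (algebraMap A B W.a₄ - 0 * algebraMap A B W.a₃ +
        2 * r * algebraMap A B W.a₂ - (t + r * 0) * a + 3 * r ^ 2 - 2 * 0 * t) = 0 := by
      simp only [map_sub, map_add, map_mul, map_pow, map_ofNat, b₂] at ht
      linear_combination ht + (2 * algebraMap A B W.a₂ * a +
        3 * (r * a - algebraMap A B W.a₃ - 2 * t)) * hra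
    exact ((hu.pow 2).mul_right_eq_zero).mp key

/-- Two curves in the normal form `a₁ = 1`, `a₃ = a₄ = 0` with the same unit `j` are étale-locally
isomorphic in residue characteristic two. -/
theorem connect_two (p : Ideal A) [p.IsPrime] (h2 : (2 : A) ∈ p) (W₁ W₂ : WeierstrassCurve A)
    [W₁.IsElliptic] [W₂.IsElliptic] (hj : W₁.j = W₂.j) (hju : IsUnit W₁.j)
    (h1 : W₁.a₁ = 1) (h3 : W₁.a₃ = 0) (h4 : W₁.a₄ = 0)
    (h1' : W₂.a₁ = 1) (h3' : W₂.a₃ = 0) (h4' : W₂.a₄ = 0) : Solv p W₁ W₂ := by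
  set β := 1 + 4 * W₁.a₂ with hβ
  set β' := 1 + 4 * W₂.a₂ with hβ'
  have hc₁ : W₁.c₄ = β ^ 2 := by simp only [c₄, b₂, b₄, h1, h3, h4, hβ]; ring
  have hc₂ : W₂.c₄ = β' ^ 2 := by simp only [c₄, b₂, b₄, h1', h3', h4', hβ']; ring
  have hΔ₁ : W₁.Δ = -β ^ 3 * W₁.a₆ - 432 * W₁.a₆ ^ 2 := by
    simp only [Δ, b₂, b₄, b₆, b₈, h1, h3, h4, hβ]; ring
  have hΔ₂ : W₂.Δ = -β' ^ 3 * W₂.a₆ - 432 * W₂.a₆ ^ 2 := by
    simp only [Δ, b₂, b₄, b₆, b₈, h1', h3', h4', hβ']; ring
  have hβu : IsUnit β := by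
    have := isUnit_c₄ W₁ hju
    rw [hc₁] at this
    exact (isUnit_pow_iff (by norm_num)).mp this
  have hβ'u : IsUnit β' := by
    have := isUnit_c₄ W₂ (hj ▸ hju)
    rw [hc₂] at this
    exact (isUnit_pow_iff (by norm_num)).mp this
  obtain ⟨w', hw'⟩ := hβ'u.exists_left_inv
  set X := W₁.a₆ * β' ^ 3 with hX
  set X' := W₂.a₆ * β ^ 3 with hX'
  set F := β ^ 3 * β' ^ 3 + 432 * (X + X') with hF
  have h432 : (432 : A) ∈ p := by
    have : (432 : A) = 2 * 216 := by norm_num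
    rw [this]; exact p.mul_mem_right _ h2
  have hFp : F ∉ p := by
    intro h
    have h5 : β ^ 3 * β' ^ 3 ∈ p := by
      have := p.sub_mem h (p.mul_mem_right (X + X') h432)
      rwa [hF, add_sub_cancel_right] at this
    exact notMem_of_isUnit ((hβu.pow 3).mul (hβ'u.pow 3)) h5
  have hid : W₁.j * (X - X') * F = 0 := by
    have e1 := j_mul_Δ W₁
    have e2 := j_mul_Δ W₂
    rw [← hj] at e2
    rw [hc₁, hΔ₁] at e1
    rw [hc₂, hΔ₂] at e2
    rw [hF, hX, hX']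
    linear_combination (-β' ^ 6) * e1 + β ^ 6 * e2
  set c := (W₂.a₂ - W₁.a₂) * w' with hc
  have hcβ : c * β' = W₂.a₂ - W₁.a₂ := by
    rw [hc]; linear_combination (W₂.a₂ - W₁.a₂) * hw'
  have h1p : (1 : A) ∉ p := fun h => ‹p.IsPrime›.ne_top ((Ideal.eq_top_iff_one p).mpr h)
  have hD : (1 : A) ^ 2 - 4 * 1 * c ∉ p := by
    intro h
    apply h1p
    have h4c : 4 * 1 * c ∈ p := by
      have : (4 : A) * 1 * c = 2 * (2 * c) := by ring
      rw [this]; exact p.mul_mem_right _ h2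
    have := p.add_mem h h4c
    simpa using this
  obtain ⟨B, _, _, hE, ⟨q, hq, hqp⟩, hFu, s, hs⟩ := exists_nbhd_root p F hFp 1 1 c h1p hD
  refine ⟨B, inferInstance, inferInstance, hE, ⟨q, hq, hqp⟩, ?_⟩
  simp only [map_one, one_mul] at hs
  -- `X = X'` in `B`
  have hXX : algebraMap A B X = algebraMap A B X' := by
    have h5 := congrArg (algebraMap A B) hid
    rw [map_zero, map_mul, map_mul] at h5
    have h6 := (hFu.mul_left_eq_zero).mp h5
    have h7 := ((hju.map (algebraMap A B)).mul_right_eq_zero).mp h6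
    rw [map_sub] at h7
    exact sub_eq_zero.mp h7
  -- the unit `u = 1 + 2 s`
  have hβw : β * w' = 1 - 4 * c := by
    rw [hc]
    linear_combination hw' - w' * hβ' + w' * hβ
  have hu2 : (1 + 2 * s) ^ 2 = algebraMap A B (β * w') := by
    rw [hβw]
    simp only [map_sub, map_one, map_mul, map_ofNat]
    linear_combination 4 * hs
  have hw'u : IsUnit w' := IsUnit.of_mul_eq_one β' hw'
  have huu : IsUnit (1 + 2 * s) := by
    have : IsUnit ((1 + 2 * s) ^ 2) := by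
      rw [hu2]; exact (hβu.mul hw'u).map _
    exact (isUnit_pow_iff two_ne_zero).mp this
  have hA2 : W₁.a₂ + c = β * w' * W₂.a₂ := by
    rw [hβw]
    linear_combination hcβ - c * hβ'
  have hA6a : W₁.a₆ = w' ^ 3 * X := by
    rw [hX]
    linear_combination (-(W₁.a₆ * (w' ^ 2 * β' ^ 2 + w' * β' + 1))) * hw'
  have hA6b : (β * w') ^ 3 * W₂.a₆ = w' ^ 3 * X' := by
    rw [hX']; ring
  refine ⟨⟨huu.unit, 0, s, 0⟩, ?_⟩
  ext
  · rw [variableChange_a₁]
    simp only [map_a₁, h1, h1', map_one]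
    exact huu.val_inv_mul
  · rw [variableChange_a₂]
    simp only [map_a₂, map_a₁, h1, map_one]
    apply inv_pow_mul_eq
    rw [IsUnit.unit_spec, hu2, ← map_mul, ← hA2, map_add]
    linear_combination (-1 : B) * hs
  · rw [variableChange_a₃]
    simp only [map_a₃, map_a₁, h3, h3', map_zero]
    apply inv_pow_mul_zero
    ring
  · rw [variableChange_a₄]
    simp only [map_a₄, map_a₃, map_a₂, map_a₁, h3, h4, h4', map_zero]
    apply inv_pow_mul_zero
    ring
  · rw [variableChange_a₆]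
    simp only [map_a₆, map_a₄, map_a₃, map_a₂, map_a₁, h3, h4, map_zero]
    apply inv_pow_mul_eq
    rw [IsUnit.unit_spec]
    have h6 : (1 + 2 * s) ^ 6 = algebraMap A B ((β * w') ^ 3) := by
      rw [map_pow, ← hu2]; ring
    rw [h6, ← map_mul, hA6b, map_mul, ← hXX, ← map_mul, ← hA6a]
    ring

end two

end Groth.Agent.Helper7.EllJ
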