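import Groth.Agent.Helper7.EllJB

/-!
# Étale-local isomorphisms of Weierstrass curves: residue characteristic three
-/

universe u

namespace Groth.Agent.Helper7.EllJ

open WeierstrassCurve

section three

variable {A : Type u} [CommRing A]

lemma two_notMem_of_three (p : Ideal A) [p.IsPrime] (h3 : (3 : A) ∈ p) : (2 : A) ∉ p := by
  intro h2
  apply ‹p.IsPrime›.ne_top
  rw [Ideal.eq_top_iff_one]
  have : (1 : A) = 3 - 2 := by norm_num
  rw [this]
  exact p.sub_mem h3 h2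

/-- In residue characteristic three, `c₄ ∉ p` forces `b₂ ∉ p`. -/
lemma b₂_notMem_of_three (p : Ideal A) [p.IsPrime] (h3 : (3 : A) ∈ p) (W : WeierstrassCurve A)
    (hc : W.c₄ ∉ p) : W.b₂ ∉ p := by
  intro h
  apply hc
  have : W.c₄ = W.b₂ * W.b₂ - 3 * (8 * W.b₄) := by
    simp only [c₄]; ring
  rw [this]
  exact p.sub_mem (p.mul_mem_right _ h) (p.mul_mem_right _ h3)

/-- Normal form `a₁ = a₃ = a₄ = 0` étale-locally in residue characteristic three. -/
theorem normalize_three (p : Ideal A) [p.IsPrime] (h3 : (3 : A) ∈ p) (W : WeierstrassCurve A)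
    (hc : W.c₄ ∉ p) :
    ∃ (B : Type u) (_ : CommRing B) (_ : Algebra A B), Algebra.Etale A B ∧
      (∃ q : Ideal B, q.IsPrime ∧ q.comap (algebraMap A B) = p) ∧ IsUnit (2 : B) ∧
      ∃ C : VariableChange B, (C • W.map (algebraMap A B)).a₁ = 0 ∧
        (C • W.map (algebraMap A B)).a₃ = 0 ∧ (C • W.map (algebraMap A B)).a₄ = 0 := by
  have h2 := two_notMem_of_three p h3
  have hb := b₂_notMem_of_three p h3 W hc
  have h6 : (6 : A) ∈ p := by
    have : (6 : A) = 3 * 2 := by norm_num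
    rw [this]; exact p.mul_mem_right _ h3
  obtain ⟨B, _, _, hE, ⟨q, hq, hqp⟩, hu, r, hr⟩ := exists_nbhd_nm_root p 2 h2 6 W.b₂ W.b₄ h6 hb
  have hu2 : IsUnit (2 : B) := by
    rw [map_ofNat] at hu; exact hu
  refine ⟨B, inferInstance, inferInstance, hE, ⟨q, hq, hqp⟩, hu2, ?_⟩
  obtain ⟨h, hh⟩ := hu2.exists_left_inv
  set s : B := -h * algebraMap A B W.a₁ with hs
  set t : B := -h * (algebraMap A B W.a₃ + r * algebraMap A B W.a₁) with ht
  have hS : 2 * s + algebraMap A B W.a₁ = 0 := by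
    rw [hs]; linear_combination (-algebraMap A B W.a₁) * hh
  have hT : 2 * t + algebraMap A B W.a₃ + r * algebraMap A B W.a₁ = 0 := by
    rw [ht]; linear_combination (-(algebraMap A B W.a₃ + r * algebraMap A B W.a₁)) * hh
  refine ⟨⟨1, r, s, t⟩, ?_, ?_, ?_⟩
  · rw [variableChange_a₁]
    simp only [map_a₁, inv_one, Units.val_one, one_mul]
    linear_combination hS
  · rw [variableChange_a₃]
    simp only [map_a₃, map_a₁, inv_one, Units.val_one, one_pow, one_mul]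
    linear_combination hT
  · rw [variableChange_a₄]
    simp only [map_a₄, map_a₃, map_a₂, map_a₁, inv_one, Units.val_one, one_pow, one_mul]
    have key : (2 : B) ^ 2 * (algebraMap A B W.a₄ - s * algebraMap A B W.a₃ +
        2 * r * algebraMap A B W.a₂ - (t + r * s) * algebraMap A B W.a₁ + 3 * r ^ 2 -
        2 * s * t) = 0 := by
      simp only [map_ofNat, b₂, b₄, map_add, map_mul, map_pow] at hr
      linear_combination 2 * hr + (-2 * (2 * s + algebraMap A B W.a₁)) * hT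
    exact ((hu2.pow 2).mul_right_eq_zero).mp key

/-- Two curves in the normal form `a₁ = a₃ = a₄ = 0` with the same unit `j` are étale-locally
isomorphic in residue characteristic three. -/
theorem connect_three (p : Ideal A) [p.IsPrime] (h3 : (3 : A) ∈ p) (hu2 : IsUnit (2 : A))
    (W₁ W₂ : WeierstrassCurve A)
    [W₁.IsElliptic] [W₂.IsElliptic] (hj : W₁.j = W₂.j) (hju : IsUnit W₁.j)
    (h1 : W₁.a₁ = 0) (h3a : W₁.a₃ = 0) (h4 : W₁.a₄ = 0)
    (h1' : W₂.a₁ = 0) (h3' : W₂.a₃ = 0) (h4' : W₂.a₄ = 0) : Solv p W₁ W₂ := by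
  have hc₁ : W₁.c₄ = 16 * W₁.a₂ ^ 2 := by simp only [c₄, b₂, b₄, h1, h3a, h4]; ring
  have hc₂ : W₂.c₄ = 16 * W₂.a₂ ^ 2 := by simp only [c₄, b₂, b₄, h1', h3', h4']; ring
  have hΔ₁ : W₁.Δ = -64 * W₁.a₂ ^ 3 * W₁.a₆ - 432 * W₁.a₆ ^ 2 := by
    simp only [Δ, b₂, b₄, b₆, b₈, h1, h3a, h4]; ring
  have hΔ₂ : W₂.Δ = -64 * W₂.a₂ ^ 3 * W₂.a₆ - 432 * W₂.a₆ ^ 2 := by
    simp only [Δ, b₂, b₄, b₆, b₈, h1', h3', h4']; ring
  have ha₂u : IsUnit W₁.a₂ := by
    have := isUnit_c₄ W₁ hju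
    rw [hc₁] at this
    exact (isUnit_pow_iff (by norm_num)).mp (isUnit_of_mul_isUnit_right this)
  have ha₂'u : IsUnit W₂.a₂ := by
    have := isUnit_c₄ W₂ (hj ▸ hju)
    rw [hc₂] at this
    exact (isUnit_pow_iff (by norm_num)).mp (isUnit_of_mul_isUnit_right this)
  obtain ⟨w', hw'⟩ := ha₂'u.exists_left_inv
  set X := W₁.a₆ * W₂.a₂ ^ 3 with hX
  set X' := W₂.a₆ * W₁.a₂ ^ 3 with hX'
  set F := 4 * W₁.a₂ ^ 3 * W₂.a₂ ^ 3 + 27 * (X + X') with hF
  have h27 : (27 : A) ∈ p := by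
    have : (27 : A) = 3 * 9 := by norm_num
    rw [this]; exact p.mul_mem_right _ h3
  have h4u : IsUnit (4 : A) := by
    have : (4 : A) = 2 ^ 2 := by norm_num
    rw [this]; exact hu2.pow 2
  have h16u : IsUnit (16 : A) := by
    have : (16 : A) = 2 ^ 4 := by norm_num
    rw [this]; exact hu2.pow 4
  have hFp : F ∉ p := by
    intro h
    have h5 : 4 * W₁.a₂ ^ 3 * W₂.a₂ ^ 3 ∈ p := by
      have := p.sub_mem h (p.mul_mem_right (X + X') h27)
      rwa [hF, add_sub_cancel_right] at this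
    exact notMem_of_isUnit ((h4u.mul (ha₂u.pow 3)).mul (ha₂'u.pow 3)) h5
  have hid : 16 * W₁.j * (X - X') * F = 0 := by
    have e1 := j_mul_Δ W₁
    have e2 := j_mul_Δ W₂
    rw [← hj] at e2
    rw [hc₁, hΔ₁] at e1
    rw [hc₂, hΔ₂] at e2
    rw [hF, hX, hX']
    linear_combination (-W₂.a₂ ^ 6) * e1 + W₁.a₂ ^ 6 * e2
  set d := W₁.a₂ * w' with hd
  have hdu : IsUnit d := ha₂u.mul (IsUnit.of_mul_eq_one W₂.a₂ hw')
  have h1p : (1 : A) ∉ p := fun h => ‹p.IsPrime›.ne_top ((Ideal.eq_top_iff_one p).mpr h)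
  have hD : (0 : A) ^ 2 - 4 * 1 * (-d) ∉ p := by
    have : (0 : A) ^ 2 - 4 * 1 * (-d) = 4 * d := by ring
    rw [this]
    exact notMem_of_isUnit (h4u.mul hdu)
  obtain ⟨B, _, _, hE, ⟨q, hq, hqp⟩, hFu, u, hu⟩ := exists_nbhd_root p F hFp 1 0 (-d) h1p hD
  refine ⟨B, inferInstance, inferInstance, hE, ⟨q, hq, hqp⟩, ?_⟩
  simp only [map_one, one_mul, map_zero, zero_mul, add_zero, map_neg] at hu
  have hu2' : u ^ 2 = algebraMap A B d := by linear_combination hu
  have hXX : algebraMap A B X = algebraMap A B X' := by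
    have h5 := congrArg (algebraMap A B) hid
    rw [map_zero, map_mul, map_mul] at h5
    have h6 := (hFu.mul_left_eq_zero).mp h5
    have h7 := (((h16u.mul hju).map (algebraMap A B)).mul_right_eq_zero).mp h6
    rw [map_sub] at h7
    exact sub_eq_zero.mp h7
  have huu : IsUnit u := by
    have : IsUnit (u ^ 2) := by rw [hu2']; exact hdu.map _
    exact (isUnit_pow_iff two_ne_zero).mp this
  have hA2 : W₁.a₂ = d * W₂.a₂ := by
    rw [hd]; linear_combination (-W₁.a₂) * hw'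
  have hA6a : W₁.a₆ = w' ^ 3 * X := by
    rw [hX]
    linear_combination (-(W₁.a₆ * (w' ^ 2 * W₂.a₂ ^ 2 + w' * W₂.a₂ + 1))) * hw'
  have hA6b : d ^ 3 * W₂.a₆ = w' ^ 3 * X' := by
    rw [hX', hd]; ring
  refine ⟨⟨huu.unit, 0, 0, 0⟩, ?_⟩
  ext
  · rw [variableChange_a₁]
    simp only [map_a₁, h1, h1', map_zero]
    ring
  · rw [variableChange_a₂]
    simp only [map_a₂, map_a₁, h1, map_zero]
    apply inv_pow_mul_eq
    rw [IsUnit.unit_spec, hu2', ← map_mul, ← hA2]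
    ring
  · rw [variableChange_a₃]
    simp only [map_a₃, map_a₁, h3a, h3', map_zero]
    apply inv_pow_mul_zero
    ring
  · rw [variableChange_a₄]
    simp only [map_a₄, map_a₃, map_a₂, map_a₁, h3a, h4, h4', map_zero]
    apply inv_pow_mul_zero
    ring
  · rw [variableChange_a₆]
    simp only [map_a₆, map_a₄, map_a₃, map_a₂, map_a₁, h3a, h4, map_zero]
    apply inv_pow_mul_eq
    rw [IsUnit.unit_spec]
    have h6 : u ^ 6 = algebraMap A B (d ^ 3) := by
      rw [map_pow, ← hu2']; ring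
    rw [h6, ← map_mul, hA6b, map_mul, ← hXX, ← map_mul, ← hA6a]
    ring

end three

end Groth.Agent.Helper7.EllJ
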