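import Groth.Agent.Helper7.EllJC

/-!
# Étale-local isomorphisms of Weierstrass curves: six invertible, and the main theorem
-/

universe u

namespace Groth.Agent.Helper7.EllJ

open WeierstrassCurve

section six

variable {A : Type u} [CommRing A]

/-- Short Weierstrass form when `6` is invertible. -/
theorem normalize_six (hu6 : IsUnit (6 : A)) (W : WeierstrassCurve A) :
    ∃ C : VariableChange A, (C • W).a₁ = 0 ∧ (C • W).a₂ = 0 ∧ (C • W).a₃ = 0 := by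
  obtain ⟨v, hv⟩ := hu6.exists_left_inv
  set h : A := 3 * v with hh
  have h2h : 2 * h = 1 := by rw [hh]; linear_combination hv
  set s : A := -h * W.a₁ with hs
  set r : A := -(3 * v ^ 2) * W.b₂ with hr
  set t : A := -h * (W.a₃ + r * W.a₁) with ht
  have hS : 2 * s + W.a₁ = 0 := by
    rw [hs]; linear_combination (-W.a₁) * h2h
  have hR : 12 * r + W.b₂ = 0 := by
    rw [hr]; linear_combination (-W.b₂ * (6 * v + 1)) * hv
  have hT : 2 * t + W.a₃ + r * W.a₁ = 0 := by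
    rw [ht]; linear_combination (-(W.a₃ + r * W.a₁)) * h2h
  have hu4 : IsUnit (4 : A) := by
    have h2u : IsUnit (2 : A) := IsUnit.of_mul_eq_one h (by linear_combination h2h)
    have : (4 : A) = 2 ^ 2 := by norm_num
    rw [this]; exact h2u.pow 2
  refine ⟨⟨1, r, s, t⟩, ?_, ?_, ?_⟩
  · rw [variableChange_a₁]
    simp only [inv_one, Units.val_one, one_mul]
    linear_combination hS
  · rw [variableChange_a₂]
    simp only [inv_one, Units.val_one, one_pow, one_mul]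
    have key : (4 : A) * (W.a₂ - s * W.a₁ + 3 * r - s ^ 2) = 0 := by
      simp only [b₂] at hR
      linear_combination hR - (2 * s + W.a₁) * hS
    exact (hu4.mul_right_eq_zero).mp key
  · rw [variableChange_a₃]
    simp only [inv_one, Units.val_one, one_pow, one_mul]
    linear_combination hT

/-- Two short Weierstrass curves with the same `j`, with `j` and `j - 1728` units, are
étale-locally isomorphic when `6` is invertible. -/
theorem connect_six (p : Ideal A) [p.IsPrime] (hu6 : IsUnit (6 : A))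
    (W₁ W₂ : WeierstrassCurve A)
    [W₁.IsElliptic] [W₂.IsElliptic] (hj : W₁.j = W₂.j) (hju : IsUnit W₁.j)
    (hju' : IsUnit (W₁.j - 1728))
    (h1 : W₁.a₁ = 0) (h2 : W₁.a₂ = 0) (h3 : W₁.a₃ = 0)
    (h1' : W₂.a₁ = 0) (h2' : W₂.a₂ = 0) (h3' : W₂.a₃ = 0) : Solv p W₁ W₂ := by
  have hc₁ : W₁.c₄ = -48 * W₁.a₄ := by simp only [c₄, b₂, b₄, h1, h2, h3]; ring
  have hc₂ : W₂.c₄ = -48 * W₂.a₄ := by simp only [c₄, b₂, b₄, h1', h2', h3']; ring
  have hd₁ : W₁.c₆ = -864 * W₁.a₆ := by simp only [c₆, b₂, b₄, b₆, h1, h2, h3]; ring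
  have hd₂ : W₂.c₆ = -864 * W₂.a₆ := by simp only [c₆, b₂, b₄, b₆, h1', h2', h3']; ring
  have hΔ₁ : W₁.Δ = -64 * W₁.a₄ ^ 3 - 432 * W₁.a₆ ^ 2 := by
    simp only [Δ, b₂, b₄, b₆, b₈, h1, h2, h3]; ring
  have hΔ₂ : W₂.Δ = -64 * W₂.a₄ ^ 3 - 432 * W₂.a₆ ^ 2 := by
    simp only [Δ, b₂, b₄, b₆, b₈, h1', h2', h3']; ring
  have ha₄u : IsUnit W₁.a₄ := by
    have := isUnit_c₄ W₁ hju
    rw [hc₁] at this
    exact isUnit_of_mul_isUnit_right this
  have ha₄'u : IsUnit W₂.a₄ := by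
    have := isUnit_c₄ W₂ (hj ▸ hju)
    rw [hc₂] at this
    exact isUnit_of_mul_isUnit_right this
  have ha₆u : IsUnit W₁.a₆ := by
    have := isUnit_c₆ W₁ hju'
    rw [hd₁] at this
    exact isUnit_of_mul_isUnit_right this
  have ha₆'u : IsUnit W₂.a₆ := by
    have := isUnit_c₆ W₂ (hj ▸ hju')
    rw [hd₂] at this
    exact isUnit_of_mul_isUnit_right this
  obtain ⟨v, hv⟩ := hu6.exists_left_inv
  have hu2 : IsUnit (2 : A) := IsUnit.of_mul_eq_one (3 * v) (by linear_combination hv)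
  have hu4 : IsUnit (4 : A) := by
    have : (4 : A) = 2 ^ 2 := by norm_num
    rw [this]; exact hu2.pow 2
  have hu432 : IsUnit (432 : A) := by
    have : (432 : A) = 2 * 6 ^ 3 := by norm_num
    rw [this]; exact hu2.mul (hu6.pow 3)
  set X := W₁.a₄ ^ 3 * W₂.a₆ ^ 2 with hX
  set X' := W₂.a₄ ^ 3 * W₁.a₆ ^ 2 with hX'
  have hid : 432 * W₁.j * (X - X') = 0 := by
    have e1 := j_mul_Δ W₁
    have e2 := j_mul_Δ W₂
    rw [← hj] at e2
    rw [hc₁, hΔ₁] at e1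
    rw [hc₂, hΔ₂] at e2
    rw [hX, hX']
    linear_combination W₂.a₄ ^ 3 * e1 - W₁.a₄ ^ 3 * e2
  have hXX : X = X' := by
    have := ((hu432.mul hju).mul_right_eq_zero).mp hid
    exact sub_eq_zero.mp this
  obtain ⟨w₄, hw₄⟩ := ha₄u.exists_left_inv
  obtain ⟨w₆', hw₆'⟩ := ha₆'u.exists_left_inv
  set d := (W₁.a₆ * w₆') * (W₂.a₄ * w₄) with hd
  have hdu : IsUnit d :=
    (ha₆u.mul (IsUnit.of_mul_eq_one W₂.a₆ hw₆')).mul (ha₄'u.mul (IsUnit.of_mul_eq_one W₁.a₄ hw₄))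
  have h1p : (1 : A) ∉ p := fun h => ‹p.IsPrime›.ne_top ((Ideal.eq_top_iff_one p).mpr h)
  have hD : (0 : A) ^ 2 - 4 * 1 * (-d) ∉ p := by
    have : (0 : A) ^ 2 - 4 * 1 * (-d) = 4 * d := by ring
    rw [this]
    exact notMem_of_isUnit (hu4.mul hdu)
  obtain ⟨B, _, _, hE, ⟨q, hq, hqp⟩, -, u, hu⟩ := exists_nbhd_root p 1 h1p 1 0 (-d) h1p hD
  refine ⟨B, inferInstance, inferInstance, hE, ⟨q, hq, hqp⟩, ?_⟩
  simp only [map_one, one_mul, map_zero, zero_mul, add_zero, map_neg] at hu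
  have hu2' : u ^ 2 = algebraMap A B d := by linear_combination hu
  have huu : IsUnit u := by
    have : IsUnit (u ^ 2) := by rw [hu2']; exact hdu.map _
    exact (isUnit_pow_iff two_ne_zero).mp this
  have hA4a : W₁.a₄ = w₆' ^ 2 * w₄ ^ 2 * X := by
    rw [hX]
    linear_combination (-(W₁.a₄ * (w₆' * W₂.a₆ + 1))) * hw₆' +
      (-(W₁.a₄ * (w₆' * W₂.a₆) ^ 2 * (w₄ * W₁.a₄ + 1))) * hw₄
  have hA4b : d ^ 2 * W₂.a₄ = w₆' ^ 2 * w₄ ^ 2 * X' := by
    rw [hX', hd]; ring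
  have hA6a : W₁.a₆ = w₆' ^ 3 * w₄ ^ 3 * W₁.a₆ * W₂.a₆ * X := by
    rw [hX]
    linear_combination
      (-(W₁.a₆ * ((w₆' * W₂.a₆) ^ 2 + w₆' * W₂.a₆ + 1))) * hw₆' +
      (-(W₁.a₆ * (w₆' * W₂.a₆) ^ 3 * ((w₄ * W₁.a₄) ^ 2 + w₄ * W₁.a₄ + 1))) * hw₄
  have hA6b : d ^ 3 * W₂.a₆ = w₆' ^ 3 * w₄ ^ 3 * W₁.a₆ * W₂.a₆ * X' := by
    rw [hX', hd]; ring
  refine ⟨⟨huu.unit, 0, 0, 0⟩, ?_⟩
  ext
  · rw [variableChange_a₁]
    simp only [map_a₁, h1, h1', map_zero]
    ring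
  · rw [variableChange_a₂]
    simp only [map_a₂, map_a₁, h1, h2, h2', map_zero]
    ring
  · rw [variableChange_a₃]
    simp only [map_a₃, map_a₁, h3, h3', map_zero]
    ring
  · rw [variableChange_a₄]
    simp only [map_a₄, map_a₃, map_a₂, map_a₁, h1, h2, h3, map_zero]
    apply inv_pow_mul_eq
    rw [IsUnit.unit_spec]
    have h4 : u ^ 4 = algebraMap A B (d ^ 2) := by
      rw [map_pow, ← hu2']; ring
    rw [h4, ← map_mul, hA4b, ← hXX, ← hA4a]
    ring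
  · rw [variableChange_a₆]
    simp only [map_a₆, map_a₄, map_a₃, map_a₂, map_a₁, h1, h2, h3, map_zero]
    apply inv_pow_mul_eq
    rw [IsUnit.unit_spec]
    have h6 : u ^ 6 = algebraMap A B (d ^ 3) := by
      rw [map_pow, ← hu2']; ring
    rw [h6, ← map_mul, hA6b, ← hXX, ← hA6a]
    ring

end six

section main

variable {A : Type u} [CommRing A]

lemma ofNat_mem_comap {B : Type u} [CommRing B] [Algebra A B] {p : Ideal A} {q : Ideal B}
    (hq : q.comap (algebraMap A B) = p) (n : ℕ) [n.AtLeastTwo] :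
    (OfNat.ofNat n : B) ∈ q ↔ (OfNat.ofNat n : A) ∈ p := by
  rw [← hq, Ideal.mem_comap, map_ofNat]

theorem main (W₁ W₂ : WeierstrassCurve A) [W₁.IsElliptic] [W₂.IsElliptic]
    (hj : W₁.j = W₂.j) (h0 : IsUnit W₁.j) (h1728 : IsUnit (W₁.j - 1728)) (p : Ideal A)
    [p.IsPrime] : Solv p W₁ W₂ := by
  have hc₁ : W₁.c₄ ∉ p := notMem_of_isUnit (isUnit_c₄ W₁ h0)
  have hc₂u : IsUnit W₂.c₄ := isUnit_c₄ W₂ (hj ▸ h0)
  by_cases h2 : (2 : A) ∈ p
  · -- residue characteristic two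
    obtain ⟨B₁, _, _, hE₁, ⟨q₁, hq₁, hq₁p⟩, C₁, a1, a3, a4⟩ := normalize_two p h2 W₁ hc₁
    haveI := hE₁
    haveI := hq₁
    refine Solv.of_etale B₁ q₁ hq₁p ?_
    refine Solv.of_left C₁ ?_
    have h2q₁ : (2 : B₁) ∈ q₁ := (ofNat_mem_comap hq₁p 2).mpr h2
    have hc₂ : (W₂.map (algebraMap A B₁)).c₄ ∉ q₁ := by
      rw [map_c₄]; exact notMem_of_isUnit (hc₂u.map _)
    obtain ⟨B₂, _, _, hE₂, ⟨q₂, hq₂, hq₂q⟩, C₂, b1, b3, b4⟩ :=
      normalize_two q₁ h2q₁ (W₂.map (algebraMap A B₁)) hc₂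
    haveI := hE₂
    haveI := hq₂
    refine Solv.of_etale B₂ q₂ hq₂q ?_
    refine Solv.of_right C₂ ?_
    have h2q₂ : (2 : B₂) ∈ q₂ := (ofNat_mem_comap hq₂q 2).mpr h2q₁
    refine connect_two q₂ h2q₂ _ _ ?_ ?_ ?_ ?_ ?_ b1 b3 b4
    · rw [map_j, variableChange_j, map_j, variableChange_j, map_j, map_j, hj]
    · rw [map_j, variableChange_j, map_j]
      exact (h0.map _).map _
    · rw [map_a₁, a1, map_one]
    · rw [map_a₃, a3, map_zero]
    · rw [map_a₄, a4, map_zero]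
  · by_cases h3 : (3 : A) ∈ p
    · -- residue characteristic three
      obtain ⟨B₁, _, _, hE₁, ⟨q₁, hq₁, hq₁p⟩, hu2, C₁, a1, a3, a4⟩ :=
        normalize_three p h3 W₁ hc₁
      haveI := hE₁
      haveI := hq₁
      refine Solv.of_etale B₁ q₁ hq₁p ?_
      refine Solv.of_left C₁ ?_
      have h3q₁ : (3 : B₁) ∈ q₁ := (ofNat_mem_comap hq₁p 3).mpr h3
      have hc₂ : (W₂.map (algebraMap A B₁)).c₄ ∉ q₁ := by
        rw [map_c₄]; exact notMem_of_isUnit (hc₂u.map _)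
      obtain ⟨B₂, _, _, hE₂, ⟨q₂, hq₂, hq₂q⟩, hu2', C₂, b1, b3, b4⟩ :=
        normalize_three q₁ h3q₁ (W₂.map (algebraMap A B₁)) hc₂
      haveI := hE₂
      haveI := hq₂
      refine Solv.of_etale B₂ q₂ hq₂q ?_
      refine Solv.of_right C₂ ?_
      have h3q₂ : (3 : B₂) ∈ q₂ := (ofNat_mem_comap hq₂q 3).mpr h3q₁
      refine connect_three q₂ h3q₂ hu2' _ _ ?_ ?_ ?_ ?_ ?_ b1 b3 b4
      · rw [map_j, variableChange_j, map_j, variableChange_j, map_j, map_j, hj]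
      · rw [map_j, variableChange_j, map_j]
        exact (h0.map _).map _
      · rw [map_a₁, a1, map_zero]
      · rw [map_a₃, a3, map_zero]
      · rw [map_a₄, a4, map_zero]
    · -- six is invertible near `p`
      have h6 : (6 : A) ∉ p := by
        intro h
        have : (6 : A) = 2 * 3 := by norm_num
        rw [this] at h
        rcases Ideal.IsPrime.mem_or_mem ‹_› h with h | h
        · exact h2 h
        · exact h3 h
      obtain ⟨B₁, _, _, hE₁, ⟨q₁, hq₁, hq₁p⟩, hu6⟩ := exists_nbhd_unit p 6 h6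
      haveI := hE₁
      haveI := hq₁
      rw [map_ofNat] at hu6
      refine Solv.of_etale B₁ q₁ hq₁p ?_
      obtain ⟨C₁, a1, a2, a3⟩ := normalize_six hu6 (W₁.map (algebraMap A B₁))
      obtain ⟨C₂, b1, b2, b3⟩ := normalize_six hu6 (W₂.map (algebraMap A B₁))
      refine Solv.of_left C₁ ?_
      refine Solv.of_right C₂ ?_
      refine connect_six q₁ hu6 _ _ ?_ ?_ ?_ a1 a2 a3 b1 b2 b3
      · rw [variableChange_j, map_j, variableChange_j, map_j, hj]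
      · rw [variableChange_j, map_j]
        exact h0.map _
      · rw [variableChange_j, map_j]
        have := h1728.map (algebraMap A B₁)
        rwa [map_sub, map_ofNat] at this

end main

end Groth.Agent.Helper7.EllJ
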