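import Mathlib

namespace Groth.Agent.Helper7.EmbDef

universe u v

variable (R : Type u) [CommRing R] (N : Type v) [AddCommGroup N] [Module R N] (M : Submodule R N)

/-- the submodule attached to φ -/
def LL (φ : M →ₗ[R] (N ⧸ M)) : Submodule R (N × N) where
  carrier := {p | ∃ h : p.1 ∈ M, Submodule.Quotient.mk p.2 = φ ⟨p.1, h⟩}
  add_mem' := by
    rintro ⟨x, y⟩ ⟨x', y'⟩ ⟨h, e⟩ ⟨h', e'⟩
    refine ⟨M.add_mem h h', ?_⟩
    have : (⟨x + x', M.add_mem h h'⟩ : M) = ⟨x, h⟩ + ⟨x', h'⟩ := rfl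
    simp only at e e' ⊢
    change Submodule.Quotient.mk (y + y') = φ ⟨x + x', _⟩
    rw [this, map_add, ← e, ← e', Submodule.Quotient.mk_add]
  zero_mem' := by
    refine ⟨M.zero_mem, ?_⟩
    have : (⟨(0 : N × N).1, M.zero_mem⟩ : M) = 0 := rfl
    rw [this, map_zero]; rfl
  smul_mem' := by
    rintro c ⟨x, y⟩ ⟨h, e⟩
    refine ⟨M.smul_mem c h, ?_⟩
    have : (⟨c • x, M.smul_mem c h⟩ : M) = c • ⟨x, h⟩ := rfl
    simp only at e ⊢
    change Submodule.Quotient.mk (c • y) = φ ⟨c • x, _⟩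
    rw [this, map_smul, ← e, Submodule.Quotient.mk_smul]

theorem mem_LL (φ : M →ₗ[R] (N ⧸ M)) (x y : N) :
    (x, y) ∈ LL R N M φ ↔ ∃ h : x ∈ M, Submodule.Quotient.mk y = φ ⟨x, h⟩ := Iff.rfl

theorem main :
    (∀ φ : M →ₗ[R] (N ⧸ M), ∃! L : Submodule R (N × N),
        ∀ x y : N, (x, y) ∈ L ↔ ∃ h : x ∈ M, Submodule.Quotient.mk y = φ ⟨x, h⟩) ∧
    (∀ L : Submodule R (N × N),
      ((∀ x y : N, (x, y) ∈ L → ((0 : N), x) ∈ L) ∧
        (∀ x : N, x ∈ M ↔ ∃ y : N, (x, y) ∈ L) ∧
        (∀ y : N, ((0 : N), y) ∈ L → y ∈ M)) ↔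
      ∃ φ : M →ₗ[R] (N ⧸ M), ∀ x y : N, (x, y) ∈ L ↔ ∃ h : x ∈ M, Submodule.Quotient.mk y = φ ⟨x, h⟩) := by
  constructor
  · intro φ
    refine ⟨LL R N M φ, mem_LL R N M φ, ?_⟩
    intro L hL
    ext ⟨x, y⟩
    rw [hL, mem_LL]
  · intro L
    constructor
    · rintro ⟨h1, h2, h3⟩
      -- choose y for x ∈ M
      have hex : ∀ x : M, ∃ y : N, ((x : N), y) ∈ L := fun x => (h2 x).mp x.2
      choose g hg using hex
      have hwd : ∀ (x : M) (y : N), ((x : N), y) ∈ L →
          (Submodule.Quotient.mk y : N ⧸ M) = Submodule.Quotient.mk (g x) := by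
        intro x y hy
        rw [Submodule.Quotient.eq]
        apply h3
        have := L.sub_mem hy (hg x)
        simpa using this
      let φ : M →ₗ[R] (N ⧸ M) :=
        { toFun := fun x => Submodule.Quotient.mk (g x)
          map_add' := by
            intro x x'
            rw [← Submodule.Quotient.mk_add]
            symm
            apply hwd
            have := L.add_mem (hg x) (hg x')
            simpa using this
          map_smul' := by
            intro c x
            rw [RingHom.id_apply, ← Submodule.Quotient.mk_smul]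
            symm
            apply hwd
            have := L.smul_mem c (hg x)
            simpa using this }
      refine ⟨φ, ?_⟩
      intro x y
      constructor
      · intro hxy
        have hx : x ∈ M := (h2 x).mpr ⟨y, hxy⟩
        exact ⟨hx, hwd ⟨x, hx⟩ y hxy⟩
      · rintro ⟨hx, e⟩
        change (Submodule.Quotient.mk y : N ⧸ M) = Submodule.Quotient.mk (g ⟨x, hx⟩) at e
        rw [Submodule.Quotient.eq] at e
        obtain ⟨z, hz⟩ := (h2 _).mp e
        have h0 := h1 _ _ hz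
        have := L.add_mem (hg ⟨x, hx⟩) h0
        simpa using this
    · rintro ⟨φ, hφ⟩
      refine ⟨?_, ?_, ?_⟩
      · intro x y hxy
        obtain ⟨hx, -⟩ := (hφ x y).mp hxy
        rw [hφ]
        refine ⟨M.zero_mem, ?_⟩
        have : (⟨0, M.zero_mem⟩ : M) = 0 := rfl
        rw [this, map_zero, Submodule.Quotient.mk_eq_zero]
        exact hx
      · intro x
        constructor
        · intro hx
          obtain ⟨y, hy⟩ := Submodule.Quotient.mk_surjective M (φ ⟨x, hx⟩)
          exact ⟨y, (hφ x y).mpr ⟨hx, hy⟩⟩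
        · rintro ⟨y, hy⟩
          exact ((hφ x y).mp hy).1
      · intro y hy
        obtain ⟨h0, e⟩ := (hφ 0 y).mp hy
        have : (⟨0, h0⟩ : M) = 0 := rfl
        rw [this, map_zero, Submodule.Quotient.mk_eq_zero] at e
        exact e

end Groth.Agent.Helper7.EmbDef
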