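import Mathlib

/-!
# Descent of vectors along a finite equalizer system of algebras over a field
-/

set_option autoImplicit false
set_option linter.unusedSectionVars false
universe u w

namespace Groth.Agent.Helper7.EqDesc

open TensorProduct

section coef

variable {K : Type u} [Field K] {W : Type w} [AddCommGroup W] [Module K W]
variable {J : Type*} (b : Module.Basis J K W)

lemma repr_rTensor {S S' : Type*} [CommRing S] [Algebra K S] [CommRing S'] [Algebra K S']
    (ρ : S →ₐ[K] S') (z : S ⊗[K] W) (j : J) :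
    (Algebra.TensorProduct.basis S' b).repr (ρ.toLinearMap.rTensor W z) j =
      ρ ((Algebra.TensorProduct.basis S b).repr z j) := by
  induction z using TensorProduct.induction_on with
  | zero => simp
  | tmul s x =>
    rw [LinearMap.rTensor_tmul, Algebra.TensorProduct.basis_repr_tmul,
      Algebra.TensorProduct.basis_repr_tmul]
    simp
  | add x y hx hy =>
    rw [map_add, map_add, map_add, Finsupp.add_apply, Finsupp.add_apply, hx, hy, map_add]

lemma repr_one_tmul {S : Type*} [CommRing S] [Algebra K S] (x : W) (j : J) :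
    (Algebra.TensorProduct.basis S b).repr ((1 : S) ⊗ₜ[K] x) j = algebraMap K S (b.repr x j) := by
  rw [Algebra.TensorProduct.basis_repr_tmul]
  simp

end coef

section descent

variable {K : Type u} [Field K] {ιv ιe : Type u} [Finite ιv]
  {Kv : ιv → Type u} [∀ i, CommRing (Kv i)] [∀ i, Algebra K (Kv i)]
  {Ke : ιe → Type u} [∀ k, CommRing (Ke k)] [∀ k, Algebra K (Ke k)]
  {l r : ιe → ιv} (ρl : ∀ k, Kv (l k) →ₐ[K] Ke k) (ρr : ∀ k, Kv (r k) →ₐ[K] Ke k)
  (hlim : ∀ x : (∀ i, Kv i), (∀ k, ρl k (x (l k)) = ρr k (x (r k))) →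
      ∃! a : K, ∀ i, algebraMap K (Kv i) a = x i)
  {W : Type w} [AddCommGroup W] [Module K W]

include hlim

lemma scalar_unique (a a' : K) (h : ∀ i, algebraMap K (Kv i) a = algebraMap K (Kv i) a') :
    a = a' := by
  obtain ⟨c, _, hc⟩ := hlim (fun i => algebraMap K (Kv i) a') (fun k => by
    rw [AlgHom.commutes, AlgHom.commutes])
  rw [hc a h, hc a' (fun _ => rfl)]

theorem descent_unique (x x' : W) (h : ∀ i, (1 : Kv i) ⊗ₜ[K] x = 1 ⊗ₜ[K] x') : x = x' := by
  let b := Module.Free.chooseBasis K W
  apply b.repr.injective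
  ext j
  apply scalar_unique ρl ρr hlim
  intro i
  rw [← repr_one_tmul b x j, ← repr_one_tmul b x' j, h i]

theorem descent_exists (z : ∀ i, Kv i ⊗[K] W)
    (hz : ∀ k, (ρl k).toLinearMap.rTensor W (z (l k)) = (ρr k).toLinearMap.rTensor W (z (r k))) :
    ∃ x : W, ∀ i, z i = 1 ⊗ₜ[K] x := by
  classical
  haveI := Fintype.ofFinite ιv
  let b := Module.Free.chooseBasis K W
  let c : ∀ i, (Module.Free.ChooseBasisIndex K W) →₀ Kv i :=
    fun i => (Algebra.TensorProduct.basis (Kv i) b).repr (z i)
  have hc : ∀ j, ∃! a : K, ∀ i, algebraMap K (Kv i) a = c i j := by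
    intro j
    apply hlim
    intro k
    change ρl k ((Algebra.TensorProduct.basis (Kv (l k)) b).repr (z (l k)) j) =
      ρr k ((Algebra.TensorProduct.basis (Kv (r k)) b).repr (z (r k)) j)
    rw [← repr_rTensor, ← repr_rTensor, hz k]
  choose a ha ha' using hc
  let T : Finset (Module.Free.ChooseBasisIndex K W) := Finset.univ.biUnion fun i => (c i).support
  have hT : ∀ j, a j ≠ 0 → j ∈ T := by
    intro j hj
    by_contra hjT
    apply hj
    symm
    apply ha' j 0
    intro i
    rw [map_zero]
    symm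
    by_contra hne
    apply hjT
    exact Finset.mem_biUnion.2 ⟨i, Finset.mem_univ i, Finsupp.mem_support_iff.2 hne⟩
  let a' : (Module.Free.ChooseBasisIndex K W) →₀ K := Finsupp.onFinset T a hT
  refine ⟨b.repr.symm a', fun i => ?_⟩
  apply (Algebra.TensorProduct.basis (Kv i) b).repr.injective
  ext j
  rw [repr_one_tmul, LinearEquiv.apply_symm_apply, Finsupp.onFinset_apply, ha j i]

end descent

end Groth.Agent.Helper7.EqDesc
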