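import Mathlib
import Groth.Agent.Helper7.EqDesc1

/-!
# Descent of bialgebra isomorphisms along a finite equalizer system of algebras over a field
-/

set_option autoImplicit false
set_option linter.unusedSectionVars false
universe u

namespace Groth.Agent.Helper7.EqDesc

open TensorProduct

section J

variable {K : Type u} [Field K] (S : Type u) [CommRing S] [Algebra K S]
  (A : Type u) [CommRing A] [Bialgebra K A]

/-- `S ⊗ (A ⊗ A) ≃ (S ⊗ A) ⊗_S (S ⊗ A)` -/
noncomputable def JJ : S ⊗[K] (A ⊗[K] A) ≃ₗ[S] (S ⊗[K] A) ⊗[S] (S ⊗[K] A) :=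
  (AlgebraTensorModule.congr (TensorProduct.rid S S).symm (LinearEquiv.refl K (A ⊗[K] A))) ≪≫ₗ
    (AlgebraTensorModule.tensorTensorTensorComm K S K S S S A A)

lemma JJ_one_tmul (a₁ a₂ : A) :
    JJ S A ((1 : S) ⊗ₜ[K] (a₁ ⊗ₜ[K] a₂)) = ((1 : S) ⊗ₜ[K] a₁) ⊗ₜ[S] ((1 : S) ⊗ₜ[K] a₂) := by
  simp [JJ]

lemma comul_one_tmul (a : A) :
    Coalgebra.comul (R := S) ((1 : S) ⊗ₜ[K] a) =
      JJ S A ((1 : S) ⊗ₜ[K] Coalgebra.comul (R := K) a) := by
  rw [TensorProduct.comul_tmul]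
  simp [JJ]

lemma counit_one_tmul (a : A) :
    Coalgebra.counit (R := S) ((1 : S) ⊗ₜ[K] a) = algebraMap K S (Coalgebra.counit (R := K) a) := by
  rw [TensorProduct.counit_tmul]
  simp [Algebra.algebraMap_eq_smul_one]

end J

section main

variable {K : Type u} [Field K] {ιv ιe : Type u} [Finite ιv]
  {Kv : ιv → Type u} [∀ i, CommRing (Kv i)] [∀ i, Algebra K (Kv i)]
  {Ke : ιe → Type u} [∀ k, CommRing (Ke k)] [∀ k, Algebra K (Ke k)]
  {l r : ιe → ιv} (ρl : ∀ k, Kv (l k) →ₐ[K] Ke k) (ρr : ∀ k, Kv (r k) →ₐ[K] Ke k)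
  (hlim : ∀ x : (∀ i, Kv i), (∀ k, ρl k (x (l k)) = ρr k (x (r k))) →
      ∃! a : K, ∀ i, algebraMap K (Kv i) a = x i)
  {A B : Type u} [CommRing A] [CommRing B] [Bialgebra K A] [Bialgebra K B]
  (u : ∀ i, (Kv i ⊗[K] B) ≃ₐc[Kv i] (Kv i ⊗[K] A))
  (hu : ∀ (k : ιe) (b : B),
      Algebra.TensorProduct.map (ρl k) (AlgHom.id K A) (u (l k) (1 ⊗ₜ[K] b)) =
        Algebra.TensorProduct.map (ρr k) (AlgHom.id K A) (u (r k) (1 ⊗ₜ[K] b)))

lemma map_id_eq_rTensor {S S' : Type u} [CommRing S] [Algebra K S] [CommRing S'] [Algebra K S']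
    (ρ : S →ₐ[K] S') (x : S ⊗[K] A) :
    Algebra.TensorProduct.map ρ (AlgHom.id K A) x = ρ.toLinearMap.rTensor A x := by
  induction x using TensorProduct.induction_on with
  | zero => simp
  | tmul s a => simp
  | add x y hx hy => rw [map_add, map_add, hx, hy]

include hlim hu

lemma exists_v0 (b : B) : ∃ a : A, ∀ i, u i (1 ⊗ₜ[K] b) = 1 ⊗ₜ[K] a :=
  descent_exists ρl ρr hlim (fun i => u i (1 ⊗ₜ[K] b)) (fun k => by
    rw [← map_id_eq_rTensor, ← map_id_eq_rTensor]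
    exact hu k b)

/-- the descended map -/
noncomputable def v0 (b : B) : A := Classical.choose (exists_v0 ρl ρr hlim u hu b)

lemma v0_spec (b : B) (i : ιv) : u i (1 ⊗ₜ[K] b) = 1 ⊗ₜ[K] v0 ρl ρr hlim u hu b :=
  Classical.choose_spec (exists_v0 ρl ρr hlim u hu b) i

lemma v0_unique (b : B) (a : A) (h : ∀ i, u i (1 ⊗ₜ[K] b) = 1 ⊗ₜ[K] a) :
    v0 ρl ρr hlim u hu b = a := by
  apply descent_unique ρl ρr hlim
  intro i
  rw [← v0_spec, h i]

lemma v0_add (b b' : B) :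
    v0 ρl ρr hlim u hu (b + b') = v0 ρl ρr hlim u hu b + v0 ρl ρr hlim u hu b' := by
  apply v0_unique
  intro i
  rw [TensorProduct.tmul_add, map_add, v0_spec ρl ρr hlim u hu, v0_spec ρl ρr hlim u hu,
    TensorProduct.tmul_add]

lemma v0_smul (c : K) (b : B) :
    v0 ρl ρr hlim u hu (c • b) = c • v0 ρl ρr hlim u hu b := by
  apply v0_unique
  intro i
  rw [TensorProduct.tmul_smul, TensorProduct.tmul_smul, ← algebraMap_smul (Kv i) c,
    ← algebraMap_smul (Kv i) c ((1 : Kv i) ⊗ₜ[K] v0 ρl ρr hlim u hu b), map_smul,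
    v0_spec ρl ρr hlim u hu]

lemma v0_one : v0 ρl ρr hlim u hu (1 : B) = 1 := by
  apply v0_unique
  intro i
  rw [← Algebra.TensorProduct.one_def, map_one, Algebra.TensorProduct.one_def]

lemma v0_mul (b b' : B) :
    v0 ρl ρr hlim u hu (b * b') = v0 ρl ρr hlim u hu b * v0 ρl ρr hlim u hu b' := by
  apply v0_unique
  intro i
  have : ((1 : Kv i) ⊗ₜ[K] (b * b')) = (1 ⊗ₜ[K] b) * (1 ⊗ₜ[K] b') := by
    rw [Algebra.TensorProduct.tmul_mul_tmul, one_mul]
  rw [this, map_mul, v0_spec ρl ρr hlim u hu, v0_spec ρl ρr hlim u hu,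
    Algebra.TensorProduct.tmul_mul_tmul, one_mul]

/-- the descended algebra map -/
noncomputable def vAlg : B →ₐ[K] A :=
  AlgHom.ofLinearMap
    { toFun := v0 ρl ρr hlim u hu
      map_add' := v0_add ρl ρr hlim u hu
      map_smul' := v0_smul ρl ρr hlim u hu }
    (v0_one ρl ρr hlim u hu) (v0_mul ρl ρr hlim u hu)

lemma vAlg_spec (b : B) (i : ιv) : u i (1 ⊗ₜ[K] b) = 1 ⊗ₜ[K] vAlg ρl ρr hlim u hu b :=
  v0_spec ρl ρr hlim u hu b i

lemma counit_vAlg (b : B) :
    Coalgebra.counit (R := K) (vAlg ρl ρr hlim u hu b) = Coalgebra.counit (R := K) b := by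
  apply scalar_unique ρl ρr hlim
  intro i
  rw [← counit_one_tmul (Kv i) A, ← vAlg_spec ρl ρr hlim u hu, CoalgHomClass.counit_comp_apply,
    counit_one_tmul]

lemma map_JJ (i : ιv) (y : B ⊗[K] B) :
    TensorProduct.map ((u i : (Kv i ⊗[K] B) →ₗ[Kv i] (Kv i ⊗[K] A)))
      ((u i : (Kv i ⊗[K] B) →ₗ[Kv i] (Kv i ⊗[K] A))) (JJ (Kv i) B ((1 : Kv i) ⊗ₜ[K] y)) =
      JJ (Kv i) A ((1 : Kv i) ⊗ₜ[K] (TensorProduct.map (vAlg ρl ρr hlim u hu).toLinearMap
        (vAlg ρl ρr hlim u hu).toLinearMap y)) := by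
  induction y using TensorProduct.induction_on with
  | zero => simp
  | tmul b₁ b₂ =>
    rw [JJ_one_tmul, TensorProduct.map_tmul, TensorProduct.map_tmul, JJ_one_tmul]
    change (u i (1 ⊗ₜ[K] b₁)) ⊗ₜ[Kv i] (u i (1 ⊗ₜ[K] b₂)) = _
    rw [vAlg_spec ρl ρr hlim u hu, vAlg_spec ρl ρr hlim u hu]
    rfl
  | add x y hx hy =>
    simp only [TensorProduct.tmul_add, map_add, hx, hy]

lemma comul_vAlg (b : B) :
    TensorProduct.map (vAlg ρl ρr hlim u hu).toLinearMap (vAlg ρl ρr hlim u hu).toLinearMap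
      (Coalgebra.comul (R := K) b) = Coalgebra.comul (R := K) (vAlg ρl ρr hlim u hu b) := by
  apply descent_unique ρl ρr hlim
  intro i
  apply (JJ (Kv i) A).injective
  rw [← map_JJ ρl ρr hlim u hu, ← comul_one_tmul, ← comul_one_tmul, ← vAlg_spec ρl ρr hlim u hu]
  exact CoalgHomClass.map_comp_comul_apply (u i) _

/-- the descended bialgebra map -/
noncomputable def vBialg : B →ₐc[K] A :=
  BialgHom.ofAlgHom (vAlg ρl ρr hlim u hu)
    (by
      apply AlgHom.ext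
      intro b
      exact counit_vAlg ρl ρr hlim u hu b)
    (by
      apply AlgHom.ext
      intro b
      have := comul_vAlg ρl ρr hlim u hu b
      rw [AlgHom.comp_apply, AlgHom.comp_apply]
      change Algebra.TensorProduct.map (vAlg ρl ρr hlim u hu) (vAlg ρl ρr hlim u hu)
        (Coalgebra.comul (R := K) b) = Coalgebra.comul (R := K) (vAlg ρl ρr hlim u hu b)
      rw [← this]
      rfl)

lemma vBialg_spec (b : B) (i : ιv) : u i (1 ⊗ₜ[K] b) = 1 ⊗ₜ[K] vBialg ρl ρr hlim u hu b :=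
  v0_spec ρl ρr hlim u hu b i

lemma exists_nontrivial : ∃ i : ιv, Nontrivial (Kv i) := by
  by_contra h
  have : (0 : K) = 1 := by
    apply scalar_unique ρl ρr hlim
    intro i
    haveI : Subsingleton (Kv i) := not_nontrivial_iff_subsingleton.1 (fun hn => h ⟨i, hn⟩)
    exact Subsingleton.elim _ _
  exact zero_ne_one this

lemma vBialg_bijective : Function.Bijective (vBialg ρl ρr hlim u hu) := by
  obtain ⟨i, hi⟩ := exists_nontrivial ρl ρr hlim u hu
  have h1 : ∀ x : Kv i ⊗[K] B,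
      (vAlg ρl ρr hlim u hu).toLinearMap.lTensor (Kv i) x = u i x := by
    intro x
    induction x using TensorProduct.induction_on with
    | zero => simp
    | tmul s b =>
      rw [LinearMap.lTensor_tmul]
      have : s ⊗ₜ[K] b = s • ((1 : Kv i) ⊗ₜ[K] b) := by
        rw [TensorProduct.smul_tmul', smul_eq_mul, mul_one]
      rw [this, map_smul, vAlg_spec ρl ρr hlim u hu, TensorProduct.smul_tmul', smul_eq_mul, mul_one]
      rfl
    | add x y hx hy => rw [map_add, map_add, hx, hy]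
  have h2 : Function.Bijective ((vAlg ρl ρr hlim u hu).toLinearMap.lTensor (Kv i)) := by
    have : ⇑((vAlg ρl ρr hlim u hu).toLinearMap.lTensor (Kv i)) = ⇑(u i) := funext h1
    rw [this]
    exact (u i).bijective
  exact (Module.FaithfullyFlat.lTensor_bijective_iff_bijective K (Kv i) _).1 h2

theorem main :
    ∃! v : B ≃ₐc[K] A, ∀ (i : ιv) (b : B), u i (1 ⊗ₜ[K] b) = 1 ⊗ₜ[K] v b := by
  refine ⟨BialgEquiv.ofBijective (vBialg ρl ρr hlim u hu) (vBialg_bijective ρl ρr hlim u hu),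
    fun i b => vBialg_spec ρl ρr hlim u hu b i, ?_⟩
  intro v' hv'
  apply BialgEquiv.ext
  intro b
  apply descent_unique ρl ρr hlim
  intro i
  rw [← hv' i b]
  exact vBialg_spec ρl ρr hlim u hu b i

end main

end Groth.Agent.Helper7.EqDesc
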