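import Mathlib

namespace Groth.Agent.Helper7.EqNormal

open Classical

set_option linter.unusedSectionVars false

universe u

section basic


variable {ι : Type u} [Fintype ι] {D : ι → Type u} [∀ i, CommRing (D i)]

/-- indicator idempotent of a finset of indices -/
noncomputable def e (D : ι → Type u) [∀ i, CommRing (D i)] (T : Finset ι) : Π i, D i :=
  fun i => if i ∈ T then 1 else 0

lemma e_apply (T : Finset ι) (i : ι) : e D T i = if i ∈ T then 1 else 0 := rfl

lemma e_mul (T T' : Finset ι) : e D T * e D T' = e D (T ∩ T') := by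
  ext i; simp only [Pi.mul_apply, e_apply, Finset.mem_inter]; split_ifs <;> simp_all

lemma e_univ : e D (Finset.univ) = 1 := by ext i; simp [e_apply]

lemma one_sub_e (T : Finset ι) : 1 - e D T = e D Tᶜ := by
  ext i; simp only [Pi.sub_apply, Pi.one_apply, e_apply, Finset.mem_compl]; split_ifs <;> simp_all

/-- support of an element of the product -/
noncomputable def supp (a : Π i, D i) : Finset ι := Finset.univ.filter (fun i => a i ≠ 0)

lemma mem_supp (a : Π i, D i) (i : ι) : i ∈ supp a ↔ a i ≠ 0 := by simp [supp]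

lemma mul_e_supp (a : Π i, D i) : a * e D (supp a) = a := by
  ext i; simp only [Pi.mul_apply, e_apply, mem_supp]; split_ifs with h
  · simp
  · push Not at h; simp [h]

lemma mul_e_of_supp_subset (c : Π i, D i) (T : Finset ι) (h : supp c ⊆ T) : c * e D T = c := by
  ext i; simp only [Pi.mul_apply, e_apply]; split_ifs with h'
  · simp
  · have : c i = 0 := by
      by_contra hc; exact h' (h ((mem_supp c i).2 hc))
    simp [this]

variable [∀ i, IsDomain (D i)]

lemma nzd_of_forall_ne (s : Π i, D i) (h : ∀ i, s i ≠ 0) : s ∈ nonZeroDivisors (Π i, D i) := by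
  rw [mem_nonZeroDivisors_iff_right]
  intro x hx
  ext i
  have := congrFun hx i
  simp only [Pi.mul_apply, Pi.zero_apply, mul_eq_zero] at this
  exact this.resolve_right (h i)

lemma nzd_add_compl (a : Π i, D i) : a + e D (supp a)ᶜ ∈ nonZeroDivisors (Π i, D i) := by
  apply nzd_of_forall_ne
  intro i
  simp only [Pi.add_apply, e_apply, Finset.mem_compl, mem_supp]
  by_cases h : a i = 0
  · simp [h]
  · simp [h]

variable {R : Type u} [CommRing R] (F : Set ((Π i, D i) →+* R))
  (hF : ∀ f ∈ F, ∀ s ∈ nonZeroDivisors (Π i, D i), f s ∈ nonZeroDivisors R)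
  (A : Subring (Π i, D i)) (hA : ∀ a, a ∈ A ↔ ∀ f ∈ F, ∀ f' ∈ F, f a = f' a)

include hF hA in
/-- K1: the support idempotent of an element of `A` lies in `A`. -/
lemma e_supp_mem {a : Π i, D i} (ha : a ∈ A) : e D (supp a) ∈ A := by
  rw [hA]
  -- symmetric statement
  have key : ∀ f ∈ F, ∀ f' ∈ F, f' (e D (supp a)) = f (e D (supp a)) * f' (e D (supp a)) := by
    intro f hf f' hf'
    set p := f (e D (supp a)) with hp
    set p' := f' (e D (supp a)) with hp'
    have hα : f a = f' a := (hA a).1 ha f hf f' hf'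
    have hs := hF f' hf' _ (nzd_add_compl a)
    have h1 : f a * p = f a := by rw [hp, ← map_mul, mul_e_supp]
    have hidem : p' * p' = p' := by
      rw [hp', ← map_mul, e_mul, Finset.inter_self]
    have h2 : f' (a + e D (supp a)ᶜ) = f a + (1 - p') := by
      rw [map_add, ← one_sub_e, map_sub, map_one, hα]
    have h3 : ((1 - p) * p') * f' (a + e D (supp a)ᶜ) = 0 := by
      rw [h2]
      have : (1 - p) * p' * (f a + (1 - p')) = p' * (f a - f a * p) + (1 - p) * (p' - p' * p') := by
        ring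
      rw [this, h1, hidem]; ring
    have h4 := (mem_nonZeroDivisors_iff_right.1 hs) _ h3
    have : p' = p * p' + (1 - p) * p' := by ring
    rw [h4, add_zero] at this
    exact this
  intro f hf f' hf'
  have k1 := key f hf f' hf'
  have k2 := key f' hf' f hf
  rw [k2, mul_comm]; exact k1.symm

include hF hA in
/-- K2: division inside `A`. -/
lemma div_mem {b c : Π i, D i} (hb : b ∈ A) (hbc : b * c ∈ A) (hsupp : supp c ⊆ supp b) : c ∈ A := by
  have hs : b + e D (supp b)ᶜ ∈ A := by
    apply A.add_mem hb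
    rw [← one_sub_e]
    exact A.sub_mem A.one_mem (e_supp_mem F hF A hA hb)
  have hcs : c * (b + e D (supp b)ᶜ) = b * c := by
    have : c * e D (supp b)ᶜ = 0 := by
      have h1 := mul_e_of_supp_subset c _ hsupp
      rw [← one_sub_e, mul_sub, mul_one, h1, sub_self]
    rw [mul_add, this, add_zero, mul_comm]
  rw [hA]
  intro f hf f' hf'
  have hnz := hF f hf _ (nzd_add_compl b)
  have e1 : f c * f (b + e D (supp b)ᶜ) = f' c * f (b + e D (supp b)ᶜ) := by
    rw [← map_mul, hcs, (hA _).1 hbc f hf f' hf', ← hcs, map_mul, (hA _).1 hs f hf f' hf']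
  have e2 : (f c - f' c) * f (b + e D (supp b)ᶜ) = 0 := by rw [sub_mul, e1, sub_self]
  have := (mem_nonZeroDivisors_iff_right.1 hnz) _ e2
  exact sub_eq_zero.1 this



end basic

section generic

variable {κ' : Type u} {D' : κ' → Type u} [∀ j, CommRing (D' j)] [∀ j, IsDomain (D' j)]

theorem isDomain_of_coords [Nonempty κ'] (E : Subring (Π j, D' j))
    (hE : ∀ x ∈ E, x ≠ 0 → ∀ j, x j ≠ 0) : IsDomain E := by
  have : Nontrivial E := by
    refine ⟨⟨0, 1, ?_⟩⟩
    intro h
    have h' : (0 : Π j, D' j) = 1 := congrArg Subtype.val h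
    have := congrFun h' (Classical.arbitrary κ')
    simp at this
  have : NoZeroDivisors E := by
    refine ⟨?_⟩
    intro x y hxy
    by_contra hne
    push Not at hne
    have hx : (x : Π j, D' j) ≠ 0 := fun h => hne.1 (Subtype.ext h)
    have hy : (y : Π j, D' j) ≠ 0 := fun h => hne.2 (Subtype.ext h)
    have j := Classical.arbitrary κ'
    have h1 := hE x x.2 hx j
    have h2 := hE y y.2 hy j
    have h3 : ((x * y : E) : Π j, D' j) j = 0 := by rw [hxy]; rfl
    simp only [Subring.coe_mul, Pi.mul_apply, mul_eq_zero] at h3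
    rcases h3 with h3 | h3
    · exact h1 h3
    · exact h2 h3
  exact NoZeroDivisors.to_isDomain E

theorem isIntegrallyClosed_of_coords [Nonempty κ'] [∀ j, IsIntegrallyClosed (D' j)]
    (E : Subring (Π j, D' j))
    (hE : ∀ x ∈ E, x ≠ 0 → ∀ j, x j ≠ 0)
    (hdiv : ∀ a ∈ E, ∀ b ∈ E, b ≠ 0 → ∀ c : Π j, D' j, a = b * c → c ∈ E) :
    IsIntegrallyClosed E := by
  have : IsDomain E := isDomain_of_coords E hE
  rw [isIntegrallyClosed_iff (FractionRing E)]
  intro x hx
  obtain ⟨a, b, hb, rfl⟩ := IsFractionRing.div_surjective (A := E) x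
  have hb0 : b ≠ 0 := nonZeroDivisors.ne_zero hb
  have hb0' : (b : Π j, D' j) ≠ 0 := fun h => hb0 (Subtype.ext h)
  have key : ∀ j, ∃ c : D' j, (a : Π j, D' j) j = (b : Π j, D' j) j * c := by
    intro j
    let π : E →+* D' j := (Pi.evalRingHom D' j).comp E.subtype
    have hπ : Function.Injective π := by
      rw [injective_iff_map_eq_zero]
      intro y hy
      by_contra h
      exact hE y y.2 (fun h' => h (Subtype.ext h')) j hy
    let g : E →+* FractionRing (D' j) := (algebraMap (D' j) (FractionRing (D' j))).comp π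
    have hg : Function.Injective g := (IsFractionRing.injective _ _).comp hπ
    let φ : FractionRing E →+* FractionRing (D' j) := IsFractionRing.lift hg
    have hφ : ∀ y : E, φ (algebraMap E (FractionRing E) y) = algebraMap (D' j) (FractionRing (D' j)) (π y) :=
      fun y => IsFractionRing.lift_algebraMap hg y
    have hint : IsIntegral (D' j) (φ (algebraMap E _ a / algebraMap E _ b)) := by
      obtain ⟨p, hp, hpx⟩ := hx
      refine ⟨p.map π, hp.map π, ?_⟩
      rw [Polynomial.eval₂_map]
      have : (algebraMap (D' j) (FractionRing (D' j))).comp π =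
          φ.comp (algebraMap E (FractionRing E)) := by
        ext y; simp [hφ]
      rw [this, ← Polynomial.hom_eval₂, hpx, map_zero]
    obtain ⟨c, hc⟩ := IsIntegrallyClosed.algebraMap_eq_of_integral hint
    refine ⟨c, ?_⟩
    rw [map_div₀, hφ, hφ] at hc
    have hbj : algebraMap (D' j) (FractionRing (D' j)) (π b) ≠ 0 := by
      intro h
      have := (IsFractionRing.injective (D' j) (FractionRing (D' j))) (h.trans (map_zero _).symm)
      exact hE b b.2 hb0' j this
    rw [eq_div_iff hbj, ← map_mul] at hc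
    have := (IsFractionRing.injective (D' j) (FractionRing (D' j))) hc
    change c * (b : Π j, D' j) j = (a : Π j, D' j) j at this
    rw [← this, mul_comm]
  choose c hc using key
  have hcE : c ∈ E := hdiv a a.2 b b.2 hb0' c (by ext j; exact hc j)
  refine ⟨⟨c, hcE⟩, ?_⟩
  have hbK : algebraMap E (FractionRing E) b ≠ 0 := by
    intro h
    exact hb0 ((IsFractionRing.injective E (FractionRing E)) (h.trans (map_zero _).symm))
  rw [eq_div_iff hbK, ← map_mul]
  congr 1
  apply Subtype.ext
  ext j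
  simp only [Subring.coe_mul, Pi.mul_apply]
  rw [hc j, mul_comm]

end generic


section classes

variable {ι : Type u} [Fintype ι] {D : ι → Type u} [∀ i, CommRing (D i)]
  (A : Subring (Π i, D i))

/-- the class of `i`: the intersection of all `T` with `e T ∈ A` containing `i`. -/
noncomputable def cls (i : ι) : Finset ι :=
  Finset.univ.filter (fun j => ∀ T : Finset ι, e D T ∈ A → i ∈ T → j ∈ T)

lemma mem_cls {i j : ι} : j ∈ cls A i ↔ ∀ T : Finset ι, e D T ∈ A → i ∈ T → j ∈ T := by
  simp [cls]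

lemma self_mem_cls (i : ι) : i ∈ cls A i := (mem_cls A).2 (fun _ _ h => h)

lemma e_cls_mem (i : ι) : e D (cls A i) ∈ A := by
  have : e D (cls A i) =
      ∏ T ∈ Finset.univ.filter (fun T : Finset ι => e D T ∈ A ∧ i ∈ T), e D T := by
    ext j
    rw [Finset.prod_apply]
    simp only [e_apply]
    rw [Finset.prod_boole]
    simp only [mem_cls, Finset.mem_filter, Finset.mem_univ, true_and, and_imp]
  rw [this]
  exact Subring.prod_mem _ (fun T hT => (Finset.mem_filter.1 hT).2.1)

lemma cls_eq_of_mem {i j : ι} (hj : j ∈ cls A i) : cls A j = cls A i := by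
  have h1 : cls A j ⊆ cls A i := fun l hl => (mem_cls A).1 hl _ (e_cls_mem A i) hj
  have h2 : i ∈ cls A j := by
    by_contra hi
    have hT : e D (cls A i ∩ (cls A j)ᶜ) ∈ A := by
      rw [← e_mul, ← one_sub_e]
      exact A.mul_mem (e_cls_mem A i) (A.sub_mem A.one_mem (e_cls_mem A j))
    have := (mem_cls A).1 hj _ hT (by simp [self_mem_cls, hi])
    simp only [Finset.mem_inter, Finset.mem_compl] at this
    exact this.2 (self_mem_cls A j)
  have h3 : cls A i ⊆ cls A j := fun l hl => (mem_cls A).1 hl _ (e_cls_mem A j) h2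
  exact Finset.Subset.antisymm h1 h3

lemma eq_cls_of_subset {i j : ι} {T : Finset ι} (hT : e D T ∈ A) (hsub : T ⊆ cls A i)
    (hj : j ∈ T) : T = cls A i := by
  have h1 := cls_eq_of_mem A (hsub hj)
  have h2 : cls A j ⊆ T := fun l hl => (mem_cls A).1 hl _ hT hj
  rw [h1] at h2
  exact Finset.Subset.antisymm hsub h2

/-- restriction to a finset of coordinates -/
def restr (D : ι → Type u) [∀ i, CommRing (D i)] (J : Finset ι) :
    (Π i, D i) →+* (Π i : {i // i ∈ J}, D i.1) :=
  RingHom.pi (fun i => Pi.evalRingHom D i.1)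

lemma restr_apply (J : Finset ι) (a : Π i, D i) (i : {i // i ∈ J}) : restr D J a i = a i.1 := rfl

/-- the factor subring -/
def Esub (J : Finset ι) : Subring (Π i : {i // i ∈ J}, D i.1) := A.map (restr D J)

lemma exists_lift {J : Finset ι} (hJ : e D J ∈ A) {x : Π i : {i // i ∈ J}, D i.1}
    (hx : x ∈ Esub A J) : ∃ a ∈ A, restr D J a = x ∧ supp a ⊆ J := by
  obtain ⟨a, ha, rfl⟩ := hx
  refine ⟨a * e D J, A.mul_mem ha hJ, ?_, ?_⟩
  · ext i
    simp [restr_apply, e_apply, i.2]
  · intro i hi
    rw [mem_supp] at hi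
    by_contra h
    apply hi
    simp [e_apply, h]

end classes

section main

variable {ι : Type u} [Fintype ι] {D : ι → Type u} [∀ i, CommRing (D i)] [∀ i, IsDomain (D i)]
  {R : Type u} [CommRing R] (F : Set ((Π i, D i) →+* R))
  (hF : ∀ f ∈ F, ∀ s ∈ nonZeroDivisors (Π i, D i), f s ∈ nonZeroDivisors R)
  (A : Subring (Π i, D i)) (hA : ∀ a, a ∈ A ↔ ∀ f ∈ F, ∀ f' ∈ F, f a = f' a)

include hF hA in
lemma Esub_coords (i₀ : ι) : ∀ x ∈ Esub A (cls A i₀), x ≠ 0 → ∀ j, x j ≠ 0 := by
  intro x hx hx0 j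
  obtain ⟨a, ha, rfl, hsupp⟩ := exists_lift A (e_cls_mem A i₀) hx
  have hne : ∃ l, l ∈ supp a := by
    by_contra h
    push Not at h
    apply hx0
    ext l
    have := h l.1
    rw [mem_supp] at this
    push Not at this
    simpa [restr_apply] using this
  obtain ⟨l, hl⟩ := hne
  have := eq_cls_of_subset A (e_supp_mem F hF A hA ha) hsupp hl
  have hj : j.1 ∈ supp a := by rw [this]; exact j.2
  rw [mem_supp] at hj
  simpa [restr_apply] using hj

include hF hA in
lemma Esub_div (i₀ : ι) : ∀ a ∈ Esub A (cls A i₀), ∀ b ∈ Esub A (cls A i₀), b ≠ 0 →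
    ∀ c : Π i : {i // i ∈ cls A i₀}, D i.1, a = b * c → c ∈ Esub A (cls A i₀) := by
  intro a ha b hb hb0 c hc
  obtain ⟨a₀, ha₀, rfl, hsa⟩ := exists_lift A (e_cls_mem A i₀) ha
  obtain ⟨b₀, hb₀, rfl, hsb⟩ := exists_lift A (e_cls_mem A i₀) hb
  have hbcoord := Esub_coords F hF A hA i₀ _ hb hb0
  let c₀ : Π i, D i := fun i => if h : i ∈ cls A i₀ then c ⟨i, h⟩ else 0
  have hc₀ : restr D (cls A i₀) c₀ = c := by
    ext i
    simp [restr_apply, c₀, i.2]
  have hprod : b₀ * c₀ = a₀ := by
    ext i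
    by_cases h : i ∈ cls A i₀
    · have := congrFun hc ⟨i, h⟩
      simp only [Pi.mul_apply, restr_apply] at this
      simp only [Pi.mul_apply, c₀, h, dite_true]
      exact this.symm
    · have h1 : a₀ i = 0 := by
        by_contra h'
        exact h (hsa ((mem_supp _ _).2 h'))
      simp [c₀, h, h1]
  have hsc : supp c₀ ⊆ supp b₀ := by
    intro i hi
    rw [mem_supp] at hi ⊢
    by_cases h : i ∈ cls A i₀
    · have := hbcoord ⟨i, h⟩
      simpa [restr_apply] using this
    · exfalso; apply hi; simp [c₀, h]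
  have := div_mem F hF A hA hb₀ (by rw [hprod]; exact ha₀) hsc
  exact ⟨c₀, this, hc₀⟩


include hF hA in
lemma Esub_isDomain (J : Finset ι) (hJ : ∃ i, J = cls A i) : IsDomain (Esub A J) := by
  obtain ⟨i₀, rfl⟩ := hJ
  have : Nonempty {i // i ∈ cls A i₀} := ⟨⟨i₀, self_mem_cls A i₀⟩⟩
  exact isDomain_of_coords _ (Esub_coords F hF A hA i₀)

include hF hA in
lemma Esub_isIntegrallyClosed [∀ i, IsIntegrallyClosed (D i)] (J : Finset ι)
    (hJ : ∃ i, J = cls A i) : IsIntegrallyClosed (Esub A J) := by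
  obtain ⟨i₀, rfl⟩ := hJ
  have : Nonempty {i // i ∈ cls A i₀} := ⟨⟨i₀, self_mem_cls A i₀⟩⟩
  exact isIntegrallyClosed_of_coords _ (Esub_coords F hF A hA i₀) (Esub_div F hF A hA i₀)

include hF hA in
theorem main [∀ i, IsIntegrallyClosed (D i)] :
    ∃ (κ : Type u) (_ : Fintype κ) (E : κ → Type u) (_ : ∀ j, CommRing (E j))
      (_ : ∀ j, IsDomain (E j)) (_ : ∀ j, IsIntegrallyClosed (E j)),
      Nonempty (A ≃+* Π j, E j) := by
  let κ : Type u := {T : Finset ι // ∃ i, T = cls A i}
  have : Fintype κ := Fintype.ofFinite κ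
  refine ⟨κ, inferInstance, fun c => Esub A c.1, fun c => inferInstance,
    fun c => Esub_isDomain F hF A hA c.1 c.2,
    fun c => Esub_isIntegrallyClosed F hF A hA c.1 c.2, ?_⟩
  let Φ : A →+* Π c : κ, Esub A c.1 :=
    RingHom.pi (fun c => (restr D c.1).restrict A (Esub A c.1) (fun x hx => ⟨x, hx, rfl⟩))
  have hΦ : ∀ (a : A) (c : κ) (i : {i // i ∈ c.1}), ((Φ a c : Esub A c.1) :
      Π i : {i // i ∈ c.1}, D i.1) i = (a : Π i, D i) i.1 := fun a c i => rfl
  have hdisj : ∀ (c c' : κ) (i : ι), i ∈ c.1 → i ∈ c'.1 → c = c' := by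
    intro c c' i h h'
    obtain ⟨l, hl⟩ := c.2
    obtain ⟨l', hl'⟩ := c'.2
    apply Subtype.ext
    rw [hl] at h ⊢
    rw [hl'] at h' ⊢
    rw [← cls_eq_of_mem A h, ← cls_eq_of_mem A h']
  refine ⟨RingEquiv.ofBijective Φ ⟨?_, ?_⟩⟩
  · rw [injective_iff_map_eq_zero]
    intro a ha
    apply Subtype.ext
    ext i
    have := hΦ a ⟨cls A i, i, rfl⟩ ⟨i, self_mem_cls A i⟩
    rw [ha] at this
    exact this.symm
  · intro y
    have hy : ∀ c : κ, ∃ a ∈ A, restr D c.1 a = (y c : Π i : {i // i ∈ c.1}, D i.1) :=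
      fun c => (y c).2
    choose a haA ha using hy
    have hmem : (∑ c : κ, e D c.1 * a c) ∈ A := by
      apply Subring.sum_mem
      intro c _
      obtain ⟨l, hl⟩ := c.2
      refine A.mul_mem ?_ (haA c)
      rw [hl]; exact e_cls_mem A l
    refine ⟨⟨_, hmem⟩, ?_⟩
    funext c'
    apply Subtype.ext
    funext i
    rw [hΦ]
    simp only [Finset.sum_apply, Pi.mul_apply, e_apply]
    rw [Finset.sum_eq_single c']
    · rw [if_pos i.2, one_mul, ← ha c']; rfl
    · intro c _ hc
      rw [if_neg, zero_mul]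
      intro h
      exact hc (hdisj c c' i.1 h i.2)
    · intro h; exact absurd (Finset.mem_univ _) h

end main

end Groth.Agent.Helper7.EqNormal
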