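import Mathlib

/-!
# Ring-theoretic core of the equivariant Zariski Main Theorem
-/

set_option autoImplicit false
set_option linter.unusedSectionVars false
set_option linter.style.haveILetI false
universe u

open AlgebraicGeometry CategoryTheory

namespace Groth.Agent.Helper7.EqZMT

section ring

variable {S R : Type u} [CommRing S] [CommRing R] [Algebra S R]

/-- the "good" elements: integral elements `r` some power of which multiplies any element into the
integral closure -/
def good (S R : Type u) [CommRing S] [CommRing R] [Algebra S R] : Set R :=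
  {r | IsIntegral S r ∧ ∀ x : R, ∃ m : ℕ, IsIntegral S (r ^ m * x)}

theorem span_good_eq_top [Algebra.FiniteType S R] [Algebra.QuasiFinite S R] :
    Ideal.span (good S R) = ⊤ := by
  by_contra h
  obtain ⟨p, hp, hle⟩ := Ideal.exists_le_maximal _ h
  haveI : p.IsPrime := hp.isPrime
  have hz := Algebra.ZariskisMainProperty.of_finiteType (R := S) p
  rw [Algebra.zariskisMainProperty_iff] at hz
  obtain ⟨r, hrp, hr, hx⟩ := hz
  exact hrp (hle (Ideal.subset_span ⟨hr, hx⟩))

/-- the elements some power of `r` multiplies into `B` -/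
def satAlg (B : Subalgebra S R) (r : R) (hr : r ∈ B) : Subalgebra S R where
  carrier := {y | ∃ m : ℕ, r ^ m * y ∈ B}
  mul_mem' := by
    rintro a b ⟨m, hm⟩ ⟨n, hn⟩
    refine ⟨m + n, ?_⟩
    have : r ^ (m + n) * (a * b) = (r ^ m * a) * (r ^ n * b) := by ring
    rw [this]; exact B.mul_mem hm hn
  add_mem' := by
    rintro a b ⟨m, hm⟩ ⟨n, hn⟩
    refine ⟨m + n, ?_⟩
    have : r ^ (m + n) * (a + b) = r ^ n * (r ^ m * a) + r ^ m * (r ^ n * b) := by ring
    rw [this]
    exact B.add_mem (B.mul_mem (B.pow_mem hr n) hm) (B.mul_mem (B.pow_mem hr m) hn)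
  algebraMap_mem' := fun s => ⟨0, by simp⟩

theorem exists_finset_gens [Algebra.FiniteType S R] [Algebra.QuasiFinite S R] :
    ∃ (rs T : Finset R), Ideal.span (rs : Set R) = ⊤ ∧ rs ⊆ T ∧ (∀ t ∈ T, IsIntegral S t) ∧
      ∀ B : Subalgebra S R, (↑T ⊆ (B : Set R)) → ∀ r ∈ rs, ∀ y : R, ∃ m : ℕ, r ^ m * y ∈ B := by
  classical
  obtain ⟨rs, hrs, hspan⟩ :=
    (Ideal.span_eq_top_iff_finite _).1 (span_good_eq_top (S := S) (R := R))
  obtain ⟨xs, hxs⟩ := (Algebra.FiniteType.out : (⊤ : Subalgebra S R).FG)
  have hm : ∀ r : R, ∀ x : R, ∃ m : ℕ, r ∈ rs → IsIntegral S (r ^ m * x) := by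
    intro r x
    by_cases h : r ∈ rs
    · obtain ⟨m, hm⟩ := (hrs h).2 x
      exact ⟨m, fun _ => hm⟩
    · exact ⟨0, fun h' => absurd h' h⟩
  choose m hm using hm
  refine ⟨rs, rs ∪ (rs ×ˢ xs).image (fun p => p.1 ^ m p.1 p.2 * p.2), hspan,
    Finset.subset_union_left, ?_, ?_⟩
  · intro t ht
    rcases Finset.mem_union.1 ht with h | h
    · exact (hrs h).1
    · obtain ⟨p, hp, rfl⟩ := Finset.mem_image.1 h
      exact hm p.1 p.2 (Finset.mem_product.1 hp).1
  · intro B hB r hr y
    have hrB : r ∈ B := hB (Finset.mem_coe.2 (Finset.mem_union_left _ hr))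
    have htop : (⊤ : Subalgebra S R) ≤ satAlg B r hrB := by
      rw [← hxs]
      apply Algebra.adjoin_le
      intro x hx
      refine ⟨m r x, hB (Finset.mem_coe.2 (Finset.mem_union_right _ ?_))⟩
      exact Finset.mem_image.2 ⟨(r, x), Finset.mem_product.2 ⟨hr, hx⟩, rfl⟩
    exact htop (Algebra.mem_top (x := y))

end ring

section oi

/-- an injective ring map which is a localisation isomorphism over a family of elements whose
images generate the unit ideal of the target induces an open immersion on spectra -/
theorem isOpenImmersion_of_cover {C B : Type u} [CommRing C] [CommRing B] (φ : C →+* B)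
    (hφ : Function.Injective φ) (rs : Set C) (hspan : Ideal.span (φ '' rs) = ⊤)
    (hsat : ∀ r ∈ rs, ∀ b : B, ∃ (c : C) (m : ℕ), φ c = φ r ^ m * b) :
    IsOpenImmersion (Spec.map (CommRingCat.ofHom φ)) := by
  have hex : ∀ q : PrimeSpectrum B, ∃ r ∈ rs, φ r ∉ q.asIdeal := by
    intro q
    by_contra h
    push Not at h
    have hle : Ideal.span (φ '' rs) ≤ q.asIdeal := by
      rw [Ideal.span_le]
      rintro _ ⟨r, hr, rfl⟩
      exact h r hr
    rw [hspan] at hle
    exact q.isPrime.ne_top (top_le_iff.1 hle)
  apply IsOpenImmersion.of_forall_source_exists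
  · intro x y hxy
    change PrimeSpectrum.comap φ x = PrimeSpectrum.comap φ y at hxy
    have hmem : ∀ c : C, φ c ∈ x.asIdeal ↔ φ c ∈ y.asIdeal := by
      intro c
      have := congrArg (fun p : PrimeSpectrum C => c ∈ p.asIdeal) hxy
      simpa using this
    obtain ⟨r, hr, hrx⟩ := hex x
    have hry : φ r ∉ y.asIdeal := fun h => hrx ((hmem r).2 h)
    apply PrimeSpectrum.ext
    ext b
    obtain ⟨c, n, hc⟩ := hsat r hr b
    constructor
    · intro hb
      have h1 : φ c ∈ x.asIdeal := by rw [hc]; exact Ideal.mul_mem_left _ _ hb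
      have h2 : φ r ^ n * b ∈ y.asIdeal := by rw [← hc]; exact (hmem c).1 h1
      rcases y.isPrime.mem_or_mem h2 with h | h
      · exact absurd (y.isPrime.mem_of_pow_mem _ h) hry
      · exact h
    · intro hb
      have h1 : φ c ∈ y.asIdeal := by rw [hc]; exact Ideal.mul_mem_left _ _ hb
      have h2 : φ r ^ n * b ∈ x.asIdeal := by rw [← hc]; exact (hmem c).2 h1
      rcases x.isPrime.mem_or_mem h2 with h | h
      · exact absurd (x.isPrime.mem_of_pow_mem _ h) hrx
      · exact h
  · intro x
    obtain ⟨s', hs'r, hs⟩ := hex x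
    have hχ : Function.Bijective (Localization.awayMap φ s') := by
      constructor
      · rw [Localization.awayMap_injective_iff]
        intro a ha
        refine ⟨0, ?_⟩
        rw [pow_zero, one_mul]
        exact hφ (by rw [ha, map_zero])
      · rw [Localization.awayMap_surjective_iff]
        intro b
        obtain ⟨c, m, hc⟩ := hsat s' hs'r b
        exact ⟨c, m, hc⟩
    haveI : IsIso (Spec.map (CommRingCat.ofHom (Localization.awayMap φ s'))) :=
      isIso_SpecMap_iff.2 hχ
    haveI : IsOpenImmersion (Spec.map (CommRingCat.ofHom (algebraMap C (Localization.Away s')))) :=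
      IsOpenImmersion.of_isLocalization s'
    haveI : IsOpenImmersion (Spec.map (CommRingCat.ofHom (algebraMap B (Localization.Away (φ s'))))) :=
      IsOpenImmersion.of_isLocalization (φ s')
    refine ⟨Spec (CommRingCat.of (Localization.Away (φ s'))),
      Spec.map (CommRingCat.ofHom (algebraMap B (Localization.Away (φ s')))), inferInstance, ?_, ?_⟩
    · change x ∈ Set.range _
      have h2 := PrimeSpectrum.localization_away_comap_range (Localization.Away (φ s')) (φ s')
      change x ∈ Set.range (PrimeSpectrum.comap (algebraMap B (Localization.Away (φ s'))))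
      rw [h2]
      exact hs
    · have heq : Spec.map (CommRingCat.ofHom (algebraMap B (Localization.Away (φ s')))) ≫
          Spec.map (CommRingCat.ofHom φ) =
          Spec.map (CommRingCat.ofHom (Localization.awayMap φ s')) ≫
            Spec.map (CommRingCat.ofHom (algebraMap C (Localization.Away s'))) := by
        rw [← Spec.map_comp, ← Spec.map_comp]
        congr 1
        ext c
        simp [Localization.awayMap, IsLocalization.Away.map]
      rw [heq]
      infer_instance

end oi

end Groth.Agent.Helper7.EqZMT
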