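import Mathlib
import Groth.Agent.Helper7.ComodB

/-!
# Pulling a comodule structure back along an injective linear map with coaction-stable image
-/

set_option autoImplicit false
set_option linter.unusedSectionVars false
universe u v w w'

namespace Groth.Agent.Helper7.EqZMT

open TensorProduct HopfRep Groth.Agent.Helper7.Comodule

section pull

variable {K : Type u} {C : Type v} [Field K] [AddCommGroup C] [Module K C] [Coalgebra K C]
variable {V : Type w} [AddCommGroup V] [Module K V] [Comod K C V]
variable {W : Type w'} [AddCommGroup W] [Module K W] (j : W →ₗ[K] V)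

lemma rTensor_injective (hj : Function.Injective j) (M : Type*) [AddCommGroup M] [Module K M] :
    Function.Injective (LinearMap.rTensor M j) :=
  Module.Flat.rTensor_preserves_injective_linearMap _ hj

/-- the pulled-back coaction -/
noncomputable def pullCoact (hj : Function.Injective j)
    (hW : ∀ w : W, ρ K C V (j w) ∈ LinearMap.range (LinearMap.rTensor C j)) :
    W →ₗ[K] W ⊗[K] C :=
  (LinearEquiv.ofInjective _ (rTensor_injective j hj C)).symm.toLinearMap ∘ₗ
    (ρ K C V ∘ₗ j).codRestrict _ hW

lemma rTensor_pullCoact (hj : Function.Injective j)
    (hW : ∀ w : W, ρ K C V (j w) ∈ LinearMap.range (LinearMap.rTensor C j)) (w : W) :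
    LinearMap.rTensor C j (pullCoact j hj hW w) = ρ K C V (j w) := by
  unfold pullCoact
  simp only [LinearMap.coe_comp, LinearEquiv.coe_coe, Function.comp_apply]
  have := LinearEquiv.apply_symm_apply (LinearEquiv.ofInjective _ (rTensor_injective j hj C))
    ((ρ K C V ∘ₗ j).codRestrict _ hW w)
  exact congrArg Subtype.val this

private lemma aux1 (c : C) (z : W ⊗[K] C) :
    LinearMap.rTensor (C ⊗[K] C) j ((TensorProduct.assoc K W C C) (z ⊗ₜ[K] c)) =
      (TensorProduct.assoc K V C C) (LinearMap.rTensor C j z ⊗ₜ[K] c) := by
  induction z using TensorProduct.induction_on with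
  | zero => simp
  | tmul v d => simp
  | add x y hx hy => simp only [TensorProduct.add_tmul, map_add, hx, hy]

private lemma aux2 (hj : Function.Injective j)
    (hW : ∀ w : W, ρ K C V (j w) ∈ LinearMap.range (LinearMap.rTensor C j)) (y : W ⊗[K] C) :
    LinearMap.rTensor (C ⊗[K] C) j
      ((TensorProduct.assoc K W C C) (LinearMap.rTensor C (pullCoact j hj hW) y)) =
    (TensorProduct.assoc K V C C) (LinearMap.rTensor C (ρ K C V)
      (LinearMap.rTensor C j y)) := by
  induction y using TensorProduct.induction_on with
  | zero => simp
  | tmul v d =>
    rw [LinearMap.rTensor_tmul, aux1, rTensor_pullCoact, LinearMap.rTensor_tmul,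
      LinearMap.rTensor_tmul]
  | add x y hx hy => simp only [map_add, hx, hy]

private lemma aux3 (y : W ⊗[K] C) :
    LinearMap.rTensor (C ⊗[K] C) j
      (LinearMap.lTensor W (CoalgebraStruct.comul (R := K) (A := C)) y) =
    LinearMap.lTensor V (CoalgebraStruct.comul (R := K) (A := C))
      (LinearMap.rTensor C j y) := by
  induction y using TensorProduct.induction_on with
  | zero => simp
  | tmul v d => simp
  | add x y hx hy => simp only [map_add, hx, hy]

private lemma aux4 (y : W ⊗[K] C) :
    LinearMap.rTensor K j
      (LinearMap.lTensor W (CoalgebraStruct.counit (R := K) (A := C)) y) =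
    LinearMap.lTensor V (CoalgebraStruct.counit (R := K) (A := C))
      (LinearMap.rTensor C j y) := by
  induction y using TensorProduct.induction_on with
  | zero => simp
  | tmul v d => simp
  | add x y hx hy => simp only [map_add, hx, hy]

/-- the pulled-back comodule structure -/
@[reducible] noncomputable def pullComod (hj : Function.Injective j)
    (hW : ∀ w : W, ρ K C V (j w) ∈ LinearMap.range (LinearMap.rTensor C j)) : Comod K C W where
  coact := pullCoact j hj hW
  coassoc := by
    apply LinearMap.ext
    intro w
    apply rTensor_injective j hj (C ⊗[K] C)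
    simp only [LinearMap.coe_comp, Function.comp_apply, LinearEquiv.coe_coe]
    rw [aux2, aux3, rTensor_pullCoact]
    have h := LinearMap.congr_fun (Comod.coassoc (k := K) (A := C) (V := V)) (j w)
    simpa using h
  counit_comp := by
    apply LinearMap.ext
    intro w
    apply rTensor_injective j hj K
    simp only [LinearMap.coe_comp, Function.comp_apply]
    rw [aux4, rTensor_pullCoact]
    have h := LinearMap.congr_fun (Comod.counit_comp (k := K) (A := C) (V := V)) (j w)
    simpa using h

end pull

end Groth.Agent.Helper7.EqZMT
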