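import Mathlib
import Groth.Agent.Helper7.AugDer

set_option linter.style.haveILetI false
set_option linter.unusedSectionVars false
set_option autoImplicit false

universe u v

namespace Groth.Agent.Helper7.HopfGr

open TensorProduct Groth.Agent.Helper7.UnitSm

section deriv

variable {k : Type u} {A : Type v} [Field k] [CommRing A] [Bialgebra k A]

/-- the counit as an algebra map -/
noncomputable abbrev eps : A →ₐ[k] k := Bialgebra.counitAlgHom k A

/-- an `ε`-derivation: a functional with `∂(ab) = ε(a)∂(b) + ε(b)∂(a)` -/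
def IsEpsDer (d : A →ₗ[k] k) : Prop :=
  ∀ a b : A, d (a * b) = eps (k := k) a * d b + eps (k := k) b * d a

/-- the invariant operator `(id ⊗ ∂) ∘ Δ` -/
noncomputable def invOp (d : A →ₗ[k] k) : A →ₗ[k] A :=
  (TensorProduct.rid k A).toLinearMap ∘ₗ (LinearMap.lTensor A d) ∘ₗ Coalgebra.comul

theorem invOp_apply (d : A →ₗ[k] k) (a : A) :
    invOp d a = TensorProduct.rid k A (LinearMap.lTensor A d (Coalgebra.comul a)) := rfl

/-- `(id ⊗ ∂)` on `A ⊗ A` -/
noncomputable def idTens (d : A →ₗ[k] k) : A ⊗[k] A →ₗ[k] A :=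
  (TensorProduct.rid k A).toLinearMap ∘ₗ (LinearMap.lTensor A d)

theorem idTens_tmul (d : A →ₗ[k] k) (a b : A) : idTens d (a ⊗ₜ[k] b) = d b • a := by
  simp [idTens]

theorem idTens_mul (d : A →ₗ[k] k) (hd : IsEpsDer d) (u v : A ⊗[k] A) :
    idTens d (u * v) =
      idTens (eps (k := k) (A := A)).toLinearMap u * idTens d v +
        idTens (eps (k := k) (A := A)).toLinearMap v * idTens d u := by
  induction u using TensorProduct.induction_on with
  | zero => simp
  | add u₁ u₂ h₁ h₂ => rw [add_mul, map_add, h₁, h₂, map_add, map_add]; ring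
  | tmul a b =>
    induction v using TensorProduct.induction_on with
    | zero => simp
    | add v₁ v₂ h₁ h₂ => rw [mul_add, map_add, h₁, h₂, map_add, map_add]; ring
    | tmul a' b' =>
      rw [Algebra.TensorProduct.tmul_mul_tmul, idTens_tmul, idTens_tmul, idTens_tmul, idTens_tmul,
        idTens_tmul, hd b b']
      simp only [AlgHom.toLinearMap_apply, Algebra.smul_def, map_add, map_mul]
      ring

theorem idTens_eps_comul (a : A) :
    idTens (eps (k := k) (A := A)).toLinearMap (Coalgebra.comul a) = a := by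
  have h := Coalgebra.lTensor_counit_comul (R := k) a
  unfold idTens
  rw [LinearMap.comp_apply]
  have : (eps (k := k) (A := A)).toLinearMap = Coalgebra.counit := rfl
  rw [this, h]
  simp

theorem invOp_mul (d : A →ₗ[k] k) (hd : IsEpsDer d) (a b : A) :
    invOp d (a * b) = a * invOp d b + b * invOp d a := by
  have h1 : invOp d (a * b) = idTens d (Coalgebra.comul a * Coalgebra.comul b) := by
    change idTens d (Coalgebra.comul (a * b)) = _
    rw [Bialgebra.comul_mul]
  rw [h1, idTens_mul d hd, idTens_eps_comul, idTens_eps_comul]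
  rfl

theorem eps_invOp (d : A →ₗ[k] k) (a : A) : eps (k := k) (invOp d a) = d a := by
  have key : ∀ u : A ⊗[k] A, eps (k := k) (idTens d u) =
      d (TensorProduct.lid k A (LinearMap.rTensor A (eps (k := k) (A := A)).toLinearMap u)) := by
    intro u
    induction u using TensorProduct.induction_on with
    | zero => simp
    | add u₁ u₂ h₁ h₂ => simp only [map_add, h₁, h₂]
    | tmul a b =>
      rw [idTens_tmul, LinearMap.rTensor_tmul, TensorProduct.lid_tmul, map_smul, map_smul]
      simp [mul_comm]
  change eps (k := k) (idTens d (Coalgebra.comul a)) = d a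
  rw [key]
  have : (eps (k := k) (A := A)).toLinearMap = Coalgebra.counit := rfl
  rw [this, Coalgebra.rTensor_counit_comul]
  simp

/-- `invOp d` as a derivation -/
noncomputable def invDer (d : A →ₗ[k] k) (hd : IsEpsDer d) : Derivation k A A :=
  Derivation.mk' (invOp d) (fun a b => by
    rw [invOp_mul d hd, smul_eq_mul, smul_eq_mul])

theorem invDer_apply (d : A →ₗ[k] k) (hd : IsEpsDer d) (a : A) : invDer d hd a = invOp d a := rfl

end deriv

section general

variable {k : Type u} {A : Type v} [CommRing k] [CommRing A] [Algebra k A]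

theorem deriv_pow_mem (D : Derivation k A A) (𝔞 : Ideal A) (m : ℕ) (a : A)
    (ha : a ∈ 𝔞 ^ (m + 1)) : D a ∈ 𝔞 ^ m := by
  induction m generalizing a with
  | zero => rw [pow_zero, Ideal.one_eq_top]; trivial
  | succ m ih =>
    rw [pow_succ'] at ha
    refine Submodule.mul_induction_on ha ?_ ?_
    · intro b hb c hc
      rw [Derivation.leibniz, smul_eq_mul, smul_eq_mul, pow_succ']
      refine Ideal.add_mem _ (Ideal.mul_mem_mul hb (ih c hc)) ?_
      rw [← pow_succ']
      exact Ideal.mul_mem_right _ _ hc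
    · intro x y hx hy
      rw [map_add]
      exact Ideal.add_mem _ hx hy

theorem chain_rule {r : ℕ} (D : Derivation k A A) (x : Fin r → A) (f : MvPolynomial (Fin r) k) :
    D (MvPolynomial.aeval x f) =
      ∑ j, MvPolynomial.aeval x (MvPolynomial.pderiv j f) * D (x j) := by
  induction f using MvPolynomial.induction_on with
  | C c =>
    simp
  | add f g hf hg =>
    simp only [map_add, hf, hg, add_mul, Finset.sum_add_distrib]
  | mul_X f l hf =>
    classical
    rw [map_mul, MvPolynomial.aeval_X, Derivation.leibniz, hf, smul_eq_mul, smul_eq_mul]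
    have h1 : ∀ j : Fin r, MvPolynomial.aeval x (MvPolynomial.pderiv j (f * MvPolynomial.X l)) =
        MvPolynomial.aeval x f * (if l = j then 1 else 0) +
          x l * MvPolynomial.aeval x (MvPolynomial.pderiv j f) := by
      intro j
      rw [Derivation.leibniz, MvPolynomial.pderiv_X, smul_eq_mul, smul_eq_mul, map_add, map_mul,
        map_mul, MvPolynomial.aeval_X]
      congr 2
      rw [Pi.single_apply]
      split_ifs with h <;> simp
    simp only [h1, add_mul, Finset.sum_add_distrib, Finset.mul_sum]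
    congr 1
    · rw [Finset.sum_eq_single l]
      · simp
      · intro j _ hj
        rw [if_neg (Ne.symm hj)]
        simp
      · intro h; exact absurd (Finset.mem_univ l) h
    · refine Finset.sum_congr rfl fun j _ => ?_
      ring

theorem aeval_mem_pow {r : ℕ} (x : Fin r → A) (𝔞 : Ideal A) (hx : ∀ i, x i ∈ 𝔞) (m : ℕ)
    (f : MvPolynomial (Fin r) k) (hf : f.IsHomogeneous m) : MvPolynomial.aeval x f ∈ 𝔞 ^ m := by
  have h1 : MvPolynomial.aeval x f =
      MvPolynomial.eval x (MvPolynomial.map (algebraMap k A) f) := by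
    rw [MvPolynomial.aeval_def, MvPolynomial.eval₂_eq_eval_map]
  have h2 : MvPolynomial.aeval x f ∈ Ideal.span (Set.range x) ^ m := by
    rw [Ideal.mem_span_pow_iff_exists_isHomogeneous]
    exact ⟨MvPolynomial.map (algebraMap k A) f, hf.map _, h1.symm⟩
  refine Ideal.pow_right_mono ?_ m h2
  rw [Ideal.span_le]
  rintro _ ⟨i, rfl⟩
  exact hx i

end general

section main

variable {k : Type u} {A : Type v} [Field k] [CommRing A] [Bialgebra k A] {r : ℕ}
  (b : Module.Basis (Fin r) k (I (eps (k := k) (A := A))).Cotangent) (x : Fin r → A)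
  (hxI : ∀ i, x i ∈ I (eps (k := k) (A := A)))
  (hxb : ∀ i, (I (eps (k := k) (A := A))).toCotangent ⟨x i, hxI i⟩ = b i)

/-- the coordinate functionals -/
noncomputable def dd (i : Fin r) : A →ₗ[k] k :=
  (b.coord i) ∘ₗ (der (eps (k := k) (A := A))).toLinearMap

theorem dd_isEpsDer (i : Fin r) : IsEpsDer (dd b i) := by
  intro a c
  unfold dd
  simp only [LinearMap.comp_apply, Derivation.coeFn_coe, Derivation.leibniz]
  rw [smul_eq_eps_smul', smul_eq_eps_smul' _ c, map_add, map_smul, map_smul, smul_eq_mul,
    smul_eq_mul]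

include hxb in
theorem dd_x (i j : Fin r) : dd b i (x j) = if i = j then 1 else 0 := by
  unfold dd
  rw [LinearMap.comp_apply]
  change b.coord i (der (eps (k := k) (A := A)) (x j)) = _
  rw [der_apply_of_mem _ _ (hxI j), hxb, Module.Basis.coord_apply, Module.Basis.repr_self,
    Finsupp.single_apply]
  simp only [eq_comm]

include hxb in
theorem invDer_x_sub_mem (i j : Fin r) :
    invDer (dd b i) (dd_isEpsDer b i) (x j) - (if i = j then (1 : A) else 0) ∈
      I (eps (k := k) (A := A)) := by
  rw [RingHom.mem_ker, map_sub]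
  change eps (k := k) (invOp (dd b i) (x j)) - _ = 0
  rw [eps_invOp, dd_x b x hxI hxb]
  split_ifs <;> simp

include hxb in
theorem eq_zero_of_aeval_mem (m : ℕ) (hm : (m.factorial : k) ≠ 0)
    (f : MvPolynomial (Fin r) k) (hf : f.IsHomogeneous m)
    (hmem : MvPolynomial.aeval x f ∈ I (eps (k := k) (A := A)) ^ (m + 1)) : f = 0 := by
  induction m generalizing f with
  | zero =>
    have hC : f = MvPolynomial.C (MvPolynomial.coeff 0 f) := by
      rw [← MvPolynomial.totalDegree_eq_zero_iff_eq_C]
      exact Nat.le_zero.mp hf.totalDegree_le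
    rw [hC, MvPolynomial.aeval_C, zero_add, pow_one, RingHom.mem_ker] at hmem
    have h0 : MvPolynomial.coeff 0 f = 0 := by
      have := hmem
      change eps (k := k) (algebraMap k A (MvPolynomial.coeff 0 f)) = 0 at this
      rwa [AlgHom.commutes, Algebra.algebraMap_self_apply] at this
    rw [hC, h0, map_zero]
  | succ m ih =>
    have hm1 : ((m + 1 : ℕ) : k) ≠ 0 := by
      intro h
      apply hm
      rw [Nat.factorial_succ, Nat.cast_mul, h, zero_mul]
    have hm' : (m.factorial : k) ≠ 0 := by
      intro h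
      apply hm
      rw [Nat.factorial_succ, Nat.cast_mul, h, mul_zero]
    have hpd : ∀ i, MvPolynomial.pderiv i f = 0 := by
      intro i
      apply ih hm' _ (hf.pderiv)
      have h1 := deriv_pow_mem (invDer (dd b i) (dd_isEpsDer b i)) _ (m + 1) _ hmem
      rw [chain_rule] at h1
      have h2 : ∑ j, MvPolynomial.aeval x (MvPolynomial.pderiv j f) *
          invDer (dd b i) (dd_isEpsDer b i) (x j) =
          MvPolynomial.aeval x (MvPolynomial.pderiv i f) +
          ∑ j, MvPolynomial.aeval x (MvPolynomial.pderiv j f) *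
            (invDer (dd b i) (dd_isEpsDer b i) (x j) - (if i = j then (1 : A) else 0)) := by
        simp only [mul_sub, Finset.sum_sub_distrib]
        rw [add_sub_assoc', add_comm, add_sub_assoc, ← sub_eq_zero]
        simp
      rw [h2] at h1
      have h3 : ∑ j, MvPolynomial.aeval x (MvPolynomial.pderiv j f) *
            (invDer (dd b i) (dd_isEpsDer b i) (x j) - (if i = j then (1 : A) else 0)) ∈
          I (eps (k := k) (A := A)) ^ (m + 1) := by
        refine Ideal.sum_mem _ fun j _ => ?_
        rw [pow_succ]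
        exact Ideal.mul_mem_mul (aeval_mem_pow x _ hxI m _ hf.pderiv)
          (invDer_x_sub_mem b x hxI hxb i j)
      exact (Ideal.add_mem_iff_left _ h3).mp h1
    have heuler := hf.sum_X_mul_pderiv
    simp only [hpd, mul_zero, Finset.sum_const_zero] at heuler
    have : ((m + 1 : ℕ) : k) • f = 0 := by
      rw [Nat.cast_smul_eq_nsmul]; exact heuler.symm
    exact (smul_eq_zero.mp this).resolve_left hm1

end main

section count

variable (k : Type u) [Field k] (r n : ℕ)

theorem finrank_homogeneous :
    Module.finrank k (MvPolynomial.homogeneousSubmodule (Fin r) k n) = (r + n - 1).choose n := by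
  rw [MvPolynomial.homogeneousSubmodule_eq_finsupp_supported]
  rw [(AddMonoidAlgebra.supportedEquivFinsupp (R := k) (S := k) {d : Fin r →₀ ℕ | d.degree = n}).finrank_eq,
    Module.finrank_eq_nat_card_basis (Finsupp.basisSingleOne)]
  have e : ↥{d : Fin r →₀ ℕ | d.degree = n} ≃
      ↥((Finset.univ : Finset (Fin r)).finsuppAntidiag n) :=
    Equiv.subtypeEquivRight (fun d => by
      rw [Set.mem_ofPred_eq, Finset.mem_finsuppAntidiag, Finsupp.degree_eq_sum]
      simp)
  rw [Nat.card_congr e, Nat.card_eq_fintype_card, Fintype.card_coe,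
    Finset.card_finsuppAntidiag_nat_eq_choose, Finset.card_univ, Fintype.card_fin]

instance finite_homogeneous :
    Module.Finite k (MvPolynomial.homogeneousSubmodule (Fin r) k n) := by
  have e : ↥{d : Fin r →₀ ℕ | d.degree = n} ≃
      ↥((Finset.univ : Finset (Fin r)).finsuppAntidiag n) :=
    Equiv.subtypeEquivRight (fun d => by
      rw [Set.mem_ofPred_eq, Finset.mem_finsuppAntidiag, Finsupp.degree_eq_sum]
      simp)
  haveI : Finite ↥{d : Fin r →₀ ℕ | d.degree = n} := Finite.of_equiv _ e.symm
  rw [MvPolynomial.homogeneousSubmodule_eq_finsupp_supported]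
  exact Module.Finite.equiv (AddMonoidAlgebra.supportedEquivFinsupp (R := k) (S := k) {d : Fin r →₀ ℕ | d.degree = n}).symm

end count

section span

variable {k : Type u} {A : Type v} [Field k] [CommRing A] [Bialgebra k A] {r : ℕ}
  (b : Module.Basis (Fin r) k (I (eps (k := k) (A := A))).Cotangent) (x : Fin r → A)
  (hxI : ∀ i, x i ∈ I (eps (k := k) (A := A)))
  (hxb : ∀ i, (I (eps (k := k) (A := A))).toCotangent ⟨x i, hxI i⟩ = b i)

include hxb in
theorem I_le_sup : I (eps (k := k) (A := A)) ≤
    Ideal.span (Set.range x) ⊔ I (eps (k := k) (A := A)) ^ 2 := by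
  intro y hy
  have h1 := b.sum_repr ((I (eps (k := k) (A := A))).toCotangent ⟨y, hy⟩)
  have h2 : ∑ i, b.repr ((I (eps (k := k) (A := A))).toCotangent ⟨y, hy⟩) i • b i =
      (I (eps (k := k) (A := A))).toCotangent
        (∑ i, b.repr ((I (eps (k := k) (A := A))).toCotangent ⟨y, hy⟩) i • ⟨x i, hxI i⟩) := by
    rw [map_sum]
    refine Finset.sum_congr rfl fun i _ => ?_
    rw [← hxb, ← algebraMap_smul A, ← map_smul, algebraMap_smul]
  rw [h2, Ideal.toCotangent_eq] at h1
  have h3 : y = ((∑ i, b.repr ((I (eps (k := k) (A := A))).toCotangent ⟨y, hy⟩) i •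
      (⟨x i, hxI i⟩ : I (eps (k := k) (A := A))) : I (eps (k := k) (A := A))) : A) +
      -((((∑ i, b.repr ((I (eps (k := k) (A := A))).toCotangent ⟨y, hy⟩) i •
      (⟨x i, hxI i⟩ : I (eps (k := k) (A := A))) : I (eps (k := k) (A := A))) : A)) - y) := by
    ring
  rw [h3]
  refine Submodule.add_mem _ (Submodule.mem_sup_left ?_)
    (Submodule.mem_sup_right (Ideal.neg_mem_iff _ |>.mpr h1))
  rw [AddSubmonoidClass.coe_finsetSum]
  refine Ideal.sum_mem _ fun i _ => ?_
  have : ((b.repr ((I (eps (k := k) (A := A))).toCotangent ⟨y, hy⟩) i •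
      (⟨x i, hxI i⟩ : I (eps (k := k) (A := A))) : I (eps (k := k) (A := A))) : A) =
      algebraMap k A (b.repr ((I (eps (k := k) (A := A))).toCotangent ⟨y, hy⟩) i) * x i := by
    change b.repr ((I (eps (k := k) (A := A))).toCotangent ⟨y, hy⟩) i • x i = _
    rw [Algebra.smul_def]
  rw [this]
  exact Ideal.mul_mem_left _ _ (Ideal.subset_span ⟨i, rfl⟩)

include hxb in
theorem pow_le_sup (n : ℕ) : I (eps (k := k) (A := A)) ^ n ≤
    Ideal.span (Set.range x) ^ n ⊔ I (eps (k := k) (A := A)) ^ (n + 1) := by
  have hX : Ideal.span (Set.range x) ≤ I (eps (k := k) (A := A)) := by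
    rw [Ideal.span_le]; rintro _ ⟨i, rfl⟩; exact hxI i
  induction n with
  | zero => rw [pow_zero, pow_zero]; exact le_sup_left
  | succ n ih =>
    calc I (eps (k := k) (A := A)) ^ (n + 1)
        = I (eps (k := k) (A := A)) * I (eps (k := k) (A := A)) ^ n := pow_succ' _ _
      _ ≤ (Ideal.span (Set.range x) ⊔ I (eps (k := k) (A := A)) ^ 2) *
            (Ideal.span (Set.range x) ^ n ⊔ I (eps (k := k) (A := A)) ^ (n + 1)) :=
          Ideal.mul_mono (I_le_sup b x hxI hxb) ih
      _ ≤ Ideal.span (Set.range x) ^ (n + 1) ⊔ I (eps (k := k) (A := A)) ^ (n + 1 + 1) := by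
          rw [Ideal.sup_mul, Ideal.mul_sup, Ideal.mul_sup]
          refine sup_le (sup_le ?_ ?_) (sup_le ?_ ?_)
          · rw [← pow_succ']; exact le_sup_left
          · refine le_trans (Ideal.mul_mono_left hX) ?_
            rw [← pow_succ']; exact le_sup_right
          · refine le_trans (Ideal.mul_mono_right (Ideal.pow_right_mono hX n)) ?_
            rw [← pow_add]
            have : 2 + n = n + 1 + 1 := by ring
            rw [this]; exact le_sup_right
          · rw [← pow_add]
            exact le_trans (Ideal.pow_le_pow_right (by omega)) le_sup_right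

include hxb in
theorem exists_poly (n : ℕ) (y : A) (hy : y ∈ I (eps (k := k) (A := A)) ^ n) :
    ∃ f : MvPolynomial (Fin r) k, f.IsHomogeneous n ∧
      y - MvPolynomial.aeval x f ∈ I (eps (k := k) (A := A)) ^ (n + 1) := by
  obtain ⟨y₁, hy₁, y₂, hy₂, rfl⟩ := Submodule.mem_sup.mp (pow_le_sup b x hxI hxb n hy)
  rw [Ideal.mem_span_pow_iff_exists_isHomogeneous] at hy₁
  obtain ⟨p, hp, rfl⟩ := hy₁
  refine ⟨MvPolynomial.map (eps (k := k) (A := A) : A →+* k) p, hp.map _, ?_⟩
  have h1 : MvPolynomial.aeval x (MvPolynomial.map (eps (k := k) (A := A) : A →+* k) p) =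
      MvPolynomial.eval₂ ((algebraMap k A).comp (eps (k := k) (A := A) : A →+* k)) x p := by
    rw [MvPolynomial.aeval_def, MvPolynomial.eval₂_map]
  have h2 : MvPolynomial.eval x p - MvPolynomial.eval₂
      ((algebraMap k A).comp (eps (k := k) (A := A) : A →+* k)) x p ∈
      I (eps (k := k) (A := A)) ^ (n + 1) := by
    rw [MvPolynomial.eval_eq, MvPolynomial.eval₂_eq, ← Finset.sum_sub_distrib]
    refine Ideal.sum_mem _ fun d hd => ?_
    rw [← sub_mul, pow_succ']
    refine Ideal.mul_mem_mul ?_ ?_
    · exact sub_mem_I (eps (k := k) (A := A)) _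
    · have hd' := hp (MvPolynomial.mem_support_iff.mp hd)
      have hmono : (MvPolynomial.monomial d (1 : k)).IsHomogeneous n :=
        MvPolynomial.isWeightedHomogeneous_monomial 1 d 1 hd'
      have := aeval_mem_pow x _ hxI n _ hmono
      rwa [MvPolynomial.aeval_monomial, map_one, one_mul, Finsupp.prod] at this
  rw [h1, add_sub_right_comm]
  exact Ideal.add_mem _ h2 hy₂

end span

section final

variable {k : Type u} {A : Type v} [Field k] [CommRing A] [Bialgebra k A]

theorem finite_cotangent [Algebra.FiniteType k A] :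
    Module.Finite k (I (eps (k := k) (A := A))).Cotangent := by
  haveI : IsNoetherianRing A := Algebra.FiniteType.isNoetherianRing k A
  haveI : IsNoetherian A (I (eps (k := k) (A := A))) := isNoetherian_submodule'  _
  haveI : Module.Finite A (I (eps (k := k) (A := A))) := Module.IsNoetherian.finite _ _
  haveI : Module.Finite A (I (eps (k := k) (A := A))).Cotangent :=
    Module.Finite.of_surjective (I (eps (k := k) (A := A))).toCotangent
      (Ideal.toCotangent_surjective _)
  obtain ⟨s, hs⟩ := (Module.Finite.fg_top :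
    (⊤ : Submodule A (I (eps (k := k) (A := A))).Cotangent).FG)
  refine ⟨⟨s, ?_⟩⟩
  rw [eq_top_iff]
  intro m _
  have hm : m ∈ Submodule.span A (s : Set (I (eps (k := k) (A := A))).Cotangent) := by
    rw [hs]; trivial
  refine Submodule.span_induction ?_ ?_ ?_ ?_ hm
  · intro x hx; exact Submodule.subset_span hx
  · exact Submodule.zero_mem _
  · intro x y _ _ hx hy; exact Submodule.add_mem _ hx hy
  · intro a x _ hx
    rw [smul_eq_eps_smul']
    exact Submodule.smul_mem _ _ hx

variable {r : ℕ}
  (b : Module.Basis (Fin r) k (I (eps (k := k) (A := A))).Cotangent) (x : Fin r → A)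
  (hxI : ∀ i, x i ∈ I (eps (k := k) (A := A)))
  (hxb : ∀ i, (I (eps (k := k) (A := A))).toCotangent ⟨x i, hxI i⟩ = b i)

/-- the map from degree `n` forms to `A ⧸ I^(n+1)` -/
noncomputable def Psi (n : ℕ) : MvPolynomial.homogeneousSubmodule (Fin r) k n →ₗ[k]
    A ⧸ I (eps (k := k) (A := A)) ^ (n + 1) :=
  (Ideal.Quotient.mkₐ k (I (eps (k := k) (A := A)) ^ (n + 1))).toLinearMap ∘ₗ
    (MvPolynomial.aeval x).toLinearMap ∘ₗ (MvPolynomial.homogeneousSubmodule (Fin r) k n).subtype

theorem Psi_apply (n : ℕ) (f : MvPolynomial.homogeneousSubmodule (Fin r) k n) :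
    Psi x n f = Ideal.Quotient.mk (I (eps (k := k) (A := A)) ^ (n + 1))
      (MvPolynomial.aeval x (f : MvPolynomial (Fin r) k)) := rfl

/-- the transition map -/
noncomputable def Pi (n : ℕ) : (A ⧸ I (eps (k := k) (A := A)) ^ (n + 1)) →ₗ[k]
    A ⧸ I (eps (k := k) (A := A)) ^ n :=
  (Ideal.Quotient.factorₐ k (Ideal.pow_le_pow_right (Nat.le_succ n))).toLinearMap

theorem Pi_mk (n : ℕ) (a : A) :
    Pi (k := k) (A := A) n (Ideal.Quotient.mk _ a) = Ideal.Quotient.mk _ a := rfl

theorem Pi_surjective (n : ℕ) : Function.Surjective (Pi (k := k) (A := A) n) := by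
  intro z
  obtain ⟨a, rfl⟩ := Ideal.Quotient.mk_surjective z
  exact ⟨Ideal.Quotient.mk _ a, rfl⟩

include hxb in
theorem range_Psi (n : ℕ) : LinearMap.range (Psi x n) = LinearMap.ker (Pi (k := k) (A := A) n) := by
  apply le_antisymm
  · rintro _ ⟨f, rfl⟩
    rw [LinearMap.mem_ker, Psi_apply, Pi_mk, Ideal.Quotient.eq_zero_iff_mem]
    exact aeval_mem_pow x _ hxI n _ ((MvPolynomial.mem_homogeneousSubmodule _ _).mp f.2)
  · intro z hz
    obtain ⟨y, rfl⟩ := Ideal.Quotient.mk_surjective z
    rw [LinearMap.mem_ker, Pi_mk, Ideal.Quotient.eq_zero_iff_mem] at hz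
    obtain ⟨f, hf, hmem⟩ := exists_poly b x hxI hxb n y hz
    refine ⟨⟨f, (MvPolynomial.mem_homogeneousSubmodule _ _).mpr hf⟩, ?_⟩
    rw [Psi_apply]
    symm
    rw [Ideal.Quotient.eq]
    exact hmem

include hxb in
theorem Psi_injective (n : ℕ) (hn : (n.factorial : k) ≠ 0) : Function.Injective (Psi (k := k) x n) := by
  rw [← LinearMap.ker_eq_bot, LinearMap.ker_eq_bot']
  intro f hf
  rw [Psi_apply, Ideal.Quotient.eq_zero_iff_mem] at hf
  have := eq_zero_of_aeval_mem b x hxI hxb n hn f
    ((MvPolynomial.mem_homogeneousSubmodule _ _).mp f.2) hf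
  exact Subtype.ext this

include hxb in
theorem finite_quot (n : ℕ) : Module.Finite k (A ⧸ I (eps (k := k) (A := A)) ^ n) := by
  induction n with
  | zero =>
    haveI : Subsingleton (A ⧸ I (eps (k := k) (A := A)) ^ 0) := by
      rw [pow_zero, Ideal.one_eq_top]
      exact Ideal.Quotient.subsingleton_iff.mpr rfl
    infer_instance
  | succ n ih =>
    haveI := ih
    haveI : Module.Finite k (LinearMap.ker (Pi (k := k) (A := A) n)) := by
      rw [← range_Psi b x hxI hxb n]
      infer_instance
    haveI : Module.Finite k ((A ⧸ I (eps (k := k) (A := A)) ^ (n + 1)) ⧸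
        LinearMap.ker (Pi (k := k) (A := A) n)) :=
      Module.Finite.equiv ((Pi (k := k) (A := A) n).quotKerEquivOfSurjective (Pi_surjective n)).symm
    exact Module.Finite.of_submodule_quotient (LinearMap.ker (Pi (k := k) (A := A) n))

include hxb in
theorem finrank_step (n : ℕ) (hn : (n.factorial : k) ≠ 0) :
    Module.finrank k (A ⧸ I (eps (k := k) (A := A)) ^ (n + 1)) =
      Module.finrank k (A ⧸ I (eps (k := k) (A := A)) ^ n) + (r + n - 1).choose n := by
  haveI := finite_quot b x hxI hxb (n + 1)
  haveI := finite_quot b x hxI hxb n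
  have h1 := LinearMap.finrank_range_add_finrank_ker (Pi (k := k) (A := A) n)
  rw [LinearMap.range_eq_top.mpr (Pi_surjective n), finrank_top, ← range_Psi b x hxI hxb n,
    LinearMap.finrank_range_of_inj (Psi_injective b x hxI hxb n hn), finrank_homogeneous] at h1
  exact h1.symm

end final

theorem main (k : Type u) (A : Type v) [Field k] [CommRing A] [Bialgebra k A]
    [Algebra.FiniteType k A] (n : ℕ) (hn : (n.factorial : k) ≠ 0) :
    Module.finrank k (A ⧸ RingHom.ker (Bialgebra.counitAlgHom k A) ^ (n + 1)) =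
      Module.finrank k (A ⧸ RingHom.ker (Bialgebra.counitAlgHom k A) ^ n) +
        Nat.choose (Module.finrank k (RingHom.ker (Bialgebra.counitAlgHom k A)).Cotangent + n - 1)
          n := by
  haveI := finite_cotangent (k := k) (A := A)
  let b := Module.finBasis k (I (eps (k := k) (A := A))).Cotangent
  have hsurj := Ideal.toCotangent_surjective (I (eps (k := k) (A := A)))
  choose y hy using fun i => hsurj (b i)
  exact finrank_step b (fun i => (y i : A)) (fun i => (y i).2) (fun i => hy i) n hn

end Groth.Agent.Helper7.HopfGr
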