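import Mathlib
import Groth.Agent.Helper7.RegNil
import Groth.Agent.Lead.RegLocal

/-!
# Translation automorphisms of a Hopf algebra; reducedness criterion
-/

set_option linter.style.haveILetI false
set_option linter.unusedSectionVars false
set_option autoImplicit false

universe u v

namespace Groth.Agent.Helper7.HopfRed

open WithConv

section transl

variable {k : Type u} {A : Type v} [Field k] [CommRing A] [HopfAlgebra k A]

/-- a `k`-point viewed as an `A`-point -/
noncomputable def hat (g : A →ₐ[k] k) : WithConv (A →ₐ[k] A) :=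
  toConv ((Algebra.ofId k A).comp g)

/-- right translation by a point -/
noncomputable def transl (w : WithConv (A →ₐ[k] A)) : A →ₐ[k] A :=
  (toConv (AlgHom.id k A) * w).ofConv

theorem comp_hat (φ : A →ₐ[k] A) (g : A →ₐ[k] k) : φ.comp (hat g).ofConv = (hat g).ofConv := by
  unfold hat
  rw [ofConv_toConv, ← AlgHom.comp_assoc, Algebra.comp_ofId]

theorem comp_hat_inv (φ : A →ₐ[k] A) (g : A →ₐ[k] k) :
    φ.comp ((hat g)⁻¹).ofConv = ((hat g)⁻¹).ofConv := by
  change φ.comp ((hat g).ofConv.comp (HopfAlgebra.antipodeAlgHom k A)) =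
    (hat g).ofConv.comp (HopfAlgebra.antipodeAlgHom k A)
  rw [← AlgHom.comp_assoc, comp_hat]

theorem comp_transl (φ : A →ₐ[k] A) (w : WithConv (A →ₐ[k] A))
    (hw : φ.comp w.ofConv = w.ofConv) :
    φ.comp (transl w) = (toConv φ * w).ofConv := by
  unfold transl
  rw [AlgHom.comp_convMul_distrib, ofConv_toConv, AlgHom.comp_id, hw, toConv_ofConv]

theorem transl_comp_inv (g : A →ₐ[k] k) :
    (transl (hat g)).comp (transl (hat g)⁻¹) = AlgHom.id k A := by
  rw [comp_transl _ _ (comp_hat_inv _ g)]
  unfold transl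
  rw [toConv_ofConv, mul_assoc, mul_inv_cancel, mul_one, ofConv_toConv]

theorem transl_inv_comp (g : A →ₐ[k] k) :
    (transl (hat g)⁻¹).comp (transl (hat g)) = AlgHom.id k A := by
  rw [comp_transl _ _ (comp_hat _ g)]
  unfold transl
  rw [toConv_ofConv, mul_assoc, inv_mul_cancel, mul_one, ofConv_toConv]

/-- the translation automorphism attached to a point -/
noncomputable def translEquiv (g : A →ₐ[k] k) : A ≃ₐ[k] A :=
  AlgEquiv.ofAlgHom (transl (hat g)) (transl (hat g)⁻¹) (transl_comp_inv g) (transl_inv_comp g)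

theorem counit_comp_transl (g : A →ₐ[k] k) :
    (Bialgebra.counitAlgHom k A).comp (transl (hat g)) = g := by
  unfold transl
  rw [AlgHom.comp_convMul_distrib, ofConv_toConv, AlgHom.comp_id]
  have h1 : toConv (Bialgebra.counitAlgHom k A) = (1 : WithConv (A →ₐ[k] k)) := by
    rw [AlgHom.convOne_def]
    congr 1
  have h2 : (Bialgebra.counitAlgHom k A).comp (hat g).ofConv = g := by
    unfold hat
    rw [ofConv_toConv, ← AlgHom.comp_assoc, Algebra.comp_ofId]
    ext a
    simp
  rw [h1, h2, one_mul, ofConv_toConv]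

theorem counit_translEquiv (g : A →ₐ[k] k) (a : A) :
    Bialgebra.counitAlgHom k A (translEquiv g a) = g a := by
  have := congrArg (fun f => f a) (counit_comp_transl g)
  exact this

end transl

section main

variable (k : Type u) (A : Type v) [Field k] [IsAlgClosed k] [CommRing A] [HopfAlgebra k A]
  [Algebra.FiniteType k A]

/-- a `k`-point with prescribed maximal kernel -/
theorem exists_algHom_of_isMaximal (m : Ideal A) [hm : m.IsMaximal] :
    ∃ g : A →ₐ[k] k, ∀ a, g a = 0 ↔ a ∈ m := by
  haveI : IsJacobsonRing A := isJacobsonRing_of_finiteType (A := k) (B := A)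
  letI : Field (A ⧸ m) := Ideal.Quotient.field m
  haveI : Algebra.FiniteType k (A ⧸ m) :=
    Algebra.FiniteType.of_surjective (Ideal.Quotient.mkₐ k m) (Ideal.Quotient.mkₐ_surjective k m)
  haveI : Module.Finite k (A ⧸ m) := finite_of_finite_type_of_isJacobsonRing k (A ⧸ m)
  have hbij : Function.Bijective (algebraMap k (A ⧸ m)) :=
    IsAlgClosed.algebraMap_bijective_of_isIntegral
  let e : k ≃ₐ[k] (A ⧸ m) := AlgEquiv.ofBijective (Algebra.ofId k (A ⧸ m)) hbij
  refine ⟨e.symm.toAlgHom.comp (Ideal.Quotient.mkₐ k m), fun a => ?_⟩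
  change e.symm (Ideal.Quotient.mk m a) = 0 ↔ _
  rw [map_eq_zero_iff _ e.symm.injective, Ideal.Quotient.eq_zero_iff_mem]

/-- for every maximal ideal there is an automorphism pulling the augmentation ideal back to it -/
theorem exists_equiv (m : Ideal A) [hm : m.IsMaximal] :
    ∃ T : A ≃ₐ[k] A, ∀ a, T a ∈ RingHom.ker (Bialgebra.counitAlgHom k A) ↔ a ∈ m := by
  obtain ⟨g, hg⟩ := exists_algHom_of_isMaximal k A m
  refine ⟨translEquiv g, fun a => ?_⟩
  rw [RingHom.mem_ker, counit_translEquiv, hg]

theorem nilradical_le_sq (h : nilradical A ≤ RingHom.ker (Bialgebra.counitAlgHom k A) ^ 2)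
    (m : Ideal A) [hm : m.IsMaximal] : nilradical A ≤ m ^ 2 := by
  obtain ⟨T, hT⟩ := exists_equiv k A m
  have hcomap : (RingHom.ker (Bialgebra.counitAlgHom k A)).comap (T : A →+* A) = m := by
    ext a
    rw [Ideal.mem_comap]
    exact hT a
  intro x hx
  have h1 : T x ∈ nilradical A := by
    rw [mem_nilradical] at hx ⊢
    exact hx.map T
  have h2 := h h1
  have h3 : x ∈ (RingHom.ker (Bialgebra.counitAlgHom k A) ^ 2).comap (T : A →+* A) := h2
  have h4 : (RingHom.ker (Bialgebra.counitAlgHom k A) ^ 2).comap (T : A →+* A) = m ^ 2 := by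
    have e1 : ∀ J : Ideal A, J.comap (T : A →+* A) = J.map ((T.symm : A ≃+* A) : A →+* A) := by
      intro J
      exact (Ideal.map_comap_of_equiv (T.symm : A ≃+* A)).symm
    rw [e1, Ideal.map_pow, ← e1, hcomap]
  rwa [h4] at h3

theorem main (h : nilradical A ≤ RingHom.ker (Bialgebra.counitAlgHom k A) ^ 2) : IsReduced A := by
  haveI : IsNoetherianRing A := Algebra.FiniteType.isNoetherianRing k A
  haveI : Nontrivial A := (Bialgebra.counitAlgHom k A).toRingHom.domain_nontrivial
  -- the reduction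
  set 𝔑 := nilradical A with h𝔑
  have hne : 𝔑 ≠ ⊤ := by
    intro htop
    have h1 : (⊥ : Ideal A).radical = ⊤ := htop
    rw [Ideal.radical_eq_top] at h1
    exact bot_ne_top h1
  haveI : Nontrivial (A ⧸ 𝔑) := Ideal.Quotient.nontrivial_iff.mpr hne
  haveI : IsReduced (A ⧸ 𝔑) := (Ideal.isRadical_iff_quotient_reduced 𝔑).mp (Ideal.radical_isRadical _)
  obtain ⟨mb, hmb, hreg⟩ := Groth.Agent.Helper7.RegNil.exists_isMaximal_regular k (A ⧸ 𝔑)
  set m₀ := mb.comap (Ideal.Quotient.mk 𝔑) with hm₀
  haveI hm₀max : m₀.IsMaximal := Ideal.comap_isMaximal_of_surjective _ Ideal.Quotient.mk_surjective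
  -- the local homomorphism
  let ρ : Localization.AtPrime m₀ →+* Localization.AtPrime mb :=
    Localization.localRingHom m₀ mb (Ideal.Quotient.mk 𝔑) rfl
  have hρ : Function.Surjective ρ :=
    RingHom.surjective_localRingHom_of_surjective (Ideal.Quotient.mk 𝔑)
      Ideal.Quotient.mk_surjective mb
  have hT : Submonoid.map (Ideal.Quotient.mk 𝔑) m₀.primeCompl = mb.primeCompl :=
    Submonoid.map_comap_eq_of_surjective Ideal.Quotient.mk_surjective mb.primeCompl
  have hker : RingHom.ker ρ = 𝔑.map (algebraMap A (Localization.AtPrime m₀)) := by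
    have := IsLocalization.ker_map (M := m₀.primeCompl) (T := mb.primeCompl)
      (S := Localization.AtPrime m₀) (Localization.AtPrime mb) (Ideal.Quotient.mk 𝔑) hT
    rw [Ideal.mk_ker] at this
    exact this
  have hk1 : RingHom.ker ρ ≤ nilradical (Localization.AtPrime m₀) := by
    rw [hker, Ideal.map_le_iff_le_comap]
    intro x hx
    rw [Ideal.mem_comap, mem_nilradical]
    exact (mem_nilradical.mp hx).map _
  have hk2 : RingHom.ker ρ ≤ IsLocalRing.maximalIdeal (Localization.AtPrime m₀) ^ 2 := by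
    rw [hker, ← Localization.AtPrime.map_eq_maximalIdeal, ← Ideal.map_pow]
    exact Ideal.map_mono (nilradical_le_sq k A h m₀)
  haveI : IsRegularLocalRing (Localization.AtPrime mb) := hreg
  haveI hR : IsRegularLocalRing (Localization.AtPrime m₀) :=
    Groth.Agent.Helper7.RegNil.isRegularLocalRing_of_surjective ρ hρ hk1 hk2
  haveI : IsDomain (Localization.AtPrime m₀) :=
    Groth.Agent.Lead.RegLocal.isDomain_of_isRegularLocalRing _
  have hzero : ∀ y ∈ 𝔑, algebraMap A (Localization.AtPrime m₀) y = 0 := by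
    intro y hy
    exact ((mem_nilradical.mp hy).map (algebraMap A (Localization.AtPrime m₀))).eq_zero
  -- conclusion
  rw [← nilradical_eq_bot_iff, eq_bot_iff]
  intro x hx
  rw [Ideal.mem_bot]
  by_contra hx0
  -- the annihilator of `x` is a proper ideal
  have hann : (Ideal.span {x}).annihilator ≠ ⊤ := by
    intro htop
    have h1 : (1 : A) ∈ (Ideal.span {x}).annihilator := htop ▸ Submodule.mem_top
    rw [Submodule.mem_annihilator_span_singleton] at h1
    exact hx0 (by simpa using h1)
  obtain ⟨m', hm', hle⟩ := Ideal.exists_le_maximal _ hann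
  obtain ⟨T₀, hT₀⟩ := exists_equiv k A m₀
  obtain ⟨T', hT'⟩ := exists_equiv k A m'
  -- the automorphism `T = T₀⁻¹ ∘ T'` pulls `m₀` back to `m'`
  have hTT : ∀ a, T₀.symm (T' a) ∈ m₀ ↔ a ∈ m' := by
    intro a
    rw [← hT₀, AlgEquiv.apply_symm_apply, hT']
  have hxT : T₀.symm (T' x) ∈ 𝔑 := by
    rw [mem_nilradical] at hx ⊢
    exact (hx.map T').map T₀.symm
  have h0 := hzero _ hxT
  rw [IsLocalization.map_eq_zero_iff m₀.primeCompl] at h0
  obtain ⟨s, hs⟩ := h0
  -- pull `s` back
  have hs' : T'.symm (T₀ (s : A)) * x = 0 := by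
    apply T'.injective
    apply T₀.symm.injective
    rw [map_mul, map_mul, AlgEquiv.apply_symm_apply, AlgEquiv.symm_apply_apply, map_zero, map_zero]
    exact hs
  have hmem : T'.symm (T₀ (s : A)) ∈ m' := by
    apply hle
    rw [Submodule.mem_annihilator_span_singleton]
    exact hs'
  rw [← hTT, AlgEquiv.apply_symm_apply, AlgEquiv.symm_apply_apply] at hmem
  exact s.2 hmem

end main

end Groth.Agent.Helper7.HopfRed
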