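import Mathlib
import Groth.Agent.Helper7.CartierAlg
import Groth.Agent.Helper7.HopfGr
import Groth.Agent.Helper7.HopfRed

/-!
# Cartier's theorem for Hopf algebras: finitely generated commutative Hopf algebras over a field of
characteristic zero are reduced
-/

set_option linter.style.haveILetI false
set_option linter.unusedSectionVars false
set_option autoImplicit false

universe u v

namespace Groth.Agent.Helper7.HopfCartier

open Groth.Agent.Helper7.UnitSm Groth.Agent.Helper7.CartierAlg TensorProduct

section alg

variable {k : Type u} {A : Type v} [Field k] [CommRing A] [Algebra k A] (ε : A →ₐ[k] k)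

/-- nilpotent elements lie in all powers of the augmentation ideal -/
theorem nilpotent_mem_pow [CharZero k] [Module.Finite k (I ε).Cotangent] (hH : HasTruncDer ε)
    (z : A) (hz : IsNilpotent z) (n : ℕ) : z ∈ I ε ^ n := by
  let b := Module.finBasis k (I ε).Cotangent
  have hsurj := Ideal.toCotangent_surjective (I ε)
  choose y hy using fun i => hsurj (b i)
  set x : Fin (Module.finrank k (I ε).Cotangent) → A := fun i => (y i : A) with hx
  have hxI : ∀ i, x i ∈ I ε := fun i => (y i).2
  have hxb : ∀ i, (I ε).toCotangent ⟨x i, hxI i⟩ = b i := fun i => hy i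
  induction n with
  | zero => rw [pow_zero, Ideal.one_eq_top]; trivial
  | succ j ih =>
    by_contra hn1
    obtain ⟨f, hf, hfz⟩ := exists_poly ε b x hxI hxb j z ih
    have hf0 : f ≠ 0 := by
      rintro rfl
      rw [map_zero, sub_zero] at hfz
      exact hn1 hfz
    obtain ⟨M, hM⟩ := hz
    have hpow : MvPolynomial.aeval x (f ^ M) ∈ I ε ^ (j * M + 1) := by
      rw [map_pow]
      have hgeom := geom_sum₂_mul (MvPolynomial.aeval x f) z M
      rw [hM, sub_zero] at hgeom
      rw [← hgeom]
      have h1 : MvPolynomial.aeval x f ∈ I ε ^ j := aeval_mem_pow x _ hxI j f hf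
      have h2 : MvPolynomial.aeval x f - z ∈ I ε ^ (j + 1) := by
        rw [← Ideal.neg_mem_iff, neg_sub]; exact hfz
      rcases Nat.eq_zero_or_pos M with hM0 | hMpos
      · subst hM0
        simp
      have h3 : ∑ i ∈ Finset.range M, MvPolynomial.aeval x f ^ i * z ^ (M - 1 - i) ∈
          I ε ^ (j * (M - 1)) := by
        refine Ideal.sum_mem _ fun i hi => ?_
        have hi' : i < M := Finset.mem_range.mp hi
        have : j * (M - 1) = j * i + j * (M - 1 - i) := by
          rw [← Nat.mul_add]; congr 1; omega
        rw [this, pow_add, pow_mul, pow_mul]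
        exact Ideal.mul_mem_mul (Ideal.pow_mem_pow h1 i) (Ideal.pow_mem_pow ih _)
      have h4 : j * M + 1 = j * (M - 1) + (j + 1) := by
        have : M = (M - 1) + 1 := by omega
        conv_lhs => rw [this]
        ring
      rw [h4, pow_add]
      exact Ideal.mul_mem_mul h3 h2
    have hfM : f ^ M = 0 :=
      eq_zero_of_aeval_mem ε b x hxI hxb hH (j * M)
        (Nat.cast_ne_zero.mpr (Nat.factorial_ne_zero _)) (f ^ M) (hf.pow M) hpow
    exact hf0 (pow_eq_zero_iff (by
      rintro rfl
      rw [pow_zero] at hfM
      exact one_ne_zero hfM) |>.mp hfM)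

end alg

section hopf

variable {k : Type u} {A : Type v} [Field k] [CommRing A] [Bialgebra k A]

theorem hasTruncDer_bialgebra : HasTruncDer (HopfGr.eps (k := k) (A := A)) := by
  intro N d hd
  let D₀ : Derivation k A A := HopfGr.invDer d hd
  let D : Derivation k A (A ⧸ I (HopfGr.eps (k := k) (A := A)) ^ (N + 1)) :=
    (Algebra.linearMap A (A ⧸ I (HopfGr.eps (k := k) (A := A)) ^ (N + 1))).compDer D₀
  refine ⟨D, fun a => ⟨HopfGr.invOp d a - algebraMap k A (d a), ?_, ?_⟩⟩
  · rw [RingHom.mem_ker, map_sub]
    change HopfGr.eps (k := k) (HopfGr.invOp d a) - HopfGr.eps (k := k) (algebraMap k A (d a)) = 0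
    rw [HopfGr.eps_invOp, AlgHom.commutes, Algebra.algebraMap_self_apply, sub_self]
  · change Ideal.Quotient.mk _ (HopfGr.invOp d a) = _
    congr 1
    ring

end hopf

section algclosed

theorem isReduced_of_isAlgClosed (k : Type u) (A : Type v) [Field k] [IsAlgClosed k] [CharZero k]
    [CommRing A] [HopfAlgebra k A] [Algebra.FiniteType k A] : IsReduced A := by
  haveI : IsNoetherianRing A := Algebra.FiniteType.isNoetherianRing k A
  haveI : Nontrivial A := (Bialgebra.counitAlgHom k A).toRingHom.domain_nontrivial
  have hsurj : Function.Surjective (Bialgebra.counitAlgHom k A : A →+* k) := fun c =>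
    ⟨algebraMap k A c, by
      change Bialgebra.counitAlgHom k A (algebraMap k A c) = c
      rw [AlgHom.commutes]; rfl⟩
  haveI hmax : (RingHom.ker (Bialgebra.counitAlgHom k A : A →+* k)).IsMaximal :=
    RingHom.ker_isMaximal_of_surjective _ hsurj
  set m₀ : Ideal A := RingHom.ker (Bialgebra.counitAlgHom k A : A →+* k) with hm₀
  haveI := HopfGr.finite_cotangent (k := k) (A := A)
  have hzero : ∀ y ∈ nilradical A, algebraMap A (Localization.AtPrime m₀) y = 0 := by
    intro y hy
    have hall : ∀ n, y ∈ m₀ ^ n :=
      nilpotent_mem_pow (HopfGr.eps (k := k) (A := A)) hasTruncDer_bialgebra y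
        (mem_nilradical.mp hy)
    have hk : ⨅ n, IsLocalRing.maximalIdeal (Localization.AtPrime m₀) ^ n = ⊥ :=
      Ideal.iInf_pow_eq_bot_of_isLocalRing _ (IsLocalRing.maximalIdeal.isMaximal _).ne_top
    have : algebraMap A (Localization.AtPrime m₀) y ∈
        ⨅ n, IsLocalRing.maximalIdeal (Localization.AtPrime m₀) ^ n := by
      rw [Ideal.mem_iInf]
      intro n
      rw [← Localization.AtPrime.map_eq_maximalIdeal, ← Ideal.map_pow]
      exact Ideal.mem_map_of_mem _ (hall n)
    rwa [hk, Ideal.mem_bot] at this
  rw [← nilradical_eq_bot_iff, eq_bot_iff]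
  intro x hx
  rw [Ideal.mem_bot]
  by_contra hx0
  have hann : (Ideal.span {x}).annihilator ≠ ⊤ := by
    intro htop
    have h1 : (1 : A) ∈ (Ideal.span {x}).annihilator := htop ▸ Submodule.mem_top
    rw [Submodule.mem_annihilator_span_singleton] at h1
    exact hx0 (by simpa using h1)
  obtain ⟨m', hm', hle⟩ := Ideal.exists_le_maximal _ hann
  obtain ⟨T₀, hT₀⟩ := HopfRed.exists_equiv k A m₀
  obtain ⟨T', hT'⟩ := HopfRed.exists_equiv k A m'
  have hTT : ∀ a, T₀.symm (T' a) ∈ m₀ ↔ a ∈ m' := by
    intro a
    rw [← hT₀, AlgEquiv.apply_symm_apply, hT']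
  have hxT : T₀.symm (T' x) ∈ nilradical A := by
    rw [mem_nilradical] at hx ⊢
    exact (hx.map T').map T₀.symm
  have h0 := hzero _ hxT
  rw [IsLocalization.map_eq_zero_iff m₀.primeCompl] at h0
  obtain ⟨s, hs⟩ := h0
  have hs' : T'.symm (T₀ (s : A)) * x = 0 := by
    apply T'.injective
    apply T₀.symm.injective
    rw [map_mul, map_mul, AlgEquiv.apply_symm_apply, AlgEquiv.symm_apply_apply, map_zero, map_zero]
    exact hs
  have hmem : T'.symm (T₀ (s : A)) ∈ m' := by
    apply hle
    rw [Submodule.mem_annihilator_span_singleton]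
    exact hs'
  rw [← hTT, AlgEquiv.apply_symm_apply, AlgEquiv.symm_apply_apply] at hmem
  exact s.2 hmem

end algclosed

section general

/-- **Cartier's theorem** for Hopf algebras -/
theorem isReduced (k : Type u) (A : Type v) [Field k] [CharZero k] [CommRing A]
    [HopfAlgebra k A] [Algebra.FiniteType k A] : IsReduced A := by
  haveI : CharZero (AlgebraicClosure k) :=
    charZero_of_injective_algebraMap (algebraMap k (AlgebraicClosure k)).injective
  haveI : IsReduced (AlgebraicClosure k ⊗[k] A) :=
    isReduced_of_isAlgClosed (AlgebraicClosure k) (AlgebraicClosure k ⊗[k] A)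
  exact isReduced_of_injective
    (Algebra.TensorProduct.includeRight : A →ₐ[k] AlgebraicClosure k ⊗[k] A)
    (Algebra.TensorProduct.includeRight_injective (algebraMap k (AlgebraicClosure k)).injective)

end general

end Groth.Agent.Helper7.HopfCartier
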