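import Mathlib
import Groth.Agent.Helper7.TakE
import Groth.Agent.Helper2.HopfFGv

/-!
# Extending rational points along Hopf subalgebras: the one-step extension
-/

set_option autoImplicit false
set_option linter.unusedSectionVars false
universe u v

namespace Groth.Agent.Helper7.PtExt

open TensorProduct Groth.Agent.Helper2.HopfFGv

section null

/-- a non-trivial algebra of finite type over an algebraically closed field has a rational point -/
theorem exists_algHom_of_finiteType (k : Type u) [Field k] [IsAlgClosed k] (Q : Type v) [CommRing Q]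
    [Algebra k Q] [Algebra.FiniteType k Q] [Nontrivial Q] : Nonempty (Q →ₐ[k] k) := by
  obtain ⟨m, hm⟩ := Ideal.exists_maximal Q
  letI : Field (Q ⧸ m) := Ideal.Quotient.field m
  haveI : Algebra.FiniteType k (Q ⧸ m) :=
    Algebra.FiniteType.of_surjective (Ideal.Quotient.mkₐ k m) (Ideal.Quotient.mkₐ_surjective k m)
  haveI : Module.Finite k (Q ⧸ m) := finite_of_finite_type_of_isJacobsonRing k (Q ⧸ m)
  have hbij : Function.Bijective (algebraMap k (Q ⧸ m)) :=
    IsAlgClosed.algebraMap_bijective_of_isIntegral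
  let e : k ≃ₐ[k] (Q ⧸ m) := AlgEquiv.ofBijective (Algebra.ofId k (Q ⧸ m)) hbij
  exact ⟨e.symm.toAlgHom.comp (Ideal.Quotient.mkₐ k m)⟩

end null

section step

variable {k : Type u} [Field k] [IsAlgClosed k] {A : Type v} [CommRing A] [HopfAlgebra k A]

/-- one-step extension of a rational point from a Hopf subalgebra `C` to `C ⊔ D`, `D` finitely
generated -/
theorem extend_step (C : Subalgebra k A) (hC : IsHopfSub C) (h : ↥C →ₐ[k] k)
    (D : Subalgebra k A) (hD : D.FG) :
    ∃ h' : ↥(C ⊔ D) →ₐ[k] k, ∀ c : C, h' (Subalgebra.inclusion le_sup_left c) = h c := by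
  haveI : Module.FaithfullyFlat ↥C A := Takeuchi.faithfullyFlat C hC.1 hC.2
  let i : ↥C →ₐ[k] ↥(C ⊔ D) := Subalgebra.inclusion le_sup_left
  let j : ↥D →ₐ[k] ↥(C ⊔ D) := Subalgebra.inclusion le_sup_right
  let m : Ideal ↥C := RingHom.ker (h : ↥C →+* k)
  have hsurj : Function.Surjective h := fun c => ⟨algebraMap k _ c, h.commutes c⟩
  have hmax : m.IsMaximal := RingHom.ker_isMaximal_of_surjective _ hsurj
  let I : Ideal ↥(C ⊔ D) := Ideal.map (i : ↥C →+* ↥(C ⊔ D)) m
  have hI : I ≠ ⊤ := by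
    intro htop
    have h1 : Ideal.map ((C ⊔ D).val : ↥(C ⊔ D) →+* A) I = ⊤ := by
      rw [htop, Ideal.map_top]
    have h2 : Ideal.map ((C ⊔ D).val : ↥(C ⊔ D) →+* A) I = Ideal.map (algebraMap ↥C A) m := by
      rw [Ideal.map_map]
      rfl
    have h3 := Ideal.comap_map_eq_self_of_faithfullyFlat (B := A) m
    rw [← h2, h1, Ideal.comap_top] at h3
    exact hmax.ne_top h3.symm
  haveI : Nontrivial (↥(C ⊔ D) ⧸ I) := Ideal.Quotient.nontrivial_iff.2 hI
  -- the quotient is generated by `D`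
  let φ : ↥D →ₐ[k] (↥(C ⊔ D) ⧸ I) := (Ideal.Quotient.mkₐ k I).comp j
  have hmk : ∀ c : C, Ideal.Quotient.mkₐ k I (i c) = algebraMap k _ (h c) := by
    intro c
    have : i c - algebraMap k ↥(C ⊔ D) (h c) ∈ I := by
      have h1 : c - algebraMap k ↥C (h c) ∈ m := by
        rw [RingHom.mem_ker, map_sub]
        change h c - h (algebraMap k ↥C (h c)) = 0
        rw [h.commutes]
        exact sub_self _
      have h2 := Ideal.mem_map_of_mem (i : ↥C →+* ↥(C ⊔ D)) h1
      rw [map_sub] at h2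
      change i c - i (algebraMap k ↥C (h c)) ∈ I at h2
      rwa [i.commutes] at h2
    rw [← sub_eq_zero, ← (Ideal.Quotient.mkₐ k I).commutes, ← map_sub, Ideal.Quotient.mkₐ_eq_mk,
      Ideal.Quotient.eq_zero_iff_mem]
    exact this
  have hφ : Function.Surjective φ := by
    intro q
    obtain ⟨x, rfl⟩ := Ideal.Quotient.mkₐ_surjective k I q
    let T : Subalgebra k A := Subalgebra.map (C ⊔ D).val
      (Subalgebra.comap (Ideal.Quotient.mkₐ k I) φ.range)
    have hCT : C ≤ T := by
      intro c hc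
      refine ⟨i ⟨c, hc⟩, ?_, rfl⟩
      change Ideal.Quotient.mkₐ k I (i ⟨c, hc⟩) ∈ φ.range
      rw [hmk]
      exact Subalgebra.algebraMap_mem _ _
    have hDT : D ≤ T := by
      intro d hd
      refine ⟨j ⟨d, hd⟩, ?_, rfl⟩
      exact ⟨⟨d, hd⟩, rfl⟩
    have hx : (x : A) ∈ T := (sup_le hCT hDT) x.2
    obtain ⟨y, hy, hyx⟩ := hx
    have : y = x := Subtype.ext hyx
    rw [← this]
    exact hy
  haveI : Algebra.FiniteType k ↥D := (Subalgebra.fg_iff_finiteType D).1 hD
  haveI : Algebra.FiniteType k (↥(C ⊔ D) ⧸ I) := Algebra.FiniteType.of_surjective φ hφ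
  obtain ⟨χ⟩ := exists_algHom_of_finiteType k (↥(C ⊔ D) ⧸ I)
  refine ⟨χ.comp (Ideal.Quotient.mkₐ k I), fun c => ?_⟩
  rw [AlgHom.comp_apply]
  change χ (Ideal.Quotient.mkₐ k I (i c)) = h c
  rw [hmk, χ.commutes]
  rfl

end step

end Groth.Agent.Helper7.PtExt
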