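import Mathlib
import Groth.Agent.Helper7.PtExt1

/-!
# Extending rational points along Hopf subalgebras (Zorn)
-/

set_option autoImplicit false
set_option linter.unusedSectionVars false
universe u v

namespace Groth.Agent.Helper7.PtExt

open TensorProduct Groth.Agent.Helper2.HopfFGv

section zorn

variable {k : Type u} [Field k] {A : Type v} [CommRing A] [HopfAlgebra k A]

/-- a partially defined rational point: a partial linear functional defined on a Hopf subalgebra,
multiplicative and unital there -/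
structure IsPt (f : A →ₗ.[k] k) : Prop where
  exists_sub : ∃ C : Subalgebra k A, IsHopfSub C ∧ f.domain = Subalgebra.toSubmodule C
  map_one : ∀ h1 : (1 : A) ∈ f.domain, f ⟨1, h1⟩ = 1
  map_mul : ∀ (x y : f.domain) (hxy : (x : A) * y ∈ f.domain), f ⟨x * y, hxy⟩ = f x * f y

/-- the partial functional of an algebra map on a subalgebra -/
def ofAlgHom (C : Subalgebra k A) (h : ↥C →ₐ[k] k) : A →ₗ.[k] k :=
  ⟨Subalgebra.toSubmodule C,
    { toFun := fun x => h ⟨x.1, x.2⟩
      map_add' := fun x y => by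
        rw [← map_add]
        rfl
      map_smul' := fun r x => by
        rw [RingHom.id_apply, ← map_smul]
        rfl }⟩

lemma ofAlgHom_apply (C : Subalgebra k A) (h : ↥C →ₐ[k] k) (x : A) (hx : x ∈ C) :
    ofAlgHom C h ⟨x, hx⟩ = h ⟨x, hx⟩ := rfl

lemma isPt_ofAlgHom (C : Subalgebra k A) (hC : IsHopfSub C) (h : ↥C →ₐ[k] k) :
    IsPt (ofAlgHom C h) where
  exists_sub := ⟨C, hC, rfl⟩
  map_one := fun h1 => by
    change h ⟨1, h1⟩ = 1
    exact map_one h
  map_mul := fun x y hxy => by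
    change h ⟨(x : A) * y, hxy⟩ = h ⟨x.1, x.2⟩ * h ⟨y.1, y.2⟩
    rw [← map_mul]
    rfl

/-- the algebra map of a partial point -/
def toAlgHom (f : A →ₗ.[k] k) (hf : IsPt f) (C : Subalgebra k A)
    (hC : f.domain = Subalgebra.toSubmodule C) : ↥C →ₐ[k] k where
  toFun c := f ⟨c.1, hC ▸ c.2⟩
  map_one' := hf.map_one _
  map_mul' x y := hf.map_mul ⟨x.1, hC ▸ x.2⟩ ⟨y.1, hC ▸ y.2⟩ _
  map_zero' := by
    have : (⟨0, hC ▸ (0 : C).2⟩ : f.domain) = 0 := rfl
    change f ⟨0, _⟩ = 0
    rw [this]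
    exact f.map_zero
  map_add' x y := by
    have : (⟨(x + y : C).1, hC ▸ (x + y).2⟩ : f.domain) =
        ⟨x.1, hC ▸ x.2⟩ + ⟨y.1, hC ▸ y.2⟩ := rfl
    change f ⟨(x + y : C).1, _⟩ = _
    rw [this]
    exact f.map_add _ _
  commutes' r := by
    have h1 : (1 : A) ∈ f.domain := hC ▸ C.one_mem
    have : (⟨(algebraMap k ↥C r : C).1, hC ▸ (algebraMap k ↥C r).2⟩ : f.domain) =
        r • ⟨1, h1⟩ := by
      apply Subtype.ext
      change algebraMap k A r = r • (1 : A)
      rw [Algebra.algebraMap_eq_smul_one]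
    change f ⟨(algebraMap k ↥C r : C).1, _⟩ = _
    rw [this, f.map_smul, hf.map_one h1]
    simp

lemma toAlgHom_apply (f : A →ₗ.[k] k) (hf : IsPt f) (C : Subalgebra k A)
    (hC : f.domain = Subalgebra.toSubmodule C) (c : C) :
    toAlgHom f hf C hC c = f ⟨c.1, hC ▸ c.2⟩ := rfl

lemma range_map_mono {C C' : Subalgebra k A} (h : C ≤ C') :
    LinearMap.range (TensorProduct.map C.val.toLinearMap C.val.toLinearMap) ≤
      LinearMap.range (TensorProduct.map C'.val.toLinearMap C'.val.toLinearMap) := by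
  rintro _ ⟨z, rfl⟩
  refine ⟨TensorProduct.map (Subalgebra.inclusion h).toLinearMap
    (Subalgebra.inclusion h).toLinearMap z, ?_⟩
  rw [← LinearMap.comp_apply, ← TensorProduct.map_comp]
  rfl

/-- the upper bound of a chain of partial points is a partial point -/
lemma isPt_sSup (c : Set (A →ₗ.[k] k)) (hcS : ∀ f ∈ c, IsPt f) (hc : IsChain (· ≤ ·) c)
    (hne : c.Nonempty) : IsPt (LinearPMap.sSup c hc.directedOn) := by
  classical
  set ub := LinearPMap.sSup c hc.directedOn with hub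
  have hmem : ∀ x : A, x ∈ ub.domain ↔ ∃ f ∈ c, x ∈ f.domain :=
    fun x => LinearPMap.mem_domain_sSup_iff hne hc.directedOn
  have hle : ∀ f ∈ c, f ≤ ub := fun f hf => LinearPMap.le_sSup hc.directedOn hf
  -- two elements of the union lie in a common member
  have hcommon : ∀ x y : A, x ∈ ub.domain → y ∈ ub.domain →
      ∃ f ∈ c, x ∈ f.domain ∧ y ∈ f.domain := by
    intro x y hx hy
    obtain ⟨f, hf, hxf⟩ := (hmem x).1 hx
    obtain ⟨g, hg, hyg⟩ := (hmem y).1 hy
    rcases hc.total hf hg with hfg | hgf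
    · exact ⟨g, hg, hfg.1 hxf, hyg⟩
    · exact ⟨f, hf, hxf, hgf.1 hyg⟩
  have hmul : ∀ x y : A, x ∈ ub.domain → y ∈ ub.domain → x * y ∈ ub.domain := by
    intro x y hx hy
    obtain ⟨f, hf, hxf, hyf⟩ := hcommon x y hx hy
    obtain ⟨C, -, hC⟩ := (hcS f hf).exists_sub
    refine (hmem _).2 ⟨f, hf, ?_⟩
    rw [hC] at hxf hyf ⊢
    exact C.mul_mem hxf hyf
  have halg : ∀ r : k, algebraMap k A r ∈ ub.domain := by
    intro r
    obtain ⟨f, hf⟩ := hne
    obtain ⟨C, -, hC⟩ := (hcS f hf).exists_sub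
    refine (hmem _).2 ⟨f, hf, ?_⟩
    rw [hC]
    exact C.algebraMap_mem r
  let Cs : Subalgebra k A :=
    { carrier := ub.domain
      mul_mem' := fun {a b} ha hb => hmul a b ha hb
      one_mem' := by
        have := halg 1
        rwa [map_one] at this
      add_mem' := fun {a b} ha hb => ub.domain.add_mem ha hb
      zero_mem' := ub.domain.zero_mem
      algebraMap_mem' := halg }
  have hCs : ub.domain = Subalgebra.toSubmodule Cs := rfl
  refine ⟨⟨Cs, ⟨?_, ?_⟩, hCs⟩, ?_, ?_⟩
  · intro b hb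
    obtain ⟨f, hf, hbf⟩ := (hmem b).1 hb
    obtain ⟨C, hCH, hC⟩ := (hcS f hf).exists_sub
    have hCle : C ≤ Cs := by
      intro x hx
      have : x ∈ f.domain := by rw [hC]; exact hx
      exact (hle f hf).1 this
    rw [hC] at hbf
    exact range_map_mono hCle (hCH.1 b hbf)
  · intro b hb
    obtain ⟨f, hf, hbf⟩ := (hmem b).1 hb
    obtain ⟨C, hCH, hC⟩ := (hcS f hf).exists_sub
    rw [hC] at hbf
    have := hCH.2 b hbf
    have h2 : HopfAlgebraStruct.antipode (R := k) (A := A) b ∈ f.domain := by rw [hC]; exact this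
    exact (hle f hf).1 h2
  · intro h1
    obtain ⟨f, hf, h1f⟩ := (hmem 1).1 h1
    rw [← (hle f hf).2 (x := ⟨1, h1f⟩) (y := ⟨1, h1⟩) rfl]
    exact (hcS f hf).map_one h1f
  · intro x y hxy
    obtain ⟨f, hf, hxf, hyf⟩ := hcommon x y x.2 y.2
    obtain ⟨C, -, hC⟩ := (hcS f hf).exists_sub
    have hxyf : (x : A) * y ∈ f.domain := by
      rw [hC] at hxf hyf ⊢
      exact C.mul_mem hxf hyf
    rw [← (hle f hf).2 (x := ⟨(x : A) * y, hxyf⟩) (y := ⟨(x : A) * y, hxy⟩) rfl,
      ← (hle f hf).2 (x := ⟨x, hxf⟩) (y := x) rfl, ← (hle f hf).2 (x := ⟨y, hyf⟩) (y := y) rfl]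
    exact (hcS f hf).map_mul ⟨x, hxf⟩ ⟨y, hyf⟩ hxyf

variable [IsAlgClosed k]

/-- **Extension of rational points**: over an algebraically closed field, a rational point of a Hopf
subalgebra of a commutative Hopf algebra extends to the whole Hopf algebra. -/
theorem exists_extension (B : Subalgebra k A) (hB : IsHopfSub B) (g' : ↥B →ₐ[k] k) :
    ∃ g : A →ₐ[k] k, ∀ b : B, g b = g' b := by
  classical
  obtain ⟨m, hxm, hmax⟩ := zorn_le_nonempty₀ {f : A →ₗ.[k] k | IsPt f}
    (fun c hcS hc y hy => ⟨LinearPMap.sSup c hc.directedOn,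
      isPt_sSup c hcS hc ⟨y, hy⟩, fun z hz => LinearPMap.le_sSup hc.directedOn hz⟩)
    (ofAlgHom B g') (isPt_ofAlgHom B hB g')
  have hm : IsPt m := hmax.prop
  obtain ⟨C, hCH, hC⟩ := hm.exists_sub
  have htop : C = ⊤ := by
    by_contra hne
    obtain ⟨a, ha⟩ : ∃ a : A, a ∉ C := by
      by_contra hall
      push Not at hall
      exact hne (eq_top_iff.2 fun x _ => hall x)
    obtain ⟨D, haD, hDfg, hDH⟩ := exists_fg_hopfSub (k := k) a
    obtain ⟨h', hh'⟩ := extend_step C hCH (toAlgHom m hm C hC) D hDfg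
    have hf' : IsPt (ofAlgHom (C ⊔ D) h') := isPt_ofAlgHom _ (isHopfSub_sup hCH hDH) h'
    have hle : m ≤ ofAlgHom (C ⊔ D) h' := by
      refine ⟨?_, ?_⟩
      · rw [hC]
        intro x hx
        exact (le_sup_left : C ≤ C ⊔ D) hx
      · intro x y hxy
        have hxC : (x : A) ∈ C := by
          have hle' : m.domain ≤ Subalgebra.toSubmodule C := hC.le
          exact hle' x.2
        have h1 := hh' ⟨x, hxC⟩
        rw [toAlgHom_apply] at h1
        rw [← h1]
        change h' _ = h' _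
        congr 1
        exact Subtype.ext hxy
    have hge := hmax.le_of_ge hf' hle
    apply ha
    have h2 : a ∈ (ofAlgHom (C ⊔ D) h').domain := (le_sup_right : D ≤ C ⊔ D) haD
    have h3 := hge.1 h2
    rw [hC] at h3
    exact h3
  have hdom : ∀ a : A, a ∈ m.domain := by
    intro a
    rw [hC, htop]
    exact Algebra.mem_top (R := k)
  refine ⟨?_, ?_⟩
  · exact
    { toFun := fun a => m ⟨a, hdom a⟩
      map_one' := hm.map_one _
      map_mul' := fun x y => hm.map_mul ⟨x, hdom x⟩ ⟨y, hdom y⟩ _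
      map_zero' := by
        have : (⟨0, hdom 0⟩ : m.domain) = 0 := rfl
        rw [this]
        exact m.map_zero
      map_add' := fun x y => by
        have : (⟨x + y, hdom (x + y)⟩ : m.domain) = ⟨x, hdom x⟩ + ⟨y, hdom y⟩ := rfl
        rw [this]
        exact m.map_add _ _
      commutes' := fun r => by
        have : (⟨algebraMap k A r, hdom _⟩ : m.domain) = r • ⟨1, hdom 1⟩ := by
          apply Subtype.ext
          change algebraMap k A r = r • (1 : A)
          rw [Algebra.algebraMap_eq_smul_one]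
        rw [this, m.map_smul, hm.map_one]
        simp }
  · intro b
    change m ⟨b, hdom b⟩ = g' b
    have := hxm.2 (x := ⟨(b : A), b.2⟩) (y := ⟨b, hdom b⟩) rfl
    rw [← this]
    rfl

end zorn

end Groth.Agent.Helper7.PtExt
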