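import Mathlib
import Groth.Agent.Helper7.PtExt2
import Groth.Agent.Helper7.HopfCartier
import Groth.Agent.Helper2.PtsDense
import Groth.Agent.Helper7.FGK2

/-!
# Rational points separate the elements of a commutative Hopf algebra in characteristic zero
-/

set_option autoImplicit false
set_option linter.unusedSectionVars false
universe u v w

namespace Groth.Agent.Helper7.PtExt

open TensorProduct Groth.Agent.Helper2.HopfFGv

section dense

variable {k : Type u} [Field k] [IsAlgClosed k] [CharZero k] {A : Type v} [CommRing A]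
  [HopfAlgebra k A]

/-- rational points separate elements (no finiteness assumption) -/
theorem exists_point_ne_zero (a : A) (ha : a ≠ 0) : ∃ g : A →ₐ[k] k, g a ≠ 0 := by
  obtain ⟨B, haB, hfg, hBH⟩ := exists_fg_hopfSub (k := k) a
  have hsub : FGK.IsSubHopf B.val :=
    ⟨Subtype.val_injective, fun c => hBH.1 c c.2, fun c => ⟨⟨_, hBH.2 c c.2⟩, rfl⟩⟩
  letI : HopfAlgebra k ↥B := FGK.subHopf hsub
  haveI : Algebra.FiniteType k ↥B := (Subalgebra.fg_iff_finiteType B).1 hfg
  haveI : IsReduced ↥B := HopfCartier.isReduced k ↥B
  by_contra hall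
  push Not at hall
  have h0 : (⟨a, haB⟩ : B) = 0 :=
    Groth.Agent.Helper2.PtsDense.eq_zero_of_forall_algHom' (k := k) _ (fun g' => by
      obtain ⟨g, hg⟩ := exists_extension B hBH g'
      rw [← hg]
      exact hall g)
  exact ha (congrArg Subtype.val h0)

/-- a tensor all of whose slices at rational points vanish is zero -/
theorem eq_zero_of_points {U : Type w} [AddCommGroup U] [Module k U] (s : U ⊗[k] A)
    (h : ∀ g : A →ₐ[k] k, (TensorProduct.rid k U) (g.toLinearMap.lTensor U s) = 0) : s = 0 := by
  let b := Module.Free.chooseBasis k U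
  apply (TensorProduct.equivFinsuppOfBasisLeft (N := A) b).injective
  rw [map_zero]
  ext i
  rw [TensorProduct.equivFinsuppOfBasisLeft_apply, Finsupp.zero_apply]
  by_contra hne
  obtain ⟨g, hg⟩ := exists_point_ne_zero (k := k) _ hne
  apply hg
  have := Groth.Agent.Helper2.PtsDense.slice_swap (b.coord i) g.toLinearMap s
  rw [h g, map_zero] at this
  exact this

lemma slice_rTensor {V U : Type w} [AddCommGroup V] [Module k V] [AddCommGroup U] [Module k U]
    (π : V →ₗ[k] U) (g : A →ₗ[k] k) (t : V ⊗[k] A) :
    (TensorProduct.rid k U) (g.lTensor U (π.rTensor A t)) =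
      π ((TensorProduct.rid k V) (g.lTensor V t)) := by
  induction t using TensorProduct.induction_on with
  | zero => simp
  | tmul v a => simp
  | add x y hx hy => simp only [map_add, hx, hy]

/-- a subspace stable under all rational points is a subcomodule -/
theorem isSubcomod_of_points {V : Type w} [AddCommGroup V] [Module k V] [HopfRep.Comod k A V]
    (W : Submodule k V) (hW : ∀ g : A →ₐ[k] k, W.map (HopfRep.Comod.act k A V g) ≤ W) :
    HopfRep.IsSubcomod (k := k) (A := A) W := by
  intro x hx
  have hexact : Function.Exact (W.subtype.rTensor A) (W.mkQ.rTensor A) :=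
    rTensor_exact A (LinearMap.exact_subtype_mkQ W) (Submodule.mkQ_surjective W)
  apply (hexact _).1
  apply eq_zero_of_points
  intro g
  rw [slice_rTensor]
  have h1 : HopfRep.Comod.act k A V g x ∈ W := hW g ⟨x, hx, rfl⟩
  have h2 : W.mkQ (HopfRep.Comod.act k A V g x) = 0 := (Submodule.Quotient.mk_eq_zero W).2 h1
  exact h2

end dense

end Groth.Agent.Helper7.PtExt
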