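import Mathlib
import Groth.Prelude.Def_GLin
import Groth.Agent.Helper7.EqZMTB
import Groth.Agent.Helper7.PtExt3
import Groth.Agent.Helper9.LocFin

/-!
# Equivariant Zariski Main Theorem: the comodule part
-/

set_option autoImplicit false
set_option linter.unusedSectionVars false
universe u

namespace Groth.Agent.Helper7.EqZMT

open TensorProduct HopfRep

section act

variable {k : Type u} [Field k] {A : Type u} [CommRing A] [Bialgebra k A]
variable (R : Type u) [CommRing R] [Algebra k R] [Comod k A R] [GLin.IsCoactAlg k A R]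

/-- the algebra endomorphism of a comodule algebra given by a rational point -/
noncomputable def actAlg (g : A →ₐ[k] k) : R →ₐ[k] R :=
  ((Algebra.TensorProduct.rid k k R).toAlgHom.comp
    (Algebra.TensorProduct.map (AlgHom.id k R) g)).comp (GLin.coactAlgHom k A R)

omit [Comod k A R] [GLin.IsCoactAlg k A R] in
lemma slice_eq (g : A →ₐ[k] k) (t : R ⊗[k] A) :
    (Algebra.TensorProduct.rid k k R) (Algebra.TensorProduct.map (AlgHom.id k R) g t) =
      TensorProduct.rid k R (g.toLinearMap.lTensor R t) := by
  induction t using TensorProduct.induction_on with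
  | zero => simp
  | tmul r a => simp
  | add x y hx hy => simp only [map_add, hx, hy]

lemma actAlg_apply (g : A →ₐ[k] k) (x : R) : actAlg R g x = Comod.act k A R g x := by
  unfold actAlg Comod.act
  simp only [AlgHom.comp_apply, GLin.coactAlgHom_apply,
    LinearMap.comp_apply, LinearEquiv.coe_coe]
  exact slice_eq R g _

variable (S : Type u) [CommRing S] [Algebra k S] [Comod k A S] [GLin.IsCoactAlg k A S]
  [Algebra S R] [IsScalarTower k S R]

lemma actAlg_algebraMap
    (hequiv : ∀ s : S, Comod.coact (k := k) (A := A) (algebraMap S R s) =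
      Algebra.TensorProduct.map (IsScalarTower.toAlgHom k S R) (AlgHom.id k A)
        (Comod.coact (k := k) (A := A) s))
    (g : A →ₐ[k] k) (s : S) :
    actAlg R g (algebraMap S R s) = algebraMap S R (actAlg S g s) := by
  unfold actAlg
  simp only [AlgHom.comp_apply, GLin.coactAlgHom_apply]
  rw [hequiv]
  generalize Comod.coact (k := k) (A := A) s = t
  induction t using TensorProduct.induction_on with
  | zero => simp
  | tmul s a =>
    simp
    rw [Algebra.smul_def, Algebra.smul_def, map_mul, ← IsScalarTower.algebraMap_apply]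
  | add x y hx hy => simp only [map_add, hx, hy]

lemma isIntegral_actAlg
    (hequiv : ∀ s : S, Comod.coact (k := k) (A := A) (algebraMap S R s) =
      Algebra.TensorProduct.map (IsScalarTower.toAlgHom k S R) (AlgHom.id k A)
        (Comod.coact (k := k) (A := A) s))
    (g : A →ₐ[k] k) (x : R) (hx : IsIntegral S x) : IsIntegral S (actAlg R g x) :=
  IsIntegral.map_of_comp_eq (actAlg S g).toRingHom (actAlg R g).toRingHom
    (by
      ext s
      exact (actAlg_algebraMap R S hequiv g s).symm) hx

variable (k) in
/-- the integral closure as a `k`-subspace -/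
def intCl : Submodule k R := Subalgebra.toSubmodule ((integralClosure S R).restrictScalars k)

omit [Comod k A R] [GLin.IsCoactAlg k A R] [Comod k A S] [GLin.IsCoactAlg k A S] in
lemma mem_intCl (x : R) : x ∈ intCl k R S ↔ IsIntegral S x := Iff.rfl

end act

section stab

variable {k : Type u} [Field k] [IsAlgClosed k] [CharZero k] {A : Type u} [CommRing A]
  [HopfAlgebra k A]
variable (R : Type u) [CommRing R] [Algebra k R] [Comod k A R] [GLin.IsCoactAlg k A R]
variable (S : Type u) [CommRing S] [Algebra k S] [Comod k A S] [GLin.IsCoactAlg k A S]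
  [Algebra S R] [IsScalarTower k S R]

theorem isSubcomod_intCl
    (hequiv : ∀ s : S, Comod.coact (k := k) (A := A) (algebraMap S R s) =
      Algebra.TensorProduct.map (IsScalarTower.toAlgHom k S R) (AlgHom.id k A)
        (Comod.coact (k := k) (A := A) s)) :
    IsSubcomod (k := k) (A := A) (intCl k R S) := by
  apply PtExt.isSubcomod_of_points
  rintro g _ ⟨x, hx, rfl⟩
  rw [← actAlg_apply]
  exact isIntegral_actAlg R S hequiv g x hx

end stab

section fd

open Groth.Agent.Helper9

variable {k : Type u} [Field k] {A : Type u} [AddCommGroup A] [Module k A] [Coalgebra k A]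
variable {V : Type u} [AddCommGroup V] [Module k V] [Comod k A V]

lemma isSubcomod_bot : IsSubcomod (k := k) (A := A) (⊥ : Submodule k V) := by
  rw [isSubcomod_iff_act]
  intro φ w hw
  rw [Submodule.mem_bot] at hw
  rw [hw, map_zero]
  exact Submodule.zero_mem _

lemma isSubcomod_sup (W₁ W₂ : Submodule k V) (h₁ : IsSubcomod (k := k) (A := A) W₁)
    (h₂ : IsSubcomod (k := k) (A := A) W₂) : IsSubcomod (k := k) (A := A) (W₁ ⊔ W₂) := by
  rw [isSubcomod_iff_act] at h₁ h₂ ⊢
  intro φ w hw
  obtain ⟨w₁, hw₁, w₂, hw₂, rfl⟩ := Submodule.mem_sup.1 hw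
  rw [map_add]
  exact Submodule.add_mem_sup (h₁ φ w₁ hw₁) (h₂ φ w₂ hw₂)

theorem exists_fd_subcomod (M : Submodule k V) (hM : IsSubcomod (k := k) (A := A) M)
    (T : Finset V) (hT : ↑T ⊆ (M : Set V)) :
    ∃ T' : Finset V, IsSubcomod (k := k) (A := A) (Submodule.span k (T' : Set V)) ∧
      ↑T ⊆ (Submodule.span k (T' : Set V) : Set V) ∧ Submodule.span k (T' : Set V) ≤ M := by
  classical
  let W : Submodule k V := T.sup (fun t => gen k A t)
  have hsub : IsSubcomod (k := k) (A := A) W := by
    apply Finset.sup_induction (p := fun W => IsSubcomod (k := k) (A := A) W)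
    · exact isSubcomod_bot
    · intro W₁ h₁ W₂ h₂
      exact isSubcomod_sup W₁ W₂ h₁ h₂
    · intro t _
      exact isSubcomod_gen t
  have hfg : W.FG := by
    apply Submodule.fg_finset_sup
    intro t _
    exact Module.Finite.iff_fg.1 (finite_gen t)
  have hle : W ≤ M := by
    apply Finset.sup_le
    intro t ht
    unfold gen
    rw [Submodule.span_le]
    rintro _ ⟨φ, rfl⟩
    exact (isSubcomod_iff_act M).1 hM φ t (hT ht)
  have hTW : ↑T ⊆ (W : Set V) := by
    intro t ht
    exact (Finset.le_sup (f := fun t => gen k A t) ht) (mem_gen t)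
  obtain ⟨T', hT'⟩ := hfg
  rw [← hT'] at hsub hle hTW
  exact ⟨T', hsub, hTW, hle⟩

end fd

end Groth.Agent.Helper7.EqZMT
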