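import Mathlib
import Groth.Agent.Helper7.EqZMTA
import Groth.Agent.Helper7.EqZMTC

/-!
# Equivariant Zariski Main Theorem: coaction-stable finite subalgebras
-/

set_option autoImplicit false
set_option linter.unusedSectionVars false
set_option linter.style.haveILetI false
universe u

namespace Groth.Agent.Helper7.EqZMT

open TensorProduct HopfRep

section subalg

variable {k : Type u} [Field k] {A : Type u} [CommRing A] [Bialgebra k A]
variable {R : Type u} [CommRing R] [Algebra k R] [Comod k A R] [GLin.IsCoactAlg k A R]
variable {S : Type u} [CommRing S] [Algebra k S] [Comod k A S] [GLin.IsCoactAlg k A S]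
  [Algebra S R] [IsScalarTower k S R]

/-- the inclusion of an `S`-subalgebra as a `k`-algebra map -/
noncomputable abbrev incl (B : Subalgebra S R) : ↥B →ₐ[k] R := B.val.restrictScalars k

lemma map_id_eq_rTensor {X Y : Type u} [CommRing X] [Algebra k X] [CommRing Y] [Algebra k Y]
    (f : X →ₐ[k] Y) (t : X ⊗[k] A) :
    Algebra.TensorProduct.map f (AlgHom.id k A) t = f.toLinearMap.rTensor A t := by
  induction t using TensorProduct.induction_on with
  | zero => simp
  | tmul x a => simp
  | add x y hx hy => simp only [map_add, hx, hy]

/-- coaction-stability of a subalgebra -/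
def Stable (B : Subalgebra S R) : Prop :=
  ∀ b : ↥B, Comod.coact (k := k) (A := A) ((incl (k := k) B).toLinearMap b) ∈
    LinearMap.range ((incl (k := k) B).toLinearMap.rTensor A)

theorem stable_adjoin (T : Set R)
    (hW : IsSubcomod (k := k) (A := A) (Submodule.span k T))
    (hequiv : ∀ s : S, Comod.coact (k := k) (A := A) (algebraMap S R s) =
      Algebra.TensorProduct.map (IsScalarTower.toAlgHom k S R) (AlgHom.id k A)
        (Comod.coact (k := k) (A := A) s)) :
    Stable (k := k) (A := A) (Algebra.adjoin S T) := by
  set B : Subalgebra S R := Algebra.adjoin S T with hB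
  let Rg : Subalgebra k (R ⊗[k] A) :=
    (Algebra.TensorProduct.map (incl (k := k) B) (AlgHom.id k A)).range
  have hWB : ∀ w ∈ Submodule.span k T, w ∈ B := by
    intro w hw
    induction hw using Submodule.span_induction with
    | mem x hx => exact Algebra.subset_adjoin hx
    | zero => exact B.zero_mem
    | add x y _ _ hx hy => exact B.add_mem hx hy
    | smul c x _ hx =>
      rw [Algebra.smul_def, IsScalarTower.algebraMap_apply k S R]
      exact B.mul_mem (B.algebraMap_mem _) hx
  have key : ∀ x ∈ B, Comod.coact (k := k) (A := A) x ∈ Rg := by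
    intro x hx
    induction hx using Algebra.adjoin_induction with
    | mem x hx =>
      obtain ⟨y, hy⟩ := hW x (Submodule.subset_span hx)
      rw [← hy]
      clear hy
      induction y using TensorProduct.induction_on with
      | zero => rw [map_zero]; exact Rg.zero_mem
      | tmul w a =>
        refine ⟨(⟨w.1, hWB w.1 w.2⟩ : ↥B) ⊗ₜ[k] a, ?_⟩
        simp
      | add y z hy hz => rw [map_add]; exact Rg.add_mem hy hz
    | algebraMap s =>
      rw [hequiv]
      generalize Comod.coact (k := k) (A := A) s = t
      induction t using TensorProduct.induction_on with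
      | zero => rw [map_zero]; exact Rg.zero_mem
      | tmul s' a =>
        refine ⟨(algebraMap S ↥B s') ⊗ₜ[k] a, ?_⟩
        simp
      | add y z hy hz => rw [map_add]; exact Rg.add_mem hy hz
    | add x y _ _ hx hy => rw [map_add]; exact Rg.add_mem hx hy
    | mul x y _ _ hx hy =>
      rw [GLin.IsCoactAlg.coact_mul]
      exact Rg.mul_mem hx hy
  intro b
  obtain ⟨t, ht⟩ := key b.1 b.2
  refine ⟨t, ?_⟩
  rw [← map_id_eq_rTensor]
  exact ht

/-- the comodule structure on a coaction-stable subalgebra -/
@[reducible] noncomputable def comodB (B : Subalgebra S R) (hB : Stable (k := k) (A := A) B) :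
    Comod k A ↥B :=
  pullComod (incl (k := k) B).toLinearMap Subtype.val_injective hB

lemma map_incl_coact (B : Subalgebra S R) (hB : Stable (k := k) (A := A) B) (b : ↥B) :
    Algebra.TensorProduct.map (incl (k := k) B) (AlgHom.id k A)
      ((comodB B hB).coact b) = Comod.coact (k := k) (A := A) (b : R) := by
  rw [map_id_eq_rTensor]
  exact rTensor_pullCoact (incl (k := k) B).toLinearMap Subtype.val_injective hB b

lemma map_incl_injective (B : Subalgebra S R) :
    Function.Injective (Algebra.TensorProduct.map (incl (k := k) B) (AlgHom.id k A)) := by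
  intro x y hxy
  rw [map_id_eq_rTensor, map_id_eq_rTensor] at hxy
  exact rTensor_injective (incl (k := k) B).toLinearMap Subtype.val_injective A hxy

theorem isCoactAlgB (B : Subalgebra S R) (hB : Stable (k := k) (A := A) B) :
    @GLin.IsCoactAlg k _ A _ _ ↥B _ _ (comodB B hB) := by
  letI := comodB B hB
  constructor
  · apply map_incl_injective B
    rw [map_incl_coact, map_one]
    exact GLin.IsCoactAlg.coact_one (k := k) (A := A) (R := R)
  · intro f g
    apply map_incl_injective B
    rw [map_incl_coact, map_mul, map_incl_coact, map_incl_coact]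
    exact GLin.IsCoactAlg.coact_mul (k := k) (A := A) (f : R) (g : R)

lemma coact_algebraMapB (B : Subalgebra S R) (hB : Stable (k := k) (A := A) B)
    (hequiv : ∀ s : S, Comod.coact (k := k) (A := A) (algebraMap S R s) =
      Algebra.TensorProduct.map (IsScalarTower.toAlgHom k S R) (AlgHom.id k A)
        (Comod.coact (k := k) (A := A) s)) (s : S) :
    (comodB B hB).coact (IsScalarTower.toAlgHom k S ↥B s) =
      Algebra.TensorProduct.map (IsScalarTower.toAlgHom k S ↥B) (AlgHom.id k A)
        (Comod.coact (k := k) (A := A) s) := by
  apply map_incl_injective B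
  rw [map_incl_coact]
  have h1 : ((IsScalarTower.toAlgHom k S ↥B s : ↥B) : R) = algebraMap S R s := rfl
  rw [h1, hequiv]
  generalize Comod.coact (k := k) (A := A) s = t
  induction t using TensorProduct.induction_on with
  | zero => simp
  | tmul s' a => simp
  | add y z hy hz => simp only [map_add, hy, hz]

end subalg

end Groth.Agent.Helper7.EqZMT
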