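import Mathlib
import Groth.Agent.Helper7.EqZMTD

/-!
# Equivariant Zariski Main Theorem
-/

set_option autoImplicit false
set_option linter.unusedSectionVars false
set_option linter.style.haveILetI false
universe u

namespace Groth.Agent.Helper7.EqZMT

open TensorProduct HopfRep AlgebraicGeometry

theorem main (k : Type u) [Field k] [IsAlgClosed k] [CharZero k]
    (A : Type u) [CommRing A] [HopfAlgebra k A]
    (S : Type u) [CommRing S] [Algebra k S] [Algebra.FiniteType k S] [HopfRep.Comod k A S]
    [GLin.IsCoactAlg k A S]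
    (R : Type u) [CommRing R] [Algebra k R] [Algebra.FiniteType k R] [HopfRep.Comod k A R]
    [GLin.IsCoactAlg k A R]
    [Algebra S R] [IsScalarTower k S R] [Algebra.QuasiFinite S R]
    (hequiv : (∀ s : S, HopfRep.Comod.coact (k := k) (A := A) (algebraMap S R s) =
      Algebra.TensorProduct.map (IsScalarTower.toAlgHom k S R) (AlgHom.id k A)
        (HopfRep.Comod.coact (k := k) (A := A) s))) :
    ∃ (B : Type u) (_ : CommRing B) (_ : Algebra k B) (_ : HopfRep.Comod k A B)
      (_ : GLin.IsCoactAlg k A B),
      Algebra.FiniteType k B ∧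
      ∃ (ψ : S →ₐ[k] B) (i : B →ₐ[k] R),
        (∀ s : S, HopfRep.Comod.coact (k := k) (A := A) (ψ s) =
        Algebra.TensorProduct.map ψ (AlgHom.id k A) (HopfRep.Comod.coact (k := k) (A := A) s)) ∧
        (∀ s : B, HopfRep.Comod.coact (k := k) (A := A) (i s) =
        Algebra.TensorProduct.map i (AlgHom.id k A) (HopfRep.Comod.coact (k := k) (A := A) s)) ∧
        i.comp ψ = IsScalarTower.toAlgHom k S R ∧ ψ.toRingHom.Finite ∧
        AlgebraicGeometry.IsOpenImmersion
          (AlgebraicGeometry.Spec.map (CommRingCat.ofHom i.toRingHom)) := by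
  classical
  haveI : Algebra.FiniteType S R := Algebra.FiniteType.of_restrictScalars_finiteType k S R
  obtain ⟨rs, T, hspan, hrsT, hTint, hsat⟩ := exists_finset_gens (S := S) (R := R)
  -- enlarge `T` to a finite set spanning a subcomodule of integral elements
  obtain ⟨T', hsub, hTT', hT'le⟩ := exists_fd_subcomod (k := k) (A := A) (intCl k R S)
    (isSubcomod_intCl R S hequiv) T (fun t ht => hTint t ht)
  set B : Subalgebra S R := Algebra.adjoin S (T' : Set R) with hBdef
  have hstab : Stable (k := k) (A := A) B := stable_adjoin (T' : Set R) hsub hequiv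
  have hspanB : ∀ w ∈ Submodule.span k (T' : Set R), w ∈ B := by
    intro w hw
    induction hw using Submodule.span_induction with
    | mem x hx => exact Algebra.subset_adjoin hx
    | zero => exact B.zero_mem
    | add x y _ _ hx hy => exact B.add_mem hx hy
    | smul c x _ hx =>
      rw [Algebra.smul_def, IsScalarTower.algebraMap_apply k S R]
      exact B.mul_mem (B.algebraMap_mem _) hx
  have hTB : ↑T ⊆ (B : Set R) := fun t ht => hspanB t (hTT' ht)
  have hfg : (Subalgebra.toSubmodule B).FG :=
    fg_adjoin_of_finite T'.finite_toSet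
      (fun x hx => hT'le (Submodule.subset_span hx))
  haveI hfin : Module.Finite S ↥B := Module.Finite.iff_fg.2 hfg
  haveI : Algebra.FiniteType k ↥B := Algebra.FiniteType.trans (R := k) (S := S) (A := ↥B)
    inferInstance inferInstance
  refine ⟨↥B, inferInstance, inferInstance, comodB B hstab, isCoactAlgB B hstab, inferInstance,
    IsScalarTower.toAlgHom k S ↥B, incl (k := k) B, ?_, ?_, ?_, ?_, ?_⟩
  · intro s
    exact coact_algebraMapB B hstab hequiv s
  · intro b
    exact (map_incl_coact B hstab b).symm
  · ext s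
    rfl
  · have : (IsScalarTower.toAlgHom k S ↥B).toRingHom = algebraMap S ↥B := rfl
    rw [this, RingHom.finite_algebraMap]
    exact hfin
  · apply isOpenImmersion_of_cover (incl (k := k) B).toRingHom Subtype.val_injective
      {b : ↥B | (b : R) ∈ rs}
    · rw [eq_top_iff, ← hspan]
      apply Ideal.span_mono
      intro r hr
      exact ⟨⟨r, hTB (hrsT hr)⟩, hr, rfl⟩
    · intro r hr y
      obtain ⟨m, hm⟩ := hsat B hTB r.1 hr y
      exact ⟨⟨_, hm⟩, m, rfl⟩

end Groth.Agent.Helper7.EqZMT
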