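import Mathlib
import Groth.Agent.Helper7.Deligne3
import Groth.Prelude.Def_CartDual

set_option autoImplicit false
set_option linter.unusedSectionVars false
set_option linter.unusedSimpArgs false
universe u v w
open TensorProduct WithConv

namespace Groth.Agent.Helper7.EtDual

open Groth.Agent.Helper7.Deligne

section BaseChange

variable {R : Type u} [CommRing R] {A : Type v} [CommRing A] [HopfAlgebra R A]
variable (S : Type w) [CommRing S] [Algebra R S] (C : Type*) [CommRing C] [Algebra R C]

lemma baseChange_convOne' :
    toConv ((1 : WithConv (A →ₗ[R] C)).ofConv.baseChange S) =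
      (1 : WithConv (S ⊗[R] A →ₗ[S] S ⊗[R] C)) := by
  apply WithConv.ofConv_injective
  ext a
  simp [LinearMap.convOne_def, Algebra.TensorProduct.algebraMap_apply, Algebra.algebraMap_eq_smul_one,
    TensorProduct.smul_tmul']
  rw [Algebra.TensorProduct.one_def, TensorProduct.smul_tmul']

lemma baseChange_aux' (f g : A →ₗ[R] C) (t : A ⊗[R] A) :
    (1 : S) ⊗ₜ[R] (LinearMap.mul' R C (map f g t)) =
      LinearMap.mul' S (S ⊗[R] C) (map (f.baseChange S) (g.baseChange S)
        (AlgebraTensorModule.tensorTensorTensorComm R S R S S S A A ((1 ⊗ₜ[S] 1) ⊗ₜ[R] t))) := by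
  induction t with
  | zero => simp
  | add x y hx hy => simp only [map_add, tmul_add, hx, hy]
  | tmul x y => simp

lemma baseChange_convMul' (f g : WithConv (A →ₗ[R] C)) :
    toConv ((f * g).ofConv.baseChange S) =
      (toConv (f.ofConv.baseChange S) * toConv (g.ofConv.baseChange S) :
        WithConv (S ⊗[R] A →ₗ[S] S ⊗[R] C)) := by
  apply WithConv.ofConv_injective
  ext a
  simp only [LinearMap.convMul_def, ofConv_toConv, TensorProduct.AlgebraTensorModule.curry_apply,
    LinearMap.restrictScalars_self, TensorProduct.curry_apply, LinearMap.baseChange_tmul,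
    LinearMap.comp_apply, TensorProduct.comul_tmul, CommSemiring.comul_apply]
  exact baseChange_aux' S C _ _ _

/-- base change as a ring hom of convolution rings. -/
noncomputable def bcHom' : WithConv (A →ₗ[R] C) →+* WithConv (S ⊗[R] A →ₗ[S] S ⊗[R] C) where
  toFun f := toConv (f.ofConv.baseChange S)
  map_one' := baseChange_convOne' S C
  map_mul' := baseChange_convMul' S C
  map_zero' := by
    apply WithConv.ofConv_injective
    simp
  map_add' f g := by
    apply WithConv.ofConv_injective
    simp [LinearMap.baseChange_add]

lemma bcHom'_apply (f : WithConv (A →ₗ[R] C)) (s : S) (a : A) :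
    (bcHom' S C f).ofConv (s ⊗ₜ a) = s ⊗ₜ f.ofConv a := rfl

end BaseChange

end Groth.Agent.Helper7.EtDual
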