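import Mathlib
import Groth.Agent.Helper7.EtDual

set_option autoImplicit false
set_option linter.unusedSectionVars false
set_option linter.unusedSimpArgs false
universe u v w
open TensorProduct WithConv

namespace Groth.Agent.Helper7.EtDual

open Groth.Agent.Helper7.Deligne

section SepClosed

variable (K : Type u) [Field K] [IsSepClosed K] (B : Type v) [CommRing B] [Algebra K B]
  [Module.Finite K B] [Algebra.Etale K B]

/-- Over a separably closed field, the dual of a finite étale algebra is spanned by the points. -/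
theorem span_algHom_eq_top :
    Submodule.span K (Set.range fun g : B →ₐ[K] K => g.toLinearMap) =
      (⊤ : Submodule K (Module.Dual K B)) := by
  rw [← Subspace.dualCoannihilator_dualAnnihilator_eq
    (W := Submodule.span K (Set.range fun g : B →ₐ[K] K => g.toLinearMap))]
  have : (Submodule.span K (Set.range fun g : B →ₐ[K] K => g.toLinearMap)).dualCoannihilator = ⊥ := by
    rw [eq_bot_iff]
    intro b hb
    rw [Submodule.mem_dualCoannihilator] at hb
    have h0 : Algebra.FormallyEtale.equivPiOfIsSepClosed K B b = 0 := by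
      ext i
      exact hb _ (Submodule.subset_span
        ⟨(Pi.evalAlgHom K _ i).comp (Algebra.FormallyEtale.equivPiOfIsSepClosed K B).toAlgHom, rfl⟩)
    simpa using h0
  rw [this, Submodule.dualAnnihilator_bot]

end SepClosed

section Nil

variable {K : Type u} [Field K] [IsSepClosed K] {B : Type v} [CommRing B] [HopfAlgebra K B]
  [Coalgebra.IsCocomm K B] [Module.Finite K B] [Algebra.Etale K B]

/-- A point `g` of a finite commutative group scheme of order `N` satisfies `g ^ N = 1` in the
dual algebra. -/
lemma point_pow_finrank (g : B →ₐ[K] K) :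
    (toConv g.toLinearMap : WithConv (B →ₗ[K] K)) ^ Module.finrank K B = 1 := by
  have h := pow_card_eq_one_lin (Module.finBasis K B)
  have h2 := congrArg (postHom g) h
  rw [map_pow, map_one, Fintype.card_fin] at h2
  exact h2

variable (p : ℕ) [Fact p.Prime] [CharP K p]

theorem isNilpotent_of_apply_one (n : ℕ) (hB : Module.finrank K B = p ^ n)
    (φ : WithConv (B →ₗ[K] K)) (h : φ.ofConv 1 = 0) : IsNilpotent φ := by
  have hnt : Nontrivial B := Module.nontrivial_of_finrank_pos (R := K) (by rw [hB]; exact pow_pos (Fact.out : p.Prime).pos n)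
  have hD : Nontrivial (WithConv (B →ₗ[K] K)) := by
    refine ⟨⟨1, 0, fun h10 => ?_⟩⟩
    have := congrArg (fun f : WithConv (B →ₗ[K] K) => f.ofConv 1) h10
    simp [LinearMap.convOne_def] at this
  have hchar : CharP (WithConv (B →ₗ[K] K)) p :=
    charP_of_injective_algebraMap (algebraMap K (WithConv (B →ₗ[K] K))).injective p
  let nil := nilradical (WithConv (B →ₗ[K] K))
  let L : Module.Dual K B →ₗ[K] (WithConv (B →ₗ[K] K) ⧸ nil) :=
    (Ideal.Quotient.mkₐ K nil).toLinearMap ∘ₗ
      ((WithConv.linearEquiv K (B →ₗ[K] K)).symm.toLinearMap -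
        (Algebra.linearMap K (WithConv (B →ₗ[K] K))) ∘ₗ (LinearMap.applyₗ (1 : B)))
  have hL : L = 0 := by
    apply LinearMap.ext_on (span_algHom_eq_top K B)
    rintro _ ⟨g, rfl⟩
    change Ideal.Quotient.mk nil (toConv g.toLinearMap - algebraMap K _ (g 1)) = 0
    rw [Ideal.Quotient.eq_zero_iff_mem, mem_nilradical, map_one, map_one]
    refine ⟨p ^ n, ?_⟩
    rw [sub_pow_char_pow, one_pow, ← hB, point_pow_finrank, sub_self]
  have h1 := LinearMap.congr_fun hL φ.ofConv
  change Ideal.Quotient.mk nil (φ - algebraMap K _ (φ.ofConv 1)) = 0 at h1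
  rw [h, map_zero, sub_zero, Ideal.Quotient.eq_zero_iff_mem, mem_nilradical] at h1
  exact h1

end Nil

section Descent

variable {k : Type u} [Field k] {A : Type v} [CommRing A] [HopfAlgebra k A]
  [Coalgebra.IsCocomm k A]

variable (K : Type w) [Field K] [Algebra k K]

/-- The comparison map from the dual over `k` to the dual of the base change. -/
noncomputable def Ψ : WithConv (A →ₗ[k] k) →+* WithConv (K ⊗[k] A →ₗ[K] K) :=
  (postHom (Algebra.TensorProduct.rid k K K).toAlgHom).comp (bcHom' K k)

lemma Ψ_apply (φ : WithConv (A →ₗ[k] k)) (a : A) :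
    (Ψ K φ).ofConv (1 ⊗ₜ a) = algebraMap k K (φ.ofConv a) := by
  change (Algebra.TensorProduct.rid k K K) ((1 : K) ⊗ₜ[k] φ.ofConv a) = _
  rw [Algebra.TensorProduct.rid_tmul, Algebra.algebraMap_eq_smul_one]

lemma Ψ_injective : Function.Injective (Ψ (k := k) (A := A) K) := by
  rw [injective_iff_map_eq_zero]
  intro φ hφ
  apply WithConv.ofConv_injective
  ext a
  have := Ψ_apply K φ a
  rw [hφ] at this
  simp only [WithConv.ofConv_zero, LinearMap.zero_apply] at this ⊢
  exact (algebraMap k K).injective (by rw [← this, map_zero])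

end Descent

section Main

variable {k : Type u} [Field k] {A : Type u} [CommRing A] [HopfAlgebra k A]
  [Coalgebra.IsCocomm k A] [Module.Finite k A] [Algebra.Etale k A]
  (p : ℕ) [Fact p.Prime] [CharP k p]

theorem isNilpotent_of_apply_one' (n : ℕ) (hA : Module.finrank k A = p ^ n)
    (φ : WithConv (A →ₗ[k] k)) (h : φ.ofConv 1 = 0) : IsNilpotent φ := by
  have : CharP (AlgebraicClosure k) p :=
    charP_of_injective_algebraMap (algebraMap k (AlgebraicClosure k)).injective p
  have hB : Module.finrank (AlgebraicClosure k) (AlgebraicClosure k ⊗[k] A) = p ^ n := by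
    rw [Module.finrank_baseChange, hA]
  have h1 : (Ψ (AlgebraicClosure k) φ).ofConv 1 = 0 := by
    rw [Algebra.TensorProduct.one_def, Ψ_apply, h, map_zero]
  obtain ⟨m, hm⟩ := isNilpotent_of_apply_one p n hB _ h1
  refine ⟨m, Ψ_injective (AlgebraicClosure k) ?_⟩
  rw [map_pow, hm, map_zero]

theorem isLocalRing_dual (n : ℕ) (hA : Module.finrank k A = p ^ n) :
    IsLocalRing (WithConv (A →ₗ[k] k)) := by
  have hnt : Nontrivial A := Module.nontrivial_of_finrank_pos (R := k)
    (by rw [hA]; exact pow_pos (Fact.out : p.Prime).pos n)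
  have hD : Nontrivial (WithConv (A →ₗ[k] k)) := by
    refine ⟨⟨1, 0, fun h10 => ?_⟩⟩
    have := congrArg (fun f : WithConv (A →ₗ[k] k) => f.ofConv 1) h10
    simp [LinearMap.convOne_def] at this
  apply IsLocalRing.of_isUnit_or_isUnit_one_sub_self
  intro φ
  have hν : IsNilpotent (φ - algebraMap k _ (φ.ofConv 1)) := by
    apply isNilpotent_of_apply_one' p n hA
    simp [LinearMap.convOne_def, Algebra.algebraMap_eq_smul_one]
  by_cases hc : φ.ofConv 1 = 0
  · right
    rw [hc, map_zero, sub_zero] at hν
    exact hν.isUnit_one_sub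
  · left
    have hu : IsUnit (algebraMap k (WithConv (A →ₗ[k] k)) (φ.ofConv 1)) :=
      (IsUnit.mk0 _ hc).map _
    have := hν.isUnit_add_left_of_commute hu (Commute.all _ _)
    rwa [add_sub_cancel] at this

end Main

end Groth.Agent.Helper7.EtDual
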