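import Mathlib

set_option autoImplicit false
universe u

namespace Groth.Agent.Helper7.EtLocFin

/-- In a ring with finite spectrum, the localization at a prime is a localization away from one
element. -/
theorem exists_away {B : Type u} [CommRing B] [Finite (PrimeSpectrum B)] (P : Ideal B) [P.IsPrime] :
    ∃ f : B, f ∉ P ∧ ∀ n : B, n ∉ P → ∃ k : ℕ, n ∣ f ^ k := by
  classical
  let S : Set (PrimeSpectrum B) := {Q | ¬ Q.asIdeal ≤ P}
  have hSfin : S.Finite := Set.toFinite S
  have h1 : ¬ (hSfin.toFinset.inf fun Q : PrimeSpectrum B => Q.asIdeal) ≤ P := by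
    intro hle
    rw [Ideal.IsPrime.inf_le' (hp := inferInstance)] at hle
    obtain ⟨Q, hQ, hQP⟩ := hle
    rw [Set.Finite.mem_toFinset] at hQ
    exact hQ hQP
  obtain ⟨f, hfI, hfP⟩ := Set.not_subset.mp h1
  refine ⟨f, hfP, ?_⟩
  have hf : ∀ Q : PrimeSpectrum B, f ∉ Q.asIdeal → Q.asIdeal ≤ P := by
    intro Q hfQ
    by_contra hQP
    apply hfQ
    have hQS : Q ∈ hSfin.toFinset := by
      rw [Set.Finite.mem_toFinset]; exact hQP
    exact (Finset.inf_le hQS : (hSfin.toFinset.inf fun Q : PrimeSpectrum B => Q.asIdeal) ≤ Q.asIdeal) hfI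
  intro n hn
  by_contra hcon
  push Not at hcon
  have hdisj : Disjoint ((Ideal.span {n} : Ideal B) : Set B) (Submonoid.powers f) := by
    rw [Set.disjoint_left]
    rintro x hx ⟨k, rfl⟩
    exact hcon k (Ideal.mem_span_singleton.mp hx)
  obtain ⟨Q, hQp, hnQ, hQd⟩ := Ideal.exists_le_prime_disjoint _ _ hdisj
  have hfQ : f ∉ Q := fun h => Set.disjoint_left.mp hQd h ⟨1, pow_one f⟩
  have := hf ⟨Q, hQp⟩ hfQ
  exact hn (this (hnQ (Ideal.subset_span rfl)))

theorem etale_of_atPrime {R B T : Type u} [CommRing R] [CommRing B] [CommRing T] [Algebra R B]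
    [Algebra.Etale R B] [Algebra B T] [Algebra R T] [IsScalarTower R B T]
    [Finite (PrimeSpectrum B)] (P : Ideal B) [P.IsPrime] [IsLocalization.AtPrime T P] :
    Algebra.Etale R T := by
  obtain ⟨f, hfP, hdvd⟩ := exists_away P
  haveI : IsLocalization P.primeCompl (Localization.Away f) := by
    refine IsLocalization.of_le_of_exists_dvd (Submonoid.powers f) P.primeCompl ?_ ?_
    · rintro x ⟨k, rfl⟩
      exact fun h => hfP (Ideal.IsPrime.mem_of_pow_mem inferInstance k h)
    · intro n hn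
      obtain ⟨k, hk⟩ := hdvd n hn
      exact ⟨f ^ k, ⟨k, rfl⟩, hk⟩
  let e : Localization.Away f ≃ₐ[B] T := IsLocalization.algEquiv P.primeCompl _ _
  exact Algebra.Etale.of_equiv (e.restrictScalars R)

end Groth.Agent.Helper7.EtLocFin
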