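import Mathlib
import Groth.Agent.Helper7.EtDual2
import Groth.Agent.Helper7.HopfExt

set_option autoImplicit false
set_option linter.unusedSectionVars false
set_option linter.unusedSimpArgs false
universe u v w
open TensorProduct WithConv Coalgebra

namespace Groth.Agent.Helper7.EtOrder

open Groth.Agent.Helper7.Deligne Groth.Agent.Helper7.UnitSm Groth.Agent.Helper2.HopfDiff

section Der

variable {R : Type u} [CommRing R] {A : Type v} [CommRing A] [HopfAlgebra R A]

local notation "ε" => Bialgebra.counitAlgHom R A

lemma sum_smul_counit (a : A) (𝓡 : Coalgebra.Repr R a (A × A)) :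
    ∑ x ∈ 𝓡.index, counit (R := R) (𝓡.right x) • 𝓡.left x = a := by
  have h := congrArg (TensorProduct.rid R A) (Coalgebra.sum_tmul_counit_eq 𝓡)
  simpa only [map_sum, TensorProduct.rid_tmul, one_smul] using h

lemma counit_convMul (f g : WithConv (A →ₗ[R] A))
    (hf : ∀ a, counit (R := R) (f.ofConv a) = counit a)
    (hg : ∀ a, counit (R := R) (g.ofConv a) = counit a) (a : A) :
    counit (R := R) ((f * g).ofConv a) = counit a := by
  change counit (R := R) ((f * g) a) = _
  rw [(ℛ R a).convMul_apply, map_sum]
  simp only [Bialgebra.counit_mul]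
  change ∑ i ∈ (ℛ R a).index, counit (R := R) (f.ofConv ((ℛ R a).left i)) *
    counit (R := R) (g.ofConv ((ℛ R a).right i)) = _
  simp only [hf, hg]
  have h := congrArg (counit (R := R)) (Coalgebra.sum_counit_smul (ℛ R a))
  simpa only [map_sum, map_smul, smul_eq_mul] using h

lemma der_convMul (f g : WithConv (A →ₗ[R] A))
    (hf : ∀ a, counit (R := R) (f.ofConv a) = counit a)
    (hg : ∀ a, counit (R := R) (g.ofConv a) = counit a) (a : A) :
    der ε ((f * g).ofConv a) = der ε (f.ofConv a) + der ε (g.ofConv a) := by
  change der ε ((f * g) a) = _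
  rw [(ℛ R a).convMul_apply, map_sum]
  simp only [Derivation.leibniz, smul_eq_eps_smul']
  change ∑ i ∈ (ℛ R a).index, (counit (R := R) (f.ofConv ((ℛ R a).left i)) •
      der ε (g.ofConv ((ℛ R a).right i)) +
    counit (R := R) (g.ofConv ((ℛ R a).right i)) • der ε (f.ofConv ((ℛ R a).left i))) = _
  simp only [hf, hg]
  rw [Finset.sum_add_distrib, add_comm]
  congr 1
  · have h := congrArg (fun x => der ε (f.ofConv x)) (sum_smul_counit a (ℛ R a))
    simpa only [map_sum, map_smul, Derivation.map_smul] using h
  · have h := congrArg (fun x => der ε (g.ofConv x)) (Coalgebra.sum_counit_smul (ℛ R a))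
    simpa only [map_sum, map_smul, Derivation.map_smul] using h

lemma pow_props (m : ℕ) (a : A) :
    counit (R := R) (((toConv (LinearMap.id : A →ₗ[R] A)) ^ m).ofConv a) = counit a ∧
      der ε (((toConv (LinearMap.id : A →ₗ[R] A)) ^ m).ofConv a) = m • der ε a := by
  induction m generalizing a with
  | zero =>
    constructor
    · simp [LinearMap.convOne_def]
    · simp [LinearMap.convOne_def]
  | succ m ih =>
    constructor
    · rw [pow_succ]
      exact counit_convMul _ _ (fun a => (ih a).1) (fun a => rfl) a
    · rw [pow_succ, der_convMul _ _ (fun a => (ih a).1) (fun a => rfl), (ih a).2, succ_nsmul]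
      rfl

end Der

section Field

variable {k : Type u} [Field k] {A : Type v} [CommRing A] [HopfAlgebra k A]
  [Coalgebra.IsCocomm k A] [Module.Finite k A]

/-- A finite commutative group scheme over a field whose order is invertible is étale. -/
theorem etale_of_finrank_ne_zero (h : (Module.finrank k A : k) ≠ 0) : Algebra.Etale k A := by
  apply HopfExt.etale_of_sq_eq
  apply le_antisymm (Ideal.pow_le_self two_ne_zero)
  intro a ha
  have h1 := pow_card_eq_one_lin (Module.finBasis k A)
  rw [Fintype.card_fin] at h1
  have h2 := (pow_props (R := k) (Module.finrank k A) a).2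
  rw [h1] at h2
  have h3 : der (Bialgebra.counitAlgHom k A) a = 0 := by
    have h4 : (Module.finrank k A : k) • der (Bialgebra.counitAlgHom k A) a = 0 := by
      rw [Nat.cast_smul_eq_nsmul, ← h2]
      simp [LinearMap.convOne_def]
    exact (smul_eq_zero.1 h4).resolve_left h
  rw [der_apply_of_mem _ a ha, Ideal.toCotangent_eq_zero] at h3
  exact h3

end Field

section Trace

variable {R : Type u} [CommRing R] {A : Type v} [CommRing A] [HopfAlgebra R A]
  [Coalgebra.IsCocomm R A]

/-- the universal translation as an `A`-algebra automorphism of `A ⊗ A` -/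
noncomputable def Tequiv : A ⊗[R] A ≃ₐ[A] A ⊗[R] A :=
  AlgEquiv.ofAlgHom
    { (T R A) with
      commutes' := fun c => by
        change (T R A) ((i1 R A) c) = (i1 R A) c
        rw [← AlgHom.comp_apply, T_comp_i1] }
    { (T' R A) with
      commutes' := fun c => by
        change (T' R A) ((i1 R A) c) = (i1 R A) c
        rw [← AlgHom.comp_apply, T'_comp_i1] }
    (by
      apply AlgHom.ext
      intro x
      change (T R A) ((T' R A) x) = x
      rw [← AlgHom.comp_apply, T_comp_T']; rfl)
    (by
      apply AlgHom.ext
      intro x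
      change (T' R A) ((T R A) x) = x
      rw [← AlgHom.comp_apply, T'_comp_T]; rfl)

lemma Tequiv_one_tmul (y : A) : Tequiv (R := R) ((1 : A) ⊗ₜ[R] y) = comul y := by
  change (T R A) ((i2 R A) y) = _
  rw [← AlgHom.comp_apply, T_comp_i2]; rfl

variable [Module.Finite R A] [Module.Free R A]

lemma trace_tensor :
    Algebra.trace A (A ⊗[R] A) =
      (AlgebraTensorModule.rid R A A).toLinearMap ∘ₗ (Algebra.trace R A).baseChange A := by
  ext y
  simp only [AlgebraTensorModule.curry_apply, LinearMap.restrictScalars_self, curry_apply,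
    LinearMap.coe_restrictScalars, LinearMap.comp_apply, LinearMap.baseChange_tmul,
    LinearEquiv.coe_coe, AlgebraTensorModule.rid_tmul]
  rw [Algebra.trace_apply, Algebra.trace_apply]
  have : Algebra.lmul A (A ⊗[R] A) ((1 : A) ⊗ₜ[R] y) = (Algebra.lmul R A y).baseChange A := by
    ext z
    simp
  rw [this, LinearMap.trace_baseChange, Algebra.algebraMap_eq_smul_one]

/-- The trace form is a (two-sided) integral: `Σ a₁ Tr(a₂) = Tr(a) 1`. -/
theorem trace_integral (a : A) :
    (AlgebraTensorModule.rid R A A) ((Algebra.trace R A).baseChange A (comul a)) =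
      algebraMap R A (Algebra.trace R A a) := by
  have h1 := Algebra.trace_eq_of_algEquiv (Tequiv (R := R) (A := A)) ((1 : A) ⊗ₜ[R] a)
  rw [Tequiv_one_tmul, trace_tensor] at h1
  simp only [LinearMap.comp_apply, LinearEquiv.coe_coe, LinearMap.baseChange_tmul,
    AlgebraTensorModule.rid_tmul] at h1
  rw [h1, Algebra.algebraMap_eq_smul_one]

lemma mul'_map_eq (φ ψ : A →ₗ[R] R) (t : A ⊗[R] A) :
    LinearMap.mul' R R (map φ ψ t) = φ ((AlgebraTensorModule.rid R A A) (ψ.baseChange A t)) := by
  induction t with
  | zero => simp
  | add x y hx hy => simp only [map_add, hx, hy]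
  | tmul x y => simp [mul_comm]

/-- The trace, viewed in the dual algebra, squares to `rank • trace`. -/
theorem trace_conv_sq [Nontrivial R] :
    (toConv (Algebra.trace R A) : WithConv (A →ₗ[R] R)) * toConv (Algebra.trace R A) =
      (Module.finrank R A : R) • toConv (Algebra.trace R A) := by
  apply WithConv.ofConv_injective
  ext a
  rw [LinearMap.convMul_def]
  simp only [ofConv_toConv, LinearMap.comp_apply]
  rw [mul'_map_eq, trace_integral, Algebra.trace_algebraMap]
  simp [mul_comm]

end Trace

section Field2

variable {k : Type u} [Field k] {A : Type v} [CommRing A] [HopfAlgebra k A] [Module.Finite k A]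

/-- For an étale finite Hopf algebra over a field, the trace form is nonzero. -/
theorem trace_ne_zero_of_etale [Algebra.Etale k A] : Algebra.trace k A ≠ 0 := by
  have hsq := HopfExt.ker_sq_eq_of_unramified (Bialgebra.counitAlgHom k A)
  have : IsNoetherianRing A := IsNoetherianRing.of_finite k A
  have hfg : (RingHom.ker (Bialgebra.counitAlgHom k A)).FG := IsNoetherian.noetherian _
  have hid : IsIdempotentElem (RingHom.ker (Bialgebra.counitAlgHom k A)) := by
    rw [IsIdempotentElem, ← pow_two]; exact hsq
  obtain ⟨e', he', hI⟩ := (Ideal.isIdempotentElem_iff_of_fg _ hfg).1 hid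
  have he'0 : counit (R := k) e' = 0 := by
    have : e' ∈ RingHom.ker (Bialgebra.counitAlgHom k A) := by
      rw [hI]; exact Ideal.mem_span_singleton_self e'
    exact this
  have hmul : ∀ a : A, a * (1 - e') = counit (R := k) a • (1 - e') := by
    intro a
    have h1 : a - algebraMap k A (counit (R := k) a) ∈ RingHom.ker (Bialgebra.counitAlgHom k A) :=
      sub_mem_I (Bialgebra.counitAlgHom k A) a
    rw [hI, Ideal.mem_span_singleton'] at h1
    obtain ⟨c, hc⟩ := h1
    have h2 : (a - algebraMap k A (counit (R := k) a)) * (1 - e') = 0 := by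
      rw [← hc, mul_assoc, mul_sub, mul_one, he'.eq, sub_self, mul_zero]
    rw [sub_mul, sub_eq_zero] at h2
    rw [h2, Algebra.smul_def]
  have hlm : Algebra.lmul k A (1 - e') = (counit (R := k) (A := A)).smulRight (1 - e') := by
    ext a
    change (1 - e') * a = counit (R := k) a • (1 - e')
    rw [mul_comm, hmul]
  intro h0
  have h1 : Algebra.trace k A (1 - e') = 1 := by
    rw [Algebra.trace_apply, hlm, LinearMap.trace_smulRight, map_sub, he'0, sub_zero]
    simp
  rw [h0] at h1
  simp at h1

end Field2

section Main

variable (k : Type u) [Field k] (p : ℕ) [Fact p.Prime] [CharP k p]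
  (A : Type u) [CommRing A] [HopfAlgebra k A] [Coalgebra.IsCocomm k A] [FiniteDimensional k A]

theorem etale_etale_iff :
    (Algebra.Etale k A ∧ Algebra.Etale k (CartDual.D k A)) ↔ ¬ p ∣ Module.finrank k A := by
  constructor
  · rintro ⟨h1, h2⟩ hdvd
    have hn : (Module.finrank k A : k) = 0 := (CharP.cast_eq_zero_iff k p _).2 hdvd
    have hsq := trace_conv_sq (R := k) (A := A)
    rw [hn, zero_smul] at hsq
    have hred : IsReduced (CartDual.D k A) := Algebra.FormallyUnramified.isReduced_of_field k _
    have h0 : (toConv (Algebra.trace k A) : CartDual.D k A) = 0 := by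
      apply IsReduced.eq_zero
      exact ⟨2, by rw [pow_two]; exact hsq⟩
    apply trace_ne_zero_of_etale (k := k) (A := A)
    have := congrArg WithConv.ofConv h0
    simpa using this
  · intro hdvd
    have hn : (Module.finrank k A : k) ≠ 0 := fun h => hdvd ((CharP.cast_eq_zero_iff k p _).1 h)
    refine ⟨etale_of_finrank_ne_zero hn, ?_⟩
    apply etale_of_finrank_ne_zero
    have : Module.finrank k (CartDual.D k A) = Module.finrank k A := by
      rw [(CartDual.toDual k A).finrank_eq, Subspace.dual_finrank_eq]
    rw [this]
    exact hn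

end Main

end Groth.Agent.Helper7.EtOrder
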