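import Mathlib

/-!
# EtaEtA: an unramified map between smooth algebras of the same relative dimension is formally étale
(Jacobi–Zariski sequence + ranks of differentials).
-/

set_option autoImplicit false
universe u
open TensorProduct

namespace Groth.Agent.Helper7.EtaEt

/-- `S₁ → S₂` a map of formally smooth `K`-algebras with `Ω` finite of the same constant rank `d` and
`Ω_{S₂/S₁} = 0`: then `S₂` is formally étale over `S₁`. -/
theorem formallyEtale_of_rank {K S₁ S₂ : Type u} [CommRing K] [CommRing S₁] [CommRing S₂]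
    [Algebra K S₁] [Algebra K S₂] [Algebra S₁ S₂] [IsScalarTower K S₁ S₂]
    [Algebra.FormallySmooth K S₁] [Algebra.FormallySmooth K S₂]
    [Module.Finite S₁ Ω[S₁⁄K]] [Module.Finite S₂ Ω[S₂⁄K]]
    (d : ℕ) (h1 : ∀ p, Module.rankAtStalk (R := S₁) Ω[S₁⁄K] p = d)
    (h2 : ∀ p, Module.rankAtStalk (R := S₂) Ω[S₂⁄K] p = d)
    [Subsingleton Ω[S₂⁄S₁]] : Algebra.FormallyEtale S₁ S₂ := by
  have hsurj : Function.Surjective (KaehlerDifferential.mapBaseChange K S₁ S₂) := by
    intro ω
    have hex := KaehlerDifferential.exact_mapBaseChange_map K S₁ S₂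
    exact (hex ω).1 (Subsingleton.elim _ _)
  have hbij : Function.Bijective (KaehlerDifferential.mapBaseChange K S₁ S₂) := by
    apply Module.bijective_of_surjective_of_rankAtStalk_eq hsurj
    intro m _
    rw [Module.rankAtStalk_baseChange, h1, h2]
  refine ⟨inferInstance, ⟨fun x y => ?_⟩⟩
  have key : ∀ z : Algebra.H1Cotangent S₁ S₂, z = 0 := by
    intro z
    have e1 : KaehlerDifferential.mapBaseChange K S₁ S₂ (Algebra.H1Cotangent.δ K S₁ S₂ z) = 0 :=
      (Algebra.H1Cotangent.exact_δ_mapBaseChange K S₁ S₂ _).2 ⟨z, rfl⟩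
    have e2 : Algebra.H1Cotangent.δ K S₁ S₂ z = 0 := hbij.1 (by rw [e1, map_zero])
    obtain ⟨w, hw⟩ := (Algebra.H1Cotangent.exact_map_δ K S₁ S₂ z).1 e2
    rw [← hw, Subsingleton.elim w 0, map_zero]
  rw [key x, key y]

/-- the rank of `Ω` of a locally standard smooth algebra of relative dimension `d` -/
theorem rankAtStalk_kaehler_of_locally {K S : Type u} [CommRing K] [CommRing S] [Algebra K S]
    [Algebra.FormallySmooth K S] [Module.Finite S Ω[S⁄K]] (d : ℕ)
    (h : RingHom.Locally (RingHom.IsStandardSmoothOfRelativeDimension d) (algebraMap K S))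
    (p : PrimeSpectrum S) : Module.rankAtStalk (R := S) Ω[S⁄K] p = d := by
  obtain ⟨s, hs, hP⟩ := h
  obtain ⟨t, hts, htp⟩ : ∃ t ∈ s, t ∉ p.asIdeal := by
    by_contra hcon
    push Not at hcon
    have : Ideal.span s ≤ p.asIdeal := Ideal.span_le.2 hcon
    rw [hs] at this
    exact p.isPrime.ne_top (top_le_iff.1 this)
  have h1 := hP t hts
  rw [← IsScalarTower.algebraMap_eq K S (Localization.Away t),
    RingHom.isStandardSmoothOfRelativeDimension_algebraMap] at h1
  have hdisj : Disjoint (Submonoid.powers t : Set S) (p.asIdeal : Set S) := by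
    rw [Set.disjoint_left]
    rintro _ ⟨n, rfl⟩ hn
    exact htp (p.isPrime.mem_of_pow_mem n hn)
  have hprime : (Ideal.map (algebraMap S (Localization.Away t)) p.asIdeal).IsPrime :=
    IsLocalization.isPrime_of_isPrime_disjoint (Submonoid.powers t) _ _ p.isPrime hdisj
  let p' : PrimeSpectrum (Localization.Away t) := ⟨_, hprime⟩
  have hcomap : PrimeSpectrum.comap (algebraMap S (Localization.Away t)) p' = p := by
    ext1
    exact IsLocalization.under_map_of_isPrime_disjoint (Submonoid.powers t) _ p.isPrime hdisj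
  haveI : Nontrivial (Localization.Away t) := ⟨⟨0, 1, fun h01 => by
    apply hprime.ne_top
    rw [Ideal.eq_top_iff_one, ← h01]; exact Ideal.zero_mem _⟩⟩
  haveI : Algebra.IsStandardSmooth K (Localization.Away t) :=
    Algebra.IsStandardSmoothOfRelativeDimension.isStandardSmooth d
  have hbc : IsBaseChange (Localization.Away t) (KaehlerDifferential.map K K S (Localization.Away t)) :=
    KaehlerDifferential.isBaseChange_of_formallyEtale K S (Localization.Away t)
  have h2 := Module.rankAtStalk_isBaseChange hbc p'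
  rw [hcomap] at h2
  rw [← h2, Module.rankAtStalk_eq_finrank_of_free]
  exact Module.finrank_eq_of_rank_eq
    (Algebra.IsStandardSmoothOfRelativeDimension.rank_kaehlerDifferential d)

open AlgebraicGeometry in
/-- translation of the scheme-theoretic hypothesis -/
theorem smooth_and_rank_of_smoothOfRelativeDimension {K S : Type u} [CommRing K] [CommRing S]
    [Algebra K S] (d : ℕ)
    (h : SmoothOfRelativeDimension d (Spec.map (CommRingCat.ofHom (algebraMap K S)))) :
    ∃ _ : Algebra.Smooth K S, ∀ p : PrimeSpectrum S, Module.rankAtStalk (R := S) Ω[S⁄K] p = d := by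
  have h1 : RingHom.Locally (RingHom.IsStandardSmoothOfRelativeDimension d) (algebraMap K S) := by
    have := (HasRingHomProperty.Spec_iff (P := @SmoothOfRelativeDimension d)).1 h
    simpa using this
  haveI := h
  have h2 : Smooth (Spec.map (CommRingCat.ofHom (algebraMap K S))) :=
    SmoothOfRelativeDimension.smooth d _
  have h3 : (algebraMap K S).Smooth := by
    have := (HasRingHomProperty.Spec_iff (P := @Smooth)).1 h2
    simpa using this
  have h4 : Algebra.Smooth K S := RingHom.smooth_algebraMap.1 h3
  refine ⟨h4, fun p => ?_⟩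
  exact rankAtStalk_kaehler_of_locally d h1 p

end Groth.Agent.Helper7.EtaEt
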