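import Mathlib
import Groth.Agent.Helper7.EtaEtA

/-!
# EtaEtB: algebraic lemmas for the η-étale criterion.
-/

set_option autoImplicit false
universe u
open TensorProduct

namespace Groth.Agent.Helper7.EtaEt

/-- étale after inverting `s` kills `Ω_{R/A}` by a power of `s` -/
theorem exists_pow_smul_eq_zero {A R T : Type u} [CommRing A] [CommRing R] [CommRing T]
    [Algebra A R] [Algebra R T] [Algebra.FiniteType A R] (s : R) [IsLocalization.Away s T]
    (hét : ((algebraMap R T).comp (algebraMap A R)).Etale) :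
    ∃ m : ℕ, ∀ ω : Ω[R⁄A], s ^ m • ω = 0 := by
  letI : Algebra A T := ((algebraMap R T).comp (algebraMap A R)).toAlgebra
  haveI : IsScalarTower A R T := IsScalarTower.of_algebraMap_eq' rfl
  have hét' : Algebra.Etale A T := hét
  haveI := hét'.formallyEtale
  haveI : Subsingleton Ω[T⁄A] := Algebra.FormallyUnramified.subsingleton_kaehlerDifferential
  have hloc : ∀ ω : Ω[R⁄A], ∃ m : ℕ, s ^ m • ω = 0 := by
    intro ω
    have h0 : KaehlerDifferential.map A A R T ω = 0 := Subsingleton.elim _ _
    rw [IsLocalizedModule.eq_zero_iff (Submonoid.powers s)] at h0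
    obtain ⟨⟨_, m, rfl⟩, hm⟩ := h0
    exact ⟨m, hm⟩
  obtain ⟨G, hG⟩ := (Module.Finite.fg_top : (⊤ : Submodule R Ω[R⁄A]).FG)
  choose m hm using hloc
  refine ⟨G.sup m, fun ω => ?_⟩
  have hω : ω ∈ Submodule.span R (G : Set Ω[R⁄A]) := by rw [hG]; exact Submodule.mem_top
  induction hω using Submodule.span_induction with
  | mem x hx =>
    have hle : m x ≤ G.sup m := Finset.le_sup hx
    obtain ⟨k, hk⟩ := Nat.exists_eq_add_of_le hle
    rw [hk, pow_add, mul_comm, mul_smul, hm, smul_zero]
  | zero => rw [smul_zero]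
  | add x y _ _ hx hy => rw [smul_add, hx, hy, add_zero]
  | smul c x _ hx => rw [smul_comm, hx, smul_zero]

/-- Nakayama: `N = ϖN` finitely generated is killed by some `a` comaximal with `ϖ` -/
theorem exists_comaximal_smul_eq_zero {R M : Type*} [CommRing R] [AddCommGroup M] [Module R M]
    (N : Submodule R M) (hN : N.FG) (ϖ : R) (h : N ≤ Ideal.span {ϖ} • N) :
    ∃ a : R, Ideal.span {a} ⊔ Ideal.span {ϖ} = ⊤ ∧ ∀ n ∈ N, a • n = 0 := by
  obtain ⟨r, hr1, hr2⟩ :=
    Submodule.exists_sub_one_mem_and_smul_eq_zero_of_fg_of_le_smul (Ideal.span {ϖ}) N hN h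
  refine ⟨r, ?_, hr2⟩
  rw [Ideal.eq_top_iff_one]
  have : (1 : R) = r - (r - 1) := by ring
  rw [this]
  exact Ideal.sub_mem _ (Ideal.mem_sup_left (Ideal.subset_span rfl)) (Ideal.mem_sup_right hr1)

/-- the abstract étaleness statement for a localization of `RK` over `AK` -/
theorem formallyEtale_localization {K AK RK T' : Type u} [CommRing K] [CommRing AK] [CommRing RK]
    [CommRing T'] [Algebra K AK] [Algebra K RK] [Algebra AK RK] [IsScalarTower K AK RK]
    [Algebra RK T'] [Algebra K T'] [Algebra AK T'] [IsScalarTower K RK T']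
    [IsScalarTower AK RK T'] [IsScalarTower K AK T']
    (t : RK) [IsLocalization.Away t T']
    [Algebra.Smooth K AK] [Algebra.Smooth K RK] (d : ℕ)
    (h1 : ∀ p, Module.rankAtStalk (R := AK) Ω[AK⁄K] p = d)
    (h2 : ∀ p, Module.rankAtStalk (R := RK) Ω[RK⁄K] p = d)
    (hkill : ∀ z : RK, ∃ w : RK, IsUnit (algebraMap RK T' w) ∧
      w • KaehlerDifferential.D AK RK z = 0) :
    Algebra.FormallyEtale AK T' := by
  haveI : Algebra.FormallyEtale RK T' := Algebra.FormallyEtale.of_isLocalization (Submonoid.powers t)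
  haveI : Algebra.FormallySmooth K T' := Algebra.FormallySmooth.comp K RK T'
  haveI : Algebra.EssFiniteType RK T' := Algebra.EssFiniteType.of_isLocalization T' (Submonoid.powers t)
  haveI : Algebra.EssFiniteType K T' := Algebra.EssFiniteType.comp K RK T'
  have hbc : IsBaseChange T' (KaehlerDifferential.map K K RK T') :=
    KaehlerDifferential.isBaseChange_of_formallyEtale K RK T'
  have h3 : ∀ p, Module.rankAtStalk (R := T') Ω[T'⁄K] p = d := by
    intro p
    rw [Module.rankAtStalk_isBaseChange hbc p, h2]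
  haveI : Subsingleton Ω[T'⁄AK] := by
    have htop := KaehlerDifferential.span_range_map_derivation_of_isLocalization AK RK T'
      (Submonoid.powers t)
    have hbot : Submodule.span T' (Set.range
        (⇑(KaehlerDifferential.map AK AK RK T') ∘ ⇑(KaehlerDifferential.D AK RK))) = ⊥ := by
      rw [Submodule.span_eq_bot]
      rintro _ ⟨z, rfl⟩
      obtain ⟨w, hw, hwz⟩ := hkill z
      have := congrArg (KaehlerDifferential.map AK AK RK T') hwz
      rw [map_smul, map_zero, ← IsScalarTower.algebraMap_smul T' w] at this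
      exact (hw.smul_eq_zero).1 this
    rw [hbot] at htop
    exact (Submodule.subsingleton_iff T').1 (subsingleton_of_bot_eq_top htop)
  exact formallyEtale_of_rank d h1 h3

end Groth.Agent.Helper7.EtaEt
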