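import Mathlib
import Groth.Agent.Helper7.EtaEtB

/-!
# EtaEtC: `R[1/(aϖ)]` is étale over `A` when `Ω_{R/A}` is killed by an element invertible in `R[1/(aϖ)]`
and the generic fibres of `A`, `R` over a DVR `V` are smooth of the same relative dimension.
-/

set_option autoImplicit false
universe u
open TensorProduct AlgebraicGeometry

namespace Groth.Agent.Helper7.EtaEt

attribute [local instance] Algebra.TensorProduct.rightAlgebra

/-- nonzero elements of `V` become units wherever `ϖ` does -/
theorem isUnit_algebraMap_of_ne_zero {V : Type*} [CommRing V] [IsDomain V]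
    [IsDiscreteValuationRing V] {ϖ : V} (hϖ : Irreducible ϖ)
    {T : Type*} [CommRing T] [Algebra V T]
    (hT : IsUnit (algebraMap V T ϖ)) {v : V} (hv : v ≠ 0) : IsUnit (algebraMap V T v) := by
  obtain ⟨n, w, rfl⟩ := IsDiscreteValuationRing.eq_unit_mul_pow_irreducible hv hϖ
  rw [map_mul, map_pow]
  exact (w.isUnit.map _).mul (hT.pow n)

section

variable (V : Type u) [CommRing V] [IsDomain V] [IsDiscreteValuationRing V] {ϖ : V}
  (hϖ : Irreducible ϖ)
  (K : Type u) [CommRing K] [Algebra V K] [IsFractionRing V K]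
  (A R : Type u) [CommRing A] [CommRing R] [Algebra V A] [Algebra V R] [Algebra A R]
  [IsScalarTower V A R]

/-- the relative differential of `K ⊗ R` over `K ⊗ A` is killed by the image of `u` -/
theorem kill_tensor (u : R) (hu : ∀ ω : Ω[R⁄A], u • ω = 0)
    [Algebra (K ⊗[V] A) (K ⊗[V] R)] [Algebra A (K ⊗[V] R)]
    [IsScalarTower A R (K ⊗[V] R)] [IsScalarTower A (K ⊗[V] A) (K ⊗[V] R)]
    (hg : ∀ k : K, algebraMap (K ⊗[V] A) (K ⊗[V] R) (k ⊗ₜ 1) = k ⊗ₜ 1)
    (z : K ⊗[V] R) :
    (algebraMap R (K ⊗[V] R) u) • KaehlerDifferential.D (K ⊗[V] A) (K ⊗[V] R) z = 0 := by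
  induction z using TensorProduct.induction_on with
  | zero => simp
  | add x y hx hy => rw [map_add, smul_add, hx, hy, add_zero]
  | tmul k r =>
    have h1 : (k ⊗ₜ[V] r : K ⊗[V] R) =
        algebraMap (K ⊗[V] A) (K ⊗[V] R) (k ⊗ₜ 1) * algebraMap R (K ⊗[V] R) r := by
      rw [hg, Algebra.TensorProduct.right_algebraMap_apply, Algebra.TensorProduct.tmul_mul_tmul,
        mul_one, one_mul]
    rw [h1, Derivation.leibniz, Derivation.map_algebraMap, smul_zero, add_zero, smul_comm]
    have h2 : KaehlerDifferential.D (K ⊗[V] A) (K ⊗[V] R) (algebraMap R (K ⊗[V] R) r) =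
        KaehlerDifferential.map A (K ⊗[V] A) R (K ⊗[V] R) (KaehlerDifferential.D A R r) := by
      rw [KaehlerDifferential.map_D]
    have h3 := congrArg (KaehlerDifferential.map A (K ⊗[V] A) R (K ⊗[V] R))
      (hu (KaehlerDifferential.D A R r))
    rw [map_smul, map_zero] at h3
    have h4 : (algebraMap R (K ⊗[V] R) u) •
        KaehlerDifferential.map A (K ⊗[V] A) R (K ⊗[V] R) (KaehlerDifferential.D A R r) = 0 := by
      rw [IsScalarTower.algebraMap_smul (K ⊗[V] R) u]; exact h3
    rw [h2, h4, smul_zero]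

include hϖ in
/-- `T = R[1/(aϖ)]` is the localization of `R` at the submonoid `W` of elements becoming
`t^n · (nonzero v)` in `K ⊗ R`. -/
theorem isLocalization_W (a : R) (T : Type u) [CommRing T] [Algebra R T]
    [IsLocalization.Away (a * algebraMap V R ϖ) T] :
    IsLocalization (IsLocalization.localizationLocalizationSubmodule
      (Algebra.algebraMapSubmonoid R (nonZeroDivisors V))
      (Submonoid.powers (algebraMap R (K ⊗[V] R) a))) T := by
  haveI hloc : IsLocalization (Algebra.algebraMapSubmonoid R (nonZeroDivisors V)) (K ⊗[V] R) :=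
    IsLocalization.tensorRight K (nonZeroDivisors V)
  letI : Algebra V T := ((algebraMap R T).comp (algebraMap V R)).toAlgebra
  haveI : IsScalarTower V R T := IsScalarTower.of_algebraMap_eq' rfl
  have hprod : IsUnit (algebraMap R T (a * algebraMap V R ϖ)) :=
    IsLocalization.Away.algebraMap_isUnit _
  rw [map_mul, IsUnit.mul_iff] at hprod
  have hϖT : IsUnit (algebraMap V T ϖ) := by
    rw [IsScalarTower.algebraMap_apply V R T]; exact hprod.2
  refine IsLocalization.of_le (Submonoid.powers (a * algebraMap V R ϖ)) _ ?_ ?_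
  · rintro _ ⟨n, rfl⟩
    rw [IsLocalization.mem_localizationLocalizationSubmodule]
    refine ⟨⟨_, n, rfl⟩, ⟨algebraMap V R (ϖ ^ n), ϖ ^ n, ?_, rfl⟩, ?_⟩
    · exact mem_nonZeroDivisors_of_ne_zero (pow_ne_zero _ hϖ.ne_zero)
    · simp only [map_mul, map_pow, mul_pow]
  · intro r hr
    rw [IsLocalization.mem_localizationLocalizationSubmodule] at hr
    obtain ⟨⟨_, n, rfl⟩, ⟨_, v, hv, rfl⟩, e⟩ := hr
    simp only at e
    rw [← map_pow, ← map_mul, IsLocalization.eq_iff_exists
      (Algebra.algebraMapSubmonoid R (nonZeroDivisors V))] at e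
    obtain ⟨⟨_, c, hc, rfl⟩, e⟩ := e
    simp only at e
    have hcT : IsUnit (algebraMap R T (algebraMap V R c)) := by
      rw [← IsScalarTower.algebraMap_apply V R T]
      exact isUnit_algebraMap_of_ne_zero hϖ hϖT (nonZeroDivisors.ne_zero hc)
    have hvT : IsUnit (algebraMap R T (algebraMap V R v)) := by
      rw [← IsScalarTower.algebraMap_apply V R T]
      exact isUnit_algebraMap_of_ne_zero hϖ hϖT (nonZeroDivisors.ne_zero hv)
    have e' := congrArg (algebraMap R T) e
    rw [map_mul, map_mul, map_mul, map_pow] at e'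
    have : algebraMap R T r = algebraMap R T a ^ n * algebraMap R T (algebraMap V R v) :=
      hcT.mul_left_cancel e'
    rw [this]
    exact (hprod.1.pow n).mul hvT

include hϖ in
theorem etale_of_kill [Algebra.FiniteType V A] [Algebra.FiniteType V R] (d : ℕ)
    (hA : SmoothOfRelativeDimension d
      (Spec.map (CommRingCat.ofHom (algebraMap K (K ⊗[V] A)))))
    (hR : SmoothOfRelativeDimension d
      (Spec.map (CommRingCat.ofHom (algebraMap K (K ⊗[V] R)))))
    (a u : R) (hu : ∀ ω : Ω[R⁄A], u • ω = 0)
    (T : Type u) [CommRing T] [Algebra R T] [IsLocalization.Away (a * algebraMap V R ϖ) T]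
    (hunit : IsUnit (algebraMap R T u)) :
    ((algebraMap R T).comp (algebraMap A R)).Etale := by
  obtain ⟨smA, rkA⟩ := smooth_and_rank_of_smoothOfRelativeDimension d hA
  obtain ⟨smR, rkR⟩ := smooth_and_rank_of_smoothOfRelativeDimension d hR
  let g : K ⊗[V] A →ₐ[K] K ⊗[V] R :=
    Algebra.TensorProduct.map (AlgHom.id K K) (IsScalarTower.toAlgHom V A R)
  letI algAKRK : Algebra (K ⊗[V] A) (K ⊗[V] R) := g.toRingHom.toAlgebra
  haveI : IsScalarTower K (K ⊗[V] A) (K ⊗[V] R) :=
    IsScalarTower.of_algebraMap_eq' (by ext x; simp [RingHom.algebraMap_toAlgebra, g])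
  letI algARK : Algebra A (K ⊗[V] R) :=
    ((algebraMap R (K ⊗[V] R)).comp (algebraMap A R)).toAlgebra
  haveI : IsScalarTower A R (K ⊗[V] R) := IsScalarTower.of_algebraMap_eq' rfl
  haveI : IsScalarTower A (K ⊗[V] A) (K ⊗[V] R) :=
    IsScalarTower.of_algebraMap_eq' (by
      ext x
      simp [RingHom.algebraMap_toAlgebra, g])
  have hg : ∀ k : K, algebraMap (K ⊗[V] A) (K ⊗[V] R) (k ⊗ₜ 1) = k ⊗ₜ 1 := by
    intro k
    simp [RingHom.algebraMap_toAlgebra, g]
  let t : K ⊗[V] R := algebraMap R (K ⊗[V] R) a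
  let T' := Localization.Away t
  -- the two localizations of `R` agree
  haveI hloc : IsLocalization (Algebra.algebraMapSubmonoid R (nonZeroDivisors V)) (K ⊗[V] R) :=
    IsLocalization.tensorRight K (nonZeroDivisors V)
  haveI hW' : IsLocalization (IsLocalization.localizationLocalizationSubmodule
      (Algebra.algebraMapSubmonoid R (nonZeroDivisors V)) (Submonoid.powers t)) T' :=
    IsLocalization.localization_localization_isLocalization _ _ _
  haveI hW : IsLocalization (IsLocalization.localizationLocalizationSubmodule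
      (Algebra.algebraMapSubmonoid R (nonZeroDivisors V)) (Submonoid.powers t)) T :=
    isLocalization_W V hϖ K R a T
  let e : T' ≃ₐ[R] T := IsLocalization.algEquiv (IsLocalization.localizationLocalizationSubmodule
      (Algebra.algebraMapSubmonoid R (nonZeroDivisors V)) (Submonoid.powers t)) T' T
  -- killing
  have hkill : ∀ z : K ⊗[V] R, ∃ w : K ⊗[V] R, IsUnit (algebraMap (K ⊗[V] R) T' w) ∧
      w • KaehlerDifferential.D (K ⊗[V] A) (K ⊗[V] R) z = 0 := by
    intro z
    refine ⟨algebraMap R (K ⊗[V] R) u, ?_, kill_tensor V K A R u hu hg z⟩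
    rw [← IsScalarTower.algebraMap_apply R (K ⊗[V] R) T']
    have : algebraMap R T' u = e.symm (algebraMap R T u) := by
      rw [AlgEquiv.commutes]
    rw [this]
    exact hunit.map e.symm
  have hfe1 : Algebra.FormallyEtale (K ⊗[V] A) T' :=
    formallyEtale_localization (K := K) t d rkA rkR hkill
  haveI hlocA : IsLocalization (Algebra.algebraMapSubmonoid A (nonZeroDivisors V)) (K ⊗[V] A) :=
    IsLocalization.tensorRight K (nonZeroDivisors V)
  haveI hfe2 : Algebra.FormallyEtale A (K ⊗[V] A) :=
    Algebra.FormallyEtale.of_isLocalization (Algebra.algebraMapSubmonoid A (nonZeroDivisors V))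
  haveI hfe3 : Algebra.FormallyEtale A T' := Algebra.FormallyEtale.comp A (K ⊗[V] A) T'
  -- transfer to `T`
  letI : Algebra A T := ((algebraMap R T).comp (algebraMap A R)).toAlgebra
  haveI : IsScalarTower A R T := IsScalarTower.of_algebraMap_eq' rfl
  haveI hfe4 : Algebra.FormallyEtale A T := Algebra.FormallyEtale.of_equiv (e.restrictScalars A)
  haveI : IsNoetherianRing A := Algebra.FiniteType.isNoetherianRing V A
  haveI : Algebra.FiniteType A R := Algebra.FiniteType.of_restrictScalars_finiteType V A R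
  haveI : Algebra.FinitePresentation A R := Algebra.FinitePresentation.of_finiteType.1 inferInstance
  haveI : Algebra.FinitePresentation R T :=
    IsLocalization.Away.finitePresentation (a * algebraMap V R ϖ)
  haveI : Algebra.FinitePresentation A T := Algebra.FinitePresentation.trans A R T
  have : Algebra.Etale A T := ⟨inferInstance, inferInstance⟩
  exact this

end

end Groth.Agent.Helper7.EtaEt
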