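import Mathlib
import Groth.Agent.Helper1.ExtFreeTgt
import Groth.Agent.Helper7.ExtDuA

set_option autoImplicit false

/-!
# `Ext^i(M,N) ≅ Ext^i(N*,M*)` for a duality `(-)* = Hom(-,W)` on finite torsion-free modules
-/

namespace Groth.Agent.Helper7.ExtDu

open CategoryTheory Abelian

universe u

variable {O : Type u} [CommRing O] (W : Type u) [AddCommGroup W] [Module O W]

/-- torsion-freeness as a plain proposition -/
def TF (O : Type u) [CommRing O] (M : Type u) [AddCommGroup M] [Module O M] : Prop :=
  ∀ (r : O) (m : M), r • m = 0 → r = 0 ∨ m = 0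

/-- the dual module, as an object of `ModuleCat` -/
abbrev Dm (M : ModuleCat.{u} O) : ModuleCat.{u} O := ModuleCat.of O (M →ₗ[O] W)

/-- the dual map -/
def Dmap {M N : ModuleCat.{u} O} (f : M ⟶ N) : Dm W N ⟶ Dm W M :=
  ModuleCat.ofHom (LinearMap.lcomp O W f.hom)

theorem Dmap_apply {M N : ModuleCat.{u} O} (f : M ⟶ N) (φ : N →ₗ[O] W) (m : M) :
    ((Dmap W f).hom φ : M →ₗ[O] W) m = φ (f.hom m) := rfl

theorem Dmap_comp {M N P : ModuleCat.{u} O} (f : M ⟶ N) (g : N ⟶ P) :
    Dmap W (f ≫ g) = Dmap W g ≫ Dmap W f := by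
  apply ModuleCat.hom_ext
  apply LinearMap.ext
  intro φ
  apply LinearMap.ext
  intro m
  rfl

/-- the dual map as an additive map -/
def DmapHom (M N : ModuleCat.{u} O) : (M ⟶ N) →+ (Dm W N ⟶ Dm W M) where
  toFun := Dmap W
  map_zero' := by
    apply ModuleCat.hom_ext
    apply LinearMap.ext
    intro φ
    apply LinearMap.ext
    intro m
    show φ ((0 : M ⟶ N).hom m) = 0
    rw [ModuleCat.hom_zero, LinearMap.zero_apply, map_zero]
  map_add' f g := by
    apply ModuleCat.hom_ext
    apply LinearMap.ext
    intro φ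
    apply LinearMap.ext
    intro m
    show φ ((f + g).hom m) = φ (f.hom m) + φ (g.hom m)
    rw [ModuleCat.hom_add, LinearMap.add_apply, map_add]

/-- full faithfulness of the duality on maps into a reflexive module -/
theorem Dmap_bijective (M N : ModuleCat.{u} O)
    (hN : Function.Bijective (LinearMap.applyₗ : N →ₗ[O] (N →ₗ[O] W) →ₗ[O] W)) :
    Function.Bijective (DmapHom W M N) := by
  constructor
  · rw [injective_iff_map_eq_zero]
    intro f hf
    apply ModuleCat.hom_ext
    apply LinearMap.ext
    intro m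
    apply hN.1
    rw [ModuleCat.hom_zero, LinearMap.zero_apply, map_zero]
    apply LinearMap.ext
    intro φ
    have h1 := congrArg (fun g => (g.hom φ : M →ₗ[O] W) m) hf
    simp only at h1
    rw [ModuleCat.hom_zero] at h1
    exact h1
  · intro g
    -- for each m, the functional φ ↦ g(φ)(m)
    let Ψ : M →ₗ[O] ((N →ₗ[O] W) →ₗ[O] W) :=
      { toFun := fun m =>
          { toFun := fun φ => (g.hom φ : M →ₗ[O] W) m
            map_add' := fun φ φ' => by rw [map_add, LinearMap.add_apply]
            map_smul' := fun r φ => by rw [map_smul, LinearMap.smul_apply]; rfl }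
        map_add' := fun m m' => by
          apply LinearMap.ext
          intro φ
          show (g.hom φ : M →ₗ[O] W) (m + m') = _
          rw [map_add]
          rfl
        map_smul' := fun r m => by
          apply LinearMap.ext
          intro φ
          show (g.hom φ : M →ₗ[O] W) (r • m) = _
          rw [map_smul]
          rfl }
    let e := LinearEquiv.ofBijective (LinearMap.applyₗ : N →ₗ[O] (N →ₗ[O] W) →ₗ[O] W) hN
    let f : M →ₗ[O] N := e.symm.toLinearMap ∘ₗ Ψ
    refine ⟨ModuleCat.ofHom f, ?_⟩
    apply ModuleCat.hom_ext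
    apply LinearMap.ext
    intro φ
    apply LinearMap.ext
    intro m
    show φ (e.symm (Ψ m)) = (g.hom φ : M →ₗ[O] W) m
    have h1 : e (e.symm (Ψ m)) = Ψ m := e.apply_symm_apply _
    have h2 := LinearMap.congr_fun h1 φ
    exact h2

/-- the dual of a right exact sequence is left exact -/
theorem Dmap_exact {M₁ F M : ModuleCat.{u} O} (ι : M₁ ⟶ F) (π : F ⟶ M)
    (hπ : Function.Surjective π.hom) (hex : Function.Exact ι.hom π.hom) :
    Function.Injective (Dmap W π).hom ∧ Function.Exact (Dmap W π).hom (Dmap W ι).hom := by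
  constructor
  · rw [injective_iff_map_eq_zero]
    intro φ hφ
    apply LinearMap.ext
    intro m
    obtain ⟨x, rfl⟩ := hπ m
    exact LinearMap.congr_fun hφ x
  · intro ψ
    constructor
    · intro hψ
      have hker : LinearMap.ker π.hom ≤ LinearMap.ker ψ := by
        intro x hx
        obtain ⟨y, rfl⟩ := (hex x).1 hx
        exact LinearMap.congr_fun hψ y
      let e := π.hom.quotKerEquivOfSurjective hπ
      refine ⟨(Submodule.liftQ _ ψ hker) ∘ₗ e.symm.toLinearMap, ?_⟩
      apply LinearMap.ext
      intro x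
      show Submodule.liftQ _ ψ hker (e.symm (π.hom x)) = ψ x
      have : e.symm (π.hom x) = Submodule.Quotient.mk x := by
        rw [LinearEquiv.symm_apply_eq]
        rfl
      rw [this, Submodule.liftQ_apply]
    · rintro ⟨φ, rfl⟩
      apply LinearMap.ext
      intro y
      show φ (π.hom (ι.hom y)) = 0
      rw [hex.apply_apply_eq_zero, map_zero]

end Groth.Agent.Helper7.ExtDu
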