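import Mathlib
import Groth.Agent.Helper7.ExtDuB

set_option autoImplicit false

/-!
# `Ext^i(M,N) ≅ Ext^i(N*,M*)`: the induction
-/

namespace Groth.Agent.Helper7.ExtDu

open CategoryTheory Abelian

universe u

variable {O : Type u} [CommRing O] (W : Type u) [AddCommGroup W] [Module O W]

/-- hypotheses on the dualizing module `W` -/
structure IsDualizingLike : Prop where
  finite : Module.Finite O W
  tf : TF O W
  van : ∀ (M : ModuleCat.{u} O), Module.Finite O M → TF O M → ∀ j : ℕ, 1 ≤ j →
    Subsingleton (Ext M (ModuleCat.of O W) j)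

variable {W}

theorem tf_Dm (hW : TF O W) (M : ModuleCat.{u} O) : TF O (Dm W M) := by
  intro r φ h
  by_cases hr : r = 0
  · left; exact hr
  · right
    apply LinearMap.ext
    intro m
    have h1 : r • (φ : M →ₗ[O] W) m = 0 := LinearMap.congr_fun h m
    exact (hW r _ h1).resolve_left hr

theorem finite_Dm [IsNoetherianRing O] (hW : Module.Finite O W) (M : ModuleCat.{u} O)
    (hM : Module.Finite O M) : Module.Finite O (Dm W M) := by
  haveI := hW
  haveI := hM
  exact inferInstanceAs (Module.Finite O (M →ₗ[O] W))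

/-- `Ext^j(X, F*) = 0` for `F` finite free when `Ext^j(X, W) = 0` -/
theorem subsingleton_ext_Dm_free (X : ModuleCat.{u} O) (r j : ℕ)
    (h : Subsingleton (Ext X (ModuleCat.of O W) j)) :
    Subsingleton (Ext X (Dm W (ModuleCat.of O (Fin r → O))) j) := by
  classical
  refine Groth.Agent.Helper1.ExtFreeTgt.subsingleton_ext_of_sum (Finset.univ : Finset (Fin r))
    (fun _ => ModuleCat.of O W)
    (fun k => ModuleCat.ofHom
      (LinearMap.applyₗ (Pi.single k (1 : O) : Fin r → O) : ((Fin r → O) →ₗ[O] W) →ₗ[O] W))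
    (fun k => ModuleCat.ofHom
      (LinearMap.smulRightₗ (LinearMap.proj k : (Fin r → O) →ₗ[O] O) :
        W →ₗ[O] ((Fin r → O) →ₗ[O] W))) ?_ j (fun _ _ => h)
  apply ModuleCat.hom_ext
  apply LinearMap.ext
  intro φ
  rw [ModuleCat.hom_sum]
  simp only [ModuleCat.hom_comp, ModuleCat.hom_ofHom, ModuleCat.hom_id, LinearMap.id_coe, id_eq]
  rw [LinearMap.sum_apply]
  apply LinearMap.ext
  intro v
  rw [LinearMap.sum_apply]
  simp only [LinearMap.comp_apply, LinearMap.applyₗ_apply_apply, LinearMap.smulRightₗ_apply]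
  have hv : v = ∑ k, v k • (Pi.single k (1 : O) : Fin r → O) := by
    funext i
    rw [Finset.sum_apply]
    simp [Pi.single_apply]
  conv_rhs => rw [hv]
  rw [map_sum]
  apply Finset.sum_congr rfl
  intro k _
  rw [map_smul, LinearMap.smulRight_apply, LinearMap.proj_apply]

variable [IsDomain O] [IsNoetherianRing O]

/-- a finite free presentation with finite torsion-free kernel -/
theorem exists_pres (M : ModuleCat.{u} O) (hfin : Module.Finite O M) :
    ∃ (r : ℕ) (M₁ : ModuleCat.{u} O) (ι : M₁ ⟶ ModuleCat.of O (Fin r → O))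
      (π : ModuleCat.of O (Fin r → O) ⟶ M),
      Module.Finite O M₁ ∧ TF O M₁ ∧ Function.Injective ι.hom ∧ Function.Surjective π.hom ∧
        Function.Exact ι.hom π.hom := by
  haveI := hfin
  obtain ⟨r, π, hπ⟩ := Module.Finite.exists_fin' O M
  refine ⟨r, ModuleCat.of O (LinearMap.ker π), ModuleCat.ofHom (LinearMap.ker π).subtype,
    ModuleCat.ofHom π, ?_, ?_, ?_, hπ, ?_⟩
  · exact inferInstanceAs (Module.Finite O (LinearMap.ker π))
  · intro a m h
    by_cases ha : a = 0
    · left; exact ha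
    · right
      apply Subtype.ext
      funext k
      have h1 : a • ((m : LinearMap.ker π) : Fin r → O) k = 0 := by
        have := congrArg (fun t : LinearMap.ker π => (t : Fin r → O) k) h
        exact this
      rw [smul_eq_mul, mul_eq_zero] at h1
      exact h1.resolve_left ha
  · exact (LinearMap.ker π).injective_subtype
  · exact LinearMap.exact_subtype_ker_map π

/-- the short complex of a presentation -/
def presSC {r : ℕ} {M₁ M : ModuleCat.{u} O} (ι : M₁ ⟶ ModuleCat.of O (Fin r → O))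
    (π : ModuleCat.of O (Fin r → O) ⟶ M) (hex : Function.Exact ι.hom π.hom) :
    ShortComplex (ModuleCat.{u} O) :=
  ShortComplex.mk ι π (by
    apply ModuleCat.hom_ext
    apply LinearMap.ext
    intro x
    exact hex.apply_apply_eq_zero x)

theorem presSC_shortExact {r : ℕ} {M₁ M : ModuleCat.{u} O}
    (ι : M₁ ⟶ ModuleCat.of O (Fin r → O)) (π : ModuleCat.of O (Fin r → O) ⟶ M)
    (hι : Function.Injective ι.hom) (hπ : Function.Surjective π.hom)
    (hex : Function.Exact ι.hom π.hom) : (presSC ι π hex).ShortExact := by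
  refine ShortComplex.ShortExact.mk' ?_ ?_ ?_
  · rw [ShortComplex.ShortExact.moduleCat_exact_iff_function_exact]
    exact hex
  · exact (ModuleCat.mono_iff_injective _).mpr hι
  · exact (ModuleCat.epi_iff_surjective _).mpr hπ

/-- the dual short complex -/
def dualSC (W : Type u) [AddCommGroup W] [Module O W] {r : ℕ} {M₁ M : ModuleCat.{u} O}
    (ι : M₁ ⟶ ModuleCat.of O (Fin r → O))
    (π : ModuleCat.of O (Fin r → O) ⟶ M) (hex : Function.Exact ι.hom π.hom) :
    ShortComplex (ModuleCat.{u} O) :=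
  ShortComplex.mk (Dmap W π) (Dmap W ι) (by
    rw [← Dmap_comp]
    have : ι ≫ π = 0 := by
      apply ModuleCat.hom_ext
      apply LinearMap.ext
      intro x
      exact hex.apply_apply_eq_zero x
    rw [this]
    exact (DmapHom W _ _).map_zero)

theorem dualSC_shortExact (hW : IsDualizingLike (O := O) W) {r : ℕ} {M₁ M : ModuleCat.{u} O}
    (ι : M₁ ⟶ ModuleCat.of O (Fin r → O)) (π : ModuleCat.of O (Fin r → O) ⟶ M)
    (hι : Function.Injective ι.hom) (hπ : Function.Surjective π.hom)
    (hex : Function.Exact ι.hom π.hom) (hMfin : Module.Finite O M) (hMtf : TF O M) :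
    (dualSC W ι π hex).ShortExact := by
  obtain ⟨hinj, hexD⟩ := Dmap_exact W ι π hπ hex
  refine ShortComplex.ShortExact.mk' ?_ ?_ ?_
  · rw [ShortComplex.ShortExact.moduleCat_exact_iff_function_exact]
    exact hexD
  · exact (ModuleCat.mono_iff_injective _).mpr hinj
  · refine (ModuleCat.epi_iff_surjective _).mpr ?_
    intro ψ₁
    have hS := presSC_shortExact ι π hι hπ hex
    have hsub : Subsingleton (Ext (presSC ι π hex).X₃ (ModuleCat.of O W) 1) :=
      hW.van M hMfin hMtf 1 le_rfl
    obtain ⟨x₂, hx₂⟩ := Ext.contravariant_sequence_exact₁ hS (ModuleCat.of O W)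
      (Ext.mk₀ (ModuleCat.ofHom (ψ₁ : M₁ →ₗ[O] W))) (add_zero 1)
      (@Subsingleton.elim _ hsub _ _)
    refine ⟨(Ext.addEquiv₀ x₂).hom, ?_⟩
    have h1 : Ext.mk₀ (ι ≫ Ext.addEquiv₀ x₂) = Ext.mk₀ (ModuleCat.ofHom (ψ₁ : M₁ →ₗ[O] W)) := by
      rw [← Ext.mk₀_comp_mk₀, Ext.mk₀_addEquiv₀_apply]
      exact hx₂
    have h2 : ι ≫ Ext.addEquiv₀ x₂ = ModuleCat.ofHom (ψ₁ : M₁ →ₗ[O] W) :=
      Ext.addEquiv₀.symm.injective h1
    apply LinearMap.ext
    intro m
    have := congrArg (fun f => f.hom m) h2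
    exact this

end Groth.Agent.Helper7.ExtDu
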