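import Mathlib
import Groth.Agent.Helper7.ExtDuC

set_option autoImplicit false

/-!
# `Ext^i(M,N) ≅ Ext^i(N*,M*)`: main theorem
-/

namespace Groth.Agent.Helper7.ExtDu

open CategoryTheory Abelian

universe u

variable {O : Type u} [CommRing O] [IsDomain O] [IsNoetherianRing O]
  {W : Type u} [AddCommGroup W] [Module O W]

theorem subsingleton_ext_free (r : ℕ) (N : ModuleCat.{u} O) (j : ℕ) (hj : 1 ≤ j) :
    Subsingleton (Ext (ModuleCat.of O (Fin r → O)) N j) := by
  haveI : Projective (ModuleCat.of O (Fin r → O)) :=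
    (IsProjective.iff_projective _).1 inferInstance
  obtain ⟨j, rfl⟩ : ∃ j', j = j' + 1 := ⟨j - 1, by omega⟩
  refine ⟨fun a b => ?_⟩
  rw [Ext.eq_zero_of_projective a, Ext.eq_zero_of_projective b]

theorem ext_duality (hW : IsDualizingLike (O := O) W) (N : ModuleCat.{u} O)
    (hNfin : Module.Finite O N)
    (hNrefl : Function.Bijective (LinearMap.applyₗ : N →ₗ[O] (N →ₗ[O] W) →ₗ[O] W)) :
    ∀ (i : ℕ) (M : ModuleCat.{u} O), Module.Finite O M → TF O M →
      Nonempty (Ext M N i ≃+ Ext (Dm W N) (Dm W M) i) := by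
  have hDNfin : Module.Finite O (Dm W N) := finite_Dm hW.finite N hNfin
  have hDNtf : TF O (Dm W N) := tf_Dm hW.tf N
  have hvanD : ∀ (r j : ℕ), 1 ≤ j →
      Subsingleton (Ext (Dm W N) (Dm W (ModuleCat.of O (Fin r → O))) j) := fun r j hj =>
    subsingleton_ext_Dm_free (Dm W N) r j (hW.van (Dm W N) hDNfin hDNtf j hj)
  intro i
  induction i with
  | zero =>
    intro M _ _
    exact ⟨Ext.addEquiv₀.trans ((AddEquiv.ofBijective (DmapHom W M N)
      (Dmap_bijective W M N hNrefl)).trans Ext.addEquiv₀.symm)⟩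
  | succ i ih =>
    intro M hMfin hMtf
    obtain ⟨r, M₁, ι, π, hM₁fin, hM₁tf, hι, hπ, hex⟩ := exists_pres M hMfin
    have hS := presSC_shortExact ι π hι hπ hex
    have hDS := dualSC_shortExact hW ι π hι hπ hex hMfin hMtf
    rcases Nat.eq_zero_or_pos i with rfl | hi
    · -- degree one
      have hc := contravariant_coker hS N (subsingleton_ext_free r N 1 le_rfl)
      have hc' := covariant_coker hDS (Dm W N) (hvanD r 1 le_rfl)
      let β : Ext M₁ N 0 ≃+ Ext (Dm W N) (Dm W M₁) 0 :=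
        Ext.addEquiv₀.trans ((AddEquiv.ofBijective (DmapHom W M₁ N)
          (Dmap_bijective W M₁ N hNrefl)).trans Ext.addEquiv₀.symm)
      have hβ : ∀ b : Ext M₁ N 0, β b = Ext.mk₀ (Dmap W (Ext.addEquiv₀ b)) := fun b => rfl
      refine nonempty_coker_equiv ((Ext.mk₀ ι).precomp N (zero_add 0))
        (hS.extClass.precomp N (add_zero 1))
        ((Ext.mk₀ (Dmap W ι)).postcomp (Dm W N) (add_zero 0))
        (hDS.extClass.postcomp (Dm W N) (zero_add 1)) hc.1 hc'.1 hc.2 hc'.2 β ?_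
      intro b
      constructor
      · rintro ⟨x₂, rfl⟩
        refine ⟨Ext.mk₀ (Dmap W (Ext.addEquiv₀ x₂)), ?_⟩
        rw [hβ]
        show (Ext.mk₀ (Dmap W (Ext.addEquiv₀ x₂))).comp (Ext.mk₀ (Dmap W ι)) (add_zero 0) = _
        rw [Ext.mk₀_comp_mk₀, ← Dmap_comp]
        congr 2
        apply Ext.addEquiv₀.symm.injective
        show Ext.mk₀ (ι ≫ Ext.addEquiv₀ x₂) = Ext.mk₀ (Ext.addEquiv₀ ((Ext.mk₀ ι).comp x₂ (zero_add 0)))
        rw [← Ext.mk₀_comp_mk₀, Ext.mk₀_addEquiv₀_apply, Ext.mk₀_addEquiv₀_apply]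
      · rintro ⟨x, hx⟩
        rw [hβ] at hx
        obtain ⟨φ, hφ⟩ := (Dmap_bijective W (ModuleCat.of O (Fin r → O)) N hNrefl).2
          (Ext.addEquiv₀ x)
        have h1 : Ext.mk₀ (Dmap W (ι ≫ φ)) = Ext.mk₀ (Dmap W (Ext.addEquiv₀ b)) := by
          rw [Dmap_comp, ← Ext.mk₀_comp_mk₀, ← hx]
          show _ = x.comp (Ext.mk₀ (Dmap W ι)) (add_zero 0)
          congr 1
          have : Dmap W φ = Ext.addEquiv₀ x := hφ
          rw [this, Ext.mk₀_addEquiv₀_apply]
        have h2 : Dmap W (ι ≫ φ) = Dmap W (Ext.addEquiv₀ b) := Ext.addEquiv₀.symm.injective h1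
        have h3 : ι ≫ φ = Ext.addEquiv₀ b := (Dmap_bijective W M₁ N hNrefl).1 h2
        refine ⟨Ext.mk₀ φ, ?_⟩
        show (Ext.mk₀ ι).comp (Ext.mk₀ φ) (zero_add 0) = b
        rw [Ext.mk₀_comp_mk₀, h3, Ext.mk₀_addEquiv₀_apply]
    · -- higher degrees
      obtain ⟨e2⟩ := ih M₁ hM₁fin hM₁tf
      have e1 := AddEquiv.ofBijective (hS.extClass.precomp N (add_comm 1 i))
        (bijective_extClass_precomp hS N i (subsingleton_ext_free r N i hi)
          (subsingleton_ext_free r N (i + 1) (by omega)))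
      have e3 := AddEquiv.ofBijective (hDS.extClass.postcomp (Dm W N) (rfl : i + 1 = i + 1))
        (bijective_extClass_postcomp hDS (Dm W N) i (hvanD r i hi) (hvanD r (i + 1) (by omega)))
      exact ⟨e1.symm.trans (e2.trans e3)⟩

end Groth.Agent.Helper7.ExtDu
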