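import Mathlib
import Groth.Prelude.Def_GrLC
import Groth.Agent.Helper6.GrCon

/-!
# Homogeneous subalgebras of a Laurent polynomial ring `A[T;T⁻¹]` as ℤ-graded rings (helper7)
-/

set_option autoImplicit false
set_option linter.unusedSectionVars false
set_option linter.style.haveILetI false

namespace Groth.Agent.Helper7.LaurSub

open LaurentPolynomial DirectSum

universe u

variable {A : Type u} [CommRing A]

/-- a homogeneous subalgebra of `A[T;T⁻¹]` -/
class IsHomSub (S : Subalgebra A A[T;T⁻¹]) : Prop where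
  single_mem : ∀ p ∈ S, ∀ n : ℤ, (AddMonoidAlgebra.single n (p.coeff n) : A[T;T⁻¹]) ∈ S

variable (S : Subalgebra A A[T;T⁻¹])

/-- the grading -/
def gr (n : ℤ) : AddSubgroup ↥S where
  carrier := {p | ∀ j : ℤ, j ≠ n → (p : A[T;T⁻¹]).coeff j = 0}
  add_mem' := by
    intro a b ha hb j hj
    rw [Subalgebra.coe_add, AddMonoidAlgebra.coeff_add, Finsupp.add_apply, ha j hj, hb j hj,
      add_zero]
  zero_mem' := by
    intro j _
    rw [Subalgebra.coe_zero, AddMonoidAlgebra.coeff_zero, Finsupp.zero_apply]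
  neg_mem' := by
    intro a ha j hj
    rw [Subalgebra.coe_neg, AddMonoidAlgebra.coeff_neg, Finsupp.neg_apply, ha j hj, neg_zero]

theorem mem_gr {n : ℤ} {p : ↥S} :
    p ∈ gr S n ↔ ∀ j : ℤ, j ≠ n → (p : A[T;T⁻¹]).coeff j = 0 := Iff.rfl

theorem eq_single_of_mem_gr {n : ℤ} {p : ↥S} (hp : p ∈ gr S n) :
    (p : A[T;T⁻¹]) = AddMonoidAlgebra.single n ((p : A[T;T⁻¹]).coeff n) := by
  classical
  apply LaurentPolynomial.ext
  intro j
  rw [AddMonoidAlgebra.coeff_single, Finsupp.single_apply]
  split_ifs with h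
  · rw [h]
  · exact hp j (fun h' => h h'.symm)

theorem mem_gr_of_eq_single {n : ℤ} {p : ↥S} (a : A)
    (hp : (p : A[T;T⁻¹]) = AddMonoidAlgebra.single n a) : p ∈ gr S n := by
  classical
  intro j hj
  rw [hp, AddMonoidAlgebra.coeff_single, Finsupp.single_apply, if_neg (fun h => hj h.symm)]

variable [hS : IsHomSub S]

/-- the homogeneous component of degree `i : ℤ` -/
noncomputable def proj (i : ℤ) (p : ↥S) : ↥S :=
  ⟨AddMonoidAlgebra.single i ((p : A[T;T⁻¹]).coeff i), hS.single_mem p.1 p.2 i⟩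

theorem coe_proj (i : ℤ) (p : ↥S) :
    (proj S i p : A[T;T⁻¹]) = AddMonoidAlgebra.single i ((p : A[T;T⁻¹]).coeff i) := rfl

theorem proj_mem (i : ℤ) (p : ↥S) : proj S i p ∈ gr S i :=
  mem_gr_of_eq_single S _ (coe_proj S i p)

theorem proj_same {i : ℤ} {p : ↥S} (hp : p ∈ gr S i) : proj S i p = p := by
  apply Subtype.ext
  rw [coe_proj]
  exact (eq_single_of_mem_gr S hp).symm

theorem proj_ne {i j : ℤ} {p : ↥S} (hp : p ∈ gr S i) (hij : i ≠ j) : proj S j p = 0 := by
  apply Subtype.ext
  rw [coe_proj, hp j hij.symm, AddMonoidAlgebra.single_zero]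
  rfl

theorem proj_add (j : ℤ) (p q : ↥S) : proj S j (p + q) = proj S j p + proj S j q := by
  apply Subtype.ext
  rw [Subalgebra.coe_add, coe_proj, coe_proj, coe_proj, Subalgebra.coe_add,
    AddMonoidAlgebra.coeff_add, Finsupp.add_apply, AddMonoidAlgebra.single_add]

theorem sum_proj (p : ↥S) :
    ∑ i ∈ (p : A[T;T⁻¹]).coeff.support, proj S i p = p := by
  apply Subtype.ext
  rw [AddSubmonoidClass.coe_finsetSum]
  simp_rw [coe_proj]
  conv_rhs => rw [← AddMonoidAlgebra.sum_coeff_single (p : A[T;T⁻¹])]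
  rfl

instance gradedMonoid : SetLike.GradedMonoid (gr S) where
  one_mem := by
    apply mem_gr_of_eq_single S 1
    rw [Subalgebra.coe_one]
    rfl
  mul_mem := by
    intro i j a b ha hb
    apply mem_gr_of_eq_single S (((a : A[T;T⁻¹]).coeff i) * ((b : A[T;T⁻¹]).coeff j))
    rw [Subalgebra.coe_mul, eq_single_of_mem_gr S ha, eq_single_of_mem_gr S hb,
      AddMonoidAlgebra.single_mul_single]
    simp only [AddMonoidAlgebra.coeff_single, Finsupp.single_eq_same]

theorem isInternal : DirectSum.IsInternal (gr S) :=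
  Groth.Agent.Helper6.GrCon.isInternal_of_proj (gr S) (proj S)
    (fun i x => proj_mem S i x) (fun i x hx => proj_same S hx)
    (fun i j x hx hij => proj_ne S hx hij) (fun j x y => proj_add S j x y)
    (fun x => ⟨_, sum_proj S x⟩)

noncomputable instance decomposition : DirectSum.Decomposition (gr S) :=
  (isInternal S).chooseDecomposition

noncomputable instance gradedRing : GradedRing (gr S) :=
  { gradedMonoid S, decomposition S with }

theorem decompose_eq (p : ↥S) (j : ℤ) : (decompose (gr S) p j : ↥S) = proj S j p := by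
  classical
  have h := Groth.Agent.Helper6.GrCon.decompose_eq_of_sum (gr S) (x := p)
    (s := (p : A[T;T⁻¹]).coeff.support) (y := fun i => proj S i p)
    (fun i => proj_mem S i p) (sum_proj S p).symm j
  rw [h]
  split_ifs with hj
  · rfl
  · apply Subtype.ext
    rw [coe_proj, Finsupp.notMem_support_iff.1 hj, AddMonoidAlgebra.single_zero]
    rfl

end Groth.Agent.Helper7.LaurSub
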