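import Mathlib
import Groth.Prelude.Def_GrLC
import Groth.Prelude.Def_W4c2filtblowupsingRees
import Groth.Agent.Helper7.LaurSub1

/-!
# The extended Rees algebra of a filtration as a ℤ-graded *local ring (helper7)
-/

set_option autoImplicit false
set_option linter.unusedSectionVars false
set_option linter.style.haveILetI false

namespace Groth.Agent.Helper7.ExtRees

open LaurentPolynomial DirectSum Polynomial IsLocalRing

universe u

variable {A : Type u} [CommRing A] (𝓕 : FiltBl.IdealFiltration A)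

theorem coeff_toLaurent_natCast (p : A[X]) (k : ℕ) : (toLaurent p).coeff (k : ℤ) = p.coeff k := by
  rw [coeff_toLaurent]
  exact Finsupp.mapDomain_apply (Nat.castEmbedding (R := ℤ)).injective p.toFinsupp.coeff k

theorem coeff_toLaurent_neg (p : A[X]) (n : ℤ) (hn : n < 0) : (toLaurent p).coeff n = 0 := by
  rw [coeff_toLaurent]
  apply Finsupp.mapDomain_of_notMem_range
  rintro ⟨k, hk⟩
  have : (k : ℤ) = n := hk
  omega

theorem mem_extRees {f : A[T;T⁻¹]} : f ∈ 𝓕.extRees ↔ ∀ n : ℤ, f.coeff n ∈ 𝓕.F n.toNat := Iff.rfl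

theorem mem_rees {f : A[X]} : f ∈ 𝓕.rees ↔ ∀ n : ℕ, f.coeff n ∈ 𝓕.F n := Iff.rfl

theorem single_mem {n : ℤ} {a : A} (ha : a ∈ 𝓕.F n.toNat) :
    (AddMonoidAlgebra.single n a : A[T;T⁻¹]) ∈ 𝓕.extRees := by
  classical
  intro j
  rw [AddMonoidAlgebra.coeff_single, Finsupp.single_apply]
  split_ifs with h
  · rw [← h]; exact ha
  · exact zero_mem _

instance isHomSub : LaurSub.IsHomSub 𝓕.extRees where
  single_mem := fun p hp n => single_mem 𝓕 (hp n)

theorem u_regular : IsSMulRegular ↥𝓕.extRees 𝓕.u := by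
  intro p q h
  apply Subtype.ext
  have h' : (T (-1) : A[T;T⁻¹]) * (p : A[T;T⁻¹]) = T (-1) * (q : A[T;T⁻¹]) :=
    congrArg Subtype.val h
  exact (isUnit_T (-1)).mul_left_cancel h'

theorem coe_u : (𝓕.u : A[T;T⁻¹]) = T (-1) := rfl

theorem toLaurent_mem {p : A[X]} (hp : p ∈ 𝓕.rees) : toLaurent p ∈ 𝓕.extRees := by
  intro n
  by_cases hn : 0 ≤ n
  · obtain ⟨k, rfl⟩ := Int.eq_ofNat_of_zero_le hn
    rw [coeff_toLaurent_natCast, Int.toNat_natCast]
    exact hp k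
  · rw [coeff_toLaurent_neg p n (by omega)]
    exact zero_mem _

/-- the inclusion of the Rees algebra in the extended Rees algebra -/
noncomputable def incl : ↥𝓕.rees →ₐ[A] ↥𝓕.extRees :=
  (Polynomial.toLaurentAlg.comp 𝓕.rees.val).codRestrict 𝓕.extRees
    (fun p => by
      rw [AlgHom.comp_apply, Polynomial.toLaurentAlg_apply]
      exact toLaurent_mem 𝓕 p.2)

theorem coe_incl (p : ↥𝓕.rees) : (incl 𝓕 p : A[T;T⁻¹]) = toLaurent (p : A[X]) := rfl

theorem monomial_mem {n : ℕ} {a : A} (ha : a ∈ 𝓕.F n) : monomial n a ∈ 𝓕.rees := by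
  intro j
  rw [coeff_monomial]
  split_ifs with h
  · rw [← h]; exact ha
  · exact zero_mem _

theorem finiteType (hfg : Algebra.FiniteType A 𝓕.rees) : Algebra.FiniteType A ↥𝓕.extRees := by
  classical
  obtain ⟨s, hs⟩ := hfg.1
  refine ⟨⟨s.image (incl 𝓕) ∪ {𝓕.u}, ?_⟩⟩
  rw [eq_top_iff]
  intro p _
  rw [← LaurSub.sum_proj 𝓕.extRees p]
  apply Subalgebra.sum_mem
  intro i _
  by_cases hi : 0 ≤ i
  · obtain ⟨k, rfl⟩ := Int.eq_ofNat_of_zero_le hi
    have hk : (p : A[T;T⁻¹]).coeff (k : ℤ) ∈ 𝓕.F k := by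
      have := p.2 (k : ℤ)
      rwa [Int.toNat_natCast] at this
    have h1 : LaurSub.proj 𝓕.extRees (k : ℤ) p = incl 𝓕 ⟨monomial k _, monomial_mem 𝓕 hk⟩ := by
      apply Subtype.ext
      rw [LaurSub.coe_proj, coe_incl]
      show _ = toLaurent (monomial k ((p : A[T;T⁻¹]).coeff (k : ℤ)))
      rw [← C_mul_X_pow_eq_monomial, Polynomial.toLaurent_C_mul_X_pow, single_eq_C_mul_T]
    rw [h1]
    have h2 : incl 𝓕 ⟨monomial k _, monomial_mem 𝓕 hk⟩ ∈
        (Algebra.adjoin A (s : Set ↥𝓕.rees)).map (incl 𝓕) :=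
      ⟨_, by rw [hs]; trivial, rfl⟩
    rw [AlgHom.map_adjoin] at h2
    refine Algebra.adjoin_mono ?_ h2
    intro x hx
    rw [Finset.coe_union, Finset.coe_image]
    exact Or.inl hx
  · have h1 : LaurSub.proj 𝓕.extRees i p = ((p : A[T;T⁻¹]).coeff i) • 𝓕.u ^ (-i).toNat := by
      apply Subtype.ext
      rw [LaurSub.coe_proj, Subalgebra.coe_smul, Subalgebra.coe_pow, coe_u, T_pow,
        single_eq_C_mul_T, LaurentPolynomial.smul_eq_C_mul]
      congr 2
      rw [Int.toNat_of_nonneg (by omega)]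
      ring
    rw [h1]
    apply Subalgebra.smul_mem
    apply Subalgebra.pow_mem
    apply Algebra.subset_adjoin
    rw [Finset.coe_union]
    exact Or.inr (by simp)

theorem isNoetherianRing [IsNoetherianRing A] (hfg : Algebra.FiniteType A 𝓕.rees) :
    IsNoetherianRing ↥𝓕.extRees := by
  haveI := finiteType 𝓕 hfg
  exact Algebra.FiniteType.isNoetherianRing A ↥𝓕.extRees

theorem F_one_ne_top [Nontrivial A] (hsep : ⨅ n, 𝓕.F n = ⊥) : 𝓕.F 1 ≠ ⊤ := by
  intro h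
  have hall : ∀ n, 𝓕.F n = ⊤ := by
    intro n
    induction n with
    | zero => exact 𝓕.zero_eq
    | succ n ih =>
      rw [eq_top_iff]
      have := 𝓕.mul_le n 1
      rwa [ih, h, Ideal.top_mul] at this
  have : (⨅ n, 𝓕.F n) = ⊤ := by
    rw [iInf_eq_top]
    exact hall
  rw [hsep] at this
  exact bot_ne_top this

theorem F_le_F_one {n : ℕ} (hn : 1 ≤ n) : 𝓕.F n ≤ 𝓕.F 1 := 𝓕.antitone hn

section Local

variable [IsLocalRing A] (hF1 : 𝓕.F 1 ≠ ⊤)

/-- the *maximal ideal of the extended Rees algebra -/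
def mI : Ideal ↥𝓕.extRees where
  carrier := {p | (p : A[T;T⁻¹]).coeff 0 ∈ maximalIdeal A}
  add_mem' := by
    intro a b ha hb
    show ((a + b : ↥𝓕.extRees) : A[T;T⁻¹]).coeff 0 ∈ maximalIdeal A
    rw [Subalgebra.coe_add, AddMonoidAlgebra.coeff_add, Finsupp.add_apply]
    exact Ideal.add_mem _ ha hb
  zero_mem' := by
    show ((0 : ↥𝓕.extRees) : A[T;T⁻¹]).coeff 0 ∈ maximalIdeal A
    rw [Subalgebra.coe_zero, AddMonoidAlgebra.coeff_zero, Finsupp.zero_apply]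
    exact zero_mem _
  smul_mem' := by
    intro c p hp
    show ((c • p : ↥𝓕.extRees) : A[T;T⁻¹]).coeff 0 ∈ maximalIdeal A
    rw [smul_eq_mul, Subalgebra.coe_mul, AddMonoidAlgebra.coeff_mul_apply_left, Finsupp.sum]
    apply Ideal.sum_mem
    intro i _
    by_cases hi : i = 0
    · subst hi
      rw [neg_zero, zero_add]
      exact Ideal.mul_mem_left _ _ hp
    · apply le_maximalIdeal hF1
      rcases lt_or_gt_of_ne hi with h | h
      · apply Ideal.mul_mem_left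
        have := p.2 (-i + 0)
        exact F_le_F_one 𝓕 (by omega) this
      · apply Ideal.mul_mem_right
        have := c.2 i
        exact F_le_F_one 𝓕 (by omega) this

theorem mem_mI {p : ↥𝓕.extRees} :
    p ∈ mI 𝓕 hF1 ↔ (p : A[T;T⁻¹]).coeff 0 ∈ maximalIdeal A := Iff.rfl

theorem coeff_proj_zero (i : ℤ) (p : ↥𝓕.extRees) :
    (LaurSub.proj 𝓕.extRees i p : A[T;T⁻¹]).coeff 0 =
      if i = 0 then (p : A[T;T⁻¹]).coeff 0 else 0 := by
  classical
  rw [LaurSub.coe_proj, AddMonoidAlgebra.coeff_single, Finsupp.single_apply]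
  split_ifs with h
  · rw [h]
  · rfl

theorem mI_isHomogeneous : (mI 𝓕 hF1).IsHomogeneous (LaurSub.gr 𝓕.extRees) := by
  intro i p hp
  rw [LaurSub.decompose_eq, mem_mI, coeff_proj_zero]
  split_ifs with h
  · exact hp
  · exact zero_mem _

/-- the *maximal ideal as a homogeneous ideal -/
def mH : HomogeneousIdeal (LaurSub.gr 𝓕.extRees) := ⟨mI 𝓕 hF1, mI_isHomogeneous 𝓕 hF1⟩

theorem toIdeal_mH : (mH 𝓕 hF1).toIdeal = mI 𝓕 hF1 := rfl

theorem proj_zero_eq (p : ↥𝓕.extRees) :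
    LaurSub.proj 𝓕.extRees 0 p = algebraMap A ↥𝓕.extRees ((p : A[T;T⁻¹]).coeff 0) := by
  apply Subtype.ext
  rw [LaurSub.coe_proj, Subalgebra.coe_algebraMap, single_eq_C, LaurentPolynomial.C_eq_algebraMap]

theorem one_notMem_mI : (1 : ↥𝓕.extRees) ∉ mI 𝓕 hF1 := by
  rw [mem_mI, Subalgebra.coe_one]
  have : ((1 : A[T;T⁻¹])).coeff 0 = 1 := by
    rw [← T_zero, T_apply, if_pos rfl]
  rw [this]
  exact fun h => (Ideal.ne_top_iff_one _).1 (maximalIdeal.isMaximal A).ne_top h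

theorem mI_isMaximal : (mI 𝓕 hF1).IsMaximal := by
  rw [Ideal.isMaximal_iff]
  refine ⟨one_notMem_mI 𝓕 hF1, fun J x hIJ hx hxJ => ?_⟩
  rw [mem_mI, mem_maximalIdeal, mem_nonunits_iff, not_not] at hx
  have h1 : x - algebraMap A ↥𝓕.extRees ((x : A[T;T⁻¹]).coeff 0) ∈ mI 𝓕 hF1 := by
    rw [mem_mI, Subalgebra.coe_sub, AddMonoidAlgebra.coeff_sub, Finsupp.sub_apply,
      Subalgebra.coe_algebraMap, ← LaurentPolynomial.C_eq_algebraMap, C_apply, if_pos rfl, sub_self]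
    exact zero_mem _
  have h2 : algebraMap A ↥𝓕.extRees ((x : A[T;T⁻¹]).coeff 0) ∈ J := by
    have := J.sub_mem hxJ (hIJ h1)
    rwa [sub_sub_cancel] at this
  have h3 : IsUnit (algebraMap A ↥𝓕.extRees ((x : A[T;T⁻¹]).coeff 0)) := hx.map _
  rw [← Ideal.eq_top_iff_one]
  exact Ideal.eq_top_of_isUnit_mem _ h2 h3

theorem le_mH_of_ne_top (J : HomogeneousIdeal (LaurSub.gr 𝓕.extRees)) (hJ : J ≠ ⊤) :
    J ≤ mH 𝓕 hF1 := by
  intro p hp
  show p ∈ mI 𝓕 hF1
  rw [mem_mI]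
  by_contra hu
  rw [mem_maximalIdeal, mem_nonunits_iff, not_not] at hu
  apply hJ
  apply HomogeneousIdeal.toIdeal_injective
  rw [HomogeneousIdeal.toIdeal_top]
  have h1 : (decompose (LaurSub.gr 𝓕.extRees) p 0 : ↥𝓕.extRees) ∈ J.toIdeal := J.isHomogeneous 0 hp
  rw [LaurSub.decompose_eq, proj_zero_eq] at h1
  exact Ideal.eq_top_of_isUnit_mem _ h1 (hu.map _)

theorem isStarLocal : GrLC.IsStarLocal (LaurSub.gr 𝓕.extRees) (mH 𝓕 hF1) := by
  have hne : mH 𝓕 hF1 ≠ ⊤ := by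
    intro h
    have h2 := congrArg HomogeneousIdeal.toIdeal h
    rw [HomogeneousIdeal.toIdeal_top, toIdeal_mH] at h2
    exact one_notMem_mI 𝓕 hF1 (by rw [h2]; trivial)
  have hle := le_mH_of_ne_top 𝓕 hF1
  have hco : IsCoatom (mH 𝓕 hF1) := by
    refine ⟨hne, fun b hb => ?_⟩
    by_contra hb'
    exact absurd (hle b hb') (not_le_of_gt hb)
  refine ⟨hco, fun n hn => ?_⟩
  rcases hn.le_iff.mp (hle n hn.1) with h | h
  · exact absurd h hne
  · exact h.symm

theorem u_mem_mI : 𝓕.u ∈ mI 𝓕 hF1 := by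
  rw [mem_mI, coe_u, T_apply, if_neg (by omega)]
  exact zero_mem _

end Local

end Groth.Agent.Helper7.ExtRees
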