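import Mathlib
import Groth.Prelude.Def_GrLC
import Groth.Prelude.Def_W4c2filtblowupsingRees
import Groth.Agent.Helper7.ExtRees1
import Groth.Agent.Helper1.SerreFlatU

/-!
# The extended Rees algebra localised at `u = T⁻¹` is the Laurent polynomial ring (helper7)
-/

set_option autoImplicit false
set_option linter.unusedSectionVars false
set_option linter.style.haveILetI false

namespace Groth.Agent.Helper7.ExtRees

open LaurentPolynomial DirectSum Polynomial IsLocalRing

universe u

section Coeff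

variable {A : Type u} [CommRing A]

theorem isNoetherianRing_laurent [IsNoetherianRing A] : IsNoetherianRing A[T;T⁻¹] :=
  IsLocalization.isNoetherianRing (Submonoid.powers (Polynomial.X : A[X])) A[T;T⁻¹] inferInstance

/-- the ideal of Laurent polynomials with all coefficients in `q` -/
noncomputable def cI (q : Ideal A) : Ideal A[T;T⁻¹] :=
  RingHom.ker (AddMonoidAlgebra.mapRingHom ℤ (Ideal.Quotient.mk q))

theorem mem_cI {q : Ideal A} {f : A[T;T⁻¹]} : f ∈ cI q ↔ ∀ i : ℤ, f.coeff i ∈ q := by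
  rw [cI, RingHom.mem_ker]
  constructor
  · intro h i
    have := congrArg (fun g : (A ⧸ q)[T;T⁻¹] => g.coeff i) h
    simp only [AddMonoidAlgebra.coeff_mapRingHom, AddMonoidAlgebra.coeff_zero,
      Finsupp.zero_apply] at this
    exact Ideal.Quotient.eq_zero_iff_mem.1 this
  · intro h
    apply LaurentPolynomial.ext
    intro i
    rw [AddMonoidAlgebra.coeff_mapRingHom, AddMonoidAlgebra.coeff_zero, Finsupp.zero_apply]
    exact Ideal.Quotient.eq_zero_iff_mem.2 (h i)

instance cI_isPrime (q : Ideal A) [hq : q.IsPrime] : (cI q).IsPrime := by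
  haveI : IsDomain (A ⧸ q) := Ideal.Quotient.isDomain q
  exact RingHom.ker_isPrime _

theorem under_cI (q : Ideal A) : (cI q).comap (algebraMap A A[T;T⁻¹]) = q := by
  ext a
  rw [Ideal.mem_comap, mem_cI, ← LaurentPolynomial.C_eq_algebraMap]
  constructor
  · intro h
    have := h 0
    rwa [C_apply, if_pos rfl] at this
  · intro h i
    rw [C_apply]
    split_ifs
    · exact h
    · exact zero_mem _

/-- an ideal of the Laurent polynomial ring closed under taking homogeneous components -/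
def IsHomB (Q : Ideal A[T;T⁻¹]) : Prop :=
  ∀ x ∈ Q, ∀ i : ℤ, (AddMonoidAlgebra.single i (x.coeff i) : A[T;T⁻¹]) ∈ Q

theorem isHomB_cI (q : Ideal A) : IsHomB (cI q) := by
  classical
  intro x hx i
  rw [mem_cI] at hx ⊢
  intro j
  rw [AddMonoidAlgebra.coeff_single, Finsupp.single_apply]
  split_ifs
  · exact hx i
  · exact zero_mem _

theorem C_coeff_mem {Q : Ideal A[T;T⁻¹]} (hQ : IsHomB Q) {x : A[T;T⁻¹]} (hx : x ∈ Q) (i : ℤ) :
    (LaurentPolynomial.C (x.coeff i) : A[T;T⁻¹]) ∈ Q := by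
  have h1 := Q.mul_mem_right (T (-i)) (hQ x hx i)
  rwa [single_eq_C_mul_T, mul_assoc, ← T_add, add_neg_cancel, T_zero, mul_one] at h1

theorem unrAt_of_isHomB (Q : Ideal A[T;T⁻¹]) [Q.IsPrime] (hQ : IsHomB Q) :
    Groth.Agent.Helper1.SerreFlatU.UnrAt A A[T;T⁻¹] Q := by
  intro x hx
  refine ⟨1, fun h => ?_, ?_⟩
  · exact (Ideal.ne_top_iff_one Q).1 (Ideal.IsPrime.ne_top inferInstance) h
  · rw [one_mul, ← AddMonoidAlgebra.sum_coeff_single x, Finsupp.sum]
    apply Ideal.sum_mem
    intro i _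
    rw [single_eq_C_mul_T]
    apply Ideal.mul_mem_right
    rw [LaurentPolynomial.C_eq_algebraMap]
    apply Ideal.mem_map_of_mem
    show algebraMap A A[T;T⁻¹] (x.coeff i) ∈ Q
    rw [← LaurentPolynomial.C_eq_algebraMap]
    exact C_coeff_mem hQ hx i

variable [IsNoetherianRing A]

theorem dim_loc_eq (Q : Ideal A[T;T⁻¹]) [Q.IsPrime] (hQ : IsHomB Q) :
    ringKrullDim (Localization.AtPrime Q) =
      ringKrullDim (Localization.AtPrime (Q.under A)) := by
  haveI := isNoetherianRing_laurent (A := A)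
  exact Groth.Agent.Helper1.SerreFlatU.dim_atPrime' Q (unrAt_of_isHomB Q hQ)

theorem depth_loc_eq (Q : Ideal A[T;T⁻¹]) [Q.IsPrime] (hQ : IsHomB Q) :
    LocCoh.depth (Localization.AtPrime Q) (Localization.AtPrime Q) =
      LocCoh.depth (Localization.AtPrime (Q.under A)) (Localization.AtPrime (Q.under A)) := by
  haveI := isNoetherianRing_laurent (A := A)
  exact Groth.Agent.Helper1.SerreFlatU.depth_atPrime' Q (unrAt_of_isHomB Q hQ)

end Coeff

section LocLoc

/-- localisation of a localisation at a prime -/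
theorem nonempty_locLoc_equiv {R S : Type u} [CommRing R] [CommRing S] [Algebra R S]
    (M : Submonoid R) [IsLocalization M S] (Q : Ideal S) [Q.IsPrime] :
    Nonempty (Localization.AtPrime (Q.comap (algebraMap R S)) ≃+* Localization.AtPrime Q) := by
  haveI : IsLocalization.AtPrime (Localization.AtPrime Q) (Q.comap (algebraMap R S)) :=
    IsLocalization.isLocalization_isLocalization_atPrime_isLocalization M _ Q
  exact ⟨(IsLocalization.algEquiv (Q.comap (algebraMap R S)).primeCompl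
    (Localization.AtPrime (Q.comap (algebraMap R S))) (Localization.AtPrime Q)).toRingEquiv⟩

end LocLoc

section Away

variable {A : Type u} [CommRing A] (𝓕 : FiltBl.IdealFiltration A)

theorem coe_u_pow (n : ℕ) : ((𝓕.u ^ n : ↥𝓕.extRees) : A[T;T⁻¹]) = T (-(n : ℤ)) := by
  rw [Subalgebra.coe_pow, coe_u, T_pow]
  congr 1
  ring

theorem coeff_T_mul (n : ℤ) (f : A[T;T⁻¹]) (j : ℤ) : (T n * f).coeff j = f.coeff (j - n) := by
  rw [T, AddMonoidAlgebra.coeff_single_mul_apply, one_mul]
  congr 1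
  ring

theorem exists_pow_mul_mem (f : A[T;T⁻¹]) : ∃ n : ℕ, T (-(n : ℤ)) * f ∈ 𝓕.extRees := by
  obtain ⟨N, hN⟩ := f.coeff.support.exists_le
  refine ⟨N.toNat, fun j => ?_⟩
  rw [coeff_T_mul]
  by_cases hj : 0 < j
  · have : f.coeff (j - -((N.toNat : ℕ) : ℤ)) = 0 := by
      by_contra hne
      have := hN _ (Finsupp.mem_support_iff.2 hne)
      omega
    rw [this]
    exact zero_mem _
  · have : j.toNat = 0 := by omega
    rw [this, 𝓕.zero_eq]
    trivial

instance isLocalization_away : IsLocalization.Away 𝓕.u A[T;T⁻¹] := by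
  rw [IsLocalization.Away, isLocalization_iff]
  refine ⟨?_, ?_, ?_⟩
  · rintro ⟨_, n, rfl⟩
    show IsUnit ((𝓕.u ^ n : ↥𝓕.extRees) : A[T;T⁻¹])
    rw [coe_u_pow]
    exact isUnit_T _
  · intro f
    obtain ⟨n, hn⟩ := exists_pow_mul_mem 𝓕 f
    refine ⟨(⟨_, hn⟩, ⟨𝓕.u ^ n, n, rfl⟩), ?_⟩
    show f * ((𝓕.u ^ n : ↥𝓕.extRees) : A[T;T⁻¹]) = T (-(n : ℤ)) * f
    rw [coe_u_pow, mul_comm]
  · intro x y h
    exact ⟨1, by rw [Subtype.ext h]⟩

end Away

end Groth.Agent.Helper7.ExtRees
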