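import Mathlib
import Groth.Prelude.Def_GrLC
import Groth.Prelude.Def_W4c2filtblowupsingRees
import Groth.Agent.Helper7.ExtRees2

/-!
# Primes of the extended Rees algebra not containing `u` (helper7)
-/

set_option autoImplicit false
set_option linter.unusedSectionVars false
set_option linter.style.haveILetI false

namespace Groth.Agent.Helper7.ExtRees

open LaurentPolynomial DirectSum Polynomial IsLocalRing

universe u

variable {A : Type u} [CommRing A] (𝓕 : FiltBl.IdealFiltration A)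

theorem disjoint_powers (P : Ideal ↥𝓕.extRees) [hP : P.IsPrime] (hu : 𝓕.u ∉ P) :
    Disjoint (Submonoid.powers 𝓕.u : Set ↥𝓕.extRees) (P : Set ↥𝓕.extRees) := by
  rw [Set.disjoint_left]
  rintro _ ⟨n, rfl⟩ h
  exact hu (hP.mem_of_pow_mem n h)

/-- a prime of the extended Rees algebra not containing `u` is the contraction of a prime of the
Laurent polynomial ring, homogeneous if the given prime is -/
theorem exists_prime_laurent (P : Ideal ↥𝓕.extRees) [hP : P.IsPrime] (hu : 𝓕.u ∉ P) :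
    ∃ (Q : Ideal A[T;T⁻¹]) (_ : Q.IsPrime), Q.comap (algebraMap ↥𝓕.extRees A[T;T⁻¹]) = P ∧
      (P.IsHomogeneous (LaurSub.gr 𝓕.extRees) → IsHomB Q) := by
  have hdisj := disjoint_powers 𝓕 P hu
  refine ⟨P.map (algebraMap ↥𝓕.extRees A[T;T⁻¹]),
    IsLocalization.isPrime_of_isPrime_disjoint (Submonoid.powers 𝓕.u) A[T;T⁻¹] P hP hdisj,
    IsLocalization.under_map_of_isPrime_disjoint (Submonoid.powers 𝓕.u) A[T;T⁻¹] hP hdisj, ?_⟩
  intro hhom x hx i
  rw [IsLocalization.mem_map_algebraMap_iff (Submonoid.powers 𝓕.u) A[T;T⁻¹]] at hx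
  obtain ⟨⟨⟨a, ha⟩, ⟨_, n, rfl⟩⟩, hxa⟩ := hx
  have hxa' : x * T (-(n : ℤ)) = (a : A[T;T⁻¹]) := by
    rw [← coe_u_pow]
    exact hxa
  have h1 : (decompose (LaurSub.gr 𝓕.extRees) a (i - n) : ↥𝓕.extRees) ∈ P := hhom (i - n) ha
  rw [LaurSub.decompose_eq] at h1
  have h2 : ((LaurSub.proj 𝓕.extRees (i - n) a : ↥𝓕.extRees) : A[T;T⁻¹]) ∈
      P.map (algebraMap ↥𝓕.extRees A[T;T⁻¹]) := Ideal.mem_map_of_mem _ h1
  rw [LaurSub.coe_proj, ← hxa', mul_comm, coeff_T_mul] at h2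
  have h3 := Ideal.mul_mem_right (T (n : ℤ)) _ h2
  rw [single_eq_C_mul_T, mul_assoc, ← T_add] at h3
  rw [single_eq_C_mul_T]
  convert h3 using 3
  · congr 1
    ring
  · ring

end Groth.Agent.Helper7.ExtRees
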