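import Mathlib
import Groth.Prelude.Def_GrLC
import Groth.Prelude.Def_CAlg
import Groth.Prelude.Def_W4c2filtblowupsingRees
import Groth.Agent.Helper7.ExtRees3
import Groth.Agent.Helper7.CMQuot3

/-!
# Cohen–Macaulayness of the extended Rees algebra off `V(R_+ R')` (helper7)
-/

set_option autoImplicit false
set_option linter.unusedSectionVars false
set_option linter.style.haveILetI false

namespace Groth.Agent.Helper7.ExtRees

open LaurentPolynomial DirectSum Polynomial IsLocalRing Groth.Agent.Helper7.CMQuot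
  Groth.Agent.Helper7.Torus

universe u

variable {A : Type u} [CommRing A] [IsNoetherianRing A] (𝓕 : FiltBl.IdealFiltration A)

theorem cm_transport {R : Type u} [CommRing R] (q : Ideal R) [q.IsPrime] :
    ∀ (q' : Ideal R) [q'.IsPrime], q' = q →
      LocCoh.IsCohenMacaulayLocalRing (Localization.AtPrime q') →
      LocCoh.IsCohenMacaulayLocalRing (Localization.AtPrime q) := by
  intro q' _ hq'
  subst hq'
  exact id

/-- Cohen–Macaulayness at a homogeneous prime of the Laurent polynomial ring and at its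
contraction -/
theorem cm_laurent_iff (Q : Ideal A[T;T⁻¹]) [Q.IsPrime] (hQ : IsHomB Q) :
    LocCoh.IsCohenMacaulayLocalRing (Localization.AtPrime Q) ↔
      LocCoh.IsCohenMacaulayLocalRing (Localization.AtPrime (Q.under A)) := by
  haveI := isNoetherianRing_laurent (A := A)
  haveI : IsNoetherianRing (Localization.AtPrime Q) :=
    IsLocalization.isNoetherianRing Q.primeCompl _ inferInstance
  haveI : IsNoetherianRing (Localization.AtPrime (Q.under A)) :=
    IsLocalization.isNoetherianRing (Q.under A).primeCompl _ inferInstance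
  rw [Groth.Agent.Helper5.CMBC.cm_iff_dim_eq_depth, Groth.Agent.Helper5.CMBC.cm_iff_dim_eq_depth,
    dim_loc_eq Q hQ, depth_loc_eq Q hQ]

/-- Cohen–Macaulayness at a prime of the Laurent polynomial ring and at its contraction to the
extended Rees algebra -/
theorem cm_contract_iff (Q : Ideal A[T;T⁻¹]) [Q.IsPrime] :
    LocCoh.IsCohenMacaulayLocalRing
        (Localization.AtPrime (Q.comap (algebraMap ↥𝓕.extRees A[T;T⁻¹]))) ↔
      LocCoh.IsCohenMacaulayLocalRing (Localization.AtPrime Q) := by
  obtain ⟨e⟩ := nonempty_locLoc_equiv (Submonoid.powers 𝓕.u) Q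
  constructor
  · intro h
    exact Groth.Agent.Lead.CMCl.cm_of_ringEquiv e
  · intro h
    exact Groth.Agent.Lead.CMCl.cm_of_ringEquiv e.symm

theorem cm_off_iff (hfg : Algebra.FiniteType A 𝓕.rees)
    (G : Type u) [CommRing G] (φ : 𝓕.extRees →+* G) (hφ : Function.Surjective φ)
    (hker : RingHom.ker φ = Ideal.span {𝓕.u}) (Rp : Ideal 𝓕.extRees)
    (hRp : Rp = Ideal.span {x : 𝓕.extRees | ∃ n : ℕ, 0 < n ∧ ∃ a ∈ 𝓕.F n,
      (x : LaurentPolynomial A) = LaurentPolynomial.C a * LaurentPolynomial.T (n : ℤ)}) :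
    (∀ (P : Ideal 𝓕.extRees) [P.IsPrime], ¬ Rp ≤ P →
        LocCoh.IsCohenMacaulayLocalRing (Localization.AtPrime P)) ↔
      ((∀ (p : Ideal G) [p.IsPrime], ¬ Ideal.map φ Rp ≤ p →
          LocCoh.IsCohenMacaulayLocalRing (Localization.AtPrime p)) ∧
        (∀ (q : Ideal A) [q.IsPrime], ¬ 𝓕.F 1 ≤ q →
            LocCoh.IsCohenMacaulayLocalRing (Localization.AtPrime q))) := by
  haveI : IsNoetherianRing ↥𝓕.extRees := isNoetherianRing 𝓕 hfg
  have hreg : IsSMulRegular ↥𝓕.extRees 𝓕.u := u_regular 𝓕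
  constructor
  · intro h
    constructor
    · intro p hp hnp
      exact (cmLocal_iff_of_surjective 𝓕.u hreg φ hφ hker p (p.comap φ) rfl).1
        (h (p.comap φ) (fun hle => hnp (Ideal.map_le_iff_le_comap.2 hle)))
    · intro q hq hnq
      let Q : Ideal A[T;T⁻¹] := cI q
      have hnP : ¬ Rp ≤ Q.comap (algebraMap ↥𝓕.extRees A[T;T⁻¹]) := by
        obtain ⟨a, ha1, haq⟩ := SetLike.not_le_iff_exists.1 hnq
        have hmem : (AddMonoidAlgebra.single (1 : ℤ) a : A[T;T⁻¹]) ∈ 𝓕.extRees :=
          single_mem 𝓕 (n := 1) (by simpa using ha1)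
        have hx : (⟨_, hmem⟩ : ↥𝓕.extRees) ∈ Rp := by
          rw [hRp]
          apply Ideal.subset_span
          refine ⟨1, one_pos, a, ha1, ?_⟩
          rw [Nat.cast_one]
          exact single_eq_C_mul_T a 1
        intro hle
        have h1 : (AddMonoidAlgebra.single (1 : ℤ) a : A[T;T⁻¹]) ∈ cI q := hle hx
        have h2 := (mem_cI.1 h1) 1
        rw [AddMonoidAlgebra.coeff_single, Finsupp.single_eq_same] at h2
        exact haq h2
      have hCM := h _ hnP
      rw [cm_contract_iff 𝓕 Q, cm_laurent_iff Q (isHomB_cI q)] at hCM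
      exact cm_transport q _ (under_cI q) hCM
  · rintro ⟨hG, hA⟩ P hP hnP
    haveI hc : (Ideal.homogeneousCore (LaurSub.gr 𝓕.extRees) P).toIdeal.IsPrime :=
      core_isPrime (LaurSub.gr 𝓕.extRees) P
    apply cm_of_cm_core (LaurSub.gr 𝓕.extRees) P
    have hle : (Ideal.homogeneousCore (LaurSub.gr 𝓕.extRees) P).toIdeal ≤ P :=
      Ideal.toIdeal_homogeneousCore_le _ _
    have hhom := (Ideal.homogeneousCore (LaurSub.gr 𝓕.extRees) P).isHomogeneous
    generalize (Ideal.homogeneousCore (LaurSub.gr 𝓕.extRees) P).toIdeal = P' at hc hle hhom ⊢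
    have hnP' : ¬ Rp ≤ P' := fun h => hnP (h.trans hle)
    by_cases hu : 𝓕.u ∈ P'
    · have hkerle : RingHom.ker φ ≤ P' := by
        rw [hker, Ideal.span_singleton_le_iff_mem]
        exact hu
      haveI : (P'.map φ).IsPrime := Ideal.map_isPrime_of_surjective hφ hkerle
      have hcomap : (P'.map φ).comap φ = P' := by
        rw [Ideal.comap_map_of_surjective φ hφ, ← RingHom.ker_eq_comap_bot, sup_eq_left.2 hkerle]
      have hnp : ¬ Ideal.map φ Rp ≤ P'.map φ := by
        intro hle2
        apply hnP'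
        have := Ideal.comap_mono (f := φ) hle2
        rw [hcomap] at this
        exact Ideal.le_comap_map.trans this
      exact (cmLocal_iff_of_surjective 𝓕.u hreg φ hφ hker (P'.map φ) P' hcomap).2
        (hG (P'.map φ) hnp)
    · obtain ⟨Q, hQp, hQc, hQh⟩ := exists_prime_laurent 𝓕 P' hu
      have hQhom := hQh hhom
      have hnq : ¬ 𝓕.F 1 ≤ Q.under A := by
        intro hle1
        apply hnP'
        rw [hRp, Ideal.span_le]
        rintro x ⟨n, hn, a, ha, hx⟩
        rw [← hQc]
        show (x : A[T;T⁻¹]) ∈ Q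
        rw [hx]
        apply Ideal.mul_mem_right
        have : a ∈ Q.under A := hle1 (𝓕.antitone hn ha)
        rw [LaurentPolynomial.C_eq_algebraMap]
        exact this
      have hCMA := hA (Q.under A) hnq
      rw [← cm_laurent_iff Q hQhom, ← cm_contract_iff 𝓕 Q] at hCMA
      exact cm_transport P' _ hQc hCMA

end Groth.Agent.Helper7.ExtRees
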