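import Mathlib
import Groth.Agent.Helper7.ExtBC
import Groth.Agent.Helper6.InvLoc

set_option autoImplicit false

/-!
# Exterior powers of a finite projective module of constant rank
-/

namespace Groth.Agent.Helper7.ExtTop

open TensorProduct

universe u

variable (R : Type u) [CommRing R] (M : Type u) [AddCommGroup M] [Module R M]

theorem exists_cover [Module.Finite R M] [Module.Projective R M] (n : ℕ)
    (hn : ∀ q : PrimeSpectrum R, Module.rankAtStalk M q = n) :
    ∃ s : Set R, Ideal.span s = ⊤ ∧ ∀ f ∈ s,
      Nonempty (Module.Basis (Fin n) (Localization.Away f) (LocalizedModule.Away f M)) := by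
  refine ⟨{f | Nonempty (Module.Basis (Fin n) (Localization.Away f) (LocalizedModule.Away f M))},
    ?_, fun f hf => hf⟩
  by_contra hne
  obtain ⟨m, hm, hle⟩ := Ideal.exists_le_maximal _ hne
  haveI := hm
  let q : PrimeSpectrum R := ⟨m, hm.isPrime⟩
  haveI : Module.Free (Localization.AtPrime m) (LocalizedModule m.primeCompl M) :=
    Module.free_of_flat_of_isLocalRing
  have hrk : Module.finrank (Localization.AtPrime m) (LocalizedModule m.primeCompl M) = n := hn q
  let b := Module.finBasisOfFinrankEq _ _ hrk
  haveI : Module.FinitePresentation R M := Module.finitePresentation_of_projective R M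
  obtain ⟨r, hr, b', -⟩ := Module.FinitePresentation.exists_basis_localizedModule_powers
    m.primeCompl (LocalizedModule.mkLinearMap m.primeCompl M) (Localization.AtPrime m) b
  exact hr (hle (Ideal.subset_span ⟨b'⟩))

/-- For a `Fin n`-basis of `M_f`, `(⋀^k M)_f` has a basis indexed by `powersetCard (Fin n) k`. -/
theorem nonempty_basis_localized (f : R) (n k : ℕ)
    (b : Module.Basis (Fin n) (Localization.Away f) (LocalizedModule.Away f M)) :
    Nonempty (Module.Basis (Set.powersetCard (Fin n) k) (Localization.Away f)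
      (LocalizedModule.Away f (⋀[R]^k M))) := by
  let e1 : Localization.Away f ⊗[R] M ≃ₗ[Localization.Away f] LocalizedModule.Away f M :=
    (IsLocalizedModule.isBaseChange (.powers f) (Localization.Away f)
      (LocalizedModule.mkLinearMap (.powers f) M)).equiv
  let e2 : Localization.Away f ⊗[R] (⋀[R]^k M) ≃ₗ[Localization.Away f]
      LocalizedModule.Away f (⋀[R]^k M) :=
    (IsLocalizedModule.isBaseChange (.powers f) (Localization.Away f)
      (LocalizedModule.mkLinearMap (.powers f) (⋀[R]^k M))).equiv
  let β : Localization.Away f ⊗[R] (⋀[R]^k M) ≃ₗ[Localization.Away f]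
      ⋀[Localization.Away f]^k (Localization.Away f ⊗[R] M) :=
    LinearEquiv.ofBijective (ExtBC.beta R (Localization.Away f) M k)
      (ExtBC.beta_bijective R (Localization.Away f) M k)
  exact ⟨((b.map e1.symm).exteriorPower k).map (β.symm ≪≫ₗ e2)⟩

theorem isEmpty_powersetCard (n : ℕ) : IsEmpty (Set.powersetCard (Fin n) (n + 1)) := by
  have hc0 : Nat.card (Set.powersetCard (Fin n) (n + 1)) = 0 := by
    rw [Set.powersetCard.card, Nat.card_fin, Nat.choose_succ_self]
  haveI : Finite (Set.powersetCard (Fin n) (n + 1)) := by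
    have : Finite (Finset (Fin n)) := inferInstance
    exact Subtype.finite
  exact (Nat.card_eq_zero.mp hc0).resolve_right
    (fun h => absurd ‹Finite _› (not_finite_iff_infinite.mpr h))

theorem nonempty_unique_powersetCard (n : ℕ) : Nonempty (Unique (Set.powersetCard (Fin n) n)) := by
  have hc1 : Nat.card (Set.powersetCard (Fin n) n) = 1 := by
    rw [Set.powersetCard.card, Nat.card_fin, Nat.choose_self]
  obtain ⟨s₀, hs₀⟩ := Nat.card_eq_one_iff_exists.mp hc1
  exact ⟨⟨⟨s₀⟩, hs₀⟩⟩

theorem subsingleton_extPow_succ [Module.Finite R M] [Module.Projective R M] (n : ℕ)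
    (hn : ∀ q : PrimeSpectrum R, Module.rankAtStalk M q = n) :
    Subsingleton (⋀[R]^(n + 1) M) := by
  obtain ⟨s, hs, hb⟩ := exists_cover R M n hn
  refine ⟨fun x y => ?_⟩
  refine Module.eq_of_isLocalized_span s hs
    (fun r : s => LocalizedModule.Away r.1 (⋀[R]^(n + 1) M))
    (fun r : s => LocalizedModule.mkLinearMap (.powers r.1) (⋀[R]^(n + 1) M)) x y (fun r => ?_)
  obtain ⟨b⟩ := hb r.1 r.2
  obtain ⟨b'⟩ := nonempty_basis_localized R M r.1 n (n + 1) b
  haveI := isEmpty_powersetCard n
  apply b'.repr.injective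
  ext i
  exact isEmptyElim i

theorem invertible_extPow_top [Module.Finite R M] [Module.Projective R M] (n : ℕ)
    (hn : ∀ q : PrimeSpectrum R, Module.rankAtStalk M q = n) :
    Module.Invertible R (⋀[R]^n M) := by
  obtain ⟨s, hs, hb⟩ := exists_cover R M n hn
  refine Groth.Agent.Helper6.InvLoc.main R (⋀[R]^n M) s hs (fun f hf => ?_)
  obtain ⟨b⟩ := hb f hf
  obtain ⟨b'⟩ := nonempty_basis_localized R M f n n b
  obtain ⟨hu⟩ := nonempty_unique_powersetCard n
  haveI := hu
  exact ⟨b'.equivFun ≪≫ₗ LinearEquiv.funUnique _ _ _⟩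

end Groth.Agent.Helper7.ExtTop
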