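import Mathlib
import Groth.Agent.Helper7.DetCotC
import Groth.Agent.Helper7.ExtTopA
import Groth.Agent.Helper2.ExtReg
import Groth.Agent.Helper7.MonExtA

set_option autoImplicit false

/-!
# `Ext^p_A(Ω^{n-p}_{B}, Ω^n_A) ≅ B` for a smooth quotient `B = A/J` by a regular sequence
-/

namespace Groth.Agent.Helper7.ExtTop

open ExteriorAlgebra RingTheory.Sequence TensorProduct CategoryTheory Abelian
open Groth.Agent.Helper7.DetCot

universe u v w

section equiv

variable {B : Type u} [CommRing B] {F : Type v} [AddCommGroup F] [Module B F]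
variable {Q : Type w} [AddCommGroup Q] [Module B Q] {r m : ℕ}
  (e : Fin r → F) (d : Fin r → Module.Dual B F) (π : F →ₗ[B] Q) (s : Q →ₗ[B] F)

theorem nonempty_equiv' (hde : ∀ i j, d i (e j) = if i = j then 1 else 0)
    (hπs : ∀ q, π (s q) = q) (hds : ∀ i q, d i (s q) = 0)
    (hdec : ∀ x, x = s (π x) + ∑ j, d j x • e j)
    (hvan : ∀ (x : F) (ω : ExteriorAlgebra B F), ω ∈ ⋀[B]^(r + m) F → ι B x * ω = 0) :
    Nonempty (⋀[B]^m Q ≃ₗ[B] ⋀[B]^(r + m) F) := by
  refine ⟨LinearEquiv.ofBijective (Φ (m := m) e s) ⟨?_, ?_⟩⟩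
  · rw [injective_iff_map_eq_zero]
    intro y hy
    have h1 := key_inj e d π s hde hπs hds (y : ExteriorAlgebra B Q)
    rw [← Φ_coe, hy] at h1
    apply Subtype.ext
    rw [← h1]
    simp
  · intro ω
    have h1 := ιMulti_mul_contr r e d hde (ω : ExteriorAlgebra B F) (fun j => hvan (e j) _ ω.2)
    have h2 : contr r d (ω : ExteriorAlgebra B F) ∈ ⋀[B]^m F := contr_mem r d m _ ω.2
    refine ⟨⟨ExteriorAlgebra.map π (contr r d ω), map_mem π m _ h2⟩, ?_⟩
    apply Subtype.ext
    rw [Φ_coe]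
    change ιMulti B r e * ExteriorAlgebra.map s (ExteriorAlgebra.map π (contr r d ω)) = _
    have h3 : ExteriorAlgebra.map s (ExteriorAlgebra.map π (contr r d (ω : ExteriorAlgebra B F))) =
        ExteriorAlgebra.map (s ∘ₗ π) (contr r d ω) := by
      have := ExteriorAlgebra.map_comp_map (R := B) π s
      exact DFunLike.congr_fun this _
    rw [h3, key_surj e d π s hdec, h1]

/-- for a finite projective module of constant rank `n`, `x ∧ ω = 0` for every `n`-form `ω` -/
theorem ι_mul_eq_zero_of_rank {B : Type u} [CommRing B] {F : Type u} [AddCommGroup F] [Module B F]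
    [Module.Finite B F] [Module.Projective B F] (n : ℕ)
    (hn : ∀ q : PrimeSpectrum B, Module.rankAtStalk F q = n)
    (x : F) (ω : ExteriorAlgebra B F) (hω : ω ∈ ⋀[B]^n F) : ι B x * ω = 0 := by
  haveI := subsingleton_extPow_succ B F n hn
  have hmem : ι B x * ω ∈ ⋀[B]^(n + 1) F := by
    have := mul_mem_add (ι_mem_one (B := B) x) hω
    rwa [add_comm] at this
  have := Subsingleton.elim (⟨_, hmem⟩ : ⋀[B]^(n + 1) F) 0
  exact congrArg Subtype.val this

end equiv

end Groth.Agent.Helper7.ExtTop
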