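import Mathlib
import Groth.Agent.Helper7.ExtTopB

set_option autoImplicit false

namespace Groth.Agent.Helper7.ExtTop

open ExteriorAlgebra RingTheory.Sequence TensorProduct CategoryTheory Abelian
open Groth.Agent.Helper7.DetCot

universe u

section piece2

variable {A : Type u} [CommRing A] (L : Type u) [AddCommGroup L] [Module A L]

theorem ext_quot_invertible [Module.Invertible A L] (xs : List A) (hreg : IsWeaklyRegular A xs) :
    Nonempty (Ext (ModuleCat.of A (L ⧸ Ideal.ofList xs • (⊤ : Submodule A L))) (ModuleCat.of A L)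
      xs.length ≃ₗ[A] A ⧸ Ideal.ofList xs) := by
  have hregL : IsWeaklyRegular L xs := by
    have h1 : IsWeaklyRegular (A ⊗[A] L) xs := hreg.isWeaklyRegular_rTensor
    exact ((TensorProduct.lid A L).isWeaklyRegular_congr xs).mp h1
  haveI : Projective (ModuleCat.of A L) := (IsProjective.iff_projective L).mp inferInstance
  have hvan : ∀ (M : ModuleCat.{u} A) (i : ℕ), 0 < i →
      Subsingleton (Ext (ModuleCat.of A L) M i) := by
    intro M i hi
    obtain ⟨j, rfl⟩ : ∃ j, i = j + 1 := ⟨i - 1, by omega⟩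
    exact ⟨fun a b => by rw [Ext.eq_zero_of_projective a, Ext.eq_zero_of_projective b]⟩
  obtain ⟨⟨e1⟩, -⟩ := Helper2.ExtReg.ext_quot_regular xs (ModuleCat.of A L) 0 hvan hregL
    (ModuleCat.of A L)
  rw [zero_add] at e1
  have hbij : Function.Bijective (LinearMap.lsmul A L) :=
    Module.Invertible.toModuleEnd_bijective (R := A) (M := L)
  let e2 : Ext (ModuleCat.of A L) (ModuleCat.of A L) 0 ≃ₗ[A] A :=
    (MonExt.ext0Equiv (ModuleCat.of A L) (ModuleCat.of A L)) ≪≫ₗ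
      (LinearEquiv.ofBijective (LinearMap.lsmul A L) hbij).symm
  let e3 := Helper2.ExtReg.quotSmulTopCongr (Ideal.ofList xs) e2
  have h4 : Ideal.ofList xs • (⊤ : Submodule A A) = Ideal.ofList xs := by
    rw [smul_eq_mul, Ideal.mul_top]
  exact ⟨e1 ≪≫ₗ e3 ≪≫ₗ Submodule.quotEquivOfEq _ _ h4⟩

end piece2

section piece1

variable (k : Type u) [Field k] (A : Type u) [CommRing A] [Algebra k A]
  [Algebra.FiniteType k A] [Algebra.Smooth k A]

theorem iso_mod (m : ℕ) (xs : List A)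
    (hn : ∀ q : PrimeSpectrum A, Module.rankAtStalk (Ω[A⁄k]) q = xs.length + m)
    (hreg : IsWeaklyRegular A xs) [Algebra.Smooth k (A ⧸ Ideal.ofList xs)] :
    Nonempty ((↥(⋀[A]^(xs.length + m) (Ω[A⁄k])) ⧸
        Ideal.ofList xs • (⊤ : Submodule A ↥(⋀[A]^(xs.length + m) (Ω[A⁄k]))))
      ≃ₗ[A] ↥((⋀[A ⧸ Ideal.ofList xs]^m (Ω[(A ⧸ Ideal.ofList xs)⁄k])).restrictScalars A)) := by
  classical
  have hsurj : Function.Surjective (algebraMap A (A ⧸ Ideal.ofList xs)) :=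
    Ideal.Quotient.mk_surjective
  have hK : RingHom.ker (algebraMap A (A ⧸ Ideal.ofList xs)) = Ideal.span (Set.range xs.get) := by
    rw [Ideal.Quotient.algebraMap_eq, Ideal.mk_ker, Set.range_list_get]
  have hreg' : IsWeaklyRegular A (List.ofFn xs.get) := by rwa [List.ofFn_get]
  obtain ⟨e, d, s, hde, hπs, hds, hdec⟩ := exists_split_data (A := k) hsurj xs.get hreg' hK
  have hrk : ∀ q : PrimeSpectrum (A ⧸ Ideal.ofList xs),
      Module.rankAtStalk ((A ⧸ Ideal.ofList xs) ⊗[A] Ω[A⁄k]) q = xs.length + m := by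
    intro q
    rw [Module.rankAtStalk_baseChange]
    exact hn _
  obtain ⟨E1⟩ := nonempty_equiv' (m := m) e d (KaehlerDifferential.mapBaseChange k A
    (A ⧸ Ideal.ofList xs)) s hde hπs hds hdec
    (fun x ω hω => ι_mul_eq_zero_of_rank (xs.length + m) hrk x ω hω)
  let β : (A ⧸ Ideal.ofList xs) ⊗[A] ↥(⋀[A]^(xs.length + m) (Ω[A⁄k])) ≃ₗ[A ⧸ Ideal.ofList xs]
      ⋀[A ⧸ Ideal.ofList xs]^(xs.length + m) ((A ⧸ Ideal.ofList xs) ⊗[A] Ω[A⁄k]) :=
    LinearEquiv.ofBijective (ExtBC.beta A (A ⧸ Ideal.ofList xs) (Ω[A⁄k]) (xs.length + m))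
      (ExtBC.beta_bijective A (A ⧸ Ideal.ofList xs) (Ω[A⁄k]) (xs.length + m))
  let E3 := TensorProduct.quotTensorEquivQuotSMul (↥(⋀[A]^(xs.length + m) (Ω[A⁄k])))
    (Ideal.ofList xs)
  exact ⟨E3.symm ≪≫ₗ β.restrictScalars A ≪≫ₗ E1.symm.restrictScalars A ≪≫ₗ
    ((Submodule.restrictScalarsEquiv A (A ⧸ Ideal.ofList xs) _
      (⋀[A ⧸ Ideal.ofList xs]^m (Ω[(A ⧸ Ideal.ofList xs)⁄k]))).restrictScalars A).symm⟩

end piece1

theorem main (k : Type u) [Field k] (A : Type u) [CommRing A] [Algebra k A]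
    [Algebra.FiniteType k A] [Algebra.Smooth k A] (n : ℕ)
    (hn : ∀ q : PrimeSpectrum A, Module.rankAtStalk (Ω[A⁄k]) q = n) (xs : List A)
    (hreg : RingTheory.Sequence.IsWeaklyRegular A xs) (J : Ideal A) (hJ : Ideal.ofList xs = J)
    [Algebra.Smooth k (A ⧸ J)] (p : ℕ) (hp : xs.length = p) (hpn : p ≤ n) :
    Nonempty (Abelian.Ext (ModuleCat.of A ↥((⋀[A ⧸ J]^(n - p) (Ω[(A ⧸ J)⁄k])).restrictScalars A))
      (ModuleCat.of A ↥(⋀[A]^n (Ω[A⁄k]))) p ≃ₗ[A] (A ⧸ J)) := by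
  subst hp hJ
  obtain ⟨m, rfl⟩ : ∃ m, n = xs.length + m := ⟨n - xs.length, by omega⟩
  rw [Nat.add_sub_cancel_left]
  haveI : Module.Invertible A ↥(⋀[A]^(xs.length + m) (Ω[A⁄k])) :=
    invertible_extPow_top A _ _ hn
  obtain ⟨e1⟩ := iso_mod k A m xs hn hreg
  obtain ⟨e2⟩ := ext_quot_invertible (↥(⋀[A]^(xs.length + m) (Ω[A⁄k]))) xs hreg
  exact ⟨(Helper2.ExtReg.extCongrLeft e1.toModuleIso _ _).symm ≪≫ₗ e2⟩

end Groth.Agent.Helper7.ExtTop
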