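import Mathlib

set_option autoImplicit false

open TensorProduct CategoryTheory

namespace Groth.Agent.Helper7.FlatEpi

universe u

/-- faithfully flat epimorphisms are isomorphisms. -/
theorem bijective_of_faithfullyFlat_of_isEpi (A B : Type u) [CommRing A] [CommRing B] [Algebra A B]
    [Module.FaithfullyFlat A B] [Algebra.IsEpi A B] : Function.Bijective (algebraMap A B) := by
  refine ⟨FaithfulSMul.algebraMap_injective A B, ?_⟩
  have hs : Function.Surjective ((Algebra.linearMap A B).lTensor B) := by
    intro z
    refine ⟨(TensorProduct.lift (LinearMap.mul A B) z) ⊗ₜ (1 : A), ?_⟩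
    apply Algebra.IsEpi.injective_lift_mul (R := A) (A := B)
    simp
  have := (Module.FaithfullyFlat.lTensor_surjective_iff_surjective A B (Algebra.linearMap A B)).mp hs
  exact this

/-- the ring-hom form of `Algebra.IsEpi`. -/
def IsEpiHom {A B : Type u} [CommRing A] [CommRing B] (f : A →+* B) : Prop :=
  letI := f.toAlgebra
  Algebra.IsEpi A B

lemma epi_of_isEpiHom {A B : Type u} [CommRing A] [CommRing B] (f : A →+* B) (hf : IsEpiHom f) :
    Epi (CommRingCat.ofHom f) := by
  letI := f.toAlgebra
  exact CommRingCat.epi_iff_epi.mpr hf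

lemma isEpiHom_of_epi {A B : Type u} [CommRing A] [CommRing B] (f : A →+* B)
    (hf : Epi (CommRingCat.ofHom f)) : IsEpiHom f := by
  letI := f.toAlgebra
  exact CommRingCat.epi_iff_epi.mp hf

lemma IsEpiHom.eq_of_comp_eq {A B T : Type u} [CommRing A] [CommRing B] [CommRing T]
    {f : A →+* B} (hf : IsEpiHom f) (g₁ g₂ : B →+* T) (h : g₁.comp f = g₂.comp f) : g₁ = g₂ := by
  haveI := epi_of_isEpiHom f hf
  have h' : CommRingCat.ofHom f ≫ CommRingCat.ofHom g₁ = CommRingCat.ofHom f ≫ CommRingCat.ofHom g₂ := by
    rw [← CommRingCat.ofHom_comp, ← CommRingCat.ofHom_comp, h]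
  have := (cancel_epi (CommRingCat.ofHom f)).mp h'
  exact congrArg CommRingCat.Hom.hom this

/-- a flat epimorphism induces isomorphisms on localizations at primes. -/
theorem localRingHom_bijective {A B : Type u} [CommRing A] [CommRing B] (f : A →+* B)
    (hflat : f.Flat) (hepi : IsEpiHom f) (P : Ideal B) [P.IsPrime] :
    Function.Bijective (Localization.localRingHom (P.comap f) P f rfl) := by
  set f' := Localization.localRingHom (P.comap f) P f rfl with hf'
  have hflat' : f'.Flat := hflat.localRingHom P (P.comap f) rfl
  -- epi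
  have hepi' : IsEpiHom f' := by
    apply isEpiHom_of_epi
    haveI := epi_of_isEpiHom f hepi
    have hcomp : CommRingCat.ofHom (algebraMap A (Localization.AtPrime (P.comap f))) ≫
        CommRingCat.ofHom f' =
        CommRingCat.ofHom f ≫ CommRingCat.ofHom (algebraMap B (Localization.AtPrime P)) := by
      rw [← CommRingCat.ofHom_comp, ← CommRingCat.ofHom_comp]
      congr 1
      ext a
      exact Localization.localRingHom_to_map _ _ _ rfl a
    haveI : Epi (CommRingCat.ofHom (algebraMap A (Localization.AtPrime (P.comap f))) ≫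
        CommRingCat.ofHom f') := by
      rw [hcomp]
      exact epi_comp _ _
    exact epi_of_epi (CommRingCat.ofHom (algebraMap A (Localization.AtPrime (P.comap f)))) _
  letI := f'.toAlgebra
  haveI : Module.Flat (Localization.AtPrime (P.comap f)) (Localization.AtPrime P) := hflat'
  haveI : IsLocalHom (algebraMap (Localization.AtPrime (P.comap f)) (Localization.AtPrime P)) :=
    (inferInstance : IsLocalHom f')
  haveI : Module.FaithfullyFlat (Localization.AtPrime (P.comap f)) (Localization.AtPrime P) :=
    Module.FaithfullyFlat.of_flat_of_isLocalHom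
  haveI : Algebra.IsEpi (Localization.AtPrime (P.comap f)) (Localization.AtPrime P) := hepi'
  exact bijective_of_faithfullyFlat_of_isEpi _ _

/-- residue fields -/
theorem residueField_map_bijective {A B : Type u} [CommRing A] [CommRing B] (f : A →+* B)
    (hflat : f.Flat) (hepi : IsEpiHom f) (P : Ideal B) [P.IsPrime] (Q : Ideal A) [Q.IsPrime]
    (hQ : Q = P.comap f) :
    Function.Bijective (Ideal.ResidueField.map Q P f hQ) := by
  subst hQ
  refine ⟨RingHom.injective _, ?_⟩
  have hb := localRingHom_bijective f hflat hepi P
  intro z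
  obtain ⟨w, rfl⟩ := IsLocalRing.residue_surjective z
  obtain ⟨v, rfl⟩ := hb.2 w
  exact ⟨IsLocalRing.residue _ v, IsLocalRing.ResidueField.map_residue _ v⟩

/-- a field-valued point extends along a flat epimorphism through a prime over its kernel. -/
theorem exists_extension {A B Ω : Type u} [CommRing A] [CommRing B] [Field Ω] (f : A →+* B)
    (hflat : f.Flat) (hepi : IsEpiHom f) (P : Ideal B) [P.IsPrime] (g : A →+* Ω)
    (hg : P.comap f = RingHom.ker g) :
    ∃ u : B →+* Ω, u.comp f = g ∧ RingHom.ker u = P := by
  haveI : (RingHom.ker g).IsPrime := RingHom.ker_isPrime g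
  have hQ : RingHom.ker g = P.comap f := hg.symm
  have hb := residueField_map_bijective f hflat hepi P (RingHom.ker g) hQ
  let eP := RingEquiv.ofBijective _ hb
  let l : (RingHom.ker g).ResidueField →+* Ω :=
    Ideal.ResidueField.lift (RingHom.ker g) g le_rfl (by
      intro a ha
      show IsUnit (g a)
      rw [isUnit_iff_ne_zero]
      exact fun h0 => ha ((RingHom.mem_ker).mpr h0))
  refine ⟨(l.comp eP.symm.toRingHom).comp (algebraMap B P.ResidueField), ?_, ?_⟩
  · ext a
    show l (eP.symm (algebraMap B P.ResidueField (f a))) = g a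
    have : eP.symm (algebraMap B P.ResidueField (f a)) =
        algebraMap A (RingHom.ker g).ResidueField a := by
      rw [RingEquiv.symm_apply_eq]
      exact (Ideal.ResidueField.map_algebraMap (RingHom.ker g) P f hQ a).symm
    rw [this]
    exact Ideal.ResidueField.lift_algebraMap _ _ _ _ a
  · ext b
    rw [RingHom.mem_ker]
    show l (eP.symm (algebraMap B P.ResidueField b)) = 0 ↔ _
    rw [map_eq_zero_iff _ l.injective, map_eq_zero_iff _ eP.symm.injective, ← RingHom.mem_ker,
      Ideal.ker_algebraMap_residueField]

end Groth.Agent.Helper7.FlatEpi
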