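import Groth.Prelude.Def_SchFin
import Mathlib

set_option autoImplicit false

open TensorProduct

namespace Groth.Agent.Helper7.SchH0

open SchFin

universe u

variable {X : RSpace.{u}} {U : Set X.pt} {R : Type u} [CommRing R] (φ : Coef X U R)

instance : Subsingleton (Fin (0 + 1)) := (inferInstance : Subsingleton (Fin 1))

/-- the one-point chain -/
def chain0 (q : U) : Chain U 0 :=
  OrderEmbedding.ofStrictMono (fun _ => q) (fun a b h => by
    exfalso; have : a = b := Subsingleton.elim _ _; exact absurd h (this ▸ lt_irrefl _))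

@[simp] lemma chain0_apply (q : U) (i : Fin 1) : chain0 q i = q := rfl

lemma chain0_eq (σ : Chain U 0) : σ = chain0 (σ (Fin.last 0)) := by
  apply RelEmbedding.ext
  intro i
  have : i = Fin.last 0 := Subsingleton.elim _ _
  subst this
  rfl

/-- the two-point chain -/
def chain1 (q q' : U) (h : q < q') : Chain U 1 :=
  OrderEmbedding.ofStrictMono ![q, q'] (fun a b hab => by
    fin_cases a <;> fin_cases b
    · exact absurd hab (lt_irrefl _)
    · exact h
    · exfalso; revert hab; decide
    · exact absurd hab (lt_irrefl _))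

lemma chain1_last (q q' : U) (h : q < q') : chain1 q q' h (Fin.last 1) = q' := rfl

lemma chain1_face0 (q q' : U) (h : q < q') : (chain1 q q' h).face 0 = chain0 q' := by
  apply RelEmbedding.ext
  intro i
  have : i = 0 := Subsingleton.elim _ _
  subst this
  rfl

lemma chain1_face1 (q q' : U) (h : q < q') : (chain1 q q' h).face 1 = chain0 q := by
  apply RelEmbedding.ext
  intro i
  have : i = 0 := Subsingleton.elim _ _
  subst this
  rfl

variable (M : OMod X)

lemma res_congr {n : ℕ} (c : Cochain φ M n) {τ τ' : Chain U n} (h : τ = τ') (z : X.pt)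
    (hz : (τ (Fin.last n)).1 ≤ z) (hz' : (τ' (Fin.last n)).1 ≤ z) :
    M.res hz (c τ) = M.res hz' (c τ') := by
  subst h; rfl

lemma diff0_apply (c : Cochain φ M 0) (σ : Chain U 1) :
    diff φ M 0 c σ = c.faceVal σ 0 - c.faceVal σ 1 := by
  show (∑ j : Fin 2, ((-1 : ℤ) ^ (j : ℕ)) • c.faceVal σ j) = _
  rw [Fin.sum_univ_two]
  simp [sub_eq_add_neg]

/-- the cochain of a family -/
def cochOfFam (s : (q : U) → M.carrier q.1) : Cochain φ M 0 := fun σ => s (σ (Fin.last 0))

lemma cochOfFam_mem (s : (q : U) → M.carrier q.1)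
    (hs : ∀ (q q' : U) (h : q.1 ≤ q'.1), M.res h (s q) = s q') :
    cochOfFam φ M s ∈ cocycles φ M 0 := by
  show diff φ M 0 (cochOfFam φ M s) = 0
  funext σ
  rw [diff0_apply]
  show M.res _ (s _) - M.res _ (s _) = 0
  rw [hs _ (σ (Fin.last 1)), hs _ (σ (Fin.last 1)), sub_self]

/-- the family of a cochain -/
def famOfCoch (c : Cochain φ M 0) : (q : U) → M.carrier q.1 := fun q => c (chain0 q)

lemma famOfCoch_compat (c : Cochain φ M 0) (hc : c ∈ cocycles φ M 0)
    (q q' : U) (h : q.1 ≤ q'.1) : M.res h (famOfCoch φ M c q) = famOfCoch φ M c q' := by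
  rcases eq_or_lt_of_le (show q ≤ q' from h) with rfl | hlt
  · exact M.res_self _ _
  · have h0 : diff φ M 0 c (chain1 q q' hlt) = 0 := by
      have : diff φ M 0 c = 0 := hc
      rw [this]; rfl
    rw [diff0_apply, sub_eq_zero] at h0
    have e0 : c.faceVal (chain1 q q' hlt) 0 = famOfCoch φ M c q' := by
      exact (res_congr φ M c (chain1_face0 q q' hlt) q'.1 _ (le_refl _)).trans (M.res_self _ _)
    have e1 : c.faceVal (chain1 q q' hlt) 1 = M.res h (famOfCoch φ M c q) := by
      exact res_congr φ M c (chain1_face1 q q' hlt) q'.1 _ h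
    rw [← e1, ← e0, h0]

lemma famOfCoch_cochOfFam (s : (q : U) → M.carrier q.1) :
    famOfCoch φ M (cochOfFam φ M s) = s := rfl

lemma cochOfFam_famOfCoch (c : Cochain φ M 0) :
    cochOfFam φ M (famOfCoch φ M c) = c := by
  funext σ
  show c (chain0 (σ (Fin.last 0))) = c σ
  have h1 := res_congr φ M c (chain0_eq σ) (σ (Fin.last 0)).1 (le_refl _) (le_refl _)
  exact ((M.res_self _ _).symm.trans (h1.symm.trans (M.res_self _ _)))

lemma comap_cobdry_zero :
    (cobdry φ M 0).comap (cocycles φ M 0).subtype = ⊥ := by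
  show (⊥ : Submodule R (Cochain φ M 0)).comap (cocycles φ M 0).subtype = ⊥
  rw [Submodule.comap_bot, Submodule.ker_subtype]

/-- `H⁰` is the module of cocycles. -/
noncomputable def e0 : H φ M 0 ≃ₗ[R] cocycles φ M 0 :=
  Submodule.quotEquivOfEqBot _ (comap_cobdry_zero φ M)

lemma e0_mk (c : cocycles φ M 0) : e0 φ M (H.mk φ M 0 c) = c := rfl

lemma e0_symm (c : cocycles φ M 0) : (e0 φ M).symm c = H.mk φ M 0 c := rfl

/-- the family attached to a class in `H⁰`. -/
noncomputable def h0Fam (h : H φ M 0) : (q : U) → M.carrier q.1 :=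
  famOfCoch φ M (e0 φ M h).1

lemma h0Fam_mk (c : cocycles φ M 0) : h0Fam φ M (H.mk φ M 0 c) = famOfCoch φ M c.1 := rfl

lemma h0Fam_compat (h : H φ M 0) (q q' : U) (hq : q.1 ≤ q'.1) :
    M.res hq (h0Fam φ M h q) = h0Fam φ M h q' :=
  famOfCoch_compat φ M _ (e0 φ M h).2 q q' hq

lemma h0Fam_add (h h' : H φ M 0) (q : U) :
    h0Fam φ M (h + h') q = h0Fam φ M h q + h0Fam φ M h' q := by
  unfold h0Fam
  rw [map_add]
  rfl

lemma h0Fam_zero (q : U) : h0Fam φ M 0 q = 0 := by
  unfold h0Fam
  rw [map_zero]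
  rfl

lemma h0Fam_smul (a : R) (h : H φ M 0) (q : U) :
    h0Fam φ M (a • h) q = φ.map q a • h0Fam φ M h q := by
  unfold h0Fam
  rw [map_smul]
  rfl

lemma h0Fam_injective : Function.Injective (h0Fam φ M) := by
  intro h h' hh
  apply (e0 φ M).injective
  apply Subtype.ext
  have := congrArg (cochOfFam φ M) hh
  unfold h0Fam at this
  rwa [cochOfFam_famOfCoch, cochOfFam_famOfCoch] at this

lemma h0Fam_surjective (s : (q : U) → M.carrier q.1)
    (hs : ∀ (q q' : U) (h : q.1 ≤ q'.1), M.res h (s q) = s q') :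
    ∃ h : H φ M 0, h0Fam φ M h = s :=
  ⟨H.mk φ M 0 ⟨cochOfFam φ M s, cochOfFam_mem φ M s hs⟩, rfl⟩

variable {φ} {U' : Set X.pt} {R' : Type u} [CommRing R'] {φ' : Coef X U' R'}

lemma h0Fam_resH (s : Coef.Sub φ φ') (h : H φ M 0) (q : U') :
    h0Fam φ' M (resH M s 0 h) q = h0Fam φ M h ⟨q.1, s.le q.2⟩ := by
  obtain ⟨c, rfl⟩ : ∃ c, H.mk φ M 0 c = h := ⟨e0 φ M h, (e0 φ M).symm_apply_apply h⟩
  rfl

end Groth.Agent.Helper7.SchH0

namespace Groth.Agent.Helper7.SchH0

open SchFin

universe u

section Sec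

variable {X : RSpace.{u}} {U : Set X.pt} {R : Type u} [CommRing R] (φ : Coef X U R)

/-- the section of the structure rings attached to a class in `H⁰`. -/
noncomputable def secOfH0 (h : H φ X.str 0) : X.sectRing U :=
  ⟨h0Fam φ X.str h, fun q q' hq => h0Fam_compat φ X.str h q q' hq⟩

lemma secOfH0_apply (h : H φ X.str 0) (q : U) : (secOfH0 φ h).1 q = h0Fam φ X.str h q := rfl

lemma secOfH0_bijective : Function.Bijective (secOfH0 φ) := by
  constructor
  · intro h h' hh
    apply h0Fam_injective φ X.str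
    exact congrArg Subtype.val hh
  · intro t
    obtain ⟨h, hh⟩ := h0Fam_surjective φ X.str t.1 (fun q q' hq => t.2 q q' hq)
    exact ⟨h, Subtype.ext hh⟩

lemma secOfH0_add (h h' : H φ X.str 0) : secOfH0 φ (h + h') = secOfH0 φ h + secOfH0 φ h' := by
  apply Subtype.ext
  funext q
  exact h0Fam_add φ X.str h h' q

lemma secOfH0_zero : secOfH0 φ 0 = 0 := by
  apply Subtype.ext
  funext q
  exact h0Fam_zero φ X.str q

end Sec

lemma wedge_id_eq (X : RSpace.{u}) (x y : X.pt) : (Hom.id X).wedge x y = X.up x ∩ X.up y := rfl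

lemma bc_equiv {R S : Type u} [CommRing R] [CommRing S] (g : R →+* S) {M N : Type u}
    [AddCommGroup M] [AddCommGroup N] [Module R M] [Module S N] (f : M →ₛₗ[g] N)
    (h : IsBCAlong g f) :
    letI : Algebra R S := g.toAlgebra
    ∃ e : S ⊗[R] M ≃+ N, ∀ (t : S) (m : M), e (t ⊗ₜ m) = t • f m := by
  letI : Algebra R S := g.toAlgebra
  letI : Module R N := Module.compHom N g
  haveI : IsScalarTower R S N := IsScalarTower.of_algebraMap_smul fun _ _ => rfl
  exact ⟨(IsBaseChange.equiv h).toAddEquiv, fun t m => IsBaseChange.equiv_tmul h t m⟩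

section Core

variable (X : RSpace.{u}) (hX : X.IsSchematic) {s x y : X.pt} (hx : s ≤ x) (hy : s ≤ y)

/-- evaluation at `y` of classes in `H⁰` over the points above `s` and `y`. -/
noncomputable def gam :
    letI : Algebra (X.ring s) (X.ring y) := (X.res hy).toAlgebra
    H (Coef.ofLE s ((Hom.id X).wedge s y) ((Hom.id X).wedge_subset_up s y)) X.str 0
      →ₗ[X.ring s] X.ring y :=
  letI : Algebra (X.ring s) (X.ring y) := (X.res hy).toAlgebra
  { toFun := fun h => h0Fam _ X.str h ⟨y, ⟨hy, le_refl y⟩⟩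
    map_add' := fun h h' => h0Fam_add _ X.str h h' _
    map_smul' := fun a h => by
      rw [h0Fam_smul]
      rfl }

lemma gam_bijective : Function.Bijective (gam X hy) := by
  constructor
  · intro h h' hh
    apply h0Fam_injective _ X.str
    funext q
    have e1 := h0Fam_compat _ X.str h ⟨y, ⟨hy, le_refl y⟩⟩ q q.2.2
    have e2 := h0Fam_compat _ X.str h' ⟨y, ⟨hy, le_refl y⟩⟩ q q.2.2
    rw [← e1, ← e2]
    exact congrArg _ hh
  · intro c
    obtain ⟨h, hh⟩ := h0Fam_surjective
      (Coef.ofLE s ((Hom.id X).wedge s y) ((Hom.id X).wedge_subset_up s y)) X.str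
      (fun q => X.res q.2.2 c) (fun q q' hq => X.res_comp _ _ c)
    refine ⟨h, ?_⟩
    show h0Fam _ X.str h ⟨y, ⟨hy, le_refl y⟩⟩ = c
    rw [hh]
    exact X.res_self y c

/-- The degree-zero schematic condition: `𝒪_x ⊗_{𝒪_s} 𝒪_y` is the ring of sections over the
points above `x` and `y`. -/
theorem core (hX : X.IsSchematic) :
    letI : Algebra (X.ring s) (X.ring x) := (X.res hx).toAlgebra
    letI : Algebra (X.ring s) (X.ring y) := (X.res hy).toAlgebra
    ∃ e : (X.ring x ⊗[X.ring s] X.ring y) ≃+* X.sectRing (X.up x ∩ X.up y),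
      ∀ (b : X.ring x) (c : X.ring y), e (b ⊗ₜ c) =
        X.resSect x (X.up x ∩ X.up y) Set.inter_subset_left b *
          X.resSect y (X.up x ∩ X.up y) Set.inter_subset_right c := by
  letI : Algebra (X.ring s) (X.ring x) := (X.res hx).toAlgebra
  letI : Algebra (X.ring s) (X.ring y) := (X.res hy).toAlgebra
  letI : Algebra (X.ring s) (X.sectRing (X.up x ∩ X.up y)) :=
    (X.resSect s (X.up x ∩ X.up y) (fun q hq => le_trans hx hq.1)).toAlgebra
  -- the two algebra maps
  let fB : X.ring x →ₐ[X.ring s] X.sectRing (X.up x ∩ X.up y) :=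
    { X.resSect x (X.up x ∩ X.up y) Set.inter_subset_left with
      commutes' := fun a => by
        apply Subtype.ext
        funext q
        exact X.res_comp hx _ a }
  let fC : X.ring y →ₐ[X.ring s] X.sectRing (X.up x ∩ X.up y) :=
    { X.resSect y (X.up x ∩ X.up y) Set.inter_subset_right with
      commutes' := fun a => by
        apply Subtype.ext
        funext q
        exact X.res_comp hy _ a }
  let Ψ := Algebra.TensorProduct.productMap fB fC
  have hΨ : ∀ b c, Ψ (b ⊗ₜ c) = X.resSect x (X.up x ∩ X.up y) Set.inter_subset_left b *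
      X.resSect y (X.up x ∩ X.up y) Set.inter_subset_right c := fun b c =>
    Algebra.TensorProduct.productMap_apply_tmul fB fC b c
  -- the base change bijection
  have hbc := (hX.2.2 0 s x hx y y le_rfl).1
  obtain ⟨e1, he1⟩ := bc_equiv (X.res hx) _ hbc
  let γe := LinearEquiv.ofBijective (gam X hy) (gam_bijective X hy)
  let Θ := TensorProduct.congr (LinearEquiv.refl (X.ring s) (X.ring x)) γe.symm
  -- comparison
  have hcomp : ∀ t : X.ring x ⊗[X.ring s] X.ring y,
      Ψ t = secOfH0 (Coef.ofLE x ((Hom.id X).wedge x y) ((Hom.id X).wedge_subset_up x y))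
        (e1 (Θ t)) := by
    intro t
    induction t using TensorProduct.induction_on with
    | zero =>
      rw [map_zero, map_zero, map_zero, secOfH0_zero]
      rfl
    | add t t' ht ht' =>
      have h3 := secOfH0_add
        (Coef.ofLE x ((Hom.id X).wedge x y) ((Hom.id X).wedge_subset_up x y)) (e1 (Θ t)) (e1 (Θ t'))
      rw [map_add Ψ, ht, ht', map_add Θ, map_add e1]
      exact h3.symm
    | tmul b c =>
      rw [hΨ]
      have h4 : Θ (b ⊗ₜ c) = b ⊗ₜ (γe.symm c) := rfl
      rw [h4, he1]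
      have key : ∀ q : ((Hom.id X).wedge x y),
          h0Fam (Coef.ofLE x ((Hom.id X).wedge x y) ((Hom.id X).wedge_subset_up x y)) X.str
            (b • resH X.str ((Hom.id X).subSrc hx y) 0 (γe.symm c)) q =
            X.res q.2.1 b * X.res (show y ≤ q.1 from q.2.2) c := by
        intro q
        refine (h0Fam_smul _ X.str b _ q).trans ?_
        rw [h0Fam_resH]
        have e3 := h0Fam_compat
          (Coef.ofLE s ((Hom.id X).wedge s y) ((Hom.id X).wedge_subset_up s y))
          X.str (γe.symm c) ⟨y, ⟨hy, le_refl y⟩⟩ ⟨q.1, ((Hom.id X).subSrc hx y).le q.2⟩ q.2.2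
        have e4 : h0Fam (Coef.ofLE s ((Hom.id X).wedge s y) ((Hom.id X).wedge_subset_up s y))
          X.str (γe.symm c) ⟨y, ⟨hy, le_refl y⟩⟩ = c := γe.apply_symm_apply c
        rw [← e3, e4]
        rfl
      apply Subtype.ext
      funext q
      exact (key q).symm
  have hbij : Function.Bijective Ψ := by
    have h1 : (Ψ : _ → _) = (secOfH0 _) ∘ e1 ∘ Θ := funext hcomp
    rw [h1]
    exact (secOfH0_bijective _).comp (e1.bijective.comp Θ.bijective)
  exact ⟨RingEquiv.ofBijective Ψ.toRingHom hbij, hΨ⟩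

end Core

end Groth.Agent.Helper7.SchH0
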