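import Groth.Prelude.Def_SchFin2
import Groth.Agent.Helper7.SchH0
import Groth.Agent.Helper7.FlatEpi
import Mathlib

set_option autoImplicit false

open TensorProduct

namespace Groth.Agent.Helper7.SchEpi

open SchFin Groth.Agent.Helper7.SchH0 Groth.Agent.Helper7.FlatEpi

universe u

variable (X : RSpace.{u}) (hX : X.IsSchematic)

include hX in
lemma res_flat {x y : X.pt} (h : x ≤ y) : (X.res h).Flat := hX.1.2 x y h

include hX in
lemma res_isEpiHom {x y : X.pt} (h : x ≤ y) : IsEpiHom (X.res h) := by
  letI : Algebra (X.ring x) (X.ring y) := (X.res h).toAlgebra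
  obtain ⟨e, he⟩ := core X h h hX
  show Algebra.IsEpi (X.ring x) (X.ring y)
  rw [Algebra.isEpi_iff_forall_one_tmul_eq]
  intro b
  apply e.injective
  rw [he, he, mul_comm]

end Groth.Agent.Helper7.SchEpi
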