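import Groth.Prelude.Def_SchFin2
import Groth.Agent.Helper7.SchEpi
import Mathlib

set_option autoImplicit false

open TensorProduct

namespace Groth.Agent.Helper7.SchH0

open SchFin

universe u

section Eval

variable {X : RSpace.{u}} {U : Set X.pt} {R : Type u} [CommRing R] (φ : Coef X U R) (M : OMod X)

/-- evaluation of `H⁰` at a point is injective when the point is a minimum. -/
lemma h0Fam_eval_injective (y0 : U) (hmin : ∀ q : U, y0.1 ≤ q.1) (h h' : H φ M 0)
    (hh : h0Fam φ M h y0 = h0Fam φ M h' y0) : h = h' := by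
  apply h0Fam_injective φ M
  funext q
  have e1 := h0Fam_compat φ M h y0 q (hmin q)
  have e2 := h0Fam_compat φ M h' y0 q (hmin q)
  rw [← e1, ← e2, hh]

lemma h0Fam_eval_surjective (y0 : U) (hmin : ∀ q : U, y0.1 ≤ q.1) (m : M.carrier y0.1) :
    ∃ h : H φ M 0, h0Fam φ M h y0 = m := by
  obtain ⟨h, hh⟩ := h0Fam_surjective φ M (fun q => M.res (hmin q) m)
    (fun q q' hq => M.res_comp _ _ m)
  refine ⟨h, ?_⟩
  rw [hh]
  exact M.res_self _ m

lemma h0_subsingleton_of_isEmpty [IsEmpty U] : Subsingleton (H φ M 0) := by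
  constructor
  intro h h'
  apply h0Fam_injective φ M
  funext q
  exact isEmptyElim q

end Eval

end Groth.Agent.Helper7.SchH0
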