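import Groth.Prelude.Def_SchFin2
import Groth.Agent.Helper7.SchH0b
import Mathlib

set_option autoImplicit false

open TensorProduct

namespace Groth.Agent.Helper7.SchGeom

open SchFin Groth.Agent.Helper7.SchH0 Groth.Agent.Helper7.FlatEpi Groth.Agent.Helper7.SchEpi

universe u

theorem comap_ne_ker_toField (X : RSpace.{u}) (hX : X.IsSchematic) {Ω : Type u} [Field Ω]
    [IsAlgClosed Ω] (ξ : GeomPt X Ω) {x' : X.pt} (hx : ξ.base < x') (P : Ideal (X.ring x')) [P.IsPrime] :
    P.comap (X.res hx.le) ≠ RingHom.ker ξ.toField := by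
  intro hP
  obtain ⟨u, hu, -⟩ := exists_extension (X.res hx.le) (res_flat X hX hx.le) (res_isEpiHom X hX hx.le)
    P ξ.toField hP
  have hsch := (ξ.isSchematic.2.2 0 PUnit.unit PUnit.unit le_rfl ξ.base x' hx.le).2
  letI : Algebra (X.ring ξ.base) (X.ring x') := (X.res hx.le).toAlgebra
  obtain ⟨e1, -⟩ := bc_equiv (X.res hx.le) _ hsch
  haveI : IsEmpty ↥(ξ.hom.wedge PUnit.unit x') := by
    constructor
    rintro ⟨q, -, hq⟩
    exact absurd hq (not_le_of_gt hx)
  haveI := h0_subsingleton_of_isEmpty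
    (Coef.ofHom ξ.hom x' (ξ.hom.wedge PUnit.unit x') (ξ.hom.wedge_subset_pre PUnit.unit x'))
    (RSpace.point Ω).str
  haveI : Subsingleton (X.ring x' ⊗[X.ring ξ.base]
      H (Coef.ofHom ξ.hom ξ.base (ξ.hom.wedge PUnit.unit ξ.base)
        (ξ.hom.wedge_subset_pre PUnit.unit ξ.base)) (RSpace.point Ω).str 0) :=
    e1.toEquiv.subsingleton
  -- the evaluation point
  let y0 : ↥(ξ.hom.wedge PUnit.unit ξ.base) := ⟨PUnit.unit, ⟨le_refl _, le_refl _⟩⟩
  obtain ⟨h₁, hh₁⟩ := h0Fam_eval_surjective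
    (Coef.ofHom ξ.hom ξ.base (ξ.hom.wedge PUnit.unit ξ.base)
        (ξ.hom.wedge_subset_pre PUnit.unit ξ.base)) (RSpace.point Ω).str y0
    (fun q => le_refl _) (1 : Ω)
  letI : Algebra (X.ring ξ.base) Ω := ξ.toField.toAlgebra
  let uL : X.ring x' →ₗ[X.ring ξ.base] Ω :=
    { toFun := u
      map_add' := map_add u
      map_smul' := fun a b => by
        show u (X.res hx.le a * b) = ξ.toField a * u b
        rw [map_mul, ← hu]
        rfl }
  let evL : H (Coef.ofHom ξ.hom ξ.base (ξ.hom.wedge PUnit.unit ξ.base)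
        (ξ.hom.wedge_subset_pre PUnit.unit ξ.base)) (RSpace.point Ω).str 0 →ₗ[X.ring ξ.base] Ω :=
    { toFun := fun h => h0Fam _ (RSpace.point Ω).str h y0
      map_add' := fun h h' => h0Fam_add _ _ h h' y0
      map_smul' := fun a h => by
        have h5 := h0Fam_smul (Coef.ofHom ξ.hom ξ.base (ξ.hom.wedge PUnit.unit ξ.base)
          (ξ.hom.wedge_subset_pre PUnit.unit ξ.base)) (RSpace.point Ω).str a h y0
        refine h5.trans ?_
        exact congrArg (fun t : Ω => t * (show Ω from h0Fam _ (RSpace.point Ω).str h y0))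
          (congrArg (ξ.hom.app PUnit.unit) (X.res_self _ a)) }
  let Φ := (LinearMap.mul' (X.ring ξ.base) Ω) ∘ₗ (TensorProduct.map uL evL)
  have h1 : Φ ((1 : X.ring x') ⊗ₜ h₁) = 1 := by
    show u 1 * (show Ω from h0Fam _ (RSpace.point Ω).str h₁ y0) = 1
    rw [hh₁, map_one, mul_one]
  have h0 : (1 : X.ring x') ⊗ₜ[X.ring ξ.base] h₁ = 0 := Subsingleton.elim _ _
  rw [h0, map_zero] at h1
  exact zero_ne_one h1

end Groth.Agent.Helper7.SchGeom
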