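import Mathlib

set_option autoImplicit false

open TensorProduct

namespace Groth.Agent.Helper7.TensorPrime

universe u

/-- a prime of a tensor product lying over two given primes with the same contraction, when
the residue field extensions are trivial. -/
theorem exists_prime_tensor {A B C : Type u} [CommRing A] [CommRing B] [CommRing C]
    [Algebra A B] [Algebra A C] (P : Ideal B) [P.IsPrime] (Q : Ideal C) [Q.IsPrime]
    (𝔭 : Ideal A) [𝔭.IsPrime] (hP : 𝔭 = P.comap (algebraMap A B)) (hQ : 𝔭 = Q.comap (algebraMap A C))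
    (bP : Function.Bijective (Ideal.ResidueField.map 𝔭 P (algebraMap A B) hP))
    (bQ : Function.Bijective (Ideal.ResidueField.map 𝔭 Q (algebraMap A C) hQ)) :
    ∃ 𝔯 : Ideal (B ⊗[A] C), 𝔯.IsPrime ∧
      𝔯.comap (Algebra.TensorProduct.includeLeft : B →ₐ[A] B ⊗[A] C).toRingHom = P ∧
      𝔯.comap (Algebra.TensorProduct.includeRight : C →ₐ[A] B ⊗[A] C).toRingHom = Q := by
  let eP := RingEquiv.ofBijective _ bP
  let eQ := RingEquiv.ofBijective _ bQ
  let uP : B →ₐ[A] 𝔭.ResidueField :=
    { eP.symm.toRingHom.comp (algebraMap B P.ResidueField) with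
      commutes' := fun a => by
        show eP.symm (algebraMap B P.ResidueField (algebraMap A B a)) = _
        rw [RingEquiv.symm_apply_eq]
        exact (Ideal.ResidueField.map_algebraMap 𝔭 P (algebraMap A B) hP a).symm }
  let uQ : C →ₐ[A] 𝔭.ResidueField :=
    { eQ.symm.toRingHom.comp (algebraMap C Q.ResidueField) with
      commutes' := fun a => by
        show eQ.symm (algebraMap C Q.ResidueField (algebraMap A C a)) = _
        rw [RingEquiv.symm_apply_eq]
        exact (Ideal.ResidueField.map_algebraMap 𝔭 Q (algebraMap A C) hQ a).symm }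
  let θ := Algebra.TensorProduct.productMap uP uQ
  refine ⟨RingHom.ker θ.toRingHom, RingHom.ker_isPrime _, ?_, ?_⟩
  · ext b
    simp only [Ideal.mem_comap, RingHom.mem_ker]
    show θ (b ⊗ₜ 1) = 0 ↔ _
    rw [Algebra.TensorProduct.productMap_apply_tmul, map_one, mul_one]
    show eP.symm (algebraMap B P.ResidueField b) = 0 ↔ _
    rw [map_eq_zero_iff _ eP.symm.injective, ← RingHom.mem_ker, Ideal.ker_algebraMap_residueField]
  · ext c
    simp only [Ideal.mem_comap, RingHom.mem_ker]
    show θ (1 ⊗ₜ c) = 0 ↔ _
    rw [Algebra.TensorProduct.productMap_apply_tmul, map_one, one_mul]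
    show eQ.symm (algebraMap C Q.ResidueField c) = 0 ↔ _
    rw [map_eq_zero_iff _ eQ.symm.injective, ← RingHom.mem_ker, Ideal.ker_algebraMap_residueField]

end Groth.Agent.Helper7.TensorPrime
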