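import Groth.Prelude.Def_SchFin2
import Groth.Agent.Helper7.SchEpi
import Groth.Agent.Helper7.TensorPrime
import Mathlib

set_option autoImplicit false

open TensorProduct

namespace Groth.Agent.Helper7.SchPair

open SchFin Groth.Agent.Helper7.SchH0 Groth.Agent.Helper7.FlatEpi Groth.Agent.Helper7.SchEpi
  Groth.Agent.Helper7.TensorPrime

universe u

theorem pairRel_of_comap_eq (X : RSpace.{u}) (hX : X.IsSchematic)
    (hff : ∀ s a b : X.pt, s ≤ a → s ≤ b → (X.up a ∩ X.up b).Nonempty →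
      Module.FaithfullyFlat (X.sectRing (X.up a ∩ X.up b)) ((q : ↥(X.up a ∩ X.up b)) → X.ring q.1))
    {s x y : X.pt} (hx : s ≤ x) (hy : s ≤ y) (P : PrimeSpectrum (X.ring x)) (Q : PrimeSpectrum (X.ring y))
    (hPQ : PrimeSpectrum.comap (X.res hx) P = PrimeSpectrum.comap (X.res hy) Q) :
    X.PairRel ⟨x, P⟩ ⟨y, Q⟩ := by
  letI : Algebra (X.ring s) (X.ring x) := (X.res hx).toAlgebra
  letI : Algebra (X.ring s) (X.ring y) := (X.res hy).toAlgebra
  obtain ⟨e, he⟩ := core X hx hy hX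
  have h1 : (PrimeSpectrum.comap (X.res hx) P).asIdeal =
      P.asIdeal.comap (algebraMap (X.ring s) (X.ring x)) := rfl
  have h2 : (PrimeSpectrum.comap (X.res hx) P).asIdeal =
      Q.asIdeal.comap (algebraMap (X.ring s) (X.ring y)) := by rw [hPQ]; rfl
  obtain ⟨𝔯, h𝔯, hrP, hrQ⟩ := exists_prime_tensor P.asIdeal Q.asIdeal
    (PrimeSpectrum.comap (X.res hx) P).asIdeal h1 h2
    (residueField_map_bijective (X.res hx) (res_flat X hX hx) (res_isEpiHom X hX hx) P.asIdeal _ h1)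
    (residueField_map_bijective (X.res hy) (res_flat X hX hy) (res_isEpiHom X hX hy) Q.asIdeal _ h2)
  have hne : (X.up x ∩ X.up y).Nonempty := by
    by_contra hempty
    rw [Set.not_nonempty_iff_eq_empty] at hempty
    haveI : IsEmpty ↥(X.up x ∩ X.up y) := by rw [hempty]; infer_instance
    have h01 : (0 : X.sectRing (X.up x ∩ X.up y)) = 1 := by
      apply Subtype.ext
      funext q
      exact isEmptyElim q
    have : (1 : X.ring x ⊗[X.ring s] X.ring y) ∈ 𝔯 := by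
      have : (1 : X.ring x ⊗[X.ring s] X.ring y) = 0 := by
        apply e.injective
        rw [map_one, map_zero, h01]
      rw [this]; exact 𝔯.zero_mem
    exact h𝔯.ne_top ((Ideal.eq_top_iff_one _).mpr this)
  haveI := hff s x y hx hy hne
  let 𝔯' : PrimeSpectrum (X.sectRing (X.up x ∩ X.up y)) :=
    ⟨𝔯.comap e.symm.toRingHom, Ideal.comap_isPrime _ _⟩
  obtain ⟨𝔔, h𝔔⟩ := PrimeSpectrum.comap_surjective_of_faithfullyFlat
    (A := X.sectRing (X.up x ∩ X.up y)) (B := (q : ↥(X.up x ∩ X.up y)) → X.ring q.1) 𝔯'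
  obtain ⟨z, r, hr⟩ := PrimeSpectrum.exists_comap_evalRingHom_eq 𝔔
  have key : ∀ t : X.sectRing (X.up x ∩ X.up y), t.1 z ∈ r.asIdeal ↔ e.symm t ∈ 𝔯 := by
    intro t
    have h3 : t ∈ 𝔯'.asIdeal ↔ e.symm t ∈ 𝔯 := Iff.rfl
    rw [← h3, ← h𝔔, ← hr]
    rfl
  refine ⟨z.1, z.2.1, z.2.2, r, ?_, ?_⟩
  · apply PrimeSpectrum.ext
    ext b
    show X.res z.2.1 b ∈ r.asIdeal ↔ b ∈ P.asIdeal
    have h4 := key (X.resSect x (X.up x ∩ X.up y) Set.inter_subset_left b)
    have h5 : e.symm (X.resSect x (X.up x ∩ X.up y) Set.inter_subset_left b) = b ⊗ₜ 1 := by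
      rw [RingEquiv.symm_apply_eq, he, map_one, mul_one]
    rw [h5] at h4
    rw [← hrP]
    exact h4
  · apply PrimeSpectrum.ext
    ext c
    show X.res z.2.2 c ∈ r.asIdeal ↔ c ∈ Q.asIdeal
    have h4 := key (X.resSect y (X.up x ∩ X.up y) Set.inter_subset_right c)
    have h5 : e.symm (X.resSect y (X.up x ∩ X.up y) Set.inter_subset_right c) = 1 ⊗ₜ c := by
      rw [RingEquiv.symm_apply_eq, he, map_one, one_mul]
    rw [h5] at h4
    rw [← hrQ]
    exact h4

end Groth.Agent.Helper7.SchPair
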