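import Groth.Prelude.Def_SchFin2
import Groth.Agent.Helper7.SchPair
import Mathlib

set_option autoImplicit false

namespace Groth.Agent.Helper7.SchPair

open SchFin

universe u

section
variable (X : RSpace.{u})

lemma comap_res_self (p : X.pt) (h : p ≤ p) (P : PrimeSpectrum (X.ring p)) :
    PrimeSpectrum.comap (X.res h) P = P := by
  have : X.res h = RingHom.id _ := RingHom.ext (X.res_self p)
  rw [this]
  rfl

lemma comap_res_comp {p q s : X.pt} (h : p ≤ q) (h' : q ≤ s) (h'' : p ≤ s)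
    (t : PrimeSpectrum (X.ring s)) :
    PrimeSpectrum.comap (X.res h) (PrimeSpectrum.comap (X.res h') t) =
      PrimeSpectrum.comap (X.res h'') t := by
  have : X.res h'' = (X.res h').comp (X.res h) := RingHom.ext fun a => (X.res_comp h h' a).symm
  rw [this]
  rfl

lemma pairRel_refl (a : X.Pair) : X.PairRel a a :=
  ⟨a.1, le_refl _, le_refl _, a.2, comap_res_self X _ _ _, comap_res_self X _ _ _⟩

lemma pairRel_symm {a b : X.Pair} (h : X.PairRel a b) : X.PairRel b a := by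
  obtain ⟨z, hx, hy, r, h1, h2⟩ := h
  exact ⟨z, hy, hx, r, h2, h1⟩

/-- a pair above is related -/
lemma pairRel_above (a : X.Pair) (w : X.pt) (h : a.1 ≤ w) (t : PrimeSpectrum (X.ring w))
    (ht : PrimeSpectrum.comap (X.res h) t = a.2) : X.PairRel a ⟨w, t⟩ :=
  ⟨w, h, le_refl _, t, ht, comap_res_self X _ _ _⟩

variable (hX : X.IsSchematic)
    (hff : ∀ s a b : X.pt, s ≤ a → s ≤ b → (X.up a ∩ X.up b).Nonempty →
      Module.FaithfullyFlat (X.sectRing (X.up a ∩ X.up b)) ((q : ↥(X.up a ∩ X.up b)) → X.ring q.1))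

include hX hff in
lemma pairRel_trans {a b c : X.Pair} (h : X.PairRel a b) (h' : X.PairRel b c) : X.PairRel a c := by
  obtain ⟨z, hx, hy, r, h1, h2⟩ := h
  obtain ⟨z', hx', hy', r', h1', h2'⟩ := h'
  obtain ⟨w, hw, hw', t, ht, ht'⟩ := pairRel_of_comap_eq X hX hff hy hx' r r' (h2.trans h1'.symm)
  refine ⟨w, hx.trans hw, hy'.trans hw', t, ?_, ?_⟩
  · rw [← comap_res_comp X hx hw, ht, h1]
  · rw [← comap_res_comp X hy' hw', ht', h2']

include hX hff in
theorem equivalence_pairRel : Equivalence X.PairRel :=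
  ⟨pairRel_refl X, pairRel_symm X, pairRel_trans X hX hff⟩

include hX hff in
theorem existsUnique_maximal_pair (c : X.SchPt) :
    ∃! a : X.Pair, Quot.mk X.PairRel a = c ∧ ∀ b : X.Pair, Quot.mk X.PairRel b = c → b.1 ≤ a.1 := by
  have heq := equivalence_pairRel X hX hff
  have hq : ∀ a b : X.Pair, Quot.mk X.PairRel a = Quot.mk X.PairRel b ↔ X.PairRel a b := by
    intro a b
    rw [Quot.eq, heq.eqvGen_iff]
  obtain ⟨a₀, rfl⟩ := Quot.exists_rep c
  -- the set of points carrying a related pair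
  let S : Set X.pt := {p | ∃ P : PrimeSpectrum (X.ring p), X.PairRel a₀ ⟨p, P⟩}
  have hSne : S.Nonempty := ⟨a₀.1, a₀.2, pairRel_refl X a₀⟩
  have hSfin : S.Finite := Set.toFinite S
  obtain ⟨p, hpS, hpmax⟩ := hSfin.exists_maximal hSne
  obtain ⟨P, hP⟩ := hpS
  have hmaxprop : ∀ b : X.Pair, X.PairRel a₀ b → b.1 ≤ p := by
    intro b hb
    have hab : X.PairRel ⟨p, P⟩ b := pairRel_trans X hX hff (pairRel_symm X hP) hb
    obtain ⟨w, hw, hw', t, ht, ht'⟩ := hab
    have hwS : w ∈ S := ⟨t, pairRel_trans X hX hff hP (pairRel_above X ⟨p, P⟩ w hw t ht)⟩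
    have : w ≤ p := hpmax hwS hw
    exact hw'.trans this
  refine ⟨⟨p, P⟩, ⟨(hq _ _).mpr (pairRel_symm X hP), fun b hb => hmaxprop b ((hq _ _).mp hb.symm)⟩, ?_⟩
  rintro ⟨p', P'⟩ ⟨h1, h2⟩
  have hP' : X.PairRel a₀ ⟨p', P'⟩ := (hq _ _).mp h1.symm
  have hle1 : p' ≤ p := hmaxprop ⟨p', P'⟩ hP'
  have hle2 : p ≤ p' := h2 ⟨p, P⟩ ((hq _ _).mpr (pairRel_symm X hP))
  have hpp : p' = p := le_antisymm hle1 hle2
  subst hpp
  have hrel : X.PairRel ⟨p', P⟩ ⟨p', P'⟩ := pairRel_trans X hX hff (pairRel_symm X hP) hP'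
  obtain ⟨w, hw, hw', t, ht, ht'⟩ := hrel
  have hwS : w ∈ S := ⟨t, pairRel_trans X hX hff hP (pairRel_above X ⟨p', P⟩ w hw t ht)⟩
  have hwp : w ≤ p' := hpmax hwS hw
  have hwe : w = p' := le_antisymm hwp hw
  subst hwe
  rw [comap_res_self] at ht ht'
  have e1 : P = t := ht.symm
  have e2 : P' = t := ht'.symm
  rw [e1, e2]

end

end Groth.Agent.Helper7.SchPair
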