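import Groth.Prelude.Def_SchFin2
import Groth.Agent.Helper7.SchGeom
import Groth.Agent.Helper7.SchPair2
import Mathlib

set_option autoImplicit false

open TensorProduct

namespace Groth.Agent.Helper7.SchGeom

open SchFin Groth.Agent.Helper7.SchH0 Groth.Agent.Helper7.FlatEpi Groth.Agent.Helper7.SchEpi
  Groth.Agent.Helper7.SchPair

universe u

/-- converse of `bc_equiv`. -/
lemma isBCAlong_of_bij {R S : Type u} [CommRing R] [CommRing S] (g : R →+* S) {M N : Type u}
    [AddCommGroup M] [AddCommGroup N] [Module R M] [Module S N] (f : M →ₛₗ[g] N)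
    (hb : letI : Algebra R S := g.toAlgebra
      ∃ e : S ⊗[R] M ≃+ N, ∀ (t : S) (m : M), e (t ⊗ₜ m) = t • f m) : IsBCAlong g f := by
  letI : Algebra R S := g.toAlgebra
  letI : Module R N := Module.compHom N g
  haveI : IsScalarTower R S N := IsScalarTower.of_algebraMap_smul fun _ _ => rfl
  obtain ⟨e, he⟩ := hb
  show IsBaseChange S _
  let e' : S ⊗[R] M ≃ₗ[S] N :=
    { e with
      map_smul' := fun s z => by
        show e (s • z) = s • e z
        induction z using TensorProduct.induction_on with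
        | zero => rw [smul_zero, map_zero, smul_zero]
        | tmul t m => rw [TensorProduct.smul_tmul', he, he, smul_eq_mul, mul_smul]
        | add a b ha hb => rw [smul_add, map_add, map_add, ha, hb, smul_add] }
  refine IsBaseChange.of_equiv e' (fun x => ?_)
  show e (1 ⊗ₜ x) = _
  rw [he, one_smul]
  rfl

lemma isBCAlong_of_subsingleton {R S : Type u} [CommRing R] [CommRing S] (g : R →+* S) {M N : Type u}
    [AddCommGroup M] [AddCommGroup N] [Module R M] [Module S N] (f : M →ₛₗ[g] N)
    (h1 : letI : Algebra R S := g.toAlgebra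
      Subsingleton (S ⊗[R] M)) (h2 : Subsingleton N) : IsBCAlong g f := by
  apply isBCAlong_of_bij
  letI : Algebra R S := g.toAlgebra
  haveI := h1
  exact ⟨{ toFun := fun _ => 0, invFun := fun _ => 0, left_inv := fun _ => Subsingleton.elim _ _,
           right_inv := fun _ => Subsingleton.elim _ _, map_add' := fun _ _ => Subsingleton.elim _ _ },
    fun _ _ => Subsingleton.elim _ _⟩

/-- a bijective semilinear map over an epimorphism is a base change. -/
lemma isBCAlong_of_isEpi_of_bijective {R S : Type u} [CommRing R] [CommRing S] (g : R →+* S)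
    (hepi : IsEpiHom g) {M N : Type u}
    [AddCommGroup M] [AddCommGroup N] [Module R M] [Module S N] (f : M →ₛₗ[g] N)
    (hf : Function.Bijective f) : IsBCAlong g f := by
  apply isBCAlong_of_bij
  letI : Algebra R S := g.toAlgebra
  letI : Module R N := Module.compHom N g
  haveI : IsScalarTower R S N := IsScalarTower.of_algebraMap_smul fun _ _ => rfl
  haveI : Algebra.IsEpi R S := hepi
  let fL : M →ₗ[R] N := { toFun := f, map_add' := f.map_add, map_smul' := f.map_smulₛₗ }
  let E : M ≃ₗ[R] N := LinearEquiv.ofBijective fL hf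
  refine ⟨((TensorProduct.congr (LinearEquiv.refl R S) E).toAddEquiv).trans
    (TensorProduct.lid' R S N).toAddEquiv, fun t m => ?_⟩
  show TensorProduct.lid' R S N (TensorProduct.congr (LinearEquiv.refl R S) E (t ⊗ₜ m)) = _
  rw [TensorProduct.congr_tmul, TensorProduct.lid'_apply_tmul]
  rfl

/-- a nonzero fibre ring has a prime over the kernel of the point. -/
lemma exists_prime_of_nontrivial_tensor {R S Ω : Type u} [CommRing R] [CommRing S] [Field Ω]
    [Algebra R S] [Algebra R Ω] (h : Nontrivial (S ⊗[R] Ω)) :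
    ∃ P' : Ideal S, P'.IsPrime ∧ P'.comap (algebraMap R S) = RingHom.ker (algebraMap R Ω) := by
  obtain ⟨𝔐, h𝔐⟩ := Ideal.exists_maximal (S ⊗[R] Ω)
  refine ⟨𝔐.comap (Algebra.TensorProduct.includeLeft : S →ₐ[R] S ⊗[R] Ω).toRingHom,
    Ideal.comap_isPrime _ _, ?_⟩
  ext c
  simp only [Ideal.mem_comap, RingHom.mem_ker]
  show (algebraMap R S c) ⊗ₜ[R] (1 : Ω) ∈ 𝔐 ↔ _
  have e1 : (algebraMap R S c) ⊗ₜ[R] (1 : Ω) = (1 : S) ⊗ₜ[R] (algebraMap R Ω c) := by
    rw [Algebra.algebraMap_eq_smul_one, Algebra.algebraMap_eq_smul_one, TensorProduct.smul_tmul]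
  rw [e1]
  constructor
  · intro hmem
    by_contra hne
    have : (1 : S ⊗[R] Ω) ∈ 𝔐 := by
      have h2 : ((1 : S) ⊗ₜ[R] (algebraMap R Ω c)) * ((1 : S) ⊗ₜ[R] (algebraMap R Ω c)⁻¹) =
          (1 : S ⊗[R] Ω) := by
        rw [Algebra.TensorProduct.tmul_mul_tmul, mul_one, mul_inv_cancel₀ hne]
        rfl
      rw [← h2]
      exact 𝔐.mul_mem_right _ hmem
    exact h𝔐.ne_top ((Ideal.eq_top_iff_one _).mpr this)
  · intro h0
    rw [h0, TensorProduct.tmul_zero]
    exact 𝔐.zero_mem

lemma tensor_subsingleton_right {R S M : Type u} [CommRing R] [CommRing S] [Algebra R S]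
    [AddCommGroup M] [Module R M] [Subsingleton M] : Subsingleton (S ⊗[R] M) := by
  constructor
  intro z z'
  have h0 : ∀ w : S ⊗[R] M, w = 0 := by
    intro w
    induction w using TensorProduct.induction_on with
    | zero => rfl
    | tmul t m => rw [Subsingleton.elim m 0, TensorProduct.tmul_zero]
    | add a b ha hb => rw [ha, hb, add_zero]
  rw [h0 z, h0 z']

lemma tensor_subsingleton_right' {R S M : Type u} [CommRing R] [CommRing S] (g : R →+* S)
    [AddCommGroup M] [Module R M] [Subsingleton M] :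
    letI : Algebra R S := g.toAlgebra
    Subsingleton (S ⊗[R] M) := by
  letI : Algebra R S := g.toAlgebra
  exact tensor_subsingleton_right

lemma isEpiHom_id (R : Type u) [CommRing R] : IsEpiHom (RingHom.id R) := by
  letI : Algebra R R := (RingHom.id R).toAlgebra
  exact Algebra.isEpi_of_surjective_algebraMap R R (fun r => ⟨r, rfl⟩)

section PointSpace

variable {Ω : Type u} [Field Ω]

lemma chain_isEmpty (U : Set (RSpace.point Ω).pt) (n : ℕ) : IsEmpty (Chain U (n + 1)) := by
  constructor
  intro σ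
  have h : σ 0 = σ 1 := by
    apply Subtype.ext
    exact Subsingleton.elim (α := PUnit) _ _
  have := σ.injective h
  simp at this

lemma H_subsingleton_succ {U : Set (RSpace.point Ω).pt} {R : Type u} [CommRing R]
    (φ : Coef (RSpace.point Ω) U R) (M : OMod (RSpace.point Ω)) (n : ℕ) :
    Subsingleton (H φ M (n + 1)) := by
  haveI := chain_isEmpty U n
  haveI : Subsingleton (Cochain φ M (n + 1)) := by
    constructor
    intro c c'
    funext σ
    exact isEmptyElim σ
  haveI : Subsingleton (cocycles φ M (n + 1)) := inferInstance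
  unfold H
  infer_instance

variable {X : RSpace.{u}} (f : Hom (RSpace.point Ω) X)

/-- evaluation of `H⁰` over the points of the one-point space mapping above `y`. -/
noncomputable def evL (x : PUnit.{u + 1}) (y : X.pt) (hy : y ≤ f.fn x) :
    letI : Algebra (X.ring y) Ω := ((f.app x).comp (X.res hy)).toAlgebra
    H (Coef.ofHom f y (f.wedge x y) (f.wedge_subset_pre x y)) (RSpace.point Ω).str 0
      →ₗ[X.ring y] Ω :=
  letI : Algebra (X.ring y) Ω := ((f.app x).comp (X.res hy)).toAlgebra
  { toFun := fun h => h0Fam _ (RSpace.point Ω).str h ⟨x, ⟨le_refl x, hy⟩⟩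
    map_add' := fun h h' => h0Fam_add _ _ h h' _
    map_smul' := fun c h =>
      h0Fam_smul (Coef.ofHom f y (f.wedge x y) (f.wedge_subset_pre x y)) (RSpace.point Ω).str c h
        ⟨x, ⟨le_refl x, hy⟩⟩ }

lemma evL_bijective (x : PUnit.{u + 1}) (y : X.pt) (hy : y ≤ f.fn x) :
    Function.Bijective (evL f x y hy) := by
  constructor
  · intro h h' hh
    exact h0Fam_eval_injective (Coef.ofHom f y (f.wedge x y) (f.wedge_subset_pre x y))
      (RSpace.point Ω).str ⟨x, ⟨le_refl x, hy⟩⟩
      (fun q => le_of_eq (Subsingleton.elim (α := PUnit) _ _)) h h' hh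
  · intro ω
    exact h0Fam_eval_surjective (Coef.ofHom f y (f.wedge x y) (f.wedge_subset_pre x y))
      (RSpace.point Ω).str ⟨x, ⟨le_refl x, hy⟩⟩
      (fun q => le_of_eq (Subsingleton.elim (α := PUnit) _ _)) ω

lemma wedge_isEmpty (x : PUnit.{u + 1}) (y : X.pt) (hy : ¬ y ≤ f.fn x) :
    IsEmpty ↥(f.wedge x y) := by
  constructor
  rintro ⟨q, -, hq⟩
  cases q; cases x
  exact hy hq

/-- over the one-point space, restriction of `H⁰` to a nonempty smaller set is bijective. -/
lemma resH0_bijective {U U' : Set (RSpace.point Ω).pt} {R R' : Type u} [CommRing R] [CommRing R']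
    {φ : Coef (RSpace.point Ω) U R} {φ' : Coef (RSpace.point Ω) U' R'} (s : Coef.Sub φ φ')
    (M : OMod (RSpace.point Ω)) (q0 : U') : Function.Bijective (resH M s 0) := by
  have hmin : ∀ q : U, (⟨q0.1, s.le q0.2⟩ : U).1 ≤ q.1 :=
    fun q => le_of_eq (Subsingleton.elim (α := PUnit) _ _)
  have hmin' : ∀ q : U', q0.1 ≤ q.1 :=
    fun q => le_of_eq (Subsingleton.elim (α := PUnit) _ _)
  constructor
  · intro h h' hh
    apply h0Fam_eval_injective φ M ⟨q0.1, s.le q0.2⟩ hmin
    rw [← h0Fam_resH M s h q0, ← h0Fam_resH M s h' q0, hh]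
  · intro h'
    obtain ⟨h, hh⟩ := h0Fam_eval_surjective φ M ⟨q0.1, s.le q0.2⟩ hmin (h0Fam φ' M h' q0)
    refine ⟨h, ?_⟩
    apply h0Fam_eval_injective φ' M q0 hmin'
    rw [h0Fam_resH, hh]

end PointSpace

section Main

variable (X : RSpace.{u}) (hX : X.IsSchematic)
    (hff : ∀ s a b : X.pt, s ≤ a → s ≤ b → (X.up a ∩ X.up b).Nonempty →
      Module.FaithfullyFlat (X.sectRing (X.up a ∩ X.up b)) ((q : ↥(X.up a ∩ X.up b)) → X.ring q.1))
    (Ω : Type u) [Field Ω] (a : X.Pair) (ha : ∀ b : X.Pair, X.PairRel a b → b.1 ≤ a.1)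
    (g : X.ring a.1 →+* Ω) (hg : RingHom.ker g = a.2.asIdeal)

/-- the morphism from the one-point space. -/
def ptHom : Hom (RSpace.point Ω) X where
  fn _ := a.1
  mono _ _ _ := le_refl _
  app _ := g
  compat _ b := congrArg g (X.res_self a.1 b).symm

include hX hff ha hg in
lemma tensor_subsingleton {y y' : X.pt} (hyy' : y ≤ y') (hy : y ≤ a.1) (hy' : ¬ y' ≤ a.1) :
    letI : Algebra (X.ring y) (X.ring y') := (X.res hyy').toAlgebra
    letI : Algebra (X.ring y) Ω := (g.comp (X.res hy)).toAlgebra
    Subsingleton (X.ring y' ⊗[X.ring y] Ω) := by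
  letI : Algebra (X.ring y) (X.ring y') := (X.res hyy').toAlgebra
  letI : Algebra (X.ring y) Ω := (g.comp (X.res hy)).toAlgebra
  by_contra hns
  rw [not_subsingleton_iff_nontrivial] at hns
  obtain ⟨P', hP', hcomap⟩ := exists_prime_of_nontrivial_tensor (R := X.ring y) (S := X.ring y')
    (Ω := Ω) hns
  have hrel : X.PairRel ⟨y', ⟨P', hP'⟩⟩ ⟨a.1, a.2⟩ := by
    apply pairRel_of_comap_eq X hX hff hyy' hy
    apply PrimeSpectrum.ext
    show P'.comap (X.res hyy') = a.2.asIdeal.comap (X.res hy)
    rw [← hg]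
    exact hcomap
  obtain ⟨z, hz1, hz2, r, -, hr2⟩ := hrel
  have hrel2 : X.PairRel a ⟨z, r⟩ := pairRel_above X a z hz2 r hr2
  exact hy' (le_trans hz1 (ha _ hrel2))

include hX hff ha hg in
theorem ptHom_isSchematic : (ptHom X Ω a g).IsSchematic := by
  refine ⟨⟨fun p => (inferInstance : IsNoetherianRing Ω), fun p q h => RingHom.Flat.id Ω⟩, hX.1, ?_⟩
  intro n x x' hx y y' hy
  constructor
  · -- first condition
    cases n with
    | zero =>
      by_cases hya : y ≤ a.1
      · apply isBCAlong_of_isEpi_of_bijective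
        · exact isEpiHom_id Ω
        · exact resH0_bijective _ _ ⟨x', ⟨le_refl x', hya⟩⟩
      · haveI := wedge_isEmpty (ptHom X Ω a g) x y hya
        haveI := wedge_isEmpty (ptHom X Ω a g) x' y hya
        haveI := h0_subsingleton_of_isEmpty
          (Coef.ofLE x ((ptHom X Ω a g).wedge x y) ((ptHom X Ω a g).wedge_subset_up x y))
          (RSpace.point Ω).str
        apply isBCAlong_of_subsingleton
        · exact tensor_subsingleton_right' _
        · exact h0_subsingleton_of_isEmpty _ _
    | succ n =>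
      haveI := H_subsingleton_succ
          (Coef.ofLE x ((ptHom X Ω a g).wedge x y) ((ptHom X Ω a g).wedge_subset_up x y))
          (RSpace.point Ω).str n
      apply isBCAlong_of_subsingleton
      · exact tensor_subsingleton_right' _
      · exact H_subsingleton_succ _ _ n
  · -- second condition
    cases n with
    | zero =>
      by_cases hya' : y' ≤ a.1
      · apply isBCAlong_of_isEpi_of_bijective
        · exact res_isEpiHom X hX hy
        · exact resH0_bijective _ _ ⟨x, ⟨le_refl x, hya'⟩⟩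
      · haveI := wedge_isEmpty (ptHom X Ω a g) x y' hya'
        apply isBCAlong_of_subsingleton
        · by_cases hya : y ≤ a.1
          · letI : Algebra (X.ring y) (X.ring y') := (X.res hy).toAlgebra
            letI : Algebra (X.ring y) Ω := (g.comp (X.res hya)).toAlgebra
            have hsub : Subsingleton (X.ring y' ⊗[X.ring y] Ω) :=
              tensor_subsingleton X hX hff Ω a ha g hg hy hya hya'
            let E := LinearEquiv.ofBijective (evL (ptHom X Ω a g) x y hya)
              (evL_bijective (ptHom X Ω a g) x y hya)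
            exact @Equiv.subsingleton _ _
              (TensorProduct.congr (LinearEquiv.refl (X.ring y) (X.ring y')) E).toEquiv hsub
          · haveI := wedge_isEmpty (ptHom X Ω a g) x y hya
            haveI := h0_subsingleton_of_isEmpty
              (Coef.ofHom (ptHom X Ω a g) y ((ptHom X Ω a g).wedge x y)
                ((ptHom X Ω a g).wedge_subset_pre x y))
              (RSpace.point Ω).str
            exact tensor_subsingleton_right' _
        · exact h0_subsingleton_of_isEmpty _ _
    | succ n =>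
      haveI := H_subsingleton_succ
          (Coef.ofHom (ptHom X Ω a g) y ((ptHom X Ω a g).wedge x y)
                ((ptHom X Ω a g).wedge_subset_pre x y))
          (RSpace.point Ω).str n
      apply isBCAlong_of_subsingleton
      · exact tensor_subsingleton_right' _
      · exact H_subsingleton_succ _ _ n

omit hX hff ha hg in
lemma ptHom_ext (f₁ f₂ : Hom (RSpace.point Ω) X)
    (h : (⟨f₁.fn PUnit.unit, f₁.app PUnit.unit⟩ : Σ x : X.pt, (X.ring x →+* Ω)) =
      ⟨f₂.fn PUnit.unit, f₂.app PUnit.unit⟩) : f₁ = f₂ := by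
  obtain ⟨fn₁, m₁, app₁, c₁⟩ := f₁
  obtain ⟨fn₂, m₂, app₂, c₂⟩ := f₂
  have h' := Sigma.mk.inj_iff.mp h
  have hfn : fn₁ = fn₂ := funext (fun q => by cases q; exact h'.1)
  subst hfn
  have happ : app₁ = app₂ := funext (fun q => by cases q; exact eq_of_heq h'.2)
  subst happ
  rfl

include hX hff ha in
theorem existsUnique_geomPt [IsAlgClosed Ω] (φ : a.κ →+* Ω) :
    ∃! ξ : GeomPt X Ω, (⟨ξ.base, ξ.toField⟩ : Σ x : X.pt, (X.ring x →+* Ω)) =
      ⟨a.1, φ.comp (algebraMap (X.ring a.1) a.κ)⟩ := by
  have hker : RingHom.ker (φ.comp (algebraMap (X.ring a.1) a.κ)) = a.2.asIdeal := by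
    ext b
    rw [RingHom.mem_ker, RingHom.comp_apply, map_eq_zero_iff _ φ.injective, ← RingHom.mem_ker,
      Ideal.ker_algebraMap_residueField]
  refine ⟨⟨ptHom X Ω a (φ.comp (algebraMap (X.ring a.1) a.κ)),
    ptHom_isSchematic X hX hff Ω a ha _ hker⟩, rfl, ?_⟩
  intro ξ hξ
  obtain ⟨f, hf⟩ := ξ
  have : f = ptHom X Ω a (φ.comp (algebraMap (X.ring a.1) a.κ)) := ptHom_ext X Ω f _ hξ
  subst this
  rfl

end Main

end Groth.Agent.Helper7.SchGeom
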