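import Groth.Prelude.Def_SchFin2
import Groth.Agent.Helper7.SchGeom2
import Mathlib

set_option autoImplicit false
set_option linter.style.haveILetI false
universe u
open TensorProduct CategoryTheory CategoryTheory.Limits

namespace Groth.Agent.Helper7.FEtBase

open SchFin Groth.Agent.Helper7.SchH0 Groth.Agent.Helper7.SchGeom

section ringlevel

variable {R : Type u} [CommRing R]

/-- The family `B, C` indexed by `Bool`. -/
def BF (B C : Type u) : Bool → Type u
  | true => B
  | false => C

instance (B C : Type u) [CommRing B] [CommRing C] : ∀ i, CommRing (BF B C i)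
  | true => inferInstanceAs (CommRing B)
  | false => inferInstanceAs (CommRing C)

instance (B C : Type u) [CommRing B] [CommRing C] [Algebra R B] [Algebra R C] :
    ∀ i, Algebra R (BF B C i)
  | true => inferInstanceAs (Algebra R B)
  | false => inferInstanceAs (Algebra R C)

/-- `B × C ≃ₐ Π i, BF B C i`. -/
def prodEquivPi (B C : Type u) [CommRing B] [CommRing C] [Algebra R B] [Algebra R C] :
    (B × C) ≃ₐ[R] (Π i, BF B C i) where
  toFun x := fun i => match i with
    | true => x.1
    | false => x.2
  invFun f := (f true, f false)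
  left_inv x := rfl
  right_inv f := by funext i; cases i <;> rfl
  map_mul' x y := by funext i; cases i <;> rfl
  map_add' x y := by funext i; cases i <;> rfl
  commutes' r := by funext i; cases i <;> rfl

instance etale_prod (B C : Type u) [CommRing B] [CommRing C] [Algebra R B] [Algebra R C]
    [Algebra.Etale R B] [Algebra.Etale R C] : Algebra.Etale R (B × C) := by
  haveI : ∀ i, Algebra.Etale R (BF B C i)
    | true => inferInstanceAs (Algebra.Etale R B)
    | false => inferInstanceAs (Algebra.Etale R C)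
  exact Algebra.Etale.of_equiv (prodEquivPi B C).symm

instance isLocalization_zero_punit : IsLocalization.Away (0 : R) PUnit.{u+1} where
  map_units := fun _ => isUnit_of_subsingleton _
  surj := fun z => ⟨(0, 1), Subsingleton.elim _ _⟩
  exists_of_eq := fun _ => ⟨⟨0, Submonoid.mem_powers _⟩, by simp⟩

instance etale_punit : Algebra.Etale R PUnit.{u+1} :=
  Algebra.Etale.of_isLocalizationAway (0 : R)

end ringlevel

section alg

variable {X : RSpace.{u}}

/-- Quasi-coherence from explicit additive equivalences. -/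
theorem isQcoh_of_bij (A : Alg X)
    (h : ∀ (p q : X.pt) (hpq : p ≤ q),
      letI : Algebra (X.ring p) (X.ring q) := (X.res hpq).toAlgebra
      ∃ e : X.ring q ⊗[X.ring p] A.carrier p ≃+ A.carrier q,
        ∀ (t : X.ring q) (m : A.carrier p), e (t ⊗ₜ m) = t • A.res hpq m) : A.IsQcoh := by
  intro p q hpq
  exact isBCAlong_of_bij (X.res hpq) (A.toMod.res hpq) (h p q hpq)

theorem bij_of_isQcoh (A : Alg X) (hA : A.IsQcoh) (p q : X.pt) (hpq : p ≤ q) :
    letI : Algebra (X.ring p) (X.ring q) := (X.res hpq).toAlgebra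
    ∃ e : X.ring q ⊗[X.ring p] A.carrier p ≃+ A.carrier q,
      ∀ (t : X.ring q) (m : A.carrier p), e (t ⊗ₜ m) = t • A.res hpq m :=
  bc_equiv (X.res hpq) (A.toMod.res hpq) (hA p q hpq)

/-- The zero algebra. -/
def zeroAlg (X : RSpace.{u}) : Alg X where
  carrier _ := PUnit.{u+1}
  res _ := RingHom.id _
  res_algebraMap _ _ := rfl
  res_self _ _ := rfl
  res_comp _ _ _ := rfl

theorem zeroAlg_isEtCover (X : RSpace.{u}) : (zeroAlg X).IsEtCover := by
  refine ⟨?_, fun p => ⟨?_, ?_⟩⟩
  · intro p q hpq
    apply isBCAlong_of_subsingleton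
    · letI : Algebra (X.ring p) (X.ring q) := (X.res hpq).toAlgebra
      change Subsingleton (X.ring q ⊗[X.ring p] PUnit.{u+1})
      infer_instance
    · change Subsingleton PUnit.{u+1}
      infer_instance
  · change Module.Finite (X.ring p) PUnit.{u+1}
    infer_instance
  · change Algebra.Etale (X.ring p) PUnit.{u+1}
    infer_instance

/-- The product of two algebras. -/
def prodAlg (B C : Alg X) : Alg X where
  carrier p := B.carrier p × C.carrier p
  res h := RingHom.prodMap (B.res h) (C.res h)
  res_algebraMap h a := by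
    ext
    · simp [B.res_algebraMap]
    · simp [C.res_algebraMap]
  res_self p b := by
    ext
    · simp [B.res_self]
    · simp [C.res_self]
  res_comp h h' b := by
    ext
    · simp [B.res_comp]
    · simp [C.res_comp]

theorem prodAlg_isEtCover {B C : Alg X} (hB : B.IsEtCover) (hC : C.IsEtCover) :
    (prodAlg B C).IsEtCover := by
  refine ⟨?_, fun p => ?_⟩
  · apply isQcoh_of_bij
    intro p q hpq
    letI : Algebra (X.ring p) (X.ring q) := (X.res hpq).toAlgebra
    obtain ⟨eB, heB⟩ := bij_of_isQcoh B hB.1 p q hpq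
    obtain ⟨eC, heC⟩ := bij_of_isQcoh C hC.1 p q hpq
    refine ⟨(TensorProduct.prodRight (X.ring p) (X.ring q) (X.ring q) (B.carrier p)
      (C.carrier p)).toAddEquiv.trans (AddEquiv.prodCongr eB eC), fun t m => ?_⟩
    change (AddEquiv.prodCongr eB eC) ((TensorProduct.prodRight (X.ring p) (X.ring q) (X.ring q)
      (B.carrier p) (C.carrier p)) (t ⊗ₜ m)) = _
    rw [TensorProduct.prodRight_tmul]
    change (eB (t ⊗ₜ m.1), eC (t ⊗ₜ m.2)) = _
    rw [heB, heC]
    rfl
  · haveI := (hB.2 p).1
    haveI := (hB.2 p).2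
    haveI := (hC.2 p).1
    haveI := (hC.2 p).2
    exact ⟨inferInstanceAs (Module.Finite (X.ring p) (B.carrier p × C.carrier p)),
      inferInstanceAs (Algebra.Etale (X.ring p) (B.carrier p × C.carrier p))⟩

end alg

section cat

variable {X : RSpace.{u}}

/-- Constructor for morphisms of `FEt X`. -/
def homMk {A B : FEt X} (app : ∀ p : X.pt, A.obj.carrier p →ₐ[X.ring p] B.obj.carrier p)
    (compat : ∀ {p q : X.pt} (h : p ≤ q) (b : A.obj.carrier p),
      B.obj.res h (app p b) = app q (A.obj.res h b)) : A ⟶ B :=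
  ObjectProperty.homMk ⟨app, compat⟩

@[simp] theorem homMk_app {A B : FEt X} (app) (compat) (p : X.pt) :
    (homMk (A := A) (B := B) app compat).hom.app p = app p := rfl

theorem hom_ext' {A B : FEt X} {f g : A ⟶ B}
    (h : ∀ (p : X.pt) (a : A.obj.carrier p), f.hom.app p a = g.hom.app p a) : f = g := by
  apply ObjectProperty.hom_ext
  apply Alg.hom_ext
  intro p
  exact AlgHom.ext (h p)

theorem comp_app {A B C : FEt X} (f : A ⟶ B) (g : B ⟶ C) (p : X.pt) (a : A.obj.carrier p) :
    (f ≫ g).hom.app p a = g.hom.app p (f.hom.app p a) := rfl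

theorem congr_app {A B : FEt X} {f g : A ⟶ B} (h : f = g) (p : X.pt) (a : A.obj.carrier p) :
    f.hom.app p a = g.hom.app p a := by rw [h]

/-- The zero étale cover. -/
def zeroFEt (X : RSpace.{u}) : FEt X := ⟨zeroAlg X, zeroAlg_isEtCover X⟩

/-- The unique algebra map to the zero ring. -/
def toPUnit (R A : Type u) [CommRing R] [CommRing A] [Algebra R A] : A →ₐ[R] PUnit.{u+1} where
  toFun _ := PUnit.unit
  map_one' := rfl
  map_mul' _ _ := rfl
  map_zero' := rfl
  map_add' _ _ := rfl
  commutes' _ := rfl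

instance (A : FEt X) : Unique (A ⟶ zeroFEt X) where
  default := homMk (fun p => toPUnit (X.ring p) (A.obj.carrier p)) (fun _ _ => rfl)
  uniq f := hom_ext' (fun _ _ => rfl)

theorem hasTerminal (X : RSpace.{u}) : HasTerminal (FEt X) :=
  hasTerminal_of_unique (zeroFEt X)

section bij

variable {A B D : FEt X} (f : A ⟶ B) (π : A ⟶ D)
    (h : ∀ p : X.pt, Function.Bijective
      (fun a : A.obj.carrier p => (f.hom.app p a, π.hom.app p a)))

/-- The pointwise equivalence `A_p ≃ B_p × D_p`. -/
noncomputable def bijEquiv (p : X.pt) :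
    A.obj.carrier p ≃ₐ[X.ring p] (B.obj.carrier p × D.obj.carrier p) :=
  AlgEquiv.ofBijective (AlgHom.prod (f.hom.app p) (π.hom.app p)) (h p)

theorem bijEquiv_symm_fst (p : X.pt) (x : B.obj.carrier p × D.obj.carrier p) :
    f.hom.app p ((bijEquiv f π h p).symm x) = x.1 :=
  congrArg Prod.fst ((bijEquiv f π h p).apply_symm_apply x)

theorem bijEquiv_symm_snd (p : X.pt) (x : B.obj.carrier p × D.obj.carrier p) :
    π.hom.app p ((bijEquiv f π h p).symm x) = x.2 :=
  congrArg Prod.snd ((bijEquiv f π h p).apply_symm_apply x)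

/-- The lift into a pointwise product. -/
noncomputable def bijLift {T : FEt X} (s1 : T ⟶ B) (s2 : T ⟶ D) : T ⟶ A :=
  homMk (fun p => ((bijEquiv f π h p).symm.toAlgHom).comp
      (AlgHom.prod (s1.hom.app p) (s2.hom.app p))) (by
    intro p q hpq t
    apply (h q).1
    change (f.hom.app q _, π.hom.app q _) = (f.hom.app q _, π.hom.app q _)
    rw [← f.hom.compat, ← π.hom.compat]
    change (B.obj.res hpq (f.hom.app p ((bijEquiv f π h p).symm _)),
        D.obj.res hpq (π.hom.app p ((bijEquiv f π h p).symm _)))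
      = (f.hom.app q ((bijEquiv f π h q).symm _), π.hom.app q ((bijEquiv f π h q).symm _))
    rw [bijEquiv_symm_fst, bijEquiv_symm_snd, bijEquiv_symm_fst, bijEquiv_symm_snd]
    change (B.obj.res hpq (s1.hom.app p t), D.obj.res hpq (s2.hom.app p t)) =
      (s1.hom.app q _, s2.hom.app q _)
    rw [s1.hom.compat, s2.hom.compat])

theorem bijLift_fst {T : FEt X} (s1 : T ⟶ B) (s2 : T ⟶ D) : bijLift f π h s1 s2 ≫ f = s1 := by
  apply hom_ext'
  intro p a
  exact bijEquiv_symm_fst f π h p _

theorem bijLift_snd {T : FEt X} (s1 : T ⟶ B) (s2 : T ⟶ D) : bijLift f π h s1 s2 ≫ π = s2 := by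
  apply hom_ext'
  intro p a
  exact bijEquiv_symm_snd f π h p _

include h in
theorem bij_hom_ext {T : FEt X} {m m' : T ⟶ A} (h1 : m ≫ f = m' ≫ f) (h2 : m ≫ π = m' ≫ π) :
    m = m' := by
  apply hom_ext'
  intro p a
  apply (h p).1
  exact Prod.ext (congr_app h1 p a) (congr_app h2 p a)

/-- A cone `B ← A → D` which is pointwise a product is a product in `FEt X`. -/
noncomputable def isLimitOfBijective : IsLimit (BinaryFan.mk f π) :=
  BinaryFan.isLimitMk (fun s => bijLift f π h s.fst s.snd)
    (fun s => bijLift_fst f π h s.fst s.snd) (fun s => bijLift_snd f π h s.fst s.snd)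
    (fun s m h1 h2 => bij_hom_ext f π h
      (h1.trans (bijLift_fst f π h s.fst s.snd).symm)
      (h2.trans (bijLift_snd f π h s.fst s.snd).symm))

end bij

/-- The product of two étale covers. -/
def prodFEt (B C : FEt X) : FEt X := ⟨prodAlg B.obj C.obj, prodAlg_isEtCover B.property C.property⟩

/-- First projection. -/
def prodFst (B C : FEt X) : prodFEt B C ⟶ B :=
  homMk (fun p => AlgHom.fst (X.ring p) (B.obj.carrier p) (C.obj.carrier p)) (fun _ _ => rfl)

/-- Second projection. -/
def prodSnd (B C : FEt X) : prodFEt B C ⟶ C :=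
  homMk (fun p => AlgHom.snd (X.ring p) (B.obj.carrier p) (C.obj.carrier p)) (fun _ _ => rfl)

noncomputable def prodIsLimit (B C : FEt X) : IsLimit (BinaryFan.mk (prodFst B C) (prodSnd B C)) :=
  isLimitOfBijective _ _ (fun _ => Function.bijective_id)

theorem hasBinaryProducts (X : RSpace.{u}) : HasBinaryProducts (FEt X) := by
  haveI : ∀ {B C : FEt X}, HasLimit (pair B C) := fun {B C} =>
    HasLimit.mk ⟨_, prodIsLimit B C⟩
  exact hasBinaryProducts_of_hasLimit_pair _

end cat

end Groth.Agent.Helper7.FEtBase
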