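import Groth.Agent.Helper7.FEtRank

set_option autoImplicit false
set_option linter.style.haveILetI false
set_option linter.unusedSectionVars false
universe u
open TensorProduct CategoryTheory CategoryTheory.Limits Opposite

namespace Groth.Agent.Helper7.FEtConst

open SchFin Groth.Agent.Helper7.FEtBase Groth.Agent.Helper7.FEtRing Groth.Agent.Helper7.FEtQuot
  Groth.Agent.Helper7.FEtKer Groth.Agent.Helper7.FEtFibRing Groth.Agent.Helper7.FEtFib
  Groth.Agent.Helper7.FEtRank

section ring

/-- A finite flat algebra which becomes split of rank `n` after a faithfully flat base change has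
constant rank `n`. -/
theorem rank_eq_of_split {R S M : Type u} [CommRing R] [CommRing S] [CommRing M] [Algebra R S]
    [Algebra R M] [Module.FaithfullyFlat R S] [Module.Finite R M] [Module.Flat R M] {n : ℕ}
    (e : S ⊗[R] M ≃ₐ[S] (Fin n → S)) (P : PrimeSpectrum R) : Module.rankAtStalk M P = n := by
  obtain ⟨Q, rfl⟩ := PrimeSpectrum.comap_surjective_of_faithfullyFlat (B := S) P
  haveI : Nontrivial S := Q.nontrivial
  rw [← Module.rankAtStalk_baseChange, Module.rankAtStalk_eq_of_equiv e.toLinearEquiv,
    Module.rankAtStalk_eq_finrank_of_free, Module.finrank_fin_fun]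
  rfl

end ring

variable {X : RSpace.{u}}

/-- The local triviality hypothesis. -/
def LocTriv (X : RSpace.{u}) : Prop :=
  ∀ A : FEt X, ∃ (B : Alg X) (n : ℕ), B.IsCovering ∧
    ∀ p : X.pt, Nonempty (TensorProduct (X.ring p) (B.carrier p) (A.obj.carrier p)
      ≃ₐ[B.carrier p] (Fin n → B.carrier p))

/-- Under local triviality, every étale cover has constant rank. -/
theorem exists_const_rank (hlt : LocTriv X) (A : FEt X) :
    ∃ n : ℕ, ∀ (p : X.pt) (P : PrimeSpectrum (X.ring p)),
      Module.rankAtStalk (A.obj.carrier p) P = n := by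
  obtain ⟨B, n, hB, hn⟩ := hlt A
  refine ⟨n, fun p P => ?_⟩
  obtain ⟨e⟩ := hn p
  haveI := (hB.2 p).2
  haveI := (A.property.2 p).1
  haveI := (A.property.2 p).2
  haveI : Module.Flat (X.ring p) (A.obj.carrier p) := inferInstance
  exact rank_eq_of_split e P

variable {Ω : Type u} [Field Ω] [IsAlgClosed Ω] (ξ : GeomPt X Ω)

/-- The prime of the base ring under the geometric point. -/
noncomputable def basePrime : PrimeSpectrum (X.ring ξ.base) :=
  PrimeSpectrum.comap (algebraMap (X.ring ξ.base) Ω) ⟨⊥, Ideal.isPrime_bot⟩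

theorem card_fib (A : FEt X) :
    Nat.card (ξ.Fib A.obj) = Module.rankAtStalk (A.obj.carrier ξ.base) (basePrime ξ) := by
  haveI := (A.property.2 ξ.base).1
  haveI := (A.property.2 ξ.base).2
  rw [← Nat.card_congr (toFib ξ A)]
  exact card_pt (X.ring ξ.base) Ω (A.obj.carrier ξ.base) ⟨⊥, Ideal.isPrime_bot⟩

instance (A : FEt X) : Finite (Pt ξ A) := by
  haveI := (A.property.2 ξ.base).1
  haveI := (A.property.2 ξ.base).2
  exact finite_pt (X.ring ξ.base) Ω (A.obj.carrier ξ.base)

/-- Under local triviality, the rank of a cover is the cardinality of its fibre. -/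
theorem rank_eq_card_fib (hlt : LocTriv X) (A : FEt X) (p : X.pt) (P : PrimeSpectrum (X.ring p)) :
    Module.rankAtStalk (A.obj.carrier p) P = Nat.card (ξ.Fib A.obj) := by
  obtain ⟨n, hn⟩ := exists_const_rank hlt A
  rw [card_fib, hn, hn]

/-- Under local triviality, a cover with empty fibre is zero. -/
theorem subsingleton_of_isEmpty_fib (hlt : LocTriv X) (A : FEt X) (h : IsEmpty (ξ.Fib A.obj))
    (p : X.pt) : Subsingleton (A.obj.carrier p) := by
  haveI := (A.property.2 p).1
  haveI := (A.property.2 p).2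
  haveI : Module.Flat (X.ring p) (A.obj.carrier p) := inferInstance
  rw [← Module.rankAtStalk_eq_zero_iff_subsingleton (R := X.ring p)]
  ext P
  rw [rank_eq_card_fib ξ hlt A p P, Nat.card_of_isEmpty]
  rfl

section reflect

variable (hX : X.IsSchematic) (hlt : LocTriv X) {A B : FEt X} (g : B ⟶ A)
  (hg : Function.Bijective (ξ.fibMap g.hom))

include hX hlt hg in
theorem kerIdem_eq_zero (p : X.pt) : kerIdem g p = 0 := by
  let ε : ∀ p : X.pt, B.obj.carrier p := fun p => 1 - kerIdem g p
  have hc : ∀ {p q : X.pt} (h : p ≤ q), B.obj.res h (ε p) = ε q := by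
    intro p q h
    change B.obj.res h (1 - kerIdem g p) = 1 - kerIdem g q
    rw [map_sub, map_one, kerIdem_res g hX h]
  have he : ∀ p, IsIdempotentElem (ε p) := fun p => (kerIdem_idem g p).one_sub
  let Q : FEt X := quotFEt B ε hc he
  have hempty : IsEmpty (ξ.Fib Q.obj) := by
    constructor
    intro y
    obtain ⟨ψ, rfl⟩ := (toFib ξ Q).surjective y
    let χ : Pt ξ B := ψ.comp ((quotMk B ε hc he).hom.app ξ.base)
    obtain ⟨z, hz⟩ := hg.2 (toFib ξ B χ)
    obtain ⟨φ, rfl⟩ := (toFib ξ A).surjective z
    rw [fibMap_toFib] at hz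
    have e := (toFib ξ B).injective hz
    have h1 : χ (kerIdem g ξ.base) = 1 := by
      have h00 : (quotMk B ε hc he).hom.app ξ.base (ε ξ.base) = 0 :=
        Ideal.Quotient.eq_zero_iff_mem.2 (Ideal.subset_span rfl)
      have h0 : χ (ε ξ.base) = 0 := by
        change ψ ((quotMk B ε hc he).hom.app ξ.base (ε ξ.base)) = 0
        rw [h00, map_zero]
      change χ (1 - kerIdem g ξ.base) = 0 at h0
      rw [map_sub, map_one, sub_eq_zero] at h0
      exact h0.symm
    rw [← e, AlgHom.comp_apply, app_kerIdem, map_zero] at h1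
    exact zero_ne_one h1
  have hs := subsingleton_of_isEmpty_fib ξ hlt Q hempty p
  have h1 : (1 : B.obj.carrier p) ∈ Ideal.span {ε p} := by
    rw [← Ideal.Quotient.eq_zero_iff_mem]
    exact @Subsingleton.elim _ hs _ _
  rw [Ideal.mem_span_singleton'] at h1
  obtain ⟨c, hc1⟩ := h1
  have h2 : kerIdem g p * (1 - kerIdem g p) = 0 := by
    rw [mul_sub, mul_one, (kerIdem_idem g p).eq, sub_self]
  calc kerIdem g p = kerIdem g p * (c * ε p) := by rw [hc1, mul_one]
    _ = c * (kerIdem g p * (1 - kerIdem g p)) := by ring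
    _ = 0 := by rw [h2, mul_zero]

include hX hlt hg in
theorem injective_of_fib_bijective (p : X.pt) : Function.Injective (g.hom.app p) := by
  rw [injective_iff_map_eq_zero]
  intro a ha
  have : a ∈ RingHom.ker (g.hom.app p) := ha
  rw [ker_eq, kerIdem_eq_zero ξ hX hlt g hg p, Ideal.span_singleton_zero] at this
  exact this

include hX hlt hg in
theorem isIso_of_fib_bijective : IsIso g := by
  apply isIso_of_injective_of_rank_eq g (injective_of_fib_bijective ξ hX hlt g hg)
  intro p P
  rw [rank_eq_card_fib ξ hlt B p P, rank_eq_card_fib ξ hlt A p P]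
  exact (Nat.card_congr (Equiv.ofBijective _ hg)).symm

end reflect

theorem reflectsIsomorphisms (hX : X.IsSchematic) (hlt : LocTriv X) :
    ξ.fibFunctor.ReflectsIsomorphisms := by
  constructor
  intro A B f hf
  have hbij : Function.Bijective (ξ.fibMap f.unop.hom) :=
    ConcreteCategory.bijective_of_isIso (ξ.fibFunctor.map f)
  haveI : IsIso f.unop := isIso_of_fib_bijective ξ hX hlt f.unop hbij
  exact (isIso_unop_iff f).1 inferInstance

end Groth.Agent.Helper7.FEtConst
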