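import Mathlib

set_option autoImplicit false
set_option linter.style.haveILetI false
set_option linter.unusedSectionVars false
universe u
open TensorProduct

namespace Groth.Agent.Helper7.FEtFibRing

variable (R : Type u) [CommRing R] (Ω : Type u) [Field Ω] [IsAlgClosed Ω] [Algebra R Ω]

section pt
variable (M : Type u) [CommRing M] [Algebra R M] [Module.Finite R M] [Algebra.Etale R M]

/-- `Ω`-points of a finite étale algebra are the points of its geometric fibre. -/
noncomputable def ptEquiv : (M →ₐ[R] Ω) ≃ PrimeSpectrum (Ω ⊗[R] M) :=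
  (Algebra.TensorProduct.liftEquivRight R Ω M Ω).trans
    (Algebra.IsFiniteSplit.algHomEquivPrimeSpectrum Ω (Ω ⊗[R] M))

theorem ptEquiv_asIdeal (φ : M →ₐ[R] Ω) :
    (ptEquiv R Ω M φ).asIdeal =
      RingHom.ker (Algebra.TensorProduct.lift (Algebra.ofId Ω Ω) φ (fun _ _ => .all _ _)) := rfl

variable {M} {N : Type u} [CommRing N] [Algebra R N] [Module.Finite R N] [Algebra.Etale R N]

theorem comap_ptEquiv (h : M →ₐ[R] N) (φ : N →ₐ[R] Ω) :
    PrimeSpectrum.comap (Algebra.TensorProduct.map (AlgHom.id Ω Ω) h).toRingHom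
      (ptEquiv R Ω N φ) = ptEquiv R Ω M (φ.comp h) := by
  apply PrimeSpectrum.ext
  rw [ptEquiv_asIdeal, PrimeSpectrum.comap_asIdeal, ptEquiv_asIdeal]
  have e : (Algebra.TensorProduct.lift (Algebra.ofId Ω Ω) φ (fun _ _ => .all _ _)).comp
      (Algebra.TensorProduct.map (AlgHom.id Ω Ω) h) =
      Algebra.TensorProduct.lift (Algebra.ofId Ω Ω) (φ.comp h) (fun _ _ => .all _ _) := by
    ext x
    simp
  rw [← e]
  rfl

end pt

/-- Extension of points along an injective integral extension. -/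
theorem exists_extension {M N : Type u} [CommRing M] [CommRing N] [Algebra R M] [Algebra R N]
    [Module.Finite R N] (h : M →ₐ[R] N) (hinj : Function.Injective h) (φ : M →ₐ[R] Ω) :
    ∃ ψ : N →ₐ[R] Ω, ψ.comp h = φ := by
  letI : Algebra M N := h.toRingHom.toAlgebra
  haveI : IsScalarTower R M N := IsScalarTower.of_algebraMap_eq (fun r => (h.commutes r).symm)
  haveI : Module.Finite M N := Module.Finite.of_restrictScalars_finite R M N
  haveI : FaithfulSMul M N := (faithfulSMul_iff_algebraMap_injective M N).2 hinj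
  let p : Ideal M := RingHom.ker (φ : M →+* Ω)
  haveI : p.IsPrime := RingHom.ker_isPrime _
  obtain ⟨⟨Q, hQ1, hQ2⟩⟩ := Ideal.nonempty_primesOver (S := N) p
  haveI := hQ1
  haveI := hQ2
  letI : Algebra (M ⧸ p) Ω := (RingHom.kerLift (φ : M →+* Ω)).toAlgebra
  haveI : FaithfulSMul (M ⧸ p) Ω :=
    (faithfulSMul_iff_algebraMap_injective _ _).2 (RingHom.kerLift_injective (φ : M →+* Ω))
  let ψ₀ : N ⧸ Q →ₐ[M ⧸ p] Ω := IsAlgClosed.lift
  let ψ : N →+* Ω := (ψ₀ : N ⧸ Q →+* Ω).comp (Ideal.Quotient.mk Q)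
  have hψ : ∀ m : M, ψ (h m) = φ m := by
    intro m
    change ψ₀ (Ideal.Quotient.mk Q (algebraMap M N m)) = φ m
    rw [← Ideal.Quotient.algebraMap_mk_of_liesOver Q p, ψ₀.commutes]
    rfl
  refine ⟨{ ψ with commutes' := fun r => ?_ }, AlgHom.ext hψ⟩
  change ψ (algebraMap R N r) = _
  rw [← h.commutes, hψ, φ.commutes]

section prod

variable {M N : Type u} [CommRing M] [CommRing N] [Algebra R M] [Algebra R N]

/-- A point of a product killing `(0,1)` factors through the first projection. -/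
theorem exists_fst_of_zero (ψ : M × N →ₐ[R] Ω) (h0 : ψ (0, 1) = 0) :
    ∃ u : M →ₐ[R] Ω, ψ = u.comp (AlgHom.fst R M N) := by
  have h1 : ψ (1, 0) = 1 := by
    have : ψ (1, 0) + ψ (0, 1) = 1 := by
      rw [← map_add, Prod.mk_add_mk, add_zero, zero_add, ← Prod.one_eq_mk, map_one]
    rwa [h0, add_zero] at this
  have hn : ∀ n : N, ψ (0, n) = 0 := by
    intro n
    have : ((0 : M), n) = (0, 1) * (0, n) := by rw [Prod.mk_mul_mk, mul_zero, one_mul]
    rw [this, map_mul, h0, zero_mul]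
  refine ⟨{ toFun := fun m => ψ (m, 0), map_one' := h1, map_mul' := fun a b => ?_,
            map_zero' := ?_, map_add' := fun a b => ?_, commutes' := fun r => ?_ }, ?_⟩
  · rw [← map_mul, Prod.mk_mul_mk, mul_zero]
  · rw [← Prod.zero_eq_mk, map_zero]
  · rw [← map_add, Prod.mk_add_mk, add_zero]
  · have : (algebraMap R M r, (0 : N)) = algebraMap R (M × N) r * (1, 0) := by
      rw [Prod.algebraMap_apply, Prod.mk_mul_mk, mul_one, mul_zero]
    rw [this, map_mul, h1, mul_one, ψ.commutes]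
  · apply AlgHom.ext
    rintro ⟨m, n⟩
    change ψ (m, n) = ψ (m, 0)
    have : (m, n) = (m, 0) + ((0 : M), n) := by rw [Prod.mk_add_mk, add_zero, zero_add]
    rw [this, map_add, hn, add_zero]

/-- A point of a product killing `(1,0)` factors through the second projection. -/
theorem exists_snd_of_zero (ψ : M × N →ₐ[R] Ω) (h0 : ψ (1, 0) = 0) :
    ∃ v : N →ₐ[R] Ω, ψ = v.comp (AlgHom.snd R M N) := by
  have h1 : ψ (0, 1) = 1 := by
    have : ψ (1, 0) + ψ (0, 1) = 1 := by
      rw [← map_add, Prod.mk_add_mk, add_zero, zero_add, ← Prod.one_eq_mk, map_one]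
    rwa [h0, zero_add] at this
  have hm : ∀ m : M, ψ (m, 0) = 0 := by
    intro m
    have : (m, (0 : N)) = (1, 0) * (m, 0) := by rw [Prod.mk_mul_mk, mul_zero, one_mul]
    rw [this, map_mul, h0, zero_mul]
  refine ⟨{ toFun := fun n => ψ (0, n), map_one' := h1, map_mul' := fun a b => ?_,
            map_zero' := ?_, map_add' := fun a b => ?_, commutes' := fun r => ?_ }, ?_⟩
  · rw [← map_mul, Prod.mk_mul_mk, mul_zero]
  · rw [← Prod.zero_eq_mk, map_zero]
  · rw [← map_add, Prod.mk_add_mk, add_zero]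
  · have : ((0 : M), algebraMap R N r) = algebraMap R (M × N) r * (0, 1) := by
      rw [Prod.algebraMap_apply, Prod.mk_mul_mk, mul_one, mul_zero]
    rw [this, map_mul, h1, mul_one, ψ.commutes]
  · apply AlgHom.ext
    rintro ⟨m, n⟩
    change ψ (m, n) = ψ (0, n)
    have : (m, n) = (m, 0) + ((0 : M), n) := by rw [Prod.mk_add_mk, add_zero, zero_add]
    rw [this, map_add, hm, zero_add]

/-- Every point of a product factors through one of the projections. -/
theorem prod_pt_cases (ψ : M × N →ₐ[R] Ω) :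
    (∃ u : M →ₐ[R] Ω, ψ = u.comp (AlgHom.fst R M N)) ∨
      (∃ v : N →ₐ[R] Ω, ψ = v.comp (AlgHom.snd R M N)) := by
  have h : ψ (1, 0) * ψ (0, 1) = 0 := by
    rw [← map_mul, Prod.mk_mul_mk, mul_zero, zero_mul, ← Prod.zero_eq_mk, map_zero]
  rcases mul_eq_zero.1 h with h | h
  · exact Or.inr (exists_snd_of_zero R Ω ψ h)
  · exact Or.inl (exists_fst_of_zero R Ω ψ h)

theorem prod_pt_disjoint (u : M →ₐ[R] Ω) (v : N →ₐ[R] Ω) :
    u.comp (AlgHom.fst R M N) ≠ v.comp (AlgHom.snd R M N) := by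
  intro h
  have := DFunLike.congr_fun h (1, 0)
  change u 1 = v 0 at this
  rw [map_one, map_zero] at this
  exact one_ne_zero this

theorem prod_pt_fst_injective :
    Function.Injective (fun u : M →ₐ[R] Ω => u.comp (AlgHom.fst R M N)) := by
  intro u u' h
  apply AlgHom.ext
  intro m
  exact DFunLike.congr_fun h (m, 0)

theorem prod_pt_snd_injective :
    Function.Injective (fun v : N →ₐ[R] Ω => v.comp (AlgHom.snd R M N)) := by
  intro v v' h
  apply AlgHom.ext
  intro n
  exact DFunLike.congr_fun h (0, n)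

end prod

section quot

variable {R A B C T : Type u} [CommRing R] [CommRing A] [CommRing B] [CommRing C] [CommRing T]
  [Algebra R A] [Algebra R B] [Algebra R C] [Algebra R T]

/-- Algebra maps out of a quotient of a tensor product are determined on the two factors. -/
theorem quot_tensor_alg_ext (e : B ⊗[R] C) (φ φ' : (B ⊗[R] C) ⧸ Ideal.span {e} →ₐ[R] T)
    (h1 : ∀ b : B, φ (Ideal.Quotient.mk _ (b ⊗ₜ 1)) = φ' (Ideal.Quotient.mk _ (b ⊗ₜ 1)))
    (h2 : ∀ c : C, φ (Ideal.Quotient.mk _ (1 ⊗ₜ c)) = φ' (Ideal.Quotient.mk _ (1 ⊗ₜ c))) :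
    φ = φ' := by
  apply AlgHom.ext
  intro y
  obtain ⟨z, rfl⟩ := Ideal.Quotient.mk_surjective y
  induction z using TensorProduct.induction_on with
  | zero => rw [map_zero, map_zero, map_zero]
  | tmul b c =>
    have e' : (b ⊗ₜ[R] c) = (b ⊗ₜ[R] (1 : C)) * ((1 : B) ⊗ₜ[R] c) := by
      rw [Algebra.TensorProduct.tmul_mul_tmul, mul_one, one_mul]
    rw [e', map_mul, map_mul, map_mul, h1, h2]
  | add x y hx hy => rw [map_add, map_add, map_add, hx, hy]

/-- Compatible algebra maps on the two factors glue on the quotient of the tensor product by the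
image of an element killed by the multiplication. -/
theorem quot_tensor_alg_exists (f : A →ₐ[R] B) (g : A →ₐ[R] C)
    (F : A ⊗[R] A →ₐ[R] B ⊗[R] C) (hF : ∀ a a' : A, F (a ⊗ₜ a') = f a ⊗ₜ g a')
    (μ : A ⊗[R] A →ₐ[R] A) (hμ : ∀ a a' : A, μ (a ⊗ₜ a') = a * a')
    (ε : A ⊗[R] A) (hε : μ ε = 0)
    (u : B →ₐ[R] T) (v : C →ₐ[R] T) (huv : u.comp f = v.comp g) :
    ∃ φ : (B ⊗[R] C) ⧸ Ideal.span {F ε} →ₐ[R] T,
      (∀ b : B, φ (Ideal.Quotient.mk _ (b ⊗ₜ 1)) = u b) ∧
      (∀ c : C, φ (Ideal.Quotient.mk _ (1 ⊗ₜ c)) = v c) := by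
  let ψ : B ⊗[R] C →ₐ[R] T := Algebra.TensorProduct.productMap u v
  have hcomp : ∀ z : A ⊗[R] A, ψ (F z) = u (f (μ z)) := by
    intro z
    induction z using TensorProduct.induction_on with
    | zero => rw [map_zero, map_zero, map_zero, map_zero, map_zero]
    | tmul a a' =>
      rw [hF, hμ, Algebra.TensorProduct.productMap_apply_tmul, map_mul, map_mul]
      have e := DFunLike.congr_fun huv a'
      rw [AlgHom.comp_apply, AlgHom.comp_apply] at e
      rw [e]
    | add x y hx hy => rw [map_add, map_add, map_add, map_add, map_add, hx, hy]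
  have h0 : ψ (F ε) = 0 := by rw [hcomp, hε, map_zero, map_zero]
  have hker : ∀ a ∈ Ideal.span {F ε}, ψ a = 0 := by
    intro a ha
    rw [Ideal.mem_span_singleton'] at ha
    obtain ⟨c, rfl⟩ := ha
    rw [map_mul, h0, mul_zero]
  refine ⟨Ideal.Quotient.liftₐ (Ideal.span {F ε}) ψ hker, ?_, ?_⟩
  · intro b
    change ψ (b ⊗ₜ 1) = u b
    rw [Algebra.TensorProduct.productMap_apply_tmul, map_one, mul_one]
  · intro c
    change ψ (1 ⊗ₜ c) = v c
    rw [Algebra.TensorProduct.productMap_apply_tmul, map_one, one_mul]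

end quot

end Groth.Agent.Helper7.FEtFibRing
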