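import Groth.Agent.Helper7.FEtPush
import Groth.Agent.Helper7.FEtFibRing

set_option autoImplicit false
set_option linter.style.haveILetI false
set_option linter.unusedSectionVars false
universe u
open TensorProduct CategoryTheory CategoryTheory.Limits Opposite

namespace Groth.Agent.Helper7.FEtFib

open SchFin Groth.Agent.Helper7.FEtBase Groth.Agent.Helper7.FEtRing Groth.Agent.Helper7.FEtQuot
  Groth.Agent.Helper7.FEtKer Groth.Agent.Helper7.FEtStr Groth.Agent.Helper7.FEtTensor
  Groth.Agent.Helper7.FEtPush Groth.Agent.Helper7.FEtFibRing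

variable {X : RSpace.{u}} {Ω : Type u} [Field Ω] [IsAlgClosed Ω] (ξ : GeomPt X Ω)

/-- The algebra structure of `Ω` over the ring of the base point. -/
noncomputable scoped instance algΩ : Algebra (X.ring ξ.base) Ω := ξ.toField.toAlgebra

/-- The `Ω`-points of an étale cover at the geometric point. -/
abbrev Pt (A : FEt X) : Type u := A.obj.carrier ξ.base →ₐ[X.ring ξ.base] Ω

/-- Points of the fibre are `Ω`-points. -/
noncomputable def toFib (A : FEt X) : Pt ξ A ≃ ξ.Fib A.obj :=
  haveI := (A.property.2 ξ.base).1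
  haveI := (A.property.2 ξ.base).2
  ptEquiv (X.ring ξ.base) Ω (A.obj.carrier ξ.base)

theorem fibMap_toFib {A B : FEt X} (f : A ⟶ B) (φ : Pt ξ B) :
    ξ.fibMap f.hom (toFib ξ B φ) = toFib ξ A (φ.comp (f.hom.app ξ.base)) := by
  haveI := (A.property.2 ξ.base).1
  haveI := (A.property.2 ξ.base).2
  haveI := (B.property.2 ξ.base).1
  haveI := (B.property.2 ξ.base).2
  exact comap_ptEquiv (X.ring ξ.base) Ω (f.hom.app ξ.base) φ

/-- The fibre functor with values in types. -/
noncomputable abbrev fibT : (FEt X)ᵒᵖ ⥤ Type u := ξ.fibFunctor ⋙ FintypeCat.incl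

theorem fibT_map_apply {A B : (FEt X)ᵒᵖ} (f : A ⟶ B) (y : ξ.Fib A.unop.obj) :
    (fibT ξ).map f y = ξ.fibMap f.unop.hom y := rfl

theorem fibT_map_toFib {A B : FEt X} (f : A ⟶ B) (φ : Pt ξ B) :
    (fibT ξ).map f.op (toFib ξ B φ) = toFib ξ A (φ.comp (f.hom.app ξ.base)) :=
  fibMap_toFib ξ f φ

section terminal

noncomputable instance : Unique (Pt ξ (strFEt X)) where
  default := Algebra.ofId (X.ring ξ.base) Ω
  uniq φ := AlgHom.ext fun r => φ.commutes r

/-- The fibre of the structure algebra is terminal. -/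
noncomputable def isTerminalFib : IsTerminal ((fibT ξ).obj (op (strFEt X))) :=
  (Types.isTerminalEquivUnique _).symm ((toFib ξ (strFEt X)).symm.unique)

theorem preservesTerminalT : PreservesLimitsOfShape (Discrete PEmpty.{1}) (fibT ξ) := by
  haveI : PreservesLimit (Functor.empty.{0} (FEt X)ᵒᵖ) (fibT ξ) :=
    preservesLimit_of_preserves_limit_cone (terminalOpOfInitial (IsInitial.ofUnique (strFEt X)))
      ((isLimitMapConeEmptyConeEquiv _ _).symm (isTerminalFib ξ))
  exact preservesLimitsOfShape_pempty_of_preservesTerminal _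

end terminal

section initial

instance : IsEmpty (Pt ξ (zeroFEt X)) := by
  constructor
  intro φ
  have h : φ (1 : PUnit.{u+1}) = φ 0 := rfl
  have h1 : φ (1 : PUnit.{u+1}) = 1 := map_one φ
  have h0 : φ (0 : PUnit.{u+1}) = 0 := map_zero φ
  exact one_ne_zero (h1.symm.trans (h.trans h0))

/-- The fibre of the zero algebra is initial. -/
noncomputable def isInitialFib : IsInitial ((fibT ξ).obj (op (zeroFEt X))) :=
  ((Types.initial_iff_empty _).2 ((toFib ξ (zeroFEt X)).symm.isEmpty)).some

theorem preservesInitialT : PreservesColimitsOfShape (Discrete PEmpty.{1}) (fibT ξ) := by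
  haveI : PreservesColimit (Functor.empty.{0} (FEt X)ᵒᵖ) (fibT ξ) :=
    preservesColimit_of_preserves_colimit_cocone
      (initialOpOfTerminal (IsTerminal.ofUnique (zeroFEt X)))
      ((isColimitMapCoconeEmptyCoconeEquiv _ _).symm (isInitialFib ξ))
  exact preservesColimitsOfShape_pempty_of_preservesInitial _

end initial


section pushpt

variable (hX : X.IsSchematic) {A B C : FEt X} (f : A ⟶ B) (g : A ⟶ C) (p : X.pt)
  {T : Type u} [CommRing T] [Algebra (X.ring p) T]

theorem pushInl_app (b : B.obj.carrier p) :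
    (pushInl hX f g).hom.app p b =
      Ideal.Quotient.mk (Ideal.span {pushIdem f g p}) (b ⊗ₜ[X.ring p] (1 : C.obj.carrier p)) := rfl

theorem pushInr_app (c : C.obj.carrier p) :
    (pushInr hX f g).hom.app p c =
      Ideal.Quotient.mk (Ideal.span {pushIdem f g p}) ((1 : B.obj.carrier p) ⊗ₜ[X.ring p] c) := rfl

theorem fgMap_app_tmul (a a' : A.obj.carrier p) :
    (fgMap f g).hom.app p (a ⊗ₜ[X.ring p] a') =
      (f.hom.app p a ⊗ₜ[X.ring p] g.hom.app p a') := by
  unfold fgMap
  rw [tdesc_app_tmul, comp_app, comp_app, tinl_app, tinr_app]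
  exact (Algebra.TensorProduct.tmul_mul_tmul _ _ _ _).trans (by rw [mul_one, one_mul])

theorem mulMap_app_tmul (a a' : A.obj.carrier p) :
    (mulMap A).hom.app p (a ⊗ₜ[X.ring p] a') = a * a' := by
  unfold mulMap
  rw [tdesc_app_tmul]
  rfl

/-- Points of the pushout with values in any algebra are determined on the two factors. -/
theorem push_alg_ext (φ φ' : (pushFEt hX f g).obj.carrier p →ₐ[X.ring p] T)
    (h1 : φ.comp ((pushInl hX f g).hom.app p) = φ'.comp ((pushInl hX f g).hom.app p))
    (h2 : φ.comp ((pushInr hX f g).hom.app p) = φ'.comp ((pushInr hX f g).hom.app p)) :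
    φ = φ' :=
  quot_tensor_alg_ext (R := X.ring p) (B := B.obj.carrier p) (C := C.obj.carrier p)
    (pushIdem f g p) φ φ' (fun b => DFunLike.congr_fun h1 b) (fun c => DFunLike.congr_fun h2 c)

/-- Compatible points of the two factors glue to a point of the pushout. -/
theorem push_alg_exists (u : B.obj.carrier p →ₐ[X.ring p] T) (v : C.obj.carrier p →ₐ[X.ring p] T)
    (huv : u.comp (f.hom.app p) = v.comp (g.hom.app p)) :
    ∃ φ : (pushFEt hX f g).obj.carrier p →ₐ[X.ring p] T,
      φ.comp ((pushInl hX f g).hom.app p) = u ∧ φ.comp ((pushInr hX f g).hom.app p) = v := by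
  obtain ⟨φ, h1, h2⟩ := quot_tensor_alg_exists (R := X.ring p) (A := A.obj.carrier p)
    (B := B.obj.carrier p) (C := C.obj.carrier p) (f.hom.app p) (g.hom.app p)
    ((fgMap f g).hom.app p) (fgMap_app_tmul f g p) ((mulMap A).hom.app p) (mulMap_app_tmul p)
    (kerIdem (mulMap A) p) (app_kerIdem (mulMap A) p) u v huv
  exact ⟨φ, AlgHom.ext h1, AlgHom.ext h2⟩

end pushpt


section pullback

variable (hX : X.IsSchematic) {A B C : FEt X} (f : A ⟶ B) (g : A ⟶ C)

theorem isPushout_push : IsPushout f g (pushInl hX f g) (pushInr hX f g) :=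
  IsPushout.of_isColimit (pushIsColimit hX f g)

theorem isPullback_fibT :
    IsPullback ((fibT ξ).map (pushInr hX f g).op) ((fibT ξ).map (pushInl hX f g).op)
      ((fibT ξ).map g.op) ((fibT ξ).map f.op) := by
  rw [Types.isPullback_iff]
  refine ⟨?_, ?_, ?_⟩
  · rw [← Functor.map_comp, ← Functor.map_comp, ← op_comp, ← op_comp, push_w]
  · rintro x₁ y₁ ⟨h1, h2⟩
    obtain ⟨φ₁, rfl⟩ := (toFib ξ _).surjective x₁
    obtain ⟨φ₂, rfl⟩ := (toFib ξ _).surjective y₁
    rw [fibT_map_toFib, fibT_map_toFib] at h1 h2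
    have e1 := (toFib ξ _).injective h1
    have e2 := (toFib ξ _).injective h2
    rw [push_alg_ext hX f g ξ.base φ₁ φ₂ e2 e1]
  · intro x₂ x₃ h
    obtain ⟨v, rfl⟩ := (toFib ξ _).surjective x₂
    obtain ⟨u, rfl⟩ := (toFib ξ _).surjective x₃
    rw [fibT_map_toFib, fibT_map_toFib] at h
    have e := (toFib ξ _).injective h
    obtain ⟨φ, h1, h2⟩ := push_alg_exists hX f g ξ.base u v e.symm
    exact ⟨toFib ξ _ φ, by rw [fibT_map_toFib, h2], by rw [fibT_map_toFib, h1]⟩

include hX in
theorem preservesPullbacksT : PreservesLimitsOfShape WalkingCospan (fibT ξ) := by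
  constructor
  intro K
  let a := K.map WalkingCospan.Hom.inl
  let b := K.map WalkingCospan.Hom.inr
  have hP := (isPushout_push hX b.unop a.unop).op
  haveI : PreservesLimit (cospan a b) (fibT ξ) :=
    preservesLimit_of_preserves_limit_cone hP.isLimit
      ((isLimitMapConePullbackConeEquiv (fibT ξ) hP.w).symm
        (isPullback_fibT ξ hX b.unop a.unop).isLimit)
  exact preservesLimit_of_iso_diagram (fibT ξ) (diagramIsoCospan K).symm

end pullback

section coprod

variable (B C : FEt X)

/-- The product in `FEt X` is a coproduct in the opposite category. -/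
noncomputable def opCofanIsColimit :
    IsColimit (BinaryCofan.mk (prodFst B C).op (prodSnd B C).op) :=
  BinaryCofan.IsColimit.mk _
    (fun {T} f g => ((prodIsLimit B C).lift (BinaryFan.mk f.unop g.unop)).op)
    (fun {T} f g => Quiver.Hom.unop_inj
      ((prodIsLimit B C).fac (BinaryFan.mk f.unop g.unop) ⟨WalkingPair.left⟩))
    (fun {T} f g => Quiver.Hom.unop_inj
      ((prodIsLimit B C).fac (BinaryFan.mk f.unop g.unop) ⟨WalkingPair.right⟩))
    (fun {T} f g m h1 h2 => Quiver.Hom.unop_inj
      ((prodIsLimit B C).uniq (BinaryFan.mk f.unop g.unop) m.unop (by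
        rintro ⟨_ | _⟩
        · exact congrArg Quiver.Hom.unop h1
        · exact congrArg Quiver.Hom.unop h2)))

theorem prodFst_app : (prodFst B C).hom.app ξ.base =
    AlgHom.fst (X.ring ξ.base) (B.obj.carrier ξ.base) (C.obj.carrier ξ.base) := rfl

theorem prodSnd_app : (prodSnd B C).hom.app ξ.base =
    AlgHom.snd (X.ring ξ.base) (B.obj.carrier ξ.base) (C.obj.carrier ξ.base) := rfl

theorem fib_prod_aux :
    Function.Injective (fun y : ξ.Fib B.obj => ξ.fibMap (prodFst B C).hom y) ∧
    Function.Injective (fun y : ξ.Fib C.obj => ξ.fibMap (prodSnd B C).hom y) ∧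
    IsCompl (Set.range (fun y : ξ.Fib B.obj => ξ.fibMap (prodFst B C).hom y))
      (Set.range (fun y : ξ.Fib C.obj => ξ.fibMap (prodSnd B C).hom y)) := by
  refine ⟨?_, ?_, IsCompl.of_eq ?_ ?_⟩
  · intro x y h
    obtain ⟨u, rfl⟩ := (toFib ξ _).surjective x
    obtain ⟨u', rfl⟩ := (toFib ξ _).surjective y
    simp only [fibMap_toFib] at h
    have e := (toFib ξ _).injective h
    rw [prod_pt_fst_injective (X.ring ξ.base) Ω e]
  · intro x y h
    obtain ⟨u, rfl⟩ := (toFib ξ _).surjective x
    obtain ⟨u', rfl⟩ := (toFib ξ _).surjective y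
    simp only [fibMap_toFib] at h
    have e := (toFib ξ _).injective h
    rw [prod_pt_snd_injective (X.ring ξ.base) Ω e]
  · apply Set.eq_empty_iff_forall_notMem.2
    rintro y ⟨⟨x, hx⟩, ⟨x', hx'⟩⟩
    obtain ⟨u, rfl⟩ := (toFib ξ _).surjective x
    obtain ⟨v, rfl⟩ := (toFib ξ _).surjective x'
    rw [← hx'] at hx
    simp only [fibMap_toFib] at hx
    exact prod_pt_disjoint (X.ring ξ.base) Ω u v ((toFib ξ _).injective hx)
  · apply Set.eq_univ_iff_forall.2
    intro y
    obtain ⟨ψ, rfl⟩ := (toFib ξ _).surjective y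
    rcases prod_pt_cases (X.ring ξ.base) Ω ψ with ⟨u, hu⟩ | ⟨v, hv⟩
    · exact Or.inl ⟨toFib ξ _ u, (fibMap_toFib ξ (prodFst B C) u).trans
        (congrArg (toFib ξ (prodFEt B C)) hu.symm)⟩
    · exact Or.inr ⟨toFib ξ _ v, (fibMap_toFib ξ (prodSnd B C) v).trans
        (congrArg (toFib ξ (prodFEt B C)) hv.symm)⟩

/-- The fibre of a product is the disjoint union of the fibres. -/
noncomputable def isColimitFibTCofan : IsColimit (BinaryCofan.mk ((fibT ξ).map (prodFst B C).op)
    ((fibT ξ).map (prodSnd B C).op)) := by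
  apply Nonempty.some
  rw [Types.binaryCofan_isColimit_iff]
  exact fib_prod_aux ξ B C

theorem preservesBinaryCoproductsT :
    PreservesColimitsOfShape (Discrete WalkingPair) (fibT ξ) := by
  constructor
  intro K
  let B := (K.obj ⟨WalkingPair.left⟩).unop
  let C := (K.obj ⟨WalkingPair.right⟩).unop
  haveI : PreservesColimit (pair (op B) (op C)) (fibT ξ) :=
    preservesColimit_of_preserves_colimit_cocone (opCofanIsColimit B C)
      ((isColimitMapCoconeBinaryCofanEquiv (fibT ξ) _ _).symm (isColimitFibTCofan ξ B C))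
  exact preservesColimit_of_iso_diagram (fibT ξ) (diagramIsoPair K).symm

end coprod

section main

theorem preservesTerminal : PreservesLimitsOfShape (Discrete PEmpty.{1}) ξ.fibFunctor :=
  haveI := preservesTerminalT ξ
  preservesLimitsOfShape_of_reflects_of_preserves ξ.fibFunctor FintypeCat.incl

theorem preservesPullbacks (hX : X.IsSchematic) :
    PreservesLimitsOfShape WalkingCospan ξ.fibFunctor :=
  haveI := preservesPullbacksT ξ hX
  preservesLimitsOfShape_of_reflects_of_preserves ξ.fibFunctor FintypeCat.incl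

theorem preservesFiniteCoproducts : PreservesFiniteCoproducts ξ.fibFunctor := by
  haveI := FEtBase.hasTerminal X
  haveI := FEtBase.hasBinaryProducts X
  haveI : HasFiniteProducts (FEt X) := hasFiniteProducts_of_has_binary_and_terminal
  haveI : PreservesColimitsOfShape (Discrete WalkingPair) ξ.fibFunctor :=
    haveI := preservesBinaryCoproductsT ξ
    preservesColimitsOfShape_of_reflects_of_preserves ξ.fibFunctor FintypeCat.incl
  haveI : PreservesColimitsOfShape (Discrete PEmpty.{1}) ξ.fibFunctor :=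
    haveI := preservesInitialT ξ
    preservesColimitsOfShape_of_reflects_of_preserves ξ.fibFunctor FintypeCat.incl
  exact ⟨fun n => preservesShape_fin_of_preserves_binary_and_initial ξ.fibFunctor n⟩

theorem preservesEpis (hX : X.IsSchematic) : ξ.fibFunctor.PreservesEpimorphisms := by
  constructor
  intro A B f hf
  haveI : Mono f.unop := unop_mono_of_epi f
  have hinj := injective_of_mono hX f.unop ξ.base
  apply ConcreteCategory.epi_of_surjective
  intro y
  obtain ⟨φ, rfl⟩ := (toFib ξ B.unop).surjective y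
  haveI := (A.unop.property.2 ξ.base).1
  obtain ⟨ψ, hψ⟩ := exists_extension (X.ring ξ.base) Ω (f.unop.hom.app ξ.base) hinj φ
  refine ⟨toFib ξ A.unop ψ, ?_⟩
  change ξ.fibMap f.unop.hom (toFib ξ A.unop ψ) = _
  rw [fibMap_toFib, hψ]

end main

end Groth.Agent.Helper7.FEtFib
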