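import Mathlib

set_option autoImplicit false
set_option linter.style.haveILetI false
set_option linter.unusedSectionVars false
universe u v w
open Polynomial

namespace Groth.Agent.Helper7.InvOrbit

section elementwise

variable {M : Type u} {D : Type w} [CommRing M] [CommRing D] [IsDomain D] {G : Type v} [Group G]
  [Fintype G] (σ : G → (M →+* M)) (h1 : σ 1 = RingHom.id M)
  (hmul : ∀ g h, σ (g * h) = (σ g).comp (σ h))
  (φ φ' : M →+* D) (hagree : ∀ a, (∀ g, σ g a = a) → φ a = φ' a)

/-- The characteristic polynomial of an element. -/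
noncomputable def cpoly (a : M) : M[X] := ∏ g : G, (X - C (σ g a))

include hmul in
theorem cpoly_map (a : M) (h : G) : (cpoly σ a).map (σ h) = cpoly σ a := by
  unfold cpoly
  rw [Polynomial.map_prod]
  calc ∏ g, ((X - C (σ g a)).map (σ h)) = ∏ g, (X - C (σ (h * g) a)) :=
        Finset.prod_congr rfl (fun g _ => by
          rw [Polynomial.map_sub, Polynomial.map_X, Polynomial.map_C, hmul, RingHom.comp_apply])
    _ = ∏ g, (X - C (σ g a)) := Equiv.prod_comp (Equiv.mulLeft h) (fun g => X - C (σ g a))

include hmul hagree in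
theorem cpoly_map_eq (a : M) : (cpoly σ a).map φ = (cpoly σ a).map φ' := by
  ext k
  rw [Polynomial.coeff_map, Polynomial.coeff_map]
  apply hagree
  intro g
  conv_rhs => rw [← cpoly_map σ hmul a g]
  rw [Polynomial.coeff_map]

include h1 in
theorem cpoly_eval (a : M) : (cpoly σ a).eval a = 0 := by
  unfold cpoly
  rw [Polynomial.eval_prod]
  apply Finset.prod_eq_zero (Finset.mem_univ (1 : G))
  rw [h1, RingHom.id_apply, Polynomial.eval_sub, Polynomial.eval_X, Polynomial.eval_C, sub_self]

include h1 hmul hagree in
/-- Two maps into a domain agreeing on invariants agree elementwise up to the action. -/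
theorem exists_eq_elementwise (a : M) : ∃ g, φ' a = φ (σ g a) := by
  have e1 : ((cpoly σ a).map φ').eval (φ' a) = 0 := by
    rw [Polynomial.eval_map, Polynomial.eval₂_hom, cpoly_eval σ h1, map_zero]
  rw [← cpoly_map_eq σ hmul φ φ' hagree] at e1
  unfold cpoly at e1
  rw [Polynomial.map_prod, Polynomial.eval_prod, Finset.prod_eq_zero_iff] at e1
  obtain ⟨g, -, hg⟩ := e1
  rw [Polynomial.map_sub, Polynomial.map_X, Polynomial.map_C, Polynomial.eval_sub,
    Polynomial.eval_X, Polynomial.eval_C, sub_eq_zero] at hg
  exact ⟨g, hg⟩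

end elementwise

section uniform

variable {M : Type u} {D : Type w} [CommRing M] [CommRing D] [IsDomain D] {G : Type v} [Group G]
  [Finite G] (σ : G → (M →+* M)) (h1 : σ 1 = RingHom.id M)
  (hmul : ∀ g h, σ (g * h) = (σ g).comp (σ h))
  (φ φ' : M →+* D) (hagree : ∀ a, (∀ g, σ g a = a) → φ a = φ' a)

include h1 hmul hagree in
/-- Two maps into a domain agreeing on invariants differ by the action. -/
theorem exists_eq_comp : ∃ g, φ' = φ.comp (σ g) := by
  classical
  cases nonempty_fintype G
  by_contra hcon
  push Not at hcon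
  have hex : ∀ g : G, ∃ a : M, φ' a ≠ φ (σ g a) := by
    intro g
    by_contra h
    push Not at h
    exact hcon g (RingHom.ext h)
  choose a ha using hex
  let ι : G → ℕ := fun g => (Fintype.equivFin G g : ℕ)
  have hι : Function.Injective ι := fun g h hgh =>
    (Fintype.equivFin G).injective (Fin.ext hgh)
  -- the polynomial action
  let σX : G → (M[X] →+* M[X]) := fun g => Polynomial.mapRingHom (σ g)
  have h1X : σX 1 = RingHom.id M[X] := by
    change Polynomial.mapRingHom (σ 1) = _
    rw [h1, Polynomial.mapRingHom_id]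
  have hmulX : ∀ g h, σX (g * h) = (σX g).comp (σX h) := by
    intro g h
    change Polynomial.mapRingHom (σ (g * h)) = _
    rw [hmul, Polynomial.mapRingHom_comp]
  have hagreeX : ∀ P : M[X], (∀ g, σX g P = P) →
      Polynomial.mapRingHom φ P = Polynomial.mapRingHom φ' P := by
    intro P hP
    ext k
    rw [Polynomial.coe_mapRingHom, Polynomial.coe_mapRingHom, Polynomial.coeff_map,
      Polynomial.coeff_map]
    apply hagree
    intro g
    have := congrArg (fun Q => Polynomial.coeff Q k) (hP g)
    change ((P.map (σ g)).coeff k) = P.coeff k at this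
    rwa [Polynomial.coeff_map] at this
  let P : M[X] := ∑ g : G, Polynomial.monomial (ι g) (a g)
  have hcoeff : ∀ h : G, P.coeff (ι h) = a h := by
    intro h
    change (∑ g : G, Polynomial.monomial (ι g) (a g)).coeff (ι h) = a h
    rw [Polynomial.finsetSum_coeff]
    rw [Finset.sum_eq_single h]
    · rw [Polynomial.coeff_monomial, if_pos rfl]
    · intro g _ hg
      rw [Polynomial.coeff_monomial, if_neg (fun e => hg (hι e))]
    · intro hh
      exact absurd (Finset.mem_univ h) hh
  obtain ⟨h, hh⟩ := exists_eq_elementwise σX h1X hmulX (Polynomial.mapRingHom φ)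
    (Polynomial.mapRingHom φ') hagreeX P
  have := congrArg (fun Q => Polynomial.coeff Q (ι h)) hh
  change (P.map φ').coeff (ι h) = ((P.map (σ h)).map φ).coeff (ι h) at this
  rw [Polynomial.coeff_map, Polynomial.coeff_map, Polynomial.coeff_map, hcoeff] at this
  exact ha h this

end uniform

end Groth.Agent.Helper7.InvOrbit
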