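import Groth.Agent.Helper7.FEtInv
import Groth.Agent.Helper7.InvOrbit

set_option autoImplicit false
set_option linter.style.haveILetI false
set_option linter.unusedSectionVars false
universe u
open TensorProduct CategoryTheory CategoryTheory.Limits Opposite

namespace Groth.Agent.Helper7.FEtGal

open SchFin Groth.Agent.Helper7.FEtBase Groth.Agent.Helper7.FEtKer Groth.Agent.Helper7.FEtStr
  Groth.Agent.Helper7.FEtPush Groth.Agent.Helper7.FEtFibRing Groth.Agent.Helper7.FEtFib
  Groth.Agent.Helper7.FEtConst Groth.Agent.Helper7.InvCore Groth.Agent.Helper7.FEtInv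
  Groth.Agent.Helper7.InvOrbit

variable {X : RSpace.{u}}

section quot

variable {G : Type u} [Group G] [Finite G] (hX : X.IsSchematic) (hlt : LocTriv X)
  (K : SingleObj G ⥤ (FEt X)ᵒᵖ)

/-- The cover acted on. -/
abbrev baseOf : FEt X := (K.obj (SingleObj.star G)).unop

/-- The action on the cover. -/
def actOp (g : G) : baseOf K ⟶ baseOf K :=
  (K.map (X := SingleObj.star G) (Y := SingleObj.star G) g⁻¹).unop

theorem actOp_eq (g : G) :
    (K.map (X := SingleObj.star G) (Y := SingleObj.star G) g).unop = actOp K g⁻¹ := by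
  unfold actOp
  rw [inv_inv]

theorem actOp_one : actOp K 1 = 𝟙 _ := by
  unfold actOp
  rw [inv_one]
  exact congrArg Quiver.Hom.unop (K.map_id (SingleObj.star G))

theorem actOp_mul (g h : G) : actOp K (g * h) = actOp K h ≫ actOp K g := by
  unfold actOp
  rw [mul_inv_rev]
  exact congrArg Quiver.Hom.unop
    (K.map_comp (X := SingleObj.star G) (Y := SingleObj.star G) (Z := SingleObj.star G) g⁻¹ h⁻¹)

/-- The étale cover of invariants. -/
noncomputable abbrev quotObj : FEt X :=
  invFEt (baseOf K) (actOp K) (actOp_one K) (actOp_mul K) hX hlt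

/-- The inclusion of invariants. -/
noncomputable abbrev quotIncl : quotObj hX hlt K ⟶ baseOf K :=
  invIncl (baseOf K) (actOp K) (actOp_one K) (actOp_mul K) hX hlt

/-- The quotient cocone. -/
noncomputable def quotCocone : Cocone K where
  pt := op (quotObj hX hlt K)
  ι :=
    { app := fun _ => (quotIncl hX hlt K).op
      naturality := fun _ _ g => by
        rw [Functor.const_obj_map]
        refine Eq.trans ?_ (Category.comp_id _).symm
        apply Quiver.Hom.unop_inj
        change quotIncl hX hlt K ≫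
          (K.map (X := SingleObj.star G) (Y := SingleObj.star G) g).unop = quotIncl hX hlt K
        rw [actOp_eq]
        exact invIncl_act _ _ _ _ hX hlt g⁻¹ }

theorem cocone_inv (s : Cocone K) (g : G) :
    (s.ι.app (SingleObj.star G)).unop ≫ actOp K g = (s.ι.app (SingleObj.star G)).unop := by
  have := s.ι.naturality (X := SingleObj.star G) (Y := SingleObj.star G) g⁻¹
  rw [Functor.const_obj_map] at this
  exact congrArg Quiver.Hom.unop (this.trans (Category.comp_id _))

/-- The descent to the quotient. -/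
noncomputable def quotDesc (s : Cocone K) : s.pt.unop ⟶ quotObj hX hlt K :=
  invLift _ _ _ _ hX hlt (s.ι.app (SingleObj.star G)).unop (cocone_inv K s)

theorem quotDesc_incl (s : Cocone K) :
    quotDesc hX hlt K s ≫ quotIncl hX hlt K = (s.ι.app (SingleObj.star G)).unop :=
  invLift_incl _ _ _ _ hX hlt _ _

/-- The quotient cocone is a colimit. -/
noncomputable def quotCoconeIsColimit : IsColimit (quotCocone hX hlt K) where
  desc s := (quotDesc hX hlt K s).op
  fac s _ := Quiver.Hom.unop_inj (quotDesc_incl hX hlt K s)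
  uniq s _ hm := Quiver.Hom.unop_inj (inv_hom_ext _ _ _ _ hX hlt
    ((congrArg Quiver.Hom.unop (hm (SingleObj.star G))).trans (quotDesc_incl hX hlt K s).symm))

include hX hlt in
theorem hasColimitsOfShape_singleObj : HasColimitsOfShape (SingleObj G) (FEt X)ᵒᵖ :=
  ⟨fun K => HasColimit.mk ⟨quotCocone hX hlt K, quotCoconeIsColimit hX hlt K⟩⟩

end quot

section pres

variable {G : Type u} [Group G] [Finite G] (hX : X.IsSchematic) (hlt : LocTriv X)
  (K : SingleObj G ⥤ (FEt X)ᵒᵖ) {Ω : Type u} [Field Ω] [IsAlgClosed Ω] (ξ : GeomPt X Ω)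

/-- Points agreeing on the invariants differ by the action. -/
theorem exists_eq_comp_actOp (φ φ' : Pt ξ (baseOf K))
    (h : φ.comp ((quotIncl hX hlt K).hom.app ξ.base) = φ'.comp ((quotIncl hX hlt K).hom.app ξ.base)) :
    ∃ g : G, φ' = φ.comp ((actOp K g).hom.app ξ.base) := by
  let σ : G → ((baseOf K).obj.carrier ξ.base →+* (baseOf K).obj.carrier ξ.base) :=
    fun g => ((actOp K g).hom.app ξ.base).toRingHom
  have h1 : σ 1 = RingHom.id _ := by
    change ((actOp K 1).hom.app ξ.base).toRingHom = _
    rw [actOp_one]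
    rfl
  have hmul : ∀ g h, σ (g * h) = (σ g).comp (σ h) := by
    intro g h
    change ((actOp K (g * h)).hom.app ξ.base).toRingHom = _
    rw [actOp_mul]
    rfl
  obtain ⟨g, hg⟩ := exists_eq_comp (D := Ω) σ h1 hmul φ.toRingHom φ'.toRingHom
    (fun a ha => DFunLike.congr_fun h ⟨a, fun g => ha g⟩)
  exact ⟨g, AlgHom.ext fun a => DFunLike.congr_fun hg a⟩

/-- The fibre functor sends the quotient cocone to a colimit. -/
noncomputable def isColimitFibT :
    IsColimit ((fibT ξ).mapCocone (quotCocone hX hlt K)) := by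
  apply Nonempty.some
  rw [Types.isColimit_iff_coconeTypesIsColimit]
  refine ⟨⟨?_, ?_⟩⟩
  · intro t t' htt'
    obtain ⟨j, x, rfl⟩ := (K ⋙ fibT ξ).ιColimitType_jointly_surjective t
    obtain ⟨j', y, rfl⟩ := (K ⋙ fibT ξ).ιColimitType_jointly_surjective t'
    obtain ⟨⟩ := j
    obtain ⟨⟩ := j'
    change (fibT ξ).map (quotIncl hX hlt K).op x = (fibT ξ).map (quotIncl hX hlt K).op y at htt'
    obtain ⟨φ, rfl⟩ := (toFib ξ (baseOf K)).surjective x
    obtain ⟨φ', rfl⟩ := (toFib ξ (baseOf K)).surjective y
    rw [fibT_map_toFib, fibT_map_toFib] at htt'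
    obtain ⟨g, rfl⟩ := exists_eq_comp_actOp hX hlt K ξ φ φ' ((toFib ξ _).injective htt')
    have e : toFib ξ (baseOf K) (φ.comp ((actOp K g).hom.app ξ.base)) =
        (K ⋙ fibT ξ).map (X := SingleObj.star G) (Y := SingleObj.star G) g⁻¹
          (toFib ξ (baseOf K) φ) := (fibT_map_toFib ξ (actOp K g) φ).symm
    rw [e]
    exact ((K ⋙ fibT ξ).ιColimitType_map (j := SingleObj.star G) (j' := SingleObj.star G) g⁻¹
      (toFib ξ (baseOf K) φ)).symm
  · rw [Functor.CoconeTypes.descColimitType_surjective_iff]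
    intro z
    obtain ⟨ψ, rfl⟩ := (toFib ξ (quotObj hX hlt K)).surjective z
    haveI := ((baseOf K).property.2 ξ.base).1
    obtain ⟨φ, hφ⟩ := exists_extension (X.ring ξ.base) Ω ((quotIncl hX hlt K).hom.app ξ.base)
      (invIncl_injective _ _ _ _ hX hlt ξ.base) ψ
    refine ⟨SingleObj.star G, toFib ξ (baseOf K) φ, ?_⟩
    change (fibT ξ).map (quotIncl hX hlt K).op (toFib ξ (baseOf K) φ) = _
    rw [fibT_map_toFib, hφ]

include hX hlt in
theorem preservesColimitsOfShape_singleObj :
    PreservesColimitsOfShape (SingleObj G) ξ.fibFunctor := by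
  haveI : PreservesColimitsOfShape (SingleObj G) (fibT ξ) :=
    ⟨fun {K} => preservesColimit_of_preserves_colimit_cocone (quotCoconeIsColimit hX hlt K)
      (isColimitFibT hX hlt K ξ)⟩
  exact preservesColimitsOfShape_of_reflects_of_preserves ξ.fibFunctor FintypeCat.incl

end pres

section main

/-- A binary product in a category is a binary coproduct in the opposite category. -/
def isColimitOpOfIsLimit {C : Type*} [Category C] {P A B : C} {f : P ⟶ A} {π : P ⟶ B}
    (h : IsLimit (BinaryFan.mk f π)) : IsColimit (BinaryCofan.mk f.op π.op) :=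
  BinaryCofan.IsColimit.mk _
    (fun {T} a b => (h.lift (BinaryFan.mk a.unop b.unop)).op)
    (fun {T} a b => Quiver.Hom.unop_inj (h.fac (BinaryFan.mk a.unop b.unop) ⟨WalkingPair.left⟩))
    (fun {T} a b => Quiver.Hom.unop_inj (h.fac (BinaryFan.mk a.unop b.unop) ⟨WalkingPair.right⟩))
    (fun {T} a b m h1 h2 => Quiver.Hom.unop_inj
      (h.uniq (BinaryFan.mk a.unop b.unop) m.unop (by
        rintro ⟨_ | _⟩
        · exact congrArg Quiver.Hom.unop h1
        · exact congrArg Quiver.Hom.unop h2)))

/-- The hypothesis that epimorphisms are pointwise surjective. -/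
def EpiSurj (X : RSpace.{u}) : Prop :=
  ∀ (A B : FEt X) (f : A ⟶ B), Epi f → ∀ p : X.pt, Function.Surjective (f.hom.app p)

theorem preGalois (hX : X.IsSchematic) (hlt : LocTriv X) (hepi : EpiSurj X) :
    PreGaloisCategory (FEt X)ᵒᵖ := by
  haveI := FEtStr.hasInitial X
  haveI := FEtPush.hasPushouts hX
  haveI := FEtBase.hasTerminal X
  haveI := FEtBase.hasBinaryProducts X
  haveI : HasFiniteProducts (FEt X) := hasFiniteProducts_of_has_binary_and_terminal
  exact
    { hasTerminal := inferInstance
      hasPullbacks := inferInstance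
      hasFiniteCoproducts := inferInstance
      hasQuotientsByFiniteGroups := fun _ _ _ => hasColimitsOfShape_singleObj hX hlt
      monoInducesIsoOnDirectSummand := fun {Y Z} i _ => by
        haveI : Epi i.unop := unop_epi_of_mono i
        obtain ⟨D, π, ⟨hlim⟩⟩ := exists_isLimit_of_surjective i.unop hX
          (hepi _ _ i.unop inferInstance)
        exact ⟨op D, π.op, ⟨isColimitOpOfIsLimit hlim⟩⟩ }

variable {Ω : Type u} [Field Ω] [IsAlgClosed Ω] (ξ : GeomPt X Ω)

theorem fiberFunctor (hX : X.IsSchematic) (hlt : LocTriv X) (hepi : EpiSurj X) :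
    @PreGaloisCategory.FiberFunctor (FEt X)ᵒᵖ _ (preGalois hX hlt hepi) ξ.fibFunctor :=
  letI := preGalois hX hlt hepi
  { preservesTerminalObjects := FEtFib.preservesTerminal ξ
    preservesPullbacks := FEtFib.preservesPullbacks ξ hX
    preservesFiniteCoproducts := FEtFib.preservesFiniteCoproducts ξ
    preservesEpis := FEtFib.preservesEpis ξ hX
    preservesQuotientsByFiniteGroups := fun G _ _ => preservesColimitsOfShape_singleObj hX hlt ξ
    reflectsIsos := FEtConst.reflectsIsomorphisms ξ hX hlt }

end main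

end Groth.Agent.Helper7.FEtGal
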