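import Groth.Agent.Helper7.InvDesc
import Groth.Agent.Helper7.FEtConst

set_option autoImplicit false
set_option linter.style.haveILetI false
set_option linter.unusedSectionVars false
universe u
open TensorProduct CategoryTheory CategoryTheory.Limits Opposite

namespace Groth.Agent.Helper7.FEtInv

open SchFin Groth.Agent.Helper7.SchH0 Groth.Agent.Helper7.SchGeom Groth.Agent.Helper7.FEtBase
  Groth.Agent.Helper7.FEtConst Groth.Agent.Helper7.InvCore Groth.Agent.Helper7.InvBC
  Groth.Agent.Helper7.InvDesc

variable {X : RSpace.{u}} {G : Type u} [Group G] (A : FEt X) (ρ : G → (A ⟶ A))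

/-- The pointwise action. -/
def act (p : X.pt) (g : G) : A.obj.carrier p →ₐ[X.ring p] A.obj.carrier p := (ρ g).hom.app p

theorem res_act {p q : X.pt} (h : p ≤ q) (g : G) (a : A.obj.carrier p) :
    A.obj.res h (act A ρ p g a) = act A ρ q g (A.obj.res h a) := (ρ g).hom.compat h a

/-- The algebra of invariants. -/
def invAlg : Alg X where
  carrier p := invSub (act A ρ p)
  res {p q} h :=
    { toFun := fun k => ⟨A.obj.res h k.1, fun g => by rw [← res_act, k.2 g]⟩
      map_one' := Subtype.ext (map_one (A.obj.res h))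
      map_mul' := fun a b => Subtype.ext (map_mul (A.obj.res h) a.1 b.1)
      map_zero' := Subtype.ext (map_zero (A.obj.res h))
      map_add' := fun a b => Subtype.ext (map_add (A.obj.res h) a.1 b.1) }
  res_algebraMap h a := Subtype.ext (A.obj.res_algebraMap h a)
  res_self p b := Subtype.ext (A.obj.res_self p b.1)
  res_comp h h' b := Subtype.ext (A.obj.res_comp h h' b.1)

theorem invAlg_isQcoh (hX : X.IsSchematic) [Finite G] : (invAlg A ρ).IsQcoh := by
  apply isQcoh_of_bij
  intro p q hpq
  letI : Algebra (X.ring p) (X.ring q) := (X.res hpq).toAlgebra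
  haveI : Module.Flat (X.ring p) (X.ring q) := hX.1.2 p q hpq
  obtain ⟨eA, heA⟩ := bij_of_isQcoh A.obj A.property.1 p q hpq
  obtain ⟨e, he⟩ := inv_bc (T := X.ring q) (act A ρ p) (act A ρ q) (A.obj.res hpq)
    (fun g m => res_act A ρ hpq g m) eA heA
  exact ⟨e, fun t k => Subtype.ext (he t k)⟩

variable (h1 : ρ 1 = 𝟙 A) (hmul : ∀ g h, ρ (g * h) = ρ h ≫ ρ g)

include h1 hmul in
theorem invAlg_isEtCover (hX : X.IsSchematic) (hlt : LocTriv X) [Finite G] :
    (invAlg A ρ).IsEtCover := by
  refine ⟨invAlg_isQcoh A ρ hX, fun p => ?_⟩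
  obtain ⟨B, n, hB, hn⟩ := hlt A
  obtain ⟨e⟩ := hn p
  haveI := (hB.2 p).2
  have h1' : act A ρ p 1 = AlgHom.id _ _ := by
    unfold act
    rw [h1]
    rfl
  have hmul' : ∀ g h, act A ρ p (g * h) = (act A ρ p g).comp (act A ρ p h) := by
    intro g h
    unfold act
    rw [hmul]
    rfl
  exact finite_etale_inv e (act A ρ p) h1' hmul'

section cat

variable [Finite G] (hX : X.IsSchematic) (hlt : LocTriv X)

/-- The étale cover of invariants. -/
def invFEt : FEt X := ⟨invAlg A ρ, invAlg_isEtCover A ρ h1 hmul hX hlt⟩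

/-- The inclusion of the invariants. -/
def invIncl : invFEt A ρ h1 hmul hX hlt ⟶ A :=
  homMk (fun p => (invSub (act A ρ p)).val) (fun _ _ => rfl)

theorem invIncl_app (p : X.pt) (k : invSub (act A ρ p)) :
    (invIncl A ρ h1 hmul hX hlt).hom.app p k = k.1 := rfl

theorem invIncl_injective (p : X.pt) :
    Function.Injective ((invIncl A ρ h1 hmul hX hlt).hom.app p) :=
  fun _ _ h => Subtype.ext h

theorem invIncl_act (g : G) : invIncl A ρ h1 hmul hX hlt ≫ ρ g = invIncl A ρ h1 hmul hX hlt := by
  apply hom_ext'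
  intro p k
  exact (show ∀ k : invSub (act A ρ p), act A ρ p g k.1 = k.1 from fun k => k.2 g) k

/-- The lift of an invariant morphism to the invariants. -/
def invLift {T : FEt X} (f : T ⟶ A) (hf : ∀ g, f ≫ ρ g = f) : T ⟶ invFEt A ρ h1 hmul hX hlt :=
  homMk (fun p => AlgHom.codRestrict (f.hom.app p) (invSub (act A ρ p))
      (fun t g => congr_app (hf g) p t))
    (fun h b => Subtype.ext (f.hom.compat h b))

theorem invLift_incl {T : FEt X} (f : T ⟶ A) (hf : ∀ g, f ≫ ρ g = f) :
    invLift A ρ h1 hmul hX hlt f hf ≫ invIncl A ρ h1 hmul hX hlt = f :=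
  hom_ext' (fun _ _ => rfl)

theorem inv_hom_ext {T : FEt X} {m m' : T ⟶ invFEt A ρ h1 hmul hX hlt}
    (h : m ≫ invIncl A ρ h1 hmul hX hlt = m' ≫ invIncl A ρ h1 hmul hX hlt) : m = m' := by
  apply hom_ext'
  intro p t
  exact invIncl_injective A ρ h1 hmul hX hlt p (congr_app h p t)

end cat

section limit

variable [Finite G] (hX : X.IsSchematic) (hlt : LocTriv X) (K : SingleObj G ⥤ FEt X)

/-- The action attached to a functor from the one-object category. -/
def actOf (g : G) : K.obj (SingleObj.star G) ⟶ K.obj (SingleObj.star G) :=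
  K.map (X := SingleObj.star G) (Y := SingleObj.star G) g

theorem actOf_one : actOf K 1 = 𝟙 _ := K.map_id (SingleObj.star G)

theorem actOf_mul (g h : G) : actOf K (g * h) = actOf K h ≫ actOf K g :=
  K.map_comp (X := SingleObj.star G) (Y := SingleObj.star G) (Z := SingleObj.star G) h g

/-- The cone of invariants. -/
def invCone : Cone K where
  pt := invFEt (K.obj (SingleObj.star G)) (actOf K) (actOf_one K) (actOf_mul K) hX hlt
  π :=
    { app := fun _ => invIncl (K.obj (SingleObj.star G)) (actOf K) (actOf_one K) (actOf_mul K) hX hlt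
      naturality := fun _ _ g => by
        rw [Functor.const_obj_map]
        exact (Category.id_comp _).trans (invIncl_act _ _ _ _ hX hlt g).symm }

/-- The cone of invariants is a limit. -/
def invConeIsLimit : IsLimit (invCone hX hlt K) where
  lift s := invLift _ _ _ _ hX hlt (s.π.app (SingleObj.star G)) (fun g => by
    have := s.π.naturality (X := SingleObj.star G) (Y := SingleObj.star G) g
    rw [Functor.const_obj_map] at this
    exact ((Category.id_comp _).symm.trans this).symm)
  fac s _ := invLift_incl _ _ _ _ hX hlt _ _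
  uniq s m hm := inv_hom_ext _ _ _ _ hX hlt
    ((hm (SingleObj.star G)).trans (invLift_incl _ _ _ _ hX hlt _ _).symm)

include hX hlt in
theorem hasLimitsOfShape : HasLimitsOfShape (SingleObj G) (FEt X) :=
  ⟨fun K => HasLimit.mk ⟨invCone hX hlt K, invConeIsLimit hX hlt K⟩⟩

end limit

end Groth.Agent.Helper7.FEtInv
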