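import Groth.Agent.Helper7.FEtQuot

set_option autoImplicit false
set_option linter.style.haveILetI false
universe u
open TensorProduct CategoryTheory CategoryTheory.Limits

namespace Groth.Agent.Helper7.FEtKer

open SchFin Groth.Agent.Helper7.SchH0 Groth.Agent.Helper7.SchGeom Groth.Agent.Helper7.FEtBase
  Groth.Agent.Helper7.FEtRing Groth.Agent.Helper7.FEtQuot

variable {X : RSpace.{u}} {A B : FEt X} (f : A ⟶ B)

theorem exists_kerIdem (p : X.pt) : ∃ e : A.obj.carrier p, IsIdempotentElem e ∧
    RingHom.ker (f.hom.app p) = Ideal.span {e} := by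
  haveI := (A.property.2 p).1
  haveI := (A.property.2 p).2
  haveI := (B.property.2 p).1
  haveI := (B.property.2 p).2
  exact exists_idem_ker (f.hom.app p)

/-- The idempotent generating the kernel of `f` at `p`. -/
noncomputable def kerIdem (p : X.pt) : A.obj.carrier p := Classical.choose (exists_kerIdem f p)

theorem kerIdem_idem (p : X.pt) : IsIdempotentElem (kerIdem f p) :=
  (Classical.choose_spec (exists_kerIdem f p)).1

theorem ker_eq (p : X.pt) : RingHom.ker (f.hom.app p) = Ideal.span {kerIdem f p} :=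
  (Classical.choose_spec (exists_kerIdem f p)).2

theorem app_kerIdem (p : X.pt) : f.hom.app p (kerIdem f p) = 0 := by
  have : kerIdem f p ∈ RingHom.ker (f.hom.app p) := by
    rw [ker_eq]; exact Ideal.subset_span rfl
  exact this

theorem kerIdem_res (hX : X.IsSchematic) {p q : X.pt} (h : p ≤ q) :
    A.obj.res h (kerIdem f p) = kerIdem f q := by
  letI : Algebra (X.ring p) (X.ring q) := (X.res h).toAlgebra
  haveI : Module.Flat (X.ring p) (X.ring q) := hX.1.2 p q h
  obtain ⟨eA, heA⟩ := bij_of_isQcoh A.obj A.property.1 p q h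
  obtain ⟨eB, heB⟩ := bij_of_isQcoh B.obj B.property.1 p q h
  have key := ker_eq_span_of_bc (f.hom.app p) (f.hom.app q) (A.obj.res h) (B.obj.res h)
    (fun a => f.hom.compat h a) eA heA eB heB (kerIdem_idem f p) (ker_eq f p)
  exact idem_unique ((kerIdem_idem f p).map (A.obj.res h)) (kerIdem_idem f q)
    (key.symm.trans (ker_eq f q))

/-- S15625: image factorisation in `FEt X`. -/
theorem exists_factor (hX : X.IsSchematic) :
    ∃ (Q : FEt X) (g : A ⟶ Q) (h : Q ⟶ B), g ≫ h = f ∧
      (∀ p : X.pt, Function.Surjective (g.hom.app p)) ∧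
      ∀ p : X.pt, Function.Injective (h.hom.app p) := by
  refine ⟨quotFEt A (kerIdem f) (fun h => kerIdem_res f hX h) (kerIdem_idem f),
    quotMk A (kerIdem f) (fun h => kerIdem_res f hX h) (kerIdem_idem f),
    quotLift A (kerIdem f) (fun h => kerIdem_res f hX h) (kerIdem_idem f) f (app_kerIdem f),
    quotMk_quotLift _ _ _ _ _ _, quotMk_surjective _ _ _ _, ?_⟩
  intro p
  rw [injective_iff_map_eq_zero]
  intro y hy
  obtain ⟨a, rfl⟩ := Ideal.Quotient.mk_surjective y
  rw [quotLift_mk] at hy
  have : a ∈ RingHom.ker (f.hom.app p) := hy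
  rw [ker_eq] at this
  exact Ideal.Quotient.eq_zero_iff_mem.mpr this

/-- S15628: a pointwise surjective morphism is a projection onto a direct factor. -/
theorem exists_isLimit_of_surjective (hX : X.IsSchematic)
    (hf : ∀ p : X.pt, Function.Surjective (f.hom.app p)) :
    ∃ (D : FEt X) (π : A ⟶ D), Nonempty (IsLimit (BinaryFan.mk f π)) := by
  have hc : ∀ {p q : X.pt} (h : p ≤ q),
      A.obj.res h (1 - kerIdem f p) = 1 - kerIdem f q := fun h => by
    rw [map_sub, map_one, kerIdem_res f hX h]
  have he : ∀ p, IsIdempotentElem (1 - kerIdem f p) := fun p => (kerIdem_idem f p).one_sub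
  refine ⟨quotFEt A (fun p => 1 - kerIdem f p) hc he, quotMk A _ hc he,
    ⟨isLimitOfBijective f _ (fun p => ⟨?_, ?_⟩)⟩⟩
  · -- injective
    intro a a' haa'
    have h1 : f.hom.app p a = f.hom.app p a' := congrArg Prod.fst haa'
    have h2 : (quotMk A _ hc he).hom.app p a = (quotMk A _ hc he).hom.app p a' :=
      congrArg Prod.snd haa'
    rw [← sub_eq_zero]
    have h3 : a - a' ∈ Ideal.span {kerIdem f p} := by
      rw [← ker_eq, RingHom.mem_ker, map_sub, h1, sub_self]
    have h4 : a - a' ∈ Ideal.span {1 - kerIdem f p} := (quotMk_eq_iff A _ hc he p a a').mp h2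
    rw [mem_span_idem_iff (kerIdem_idem f p)] at h3
    rw [mem_span_idem_iff (he p)] at h4
    rw [← h4, ← h3, mul_assoc, mul_sub, mul_one, (kerIdem_idem f p).eq, sub_self, mul_zero]
  · -- surjective
    rintro ⟨b, y⟩
    obtain ⟨a₁, rfl⟩ := hf p b
    obtain ⟨d, rfl⟩ := quotMk_surjective A _ hc he p y
    refine ⟨(1 - kerIdem f p) * a₁ + kerIdem f p * d, Prod.ext ?_ ?_⟩
    · change f.hom.app p _ = f.hom.app p a₁
      rw [map_add, map_mul, map_mul, map_sub, map_one, app_kerIdem, sub_zero, one_mul, zero_mul,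
        add_zero]
    · change (quotMk A _ hc he).hom.app p _ = (quotMk A _ hc he).hom.app p d
      rw [quotMk_eq_iff]
      have : (1 - kerIdem f p) * a₁ + kerIdem f p * d - d =
          (a₁ - d) * (1 - kerIdem f p) := by ring
      rw [this]
      exact Ideal.mul_mem_left _ _ (Ideal.subset_span rfl)

end Groth.Agent.Helper7.FEtKer
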