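import Groth.Agent.Helper7.FEtTensor

set_option autoImplicit false
set_option linter.style.haveILetI false
universe u
open TensorProduct CategoryTheory CategoryTheory.Limits

namespace Groth.Agent.Helper7.FEtPush

open SchFin Groth.Agent.Helper7.SchH0 Groth.Agent.Helper7.SchGeom Groth.Agent.Helper7.FEtBase
  Groth.Agent.Helper7.FEtRing Groth.Agent.Helper7.FEtQuot Groth.Agent.Helper7.FEtKer
  Groth.Agent.Helper7.FEtStr Groth.Agent.Helper7.FEtTensor

variable {X : RSpace.{u}} (hX : X.IsSchematic) {A B C : FEt X} (f : A ⟶ B) (g : A ⟶ C)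

/-- The multiplication `A ⊗ A → A`. -/
noncomputable def mulMap (A : FEt X) : tensorFEt A A ⟶ A := tdesc (𝟙 A) (𝟙 A)

/-- `f ⊗ g : A ⊗ A → B ⊗ C`. -/
noncomputable def fgMap : tensorFEt A A ⟶ tensorFEt B C := tdesc (f ≫ tinl B C) (g ≫ tinr B C)

theorem fgMap_tdesc {D : FEt X} (u : B ⟶ D) (v : C ⟶ D) :
    fgMap f g ≫ tdesc u v = tdesc (f ≫ u) (g ≫ v) := by
  apply tensor_hom_ext
  · rw [← Category.assoc, fgMap, tinl_tdesc, tinl_tdesc, Category.assoc, tinl_tdesc]
  · rw [← Category.assoc, fgMap, tinr_tdesc, tinr_tdesc, Category.assoc, tinr_tdesc]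

theorem tdesc_self {D : FEt X} (w : A ⟶ D) : tdesc w w = mulMap A ≫ w := by
  apply tensor_hom_ext
  · rw [tinl_tdesc, mulMap, ← Category.assoc, tinl_tdesc, Category.id_comp]
  · rw [tinr_tdesc, mulMap, ← Category.assoc, tinr_tdesc, Category.id_comp]

/-- The idempotents cutting out the pushout inside `B ⊗ C`. -/
noncomputable def pushIdem (p : X.pt) : (tensorFEt B C).obj.carrier p :=
  (fgMap f g).hom.app p (kerIdem (mulMap A) p)

theorem pushIdem_idem (p : X.pt) : IsIdempotentElem (pushIdem f g p) :=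
  (kerIdem_idem (mulMap A) p).map ((fgMap f g).hom.app p)

include hX in
theorem pushIdem_res {p q : X.pt} (h : p ≤ q) :
    (tensorFEt B C).obj.res h (pushIdem f g p) = pushIdem f g q := by
  unfold pushIdem
  rw [(fgMap f g).hom.compat, kerIdem_res (mulMap A) hX h]

/-- The pushout object. -/
noncomputable abbrev pushFEt : FEt X :=
  quotFEt (tensorFEt B C) (pushIdem f g) (fun h => pushIdem_res hX f g h) (pushIdem_idem f g)

/-- The pushout inclusions. -/
noncomputable def pushInl : B ⟶ pushFEt hX f g :=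
  tinl B C ≫ quotMk (tensorFEt B C) (pushIdem f g) (fun h => pushIdem_res hX f g h)
    (pushIdem_idem f g)

noncomputable def pushInr : C ⟶ pushFEt hX f g :=
  tinr B C ≫ quotMk (tensorFEt B C) (pushIdem f g) (fun h => pushIdem_res hX f g h)
    (pushIdem_idem f g)

theorem push_w : f ≫ pushInl hX f g = g ≫ pushInr hX f g := by
  apply hom_ext'
  intro p a
  change (quotMk (tensorFEt B C) (pushIdem f g) _ _).hom.app p ((tinl B C).hom.app p (f.hom.app p a))
    = (quotMk (tensorFEt B C) (pushIdem f g) _ _).hom.app p ((tinr B C).hom.app p (g.hom.app p a))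
  rw [quotMk_eq_iff]
  have h1 : (tinl A A).hom.app p a - (tinr A A).hom.app p a ∈
      Ideal.span {kerIdem (mulMap A) p} := by
    rw [← ker_eq, RingHom.mem_ker, map_sub, ← comp_app, ← comp_app, mulMap, tinl_tdesc,
      tinr_tdesc, sub_self]
  rw [mem_span_idem_iff (kerIdem_idem (mulMap A) p)] at h1
  have h2 : (tinl B C).hom.app p (f.hom.app p a) - (tinr B C).hom.app p (g.hom.app p a) =
      (fgMap f g).hom.app p ((tinl A A).hom.app p a - (tinr A A).hom.app p a) := by
    rw [map_sub]
    have e1 := congr_app (tinl_tdesc (f ≫ tinl B C) (g ≫ tinr B C)) p a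
    have e2 := congr_app (tinr_tdesc (f ≫ tinl B C) (g ≫ tinr B C)) p a
    rw [comp_app, comp_app] at e1 e2
    unfold fgMap
    rw [e1, e2]
  rw [h2, ← h1, map_mul]
  exact Ideal.mul_mem_left _ _ (Ideal.subset_span rfl)

theorem tdesc_pushIdem {D : FEt X} (u : B ⟶ D) (v : C ⟶ D) (huv : f ≫ u = g ≫ v) (p : X.pt) :
    (tdesc u v).hom.app p (pushIdem f g p) = 0 := by
  unfold pushIdem
  rw [← comp_app, fgMap_tdesc, ← huv, tdesc_self, comp_app, app_kerIdem, map_zero]

/-- The pushout descent. -/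
noncomputable def pushDesc {D : FEt X} (u : B ⟶ D) (v : C ⟶ D) (huv : f ≫ u = g ≫ v) :
    pushFEt hX f g ⟶ D :=
  quotLift (tensorFEt B C) (pushIdem f g) (fun h => pushIdem_res hX f g h) (pushIdem_idem f g)
    (tdesc u v) (tdesc_pushIdem f g u v huv)

theorem pushInl_desc {D : FEt X} (u : B ⟶ D) (v : C ⟶ D) (huv : f ≫ u = g ≫ v) :
    pushInl hX f g ≫ pushDesc hX f g u v huv = u := by
  unfold pushInl pushDesc
  rw [Category.assoc]
  erw [quotMk_quotLift]
  rw [tinl_tdesc]

theorem pushInr_desc {D : FEt X} (u : B ⟶ D) (v : C ⟶ D) (huv : f ≫ u = g ≫ v) :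
    pushInr hX f g ≫ pushDesc hX f g u v huv = v := by
  unfold pushInr pushDesc
  rw [Category.assoc]
  erw [quotMk_quotLift]
  rw [tinr_tdesc]

theorem push_hom_ext {D : FEt X} {m m' : pushFEt hX f g ⟶ D}
    (h1 : pushInl hX f g ≫ m = pushInl hX f g ≫ m')
    (h2 : pushInr hX f g ≫ m = pushInr hX f g ≫ m') : m = m' := by
  have h3 : quotMk (tensorFEt B C) (pushIdem f g) (fun h => pushIdem_res hX f g h)
      (pushIdem_idem f g) ≫ m = quotMk (tensorFEt B C) (pushIdem f g)
      (fun h => pushIdem_res hX f g h) (pushIdem_idem f g) ≫ m' := by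
    apply tensor_hom_ext
    · rw [← Category.assoc, ← Category.assoc]; exact h1
    · rw [← Category.assoc, ← Category.assoc]; exact h2
  apply hom_ext'
  intro p y
  obtain ⟨z, rfl⟩ := quotMk_surjective (tensorFEt B C) (pushIdem f g)
    (fun h => pushIdem_res hX f g h) (pushIdem_idem f g) p y
  exact congr_app h3 p z

/-- The pushout square is a colimit. -/
noncomputable def pushIsColimit :
    IsColimit (PushoutCocone.mk (pushInl hX f g) (pushInr hX f g) (push_w hX f g)) :=
  PushoutCocone.IsColimit.mk _ (fun s => pushDesc hX f g s.inl s.inr s.condition)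
    (fun s => pushInl_desc hX f g s.inl s.inr s.condition)
    (fun s => pushInr_desc hX f g s.inl s.inr s.condition)
    (fun s _ h1 h2 => push_hom_ext hX f g
      (h1.trans (pushInl_desc hX f g s.inl s.inr s.condition).symm)
      (h2.trans (pushInr_desc hX f g s.inl s.inr s.condition).symm))

include hX in
theorem hasPushouts : HasPushouts (FEt X) := by
  haveI : ∀ {A B C : FEt X} {f : A ⟶ B} {g : A ⟶ C}, HasColimit (span f g) :=
    fun {A B C f g} => HasColimit.mk ⟨_, pushIsColimit hX f g⟩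
  exact hasPushouts_of_hasColimit_span _

end Groth.Agent.Helper7.FEtPush
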