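import Mathlib

set_option autoImplicit false
set_option linter.style.haveILetI false
universe u
open TensorProduct

namespace Groth.Agent.Helper7.FEtRing

theorem eq_zero_of_forall_smul_eq_zero_of_free {A M : Type*} [CommRing A] [AddCommGroup M]
    [Module A M] [Module.Free A M] [Nontrivial M] (a : A) (h : ∀ m : M, a • m = 0) : a = 0 := by
  let b := Module.Free.chooseBasis A M
  have hne : Nonempty (Module.Free.ChooseBasisIndex A M) := by
    by_contra hne
    rw [not_nonempty_iff] at hne
    haveI : Subsingleton M := b.repr.toEquiv.subsingleton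
    exact not_subsingleton M ‹_›
  obtain ⟨i⟩ := hne
  have h1 := h (b i)
  have h2 := congrArg (fun v => b.repr v i) h1
  simpa using h2

section ker

variable {R A B : Type u} [CommRing R] [CommRing A] [CommRing B] [Algebra R A] [Algebra R B]
  [Module.Finite R A] [Algebra.Etale R A] [Module.Finite R B] [Algebra.Etale R B]

/-- The kernel of a morphism of finite étale algebras is generated by an idempotent. -/
theorem exists_idem_ker (f : A →ₐ[R] B) :
    ∃ e : A, IsIdempotentElem e ∧ RingHom.ker f = Ideal.span {e} := by
  letI := f.toRingHom.toAlgebra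
  haveI : IsScalarTower R A B := .of_algebraMap_eq' f.comp_algebraMap.symm
  haveI : Algebra.Etale A B := Algebra.Etale.of_restrictScalars R A B
  haveI : Module.Finite A B := Module.Finite.of_restrictScalars_finite R A B
  haveI : Module.Flat A B := inferInstance
  haveI : Module.FinitePresentation A B :=
    Module.FinitePresentation.of_finite_of_finitePresentation A B
  have hsmul : ∀ (a : A) (b : B), a • b = f a * b := fun a b => Algebra.smul_def a b
  have hlc := Module.isLocallyConstant_rankAtStalk (R := A) (M := B)
  have hsupp : Module.support A B = (Module.rankAtStalk (R := A) B) ⁻¹' {0}ᶜ := by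
    ext p
    rw [Set.mem_preimage, Set.mem_compl_iff, Set.mem_singleton_iff,
      Module.rankAtStalk_eq_zero_iff_notMem_support, not_not]
  have hclopen : IsClopen (Module.support A B) := by
    rw [hsupp]
    exact ⟨⟨by rw [← Set.preimage_compl]; exact hlc _⟩, hlc _⟩
  obtain ⟨e, he, hes⟩ := PrimeSpectrum.isClopen_iff_zeroLocus.mp hclopen
  have hann : (Module.annihilator A B : Ideal A) = RingHom.ker f := by
    ext a
    rw [Module.mem_annihilator, RingHom.mem_ker]
    constructor
    · intro h
      have := h 1
      rwa [hsmul, mul_one] at this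
    · intro h b
      rw [hsmul, h, zero_mul]
  refine ⟨e, he, le_antisymm ?_ ?_⟩
  · -- ker f ⊆ (e)
    intro a ha
    have hab : ∀ b : B, a • b = 0 := fun b => by rw [hsmul, ha, zero_mul]
    have key : a * (1 - e) = 0 := by
      apply eq_zero_of_localization
      intro J hJ
      by_cases heJ : e ∈ J
      · -- J in the support
        have hJs : (⟨J, hJ.isPrime⟩ : PrimeSpectrum A) ∈ Module.support A B := by
          rw [hes, PrimeSpectrum.mem_zeroLocus]
          intro x hx
          rw [Set.mem_singleton_iff] at hx
          rw [hx]; exact heJ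
        rw [Module.mem_support_iff] at hJs
        haveI : Nontrivial (LocalizedModule J.primeCompl B) := hJs
        haveI : Module.Free (Localization.AtPrime J) (LocalizedModule J.primeCompl B) :=
          Module.free_of_flat_of_isLocalRing
        have h0 : algebraMap A (Localization.AtPrime J) a = 0 := by
          apply eq_zero_of_forall_smul_eq_zero_of_free
            (M := LocalizedModule J.primeCompl B)
          intro m
          induction m using LocalizedModule.induction_on with
          | h b s =>
            rw [algebraMap_smul, LocalizedModule.smul'_mk, hab, LocalizedModule.zero_mk]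
        rw [map_mul, h0, zero_mul]
      · have hu : IsUnit (algebraMap A (Localization.AtPrime J) e) :=
          IsLocalization.map_units (Localization.AtPrime J) (⟨e, heJ⟩ : J.primeCompl)
        have h1 : algebraMap A (Localization.AtPrime J) e *
            algebraMap A (Localization.AtPrime J) (1 - e) = 0 := by
          rw [← map_mul, mul_sub, mul_one, he.eq, sub_self, map_zero]
        have h2 : algebraMap A (Localization.AtPrime J) (1 - e) = 0 :=
          (hu.mul_right_eq_zero).mp h1
        rw [map_mul, h2, mul_zero]
    rw [Ideal.mem_span_singleton']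
    exact ⟨a, by rw [mul_sub, mul_one, sub_eq_zero] at key; exact key.symm⟩
  · -- (e) ⊆ ker f
    rw [Ideal.span_le, Set.singleton_subset_iff, SetLike.mem_coe]
    have h1 : PrimeSpectrum.zeroLocus ((RingHom.ker f : Ideal A) : Set A) ⊆
        PrimeSpectrum.zeroLocus {e} := by
      rw [← hes, Module.support_eq_zeroLocus, hann]
    rw [← PrimeSpectrum.zeroLocus_span {e}, PrimeSpectrum.zeroLocus_subset_zeroLocus_iff,
      Ideal.span_le, Set.singleton_subset_iff, SetLike.mem_coe] at h1
    obtain ⟨n, hn⟩ := h1
    rcases Nat.eq_zero_or_pos n with rfl | hpos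
    · rw [pow_zero] at hn
      have : RingHom.ker f = ⊤ := (Ideal.eq_top_iff_one _).mpr hn
      rw [this]; trivial
    · obtain ⟨m, rfl⟩ : ∃ m, n = m + 1 := ⟨n - 1, by omega⟩
      rwa [he.pow_succ_eq m] at hn

end ker

section idem

variable {A : Type u} [CommRing A]

theorem idem_unique {e e' : A} (he : IsIdempotentElem e) (he' : IsIdempotentElem e')
    (h : Ideal.span {e} = Ideal.span {e'}) : e = e' := by
  have h1 : e ∈ Ideal.span {e'} := h ▸ Ideal.subset_span rfl
  have h2 : e' ∈ Ideal.span {e} := h.symm ▸ Ideal.subset_span rfl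
  rw [Ideal.mem_span_singleton'] at h1 h2
  obtain ⟨c, hc⟩ := h1
  obtain ⟨d, hd⟩ := h2
  have h3 : e * e' = e := by rw [← hc, mul_assoc, he'.eq]
  have h4 : e' * e = e' := by rw [← hd, mul_assoc, he.eq]
  rw [← h3, mul_comm, h4]

theorem mem_span_idem_iff {e : A} (he : IsIdempotentElem e) (a : A) :
    a ∈ Ideal.span {e} ↔ a * e = a := by
  rw [Ideal.mem_span_singleton']
  constructor
  · rintro ⟨c, rfl⟩
    rw [mul_assoc, he.eq]
  · intro h
    exact ⟨a, h⟩

variable {R : Type u} [CommRing R] [Algebra R A]

theorem etale_quot_of_idem [Algebra.Etale R A] {e : A} (he : IsIdempotentElem e) :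
    Algebra.Etale R (A ⧸ Ideal.span {e}) := by
  haveI : IsLocalization.Away (1 - e) (A ⧸ Ideal.span {e}) :=
    IsLocalization.away_of_isIdempotentElem he.one_sub
      (by rw [Ideal.Quotient.algebraMap_eq, Ideal.mk_ker, sub_sub_cancel])
      Ideal.Quotient.mk_surjective
  haveI : Algebra.Etale A (A ⧸ Ideal.span {e}) := Algebra.Etale.of_isLocalizationAway (1 - e)
  exact Algebra.Etale.comp R A (A ⧸ Ideal.span {e})

end idem

section retract

variable {R S : Type u} [CommRing R] [CommRing S] [Algebra R S]
  {M N M' N' : Type u} [AddCommGroup M] [AddCommGroup N] [AddCommGroup M'] [AddCommGroup N']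
  [Module R M] [Module R N] [Module S M'] [Module S N']

/-- A retract of a base change is a base change. -/
theorem bij_of_retract (fM : M → M') (fN : N → N')
    (i : N →ₗ[R] M) (π : M →ₗ[R] N) (hπi : ∀ n, π (i n) = n)
    (i' : N' →+ M') (π' : M' →+ N') (hπi' : ∀ n, π' (i' n) = n)
    (hi : ∀ n, fM (i n) = i' (fN n)) (hπ : ∀ m, fN (π m) = π' (fM m))
    (hi's : ∀ (t : S) (n : N'), i' (t • n) = t • i' n)
    (hπ's : ∀ (t : S) (m : M'), π' (t • m) = t • π' m)
    (eM : S ⊗[R] M ≃+ M') (heM : ∀ (t : S) (m : M), eM (t ⊗ₜ m) = t • fM m) :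
    ∃ eN : S ⊗[R] N ≃+ N', ∀ (t : S) (n : N), eN (t ⊗ₜ n) = t • fN n := by
  have key : ∀ z : S ⊗[R] M, eM ((i ∘ₗ π).lTensor S z) = i' (π' (eM z)) := by
    intro z
    induction z using TensorProduct.induction_on with
    | zero => simp
    | tmul t m =>
      rw [LinearMap.lTensor_tmul, heM, heM, LinearMap.comp_apply, hi, hπ, hπ's, hi's]
    | add x y hx hy => rw [map_add, map_add, hx, hy, map_add, map_add, map_add]
  have hto : ∀ (t : S) (n : N), π' (eM (i.lTensor S (t ⊗ₜ n))) = t • fN n := by
    intro t n
    rw [LinearMap.lTensor_tmul, heM, hπ's, hi, hπi']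
  have hl : ∀ z : S ⊗[R] N, π.lTensor S (eM.symm (i' (π' (eM (i.lTensor S z))))) = z := by
    intro z
    induction z using TensorProduct.induction_on with
    | zero => simp
    | tmul t n =>
      rw [hto, hi's, ← hi, ← heM, AddEquiv.symm_apply_apply, LinearMap.lTensor_tmul, hπi]
    | add x y hx hy =>
      simp only [map_add] at hx hy ⊢
      rw [hx, hy]
  have hr : ∀ y : N', π' (eM (i.lTensor S (π.lTensor S (eM.symm (i' y))))) = y := by
    intro y
    rw [← LinearMap.comp_apply, ← LinearMap.lTensor_comp, key, AddEquiv.apply_symm_apply,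
      hπi', hπi']
  exact ⟨{ toFun := fun z => π' (eM (i.lTensor S z))
           invFun := fun y => π.lTensor S (eM.symm (i' y))
           left_inv := hl
           right_inv := hr
           map_add' := fun x y => by rw [map_add, map_add, map_add] }, hto⟩

end retract

section kerbc

variable {R S : Type u} [CommRing R] [CommRing S] [Algebra R S] [Module.Flat R S]
  {A B A' B' : Type u} [CommRing A] [CommRing B] [CommRing A'] [CommRing B']
  [Algebra R A] [Algebra R B] [Algebra S A'] [Algebra S B']

/-- Kernels generated by idempotents are compatible with flat base change. -/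
theorem ker_eq_span_of_bc (f : A →ₐ[R] B) (f' : A' →ₐ[S] B') (α : A →+* A') (β : B →+* B')
    (hαβ : ∀ a, β (f a) = f' (α a))
    (eA : S ⊗[R] A ≃+ A') (heA : ∀ (t : S) (a : A), eA (t ⊗ₜ a) = t • α a)
    (eB : S ⊗[R] B ≃+ B') (heB : ∀ (t : S) (b : B), eB (t ⊗ₜ b) = t • β b)
    {e : A} (he : IsIdempotentElem e) (hker : RingHom.ker f = Ideal.span {e}) :
    RingHom.ker f' = Ideal.span {α e} := by
  apply le_antisymm
  · intro a' ha'
    rw [RingHom.mem_ker] at ha'
    have nat : ∀ z : S ⊗[R] A, eB (f.toLinearMap.lTensor S z) = f' (eA z) := by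
      intro z
      induction z using TensorProduct.induction_on with
      | zero => simp
      | tmul t a =>
        rw [LinearMap.lTensor_tmul, heB, heA, AlgHom.toLinearMap_apply, hαβ, map_smul]
      | add x y hx hy => rw [map_add, map_add, hx, hy, map_add, map_add]
    have h0 : f.toLinearMap.lTensor S (eA.symm a') = 0 := by
      apply eB.injective
      rw [nat, AddEquiv.apply_symm_apply, ha', map_zero]
    have hex : Function.Exact (LinearMap.ker f.toLinearMap).subtype f.toLinearMap :=
      LinearMap.exact_subtype_ker_map _
    obtain ⟨w, hw⟩ := (Module.Flat.lTensor_exact S hex _).1 h0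
    have hmem : ∀ w : S ⊗[R] (LinearMap.ker f.toLinearMap),
        eA ((LinearMap.ker f.toLinearMap).subtype.lTensor S w) ∈ Ideal.span {α e} := by
      intro w
      induction w using TensorProduct.induction_on with
      | zero => simp
      | tmul t k =>
        rw [LinearMap.lTensor_tmul, heA, Submodule.subtype_apply]
        have hk : k.1 ∈ Ideal.span {e} := by
          rw [← hker, RingHom.mem_ker]
          exact k.2
        rw [mem_span_idem_iff he] at hk
        rw [← hk, map_mul, ← smul_mul_assoc]
        exact Ideal.mul_mem_left _ _ (Ideal.subset_span rfl)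
      | add x y hx hy =>
        rw [map_add, map_add]
        exact Ideal.add_mem _ hx hy
    have := hmem w
    rwa [hw, AddEquiv.apply_symm_apply] at this
  · rw [Ideal.span_le, Set.singleton_subset_iff, SetLike.mem_coe, RingHom.mem_ker, ← hαβ]
    have : e ∈ RingHom.ker f := hker ▸ Ideal.subset_span rfl
    rw [RingHom.mem_ker] at this
    rw [this, map_zero]

end kerbc

end Groth.Agent.Helper7.FEtRing
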