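import Groth.Agent.Helper7.FEtBase
import Groth.Agent.Helper7.FEtRing

set_option autoImplicit false
set_option linter.style.haveILetI false
universe u
open TensorProduct CategoryTheory CategoryTheory.Limits

namespace Groth.Agent.Helper7.FEtQuot

open SchFin Groth.Agent.Helper7.SchH0 Groth.Agent.Helper7.SchGeom Groth.Agent.Helper7.FEtBase
  Groth.Agent.Helper7.FEtRing

section ringlevel

variable (R : Type u) {A : Type u} [CommRing R] [CommRing A] [Algebra R A] (e : A)

theorem one_sub_mul_eq_zero_of_mem (he : IsIdempotentElem e) {a : A} (ha : a ∈ Ideal.span {e}) :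
    (1 - e) * a = 0 := by
  rw [mem_span_idem_iff he] at ha
  rw [← ha, mul_comm a e, ← mul_assoc, sub_mul, one_mul, he.eq, sub_self, zero_mul]

/-- The set-theoretic section `[x] ↦ (1 - e) x` of `A → A ⧸ (e)`. -/
noncomputable def idemSec (y : A ⧸ Ideal.span {e}) : A :=
  (1 - e) * Function.surjInv Ideal.Quotient.mk_surjective y

variable {e}

theorem idemSec_mk (he : IsIdempotentElem e) (x : A) :
    idemSec e (Ideal.Quotient.mk (Ideal.span {e}) x) = (1 - e) * x := by
  unfold idemSec
  have h1 : Ideal.Quotient.mk (Ideal.span {e})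
      (Function.surjInv Ideal.Quotient.mk_surjective (Ideal.Quotient.mk (Ideal.span {e}) x)) =
      Ideal.Quotient.mk (Ideal.span {e}) x := Function.surjInv_eq _ _
  rw [Ideal.Quotient.eq] at h1
  have h2 := one_sub_mul_eq_zero_of_mem e he h1
  rw [mul_sub, sub_eq_zero] at h2
  exact h2

/-- `idemSec` as a linear map. -/
noncomputable def idemSecL (he : IsIdempotentElem e) : (A ⧸ Ideal.span {e}) →ₗ[R] A where
  toFun := idemSec e
  map_add' y y' := by
    obtain ⟨x, rfl⟩ := Ideal.Quotient.mk_surjective y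
    obtain ⟨x', rfl⟩ := Ideal.Quotient.mk_surjective y'
    rw [← map_add, idemSec_mk he, idemSec_mk he, idemSec_mk he, mul_add]
  map_smul' r y := by
    obtain ⟨x, rfl⟩ := Ideal.Quotient.mk_surjective y
    have : r • Ideal.Quotient.mk (Ideal.span {e}) x = Ideal.Quotient.mk (Ideal.span {e}) (r • x) :=
      rfl
    rw [this, idemSec_mk he, idemSec_mk he, RingHom.id_apply, mul_smul_comm]

theorem idemSecL_mk (he : IsIdempotentElem e) (x : A) :
    idemSecL R he (Ideal.Quotient.mk (Ideal.span {e}) x) = (1 - e) * x := idemSec_mk he x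

theorem mk_idemSecL (he : IsIdempotentElem e) (y : A ⧸ Ideal.span {e}) :
    Ideal.Quotient.mk (Ideal.span {e}) (idemSecL R he y) = y := by
  obtain ⟨x, rfl⟩ := Ideal.Quotient.mk_surjective y
  rw [idemSecL_mk, Ideal.Quotient.eq, sub_mul, one_mul, sub_sub_cancel_left, neg_mem_iff]
  exact Ideal.mul_mem_right _ _ (Ideal.subset_span rfl)

end ringlevel

section alg

variable {X : RSpace.{u}} (A : Alg X) (e : ∀ p : X.pt, A.carrier p)
  (hc : ∀ {p q : X.pt} (h : p ≤ q), A.res h (e p) = e q)

include hc in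
theorem span_le_comap {p q : X.pt} (h : p ≤ q) :
    Ideal.span {e p} ≤ Ideal.comap (A.res h) (Ideal.span {e q}) := by
  rw [Ideal.span_le, Set.singleton_subset_iff, SetLike.mem_coe, Ideal.mem_comap, hc]
  exact Ideal.subset_span rfl

/-- Quotient of an algebra by a compatible family of elements. -/
def quotAlg : Alg X where
  carrier p := A.carrier p ⧸ Ideal.span {e p}
  res h := Ideal.quotientMap (Ideal.span {e _}) (A.res h) (span_le_comap A e hc h)
  res_algebraMap h a := by
    change Ideal.quotientMap _ _ _ (Ideal.Quotient.mk _ (algebraMap _ _ a)) =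
      Ideal.Quotient.mk _ (algebraMap _ _ _)
    rw [Ideal.quotientMap_mk, A.res_algebraMap]
  res_self p b := by
    obtain ⟨b, rfl⟩ := Ideal.Quotient.mk_surjective b
    rw [Ideal.quotientMap_mk, A.res_self]
  res_comp h h' b := by
    obtain ⟨b, rfl⟩ := Ideal.Quotient.mk_surjective b
    rw [Ideal.quotientMap_mk, Ideal.quotientMap_mk, Ideal.quotientMap_mk, A.res_comp]

theorem quotAlg_res_mk {p q : X.pt} (h : p ≤ q) (a : A.carrier p) :
    (quotAlg A e hc).res h (Ideal.Quotient.mk _ a) = Ideal.Quotient.mk _ (A.res h a) :=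
  Ideal.quotientMap_mk (H := span_le_comap A e hc h)

theorem quotAlg_isEtCover (hA : A.IsEtCover) (he : ∀ p, IsIdempotentElem (e p)) :
    (quotAlg A e hc).IsEtCover := by
  refine ⟨?_, fun p => ?_⟩
  · apply isQcoh_of_bij
    intro p q hpq
    letI : Algebra (X.ring p) (X.ring q) := (X.res hpq).toAlgebra
    obtain ⟨eA, heA⟩ := bij_of_isQcoh A hA.1 p q hpq
    have hres1 : A.res hpq (1 - e p) = 1 - e q := by rw [map_sub, map_one, hc]
    exact bij_of_retract (R := X.ring p) (S := X.ring q)
      (M := A.carrier p) (N := A.carrier p ⧸ Ideal.span {e p})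
      (M' := A.carrier q) (N' := A.carrier q ⧸ Ideal.span {e q})
      (A.res hpq) ((quotAlg A e hc).res hpq)
      (idemSecL (X.ring p) (he p)) (Ideal.Quotient.mkₐ (X.ring p) (Ideal.span {e p})).toLinearMap
      (fun n => mk_idemSecL (X.ring p) (he p) n)
      (idemSecL (X.ring q) (he q)).toAddMonoidHom
      (Ideal.Quotient.mkₐ (X.ring q) (Ideal.span {e q})).toLinearMap.toAddMonoidHom
      (fun n => mk_idemSecL (X.ring q) (he q) n)
      (fun n => by
        obtain ⟨x, rfl⟩ := Ideal.Quotient.mk_surjective n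
        rw [quotAlg_res_mk, idemSecL_mk]
        change _ = idemSecL (X.ring q) (he q) _
        rw [idemSecL_mk, map_mul, hres1])
      (fun m => quotAlg_res_mk A e hc hpq m)
      (fun t n => (idemSecL (X.ring q) (he q)).map_smul t n)
      (fun t m => (Ideal.Quotient.mkₐ (X.ring q) (Ideal.span {e q})).toLinearMap.map_smul t m)
      eA heA
  · haveI := (hA.2 p).1
    haveI := (hA.2 p).2
    refine ⟨?_, etale_quot_of_idem (he p)⟩
    exact Module.Finite.of_surjective
      (Ideal.Quotient.mkₐ (X.ring p) (Ideal.span {e p})).toLinearMap Ideal.Quotient.mk_surjective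

end alg

section cat

variable {X : RSpace.{u}}

/-- Quotient of an étale cover by a compatible family of idempotents. -/
def quotFEt (A : FEt X) (e : ∀ p : X.pt, A.obj.carrier p)
    (hc : ∀ {p q : X.pt} (h : p ≤ q), A.obj.res h (e p) = e q)
    (he : ∀ p, IsIdempotentElem (e p)) : FEt X :=
  ⟨quotAlg A.obj e hc, quotAlg_isEtCover A.obj e hc A.property he⟩

variable (A : FEt X) (e : ∀ p : X.pt, A.obj.carrier p)
    (hc : ∀ {p q : X.pt} (h : p ≤ q), A.obj.res h (e p) = e q)
    (he : ∀ p, IsIdempotentElem (e p))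

/-- The quotient map. -/
def quotMk : A ⟶ quotFEt A e hc he :=
  homMk (fun p => Ideal.Quotient.mkₐ (X.ring p) (Ideal.span {e p}))
    (fun h b => quotAlg_res_mk A.obj e hc h b)

theorem quotMk_app (p : X.pt) (a : A.obj.carrier p) :
    (quotMk A e hc he).hom.app p a = Ideal.Quotient.mk (Ideal.span {e p}) a := rfl

theorem quotMk_eq_iff (p : X.pt) (a a' : A.obj.carrier p) :
    (quotMk A e hc he).hom.app p a = (quotMk A e hc he).hom.app p a' ↔
      a - a' ∈ Ideal.span {e p} := Ideal.Quotient.eq

theorem quotMk_surjective (p : X.pt) : Function.Surjective ((quotMk A e hc he).hom.app p) :=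
  Ideal.Quotient.mk_surjective

/-- Descending a morphism killing the idempotents to the quotient. -/
def quotLift {B : FEt X} (f : A ⟶ B) (h0 : ∀ p, f.hom.app p (e p) = 0) :
    quotFEt A e hc he ⟶ B :=
  homMk (fun p => Ideal.Quotient.liftₐ (Ideal.span {e p}) (f.hom.app p) (by
      intro a ha
      rw [Ideal.mem_span_singleton'] at ha
      obtain ⟨c, rfl⟩ := ha
      rw [map_mul, h0, mul_zero])) (by
    intro p q h b
    obtain ⟨b, rfl⟩ := Ideal.Quotient.mk_surjective b
    change B.obj.res h (f.hom.app p b) = Ideal.Quotient.liftₐ _ _ _ ((quotAlg A.obj e hc).res h _)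
    rw [quotAlg_res_mk, f.hom.compat]
    rfl)

theorem quotLift_mk {B : FEt X} (f : A ⟶ B) (h0 : ∀ p, f.hom.app p (e p) = 0) (p : X.pt)
    (a : A.obj.carrier p) :
    (quotLift A e hc he f h0).hom.app p (Ideal.Quotient.mk _ a) = f.hom.app p a := rfl

theorem quotMk_quotLift {B : FEt X} (f : A ⟶ B) (h0 : ∀ p, f.hom.app p (e p) = 0) :
    quotMk A e hc he ≫ quotLift A e hc he f h0 = f :=
  hom_ext' (fun _ _ => rfl)

end cat

end Groth.Agent.Helper7.FEtQuot
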