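import Groth.Agent.Helper7.FEtFib

set_option autoImplicit false
set_option linter.style.haveILetI false
set_option linter.unusedSectionVars false
universe u
open TensorProduct CategoryTheory

namespace Groth.Agent.Helper7.FEtRank

open Groth.Agent.Helper7.FEtFibRing

section card

variable (R : Type u) [CommRing R] (Ω : Type u) [Field Ω] [IsAlgClosed Ω] [Algebra R Ω]
  (M : Type u) [CommRing M] [Algebra R M] [Module.Finite R M] [Algebra.Etale R M]

theorem card_spec_split (E : Type u) [CommRing E] [Algebra Ω E] [Algebra.IsFiniteSplit Ω E] :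
    Nat.card (PrimeSpectrum E) = Module.finrank Ω E := by
  obtain ⟨n, ⟨e⟩⟩ := Algebra.IsFiniteSplit.nonempty_algEquiv_fun Ω E
  have e1 : PrimeSpectrum E ≃ PrimeSpectrum (Fin n → Ω) :=
    (PrimeSpectrum.comapEquiv e.toRingEquiv).toEquiv
  have e2 : Fin n ≃ PrimeSpectrum (Fin n → Ω) :=
    (Equiv.sigmaUnique _ _).symm.trans (PrimeSpectrum.sigmaToPiHomeo _).toEquiv
  rw [Nat.card_congr (e1.trans e2.symm), Nat.card_fin, e.toLinearEquiv.finrank_eq,
    Module.finrank_fin_fun]

instance finite_pt : Finite (M →ₐ[R] Ω) := by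
  haveI : IsArtinianRing (Ω ⊗[R] M) := IsArtinianRing.of_finite Ω _
  exact Finite.of_equiv _ (ptEquiv R Ω M).symm

/-- The number of geometric points is the rank. -/
theorem card_pt (p : PrimeSpectrum Ω) :
    Nat.card (M →ₐ[R] Ω) = Module.rankAtStalk M (PrimeSpectrum.comap (algebraMap R Ω) p) := by
  rw [Nat.card_congr (ptEquiv R Ω M), card_spec_split Ω (Ω ⊗[R] M), ← Module.rankAtStalk_baseChange,
    Module.rankAtStalk_eq_finrank_of_free]
  rfl

end card

/-- An injective morphism of finite étale algebras of the same rank is bijective. -/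
theorem bijective_of_injective_of_rank_eq {R M N : Type u} [CommRing R] [CommRing M] [CommRing N]
    [Algebra R M] [Algebra R N] [Module.Finite R M] [Algebra.Etale R M] [Module.Finite R N]
    [Algebra.Etale R N] (h : M →ₐ[R] N) (hinj : Function.Injective h)
    (hrank : ∀ P : PrimeSpectrum R, Module.rankAtStalk M P = Module.rankAtStalk N P) :
    Function.Bijective h := by
  letI : Algebra M N := h.toRingHom.toAlgebra
  haveI : IsScalarTower R M N := IsScalarTower.of_algebraMap_eq (fun r => (h.commutes r).symm)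
  haveI : Module.Finite M N := Module.Finite.of_restrictScalars_finite R M N
  haveI : Algebra.Etale M N := Algebra.Etale.of_restrictScalars R M N
  haveI : Module.Flat M N := inferInstance
  suffices hr : Module.rankAtStalk (R := M) N = 1 from
    Module.algebraMap_bijective_of_rankAtStalk hr
  ext 𝔭
  rw [Pi.one_apply]
  let Ω := AlgebraicClosure 𝔭.asIdeal.ResidueField
  haveI : IsScalarTower R M Ω := inferInstance
  haveI : IsScalarTower M 𝔭.asIdeal.ResidueField Ω := inferInstance
  let b : PrimeSpectrum Ω := ⟨⊥, Ideal.isPrime_bot⟩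
  have hker : PrimeSpectrum.comap (algebraMap M Ω) b = 𝔭 := by
    apply PrimeSpectrum.ext
    ext m
    change algebraMap M Ω m ∈ (⊥ : Ideal Ω) ↔ _
    rw [IsScalarTower.algebraMap_apply M 𝔭.asIdeal.ResidueField Ω, Ideal.mem_bot, map_eq_zero_iff _ (algebraMap 𝔭.asIdeal.ResidueField Ω).injective,
      Ideal.algebraMap_residueField_eq_zero]
  rw [← hker, ← card_pt M Ω N b]
  let res : (N →ₐ[R] Ω) → (M →ₐ[R] Ω) := fun ψ => ψ.comp h
  have hsurj : Function.Surjective res := fun φ => exists_extension R Ω h hinj φ
  have hcard : Nat.card (N →ₐ[R] Ω) = Nat.card (M →ₐ[R] Ω) := by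
    rw [card_pt R Ω N b, card_pt R Ω M b, hrank]
  have hbij : Function.Bijective res := (Nat.bijective_iff_surjective_and_card res).2 ⟨hsurj, hcard⟩
  let φ₀ : M →ₐ[R] Ω := IsScalarTower.toAlgHom R M Ω
  rw [Nat.card_eq_one_iff_unique]
  refine ⟨⟨fun a c => ?_⟩, ?_⟩
  · have e : res (a.restrictScalars R) = res (c.restrictScalars R) := AlgHom.ext fun m => by
      change a (algebraMap M N m) = c (algebraMap M N m)
      rw [a.commutes, c.commutes]
    have e' := hbij.1 e
    exact AlgHom.ext fun n => DFunLike.congr_fun e' n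
  · obtain ⟨ψ, hψ⟩ := hsurj φ₀
    exact ⟨{ ψ.toRingHom with commutes' := fun m => DFunLike.congr_fun hψ m }⟩

section cat

open SchFin Groth.Agent.Helper7.FEtBase

variable {X : RSpace.{u}}

/-- A pointwise bijective morphism of étale covers is an isomorphism. -/
theorem isIso_of_bijective {A B : FEt X} (f : A ⟶ B)
    (h : ∀ p : X.pt, Function.Bijective (f.hom.app p)) : IsIso f := by
  let g : B ⟶ A := homMk (fun p => (AlgEquiv.ofBijective (f.hom.app p) (h p)).symm.toAlgHom) (by
    intro p q hpq b
    apply (h q).1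
    change f.hom.app q (A.obj.res hpq ((AlgEquiv.ofBijective (f.hom.app p) (h p)).symm b)) =
      (AlgEquiv.ofBijective (f.hom.app q) (h q)) ((AlgEquiv.ofBijective (f.hom.app q) (h q)).symm _)
    rw [AlgEquiv.apply_symm_apply, ← f.hom.compat]
    congr 1
    exact (AlgEquiv.ofBijective (f.hom.app p) (h p)).apply_symm_apply b)
  refine ⟨g, ?_, ?_⟩
  · apply hom_ext'
    intro p a
    exact (AlgEquiv.ofBijective (f.hom.app p) (h p)).symm_apply_apply a
  · apply hom_ext'
    intro p b
    exact (AlgEquiv.ofBijective (f.hom.app p) (h p)).apply_symm_apply b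

/-- An injective morphism of étale covers of the same ranks is an isomorphism. -/
theorem isIso_of_injective_of_rank_eq {A B : FEt X} (f : A ⟶ B)
    (hf : ∀ p : X.pt, Function.Injective (f.hom.app p))
    (hdeg : ∀ (p : X.pt) (P : PrimeSpectrum (X.ring p)),
      Module.rankAtStalk (A.obj.carrier p) P = Module.rankAtStalk (B.obj.carrier p) P) :
    IsIso f := by
  apply isIso_of_bijective
  intro p
  haveI := (A.property.2 p).1
  haveI := (A.property.2 p).2
  haveI := (B.property.2 p).1
  haveI := (B.property.2 p).2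
  exact bijective_of_injective_of_rank_eq (f.hom.app p) (hf p) (hdeg p)

end cat

end Groth.Agent.Helper7.FEtRank
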