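import Groth.Agent.Helper7.FEtKer

set_option autoImplicit false
set_option linter.style.haveILetI false
universe u
open TensorProduct CategoryTheory CategoryTheory.Limits

namespace Groth.Agent.Helper7.FEtStr

open SchFin Groth.Agent.Helper7.SchH0 Groth.Agent.Helper7.SchGeom Groth.Agent.Helper7.FEtBase
  Groth.Agent.Helper7.FEtRing Groth.Agent.Helper7.FEtQuot Groth.Agent.Helper7.FEtKer

section ringlevel

variable {R A : Type u} [CommRing R] [CommRing A] [Algebra R A]

/-- The algebra map `R × R → A` classifying an idempotent. -/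
def idemHom {ε : A} (he : IsIdempotentElem ε) : (R × R) →ₐ[R] A where
  toFun x := x.1 • ε + x.2 • (1 - ε)
  map_one' := by simp
  map_mul' x y := by
    have h1 : ε * (1 - ε) = 0 := by rw [mul_sub, mul_one, he.eq, sub_self]
    have h2 : (1 - ε) * ε = 0 := by rw [mul_comm, h1]
    have h3 : (1 - ε) * (1 - ε) = 1 - ε := he.one_sub.eq
    simp only [Prod.fst_mul, Prod.snd_mul, mul_add, add_mul, smul_mul_smul_comm, he.eq, h1, h2, h3,
      smul_zero, add_zero, zero_add]
  map_zero' := by simp
  map_add' x y := by simp only [Prod.fst_add, Prod.snd_add, add_smul]; abel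
  commutes' r := by
    change r • ε + r • (1 - ε) = _
    rw [← smul_add, add_sub_cancel, Algebra.algebraMap_eq_smul_one]

theorem idemHom_apply {ε : A} (he : IsIdempotentElem ε) (x : R × R) :
    idemHom he x = x.1 • ε + x.2 • (1 - ε) := rfl

end ringlevel

section cat

variable {X : RSpace.{u}}

theorem str_isEtCover (X : RSpace.{u}) : (Alg.str X).IsEtCover := by
  refine ⟨?_, fun p => ⟨?_, ?_⟩⟩
  · apply isQcoh_of_bij
    intro p q hpq
    letI : Algebra (X.ring p) (X.ring q) := (X.res hpq).toAlgebra
    refine ⟨(TensorProduct.rid (X.ring p) (X.ring q)).toAddEquiv, fun t m => ?_⟩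
    change (TensorProduct.rid (X.ring p) (X.ring q)) (t ⊗ₜ m) = t * X.res hpq m
    rw [TensorProduct.rid_tmul, mul_comm]
    rfl
  · exact inferInstanceAs (Module.Finite (X.ring p) (X.ring p))
  · exact inferInstanceAs (Algebra.Etale (X.ring p) (X.ring p))

/-- The structure algebra as an étale cover. -/
def strFEt (X : RSpace.{u}) : FEt X := ⟨Alg.str X, str_isEtCover X⟩

instance (A : FEt X) : Unique (strFEt X ⟶ A) where
  default := homMk (fun p => Algebra.ofId (X.ring p) (A.obj.carrier p))
    (fun h b => A.obj.res_algebraMap h b)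
  uniq f := hom_ext' (fun p a => by
    have h1 := (f.hom.app p).commutes a
    exact h1)

theorem hasInitial (X : RSpace.{u}) : HasInitial (FEt X) :=
  hasInitial_of_unique (strFEt X)

variable (A : FEt X) (ε : ∀ p : X.pt, A.obj.carrier p)
    (hc : ∀ {p q : X.pt} (h : p ≤ q), A.obj.res h (ε p) = ε q)
    (he : ∀ p, IsIdempotentElem (ε p))

theorem res_smul {p q : X.pt} (h : p ≤ q) (r : X.ring p) (a : A.obj.carrier p) :
    A.obj.res h (r • a) = X.res h r • A.obj.res h a := by
  rw [Algebra.smul_def, Algebra.smul_def, map_mul, A.obj.res_algebraMap]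

/-- The morphism `O × O → A` classifying a compatible family of idempotents. -/
def idemMap : prodFEt (strFEt X) (strFEt X) ⟶ A :=
  homMk (fun p => idemHom (R := X.ring p) (he p)) (by
    intro p q h b
    have key : ∀ b1 b2 : X.ring p, A.obj.res h (b1 • ε p + b2 • (1 - ε p)) =
        (X.res h b1) • ε q + (X.res h b2) • (1 - ε q) := fun b1 b2 => by
      rw [map_add, res_smul, res_smul, map_sub, map_one, hc]
    exact key b.1 b.2)

theorem idemMap_app (p : X.pt) (x : X.ring p × X.ring p) :
    (idemMap A ε hc he).hom.app p x = x.1 • ε p + x.2 • (1 - ε p) := rfl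

/-- S15626: monomorphisms of étale covers are pointwise injective. -/
theorem injective_of_mono (hX : X.IsSchematic) {A B : FEt X} (f : A ⟶ B) [Mono f] (p : X.pt) :
    Function.Injective (f.hom.app p) := by
  have hg : idemMap A (kerIdem f) (fun h => kerIdem_res f hX h) (kerIdem_idem f) ≫ f =
      idemMap A (fun _ => 0) (fun _ => map_zero _) (fun _ => IsIdempotentElem.zero) ≫ f := by
    apply hom_ext'
    intro q x
    rw [comp_app, comp_app, idemMap_app, idemMap_app, map_add, map_add, map_smul, map_smul,
      map_smul, map_smul, app_kerIdem, map_sub, map_sub, map_one, app_kerIdem, map_zero]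
  have h := (cancel_mono f).mp hg
  have h1 := congr_app h p ((1 : X.ring p), (0 : X.ring p))
  rw [idemMap_app, idemMap_app] at h1
  simp only [one_smul, zero_smul, add_zero] at h1
  rw [injective_iff_map_eq_zero]
  intro a ha
  have h2 : a ∈ RingHom.ker (f.hom.app p) := ha
  rw [ker_eq, h1, Ideal.span_singleton_eq_bot.mpr rfl] at h2
  exact h2

end cat

end Groth.Agent.Helper7.FEtStr
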