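import Groth.Agent.Helper7.FEtStr

set_option autoImplicit false
set_option linter.style.haveILetI false
universe u
open TensorProduct CategoryTheory CategoryTheory.Limits

namespace Groth.Agent.Helper7.FEtTensor

open SchFin Groth.Agent.Helper7.SchH0 Groth.Agent.Helper7.SchGeom Groth.Agent.Helper7.FEtBase
  Groth.Agent.Helper7.FEtRing Groth.Agent.Helper7.FEtQuot Groth.Agent.Helper7.FEtKer
  Groth.Agent.Helper7.FEtStr

section ringlevel

variable {R S : Type u} [CommRing R] [CommRing S] (φ : R →+* S)
  {B C B' C' : Type u} [CommRing B] [CommRing C] [CommRing B'] [CommRing C']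
  [Algebra R B] [Algebra R C] [Algebra S B'] [Algebra S C']
  (β : B →+* B') (γ : C →+* C')
  (hβ : ∀ r, β (algebraMap R B r) = algebraMap S B' (φ r))
  (hγ : ∀ r, γ (algebraMap R C r) = algebraMap S C' (φ r))

/-- The ring homomorphism `B ⊗[R] C → B' ⊗[S] C'` induced by semilinear ring maps. -/
noncomputable def tmap : B ⊗[R] C →+* B' ⊗[S] C' :=
  letI : Algebra R (B' ⊗[S] C') := ((algebraMap S (B' ⊗[S] C')).comp φ).toAlgebra
  (Algebra.TensorProduct.productMap
    ({ toRingHom := (Algebra.TensorProduct.includeLeftRingHom).comp β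
       commutes' := fun r => by
        change (β (algebraMap R B r)) ⊗ₜ[S] (1 : C') = algebraMap S (B' ⊗[S] C') (φ r)
        rw [hβ, Algebra.TensorProduct.algebraMap_apply] } : B →ₐ[R] B' ⊗[S] C')
    ({ toRingHom := (Algebra.TensorProduct.includeRight (R := S) (A := B') (B := C')).toRingHom.comp γ
       commutes' := fun r => by
        change (1 : B') ⊗ₜ[S] (γ (algebraMap R C r)) = algebraMap S (B' ⊗[S] C') (φ r)
        rw [hγ, Algebra.TensorProduct.algebraMap_apply'] } : C →ₐ[R] B' ⊗[S] C')).toRingHom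

theorem tmap_tmul (b : B) (c : C) : tmap φ β γ hβ hγ (b ⊗ₜ c) = β b ⊗ₜ γ c := by
  unfold tmap
  letI : Algebra R (B' ⊗[S] C') := ((algebraMap S (B' ⊗[S] C')).comp φ).toAlgebra
  change (β b ⊗ₜ[S] (1 : C')) * ((1 : B') ⊗ₜ[S] γ c) = _
  rw [Algebra.TensorProduct.tmul_mul_tmul, mul_one, one_mul]

end ringlevel

section lin

variable {R S : Type u} [CommRing R] [CommRing S] [Algebra R S]
  {M N : Type u} [AddCommGroup M] [AddCommGroup N] [Module R M] [Module S N]

/-- An additive equivalence `S ⊗ M ≃ N` of the form `t ⊗ m ↦ t • f m` is `S`-linear. -/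
noncomputable def linOfBij (f : M → N) (e : S ⊗[R] M ≃+ N)
    (he : ∀ (t : S) (m : M), e (t ⊗ₜ m) = t • f m) : S ⊗[R] M ≃ₗ[S] N :=
  { e with
    map_smul' := fun s z => by
      change e (s • z) = s • e z
      induction z using TensorProduct.induction_on with
      | zero => rw [smul_zero, map_zero, smul_zero]
      | tmul t m => rw [TensorProduct.smul_tmul', he, he, smul_eq_mul, mul_smul]
      | add a b ha hb => rw [smul_add, map_add, map_add, ha, hb, smul_add] }

theorem linOfBij_apply (f : M → N) (e : S ⊗[R] M ≃+ N)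
    (he : ∀ (t : S) (m : M), e (t ⊗ₜ m) = t • f m) (z : S ⊗[R] M) :
    linOfBij f e he z = e z := rfl

end lin

section alg

variable {X : RSpace.{u}}

/-- The tensor product (coproduct) of two algebras. -/
noncomputable def tensorAlg (B C : Alg X) : Alg X where
  carrier p := B.carrier p ⊗[X.ring p] C.carrier p
  res h := tmap (X.res h) (B.res h) (C.res h) (B.res_algebraMap h) (C.res_algebraMap h)
  res_algebraMap h a := by
    rw [Algebra.TensorProduct.algebraMap_apply, tmap_tmul, B.res_algebraMap, map_one,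
      Algebra.TensorProduct.algebraMap_apply]
  res_self p b := by
    induction b using TensorProduct.induction_on with
    | zero => rw [map_zero]
    | tmul b c => rw [tmap_tmul, B.res_self, C.res_self]
    | add x y hx hy => rw [map_add, hx, hy]
  res_comp h h' b := by
    induction b using TensorProduct.induction_on with
    | zero => simp only [map_zero]
    | tmul b c => rw [tmap_tmul, tmap_tmul, tmap_tmul, B.res_comp, C.res_comp]
    | add x y hx hy => simp only [map_add, hx, hy]

theorem tensorAlg_res_tmul (B C : Alg X) {p q : X.pt} (h : p ≤ q) (b : B.carrier p)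
    (c : C.carrier p) : (tensorAlg B C).res h (b ⊗ₜ c) = B.res h b ⊗ₜ C.res h c :=
  tmap_tmul (X.res h) (B.res h) (C.res h) (B.res_algebraMap h) (C.res_algebraMap h) b c

theorem tensorAlg_isEtCover {B C : Alg X} (hB : B.IsEtCover) (hC : C.IsEtCover) :
    (tensorAlg B C).IsEtCover := by
  refine ⟨?_, fun p => ?_⟩
  · apply isQcoh_of_bij
    intro p q hpq
    letI : Algebra (X.ring p) (X.ring q) := (X.res hpq).toAlgebra
    obtain ⟨eB, heB⟩ := bij_of_isQcoh B hB.1 p q hpq
    obtain ⟨eC, heC⟩ := bij_of_isQcoh C hC.1 p q hpq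
    let E := (TensorProduct.AlgebraTensorModule.distribBaseChange (X.ring p) (X.ring q)
      (B.carrier p) (C.carrier p)) ≪≫ₗ
        TensorProduct.congr (linOfBij (B.res hpq) eB heB) (linOfBij (C.res hpq) eC heC)
    have key : ∀ (t : X.ring q) (m : B.carrier p ⊗[X.ring p] C.carrier p),
        E (t ⊗ₜ m) = t • tmap (X.res hpq) (B.res hpq) (C.res hpq) (B.res_algebraMap hpq)
          (C.res_algebraMap hpq) m := by
      intro t m
      induction m using TensorProduct.induction_on with
      | zero => rw [tmul_zero, map_zero, map_zero, smul_zero]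
      | tmul b c =>
        rw [tmap_tmul]
        change TensorProduct.congr (linOfBij (B.res hpq) eB heB) (linOfBij (C.res hpq) eC heC)
          ((TensorProduct.AlgebraTensorModule.distribBaseChange (X.ring p) (X.ring q)
            (B.carrier p) (C.carrier p)) (t ⊗ₜ (b ⊗ₜ c))) = _
        rw [TensorProduct.AlgebraTensorModule.distribBaseChange_tmul, TensorProduct.congr_tmul,
          linOfBij_apply, linOfBij_apply, heB, heC, one_smul, TensorProduct.smul_tmul']
      | add x y hx hy => rw [tmul_add, map_add, hx, hy, map_add, smul_add]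
    exact ⟨E.toAddEquiv, key⟩
  · haveI := (hB.2 p).1
    haveI := (hB.2 p).2
    haveI := (hC.2 p).1
    haveI := (hC.2 p).2
    refine ⟨inferInstanceAs (Module.Finite (X.ring p) (B.carrier p ⊗[X.ring p] C.carrier p)), ?_⟩
    exact Algebra.Etale.comp (X.ring p) (B.carrier p) (B.carrier p ⊗[X.ring p] C.carrier p)

end alg

section cat

variable {X : RSpace.{u}}

/-- The tensor product (coproduct) of two étale covers. -/
noncomputable def tensorFEt (B C : FEt X) : FEt X :=
  ⟨tensorAlg B.obj C.obj, tensorAlg_isEtCover B.property C.property⟩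

/-- Left inclusion. -/
noncomputable def tinl (B C : FEt X) : B ⟶ tensorFEt B C :=
  homMk (fun p => (Algebra.TensorProduct.includeLeft :
      B.obj.carrier p →ₐ[X.ring p] B.obj.carrier p ⊗[X.ring p] C.obj.carrier p)) (fun h b => by
    change (tensorAlg B.obj C.obj).res h (b ⊗ₜ 1) = (B.obj.res h b) ⊗ₜ 1
    rw [tensorAlg_res_tmul, map_one])

/-- Right inclusion. -/
noncomputable def tinr (B C : FEt X) : C ⟶ tensorFEt B C :=
  homMk (fun p => (Algebra.TensorProduct.includeRight :
      C.obj.carrier p →ₐ[X.ring p] B.obj.carrier p ⊗[X.ring p] C.obj.carrier p)) (fun h c => by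
    change (tensorAlg B.obj C.obj).res h (1 ⊗ₜ c) = 1 ⊗ₜ (C.obj.res h c)
    rw [tensorAlg_res_tmul, map_one])

theorem tinl_app (B C : FEt X) (p : X.pt) (b : B.obj.carrier p) :
    (tinl B C).hom.app p b = (b ⊗ₜ[X.ring p] (1 : C.obj.carrier p)) := rfl

theorem tinr_app (B C : FEt X) (p : X.pt) (c : C.obj.carrier p) :
    (tinr B C).hom.app p c = ((1 : B.obj.carrier p) ⊗ₜ[X.ring p] c) := rfl

variable {B C D : FEt X}

/-- The morphism out of a tensor product induced by two morphisms. -/
noncomputable def tdesc (u : B ⟶ D) (v : C ⟶ D) : tensorFEt B C ⟶ D :=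
  homMk (fun p => (Algebra.TensorProduct.productMap (u.hom.app p) (v.hom.app p) :
      B.obj.carrier p ⊗[X.ring p] C.obj.carrier p →ₐ[X.ring p] D.obj.carrier p)) (by
    intro p q h z
    have key : ∀ z : B.obj.carrier p ⊗[X.ring p] C.obj.carrier p,
        D.obj.res h (Algebra.TensorProduct.productMap (u.hom.app p) (v.hom.app p) z) =
          Algebra.TensorProduct.productMap (u.hom.app q) (v.hom.app q)
            (tmap (X.res h) (B.obj.res h) (C.obj.res h) (B.obj.res_algebraMap h)
              (C.obj.res_algebraMap h) z) := by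
      intro z
      induction z using TensorProduct.induction_on with
      | zero => rw [map_zero, map_zero, map_zero, map_zero]
      | tmul b c =>
        rw [tmap_tmul, Algebra.TensorProduct.productMap_apply_tmul,
          Algebra.TensorProduct.productMap_apply_tmul, map_mul, u.hom.compat, v.hom.compat]
      | add x y hx hy => rw [map_add, map_add, hx, hy, map_add, map_add]
    exact key z)

theorem tdesc_app_tmul (u : B ⟶ D) (v : C ⟶ D) (p : X.pt) (b : B.obj.carrier p)
    (c : C.obj.carrier p) :
    (tdesc u v).hom.app p (b ⊗ₜ[X.ring p] c) = u.hom.app p b * v.hom.app p c := rfl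

theorem tinl_tdesc (u : B ⟶ D) (v : C ⟶ D) : tinl B C ≫ tdesc u v = u := by
  apply hom_ext'
  intro p b
  rw [comp_app, tinl_app, tdesc_app_tmul, map_one, mul_one]

theorem tinr_tdesc (u : B ⟶ D) (v : C ⟶ D) : tinr B C ≫ tdesc u v = v := by
  apply hom_ext'
  intro p c
  rw [comp_app, tinr_app, tdesc_app_tmul, map_one, one_mul]

theorem tensor_hom_ext {m m' : tensorFEt B C ⟶ D} (h1 : tinl B C ≫ m = tinl B C ≫ m')
    (h2 : tinr B C ≫ m = tinr B C ≫ m') : m = m' := by
  apply hom_ext'
  intro p z
  have key : ∀ (φ φ' : B.obj.carrier p ⊗[X.ring p] C.obj.carrier p →ₐ[X.ring p] D.obj.carrier p),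
      (∀ b, φ (b ⊗ₜ 1) = φ' (b ⊗ₜ 1)) → (∀ c, φ (1 ⊗ₜ c) = φ' (1 ⊗ₜ c)) → ∀ z, φ z = φ' z := by
    intro φ φ' hb hc z
    induction z using TensorProduct.induction_on with
    | zero => rw [map_zero, map_zero]
    | tmul b c =>
      have e1 : (b ⊗ₜ[X.ring p] c) = (b ⊗ₜ[X.ring p] (1 : C.obj.carrier p)) *
          ((1 : B.obj.carrier p) ⊗ₜ[X.ring p] c) := by
        rw [Algebra.TensorProduct.tmul_mul_tmul, mul_one, one_mul]
      rw [e1, map_mul, map_mul, hb, hc]
    | add x y hx hy => rw [map_add, map_add, hx, hy]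
  exact key (m.hom.app p) (m'.hom.app p) (fun b => congr_app h1 p b) (fun c => congr_app h2 p c) z

end cat

end Groth.Agent.Helper7.FEtTensor
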