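import Mathlib

/-! Galois theory of the algebraic closure of a finite field, in the form needed for
cocycles of the absolute Galois group. -/

set_option autoImplicit false

namespace Groth.Agent.Helper7.FFa

open Polynomial

universe u

variable {k : Type u} [Field k]
  (π : AlgebraicClosure k ≃ₐ[k] AlgebraicClosure k)
  (hπ : ∀ x : AlgebraicClosure k, π x = x ^ Nat.card k)

include hπ in
theorem pow_apply (n : ℕ) (x : AlgebraicClosure k) : (π ^ n) x = x ^ (Nat.card k ^ n) := by
  induction n generalizing x with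
  | zero => simp
  | succ n ih =>
    rw [pow_succ, AlgEquiv.mul_apply, hπ, ih, ← pow_mul, pow_succ, mul_comm]

/-- the fixed field of `π ^ N` -/
noncomputable def LN (N : ℕ) : IntermediateField k (AlgebraicClosure k) :=
  IntermediateField.fixedField (Subgroup.zpowers (π ^ N))

theorem mem_LN (N : ℕ) (x : AlgebraicClosure k) : x ∈ LN π N ↔ (π ^ N) x = x := by
  rw [LN, IntermediateField.mem_fixedField_iff]
  constructor
  · intro h
    exact h _ (Subgroup.mem_zpowers _)
  · intro h σ hσ
    obtain ⟨j, rfl⟩ := Subgroup.mem_zpowers_iff.mp hσ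
    have hfix : ((π ^ N)⁻¹) x = x := by
      have := congrArg (fun z => ((π ^ N)⁻¹) z) h
      beta_reduce at this
      rw [← AlgEquiv.mul_apply, inv_mul_cancel, AlgEquiv.one_apply] at this
      exact this.symm
    induction j using Int.induction_on with
    | zero => simp
    | succ j ih =>
      rw [zpow_add_one, AlgEquiv.mul_apply, h]
      exact ih (Subgroup.zpow_mem_zpowers _ _)
    | pred j ih =>
      rw [zpow_sub_one, AlgEquiv.mul_apply, hfix]
      exact ih (Subgroup.zpow_mem_zpowers _ _)

include hπ in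
theorem mem_LN' (N : ℕ) (x : AlgebraicClosure k) :
    x ∈ LN π N ↔ x ^ (Nat.card k ^ N) = x := by
  rw [mem_LN, pow_apply π hπ]

variable [Finite k]

omit [Finite k] in
theorem isRoot_iff (m : ℕ) (x : AlgebraicClosure k) :
    (X ^ m - X : (AlgebraicClosure k)[X]).IsRoot x ↔ x ^ m = x := by
  rw [IsRoot, eval_sub, eval_pow, eval_X, sub_eq_zero]

open Classical in
include hπ in
theorem LN_eq_roots {N : ℕ} (hN : N ≠ 0) :
    (LN π N : Set (AlgebraicClosure k)) =
      ((X ^ (Nat.card k ^ N) - X : (AlgebraicClosure k)[X]).roots.toFinset :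
        Set (AlgebraicClosure k)) := by
  ext x
  have hne : (X ^ (Nat.card k ^ N) - X : (AlgebraicClosure k)[X]) ≠ 0 :=
    FiniteField.X_pow_card_pow_sub_X_ne_zero _ hN Finite.one_lt_card
  rw [SetLike.mem_coe, mem_LN' π hπ, Finset.mem_coe, Multiset.mem_toFinset, mem_roots hne,
    isRoot_iff]

include hπ in
theorem finite_LN {N : ℕ} (hN : N ≠ 0) : Finite (LN π N) := by
  classical
  have := LN_eq_roots π hπ hN
  have hfin : (LN π N : Set (AlgebraicClosure k)).Finite := by
    rw [this]; exact Finset.finite_toSet _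
  exact hfin.to_subtype

open Classical in
theorem card_roots_eq {N : ℕ} (hN : N ≠ 0) :
    ((X ^ (Nat.card k ^ N) - X : (AlgebraicClosure k)[X]).roots.toFinset).card =
      Nat.card k ^ N := by
  obtain ⟨p, hp⟩ := CharP.exists k
  have : Fact p.Prime := ⟨CharP.char_is_prime k p⟩
  have : CharP (AlgebraicClosure k) p := charP_of_injective_algebraMap
    (algebraMap k (AlgebraicClosure k)).injective p
  let _ := Fintype.ofFinite k
  obtain ⟨n, -, hn⟩ := FiniteField.card k p
  have hq : Nat.card k = p ^ (n : ℕ) := by rw [Nat.card_eq_fintype_card, hn]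
  have hdvd : p ∣ Nat.card k ^ N := by
    rw [hq]
    exact dvd_pow (dvd_pow_self p n.pos.ne') hN
  have hsep : (X ^ (Nat.card k ^ N) - X : (AlgebraicClosure k)[X]).Separable :=
    galois_poly_separable p _ hdvd
  rw [Multiset.toFinset_card_of_nodup (nodup_roots hsep)]
  have hsplit := IsAlgClosed.splits (X ^ (Nat.card k ^ N) - X : (AlgebraicClosure k)[X])
  rw [← hsplit.natDegree_eq_card_roots]
  exact FiniteField.X_pow_card_pow_sub_X_natDegree_eq _ hN Finite.one_lt_card

include hπ in
/-- the order of `π` on `LN N` is exactly `N` -/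
theorem dvd_of_pow_fix {N : ℕ} (hN : N ≠ 0) (d : ℕ)
    (h : ∀ x ∈ LN π N, (π ^ d) x = x) : N ∣ d := by
  classical
  rw [Nat.dvd_iff_mod_eq_zero]
  by_contra hr
  set r := d % N with hr_def
  have hrN : r < N := Nat.mod_lt _ (Nat.pos_of_ne_zero hN)
  have hd : d = r + N * (d / N) := (Nat.mod_add_div d N).symm
  -- all elements of `LN N` are fixed by `π ^ r`
  have hfixr : ∀ x ∈ LN π N, x ^ (Nat.card k ^ r) = x := by
    intro x hx
    have h1 : ((π ^ N) ^ (d / N)) x = x := by
      have hx' := (mem_LN π N x).mp hx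
      induction (d / N) with
      | zero => simp
      | succ j ih => rw [pow_succ, AlgEquiv.mul_apply, hx', ih]
    have h2 := h x hx
    rw [hd, pow_add, pow_mul, AlgEquiv.mul_apply, h1, pow_apply π hπ] at h2
    exact h2
  have hne : (X ^ (Nat.card k ^ r) - X : (AlgebraicClosure k)[X]) ≠ 0 :=
    FiniteField.X_pow_card_pow_sub_X_ne_zero _ hr Finite.one_lt_card
  have hsub : (X ^ (Nat.card k ^ N) - X : (AlgebraicClosure k)[X]).roots.toFinset ⊆
      (X ^ (Nat.card k ^ r) - X : (AlgebraicClosure k)[X]).roots.toFinset := by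
    intro x hx
    have hx' : x ∈ LN π N := by
      have := LN_eq_roots π hπ hN
      have h3 : x ∈ (LN π N : Set (AlgebraicClosure k)) := by rw [this]; exact hx
      exact h3
    rw [Multiset.mem_toFinset, mem_roots hne, isRoot_iff]
    exact hfixr x hx'
  have hcard := Finset.card_le_card hsub
  rw [card_roots_eq hN, card_roots_eq hr] at hcard
  exact absurd hcard (not_le.mpr (Nat.pow_lt_pow_right Finite.one_lt_card hrN))

end Groth.Agent.Helper7.FFa
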