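import Mathlib
import Groth.Agent.Helper7.FFa

set_option autoImplicit false

namespace Groth.Agent.Helper7.FFb

open Polynomial Groth.Agent.Helper7.FFa

universe u

variable {k : Type u} [Field k] [Finite k]
  (π : AlgebraicClosure k ≃ₐ[k] AlgebraicClosure k)
  (hπ : ∀ x : AlgebraicClosure k, π x = x ^ Nat.card k)

include hπ in
/-- every automorphism acts on `LN N` as a power of `π` -/
theorem exists_pow_eq_on (σ : AlgebraicClosure k ≃ₐ[k] AlgebraicClosure k) {N : ℕ} (hN : N ≠ 0) :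
    ∃ n : ℕ, ∀ x ∈ LN π N, σ x = (π ^ n) x := by
  obtain ⟨p, hp⟩ := CharP.exists k
  have : Fact p.Prime := ⟨CharP.char_is_prime k p⟩
  have : Finite (LN π N) := finite_LN π hπ hN
  obtain ⟨i, hi⟩ := FiniteField.exists_forall_apply_eq_pow k p (LN π N) (σ.restrictNormal (LN π N))
  refine ⟨i, fun x hx => ?_⟩
  have h1 := hi ⟨x, hx⟩
  have h2 := AlgEquiv.restrictNormal_commutes σ (LN π N) ⟨x, hx⟩
  rw [pow_apply π hπ]
  have h3 : σ x = algebraMap (LN π N) (AlgebraicClosure k) ((σ.restrictNormal (LN π N)) ⟨x, hx⟩) :=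
    h2.symm
  rw [h3, h1]
  rfl

omit [Finite k] in
theorem LN_mono {d N : ℕ} (h : d ∣ N) : LN π d ≤ LN π N := by
  intro x hx
  rw [mem_LN] at hx ⊢
  obtain ⟨j, rfl⟩ := h
  rw [pow_mul]
  induction j with
  | zero => simp
  | succ j ih => rw [pow_succ, AlgEquiv.mul_apply, hx, ih]

include hπ in
theorem le_LN (E : IntermediateField k (AlgebraicClosure k)) [FiniteDimensional k E] :
    ∃ d : ℕ, d ≠ 0 ∧ E ≤ LN π d := by
  refine ⟨Module.finrank k E, Module.finrank_pos.ne', ?_⟩
  intro x hx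
  rw [mem_LN' π hπ]
  let _ := Fintype.ofFinite k
  have : Finite E := Module.finite_of_finite k
  let _ := Fintype.ofFinite E
  have h1 : (⟨x, hx⟩ : E) ^ Fintype.card E = ⟨x, hx⟩ := FiniteField.pow_card _
  have h2 : Fintype.card E = Nat.card k ^ Module.finrank k E := by
    rw [Module.card_eq_pow_finrank (K := k) (V := E), Nat.card_eq_fintype_card]
  rw [h2] at h1
  exact congrArg Subtype.val h1

end Groth.Agent.Helper7.FFb
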