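import Mathlib
import Groth.Prelude.Def_GSzH1
import Groth.Agent.Helper7.FFb

set_option autoImplicit false

namespace Groth.Agent.Helper7.FFc

open Groth.Agent.Helper7.FFa Groth.Agent.Helper7.FFb

universe u v

variable {k : Type u} [Field k] [Finite k]
  (π : AlgebraicClosure k ≃ₐ[k] AlgebraicClosure k)
  (hπ : ∀ x : AlgebraicClosure k, π x = x ^ Nat.card k)

/-- two automorphisms agree on `LN N` -/
def Agree (N : ℕ) (σ τ : AlgebraicClosure k ≃ₐ[k] AlgebraicClosure k) : Prop :=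
  ∀ x ∈ LN π N, σ x = τ x

omit [Finite k] in
theorem Agree.symm {N : ℕ} {σ τ : AlgebraicClosure k ≃ₐ[k] AlgebraicClosure k}
    (h : Agree π N σ τ) : Agree π N τ σ := fun x hx => (h x hx).symm

omit [Finite k] in
theorem Agree.trans {N : ℕ} {σ τ ρ : AlgebraicClosure k ≃ₐ[k] AlgebraicClosure k}
    (h : Agree π N σ τ) (h' : Agree π N τ ρ) : Agree π N σ ρ :=
  fun x hx => (h x hx).trans (h' x hx)

omit [Finite k] in
theorem Agree.mono {d N : ℕ} (hd : d ∣ N) {σ τ : AlgebraicClosure k ≃ₐ[k] AlgebraicClosure k}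
    (h : Agree π N σ τ) : Agree π d σ τ := fun x hx => h x (LN_mono π hd hx)

omit [Finite k] in
theorem pow_mem_LN {N : ℕ} (m : ℕ) {x : AlgebraicClosure k} (hx : x ∈ LN π N) :
    (π ^ m) x ∈ LN π N := by
  rw [mem_LN] at hx ⊢
  rw [← AlgEquiv.mul_apply, ← pow_add, add_comm, pow_add, AlgEquiv.mul_apply, hx]

omit [Finite k] in
theorem Agree.mul {N : ℕ} {σ τ : AlgebraicClosure k ≃ₐ[k] AlgebraicClosure k} {n m : ℕ}
    (h : Agree π N σ (π ^ n)) (h' : Agree π N τ (π ^ m)) : Agree π N (σ * τ) (π ^ (n + m)) := by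
  intro x hx
  rw [AlgEquiv.mul_apply, h' x hx, h _ (pow_mem_LN π m hx), pow_add, AlgEquiv.mul_apply]

include hπ in
theorem modEq_of_agree {N : ℕ} (hN : N ≠ 0) {a b : ℕ} (h : Agree π N (π ^ a) (π ^ b)) :
    a ≡ b [MOD N] := by
  wlog hab : a ≤ b generalizing a b
  · exact (this h.symm (le_of_not_ge hab)).symm
  have hdvd : N ∣ b - a := by
    apply dvd_of_pow_fix π hπ hN
    intro x hx
    have h1 := h x hx
    have h2 : (π ^ b) x = (π ^ a) ((π ^ (b - a)) x) := by
      rw [← AlgEquiv.mul_apply, ← pow_add, Nat.add_sub_cancel' hab]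
    rw [h2] at h1
    exact ((π ^ a).injective h1).symm
  exact (Nat.modEq_iff_dvd' hab).mpr hdvd

omit [Finite k] in
theorem isOpen_agree {N : ℕ} (hfinN : Finite (LN π N))
    (σ : AlgebraicClosure k ≃ₐ[k] AlgebraicClosure k) :
    IsOpen {τ : AlgebraicClosure k ≃ₐ[k] AlgebraicClosure k | Agree π N τ σ} := by
  have : FiniteDimensional k (LN π N) := Module.Finite.of_finite
  have hopen := IntermediateField.fixingSubgroup_isOpen (LN π N)
  have hcont : Continuous (fun τ : AlgebraicClosure k ≃ₐ[k] AlgebraicClosure k => σ⁻¹ * τ) :=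
    continuous_const_mul _
  have heq : {τ : AlgebraicClosure k ≃ₐ[k] AlgebraicClosure k | Agree π N τ σ} =
      (fun τ => σ⁻¹ * τ) ⁻¹' ((LN π N).fixingSubgroup : Set _) := by
    ext τ
    simp only [Set.mem_ofPred_eq, Set.mem_preimage, SetLike.mem_coe,
      IntermediateField.mem_fixingSubgroup_iff]
    constructor
    · intro h x hx
      rw [AlgEquiv.mul_apply, h x hx, ← AlgEquiv.mul_apply, inv_mul_cancel, AlgEquiv.one_apply]
    · intro h x hx
      have := congrArg (fun y => σ y) (h x hx)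
      beta_reduce at this
      rw [AlgEquiv.mul_apply, ← AlgEquiv.mul_apply, mul_inv_cancel, AlgEquiv.one_apply] at this
      exact this
  rw [heq]
  exact hopen.preimage hcont

include hπ in
/-- the sets `{τ | Agree d τ σ}` form a neighbourhood basis of `σ` -/
theorem exists_agree_subset {V : Set (AlgebraicClosure k ≃ₐ[k] AlgebraicClosure k)} (hV : IsOpen V)
    {σ : AlgebraicClosure k ≃ₐ[k] AlgebraicClosure k} (hσ : σ ∈ V) :
    ∃ d : ℕ, d ≠ 0 ∧ ∀ τ, Agree π d τ σ → τ ∈ V := by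
  have hcont : Continuous (fun τ : AlgebraicClosure k ≃ₐ[k] AlgebraicClosure k => σ * τ) :=
    continuous_const_mul _
  have hopen : IsOpen ((fun τ => σ * τ) ⁻¹' V) := hV.preimage hcont
  have hmem : (1 : AlgebraicClosure k ≃ₐ[k] AlgebraicClosure k) ∈ (fun τ => σ * τ) ⁻¹' V := by
    simpa using hσ
  have hnhds := hopen.mem_nhds hmem
  rw [krullTopology_mem_nhds_one_iff] at hnhds
  obtain ⟨E, hE, hsub⟩ := hnhds
  obtain ⟨d, hd, hle⟩ := le_LN π hπ E
  refine ⟨d, hd, fun τ hτ => ?_⟩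
  have h1 : σ⁻¹ * τ ∈ E.fixingSubgroup := by
    rw [IntermediateField.mem_fixingSubgroup_iff]
    intro x hx
    rw [AlgEquiv.mul_apply, hτ x (hle hx), ← AlgEquiv.mul_apply, inv_mul_cancel,
      AlgEquiv.one_apply]
  have h2 := hsub h1
  simpa using h2

end Groth.Agent.Helper7.FFc
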