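import Mathlib
import Groth.Prelude.Def_GSzH1
import Groth.Agent.Helper7.FFc

set_option autoImplicit false

namespace Groth.Agent.Helper7.FFd

open Groth.Agent.Helper7.FFa Groth.Agent.Helper7.FFb Groth.Agent.Helper7.FFc GpH1

universe u v

variable {k : Type u} [Field k]
  (π : AlgebraicClosure k ≃ₐ[k] AlgebraicClosure k)
  {A : Type v} [Group A] [MulDistribMulAction (AlgebraicClosure k ≃ₐ[k] AlgebraicClosure k) A]

/-- the sequence `a · π(a) · … · π^{n-1}(a)` -/
noncomputable def aseq (a : A) : ℕ → A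
  | 0 => 1
  | n + 1 => aseq a n * (π ^ n) • a

@[simp] theorem aseq_zero (a : A) : aseq π a 0 = 1 := rfl

theorem aseq_succ (a : A) (n : ℕ) : aseq π a (n + 1) = aseq π a n * (π ^ n) • a := rfl

theorem aseq_one (a : A) : aseq π a 1 = a := by
  rw [aseq_succ, aseq_zero, one_mul, pow_zero, one_smul]

theorem aseq_add (a : A) (n m : ℕ) : aseq π a (n + m) = aseq π a n * (π ^ n) • aseq π a m := by
  induction m with
  | zero => simp
  | succ m ih =>
    rw [← add_assoc, aseq_succ, ih, aseq_succ, smul_mul', mul_assoc, ← mul_smul, ← pow_add]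

theorem aseq_mem {H : Subgroup A}
    (hH : ∀ (σ : AlgebraicClosure k ≃ₐ[k] AlgebraicClosure k) (x : A), x ∈ H → σ • x ∈ H)
    {a : A} (ha : a ∈ H) (n : ℕ) : aseq π a n ∈ H := by
  induction n with
  | zero => exact H.one_mem
  | succ n ih => exact H.mul_mem ih (hH _ _ ha)

theorem cocycle_pow (z : OneCocycle (AlgebraicClosure k ≃ₐ[k] AlgebraicClosure k) A) (n : ℕ) :
    z (π ^ n) = aseq π (z π) n := by
  induction n with
  | zero =>
    have h := z.2 1 1
    rw [mul_one, one_smul] at h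
    rw [pow_zero, aseq_zero]
    exact (mul_eq_left).mp h.symm
  | succ n ih => rw [pow_succ, z.2, ih, aseq_succ]

variable [Finite k] (hπ : ∀ x : AlgebraicClosure k, π x = x ^ Nat.card k)

include hπ in
/-- injectivity of evaluation at `π` -/
theorem eq_of_apply_eq (z z' : OneCocycleLC (AlgebraicClosure k ≃ₐ[k] AlgebraicClosure k) A)
    (h : z.1 π = z'.1 π) : z = z' := by
  apply Subtype.ext
  apply OneCocycle.ext
  intro σ
  set V : Set (AlgebraicClosure k ≃ₐ[k] AlgebraicClosure k) :=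
    {τ | z.1 τ = z.1 σ} ∩ {τ | z'.1 τ = z'.1 σ} with hVdef
  have hV : IsOpen V := (z.2.isOpen_fiber _).inter (z'.2.isOpen_fiber _)
  have hσV : σ ∈ V := ⟨rfl, rfl⟩
  obtain ⟨d, hd, hsub⟩ := exists_agree_subset π hπ hV hσV
  obtain ⟨n, hn⟩ := exists_pow_eq_on π hπ σ hd
  have hmem : π ^ n ∈ V := hsub _ (Agree.symm π hn)
  rw [← hmem.1, ← hmem.2, cocycle_pow, cocycle_pow, h]

end Groth.Agent.Helper7.FFd
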