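import Mathlib
import Groth.Prelude.Def_GSzH1
import Groth.Agent.Helper7.FFd

set_option autoImplicit false

namespace Groth.Agent.Helper7.FFe

open Groth.Agent.Helper7.FFa Groth.Agent.Helper7.FFb Groth.Agent.Helper7.FFc
  Groth.Agent.Helper7.FFd GpH1

universe u v

variable {k : Type u} [Field k]
  (π : AlgebraicClosure k ≃ₐ[k] AlgebraicClosure k)
  {A : Type v} [Group A] [MulDistribMulAction (AlgebraicClosure k ≃ₐ[k] AlgebraicClosure k) A]

theorem agree_pow_mul_one (d j : ℕ) : Agree π d (π ^ (d * j)) 1 := by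
  intro x hx
  rw [mem_LN] at hx
  rw [pow_mul, AlgEquiv.one_apply]
  induction j with
  | zero => simp
  | succ j ih => rw [pow_succ, AlgEquiv.mul_apply, hx, ih]

theorem aseq_periodic {a : A} {N : ℕ} (h1 : aseq π a N = 1) (n t : ℕ) :
    aseq π a (n + N * t) = aseq π a n := by
  induction t with
  | zero => simp
  | succ t ih =>
    rw [Nat.mul_succ, ← add_assoc, aseq_add, ih, h1, smul_one, mul_one]

theorem aseq_eq_of_modEq {a : A} {N : ℕ} (h1 : aseq π a N = 1) {n m : ℕ} (h : n ≡ m [MOD N]) :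
    aseq π a n = aseq π a m := by
  wlog hnm : n ≤ m generalizing n m
  · exact (this h.symm (le_of_not_ge hnm)).symm
  obtain ⟨t, ht⟩ := (Nat.modEq_iff_dvd' hnm).mp h
  have : m = n + N * t := by omega
  rw [this, aseq_periodic π h1]

variable [Finite k] (hπ : ∀ x : AlgebraicClosure k, π x = x ^ Nat.card k)

include hπ in
theorem exists_cocycle
    (hcont : ∀ a : A, IsOpen {σ : AlgebraicClosure k ≃ₐ[k] AlgebraicClosure k | σ • a = a})
    (hfin : ∀ a : A, ∃ H : Subgroup A, (H : Set A).Finite ∧ a ∈ H ∧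
      ∀ (σ : AlgebraicClosure k ≃ₐ[k] AlgebraicClosure k) (x : A), x ∈ H → σ • x ∈ H)
    (a : A) :
    ∃ z : OneCocycleLC (AlgebraicClosure k ≃ₐ[k] AlgebraicClosure k) A, z.1 π = a := by
  classical
  obtain ⟨H, hHfin, haH, hHst⟩ := hfin a
  -- step 2: a level `dh h` for each element
  have hex : ∀ h : A, ∃ d : ℕ, d ≠ 0 ∧
      ∀ τ : AlgebraicClosure k ≃ₐ[k] AlgebraicClosure k, Agree π d τ 1 → τ • h = h := by
    intro h
    have h1 : (1 : AlgebraicClosure k ≃ₐ[k] AlgebraicClosure k) ∈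
        {σ : AlgebraicClosure k ≃ₐ[k] AlgebraicClosure k | σ • h = h} := one_smul _ h
    exact exists_agree_subset π hπ (hcont h) h1
  choose dh hdh0 hdh using hex
  set d : ℕ := ∏ h ∈ hHfin.toFinset, dh h with hd_def
  have hd0 : d ≠ 0 := Finset.prod_ne_zero_iff.mpr fun h _ => hdh0 h
  have hdvd : ∀ h ∈ H, dh h ∣ d := fun h hh =>
    Finset.dvd_prod_of_mem _ (hHfin.mem_toFinset.mpr hh)
  have hU : ∀ ρ : AlgebraicClosure k ≃ₐ[k] AlgebraicClosure k, Agree π d ρ 1 →
      ∀ h ∈ H, ρ • h = h := fun ρ hρ h hh => hdh h ρ (hρ.mono π (hdvd h hh))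
  -- the element b
  set b : A := aseq π a d with hb_def
  have hbH : b ∈ H := aseq_mem π hHst haH d
  have hbj : ∀ j : ℕ, aseq π a (d * j) = b ^ j := by
    intro j
    induction j with
    | zero => simp
    | succ j ih =>
      rw [Nat.mul_succ, aseq_add, ih, hU _ (agree_pow_mul_one π d j) _ (aseq_mem π hHst haH d),
        pow_succ]
  have : Finite H := hHfin.to_subtype
  obtain ⟨r, hr0, hr⟩ := (isOfFinOrder_of_finite (⟨b, hbH⟩ : H)).exists_pow_eq_one
  have hbr : b ^ r = 1 := by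
    have := congrArg Subtype.val hr
    simpa using this
  set N : ℕ := d * r with hN_def
  have hN0 : N ≠ 0 := Nat.mul_ne_zero hd0 hr0.ne'
  have haN : aseq π a N = 1 := by rw [hN_def, hbj, hbr]
  have hUN : ∀ ρ τ : AlgebraicClosure k ≃ₐ[k] AlgebraicClosure k, Agree π N ρ τ →
      ∀ h ∈ H, ρ • h = τ • h := by
    intro ρ τ hρτ h hh
    have h1 : Agree π N (τ⁻¹ * ρ) 1 := by
      intro x hx
      rw [AlgEquiv.mul_apply, hρτ x hx, ← AlgEquiv.mul_apply, inv_mul_cancel]
    have h2 := hU _ (h1.mono π (Dvd.intro r rfl)) h hh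
    rw [mul_smul] at h2
    have := congrArg (fun y => τ • y) h2
    beta_reduce at this
    rw [smul_inv_smul] at this
    exact this
  -- the index function
  have hidx : ∀ σ : AlgebraicClosure k ≃ₐ[k] AlgebraicClosure k, ∃ n : ℕ, Agree π N σ (π ^ n) :=
    fun σ => exists_pow_eq_on π hπ σ hN0
  choose idx hidx' using hidx
  have hmod : ∀ {n m : ℕ}, Agree π N (π ^ n) (π ^ m) → aseq π a n = aseq π a m := fun h =>
    aseq_eq_of_modEq π haN (modEq_of_agree π hπ hN0 h)
  have hcoc : IsOneCocycle (fun σ => aseq π a (idx σ)) := by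
    intro σ τ
    have h1 : Agree π N (π ^ (idx (σ * τ))) (π ^ (idx σ + idx τ)) :=
      (hidx' (σ * τ)).symm.trans π (Agree.mul π (hidx' σ) (hidx' τ))
    beta_reduce
    rw [hmod h1, aseq_add, hUN _ _ (hidx' σ) _ (aseq_mem π hHst haH _)]
  have hlc : IsLocallyConstant (fun σ => aseq π a (idx σ)) := by
    rw [IsLocallyConstant.iff_exists_open]
    intro σ
    refine ⟨{τ | Agree π N τ σ}, isOpen_agree π (finite_LN π hπ hN0) σ, fun x _ => rfl, ?_⟩
    intro τ hτ
    exact hmod ((hidx' τ).symm.trans π (Agree.trans π hτ (hidx' σ)))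
  refine ⟨⟨⟨_, hcoc⟩, hlc⟩, ?_⟩
  change aseq π a (idx π) = a
  have h1 : Agree π N (π ^ (idx π)) (π ^ 1) := by
    rw [pow_one]; exact (hidx' π).symm
  rw [hmod h1, aseq_one]

end Groth.Agent.Helper7.FFe
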