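import Mathlib
import Groth.Prelude.Def_GSzH1
import Groth.Agent.Helper7.FFe

set_option autoImplicit false

namespace Groth.Agent.Helper7.FFf

open Groth.Agent.Helper7.FFa Groth.Agent.Helper7.FFb Groth.Agent.Helper7.FFc
  Groth.Agent.Helper7.FFd Groth.Agent.Helper7.FFe GpH1

universe u v

variable {k : Type u} [Field k] [Finite k]
  (π : AlgebraicClosure k ≃ₐ[k] AlgebraicClosure k)
  (hπ : ∀ x : AlgebraicClosure k, π x = x ^ Nat.card k)
  {A : Type v} [Group A] [MulDistribMulAction (AlgebraicClosure k ≃ₐ[k] AlgebraicClosure k) A]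

omit [Finite k] in
/-- twisting a cocycle by an element -/
theorem isOneCocycle_twist (z : OneCocycle (AlgebraicClosure k ≃ₐ[k] AlgebraicClosure k) A) (g : A) :
    IsOneCocycle (fun σ => g * z σ * (σ • g)⁻¹) := by
  intro σ τ
  beta_reduce
  rw [z.2 σ τ, smul_mul', smul_mul', smul_inv', mul_smul]
  group

omit [Finite k] in
theorem isLocallyConstant_smul
    (hcont : ∀ a : A, IsOpen {σ : AlgebraicClosure k ≃ₐ[k] AlgebraicClosure k | σ • a = a})
    (g : A) : IsLocallyConstant (fun σ : AlgebraicClosure k ≃ₐ[k] AlgebraicClosure k => σ • g) := by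
  rw [IsLocallyConstant.iff_exists_open]
  intro σ
  have hc : Continuous (fun τ : AlgebraicClosure k ≃ₐ[k] AlgebraicClosure k => σ⁻¹ * τ) :=
    continuous_const_mul _
  refine ⟨(fun τ => σ⁻¹ * τ) ⁻¹' {ρ | ρ • g = g}, (hcont g).preimage hc, ?_, ?_⟩
  · simp
  · intro τ hτ
    have h1 : (σ⁻¹ * τ) • g = g := hτ
    rw [mul_smul] at h1
    have := congrArg (fun y => σ • y) h1
    beta_reduce at this
    rw [smul_inv_smul] at this
    exact this

include hπ in
theorem main
    (hcont : ∀ a : A, IsOpen {σ : AlgebraicClosure k ≃ₐ[k] AlgebraicClosure k | σ • a = a})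
    (hfin : ∀ a : A, ∃ H : Subgroup A, (H : Set A).Finite ∧ a ∈ H ∧
      ∀ (σ : AlgebraicClosure k ≃ₐ[k] AlgebraicClosure k) (x : A), x ∈ H → σ • x ∈ H) :
    Function.Bijective
        (fun z : OneCocycleLC (AlgebraicClosure k ≃ₐ[k] AlgebraicClosure k) A => z.1 π) ∧
      ∀ z z' : OneCocycleLC (AlgebraicClosure k ≃ₐ[k] AlgebraicClosure k) A,
        z.cl = z'.cl ↔ ∃ g : A, z'.1 π = g * z.1 π * (π • g)⁻¹ := by
  refine ⟨⟨fun z z' h => eq_of_apply_eq π hπ z z' h, fun a => exists_cocycle π hπ hcont hfin a⟩, ?_⟩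
  intro z z'
  rw [OneCocycleLC.cl_eq_cl_iff]
  constructor
  · rintro ⟨c, hc⟩
    refine ⟨c, ?_⟩
    rw [hc π]
    group
  · rintro ⟨g, hg⟩
    have hlc : IsLocallyConstant (fun σ => g * z.1 σ * (σ • g)⁻¹) := by
      have h1 : IsLocallyConstant (fun σ : AlgebraicClosure k ≃ₐ[k] AlgebraicClosure k => g) :=
        IsLocallyConstant.const g
      have h2 := (h1.mul z.2).mul (isLocallyConstant_smul hcont g).inv
      exact h2
    set z'' : OneCocycleLC (AlgebraicClosure k ≃ₐ[k] AlgebraicClosure k) A :=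
      ⟨⟨_, isOneCocycle_twist z.1 g⟩, hlc⟩ with hz''
    have heq : z'' = z' := eq_of_apply_eq π hπ z'' z' hg.symm
    refine ⟨g, fun σ => ?_⟩
    have h1 : z'.1 σ = g * z.1 σ * (σ • g)⁻¹ := by
      rw [← heq]
    rw [h1]
    group

end Groth.Agent.Helper7.FFf
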