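import Mathlib
import Groth.Agent.Helper7.FGK9
import Groth.Agent.Helper7.DelSchA

set_option autoImplicit false
universe u

open CategoryTheory CategoryTheory.Limits MonoidalCategory CartesianMonoidalCategory MonObj GrpObj
  AlgebraicGeometry TensorProduct
open scoped CategoryTheory.Obj

namespace Groth.Agent.Helper7.FGK

/-- affine reduced base -/
theorem pow_eq_one_affine_reduced (R : CommRingCat.{u}) [_root_.IsReduced R]
    (G : Over (Spec R)) [GrpObj G]
    [IsFinite G.hom] [Flat G.hom] [LocallyOfFinitePresentation G.hom] (r : ℕ)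
    (hr : ∀ s, G.hom.finrank s = r) : (𝟙 G : G ⟶ G) ^ r = 1 := by
  haveI : IsAffine G.left := isAffine_of_isAffineHom G.hom
  obtain ⟨H, ⟨e⟩⟩ := (essImage_hopfSpec (G := Grp.mk G)).mpr ‹_›
  let A := H.unop
  let X : Over (Spec R) := ((hopfSpec R).obj H).X
  let ψ : X ⟶ G := e.hom.hom.hom
  haveI : IsMonHom ψ := e.hom.hom.isMonHom_hom
  haveI : IsIso ψ := (inferInstance : IsIso ((Grp.forget _).map e.hom))
  apply DelSch.id_pow_of_iso ψ
  set φ : R ⟶ CommRingCat.of A := CommRingCat.ofHom (algebraMap R A) with hφ
  have hXhom : X.hom = Spec.map φ := rfl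
  have hw : ψ.left ≫ G.hom = Spec.map φ := Over.w ψ
  haveI : IsIso ψ.left := (inferInstance : IsIso ((Over.forget _).map ψ))
  have hfinS : IsFinite (Spec.map φ) := by
    rw [← hw]; exact (MorphismProperty.cancel_left_of_respectsIso @IsFinite ψ.left G.hom).mpr ‹_›
  have hflatS : Flat (Spec.map φ) := by
    rw [← hw]; exact (MorphismProperty.cancel_left_of_respectsIso @Flat ψ.left G.hom).mpr ‹_›
  have hfpS : LocallyOfFinitePresentation (Spec.map φ) := by
    rw [← hw]
    exact (MorphismProperty.cancel_left_of_respectsIso @LocallyOfFinitePresentation ψ.left G.hom).mpr ‹_›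
  have hfin : Module.Finite R A :=
    RingHom.finite_algebraMap.mp ((IsFinite.SpecMap_iff φ).mp hfinS)
  have hflat : Module.Flat R A :=
    (RingHom.flat_algebraMap_iff).mp (Flat.SpecMap_iff.mp hflatS)
  have hfp : Algebra.FinitePresentation R A :=
    RingHom.finitePresentation_algebraMap.mp ((LocallyOfFinitePresentation.SpecMap_iff φ).mp hfpS)
  haveI : Module.FinitePresentation R A := Module.FinitePresentation.of_finite_of_finitePresentation R A
  have hproj : Module.Projective R A := Module.Flat.projective_of_finitePresentation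
  have hrank : ∀ p : PrimeSpectrum R, Module.rankAtStalk (R := R) A p = r := by
    intro p
    have h2 := Scheme.Hom.finrank_SpecMap_algebraMap R A p
    have h3 : (Spec.map φ).finrank p = G.hom.finrank p := by
      have := Scheme.Hom.finrank_comp_left_of_isIso ψ.left G.hom
      rw [← congrFun this p]
      congr 1
      exact hw.symm
    rw [← h2]
    exact h3.trans (hr p)
  let Φ := Spec.mapMulEquiv (R := R) (S := A) (T := A)
  have hΦ : Φ (WithConv.toConv (AlgHom.id R A)) = 𝟙 X := by
    ext1
    simp [Φ, Spec.mapMulEquiv]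
    rfl
  have h1 := congrArg Φ (pow_rank_eq_one_of_isReduced (R₀ := R) (A := A) r hrank)
  rw [map_pow, map_one, hΦ] at h1
  exact h1

section Glue

variable {S : Scheme.{u}} [AlgebraicGeometry.IsReduced S] (G : Over S) [GrpObj G]
    [IsFinite G.hom] [Flat G.hom] [LocallyOfFinitePresentation G.hom]
    (r : ℕ) (hr : ∀ s : S, Scheme.Hom.finrank G.hom s = r)

include hr in
lemma map_pow_eq_reduced (R : CommRingCat.{u}) [_root_.IsReduced R] (f : Spec R ⟶ S) (T : Over S)
    (g : T ⟶ G) :
    (Over.pullback f).map (g ^ r) = (Over.pullback f).map 1 := by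
  haveI : IsFinite ((Over.pullback f).obj G).hom := by
    change IsFinite (pullback.snd G.hom f); infer_instance
  haveI : Flat ((Over.pullback f).obj G).hom := by
    change Flat (pullback.snd G.hom f); infer_instance
  haveI : LocallyOfFinitePresentation ((Over.pullback f).obj G).hom := by
    change LocallyOfFinitePresentation (pullback.snd G.hom f); infer_instance
  have hr' : ∀ s, ((Over.pullback f).obj G).hom.finrank s = r := by
    intro s
    change (pullback.snd G.hom f).finrank s = r
    rw [Scheme.Hom.finrank_pullback_snd, hr]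
  have h0 := pow_eq_one_affine_reduced R ((Over.pullback f).obj G) r hr'
  rw [Functor.map_one]
  have : (Over.pullback f).map (g ^ r) = ((Over.pullback f).map g) ^ r :=
    map_pow ((Over.pullback f).homMonoidHom) g r
  rw [this]
  have h2 : (Over.pullback f).map g = (Over.pullback f).map g ≫ 𝟙 _ := (Category.comp_id _).symm
  rw [h2, ← MonObj.comp_pow, h0, MonObj.comp_one]

include hr in
theorem pow_eq_one_reduced (T : Over S) (g : T ⟶ G) : g ^ r = 1 := by
  apply Over.OverMorphism.ext
  refine Scheme.Cover.hom_ext (S.affineOpenCover.openCover.pullback₁ T.hom) _ _ fun j => ?_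
  haveI : AlgebraicGeometry.IsReduced (Spec (S.affineOpenCover.X j)) :=
    isReduced_of_isOpenImmersion (S.affineOpenCover.f j)
  haveI : _root_.IsReduced (S.affineOpenCover.X j) :=
    (affine_isReduced_iff _).1 inferInstance
  have h1 := map_pow_eq_reduced G r hr (S.affineOpenCover.X j) (S.affineOpenCover.f j) T g
  have h3 := congrArg (fun φ => φ.left ≫ pullback.fst G.hom (S.affineOpenCover.f j)) h1
  simp only [Over.pullback_map_left, pullback.lift_fst] at h3
  exact h3

end Glue

end Groth.Agent.Helper7.FGK
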