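import Mathlib

/-!
# Eigenvectors of the `p`-th power map on a `p`-power-stable subspace of a commutative algebra
-/

namespace Groth.Agent.Helper7.FGK

open Polynomial

universe u v

section Semilinear

variable {k : Type u} [Field k] [IsAlgClosed k] (p : ℕ) [hp : Fact p.Prime] [CharP k p]
variable {E : Type v} [CommRing E] [Algebra k E] [Module.Finite k E]

/-- the auxiliary polynomials -/
noncomputable def auxPoly (c : ℕ → k) : ℕ → k[X]
  | 0 => C (c 0) * X ^ p
  | (i + 1) => (auxPoly c i) ^ p + C (c (i + 1)) * X ^ p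

omit [IsAlgClosed k] [CharP k p] in
lemma X_pow_dvd_auxPoly (c : ℕ → k) (i : ℕ) : (X : k[X]) ^ p ∣ auxPoly p c i := by
  induction i with
  | zero => exact Dvd.intro_left _ rfl
  | succ i ih =>
    rw [auxPoly]
    refine dvd_add ?_ (Dvd.intro_left _ rfl)
    exact dvd_trans ih (dvd_pow_self _ hp.out.ne_zero)

omit [IsAlgClosed k] [CharP k p] in
lemma natDegree_auxPoly (c : ℕ → k) (hc : c 0 ≠ 0) (i : ℕ) :
    (auxPoly p c i).natDegree = p ^ (i + 1) := by
  induction i with
  | zero =>
    rw [auxPoly, natDegree_C_mul_X_pow _ _ hc, zero_add, pow_one]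
  | succ i ih =>
    rw [auxPoly]
    have h1 : ((auxPoly p c i) ^ p).natDegree = p ^ (i + 2) := by
      rw [natDegree_pow, ih]; ring
    have h2 : (C (c (i + 1)) * X ^ p : k[X]).natDegree ≤ p := natDegree_C_mul_X_pow_le _ _
    have h3 : p < p ^ (i + 2) := by
      calc p = p ^ 1 := (pow_one p).symm
        _ < p ^ (i + 2) := Nat.pow_lt_pow_right hp.out.one_lt (by omega)
    rw [natDegree_add_eq_left_of_natDegree_lt (by rw [h1]; omega), h1]

theorem exists_pow_eq_smul (V : Submodule k E) (hV : ∀ v ∈ V, v ^ p ∈ V) (hV0 : V ≠ ⊥) :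
    ∃ u ∈ V, u ≠ 0 ∧ ∃ c : k, u ^ p = c • u := by
  classical
  have hp2 : 2 ≤ p := hp.out.two_le
  obtain ⟨l₀, hl₀V, hl₀⟩ := Submodule.exists_mem_ne_zero_of_ne_bot hV0
  haveI : Nontrivial E := ⟨⟨l₀, 0, hl₀⟩⟩
  haveI : CharP E p := charP_of_injective_algebraMap (algebraMap k E).injective p
  let w : ℕ → E := fun i => l₀ ^ (p ^ i)
  have hw0 : w 0 = l₀ := by simp [w]
  have hws : ∀ i, w (i + 1) = (w i) ^ p := by
    intro i
    simp only [w]
    rw [← pow_mul, pow_succ]
  have hwV : ∀ i, w i ∈ V := by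
    intro i
    induction i with
    | zero => rw [hw0]; exact hl₀V
    | succ i ih => rw [hws]; exact hV _ ih
  have hP : ∃ n, ¬ LinearIndependent k (fun i : Fin n => w i) := by
    refine ⟨Module.finrank k E + 1, fun h => ?_⟩
    have := h.fintype_card_le_finrank
    rw [Fintype.card_fin] at this
    omega
  have hN0 : Nat.find hP ≠ 0 := by
    intro h0
    have h1 := Nat.find_spec hP
    rw [h0] at h1
    exact h1 linearIndependent_empty_type
  obtain ⟨m, hm⟩ := Nat.exists_eq_succ_of_ne_zero hN0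
  have hindep : LinearIndependent k (fun i : Fin m => w i) := by
    have h1 := Nat.find_min hP (m := m) (by omega)
    exact not_not.1 h1
  have hdep : ¬ LinearIndependent k (fun i : Fin (m + 1) => w i) := by
    have h1 := Nat.find_spec hP
    rw [hm] at h1
    exact h1
  have hsnoc : (fun i : Fin (m + 1) => w i) = Fin.snoc (fun i : Fin m => w i) (w m) := by
    funext i
    refine Fin.lastCases ?_ (fun j => ?_) i
    · simp
    · simp
  rw [hsnoc, linearIndependent_finSnoc] at hdep
  have hmem : w m ∈ Submodule.span k (Set.range (fun i : Fin m => w i)) := by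
    by_contra h
    exact hdep ⟨hindep, h⟩
  obtain ⟨c, hc⟩ := (Submodule.mem_span_range_iff_exists_fun k).1 hmem
  -- `m ≥ 1`
  have hm0 : m ≠ 0 := by
    rintro rfl
    simp only [Finset.univ_eq_empty, Finset.sum_empty] at hc
    rw [← hc] at hw0
    exact hl₀ hw0.symm
  obtain ⟨m', rfl⟩ := Nat.exists_eq_succ_of_ne_zero hm0
  have hsnoc' : (fun i : Fin (m' + 1) => w i) = Fin.snoc (fun i : Fin m' => w i) (w m') := by
    funext i
    refine Fin.lastCases ?_ (fun j => ?_) i
    · simp
    · simp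
  have hnotmem : w m' ∉ Submodule.span k (Set.range (fun i : Fin m' => w i)) := by
    have h1 := hindep
    rw [hsnoc', linearIndependent_finSnoc] at h1
    exact h1.2
  by_cases hc0 : c 0 = 0
  · -- nilpotent case
    have hroot : ∀ i : Fin m', ∃ z : k, z ^ p = c i.succ := fun i =>
      IsAlgClosed.exists_pow_nat_eq _ hp.out.pos
    choose r hr using hroot
    refine ⟨w m' - ∑ i : Fin m', r i • w i, ?_, ?_, 0, ?_⟩
    · exact V.sub_mem (hwV _) (V.sum_mem fun i _ => V.smul_mem _ (hwV _))
    · intro h0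
      apply hnotmem
      rw [sub_eq_zero] at h0
      rw [h0]
      exact Submodule.sum_mem _ fun i _ => Submodule.smul_mem _ _ (Submodule.subset_span ⟨i, rfl⟩)
    · rw [zero_smul, sub_pow_char, sum_pow_char, ← hws, ← hc, Fin.sum_univ_succ, hc0, zero_smul,
        zero_add, sub_eq_zero]
      refine Finset.sum_congr rfl fun i _ => ?_
      rw [_root_.smul_pow, hr, ← hws]
      rfl
  · -- the semisimple case: a fixed vector
    let c' : ℕ → k := fun i => if h : i < m' + 1 then c ⟨i, h⟩ else 0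
    have hc'0 : c' 0 = c 0 := by simp [c']
    have hc' : ∀ i : Fin (m' + 1), c' (i : ℕ) = c i := by
      intro i
      simp only [c']
      rw [dif_pos i.2]
    have hc'ne : c' 0 ≠ 0 := by rw [hc'0]; exact hc0
    set Q : k[X] := auxPoly p c' m' - X with hQ
    obtain ⟨g, hg⟩ := X_pow_dvd_auxPoly p c' m'
    have hcoeff0 : (auxPoly p c' m').coeff 0 = 0 := by
      rw [hg, coeff_X_pow_mul']
      simp; omega
    have hcoeff1 : (auxPoly p c' m').coeff 1 = 0 := by
      rw [hg, coeff_X_pow_mul']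
      simp; omega
    have hQ0 : Q.coeff 0 = 0 := by
      rw [hQ, coeff_sub, hcoeff0, coeff_X_zero, sub_zero]
    obtain ⟨Q₁, hQ₁⟩ := X_dvd_iff.2 hQ0
    have hQ₁0 : Q₁.coeff 0 = -1 := by
      have h1 : Q.coeff 1 = -1 := by
        rw [hQ, coeff_sub, hcoeff1, coeff_X_one, zero_sub]
      rw [hQ₁, coeff_X_mul] at h1
      exact h1
    have hdegQ : Q.natDegree = p ^ (m' + 1) := by
      rw [hQ, natDegree_sub_eq_left_of_natDegree_lt, natDegree_auxPoly p c' hc'ne]
      rw [natDegree_auxPoly p c' hc'ne, natDegree_X]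
      exact Nat.one_lt_pow (by omega) hp.out.one_lt
    have hQne : Q ≠ 0 := by
      intro h0
      rw [h0, natDegree_zero] at hdegQ
      exact (pow_pos hp.out.pos _).ne hdegQ
    have hQ₁ne : Q₁ ≠ 0 := by
      rintro rfl
      rw [mul_zero] at hQ₁
      exact hQne hQ₁
    have hdegQ₁ : Q₁.degree ≠ 0 := by
      intro h0
      have h1 : Q.natDegree = 1 + Q₁.natDegree := by
        rw [hQ₁, natDegree_mul X_ne_zero hQ₁ne, natDegree_X]
      rw [natDegree_eq_zero_iff_degree_le_zero.2 h0.le, hdegQ] at h1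
      have : 1 < p ^ (m' + 1) := Nat.one_lt_pow (by omega) hp.out.one_lt
      omega
    obtain ⟨t₀, ht₀⟩ := IsAlgClosed.exists_root Q₁ hdegQ₁
    have ht₀ne : t₀ ≠ 0 := by
      rintro rfl
      rw [IsRoot.def, ← coeff_zero_eq_eval_zero, hQ₁0] at ht₀
      exact neg_ne_zero.2 one_ne_zero ht₀
    have hQt : Q.eval t₀ = 0 := by
      rw [hQ₁, eval_mul, ht₀.eq_zero, mul_zero]
    let a : ℕ → k := fun i => (auxPoly p c' i).eval t₀
    have ha0 : a 0 = c 0 * t₀ ^ p := by
      simp [a, auxPoly, hc'0]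
    have has : ∀ i, a (i + 1) = (a i) ^ p + c' (i + 1) * t₀ ^ p := by
      intro i
      simp [a, auxPoly]
    have ham : a m' = t₀ := by
      have h1 : Q.eval t₀ = a m' - t₀ := by simp [hQ, a]
      rw [hQt] at h1
      exact (sub_eq_zero.1 h1.symm)
    refine ⟨∑ i : Fin (m' + 1), a i • w i, ?_, ?_, 1, ?_⟩
    · exact V.sum_mem fun i _ => V.smul_mem _ (hwV _)
    · intro h0
      rw [Fintype.linearIndependent_iff] at hindep
      have h1 := hindep (fun i => a i) h0 (Fin.last m')
      simp only [Fin.val_last] at h1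
      rw [ham] at h1
      exact ht₀ne h1
    · rw [one_smul, sum_pow_char]
      have h1 : ∀ i : Fin (m' + 1), (a i • w i) ^ p = (a i) ^ p • w ((i : ℕ) + 1) := by
        intro i
        rw [_root_.smul_pow, ← hws]
      rw [Finset.sum_congr rfl fun i _ => h1 i, Fin.sum_univ_castSucc]
      simp only [Fin.val_castSucc, Fin.val_last]
      rw [ham, ← hc, Finset.smul_sum, Fin.sum_univ_succ, Fin.sum_univ_succ (fun i : Fin (m' + 1) => a i • w i)]
      simp only [Fin.val_zero, Fin.val_succ]
      rw [ha0, add_comm, add_assoc, ← Finset.sum_add_distrib, smul_smul, mul_comm (t₀ ^ p)]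
      congr 1
      refine Finset.sum_congr rfl fun i _ => ?_
      have hci : c' ((i : ℕ) + 1) = c i.succ := hc' i.succ
      rw [has, smul_smul, ← add_smul, hci]
      congr 1
      ring

end Semilinear

end Groth.Agent.Helper7.FGK
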