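import Mathlib
import Groth.Agent.Helper7.FGK25

/-!
# Antipode and products against powers of an ε-derivation
-/

namespace Groth.Agent.Helper7.FGK

open TensorProduct WithConv

universe u v

section Antipode

variable {k : Type u} [Field k] {A : Type v} [CommRing A] [HopfAlgebra k A]

/-- `Δ ∘ S = (S ⊗ S) ∘ τ ∘ Δ` -/
theorem comul_antipode (a : A) :
    Coalgebra.comul (R := k) (HopfAlgebra.antipode k a) =
      TensorProduct.map (HopfAlgebra.antipode k) (HopfAlgebra.antipode k)
        (TensorProduct.comm k A A (Coalgebra.comul (R := k) a)) := by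
  let ι₁ : WithConv (A →ₐ[k] A ⊗[k] A) := toConv Algebra.TensorProduct.includeLeft
  let ι₂ : WithConv (A →ₐ[k] A ⊗[k] A) := toConv Algebra.TensorProduct.includeRight
  have h1 : ι₁ * ι₂ = toConv (Bialgebra.comulAlgHom k A) := by
    apply WithConv.ofConv_injective
    apply AlgHom.ext
    intro b
    rw [AlgHom.convMul_apply]
    have key : ∀ z : A ⊗[k] A, Algebra.TensorProduct.lift ι₁.ofConv ι₂.ofConv
        (fun _ _ => Commute.all _ _) z = z := by
      intro z
      induction z using TensorProduct.induction_on with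
      | zero => simp
      | tmul x y => simp [ι₁, ι₂]
      | add x y hx hy => rw [map_add, hx, hy]
    rw [key]
    rfl
  have h2 : (ι₁ * ι₂)⁻¹ = ι₂⁻¹ * ι₁⁻¹ := by exact mul_inv_rev ι₁ ι₂
  rw [h1] at h2
  have h3 := congrArg (fun f : WithConv (A →ₐ[k] A ⊗[k] A) => f.ofConv a) h2
  have key2 : ∀ z : A ⊗[k] A, Algebra.TensorProduct.lift (ι₂⁻¹).ofConv (ι₁⁻¹).ofConv
      (fun _ _ => Commute.all _ _) z =
      TensorProduct.map (HopfAlgebra.antipode k) (HopfAlgebra.antipode k)
        (TensorProduct.comm k A A z) := by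
    intro z
    induction z using TensorProduct.induction_on with
    | zero => simp
    | tmul x y =>
      change (ι₂.ofConv.comp (HopfAlgebra.antipodeAlgHom k A)) x *
        (ι₁.ofConv.comp (HopfAlgebra.antipodeAlgHom k A)) y = _
      simp [ι₁, ι₂]
    | add x y hx hy => rw [map_add, hx, hy, map_add, map_add]
  rw [AlgHom.convMul_apply, key2] at h3
  rw [← h3]
  rfl

/-- anti-multiplicativity of `φ ↦ φ ∘ S` on the dual -/
theorem conv_comp_antipode (φ ψ : WithConv (A →ₗ[k] k)) (a : A) :
    (φ * ψ).ofConv (HopfAlgebra.antipode k a) =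
      (toConv (ψ.ofConv ∘ₗ HopfAlgebra.antipode k) *
        toConv (φ.ofConv ∘ₗ HopfAlgebra.antipode k)).ofConv a := by
  rw [← tens_apply_comul, comul_antipode, ← tens_apply_comul]
  generalize Coalgebra.comul (R := k) a = z
  induction z using TensorProduct.induction_on with
  | zero => simp
  | tmul x y => simp [mul_comm]
  | add x y hx hy => simp only [map_add, hx, hy]

theorem IsDer.apply_antipode {l : A →ₗ[k] k} (hl : IsDer l) (a : A) :
    l (HopfAlgebra.antipode k a) = - l a := by
  have h1 := HopfAlgebra.mul_antipode_rTensor_comul_apply (R := k) a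
  have h2 := congrArg l h1
  have h3 : l (algebraMap k A (Coalgebra.counit (R := k) a)) = 0 := by
    rw [Algebra.algebraMap_eq_smul_one, map_smul, hl.map_one, smul_zero]
  rw [h3] at h2
  have h4 := (isDer_iff l).1 hl
  have h5 := congrArg (fun φ : WithConv (A ⊗[k] A →ₗ[k] k) =>
    φ.ofConv ((HopfAlgebra.antipode k).rTensor A (Coalgebra.comul (R := k) a))) h4
  simp only [WithConv.ofConv_add, LinearMap.add_apply] at h5
  have h6 : (mulPull (toConv l)).ofConv
      ((HopfAlgebra.antipode k).rTensor A (Coalgebra.comul (R := k) a)) = 0 := h2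
  rw [h6] at h5
  have key : ∀ (φ ψ : WithConv (A →ₗ[k] k)) (z : A ⊗[k] A),
      (tens φ ψ).ofConv ((HopfAlgebra.antipode k).rTensor A z) =
        (tens (toConv (φ.ofConv ∘ₗ HopfAlgebra.antipode k)) ψ).ofConv z := by
    intro φ ψ z
    induction z using TensorProduct.induction_on with
    | zero => simp
    | tmul x y => simp
    | add x y hx hy => simp only [map_add, hx, hy]
  rw [key, key, tens_apply_comul, tens_apply_comul] at h5
  have h7 : (toConv ((1 : WithConv (A →ₗ[k] k)).ofConv ∘ₗ HopfAlgebra.antipode k) :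
      WithConv (A →ₗ[k] k)) = 1 := by
    apply WithConv.ofConv_injective
    ext b
    simp [LinearMap.convOne_def]
  rw [h7, one_mul, mul_one] at h5
  have h8 : l (HopfAlgebra.antipode k a) + l a = 0 := by
    rw [add_comm]
    exact h5.symm
  linear_combination h8

theorem IsDer.conv_pow_apply_antipode {l : A →ₗ[k] k} (hl : IsDer l) (n : ℕ) (a : A) :
    ((toConv l) ^ n).ofConv (HopfAlgebra.antipode k a) = (-1) ^ n * ((toConv l) ^ n).ofConv a := by
  have key : ∀ n : ℕ, (toConv (((toConv l) ^ n).ofConv ∘ₗ HopfAlgebra.antipode k) :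
      WithConv (A →ₗ[k] k)) = ((-1 : k) ^ n) • (toConv l) ^ n := by
    intro n
    induction n with
    | zero =>
      apply WithConv.ofConv_injective
      ext b
      simp [LinearMap.convOne_def]
    | succ n ih =>
      apply WithConv.ofConv_injective
      ext b
      rw [pow_succ]
      change ((toConv l) ^ n * toConv l).ofConv (HopfAlgebra.antipode k b) = _
      rw [conv_comp_antipode, ih]
      have h1 : (toConv ((toConv l).ofConv ∘ₗ HopfAlgebra.antipode k) : WithConv (A →ₗ[k] k)) =
          (-1 : k) • toConv l := by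
        apply WithConv.ofConv_injective
        ext b
        change l (HopfAlgebra.antipode k b) = (-1 : k) • l b
        rw [hl.apply_antipode]
        simp
      rw [h1, smul_mul_smul_comm, ← pow_succ' (toConv l), ← pow_succ', pow_succ (toConv l) n]
  have := congrArg (fun φ : WithConv (A →ₗ[k] k) => φ.ofConv a) (key n)
  exact this

end Antipode

section Binomial

variable {k : Type u} [Field k] {A : Type v} [CommRing A] [HopfAlgebra k A]

theorem IsDer.conv_pow_apply_mul {l : A →ₗ[k] k} (hl : IsDer l) (n : ℕ) (a b : A) :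
    ((toConv l) ^ n).ofConv (a * b) = ∑ m ∈ Finset.range (n + 1),
      (n.choose m : k) * (((toConv l) ^ m).ofConv a * ((toConv l) ^ (n - m)).ofConv b) := by
  have h1 := (isDer_iff l).1 hl
  have hcomm : Commute (tens (toConv l) (1 : WithConv (A →ₗ[k] k))) (tens 1 (toConv l)) := by
    change _ * _ = _ * _
    rw [tens_mul, tens_mul, one_mul, mul_one]
  have h2 : mulPull ((toConv l) ^ n) = ∑ m ∈ Finset.range (n + 1),
      tens ((toConv l) ^ m) ((toConv l) ^ (n - m)) * (n.choose m : WithConv (A ⊗[k] A →ₗ[k] k)) := by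
    rw [map_pow, h1, add_comm, hcomm.add_pow]
    refine Finset.sum_congr rfl fun m _ => ?_
    rw [tens_pow, tens_pow, tens_mul, one_pow, one_pow, mul_one, one_mul]
  have h3 := congrArg (fun φ : WithConv (A ⊗[k] A →ₗ[k] k) => φ.ofConv (a ⊗ₜ[k] b)) h2
  simp only [mulPull_apply_tmul] at h3
  rw [h3, WithConv.ofConv_sum, LinearMap.sum_apply]
  refine Finset.sum_congr rfl fun m _ => ?_
  have h4 : (tens ((toConv l) ^ m) ((toConv l) ^ (n - m)) *
      (n.choose m : WithConv (A ⊗[k] A →ₗ[k] k))) =
      (n.choose m : k) • tens ((toConv l) ^ m) ((toConv l) ^ (n - m)) := by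
    rw [Nat.cast_smul_eq_nsmul, nsmul_eq_mul']
  rw [h4, WithConv.ofConv_smul, LinearMap.smul_apply, tens_apply_tmul, smul_eq_mul]

end Binomial

end Groth.Agent.Helper7.FGK
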