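import Mathlib
import Groth.Agent.Helper7.FGK27

/-!
# The subgroup scheme of order `p` attached to an eigen-derivation
-/

namespace Groth.Agent.Helper7.FGK

open TensorProduct WithConv

universe u v

section DualCoords

variable {k : Type u} [Field k] {V : Type v} [AddCommGroup V] [Module k V] [Module.Finite k V]

/-- a family of `dim V` independent functionals separates the points of `V ⊗ V` -/
theorem tmul_eq_zero_of_forall_dual {n : ℕ} (w : Fin n → (V →ₗ[k] k)) (hw : LinearIndependent k w)
    (hn : Module.finrank k V = n) {z : V ⊗[k] V}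
    (h : ∀ i j, LinearMap.mul' k k (TensorProduct.map (w i) (w j) z) = 0) : z = 0 := by
  classical
  have hspan : Submodule.span k (Set.range w) = ⊤ := by
    refine hw.span_eq_top_of_card_eq_finrank' ?_
    rw [Fintype.card_fin, ← hn]
    exact Subspace.dual_finrank_eq.symm
  let b := Module.finBasis k V
  let B2 := b.tensorProduct b
  apply B2.repr.injective
  ext ⟨i, j⟩
  have key : ∀ z : V ⊗[k] V, B2.repr z (i, j) =
      LinearMap.mul' k k (TensorProduct.map (b.coord i) (b.coord j) z) := by
    intro z
    induction z using TensorProduct.induction_on with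
    | zero => simp
    | tmul x y =>
      rw [Module.Basis.tensorProduct_repr_tmul_apply]
      simp [mul_comm]
    | add x y hx hy =>
      rw [map_add, Finsupp.add_apply, hx, hy, map_add, map_add]
  rw [key, map_zero, Finsupp.zero_apply]
  have h1 : ∀ φ ∈ Submodule.span k (Set.range w), ∀ j',
      LinearMap.mul' k k (TensorProduct.map φ (w j') z) = 0 := by
    intro φ hφ j'
    induction hφ using Submodule.span_induction with
    | mem x hx =>
      obtain ⟨i', rfl⟩ := hx
      exact h i' j'
    | zero => simp
    | add x y _ _ hx hy =>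
      rw [TensorProduct.map_add_left, LinearMap.add_apply, map_add, hx, hy, add_zero]
    | smul c x _ hx =>
      rw [TensorProduct.map_smul_left, LinearMap.smul_apply, map_smul, hx, smul_zero]
  have h2 : ∀ φ ∈ Submodule.span k (Set.range w), ∀ ψ ∈ Submodule.span k (Set.range w),
      LinearMap.mul' k k (TensorProduct.map φ ψ z) = 0 := by
    intro φ hφ ψ hψ
    induction hψ using Submodule.span_induction with
    | mem x hx =>
      obtain ⟨j', rfl⟩ := hx
      exact h1 φ hφ j'
    | zero => simp
    | add x y _ _ hx hy =>
      rw [TensorProduct.map_add_right, LinearMap.add_apply, map_add, hx, hy, add_zero]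
    | smul c x _ hx =>
      rw [TensorProduct.map_smul_right, LinearMap.smul_apply, map_smul, hx, smul_zero]
  exact h2 _ (by rw [hspan]; trivial) _ (by rw [hspan]; trivial)

/-- independent functionals give a surjection onto coordinate space -/
theorem pi_surjective_of_linearIndependent {n : ℕ} (w : Fin n → (V →ₗ[k] k))
    (hw : LinearIndependent k w) : Function.Surjective (LinearMap.pi w) := by
  classical
  by_contra hns
  have hr : LinearMap.range (LinearMap.pi w) ≠ ⊤ := fun h => hns (LinearMap.range_eq_top.1 h)
  obtain ⟨y, hy⟩ : ∃ y, y ∉ LinearMap.range (LinearMap.pi w) := by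
    by_contra hcon
    push Not at hcon
    exact hr (eq_top_iff.2 fun y _ => hcon y)
  obtain ⟨φ, hφy, hφ⟩ := Submodule.exists_le_ker_of_notMem hy
  rw [Fintype.linearIndependent_iff] at hw
  have h0 := hw (fun i => φ (Pi.single i 1)) (by
    ext a
    have h1 : φ (LinearMap.pi w a) = 0 := hφ ⟨a, rfl⟩
    have h2 : LinearMap.pi w a = ∑ i, (w i a) • (Pi.single i (1 : k) : Fin n → k) := by
      funext j
      simp [Finset.sum_apply, Pi.single_apply]
    rw [h2, map_sum] at h1
    rw [LinearMap.sum_apply, LinearMap.zero_apply, ← h1]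
    refine Finset.sum_congr rfl fun i _ => ?_
    rw [map_smul, LinearMap.smul_apply, smul_eq_mul, smul_eq_mul, mul_comm])
  apply hφy
  have h2 : y = ∑ i, (y i) • (Pi.single i (1 : k) : Fin n → k) := by
    funext j
    simp [Finset.sum_apply, Pi.single_apply]
  rw [h2, map_sum]
  refine Finset.sum_eq_zero fun i _ => ?_
  rw [map_smul, h0 i, smul_zero]

end DualCoords

section JIdeal

variable {k : Type u} [Field k] {A : Type v} [CommRing A] [HopfAlgebra k A]

/-- the ideal of elements killed by all convolution powers of an ε-derivation `l` -/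
def derIdeal (l : A →ₗ[k] k) (hl : IsDer l) : Ideal A where
  carrier := {a | ∀ n : ℕ, ((toConv l) ^ n).ofConv a = 0}
  add_mem' := fun ha hb n => by rw [map_add, ha n, hb n, add_zero]
  zero_mem' := fun n => map_zero _
  smul_mem' := fun c a ha n => by
    rw [smul_eq_mul, mul_comm, hl.conv_pow_apply_mul]
    refine Finset.sum_eq_zero fun m _ => ?_
    rw [ha m, zero_mul, mul_zero]

lemma mem_derIdeal {l : A →ₗ[k] k} {hl : IsDer l} {a : A} :
    a ∈ derIdeal l hl ↔ ∀ n : ℕ, ((toConv l) ^ n).ofConv a = 0 := Iff.rfl

variable (p : ℕ) [hp : Fact p.Prime] [CharP k p]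
variable {l : A →ₗ[k] k} (hl : IsDer l) {c : k} (hlp : (toConv l) ^ p = c • toConv l)

include hlp in
omit hp [CharP k p] in
lemma conv_pow_reduce (n : ℕ) (hn : p ≤ n) : (toConv l) ^ n = c • (toConv l) ^ (n - p + 1) := by
  have h1 : n = (n - p) + p := by omega
  conv_lhs => rw [h1, pow_add, hlp, mul_smul_comm, ← pow_succ]

include hlp in
omit [CharP k p] in
lemma mem_derIdeal_of_lt {a : A} (h : ∀ i : Fin p, ((toConv l) ^ (i : ℕ)).ofConv a = 0) :
    a ∈ derIdeal l hl := by
  have hp2 : 2 ≤ p := hp.out.two_le
  intro n
  induction n using Nat.strong_induction_on with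
  | _ n ih =>
    by_cases hn : n < p
    · exact h ⟨n, hn⟩
    · push Not at hn
      rw [conv_pow_reduce p hlp n hn, WithConv.ofConv_smul, LinearMap.smul_apply,
        ih _ (by omega), smul_zero]

variable [Module.Finite k A] {x : A} (hx : Coalgebra.counit (R := k) x = 0) (hlx : l x = 1)

include hx hlx hlp in
theorem finrank_quotient_derIdeal :
    Module.finrank k (A ⧸ (derIdeal l hl).restrictScalars k) = p := by
  classical
  let v : Fin p → WithConv (A →ₗ[k] k) := fun i => (toConv l) ^ (i : ℕ)
  have hv : LinearIndependent k v :=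
    linearIndependent_conv_pow l hl p hx (by rw [hlx]; exact one_ne_zero)
  have hv' : LinearIndependent k (fun i => (v i).ofConv) :=
    hv.map' (WithConv.linearEquiv k (A →ₗ[k] k)).toLinearMap (LinearEquiv.ker _)
  have hsurj := pi_surjective_of_linearIndependent (fun i => (v i).ofConv) hv'
  have hker : LinearMap.ker (LinearMap.pi fun i => (v i).ofConv) =
      (derIdeal l hl).restrictScalars k := by
    ext a
    constructor
    · intro ha
      refine mem_derIdeal_of_lt p hl hlp fun i => ?_
      exact congrFun ha i
    · intro ha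
      funext i
      exact ha i
  have e := (LinearMap.pi fun i => (v i).ofConv).quotKerEquivOfSurjective hsurj
  have h1 := e.finrank_eq
  rw [Module.finrank_fin_fun] at h1
  rw [← h1, hker]

include hx hlx hlp in
theorem isHopfIdeal_derIdeal : (derIdeal l hl).IsHopfIdeal k := by
  classical
  let v : Fin p → WithConv (A →ₗ[k] k) := fun i => (toConv l) ^ (i : ℕ)
  have hv : LinearIndependent k v :=
    linearIndependent_conv_pow l hl p hx (by rw [hlx]; exact one_ne_zero)
  have hle : ∀ i, (derIdeal l hl).restrictScalars k ≤ LinearMap.ker (v i).ofConv :=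
    fun i a ha => ha i
  let vb : Fin p → ((A ⧸ (derIdeal l hl).restrictScalars k) →ₗ[k] k) :=
    fun i => ((derIdeal l hl).restrictScalars k).liftQ (v i).ofConv (hle i)
  have hvb : LinearIndependent k vb := by
    rw [Fintype.linearIndependent_iff]
    intro g hg
    rw [Fintype.linearIndependent_iff] at hv
    refine hv g ?_
    apply WithConv.ofConv_injective
    ext a
    have h1 := LinearMap.congr_fun hg (((derIdeal l hl).restrictScalars k).mkQ a)
    rw [LinearMap.sum_apply, LinearMap.zero_apply] at h1
    rw [WithConv.ofConv_sum, LinearMap.sum_apply, WithConv.ofConv_zero, LinearMap.zero_apply,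
      ← h1]
    refine Finset.sum_congr rfl fun i _ => ?_
    rfl
  have hfr := finrank_quotient_derIdeal p hl hlp hx hlx
  haveI : ((derIdeal l hl).restrictScalars k).IsCoideal := by
    refine ⟨?_, ?_⟩
    · intro a ha
      have h0 := ha 0
      rw [pow_zero] at h0
      exact h0
    · intro a ha
      apply tmul_eq_zero_of_forall_dual vb hvb hfr
      intro i j
      have h1 : ∀ i, vb i ∘ₗ ((derIdeal l hl).restrictScalars k).mkQ = (v i).ofConv := fun i => rfl
      have h2 : TensorProduct.map (vb i) (vb j)
          (TensorProduct.map ((derIdeal l hl).restrictScalars k).mkQ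
            ((derIdeal l hl).restrictScalars k).mkQ (Coalgebra.comul (R := k) a)) =
          TensorProduct.map (v i).ofConv (v j).ofConv (Coalgebra.comul (R := k) a) := by
        rw [← LinearMap.comp_apply, ← TensorProduct.map_comp, h1, h1]
      rw [h2]
      change ((v i) * (v j)).ofConv a = 0
      change ((toConv l) ^ (i : ℕ) * (toConv l) ^ (j : ℕ)).ofConv a = 0
      rw [← pow_add]
      exact ha _
  refine ⟨?_⟩
  intro a ha n
  rw [hl.conv_pow_apply_antipode, ha n, mul_zero]

end JIdeal

end Groth.Agent.Helper7.FGK
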