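import Mathlib
import Groth.Agent.Helper7.FGK25
import Groth.Agent.Helper7.FGK26
import Groth.Agent.Helper7.FGK28

/-!
# A non-reduced finite group scheme contains `μ_p` or `α_p`
-/

namespace Groth.Agent.Helper7.FGK

open TensorProduct WithConv

universe u v

section DerSub

variable {k : Type u} [Field k] {A : Type v} [CommRing A] [HopfAlgebra k A]

lemma IsDer.add {l l' : A →ₗ[k] k} (h : IsDer l) (h' : IsDer l') : IsDer (l + l') := by
  intro a b
  simp only [LinearMap.add_apply, h a b, h' a b]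
  ring

lemma isDer_zero : IsDer (0 : A →ₗ[k] k) := by
  intro a b
  simp

variable (k A) in
/-- the space of ε-derivations inside the dual convolution algebra -/
def derSubmodule : Submodule k (WithConv (A →ₗ[k] k)) where
  carrier := {φ | IsDer φ.ofConv}
  add_mem' := fun ha hb => IsDer.add ha hb
  zero_mem' := isDer_zero
  smul_mem' := fun c _ ha => IsDer.smul ha c

lemma mem_derSubmodule {φ : WithConv (A →ₗ[k] k)} :
    φ ∈ derSubmodule k A ↔ IsDer φ.ofConv := Iff.rfl

end DerSub

section EigenDer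

variable {k : Type u} [Field k] [IsAlgClosed k] {A : Type v} [CommRing A] [HopfAlgebra k A]
  [Module.Finite k A] [IsLocalRing A]
variable (p : ℕ) [hp : Fact p.Prime] [CharP k p]

open scoped IsMulCommutative in
/-- a local finite Hopf algebra of dimension `≥ 2` in characteristic `p` admits an ε-derivation
which is an eigenvector of the `p`-th power map -/
theorem exists_eigen_der (hA : 2 ≤ Module.finrank k A) :
    ∃ (l : A →ₗ[k] k) (c : k) (x : A), IsDer l ∧ (toConv l) ^ p = c • toConv l ∧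
      Coalgebra.counit (R := k) x = 0 ∧ l x = 1 := by
  classical
  obtain ⟨x₀, l₀, hx₀, hl₀, hlx₀⟩ := exists_coord_isDer (k := k) (A := A) hA
  let E : Subalgebra k (WithConv (A →ₗ[k] k)) := Algebra.adjoin k {toConv l₀}
  haveI : IsMulCommutative E := Algebra.isMulCommutative_adjoin k (by
    intro a ha b hb
    rw [Set.mem_singleton_iff] at ha hb
    rw [ha, hb])
  haveI : Module.Finite k (WithConv (A →ₗ[k] k)) := instFiniteDualConv
  haveI : Module.Finite k E := inferInstance
  let V : Submodule k E := (derSubmodule k A).comap E.val.toLinearMap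
  have hV : ∀ v ∈ V, v ^ p ∈ V := by
    intro v hv
    change IsDer ((v ^ p : E) : WithConv (A →ₗ[k] k)).ofConv
    rw [SubmonoidClass.coe_pow]
    exact isDer_conv_pow_p p hv
  have hV0 : V ≠ ⊥ := by
    intro h
    have hmem : (⟨toConv l₀, Algebra.subset_adjoin rfl⟩ : E) ∈ V := hl₀
    rw [h, Submodule.mem_bot] at hmem
    have h1 := congrArg (fun e : E => (e : WithConv (A →ₗ[k] k)).ofConv x₀) hmem
    simp only at h1
    change l₀ x₀ = 0 at h1
    rw [hlx₀] at h1
    exact one_ne_zero h1
  obtain ⟨u, huV, hu0, c, huc⟩ := exists_pow_eq_smul (k := k) (E := E) p V hV hV0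
  set l : A →ₗ[k] k := (u : WithConv (A →ₗ[k] k)).ofConv with hldef
  have hl : IsDer l := huV
  have hl0 : l ≠ 0 := by
    intro h
    apply hu0
    apply Subtype.ext
    apply WithConv.ofConv_injective
    exact h
  obtain ⟨a, ha⟩ : ∃ a, l a ≠ 0 := by
    by_contra hcon
    push Not at hcon
    exact hl0 (LinearMap.ext hcon)
  refine ⟨l, c, (l a)⁻¹ • (a - algebraMap k A (Coalgebra.counit (R := k) a)), hl, ?_, ?_, ?_⟩
  · have h1 := congrArg (fun e : E => (e : WithConv (A →ₗ[k] k))) huc
    simp only [SubmonoidClass.coe_pow] at h1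
    exact h1
  · rw [map_smul, map_sub, Bialgebra.counit_algebraMap, sub_self, smul_zero]
  · rw [map_smul, map_sub, Algebra.algebraMap_eq_smul_one, map_smul, hl.map_one, smul_zero,
      sub_zero, smul_eq_mul, inv_mul_cancel₀ ha]

/-- an infinitesimal group scheme of order `≥ 2` contains `μ_p` or `α_p` -/
theorem exists_surjective_of_isLocalRing (hA : 2 ≤ Module.finrank k A) :
    (∃ f : A →ₐc[k] MonoidAlgebra k (Multiplicative (ZMod p)), Function.Surjective f) ∨
      (∃ f : A →ₐc[k] AlphaP.A p k, Function.Surjective f) := by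
  classical
  obtain ⟨l, c, x, hl, hlp, hx, hlx⟩ := exists_eigen_der (k := k) (A := A) p hA
  set J : Ideal A := derIdeal l hl with hJ
  haveI hJH : J.IsHopfIdeal k := isHopfIdeal_derIdeal p hl hlp hx hlx
  have hfr : Module.finrank k (A ⧸ J) = p := by
    rw [← (Submodule.Quotient.restrictScalarsEquiv k J).finrank_eq]
    exact finrank_quotient_derIdeal p hl hlp hx hlx
  haveI : Nontrivial (A ⧸ J) :=
    Module.nontrivial_of_finrank_pos (R := k) (by rw [hfr]; exact hp.out.pos)
  haveI : IsLocalRing (A ⧸ J) :=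
    IsLocalRing.of_surjective' (Ideal.Quotient.mk J) Ideal.Quotient.mk_surjective
  rcases nonempty_bialgEquiv_of_isLocalRing p (k := k) (A := A ⧸ J) hfr with ⟨⟨e⟩⟩ | ⟨⟨e⟩⟩
  · left
    refine ⟨(e : (A ⧸ J) →ₐc[k] _).comp (Bialgebra.Quotient.mkBialgHom J), ?_⟩
    exact e.surjective.comp Ideal.Quotient.mk_surjective
  · right
    refine ⟨(e : (A ⧸ J) →ₐc[k] _).comp (Bialgebra.Quotient.mkBialgHom J), ?_⟩
    exact e.surjective.comp Ideal.Quotient.mk_surjective

end EigenDer

section Reduction

variable {k : Type u} [Field k] [IsAlgClosed k] {A : Type v} [CommRing A] [HopfAlgebra k A]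
  [Module.Finite k A]

/-- the identity component of a non-reduced finite group scheme is a nontrivial infinitesimal
group scheme -/
theorem exists_hopf_quotient_local (hA : ¬ IsReduced A) :
    ∃ I : Ideal A, I.IsHopfIdeal k ∧ IsLocalRing (A ⧸ I) ∧ 2 ≤ Module.finrank k (A ⧸ I) := by
  classical
  haveI : IsArtinianRing A := IsArtinianRing.of_finite k A
  set ε : A →ₐ[k] k := Bialgebra.counitAlgHom k A with hε
  set 𝔪 : Ideal A := RingHom.ker (ε : A →+* k) with h𝔪
  obtain ⟨N₀, hN₀⟩ : ∃ n, ∀ j, n ≤ j → 𝔪 ^ n = 𝔪 ^ j := by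
    have := IsArtinian.monotone_stabilizes (R := A) (M := A)
      ⟨fun j => OrderDual.toDual (𝔪 ^ j), fun i j hij => Ideal.pow_le_pow_right hij⟩
    obtain ⟨n, hn⟩ := this
    exact ⟨n, fun j hj => congrArg OrderDual.ofDual (hn j hj)⟩
  obtain ⟨N₂, hN₂⟩ := IsArtinianRing.isNilpotent_nilradical (R := A)
  set N := max (max N₀ N₂) 1 with hNdef
  have hN1 : 1 ≤ N := le_max_right _ _
  have hNN₀ : N₀ ≤ N := (le_max_left _ _).trans (le_max_left _ _)
  have hNN₂ : N₂ ≤ N := (le_max_right _ _).trans (le_max_left _ _)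
  have hstab : 𝔪 ^ (N + N) = 𝔪 ^ N := by
    rw [← hN₀ N hNN₀, ← hN₀ (N + N) (by omega)]
  have hnil : nilradical A ^ N = ⊥ := by
    rw [← Nat.sub_add_cancel hNN₂, pow_add, hN₂, Ideal.zero_eq_bot, Ideal.mul_bot]
  haveI hH : (𝔪 ^ N).IsHopfIdeal k := isHopfIdeal_pow N hN1 hstab
  have hloc : IsLocalRing (A ⧸ 𝔪 ^ N) := by
    refine isLocalRing_of_aug (Bialgebra.counitAlgHom k (A ⧸ 𝔪 ^ N)) ?_
    intro y hy
    obtain ⟨a, rfl⟩ := Ideal.Quotient.mk_surjective y
    have ha : a ∈ 𝔪 := by
      have : Coalgebra.counit (R := k) (Ideal.Quotient.mk (𝔪 ^ N) a) = 0 := hy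
      rw [Bialgebra.Quotient.counit_mk] at this
      exact this
    refine ⟨N, ?_⟩
    rw [← map_pow]
    exact Ideal.Quotient.eq_zero_iff_mem.2 (Ideal.pow_mem_pow ha N)
  refine ⟨𝔪 ^ N, hH, hloc, ?_⟩
  by_contra hlt
  push Not at hlt
  haveI := hloc
  have hpos : 0 < Module.finrank k (A ⧸ 𝔪 ^ N) := Module.finrank_pos
  have h1 : Module.finrank k (A ⧸ 𝔪 ^ N) = 1 := by omega
  have hcount := finrank_eq_card_mul (k := k) (A := A) N hnil
  rw [h1, mul_one] at hcount
  apply hA
  haveI : Fintype (WithConv (A →ₐ[k] k)) := Fintype.ofFinite _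
  set θ : WithConv (A →ₐ[k] k) →* WithConv (A →ₐ[k] k) := MonoidHom.id _ with hθ
  have hsurj := gelfand_surjective (k := k) (A := A) θ (fun _ _ h => h)
  have hfin : Module.finrank k A = Module.finrank k (ConstGrp.F k (WithConv (A →ₐ[k] k))) := by
    rw [Module.finrank_eq_card_basis (ConstGrp.basis k (WithConv (A →ₐ[k] k))), hcount,
      Nat.card_eq_fintype_card]
  have hinj : Function.Injective (gelfand θ) :=
    (LinearMap.injective_iff_surjective_of_finrank_eq_finrank
      (f := (gelfand θ : A →ₐ[k] ConstGrp.F k (WithConv (A →ₐ[k] k))).toLinearMap) hfin).2 hsurj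
  haveI : IsReduced (ConstGrp.F k (WithConv (A →ₐ[k] k))) :=
    inferInstanceAs (IsReduced (WithConv (A →ₐ[k] k) → k))
  exact isReduced_of_injective (gelfand θ) hinj

variable (p : ℕ) [hp : Fact p.Prime] [CharP k p]

/-- **A non-reduced finite group scheme over an algebraically closed field of characteristic `p`
contains `μ_p` or `α_p`.** -/
theorem exists_surjective_of_not_isReduced (hA : ¬ IsReduced A) :
    (∃ f : A →ₐc[k] MonoidAlgebra k (Multiplicative (ZMod p)), Function.Surjective f) ∨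
      (∃ f : A →ₐc[k] AlphaP.A p k, Function.Surjective f) := by
  classical
  obtain ⟨I, hI, hloc, h2⟩ := exists_hopf_quotient_local (k := k) hA
  haveI := hI
  haveI := hloc
  rcases exists_surjective_of_isLocalRing (k := k) (A := A ⧸ I) p h2 with ⟨f, hf⟩ | ⟨f, hf⟩
  · left
    exact ⟨f.comp (Bialgebra.Quotient.mkBialgHom I), hf.comp Ideal.Quotient.mk_surjective⟩
  · right
    exact ⟨f.comp (Bialgebra.Quotient.mkBialgHom I), hf.comp Ideal.Quotient.mk_surjective⟩

end Reduction

end Groth.Agent.Helper7.FGK
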