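import Mathlib
import Groth.Prelude.Def_W4c1liftfrobW2
import Groth.Agent.Lead.EtaleLift
import Groth.Agent.Helper6.W2

set_option linter.style.haveILetI false
set_option linter.unusedSectionVars false

namespace Groth.Agent.Helper7.FLift

universe u v

/-- the ring `S` with `B`-algebra structure twisted by `f : B →+* S`. -/
def Twist {B S : Type*} [CommRing B] [CommRing S] (_f : B →+* S) : Type _ := S

section Tw
variable {B S : Type*} [CommRing B] [CommRing S] (f : B →+* S)
instance : CommRing (Twist f) := inferInstanceAs (CommRing S)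
instance : Algebra B (Twist f) := f.toAlgebra
end Tw

/-- lifting ring homomorphisms out of a formally smooth algebra along a nilpotent ideal, with
a twisted base action. -/
theorem exists_lift_twist {B S : Type*} [CommRing B] [CommRing S] [Algebra B S]
    [Algebra.FormallySmooth B S] (f : B →+* S) (J : Ideal S) (hJ : IsNilpotent J)
    (g : S →+* S ⧸ J) (hg : ∀ b, g (algebraMap B S b) = Ideal.Quotient.mk J (f b)) :
    ∃ G : S →+* S, (∀ b, G (algebraMap B S b) = f b) ∧ ∀ s, Ideal.Quotient.mk J (G s) = g s := by
  let J' : Ideal (Twist f) := J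
  let g' : S →ₐ[B] (Twist f ⧸ J') :=
    { g with
      commutes' := fun b => hg b }
  let G' : S →ₐ[B] Twist f := Algebra.FormallySmooth.lift J' hJ g'
  refine ⟨G'.toRingHom, fun b => G'.commutes b, fun s => ?_⟩
  exact Algebra.FormallySmooth.mk_lift J' hJ g' s

open Groth.Agent.Helper6.W2 in
theorem ker_res_sq (p : ℕ) [Fact p.Prime] (k : Type u) [CommRing k] [CharP k p] :
    (RingHom.ker (FrobAlg.res p k)) ^ 2 = ⊥ := by
  rw [pow_two, eq_bot_iff, Ideal.mul_le]
  intro x hx y hy
  rw [RingHom.mem_ker, FrobAlg.res_apply] at hx hy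
  rw [eq_V2_of_coeff_zero p hx, eq_V2_of_coeff_zero p hy, V2_mul_V2]
  exact Ideal.zero_mem _

theorem main (p : ℕ) [Fact p.Prime] (k : Type u) [Field k] [CharP k p]
    (A C : Type v) [CommRing A] [CommRing C] [Algebra k A] [Algebra k C]
    [Algebra A C] [IsScalarTower k A C] [Algebra.Etale A C]
    (hA : FrobAlg.IsFLiftable p k A) : FrobAlg.IsFLiftable p k C := by
  obtain ⟨B, _, ι, π, Φ, h⟩ := hA
  letI : Algebra B A := π.toAlgebra
  letI : Algebra B C := ((algebraMap A C).comp π).toAlgebra
  haveI : IsScalarTower B A C := IsScalarTower.of_algebraMap_eq (fun _ => rfl)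
  obtain ⟨S, _, _, ψ, hS, hψsurj, hψker⟩ :=
    Groth.Agent.Lead.EtaleLift.exists_etale_lift' B A C h.surj
  have hkerπ : RingHom.ker (algebraMap B A) = Ideal.map ι (RingHom.ker (FrobAlg.res p k)) :=
    h.ker_eq
  set J : Ideal S := RingHom.ker ψ.toRingHom with hJdef
  have hJ : J = Ideal.map ((algebraMap B S).comp ι) (RingHom.ker (FrobAlg.res p k)) := by
    rw [hψker, hkerπ, Ideal.map_map]
  have hJ2 : J ^ 2 = ⊥ := by
    rw [hJ, ← Ideal.map_pow, ker_res_sq, Ideal.map_bot]
  have hJnil : IsNilpotent J := ⟨2, hJ2⟩
  -- the lift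
  have hlift : FrobAlg.IsLift p k C S ((algebraMap B S).comp ι) ψ.toRingHom := by
    refine ⟨?_, hψsurj, hJ, ?_⟩
    · refine RingHom.Flat.comp h.flat ?_
      rw [RingHom.flat_algebraMap_iff]
      infer_instance
    · ext w
      change ψ (algebraMap B S (ι w)) = algebraMap k C (FrobAlg.res p k w)
      rw [ψ.commutes]
      change algebraMap A C (π (ι w)) = _
      have := RingHom.congr_fun h.comm w
      change π (ι w) = algebraMap k A (FrobAlg.res p k w) at this
      rw [this, ← IsScalarTower.algebraMap_apply k A C]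
  rcases subsingleton_or_nontrivial C with hC | hC
  · -- degenerate case
    have hStop : J = ⊤ := by
      rw [Ideal.eq_top_iff_one, hJdef, RingHom.mem_ker]
      exact Subsingleton.elim _ _
    have hS0 : Subsingleton S := by
      have : (⊤ : Ideal S) = ⊥ := by
        rw [← hJ2, hStop, Ideal.top_pow]
      exact (Submodule.subsingleton_iff S).mp (subsingleton_of_bot_eq_top this.symm)
    refine ⟨S, inferInstance, (algebraMap B S).comp ι, ψ.toRingHom, RingHom.id S, hlift, ?_, ?_⟩
    · ext w
      exact Subsingleton.elim _ _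
    · intro b
      exact Subsingleton.elim _ _
  · haveI : CharP C p := charP_of_injective_algebraMap (algebraMap k C).injective p
    let e : S ⧸ J ≃+* C := RingHom.quotientKerEquivOfSurjective hψsurj
    have he : ∀ s : S, e (Ideal.Quotient.mk J s) = ψ s := fun s => rfl
    let g : S →+* S ⧸ J := (e.symm : C →+* S ⧸ J).comp ((frobenius C p).comp ψ.toRingHom)
    have hg : ∀ b, g (algebraMap B S b) = Ideal.Quotient.mk J ((algebraMap B S).comp Φ b) := by
      intro b
      apply e.injective
      change e (e.symm (frobenius C p (ψ (algebraMap B S b)))) = e (Ideal.Quotient.mk J _)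
      rw [e.apply_symm_apply, he, frobenius_def, ψ.commutes]
      change (algebraMap A C (π b)) ^ p = ψ (algebraMap B S (Φ b))
      rw [ψ.commutes]
      change _ = algebraMap A C (π (Φ b))
      rw [h.red, map_pow]
    obtain ⟨G, hG1, hG2⟩ := exists_lift_twist ((algebraMap B S).comp Φ) J hJnil g hg
    refine ⟨S, inferInstance, (algebraMap B S).comp ι, ψ.toRingHom, G, hlift, ?_, ?_⟩
    · ext w
      change G (algebraMap B S (ι w)) = algebraMap B S (ι (FrobAlg.sigma p k w))
      rw [hG1]
      change algebraMap B S (Φ (ι w)) = _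
      have := RingHom.congr_fun h.semi w
      change Φ (ι w) = ι (FrobAlg.sigma p k w) at this
      rw [this]
    · intro s
      have := hG2 s
      have h2 := congrArg e this
      rw [he] at h2
      change ψ (G s) = e (e.symm (frobenius C p (ψ s))) at h2
      rw [e.apply_symm_apply, frobenius_def] at h2
      exact h2

end Groth.Agent.Helper7.FLift
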