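import Mathlib

/-!
# Flat base change of a "free modulo `J`" presentation (helper7)

If the annihilator `(0 :_M J)` of a finitely generated ideal `J` is a free `R/J`-module on
elements `n i`, then for a flat `R`-algebra `S` the annihilator `(0 :_{S ⊗ M} JS)` is a free
`S/JS`-module on the elements `1 ⊗ n i`.  Everything is phrased elementwise.
-/

set_option autoImplicit false
set_option linter.unusedSectionVars false

namespace Groth.Agent.Helper7.FMod

open TensorProduct

universe u

section BaseChange

variable {R : Type u} {S : Type u} [CommRing R] [CommRing S] [Algebra R S]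
  {M : Type u} [AddCommGroup M] [Module R M] {ι : Type u} (J : Ideal R) (n : ι → M)

variable (R S) in
/-- the elements `1 ⊗ n i` -/
noncomputable def vv : ι → S ⊗[R] M := fun i => (1 : S) ⊗ₜ[R] n i

theorem vv_ann (hann : ∀ i, ∀ a ∈ J, a • n i = 0) (i : ι) (a : R) (ha : a ∈ J) :
    algebraMap R S a • vv R S n i = 0 := by
  unfold vv
  rw [TensorProduct.smul_tmul', smul_eq_mul, mul_one, Algebra.algebraMap_eq_smul_one,
    TensorProduct.smul_tmul, hann i a ha, TensorProduct.tmul_zero]

theorem smul_tmul_eq (s : S) (i : ι) : s ⊗ₜ[R] n i = s • vv R S n i := by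
  unfold vv
  rw [TensorProduct.smul_tmul', smul_eq_mul, mul_one]

variable [Module.Flat R S]

theorem vv_span (hJ : J.FG)
    (hspan : ∀ x : M, (∀ a ∈ J, a • x = 0) → ∃ c : ι →₀ R, x = Finsupp.linearCombination R n c)
    (t : S ⊗[R] M) (ht : ∀ a ∈ J, algebraMap R S a • t = 0) :
    ∃ c : ι →₀ S, t = Finsupp.linearCombination S (vv R S n) c := by
  classical
  obtain ⟨r, a, ha⟩ : ∃ (r : ℕ) (a : Fin r → R), Ideal.span (Set.range a) = J := by
    obtain ⟨s, hs⟩ := hJ
    refine ⟨s.card, fun k => (s.equivFin.symm k : R), ?_⟩
    rw [← hs]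
    congr 1
    ext x
    constructor
    · rintro ⟨k, rfl⟩
      exact (s.equivFin.symm k).2
    · intro hx
      exact ⟨s.equivFin ⟨x, hx⟩, by simp⟩
  let φ : M →ₗ[R] (Fin r → M) := LinearMap.pi fun k => LinearMap.lsmul R M (a k)
  have hex : Function.Exact (LinearMap.ker φ).subtype φ := LinearMap.exact_subtype_ker_map φ
  have hex' := Module.Flat.lTensor_exact S hex
  have hker : ∀ x : M, x ∈ LinearMap.ker φ → ∀ b ∈ J, b • x = 0 := by
    intro x hx b hb
    rw [LinearMap.mem_ker] at hx
    rw [← ha] at hb
    refine Submodule.span_induction (p := fun b _ => b • x = 0) ?_ ?_ ?_ ?_ hb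
    · rintro _ ⟨k, rfl⟩
      have := congrFun hx k
      exact this
    · exact zero_smul _ _
    · intro b c _ _ hb hc
      rw [add_smul, hb, hc, add_zero]
    · intro b c _ hc
      rw [smul_eq_mul, mul_smul, hc, smul_zero]
  have hφt : φ.lTensor S t = 0 := by
    apply (TensorProduct.piRight R R S (fun _ : Fin r => M)).injective
    rw [map_zero]
    funext k
    have key : ∀ t : S ⊗[R] M, (TensorProduct.piRight R R S (fun _ : Fin r => M))
        (φ.lTensor S t) k = algebraMap R S (a k) • t := by
      intro t
      induction t using TensorProduct.induction_on with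
      | zero => simp
      | tmul s m =>
        rw [LinearMap.lTensor_tmul, TensorProduct.piRight_apply, TensorProduct.piRightHom_tmul]
        show s ⊗ₜ[R] (a k • m) = _
        rw [TensorProduct.smul_tmul', smul_eq_mul, ← TensorProduct.smul_tmul,
          Algebra.smul_def, mul_comm]
      | add x y hx hy =>
        rw [map_add, map_add, Pi.add_apply, hx, hy, smul_add]
    rw [key t, Pi.zero_apply]
    apply ht
    rw [← ha]
    exact Ideal.subset_span ⟨k, rfl⟩
  obtain ⟨t', rfl⟩ := (hex' t).mp hφt
  have hmem : ∀ t' : S ⊗[R] (LinearMap.ker φ), (LinearMap.ker φ).subtype.lTensor S t' ∈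
      LinearMap.range (Finsupp.linearCombination S (vv R S n)) := by
    intro t'
    induction t' using TensorProduct.induction_on with
    | zero => rw [map_zero]; exact Submodule.zero_mem _
    | tmul s y =>
      obtain ⟨c, hc⟩ := hspan y.1 (hker y.1 y.2)
      rw [LinearMap.lTensor_tmul, Submodule.subtype_apply, hc, Finsupp.linearCombination_apply,
        Finsupp.sum, TensorProduct.tmul_sum]
      refine Submodule.sum_mem _ fun i _ => ?_
      rw [TensorProduct.tmul_smul, smul_tmul_eq]
      exact Submodule.smul_of_tower_mem _ (c i) (Submodule.smul_mem _ s ⟨Finsupp.single i 1, by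
        rw [Finsupp.linearCombination_single, one_smul]⟩)
    | add x y hx hy => rw [map_add]; exact Submodule.add_mem _ hx hy
  obtain ⟨c, hc⟩ := hmem t'
  exact ⟨c, hc.symm⟩

theorem vv_indep
    (hind : ∀ c : ι →₀ R, Finsupp.linearCombination R n c = 0 → ∀ i, c i ∈ J)
    (c : ι →₀ S) (hc : Finsupp.linearCombination S (vv R S n) c = 0) (i : ι) :
    c i ∈ J.map (algebraMap R S) := by
  classical
  have hex : Function.Exact (LinearMap.ker (Finsupp.linearCombination R n)).subtype
      (Finsupp.linearCombination R n) := LinearMap.exact_subtype_ker_map _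
  have hex' := @Module.Flat.lTensor_exact R S _ _ _ _
    (LinearMap.ker (Finsupp.linearCombination R n)) (ι →₀ R) M _ _ _ _ _ _ _ _ hex
  have h1 := LinearMap.congr_fun
    (Finsupp.linearCombination_one_tmul R S M ι (v := n)) c
  have h2 : (Finsupp.linearCombination R n).lTensor S ((TensorProduct.finsuppScalarRight R R S ι).symm c) = 0 := by
    have : (Finsupp.linearCombination S (vv R S n)) c = 0 := hc
    rw [← this]
    exact h1.symm
  obtain ⟨w, hw⟩ := (hex' _).mp h2
  have hcw : c = TensorProduct.finsuppScalarRight R R S ι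
      ((LinearMap.ker (Finsupp.linearCombination R n)).subtype.lTensor S w) := by
    rw [hw, LinearEquiv.apply_symm_apply]
  rw [hcw]
  clear hcw hw h2 h1 hc
  induction w using TensorProduct.induction_on with
  | zero => simp
  | tmul s κ =>
    rw [LinearMap.lTensor_tmul, TensorProduct.finsuppScalarRight_apply_tmul_apply,
      Submodule.subtype_apply, Algebra.smul_def]
    apply Ideal.mul_mem_right
    apply Ideal.mem_map_of_mem
    exact hind κ.1 κ.2 i
  | add x y hx hy =>
    rw [map_add, map_add, Finsupp.add_apply]
    exact Ideal.add_mem _ hx hy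

end BaseChange

end Groth.Agent.Helper7.FMod
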