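import Mathlib
import Groth.Agent.Helper7.FMod1
import Groth.Agent.Helper7.HKun5

/-!
# Modules with a Frobenius structure: the annihilators of Frobenius powers are free (helper7)
-/

set_option autoImplicit false
set_option linter.unusedSectionVars false

namespace Groth.Agent.Helper7.FMod

open TensorProduct Groth.Agent.Helper7.HKun

universe u

section Step

variable {R : Type u} [CommRing R] (σ : R →+* R)

/-- the identity `R → Tw σ` -/
def toT (r : R) : Tw σ := r

/-- the identity `Tw σ → R` -/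
def unT (s : Tw σ) : R := s

theorem unT_toT (r : R) : unT σ (toT σ r) = r := rfl

theorem toT_unT (s : Tw σ) : toT σ (unT σ s) = s := rfl

theorem toT_algebraMap (b : R) : algebraMap R (Tw σ) b = toT σ (σ b) := rfl

theorem unT_mem_map (J : Ideal R) (y : Tw σ) (hy : y ∈ J.map (algebraMap R (Tw σ))) :
    unT σ y ∈ J.map σ := by
  unfold Ideal.map at hy
  refine Submodule.span_induction (p := fun y _ => unT σ y ∈ J.map σ) ?_ ?_ ?_ ?_ hy
  · rintro _ ⟨b, hb, rfl⟩
    exact Ideal.mem_map_of_mem σ hb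
  · exact Ideal.zero_mem _
  · intro x y _ _ hx hy
    exact Ideal.add_mem _ hx hy
  · intro c x _ hx
    exact Ideal.mul_mem_left _ (unT σ c) hx

variable {M : Type u} [AddCommGroup M] [Module R M] {ι : Type u}
  (Θ : (Tw σ ⊗[R] M) ≃+ M) (hΘ : ∀ (r : R) (t : Tw σ ⊗[R] M), Θ (toT σ r • t) = r • Θ t)

/-- the identity `R ≃+ Tw σ` -/
def toTe : R ≃+ Tw σ where
  toFun := toT σ
  invFun := unT σ
  left_inv _ := rfl
  right_inv _ := rfl
  map_add' _ _ := rfl

/-- the identity `(ι →₀ R) ≃+ (ι →₀ Tw σ)` -/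
noncomputable def cT (ι : Type u) : (ι →₀ R) ≃+ (ι →₀ Tw σ) := Finsupp.mapRange.addEquiv (toTe σ)

theorem cT_single (i : ι) (a : R) : cT σ ι (Finsupp.single i a) = Finsupp.single i (toT σ a) := by
  unfold cT
  rw [Finsupp.mapRange.addEquiv_apply, Finsupp.mapRange_single]
  rfl

theorem cT_apply (c : ι →₀ R) (i : ι) : unT σ (cT σ ι c i) = c i := rfl

include hΘ in
theorem theta_linearCombination (v : ι → Tw σ ⊗[R] M) (c : ι →₀ R) :
    Θ (Finsupp.linearCombination (Tw σ) v (cT σ ι c)) =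
      Finsupp.linearCombination R (fun i => Θ (v i)) c := by
  induction c using Finsupp.induction_linear with
  | zero => rw [map_zero, map_zero, map_zero, map_zero]
  | add c d hc hd => rw [map_add, map_add, map_add, map_add, hc, hd]
  | single i a =>
    rw [cT_single, Finsupp.linearCombination_single, Finsupp.linearCombination_single, hΘ]

include hΘ in
theorem killed_of_map (J : Ideal R) (t : Tw σ ⊗[R] M)
    (ht : ∀ b ∈ J, algebraMap R (Tw σ) b • t = 0) (a : R) (ha : a ∈ J.map σ) :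
    a • Θ t = 0 := by
  unfold Ideal.map at ha
  refine Submodule.span_induction (p := fun a _ => a • Θ t = 0) ?_ ?_ ?_ ?_ ha
  · rintro _ ⟨b, hb, rfl⟩
    rw [← hΘ, ← toT_algebraMap, ht b hb, map_zero]
  · exact zero_smul _ _
  · intro x y _ _ hx hy
    rw [add_smul, hx, hy, add_zero]
  · intro c x _ hx
    rw [smul_eq_mul, mul_smul, hx, smul_zero]

include hΘ in
/-- **the inductive step**: Frobenius structure carries a free-mod-`J` presentation of `(0 :_M J)`
to a free-mod-`J^[p]` presentation of `(0 :_M J^[p])` -/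
theorem step (hσ : σ.Flat) (J : Ideal R) (hJ : J.FG) (n : ι → M)
    (hann : ∀ i, ∀ a ∈ J, a • n i = 0)
    (hspan : ∀ x : M, (∀ a ∈ J, a • x = 0) → ∃ c : ι →₀ R, x = Finsupp.linearCombination R n c)
    (hind : ∀ c : ι →₀ R, Finsupp.linearCombination R n c = 0 → ∀ i, c i ∈ J) :
    (∀ i, ∀ a ∈ J.map σ, a • Θ (vv R (Tw σ) n i) = 0) ∧
    (∀ x : M, (∀ a ∈ J.map σ, a • x = 0) →
      ∃ c : ι →₀ R, x = Finsupp.linearCombination R (fun i => Θ (vv R (Tw σ) n i)) c) ∧
    (∀ c : ι →₀ R, Finsupp.linearCombination R (fun i => Θ (vv R (Tw σ) n i)) c = 0 →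
      ∀ i, c i ∈ J.map σ) := by
  haveI : Module.Flat R (Tw σ) := hσ
  refine ⟨?_, ?_, ?_⟩
  · intro i a ha
    exact killed_of_map σ Θ hΘ J _ (fun b hb => vv_ann J n hann i b hb) a ha
  · intro x hx
    have ht : ∀ b ∈ J, algebraMap R (Tw σ) b • Θ.symm x = 0 := by
      intro b hb
      apply Θ.injective
      rw [toT_algebraMap, hΘ, map_zero, AddEquiv.apply_symm_apply]
      exact hx _ (Ideal.mem_map_of_mem σ hb)
    obtain ⟨c, hc⟩ := vv_span J n hJ hspan (Θ.symm x) ht
    refine ⟨(cT σ ι).symm c, ?_⟩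
    rw [← theta_linearCombination σ Θ hΘ, AddEquiv.apply_symm_apply, ← hc,
      AddEquiv.apply_symm_apply]
  · intro c hc i
    rw [← theta_linearCombination σ Θ hΘ] at hc
    have h0 : Finsupp.linearCombination (Tw σ) (vv R (Tw σ) n) (cT σ ι c) = 0 := by
      apply Θ.injective
      rw [hc, map_zero]
    have h1 := vv_indep J n hind _ h0 i
    have h2 := unT_mem_map σ J _ h1
    rw [cT_apply] at h2
    exact h2

end Step

end Groth.Agent.Helper7.FMod
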