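import Mathlib
import Groth.Agent.Helper7.FMod2

/-!
# Modules with a Frobenius structure, part 3: iteration, the socle, and the categorical
hypothesis (helper7)
-/

set_option autoImplicit false
set_option linter.unusedSectionVars false

namespace Groth.Agent.Helper7.FMod

open TensorProduct Groth.Agent.Helper7.HKun CategoryTheory

universe u

section Pres

variable {R : Type u} [CommRing R] {M : Type u} [AddCommGroup M] [Module R M] {ι : Type u}

/-- `(0 :_M J)` is a free `R/J`-module on the elements `n i` (elementwise form) -/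
structure Pres (J : Ideal R) (n : ι → M) : Prop where
  ann : ∀ i, ∀ a ∈ J, a • n i = 0
  span : ∀ x : M, (∀ a ∈ J, a • x = 0) → ∃ c : ι →₀ R, x = Finsupp.linearCombination R n c
  ind : ∀ c : ι →₀ R, Finsupp.linearCombination R n c = 0 → ∀ i, c i ∈ J

theorem pres_iterate [IsNoetherianRing R] (σ : R →+* R) (hσ : σ.Flat)
    (Θ : (Tw σ ⊗[R] M) ≃+ M) (hΘ : ∀ (r : R) (t : Tw σ ⊗[R] M), Θ (toT σ r • t) = r • Θ t)
    (J : Ideal R) (n : ι → M) (h : Pres J n) (e : ℕ) :
    ∃ n' : ι → M, Pres ((Ideal.map σ)^[e] J) n' := by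
  induction e with
  | zero => exact ⟨n, h⟩
  | succ e ih =>
    obtain ⟨n', hn'⟩ := ih
    rw [Function.iterate_succ_apply']
    obtain ⟨h1, h2, h3⟩ := step σ Θ hΘ hσ _ (IsNoetherian.noetherian _) n' hn'.ann hn'.span hn'.ind
    exact ⟨_, ⟨h1, h2, h3⟩⟩

/-- the socle is a free `R/m`-module -/
theorem exists_pres_socle [IsLocalRing R] :
    ∃ (ι : Type u) (n : ι → M), Pres (IsLocalRing.maximalIdeal R) n := by
  classical
  set m := IsLocalRing.maximalIdeal R with hm
  letI : Field (R ⧸ m) := Ideal.Quotient.field m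
  let Soc := Submodule.torsionBySet R M (m : Set R)
  let b := Module.Free.chooseBasis (R ⧸ m) Soc
  have key : ∀ c : Module.Free.ChooseBasisIndex (R ⧸ m) Soc →₀ R,
      Finsupp.linearCombination (R ⧸ m) b (Finsupp.mapRange (Ideal.Quotient.mk m) (map_zero _) c) =
        Finsupp.linearCombination R b c := by
    intro c
    induction c using Finsupp.induction_linear with
    | zero => rw [Finsupp.mapRange_zero, map_zero, map_zero]
    | add c d hc hd =>
      rw [Finsupp.mapRange_add (map_add _), map_add, map_add, hc, hd]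
    | single i a =>
      rw [Finsupp.mapRange_single, Finsupp.linearCombination_single,
        Finsupp.linearCombination_single, Submodule.torsionBySet.mk_smul]
  have key2 : ∀ c : Module.Free.ChooseBasisIndex (R ⧸ m) Soc →₀ R,
      ((Finsupp.linearCombination R b c : Soc) : M) =
        Finsupp.linearCombination R (fun i => (b i : M)) c := by
    intro c
    exact Finsupp.apply_linearCombination R Soc.subtype b c
  refine ⟨Module.Free.ChooseBasisIndex (R ⧸ m) Soc, fun i => (b i : M), ⟨?_, ?_, ?_⟩⟩
  · intro i a ha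
    exact (Submodule.mem_torsionBySet_iff _ _).mp (b i).2 ⟨a, ha⟩
  · intro x hx
    have hxS : x ∈ Soc := (Submodule.mem_torsionBySet_iff _ _).mpr fun a => hx a.1 a.2
    obtain ⟨c, hc⟩ := Finsupp.mapRange_surjective (α := Module.Free.ChooseBasisIndex (R ⧸ m) Soc)
      (Ideal.Quotient.mk m) (map_zero _) Ideal.Quotient.mk_surjective (b.repr ⟨x, hxS⟩)
    refine ⟨c, ?_⟩
    rw [← key2, ← key, hc, b.linearCombination_repr]
  · intro c hc i
    rw [← key2] at hc
    have h0 : Finsupp.linearCombination R b c = 0 := Subtype.ext hc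
    rw [← key] at h0
    have h1 := (linearIndependent_iff.mp b.linearIndependent) _ h0
    have h2 : (Finsupp.mapRange (Ideal.Quotient.mk m) (map_zero _) c) i = 0 := by
      rw [h1]; rfl
    rw [Finsupp.mapRange_apply] at h2
    exact Ideal.Quotient.eq_zero_iff_mem.mp h2

end Pres

section Cat

variable {R : Type u} [CommRing R] (σ : R →+* R) (M : Type u) [AddCommGroup M] [Module R M]

open ChangeOfRings

set_option backward.isDefEq.respectTransparency false in
/-- the identity, from `Tw σ` to `R` with scalars restricted along `σ` -/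
noncomputable def eX : Tw σ ≃ₗ[R] ((ModuleCat.restrictScalars σ).obj (ModuleCat.of R R)) where
  toFun s := (s : R)
  invFun s := (s : R)
  map_add' _ _ := rfl
  map_smul' _ _ := rfl
  left_inv _ := rfl
  right_inv _ := rfl

set_option backward.isDefEq.respectTransparency false in
/-- the categorical Frobenius hypothesis, in elementary form -/
theorem exists_theta
    (h : Nonempty ((ModuleCat.extendScalars σ).obj (ModuleCat.of R M) ≅ ModuleCat.of R M)) :
    ∃ Θ : (Tw σ ⊗[R] M) ≃+ M, ∀ (r : R) (t : Tw σ ⊗[R] M), Θ (toT σ r • t) = r • Θ t := by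
  obtain ⟨i⟩ := h
  let Φ : (Tw σ ⊗[R] M) ≃ₗ[R]
      (((ModuleCat.restrictScalars σ).obj (ModuleCat.of R R)) ⊗[R] M) :=
    TensorProduct.congr (eX σ) (LinearEquiv.refl R M)
  let Ψ : ((ModuleCat.extendScalars σ).obj (ModuleCat.of R M)) ≃+ M :=
    i.toLinearEquiv.toAddEquiv
  refine ⟨Φ.toAddEquiv.trans Ψ, ?_⟩
  intro r t
  induction t using TensorProduct.induction_on with
  | zero => rw [smul_zero, map_zero, smul_zero]
  | tmul s m =>
    rw [TensorProduct.smul_tmul']
    have h1 : (Φ.toAddEquiv.trans Ψ) ((toT σ r • s) ⊗ₜ[R] m) =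
        i.hom.hom (Φ ((toT σ r • s) ⊗ₜ[R] m)) := rfl
    have h2 : (Φ.toAddEquiv.trans Ψ) (s ⊗ₜ[R] m) = i.hom.hom (Φ (s ⊗ₜ[R] m)) := rfl
    rw [h1, h2, ← map_smul]
    congr 1
  | add x y hx hy => rw [smul_add, map_add, map_add, hx, hy, smul_add]

end Cat

end Groth.Agent.Helper7.FMod
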