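import Mathlib
import Groth.Agent.Helper7.KzFl1
import Groth.Agent.Helper5.RegLoc1
import Groth.Agent.Helper3.GorKos
import Groth.Agent.Helper6.Bass5
import Groth.Agent.S0342

/-!
# The Frobenius powers of the maximal ideal of a regular local ring have self-injective
quotients (helper7)
-/

set_option autoImplicit false
set_option linter.unusedSectionVars false

namespace Groth.Agent.Helper7.FMod

open IsLocalRing RingTheory.Sequence CategoryTheory

universe u

section SelfInj

variable (p : ℕ) [Fact p.Prime] (R : Type u) [CommRing R] [IsRegularLocalRing R] [CharP R p]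

theorem iterate_map_frobenius_span {d : ℕ} (x : Fin d → R) (e : ℕ) :
    (Ideal.map (frobenius R p))^[e] (Ideal.span (Set.range x)) =
      Ideal.span (Set.range fun k => x k ^ p ^ e) := by
  induction e with
  | zero =>
    simp only [pow_zero, pow_one, Function.iterate_zero, id_eq]
  | succ e ih =>
    rw [Function.iterate_succ_apply', ih, Ideal.map_span]
    congr 1
    ext y
    constructor
    · rintro ⟨_, ⟨k, rfl⟩, rfl⟩
      exact ⟨k, by rw [frobenius_def, ← pow_mul, ← pow_succ]⟩
    · rintro ⟨k, rfl⟩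
      exact ⟨_, ⟨k, rfl⟩, by rw [frobenius_def, ← pow_mul, ← pow_succ]⟩

/-- `R/m^[q]` is self-injective for a regular local ring `R` -/
theorem injective_quot_frobPow (e : ℕ) :
    Module.Injective (R ⧸ (Ideal.map (frobenius R p))^[e] (maximalIdeal R))
      (R ⧸ (Ideal.map (frobenius R p))^[e] (maximalIdeal R)) := by
  classical
  have hfg : (maximalIdeal R).FG := IsNoetherian.noetherian _
  obtain ⟨s, hcard, hspan⟩ := Submodule.FG.exists_span_finset_card_eq_spanFinrank hfg
  set d := s.card with hd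
  let x : Fin d → R := fun k => (s.equivFin.symm k : R)
  have hrange : Set.range x = (s : Set R) := by
    ext y
    constructor
    · rintro ⟨k, rfl⟩
      exact (s.equivFin.symm k).2
    · intro hy
      exact ⟨s.equivFin ⟨y, hy⟩, by simp [x]⟩
  have hm : maximalIdeal R = Ideal.span (Set.range x) := by
    rw [hrange]; exact hspan.symm
  have hxm : ∀ k, x k ∈ maximalIdeal R := fun k => by
    rw [hm]; exact Ideal.subset_span ⟨k, rfl⟩
  have hpe : 0 < p ^ e := Nat.pos_of_ne_zero (pow_ne_zero _ (Fact.out : p.Prime).ne_zero)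
  set xs : List R := List.ofFn fun k => x k ^ p ^ e with hxs
  have hof : Ideal.ofList xs = Ideal.span (Set.range fun k => x k ^ p ^ e) := by
    unfold Ideal.ofList
    congr 1
    ext a
    simp [xs, List.mem_ofFn]
  have hJ : (Ideal.map (frobenius R p))^[e] (maximalIdeal R) = Ideal.ofList xs := by
    rw [hof, hm, iterate_map_frobenius_span]
  rw [hJ]
  have mem : ∀ y ∈ xs, y ∈ maximalIdeal R := by
    intro y hy
    rw [hxs, List.mem_ofFn] at hy
    obtain ⟨k, rfl⟩ := hy
    exact Ideal.pow_mem_of_mem _ (hxm k) _ hpe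
  have hle : Ideal.ofList xs ≤ maximalIdeal R := by
    unfold Ideal.ofList
    rw [Ideal.span_le]
    intro y hy
    exact mem y hy
  have hne : Ideal.ofList xs ≠ ⊤ := fun h => by
    rw [h] at hle
    exact (maximalIdeal.isMaximal R).ne_top (top_le_iff.mp hle)
  have hrad : ∀ y ∈ maximalIdeal R, ∃ n : ℕ, y ^ n ∈ Ideal.ofList xs := by
    have h1 : maximalIdeal R ≤ (Ideal.ofList xs).radical := by
      rw [hm, Ideal.span_le]
      rintro _ ⟨k, rfl⟩
      refine ⟨p ^ e, ?_⟩
      rw [hof]
      exact Ideal.subset_span ⟨k, rfl⟩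
    intro y hy
    exact h1 hy
  have hdim0 : ringKrullDim (R ⧸ Ideal.ofList xs) = 0 :=
    Groth.Agent.Helper7.KzFl.ringKrullDim_quot_eq_zero _ hne hrad
  have hCM : LocCoh.IsCohenMacaulayLocalRing R :=
    { supportDim_eq_depth := Groth.Agent.Helper2.RegCM.cm_of_isRegularLocalRing R }
  have hlen : xs.length = d := by rw [hxs, List.length_ofFn]
  have hreg : IsRegular R xs := by
    rw [Groth.Agent.Helper5.RegLoc.isRegular_iff_dim R hCM xs mem, hdim0, zero_add, hlen,
      ← IsRegularLocalRing.spanFinrank_maximalIdeal, ← hcard]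
  haveI hG : LocCoh.IsGorensteinLocalRing (R ⧸ Ideal.ofList xs) :=
    Groth.Agent.Helper3.GorKos.gorLocal_quot_of_isWeaklyRegular d R
      (Groth.Agent.S0342.result R) xs hlen hreg.toIsWeaklyRegular mem
  have hdim0' : ringKrullDim (R ⧸ Ideal.ofList xs) = ((0 : ℕ) : WithBot ℕ∞) := by
    rw [hdim0]; rfl
  obtain ⟨-, hvan⟩ := Groth.Agent.Helper6.Bass.gorenstein_top (A := R ⧸ Ideal.ofList xs) 0 hdim0'
  have h1 : HasInjectiveDimensionLT
      (ModuleCat.of (R ⧸ Ideal.ofList xs) (R ⧸ Ideal.ofList xs)) 1 :=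
    Groth.Agent.Helper6.Bass.hasInjectiveDimensionLT_of_ext_residueField
      (R ⧸ Ideal.ofList xs) 0 (fun i hi => hvan _ i hi)
  haveI : Injective (ModuleCat.of (R ⧸ Ideal.ofList xs) (R ⧸ Ideal.ofList xs)) :=
    injective_iff_hasInjectiveDimensionLT_one.mpr h1
  exact Module.injective_module_of_injective_object (R ⧸ Ideal.ofList xs) (R ⧸ Ideal.ofList xs)

end SelfInj

end Groth.Agent.Helper7.FMod
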