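import Mathlib
import Groth.Agent.Helper7.FMod3

/-!
# A torsion module whose annihilator layers are free over self-injective quotients is
injective (helper7)
-/

set_option autoImplicit false
set_option linter.unusedSectionVars false

namespace Groth.Agent.Helper7.FMod

universe u

section Coord

variable {R : Type u} [CommRing R] (J : Ideal R)

/-- extension of maps from ideals into the self-injective quotient `R/J` -/
theorem exists_mul_of_selfInjective (hinj : Module.Injective (R ⧸ J) (R ⧸ J)) (I : Ideal R)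
    (h : I →ₗ[R] R ⧸ J) (h0 : ∀ (x : R) (hx : x ∈ I), x ∈ J → h ⟨x, hx⟩ = 0) :
    ∃ a : R, ∀ (x : R) (hx : x ∈ I), h ⟨x, hx⟩ = Ideal.Quotient.mk J (a * x) := by
  classical
  let I' : Ideal (R ⧸ J) := I.map (Ideal.Quotient.mk J)
  have hpre : ∀ y : I', ∃ x, x ∈ I ∧ Ideal.Quotient.mk J x = y.1 := fun y =>
    (Ideal.mem_map_iff_of_surjective _ Ideal.Quotient.mk_surjective).mp y.2
  choose pre hpreI hpre_eq using hpre
  have hwd : ∀ (y : I') (x : R) (hx : x ∈ I), Ideal.Quotient.mk J x = y.1 →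
      h ⟨x, hx⟩ = h ⟨pre y, hpreI y⟩ := by
    intro y x hx hxy
    have hsub : x - pre y ∈ J := by
      rw [← Ideal.Quotient.eq_zero_iff_mem, map_sub, hxy, hpre_eq, sub_self]
    have := h0 (x - pre y) (I.sub_mem hx (hpreI y)) hsub
    have h2 : (⟨x - pre y, I.sub_mem hx (hpreI y)⟩ : I) = ⟨x, hx⟩ - ⟨pre y, hpreI y⟩ := rfl
    rw [h2, map_sub, sub_eq_zero] at this
    exact this
  let g' : I' →ₗ[R ⧸ J] (R ⧸ J) :=
    { toFun := fun y => h ⟨pre y, hpreI y⟩
      map_add' := fun y z => by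
        have := hwd (y + z) (pre y + pre z) (I.add_mem (hpreI y) (hpreI z)) (by
          rw [map_add, hpre_eq, hpre_eq]; rfl)
        rw [← this]
        exact map_add h ⟨pre y, hpreI y⟩ ⟨pre z, hpreI z⟩
      map_smul' := fun a y => by
        obtain ⟨r, rfl⟩ := Ideal.Quotient.mk_surjective a
        have := hwd (Ideal.Quotient.mk J r • y) (r * pre y) (I.mul_mem_left r (hpreI y)) (by
          rw [map_mul, hpre_eq]; rfl)
        rw [← this, RingHom.id_apply]
        exact map_smul h r ⟨pre y, hpreI y⟩ }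
  obtain ⟨g'', hg''⟩ := Module.Baer.of_injective hinj I' g'
  obtain ⟨a, ha⟩ := Ideal.Quotient.mk_surjective (g'' 1)
  refine ⟨a, fun x hx => ?_⟩
  have hxI' : Ideal.Quotient.mk J x ∈ I' := Ideal.mem_map_of_mem _ hx
  have h1 := hg'' _ hxI'
  have h2 : g' ⟨Ideal.Quotient.mk J x, hxI'⟩ = h ⟨x, hx⟩ := (hwd ⟨_, hxI'⟩ x hx rfl).symm
  rw [← h2, ← h1]
  have h3 : g'' (Ideal.Quotient.mk J x) = Ideal.Quotient.mk J x • g'' 1 := by
    rw [← map_smul, smul_eq_mul, mul_one]
  rw [h3, ← ha, smul_eq_mul, ← map_mul, mul_comm]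

variable {M : Type u} [AddCommGroup M] [Module R M] {ι : Type u}

theorem lc_eq_zero_of_mem {n : ι → M} (hP : Pres J n) (d : ι →₀ R) (hd : ∀ i, d i ∈ J) :
    Finsupp.linearCombination R n d = 0 := by
  rw [Finsupp.linearCombination_apply, Finsupp.sum]
  exact Finset.sum_eq_zero fun i _ => hP.ann i _ (hd i)

/-- maps from ideals into `(0 :_M J)` that kill `I ⊓ J` are multiplications -/
theorem exists_smul_of_pres (hinj : Module.Injective (R ⧸ J) (R ⧸ J)) (n : ι → M) (hP : Pres J n)
    (I : Ideal R) (hI : I.FG) (g : I →ₗ[R] M)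
    (hgJ : ∀ (x : I), ∀ a ∈ J, a • g x = 0)
    (hg0 : ∀ (x : R) (hx : x ∈ I), x ∈ J → g ⟨x, hx⟩ = 0) :
    ∃ w : M, ∀ (x : R) (hx : x ∈ I), g ⟨x, hx⟩ = x • w := by
  classical
  obtain ⟨s, rfl⟩ := hI
  have hc : ∀ x : Ideal.span (s : Set R), ∃ c : ι →₀ R, g x = Finsupp.linearCombination R n c :=
    fun x => hP.span _ (hgJ x)
  choose c hc using hc
  have huniq : ∀ (c₁ c₂ : ι →₀ R), Finsupp.linearCombination R n c₁ =
      Finsupp.linearCombination R n c₂ → ∀ i, c₁ i - c₂ i ∈ J := by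
    intro c₁ c₂ h i
    have := hP.ind (c₁ - c₂) (by rw [map_sub, h, sub_self]) i
    rwa [Finsupp.sub_apply] at this
  let hcoord : ι → (Ideal.span (s : Set R) →ₗ[R] R ⧸ J) := fun i =>
    { toFun := fun x => Ideal.Quotient.mk J (c x i)
      map_add' := fun x y => by
        rw [← map_add, ← sub_eq_zero, ← map_sub, Ideal.Quotient.eq_zero_iff_mem]
        have := huniq (c (x + y)) (c x + c y) (by rw [← hc, map_add, map_add, ← hc, ← hc]) i
        rwa [Finsupp.add_apply] at this
      map_smul' := fun r x => by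
        rw [RingHom.id_apply, Algebra.smul_def, Ideal.Quotient.algebraMap_eq, ← map_mul,
          ← sub_eq_zero, ← map_sub, Ideal.Quotient.eq_zero_iff_mem]
        have := huniq (c (r • x)) (r • c x) (by rw [← hc, map_smul, map_smul, ← hc]) i
        rwa [Finsupp.smul_apply, smul_eq_mul] at this }
  have hcoord_apply : ∀ i x, hcoord i x = Ideal.Quotient.mk J (c x i) := fun _ _ => rfl
  have hcoord0 : ∀ i (x : R) (hx : x ∈ Ideal.span (s : Set R)), x ∈ J → hcoord i ⟨x, hx⟩ = 0 := by
    intro i x hx hxJ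
    rw [hcoord_apply, Ideal.Quotient.eq_zero_iff_mem]
    exact hP.ind _ (by rw [← hc, hg0 x hx hxJ]) i
  have hex : ∀ i, ∃ a : R, ∀ (x : R) (hx : x ∈ Ideal.span (s : Set R)),
      hcoord i ⟨x, hx⟩ = Ideal.Quotient.mk J (a * x) :=
    fun i => exists_mul_of_selfInjective J hinj _ (hcoord i) (hcoord0 i)
  choose a ha using hex
  have hsI : ∀ y ∈ s, y ∈ Ideal.span (s : Set R) := fun y hy => Ideal.subset_span hy
  let S : Finset ι := s.attach.biUnion (fun y => (c ⟨y.1, hsI y.1 y.2⟩).support)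
  have hout : ∀ i, i ∉ S → ∀ x : Ideal.span (s : Set R), c x i ∈ J := by
    intro i hi
    have hz : ∀ (x : R) (hx : x ∈ Ideal.span (s : Set R)), hcoord i ⟨x, hx⟩ = 0 := by
      intro x hx
      refine Submodule.span_induction (p := fun x hx => hcoord i ⟨x, hx⟩ = 0) ?_ ?_ ?_ ?_ hx
      · intro y hy
        rw [hcoord_apply]
        have : c ⟨y, Ideal.subset_span hy⟩ i = 0 := by
          by_contra hne
          exact hi (Finset.mem_biUnion.mpr ⟨⟨y, hy⟩, Finset.mem_attach _ _,
            Finsupp.mem_support_iff.mpr hne⟩)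
        rw [this, map_zero]
      · exact map_zero (hcoord i)
      · intro x y hx hy hx' hy'
        have : (⟨x + y, Submodule.add_mem _ hx hy⟩ : Ideal.span (s : Set R)) =
            ⟨x, hx⟩ + ⟨y, hy⟩ := rfl
        rw [this, map_add, hx', hy', add_zero]
      · intro r x hx hx'
        have : (⟨r • x, Submodule.smul_mem _ r hx⟩ : Ideal.span (s : Set R)) = r • ⟨x, hx⟩ := rfl
        rw [this, map_smul, hx', smul_zero]
    intro x
    have := hz x.1 x.2
    rw [hcoord_apply] at this
    exact Ideal.Quotient.eq_zero_iff_mem.mp this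
  refine ⟨∑ i ∈ S, a i • n i, fun x hx => ?_⟩
  let c' : ι →₀ R := Finsupp.onFinset S (fun i => if i ∈ S then a i * x else 0) (by
    intro i hi
    by_contra hiS
    exact hi (if_neg hiS))
  have hc' : Finsupp.linearCombination R n c' = x • ∑ i ∈ S, a i • n i := by
    rw [Finsupp.linearCombination_onFinset, Finset.smul_sum]
    refine Finset.sum_congr rfl fun i hi => ?_
    rw [if_pos hi, smul_smul, mul_comm]
  rw [← hc', hc, ← sub_eq_zero, ← map_sub]
  apply lc_eq_zero_of_mem J hP
  intro i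
  rw [Finsupp.sub_apply, Finsupp.onFinset_apply]
  by_cases hi : i ∈ S
  · rw [if_pos hi, ← Ideal.Quotient.eq_zero_iff_mem, map_sub, sub_eq_zero, ← ha i x hx,
      hcoord_apply]
  · rw [if_neg hi, sub_zero]
    exact hout i hi _

end Coord

end Groth.Agent.Helper7.FMod
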