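import Mathlib
import Groth.Agent.Helper7.FMod5

/-!
# Baer's criterion for a torsion module with free layers (helper7)
-/

set_option autoImplicit false
set_option linter.unusedSectionVars false

namespace Groth.Agent.Helper7.FMod

open IsLocalRing

universe u

section Baer

variable {R : Type u} [CommRing R] [IsNoetherianRing R] [IsLocalRing R]
  {M : Type u} [AddCommGroup M] [Module R M] {ι : Type u}

theorem injective_of_layers
    (hM : ∀ y : M, ∃ t : ℕ, ∀ a ∈ maximalIdeal R ^ t, a • y = 0)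
    (Jf : ℕ → Ideal R)
    (hcof : ∀ t : ℕ, ∃ e, Jf e ≤ maximalIdeal R ^ t)
    (hinj : ∀ e, Module.Injective (R ⧸ Jf e) (R ⧸ Jf e))
    (hP : ∀ e, ∃ n : ι → M, Pres (Jf e) n) :
    Module.Injective R M := by
  apply Module.Baer.injective
  intro I g
  set m := maximalIdeal R with hm
  have hfg : (LinearMap.range g).FG := by
    rw [LinearMap.range_eq_map]
    exact Submodule.FG.map _ ((Submodule.fg_top I).mpr (IsNoetherian.noetherian I))
  have h1 : ∃ t : ℕ, ∀ y ∈ LinearMap.range g, ∀ a ∈ m ^ t, a • y = 0 := by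
    refine Submodule.fg_induction
      (motive := fun N _ => ∃ t : ℕ, ∀ y ∈ N, ∀ a ∈ m ^ t, a • y = 0) ?_ ?_ _ hfg
    · intro y
      obtain ⟨t, ht⟩ := hM y
      refine ⟨t, fun z hz a ha => ?_⟩
      obtain ⟨r, rfl⟩ := Submodule.mem_span_singleton.mp hz
      rw [smul_comm, ht a ha, smul_zero]
    · rintro N₁ N₂ _ _ ⟨t₁, h₁⟩ ⟨t₂, h₂⟩
      refine ⟨max t₁ t₂, fun y hy a ha => ?_⟩
      obtain ⟨y₁, hy₁, y₂, hy₂, rfl⟩ := Submodule.mem_sup.mp hy
      rw [smul_add, h₁ y₁ hy₁ a (Ideal.pow_le_pow_right (le_max_left _ _) ha),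
        h₂ y₂ hy₂ a (Ideal.pow_le_pow_right (le_max_right _ _) ha), add_zero]
  obtain ⟨t, ht⟩ := h1
  obtain ⟨k, hk⟩ := Ideal.exists_pow_inf_eq_pow_smul m (I : Submodule R R)
  have hAR : ∀ x, x ∈ I → x ∈ m ^ (k + t) → ∃ hx : x ∈ I, g ⟨x, hx⟩ = 0 := by
    intro x hxI hxm
    have h2 : x ∈ m ^ (k + t) • (⊤ : Submodule R R) ⊓ I := by
      refine ⟨?_, hxI⟩
      rw [smul_eq_mul, Ideal.mul_top]
      exact hxm
    rw [hk (k + t) (Nat.le_add_right _ _), Nat.add_sub_cancel_left] at h2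
    refine Submodule.smul_induction_on h2 ?_ ?_
    · intro a ha y hy
      have hyI : y ∈ I := hy.2
      refine ⟨I.mul_mem_left a hyI, ?_⟩
      have : (⟨a • y, I.mul_mem_left a hyI⟩ : I) = a • ⟨y, hyI⟩ := rfl
      rw [this, map_smul]
      exact ht _ ⟨_, rfl⟩ a ha
    · rintro x y ⟨hx, hx'⟩ ⟨hy, hy'⟩
      refine ⟨I.add_mem hx hy, ?_⟩
      have : (⟨x + y, I.add_mem hx hy⟩ : I) = ⟨x, hx⟩ + ⟨y, hy⟩ := rfl
      rw [this, map_add, hx', hy', add_zero]
  obtain ⟨e, he⟩ := hcof (k + t)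
  obtain ⟨n, hn⟩ := hP e
  have hJt : Jf e ≤ m ^ t := he.trans (Ideal.pow_le_pow_right (Nat.le_add_left _ _))
  obtain ⟨w, hw⟩ := exists_smul_of_pres (Jf e) (hinj e) n hn I (IsNoetherian.noetherian I) g
    (fun x a ha => ht _ ⟨x, rfl⟩ a (hJt ha))
    (fun x hx hxJ => (hAR x hx (he hxJ)).2)
  exact ⟨LinearMap.toSpanSingleton R M w, fun x mem => by
    rw [LinearMap.toSpanSingleton_apply, hw x mem]⟩

end Baer

end Groth.Agent.Helper7.FMod
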