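import Mathlib
import Groth.Agent.Helper7.FMod3
import Groth.Agent.S0300
import Groth.Agent.S0303
import Groth.Agent.S0311

/-!
# Injective torsion modules over a Noetherian local ring are direct sums of copies of `E`
(helper7)
-/

set_option autoImplicit false
set_option linter.unusedSectionVars false

namespace Groth.Agent.Helper7.FMod

open IsLocalRing

universe u

section Struct

variable {R : Type u} [CommRing R] [IsNoetherianRing R] [IsLocalRing R]

/-- a nonzero element of a torsion module has a nonzero multiple in the socle -/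
theorem exists_socle_multiple {N : Type u} [AddCommGroup N] [Module R N]
    (hN : ∀ y : N, ∃ t : ℕ, ∀ a ∈ maximalIdeal R ^ t, a • y = 0) (y : N) (hy : y ≠ 0) :
    ∃ r : R, r • y ≠ 0 ∧ ∀ a ∈ maximalIdeal R, a • (r • y) = 0 := by
  classical
  have hex := hN y
  set t := Nat.find hex with ht
  have htspec := Nat.find_spec hex
  have ht0 : t ≠ 0 := by
    intro h0
    have := htspec 1 (by rw [← ht, h0, pow_zero, Ideal.one_eq_top]; trivial)
    rw [one_smul] at this
    exact hy this
  obtain ⟨t', ht'⟩ := Nat.exists_eq_succ_of_ne_zero ht0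
  have hmin : ¬ ∀ a ∈ maximalIdeal R ^ t', a • y = 0 :=
    Nat.find_min hex (by rw [← ht, ht']; exact Nat.lt_succ_self t')
  push Not at hmin
  obtain ⟨r, hr, hry⟩ := hmin
  refine ⟨r, hry, fun a ha => ?_⟩
  rw [smul_smul]
  apply htspec
  rw [← ht, ht', pow_succ']
  exact Ideal.mul_mem_mul ha hr

variable {E : Type u} [AddCommGroup E] [Module R E] (f : ResidueField R →ₗ[R] E)
  (hf : InjHull.IsInjectiveHull f)

include hf in
/-- the socle of `E` is the image of the residue field -/
theorem mem_range_of_socle (x : E) (hx : ∀ a ∈ maximalIdeal R, a • x = 0) :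
    x ∈ LinearMap.range f := by
  by_cases hx0 : x = 0
  · rw [hx0]; exact Submodule.zero_mem _
  have hne : Submodule.span R {x} ≠ ⊥ := by
    rw [Ne, Submodule.span_singleton_eq_bot]; exact hx0
  have h1 := hf.essential _ hne
  obtain ⟨z, hz, hz0⟩ := Submodule.exists_mem_ne_zero_of_ne_bot h1
  obtain ⟨hz1, hz2⟩ := hz
  obtain ⟨r, rfl⟩ := Submodule.mem_span_singleton.mp hz1
  have hr : IsUnit r := by
    by_contra hr
    exact hz0 (hx r ((IsLocalRing.mem_maximalIdeal r).mpr hr))
  obtain ⟨u, rfl⟩ := hr
  have : x = (↑u⁻¹ : R) • ((u : R) • x) := by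
    rw [smul_smul, Units.inv_mul, one_smul]
  rw [this]
  exact Submodule.smul_mem _ _ hz2

theorem finsupp_torsion {ι : Type u}
    (hE : ∀ y : E, ∃ t : ℕ, ∀ a ∈ maximalIdeal R ^ t, a • y = 0) (v : ι →₀ E) :
    ∃ t : ℕ, ∀ a ∈ maximalIdeal R ^ t, a • v = 0 := by
  induction v using Finsupp.induction_linear with
  | zero => exact ⟨0, fun a _ => smul_zero a⟩
  | add v w hv hw =>
    obtain ⟨t₁, h₁⟩ := hv
    obtain ⟨t₂, h₂⟩ := hw
    refine ⟨max t₁ t₂, fun a ha => ?_⟩
    rw [smul_add, h₁ a (Ideal.pow_le_pow_right (le_max_left _ _) ha),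
      h₂ a (Ideal.pow_le_pow_right (le_max_right _ _) ha), add_zero]
  | single i x =>
    obtain ⟨t, ht⟩ := hE x
    refine ⟨t, fun a ha => ?_⟩
    rw [Finsupp.smul_single, ht a ha, Finsupp.single_zero]

theorem injective_finsupp' {ι : Type u} (hE : Module.Injective R E) :
    Module.Injective R (ι →₀ E) := by
  classical
  have h1 : Module.Injective R (DirectSum ι fun _ => E) :=
    Groth.Agent.S0300.result R (fun _ : ι => E) (fun _ => hE)
  exact Module.Baer.injective
    (Module.Baer.of_equiv (finsuppLEquivDirectSum R E ι).symm (Module.Baer.of_injective h1))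

include hf in
/-- `ι →₀ k → ι →₀ E` is an injective hull -/
theorem hull_finsupp {ι : Type u} :
    InjHull.IsInjectiveHull (Finsupp.mapRange.linearMap (α := ι) f) := by
  classical
  have hE : ∀ y : E, ∃ t : ℕ, ∀ a ∈ maximalIdeal R ^ t, a • y = 0 :=
    Groth.Agent.S0311.result R E f hf
  refine { injective := ?_, essential := ?_, isInjective := injective_finsupp' hf.isInjective }
  · exact Finsupp.mapRange_injective f (map_zero f) hf.injective
  · intro N hN
    obtain ⟨v, hvN, hv0⟩ := Submodule.exists_mem_ne_zero_of_ne_bot hN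
    obtain ⟨r, hr0, hr⟩ := exists_socle_multiple (finsupp_torsion hE) v hv0
    have hmem : r • v ∈ LinearMap.range (Finsupp.mapRange.linearMap (α := ι) f) := by
      rw [← Finsupp.sum_single (r • v)]
      refine Submodule.sum_mem _ fun i _ => ?_
      have hi : ∀ a ∈ maximalIdeal R, a • (r • v) i = 0 := by
        intro a ha
        rw [← Finsupp.smul_apply, hr a ha, Finsupp.zero_apply]
      obtain ⟨c, hc⟩ := mem_range_of_socle f hf _ hi
      refine ⟨Finsupp.single i c, ?_⟩
      rw [Finsupp.mapRange.linearMap_apply, Finsupp.mapRange_single, hc]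
    intro hbot
    have : r • v ∈ N ⊓ LinearMap.range (Finsupp.mapRange.linearMap (α := ι) f) :=
      ⟨N.smul_mem r hvN, hmem⟩
    rw [hbot, Submodule.mem_bot] at this
    exact hr0 this

include hf in
/-- **structure of injective torsion modules** -/
theorem equiv_finsupp_of_injective {M : Type u} [AddCommGroup M] [Module R M]
    (hM : ∀ y : M, ∃ t : ℕ, ∀ a ∈ maximalIdeal R ^ t, a • y = 0)
    (hinj : Module.Injective R M) {ι : Type u} (n : ι → M) (hP : Pres (maximalIdeal R) n) :
    Nonempty (M ≃ₗ[R] (ι →₀ E)) := by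
  classical
  -- the map `ι →₀ k → M`
  have hle : ∀ i, (maximalIdeal R : Submodule R R) ≤
      LinearMap.ker (LinearMap.toSpanSingleton R M (n i)) := by
    intro i a ha
    rw [LinearMap.mem_ker, LinearMap.toSpanSingleton_apply]
    exact hP.ann i a ha
  let φ : ι → (ResidueField R →ₗ[R] M) := fun i =>
    Submodule.liftQ (maximalIdeal R) (LinearMap.toSpanSingleton R M (n i)) (hle i)
  let iM : (ι →₀ ResidueField R) →ₗ[R] M := Finsupp.lsum R φ
  have hφ : ∀ i (c : R), φ i (IsLocalRing.residue R c) = c • n i := by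
    intro i c
    show LinearMap.toSpanSingleton R M (n i) c = _
    rw [LinearMap.toSpanSingleton_apply]
  have hiM : ∀ c : ι →₀ R, iM (Finsupp.mapRange (IsLocalRing.residue R)
      (map_zero _) c) = Finsupp.linearCombination R n c := by
    intro c
    induction c using Finsupp.induction_linear with
    | zero => rw [Finsupp.mapRange_zero, map_zero, map_zero]
    | add c d hc hd => rw [Finsupp.mapRange_add (map_add _), map_add, map_add, hc, hd]
    | single i a =>
      rw [Finsupp.mapRange_single, Finsupp.linearCombination_single]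
      show Finsupp.lsum R φ (Finsupp.single i _) = _
      rw [Finsupp.lsum_single, hφ]
  have hiM_inj : Function.Injective iM := by
    rw [← LinearMap.ker_eq_bot, Submodule.eq_bot_iff]
    intro cb hcb
    obtain ⟨c, rfl⟩ := Finsupp.mapRange_surjective (α := ι)
      (IsLocalRing.residue R) (map_zero _) IsLocalRing.residue_surjective cb
    rw [LinearMap.mem_ker, hiM] at hcb
    ext i
    rw [Finsupp.mapRange_apply, Finsupp.zero_apply]
    exact (IsLocalRing.residue_eq_zero_iff _).mpr (hP.ind c hcb i)
  have hiM_soc : ∀ y : M, (∀ a ∈ maximalIdeal R, a • y = 0) → y ∈ LinearMap.range iM := by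
    intro y hy
    obtain ⟨c, hc⟩ := hP.span y hy
    exact ⟨_, (hiM c).trans hc.symm⟩
  obtain ⟨α, hαinj, hα, I', hI'⟩ := Groth.Agent.S0303.result R (ι →₀ ResidueField R)
    (ι →₀ E) M (Finsupp.mapRange.linearMap f) (hull_finsupp f hf) iM hiM_inj hinj
  have hI'bot : I' = ⊥ := by
    by_contra hne
    obtain ⟨y, hyI, hy0⟩ := Submodule.exists_mem_ne_zero_of_ne_bot hne
    obtain ⟨r, hr0, hr⟩ := exists_socle_multiple hM y hy0
    obtain ⟨c, hc⟩ := hiM_soc _ hr
    have h1 : r • y ∈ LinearMap.range α := by
      rw [← hc, ← hα]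
      exact ⟨_, rfl⟩
    have h2 : r • y ∈ LinearMap.range α ⊓ I' := ⟨h1, I'.smul_mem r hyI⟩
    rw [hI'.inf_eq_bot, Submodule.mem_bot] at h2
    exact hr0 h2
  have hsurj : Function.Surjective α := by
    rw [← LinearMap.range_eq_top]
    have := hI'.sup_eq_top
    rwa [hI'bot, sup_bot_eq] at this
  exact ⟨(LinearEquiv.ofBijective α ⟨hαinj, hsurj⟩).symm⟩

end Struct

end Groth.Agent.Helper7.FMod
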