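import Mathlib
import Groth.Agent.Helper7.FMod4
import Groth.Agent.Helper7.FMod6
import Groth.Agent.Helper7.FMod7

/-!
# Huneke–Sharp: a torsion module over a regular local ring of characteristic `p` which is
isomorphic to its Frobenius pullback is a direct sum of copies of `E` (helper7)
-/

set_option autoImplicit false
set_option linter.unusedSectionVars false

namespace Groth.Agent.Helper7.FMod

open IsLocalRing CategoryTheory

universe u

section Main

variable (p : ℕ) [Fact p.Prime] (R : Type u) [CommRing R] [IsRegularLocalRing R] [CharP R p]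

theorem iterate_map_frobenius_le (e : ℕ) :
    (Ideal.map (frobenius R p))^[e] (maximalIdeal R) ≤ maximalIdeal R ^ (p ^ e) := by
  induction e with
  | zero => rw [pow_zero, pow_one]; exact le_rfl
  | succ e ih =>
    rw [Function.iterate_succ_apply']
    refine (Ideal.map_mono ih).trans ?_
    rw [Ideal.map_le_iff_le_comap]
    intro x hx
    rw [Ideal.mem_comap, frobenius_def, pow_succ, pow_mul]
    exact Ideal.pow_mem_pow hx p

theorem main (E : Type u) [AddCommGroup E] [Module R E] (f : ResidueField R →ₗ[R] E)
    (hf : InjHull.IsInjectiveHull f) (M : Type u) [AddCommGroup M] [Module R M]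
    (hM : LocCoh.IsPowerTorsion (maximalIdeal R) M)
    (h : Nonempty ((ModuleCat.extendScalars (frobenius R p)).obj (ModuleCat.of R M) ≅
      ModuleCat.of R M)) :
    ∃ ι : Type u, Nonempty (M ≃ₗ[R] (ι →₀ E)) := by
  have hσ : (frobenius R p).Flat := Groth.Agent.Helper7.KzFl.flat_frobenius_of_regular p
  obtain ⟨Θ, hΘ⟩ := exists_theta (frobenius R p) M h
  obtain ⟨ι, n, hPn⟩ := exists_pres_socle (R := R) (M := M)
  have hP : ∀ e, ∃ n' : ι → M, Pres ((Ideal.map (frobenius R p))^[e] (maximalIdeal R)) n' :=
    fun e => pres_iterate (frobenius R p) hσ Θ hΘ _ n hPn e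
  have hcof : ∀ t : ℕ, ∃ e, (Ideal.map (frobenius R p))^[e] (maximalIdeal R) ≤
      maximalIdeal R ^ t := by
    intro t
    refine ⟨t, (iterate_map_frobenius_le p R t).trans ?_⟩
    exact Ideal.pow_le_pow_right (Nat.lt_pow_self (Fact.out : p.Prime).one_lt).le
  have hM' : ∀ y : M, ∃ t : ℕ, ∀ a ∈ maximalIdeal R ^ t, a • y = 0 := hM
  have hinj : Module.Injective R M :=
    injective_of_layers hM' _ hcof (fun e => injective_quot_frobPow p R e) hP
  exact ⟨ι, equiv_finsupp_of_injective f hf hM' hinj n hPn⟩

end Main

end Groth.Agent.Helper7.FMod
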