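import Mathlib

set_option autoImplicit false
universe u

namespace Groth.Agent.Helper7.FOa

open Matrix

variable {R : Type u} [CommRing R] [IsDomain R] [IsPrincipalIdealRing R]
    {K : Type u} [Field K] [Algebra R K] [IsFractionRing R K] {N : ℕ}

/-- Key lemma: an `R`-lattice `L` in `K^N` containing the standard basis, stable under `T` and `T'`
(inverse to each other) gives an integral conjugate. -/
theorem exists_conj (g : GL (Fin N) K)
    (L : Submodule R (Fin N → K)) (hfg : L.FG)
    (hstd : ∀ j : Fin N, (Pi.single j (1 : K) : Fin N → K) ∈ L)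
    (hg : ∀ v ∈ L, (g : Matrix (Fin N) (Fin N) K).mulVec v ∈ L)
    (hg' : ∀ v ∈ L, ((g⁻¹ : GL (Fin N) K) : Matrix (Fin N) (Fin N) K).mulVec v ∈ L) :
    ∃ (h : GL (Fin N) K) (g' : GL (Fin N) R),
      h * g * h⁻¹ = Matrix.GeneralLinearGroup.map (algebraMap R K) g' := by
  classical
  have : Module.Finite R L := Module.Finite.iff_fg.mpr hfg
  have : Module.Free R L := Module.free_of_finite_type_torsion_free'
  let ι := Module.Free.ChooseBasisIndex R L
  let b : Module.Basis ι R L := Module.Free.chooseBasis R L
  -- the vectors in V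
  let w : ι → (Fin N → K) := fun i => (b i : Fin N → K)
  have hliR : LinearIndependent R w := by
    have := b.linearIndependent.map' L.subtype (Submodule.ker_subtype L)
    exact this
  have hliK : LinearIndependent K w := (LinearIndependent.iff_fractionRing R K).mp hliR
  have hLspan : (L : Set (Fin N → K)) ⊆ Submodule.span K (Set.range w) := by
    intro v hv
    have h1 : (⟨v, hv⟩ : L) ∈ Submodule.span R (Set.range b) := by
      rw [b.span_eq]; trivial
    have h2 : v ∈ Submodule.span R (Set.range w) := by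
      have := Submodule.mem_map_of_mem (f := L.subtype) h1
      rw [Submodule.map_span, ← Set.range_comp] at this
      exact this
    exact Submodule.span_subset_span R K _ h2
  have hspan : ⊤ ≤ Submodule.span K (Set.range w) := by
    rw [← (Pi.basisFun K (Fin N)).span_eq, Submodule.span_le]
    rintro _ ⟨j, rfl⟩
    apply hLspan
    rw [Pi.basisFun_apply]
    exact hstd j
  let B : Module.Basis ι K (Fin N → K) := Module.Basis.mk hliK hspan
  have hB : ∀ i, B i = w i := fun i => Module.Basis.mk_apply hliK hspan i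
  -- coordinates of elements of L are integral
  have hcoord : ∀ v (hv : v ∈ L) i, B.repr v i = algebraMap R K (b.repr ⟨v, hv⟩ i) := by
    intro v hv i
    have h1 : v = ∑ j, (algebraMap R K (b.repr ⟨v, hv⟩ j)) • B j := by
      have h2 := b.sum_repr ⟨v, hv⟩
      have h3 := congrArg (fun z : L => (z : Fin N → K)) h2
      simp only [Submodule.coe_sum, Submodule.coe_smul] at h3
      exact h3.symm.trans (Finset.sum_congr rfl fun j _ => by rw [hB, algebraMap_smul])
    have h4 := congrArg (fun z => B.repr z i) h1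
    simp only [map_sum, map_smul, Module.Basis.repr_self, Finsupp.coe_finsetSum, Finset.sum_apply,
      Finsupp.smul_apply, Finsupp.single_apply, smul_eq_mul, mul_ite, mul_one, mul_zero,
      Finset.sum_ite_eq', Finset.mem_univ, if_true] at h4
    exact h4
  have hwL : ∀ i, w i ∈ L := fun i => (b i).2
  -- reindex
  have hcard : Fintype.card ι = Fintype.card (Fin N) := by
    rw [← Module.finrank_eq_card_basis B, Module.finrank_fin_fun, Fintype.card_fin]
  let e : ι ≃ Fin N := Fintype.equivOfCardEq hcard
  let B' : Module.Basis (Fin N) K (Fin N → K) := B.reindex e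
  have hB'L : ∀ j, B' j ∈ L := by
    intro j
    rw [Module.Basis.reindex_apply, hB]
    exact hwL _
  have hcoord' : ∀ v ∈ L, ∀ j, ∃ r : R, algebraMap R K r = B'.repr v j := by
    intro v hv j
    refine ⟨b.repr ⟨v, hv⟩ (e.symm j), ?_⟩
    rw [Module.Basis.repr_reindex_apply, hcoord v hv]
  -- the matrices
  have hM : ∀ (T : GL (Fin N) K), (∀ v ∈ L, (T : Matrix (Fin N) (Fin N) K).mulVec v ∈ L) →
      ∃ MR : Matrix (Fin N) (Fin N) R,
        MR.map (algebraMap R K) = LinearMap.toMatrix B' B' (Matrix.toLin' (T : Matrix (Fin N) (Fin N) K)) := by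
    intro T hT
    have h1 : ∀ i j, ∃ r : R, algebraMap R K r =
        LinearMap.toMatrix B' B' (Matrix.toLin' (T : Matrix (Fin N) (Fin N) K)) i j := by
      intro i j
      rw [LinearMap.toMatrix_apply, Matrix.toLin'_apply]
      exact hcoord' _ (hT _ (hB'L j)) i
    choose r hr using h1
    refine ⟨Matrix.of r, ?_⟩
    ext i j
    rw [Matrix.map_apply, Matrix.of_apply, hr]
  obtain ⟨MR, hMR⟩ := hM g hg
  obtain ⟨MR', hMR'⟩ := hM g⁻¹ hg'
  have hinj : Function.Injective (fun X : Matrix (Fin N) (Fin N) R => X.map (algebraMap R K)) := by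
    intro X Y hXY
    ext i j
    have := congrFun (congrFun hXY i) j
    simp only [Matrix.map_apply] at this
    exact IsFractionRing.injective R K this
  have h12 : MR * MR' = 1 := by
    apply hinj
    simp only
    rw [Matrix.map_mul, hMR, hMR', ← LinearMap.toMatrix_mul, Module.End.mul_eq_comp,
      ← Matrix.toLin'_mul]
    have : (g : Matrix (Fin N) (Fin N) K) * ((g⁻¹ : GL (Fin N) K) : Matrix (Fin N) (Fin N) K) = 1 := by
      rw [← Units.val_mul, mul_inv_cancel]; rfl
    rw [this, Matrix.toLin'_one, LinearMap.toMatrix_id]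
    simp
  have h21 : MR' * MR = 1 := by
    apply hinj
    simp only
    rw [Matrix.map_mul, hMR, hMR', ← LinearMap.toMatrix_mul, Module.End.mul_eq_comp,
      ← Matrix.toLin'_mul]
    have : ((g⁻¹ : GL (Fin N) K) : Matrix (Fin N) (Fin N) K) * (g : Matrix (Fin N) (Fin N) K) = 1 := by
      rw [← Units.val_mul, inv_mul_cancel]; rfl
    rw [this, Matrix.toLin'_one, LinearMap.toMatrix_id]
    simp
  let P : Matrix (Fin N) (Fin N) K := B'.toMatrix (Pi.basisFun K (Fin N))
  let Pinv : Matrix (Fin N) (Fin N) K := (Pi.basisFun K (Fin N)).toMatrix B'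
  have hP1 : P * Pinv = 1 := Module.Basis.toMatrix_mul_toMatrix_flip _ _
  have hP2 : Pinv * P = 1 := Module.Basis.toMatrix_mul_toMatrix_flip _ _
  refine ⟨⟨P, Pinv, hP1, hP2⟩, ⟨MR, MR', h12, h21⟩, ?_⟩
  apply Units.ext
  change P * (g : Matrix (Fin N) (Fin N) K) * Pinv = MR.map (algebraMap R K)
  rw [hMR, ← basis_toMatrix_mul_linearMap_toMatrix_mul_basis_toMatrix B' (Pi.basisFun K (Fin N))
    B' (Pi.basisFun K (Fin N)), LinearMap.toMatrix_eq_toMatrix', LinearMap.toMatrix'_toLin']

end Groth.Agent.Helper7.FOa
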