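import Mathlib
import Groth.Agent.Helper7.FOa

set_option autoImplicit false
universe u

namespace Groth.Agent.Helper7.FOb

open Matrix Groth.Agent.Helper7

variable {R : Type u} [CommRing R] [IsDomain R] [IsPrincipalIdealRing R]
    {K : Type u} [Field K] [Algebra R K] [IsFractionRing R K] {N : ℕ}

theorem exists_conj_of_finOrder (g : GL (Fin N) K) (hg : IsOfFinOrder g) :
    ∃ (h : GL (Fin N) K) (g' : GL (Fin N) R),
      h * g * h⁻¹ = Matrix.GeneralLinearGroup.map (algebraMap R K) g' := by
  classical
  obtain ⟨n, hn, hgn⟩ := isOfFinOrder_iff_pow_eq_one.mp hg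
  let gen : Fin n × Fin N → (Fin N → K) := fun p =>
    ((g ^ (p.1 : ℕ) : GL (Fin N) K) : Matrix (Fin N) (Fin N) K).mulVec (Pi.single p.2 1)
  let L : Submodule R (Fin N → K) := Submodule.span R (Set.range gen)
  have hfg : L.FG := Submodule.fg_span (Set.finite_range gen)
  have hstd : ∀ j : Fin N, (Pi.single j (1 : K) : Fin N → K) ∈ L := by
    intro j
    apply Submodule.subset_span
    refine ⟨(⟨0, hn⟩, j), ?_⟩
    simp only [gen, pow_zero, Units.val_one, Matrix.one_mulVec]
  have hstab : ∀ v ∈ L, (g : Matrix (Fin N) (Fin N) K).mulVec v ∈ L := by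
    have h1 : L ≤ L.comap ((Matrix.toLin' (g : Matrix (Fin N) (Fin N) K)).restrictScalars R) := by
      apply Submodule.span_le.mpr
      rintro _ ⟨⟨i, j⟩, rfl⟩
      rw [SetLike.mem_coe, Submodule.mem_comap, LinearMap.restrictScalars_apply, Matrix.toLin'_apply]
      simp only [gen]
      rw [Matrix.mulVec_mulVec, ← Units.val_mul, ← pow_succ']
      by_cases hi : (i : ℕ) + 1 < n
      · apply Submodule.subset_span
        exact ⟨(⟨i + 1, hi⟩, j), rfl⟩
      · have : (i : ℕ) + 1 = n := by omega
        rw [this, hgn]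
        simp only [Units.val_one, Matrix.one_mulVec]
        exact hstd j
    intro v hv
    have := h1 hv
    rwa [Submodule.mem_comap, LinearMap.restrictScalars_apply, Matrix.toLin'_apply] at this
  have hpow : ∀ m : ℕ, ∀ v ∈ L, ((g ^ m : GL (Fin N) K) : Matrix (Fin N) (Fin N) K).mulVec v ∈ L := by
    intro m
    induction m with
    | zero => intro v hv; simpa using hv
    | succ m ih =>
      intro v hv
      rw [pow_succ', Units.val_mul, ← Matrix.mulVec_mulVec]
      exact hstab _ (ih v hv)
  have hinv : g⁻¹ = g ^ (n - 1) := by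
    apply inv_eq_of_mul_eq_one_right
    rw [← pow_succ', Nat.sub_add_cancel hn, hgn]
  have hstab' : ∀ v ∈ L, ((g⁻¹ : GL (Fin N) K) : Matrix (Fin N) (Fin N) K).mulVec v ∈ L := by
    rw [hinv]
    exact hpow (n - 1)
  exact FOa.exists_conj g L hfg hstd hstab hstab'

theorem main
    (R : Type u) [CommRing R] [IsDomain R] [IsDiscreteValuationRing R]
    (K : Type u) [Field K] [Algebra R K] [IsFractionRing R K]
    (N : ℕ) (g : GL (Fin N) K) (hg : IsOfFinOrder g) :
    ∃ (R' : Type u) (_ : CommRing R') (_ : IsDomain R') (_ : IsDiscreteValuationRing R')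
      (K' : Type u) (_ : Field K') (_ : Algebra R' K') (_ : IsFractionRing R' K')
      (_ : Algebra R R') (_ : Algebra K K') (_ : Algebra R K')
      (_ : IsScalarTower R R' K') (_ : IsScalarTower R K K')
      (_ : Module.Finite K K') (_ : IsLocalHom (algebraMap R R'))
      (h : GL (Fin N) K') (g' : GL (Fin N) R'),
      h * Matrix.GeneralLinearGroup.map (algebraMap K K') g * h⁻¹ =
        Matrix.GeneralLinearGroup.map (algebraMap R' K') g' := by
  obtain ⟨h, g', hh⟩ := exists_conj_of_finOrder (R := R) g hg
  refine ⟨R, inferInstance, inferInstance, inferInstance, K, inferInstance, inferInstance,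
    inferInstance, Algebra.id R, Algebra.id K, inferInstance, inferInstance, inferInstance,
    inferInstance, ?_, h, g', ?_⟩
  · exact ⟨fun a ha => ha⟩
  · exact hh

end Groth.Agent.Helper7.FOb
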