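import Mathlib
import Groth.Prelude.Def_FrobAlg
import Groth.Agent.Helper1.KaehlerTwo
import Groth.Agent.Helper7.FrobEtale

set_option autoImplicit false
set_option linter.style.haveILetI false
set_option linter.unusedSectionVars false

/-! Universe-polymorphic basics on the relative Frobenius: integrality, nilpotent kernel,
formal unramifiedness, bijectivity for étale algebras. -/

namespace Groth.Agent.Helper7.FrobSm

open TensorProduct

universe u v w

section gen

theorem bijective_of {C : Type u} {B : Type v} [CommRing C] [CommRing B] [Algebra C B] (p : ℕ)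
    [Fact p.Prime] [CharP B p] [Algebra.FinitePresentation C B]
    [Algebra.FormallyUnramified C B] [Algebra.FormallySmooth C B] [Algebra.IsIntegral C B]
    (h : ∀ b : B, ∃ c : C, algebraMap C B c = b ^ p)
    (hker : ∀ c : C, algebraMap C B c = 0 → IsNilpotent c) :
    Function.Bijective (algebraMap C B) := by
  haveI : Module.Finite C B := Algebra.IsIntegral.finite
  have hJ : KaehlerDifferential.ideal C B = ⊥ := by
    apply FrobEtale.eq_bot_of_idem_fg_nilp
    · exact (Ideal.cotangent_subsingleton_iff _).mp (inferInstanceAs (Subsingleton Ω[B⁄C]))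
    · exact KaehlerDifferential.ideal_fg C B
    · have : KaehlerDifferential.ideal C B ≤ nilradical (B ⊗[C] B) := by
        rw [← KaehlerDifferential.span_range_eq_ideal, Ideal.span_le]
        rintro _ ⟨b, rfl⟩
        rw [SetLike.mem_coe, mem_nilradical]
        refine ⟨p, ?_⟩
        rcases subsingleton_or_nontrivial (B ⊗[C] B) with hs | hnt
        · exact Subsingleton.elim _ _
        · have hp0 : ((p : ℕ) : B ⊗[C] B) = 0 := by
            rw [← map_natCast (algebraMap B (B ⊗[C] B)), CharP.cast_eq_zero, map_zero]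
          haveI : CharP (B ⊗[C] B) p := (CharP.charP_iff_prime_eq_zero Fact.out).mpr hp0
          rw [sub_pow_char, Algebra.TensorProduct.tmul_pow, Algebra.TensorProduct.tmul_pow,
            one_pow]
          obtain ⟨c, hc⟩ := h b
          rw [← hc, Algebra.algebraMap_eq_smul_one, TensorProduct.tmul_smul,
            TensorProduct.smul_tmul', sub_self]
      exact fun x hx => this hx
  haveI : Algebra.IsEpi C B := by
    rw [Algebra.isEpi_iff_forall_one_tmul_eq]
    intro b
    have : (1 : B) ⊗ₜ[C] b - b ⊗ₜ[C] (1 : B) ∈ KaehlerDifferential.ideal C B := by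
      rw [← KaehlerDifferential.span_range_eq_ideal]
      exact Ideal.subset_span ⟨b, rfl⟩
    rw [hJ, Ideal.mem_bot, sub_eq_zero] at this
    exact this
  have hsurj : Function.Surjective (algebraMap C B) :=
    Algebra.isEpi_iff_surjective_algebraMap_of_finite.mp inferInstance
  refine ⟨?_, hsurj⟩
  have hidem : IsIdempotentElem (RingHom.ker (algebraMap C B)) :=
    (Algebra.FormallySmooth.iff_of_surjective hsurj).mp inferInstance
  have hfg : (RingHom.ker (algebraMap C B)).FG :=
    Algebra.FinitePresentation.ker_fG_of_surjective (Algebra.ofId C B) hsurj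
  have hbot : RingHom.ker (algebraMap C B) = ⊥ :=
    FrobEtale.eq_bot_of_idem_fg_nilp _ hidem hfg (fun x hx => hker x hx)
  exact (RingHom.injective_iff_ker_eq_bot _).mpr hbot

theorem generic {R : Type u} {A : Type u} {B : Type v} {C : Type w} [CommRing R] [CommRing A]
    [CommRing B] [CommRing C]
    [Algebra A B] [Algebra.Etale A B] (p : ℕ) [Fact p.Prime] [CharP B p] (σ : R ≃+* A)
    [Algebra R C] [Algebra C B]
    (htower : ∀ r, algebraMap C B (algebraMap R C r) = algebraMap A B (σ r))
    [Algebra.FormallyUnramified R C] [Algebra.FiniteType R C]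
    [Algebra.FormallyUnramified C B] [Algebra.IsIntegral C B]
    (h : ∀ b : B, ∃ c : C, algebraMap C B c = b ^ p)
    (hker : ∀ c : C, algebraMap C B c = 0 → IsNilpotent c) :
    Function.Bijective (algebraMap C B) := by
  letI : Algebra R A := (σ : R →+* A).toAlgebra
  letI : Algebra R B := ((algebraMap A B).comp (σ : R →+* A)).toAlgebra
  haveI : IsScalarTower R A B := IsScalarTower.of_algebraMap_eq fun t => rfl
  haveI : IsScalarTower R C B := IsScalarTower.of_algebraMap_eq fun t => (htower t).symm
  let eA : R ≃ₐ[R] A := AlgEquiv.ofRingEquiv (f := σ) (fun x => rfl)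
  haveI : Algebra.FormallySmooth R A := Algebra.FormallySmooth.of_equiv eA
  haveI : Algebra.FinitePresentation R A := Algebra.FinitePresentation.equiv eA
  haveI : Algebra.FormallySmooth R B := Algebra.FormallySmooth.comp R A B
  haveI : Algebra.FinitePresentation R B := Algebra.FinitePresentation.trans R A B
  haveI : Algebra.FormallySmooth C B := Algebra.FormallySmooth.of_restrictScalars R C B
  haveI : Algebra.FinitePresentation C B :=
    Algebra.FinitePresentation.of_restrict_scalars_finitePresentation R C B
  exact bijective_of p h hker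

end gen

section main
variable (p : ℕ) [Fact p.Prime] (A : Type u) [CommRing A] [CharP A p]
    (B : Type v) [CommRing B] [Algebra A B] [CharP B p]

theorem relFrob_tmul (b : B) (t : FrobAlg.Twist p A) :
    FrobAlg.relFrob p A B (b ⊗ₜ[A] t) =
      b ^ p * algebraMap A B ((FrobAlg.toTwist p A).symm t) := rfl

theorem natCast_baseChange : ((p : ℕ) : FrobAlg.BaseChange p A B) = 0 := by
  have h1 : ((p : ℕ) : B) = 0 := CharP.cast_eq_zero B p
  have h2 : ((p : ℕ) : FrobAlg.BaseChange p A B) =
      algebraMap B (FrobAlg.BaseChange p A B) ((p : ℕ) : B) :=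
    (map_natCast (algebraMap B (FrobAlg.BaseChange p A B)) p).symm
  rw [h2, h1, map_zero]

/-- `x ^ p = F(x) ⊗ 1` in the Frobenius twist -/
theorem pow_eq (x : FrobAlg.BaseChange p A B) :
    x ^ p = (FrobAlg.relFrob p A B x) ⊗ₜ[A] (1 : FrobAlg.Twist p A) := by
  have hp : p.Prime := Fact.out
  induction x using TensorProduct.induction_on with
  | zero =>
    rw [map_zero, TensorProduct.zero_tmul, zero_pow hp.ne_zero]
  | tmul b a =>
    rw [relFrob_tmul, Algebra.TensorProduct.tmul_pow]
    have h3 : a ^ p = ((FrobAlg.toTwist p A).symm a) • (1 : FrobAlg.Twist p A) := by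
      rw [Algebra.smul_def, mul_one, FrobAlg.algebraMap_twist, map_pow, RingEquiv.apply_symm_apply]
    rw [h3, TensorProduct.tmul_smul, TensorProduct.smul_tmul', Algebra.smul_def, mul_comm]
  | add x y hx hy =>
    obtain ⟨r, hr⟩ := exists_add_pow_prime_eq hp x y
    rw [hr, natCast_baseChange, zero_mul, zero_mul, zero_mul, add_zero, hx, hy, map_add,
      TensorProduct.add_tmul]

theorem isIntegral : (FrobAlg.relFrob p A B).IsIntegral := by
  have hp : p.Prime := Fact.out
  intro b
  refine ⟨Polynomial.X ^ p - Polynomial.C (b ⊗ₜ[A] (1 : FrobAlg.Twist p A)),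
    Polynomial.monic_X_pow_sub_C _ hp.ne_zero, ?_⟩
  rw [Polynomial.eval₂_sub, Polynomial.eval₂_pow, Polynomial.eval₂_X, Polynomial.eval₂_C,
    relFrob_tmul]
  simp

theorem pow_eq_zero_of_relFrob_eq_zero (x : FrobAlg.BaseChange p A B)
    (hx : FrobAlg.relFrob p A B x = 0) : x ^ p = 0 := by
  rw [pow_eq, hx, TensorProduct.zero_tmul]

theorem formallyUnramified_relFrob [Algebra.FormallyUnramified A B] :
    @Algebra.FormallyUnramified (FrobAlg.BaseChange p A B) B _ _
      (FrobAlg.relFrob p A B).toAlgebra := by
  letI alg2 : Algebra (FrobAlg.BaseChange p A B) B := (FrobAlg.relFrob p A B).toAlgebra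
  refine @Algebra.FormallyUnramified.mk _ _ _ _ alg2 ?_
  refine @Groth.Agent.Helper1.KaehlerTwo.subsingleton_of_subsingleton
    (FrobAlg.BaseChange p A B) A B _ _ _ alg2 _ ?_ inferInstance
  intro a
  have h1 : algebraMap A B a = @algebraMap (FrobAlg.BaseChange p A B) B _ _ alg2
      ((1 : B) ⊗ₜ[A] (FrobAlg.toTwist p A a)) := by
    change _ = FrobAlg.relFrob p A B _
    rw [relFrob_tmul, one_pow, one_mul, RingEquiv.symm_apply_apply]
  rw [h1]
  exact Derivation.map_algebraMap _ _

theorem bijective_of_etale [Algebra.Etale A B] : Function.Bijective (FrobAlg.relFrob p A B) := by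
  let eC : (FrobAlg.Twist p A ⊗[A] B) ≃ₐ[FrobAlg.Twist p A] FrobAlg.BaseChange p A B :=
    AlgEquiv.ofRingEquiv (f := (Algebra.TensorProduct.comm A (FrobAlg.Twist p A) B).toRingEquiv)
      (fun t => by
        rw [Algebra.TensorProduct.algebraMap_apply]
        rfl)
  haveI : Algebra.FormallyUnramified (FrobAlg.Twist p A) (FrobAlg.BaseChange p A B) :=
    Algebra.FormallyUnramified.of_equiv eC
  haveI : Algebra.FiniteType (FrobAlg.Twist p A) (FrobAlg.BaseChange p A B) :=
    Algebra.FiniteType.equiv inferInstance eC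
  letI alg2 : Algebra (FrobAlg.BaseChange p A B) B := (FrobAlg.relFrob p A B).toAlgebra
  haveI : Algebra.FormallyUnramified (FrobAlg.BaseChange p A B) B :=
    formallyUnramified_relFrob p A B
  haveI : Algebra.IsIntegral (FrobAlg.BaseChange p A B) B :=
    ⟨isIntegral p A B⟩
  exact generic p (FrobAlg.toTwist p A).symm
    (fun t => by
      change FrobAlg.relFrob p A B ((1 : B) ⊗ₜ[A] t) = _
      rw [relFrob_tmul, one_pow, one_mul])
    (fun b => ⟨b ⊗ₜ[A] (1 : FrobAlg.Twist p A), by
      change FrobAlg.relFrob p A B _ = _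
      rw [relFrob_tmul]
      simp⟩)
    (fun c hc => ⟨p, pow_eq_zero_of_relFrob_eq_zero p A B c hc⟩)

end main

end Groth.Agent.Helper7.FrobSm
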