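import Mathlib
import Groth.Prelude.Def_FrobAlg
import Groth.Agent.Helper7.FrobSm1

set_option autoImplicit false
set_option linter.style.haveILetI false
set_option linter.unusedSectionVars false

/-! Functoriality of the Frobenius twist; for an étale map `B → C` of `A`-algebras the square
`B' → B`, `C' → C` is a pushout. -/

namespace Groth.Agent.Helper7.FrobSm

open TensorProduct FrobAlg

universe u v w

section abstract

/-- Abstract form: `B → C` étale in characteristic `p`, `B' → B`, `C' → C` "Frobenius-like"
(each admits `iB : B → B'`, `iC : C → C'` composing to the Frobenius), `C'` generated over `B'`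
by `iC(C)`.  Then `C = C' ⊗_{B'} B`. -/
theorem isBaseChange_abstract {B : Type v} {C : Type w} {B' C' : Type*}
    [CommRing B] [CommRing C] [CommRing B'] [CommRing C'] (p : ℕ) [Fact p.Prime]
    [CharP B p] [CharP C p] [Algebra B C] [Algebra.Etale B C]
    [Algebra B' B] [Algebra C' C] [Algebra B' C'] [Algebra B' C]
    [IsScalarTower B' B C] [IsScalarTower B' C' C]
    (iB : B →+* B') (iC : C →+* C')
    (hB : ∀ b, algebraMap B' B (iB b) = b ^ p) (hC : ∀ c, algebraMap C' C (iC c) = c ^ p)
    (hcomm : ∀ b, iC (algebraMap B C b) = algebraMap B' C' (iB b))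
    (hgen : ∀ x : C', x ∈ Submodule.span B' (Set.range iC)) :
    IsBaseChange C' (IsScalarTower.toAlgHom B' B C).toLinearMap := by
  classical
  let ψ : B →ₗ[B'] C := (IsScalarTower.toAlgHom B' B C).toLinearMap
  have hψ : ∀ b, ψ b = algebraMap B C b := fun b => rfl
  let can : C' ⊗[B'] B →ₗ[C'] C := ψ.liftBaseChange C'
  let Φ : C ⊗[B] Twist p B →+ C' ⊗[B'] B :=
    TensorProduct.liftAddHom
      { toFun := fun c =>
          { toFun := fun t => (iC c) ⊗ₜ[B'] ((toTwist p B).symm t)
            map_zero' := by simp
            map_add' := fun s t => by rw [map_add, TensorProduct.tmul_add] }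
        map_zero' := by
          ext t
          simp
        map_add' := fun c d => by
          ext t
          simp [TensorProduct.add_tmul] }
      (fun b c t => by
        change (iC (b • c)) ⊗ₜ[B'] ((toTwist p B).symm t) =
          (iC c) ⊗ₜ[B'] ((toTwist p B).symm (b • t))
        have e1 : (toTwist p B).symm (b • t) = (iB b) • ((toTwist p B).symm t) := by
          rw [Algebra.smul_def (iB b), hB, Algebra.smul_def, algebraMap_twist, map_mul,
            RingEquiv.symm_apply_apply]
        rw [e1, ← TensorProduct.smul_tmul, Algebra.smul_def (iB b), ← hcomm, ← map_mul,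
          Algebra.smul_def])
  have hΦ : ∀ c t, Φ (c ⊗ₜ t) = (iC c) ⊗ₜ[B'] ((toTwist p B).symm t) := fun c t => rfl
  have hΦsurj : Function.Surjective Φ := by
    intro y
    induction y using TensorProduct.induction_on with
    | zero => exact ⟨0, map_zero _⟩
    | add y z hy hz =>
      obtain ⟨y', rfl⟩ := hy
      obtain ⟨z', rfl⟩ := hz
      exact ⟨y' + z', map_add _ _ _⟩
    | tmul x b =>
      have hx := hgen x
      induction hx using Submodule.span_induction generalizing b with
      | mem x hx =>
        obtain ⟨c, rfl⟩ := hx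
        exact ⟨c ⊗ₜ (toTwist p B b), by rw [hΦ, RingEquiv.symm_apply_apply]⟩
      | zero => exact ⟨0, by simp⟩
      | add y z _ _ hy hz =>
        obtain ⟨y', hy'⟩ := hy b
        obtain ⟨z', hz'⟩ := hz b
        exact ⟨y' + z', by rw [map_add, hy', hz', TensorProduct.add_tmul]⟩
      | smul r y _ hy =>
        obtain ⟨y', hy'⟩ := hy (r • b)
        exact ⟨y', by rw [hy', TensorProduct.smul_tmul]⟩
  have hcomp : ∀ z, can (Φ z) = relFrob p B C z := by
    intro z
    induction z using TensorProduct.induction_on with
    | zero => simp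
    | add y z hy hz => rw [map_add, map_add, map_add, hy, hz]
    | tmul c t =>
      rw [hΦ, LinearMap.liftBaseChange_tmul, hψ, Algebra.smul_def, hC, relFrob_tmul]
  have hbij := bijective_of_etale p B C
  have hcan : Function.Bijective can := by
    constructor
    · rw [injective_iff_map_eq_zero]
      intro y hy
      obtain ⟨z, rfl⟩ := hΦsurj y
      rw [hcomp] at hy
      have : z = 0 := hbij.1 (by rw [hy, map_zero])
      rw [this, map_zero]
    · intro c
      obtain ⟨z, hz⟩ := hbij.2 c
      exact ⟨Φ z, by rw [hcomp, hz]⟩
  refine IsBaseChange.of_equiv (LinearEquiv.ofBijective can hcan) (fun b => ?_)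
  rw [LinearEquiv.ofBijective_apply, LinearMap.liftBaseChange_tmul, one_smul]

end abstract

section
variable (p : ℕ) [Fact p.Prime] (A : Type u) [CommRing A] [CharP A p]
  (B : Type v) [CommRing B] [Algebra A B] [CharP B p]
  (C : Type w) [CommRing C] [Algebra A C] [CharP C p] [Algebra B C] [IsScalarTower A B C]

/-- functoriality of the Frobenius twist -/
noncomputable def mapBC : BaseChange p A B →ₐ[A] BaseChange p A C :=
  Algebra.TensorProduct.map (IsScalarTower.toAlgHom A B C) (AlgHom.id A (Twist p A))

theorem mapBC_tmul (b : B) (t : Twist p A) :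
    mapBC p A B C (b ⊗ₜ t) = algebraMap B C b ⊗ₜ t := rfl

theorem relFrob_mapBC (x : BaseChange p A B) :
    relFrob p A C (mapBC p A B C x) = algebraMap B C (relFrob p A B x) := by
  induction x using TensorProduct.induction_on with
  | zero => simp
  | tmul b t =>
    rw [mapBC_tmul, relFrob_tmul, relFrob_tmul, map_mul, map_pow,
      ← IsScalarTower.algebraMap_apply]
  | add x y hx hy => simp only [map_add, hx, hy]

theorem mapBC_flat [Module.Flat B C] : (mapBC p A B C).toRingHom.Flat := by
  have h1 : (IsScalarTower.toAlgHom A B C).Flat := by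
    change (algebraMap B C).Flat
    exact RingHom.flat_algebraMap_iff.mpr inferInstance
  have h2 : (AlgHom.id A (Twist p A)).Flat := RingHom.Flat.id _
  exact RingHom.Flat.tensorProductMap h1 h2

end

section tw
variable (p : ℕ) [Fact p.Prime] (A : Type u) [CommRing A] [CharP A p]
  (B : Type v) [CommRing B] [Algebra A B] [CharP B p]
  (C : Type w) [CommRing C] [Algebra A C] [CharP C p] [Algebra B C] [IsScalarTower A B C]

/-- an opaque copy of the Frobenius twist (to avoid instance diamonds on tensor products) -/
def Tw : Type (max u v) := BaseChange p A B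

noncomputable instance : CommRing (Tw p A B) := inferInstanceAs (CommRing (BaseChange p A B))

/-- the relative Frobenius on the opaque copy -/
noncomputable def twF : Tw p A B →+* B := relFrob p A B

/-- `b ↦ b ⊗ 1` -/
noncomputable def twI : B →+* Tw p A B :=
  (Algebra.TensorProduct.includeLeftRingHom : B →+* B ⊗[A] Twist p A)

/-- `a ↦ 1 ⊗ a` -/
noncomputable def twJ : A →+* Tw p A B :=
  ((Algebra.TensorProduct.includeRight : Twist p A →ₐ[A] B ⊗[A] Twist p A).toRingHom).comp
    (toTwist p A : A →+* Twist p A)

/-- functoriality -/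
noncomputable def twMap : Tw p A B →+* Tw p A C := (mapBC p A B C).toRingHom

noncomputable instance instAlgTw : Algebra (Tw p A B) B := (twF p A B).toAlgebra

/-- `Tw B → Tw C` as an algebra -/
@[instance_reducible] noncomputable def algTwTw : Algebra (Tw p A B) (Tw p A C) := (twMap p A B C).toAlgebra

/-- `Tw B → B → C` as an algebra -/
@[instance_reducible] noncomputable def algTwC : Algebra (Tw p A B) C :=
  ((algebraMap B C).comp (twF p A B)).toAlgebra

theorem twF_twI (b : B) : twF p A B (twI p A B b) = b ^ p := by
  change relFrob p A B (b ⊗ₜ 1) = _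
  rw [relFrob_tmul]
  simp

theorem twF_twJ (a : A) : twF p A B (twJ p A B a) = algebraMap A B a := by
  change relFrob p A B (1 ⊗ₜ (toTwist p A a)) = _
  rw [relFrob_tmul]
  simp

theorem twF_twMap (x : Tw p A B) : twF p A C (twMap p A B C x) = algebraMap B C (twF p A B x) :=
  relFrob_mapBC p A B C x

theorem twMap_twI (b : B) : twMap p A B C (twI p A B b) = twI p A C (algebraMap B C b) := rfl

theorem twMap_twJ (a : A) : twMap p A B C (twJ p A B a) = twJ p A C a := by
  change mapBC p A B C (1 ⊗ₜ (toTwist p A a)) = 1 ⊗ₜ (toTwist p A a)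
  rw [mapBC_tmul, map_one]

theorem tw_induction {motive : Tw p A B → Prop} (x : Tw p A B)
    (h : ∀ b a, motive (twI p A B b * twJ p A B a))
    (hadd : ∀ x y, motive x → motive y → motive (x + y)) : motive x := by
  have h0 : motive 0 := by
    have := h 0 0
    rwa [map_zero, zero_mul] at this
  change BaseChange p A B at x
  induction x using TensorProduct.induction_on with
  | zero => exact h0
  | add x y hx hy => exact hadd _ _ hx hy
  | tmul b t =>
    have := h b ((toTwist p A).symm t)
    have e : twI p A B b * twJ p A B ((toTwist p A).symm t) = (b ⊗ₜ[A] t : BaseChange p A B) := by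
      change (b ⊗ₜ[A] (1 : Twist p A)) * ((1 : B) ⊗ₜ[A] (toTwist p A ((toTwist p A).symm t))) = _
      rw [Algebra.TensorProduct.tmul_mul_tmul, mul_one, one_mul, RingEquiv.apply_symm_apply]
    rwa [e] at this

theorem twMap_flat [Module.Flat B C] : (twMap p A B C).Flat := mapBC_flat p A B C

theorem twF_isIntegral : (twF p A B).IsIntegral := isIntegral p A B

theorem twF_ker (x : Tw p A B) (hx : twF p A B x = 0) : x ^ p = 0 :=
  pow_eq_zero_of_relFrob_eq_zero p A B x hx

attribute [local instance] algTwTw
attribute [local instance 50] algTwC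

instance towerTwBC : IsScalarTower (Tw p A B) B C := IsScalarTower.of_algebraMap_eq fun _ => rfl

instance towerTwTwC : IsScalarTower (Tw p A B) (Tw p A C) C :=
  IsScalarTower.of_algebraMap_eq fun x => (twF_twMap p A B C x).symm

theorem algebraMap_tw (x : Tw p A B) : algebraMap (Tw p A B) B x = twF p A B x := rfl

theorem algebraMap_tw_tw (x : Tw p A B) :
    algebraMap (Tw p A B) (Tw p A C) x = twMap p A B C x := rfl

/-- for `B → C` étale, `C = Tw C ⊗_{Tw B} B`. -/
theorem isBaseChange_tw [Algebra.Etale B C] :
    IsBaseChange (Tw p A C) (IsScalarTower.toAlgHom (Tw p A B) B C).toLinearMap := by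
  refine isBaseChange_abstract p (twI p A B) (twI p A C) (twF_twI p A B) (twF_twI p A C)
    (fun b => (twMap_twI p A B C b).symm) ?_
  intro x
  induction x using tw_induction with
  | h c a =>
    have : twI p A C c * twJ p A C a = (twJ p A B a) • (twI p A C c) := by
      rw [Algebra.smul_def, algebraMap_tw_tw, twMap_twJ, mul_comm]
    rw [this]
    exact Submodule.smul_mem _ _ (Submodule.subset_span ⟨c, rfl⟩)
  | hadd x y hx hy => exact Submodule.add_mem _ hx hy

end tw

end Groth.Agent.Helper7.FrobSm
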