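import Mathlib
import Groth.Prelude.Def_FrobAlg
import Groth.Agent.Helper7.FrobSm2

set_option autoImplicit false
set_option linter.style.haveILetI false
set_option linter.unusedSectionVars false

/-! The polynomial ring `A[X_σ]` is free of rank `p ^ |σ|` over its Frobenius twist. -/

namespace Groth.Agent.Helper7.FrobSm

open TensorProduct FrobAlg MvPolynomial

universe u v w

section expand

variable {σ : Type*} [Fintype σ] [DecidableEq σ] {R : Type*} [CommRing R] (p : ℕ)

/-- exponent vector as a finitely supported function -/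
noncomputable def ex (e : σ → Fin p) : σ →₀ ℕ := Finsupp.equivFunOnFinite.symm (fun i => (e i : ℕ))

theorem ex_apply (e : σ → Fin p) (i : σ) : ex p e i = (e i : ℕ) := rfl

/-- the combination map `(c_e) ↦ ∑ expand(c_e) X^e` -/
noncomputable def comb (c : (σ → Fin p) → MvPolynomial σ R) : MvPolynomial σ R :=
  ∑ e, expand p (c e) * monomial (ex p e) 1

theorem comb_add (c d : (σ → Fin p) → MvPolynomial σ R) :
    comb p (c + d) = comb p c + comb p d := by
  unfold comb
  rw [← Finset.sum_add_distrib]
  refine Finset.sum_congr rfl fun e _ => ?_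
  rw [Pi.add_apply, map_add, add_mul]

theorem coeff_expand_mul (hp : p ≠ 0) (f : MvPolynomial σ R) (e e₀ : σ → Fin p) (k : σ →₀ ℕ) :
    coeff (p • k + ex p e₀) (expand p f * monomial (ex p e) 1) =
      if e = e₀ then coeff k f else 0 := by
  rw [coeff_mul_monomial', mul_one]
  split_ifs with h1 h2 h2
  · subst h2
    rw [add_tsub_cancel_right, coeff_expand_smul p hp]
  · obtain ⟨i, hi⟩ : ∃ i, e i ≠ e₀ i := by
      by_contra hcon
      push Not at hcon
      exact h2 (funext hcon)
    apply coeff_expand_of_not_dvd (i := i)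
    have hle : (e i : ℕ) ≤ p * k i + (e₀ i : ℕ) := by
      have := h1 i
      simpa [ex_apply] using this
    have hval : (p • k + ex p e₀ - ex p e) i = p * k i + (e₀ i : ℕ) - (e i : ℕ) := by
      simp [ex_apply]
    rw [hval]
    rintro ⟨q, hq⟩
    have h3 : p * k i + (e₀ i : ℕ) = p * q + (e i : ℕ) := by omega
    have h4 : (p * k i + (e₀ i : ℕ)) % p = (p * q + (e i : ℕ)) % p := by rw [h3]
    rw [Nat.mul_add_mod, Nat.mul_add_mod, Nat.mod_eq_of_lt (e₀ i).2, Nat.mod_eq_of_lt (e i).2] at h4
    exact hi (Fin.ext h4.symm)
  · subst h2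
    exfalso
    apply h1
    intro i
    simp
  · rfl

theorem coeff_comb (hp : p ≠ 0) (c : (σ → Fin p) → MvPolynomial σ R) (e₀ : σ → Fin p)
    (k : σ →₀ ℕ) : coeff (p • k + ex p e₀) (comb p c) = coeff k (c e₀) := by
  unfold comb
  rw [coeff_sum]
  simp_rw [coeff_expand_mul p hp]
  rw [Finset.sum_ite_eq' Finset.univ e₀ (fun e => coeff k (c e))]
  simp

theorem comb_injective (hp : p ≠ 0) : Function.Injective (comb (σ := σ) (R := R) p) := by
  intro c d h
  funext e₀
  ext k
  rw [← coeff_comb p hp c e₀ k, ← coeff_comb p hp d e₀ k, h]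

theorem comb_single (e₀ : σ → Fin p) (f : MvPolynomial σ R) :
    comb p (Pi.single e₀ f) = expand p f * monomial (ex p e₀) 1 := by
  unfold comb
  rw [Finset.sum_eq_single e₀]
  · rw [Pi.single_eq_same]
  · intro e _ he
    rw [Pi.single_eq_of_ne he, map_zero, zero_mul]
  · intro h
    exact absurd (Finset.mem_univ _) h

theorem comb_surjective (hp : p ≠ 0) : Function.Surjective (comb (σ := σ) (R := R) p) := by
  intro f
  induction f using MvPolynomial.induction_on' with
  | monomial m r =>
    have hpos : 0 < p := Nat.pos_of_ne_zero hp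
    let e₀ : σ → Fin p := fun i => ⟨m i % p, Nat.mod_lt _ hpos⟩
    let k : σ →₀ ℕ := Finsupp.equivFunOnFinite.symm (fun i => m i / p)
    refine ⟨Pi.single e₀ (monomial k r), ?_⟩
    have hm : p • k + ex p e₀ = m := by
      ext i
      change p * (m i / p) + m i % p = m i
      exact Nat.div_add_mod _ _
    rw [comb_single, expand_monomial, monomial_mul, mul_one, hm]
  | add f g hf hg =>
    obtain ⟨c, rfl⟩ := hf
    obtain ⟨d, rfl⟩ := hg
    exact ⟨c + d, comb_add p c d⟩

theorem comb_bijective (hp : p ≠ 0) : Function.Bijective (comb (σ := σ) (R := R) p) :=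
  ⟨comb_injective p hp, comb_surjective p hp⟩

end expand

section basis

/-- a family with unique coordinates is a basis -/
theorem exists_basis_of_bijective {R S ι : Type*} [CommRing R] [CommRing S] [Algebra R S]
    [Fintype ι] [DecidableEq ι] (b : ι → S)
    (hb : Function.Bijective (fun c : ι → R => ∑ i, algebraMap R S (c i) * b i)) :
    ∃ B : Module.Basis ι R S, ∀ i, B i = b i := by
  have hL : ∀ c, Fintype.linearCombination R b c = ∑ i, algebraMap R S (c i) * b i := by
    intro c
    rw [Fintype.linearCombination_apply]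
    exact Finset.sum_congr rfl fun i _ => Algebra.smul_def _ _
  have hbij : Function.Bijective (Fintype.linearCombination R b) := by
    convert hb using 1
    funext c
    exact hL c
  let e : (ι → R) ≃ₗ[R] S := LinearEquiv.ofBijective _ hbij
  refine ⟨Module.Basis.ofEquivFun e.symm, fun i => ?_⟩
  rw [Module.Basis.coe_ofEquivFun, LinearEquiv.symm_symm]
  change Fintype.linearCombination R b (Pi.single i 1) = b i
  rw [Fintype.linearCombination_apply_single, one_smul]

end basis

section poly

variable (p : ℕ) [Fact p.Prime] (A : Type u) [CommRing A] [CharP A p]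
  (σ : Type w) [Fintype σ] [DecidableEq σ]

instance : CharP (MvPolynomial σ A) p := inferInstance

/-- `A[X] ≅ (A[X])'` -/
noncomputable def psi : MvPolynomial σ A ≃+* Tw p A (MvPolynomial σ A) :=
  ((MvPolynomial.mapEquiv σ (toTwist p A)).trans
    (((MvPolynomial.algebraTensorAlgEquiv A (Twist p A)).symm.toRingEquiv).trans
      (Algebra.TensorProduct.comm A (Twist p A) (MvPolynomial σ A)).toRingEquiv) :
    MvPolynomial σ A ≃+* BaseChange p A (MvPolynomial σ A))

theorem twF_psi (f : MvPolynomial σ A) :
    twF p A (MvPolynomial σ A) (psi p A σ f) = expand p f := by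
  have : (twF p A (MvPolynomial σ A)).comp (psi p A σ : MvPolynomial σ A →+* _) =
      (expand p : MvPolynomial σ A →ₐ[A] MvPolynomial σ A).toRingHom := by
    apply MvPolynomial.ringHom_ext
    · intro a
      change relFrob p A (MvPolynomial σ A)
        ((Algebra.TensorProduct.comm A (Twist p A) (MvPolynomial σ A))
          ((MvPolynomial.algebraTensorAlgEquiv A (Twist p A)).symm
            (MvPolynomial.map (toTwist p A : A →+* Twist p A) (C a)))) = expand p (C a)
      rw [MvPolynomial.map_C, ← MvPolynomial.monomial_zero', 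
        MvPolynomial.algebraTensorAlgEquiv_symm_monomial, Algebra.TensorProduct.comm_tmul,
        relFrob_tmul, expand_C]
      simp
    · intro i
      change relFrob p A (MvPolynomial σ A)
        ((Algebra.TensorProduct.comm A (Twist p A) (MvPolynomial σ A))
          ((MvPolynomial.algebraTensorAlgEquiv A (Twist p A)).symm
            (MvPolynomial.map (toTwist p A : A →+* Twist p A) (X i)))) = expand p (X i)
      rw [MvPolynomial.map_X, MvPolynomial.algebraTensorAlgEquiv_symm_X,
        Algebra.TensorProduct.comm_tmul, relFrob_tmul, expand_X]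
      simp
  exact congrArg (fun g => g f) this

theorem poly_bijective : Function.Bijective
    (fun c : (σ → Fin p) → Tw p A (MvPolynomial σ A) =>
      ∑ e, algebraMap (Tw p A (MvPolynomial σ A)) (MvPolynomial σ A) (c e) *
        monomial (ex p e) (1 : A)) := by
  have hp : p ≠ 0 := (Fact.out : p.Prime).ne_zero
  have h1 : (fun c : (σ → Fin p) → Tw p A (MvPolynomial σ A) =>
      ∑ e, algebraMap (Tw p A (MvPolynomial σ A)) (MvPolynomial σ A) (c e) *
        monomial (ex p e) (1 : A)) =
      comb p ∘ (fun c e => (psi p A σ).symm (c e)) := by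
    funext c
    change _ = comb p (fun e => (psi p A σ).symm (c e))
    unfold comb
    refine Finset.sum_congr rfl fun e _ => ?_
    rw [← twF_psi, RingEquiv.apply_symm_apply]
    rfl
  rw [h1]
  refine (comb_bijective p hp).comp ?_
  constructor
  · intro c d h
    funext e
    exact (psi p A σ).symm.injective (congrFun h e)
  · intro c
    exact ⟨fun e => psi p A σ (c e), by
      funext e
      exact (psi p A σ).symm_apply_apply _⟩

theorem poly_basis :
    Nonempty (Module.Basis (σ → Fin p) (Tw p A (MvPolynomial σ A)) (MvPolynomial σ A)) := by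
  obtain ⟨B, -⟩ := exists_basis_of_bijective _ (poly_bijective p A σ)
  exact ⟨B⟩

end poly

end Groth.Agent.Helper7.FrobSm
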