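import Mathlib
import Groth.Prelude.Def_FrobAlg
import Groth.Agent.Helper7.FrobSm3

set_option autoImplicit false
set_option linter.style.haveILetI false
set_option linter.unusedSectionVars false

/-! The relative Frobenius of a smooth algebra is flat, finite locally free of rank `p ^ r`. -/

namespace Groth.Agent.Helper7.FrobSm

open TensorProduct FrobAlg MvPolynomial

universe u v w

attribute [local instance] algTwTw
attribute [local instance 50] algTwC

section
variable (p : ℕ) [Fact p.Prime] (A : Type u) [CommRing A] [CharP A p]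
  (B : Type v) [CommRing B] [Algebra A B] [CharP B p]

theorem charP_of_nontrivial (C : Type w) [CommRing C] [Algebra B C] [Nontrivial C] : CharP C p := by
  apply (CharP.charP_iff_prime_eq_zero Fact.out).mpr
  rw [← map_natCast (algebraMap B C), CharP.cast_eq_zero, map_zero]

theorem finiteType_tw [Algebra.FiniteType A B] : Algebra.FiniteType (Tw p A B) B := by
  letI : Algebra A (Tw p A B) := (twJ p A B).toAlgebra
  haveI : IsScalarTower A (Tw p A B) B :=
    IsScalarTower.of_algebraMap_eq fun a => (twF_twJ p A B a).symm
  exact Algebra.FiniteType.of_restrictScalars_finiteType A (Tw p A B) B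

instance isIntegral_tw : Algebra.IsIntegral (Tw p A B) B := ⟨twF_isIntegral p A B⟩

theorem finite_tw [Algebra.FiniteType A B] : Module.Finite (Tw p A B) B := by
  haveI := finiteType_tw p A B
  exact Algebra.IsIntegral.finite

/-- `Tw B` is of finite type over `A` (acting through the right factor) -/
theorem finiteType_A_tw [Algebra.FiniteType A B] :
    @Algebra.FiniteType A (Tw p A B) _ _ (twJ p A B).toAlgebra := by
  classical
  letI : Algebra A (Tw p A B) := (twJ p A B).toAlgebra
  obtain ⟨s, hs⟩ := (Algebra.FiniteType.out : (⊤ : Subalgebra A B).FG)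
  refine ⟨⟨s.image (twI p A B), ?_⟩⟩
  rw [eq_top_iff]
  have hI : ∀ b : B, twI p A B b ∈ Algebra.adjoin A ((s.image (twI p A B) : Finset _) : Set (Tw p A B)) := by
    intro b
    have hb : b ∈ Algebra.adjoin A (s : Set B) := by rw [hs]; trivial
    induction hb using Algebra.adjoin_induction with
    | mem x hx =>
      exact Algebra.subset_adjoin (by simpa using ⟨x, hx, rfl⟩)
    | algebraMap a =>
      have : twI p A B (algebraMap A B a) = algebraMap A (Tw p A B) (a ^ p) := by
        change ((algebraMap A B a) ⊗ₜ[A] (1 : Twist p A) : BaseChange p A B) =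
          (1 : B) ⊗ₜ[A] (toTwist p A (a ^ p))
        calc ((algebraMap A B a) ⊗ₜ[A] (1 : Twist p A) : BaseChange p A B)
            = (a • (1 : B)) ⊗ₜ[A] (1 : Twist p A) := by rw [Algebra.algebraMap_eq_smul_one]
          _ = (1 : B) ⊗ₜ[A] (a • (1 : Twist p A)) := TensorProduct.smul_tmul _ _ _
          _ = _ := by rw [Algebra.smul_def, algebraMap_twist, mul_one]
      rw [this]
      exact Subalgebra.algebraMap_mem _ _
    | add x y _ _ hx hy => rw [map_add]; exact Subalgebra.add_mem _ hx hy
    | mul x y _ _ hx hy => rw [map_mul]; exact Subalgebra.mul_mem _ hx hy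
  intro x _
  clear * - hI
  induction x using tw_induction with
  | h b a => exact Subalgebra.mul_mem _ (hI b) (Subalgebra.algebraMap_mem _ a)
  | hadd x y hx hy => exact Subalgebra.add_mem _ hx hy

theorem finitePresentation_tw [Algebra.FinitePresentation A B] :
    Algebra.FinitePresentation (Tw p A B) B := by
  letI : Algebra A (Tw p A B) := (twJ p A B).toAlgebra
  haveI : IsScalarTower A (Tw p A B) B :=
    IsScalarTower.of_algebraMap_eq fun a => (twF_twJ p A B a).symm
  haveI : Algebra.FiniteType A (Tw p A B) := finiteType_A_tw p A B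
  exact Algebra.FinitePresentation.of_restrict_scalars_finitePresentation A (Tw p A B) B

end

section charts
variable (p : ℕ) [Fact p.Prime] (A : Type u) [CommRing A] [CharP A p]
  (B : Type v) [CommRing B] [Algebra A B] [CharP B p]

/-- an opaque copy of the localization (to avoid instance diamonds) -/
def Loc (g : B) : Type v := Localization.Away g

section loc
variable (g : B)
instance : CommRing (Loc B g) := inferInstanceAs (CommRing (Localization.Away g))
instance (priority := 50) : Algebra A (Loc B g) :=
  inferInstanceAs (Algebra A (Localization.Away g))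
instance : Algebra B (Loc B g) := inferInstanceAs (Algebra B (Localization.Away g))
instance : IsLocalization.Away g (Loc B g) :=
  inferInstanceAs (IsLocalization.Away g (Localization.Away g))
instance : IsScalarTower A B (Loc B g) :=
  inferInstanceAs (IsScalarTower A B (Localization.Away g))
instance : Module.Flat B (Loc B g) := IsLocalization.flat (Loc B g) (Submonoid.powers g)
instance : Algebra.Etale B (Loc B g) := Algebra.Etale.of_isLocalizationAway g
end loc

/-- a chart: `B_g` étale over a polynomial ring -/
def IsChart (g : B) (n : ℕ) : Prop :=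
  ∃ (_ : Algebra (MvPolynomial (Fin n) A) (Loc B g)),
    IsScalarTower A (MvPolynomial (Fin n) A) (Loc B g) ∧
    Algebra.Etale (MvPolynomial (Fin n) A) (Loc B g)

theorem exists_chart [Algebra.Smooth A B] (Q : Ideal B) [Q.IsPrime] :
    ∃ g, g ∉ Q ∧ ∃ n, IsChart A B g n := by
  haveI : Algebra.IsSmoothAt A Q := by
    have := Algebra.smoothLocus_eq_univ (R := A) (A := B)
    have h : (⟨Q, inferInstance⟩ : PrimeSpectrum B) ∈ Algebra.smoothLocus A B := by
      rw [this]; trivial
    exact h
  obtain ⟨f, hf, n, alg, tower, hstd⟩ :=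
    Algebra.IsSmoothAt.exists_isStandardEtale_mvPolynomial (R := A) (p := Q)
  have het : @Algebra.Etale (MvPolynomial (Fin n) A) (Localization.Away f) _ _ alg := inferInstance
  exact ⟨f, hf, n, alg, tower, het⟩

theorem exists_prime_away (Q : Ideal B) [Q.IsPrime] (g : B) (hg : g ∉ Q) :
    ∃ Q' : Ideal (Loc B g), Q'.IsPrime ∧ Q'.comap (algebraMap B _) = Q := by
  have hd : Disjoint (Submonoid.powers g : Set B) (Q : Set B) :=
    (Ideal.disjoint_powers_iff_notMem_of_isPrime _).mpr hg
  exact ⟨Q.map (algebraMap B _),
    IsLocalization.isPrime_of_isPrime_disjoint (Submonoid.powers g) _ _ inferInstance hd,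
    IsLocalization.under_map_of_isPrime_disjoint (Submonoid.powers g) _ inferInstance hd⟩

theorem nontrivial_away (Q : Ideal B) [Q.IsPrime] (g : B) (hg : g ∉ Q) :
    Nontrivial (Loc B g) := by
  obtain ⟨Q', hQ', -⟩ := exists_prime_away B Q g hg
  by_contra h
  rw [not_nontrivial_iff_subsingleton] at h
  exact hQ'.ne_top ((Ideal.eq_top_iff_one _).mpr
    (by rw [Subsingleton.elim (1 : _) 0]; exact Q'.zero_mem))

theorem chart_basis (C : Type w) [CommRing C] [Algebra A C] [CharP C p] (n : ℕ)
    [Algebra (MvPolynomial (Fin n) A) C] [IsScalarTower A (MvPolynomial (Fin n) A) C]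
    [Algebra.Etale (MvPolynomial (Fin n) A) C] :
    Nonempty (Module.Basis (Fin n → Fin p) (Tw p A C) C) := by
  obtain ⟨b⟩ := poly_basis p A (Fin n)
  exact ⟨(isBaseChange_tw p A (MvPolynomial (Fin n) A) C).basis b⟩

theorem flat_tw_chart (C : Type w) [CommRing C] [Algebra A C] [Algebra B C] [IsScalarTower A B C]
    [Nontrivial C] [Module.Flat B C] (n : ℕ)
    [Algebra (MvPolynomial (Fin n) A) C] [IsScalarTower A (MvPolynomial (Fin n) A) C]
    [Algebra.Etale (MvPolynomial (Fin n) A) C] :
    Module.Flat (Tw p A B) C := by
  haveI : CharP C p := charP_of_nontrivial p B _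
  obtain ⟨b⟩ := chart_basis p A C n
  haveI : Module.Free (Tw p A C) C := Module.Free.of_basis b
  haveI : Module.Flat (Tw p A B) (Tw p A C) := twMap_flat p A B C
  exact Module.Flat.trans (Tw p A B) (Tw p A C) C

theorem flat_tw [Algebra.Smooth A B] : Module.Flat (Tw p A B) B := by
  classical
  let s : Set B := {g | Nontrivial (Loc B g) ∧ ∃ n, IsChart A B g n}
  have hs : Ideal.span s = ⊤ := by
    by_contra h
    obtain ⟨m, hm, hle⟩ := Ideal.exists_le_maximal _ h
    haveI := hm.isPrime
    obtain ⟨g, hg, hc⟩ := exists_chart A B m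
    exact hg (hle (Ideal.subset_span ⟨nontrivial_away B m g hg, hc⟩))
  refine Module.flat_of_isLocalized_span B B s hs (fun r => Loc B r.1)
    (fun r => Algebra.linearMap B (Loc B r.1)) ?_
  rintro ⟨g, hnt, n, alg, tower, et⟩
  haveI := hnt
  exact flat_tw_chart p A B (Loc B g) n

theorem relFrob_flat [Algebra.Smooth A B] : (relFrob p A B).Flat := flat_tw p A B

end charts

end Groth.Agent.Helper7.FrobSm
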