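import Mathlib
import Groth.Prelude.Def_FrobAlg
import Groth.Agent.Helper7.FrobSm4

set_option autoImplicit false
set_option linter.style.haveILetI false
set_option linter.unusedSectionVars false

/-! The relative Frobenius of a smooth algebra of relative dimension `r` is finite locally free
of rank `p ^ r`. -/

namespace Groth.Agent.Helper7.FrobSm

open TensorProduct FrobAlg MvPolynomial

universe u v w

attribute [local instance] algTwTw
attribute [local instance 50] algTwC

section
variable (p : ℕ) [Fact p.Prime] (A : Type u) [CommRing A] [CharP A p]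
  (B : Type v) [CommRing B] [Algebra A B] [CharP B p]

theorem projective_tw [Algebra.Smooth A B] : Module.Projective (Tw p A B) B := by
  haveI := flat_tw p A B
  haveI := finite_tw p A B
  haveI := finitePresentation_tw p A B
  haveI : Module.FinitePresentation (Tw p A B) B :=
    Module.FinitePresentation.of_finite_of_finitePresentation _ _
  exact Module.Flat.projective_of_finitePresentation

theorem rank_chart [Algebra.Smooth A B] (C : Type w) [CommRing C] [Algebra A C] [Algebra B C]
    [IsScalarTower A B C] [Algebra.Etale B C] [CharP C p] (n : ℕ)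
    [Algebra (MvPolynomial (Fin n) A) C] [IsScalarTower A (MvPolynomial (Fin n) A) C]
    [Algebra.Etale (MvPolynomial (Fin n) A) C] (q'' : PrimeSpectrum (Tw p A C)) :
    Module.rankAtStalk (R := Tw p A B) B (q''.comap (algebraMap (Tw p A B) (Tw p A C))) =
      p ^ n := by
  haveI := flat_tw p A B
  haveI := finite_tw p A B
  rw [← Module.rankAtStalk_isBaseChange (isBaseChange_tw p A B C) q'']
  obtain ⟨b⟩ := chart_basis p A C n
  haveI := Module.Free.of_basis b
  haveI : Nontrivial (Tw p A C) := q''.nontrivial
  rw [Module.rankAtStalk_eq_finrank_of_free, Module.finrank_eq_card_basis b]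
  simp

theorem kaehler_rank_chart [Algebra.Smooth A B] (C : Type w) [CommRing C] [Algebra A C]
    [Algebra B C] [IsScalarTower A B C] [Algebra.Etale B C] (n : ℕ)
    [Algebra (MvPolynomial (Fin n) A) C] [IsScalarTower A (MvPolynomial (Fin n) A) C]
    [Algebra.Etale (MvPolynomial (Fin n) A) C] (Q' : PrimeSpectrum C) :
    Module.rankAtStalk (R := B) Ω[B⁄A] (Q'.comap (algebraMap B C)) = n := by
  rw [← Module.rankAtStalk_isBaseChange (KaehlerDifferential.isBaseChange_of_formallyEtale A B C) Q']
  let b := (KaehlerDifferential.isBaseChange_of_formallyEtale A (MvPolynomial (Fin n) A) C).basis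
    (KaehlerDifferential.mvPolynomialBasis A (Fin n))
  haveI := Module.Free.of_basis b
  haveI : Nontrivial C := Q'.nontrivial
  rw [Module.rankAtStalk_eq_finrank_of_free, Module.finrank_eq_card_basis b]
  simp

theorem rank_tw [Algebra.Smooth A B] (r : ℕ)
    (hr : ∀ q : PrimeSpectrum B, Module.rankAtStalk (R := B) Ω[B⁄A] q = r)
    (q' : PrimeSpectrum (Tw p A B)) :
    Module.rankAtStalk (R := Tw p A B) B q' = p ^ r := by
  have hker : (⊥ : Ideal B).comap (algebraMap (Tw p A B) B) ≤ q'.asIdeal := by
    intro x hx
    rw [Ideal.mem_comap, Ideal.mem_bot] at hx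
    have h0 : x ^ p = 0 := twF_ker p A B x hx
    exact q'.isPrime.mem_of_pow_mem p (by rw [h0]; exact zero_mem _)
  obtain ⟨Q, -, hQ, hQq⟩ := Ideal.exists_ideal_over_prime_of_isIntegral q'.asIdeal ⊥ hker
  obtain ⟨g, hg, n, alg, tower, et⟩ := exists_chart A B Q
  haveI := nontrivial_away B Q g hg
  haveI : CharP (Loc B g) p := charP_of_nontrivial p B _
  obtain ⟨Q', hQ', hQ'Q⟩ := exists_prime_away B Q g hg
  let q'' : PrimeSpectrum (Tw p A (Loc B g)) :=
    ⟨Q'.comap (algebraMap (Tw p A (Loc B g)) (Loc B g)), inferInstance⟩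
  have hq : q''.comap (algebraMap (Tw p A B) (Tw p A (Loc B g))) = q' := by
    ext1
    change Ideal.comap _ (Ideal.comap _ Q') = _
    rw [Ideal.comap_comap, ← IsScalarTower.algebraMap_eq,
      IsScalarTower.algebraMap_eq (Tw p A B) B (Loc B g), ← Ideal.comap_comap, hQ'Q, hQq]
  have hn : n = r := by
    have := kaehler_rank_chart A B (Loc B g) n ⟨Q', hQ'⟩
    rw [hr] at this
    exact_mod_cast this.symm
  rw [← hq, rank_chart p A B (Loc B g) n q'', hn]

end

end Groth.Agent.Helper7.FrobSm
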