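import Mathlib
import Groth.Prelude

set_option autoImplicit false

namespace Groth.Agent.Helper7.QuietRT

open Polynomial

universe u

/-- the monomials `∏ t_i^{e_i}`, `0 ≤ e_i < p`, form a basis of `S` over `R`. -/
def MonoBij (p n : ℕ) (R S : Type u) [CommRing R] [CommRing S] [Algebra R S] (t : Fin n → S) : Prop :=
  Function.Bijective (fun c : (Fin n → Fin p) → R =>
    ∑ e, algebraMap R S (c e) * ∏ i, t i ^ (e i : ℕ))

section step

variable (p : ℕ) (hp : p ≠ 0) {n : ℕ} (R S : Type u) [CommRing R] [CommRing S] [Algebra R S]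
  (t : Fin (n + 1) → S) (a0 : R) (ha0 : algebraMap R S a0 = t 0 ^ p)

/-- the structure map `R[x]/(x^p - a₀) → S`, `x ↦ t₀`. -/
noncomputable def liftHom : Quiet.RootRing p R a0 →+* S :=
  AdjoinRoot.lift (algebraMap R S) (t 0) (by
    rw [eval₂_sub, eval₂_pow, eval₂_X, eval₂_C, ha0, sub_self])

theorem liftHom_of (r : R) : liftHom p R S t a0 ha0 (AdjoinRoot.of _ r) = algebraMap R S r :=
  AdjoinRoot.lift_of _

theorem liftHom_root : liftHom p R S t a0 ha0 (AdjoinRoot.root _) = t 0 :=
  AdjoinRoot.lift_root _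

include hp in
theorem monic_aux : (X ^ p - C a0 : R[X]).Monic := monic_X_pow_sub_C a0 hp

include hp in
theorem natDegree_aux [Nontrivial R] : (X ^ p - C a0 : R[X]).natDegree = p :=
  natDegree_X_pow_sub_C

/-- the power basis `1, x, …, x^{p-1}` indexed by `Fin p`. -/
noncomputable def rootBasis [Nontrivial R] : Module.Basis (Fin p) R (Quiet.RootRing p R a0) :=
  (AdjoinRoot.powerBasis' (monic_aux p hp R a0)).basis.reindex
    (finCongr (natDegree_aux p hp R a0))

theorem rootBasis_apply [Nontrivial R] (j : Fin p) :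
    rootBasis p hp R a0 j = AdjoinRoot.root _ ^ (j : ℕ) := by
  rw [rootBasis, Module.Basis.reindex_apply, PowerBasis.basis_eq_pow]
  rfl

/-- the algebra structure of `S` over `R[x]/(x^p - a₀)`. -/
@[reducible] noncomputable def liftAlg : Algebra (Quiet.RootRing p R a0) S :=
  (liftHom p R S t a0 ha0).toAlgebra

theorem lift_tower : letI := liftAlg p R S t a0 ha0
    IsScalarTower R (Quiet.RootRing p R a0) S := by
  letI := liftAlg p R S t a0 ha0
  exact IsScalarTower.of_algebraMap_eq fun r => (liftHom_of p R S t a0 ha0 r).symm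

theorem algebraMap_smul_root [Nontrivial R] (r : R) (j : Fin p) :
    liftHom p R S t a0 ha0 (r • rootBasis p hp R a0 j) = algebraMap R S r * t 0 ^ (j : ℕ) := by
  rw [rootBasis_apply, Algebra.smul_def, map_mul, map_pow, liftHom_root, AdjoinRoot.algebraMap_eq,
    liftHom_of]

/-- key identity relating the two combination maps. -/
theorem key_identity [Nontrivial R] (c' : (Fin n → Fin p) → Quiet.RootRing p R a0) :
    (∑ e' : Fin n → Fin p, liftHom p R S t a0 ha0 (c' e') * ∏ i, t i.succ ^ (e' i : ℕ)) =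
      ∑ e : Fin (n + 1) → Fin p,
        algebraMap R S ((rootBasis p hp R a0).repr (c' (Fin.tail e)) (e 0)) * ∏ i, t i ^ (e i : ℕ) := by
  rw [← (Fin.consEquiv (fun _ : Fin (n + 1) => Fin p)).sum_comp, Fintype.sum_prod_type,
    Finset.sum_comm]
  refine Finset.sum_congr rfl fun e' _ => ?_
  conv_lhs => rw [← (rootBasis p hp R a0).sum_repr (c' e'), map_sum, Finset.sum_mul]
  refine Finset.sum_congr rfl fun j _ => ?_
  have hc : (Fin.consEquiv (fun _ : Fin (n + 1) => Fin p)) (j, e') = Fin.cons j e' := rfl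
  rw [algebraMap_smul_root, hc, Fin.prod_univ_succ]
  simp only [Fin.cons_zero, Fin.cons_succ, Fin.tail_cons]
  ring

include hp in
theorem monoBij_step [Nontrivial R] (h : MonoBij p (n + 1) R S t) :
    letI := liftAlg p R S t a0 ha0
    MonoBij p n (Quiet.RootRing p R a0) S (fun i => t i.succ) := by
  letI := liftAlg p R S t a0 ha0
  constructor
  · intro c' d' hcd
    have hcd' : (∑ e' : Fin n → Fin p, liftHom p R S t a0 ha0 (c' e') * ∏ i, t i.succ ^ (e' i : ℕ)) =
        ∑ e' : Fin n → Fin p, liftHom p R S t a0 ha0 (d' e') * ∏ i, t i.succ ^ (e' i : ℕ) := hcd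
    rw [key_identity p hp, key_identity p hp] at hcd'
    have h1 := h.1 hcd'
    funext e'
    apply (rootBasis p hp R a0).repr.injective
    ext j
    have := congrFun h1 (Fin.cons j e')
    simpa using this
  · intro s
    obtain ⟨c, hc⟩ := h.2 s
    refine ⟨fun e' => ∑ j, c (Fin.cons j e') • rootBasis p hp R a0 j, ?_⟩
    show (∑ e' : Fin n → Fin p, liftHom p R S t a0 ha0 (∑ j, c (Fin.cons j e') • rootBasis p hp R a0 j) *
      ∏ i, t i.succ ^ (e' i : ℕ)) = s
    rw [key_identity p hp, ← hc]
    refine Finset.sum_congr rfl fun e _ => ?_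
    congr 2
    rw [(rootBasis p hp R a0).repr_sum_self]
    congr 1
    exact Fin.cons_self_tail e

end step

section main

variable (p : ℕ) (hp : p ≠ 0)

include hp in
theorem nontrivial_rootRing (R : Type u) [CommRing R] [Nontrivial R] (a0 : R) :
    Nontrivial (Quiet.RootRing p R a0) :=
  ⟨⟨rootBasis p hp R a0 ⟨0, Nat.pos_of_ne_zero hp⟩, 0, (rootBasis p hp R a0).ne_zero _⟩⟩

include hp in
/-- a monomial basis `∏ t_i^{e_i}` with `t_i^p ∈ R` gives a tower of `n` elementary extractions. -/
theorem isRootTower_of_monoBij : ∀ (n : ℕ) (R S : Type u) [CommRing R] [CommRing S] [Algebra R S]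
    [Nontrivial R] (t : Fin n → S) (a : Fin n → R), (∀ i, algebraMap R S (a i) = t i ^ p) →
    MonoBij p n R S t → Quiet.IsRootTower p n R S
  | 0, R, S, _, _, _, _, t, a, _, h => by
    have hbij : Function.Bijective (algebraMap R S) := by
      have h1 : (fun c : (Fin 0 → Fin p) → R => ∑ e, algebraMap R S (c e) * ∏ i, t i ^ (e i : ℕ)) =
          fun c => algebraMap R S (c default) := by
        funext c
        rw [Fintype.sum_unique, Finset.univ_eq_empty, Finset.prod_empty, mul_one]
      unfold MonoBij at h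
      rw [h1] at h
      constructor
      · intro x y hxy
        have := h.1 (a₁ := fun _ => x) (a₂ := fun _ => y) hxy
        exact congrFun this default
      · intro s
        obtain ⟨c, hc⟩ := h.2 s
        exact ⟨c default, hc⟩
    exact ⟨(AlgEquiv.ofBijective (Algebra.ofId R S) hbij).symm⟩
  | n + 1, R, S, _, _, _, _, t, a, ha, h => by
    letI := liftAlg p R S t (a 0) (ha 0)
    haveI := nontrivial_rootRing p hp R (a 0)
    refine ⟨a 0, liftAlg p R S t (a 0) (ha 0), lift_tower p R S t (a 0) (ha 0), ?_⟩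
    refine isRootTower_of_monoBij n (Quiet.RootRing p R (a 0)) S (fun i => t i.succ)
      (fun i => AdjoinRoot.of _ (a i.succ)) ?_ (monoBij_step p hp R S t (a 0) (ha 0) h)
    intro i
    show liftHom p R S t (a 0) (ha 0) (AdjoinRoot.of _ (a i.succ)) = _
    rw [liftHom_of, ha]

end main

end Groth.Agent.Helper7.QuietRT
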