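import Mathlib
import Groth.Prelude
import Groth.Agent.Helper7.FrobSm4
import Groth.Agent.Helper7.QuietA

set_option autoImplicit false
set_option linter.style.haveILetI false
set_option linter.unusedSectionVars false

namespace Groth.Agent.Helper7.QuietRT

open TensorProduct FrobAlg MvPolynomial Groth.Agent.Helper7.FrobSm

universe u

attribute [local instance] algTwTw
attribute [local instance 50] algTwC

section chart

variable (p : ℕ) [hp : Fact p.Prime] (k : Type u) [CommRing k] [CharP k p]
  (C : Type u) [CommRing C] [Algebra k C] [CharP C p] (n : ℕ)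
  [Algebra (MvPolynomial (Fin n) k) C] [IsScalarTower k (MvPolynomial (Fin n) k) C]
  [Algebra.Etale (MvPolynomial (Fin n) k) C]

/-- the coordinates of the chart. -/
noncomputable def coord (i : Fin n) : C := algebraMap (MvPolynomial (Fin n) k) C (X i)

theorem map_monomial_ex (e : Fin n → Fin p) :
    algebraMap (MvPolynomial (Fin n) k) C (monomial (ex p e) (1 : k)) =
      ∏ i, coord k C n i ^ (e i : ℕ) := by
  rw [monomial_eq, C_1, one_mul, Finsupp.prod_fintype _ _ (fun _ => pow_zero _), map_prod]
  refine Finset.prod_congr rfl fun i _ => ?_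
  rw [map_pow, ex_apply]
  rfl

/-- refined chart basis: the monomials in the coordinates are a basis of `C` over its twist. -/
theorem chart_bijective : Function.Bijective
    (fun c : (Fin n → Fin p) → Tw p k C =>
      ∑ e, twF p k C (c e) * ∏ i, coord k C n i ^ (e i : ℕ)) := by
  classical
  obtain ⟨b, hb⟩ := exists_basis_of_bijective _ (poly_bijective p k (Fin n))
  let B' := (isBaseChange_tw p k (MvPolynomial (Fin n) k) C).basis b
  have hB' : ∀ e, B' e = ∏ i, coord k C n i ^ (e i : ℕ) := by
    intro e
    rw [IsBaseChange.basis_apply, hb]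
    exact map_monomial_ex p k C n e
  have h1 : (fun c : (Fin n → Fin p) → Tw p k C =>
      ∑ e, twF p k C (c e) * ∏ i, coord k C n i ^ (e i : ℕ)) = fun c => B'.equivFun.symm c := by
    funext c
    rw [Module.Basis.equivFun_symm_apply]
    refine Finset.sum_congr rfl fun e _ => ?_
    rw [hB', Algebra.smul_def]
    rfl
  rw [h1]
  exact B'.equivFun.symm.bijective

/-- for a perfect base, `c ↦ c ⊗ 1` identifies `C` with its Frobenius twist. -/
theorem twI_bijective [PerfectRing k p] : Function.Bijective (twI p k C) := by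
  have hbij : Function.Bijective (algebraMap k (Twist p k)) := by
    show Function.Bijective ((toTwist p k : k →+* Twist p k).comp (frobenius k p))
    exact (toTwist p k).bijective.comp (bijective_frobenius k p)
  let e : k ≃ₐ[k] Twist p k := AlgEquiv.ofBijective (Algebra.ofId k (Twist p k)) hbij
  let E : C ≃ₐ[k] C ⊗[k] Twist p k :=
    (Algebra.TensorProduct.rid k k C).symm.trans
      (Algebra.TensorProduct.congr (AlgEquiv.refl (R := k) (A₁ := C)) e)
  have h : ∀ c, twI p k C c = E c := by
    intro c
    show c ⊗ₜ[k] (1 : Twist p k) = _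
    simp [E, e]
  have : (twI p k C : C → Tw p k C) = fun c => E c := funext h
  rw [this]
  exact E.bijective

/-- the monomials in the coordinates form a basis of `C` over `C` through the Frobenius. -/
theorem frob_bijective [PerfectRing k p] : Function.Bijective
    (fun c : (Fin n → Fin p) → C => ∑ e, c e ^ p * ∏ i, coord k C n i ^ (e i : ℕ)) := by
  have h1 : (fun c : (Fin n → Fin p) → C => ∑ e, c e ^ p * ∏ i, coord k C n i ^ (e i : ℕ)) =
      (fun c : (Fin n → Fin p) → Tw p k C =>
        ∑ e, twF p k C (c e) * ∏ i, coord k C n i ^ (e i : ℕ)) ∘ (fun c e => twI p k C (c e)) := by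
    funext c
    simp only [Function.comp_apply, twF_twI]
  rw [h1]
  refine (chart_bijective p k C n).comp ?_
  have hb := twI_bijective p k C
  constructor
  · intro c d h
    funext e
    exact hb.1 (congrFun h e)
  · intro c
    choose c' hc' using fun e => hb.2 (c e)
    exact ⟨c', funext hc'⟩

end chart

section transfer

variable (p : ℕ) {n : ℕ} {C R₁ S₁ : Type u} [CommRing C] [CommRing R₁] [CommRing S₁]
  (t : Fin n → C) (eR : C ≃+* R₁) (eS : C ≃+* S₁) (ψ : R₁ →+* S₁)
  (hψ : ∀ c, ψ (eR c) = eS (c ^ p))

include hψ in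
theorem monoBij_transfer
    (h : Function.Bijective (fun c : (Fin n → Fin p) → C => ∑ e, c e ^ p * ∏ i, t i ^ (e i : ℕ))) :
    letI := ψ.toAlgebra
    MonoBij p n R₁ S₁ (fun i => eS (t i)) := by
  letI := ψ.toAlgebra
  have h1 : (fun c : (Fin n → Fin p) → R₁ =>
      ∑ e, algebraMap R₁ S₁ (c e) * ∏ i, (eS (t i)) ^ (e i : ℕ)) =
      (fun x => eS x) ∘ (fun c : (Fin n → Fin p) → C => ∑ e, c e ^ p * ∏ i, t i ^ (e i : ℕ)) ∘
        (fun c e => eR.symm (c e)) := by
    funext c
    simp only [Function.comp_apply, map_sum, map_mul, map_prod, map_pow]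
    refine Finset.sum_congr rfl fun e _ => ?_
    congr 1
    show ψ (c e) = _
    rw [← map_pow, ← hψ, RingEquiv.apply_symm_apply]
  unfold MonoBij
  rw [h1]
  refine eS.bijective.comp (h.comp ?_)
  constructor
  · intro c d hcd
    funext e
    exact eR.symm.injective (congrFun hcd e)
  · intro c
    exact ⟨fun e => eR (c e), funext fun e => eR.symm_apply_apply _⟩

end transfer

section core

variable (p : ℕ) [hp : Fact p.Prime] (k : Type u) [Field k] [CharP k p] [PerfectRing k p]
  (S : Type u) [CommRing S] [Algebra k S] [CharP S p] [Algebra.Smooth k S]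

include k in
/-- algebraic core: near every prime, the Frobenius of a localization `S_g` is a root tower,
read through arbitrary ring isomorphisms of source and target. -/
theorem core (Q : Ideal S) [Q.IsPrime] :
    ∃ g, g ∉ Q ∧ ∃ n : ℕ, ∀ (R₁ S₁ : Type u) [CommRing R₁] [CommRing S₁]
      (eR : Loc S g ≃+* R₁) (eS : Loc S g ≃+* S₁) (ψ : R₁ →+* S₁),
      (∀ c, ψ (eR c) = eS (c ^ p)) →
      letI := ψ.toAlgebra
      Quiet.IsRootTower p n R₁ S₁ := by
  obtain ⟨g, hg, n, alg, tower, het⟩ := exists_chart k S Q
  refine ⟨g, hg, n, ?_⟩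
  intro R₁ S₁ _ _ eR eS ψ hψ
  haveI : Nontrivial (Loc S g) := nontrivial_away S Q g hg
  haveI : CharP (Loc S g) p := charP_of_nontrivial p S _
  haveI : Nontrivial R₁ := eR.injective.nontrivial
  letI := ψ.toAlgebra
  have hb := frob_bijective p k (Loc S g) n
  refine isRootTower_of_monoBij p hp.out.ne_zero n R₁ S₁
    (fun i => eS (coord k (Loc S g) n i)) (fun i => eR (coord k (Loc S g) n i)) ?_
    (monoBij_transfer p (coord k (Loc S g) n) eR eS ψ hψ hb)
  intro i
  show ψ (eR (coord k (Loc S g) n i)) = _
  rw [hψ, map_pow]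

end core

end Groth.Agent.Helper7.QuietRT
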