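import Mathlib
import Groth.Prelude
import Groth.Agent.Helper7.FrobSm5
import Groth.Agent.Helper7.QuietB

set_option autoImplicit false
set_option linter.style.haveILetI false
set_option linter.unusedSectionVars false

namespace Groth.Agent.Helper7.FSplit

open Groth.Agent.Helper7.FrobSm Groth.Agent.Helper7.QuietRT

universe u

/-- an element of a projective module which is nonzero modulo every maximal ideal is the image of
`1` under a splitting functional. -/
theorem exists_linearMap_eq_one {R M : Type*} [CommRing R] [AddCommGroup M] [Module R M]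
    [Module.Projective R M] (m : M)
    (hm : ∀ 𝔪 : Ideal R, 𝔪.IsMaximal → m ∉ (𝔪 • ⊤ : Submodule R M)) :
    ∃ φ : M →ₗ[R] R, φ m = 1 := by
  let ev : (M →ₗ[R] R) →ₗ[R] R := LinearMap.applyₗ m
  let J : Ideal R := LinearMap.range ev
  by_cases hJ : J = ⊤
  · have h1 : (1 : R) ∈ J := by rw [hJ]; trivial
    obtain ⟨φ, hφ⟩ := h1
    exact ⟨φ, hφ⟩
  · exfalso
    obtain ⟨𝔪, h𝔪, hle⟩ := Ideal.exists_le_maximal J hJ
    letI : Field (R ⧸ 𝔪) := Ideal.Quotient.field 𝔪
    have hne : (Submodule.Quotient.mk m : M ⧸ (𝔪 • ⊤ : Submodule R M)) ≠ 0 := by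
      rw [Ne, Submodule.Quotient.mk_eq_zero]
      exact hm 𝔪 h𝔪
    obtain ⟨f, hf⟩ := Module.Projective.exists_dual_eq_one (R ⧸ 𝔪) hne
    let lam : M →ₗ[R] (R ⧸ 𝔪) :=
      (f.restrictScalars R).comp (Submodule.mkQ (𝔪 • ⊤ : Submodule R M))
    obtain ⟨φ, hφ⟩ := Module.projective_lifting_property
      (Submodule.mkQ (𝔪 : Submodule R R)) lam (Submodule.mkQ_surjective _)
    have h1 : (Submodule.mkQ (𝔪 : Submodule R R)) (φ m) = 1 := by
      have := LinearMap.congr_fun hφ m
      rw [LinearMap.comp_apply] at this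
      rw [this]
      exact hf
    have h2 : φ m ∈ 𝔪 := hle ⟨φ, rfl⟩
    have h3 : (Submodule.mkQ (𝔪 : Submodule R R)) (φ m) = 0 := by
      rw [Submodule.mkQ_apply, Submodule.Quotient.mk_eq_zero]
      exact h2
    rw [h3] at h1
    exact zero_ne_one h1

section split

variable (p : ℕ) [hp : Fact p.Prime] (k : Type u) [Field k] [CharP k p] [PerfectRing k p]
  (A : Type u) [CommRing A] [Algebra k A] [CharP A p] [Algebra.Smooth k A]

include k in
/-- a smooth algebra over a perfect field is Frobenius split. -/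
theorem exists_frobenius_splitting :
    ∃ φ : A →+ A, (∀ a b : A, φ (a ^ p * b) = a * φ b) ∧ φ 1 = 1 := by
  haveI : Module.Projective (Tw p k A) A := projective_tw p k A
  let e : A ≃+* Tw p k A := RingEquiv.ofBijective (twI p k A) (twI_bijective p k A)
  have hFe : ∀ a : A, twF p k A (e a) = a ^ p := fun a => twF_twI p k A a
  have hm : ∀ 𝔪 : Ideal (Tw p k A), 𝔪.IsMaximal → (1 : A) ∉ (𝔪 • ⊤ : Submodule (Tw p k A) A) := by
    intro 𝔪 h𝔪 h1
    rw [Ideal.smul_top_eq_map] at h1
    have hle : 𝔪.map (algebraMap (Tw p k A) A) ≤ 𝔪.comap (e : A →+* Tw p k A) := by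
      rw [Ideal.map_le_iff_le_comap]
      intro x hx
      obtain ⟨a, rfl⟩ := e.surjective x
      rw [Ideal.mem_comap]
      show e (twF p k A (e a)) ∈ 𝔪
      rw [hFe, map_pow]
      exact Ideal.pow_mem_of_mem _ hx p hp.out.pos
    have h2 : (1 : A) ∈ 𝔪.comap (e : A →+* Tw p k A) := hle h1
    rw [Ideal.mem_comap, map_one] at h2
    exact h𝔪.ne_top ((Ideal.eq_top_iff_one _).mpr h2)
  obtain ⟨ψ, hψ⟩ := exists_linearMap_eq_one (R := Tw p k A) (M := A) (1 : A) hm
  refine ⟨(e.symm : Tw p k A →+* A).toAddMonoidHom.comp ψ.toAddMonoidHom, ?_, ?_⟩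
  · intro a b
    show e.symm (ψ (a ^ p * b)) = a * e.symm (ψ b)
    have h1 : a ^ p * b = (e a) • b := by
      rw [Algebra.smul_def]
      show _ = twF p k A (e a) * b
      rw [hFe]
    rw [h1, map_smul, smul_eq_mul, map_mul, RingEquiv.symm_apply_apply]
  · show e.symm (ψ 1) = 1
    rw [hψ, map_one]

end split

end Groth.Agent.Helper7.FSplit
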