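import Mathlib
import Groth.Prelude
import Groth.Agent.Helper7.FSplitA
import Groth.Agent.Helper7.CohenN
import Groth.Agent.Helper6.W2Split
import Groth.Agent.Helper6.W2Frob

set_option autoImplicit false
set_option linter.style.haveILetI false
set_option linter.unusedSectionVars false

namespace Groth.Agent.Helper7.FSplit

open FrobAlg Groth.Agent.Helper6.W2

universe u v

/-- lifting of a ring map out of a formally smooth algebra along a surjection with nilpotent
kernel, with a prescribed (possibly twisted) action on the base. -/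
theorem exists_lift_of_formallySmooth {R B C D : Type*} [CommRing R] [CommRing B] [Algebra R B]
    [Algebra.FormallySmooth R B] [CommRing C] [CommRing D] (j : R →+* C) (g : C →+* D)
    (hg : Function.Surjective g) (hnil : IsNilpotent (RingHom.ker g)) (f : B →+* D)
    (hf : ∀ r, f (algebraMap R B r) = g (j r)) :
    ∃ Φ : B →+* C, (∀ r, Φ (algebraMap R B r) = j r) ∧ ∀ b, g (Φ b) = f b := by
  letI : Algebra R C := j.toAlgebra
  letI : Algebra R D := (g.comp j).toAlgebra
  let g' : C →ₐ[R] D := { g with commutes' := fun r => rfl }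
  let f' : B →ₐ[R] D := { f with commutes' := fun r => hf r }
  have hg' : Function.Surjective g' := hg
  have hnil' : IsNilpotent (RingHom.ker (g' : C →+* D)) := hnil
  refine ⟨(Algebra.FormallySmooth.liftOfSurjective f' g' hg' hnil' : B →+* C), ?_, ?_⟩
  · intro r
    exact (Algebra.FormallySmooth.liftOfSurjective f' g' hg' hnil').commutes r
  · intro b
    have := Algebra.FormallySmooth.comp_liftOfSurjective f' g' hg' hnil'
    exact AlgHom.congr_fun this b

section lift

variable (p : ℕ) [hp : Fact p.Prime] {k : Type u} [Field k] [CharP k p] [PerfectRing k p]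
  {A : Type u} [CommRing A] [Algebra k A]
  {B : Type u} [CommRing B] {ι : W2 p k →+* B} {π : B →+* A}

/-- a flat lifting over `W₂(k)` of a formally smooth `k`-algebra is formally smooth over
`W₂(k)`. -/
theorem formallySmooth_of_isLift [Algebra.FormallySmooth k A] (h : IsLift p k A B ι π) :
    @Algebra.FormallySmooth (W2 p k) B _ _ ι.toAlgebra := by
  letI := ι.toAlgebra
  haveI : Module.Flat (W2 p k) B := h.flat
  have hsurj : Function.Surjective (res p k) := fun a => ⟨tau p a, by rw [res_apply, tau_coeff_zero]⟩
  refine Cohen.formallySmooth_of_flat_of_nilpotent' (res p k) hsurj π h.surj ?_ h.ker_eq 2 ?_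
  · intro r
    exact RingHom.congr_fun h.comm r
  · rw [ker_res, Ideal.span_singleton_pow, sq, Groth.Agent.Helper6.W2.p_mul_p]
    exact Ideal.span_singleton_eq_bot.mpr rfl

/-- a flat lifting over `W₂(k)` of a formally smooth `k`-algebra of characteristic `p` admits a
lifting of Frobenius. -/
theorem exists_frobLift_of_isLift [Algebra.FormallySmooth k A] [CharP A p]
    (h : IsLift p k A B ι π) : ∃ Φ : B →+* B, IsFrobLift p k A B ι π Φ := by
  letI := ι.toAlgebra
  haveI : Algebra.FormallySmooth (W2 p k) B := formallySmooth_of_isLift p h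
  have hnil : IsNilpotent (RingHom.ker π) := by
    refine ⟨2, ?_⟩
    rw [L_ker_pi p h, Ideal.span_singleton_pow, sq, L_p_mul_p p h]
    exact Ideal.span_singleton_eq_bot.mpr rfl
  have hcomm : ∀ w, π (ι w) = algebraMap k A (res p k w) := fun w => RingHom.congr_fun h.comm w
  obtain ⟨Φ, hΦ1, hΦ2⟩ := exists_lift_of_formallySmooth (R := W2 p k) (B := B)
    (ι.comp (sigma p k)) π h.surj hnil ((frobenius A p).comp π) (by
      intro w
      show frobenius A p (π (ι w)) = π (ι (sigma p k w))
      rw [hcomm, hcomm, frobenius_def, ← map_pow, res_apply, res_apply, WittGrp.coeff_frob])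
  refine ⟨Φ, { h with semi := ?_, red := ?_ }⟩
  · ext w
    exact hΦ1 w
  · intro b
    rw [hΦ2]
    rfl

end lift

section main

variable (p : ℕ) [hp : Fact p.Prime] (k : Type u) [Field k] [CharP k p] [PerfectRing k p]
  (A : Type u) [CommRing A] [Algebra k A] [Algebra.Smooth k A]

/-- **Smooth affine schemes over a perfect field lift to `W₂(k)` together with Frobenius.** -/
theorem isFLiftable_of_smooth : IsFLiftable p k A := by
  rcases subsingleton_or_nontrivial A with hsub | hnt
  · -- the zero ring
    have hL := isLift_split (k := k) (A := A) p (0 : A →+ A) (fun a b => Subsingleton.elim _ _)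
      (Subsingleton.elim _ _)
    have hW : Subsingleton (W2 p A) :=
      ⟨fun x y => ext2 p (Subsingleton.elim _ _) (Subsingleton.elim _ _)⟩
    have hQ : Subsingleton (W2 p A ⧸ splitIdeal p A (0 : A →+ A)) :=
      ⟨fun x y => by
        obtain ⟨x, rfl⟩ := Ideal.Quotient.mk_surjective x
        obtain ⟨y, rfl⟩ := Ideal.Quotient.mk_surjective y
        rw [Subsingleton.elim x y]⟩
    refine ⟨_, inferInstance, _, _, RingHom.id _, { hL with semi := ?_, red := ?_ }⟩
    · ext w
      exact Subsingleton.elim _ _
    · intro b
      exact Subsingleton.elim _ _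
  · haveI : CharP A p := charP_of_injective_algebraMap (algebraMap k A).injective p
    obtain ⟨φ, hφ, hφ1⟩ := exists_frobenius_splitting p k A
    have hL := isLift_split (k := k) (A := A) p φ hφ hφ1
    obtain ⟨Φ, hΦ⟩ := exists_frobLift_of_isLift p hL
    exact ⟨_, inferInstance, _, _, Φ, hΦ⟩

end main

end Groth.Agent.Helper7.FSplit
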