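import Mathlib
import Groth.Prelude
import Groth.Agent.S0602
import Groth.Agent.Helper2.SkLift
import Groth.Agent.Helper2.DepthCM
import Groth.Agent.Helper2.Depth

/-!
# Elementwise consequences of Serre's conditions `S₁` and `S₂`
-/

set_option autoImplicit false
set_option linter.style.haveILetI false
set_option linter.unusedSectionVars false

namespace Groth.Agent.Helper7.SkElem

open IsLocalRing
open scoped Pointwise

universe u

variable (R : Type u) [CommRing R] [IsNoetherianRing R]

/-- `S₁`: every nonzero element survives at some minimal prime. -/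
theorem exists_minimal_of_S1 (h1 : LocCoh.HasSk 1 R R) (x : R) (hx0 : x ≠ 0) :
    ∃ q ∈ minimalPrimes R, ∀ s : R, s * x = 0 → s ∈ q := by
  obtain ⟨P, hP, hle⟩ := exists_le_isAssociatedPrime_of_isNoetherianRing R x hx0
  rw [isAssociatedPrime_iff] at hP
  obtain ⟨hPp, y, hy⟩ := hP
  have hyi : ∀ r : R, r ∈ P ↔ r * y = 0 := by
    intro r
    rw [hy, Submodule.mem_colon_singleton]
    simp
  clear hy
  set A := Localization.AtPrime P with hA
  have hy' : algebraMap R A y ≠ 0 := by
    intro h
    rw [IsLocalization.map_eq_zero_iff P.primeCompl] at h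
    obtain ⟨s, hs⟩ := h
    have : (s : R) ∈ P := (hyi _).mpr hs
    exact s.2 this
  have hzd : ∀ a ∈ maximalIdeal A, ¬ IsSMulRegular A a := by
    intro a ha hreg
    obtain ⟨⟨r, s⟩, hrs⟩ := IsLocalization.surj P.primeCompl a
    simp only at hrs
    have hrP : r ∈ P := by
      rw [← IsLocalization.AtPrime.to_map_mem_maximal_iff A P, ← hrs]
      exact Ideal.mul_mem_right _ _ ha
    have hry : r * y = 0 := (hyi _).mp hrP
    have h2 : a * algebraMap R A s * algebraMap R A y = 0 := by
      rw [hrs, ← map_mul, hry, map_zero]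
    have hu : IsUnit (algebraMap R A s) := IsLocalization.map_units A s
    have h3 : a * algebraMap R A y = 0 := by
      have : algebraMap R A s * (a * algebraMap R A y) = 0 := by
        rw [← h2]; ring
      exact (hu.mul_right_eq_zero).mp this
    apply hy'
    apply hreg
    simp only [smul_eq_mul, mul_zero]
    exact h3
  have hS := h1 P
  rw [Groth.Agent.S0602.sk_at_iff] at hS
  have hdim : ringKrullDim A ≤ 0 := by
    rcases hS with h | ⟨a, ha, hreg⟩
    · exact h
    · exact absurd hreg (hzd a ha)
  have hht : P.height = 0 := by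
    rw [IsLocalization.AtPrime.ringKrullDim_eq_height P] at hdim
    have : P.height ≤ ((0 : ℕ) : ℕ∞) := by exact_mod_cast hdim
    simpa using this
  refine ⟨P, (Ideal.height_eq_zero_iff (I := P)).mp hht, ?_⟩
  intro s hs
  apply hle
  rw [Submodule.mem_colon_singleton]
  simpa using hs

/-- `S₂`: at a prime `P` of height `≥ 2`, a regular element `t ∈ P` and `z` with `P z ⊆ (t)`
satisfy `z ∈ (t)` locally at `P`. -/
theorem exists_of_S2 (h2 : LocCoh.HasSk 2 R R) (P : Ideal R) [P.IsPrime] (hP : 2 ≤ P.height)
    (t : R) (htP : t ∈ P) (htreg : ∀ w : R, t * w = 0 → w = 0) (z : R)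
    (hz : ∀ a ∈ P, ∃ r : R, a * z = t * r) :
    ∃ s ∉ P, ∃ w : R, s * z = t * w := by
  set L := Localization.AtPrime P with hL
  have hdepth : (2 : ℕ∞) ≤ LocCoh.depth L L := by
    have := (Groth.Agent.Helper2.SkLift.hasSk_iff' (A := R) 2).1 h2 P
    refine le_trans ?_ this
    exact le_min (by norm_num) hP
  set t' : L := algebraMap R L t with ht'
  have ht'm : t' ∈ maximalIdeal L :=
    (IsLocalization.AtPrime.to_map_mem_maximal_iff L P t).2 htP
  have ht'reg : IsSMulRegular L t' := by
    rw [isSMulRegular_iff_right_eq_zero_of_smul]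
    intro y hy
    obtain ⟨⟨b, s⟩, hbs⟩ := IsLocalization.surj P.primeCompl y
    simp only at hbs
    have h3 : algebraMap R L (t * b) = 0 := by
      rw [map_mul, ← hbs, ← mul_assoc]
      have : t' * y = 0 := hy
      rw [this, zero_mul]
    rw [IsLocalization.map_eq_zero_iff P.primeCompl] at h3
    obtain ⟨u, hu⟩ := h3
    have h4 : (u : R) * b = 0 := by
      apply htreg
      rw [← hu]; ring
    have h5 : algebraMap R L b = 0 := by
      rw [IsLocalization.map_eq_zero_iff P.primeCompl]
      exact ⟨u, h4⟩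
    rw [h5] at hbs
    exact ((IsLocalization.map_units L s).mul_left_eq_zero).mp hbs
  have hIM : maximalIdeal L • (⊤ : Submodule L L) ≠ ⊤ :=
    Groth.Agent.Helper2.Depth.smul_top_ne_top L L
  have hq := Groth.Agent.Helper2.DepthCM.idealDepth_quotSMulTop (maximalIdeal L) L hIM t' ht'm ht'reg
  haveI hnt : Nontrivial (QuotSMulTop t' L) := by
    rw [Submodule.Quotient.nontrivial_iff]
    intro h
    apply hIM
    rw [eq_top_iff]
    intro y _
    have hy : y ∈ t' • (⊤ : Submodule L L) := by rw [h]; trivial
    rw [Submodule.mem_smul_pointwise_iff_exists] at hy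
    obtain ⟨y', -, rfl⟩ := hy
    exact Submodule.smul_mem_smul ht'm (Submodule.mem_top (x := y'))
  have hne0 : LocCoh.depth L (QuotSMulTop t' L) ≠ 0 := by
    intro h0
    unfold LocCoh.depth at h0 hdepth
    rw [h0, zero_add] at hq
    rw [← hq] at hdepth
    norm_num at hdepth
  rw [Ne, Groth.Agent.Helper2.Depth.depth_eq_zero_iff] at hne0
  push Not at hne0
  obtain ⟨s', hs'm, hs'reg⟩ := hne0
  -- `s' • [z] = 0`
  have hmem : s' * algebraMap R L z ∈ t' • (⊤ : Submodule L L) := by
    obtain ⟨⟨a, u⟩, hau⟩ := IsLocalization.surj P.primeCompl s'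
    simp only at hau
    have haP : a ∈ P := by
      rw [← IsLocalization.AtPrime.to_map_mem_maximal_iff L P, ← hau]
      exact Ideal.mul_mem_right _ _ hs'm
    obtain ⟨r, hr⟩ := hz a haP
    rw [Submodule.mem_smul_pointwise_iff_exists]
    obtain ⟨v, hv⟩ := (IsLocalization.map_units L u).exists_left_inv
    refine ⟨v * algebraMap R L r, trivial, ?_⟩
    have h6 : s' * algebraMap R L z = v * (s' * algebraMap R L u) * algebraMap R L z := by
      have : v * (s' * algebraMap R L u) = s' * (v * algebraMap R L u) := by ring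
      rw [this, hv, mul_one]
    rw [h6, hau, mul_assoc, ← map_mul, hr, map_mul, smul_eq_mul, ht']
    ring
  have hzero : (Submodule.Quotient.mk (algebraMap R L z) : QuotSMulTop t' L) = 0 := by
    apply hs'reg
    change s' • (Submodule.Quotient.mk (algebraMap R L z) : QuotSMulTop t' L) = s' • 0
    rw [smul_zero, ← Submodule.Quotient.mk_smul, Submodule.Quotient.mk_eq_zero, smul_eq_mul]
    exact hmem
  rw [Submodule.Quotient.mk_eq_zero, Submodule.mem_smul_pointwise_iff_exists] at hzero
  obtain ⟨y, -, hy⟩ := hzero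
  obtain ⟨⟨w, s⟩, hws⟩ := IsLocalization.surj P.primeCompl y
  simp only at hws
  have h7 : algebraMap R L ((s : R) * z - t * w) = 0 := by
    rw [map_sub, map_mul, map_mul, ← hws, ← hy, smul_eq_mul, ht']
    ring
  rw [IsLocalization.map_eq_zero_iff P.primeCompl] at h7
  obtain ⟨u, hu⟩ := h7
  refine ⟨(u : R) * (s : R), ?_, (u : R) * w, ?_⟩
  · exact (P.primeCompl.mul_mem u.2 s.2)
  · have : (u : R) * ((s : R) * z - t * w) = 0 := hu
    linear_combination this

end Groth.Agent.Helper7.SkElem
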