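import Mathlib
import Groth.Prelude
import Groth.Agent.Helper7.ArtFlat
import Groth.Agent.Helper7.SkElem

/-!
# Flatness over an Artinian local base from `S₁`, `S₂` of the reduction and flatness in
codimension one
-/

set_option autoImplicit false
set_option linter.style.haveILetI false
set_option linter.unusedSectionVars false

namespace Groth.Agent.Helper7.FamFlat

open IsLocalRing
open scoped Pointwise

universe u

variable {A : Type u} [CommRing A] [IsArtinianRing A] [IsLocalRing A]
  (B : Type u) [CommRing B] [Algebra A B]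

/-- The extension `I B` of an ideal of `A`. -/
abbrev IB (I : Ideal A) : Ideal B := I.map (algebraMap A B)

variable (A) in
/-- the reduced-fibre condition at a prime `q`, in elementwise form -/
def RedAt (q : Ideal B) : Prop :=
  ∀ x ∈ nilradical B, ∃ s ∉ q, s * x ∈ IB B (maximalIdeal A)

/-- all "associated primes" of `B / J` are minimal primes of `B`, in elementwise form -/
def Unmixed (J : Ideal B) : Prop :=
  ∀ x ∉ J, ∃ q ∈ minimalPrimes B, ∀ s : B, s * x ∈ J → s ∈ q

omit [IsArtinianRing A] in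
lemma mem_maximalIdeal_nilpotent [IsArtinianRing A] {a : A} (ha : a ∈ maximalIdeal A) :
    IsNilpotent a := by
  have hnil : IsNilpotent (maximalIdeal A) := by
    have := IsArtinianRing.isNilpotent_jacobson_bot (R := A)
    rwa [IsLocalRing.jacobson_eq_maximalIdeal ⊥ bot_ne_top] at this
  obtain ⟨n, hn⟩ := hnil
  refine ⟨n, ?_⟩
  have : a ^ n ∈ maximalIdeal A ^ n := Ideal.pow_mem_pow ha n
  rw [hn] at this
  simpa using this

lemma IB_max_le_nilradical : IB B (maximalIdeal A) ≤ nilradical B := by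
  rw [Ideal.map_le_iff_le_comap]
  intro a ha
  rw [Ideal.mem_comap, mem_nilradical]
  exact (mem_maximalIdeal_nilpotent ha).map _

variable {B}

lemma map_loc_eq (q : Ideal B) [q.IsPrime] (I : Ideal A) :
    (IB B I).map (algebraMap B (Localization.AtPrime q)) =
      I.map (algebraMap A (Localization.AtPrime q)) := by
  rw [IB, Ideal.map_map, ← IsScalarTower.algebraMap_eq]

lemma mem_smul_top_iff_loc (q : Ideal B) [q.IsPrime] (I : Ideal A) (w : Localization.AtPrime q) :
    w ∈ I • (⊤ : Submodule A (Localization.AtPrime q)) ↔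
      w ∈ (IB B I).map (algebraMap B (Localization.AtPrime q)) := by
  rw [map_loc_eq, Ideal.smul_top_eq_map]
  rfl

lemma map_max_le (q : Ideal B) [q.IsPrime] :
    (IB B (maximalIdeal A)).map (algebraMap B (Localization.AtPrime q)) ≤
      maximalIdeal (Localization.AtPrime q) := by
  rw [map_loc_eq, Ideal.map_le_iff_le_comap]
  intro a ha
  rw [Ideal.mem_comap, mem_maximalIdeal, mem_nonunits_iff]
  intro hu
  exact ((mem_maximalIdeal_nilpotent ha).map (algebraMap A (Localization.AtPrime q))).not_isUnit hu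

lemma redAt_of_isReduced (q : Ideal B) [q.IsPrime] (h : IsReduced (EGA4.FibLocRing A B q)) :
    RedAt A B q := by
  intro x hx
  rw [mem_nilradical] at hx
  set L := Localization.AtPrime q with hL
  have h1 : IsNilpotent (Ideal.Quotient.mk
      ((q.comap (algebraMap A B)).map (algebraMap A L)) (algebraMap B L x)) :=
    (hx.map (algebraMap B L)).map _
  have h2 := h.eq_zero _ h1
  rw [Ideal.Quotient.eq_zero_iff_mem] at h2
  have hle : q.comap (algebraMap A B) ≤ maximalIdeal A :=
    IsLocalRing.le_maximalIdeal (Ideal.IsPrime.ne_top inferInstance)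
  have h3 : algebraMap B L x ∈ (IB B (maximalIdeal A)).map (algebraMap B L) := by
    rw [map_loc_eq]
    exact Ideal.map_mono hle h2
  rw [IsLocalization.algebraMap_mem_map_algebraMap_iff q.primeCompl] at h3
  obtain ⟨s, hs, hsx⟩ := h3
  exact ⟨s, hs, hsx⟩

/-- Step A at a prime where `B` is flat. -/
lemma mem_of_flatAt (q : Ideal B) [q.IsPrime] [Module.Flat A (Localization.AtPrime q)]
    (I' : Ideal A) (ε : A) (hε : ε ∉ I') (x : B)
    (hx : algebraMap A B ε * x ∈ IB B I') : x ∈ q := by
  set L := Localization.AtPrime q with hL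
  have h1 : ε • (algebraMap B L x) ∈ I' • (⊤ : Submodule A L) := by
    rw [mem_smul_top_iff_loc]
    have := Ideal.mem_map_of_mem (algebraMap B L) hx
    rwa [map_mul, ← IsScalarTower.algebraMap_apply, ← Algebra.smul_def] at this
  have h2 := ArtFlat.mem_colon_smul_top I' (maximalIdeal A) ε (ArtFlat.colon_le_max I' ε hε) _ h1
  rw [mem_smul_top_iff_loc] at h2
  exact (IsLocalization.AtPrime.to_map_mem_maximal_iff L q x).1 (map_max_le q h2)

/-- At a prime where `B` is flat with reduced fibre, an element regular modulo the nilradical is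
locally regular modulo every extended ideal. -/
lemma regular_loc (q : Ideal B) [q.IsPrime] [Module.Flat A (Localization.AtPrime q)]
    (hred : RedAt A B q) (t : B) (ht : ∀ w : B, t * w ∈ nilradical B → w ∈ nilradical B)
    (I₁ : Ideal A) (y : B) (hy : t * y ∈ IB B I₁) : ∃ s ∉ q, s * y ∈ IB B I₁ := by
  set L := Localization.AtPrime q with hL
  let T : L →ₗ[A] L := LinearMap.mulLeft A (algebraMap B L t)
  have hT : ∀ w : L, T w ∈ maximalIdeal A • (⊤ : Submodule A L) →
      w ∈ maximalIdeal A • (⊤ : Submodule A L) := by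
    intro w hw
    rw [mem_smul_top_iff_loc] at hw ⊢
    obtain ⟨⟨b, s'⟩, hbs⟩ := IsLocalization.surj q.primeCompl w
    simp only at hbs
    have h1 : algebraMap B L (t * b) ∈ (IB B (maximalIdeal A)).map (algebraMap B L) := by
      have : algebraMap B L (t * b) = (algebraMap B L t * w) * algebraMap B L s' := by
        rw [map_mul, ← hbs]; ring
      rw [this]
      exact Ideal.mul_mem_right _ _ hw
    rw [IsLocalization.algebraMap_mem_map_algebraMap_iff q.primeCompl] at h1
    obtain ⟨u, hu, hutb⟩ := h1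
    have h2 : t * (u * b) ∈ nilradical B := by
      have : t * (u * b) = u * (t * b) := by ring
      rw [this]
      exact IB_max_le_nilradical B hutb
    have h3 := ht _ h2
    obtain ⟨s₂, hs₂, hs₂ub⟩ := hred _ h3
    have h4 : algebraMap B L b ∈ (IB B (maximalIdeal A)).map (algebraMap B L) := by
      rw [IsLocalization.algebraMap_mem_map_algebraMap_iff q.primeCompl]
      refine ⟨s₂ * u, q.primeCompl.mul_mem hs₂ hu, ?_⟩
      rw [mul_assoc]
      exact hs₂ub
    obtain ⟨v, hv⟩ := (IsLocalization.map_units L s').exists_left_inv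
    have h5 : w = v * algebraMap B L b := by
      rw [← hbs]
      have : v * (w * algebraMap B L s') = w * (v * algebraMap B L s') := by ring
      rw [this, hv, mul_one]
    rw [h5]
    exact Ideal.mul_mem_left _ _ h4
  have h6 := ArtFlat.regular_mod_all T hT I₁ (algebraMap B L y)
  have h7 : T (algebraMap B L y) ∈ I₁ • (⊤ : Submodule A L) := by
    rw [mem_smul_top_iff_loc]
    have : T (algebraMap B L y) = algebraMap B L (t * y) := by
      simp [T, map_mul]
    rw [this]
    exact Ideal.mem_map_of_mem _ hy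
  have h8 := h6 h7
  rw [mem_smul_top_iff_loc, IsLocalization.algebraMap_mem_map_algebraMap_iff q.primeCompl] at h8
  obtain ⟨s, hs, hsy⟩ := h8
  exact ⟨s, hs, hsy⟩

lemma height_le_map_mk (p : Ideal B) [p.IsPrime] :
    p.height ≤ (p.map (Ideal.Quotient.mk (nilradical B))).height := by
  have hsurj : Function.Surjective (Ideal.Quotient.mk (nilradical B)) := Ideal.Quotient.mk_surjective
  have hker : ∀ q : Ideal B, q.IsPrime → RingHom.ker (Ideal.Quotient.mk (nilradical B)) ≤ q := by
    intro q hq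
    rw [Ideal.mk_ker]
    exact nilradical_le_prime q
  have hP : (p.map (Ideal.Quotient.mk (nilradical B))).IsPrime :=
    Ideal.map_isPrime_of_surjective hsurj (hker p inferInstance)
  let f : PrimeSpectrum B → PrimeSpectrum (B ⧸ nilradical B) := fun q =>
    ⟨q.asIdeal.map (Ideal.Quotient.mk (nilradical B)),
      Ideal.map_isPrime_of_surjective hsurj (hker q.asIdeal q.isPrime)⟩
  have hcm : ∀ q : PrimeSpectrum B, (q.asIdeal.map (Ideal.Quotient.mk (nilradical B))).comap
      (Ideal.Quotient.mk (nilradical B)) = q.asIdeal := by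
    intro q
    rw [Ideal.comap_map_of_surjective _ hsurj]
    have : Ideal.comap (Ideal.Quotient.mk (nilradical B)) ⊥ ≤ q.asIdeal := by
      rw [← RingHom.ker_eq_comap_bot]
      exact hker q.asIdeal q.isPrime
    exact sup_eq_left.2 this
  have hf : StrictMono f := by
    intro q₁ q₂ h
    refine lt_of_le_of_ne ?_ ?_
    · exact Ideal.map_mono (PrimeSpectrum.asIdeal_le_asIdeal _ _ |>.2 h.le)
    · intro heq
      have h1 : (f q₁).asIdeal = (f q₂).asIdeal := by rw [heq]
      have h2 := congrArg (Ideal.comap (Ideal.Quotient.mk (nilradical B))) h1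
      simp only [f] at h2
      rw [hcm, hcm] at h2
      exact h.ne (PrimeSpectrum.ext h2)
  have h1 := PrimeSpectrum.height_eq_orderHeight (⟨p, inferInstance⟩ : PrimeSpectrum B)
  have h2 := PrimeSpectrum.height_eq_orderHeight (f ⟨p, inferInstance⟩)
  have h3 := Order.height_le_height_apply_of_strictMono f hf ⟨p, inferInstance⟩
  rw [← h1, ← h2] at h3
  exact h3

lemma mem_nilradical_of_forall_minimal (x : B) (h : ∀ q ∈ minimalPrimes B, x ∈ q) :
    x ∈ nilradical B := by
  rw [mem_nilradical, nilpotent_iff_mem_prime]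
  intro J hJ
  obtain ⟨q, hq, hle⟩ := Ideal.exists_minimalPrimes_le (I := ⊥) (J := J) bot_le
  exact hle (h q hq)

lemma height_minimal {q : Ideal B} (hq : q ∈ minimalPrimes B) :
    haveI := Ideal.IsMinimalPrime.isPrime hq
    q.height ≤ 1 := by
  haveI := Ideal.IsMinimalPrime.isPrime hq
  rw [(Ideal.height_eq_zero_iff (I := q)).2 hq]
  exact zero_le

lemma mul_mem_of_mem_max (I' : Ideal A) (ε : A) (hmε : ∀ a ∈ maximalIdeal A, a * ε ∈ I')
    {y : B} (hy : y ∈ IB B (maximalIdeal A)) : algebraMap A B ε * y ∈ IB B I' := by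
  unfold IB Ideal.map at hy
  induction hy using Submodule.span_induction with
  | mem y hy =>
    obtain ⟨a, ha, rfl⟩ := hy
    rw [← map_mul, mul_comm]
    exact Ideal.mem_map_of_mem _ (hmε a ha)
  | zero => simp
  | add x y _ _ hx hy => rw [mul_add]; exact add_mem hx hy
  | smul b y _ hy =>
    rw [smul_eq_mul, mul_left_comm]
    exact Ideal.mul_mem_left _ _ hy

section Steps

variable [IsNoetherianRing B]
  (hcd : ∀ (q : Ideal B) [q.IsPrime], q.height ≤ 1 →
      Module.Flat A (Localization.AtPrime q) ∧ RedAt A B q)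

include hcd

/-- Step A: `(I'B : ε) ⊆ nil(B)`. -/
lemma stepA (I' : Ideal A) (ε : A) (hε : ε ∉ I') (x : B)
    (hx : algebraMap A B ε * x ∈ IB B I') : x ∈ nilradical B := by
  apply mem_nilradical_of_forall_minimal
  intro q hq
  haveI := Ideal.IsMinimalPrime.isPrime hq
  haveI := (hcd q (height_minimal hq)).1
  exact mem_of_flatAt q I' ε hε x hx

/-- Step B: `nil(B) ⊆ (I'B : ε)` when `I'B` is unmixed. -/
lemma stepB (I' : Ideal A) (ε : A) (hmε : ∀ a ∈ maximalIdeal A, a * ε ∈ I')
    (hU : Unmixed B (IB B I')) (x : B) (hx : x ∈ nilradical B) :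
    algebraMap A B ε * x ∈ IB B I' := by
  by_contra hcon
  obtain ⟨q, hq, hqs⟩ := hU _ hcon
  haveI := Ideal.IsMinimalPrime.isPrime hq
  obtain ⟨s, hs, hsx⟩ := (hcd q (height_minimal hq)).2 x hx
  apply hs
  apply hqs
  have : s * (algebraMap A B ε * x) = algebraMap A B ε * (s * x) := by ring
  rw [this]
  exact mul_mem_of_mem_max I' ε hmε hsx

/-- Step C: unmixedness propagates from `I'B` to `(I' + (ε))B`. -/
lemma stepC (hS2 : LocCoh.HasSk 2 (B ⧸ nilradical B) (B ⧸ nilradical B))
    (I' : Ideal A) (ε : A) (hεI' : ε ∉ I')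
    (hmε : ∀ a ∈ maximalIdeal A, a * ε ∈ I') (hU : Unmixed B (IB B I')) :
    Unmixed B (IB B (I' ⊔ Ideal.span {ε})) := by
  classical
  set J := IB B I' with hJ
  set J₁ := IB B (I' ⊔ Ideal.span {ε}) with hJ₁
  set ε' := algebraMap A B ε with hε'
  have hdec : ∀ v ∈ J₁, ∃ j ∈ J, ∃ z : B, v = j + ε' * z := by
    intro v hv
    rw [hJ₁, IB, Ideal.map_sup, Ideal.map_span, Set.image_singleton, Submodule.mem_sup] at hv
    obtain ⟨j, hj, v', hv', rfl⟩ := hv
    rw [Ideal.mem_span_singleton'] at hv'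
    obtain ⟨z, rfl⟩ := hv'
    exact ⟨j, hj, z, by ring⟩
  have hJle : J ≤ J₁ := Ideal.map_mono le_sup_left
  have hε'J₁ : ∀ z : B, ε' * z ∈ J₁ := fun z =>
    Ideal.mul_mem_right _ _
      (Ideal.mem_map_of_mem _ (Ideal.mem_sup_right (Ideal.mem_span_singleton_self ε)))
  intro x hx
  have hx0 : (Ideal.Quotient.mk J₁ x) ≠ 0 := by
    rwa [Ne, Ideal.Quotient.eq_zero_iff_mem]
  obtain ⟨p, hp, hle⟩ :=
    exists_le_isAssociatedPrime_of_isNoetherianRing B (Ideal.Quotient.mk J₁ x) hx0
  rw [isAssociatedPrime_iff] at hp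
  obtain ⟨hpp, y, hy⟩ := hp
  obtain ⟨y₀, rfl⟩ := Ideal.Quotient.mk_surjective y
  have hsm : ∀ (r v : B), r • (Ideal.Quotient.mk J₁ v) = 0 ↔ r * v ∈ J₁ := by
    intro r v
    rw [← Ideal.Quotient.eq_zero_iff_mem, map_mul]
    rfl
  have hpy : ∀ r : B, r ∈ p ↔ r * y₀ ∈ J₁ := by
    intro r
    rw [hy, Submodule.mem_colon_singleton, Submodule.mem_bot, hsm]
  have hxs : ∀ s : B, s * x ∈ J₁ → s ∈ p := by
    intro s hs
    apply hle
    rw [Submodule.mem_colon_singleton, Submodule.mem_bot, hsm]
    exact hs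
  refine ⟨p, ?_, hxs⟩
  by_contra hpmin
  have hfin : (minimalPrimes B).Finite := minimalPrimes.finite_of_isNoetherianRing B
  have hnot : ¬ ((p : Set B) ⊆ ⋃ q ∈ minimalPrimes B, (id q : Ideal B)) := by
    intro hsub
    obtain ⟨q, hq, hle'⟩ := (Ideal.subset_union_prime_finite hfin (f := id) ⊥ ⊥
      (fun K hK _ _ => (Ideal.IsMinimalPrime.isPrime hK : K.IsPrime))).mp hsub
    have hqp : q ≤ p := hq.2 ⟨hpp, bot_le⟩ hle'
    have : p = q := le_antisymm hle' hqp
    exact hpmin (this ▸ hq)
  rw [Set.not_subset] at hnot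
  obtain ⟨t, htp, ht⟩ := hnot
  have htq : ∀ q ∈ minimalPrimes B, t ∉ q := by
    intro q hq htq
    exact ht (Set.mem_biUnion hq htq)
  have htN : ∀ w : B, t * w ∈ nilradical B → w ∈ nilradical B := by
    intro w hw
    apply mem_nilradical_of_forall_minimal
    intro q hq
    have hqp := Ideal.IsMinimalPrime.isPrime hq
    have : t * w ∈ q := nilradical_le_prime q hw
    exact (hqp.mem_or_mem this).resolve_left (htq q hq)
  have htJ : ∀ w : B, t * w ∈ J → w ∈ J := by
    intro w hw
    by_contra hwJ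
    obtain ⟨q, hq, hqs⟩ := hU w hwJ
    exact htq q hq (hqs t hw)
  have hty : t * y₀ ∈ J₁ := (hpy t).1 htp
  by_cases hht : p.height ≤ 1
  · haveI := (hcd p hht).1
    obtain ⟨s, hs, hsy⟩ := regular_loc p (hcd p hht).2 t htN (I' ⊔ Ideal.span {ε}) y₀ hty
    exact hs ((hpy s).2 hsy)
  · have hht2 : 2 ≤ p.height := by
      rw [not_le] at hht
      have := Order.add_one_le_of_lt hht
      simpa [one_add_one_eq_two] using this
    obtain ⟨j, hj, z, hjz⟩ := hdec _ hty
    have hcolon : ∀ a ∈ p, ∃ za : B, a * z - t * za ∈ nilradical B := by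
      intro a ha
      obtain ⟨ja, hja, za, hjaz⟩ := hdec _ ((hpy a).1 ha)
      refine ⟨za, ?_⟩
      apply stepA hcd I' ε hεI'
      have : ε' * (a * z - t * za) = t * ja - a * j := by
        linear_combination t * hjaz - a * hjz
      rw [this]
      exact sub_mem (Ideal.mul_mem_left _ _ hja) (Ideal.mul_mem_left _ _ hj)
    set N := nilradical B with hN
    set mk := Ideal.Quotient.mk N with hmk
    have hsurj : Function.Surjective mk := Ideal.Quotient.mk_surjective
    have hker : RingHom.ker mk ≤ p := by rw [Ideal.mk_ker]; exact nilradical_le_prime p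
    haveI hPprime : (p.map mk).IsPrime := Ideal.map_isPrime_of_surjective hsurj hker
    have hPht : 2 ≤ (p.map mk).height := hht2.trans (height_le_map_mk p)
    have htP : mk t ∈ p.map mk := Ideal.mem_map_of_mem _ htp
    have htreg : ∀ w : B ⧸ N, mk t * w = 0 → w = 0 := by
      intro w hw
      obtain ⟨w, rfl⟩ := hsurj w
      rw [← map_mul, Ideal.Quotient.eq_zero_iff_mem] at hw
      rw [Ideal.Quotient.eq_zero_iff_mem]
      exact htN w hw
    have hz : ∀ a ∈ p.map mk, ∃ r : B ⧸ N, a * mk z = mk t * r := by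
      intro a ha
      rw [Ideal.mem_map_iff_of_surjective _ hsurj] at ha
      obtain ⟨a, ha, rfl⟩ := ha
      obtain ⟨za, hza⟩ := hcolon a ha
      refine ⟨mk za, ?_⟩
      rw [← map_mul, ← map_mul, ← sub_eq_zero, ← map_sub, Ideal.Quotient.eq_zero_iff_mem]
      exact hza
    obtain ⟨s, hsP, w, hsw⟩ :=
      SkElem.exists_of_S2 (B ⧸ N) hS2 (p.map mk) hPht (mk t) htP htreg (mk z) hz
    obtain ⟨s, rfl⟩ := hsurj s
    obtain ⟨w, rfl⟩ := hsurj w
    have hsp : s ∉ p := fun h => hsP (Ideal.mem_map_of_mem _ h)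
    have hswN : s * z - t * w ∈ N := by
      rw [← Ideal.Quotient.eq_zero_iff_mem, map_sub, map_mul, map_mul, sub_eq_zero]
      exact hsw
    have h1 : ε' * (s * z - t * w) ∈ J := stepB hcd I' ε hmε hU _ hswN
    have h2 : t * (s * y₀ - ε' * w) ∈ J := by
      have : t * (s * y₀ - ε' * w) = s * j + ε' * (s * z - t * w) := by
        linear_combination s * hjz
      rw [this]
      exact add_mem (Ideal.mul_mem_left _ _ hj) h1
    have h3 := htJ _ h2
    have h4 : s * y₀ ∈ J₁ := by
      have : s * y₀ = (s * y₀ - ε' * w) + ε' * w := by ring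
      rw [this]
      exact add_mem (hJle h3) (hε'J₁ w)
    exact hsp ((hpy s).2 h4)

end Steps

section Main

variable [IsNoetherianRing B]
  (hS1 : LocCoh.HasSk 1 B B)
  (hS2 : LocCoh.HasSk 2 (B ⧸ nilradical B) (B ⧸ nilradical B))
  (hcd : ∀ (q : Ideal B) [q.IsPrime], q.height ≤ 1 →
      Module.Flat A (Localization.AtPrime q) ∧ RedAt A B q)

include hS1 hS2 hcd

theorem unmixed_all (I : Ideal A) (hI : I ≤ maximalIdeal A) : Unmixed B (IB B I) := by
  induction I using IsArtinian.induction with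
  | hgt I ih =>
    by_cases hbot : I = ⊥
    · subst hbot
      intro x hx
      have hx0 : x ≠ 0 := by
        intro h; apply hx; rw [h]; exact zero_mem _
      obtain ⟨q, hq, hqs⟩ := SkElem.exists_minimal_of_S1 B hS1 x hx0
      refine ⟨q, hq, fun s hs => hqs s ?_⟩
      simpa [IB, Ideal.map_bot] using hs
    obtain ⟨I', ε, hlt, hεI, hεI', hsup, hmI⟩ := ArtFlat.exists_down I hbot
    rw [hsup]
    exact stepC hcd hS2 I' ε hεI' (fun a ha => hmI a ha ε hεI) (ih I' hlt (hlt.le.trans hI))

theorem nilradical_eq : nilradical B = IB B (maximalIdeal A) := by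
  apply le_antisymm
  · intro x hx
    by_contra hcon
    obtain ⟨q, hq, hqs⟩ := unmixed_all hS1 hS2 hcd _ le_rfl x hcon
    haveI := Ideal.IsMinimalPrime.isPrime hq
    obtain ⟨s, hs, hsx⟩ := (hcd q (height_minimal hq)).2 x hx
    exact hs (hqs s hsx)
  · exact IB_max_le_nilradical B

theorem isReduced_fibre : IsReduced (B ⧸ IB B (maximalIdeal A)) := by
  rw [← Ideal.isRadical_iff_quotient_reduced, ← nilradical_eq hS1 hS2 hcd]
  exact Ideal.radical_isRadical ⊥

theorem flat : Module.Flat A B := by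
  apply ArtFlat.flat_of_colon
  intro I' ε hεm hεI' hmε b hb
  have h1 : algebraMap A B ε * b ∈ IB B I' := by
    rw [Ideal.smul_top_eq_map] at hb
    rw [← Algebra.smul_def]
    exact hb
  have h2 := stepA hcd I' ε hεI' b h1
  rw [nilradical_eq hS1 hS2 hcd] at h2
  rw [Ideal.smul_top_eq_map]
  exact h2

end Main

section Final

variable [IsNoetherianRing B]

theorem s14071 (hS1 : LocCoh.HasSk 1 B B)
    (hS2 : LocCoh.HasSk 2 (B ⧸ nilradical B) (B ⧸ nilradical B))
    (hcodim : ∀ (q : Ideal B) [q.IsPrime], q.height ≤ 1 →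
      Module.Flat A (Localization.AtPrime q) ∧ IsReduced (EGA4.FibLocRing A B q)) :
    IsReduced (B ⧸ (IsLocalRing.maximalIdeal A).map (algebraMap A B)) :=
  isReduced_fibre hS1 hS2 (fun q _ hq => ⟨(hcodim q hq).1, redAt_of_isReduced q (hcodim q hq).2⟩)

theorem s14072 (hS1 : LocCoh.HasSk 1 B B)
    (hS2 : LocCoh.HasSk 2 (B ⧸ nilradical B) (B ⧸ nilradical B))
    (hcodim : ∀ (q : Ideal B) [q.IsPrime], q.height ≤ 1 →
      Module.Flat A (Localization.AtPrime q) ∧ IsReduced (EGA4.FibLocRing A B q)) :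
    Module.Flat A B :=
  flat hS1 hS2 (fun q _ hq => ⟨(hcodim q hq).1, redAt_of_isReduced q (hcodim q hq).2⟩)

end Final

end Groth.Agent.Helper7.FamFlat
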