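import Mathlib
import Groth.Agent.Helper7.NN3

set_option autoImplicit false
set_option maxSynthPendingDepth 3
set_option linter.style.haveILetI false
universe u v

namespace Groth.Agent.Helper7.FibCone

open Cardinal

/-- domain case: `t` algebraically independent elements in a f.g. domain over a field force
dimension at least `t`. -/
theorem le_ringKrullDim_of_injective_domain (k : Type u) [Field k] (F : Type v) [CommRing F]
    [IsDomain F] [Algebra k F] [Algebra.FiniteType k F] (t : ℕ)
    (g : MvPolynomial (Fin t) k →ₐ[k] F) (hg : Function.Injective g) :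
    ((t : ℕ∞) : WithBot ℕ∞) ≤ ringKrullDim F := by
  obtain ⟨s, h, hinj, hfin⟩ := exists_finite_inj_algHom_of_fg k F
  -- dimension of F is s
  have hdim : ringKrullDim F = s := by
    letI : Algebra (MvPolynomial (Fin s) k) F := h.toRingHom.toAlgebra
    haveI : Module.Finite (MvPolynomial (Fin s) k) F := hfin
    haveI : Algebra.IsIntegral (MvPolynomial (Fin s) k) F := Algebra.IsIntegral.of_finite _ _
    have h1 := NN.ringKrullDim_eq_of_isIntegral_of_injective
      (R := MvPolynomial (Fin s) k) (S := F) hinj
    rw [h1, MvPolynomial.ringKrullDim_of_isNoetherianRing, ringKrullDim_eq_zero_of_field]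
    simp
  rw [hdim]
  -- t ≤ s via transcendence degree
  have hx : AlgebraicIndependent k (fun i : Fin t => g (MvPolynomial.X i)) := by
    rw [AlgebraicIndependent]
    have : MvPolynomial.aeval (fun i : Fin t => g (MvPolynomial.X i)) = g := by
      apply MvPolynomial.algHom_ext; intro i; simp
    rw [this]; exact hg
  have h1 := hx.lift_cardinalMk_le_trdeg
  have halg : Algebra.IsAlgebraic
      (Algebra.adjoin k (Set.range (fun j : Fin s => h (MvPolynomial.X j)))) F := by
    have hrange : Algebra.adjoin k (Set.range (fun j : Fin s => h (MvPolynomial.X j))) = h.range := by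
      have : (fun j : Fin s => h (MvPolynomial.X j)) = h ∘ MvPolynomial.X := rfl
      rw [this, Set.range_comp, ← AlgHom.map_adjoin, MvPolynomial.adjoin_range_X, Algebra.map_top]
    rw [hrange]
    have hint : h.toRingHom.IsIntegral := hfin.to_isIntegral
    constructor
    intro x
    apply IsIntegral.isAlgebraic
    obtain ⟨p, hp, hpx⟩ := hint x
    refine ⟨p.map h.rangeRestrict.toRingHom, hp.map _, ?_⟩
    rw [Polynomial.eval₂_map]
    exact hpx
  have h2 := Algebra.IsAlgebraic.trdeg_le_cardinalMk k
    (Set.range (fun j : Fin s => h (MvPolynomial.X j)))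
  have h3 : #(Set.range (fun j : Fin s => h (MvPolynomial.X j))) ≤ s := by
    have := Cardinal.mk_range_le_lift (f := fun j : Fin s => h (MvPolynomial.X j))
    simpa using this
  have h4 : (t : Cardinal) ≤ (s : Cardinal) := by
    have : lift.{v} #(Fin t) ≤ lift.{0} (Algebra.trdeg k F) := h1
    rw [Cardinal.lift_uzero] at this
    simp only [mk_fin, lift_natCast] at this
    exact this.trans (h2.trans h3)
  have h5 : t ≤ s := by exact_mod_cast h4
  exact_mod_cast h5

/-- `t` algebraically independent elements in a f.g. algebra over a field force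
dimension at least `t`. -/
theorem le_ringKrullDim_of_injective (k : Type u) [Field k] (F : Type v) [CommRing F]
    [Algebra k F] [Algebra.FiniteType k F] (t : ℕ)
    (g : MvPolynomial (Fin t) k →ₐ[k] F) (hg : Function.Injective g) :
    ((t : ℕ∞) : WithBot ℕ∞) ≤ ringKrullDim F := by
  -- find a prime avoiding the image of nonzero polynomials
  let M : Submonoid F := (nonZeroDivisors (MvPolynomial (Fin t) k)).map g.toRingHom
  have hdisj : Disjoint ((⊥ : Ideal F) : Set F) M := by
    rw [Set.disjoint_left]
    rintro x hx ⟨y, hy, rfl⟩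
    have hx0 : g y = 0 := by simpa using hx
    have : y = 0 := hg (by rw [hx0, map_zero])
    exact nonZeroDivisors.ne_zero hy this
  obtain ⟨P, hP, -, hPM⟩ := Ideal.exists_le_prime_disjoint ⊥ M hdisj
  have hcomap : ∀ y, g y ∈ P → y = 0 := by
    intro y hy
    by_contra hne
    have : y ∈ nonZeroDivisors (MvPolynomial (Fin t) k) := mem_nonZeroDivisors_of_ne_zero hne
    exact Set.disjoint_left.1 hPM hy ⟨y, this, rfl⟩
  have hg' : Function.Injective ((Ideal.Quotient.mkₐ k P).comp g) := by
    rw [injective_iff_map_eq_zero]
    intro y hy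
    apply hcomap
    rw [AlgHom.comp_apply, Ideal.Quotient.mkₐ_eq_mk, Ideal.Quotient.eq_zero_iff_mem] at hy
    exact hy
  have := le_ringKrullDim_of_injective_domain k (F ⧸ P) t _ hg'
  exact this.trans (ringKrullDim_quotient_le P)

end Groth.Agent.Helper7.FibCone
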