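import Mathlib

set_option autoImplicit false

namespace Groth.Agent.Helper7.FinGl

universe u

section Aside

variable {A' A : Type u} [CommRing A'] [CommRing A] [Algebra A' A]
  (hinj : Function.Injective (algebraMap A' A)) (f : A')
  (hf : algebraMap A' A f ∈ nonZeroDivisors A)

/-- the submodule of `a` with `fᵗ a ∈ A'` -/
def Pt (t : ℕ) : Submodule A' A where
  carrier := {a | ∃ x : A', algebraMap A' A x = algebraMap A' A f ^ t * a}
  add_mem' := by
    rintro a b ⟨x, hx⟩ ⟨y, hy⟩
    exact ⟨x + y, by rw [map_add, hx, hy, mul_add]⟩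
  zero_mem' := ⟨0, by rw [map_zero, mul_zero]⟩
  smul_mem' := by
    rintro c a ⟨x, hx⟩
    exact ⟨c * x, by rw [map_mul, hx, Algebra.smul_def]; ring⟩

theorem Pt_mono {s t : ℕ} (h : s ≤ t) : Pt (A := A) f s ≤ Pt f t := by
  rintro a ⟨x, hx⟩
  obtain ⟨k, rfl⟩ : ∃ k, t = s + k := ⟨t - s, by omega⟩
  exact ⟨f ^ k * x, by rw [map_mul, hx, map_pow, pow_add]; ring⟩

include hf in
theorem exists_pow_mul_mem
    (hloc : Function.Bijective (IsLocalization.Away.map (Localization.Away f)
      (Localization.Away (algebraMap A' A f)) (algebraMap A' A) f)) (a : A) :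
    ∃ k : ℕ, a ∈ Pt f k := by
  obtain ⟨y, hy⟩ := hloc.2 (algebraMap A (Localization.Away (algebraMap A' A f)) a)
  obtain ⟨x, ⟨_, k, rfl⟩, rfl⟩ := IsLocalization.exists_mk'_eq (Submonoid.powers f) y
  refine ⟨k, x, ?_⟩
  rw [IsLocalization.Away.map, IsLocalization.map_mk', IsLocalization.mk'_eq_iff_eq_mul] at hy
  have hinjA : Function.Injective
      (algebraMap A (Localization.Away (algebraMap A' A f))) := by
    apply IsLocalization.injective (Localization.Away (algebraMap A' A f))
      (M := Submonoid.powers (algebraMap A' A f))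
    exact Submonoid.powers_le.mpr hf
  apply hinjA
  rw [hy, mul_comm, map_mul (algebraMap A (Localization.Away (algebraMap A' A f)))]
  congr 1
  show algebraMap A (Localization.Away (algebraMap A' A f)) (algebraMap A' A (f ^ k)) = _
  rw [map_pow]

include hf in
theorem exists_t [Module.Finite A' A]
    (hloc : Function.Bijective (IsLocalization.Away.map (Localization.Away f)
      (Localization.Away (algebraMap A' A f)) (algebraMap A' A) f)) :
    ∃ t : ℕ, ∀ a : A, ∃ x : A', algebraMap A' A x = algebraMap A' A f ^ t * a := by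
  classical
  obtain ⟨S, hS⟩ := (Module.Finite.fg_top : (⊤ : Submodule A' A).FG)
  choose k hk using exists_pow_mul_mem f hf hloc
  refine ⟨S.sup k, fun a => ?_⟩
  have hle : Submodule.span A' (S : Set A) ≤ Pt f (S.sup k) := by
    rw [Submodule.span_le]
    intro s hs
    exact Pt_mono f (Finset.le_sup hs) (hk s)
  have : a ∈ Pt f (S.sup k) := hle (by rw [hS]; trivial)
  exact this

variable (t : ℕ) (ht : ∀ a : A, ∃ x : A', algebraMap A' A x = algebraMap A' A f ^ t * a)

/-- the ideal `fᵗ A ⊆ A'` -/
def Jt : Ideal A' where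
  carrier := {x | ∃ a : A, algebraMap A' A x = algebraMap A' A f ^ t * a}
  add_mem' := by
    rintro x y ⟨a, ha⟩ ⟨b, hb⟩
    exact ⟨a + b, by rw [map_add, ha, hb, mul_add]⟩
  zero_mem' := ⟨0, by rw [map_zero, mul_zero]⟩
  smul_mem' := by
    rintro c x ⟨a, ha⟩
    exact ⟨algebraMap A' A c * a, by rw [smul_eq_mul, map_mul, ha]; ring⟩

theorem mem_Jt (x : A') :
    x ∈ Jt (A := A) f t ↔ ∃ a : A, algebraMap A' A x = algebraMap A' A f ^ t * a := Iff.rfl

theorem pow_mem_Jt : f ^ t ∈ Jt (A := A) f t := ⟨1, by rw [map_pow, mul_one]⟩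

theorem pow_mul_mem_Jt (k : ℕ) (hk : t ≤ k) (w : A') : f ^ k * w ∈ Jt (A := A) f t := by
  obtain ⟨j, rfl⟩ : ∃ j, k = t + j := ⟨k - t, by omega⟩
  have : f ^ (t + j) * w = f ^ t * (f ^ j * w) := by ring
  rw [this]
  exact (Jt f t).mul_mem_right _ (pow_mem_Jt f t)

include hinj ht in
theorem Jt_mul (x y : A') (hx : x ∈ Jt (A := A) f t) (hy : y ∈ Jt (A := A) f t) :
    ∃ z ∈ Jt (A := A) f t, x * y = f ^ t * z := by
  obtain ⟨a, ha⟩ := hx
  obtain ⟨b, hb⟩ := hy
  obtain ⟨z, hz⟩ := ht (a * b)
  refine ⟨z, ⟨a * b, hz⟩, ?_⟩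
  apply hinj
  rw [map_mul, map_mul, ha, hb, hz, map_pow]
  ring

include hinj ht in
theorem Jt_fg [Module.Finite A' A] : (Jt (A := A) f t).FG := by
  classical
  obtain ⟨S, hS⟩ := (Module.Finite.fg_top : (⊤ : Submodule A' A).FG)
  choose xx hxx using ht
  refine ⟨S.image xx, ?_⟩
  apply le_antisymm
  · rw [Ideal.span_le]
    intro x hx
    obtain ⟨s, -, rfl⟩ := Finset.mem_image.1 (Finset.mem_coe.1 hx)
    exact ⟨s, hxx s⟩
  · intro x hx
    obtain ⟨a, ha⟩ := hx
    have hmem : a ∈ Submodule.span A' (S : Set A) := by rw [hS]; trivial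
    -- the set of `a` whose `xx a` lies in the span is a submodule containing `S`
    let Q : Submodule A' A :=
      { carrier := {a | ∀ x : A', algebraMap A' A x = algebraMap A' A f ^ t * a →
          x ∈ Ideal.span ((S.image xx : Finset A') : Set A')}
        add_mem' := by
          intro a b ha hb x hx
          have h1 : x = xx a + xx b := by
            apply hinj
            rw [map_add, hxx, hxx, hx, mul_add]
          rw [h1]
          exact Ideal.add_mem _ (ha _ (hxx a)) (hb _ (hxx b))
        zero_mem' := by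
          intro x hx
          have : x = 0 := by
            apply hinj
            rw [hx, mul_zero, map_zero]
          rw [this]; exact Ideal.zero_mem _
        smul_mem' := by
          intro c a ha x hx
          have h1 : x = c * xx a := by
            apply hinj
            rw [map_mul, hxx, hx, Algebra.smul_def]
            ring
          rw [h1]
          exact Ideal.mul_mem_left _ _ (ha _ (hxx a)) }
    have hle : Submodule.span A' (S : Set A) ≤ Q := by
      rw [Submodule.span_le]
      intro s hs x hx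
      have h1 : x = xx s := by
        apply hinj
        rw [hx, hxx]
      rw [h1]
      exact Ideal.subset_span (Finset.mem_coe.2 (Finset.mem_image.2 ⟨s, hs, rfl⟩))
    exact hle hmem x ha

end Aside

end Groth.Agent.Helper7.FinGl
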