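import Mathlib

set_option autoImplicit false

/-!
# The ring `g⁻ᵗ J' ⊆ B'[1/g]` attached to an ideal `J'` with `gᵗ ∈ J'` and `J'² ⊆ gᵗ J'`
-/

namespace Groth.Agent.Helper7.FinGl

universe u

section construction

variable {B' : Type u} [CommRing B'] (g : B') (hg : g ∈ nonZeroDivisors B') (t : ℕ)
  (J' : Ideal B') (hgt : g ^ t ∈ J')
  (hJ' : ∀ x ∈ J', ∀ y ∈ J', ∃ z ∈ J', x * y = g ^ t * z)

/-- the localisation map `B' → B'[1/g]` -/
noncomputable abbrev cmap : B' →+* Localization.Away g := algebraMap B' (Localization.Away g)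

include hg in
theorem cmap_injective : Function.Injective (cmap g) := by
  apply IsLocalization.injective (Localization.Away g) (M := Submonoid.powers g)
  exact Submonoid.powers_le.mpr hg

theorem isUnit_cmap : IsUnit (cmap g g) :=
  IsLocalization.Away.algebraMap_isUnit g

theorem cancel_pow (y₁ y₂ : Localization.Away g) (n : ℕ)
    (h : y₁ * cmap g g ^ n = y₂ * cmap g g ^ n) : y₁ = y₂ :=
  ((isUnit_cmap g).pow n).mul_left_injective h

include hgt hJ' in
/-- the subring `g⁻ᵗ J'` of `B'[1/g]` -/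
noncomputable def Bsub : Subring (Localization.Away g) where
  carrier := {y | ∃ x ∈ J', y * cmap g g ^ t = cmap g x}
  mul_mem' := by
    rintro y₁ y₂ ⟨x₁, hx₁, h₁⟩ ⟨x₂, hx₂, h₂⟩
    obtain ⟨z, hz, hxz⟩ := hJ' x₁ hx₁ x₂ hx₂
    refine ⟨z, hz, ?_⟩
    apply cancel_pow g _ _ t
    have : y₁ * y₂ * cmap g g ^ t * cmap g g ^ t = (y₁ * cmap g g ^ t) * (y₂ * cmap g g ^ t) := by
      ring
    rw [this, h₁, h₂, ← map_mul, hxz, map_mul, map_pow]
    ring
  one_mem' := ⟨g ^ t, hgt, by rw [one_mul, map_pow]⟩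
  add_mem' := by
    rintro y₁ y₂ ⟨x₁, hx₁, h₁⟩ ⟨x₂, hx₂, h₂⟩
    exact ⟨x₁ + x₂, J'.add_mem hx₁ hx₂, by rw [add_mul, h₁, h₂, map_add]⟩
  zero_mem' := ⟨0, J'.zero_mem, by rw [zero_mul, map_zero]⟩
  neg_mem' := by
    rintro y ⟨x, hx, h⟩
    exact ⟨-x, J'.neg_mem hx, by rw [neg_mul, h, map_neg]⟩

theorem mem_Bsub (y : Localization.Away g) :
    y ∈ Bsub g t J' hgt hJ' ↔ ∃ x ∈ J', y * cmap g g ^ t = cmap g x := Iff.rfl

/-- the structure map `B' → g⁻ᵗ J'` -/
noncomputable def toB : B' →+* Bsub g t J' hgt hJ' :=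
  (cmap g).codRestrict _ (fun b => ⟨g ^ t * b, J'.mul_mem_right _ hgt, by
    rw [map_mul, map_pow, mul_comm]⟩)

theorem toB_coe (b : B') : ((toB g t J' hgt hJ' b : Bsub g t J' hgt hJ') : Localization.Away g) =
    cmap g b := rfl

include hg in
theorem toB_injective : Function.Injective (toB g t J' hgt hJ') := by
  intro a b hab
  exact cmap_injective g hg (congrArg Subtype.val hab)

/-- the element `x / gᵗ` of `g⁻ᵗ J'` for `x ∈ J'` -/
noncomputable def theta (x : J') : Bsub g t J' hgt hJ' :=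
  ⟨IsLocalization.mk' (Localization.Away g) (x : B') (⟨g ^ t, t, rfl⟩ : Submonoid.powers g),
    ⟨x, x.2, by
      have := IsLocalization.mk'_spec (Localization.Away g) (x : B')
        (⟨g ^ t, t, rfl⟩ : Submonoid.powers g)
      rw [← map_pow]
      exact this⟩⟩

theorem theta_spec (x : J') :
    ((theta g t J' hgt hJ' x : Bsub g t J' hgt hJ') : Localization.Away g) * cmap g g ^ t =
      cmap g x := by
  have := IsLocalization.mk'_spec (Localization.Away g) (x : B')
    (⟨g ^ t, t, rfl⟩ : Submonoid.powers g)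
  rw [← map_pow]
  exact this

theorem eq_theta_of_spec (y : Bsub g t J' hgt hJ') (x : J')
    (h : (y : Localization.Away g) * cmap g g ^ t = cmap g x) : y = theta g t J' hgt hJ' x := by
  apply Subtype.ext
  apply cancel_pow g _ _ t
  rw [h, theta_spec]

theorem exists_eq_theta (y : Bsub g t J' hgt hJ') : ∃ x : J', y = theta g t J' hgt hJ' x := by
  obtain ⟨x, hx, h⟩ := y.2
  exact ⟨⟨x, hx⟩, eq_theta_of_spec g t J' hgt hJ' y ⟨x, hx⟩ h⟩

theorem theta_add (x y : J') :
    theta g t J' hgt hJ' (x + y) = theta g t J' hgt hJ' x + theta g t J' hgt hJ' y := by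
  symm
  apply eq_theta_of_spec
  rw [Subring.coe_add, add_mul, theta_spec, theta_spec]
  simp

theorem theta_mul (x y z : J') (h : (x : B') * y = g ^ t * z) :
    theta g t J' hgt hJ' x * theta g t J' hgt hJ' y = theta g t J' hgt hJ' z := by
  apply eq_theta_of_spec
  apply cancel_pow g _ _ t
  rw [Subring.coe_mul]
  have : ((theta g t J' hgt hJ' x : Bsub g t J' hgt hJ') : Localization.Away g) *
      (theta g t J' hgt hJ' y : Bsub g t J' hgt hJ') * cmap g g ^ t * cmap g g ^ t =
      ((theta g t J' hgt hJ' x : Bsub g t J' hgt hJ') * cmap g g ^ t) *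
      ((theta g t J' hgt hJ' y : Bsub g t J' hgt hJ') * cmap g g ^ t) := by ring
  rw [this, theta_spec, theta_spec, ← map_mul, h, map_mul, map_pow]
  ring

theorem theta_smul (b : B') (x y : J') (h : (y : B') = b * x) :
    theta g t J' hgt hJ' y = toB g t J' hgt hJ' b * theta g t J' hgt hJ' x := by
  symm
  apply eq_theta_of_spec
  rw [Subring.coe_mul, mul_assoc, theta_spec, toB_coe, h, map_mul]

theorem theta_pow_mul (b : B') (y : J') (h : (y : B') = g ^ t * b) :
    theta g t J' hgt hJ' y = toB g t J' hgt hJ' b := by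
  symm
  apply eq_theta_of_spec
  rw [toB_coe, h, map_mul, map_pow, mul_comm]

include hg in
theorem theta_injective : Function.Injective (theta g t J' hgt hJ') := by
  intro x y hxy
  apply Subtype.ext
  apply cmap_injective g hg
  rw [← theta_spec g t J' hgt hJ' x, ← theta_spec g t J' hgt hJ' y, hxy]

/-- the algebra structure `B' → g⁻ᵗ J'` -/
@[reducible] noncomputable def algB : Algebra B' (Bsub g t J' hgt hJ') := (toB g t J' hgt hJ').toAlgebra

/-- `theta` as a `B'`-linear map -/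
noncomputable def thetaL :
    letI := algB g t J' hgt hJ'
    J' →ₗ[B'] Bsub g t J' hgt hJ' :=
  letI := algB g t J' hgt hJ'
  { toFun := theta g t J' hgt hJ'
    map_add' := theta_add g t J' hgt hJ'
    map_smul' := fun b x => by
      rw [Algebra.smul_def]
      exact theta_smul g t J' hgt hJ' b x (b • x) rfl }

theorem finite_of_fg (hfg : J'.FG) :
    letI := algB g t J' hgt hJ'
    Module.Finite B' (Bsub g t J' hgt hJ') := by
  letI := algB g t J' hgt hJ'
  haveI : Module.Finite B' J' := Module.Finite.iff_fg.mpr hfg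
  apply Module.Finite.of_surjective (thetaL g t J' hgt hJ')
  intro y
  obtain ⟨x, rfl⟩ := exists_eq_theta g t J' hgt hJ' y
  exact ⟨x, rfl⟩

include hg in
theorem theta_mem_span_iff (x : J') :
    theta g t J' hgt hJ' x ∈ Ideal.span {toB g t J' hgt hJ' g} ↔
      ∃ x₁ ∈ J', (x : B') = g * x₁ := by
  rw [Ideal.mem_span_singleton']
  constructor
  · rintro ⟨y, hy⟩
    obtain ⟨x₁, rfl⟩ := exists_eq_theta g t J' hgt hJ' y
    refine ⟨x₁, x₁.2, ?_⟩
    have h1 : theta g t J' hgt hJ' ⟨g * x₁, J'.mul_mem_left _ x₁.2⟩ =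
        toB g t J' hgt hJ' g * theta g t J' hgt hJ' x₁ :=
      theta_smul g t J' hgt hJ' g x₁ _ rfl
    rw [mul_comm] at hy
    rw [← h1] at hy
    exact congrArg Subtype.val (theta_injective g hg t J' hgt hJ' hy).symm
  · rintro ⟨x₁, hx₁, h⟩
    refine ⟨theta g t J' hgt hJ' ⟨x₁, hx₁⟩, ?_⟩
    rw [mul_comm]
    exact (theta_smul g t J' hgt hJ' g ⟨x₁, hx₁⟩ x h).symm

theorem theta_sub_mem_span (x y : J') (n : ℕ) (hn : t + 1 ≤ n) (w : B')
    (h : (x : B') - y = g ^ n * w) :
    theta g t J' hgt hJ' x - theta g t J' hgt hJ' y ∈ Ideal.span {toB g t J' hgt hJ' g} := by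
  obtain ⟨k, rfl⟩ : ∃ k, n = t + 1 + k := ⟨n - (t + 1), by omega⟩
  have hmem : g ^ (t + 1 + k) * w ∈ J' := by
    have : g ^ (t + 1 + k) * w = g ^ t * (g ^ (1 + k) * w) := by ring
    rw [this]
    exact J'.mul_mem_right _ hgt
  have h1 : theta g t J' hgt hJ' x =
      theta g t J' hgt hJ' y + theta g t J' hgt hJ' ⟨g ^ (t + 1 + k) * w, hmem⟩ := by
    rw [← theta_add]
    congr 1
    apply Subtype.ext
    change (x : B') = y + g ^ (t + 1 + k) * w
    rw [← h]; ring
  have h2 : theta g t J' hgt hJ' ⟨g ^ (t + 1 + k) * w, hmem⟩ =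
      toB g t J' hgt hJ' (g * (g ^ k * w)) := by
    apply theta_pow_mul
    change g ^ (t + 1 + k) * w = _
    ring
  rw [h1, add_sub_cancel_left, h2, map_mul]
  exact Ideal.mul_mem_right _ _ (Ideal.mem_span_singleton_self _)

end construction

end Groth.Agent.Helper7.FinGl
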