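import Mathlib
import Groth.Agent.Helper7.FinGlA
import Groth.Agent.Helper7.FinGlB

set_option autoImplicit false

/-!
# Gluing a finite extension along an isomorphism of truncations (assembly)
-/

namespace Groth.Agent.Helper7.FinGl

universe u

theorem exists_of_mk_eq {R : Type u} [CommRing R] (g : R) (n : ℕ) (x y : R)
    (h : Ideal.Quotient.mk (Ideal.span {g ^ n}) x = Ideal.Quotient.mk (Ideal.span {g ^ n}) y) :
    ∃ w, x - y = g ^ n * w := by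
  rw [Ideal.Quotient.eq, Ideal.mem_span_singleton'] at h
  obtain ⟨w, hw⟩ := h
  exact ⟨w, by rw [← hw, mul_comm]⟩

/-- the data of the gluing problem -/
structure Setup (A' A B' : Type u) [CommRing A'] [CommRing A] [Algebra A' A] [CommRing B'] where
  hinj : Function.Injective (algebraMap A' A)
  f : A'
  hf : algebraMap A' A f ∈ nonZeroDivisors A
  t : ℕ
  ht : ∀ a : A, ∃ x : A', algebraMap A' A x = algebraMap A' A f ^ t * a
  g : B'
  hg : g ∈ nonZeroDivisors B'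
  n : ℕ
  hn : 2 * t + 1 ≤ n
  φ' : (A' ⧸ Ideal.span {f ^ n}) ≃+* (B' ⧸ Ideal.span {g ^ n})
  hφ' : φ' (Ideal.Quotient.mk (Ideal.span {f ^ n}) f) = Ideal.Quotient.mk (Ideal.span {g ^ n}) g

namespace Setup

variable {A' A B' : Type u} [CommRing A'] [CommRing A] [Algebra A' A] [CommRing B']
  (S : Setup A' A B')

/-- the quotient map of `A'` -/
abbrev mkA : A' →+* A' ⧸ Ideal.span {S.f ^ S.n} := Ideal.Quotient.mk _

/-- the quotient map of `B'` -/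
abbrev mkB : B' →+* B' ⧸ Ideal.span {S.g ^ S.n} := Ideal.Quotient.mk _

/-- the conductor-like ideal `fᵗ A ⊆ A'` -/
def J : Ideal A' := Jt (A := A) S.f S.t

/-- the transported ideal of `B'` -/
def Jp : Ideal B' :=
  Ideal.comap S.mkB (Ideal.map (S.φ' : (A' ⧸ Ideal.span {S.f ^ S.n}) →+* _) (Ideal.map S.mkA S.J))

theorem mem_Jp (x' : B') : x' ∈ S.Jp ↔ ∃ x ∈ S.J, S.φ' (S.mkA x) = S.mkB x' := by
  unfold Jp
  rw [Ideal.mem_comap]
  constructor
  · intro h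
    obtain ⟨y, hy, hyx⟩ := (Ideal.mem_map_iff_of_surjective _ S.φ'.surjective).1 h
    obtain ⟨x, hx, rfl⟩ :=
      (Ideal.mem_map_iff_of_surjective _ Ideal.Quotient.mk_surjective).1 hy
    exact ⟨x, hx, hyx⟩
  · rintro ⟨x, hx, h⟩
    rw [← h]
    exact Ideal.mem_map_of_mem _ (Ideal.mem_map_of_mem _ hx)

theorem phi_pow_mul (k : ℕ) (a' : A') (b' : B') (h : S.φ' (S.mkA a') = S.mkB b') :
    S.φ' (S.mkA (S.f ^ k * a')) = S.mkB (S.g ^ k * b') := by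
  simp only [map_mul, map_pow, S.hφ', h]

theorem phi_pow (k : ℕ) : S.φ' (S.mkA (S.f ^ k)) = S.mkB (S.g ^ k) := by
  simp only [map_pow, S.hφ']

theorem pow_mem_Jp : S.g ^ S.t ∈ S.Jp :=
  (S.mem_Jp _).2 ⟨S.f ^ S.t, pow_mem_Jt S.f S.t, S.phi_pow _⟩

theorem pow_mul_mem_Jp (k : ℕ) (hk : S.t ≤ k) (w : B') : S.g ^ k * w ∈ S.Jp := by
  obtain ⟨j, rfl⟩ : ∃ j, k = S.t + j := ⟨k - S.t, by omega⟩
  have : S.g ^ (S.t + j) * w = S.g ^ S.t * (S.g ^ j * w) := by ring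
  rw [this]
  exact S.Jp.mul_mem_right _ S.pow_mem_Jp

theorem Jp_mul (x' : B') (hx' : x' ∈ S.Jp) (y' : B') (hy' : y' ∈ S.Jp) :
    ∃ z' ∈ S.Jp, x' * y' = S.g ^ S.t * z' := by
  obtain ⟨x, hx, hxx⟩ := (S.mem_Jp _).1 hx'
  obtain ⟨y, hy, hyy⟩ := (S.mem_Jp _).1 hy'
  obtain ⟨z, hz, hxyz⟩ := Jt_mul S.hinj S.f S.t S.ht x y hx hy
  obtain ⟨z', hz'⟩ := Ideal.Quotient.mk_surjective (S.φ' (S.mkA z))
  have hz'mem : z' ∈ S.Jp := (S.mem_Jp _).2 ⟨z, hz, hz'.symm⟩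
  have h1 : S.mkB (x' * y') = S.mkB (S.g ^ S.t * z') := by
    rw [map_mul, ← hxx, ← hyy, ← map_mul, ← map_mul, hxyz]
    exact S.phi_pow_mul S.t z z' hz'.symm
  obtain ⟨w, hw⟩ := exists_of_mk_eq _ _ _ _ h1
  have hn := S.hn
  obtain ⟨k, hk⟩ : ∃ k, S.n = S.t + (S.t + k) := ⟨S.n - 2 * S.t, by omega⟩
  refine ⟨z' + S.g ^ (S.t + k) * w,
    Ideal.add_mem _ hz'mem (S.pow_mul_mem_Jp (S.t + k) (by omega) w), ?_⟩
  have : x' * y' = S.g ^ S.t * z' + S.g ^ S.n * w := by rw [← hw]; ring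
  rw [this, hk]; ring

theorem Jp_fg [Module.Finite A' A] : S.Jp.FG := by
  apply Ideal.fg_of_fg_map_of_fg_inf_ker_of_surjective (f := S.mkB) _ _
    Ideal.Quotient.mk_surjective
  · unfold Jp
    rw [Ideal.map_comap_of_surjective _ Ideal.Quotient.mk_surjective]
    exact ((Jt_fg S.hinj S.f S.t S.ht).map _).map _
  · have : S.Jp ⊓ RingHom.ker S.mkB = Ideal.span {S.g ^ S.n} := by
      rw [Ideal.mk_ker, inf_eq_right]
      intro x hx
      unfold Jp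
      rw [Ideal.mem_comap, Ideal.Quotient.eq_zero_iff_mem.2 hx]
      exact Ideal.zero_mem _
    rw [this]
    exact ⟨{S.g ^ S.n}, by simp⟩

/-- the glued ring -/
noncomputable abbrev BB : Subring (Localization.Away S.g) :=
  Bsub S.g S.t S.Jp S.pow_mem_Jp S.Jp_mul

/-- structure map -/
noncomputable abbrev tB : B' →+* S.BB := toB S.g S.t S.Jp S.pow_mem_Jp S.Jp_mul

/-- `x ↦ x / gᵗ` -/
noncomputable abbrev th (x : S.Jp) : S.BB := theta S.g S.t S.Jp S.pow_mem_Jp S.Jp_mul x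

/-- chosen element of `J` over `a` -/
noncomputable def xa (a : A) : A' := Classical.choose (S.ht a)

theorem xa_spec (a : A) :
    algebraMap A' A (S.xa a) = algebraMap A' A S.f ^ S.t * a := Classical.choose_spec (S.ht a)

theorem xa_mem (a : A) : S.xa a ∈ S.J := ⟨a, S.xa_spec a⟩

/-- chosen lift to `B'` -/
noncomputable def xb (a : A) : B' :=
  Classical.choose (Ideal.Quotient.mk_surjective (S.φ' (S.mkA (S.xa a))))

theorem xb_spec (a : A) : S.mkB (S.xb a) = S.φ' (S.mkA (S.xa a)) :=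
  Classical.choose_spec (Ideal.Quotient.mk_surjective (S.φ' (S.mkA (S.xa a))))

theorem xb_mem (a : A) : S.xb a ∈ S.Jp :=
  (S.mem_Jp _).2 ⟨S.xa a, S.xa_mem a, (S.xb_spec a).symm⟩

/-- the map `A → B / g B` -/
noncomputable def psiFun (a : A) : S.BB ⧸ Ideal.span {S.tB S.g} :=
  Ideal.Quotient.mk _ (S.th ⟨S.xb a, S.xb_mem a⟩)

theorem psiFun_eq (a : A) (x : A')
    (hx : algebraMap A' A x = algebraMap A' A S.f ^ S.t * a) (x' : B')
    (hx' : S.φ' (S.mkA x) = S.mkB x') (hmem : x' ∈ S.Jp) :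
    S.psiFun a = Ideal.Quotient.mk _ (S.th ⟨x', hmem⟩) := by
  have h1 : x = S.xa a := S.hinj (by rw [hx, S.xa_spec])
  subst h1
  have h2 : S.mkB (S.xb a) = S.mkB x' := by rw [S.xb_spec, hx']
  obtain ⟨w, hw⟩ := exists_of_mk_eq _ _ _ _ h2
  unfold psiFun
  rw [Ideal.Quotient.eq]
  have hn := S.hn
  exact theta_sub_mem_span S.g S.t S.Jp S.pow_mem_Jp S.Jp_mul _ _ S.n (by omega) w hw

theorem psiFun_one : S.psiFun 1 = 1 := by
  rw [S.psiFun_eq 1 (S.f ^ S.t) (by rw [map_pow, mul_one]) (S.g ^ S.t) (S.phi_pow _) S.pow_mem_Jp]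
  have : S.th ⟨S.g ^ S.t, S.pow_mem_Jp⟩ = S.tB 1 :=
    theta_pow_mul S.g S.t S.Jp S.pow_mem_Jp S.Jp_mul 1 _ (by simp)
  rw [this, map_one, map_one]

theorem psiFun_zero : S.psiFun 0 = 0 := by
  rw [S.psiFun_eq 0 0 (by rw [map_zero, mul_zero]) 0 (by simp) S.Jp.zero_mem]
  have : S.th ⟨0, S.Jp.zero_mem⟩ = S.tB 0 :=
    theta_pow_mul S.g S.t S.Jp S.pow_mem_Jp S.Jp_mul 0 _ (by simp)
  rw [this, map_zero, map_zero]

theorem psiFun_add (a b : A) : S.psiFun (a + b) = S.psiFun a + S.psiFun b := by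
  rw [S.psiFun_eq (a + b) (S.xa a + S.xa b) (by rw [map_add, S.xa_spec, S.xa_spec, mul_add])
    (S.xb a + S.xb b) (by rw [map_add, map_add, map_add, S.xb_spec, S.xb_spec])
    (S.Jp.add_mem (S.xb_mem a) (S.xb_mem b))]
  have : S.th ⟨S.xb a + S.xb b, S.Jp.add_mem (S.xb_mem a) (S.xb_mem b)⟩ =
      S.th ⟨S.xb a, S.xb_mem a⟩ + S.th ⟨S.xb b, S.xb_mem b⟩ :=
    theta_add S.g S.t S.Jp S.pow_mem_Jp S.Jp_mul ⟨S.xb a, S.xb_mem a⟩ ⟨S.xb b, S.xb_mem b⟩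
  rw [this, map_add]
  rfl

theorem psiFun_mul (a b : A) : S.psiFun (a * b) = S.psiFun a * S.psiFun b := by
  have hn := S.hn
  -- `x_a x_b = fᵗ x_{ab}`
  have h1 : S.xa a * S.xa b = S.f ^ S.t * S.xa (a * b) := by
    apply S.hinj
    rw [map_mul, map_mul, S.xa_spec, S.xa_spec, S.xa_spec, map_pow]
    ring
  have h2 : S.mkB (S.xb a * S.xb b) = S.mkB (S.g ^ S.t * S.xb (a * b)) := by
    rw [map_mul, S.xb_spec, S.xb_spec, ← map_mul, ← map_mul, h1]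
    exact S.phi_pow_mul S.t _ _ (S.xb_spec (a * b)).symm
  obtain ⟨w, hw⟩ := exists_of_mk_eq _ _ _ _ h2
  obtain ⟨k, hk⟩ : ∃ k, S.n = S.t + (S.t + 1 + k) := ⟨S.n - (2 * S.t + 1), by omega⟩
  have hzmem : S.xb (a * b) + S.g ^ (S.t + 1 + k) * w ∈ S.Jp :=
    Ideal.add_mem _ (S.xb_mem _) (S.pow_mul_mem_Jp (S.t + 1 + k) (by omega) w)
  have h3 : S.xb a * S.xb b = S.g ^ S.t * (S.xb (a * b) + S.g ^ (S.t + 1 + k) * w) := by
    have : S.xb a * S.xb b = S.g ^ S.t * S.xb (a * b) + S.g ^ S.n * w := by rw [← hw]; ring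
    rw [this, hk]; ring
  have h4 : S.th ⟨S.xb a, S.xb_mem a⟩ * S.th ⟨S.xb b, S.xb_mem b⟩ =
      S.th ⟨S.xb (a * b) + S.g ^ (S.t + 1 + k) * w, hzmem⟩ :=
    theta_mul S.g S.t S.Jp S.pow_mem_Jp S.Jp_mul _ _ _ h3
  have h5 : S.th ⟨S.xb (a * b) + S.g ^ (S.t + 1 + k) * w, hzmem⟩ -
      S.th ⟨S.xb (a * b), S.xb_mem _⟩ ∈ Ideal.span {S.tB S.g} :=
    theta_sub_mem_span S.g S.t S.Jp S.pow_mem_Jp S.Jp_mul _ _ (S.t + 1 + k) (by omega) w
      (by simp)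
  unfold psiFun
  rw [← map_mul, h4]
  symm
  rw [Ideal.Quotient.eq]
  exact h5

/-- the ring map `A → B / g B` -/
noncomputable def psi : A →+* S.BB ⧸ Ideal.span {S.tB S.g} where
  toFun := S.psiFun
  map_one' := S.psiFun_one
  map_mul' := S.psiFun_mul
  map_zero' := S.psiFun_zero
  map_add' := S.psiFun_add

theorem psi_apply (a : A) : S.psi a = S.psiFun a := rfl

theorem psi_surjective : Function.Surjective S.psi := by
  intro y
  obtain ⟨y, rfl⟩ := Ideal.Quotient.mk_surjective y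
  obtain ⟨x', rfl⟩ := exists_eq_theta S.g S.t S.Jp S.pow_mem_Jp S.Jp_mul y
  obtain ⟨x, hx, hxx⟩ := (S.mem_Jp x').1 x'.2
  obtain ⟨a, ha⟩ := hx
  exact ⟨a, S.psiFun_eq a x ha x' hxx x'.2⟩

theorem ker_psi : RingHom.ker S.psi = Ideal.span {algebraMap A' A S.f} := by
  have hn := S.hn
  ext a
  rw [RingHom.mem_ker, psi_apply, psiFun, Ideal.Quotient.eq_zero_iff_mem,
    theta_mem_span_iff S.g S.hg S.t S.Jp S.pow_mem_Jp S.Jp_mul, Ideal.mem_span_singleton']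
  constructor
  · rintro ⟨x₁', hx₁', h⟩
    change S.xb a = S.g * x₁' at h
    obtain ⟨x₁, hx₁, hxx⟩ := (S.mem_Jp _).1 hx₁'
    have h1 : S.mkA (S.xa a) = S.mkA (S.f * x₁) := by
      apply S.φ'.injective
      rw [← S.xb_spec, h, map_mul, map_mul, map_mul, S.hφ', hxx]
    obtain ⟨w, hw⟩ := exists_of_mk_eq _ _ _ _ h1
    obtain ⟨k, hk⟩ : ∃ k, S.n = 1 + (S.t + k) := ⟨S.n - (S.t + 1), by omega⟩
    have hmem : x₁ + S.f ^ (S.t + k) * w ∈ S.J :=
      Ideal.add_mem _ hx₁ (pow_mul_mem_Jt S.f S.t _ (by omega) w)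
    obtain ⟨c, hc⟩ := hmem
    refine ⟨c, ?_⟩
    have h2 : S.xa a = S.f * (x₁ + S.f ^ (S.t + k) * w) := by
      have : S.xa a = S.f * x₁ + S.f ^ S.n * w := by rw [← hw]; ring
      rw [this, hk]; ring
    have h3 : algebraMap A' A S.f ^ S.t * (c * algebraMap A' A S.f) =
        algebraMap A' A S.f ^ S.t * a := by
      rw [← S.xa_spec a, h2, map_mul, hc]; ring
    have hpow : algebraMap A' A S.f ^ S.t ∈ nonZeroDivisors A := pow_mem S.hf _
    exact (mul_cancel_left_mem_nonZeroDivisors hpow).mp h3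
  · rintro ⟨b, rfl⟩
    have h1 : S.xa (b * algebraMap A' A S.f) = S.f * S.xa b := by
      apply S.hinj
      rw [map_mul, S.xa_spec, S.xa_spec]; ring
    have h2 : S.mkB (S.xb (b * algebraMap A' A S.f)) = S.mkB (S.g * S.xb b) := by
      rw [S.xb_spec, h1, map_mul, map_mul, S.hφ', map_mul, S.xb_spec]
    obtain ⟨w, hw⟩ := exists_of_mk_eq _ _ _ _ h2
    obtain ⟨k, hk⟩ : ∃ k, S.n = 1 + (S.t + k) := ⟨S.n - (S.t + 1), by omega⟩
    refine ⟨S.xb b + S.g ^ (S.t + k) * w,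
      Ideal.add_mem _ (S.xb_mem _) (S.pow_mul_mem_Jp _ (by omega) w), ?_⟩
    change S.xb (b * algebraMap A' A S.f) = _
    have : S.xb (b * algebraMap A' A S.f) = S.g * S.xb b + S.g ^ S.n * w := by rw [← hw]; ring
    rw [this, hk]; ring

/-- the glued isomorphism -/
noncomputable def phi :
    (A ⧸ Ideal.span {algebraMap A' A S.f}) ≃+* (S.BB ⧸ Ideal.span {S.tB S.g}) :=
  (Ideal.quotEquivOfEq S.ker_psi.symm).trans
    (RingHom.quotientKerEquivOfSurjective S.psi_surjective)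

theorem phi_mk (a : A) : S.phi (Ideal.Quotient.mk _ a) = S.psi a := rfl

theorem phi_compat (a' : A') (b' : B') (h : S.φ' (S.mkA a') = S.mkB b') :
    S.phi (Ideal.Quotient.mk _ (algebraMap A' A a')) = Ideal.Quotient.mk _ (S.tB b') := by
  rw [phi_mk, psi_apply,
    S.psiFun_eq (algebraMap A' A a') (S.f ^ S.t * a') (by rw [map_mul, map_pow])
      (S.g ^ S.t * b') (S.phi_pow_mul _ _ _ h) (S.pow_mul_mem_Jp _ le_rfl _)]
  congr 1
  exact theta_pow_mul S.g S.t S.Jp S.pow_mem_Jp S.Jp_mul b' _ rfl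

end Setup

end Groth.Agent.Helper7.FinGl
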