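import Mathlib

/-!
# The Fischer (apolar) pairing on a polynomial ring

`pair P Q = Σ_α α! · P_α · Q_α`.  Multiplication by a variable is adjoint to the partial derivative,
and a linear substitution is adjoint to the transposed substitution.
-/

set_option autoImplicit false
universe u v w

namespace Groth.Agent.Helper7.FischA
open MvPolynomial

variable {σ : Type u} [Fintype σ] {τ : Type v} [Fintype τ] {R : Type w} [CommRing R]

/-- The factorial of a multi-index. -/
def mfact (α : σ →₀ ℕ) : ℕ := ∏ i, (α i).factorial

theorem mfact_pos (α : σ →₀ ℕ) : 0 < mfact α :=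
  Finset.prod_pos fun i _ => Nat.factorial_pos _

theorem mfact_add_single [DecidableEq σ] (α : σ →₀ ℕ) (i : σ) :
    mfact (α + Finsupp.single i 1) = mfact α * (α i + 1) := by
  unfold mfact
  have h : ∀ j, ((α + Finsupp.single i 1 : σ →₀ ℕ) j).factorial =
      (α j).factorial * (if j = i then α i + 1 else 1) := by
    intro j
    by_cases hj : j = i
    · subst hj
      simp [Nat.factorial_succ, mul_comm]
    · simp [hj, Finsupp.single_apply, Ne.symm hj]
  simp_rw [h]
  rw [Finset.prod_mul_distrib, Finset.prod_ite_eq' Finset.univ i]
  simp

/-- The Fischer pairing `Σ_α α! P_α Q_α`, as a bilinear form. -/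
noncomputable def pair : MvPolynomial σ R →ₗ[R] MvPolynomial σ R →ₗ[R] R :=
  (basisMonomials σ R).constr R fun α : σ →₀ ℕ => (mfact α : R) • lcoeff R α

theorem pair_monomial (α : σ →₀ ℕ) (a : R) (Q : MvPolynomial σ R) :
    pair (monomial α a) Q = a * ((mfact α : R) * coeff α Q) := by
  have h1 : (monomial α a : MvPolynomial σ R) = a • basisMonomials σ R α := by
    rw [coe_basisMonomials, smul_monomial]; simp
  unfold pair
  rw [h1, map_smul, Module.Basis.constr_basis]
  simp

theorem pair_monomial_monomial [DecidableEq σ] (α β : σ →₀ ℕ) (a b : R) :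
    pair (monomial α a) (monomial β b) = if α = β then (mfact α : R) * a * b else 0 := by
  rw [pair_monomial, coeff_monomial]
  by_cases h : α = β
  · subst h; simp; ring
  · rw [if_neg h, if_neg (Ne.symm h)]; simp

theorem pair_comm (P Q : MvPolynomial σ R) : pair P Q = pair Q P := by
  classical
  have : (pair : MvPolynomial σ R →ₗ[R] MvPolynomial σ R →ₗ[R] R) = pair.flip := by
    ext α β
    simp only [LinearMap.coe_comp, Function.comp_apply, LinearMap.flip_apply]
    change pair (monomial α 1) (monomial β 1) = pair (monomial β 1) (monomial α 1)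
    rw [pair_monomial_monomial, pair_monomial_monomial]
    by_cases h : α = β
    · subst h; simp
    · rw [if_neg h, if_neg (Ne.symm h)]
  exact LinearMap.congr_fun (LinearMap.congr_fun this P) Q

/-- The pairing as an explicit sum over the support. -/
theorem pair_eq_sum (P Q : MvPolynomial σ R) :
    pair P Q = ∑ α ∈ P.support, (mfact α : R) * coeff α P * coeff α Q := by
  conv_lhs => rw [← support_sum_monomial_coeff P]
  rw [map_sum, LinearMap.sum_apply]
  refine Finset.sum_congr rfl fun α _ => ?_
  rw [pair_monomial]; ring

theorem pair_C (a : R) (Q : MvPolynomial σ R) : pair (C a) Q = a * coeff 0 Q := by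
  have : (C a : MvPolynomial σ R) = monomial 0 a := rfl
  rw [this, pair_monomial]
  simp [mfact]

theorem pair_one (Q : MvPolynomial σ R) : pair 1 Q = coeff 0 Q := by
  have := pair_C (σ := σ) (1 : R) Q
  simpa using this

/-- Multiplication by a variable is adjoint to the partial derivative. -/
theorem pair_mul_X (P Q : MvPolynomial σ R) (i : σ) :
    pair (P * X i) Q = pair P (pderiv i Q) := by
  classical
  have : (pair : MvPolynomial σ R →ₗ[R] MvPolynomial σ R →ₗ[R] R) ∘ₗ
      (LinearMap.mulRight R (X i : MvPolynomial σ R)) =
      (pair.compl₂ ((pderiv i : Derivation R _ _) : MvPolynomial σ R →ₗ[R] MvPolynomial σ R)) := by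
    ext α β
    simp only [LinearMap.coe_comp, Function.comp_apply, LinearMap.mulRight_apply,
      LinearMap.compl₂_apply, Derivation.coeFn_coe]
    change pair (monomial α 1 * X i) (monomial β 1) = pair (monomial α 1) (pderiv i (monomial β 1))
    rw [pderiv_monomial, X, monomial_mul, pair_monomial_monomial, pair_monomial_monomial]
    by_cases hβ : β i = 0
    · have h1 : ¬ α + Finsupp.single i 1 = β := by
        intro h
        have := DFunLike.congr_fun h i
        simp at this
        omega
      rw [if_neg h1, hβ]
      simp
    · by_cases h : α + Finsupp.single i 1 = β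
      · have h2 : α = β - Finsupp.single i 1 := by
          rw [← h]; ext j; simp
        rw [if_pos h, if_pos h2]
        subst h
        rw [mfact_add_single]
        simp
      · have h2 : ¬ α = β - Finsupp.single i 1 := by
          intro h2
          apply h
          rw [h2]
          ext j
          by_cases hj : j = i
          · subst hj; simp; omega
          · simp [Finsupp.single_apply, Ne.symm hj]
        rw [if_neg h, if_neg h2]
  exact LinearMap.congr_fun (LinearMap.congr_fun this P) Q

/-- Compatibility with a change of coefficient ring. -/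
theorem pair_map {S : Type*} [CommRing S] (f : R →+* S) (P Q : MvPolynomial σ R) :
    pair (map f P) (map f Q) = f (pair P Q) := by
  rw [pair_eq_sum, pair_eq_sum, map_sum]
  have hsub : (map f P).support ⊆ P.support := support_map_subset f P
  rw [← Finset.sum_subset hsub]
  · refine Finset.sum_congr rfl fun α _ => ?_
    simp [coeff_map]
  · intro α _ hα
    rw [notMem_support_iff] at hα
    rw [coeff_map] at hα
    rw [map_mul, map_mul, hα]; simp

/-- Positivity over the integers. -/
theorem pair_self_pos {Q : MvPolynomial σ ℤ} (hQ : Q ≠ 0) : 0 < pair Q Q := by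
  rw [pair_eq_sum]
  obtain ⟨α, hα⟩ := (support_nonempty.mpr hQ)
  apply Finset.sum_pos'
  · intro β _
    have := mfact_pos β
    rw [mul_assoc]
    exact mul_nonneg (by positivity) (mul_self_nonneg _)
  · refine ⟨α, hα, ?_⟩
    have h1 := mfact_pos α
    have h2 : coeff α Q ≠ 0 := mem_support_iff.mp hα
    have h3 : 0 < coeff α Q * coeff α Q := mul_self_pos.mpr h2
    rw [mul_assoc]
    exact mul_pos (by exact_mod_cast h1) h3

/-- Non-vanishing over a ring of characteristic zero for polynomials defined over `ℤ`. -/
theorem pair_self_ne_zero [CharZero R] {Q : MvPolynomial σ ℤ} (hQ : Q ≠ 0) :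
    pair (map (Int.castRingHom R) Q) (map (Int.castRingHom R) Q) ≠ 0 := by
  rw [pair_map]
  have := pair_self_pos hQ
  simp only [eq_intCast, ne_eq, Int.cast_eq_zero]
  omega

/-! ### Linear substitutions -/

/-- The substitution `X_i ↦ Σ_j g i j · X_j`. -/
noncomputable def subL (g : σ → τ → R) : MvPolynomial σ R →ₐ[R] MvPolynomial τ R :=
  aeval fun i => ∑ j, C (g i j) * X j

/-- The transposed substitution `X_j ↦ Σ_i g i j · X_i`. -/
noncomputable def subR (g : σ → τ → R) : MvPolynomial τ R →ₐ[R] MvPolynomial σ R :=
  aeval fun j => ∑ i, C (g i j) * X i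

@[simp] theorem subL_X (g : σ → τ → R) (i : σ) : subL g (X i) = ∑ j, C (g i j) * X j := by
  simp [subL]

@[simp] theorem subR_X (g : σ → τ → R) (j : τ) : subR g (X j) = ∑ i, C (g i j) * X i := by
  simp [subR]

theorem coeff_zero_subR (g : σ → τ → R) (Q : MvPolynomial τ R) :
    coeff 0 (subR g Q) = coeff 0 Q := by
  have h : (constantCoeff : MvPolynomial σ R →+* R).comp (subR g : MvPolynomial τ R →+* _) =
      (constantCoeff : MvPolynomial τ R →+* R) := by
    apply MvPolynomial.ringHom_ext
    · intro r; simp [subR]
    · intro j
      simp [map_sum]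
  have := RingHom.congr_fun h Q
  simpa [constantCoeff_eq] using this

/-- The chain rule for the transposed substitution. -/
theorem pderiv_subR [DecidableEq σ] (g : σ → τ → R) (i : σ) (Q : MvPolynomial τ R) :
    pderiv i (subR g Q) = ∑ j, C (g i j) * subR g (pderiv j Q) := by
  classical
  induction Q using MvPolynomial.induction_on with
  | C a => simp [subR]
  | add p q hp hq => simp only [map_add, hp, hq, mul_add, Finset.sum_add_distrib]
  | mul_X p j hp =>
    rw [map_mul, Derivation.leibniz, hp, subR_X]
    have h1 : pderiv i (∑ i', C (g i' j) * X i' : MvPolynomial σ R) = C (g i j) := by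
      rw [map_sum]
      simp only [pderiv_C_mul, pderiv_X, Pi.single_apply]
      rw [Finset.sum_eq_single i]
      · simp
      · intro b _ hb; simp [hb]
      · intro h; exact absurd (Finset.mem_univ i) h
    rw [h1]
    have h2 : ∀ j', C (g i j') * subR g (pderiv j' (p * X j)) =
        (C (g i j') * subR g (pderiv j' p)) * (∑ i', C (g i' j) * X i') +
          (if j' = j then C (g i j') * subR g p else 0) := by
      intro j'
      rw [Derivation.leibniz, map_add, pderiv_X]
      simp only [smul_eq_mul, map_mul, subR_X, Pi.single_apply]
      by_cases h : j' = j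
      · subst h; simp; ring
      · simp [h, Ne.symm h]; ring
    simp_rw [h2]
    rw [Finset.sum_add_distrib, Finset.sum_ite_eq' Finset.univ j, ← Finset.sum_mul]
    simp only [Finset.mem_univ, if_true, smul_eq_mul]
    ring

/-- A linear substitution is adjoint to the transposed substitution for the Fischer pairing. -/
theorem pair_subL (g : σ → τ → R) (P : MvPolynomial σ R) :
    ∀ Q : MvPolynomial τ R, pair (subL g P) Q = pair P (subR g Q) := by
  classical
  induction P using MvPolynomial.induction_on with
  | C a =>
    intro Q
    have : subL g (C a) = C a := by simp [subL]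
    rw [this, pair_C, pair_C, coeff_zero_subR]
  | add p q hp hq =>
    intro Q
    rw [map_add, map_add, LinearMap.add_apply, hp, hq, map_add, LinearMap.add_apply]
  | mul_X p i hp =>
    intro Q
    rw [map_mul, subL_X, Finset.mul_sum, map_sum, LinearMap.sum_apply, pair_mul_X, pderiv_subR,
      map_sum]
    refine Finset.sum_congr rfl fun j _ => ?_
    have h1 : subL g p * (C (g i j) * X j) = g i j • (subL g p * X j) := by
      rw [smul_eq_C_mul]; ring
    have h2 : C (g i j) * subR g (pderiv j Q) = g i j • subR g (pderiv j Q) := by
      rw [smul_eq_C_mul]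
    rw [h1, h2, map_smul, LinearMap.smul_apply, pair_mul_X, hp, map_smul]

end Groth.Agent.Helper7.FischA
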