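import Mathlib
import Groth.Agent.Helper7.FischA

/-!
# The Fischer pairing on polynomials in matrix entries: the key lemma of Cayley's Ω-process

For a matrix `x` over `R` and a polynomial `P` in the entries of a generic matrix `Y`,
`⟨det(Y)^m, P(xY)⟩ = det(x)^m ⟨det(Y)^m, P⟩`.
-/

set_option autoImplicit false
universe u

namespace Groth.Agent.Helper7.FischB
open MvPolynomial Groth.Agent.Helper7.FischA

variable {n : ℕ} {R : Type u} [CommRing R]

/-- The coefficient matrix of the substitution `Y ↦ xY` on the entries of an `n × n` matrix. -/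
def gmat (x : Matrix (Fin n) (Fin n) R) : Fin n × Fin n → Fin n × Fin n → R :=
  fun p q => if p.2 = q.2 then x p.1 q.1 else 0

/-- The determinant of the generic matrix. -/
noncomputable def detY (n : ℕ) (R : Type u) [CommRing R] : MvPolynomial (Fin n × Fin n) R :=
  (Matrix.mvPolynomialX (Fin n) (Fin n) R).det

theorem subL_gmat_X (x : Matrix (Fin n) (Fin n) R) (i j : Fin n) :
    subL (gmat x) (X (i, j)) = ∑ l, C (x i l) * X (l, j) := by
  rw [subL_X, Fintype.sum_prod_type]
  refine Finset.sum_congr rfl fun l _ => ?_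
  rw [Finset.sum_eq_single j]
  · simp [gmat]
  · intro b _ hb; simp [gmat, Ne.symm hb]
  · intro h; exact absurd (Finset.mem_univ j) h

theorem subR_gmat_X (x : Matrix (Fin n) (Fin n) R) (l j : Fin n) :
    subR (gmat x) (X (l, j)) = ∑ i, C (x i l) * X (i, j) := by
  rw [subR_X, Fintype.sum_prod_type]
  refine Finset.sum_congr rfl fun i _ => ?_
  rw [Finset.sum_eq_single j]
  · simp [gmat]
  · intro b _ hb; simp [gmat, hb]
  · intro h; exact absurd (Finset.mem_univ j) h

theorem subR_detY (x : Matrix (Fin n) (Fin n) R) :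
    subR (gmat x) (detY n R) = C x.det * detY n R := by
  unfold detY
  rw [AlgHom.map_det]
  have h : (subR (gmat x)).mapMatrix (Matrix.mvPolynomialX (Fin n) (Fin n) R) =
      (x.map C).transpose * Matrix.mvPolynomialX (Fin n) (Fin n) R := by
    apply Matrix.ext
    intro l j
    simp only [AlgHom.mapMatrix_apply, Matrix.map_apply, Matrix.mvPolynomialX_apply, Matrix.mul_apply,
      Matrix.transpose_apply]
    exact subR_gmat_X x l j
  rw [h, Matrix.det_mul, Matrix.det_transpose]
  congr 1
  exact (RingHom.map_det C x).symm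

/-- The key lemma of the Ω-process. -/
theorem key (x : Matrix (Fin n) (Fin n) R) (m : ℕ) (P : MvPolynomial (Fin n × Fin n) R) :
    pair (detY n R ^ m) (subL (gmat x) P) = x.det ^ m * pair (detY n R ^ m) P := by
  rw [pair_comm, pair_subL, map_pow, subR_detY, mul_pow, ← map_pow, ← smul_eq_C_mul, map_smul,
    smul_eq_mul, pair_comm]

/-- `detY` is the image of the integral generic determinant. -/
theorem detY_map {S : Type*} [CommRing S] (f : R →+* S) : map f (detY n R) = detY n S := by
  unfold detY
  rw [RingHom.map_det]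
  congr 1
  apply Matrix.ext
  intro i j
  simp [Matrix.mvPolynomialX_apply]

theorem detY_ne_zero (n : ℕ) : detY n ℤ ≠ 0 := Matrix.det_mvPolynomialX_ne_zero (Fin n) ℤ

/-- `⟨det^m, det^m⟩ ≠ 0` in characteristic zero. -/
theorem pair_detY_pow_ne_zero [CharZero R] (m : ℕ) :
    pair (detY n R ^ m) (detY n R ^ m) ≠ 0 := by
  have h1 : detY n R ^ m = map (Int.castRingHom R) (detY n ℤ ^ m) := by
    rw [map_pow, detY_map]
  rw [h1]
  exact pair_self_ne_zero (pow_ne_zero m (detY_ne_zero n))

end Groth.Agent.Helper7.FischB
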