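import Mathlib
import Groth.Agent.Helper7.FischB

/-!
# Right multiplication `Y ↦ Yx` and the Fischer pairing
-/

set_option autoImplicit false
universe u

namespace Groth.Agent.Helper7.FischC
open MvPolynomial Groth.Agent.Helper7.FischA Groth.Agent.Helper7.FischB

variable {n : ℕ} {R : Type u} [CommRing R]

/-- The coefficient matrix of the substitution `Y ↦ Yx` on the entries of an `n × n` matrix. -/
def gmat' (x : Matrix (Fin n) (Fin n) R) : Fin n × Fin n → Fin n × Fin n → R :=
  fun p q => if p.1 = q.1 then x q.2 p.2 else 0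

theorem subL_gmat'_X (x : Matrix (Fin n) (Fin n) R) (i j : Fin n) :
    subL (gmat' x) (X (i, j)) = ∑ l, C (x l j) * X (i, l) := by
  rw [subL_X, Fintype.sum_prod_type, Finset.sum_eq_single i]
  · simp [gmat']
  · intro b _ hb; simp [gmat', Ne.symm hb]
  · intro h; exact absurd (Finset.mem_univ i) h

theorem subR_gmat'_X (x : Matrix (Fin n) (Fin n) R) (i l : Fin n) :
    subR (gmat' x) (X (i, l)) = ∑ j, C (x l j) * X (i, j) := by
  rw [subR_X, Fintype.sum_prod_type, Finset.sum_eq_single i]
  · simp [gmat']
  · intro b _ hb; simp [gmat', hb]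
  · intro h; exact absurd (Finset.mem_univ i) h

theorem subR'_detY (x : Matrix (Fin n) (Fin n) R) :
    subR (gmat' x) (detY n R) = C x.det * detY n R := by
  unfold detY
  rw [AlgHom.map_det]
  have h : (subR (gmat' x)).mapMatrix (Matrix.mvPolynomialX (Fin n) (Fin n) R) =
      Matrix.mvPolynomialX (Fin n) (Fin n) R * (x.map C).transpose := by
    apply Matrix.ext
    intro i l
    simp only [AlgHom.mapMatrix_apply, Matrix.map_apply, Matrix.mvPolynomialX_apply, Matrix.mul_apply,
      Matrix.transpose_apply]
    rw [subR_gmat'_X]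
    refine Finset.sum_congr rfl fun j _ => ?_
    rw [mul_comm]
  rw [h, Matrix.det_mul, Matrix.det_transpose, mul_comm]
  congr 1
  exact (RingHom.map_det C x).symm

/-- The key lemma of the Ω-process, on the right. -/
theorem key' (x : Matrix (Fin n) (Fin n) R) (m : ℕ) (P : MvPolynomial (Fin n × Fin n) R) :
    pair (detY n R ^ m) (subL (gmat' x) P) = x.det ^ m * pair (detY n R ^ m) P := by
  rw [pair_comm, pair_subL, map_pow, subR'_detY, mul_pow, ← map_pow, ← smul_eq_C_mul, map_smul,
    smul_eq_mul, pair_comm]

/-- The transposed substitution on a product of entries of one "row pattern". -/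
theorem subR'_prod (x : Matrix (Fin n) (Fin n) R) {a : ℕ} (I K : Fin a → Fin n) :
    subR (gmat' x) (∏ t, X (I t, K t)) =
      ∑ J : Fin a → Fin n, C (∏ t, x (K t) (J t)) * ∏ t, X (I t, J t) := by
  rw [map_prod]
  simp_rw [subR_gmat'_X]
  rw [Finset.prod_univ_sum]
  simp only [Fintype.piFinset_univ]
  refine Finset.sum_congr rfl fun J _ => ?_
  rw [Finset.prod_mul_distrib, map_prod]

end Groth.Agent.Helper7.FischC
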