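import Mathlib
import Groth.Prelude.Def_BlowUp2
import Groth.Prelude.Def_FlatCA
import Groth.Agent.Helper7.Fitt7

set_option linter.style.haveILetI false
set_option linter.unusedSectionVars false

namespace Groth.Agent.Helper7.FittLib

open Matrix TensorProduct

universe u

lemma map_eq_span_of_blowup {R : Type u} [CommRing R] (I : Ideal R) (a : R) (ha : a ∈ I)
    (R₁ : Type u) [CommRing R₁] [Algebra R R₁] (e : R₁ ≃ₐ[R] ↥(BlowUp.affineAlgebra R I a)) :
    I.map (algebraMap R R₁) = Ideal.span {algebraMap R R₁ a} := by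
  apply le_antisymm
  · rw [Ideal.map_le_iff_le_comap]
    intro x hx
    rw [Ideal.mem_comap, Ideal.mem_span_singleton']
    let q' : ↥(BlowUp.affineAlgebra R I a) :=
      ⟨IsLocalization.mk' (Localization.Away a) x ⟨a, Submonoid.mem_powers a⟩,
        Algebra.subset_adjoin ⟨x, hx, rfl⟩⟩
    refine ⟨e.symm q', ?_⟩
    apply e.injective
    rw [map_mul, AlgEquiv.apply_symm_apply, AlgEquiv.commutes, AlgEquiv.commutes]
    apply Subtype.ext
    simp only [q', Subalgebra.coe_mul, Subalgebra.coe_algebraMap]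
    exact IsLocalization.mk'_spec _ _ _
  · rw [Ideal.span_le, Set.singleton_subset_iff]
    exact Ideal.mem_map_of_mem _ ha

theorem fitt_strictTransform_eq_top {R : Type u} [CommRing R] (M : Type u) [AddCommGroup M]
    [Module R M] [Module.Finite R M] (k : ℕ) (a : R) (ha : a ∈ Fitt.ideal R M k)
    (R₁ : Type u) [CommRing R₁] [Algebra R R₁]
    (e : R₁ ≃ₐ[R] ↥(BlowUp.affineAlgebra R (Fitt.ideal R M k) a)) :
    Fitt.ideal R₁ ((R₁ ⊗[R] M) ⧸ FlatCA.powTorsion R₁ (algebraMap R R₁ a) (R₁ ⊗[R] M)) k = ⊤ := by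
  apply fitt_quot_eq_top_of_principal (R₁ ⊗[R] M) k (algebraMap R R₁ a)
  · rw [fitt_baseChange, map_eq_span_of_blowup _ a ha R₁ e]
  · intro m hm
    rw [LinearMap.mem_ker, LinearMap.smul_apply, LinearMap.id_apply] at hm
    refine Submodule.mem_iSup_of_mem 1 ?_
    rw [Submodule.mem_torsionBy_iff, pow_one]
    exact hm

end Groth.Agent.Helper7.FittLib
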