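import Mathlib
import Groth.Agent.Helper7.Fitt11
import Groth.Agent.Helper7.FittBlow

set_option linter.style.haveILetI false
set_option linter.unusedSectionVars false

namespace Groth.Agent.Helper7.FittLib

open Matrix TensorProduct

universe u

lemma mem_powTorsion_iff {S : Type u} [CommRing S] (a : S) {N : Type u} [AddCommGroup N]
    [Module S N] (y : N) : y ∈ FlatCA.powTorsion S a N ↔ ∃ m : ℕ, a ^ m • y = 0 := by
  unfold FlatCA.powTorsion
  rw [Submodule.mem_iSup_of_directed]
  · simp only [Submodule.mem_torsionBy_iff]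
  · intro m1 m2
    refine ⟨m1 + m2, ?_, ?_⟩
    · intro y hy
      rw [Submodule.mem_torsionBy_iff] at hy ⊢
      rw [pow_add, mul_comm, mul_smul, hy, smul_zero]
    · intro y hy
      rw [Submodule.mem_torsionBy_iff] at hy ⊢
      rw [pow_add, mul_smul, hy, smul_zero]

/-- (P1) Elements of the Fitting ideals of `N / (a-power torsion)` are, up to a power of `a`, in the
Fitting ideals of `N`. -/
theorem exists_pow_mul_mem_fitt {S : Type u} [CommRing S] (a : S) (N : Type u) [AddCommGroup N]
    [Module S N] [Module.Finite S N] (j : ℕ) (d : S)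
    (hd : d ∈ Fitt.ideal S (N ⧸ FlatCA.powTorsion S a N) j) :
    ∃ m : ℕ, a ^ m * d ∈ Fitt.ideal S N j := by
  classical
  set T := FlatCA.powTorsion S a N with hT
  obtain ⟨n, x, hx⟩ := Module.Finite.exists_fin (R := S) (M := N)
  have hy : Submodule.span S (Set.range fun i => T.mkQ (x i)) = ⊤ := span_range_mkQ_comp T x hx
  rw [fitt_eq_minors_fin (fun i => T.mkQ (x i)) hy
    (rel S (fun i => T.mkQ (x i)) : Set (Fin n → S)) (Submodule.span_eq _) j] at hd
  rw [fitt_eq_minors_fin x hx (rel S x : Set (Fin n → S)) (Submodule.span_eq _) j]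
  unfold minors at hd
  induction hd using Submodule.span_induction with
  | mem d hd =>
    obtain ⟨z, e, hz, rfl⟩ := hd
    have h1 : ∀ b, ∃ m : ℕ, a ^ m • z b ∈ rel S x := by
      intro b
      have := (mem_rel _ _).mp (hz b)
      have h2 : ∑ i, z b i • T.mkQ (x i) = T.mkQ (∑ i, z b i • x i) := by
        rw [map_sum]; simp
      rw [h2, Submodule.mkQ_apply, Submodule.Quotient.mk_eq_zero, hT, mem_powTorsion_iff] at this
      obtain ⟨m, hm⟩ := this
      refine ⟨m, ?_⟩
      rw [mem_rel]
      rw [← hm, Finset.smul_sum]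
      refine Finset.sum_congr rfl (fun i _ => ?_)
      rw [Pi.smul_apply, smul_eq_mul, mul_smul]
    choose m hm using h1
    refine ⟨∑ b, m b, ?_⟩
    have h3 : a ^ (∑ b, m b) * (Matrix.of fun b b' => z b (e b')).det =
        (Matrix.of fun b b' => (fun b => a ^ m b • z b) b (e b')).det := by
      have : (Matrix.of fun b b' => (fun b => a ^ m b • z b) b (e b')) =
          Matrix.of fun b b' => (a ^ m b) * (Matrix.of fun b b' => z b (e b')) b b' := by
        ext b b'; simp
      rw [this, det_mul_column, Finset.prod_pow_eq_pow_sum]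
    rw [h3]
    exact det_mem_minors _ e hm
  | zero => exact ⟨0, by simp⟩
  | add d1 d2 _ _ h1 h2 =>
    obtain ⟨m1, h1⟩ := h1
    obtain ⟨m2, h2⟩ := h2
    refine ⟨m1 + m2, ?_⟩
    rw [mul_add]
    refine Ideal.add_mem _ ?_ ?_
    · rw [pow_add, mul_comm (a ^ m1), mul_assoc]
      exact Ideal.mul_mem_left _ _ h1
    · rw [pow_add, mul_assoc]
      exact Ideal.mul_mem_left _ _ h2
  | smul c d _ h =>
    obtain ⟨m, h⟩ := h
    refine ⟨m, ?_⟩
    rw [smul_eq_mul, mul_left_comm]
    exact Ideal.mul_mem_left _ _ h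

/-- (P2) A local-to-global criterion for being `a`-power torsion. -/
theorem exists_pow_mul_eq_zero {R : Type u} [CommRing R] (a y : R)
    (h : ∀ (p : Ideal R) [p.IsPrime], a ∉ p → ∃ s : R, s ∉ p ∧ s * y = 0) :
    ∃ m : ℕ, a ^ m * y = 0 := by
  by_contra hcon
  push Not at hcon
  have hrad : a ∉ (Ideal.span {y}).annihilator.radical := by
    rintro ⟨m, hm⟩
    rw [Submodule.mem_annihilator_span_singleton] at hm
    exact hcon m hm
  rw [Ideal.radical_eq_sInf, Ideal.mem_sInf] at hrad
  push Not at hrad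
  obtain ⟨p, ⟨hle, hp⟩, hap⟩ := hrad
  obtain ⟨s, hs, hsy⟩ := h p hap
  apply hs
  apply hle
  rw [Submodule.mem_annihilator_span_singleton]
  exact hsy

/-- (P3) Elements of `R` that become units in `R_a` are nonzerodivisors on the blow-up algebra. -/
theorem eq_zero_of_blowup {R : Type u} [CommRing R] (I : Ideal R) (a : R)
    (R₁ : Type u) [CommRing R₁] [Algebra R R₁] (e : R₁ ≃ₐ[R] ↥(BlowUp.affineAlgebra R I a))
    (v : R) (hv : IsUnit (algebraMap R (Localization.Away a) v)) (t : R₁)
    (ht : algebraMap R R₁ v * t = 0) : t = 0 := by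
  have h1 : e (algebraMap R R₁ v * t) = 0 := by rw [ht, map_zero]
  rw [map_mul, AlgEquiv.commutes] at h1
  have h2 : algebraMap R (Localization.Away a) v * ((e t : ↥(BlowUp.affineAlgebra R I a)) :
      Localization.Away a) = 0 := by
    have := congrArg (Subtype.val) h1
    simpa using this
  have h3 : ((e t : ↥(BlowUp.affineAlgebra R I a)) : Localization.Away a) = 0 :=
    (hv.mul_right_eq_zero).mp h2
  have h4 : e t = 0 := Subtype.ext h3
  exact (map_eq_zero_iff e e.injective).mp h4

theorem eq_zero_of_blowup_pow {R : Type u} [CommRing R] (I : Ideal R) (a : R)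
    (R₁ : Type u) [CommRing R₁] [Algebra R R₁] (e : R₁ ≃ₐ[R] ↥(BlowUp.affineAlgebra R I a))
    (m : ℕ) (t : R₁) (ht : algebraMap R R₁ a ^ m * t = 0) : t = 0 := by
  rw [← map_pow] at ht
  refine eq_zero_of_blowup I a R₁ e (a ^ m) ?_ t ht
  rw [map_pow]
  exact (IsLocalization.Away.algebraMap_isUnit a).pow m

end Groth.Agent.Helper7.FittLib
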