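import Mathlib
import Groth.Agent.Helper7.Fitt12

set_option linter.style.haveILetI false
set_option linter.unusedSectionVars false

namespace Groth.Agent.Helper7.FittLib

open Matrix TensorProduct

universe u

/-- Vanishing of the lower Fitting ideals of the strict transform. -/
theorem fitt_strictTransform_eq_bot {R : Type u} [CommRing R] (M : Type u) [AddCommGroup M]
    [Module R M] [Module.Finite R M] (I : Ideal R) (a : R)
    (R₁ : Type u) [CommRing R₁] [Algebra R R₁] (e : R₁ ≃ₐ[R] ↥(BlowUp.affineAlgebra R I a))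
    (j : ℕ) (h : ∀ y ∈ Fitt.ideal R M j, ∃ m : ℕ, a ^ m * y = 0) :
    Fitt.ideal R₁ ((R₁ ⊗[R] M) ⧸ FlatCA.powTorsion R₁ (algebraMap R R₁ a) (R₁ ⊗[R] M)) j = ⊥ := by
  rw [eq_bot_iff]
  intro d hd
  rw [Ideal.mem_bot]
  obtain ⟨m, hm⟩ := exists_pow_mul_mem_fitt (algebraMap R R₁ a) (R₁ ⊗[R] M) j d hd
  rw [fitt_baseChange] at hm
  have key : ∀ w ∈ (Fitt.ideal R M j).map (algebraMap R R₁), ∃ m' : ℕ,
      algebraMap R R₁ a ^ m' * w = 0 := by
    intro w hw
    unfold Ideal.map at hw
    induction hw using Submodule.span_induction with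
    | mem w hw =>
      obtain ⟨y, hy, rfl⟩ := hw
      obtain ⟨m', hm'⟩ := h y hy
      exact ⟨m', by rw [← map_pow, ← map_mul, hm', map_zero]⟩
    | zero => exact ⟨0, by simp⟩
    | add w1 w2 _ _ h1 h2 =>
      obtain ⟨m1, h1⟩ := h1
      obtain ⟨m2, h2⟩ := h2
      refine ⟨m1 + m2, ?_⟩
      rw [mul_add, pow_add, mul_comm (_ ^ m1), mul_assoc, h1, mul_zero, zero_add,
        mul_comm (_ ^ m2), mul_assoc, h2, mul_zero]
    | smul c w _ h1 =>
      obtain ⟨m1, h1⟩ := h1
      exact ⟨m1, by rw [smul_eq_mul, mul_left_comm, h1, mul_zero]⟩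
  obtain ⟨m', hm'⟩ := key _ hm
  rw [← mul_assoc, ← pow_add] at hm'
  exact eq_zero_of_blowup_pow I a R₁ e _ d hm'

theorem strictTransform_locally_free {R : Type u} [CommRing R] (M : Type u) [AddCommGroup M]
    [Module R M] [Module.Finite R M] (k : ℕ)
    (hfree : ∀ (p : Ideal R) [p.IsPrime], ¬ Fitt.ideal R M k ≤ p →
      Module.Free (Localization.AtPrime p) (LocalizedModule p.primeCompl M) ∧
        Module.finrank (Localization.AtPrime p) (LocalizedModule p.primeCompl M) = k)
    (a : R) (ha : a ∈ Fitt.ideal R M k) (R₁ : Type u) [CommRing R₁] [Algebra R R₁]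
    (e : R₁ ≃ₐ[R] ↥(BlowUp.affineAlgebra R (Fitt.ideal R M k) a)) :
    ∀ (p' : Ideal R₁) [p'.IsPrime], ∃ g : R₁, g ∉ p' ∧
      Module.Free (Localization.Away g) (LocalizedModule (Submonoid.powers g)
        ((R₁ ⊗[R] M) ⧸ FlatCA.powTorsion R₁ (algebraMap R R₁ a) (R₁ ⊗[R] M))) ∧
      Module.finrank (Localization.Away g) (LocalizedModule (Submonoid.powers g)
        ((R₁ ⊗[R] M) ⧸ FlatCA.powTorsion R₁ (algebraMap R R₁ a) (R₁ ⊗[R] M))) = k := by
  apply (locally_free_iff_fitt _ k).mpr
  constructor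
  · intro j hj
    apply fitt_strictTransform_eq_bot M _ a R₁ e j
    intro y hy
    apply exists_pow_mul_eq_zero
    intro p _ hap
    have hIp : ¬ Fitt.ideal R M k ≤ p := fun hle => hap (hle ha)
    obtain ⟨hfr, hrk⟩ := hfree p hIp
    have h1 : (Fitt.ideal R M j).map (algebraMap R (Localization.AtPrime p)) = ⊥ := by
      rw [← fitt_localizedModule]
      let b := Module.finBasis (Localization.AtPrime p) (LocalizedModule p.primeCompl M)
      rw [fitt_free b j, Fintype.card_fin, hrk, if_pos hj]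
    have h2 : algebraMap R (Localization.AtPrime p) y = 0 := by
      have : algebraMap R (Localization.AtPrime p) y ∈
          (Fitt.ideal R M j).map (algebraMap R (Localization.AtPrime p)) :=
        Ideal.mem_map_of_mem _ hy
      rwa [h1] at this
    obtain ⟨⟨s, hs⟩, hsy⟩ := (IsLocalization.map_eq_zero_iff p.primeCompl _ y).mp h2
    exact ⟨s, hs, hsy⟩
  · intro j hj
    rw [eq_top_iff, ← fitt_strictTransform_eq_top M k a ha R₁ e]
    exact fitt_mono_index hj

end Groth.Agent.Helper7.FittLib
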