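import Mathlib
import Groth.Agent.Helper7.Fitt13

set_option linter.style.haveILetI false
set_option linter.unusedSectionVars false

namespace Groth.Agent.Helper7.FittLib

open Matrix TensorProduct

universe u

lemma exists_finset_minors {R : Type u} [CommRing R] {ι : Type*} (Z : Set (ι → R)) (p : ℕ) (d : R)
    (hd : d ∈ minors Z p) : ∃ Z₀ : Finset (ι → R), (Z₀ : Set (ι → R)) ⊆ Z ∧
      d ∈ minors (Z₀ : Set (ι → R)) p := by
  classical
  unfold minors at hd
  induction hd using Submodule.span_induction with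
  | mem d hd =>
    obtain ⟨z, e, hz, rfl⟩ := hd
    refine ⟨Finset.univ.image z, ?_, ?_⟩
    · intro w hw
      simp only [Finset.coe_image, Finset.coe_univ, Set.image_univ, Set.mem_range] at hw
      obtain ⟨a, rfl⟩ := hw
      exact hz a
    · exact det_mem_minors z e (fun a => by simp)
  | zero => exact ⟨∅, by simp, Ideal.zero_mem _⟩
  | add d1 d2 _ _ h1 h2 =>
    obtain ⟨Z1, hZ1, h1⟩ := h1
    obtain ⟨Z2, hZ2, h2⟩ := h2
    refine ⟨Z1 ∪ Z2, ?_, ?_⟩
    · rw [Finset.coe_union]; exact Set.union_subset hZ1 hZ2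
    · refine Ideal.add_mem _ (minors_mono ?_ p h1) (minors_mono ?_ p h2)
      · rw [Finset.coe_union]; exact Set.subset_union_left
      · rw [Finset.coe_union]; exact Set.subset_union_right
  | smul c d _ h =>
    obtain ⟨Z1, hZ1, h1⟩ := h
    exact ⟨Z1, hZ1, Ideal.mul_mem_left _ _ h1⟩

/-- Fitting ideals of a quotient of `R^n`. -/
theorem fitt_pi_quotient {R : Type u} [CommRing R] {n : ℕ} (W : Set (Fin n → R)) (r : ℕ) :
    Fitt.ideal R ((Fin n → R) ⧸ Submodule.span R W) r = minors W (n - r) := by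
  have := fitt_quotient_basis (Pi.basisFun R (Fin n)) (Submodule.span R W) W rfl r
  rw [this, Fintype.card_fin]
  congr 1
  have : ⇑(Pi.basisFun R (Fin n)).equivFun = id := by
    ext v i; simp
  rw [this, Set.image_id]


theorem exists_blowup_ideal {R : Type u} [CommRing R] (M : Type u) [AddCommGroup M]
    [Module R M] [Module.Finite R M] (f : R) (r : ℕ)
    (hf : ∀ (p : Ideal R) [p.IsPrime], f ∉ p → ∃ g : R, g ∉ p ∧ g ∈ (Ideal.span {f}).radical ∧
      Module.Free (Localization.Away g) (LocalizedModule (Submonoid.powers g) M) ∧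
        Module.finrank (Localization.Away g) (LocalizedModule (Submonoid.powers g) M) = r) :
    ∃ I : Ideal R, I.FG ∧ I.radical = (Ideal.span {f}).radical ∧ ∀ a ∈ I, ∀ (R₁ : Type u)
      [CommRing R₁] [Algebra R R₁] (e : R₁ ≃ₐ[R] ↥(BlowUp.affineAlgebra R I a)),
      ∀ (p' : Ideal R₁) [p'.IsPrime], ∃ g : R₁, g ∉ p' ∧
        Module.Free (Localization.Away g) (LocalizedModule (Submonoid.powers g)
          ((R₁ ⊗[R] M) ⧸ FlatCA.powTorsion R₁ (algebraMap R R₁ a) (R₁ ⊗[R] M))) ∧
        Module.finrank (Localization.Away g) (LocalizedModule (Submonoid.powers g)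
          ((R₁ ⊗[R] M) ⧸ FlatCA.powTorsion R₁ (algebraMap R R₁ a) (R₁ ⊗[R] M))) = r := by
  classical
  obtain ⟨n, x, hx⟩ := Module.Finite.exists_fin (R := R) (M := M)
  -- Step 1: a power of `f` lies in `Fit_r(M)`
  have h1 : f ∈ (Fitt.ideal R M r).radical := by
    rw [Ideal.radical_eq_sInf, Ideal.mem_sInf]
    rintro p ⟨hle, hp⟩
    by_contra hfp
    obtain ⟨g, hg, -, hfree, hrank⟩ := hf p hfp
    have := localizationAway_nontrivial p g hg
    let b := Module.finBasisOfFinrankEq _ _ hrank
    exact (fitt_not_le_iff M r p).2.2.mpr ⟨g, hg, b, b.span_eq⟩ hle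
  obtain ⟨N, hN⟩ := h1
  rw [fitt_eq_minors_fin x hx (rel R x : Set (Fin n → R)) (Submodule.span_eq _) r] at hN
  obtain ⟨Z₀, hZ₀, hN₀⟩ := exists_finset_minors _ _ _ hN
  -- Step 2: the finitely presented approximation
  set K' : Submodule R (Fin n → R) := Submodule.span R (Z₀ : Set (Fin n → R)) with hK'def
  have hK' : K' ≤ rel R x := Submodule.span_le.mpr hZ₀
  have hFitM' : ∀ j, Fitt.ideal R ((Fin n → R) ⧸ K') j = minors (Z₀ : Set (Fin n → R)) (n - j) :=
    fun j => fitt_pi_quotient _ j
  have hfp : Module.FinitePresentation R ((Fin n → R) ⧸ K') :=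
    Module.finitePresentation_of_free_of_surjective K'.mkQ (Submodule.mkQ_surjective _)
      (by rw [Submodule.ker_mkQ]; exact ⟨Z₀, rfl⟩)
  let π : ((Fin n → R) ⧸ K') →ₗ[R] M := K'.liftQ (Fintype.linearCombination R x) hK'
  have hπ : Function.Surjective π := by
    intro m
    have hm : m ∈ Submodule.span R (Set.range x) := by rw [hx]; trivial
    obtain ⟨c, rfl⟩ := (Submodule.mem_span_range_iff_exists_fun R).mp hm
    refine ⟨K'.mkQ c, ?_⟩
    simp [π, Fintype.linearCombination_apply]
  have hfN : f ^ N ∈ Fitt.ideal R ((Fin n → R) ⧸ K') r := by rw [hFitM']; exact hN₀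
  refine ⟨Ideal.span {f} * Fitt.ideal R ((Fin n → R) ⧸ K') r, ?_, ?_, ?_⟩
  · exact Ideal.FG.mul ⟨{f}, by simp⟩ (fitt_fg r)
  · apply le_antisymm
    · exact Ideal.radical_mono Ideal.mul_le_left
    · rw [Ideal.radical_le_radical_iff, Ideal.span_le, Set.singleton_subset_iff]
      refine ⟨N + 1, ?_⟩
      rw [pow_succ']
      exact Ideal.mul_mem_mul (Ideal.mem_span_singleton_self f) hfN
  · intro a ha R₁ _ _ e
    obtain ⟨b, hb, rfl⟩ := Ideal.mem_span_singleton_mul.mp ha
    have hunit : IsUnit (algebraMap R (Localization.Away (f * b)) f) := by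
      have := IsLocalization.Away.algebraMap_isUnit (S := Localization.Away (f * b)) (f * b)
      rw [map_mul] at this
      exact isUnit_of_mul_isUnit_left this
    have hI := map_eq_span_of_blowup _ (f * b) ha R₁ e
    -- (4a)
    have hmap : (Fitt.ideal R ((Fin n → R) ⧸ K') r).map (algebraMap R R₁) =
        Ideal.span {algebraMap R R₁ b} := by
      apply le_antisymm
      · rw [Ideal.map_le_iff_le_comap]
        intro y hy
        rw [Ideal.mem_comap]
        have h2 : algebraMap R R₁ (f * y) ∈ Ideal.span {algebraMap R R₁ (f * b)} := by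
          rw [← hI]
          exact Ideal.mem_map_of_mem _ (Ideal.mul_mem_mul (Ideal.mem_span_singleton_self f) hy)
        obtain ⟨q, hq⟩ := Ideal.mem_span_singleton'.mp h2
        have h3 : algebraMap R R₁ f * (algebraMap R R₁ y - q * algebraMap R R₁ b) = 0 := by
          rw [mul_sub, ← map_mul, ← hq, map_mul]
          ring
        have h4 := eq_zero_of_blowup _ (f * b) R₁ e f hunit _ h3
        rw [sub_eq_zero] at h4
        rw [h4]
        exact Ideal.mul_mem_left _ _ (Ideal.mem_span_singleton_self _)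
      · rw [Ideal.span_le, Set.singleton_subset_iff]
        exact Ideal.mem_map_of_mem _ hb
    -- (4b)
    have htop' : Fitt.ideal R₁ ((R₁ ⊗[R] ((Fin n → R) ⧸ K')) ⧸
        FlatCA.powTorsion R₁ (algebraMap R R₁ (f * b)) (R₁ ⊗[R] ((Fin n → R) ⧸ K'))) r = ⊤ := by
      apply fitt_quot_eq_top_of_principal (R₁ ⊗[R] ((Fin n → R) ⧸ K')) r (algebraMap R R₁ b)
      · rw [fitt_baseChange, hmap]
      · intro m hm
        rw [LinearMap.mem_ker, LinearMap.smul_apply, LinearMap.id_apply] at hm
        rw [mem_powTorsion_iff]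
        refine ⟨1, ?_⟩
        rw [pow_one, map_mul, mul_smul, hm, smul_zero]
    -- (4c)
    let φ : (R₁ ⊗[R] ((Fin n → R) ⧸ K')) →ₗ[R₁] (R₁ ⊗[R] M) := π.baseChange R₁
    have hφ : Function.Surjective φ := by
      have : (φ : (R₁ ⊗[R] ((Fin n → R) ⧸ K')) → (R₁ ⊗[R] M)) = π.lTensor R₁ :=
        LinearMap.baseChange_eq_ltensor _
      rw [this]
      exact LinearMap.lTensor_surjective _ hπ
    have hle : FlatCA.powTorsion R₁ (algebraMap R R₁ (f * b)) (R₁ ⊗[R] ((Fin n → R) ⧸ K')) ≤
        (FlatCA.powTorsion R₁ (algebraMap R R₁ (f * b)) (R₁ ⊗[R] M)).comap φ := by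
      intro y hy
      rw [mem_powTorsion_iff] at hy
      obtain ⟨m, hm⟩ := hy
      rw [Submodule.mem_comap, mem_powTorsion_iff]
      exact ⟨m, by rw [← map_smul, hm, map_zero]⟩
    let ψ := Submodule.mapQ _ _ φ hle
    have hψ : Function.Surjective ψ := by
      intro z
      obtain ⟨y, rfl⟩ := Submodule.mkQ_surjective _ z
      obtain ⟨w, rfl⟩ := hφ y
      exact ⟨Submodule.Quotient.mk w, rfl⟩
    apply (locally_free_iff_fitt _ r).mpr
    constructor
    · intro j hj
      apply fitt_strictTransform_eq_bot M _ (f * b) R₁ e j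
      intro y hy
      apply exists_pow_mul_eq_zero
      intro p _ hap
      have hfp' : f ∉ p := fun h => hap (Ideal.mul_mem_right _ _ h)
      obtain ⟨g, hg, -, hfree, hrank⟩ := hf p hfp'
      have := localizationAway_nontrivial p g hg
      have h1 : (Fitt.ideal R M j).map (algebraMap R (Localization.Away g)) = ⊥ := by
        rw [← fitt_localizedModule]
        let bb := Module.finBasisOfFinrankEq _ _ hrank
        rw [fitt_free bb j, Fintype.card_fin, if_pos hj]
      have h2 : algebraMap R (Localization.Away g) y = 0 := by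
        have : algebraMap R (Localization.Away g) y ∈
            (Fitt.ideal R M j).map (algebraMap R (Localization.Away g)) :=
          Ideal.mem_map_of_mem _ hy
        rwa [h1] at this
      obtain ⟨⟨_, m, rfl⟩, hsy⟩ := (IsLocalization.map_eq_zero_iff (Submonoid.powers g) _ y).mp h2
      exact ⟨g ^ m, fun h => hg (Ideal.IsPrime.mem_of_pow_mem ‹_› m h), hsy⟩
    · intro j hj
      rw [eq_top_iff]
      refine le_trans ?_ (fitt_mono_index hj)
      rw [← htop']
      exact fitt_le_of_surjective ψ hψ r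

end Groth.Agent.Helper7.FittLib
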