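import Mathlib
import Groth.Agent.Helper7.Fitt14

set_option linter.style.haveILetI false
set_option linter.unusedSectionVars false

namespace Groth.Agent.Helper7.FittLib

open Matrix TensorProduct

universe u

section
variable {R : Type u} [CommRing R] {n : ℕ} (K : Submodule R (Fin n → R)) (f : R)
  (hf0 : f ∈ nonZeroDivisors R) (p : ℕ)
  (hFk : minors (K : Set (Fin n → R)) p = Ideal.span {f})
  (hp1 : minors (K : Set (Fin n → R)) (p + 1) = ⊥)

/-- the saturation `{c | f c ∈ K}` -/
def sat : Submodule R (Fin n → R) := K.comap (f • (LinearMap.id : (Fin n → R) →ₗ[R] (Fin n → R)))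

lemma mem_sat (c : Fin n → R) : c ∈ sat K f ↔ f • c ∈ K := Iff.rfl

lemma le_sat : K ≤ sat K f := fun c hc => K.smul_mem f hc

include hf0 in
lemma nzd_cancel {a b : R} (h : f * a = f * b) : a = b := by
  have : f * (a - b) = 0 := by rw [mul_sub, h, sub_self]
  have := (mem_nonZeroDivisors_iff.mp hf0).1 (a - b) this
  exact sub_eq_zero.mp this

include hf0 hp1 in
/-- (A) -/
lemma smul_eq_zero_of_vanish (z : Fin p → (Fin n → R)) (hz : ∀ a, z a ∈ K) (e : Fin p → Fin n)
    (s : R) (hd : (Matrix.of fun a b => z a (e b)).det = s * f) (v : Fin n → R)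
    (hv : v ∈ sat K f) (hve : ∀ b, v (e b) = 0) : s • v = 0 := by
  funext j
  let z' : Fin (p + 1) → (Fin n → R) := Fin.snoc (α := fun _ => Fin n → R) z (f • v)
  let e' : Fin (p + 1) → Fin n := Fin.snoc (α := fun _ => Fin n) e j
  have hz' : ∀ a, z' a ∈ (K : Set (Fin n → R)) := by
    intro a
    refine Fin.lastCases ?_ (fun a' => ?_) a
    · simp only [z', Fin.snoc_last]; exact hv
    · simp only [z', Fin.snoc_castSucc]; exact hz a'
  have h0 := det_mem_minors z' e' hz'
  rw [hp1, Ideal.mem_bot, det_succ_row _ (Fin.last p), Fin.sum_univ_castSucc] at h0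
  have h1 : ∀ b : Fin p, (Matrix.of fun a b => z' a (e' b)) (Fin.last p) (Fin.castSucc b) = 0 := by
    intro b
    simp [z', e', hve b]
  have h2 : (Matrix.of fun a b => z' a (e' b)) (Fin.last p) (Fin.last p) = f * v j := by
    simp [z', e']
  have h3 : (Matrix.of fun a b => z' a (e' b)).submatrix (Fin.last p).succAbove
      (Fin.last p).succAbove = Matrix.of fun a b => z a (e b) := by
    ext a b
    simp [z', e', Fin.succAbove_last]
  simp only [h1, mul_zero, zero_mul, Finset.sum_const_zero, zero_add, h2, h3, hd] at h0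
  have h4 : f * (f * (s * v j)) = f * (f * 0) := by
    rw [mul_zero, mul_zero, ← h0]
    have : ((-1 : R) ^ ((Fin.last p : ℕ) + (Fin.last p : ℕ))) = 1 := by
      rw [← two_mul, pow_mul]; simp
    rw [this]; ring
  have := nzd_cancel f hf0 (nzd_cancel f hf0 h4)
  simpa using this

include hf0 hFk in
/-- (B) the Cramer relations divided by `f` -/
lemma exists_cramer_div (z : Fin p → (Fin n → R)) (hz : ∀ a, z a ∈ K) (e : Fin p → Fin n)
    (s : R) (hd : (Matrix.of fun a b => z a (e b)).det = s * f) :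
    ∃ c : Fin p → (Fin n → R), (∀ b, c b ∈ sat K f) ∧
      ∀ b b', c b (e b') = if b' = b then s else 0 := by
  classical
  have hw : ∀ (b₀ : Fin p) (i : Fin n), ∃ c : R, cramerRel z e b₀ i = f * c := by
    intro b₀ i
    have := cramerRel_mem_minors (K : Set (Fin n → R)) z hz e b₀ i
    rw [hFk] at this
    obtain ⟨c, hc⟩ := Ideal.mem_span_singleton'.mp this
    exact ⟨c, by rw [← hc, mul_comm]⟩
  choose c hc using hw
  refine ⟨c, fun b => ?_, fun b b' => ?_⟩
  · rw [mem_sat]
    have : f • c b = cramerRel z e b := by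
      funext i; simp [hc]
    rw [this]
    -- cramerRel is a combination of the rows
    have h2 : cramerRel z e b = ∑ a, (Matrix.of fun a b => z a (e b)).adjugate b a • z a := by
      funext i
      rw [cramerRel_eq, Finset.sum_apply]
      simp
    rw [h2]
    exact K.sum_mem (fun a _ => K.smul_mem _ (hz a))
  · apply nzd_cancel f hf0
    rw [← hc]
    by_cases h : b' = b
    · subst h; rw [cramerRel_self, hd, if_pos rfl, mul_comm]
    · rw [cramerRel_other z e b b' h, if_neg h, mul_zero]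

include hf0 hFk hp1 in
/-- (C) -/
lemma sq_smul_eq (z : Fin p → (Fin n → R)) (hz : ∀ a, z a ∈ K) (e : Fin p → Fin n)
    (s : R) (hd : (Matrix.of fun a b => z a (e b)).det = s * f) :
    ∃ c : Fin p → (Fin n → R), (∀ b, c b ∈ sat K f) ∧
      ∀ u ∈ sat K f, s • (s • u - ∑ b, u (e b) • c b) = 0 := by
  obtain ⟨c, hc1, hc2⟩ := exists_cramer_div K f hf0 p hFk z hz e s hd
  refine ⟨c, hc1, fun u hu => ?_⟩
  apply smul_eq_zero_of_vanish K f hf0 p hp1 z hz e s hd
  · exact (sat K f).sub_mem ((sat K f).smul_mem _ hu)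
      ((sat K f).sum_mem (fun b _ => (sat K f).smul_mem _ (hc1 b)))
  · intro b'
    simp only [Pi.sub_apply, Pi.smul_apply, Finset.sum_apply, smul_eq_mul, hc2]
    simp [mul_comm]

include hf0 hFk in
/-- (E) the cofactors `s` generate the unit ideal -/
lemma span_cofactors_eq_top :
    Ideal.span {s : R | ∃ (z : Fin p → (Fin n → R)) (e : Fin p → Fin n),
      (∀ a, z a ∈ K) ∧ (Matrix.of fun a b => z a (e b)).det = s * f} = ⊤ := by
  set 𝔰 := Ideal.span {s : R | ∃ (z : Fin p → (Fin n → R)) (e : Fin p → Fin n),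
      (∀ a, z a ∈ K) ∧ (Matrix.of fun a b => z a (e b)).det = s * f} with h𝔰
  have h1 : minors (K : Set (Fin n → R)) p ≤ 𝔰 * Ideal.span {f} := by
    rw [minors_le_iff]
    intro z e hz
    have hmem : (Matrix.of fun a b => z a (e b)).det ∈ Ideal.span {f} := by
      rw [← hFk]; exact det_mem_minors z e hz
    obtain ⟨s, hs⟩ := Ideal.mem_span_singleton'.mp hmem
    exact Ideal.mem_mul_span_singleton.mpr ⟨s, Ideal.subset_span ⟨z, e, hz, hs.symm⟩, hs⟩
  have h2 : f ∈ 𝔰 * Ideal.span {f} := h1 (hFk ▸ Ideal.subset_span rfl)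
  obtain ⟨σ, hσ, hσf⟩ := Ideal.mem_mul_span_singleton.mp h2
  have : σ = 1 := by
    apply nzd_cancel f hf0
    rw [mul_one, mul_comm, hσf]
  rw [Ideal.eq_top_iff_one, ← this]
  exact hσ

include hf0 hFk hp1 in
/-- (D) `sat K f` is a direct summand of `R^n`: there is an endomorphism killing it which is the
identity modulo it. -/
theorem exists_projector : ∃ Ψ : (Fin n → R) →ₗ[R] (Fin n → R),
    (∀ u ∈ sat K f, Ψ u = 0) ∧ ∀ v, v - Ψ v ∈ sat K f := by
  let 𝒜 : Ideal R :=
    { carrier := {a | ∃ Ψ : (Fin n → R) →ₗ[R] (Fin n → R),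
        (∀ u ∈ sat K f, Ψ u = 0) ∧ ∀ v, a • v - Ψ v ∈ sat K f}
      add_mem' := by
        rintro a b ⟨Ψ₁, h1, h1'⟩ ⟨Ψ₂, h2, h2'⟩
        refine ⟨Ψ₁ + Ψ₂, fun u hu => by simp [h1 u hu, h2 u hu], fun v => ?_⟩
        have : (a + b) • v - (Ψ₁ + Ψ₂) v = (a • v - Ψ₁ v) + (b • v - Ψ₂ v) := by
          simp only [add_smul, LinearMap.add_apply]; abel
        rw [this]
        exact (sat K f).add_mem (h1' v) (h2' v)
      zero_mem' := ⟨0, fun u _ => rfl, fun v => by simp⟩
      smul_mem' := by
        rintro r a ⟨Ψ, h1, h1'⟩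
        refine ⟨r • Ψ, fun u hu => by simp [h1 u hu], fun v => ?_⟩
        have : (r • a) • v - (r • Ψ) v = r • (a • v - Ψ v) := by
          simp only [smul_eq_mul, mul_smul, LinearMap.smul_apply, smul_sub]
        rw [this]
        exact (sat K f).smul_mem _ (h1' v) }
  have hsq : ∀ s ∈ {s : R | ∃ (z : Fin p → (Fin n → R)) (e : Fin p → Fin n),
      (∀ a, z a ∈ K) ∧ (Matrix.of fun a b => z a (e b)).det = s * f}, s ^ 2 ∈ 𝒜 := by
    rintro s ⟨z, e, hz, hd⟩
    obtain ⟨c, hc1, hc2⟩ := sq_smul_eq K f hf0 p hFk hp1 z hz e s hd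
    let Ψ : (Fin n → R) →ₗ[R] (Fin n → R) :=
      s • (s • LinearMap.id - ∑ b, (LinearMap.proj (e b) : (Fin n → R) →ₗ[R] R).smulRight (c b))
    have hΨ : ∀ v, Ψ v = s • (s • v - ∑ b, v (e b) • c b) := by
      intro v
      simp [Ψ]
    refine ⟨Ψ, fun u hu => ?_, fun v => ?_⟩
    · rw [hΨ]; exact hc2 u hu
    · rw [hΨ]
      have : s ^ 2 • v - s • (s • v - ∑ b, v (e b) • c b) = s • ∑ b, v (e b) • c b := by
        rw [smul_sub, smul_smul, ← pow_two]; abel
      rw [this]
      exact (sat K f).smul_mem _ ((sat K f).sum_mem (fun b _ => (sat K f).smul_mem _ (hc1 b)))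
  have htop := Ideal.span_pow_eq_top _ (span_cofactors_eq_top K f hf0 p hFk) 2
  have h1 : (1 : R) ∈ 𝒜 := by
    have : Ideal.span ((fun x : R => x ^ 2) '' {s : R | ∃ (z : Fin p → (Fin n → R))
        (e : Fin p → Fin n), (∀ a, z a ∈ K) ∧ (Matrix.of fun a b => z a (e b)).det = s * f}) ≤ 𝒜 := by
      rw [Ideal.span_le]
      rintro _ ⟨s, hs, rfl⟩
      exact hsq s hs
    exact this (htop ▸ trivial)
  obtain ⟨Ψ, h1, h2⟩ := h1
  exact ⟨Ψ, h1, fun v => by simpa using h2 v⟩

include hf0 in
/-- division of a linear form with values in `(f)` by the nonzerodivisor `f` -/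
lemma exists_div_linear {N : Type*} [AddCommGroup N] [Module R N] {ι : Type*}
    (g : N →ₗ[R] (ι → R)) (hg : ∀ u i, g u i ∈ Ideal.span {f}) :
    ∃ g' : N →ₗ[R] (ι → R), ∀ u, f • g' u = g u := by
  have h : ∀ u i, ∃ c : R, f * c = g u i := by
    intro u i
    obtain ⟨c, hc⟩ := Ideal.mem_span_singleton'.mp (hg u i)
    exact ⟨c, by rw [mul_comm, hc]⟩
  choose c hc using h
  refine ⟨{ toFun := c
            map_add' := fun u v => by
              funext i
              apply nzd_cancel f hf0
              rw [hc, Pi.add_apply, mul_add, hc, hc, map_add, Pi.add_apply]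
            map_smul' := fun r u => by
              funext i
              apply nzd_cancel f hf0
              rw [hc, RingHom.id_apply, Pi.smul_apply, smul_eq_mul, mul_left_comm, hc, map_smul,
                Pi.smul_apply, smul_eq_mul] }, fun u => ?_⟩
  funext i
  simp [hc]

include hf0 hFk hp1 in
/-- (F) `K` is a direct summand of a finite free module. -/
theorem exists_split : ∃ (m : ℕ) (φ : K →ₗ[R] (Fin m → R)) (ψ : (Fin m → R) →ₗ[R] K),
    ψ ∘ₗ φ = LinearMap.id := by
  classical
  let 𝒜 : Ideal R :=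
    { carrier := {a | ∃ (m : ℕ) (φ : K →ₗ[R] (Fin m → R)) (ψ : (Fin m → R) →ₗ[R] K),
        ψ ∘ₗ φ = a • LinearMap.id}
      add_mem' := by
        rintro a b ⟨m₁, φ₁, ψ₁, h1⟩ ⟨m₂, φ₂, ψ₂, h2⟩
        let ε := (Fin.appendEquiv m₁ m₂ : (Fin m₁ → R) × (Fin m₂ → R) ≃ (Fin (m₁ + m₂) → R))
        let εl : ((Fin m₁ → R) × (Fin m₂ → R)) ≃ₗ[R] (Fin (m₁ + m₂) → R) :=
          { ε with
            map_add' := fun x y => by
              funext i
              refine Fin.addCases (fun i' => ?_) (fun i' => ?_) i <;> simp [ε, Fin.appendEquiv]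
            map_smul' := fun r x => by
              funext i
              refine Fin.addCases (fun i' => ?_) (fun i' => ?_) i <;> simp [ε, Fin.appendEquiv] }
        refine ⟨m₁ + m₂, εl.toLinearMap ∘ₗ (φ₁.prod φ₂),
          (ψ₁.coprod ψ₂) ∘ₗ εl.symm.toLinearMap, ?_⟩
        ext u : 1
        have e1 := LinearMap.congr_fun h1 u
        have e2 := LinearMap.congr_fun h2 u
        simp only [LinearMap.coe_comp, Function.comp_apply, LinearMap.smul_apply,
          LinearMap.id_coe, id_eq] at e1 e2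
        show (ψ₁.coprod ψ₂) (εl.symm (εl (φ₁ u, φ₂ u))) = (a + b) • u
        rw [LinearEquiv.symm_apply_apply, LinearMap.coprod_apply, e1, e2, add_smul]
      zero_mem' := ⟨0, 0, 0, by simp⟩
      smul_mem' := by
        rintro r a ⟨m, φ, ψ, h⟩
        refine ⟨m, r • φ, ψ, ?_⟩
        rw [LinearMap.comp_smul, h, smul_smul, smul_eq_mul] }
  have hsq : ∀ s ∈ {s : R | ∃ (z : Fin p → (Fin n → R)) (e : Fin p → Fin n),
      (∀ a, z a ∈ K) ∧ (Matrix.of fun a b => z a (e b)).det = s * f}, s ^ 2 ∈ 𝒜 := by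
    rintro s ⟨z, e, hz, hd⟩
    set B : Matrix (Fin p) (Fin p) R := Matrix.of fun a b => z a (e b) with hB
    let mm : K →ₗ[R] (Fin p → R) :=
      (Matrix.cramer Bᵀ) ∘ₗ (LinearMap.funLeft R R e) ∘ₗ K.subtype
    have hmm : ∀ (u : K) (a : Fin p), mm u a ∈ Ideal.span {f} := by
      intro u a
      have h1 : mm u a = (Matrix.of fun a' b => (Function.update z a u.1) a' (e b)).det := by
        simp only [mm, LinearMap.coe_comp, Function.comp_apply, Submodule.coe_subtype,
          cramer_transpose_apply]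
        congr 1
        ext a' b
        by_cases h : a' = a
        · subst h; simp [LinearMap.funLeft_apply]
        · simp [h, hB]
      rw [h1, ← hFk]
      refine det_mem_minors _ e (fun a' => ?_)
      by_cases h : a' = a
      · subst h; simp
      · simpa [h] using hz a'
    obtain ⟨γ, hγ⟩ := exists_div_linear f hf0 mm hmm
    let ψ : (Fin p → R) →ₗ[R] K :=
      Fintype.linearCombination R (fun a => (⟨z a, hz a⟩ : K))
    refine ⟨p, s • γ, ψ, ?_⟩
    ext u : 1
    apply Subtype.ext
    -- the vanishing argument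
    have hv : s • (s • u.1 - ∑ a, γ u a • z a) = 0 := by
      apply smul_eq_zero_of_vanish K f hf0 p hp1 z hz e s hd
      · apply le_sat
        exact K.sub_mem (K.smul_mem _ u.2) (K.sum_mem (fun a _ => K.smul_mem _ (hz a)))
      · intro b
        apply nzd_cancel f hf0
        rw [mul_zero]
        simp only [Pi.sub_apply, Pi.smul_apply, Finset.sum_apply, smul_eq_mul, mul_sub,
          Finset.mul_sum]
        have h2 : ∀ a, f * (γ u a * z a (e b)) = mm u a * B a b := by
          intro a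
          rw [← mul_assoc, ← hγ u]
          simp [hB]
        simp_rw [h2]
        have h3 : ∑ a, mm u a * B a b = (Bᵀ *ᵥ (Matrix.cramer Bᵀ (u.1 ∘ e))) b := by
          simp only [mulVec, dotProduct, transpose_apply, mm, LinearMap.coe_comp,
            Function.comp_apply, Submodule.coe_subtype]
          refine Finset.sum_congr rfl (fun a _ => ?_)
          rw [mul_comm]
          rfl
        rw [h3, mulVec_cramer, det_transpose, hd]
        simp only [Pi.smul_apply, Function.comp_apply, smul_eq_mul]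
        ring
    simp only [LinearMap.coe_comp, Function.comp_apply, LinearMap.smul_apply, LinearMap.id_coe,
      id_eq, ψ, Fintype.linearCombination_apply, Submodule.coe_sum, Submodule.coe_smul,
      Pi.smul_apply, smul_eq_mul]
    rw [smul_sub, smul_smul, ← pow_two, sub_eq_zero, Finset.smul_sum] at hv
    rw [hv]
    refine Finset.sum_congr rfl (fun a _ => ?_)
    rw [smul_smul]
  have htop := Ideal.span_pow_eq_top _ (span_cofactors_eq_top K f hf0 p hFk) 2
  have h1 : (1 : R) ∈ 𝒜 := by
    have : Ideal.span ((fun x : R => x ^ 2) '' {s : R | ∃ (z : Fin p → (Fin n → R))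
        (e : Fin p → Fin n), (∀ a, z a ∈ K) ∧ (Matrix.of fun a b => z a (e b)).det = s * f}) ≤ 𝒜 := by
      rw [Ideal.span_le]
      rintro _ ⟨s, hs, rfl⟩
      exact hsq s hs
    exact this (htop ▸ trivial)
  obtain ⟨m, φ, ψ, h⟩ := h1
  exact ⟨m, φ, ψ, by rw [h, one_smul]⟩

end

end Groth.Agent.Helper7.FittLib
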