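import Mathlib
import Groth.Agent.Helper7.Fitt15

set_option linter.style.haveILetI false
set_option linter.unusedSectionVars false
set_option linter.unusedVariables false

namespace Groth.Agent.Helper7.FittLib

open Matrix TensorProduct CategoryTheory

universe u

theorem fitt_principal_structure {R : Type u} [CommRing R] (M : Type u)
    [AddCommGroup M] [Module R M] [Module.FinitePresentation R M] (k : ℕ) (f : R)
    (hf0 : f ∈ nonZeroDivisors R)
    (hf : Fitt.ideal R M k = Ideal.span {f}) (hk : k = 0 ∨ Fitt.ideal R M (k - 1) = ⊥) :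
    HasProjectiveDimensionLT (ModuleCat.of R M) 2 ∧
    (∀ x : M, (∃ n : ℕ, f ^ n • x = 0) ↔ f • x = 0) ∧
    HasProjectiveDimensionLT (ModuleCat.of R ↥(LinearMap.ker (f • (LinearMap.id : M →ₗ[R] M)))) 2 ∧
    (∀ (p : Ideal R) [p.IsPrime], ∃ g : R, g ∉ p ∧
      Module.Free (Localization.Away g)
          (LocalizedModule (Submonoid.powers g) (M ⧸ LinearMap.ker (f • (LinearMap.id : M →ₗ[R] M)))) ∧
        Module.finrank (Localization.Away g)
          (LocalizedModule (Submonoid.powers g) (M ⧸ LinearMap.ker (f • (LinearMap.id : M →ₗ[R] M)))) = k) ∧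
    Nonempty (M ≃ₗ[R] (M ⧸ LinearMap.ker (f • (LinearMap.id : M →ₗ[R] M))) ×
      ↥(LinearMap.ker (f • (LinearMap.id : M →ₗ[R] M)))) := by
  classical
  have hfin : Module.Finite R M := inferInstance
  obtain ⟨n, x, hx⟩ := Module.Finite.exists_fin (R := R) (M := M)
  set M' := LinearMap.ker (f • (LinearMap.id : M →ₗ[R] M)) with hM'
  set K := rel R x with hK
  set p := n - k with hp
  have hFk : minors (K : Set (Fin n → R)) p = Ideal.span {f} := by
    rw [← hf, fitt_eq_minors_fin x hx (K : Set (Fin n → R)) (Submodule.span_eq _) k]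
  -- degenerate case: trivial ring
  have htriv : n < k → Subsingleton R := by
    intro hnk
    rcases hk with hk | hk
    · omega
    · rw [fitt_eq_minors_fin x hx (K : Set (Fin n → R)) (Submodule.span_eq _) (k - 1),
        Nat.sub_eq_zero_of_le (by omega), minors_zero] at hk
      have : (1 : R) ∈ (⊥ : Ideal R) := hk ▸ trivial
      rw [Ideal.mem_bot] at this
      exact subsingleton_of_zero_eq_one this.symm
  have hp1 : minors (K : Set (Fin n → R)) (p + 1) = ⊥ := by
    by_cases hnk : n < k
    · have := htriv hnk
      exact Subsingleton.elim _ _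
    rcases hk with hk | hk
    · apply minors_eq_bot_of_card_lt
      simp only [Fintype.card_fin]
      omega
    · rw [fitt_eq_minors_fin x hx (K : Set (Fin n → R)) (Submodule.span_eq _) (k - 1)] at hk
      by_cases hk0 : k = 0
      · apply minors_eq_bot_of_card_lt
        simp only [Fintype.card_fin]
        omega
      · have : n - (k - 1) = p + 1 := by omega
        rwa [this] at hk
  -- the basic maps
  let g : (Fin n → R) →ₗ[R] M := Fintype.linearCombination R x
  have hg : Function.Surjective g := by
    rw [← LinearMap.range_eq_top, Fintype.range_linearCombination, hx]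
  have hkerg : LinearMap.ker g = K := rfl
  let q : (Fin n → R) →ₗ[R] (M ⧸ M') := M'.mkQ ∘ₗ g
  have hq : Function.Surjective q := (Submodule.mkQ_surjective _).comp hg
  have hkerq : ∀ c, q c = 0 ↔ c ∈ sat K f := by
    intro c
    simp only [q, LinearMap.coe_comp, Function.comp_apply, Submodule.mkQ_apply,
      Submodule.Quotient.mk_eq_zero, hM', LinearMap.mem_ker, LinearMap.smul_apply,
      LinearMap.id_apply, mem_sat]
    rw [← map_smul]
    rfl
  -- the section of q
  obtain ⟨Ψ, hΨ1, hΨ2⟩ := exists_projector K f hf0 p hFk hp1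
  have hΨker : LinearMap.ker q ≤ LinearMap.ker Ψ := by
    intro c hc
    rw [LinearMap.mem_ker] at hc ⊢
    exact hΨ1 c ((hkerq c).mp hc)
  let σ : (M ⧸ M') →ₗ[R] (Fin n → R) :=
    ((LinearMap.ker q).liftQ Ψ hΨker) ∘ₗ (q.quotKerEquivOfSurjective hq).symm.toLinearMap
  have hσ : ∀ v, σ (q v) = Ψ v := by
    intro v
    simp only [σ, LinearMap.coe_comp, LinearEquiv.coe_coe, Function.comp_apply]
    have : (q.quotKerEquivOfSurjective hq).symm (q v) = Submodule.Quotient.mk v := by
      rw [LinearEquiv.symm_apply_eq]
      rfl
    rw [this]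
    rfl
  have hqσ : q ∘ₗ σ = LinearMap.id := by
    apply LinearMap.ext
    intro y
    obtain ⟨v, rfl⟩ := hq y
    simp only [LinearMap.coe_comp, Function.comp_apply, LinearMap.id_coe, id_eq, hσ]
    have h1 : q (v - Ψ v) = 0 := (hkerq _).mpr (hΨ2 v)
    rw [map_sub, sub_eq_zero] at h1
    exact h1.symm
  have hprojM'' : Module.Projective R (M ⧸ M') := Module.Projective.of_split σ q hqσ
  -- (5)
  let τ : (M ⧸ M') →ₗ[R] M := g ∘ₗ σ
  have hτ : M'.mkQ ∘ₗ τ = LinearMap.id := by
    rw [← hqσ]; rfl
  have hexact : Function.Exact M'.subtype M'.mkQ := by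
    intro y
    simp
  obtain ⟨e, he1, he2⟩ := hexact.splitSurjectiveEquiv (Submodule.injective_subtype _) ⟨τ, hτ⟩
  have h5 : Nonempty (M ≃ₗ[R] (M ⧸ M') × ↥M') := ⟨e.trans (LinearEquiv.prodComm R _ _)⟩
  -- (2)
  have h2 : ∀ y : M, (∃ m : ℕ, f ^ m • y = 0) ↔ f • y = 0 := by
    intro y
    constructor
    · rintro ⟨m, hm⟩
      have h1 : f ^ m • σ (M'.mkQ y) = 0 := by
        rw [← map_smul, ← map_smul, hm, map_zero, map_zero]
      have h3 : σ (M'.mkQ y) = 0 := by
        funext i
        have := congrFun h1 i
        simp only [Pi.smul_apply, smul_eq_mul, Pi.zero_apply] at this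
        exact (mem_nonZeroDivisors_iff.mp (pow_mem hf0 m)).1 _ this
      have h4 : M'.mkQ y = 0 := by
        have := LinearMap.congr_fun hqσ (M'.mkQ y)
        simp only [LinearMap.coe_comp, Function.comp_apply, LinearMap.id_coe, id_eq] at this
        rw [← this, h3, map_zero]
      rw [Submodule.mkQ_apply, Submodule.Quotient.mk_eq_zero, hM', LinearMap.mem_ker] at h4
      exact h4
    · intro h
      exact ⟨1, by rwa [pow_one]⟩
  -- (1)
  obtain ⟨m, φ, ψ, hφψ⟩ := exists_split K f hf0 p hFk hp1
  have hprojK : Module.Projective R K := Module.Projective.of_split φ ψ hφψ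
  have hexK : Function.Exact K.subtype g := by
    intro y
    rw [← hkerg]
    simp
  have hS := ModuleCat.shortComplex_shortExact
    (ModuleCat.shortComplexOfCompEqZero K.subtype g hexK.linearMap_comp_eq_zero) hexK
    (Submodule.injective_subtype _) hg
  have h1 : HasProjectiveDimensionLT (ModuleCat.of R M) 2 := by
    have hP1 : Projective (ModuleCat.of R K) := (IsProjective.iff_projective K).mp hprojK
    have hP2 : Projective (ModuleCat.of R (Fin n → R)) :=
      (IsProjective.iff_projective (Fin n → R)).mp inferInstance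
    exact hS.hasProjectiveDimensionLT_X₃ 1 (by
      show HasProjectiveDimensionLT (ModuleCat.of R K) 1
      infer_instance) (by
      show HasProjectiveDimensionLT (ModuleCat.of R (Fin n → R)) 2
      infer_instance)
  -- (3): M' is a retract of M
  have h3 : HasProjectiveDimensionLT (ModuleCat.of R ↥M') 2 := by
    let r : Retract (ModuleCat.of R ↥M') (ModuleCat.of R M) :=
      { i := ModuleCat.ofHom M'.subtype
        r := ModuleCat.ofHom ((LinearMap.fst R _ _) ∘ₗ e.toLinearMap)
        retract := by
          ext y
          have := LinearMap.congr_fun he1 y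
          simp only [LinearMap.coe_comp, LinearEquiv.coe_coe, Function.comp_apply,
            LinearMap.inl_apply] at this
          simp only [ModuleCat.hom_comp, ModuleCat.hom_ofHom, LinearMap.coe_comp,
            LinearEquiv.coe_coe, Function.comp_apply, LinearMap.fst_apply, ModuleCat.hom_id,
            LinearMap.id_coe, id_eq]
          rw [this, e.apply_symm_apply] }
    exact r.hasProjectiveDimensionLT 2
  -- (4)
  have h4 : ∀ (p' : Ideal R) [p'.IsPrime], ∃ g' : R, g' ∉ p' ∧
      Module.Free (Localization.Away g') (LocalizedModule (Submonoid.powers g') (M ⧸ M')) ∧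
        Module.finrank (Localization.Away g')
          (LocalizedModule (Submonoid.powers g') (M ⧸ M')) = k := by
    apply (locally_free_iff_fitt (M ⧸ M') k).mpr
    constructor
    · intro j hj
      by_cases hnk : n < k
      · have := htriv hnk
        exact Subsingleton.elim _ _
      have hy : Submodule.span R (Set.range fun i => M'.mkQ (x i)) = ⊤ :=
        span_range_mkQ_comp M' x hx
      rw [fitt_eq_minors_fin (fun i => M'.mkQ (x i)) hy
        (rel R (fun i => M'.mkQ (x i)) : Set (Fin n → R)) (Submodule.span_eq _) j, eq_bot_iff,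
        minors_le_iff]
      intro z e' hz
      rw [Ideal.mem_bot]
      have hzsat : ∀ a, f • z a ∈ K := by
        intro a
        have h1 := (mem_rel _ _).mp (hz a)
        have h2 : q (z a) = 0 := by
          simp only [q, LinearMap.coe_comp, Function.comp_apply, g,
            Fintype.linearCombination_apply, map_sum, map_smul]
          exact h1
        exact (hkerq _).mp h2
      have hdet : f ^ (n - j) * (Matrix.of fun a b => z a (e' b)).det = 0 := by
        have h1 := det_mem_minors (Z := (K : Set (Fin n → R))) (fun a => f • z a) e' hzsat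
        have h2 : (Matrix.of fun a b => (fun a => f • z a) a (e' b)) =
            f • (Matrix.of fun a b => z a (e' b)) := by
          ext a b; simp
        rw [h2, det_smul, Fintype.card_fin] at h1
        have h3 : minors (K : Set (Fin n → R)) (n - j) ≤ minors (K : Set (Fin n → R)) (p + 1) :=
          minors_anti _ (by omega)
        have := h3 h1
        rwa [hp1, Ideal.mem_bot] at this
      exact (mem_nonZeroDivisors_iff.mp (pow_mem hf0 (n - j))).1 _ hdet
    · intro j hj
      rw [eq_top_iff, ← fitt_quot_eq_top_of_principal M k f hf M' le_rfl]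
      exact fitt_mono_index hj
  exact ⟨h1, h2, h3, h4, h5⟩

end Groth.Agent.Helper7.FittLib
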