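import Mathlib
import Groth.Agent.Helper7.FittEt2

set_option linter.style.haveILetI false
set_option linter.unusedSectionVars false

namespace Groth.Agent.Helper7.FittLib

open TensorProduct

universe u

/-- A finitely generated ideal of a localization is the extension of a finitely generated ideal. -/
theorem exists_fg_map_eq_of_isLocalization {R S : Type*} [CommRing R] [CommRing S] [Algebra R S]
    (M : Submonoid R) [IsLocalization M S] (I : Ideal S) (hI : I.FG) :
    ∃ I₀ : Ideal R, I₀.FG ∧ I₀.map (algebraMap R S) = I := by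
  refine Submodule.fg_induction
    (motive := fun (I : Ideal S) _ => ∃ I₀ : Ideal R, I₀.FG ∧ I₀.map (algebraMap R S) = I)
    ?_ ?_ I hI
  · intro x
    obtain ⟨c, s, rfl⟩ := IsLocalization.exists_mk'_eq M x
    refine ⟨Ideal.span {c}, ⟨{c}, by simp⟩, ?_⟩
    rw [Ideal.map_span, Set.image_singleton]
    apply le_antisymm
    · rw [Ideal.span_le, Set.singleton_subset_iff, SetLike.mem_coe]
      have : algebraMap R S c = algebraMap R S s * IsLocalization.mk' S c s := by
        rw [mul_comm, IsLocalization.mk'_spec]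
      rw [this]
      exact Ideal.mul_mem_left _ _ (Ideal.subset_span rfl)
    · change Ideal.span _ ≤ _
      rw [Ideal.span_le, Set.singleton_subset_iff, SetLike.mem_coe]
      obtain ⟨u, hu⟩ := IsLocalization.map_units S s
      have : IsLocalization.mk' S c s = ↑u⁻¹ * algebraMap R S c := by
        rw [Units.eq_inv_mul_iff_mul_eq, hu, mul_comm, IsLocalization.mk'_spec]
      rw [this]
      exact Ideal.mul_mem_left _ _ (Ideal.subset_span rfl)
  · rintro I₁ I₂ - - ⟨J₁, h1, rfl⟩ ⟨J₂, h2, rfl⟩
    exact ⟨J₁ ⊔ J₂, Submodule.FG.sup h1 h2, Ideal.map_sup _ _ _⟩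

theorem etale_fitt_local {A B : Type u} [CommRing A] [CommRing B] [Algebra A B] [Algebra.Etale A B]
    (a : A) (J : Ideal B) (hJ : J.FG) (hJa : algebraMap A B a ∈ J.radical)
    (q : Ideal B) [q.IsPrime] :
    ∃ (I : Ideal A) (g : B) (J' : Ideal (Localization.Away g)), I.FG ∧ a ∈ I.radical ∧ g ∉ q ∧
      J'.FG ∧ I.map (algebraMap A (Localization.Away g)) =
        J.map (algebraMap B (Localization.Away g)) * J' := by
  haveI : Algebra.FinitePresentation A B := inferInstance
  obtain ⟨g, hgq, hstd⟩ := Algebra.IsEtaleAt.exists_isStandardEtale (R := A) q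
  obtain ⟨P⟩ := hstd.nonempty_standardEtalePresentation
  let Q : StandardEtalePair A := P.P
  let C := AdjoinRoot Q.f
  let h : C := AdjoinRoot.mk Q.f Q.g
  let ε₀ : Localization.Away g ≃ₐ[A] Localization.Away h :=
    P.equivRing.trans Q.equivAwayAdjoinRoot
  let φ : C →ₐ[A] Localization.Away g :=
    ε₀.symm.toAlgHom.comp (IsScalarTower.toAlgHom A C (Localization.Away h))
  letI : Algebra C (Localization.Away g) := φ.toRingHom.toAlgebra
  haveI : IsScalarTower A C (Localization.Away g) :=
    IsScalarTower.of_algebraMap_eq' φ.comp_algebraMap.symm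
  let εC : Localization.Away h ≃ₐ[C] Localization.Away g :=
    AlgEquiv.ofRingEquiv (f := ε₀.symm.toRingEquiv) (fun c => rfl)
  haveI : IsLocalization.Away h (Localization.Away g) :=
    IsLocalization.isLocalization_of_algEquiv (Submonoid.powers h) εC
  haveI : Module.Finite A C := Q.monic_f.finite_adjoinRoot
  haveI : Module.Free A C := Q.monic_f.free_adjoinRoot
  have hC : Module.FinitePresentation A C := Module.finitePresentation_of_projective A C
  obtain ⟨J₀, hJ₀, hJ₀map⟩ := exists_fg_map_eq_of_isLocalization (Submonoid.powers h)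
    (J.map (algebraMap B (Localization.Away g))) (hJ.map _)
  obtain ⟨m, hm⟩ := hJa
  set J₁ : Ideal C := J₀ ⊔ Ideal.span {algebraMap A C (a ^ m)} with hJ₁
  have hJ₁fg : J₁.FG := Submodule.FG.sup hJ₀ ⟨{algebraMap A C (a ^ m)}, by simp⟩
  have hJ₁map : J₁.map (algebraMap C (Localization.Away g)) =
      J.map (algebraMap B (Localization.Away g)) := by
    rw [hJ₁, Ideal.map_sup, hJ₀map, Ideal.map_span, Set.image_singleton, sup_eq_left,
      Ideal.span_le, Set.singleton_subset_iff, SetLike.mem_coe,
      ← IsScalarTower.algebraMap_apply, IsScalarTower.algebraMap_apply A B, map_pow]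
    exact Ideal.mem_map_of_mem _ hm
  obtain ⟨J', h1, h2⟩ := fitt_zero_etale_quot' (A := A) h (Localization.Away g) J₁
  haveI := finitePresentation_quot (R := A) J₁ hJ₁fg
  refine ⟨Fitt.ideal A (C ⧸ J₁) 0, g, J', fitt_fg 0, ?_, hgq, h2 hJ₁fg hC, ?_⟩
  · have h3 : a ^ m ∈ Module.annihilator A (C ⧸ J₁) := by
      rw [Module.mem_annihilator]
      intro x
      obtain ⟨c, rfl⟩ := Ideal.Quotient.mk_surjective x
      have e : a ^ m • Ideal.Quotient.mk J₁ c =
          Ideal.Quotient.mk J₁ (algebraMap A C (a ^ m) * c) := by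
        rw [Algebra.smul_def, map_mul]; rfl
      rw [e, Ideal.Quotient.eq_zero_iff_mem]
      exact Ideal.mul_mem_right _ _ (Ideal.mem_sup_right (Ideal.subset_span rfl))
    haveI : Module.Finite A (C ⧸ J₁) := inferInstance
    have h4 := annihilator_le_radical_fitt_zero h3
    exact Ideal.radical_idem (Fitt.ideal A (C ⧸ J₁) 0) ▸ ⟨m, h4⟩
  · rw [h1, hJ₁map]

end Groth.Agent.Helper7.FittLib
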