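import Mathlib
import Groth.Agent.Helper7.Fitt4

set_option linter.style.haveILetI false
set_option linter.unusedSectionVars false

namespace Groth.Agent.Helper7.FittLib

open Matrix TensorProduct KaehlerDifferential

universe u v

section
variable (A : Type u) [CommRing A] {σ : Type*} [Fintype σ] {κ : Type*}
  (f : κ → MvPolynomial σ A)

local notation "P" => MvPolynomial σ A
local notation "I" => Ideal.span (Set.range f)
local notation "B" => MvPolynomial σ A ⧸ Ideal.span (Set.range f)

/-- the basis `1 ⊗ dX_j` of `B ⊗_P Ω_{P/A}`. -/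
noncomputable def jacBasis : Module.Basis σ B (B ⊗[P] Ω[P⁄A]) :=
  (KaehlerDifferential.mvPolynomialBasis A σ).baseChange B

lemma jacBasis_repr_one_tmul_D (g : P) (j : σ) :
    (jacBasis A f).equivFun ((1 : B) ⊗ₜ[P] D A P g) j = Ideal.Quotient.mk I (MvPolynomial.pderiv j g) := by
  rw [Module.Basis.equivFun_apply, jacBasis, Module.Basis.baseChange_repr_tmul,
    KaehlerDifferential.mvPolynomialBasis_repr_apply, Algebra.smul_def, mul_one]
  rfl

lemma one_tmul_D_mem (g : P) (hg : g ∈ I) :
    (1 : B) ⊗ₜ[P] D A P g ∈ Submodule.span B (Set.range fun i => (1 : B) ⊗ₜ[P] D A P (f i)) := by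
  induction hg using Submodule.span_induction with
  | mem g hg =>
    obtain ⟨i, rfl⟩ := hg
    exact Submodule.subset_span ⟨i, rfl⟩
  | zero => simp
  | add g1 g2 _ _ h1 h2 =>
    rw [map_add, tmul_add]
    exact Submodule.add_mem _ h1 h2
  | smul h g hg ih =>
    rw [smul_eq_mul, Derivation.leibniz, tmul_add]
    refine Submodule.add_mem _ ?_ ?_
    · have : (1 : B) ⊗ₜ[P] (h • D A P g) = (Ideal.Quotient.mk I h) • ((1 : B) ⊗ₜ[P] D A P g) := by
        rw [TensorProduct.tmul_smul]
        exact (algebraMap_smul B h _).symm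
      rw [this]
      exact Submodule.smul_mem _ _ ih
    · have : (1 : B) ⊗ₜ[P] (g • D A P h) = 0 := by
        have h0 : algebraMap P B g = 0 := Ideal.Quotient.eq_zero_iff_mem.mpr hg
        have h1 : g • ((1 : B) ⊗ₜ[P] D A P h) = algebraMap P B g • ((1 : B) ⊗ₜ[P] D A P h) :=
          (algebraMap_smul B g _).symm
        rw [TensorProduct.tmul_smul, h1, h0]
        exact zero_smul B ((1 : B) ⊗ₜ[P] D A P h)
      rw [this]
      exact Submodule.zero_mem _

/-- The Fitting ideals of `Ω_{B/A}` for `B = A[x_σ]/(f_κ)` are the ideals of minors of the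
Jacobian matrix. -/
theorem fitt_kaehler_quotient (r : ℕ) :
    Fitt.ideal B Ω[B⁄A] r =
      minors (Set.range fun i : κ => fun j : σ => Ideal.Quotient.mk I (MvPolynomial.pderiv j (f i)))
        (Fintype.card σ - r) := by
  have hsurj : Function.Surjective (algebraMap P B) := Ideal.Quotient.mk_surjective
  have hW : Submodule.span B (Set.range fun i => (1 : B) ⊗ₜ[P] D A P (f i)) =
      LinearMap.ker (KaehlerDifferential.mapBaseChange A P B) := by
    apply le_antisymm
    · rw [Submodule.span_le]
      rintro _ ⟨i, rfl⟩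
      rw [SetLike.mem_coe, LinearMap.mem_ker, KaehlerDifferential.mapBaseChange_tmul,
        KaehlerDifferential.map_D]
      have : algebraMap P B (f i) = 0 :=
        Ideal.Quotient.eq_zero_iff_mem.mpr (Ideal.subset_span ⟨i, rfl⟩)
      rw [this, map_zero, smul_zero]
    · intro t ht
      obtain ⟨y, rfl⟩ := (KaehlerDifferential.exact_kerCotangentToTensor_mapBaseChange A P B hsurj t).mp ht
      obtain ⟨⟨g, hg⟩, rfl⟩ := Ideal.toCotangent_surjective _ y
      rw [KaehlerDifferential.kerCotangentToTensor_toCotangent]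
      apply one_tmul_D_mem
      have : RingHom.ker (algebraMap P B) = I := Ideal.mk_ker
      rwa [this] at hg
  rw [fitt_of_surjective_basis (jacBasis A f) (KaehlerDifferential.mapBaseChange A P B)
    (KaehlerDifferential.mapBaseChange_surjective A P B hsurj) _ hW r]
  congr 1
  rw [← Set.range_comp]
  congr 1
  funext i j
  exact jacBasis_repr_one_tmul_D A f (f i) j

end

/-- The Kähler different of `A[x_1..x_n]/(f_1..f_n)` is generated by the Jacobian determinant. -/
theorem fitt_kaehler_jacobian (A : Type u) [CommRing A] (n : ℕ)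
    (f : Fin n → MvPolynomial (Fin n) A) :
    Fitt.ideal (MvPolynomial (Fin n) A ⧸ Ideal.span (Set.range f))
      (KaehlerDifferential A (MvPolynomial (Fin n) A ⧸ Ideal.span (Set.range f))) 0 =
    Ideal.span {Ideal.Quotient.mk (Ideal.span (Set.range f))
      (Matrix.det (Matrix.of fun i j : Fin n => MvPolynomial.pderiv j (f i)))} := by
  rw [fitt_kaehler_quotient A f 0, Fintype.card_fin, Nat.sub_zero]
  have := minors_square ((Ideal.Quotient.mk (Ideal.span (Set.range f))).mapMatrix
    (Matrix.of fun i j : Fin n => MvPolynomial.pderiv j (f i)))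
  rw [← RingHom.map_det] at this
  rw [← this]
  congr 1

end Groth.Agent.Helper7.FittLib
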