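import Mathlib
import Groth.Prelude.Def_W4c2azumayainvolQEt

namespace Groth.Agent.Helper7.FixBC
open TensorProduct

universe u v w
variable {S : Type u} {R : Type v} {S' : Type w} [CommRing S] [CommRing R] [Algebra S R]
  [CommRing S'] [Algebra S S'] (lam : R ≃ₐ[S] R)

lemma congr_eq_lTensor (z : S' ⊗[S] R) :
    (Algebra.TensorProduct.congr (AlgEquiv.refl : S' ≃ₐ[S] S') lam) z
      = (lam.toLinearMap.lTensor S') z := by
  induction z using TensorProduct.induction_on with
  | zero => simp
  | tmul x y => simp
  | add x y hx hy => rw [map_add, map_add, hx, hy]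

lemma lTensor_alg (z : S' ⊗[S] S) :
    ((Algebra.linearMap S R).lTensor S') z
      = algebraMap S' (S' ⊗[S] R) (TensorProduct.rid S S' z) := by
  induction z using TensorProduct.induction_on with
  | zero => simp
  | tmul x y =>
    simp only [LinearMap.lTensor_tmul, Algebra.linearMap_apply, TensorProduct.rid_tmul,
      Algebra.TensorProduct.algebraMap_apply, Algebra.algebraMap_self, RingHom.id_apply]
    rw [Algebra.algebraMap_eq_smul_one, TensorProduct.tmul_smul, TensorProduct.smul_tmul']
  | add x y hx hy => rw [map_add, map_add, map_add, hx, hy]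

theorem result (hlam : Function.Involutive lam) (hS : RInv.IsFixedRing S R lam.toRingEquiv)
    (h : Module.Flat S S' ∨ IsUnit (2 : S)) :
    RInv.IsFixedRing S' (S' ⊗[S] R)
      (Algebra.TensorProduct.congr (AlgEquiv.refl : S' ≃ₐ[S] S') lam).toRingEquiv := by
  have hfixS : ∀ r : R, lam r = r ↔ r ∈ Set.range (algebraMap S R) := hS.2
  have key : Function.Injective ((Algebra.linearMap S R).lTensor S') ∧
      ∀ z : S' ⊗[S] R, (lam.toLinearMap.lTensor S') z = z →
        z ∈ Set.range ((Algebra.linearMap S R).lTensor S') := by
    rcases h with hflat | h2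
    · haveI := hflat
      constructor
      · exact Module.Flat.lTensor_preserves_injective_linearMap (M := S')
          (Algebra.linearMap S R) hS.1
      · intro z hz
        have hex : Function.Exact (Algebra.linearMap S R)
            (lam.toLinearMap - (LinearMap.id : R →ₗ[S] R)) := by
          intro x
          rw [LinearMap.sub_apply, LinearMap.id_apply, sub_eq_zero]
          exact hfixS x
        have := Module.Flat.lTensor_exact S' hex
        apply (this z).mp
        rw [LinearMap.lTensor_sub, LinearMap.lTensor_id, LinearMap.sub_apply, hz]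
        simp
    · obtain ⟨u2, hu2⟩ := h2
      set u : S := ((u2⁻¹ : Sˣ) : S) with hu
      have hu2' : u * 2 = 1 := by rw [hu, ← hu2]; exact Units.inv_mul u2
      set P : R →ₗ[S] R := u • (LinearMap.id + lam.toLinearMap) with hP
      have hPr : ∀ r, P r ∈ LinearMap.range (Algebra.linearMap S R) := by
        intro r
        have h1 : lam (r + lam r) = r + lam r := by
          rw [map_add, hlam r, add_comm]
        obtain ⟨s, hs⟩ := (hfixS _).mp h1
        refine ⟨u * s, ?_⟩
        rw [hP]
        simp only [Algebra.linearMap_apply, map_mul, LinearMap.smul_apply, LinearMap.add_apply,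
          LinearMap.id_apply, AlgEquiv.toLinearMap_apply, hs]
        rw [Algebra.smul_def]
      let e : S ≃ₗ[S] LinearMap.range (Algebra.linearMap S R) :=
        LinearEquiv.ofInjective (Algebra.linearMap S R) hS.1
      let π : R →ₗ[S] S := e.symm.toLinearMap ∘ₗ (P.codRestrict _ hPr)
      have hπ1 : (Algebra.linearMap S R) ∘ₗ π = P := by
        ext r
        show Algebra.linearMap S R (e.symm (P.codRestrict _ hPr r)) = P r
        have := LinearEquiv.ofInjective_apply (Algebra.linearMap S R) (h := hS.1)
          (e.symm (P.codRestrict _ hPr r))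
        have h2 : (e (e.symm (P.codRestrict _ hPr r)) : R) = P r := by
          rw [LinearEquiv.apply_symm_apply]; rfl
        rw [← h2]
        exact this.symm
      have hπ2 : π ∘ₗ (Algebra.linearMap S R) = LinearMap.id := by
        refine LinearMap.ext fun s => hS.1 ?_
        have := LinearMap.congr_fun hπ1 (algebraMap S R s)
        simp only [LinearMap.comp_apply, Algebra.linearMap_apply] at this
        simp only [LinearMap.comp_apply, LinearMap.id_apply, Algebra.linearMap_apply]
        rw [this, hP]
        simp only [LinearMap.smul_apply, LinearMap.add_apply, LinearMap.id_apply,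
          AlgEquiv.toLinearMap_apply, AlgEquiv.commutes]
        rw [← two_mul, Algebra.smul_def, ← mul_assoc, ← map_ofNat (algebraMap S R) 2, ← map_mul,
          hu2', map_one, one_mul]
      constructor
      · have hl : Function.LeftInverse (π.lTensor S') ((Algebra.linearMap S R).lTensor S') := by
          intro z
          rw [← LinearMap.comp_apply, ← LinearMap.lTensor_comp, hπ2, LinearMap.lTensor_id,
            LinearMap.id_apply]
        exact hl.injective
      · intro z hz
        refine ⟨π.lTensor S' z, ?_⟩
        rw [← LinearMap.comp_apply, ← LinearMap.lTensor_comp, hπ1, hP, LinearMap.lTensor_smul,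
          LinearMap.lTensor_add, LinearMap.lTensor_id, LinearMap.smul_apply, LinearMap.add_apply,
          LinearMap.id_apply, hz, ← two_smul S z, smul_smul, hu2', one_smul]
  obtain ⟨hinj, hfix⟩ := key
  constructor
  · intro a b hab
    have h1 : ((Algebra.linearMap S R).lTensor S') ((TensorProduct.rid S S').symm a)
        = ((Algebra.linearMap S R).lTensor S') ((TensorProduct.rid S S').symm b) := by
      rw [lTensor_alg, lTensor_alg, LinearEquiv.apply_symm_apply, LinearEquiv.apply_symm_apply, hab]
    exact (TensorProduct.rid S S').symm.injective (hinj h1)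
  · intro z
    constructor
    · intro hz
      have hz' : (lam.toLinearMap.lTensor S') z = z := by
        rw [← congr_eq_lTensor]; exact hz
      obtain ⟨y, hy⟩ := hfix z hz'
      exact ⟨TensorProduct.rid S S' y, by rw [← lTensor_alg, hy]⟩
    · rintro ⟨s, rfl⟩
      show (Algebra.TensorProduct.congr (AlgEquiv.refl : S' ≃ₐ[S] S') lam)
        (algebraMap S' (S' ⊗[S] R) s) = _
      rw [Algebra.TensorProduct.algebraMap_apply]
      simp

end Groth.Agent.Helper7.FixBC
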