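import Mathlib
import Groth.Agent.Lead.RegLocal

set_option linter.style.haveILetI false
set_option linter.unusedSectionVars false

/-! Quotient of a regular local ring by an ideal `J` with `J ∩ 𝔪² ⊆ 𝔪 J` is regular. -/

namespace Groth.Agent.Helper7.RegQuot

open IsLocalRing

universe u

theorem regular_quotient : ∀ (d : ℕ) (A : Type u) [CommRing A] [IsRegularLocalRing A],
    (maximalIdeal A).spanFinrank = d → ∀ J : Ideal A, J ≤ maximalIdeal A →
      J ⊓ maximalIdeal A ^ 2 ≤ maximalIdeal A * J → IsRegularLocalRing (A ⧸ J) := by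
  intro d
  induction d with
  | zero =>
    intro A _ _ hd J hJ _
    have hm : maximalIdeal A = ⊥ := by
      have hfg : (maximalIdeal A).FG := (maximalIdeal A).fg_of_isNoetherianRing
      have := Submodule.FG.generators_ncard hfg
      rw [hd, Set.ncard_eq_zero (hs := Submodule.FG.finite_generators hfg)] at this
      have h2 := (maximalIdeal A).span_generators
      rw [this, Submodule.span_empty] at h2
      exact h2.symm
    have hJ0 : J = ⊥ := le_bot_iff.mp (hm ▸ hJ)
    subst hJ0
    exact IsRegularLocalRing.of_ringEquiv (RingEquiv.quotientBot A).symm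
  | succ d ih =>
    intro A _ _ hd J hJ hJ2
    by_cases hJ0 : J = ⊥
    · subst hJ0
      exact IsRegularLocalRing.of_ringEquiv (RingEquiv.quotientBot A).symm
    -- an element of J outside m²
    have hex : ∃ b ∈ J, b ∉ maximalIdeal A ^ 2 := by
      by_contra hcon
      push Not at hcon
      have h1 : J ≤ maximalIdeal A ^ 2 := fun b hb => hcon b hb
      have h2 : J ≤ maximalIdeal A • J := by
        rw [smul_eq_mul]
        exact (le_inf le_rfl h1).trans hJ2
      apply hJ0
      exact Submodule.eq_bot_of_le_smul_of_le_jacobson_bot (maximalIdeal A) J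
        J.fg_of_isNoetherianRing h2
        (by rw [IsLocalRing.jacobson_eq_maximalIdeal ⊥ bot_ne_top])
    obtain ⟨b, hbJ, hb2⟩ := hex
    have hbm : b ∈ maximalIdeal A := hJ hbJ
    obtain ⟨hreg, -, hloc, hfin⟩ := Groth.Agent.Lead.RegLocal.quotient_isRegularLocalRing hbm hb2
    have hbtop : Ideal.span {b} ≠ ⊤ := by
      intro h
      have : Ideal.span {b} ≤ maximalIdeal A := (Ideal.span_singleton_le_iff_mem _).mpr hbm
      rw [h] at this
      exact (maximalIdeal.isMaximal A).ne_top (top_le_iff.mp this)
    obtain ⟨hloc', hmax⟩ := Groth.Agent.Lead.RegLocal.quotient_local hbtop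
    let mk := Ideal.Quotient.mk (Ideal.span {b})
    have hmk : Function.Surjective mk := Ideal.Quotient.mk_surjective
    have hbJ' : Ideal.span {b} ≤ J := (Ideal.span_singleton_le_iff_mem _).mpr hbJ
    haveI := hreg
    have hd' : (maximalIdeal (A ⧸ Ideal.span {b})).spanFinrank = d := by
      have : (maximalIdeal (A ⧸ Ideal.span {b})).spanFinrank + 1 = d + 1 := by
        rw [← hd]; convert hfin
      omega
    have hmax' : (maximalIdeal A).map mk = maximalIdeal (A ⧸ Ideal.span {b}) := by
      convert hmax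
    have hJ' : J.map mk ≤ maximalIdeal (A ⧸ Ideal.span {b}) := by
      rw [← hmax']; exact Ideal.map_mono hJ
    have hJ2' : J.map mk ⊓ maximalIdeal (A ⧸ Ideal.span {b}) ^ 2 ≤
        maximalIdeal (A ⧸ Ideal.span {b}) * J.map mk := by
      rw [← hmax', ← Ideal.map_pow, ← Ideal.map_mul]
      rintro y ⟨hy1, hy2⟩
      rw [SetLike.mem_coe, Ideal.mem_map_iff_of_surjective mk hmk] at hy1 hy2
      obtain ⟨y1, hy1J, rfl⟩ := hy1
      obtain ⟨z, hz, hzy⟩ := hy2
      have h1 : mk (y1 - z) = 0 := by rw [map_sub, hzy, sub_self]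
      rw [Ideal.Quotient.eq_zero_iff_mem] at h1
      have hzJ : z ∈ J := by
        have : z = y1 - (y1 - z) := by ring
        rw [this]
        exact J.sub_mem hy1J (hbJ' h1)
      have hzmem : z ∈ maximalIdeal A * J := hJ2 ⟨hzJ, hz⟩
      rw [← hzy]
      exact Ideal.mem_map_of_mem mk hzmem
    have key := ih (A ⧸ Ideal.span {b}) hd' (J.map mk) hJ' hJ2'
    exact IsRegularLocalRing.of_ringEquiv (DoubleQuot.quotQuotEquivQuotOfLE hbJ')

end Groth.Agent.Helper7.RegQuot
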