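import Mathlib
import Groth.Agent.Helper7.RegQuot

set_option linter.style.haveILetI false
set_option linter.unusedSectionVars false

/-! Fixed locus of a finite group of invertible order acting on a regular local ring. -/

namespace Groth.Agent.Helper7.FixLoc

open IsLocalRing

universe u

section
variable (k : Type u) [Field k] (A : Type u) [CommRing A] [Algebra k A] [IsLocalRing A]
  (G : Type u) [Group G] [Fintype G] [MulSemiringAction G A] [SMulCommClass G k A]

/-- The ideal of the fixed locus. -/
def J : Ideal A := Ideal.span {x : A | ∃ (g : G) (a : A), x = g • a - a}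

/-- Reynolds operator. -/
noncomputable def ρ : A →ₗ[k] A :=
  ((Fintype.card G : k)⁻¹) • ∑ g : G, DistribSMul.toLinearMap k A g

variable {k A G}

/-- `G`-stable ideals. -/
def Stable (I : Ideal A) : Prop := ∀ (g : G) (x : A), x ∈ I → g • x ∈ I

omit [IsLocalRing A] [Fintype G] in
theorem stable_mul {I K : Ideal A} (hI : Stable (G := G) I) (hK : Stable (G := G) K) :
    Stable (G := G) (I * K) := by
  intro g x hx
  induction hx using Submodule.mul_induction_on' with
  | mem_mul_mem m hm n hn =>
    rw [smul_mul']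
    exact Ideal.mul_mem_mul (hI g m hm) (hK g n hn)
  | add x _ y _ hx hy =>
    rw [smul_add]
    exact Ideal.add_mem _ hx hy

omit [Fintype G] in
theorem stable_max : Stable (G := G) (maximalIdeal A) := by
  intro g x hx
  rw [mem_maximalIdeal, mem_nonunits_iff] at hx ⊢
  intro hu
  apply hx
  have := hu.map (MulSemiringAction.toRingHom G A g⁻¹)
  simpa using this

omit [IsLocalRing A] [Fintype G] in
theorem stable_J : Stable (G := G) (J A G) := by
  intro g x hx
  unfold J at hx ⊢
  induction hx using Submodule.span_induction with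
  | mem x hx =>
    obtain ⟨h, a, rfl⟩ := hx
    apply Ideal.subset_span
    refine ⟨g * h * g⁻¹, g • a, ?_⟩
    rw [smul_sub, mul_smul, mul_smul, inv_smul_smul]
  | zero => rw [smul_zero]; exact Ideal.zero_mem _
  | add x y _ _ hx hy => rw [smul_add]; exact Ideal.add_mem _ hx hy
  | smul r x _ hx =>
    rw [smul_eq_mul, smul_mul']
    exact Ideal.mul_mem_left _ _ hx

theorem ρ_apply (a : A) : ρ k A G a = ((Fintype.card G : k)⁻¹) • ∑ g : G, g • a := by
  simp only [ρ, LinearMap.smul_apply, LinearMap.sum_apply, DistribSMul.toLinearMap_apply]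

theorem ρ_mem {I : Ideal A} (hI : Stable (G := G) I) {x : A} (hx : x ∈ I) : ρ k A G x ∈ I := by
  rw [ρ_apply, Algebra.smul_def]
  apply Ideal.mul_mem_left
  exact Ideal.sum_mem _ fun g _ => hI g x hx

theorem smul_ρ (g : G) (a : A) : g • ρ k A G a = ρ k A G a := by
  rw [ρ_apply, smul_comm, Finset.smul_sum]
  congr 1
  simp_rw [← mul_smul]
  exact Fintype.sum_equiv (Equiv.mulLeft g) _ _ (fun h => rfl)

variable (hG : (Fintype.card G : k) ≠ 0)
include hG

theorem ρ_of_inv {a : A} (ha : ∀ g : G, g • a = a) : ρ k A G a = a := by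
  rw [ρ_apply]
  simp_rw [ha]
  rw [Finset.sum_const, Finset.card_univ, ← Nat.cast_smul_eq_nsmul k, smul_smul,
    inv_mul_cancel₀ hG, one_smul]

omit hG in
theorem ρ_inv_mul {a : A} (ha : ∀ g : G, g • a = a) (y : A) :
    ρ k A G (a * y) = a * ρ k A G y := by
  rw [ρ_apply, ρ_apply]
  simp_rw [smul_mul', ha]
  rw [← Finset.mul_sum, mul_smul_comm]

theorem sub_ρ_mem (a : A) : a - ρ k A G a ∈ J A G := by
  have h1 : a - ρ k A G a = ((Fintype.card G : k)⁻¹) • ∑ g : G, (a - g • a) := by
    rw [Finset.sum_sub_distrib, smul_sub, ← ρ_apply, Finset.sum_const, Finset.card_univ,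
      ← Nat.cast_smul_eq_nsmul k, smul_smul, inv_mul_cancel₀ hG, one_smul]
  rw [h1, Algebra.smul_def]
  apply Ideal.mul_mem_left
  refine Ideal.sum_mem _ fun g _ => ?_
  have : a - g • a = -(g • a - a) := by ring
  rw [this]
  exact Ideal.neg_mem_iff _ |>.mpr (Ideal.subset_span ⟨g, a, rfl⟩)

omit hG in
theorem ρ_gen (g : G) (a : A) : ρ k A G (g • a - a) = 0 := by
  rw [ρ_apply]
  simp_rw [smul_sub, ← mul_smul]
  rw [Finset.sum_sub_distrib]
  have : ∑ h : G, (h * g) • a = ∑ h : G, h • a :=
    Fintype.sum_equiv (Equiv.mulRight g) _ _ (fun h => rfl)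
  rw [this, sub_self, smul_zero]

variable (hJ : J A G ≤ maximalIdeal A)
include hJ

theorem ρ_J {x : A} (hx : x ∈ J A G) : ρ k A G x ∈ maximalIdeal A * J A G := by
  have hst : Stable (G := G) (maximalIdeal A * J A G) := stable_mul stable_max stable_J
  unfold J at hx
  induction hx using Submodule.span_induction with
  | mem x hx =>
    obtain ⟨g, a, rfl⟩ := hx
    rw [ρ_gen]
    exact Ideal.zero_mem _
  | zero => rw [map_zero]; exact Ideal.zero_mem _
  | add x y _ _ hx hy => rw [map_add]; exact Ideal.add_mem _ hx hy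
  | smul r x hxJ hx =>
    have hxJ' : x ∈ J A G := hxJ
    have h1 : r • x = ρ k A G r * x + (r - ρ k A G r) * x := by
      rw [smul_eq_mul]; ring
    rw [h1, map_add, ρ_inv_mul (fun g => smul_ρ g r)]
    refine Ideal.add_mem _ (Ideal.mul_mem_left _ _ hx) ?_
    apply ρ_mem hst
    exact Ideal.mul_mem_mul (hJ (sub_ρ_mem hG r)) hxJ'

theorem sub_ρ_sq {x : A} (hx : x ∈ maximalIdeal A ^ 2) :
    x - ρ k A G x ∈ maximalIdeal A * J A G := by
  have hst : Stable (G := G) (maximalIdeal A * J A G) := stable_mul stable_max stable_J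
  rw [pow_two] at hx
  induction hx using Submodule.mul_induction_on' with
  | mem_mul_mem m hm n hn =>
    have he : m * n - ρ k A G m * ρ k A G n ∈ maximalIdeal A * J A G := by
      have : m * n - ρ k A G m * ρ k A G n =
          m * (n - ρ k A G n) + ρ k A G n * (m - ρ k A G m) := by ring
      rw [this]
      exact Ideal.add_mem _ (Ideal.mul_mem_mul hm (sub_ρ_mem hG n))
        (Ideal.mul_mem_mul (ρ_mem stable_max hn) (sub_ρ_mem hG m))
    have h2 : ρ k A G (ρ k A G m * ρ k A G n) = ρ k A G m * ρ k A G n := by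
      rw [ρ_inv_mul (fun g => smul_ρ g m), ρ_of_inv hG (fun g => smul_ρ g n)]
    have h3 : m * n - ρ k A G (m * n) =
        (m * n - ρ k A G m * ρ k A G n) - ρ k A G (m * n - ρ k A G m * ρ k A G n) := by
      rw [map_sub, h2]; ring
    rw [h3]
    exact Ideal.sub_mem _ he (ρ_mem hst he)
  | add x _ y _ hx hy =>
    have : x + y - ρ k A G (x + y) = (x - ρ k A G x) + (y - ρ k A G y) := by
      rw [map_add]; ring
    rw [this]
    exact Ideal.add_mem _ hx hy

theorem inf_le : J A G ⊓ maximalIdeal A ^ 2 ≤ maximalIdeal A * J A G := by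
  rintro x ⟨hx1, hx2⟩
  have : x = ρ k A G x + (x - ρ k A G x) := by ring
  rw [this]
  exact Ideal.add_mem _ (ρ_J hG hJ hx1) (sub_ρ_sq hG hJ hx2)

end

theorem J_le (k : Type u) [Field k] (A : Type u) [CommRing A] [Algebra k A] [IsLocalRing A]
    (hres : Function.Surjective (algebraMap k (IsLocalRing.ResidueField A)))
    (G : Type u) [Group G] [MulSemiringAction G A] [SMulCommClass G k A] :
    Ideal.span {x : A | ∃ (g : G) (a : A), x = g • a - a} ≤ maximalIdeal A := by
  rw [Ideal.span_le]
  rintro x ⟨g, a, rfl⟩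
  obtain ⟨c, hc⟩ := hres (residue A a)
  have h1 : a - algebraMap k A c ∈ maximalIdeal A := by
    rw [← Ideal.Quotient.eq_zero_iff_mem]
    change residue A (a - algebraMap k A c) = 0
    rw [map_sub, ← hc, sub_eq_zero]
    rfl
  have h2 : g • algebraMap k A c = algebraMap k A c := by
    rw [Algebra.algebraMap_eq_smul_one, smul_comm, smul_one]
  have h3 : g • a - a = g • (a - algebraMap k A c) - (a - algebraMap k A c) := by
    rw [smul_sub, h2]; ring
  rw [SetLike.mem_coe, h3]
  exact Ideal.sub_mem _ (stable_max g _ h1) h1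

theorem s19445 (k : Type u) [Field k] (A : Type u) [CommRing A]
    [Algebra k A] [IsRegularLocalRing A]
    (hres : Function.Surjective (algebraMap k (IsLocalRing.ResidueField A)))
    (G : Type u) [Group G] [Finite G] [MulSemiringAction G A] [SMulCommClass G k A]
    (hG : (Nat.card G : k) ≠ 0) :
    IsRegularLocalRing (A ⧸ Ideal.span {x : A | ∃ (g : G) (a : A), x = g • a - a}) := by
  haveI : Fintype G := Fintype.ofFinite G
  rw [Nat.card_eq_fintype_card] at hG
  have hJ := J_le k A hres G
  exact Groth.Agent.Helper7.RegQuot.regular_quotient _ A rfl _ hJ (inf_le hG hJ)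

end Groth.Agent.Helper7.FixLoc
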