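import Mathlib
import Groth.Prelude.Def_W4bk4grossh1223Act

set_option autoImplicit false
set_option linter.unusedSectionVars false
universe u

namespace Groth.Agent.Helper7.FixNormal

open CategoryTheory MonObj AlgebraicGeometry
open scoped TensorProduct

variable {k : Type u} [Field k]
variable {G H : Over (Spec (CommRingCat.of k))} [GrpObj G] [GrpObj H]
variable {A : Type u} [CommRing A] [Algebra k A] (ρ : VecGrp.GMod G A) (hρ : ρ.IsMult)

/-- multiplication by `1 ⊗ b` on `B ⊗ A` is injective for `b` a non-zero-divisor -/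
lemma mul_one_tmul_injective (B : Type u) [CommRing B] [Algebra k B] {b : A}
    (hb : b ∈ nonZeroDivisors A) :
    Function.Injective (fun z : B ⊗[k] A => z * ((1 : B) ⊗ₜ[k] b)) := by
  have hinj : Function.Injective (LinearMap.lTensor B (LinearMap.mulRight k b)) :=
    Module.Flat.lTensor_preserves_injective_linearMap _
      (fun x y hxy => by
        have := (mem_nonZeroDivisors_iff_right.1 hb) (x - y) (by
          simp only [LinearMap.mulRight_apply] at hxy
          rw [sub_mul, hxy, sub_self])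
        exact sub_eq_zero.1 this)
  have h2 : ∀ z : B ⊗[k] A, LinearMap.lTensor B (LinearMap.mulRight k b) z =
      z * ((1 : B) ⊗ₜ[k] b) := by
    intro z
    induction z using TensorProduct.induction_on with
    | zero => simp
    | tmul r a => simp
    | add x y hx hy => simp only [map_add, hx, hy, add_mul]
  intro x y hxy
  apply hinj
  rw [h2, h2]
  exact hxy

/-- if `y * b = a` with `a`, `b` invariant and `b` a non-zero-divisor, then `y` is invariant -/
theorem mem_of_mul_mem (i : H ⟶ G) {y a b : A} (hb : b ∈ nonZeroDivisors A)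
    (ha' : a ∈ ρ.fixedSubalgebra hρ i) (hb' : b ∈ ρ.fixedSubalgebra hρ i) (h : y * b = a) :
    y ∈ ρ.fixedSubalgebra hρ i := by
  intro B _ _ g
  apply mul_one_tmul_injective B hb
  change ρ.ρ B (g ≫ i) ((1 : B) ⊗ₜ[k] y) * ((1 : B) ⊗ₜ[k] b) =
    ((1 : B) ⊗ₜ[k] y) * ((1 : B) ⊗ₜ[k] b)
  have e1 : ρ.ρ B (g ≫ i) ((1 : B) ⊗ₜ[k] b) = (1 : B) ⊗ₜ[k] b := hb' B g
  have e2 : ρ.ρ B (g ≫ i) ((1 : B) ⊗ₜ[k] a) = (1 : B) ⊗ₜ[k] a := ha' B g
  have e3 : ((1 : B) ⊗ₜ[k] y : B ⊗[k] A) * ((1 : B) ⊗ₜ[k] b) = (1 : B) ⊗ₜ[k] a := by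
    rw [Algebra.TensorProduct.tmul_mul_tmul, _root_.one_mul, h]
  conv_lhs => rw [← e1]
  rw [← (hρ B (g ≫ i)).1, e3, e2]

variable [IsDomain A] [IsIntegrallyClosed A]

theorem isIntegrallyClosed_fixedSubalgebra (i : H ⟶ G) :
    IsIntegrallyClosed ↥(ρ.fixedSubalgebra hρ i) := by
  set S₀ := ρ.fixedSubalgebra hρ i with hS₀
  let K := FractionRing S₀
  let L := FractionRing A
  rw [isIntegrallyClosed_iff K]
  intro x hx
  -- the map of fraction fields
  have hinj : Function.Injective ((algebraMap A L).comp S₀.val.toRingHom) :=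
    (IsFractionRing.injective A L).comp Subtype.val_injective
  let j : K →+* L := IsFractionRing.lift (A := S₀) (K := K) hinj
  have hj : ∀ s : S₀, j (algebraMap S₀ K s) = algebraMap A L (s : A) := fun s => by
    simp [j]
  -- `j x` is integral over `A`
  have hint : IsIntegral A (j x) := by
    obtain ⟨p, hp, hpx⟩ := hx
    refine ⟨p.map S₀.val.toRingHom, hp.map _, ?_⟩
    rw [Polynomial.eval₂_map]
    have : (algebraMap A L).comp S₀.val.toRingHom = j.comp (algebraMap S₀ K) := by
      ext s; exact (hj s).symm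
    rw [this, ← Polynomial.hom_eval₂, hpx, map_zero]
  obtain ⟨y, hy⟩ := IsIntegrallyClosed.algebraMap_eq_of_integral hint
  -- write `x = a / b`
  obtain ⟨a, b, hb0, hxab⟩ := IsFractionRing.div_surjective (A := S₀) x
  have hbne : (b : A) ≠ 0 := by
    intro h0
    have : b = 0 := Subtype.ext h0
    simp [this] at hb0
  have hbK : algebraMap S₀ K b ≠ 0 := by
    intro h0
    exact (nonZeroDivisors.ne_zero hb0) ((IsFractionRing.injective S₀ K) (by simpa using h0))
  have hxb : x * algebraMap S₀ K b = algebraMap S₀ K a := by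
    rw [← hxab, div_mul_cancel₀ _ hbK]
  have hyb : y * (b : A) = (a : A) := by
    apply IsFractionRing.injective A L
    rw [map_mul, hy, ← hj b, ← hj a, ← map_mul, hxb]
  have hyS : y ∈ S₀ := mem_of_mul_mem ρ hρ i (mem_nonZeroDivisors_of_ne_zero hbne) a.2 b.2 hyb
  refine ⟨⟨y, hyS⟩, ?_⟩
  apply j.injective
  rw [hj]
  exact hy

end Groth.Agent.Helper7.FixNormal
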