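import Mathlib

open CategoryTheory TopologicalSpace Opposite TopCat

universe u

namespace Groth.Agent.Helper7.Flasque

variable {X : TopCat.{u}}

/-- restriction map of a presheaf of groups -/
noncomputable abbrev res (P : TopCat.Presheaf GrpCat.{u} X) {U V : Opens X} (h : V ≤ U) :
    P.obj (op U) →* P.obj (op V) := (P.map (homOfLE h).op).hom

theorem res_res (P : TopCat.Presheaf GrpCat.{u} X) {U V W : Opens X} (h1 : V ≤ U) (h2 : W ≤ V)
    (s : P.obj (op U)) : res P h2 (res P h1 s) = res P (h2.trans h1) s := by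
  have : (homOfLE (h2.trans h1)).op = (homOfLE h1).op ≫ (homOfLE h2).op := rfl
  simp only [res]
  rw [this, P.map_comp]
  rfl

theorem res_self (P : TopCat.Presheaf GrpCat.{u} X) {U : Opens X} (h : U ≤ U)
    (s : P.obj (op U)) : res P h s = s := by
  have : (homOfLE h).op = 𝟙 (op U) := rfl
  simp only [res]
  rw [this, P.map_id]
  rfl

theorem nat_res {P Q : TopCat.Presheaf GrpCat.{u} X} (β : P ⟶ Q) {U V : Opens X} (h : V ≤ U)
    (s : P.obj (op U)) :
    (β.app (op V)).hom (res P h s) = res Q h ((β.app (op U)).hom s) := by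
  have := β.naturality (homOfLE h).op
  have h2 := congrArg (fun f => f.hom s) this
  simpa using h2

theorem glue (P : TopCat.Presheaf GrpCat.{u} X) (hP : P.IsSheaf) {ι : Type u}
    (U : ι → Opens X) (V : Opens X) (hUV : ∀ i, U i ≤ V) (hcover : V ≤ iSup U)
    (sf : ∀ i, P.obj (op (U i)))
    (hc : ∀ i j, res P (inf_le_left : U i ⊓ U j ≤ U i) (sf i)
      = res P (inf_le_right : U i ⊓ U j ≤ U j) (sf j)) :
    ∃ s : P.obj (op V), ∀ i, res P (hUV i) s = sf i := by
  obtain ⟨s, hs, -⟩ := TopCat.Sheaf.existsUnique_gluing' (⟨P, hP⟩ : TopCat.Sheaf GrpCat.{u} X) U V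
    (fun i => homOfLE (hUV i)) hcover sf (fun i j => hc i j)
  exact ⟨s, hs⟩

theorem locally_eq (P : TopCat.Presheaf GrpCat.{u} X) (hP : P.IsSheaf) {ι : Type u}
    (U : ι → Opens X) (V : Opens X) (hUV : ∀ i, U i ≤ V) (hcover : V ≤ iSup U)
    (s t : P.obj (op V)) (h : ∀ i, res P (hUV i) s = res P (hUV i) t) : s = t :=
  TopCat.Sheaf.eq_of_locally_eq' (⟨P, hP⟩ : TopCat.Sheaf GrpCat.{u} X) U V
    (fun i => homOfLE (hUV i)) hcover s t h

theorem glue₂ (P : TopCat.Presheaf GrpCat.{u} X) (hP : P.IsSheaf) (V W : Opens X)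
    (g : P.obj (op V)) (g' : P.obj (op W))
    (hc : res P (inf_le_left : V ⊓ W ≤ V) g = res P (inf_le_right : V ⊓ W ≤ W) g') :
    ∃ s : P.obj (op (V ⊔ W)), res P (le_sup_left : V ≤ V ⊔ W) s = g ∧
      res P (le_sup_right : W ≤ V ⊔ W) s = g' := by
  let U : ULift.{u} Bool → Opens X := fun b => cond b.down V W
  have hUV : ∀ b, U b ≤ V ⊔ W := by
    rintro ⟨⟨⟩⟩
    · exact le_sup_right
    · exact le_sup_left
  have hcover : V ⊔ W ≤ iSup U := by
    rw [sup_le_iff]
    exact ⟨le_iSup U ⟨true⟩, le_iSup U ⟨false⟩⟩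
  let sf : ∀ b, P.obj (op (U b)) := fun b => match b with
    | ⟨true⟩ => g
    | ⟨false⟩ => g'
  obtain ⟨s, hs⟩ := glue P hP U (V ⊔ W) hUV hcover sf (by
    rintro ⟨⟨⟩⟩ ⟨⟨⟩⟩
    · rfl
    · show res P (inf_le_left : W ⊓ V ≤ W) g' = res P (inf_le_right : W ⊓ V ≤ V) g
      have e1 : res P (inf_le_left : W ⊓ V ≤ W) g'
          = res P (inf_comm W V).le (res P (inf_le_right : V ⊓ W ≤ W) g') := by
        rw [res_res]
      have e2 : res P (inf_le_right : W ⊓ V ≤ V) g
          = res P (inf_comm W V).le (res P (inf_le_left : V ⊓ W ≤ V) g) := by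
        rw [res_res]
      rw [e1, e2, hc]
    · exact hc
    · rfl)
  exact ⟨s, hs ⟨true⟩, hs ⟨false⟩⟩


section main

variable (F G H : TopCat.Presheaf GrpCat.{u} X) (hG : G.IsSheaf) (hH : H.IsSheaf)
    (α : F ⟶ G) (β : G ⟶ H)
    (hex : ∀ (U : Opens X) (g : G.obj (op U)),
      (β.app (op U)).hom g = 1 ↔ g ∈ Set.range (α.app (op U)).hom)
    (hβ : ∀ (U : Opens X) (s : H.obj (op U)) (x : X), x ∈ U →
      ∃ (V : Opens X) (hV : V ≤ U), x ∈ V ∧ ∃ g : G.obj (op V), (β.app (op V)).hom g = (H.map (homOfLE hV).op).hom s)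
    (hfl : ∀ (U V : Opens X) (hUV : V ≤ U), Function.Surjective (F.map (homOfLE hUV).op).hom)

/-- partial lifts of a section `s` of `H` over `U`. -/
structure PL (U : Opens X) (s : H.obj (op U)) where
  V : Opens X
  hV : V ≤ U
  g : G.obj (op V)
  hg : (β.app (op V)).hom g = res H hV s

variable {G H β}

/-- the extension order on partial lifts -/
def PL.le {U : Opens X} {s : H.obj (op U)} (a b : PL G H β U s) : Prop :=
  ∃ h : a.V ≤ b.V, res G h b.g = a.g

theorem PL.le_trans {U : Opens X} {s : H.obj (op U)} {a b c : PL G H β U s}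
    (hab : a.le b) (hbc : b.le c) : a.le c := by
  obtain ⟨h1, e1⟩ := hab
  obtain ⟨h2, e2⟩ := hbc
  refine ⟨h1.trans h2, ?_⟩
  rw [← res_res G h2 h1, e2, e1]

include hG hH in
theorem PL.chain_bounded {U : Opens X} {s : H.obj (op U)} (c : Set (PL G H β U s))
    (hc : IsChain PL.le c) : ∃ ub : PL G H β U s, ∀ a ∈ c, a.le ub := by
  classical
  let Uf : c → Opens X := fun i => i.1.V
  let sf : ∀ i : c, G.obj (op (Uf i)) := fun i => i.1.g
  have hUfU : ∀ i, Uf i ≤ U := fun i => i.1.hV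
  have hVs : iSup Uf ≤ U := iSup_le hUfU
  have hcompat : ∀ i j : c, res G (inf_le_left : Uf i ⊓ Uf j ≤ Uf i) (sf i)
      = res G (inf_le_right : Uf i ⊓ Uf j ≤ Uf j) (sf j) := by
    intro i j
    by_cases hij : i = j
    · subst hij
      rfl
    · have hne : i.1 ≠ j.1 := fun h => hij (Subtype.ext h)
      rcases hc i.2 j.2 hne with ⟨h, e⟩ | ⟨h, e⟩
      · show res G _ i.1.g = res G _ j.1.g
        rw [← e, res_res]
      · show res G _ i.1.g = res G _ j.1.g
        rw [← e, res_res]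
  obtain ⟨gs, hgs⟩ := glue G hG Uf (iSup Uf) (fun i => le_iSup Uf i) le_rfl sf hcompat
  refine ⟨⟨iSup Uf, hVs, gs, ?_⟩, ?_⟩
  · apply locally_eq H hH Uf (iSup Uf) (fun i => le_iSup Uf i) le_rfl
    intro i
    rw [← nat_res, hgs i, res_res]
    exact i.1.hg
  · intro a ha
    exact ⟨le_iSup Uf ⟨a, ha⟩, hgs ⟨a, ha⟩⟩

include hG hH hex hβ hfl in
theorem surj (U : Opens X) (s : H.obj (op U)) : ∃ g : G.obj (op U), (β.app (op U)).hom g = s := by
  obtain ⟨m, hm⟩ := exists_maximal_of_chains_bounded (r := PL.le (G := G) (H := H) (β := β) (U := U) (s := s))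
    (fun c hc => PL.chain_bounded hG hH c hc) (fun hab hbc => PL.le_trans hab hbc)
  obtain ⟨V, hV, g, hg⟩ := m
  have hVU : V = U := by
    by_contra hne
    have : ¬ U ≤ V := fun h => hne (le_antisymm hV h)
    obtain ⟨x, hxU, hxV⟩ := SetLike.not_le_iff_exists.1 this
    obtain ⟨W, hW, hxW, g', hg'⟩ := hβ U s x hxU
    -- difference on the overlap
    set k : G.obj (op (V ⊓ W)) := (res G (inf_le_left : V ⊓ W ≤ V) g)⁻¹ *
      res G (inf_le_right : V ⊓ W ≤ W) g' with hk
    have hk1 : (β.app (op (V ⊓ W))).hom k = 1 := by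
      rw [hk, map_mul, map_inv, nat_res, nat_res, hg, hg', res_res]
      show (res H _ s)⁻¹ * res H inf_le_right (res H hW s) = 1
      rw [res_res, inv_mul_cancel]
    obtain ⟨f, hf⟩ := (hex _ k).1 hk1
    obtain ⟨ft, hft⟩ := hfl W (V ⊓ W) inf_le_right f
    set g'' : G.obj (op W) := g' * ((α.app (op W)).hom ft)⁻¹ with hg''
    have hβα : (β.app (op W)).hom ((α.app (op W)).hom ft) = 1 := (hex W _).2 ⟨ft, rfl⟩
    have hg''β : (β.app (op W)).hom g'' = res H hW s := by
      rw [hg'', map_mul, map_inv, hβα, inv_one, mul_one]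
      exact hg'
    have hres : res G (inf_le_left : V ⊓ W ≤ V) g = res G (inf_le_right : V ⊓ W ≤ W) g'' := by
      rw [hg'', map_mul, map_inv]
      have : res G (inf_le_right : V ⊓ W ≤ W) ((α.app (op W)).hom ft) = k := by
        rw [← nat_res]
        show (α.app (op (V ⊓ W))).hom ((F.map (homOfLE inf_le_right).op).hom ft) = k
        rw [hft, hf]
      rw [this, hk, mul_inv_rev, inv_inv, ← mul_assoc, mul_inv_cancel, one_mul]
    obtain ⟨gs, hgs1, hgs2⟩ := glue₂ G hG V W g g'' hres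
    let m' : PL G H β U s := ⟨V ⊔ W, sup_le hV hW, gs, by
      apply locally_eq H hH (fun b : ULift.{u} Bool => cond b.down V W) (V ⊔ W)
        (by
          rintro ⟨⟨⟩⟩
          · exact le_sup_right
          · exact le_sup_left)
        (by
          rw [sup_le_iff]
          exact ⟨le_iSup (fun b : ULift.{u} Bool => cond b.down V W) ⟨true⟩,
            le_iSup (fun b : ULift.{u} Bool => cond b.down V W) ⟨false⟩⟩)
      rintro ⟨⟨⟩⟩
      · show res H (le_sup_right : W ≤ V ⊔ W) _ = res H (le_sup_right : W ≤ V ⊔ W) _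
        rw [← nat_res, hgs2, res_res]
        exact hg''β
      · show res H (le_sup_left : V ≤ V ⊔ W) _ = res H (le_sup_left : V ≤ V ⊔ W) _
        rw [← nat_res, hgs1, res_res]
        exact hg⟩
    have hle : PL.le (⟨V, hV, g, hg⟩ : PL G H β U s) m' := ⟨le_sup_left, hgs1⟩
    obtain ⟨h', -⟩ := hm m' hle
    exact hxV (h' (Or.inr hxW))
  subst hVU
  refine ⟨g, ?_⟩
  rw [hg, res_self]

end main

end Groth.Agent.Helper7.Flasque

namespace Groth.Agent.Helper7.Flasque

open CategoryTheory TopologicalSpace Opposite TopCat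

theorem result7774 (X : TopCat.{u})
    (F G H : TopCat.Presheaf GrpCat.{u} X) (hF : F.IsSheaf) (hG : G.IsSheaf) (hH : H.IsSheaf)
    (α : F ⟶ G) (β : G ⟶ H)
    (hα : ∀ U : Opens X, Function.Injective (α.app (op U)).hom)
    (hex : ∀ (U : Opens X) (g : G.obj (op U)),
      (β.app (op U)).hom g = 1 ↔ g ∈ Set.range (α.app (op U)).hom)
    (hβ : ∀ (U : Opens X) (s : H.obj (op U)) (x : X), x ∈ U →
      ∃ (V : Opens X) (hV : V ≤ U), x ∈ V ∧ ∃ g : G.obj (op V), (β.app (op V)).hom g = (H.map (homOfLE hV).op).hom s)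
    (hfl : ∀ (U V : Opens X) (hUV : V ≤ U), Function.Surjective (F.map (homOfLE hUV).op).hom) :
    (∀ U : Opens X, Function.Surjective (β.app (op U)).hom) ∧
      ((∀ (U V : Opens X) (hUV : V ≤ U), Function.Surjective (G.map (homOfLE hUV).op).hom) →
        ∀ (U V : Opens X) (hUV : V ≤ U), Function.Surjective (H.map (homOfLE hUV).op).hom) := by
  have h1 : ∀ U : Opens X, Function.Surjective (β.app (op U)).hom :=
    fun U s => surj F hG hH α hex hβ hfl U s
  refine ⟨h1, ?_⟩
  intro hGfl U V hUV s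
  obtain ⟨g, hg⟩ := h1 V s
  obtain ⟨gt, hgt⟩ := hGfl U V hUV g
  refine ⟨(β.app (op U)).hom gt, ?_⟩
  have := nat_res β hUV gt
  show res H hUV _ = s
  rw [← this]
  show (β.app (op V)).hom ((G.map (homOfLE hUV).op).hom gt) = s
  rw [hgt, hg]

end Groth.Agent.Helper7.Flasque
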