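import Mathlib
set_option autoImplicit false
open TensorProduct LinearMap
universe u

namespace Groth.Agent.Helper7.FlatFPow

/-- `M ⊗[A] N` is finite over `B` when `M` is finite over `B` and `N` finite over `A`. -/
lemma finite_tensor (A B M N : Type*) [CommRing A] [CommRing B] [Algebra A B]
    [AddCommGroup M] [Module A M] [Module B M] [IsScalarTower A B M]
    [AddCommGroup N] [Module A N] [Module.Finite B M] [Module.Finite A N] :
    Module.Finite B (M ⊗[A] N) :=
  Module.Finite.equiv (TensorProduct.AlgebraTensorModule.cancelBaseChange A B B M N)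

theorem flat_of_forall_flat_quotient {A B : Type u} [CommRing A] [CommRing B]
    [IsNoetherianRing A] [IsNoetherianRing B] [IsLocalRing B] [Algebra A B]
    (M : Type u) [AddCommGroup M] [Module B M] [Module A M]
    [IsScalarTower A B M] [Module.Finite B M] (f : B) (hf : f ∈ IsLocalRing.maximalIdeal B)
    (hflat : ∀ n : ℕ, Module.Flat A (M ⧸ (Ideal.span {f ^ (n + 1)} • (⊤ : Submodule B M)))) :
    Module.Flat A M := by
  rw [Module.Flat.iff_lTensor_injective']
  intro I
  rw [injective_iff_map_eq_zero]
  intro x hx
  have : Module.Finite A I := Module.Finite.of_fg (IsNoetherian.noetherian I)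
  have : Module.Finite B (M ⊗[A] I) := finite_tensor A B M I
  -- x lies in every f^(n+1) • T
  have key : ∀ n : ℕ, x ∈ (Ideal.span {f} ^ (n + 1)) • (⊤ : Submodule B (M ⊗[A] I)) := by
    intro n
    set N : Submodule B M := Ideal.span {f ^ (n + 1)} • (⊤ : Submodule B M) with hN
    have := hflat n
    let q : M →ₗ[A] (M ⧸ N) := N.mkQ.restrictScalars A
    let j : (N.restrictScalars A) →ₗ[A] M := (N.restrictScalars A).subtype
    have hex : Function.Exact j q := by
      intro m
      constructor
      · intro hm
        have : m ∈ N := (Submodule.Quotient.mk_eq_zero N).1 hm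
        exact ⟨⟨m, this⟩, rfl⟩
      · rintro ⟨⟨m', hm'⟩, rfl⟩
        exact (Submodule.Quotient.mk_eq_zero N).2 hm'
    have hq : Function.Surjective q := N.mkQ_surjective
    have hnat : (lTensor (M ⧸ N) I.subtype) (rTensor I q x) = rTensor A q (lTensor M I.subtype x) := by
      rw [← LinearMap.comp_apply, ← LinearMap.comp_apply, LinearMap.lTensor_comp_rTensor,
        LinearMap.rTensor_comp_lTensor]
    rw [hx, map_zero] at hnat
    have hinj : Function.Injective (lTensor (M ⧸ N) I.subtype) :=
      Module.Flat.lTensor_preserves_injective_linearMap _ Subtype.val_injective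
    have h0 : rTensor I q x = 0 := hinj (by rw [hnat, map_zero])
    have hrange : ∀ y : (N.restrictScalars A) ⊗[A] I,
        rTensor I j y ∈ (Ideal.span {f} ^ (n + 1)) • (⊤ : Submodule B (M ⊗[A] I)) := by
      intro y
      induction y using TensorProduct.induction_on with
      | zero => simp
      | add a b ha hb => rw [map_add]; exact Submodule.add_mem _ ha hb
      | tmul m i =>
        obtain ⟨m, hm⟩ := m
        rw [rTensor_tmul]
        change m ⊗ₜ[A] i ∈ _
        have hm' : m ∈ Ideal.span {f ^ (n + 1)} • (⊤ : Submodule B M) := hm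
        rw [Submodule.ideal_span_singleton_smul] at hm'
        obtain ⟨m0, -, hm0⟩ := hm'
        have hm0' : f ^ (n + 1) • m0 = m := hm0
        have : m ⊗ₜ[A] i = f ^ (n + 1) • (m0 ⊗ₜ[A] i) := by
          rw [TensorProduct.smul_tmul', hm0']
        rw [this]
        exact Submodule.smul_mem_smul (Ideal.pow_mem_pow (Ideal.mem_span_singleton_self _) _)
          Submodule.mem_top
    obtain ⟨y, rfl⟩ := (rTensor_exact I hex hq x).1 h0
    exact hrange y
  have hne : Ideal.span {f} ≠ (⊤ : Ideal B) := by
    intro h
    have : (1 : B) ∈ Ideal.span {f} := by rw [h]; trivial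
    have h1 : Ideal.span {f} ≤ IsLocalRing.maximalIdeal B :=
      (Ideal.span_singleton_le_iff_mem _).2 hf
    exact (IsLocalRing.maximalIdeal.isMaximal B).ne_top ((Ideal.eq_top_iff_one _).2 (h1 this))
  have hkrull := Ideal.iInf_pow_smul_eq_bot_of_isLocalRing (R := B) (M := M ⊗[A] I) _ hne
  have hxmem : x ∈ (⨅ i : ℕ, Ideal.span {f} ^ i • ⊤ : Submodule B (M ⊗[A] I)) := by
    rw [Submodule.mem_iInf]
    intro i
    rcases i with _ | i
    · simp
    · exact key i
  rw [hkrull] at hxmem
  simpa using hxmem

end Groth.Agent.Helper7.FlatFPow
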