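import Mathlib

/-!
# Fontaine–Laffaille: the filtration steps are direct summands (abstract length count)
-/

universe u v

namespace Groth.Agent.Helper7.FonLaf

section length

variable {R : Type u} [CommRing R] (σ : R →+* R) [RingHomSurjective σ]

lemma length_eq_of_semilinear_bijective {X Y : Type*} [AddCommGroup X] [Module R X]
    [AddCommGroup Y] [Module R Y] (ψ : X →ₛₗ[σ] Y) (hψ : Function.Bijective ψ) :
    Module.length R X = Module.length R Y := by
  apply WithBot.coe_injective
  rw [Module.coe_length, Module.coe_length,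
    Order.krullDim_eq_of_orderIso (Submodule.orderIsoMapComapOfBijective ψ hψ)]

lemma length_eq_ker_add {X Y : Type*} [AddCommGroup X] [Module R X]
    [AddCommGroup Y] [Module R Y] (ψ : X →ₛₗ[σ] Y) (hψ : Function.Surjective ψ) :
    Module.length R X = Module.length R (LinearMap.ker ψ) + Module.length R Y := by
  rw [Module.length_eq_add_of_exact (LinearMap.ker ψ).subtype (LinearMap.ker ψ).mkQ
    (Submodule.subtype_injective _) (Submodule.mkQ_surjective _)
    (LinearMap.exact_subtype_mkQ _)]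
  congr 1
  refine length_eq_of_semilinear_bijective σ ((LinearMap.ker ψ).liftQ ψ le_rfl) ⟨?_, ?_⟩
  · rw [← LinearMap.ker_eq_bot, Submodule.ker_liftQ_eq_bot _ _ _ le_rfl]
  · rw [← LinearMap.range_eq_top, Submodule.range_liftQ, LinearMap.range_eq_top]
    exact hψ

end length

section lemmaA

variable {R : Type u} [CommRing R] (σ : R →+* R) (π : R)
variable (N : ℕ → Type v) [∀ i, AddCommGroup (N i)] [∀ i, Module R (N i)]
variable (α : ∀ i, N (i + 1) →ₗ[R] N i) (φ : ∀ i, N i →ₛₗ[σ] N 0) (r : ℕ)

/-- The map `ι` on `ℕ`-indexed families. -/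
def iotaL : (∀ i, N (i + 1)) →ₗ[R] (∀ i, N i) :=
  LinearMap.pi (fun j => match j with
    | 0 => (α 0).comp (LinearMap.proj 0)
    | (i + 1) => (α (i + 1)).comp (LinearMap.proj (i + 1)) - π • LinearMap.proj i)

@[simp] lemma iotaL_zero (z : ∀ i, N (i + 1)) : iotaL π N α z 0 = α 0 (z 0) := rfl

@[simp] lemma iotaL_succ (z : ∀ i, N (i + 1)) (i : ℕ) :
    iotaL π N α z (i + 1) = α (i + 1) (z (i + 1)) - π • z i := rfl

/-- The finite source. -/
abbrev S' := (i : Fin r) → N (i.val + 1)

/-- The finite target. -/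
abbrev T' := (j : Fin (r + 1)) → N j.val

/-- Extension by zero. -/
def extS : S' N r →ₗ[R] (∀ i, N (i + 1)) :=
  LinearMap.pi (fun i => if h : i < r then LinearMap.proj (⟨i, h⟩ : Fin r) else 0)

lemma extS_apply_of_lt (z : S' N r) (i : ℕ) (h : i < r) : extS (R := R) N r z i = z ⟨i, h⟩ := by
  simp [extS, h]

lemma extS_apply_of_ge (z : S' N r) (i : ℕ) (h : r ≤ i) : extS (R := R) N r z i = 0 := by
  simp [extS, not_lt.mpr h]

/-- Restriction. -/
def resT : (∀ i, N i) →ₗ[R] T' N r := LinearMap.pi (fun j => LinearMap.proj j.val)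

@[simp] lemma resT_apply (y : ∀ i, N i) (j : Fin (r + 1)) : resT (R := R) N r y j = y j.val := rfl

/-- The finite `ι`. -/
def iota' : S' N r →ₗ[R] T' N r := (resT N r).comp ((iotaL π N α).comp (extS N r))

/-- The finite `Φ`. -/
def Phi' : T' N r →ₛₗ[σ] N 0 :=
  ∑ j : Fin (r + 1), (φ j.val).comp (LinearMap.proj j : T' N r →ₗ[R] N j.val)

lemma Phi'_apply (y : T' N r) : Phi' σ N φ r y = ∑ j : Fin (r + 1), φ j.val (y j) := by
  simp [Phi', LinearMap.sum_apply]

variable [RingHomSurjective σ]

include σ φ in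
theorem Phi'_surjective
    (hsurj : ∀ m : N 0, ∃ y : (i : ℕ) → N i, (∀ i, r < i → y i = 0) ∧
      (Finset.range (r + 1)).sum (fun i => φ i (y i)) = m) :
    Function.Surjective (Phi' σ N φ r) := by
  intro m
  obtain ⟨y, -, hy⟩ := hsurj m
  refine ⟨resT (R := R) N r y, ?_⟩
  rw [Phi'_apply, ← hy, Finset.sum_range]
  rfl

theorem ker_Phi'_le
    (hker : ∀ y : (i : ℕ) → N i, (∀ i, r < i → y i = 0) →
      (Finset.range (r + 1)).sum (fun i => φ i (y i)) = 0 →
        ∃ z : (i : ℕ) → N (i + 1), (∀ i, r ≤ i → z i = 0) ∧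
          y 0 = α 0 (z 0) ∧ ∀ i, y (i + 1) = α (i + 1) (z (i + 1)) - π • z i) :
    LinearMap.ker (Phi' σ N φ r) ≤ LinearMap.range (iota' π N α r) := by
  intro y' hy'
  rw [LinearMap.mem_ker, Phi'_apply] at hy'
  let y : (i : ℕ) → N i := fun i => if h : i < r + 1 then y' ⟨i, h⟩ else 0
  have hyj : ∀ j : Fin (r + 1), y j.val = y' j := by
    intro j
    simp only [y, dif_pos j.isLt]
  have hsupp : ∀ i, r < i → y i = 0 := by
    intro i hi
    simp only [y]
    rw [dif_neg (by omega)]
  have hsum : (Finset.range (r + 1)).sum (fun i => φ i (y i)) = 0 := by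
    rw [Finset.sum_range, ← hy']
    exact Finset.sum_congr rfl fun j _ => by rw [hyj j]
  obtain ⟨z, hz, hz0, hzs⟩ := hker y hsupp hsum
  refine ⟨fun i : Fin r => z i.val, ?_⟩
  have hext : extS (R := R) N r (fun i : Fin r => z i.val) = z := by
    funext i
    by_cases h : i < r
    · rw [extS_apply_of_lt _ _ _ _ h]
    · rw [extS_apply_of_ge _ _ _ _ (not_lt.mp h), hz i (not_lt.mp h)]
  have hi : iotaL π N α z = y := by
    funext i
    cases i with
    | zero => rw [iotaL_zero, hz0]
    | succ i => rw [iotaL_succ, hzs i]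
  funext j
  show iotaL π N α (extS (R := R) N r (fun i : Fin r => z i.val)) j.val = y' j
  rw [hext, hi, hyj]

include σ φ in
theorem iota'_injective (hfl : ∀ i, IsFiniteLength R (N i))
    (hsurj : ∀ m : N 0, ∃ y : (i : ℕ) → N i, (∀ i, r < i → y i = 0) ∧
      (Finset.range (r + 1)).sum (fun i => φ i (y i)) = m)
    (hker : ∀ y : (i : ℕ) → N i, (∀ i, r < i → y i = 0) →
      (Finset.range (r + 1)).sum (fun i => φ i (y i)) = 0 →
        ∃ z : (i : ℕ) → N (i + 1), (∀ i, r ≤ i → z i = 0) ∧
          y 0 = α 0 (z 0) ∧ ∀ i, y (i + 1) = α (i + 1) (z (i + 1)) - π • z i) :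
    Function.Injective (iota' π N α r) := by
  haveI : ∀ i, IsNoetherian R (N i) := fun i =>
    (isFiniteLength_iff_isNoetherian_isArtinian.mp (hfl i)).1
  haveI : ∀ i, IsArtinian R (N i) := fun i =>
    (isFiniteLength_iff_isNoetherian_isArtinian.mp (hfl i)).2
  have hT : Module.length R (T' N r) ≠ ⊤ := Module.length_ne_top
  have e1 : Module.length R (T' N r) = Module.length R (N 0) + Module.length R (S' N r) := by
    rw [Module.length_pi_of_fintype, Module.length_pi_of_fintype, Fin.sum_univ_succ]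
    rfl
  have e2 : Module.length R (T' N r) =
      Module.length R (LinearMap.ker (Phi' σ N φ r)) + Module.length R (N 0) :=
    length_eq_ker_add σ _ (Phi'_surjective σ N φ r hsurj)
  have e3 : Module.length R (LinearMap.ker (Phi' σ N φ r)) ≤
      Module.length R (LinearMap.range (iota' π N α r)) :=
    Module.length_le_of_injective (Submodule.inclusion (ker_Phi'_le σ π N α φ r hker))
      (Submodule.inclusion_injective _)
  have e4 : Module.length R (S' N r) = Module.length R (LinearMap.ker (iota' π N α r)) +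
      Module.length R (LinearMap.range (iota' π N α r)) :=
    Module.length_eq_add_of_exact (LinearMap.ker (iota' π N α r)).subtype
      (iota' π N α r).rangeRestrict (Submodule.subtype_injective _)
      (LinearMap.surjective_rangeRestrict _)
      (by
        rw [LinearMap.exact_iff, LinearMap.ker_rangeRestrict, Submodule.range_subtype])
  have f1 : Module.length R (N 0) ≠ ⊤ := Module.length_ne_top
  have f2 : Module.length R (LinearMap.range (iota' π N α r)) ≠ ⊤ := by
    refine ne_top_of_le_ne_top hT ?_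
    exact Module.length_le_of_injective (Submodule.subtype _) (Submodule.subtype_injective _)
  have hk : Module.length R (LinearMap.ker (iota' π N α r)) = 0 := by
    by_contra hk
    have h1 : 1 ≤ Module.length R (LinearMap.ker (iota' π N α r)) :=
      Order.one_le_iff_ne_zero.mpr hk
    have h2 : Module.length R (N 0) + (1 + Module.length R (LinearMap.range (iota' π N α r))) ≤
        Module.length R (LinearMap.range (iota' π N α r)) + Module.length R (N 0) := by
      calc _ ≤ Module.length R (N 0) + (Module.length R (LinearMap.ker (iota' π N α r)) +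
            Module.length R (LinearMap.range (iota' π N α r))) := by gcongr
        _ = Module.length R (T' N r) := by rw [e1, e4]
        _ = _ := e2
        _ ≤ _ := by gcongr
    lift Module.length R (N 0) to ℕ using f1 with a
    lift Module.length R (LinearMap.range (iota' π N α r)) to ℕ using f2 with c
    norm_cast at h2
    omega
  rw [Module.length_eq_zero_iff] at hk
  rw [← LinearMap.ker_eq_bot]
  exact Submodule.eq_bot_of_subsingleton

include σ φ in
/-- **Lemma A**: `ι` is injective on families supported in `[0, r)`. -/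
theorem iota_injective (hfl : ∀ i, IsFiniteLength R (N i))
    (hsurj : ∀ m : N 0, ∃ y : (i : ℕ) → N i, (∀ i, r < i → y i = 0) ∧
      (Finset.range (r + 1)).sum (fun i => φ i (y i)) = m)
    (hker : ∀ y : (i : ℕ) → N i, (∀ i, r < i → y i = 0) →
      (Finset.range (r + 1)).sum (fun i => φ i (y i)) = 0 →
        ∃ z : (i : ℕ) → N (i + 1), (∀ i, r ≤ i → z i = 0) ∧
          y 0 = α 0 (z 0) ∧ ∀ i, y (i + 1) = α (i + 1) (z (i + 1)) - π • z i)
    (z : (i : ℕ) → N (i + 1)) (hz : ∀ i, r ≤ i → z i = 0)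
    (h0 : α 0 (z 0) = 0) (hs : ∀ i, α (i + 1) (z (i + 1)) - π • z i = 0) : z = 0 := by
  have hext : extS (R := R) N r (fun i : Fin r => z i.val) = z := by
    funext i
    by_cases h : i < r
    · rw [extS_apply_of_lt _ _ _ _ h]
    · rw [extS_apply_of_ge _ _ _ _ (not_lt.mp h), hz i (not_lt.mp h)]
  have hi : iotaL π N α z = 0 := by
    funext i
    cases i with
    | zero => rw [iotaL_zero, h0]; rfl
    | succ i => rw [iotaL_succ, hs i]; rfl
  have h1 : iota' π N α r (fun i : Fin r => z i.val) = 0 := by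
    show resT (R := R) N r (iotaL π N α (extS (R := R) N r (fun i : Fin r => z i.val))) = 0
    rw [hext, hi, map_zero]
  have h2 := iota'_injective σ π N α φ r hfl hsurj hker (h1.trans (map_zero _).symm)
  funext i
  by_cases h : i < r
  · exact congr_fun h2 ⟨i, h⟩
  · exact hz i (not_lt.mp h)

end lemmaA

section pw

variable {R : Type u} [CommRing R] (π : R)

/-- The submodule `π ^ n X`. -/
def pw (n : ℕ) (X : Type v) [AddCommGroup X] [Module R X] : Submodule R X :=
  LinearMap.range ((π ^ n) • (LinearMap.id : X →ₗ[R] X))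

lemma mem_pw {n : ℕ} {X : Type v} [AddCommGroup X] [Module R X] {x : X} :
    x ∈ pw π n X ↔ ∃ y, π ^ n • y = x := by
  simp [pw]

lemma smul_mem_pw (n : ℕ) {X : Type v} [AddCommGroup X] [Module R X] (y : X) :
    π ^ n • y ∈ pw π n X := (mem_pw π).mpr ⟨y, rfl⟩

lemma pw_succ_le (n : ℕ) (X : Type v) [AddCommGroup X] [Module R X] :
    pw π (n + 1) X ≤ pw π n X := by
  intro x hx
  obtain ⟨y, rfl⟩ := (mem_pw π).mp hx
  exact (mem_pw π).mpr ⟨π • y, by rw [smul_smul, ← pow_succ]⟩

end pw

section lemmaB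

variable {R : Type u} [CommRing R] (σ : R →+* R) [RingHomSurjective σ] (π : R)
variable (N : ℕ → Type v) [∀ i, AddCommGroup (N i)] [∀ i, Module R (N i)]
variable (α : ∀ i, N (i + 1) →ₗ[R] N i) (φ : ∀ i, N i →ₛₗ[σ] N 0) (r : ℕ)

/-- The quotient family. -/
abbrev Nq (n : ℕ) (i : ℕ) : Type v := N i ⧸ pw π n (N i)

/-- Induced `α`. -/
def αq (n i : ℕ) : Nq π N n (i + 1) →ₗ[R] Nq π N n i :=
  Submodule.mapQ _ _ (α i) (by
    intro x hx
    obtain ⟨y, rfl⟩ := (mem_pw π).mp hx
    rw [Submodule.mem_comap, map_smul]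
    exact smul_mem_pw π n _)

/-- Induced `φ`. -/
def φq (hπ : σ π = π) (n i : ℕ) : Nq π N n i →ₛₗ[σ] Nq π N n 0 :=
  Submodule.mapQ _ _ (φ i) (by
    intro x hx
    obtain ⟨y, rfl⟩ := (mem_pw π).mp hx
    rw [Submodule.mem_comap, map_smulₛₗ, map_pow, hπ]
    exact smul_mem_pw π n _)

include σ φ in
/-- **Lemma B**: `ι` is pure. -/
theorem iota_pure (hπ : σ π = π) (hfl : ∀ i, IsFiniteLength R (N i))
    (hsurj : ∀ m : N 0, ∃ y : (i : ℕ) → N i, (∀ i, r < i → y i = 0) ∧
      (Finset.range (r + 1)).sum (fun i => φ i (y i)) = m)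
    (hker : ∀ y : (i : ℕ) → N i, (∀ i, r < i → y i = 0) →
      (Finset.range (r + 1)).sum (fun i => φ i (y i)) = 0 →
        ∃ z : (i : ℕ) → N (i + 1), (∀ i, r ≤ i → z i = 0) ∧
          y 0 = α 0 (z 0) ∧ ∀ i, y (i + 1) = α (i + 1) (z (i + 1)) - π • z i)
    (n : ℕ) (z : (i : ℕ) → N (i + 1)) (hz : ∀ i, r ≤ i → z i = 0)
    (h0 : α 0 (z 0) ∈ pw π n (N 0))
    (hs : ∀ i, α (i + 1) (z (i + 1)) - π • z i ∈ pw π n (N (i + 1))) :
    ∀ i, z i ∈ pw π n (N (i + 1)) := by
  have hfl' : ∀ i, IsFiniteLength R (Nq π N n i) := fun i =>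
    (hfl i).of_surjective (f := (pw π n (N i)).mkQ) (Submodule.mkQ_surjective _)
  have hφpow : ∀ i (x : N i), φ i (π ^ n • x) = π ^ n • φ i x := by
    intro i x
    rw [map_smulₛₗ, map_pow, hπ]
  have hsum_mk : ∀ y : (i : ℕ) → N i,
      (Finset.range (r + 1)).sum (fun i => φq σ π N φ hπ n i (Submodule.Quotient.mk (y i))) =
        Submodule.Quotient.mk ((Finset.range (r + 1)).sum (fun i => φ i (y i))) := by
    intro y
    rw [← Submodule.mkQ_apply, map_sum]
    rfl
  have hsurj' : ∀ m : Nq π N n 0, ∃ y : (i : ℕ) → Nq π N n i, (∀ i, r < i → y i = 0) ∧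
      (Finset.range (r + 1)).sum (fun i => φq σ π N φ hπ n i (y i)) = m := by
    intro m
    obtain ⟨m, rfl⟩ := Submodule.Quotient.mk_surjective _ m
    obtain ⟨y, hy, hym⟩ := hsurj m
    refine ⟨fun i => Submodule.Quotient.mk (y i), fun i hi => ?_, ?_⟩
    · show Submodule.Quotient.mk (y i) = 0
      rw [hy i hi, Submodule.Quotient.mk_zero]
    · rw [hsum_mk, hym]
  have hker' : ∀ y : (i : ℕ) → Nq π N n i, (∀ i, r < i → y i = 0) →
      (Finset.range (r + 1)).sum (fun i => φq σ π N φ hπ n i (y i)) = 0 →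
        ∃ z : (i : ℕ) → Nq π N n (i + 1), (∀ i, r ≤ i → z i = 0) ∧
          y 0 = αq π N α n 0 (z 0) ∧
          ∀ i, y (i + 1) = αq π N α n (i + 1) (z (i + 1)) - π • z i := by
    intro yb hyb hsum
    -- lifts
    have hl : ∀ i, ∃ yi : N i, Submodule.Quotient.mk yi = yb i ∧ (r < i → yi = 0) := by
      intro i
      by_cases hi : r < i
      · exact ⟨0, by rw [hyb i hi, Submodule.Quotient.mk_zero], fun _ => rfl⟩
      · obtain ⟨yi, hyi⟩ := Submodule.Quotient.mk_surjective _ (yb i)
        exact ⟨yi, hyi, fun h => absurd h hi⟩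
    choose y hy hy0 using hl
    have hyb' : yb = fun i => Submodule.Quotient.mk (y i) := by
      funext i; exact (hy i).symm
    rw [hyb', hsum_mk, Submodule.Quotient.mk_eq_zero] at hsum
    obtain ⟨m, hm⟩ := (mem_pw π).mp hsum
    obtain ⟨y', hy', hy'm⟩ := hsurj m
    have hsum2 : (Finset.range (r + 1)).sum (fun i => φ i ((y - fun i => π ^ n • y' i) i)) = 0 := by
      simp only [Pi.sub_apply, map_sub, Finset.sum_sub_distrib, hφpow]
      rw [← Finset.smul_sum, hy'm, hm, sub_self]
    obtain ⟨z, hz, hz0, hzs⟩ := hker (y - fun i => π ^ n • y' i)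
      (fun i hi => by simp only [Pi.sub_apply, hy0 i hi, hy' i hi, smul_zero, sub_zero]) hsum2
    refine ⟨fun i => Submodule.Quotient.mk (z i), fun i hi => ?_, ?_, fun i => ?_⟩
    · show Submodule.Quotient.mk (z i) = 0
      rw [hz i hi, Submodule.Quotient.mk_zero]
    · rw [hyb']
      show Submodule.Quotient.mk (y 0) = Submodule.Quotient.mk (α 0 (z 0))
      rw [← hz0, Submodule.Quotient.eq]
      simp only [Pi.sub_apply, sub_sub_cancel]
      exact smul_mem_pw π n _
    · rw [hyb']
      show Submodule.Quotient.mk (y (i + 1)) =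
        Submodule.Quotient.mk (α (i + 1) (z (i + 1)) - π • z i)
      rw [← hzs, Submodule.Quotient.eq]
      simp only [Pi.sub_apply, sub_sub_cancel]
      exact smul_mem_pw π n _
  have key := iota_injective σ π (Nq π N n) (αq π N α n) (φq σ π N φ hπ n) r hfl' hsurj' hker'
    (fun i => Submodule.Quotient.mk (z i))
    (fun i hi => by
      show Submodule.Quotient.mk (z i) = 0
      rw [hz i hi, Submodule.Quotient.mk_zero])
    (by
      show Submodule.Quotient.mk (α 0 (z 0)) = 0
      rwa [Submodule.Quotient.mk_eq_zero])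
    (fun i => by
      show Submodule.Quotient.mk (α (i + 1) (z (i + 1)) - π • z i) = 0
      rw [Submodule.Quotient.mk_eq_zero]
      exact hs i)
  intro i
  have := congr_fun key i
  exact (Submodule.Quotient.mk_eq_zero _).mp this

include σ φ in
/-- **Lemma C**: each `α i` (`i < r`) is pure. -/
theorem alpha_pure (hπ : σ π = π) (hfl : ∀ i, IsFiniteLength R (N i))
    (hsurj : ∀ m : N 0, ∃ y : (i : ℕ) → N i, (∀ i, r < i → y i = 0) ∧
      (Finset.range (r + 1)).sum (fun i => φ i (y i)) = m)
    (hker : ∀ y : (i : ℕ) → N i, (∀ i, r < i → y i = 0) →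
      (Finset.range (r + 1)).sum (fun i => φ i (y i)) = 0 →
        ∃ z : (i : ℕ) → N (i + 1), (∀ i, r ≤ i → z i = 0) ∧
          y 0 = α 0 (z 0) ∧ ∀ i, y (i + 1) = α (i + 1) (z (i + 1)) - π • z i)
    (n : ℕ) : ∀ i, i < r → ∀ x : N (i + 1), α i x ∈ pw π n (N i) → x ∈ pw π n (N (i + 1)) := by
  induction n with
  | zero =>
    intro i _ x _
    exact (mem_pw π).mpr ⟨x, by rw [pow_zero, one_smul]⟩
  | succ n ih =>
    intro i hi x hx
    have hxn : x ∈ pw π n (N (i + 1)) := ih i hi x (pw_succ_le π n _ hx)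
    obtain ⟨x', rfl⟩ := (mem_pw π).mp hxn
    let z : (j : ℕ) → N (j + 1) := Pi.single i (π ^ n • x')
    have hzi : z i = π ^ n • x' := Pi.single_eq_same i _
    have hzj : ∀ j, j ≠ i → z j = 0 := fun j hj => Pi.single_eq_of_ne hj _
    have key := iota_pure σ π N α φ r hπ hfl hsurj hker (n + 1) z
      (fun j hj => hzj j (by omega))
      (by
        by_cases h0 : 0 = i
        · subst h0
          rw [hzi]; exact hx
        · rw [hzj 0 h0, map_zero]; exact Submodule.zero_mem _)
      (fun j => by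
        by_cases h1 : j + 1 = i
        · subst h1
          rw [hzi, hzj j (by omega), smul_zero, sub_zero]; exact hx
        · by_cases h2 : j = i
          · subst h2
            rw [hzj (j + 1) (by omega), map_zero, zero_sub, hzi, smul_smul, ← pow_succ']
            exact Submodule.neg_mem _ (smul_mem_pw π (n + 1) _)
          · rw [hzj (j + 1) h1, hzj j h2, map_zero, smul_zero, sub_zero]
            exact Submodule.zero_mem _)
      i
    rwa [hzi] at key

end lemmaB

section nilp

variable {R : Type u} [CommRing R] (π : R)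

/-- In a module of finite length, powers of an element of the Jacobson radical kill everything. -/
theorem exists_pw_eq_bot (hπ : π ∈ Ideal.jacobson (⊥ : Ideal R)) (X : Type v) [AddCommGroup X]
    [Module R X] (hX : IsFiniteLength R X) : ∃ n, pw π n X = ⊥ := by
  haveI : IsNoetherian R X := (isFiniteLength_iff_isNoetherian_isArtinian.mp hX).1
  haveI : IsArtinian R X := (isFiniteLength_iff_isNoetherian_isArtinian.mp hX).2
  let c : ℕ →o (Submodule R X)ᵒᵈ :=
    ⟨fun n => OrderDual.toDual (pw π n X), monotone_nat_of_le_succ fun n => pw_succ_le π n X⟩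
  obtain ⟨n, hn⟩ := IsArtinian.monotone_stabilizes c
  refine ⟨n, ?_⟩
  have h1 : pw π n X = pw π (n + 1) X := by
    have := hn (n + 1) (Nat.le_succ n)
    exact OrderDual.toDual.injective this
  refine Submodule.eq_bot_of_le_smul_of_le_jacobson_bot (Ideal.span {π}) _
    (IsNoetherian.noetherian _) ?_ ((Ideal.span_singleton_le_iff_mem _).mpr hπ)
  intro x hx
  rw [h1] at hx
  obtain ⟨y, rfl⟩ := (mem_pw π).mp hx
  rw [pow_succ', ← smul_smul]
  exact Submodule.smul_mem_smul (Ideal.mem_span_singleton_self π) (smul_mem_pw π n y)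

end nilp

section split

open scoped DirectSum

variable {R : Type u} [CommRing R] [IsDomain R] [IsPrincipalIdealRing R] (π : R)

lemma smul_eq_zero_of_associated {a b : R} (h : Associated a b) {X : Type v} [AddCommGroup X]
    [Module R X] {x : X} (hx : a • x = 0) : b • x = 0 := by
  obtain ⟨u, rfl⟩ := h
  rw [mul_comm, mul_smul, hx, smul_zero]

/-- **Lemma E**: a pure submodule of a finitely generated torsion module over a discrete valuation
ring (a PID all of whose irreducibles are associated to `π`) has a complement. -/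
theorem exists_isCompl_of_pure (hirr : ∀ q : R, Irreducible q → Associated q π)
    (X : Type v) [AddCommGroup X] [Module R X] [Module.Finite R X]
    (htors : Module.IsTorsion R X) (Y : Submodule R X)
    (hpure : ∀ n, ∀ x ∈ Y, x ∈ pw π n X → ∃ y ∈ Y, π ^ n • y = x) :
    ∃ Q : Submodule R X, IsCompl Y Q := by
  classical
  have htq : Module.IsTorsion R (X ⧸ Y) := by
    intro x
    obtain ⟨x, rfl⟩ := Submodule.Quotient.mk_surjective _ x
    obtain ⟨a, ha⟩ := @htors x
    exact ⟨a, by rw [← Submodule.Quotient.mk_smul, ha, Submodule.Quotient.mk_zero]⟩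
  obtain ⟨ι, _, p, hp, e, ⟨E⟩⟩ := Module.equiv_directSum_of_isTorsion htq
  have hass : ∀ j, Associated (p j ^ e j) (π ^ e j) := fun j => (hirr _ (hp j)).pow_pow
  have hgen : ∀ j : ι, ∃ z : X, π ^ e j • z = 0 ∧
      (Submodule.Quotient.mk z : X ⧸ Y) =
        E.symm (DirectSum.lof R ι (fun i => R ⧸ R ∙ p i ^ e i) j (Submodule.Quotient.mk 1)) := by
    intro j
    set zb : X ⧸ Y :=
      E.symm (DirectSum.lof R ι (fun i => R ⧸ R ∙ p i ^ e i) j (Submodule.Quotient.mk 1)) with hzb
    have h1 : p j ^ e j • zb = 0 := by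
      rw [hzb, ← map_smul, ← map_smul, ← Submodule.Quotient.mk_smul, smul_eq_mul, mul_one,
        (Submodule.Quotient.mk_eq_zero _).mpr (Submodule.mem_span_singleton_self _), map_zero,
        map_zero]
    have h2 : π ^ e j • zb = 0 := smul_eq_zero_of_associated (hass j) h1
    obtain ⟨z0, hz0⟩ := Submodule.Quotient.mk_surjective _ zb
    have h3 : π ^ e j • z0 ∈ Y := by
      rw [← Submodule.Quotient.mk_eq_zero, Submodule.Quotient.mk_smul, hz0, h2]
    obtain ⟨w, hwY, hw⟩ := hpure (e j) _ h3 (smul_mem_pw π _ _)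
    refine ⟨z0 - w, by rw [smul_sub, hw, sub_self], ?_⟩
    rw [Submodule.Quotient.mk_sub, (Submodule.Quotient.mk_eq_zero _).mpr hwY, sub_zero, hz0]
  choose z hz1 hz2 using hgen
  let sj : ∀ j, (R ⧸ R ∙ p j ^ e j) →ₗ[R] X := fun j =>
    Submodule.liftQ _ (LinearMap.toSpanSingleton R X (z j)) (by
      rw [Submodule.span_singleton_le_iff_mem, LinearMap.mem_ker,
        LinearMap.toSpanSingleton_apply]
      exact smul_eq_zero_of_associated (hass j).symm (hz1 j))
  let s : (⨁ i, R ⧸ R ∙ p i ^ e i) →ₗ[R] X := DirectSum.toModule R ι X sj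
  have hs : Y.mkQ.comp s = E.symm.toLinearMap := by
    refine DirectSum.linearMap_ext R fun j => ?_
    refine Submodule.linearMap_qext _ ?_
    refine LinearMap.ext_ring ?_
    simp only [LinearMap.comp_apply, Submodule.mkQ_apply, s, DirectSum.toModule_lof, sj,
      Submodule.liftQ_apply, LinearMap.toSpanSingleton_apply, one_smul,
      LinearEquiv.coe_toLinearMap]
    exact hz2 j
  let sec : X ⧸ Y →ₗ[R] X := s.comp E.toLinearMap
  have hsec : ∀ w, (Submodule.Quotient.mk (sec w) : X ⧸ Y) = w := by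
    intro w
    have := LinearMap.congr_fun hs (E w)
    simpa [sec] using this
  refine ⟨LinearMap.range sec, ?_, ?_⟩
  · rw [Submodule.disjoint_def]
    rintro x hxY ⟨w, rfl⟩
    have h1 := hsec w
    rw [(Submodule.Quotient.mk_eq_zero _).mpr hxY] at h1
    rw [← h1, map_zero]
  · rw [Submodule.codisjoint_iff_exists_add_eq]
    intro x
    refine ⟨x - sec (Submodule.Quotient.mk x), sec (Submodule.Quotient.mk x), ?_,
      LinearMap.mem_range_self _ _, sub_add_cancel _ _⟩
    rw [← Submodule.Quotient.mk_eq_zero, Submodule.Quotient.mk_sub, hsec, sub_self]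

end split

section main

variable {R : Type u} [CommRing R] [IsDomain R] [IsPrincipalIdealRing R]
  (σ : R →+* R) [RingHomSurjective σ] (π : R)
variable (N : ℕ → Type v) [∀ i, AddCommGroup (N i)] [∀ i, Module R (N i)]
variable (α : ∀ i, N (i + 1) →ₗ[R] N i) (φ : ∀ i, N i →ₛₗ[σ] N 0) (r : ℕ)

include σ φ in
theorem main (hπ : σ π = π) (hπ0 : π ≠ 0) (hjac : π ∈ Ideal.jacobson (⊥ : Ideal R))
    (hirr : ∀ q : R, Irreducible q → Associated q π)
    (hfl : ∀ i, IsFiniteLength R (N i))
    (hsurj : ∀ m : N 0, ∃ y : (i : ℕ) → N i, (∀ i, r < i → y i = 0) ∧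
      (Finset.range (r + 1)).sum (fun i => φ i (y i)) = m)
    (hker : ∀ y : (i : ℕ) → N i, (∀ i, r < i → y i = 0) →
      (Finset.range (r + 1)).sum (fun i => φ i (y i)) = 0 →
        ∃ z : (i : ℕ) → N (i + 1), (∀ i, r ≤ i → z i = 0) ∧
          y 0 = α 0 (z 0) ∧ ∀ i, y (i + 1) = α (i + 1) (z (i + 1)) - π • z i)
    (i : ℕ) (hi : i < r) :
    Function.Injective (α i) ∧ ∃ Q : Submodule R (N i), IsCompl (LinearMap.range (α i)) Q := by
  have hpure := alpha_pure σ π N α φ r hπ hfl hsurj hker
  constructor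
  · rw [injective_iff_map_eq_zero]
    intro x hx
    obtain ⟨n, hn⟩ := exists_pw_eq_bot π hjac (N (i + 1)) (hfl (i + 1))
    have := hpure n i hi x (by rw [hx]; exact Submodule.zero_mem _)
    rw [hn] at this
    exact (Submodule.mem_bot R).mp this
  · haveI : IsNoetherian R (N i) := (isFiniteLength_iff_isNoetherian_isArtinian.mp (hfl i)).1
    obtain ⟨n, hn⟩ := exists_pw_eq_bot π hjac (N i) (hfl i)
    have htors : Module.IsTorsion R (N i) := by
      intro x
      refine ⟨⟨π ^ n, mem_nonZeroDivisors_of_ne_zero (pow_ne_zero n hπ0)⟩, ?_⟩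
      have : π ^ n • x ∈ pw π n (N i) := smul_mem_pw π n x
      rw [hn] at this
      exact (Submodule.mem_bot R).mp this
    refine exists_isCompl_of_pure π hirr (N i) htors _ ?_
    rintro m _ ⟨x, rfl⟩ hx
    obtain ⟨x', rfl⟩ := (mem_pw π).mp (hpure m i hi x hx)
    exact ⟨α i x', LinearMap.mem_range_self _ _, by rw [map_smul]⟩

end main

end Groth.Agent.Helper7.FonLaf
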