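import Mathlib
import Groth.Prelude.Def_GLin4
import Groth.Agent.S6485

/-!
# Characters of `GL_n`: the group-like elements of its coordinate ring are the powers of `det`
-/

set_option autoImplicit false
set_option linter.unusedSectionVars false
universe u

namespace Groth.Agent.Helper7.GLnChar

open CoordGrp MvPolynomial TensorProduct

variable {n : ℕ} {k : Type u} [Field k]

/-- the determinant of the generic matrix -/
noncomputable abbrev detP (n : ℕ) (k : Type u) [Field k] : MvPolynomial (Fin n × Fin n) k :=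
  (Matrix.mvPolynomialX (Fin n) (Fin n) k).det

/-- inclusion of the matrix coordinates -/
noncomputable def φ (n : ℕ) (k : Type u) [Field k] : MvPolynomial (Fin n × Fin n) k →ₐ[k] GLn n k :=
  MvPolynomial.aeval (fun p : Fin n × Fin n => (GLn.X p.1 p.2 : GLn n k))

lemma φ_X (i j : Fin n) : φ n k (MvPolynomial.X (i, j)) = GLn.X i j := by
  simp [φ]

lemma φ_detP : φ n k (detP n k) = GLn.det := by
  rw [detP, AlgHom.map_det, GLn.det_eq]
  congr 1
  ext i j
  simp [Matrix.mvPolynomialX, φ_X, GLn.genMat]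

lemma detP_ne_zero : detP n k ≠ 0 := by
  rcases Nat.eq_zero_or_pos n with h0 | hpos
  · subst h0
    rw [detP, Matrix.det_isEmpty]
    exact one_ne_zero
  · exact (Groth.Agent.S6485.result k n hpos).ne_zero

/-- evaluation in the fraction field -/
noncomputable def ev (n : ℕ) (k : Type u) [Field k] :
    GLn n k →ₐ[k] FractionRing (MvPolynomial (Fin n × Fin n) k) :=
  Ideal.Quotient.liftₐ (GLb.relIdeal n k)
    (GLb.aeval n k (fun i j => algebraMap (MvPolynomial (Fin n × Fin n) k)
      (FractionRing (MvPolynomial (Fin n × Fin n) k)) (MvPolynomial.X (i, j)))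
      (algebraMap (MvPolynomial (Fin n × Fin n) k)
        (FractionRing (MvPolynomial (Fin n × Fin n) k)) (detP n k))⁻¹)
    (by
      intro a ha
      obtain ⟨b, rfl⟩ := Ideal.mem_span_singleton'.mp ha
      rw [map_mul]
      have : GLb.aeval n k (fun i j => algebraMap (MvPolynomial (Fin n × Fin n) k)
          (FractionRing (MvPolynomial (Fin n × Fin n) k)) (MvPolynomial.X (i, j)))
          (algebraMap (MvPolynomial (Fin n × Fin n) k)
            (FractionRing (MvPolynomial (Fin n × Fin n) k)) (detP n k))⁻¹ (GLb.rel n k) = 0 := by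
        rw [GLb.rel, map_sub, map_mul, map_one, GLb.det, AlgHom.map_det, GLb.aeval_mapMatrix_genMat,
          GLb.aeval_D]
        have h1 : (Matrix.of fun i j => algebraMap (MvPolynomial (Fin n × Fin n) k)
            (FractionRing (MvPolynomial (Fin n × Fin n) k)) (MvPolynomial.X (i, j))).det =
            algebraMap _ _ (detP n k) := by
          rw [detP, RingHom.map_det]
          rfl
        change (Matrix.of fun i j => algebraMap (MvPolynomial (Fin n × Fin n) k)
            (FractionRing (MvPolynomial (Fin n × Fin n) k)) (MvPolynomial.X (i, j))).det * _ - 1 = 0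
        rw [h1, mul_inv_cancel₀, sub_self]
        rw [Ne, map_eq_zero_iff _ (IsFractionRing.injective _ _)]
        exact detP_ne_zero
      rw [this, mul_zero])

lemma ev_φ (f : MvPolynomial (Fin n × Fin n) k) :
    ev n k (φ n k f) = algebraMap _ _ f := by
  have : (ev n k).comp (φ n k) = IsScalarTower.toAlgHom k (MvPolynomial (Fin n × Fin n) k)
      (FractionRing (MvPolynomial (Fin n × Fin n) k)) := by
    apply MvPolynomial.algHom_ext
    rintro ⟨i, j⟩
    rw [AlgHom.comp_apply, φ_X]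
    change GLb.aeval n k (fun i j => algebraMap (MvPolynomial (Fin n × Fin n) k)
      (FractionRing (MvPolynomial (Fin n × Fin n) k)) (MvPolynomial.X (i, j)))
      (algebraMap (MvPolynomial (Fin n × Fin n) k)
        (FractionRing (MvPolynomial (Fin n × Fin n) k)) (detP n k))⁻¹ (GLb.X i j) = _
    rw [GLb.aeval_X]
    rfl
  exact DFunLike.congr_fun this f

lemma φ_injective : Function.Injective (φ n k) := by
  intro f g hfg
  have := congrArg (ev n k) hfg
  rw [ev_φ, ev_φ] at this
  exact IsFractionRing.injective _ _ this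

lemma φ_detP_mul_Dinv : φ n k (detP n k) * GLn.Dinv = 1 := by
  rw [φ_detP]
  exact GLn.det_mul_Dinv

lemma φ_mul_Dinv_pow (f : MvPolynomial (Fin n × Fin n) k) (a b : ℕ) :
    φ n k f * GLn.Dinv ^ a = φ n k (f * detP n k ^ b) * GLn.Dinv ^ (a + b) := by
  rw [map_mul, map_pow, pow_add, mul_assoc, mul_comm (GLn.Dinv ^ a), ← mul_assoc (φ n k (detP n k) ^ b),
    ← mul_pow, φ_detP_mul_Dinv, one_pow, one_mul]

/-- the quotient map, on the underlying polynomial ring -/
noncomputable def mk' (n : ℕ) (k : Type u) [Field k] :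
    MvPolynomial (GLPoly.Idx n) k →ₐ[k] GLn n k := GLn.mk n k

/-- every element is a fraction with denominator a power of the determinant -/
lemma exists_repr (x : GLn n k) :
    ∃ (f : MvPolynomial (Fin n × Fin n) k) (a : ℕ), x = φ n k f * GLn.Dinv ^ a := by
  obtain ⟨y, rfl⟩ := Ideal.Quotient.mkₐ_surjective k (GLb.relIdeal n k) x
  change ∃ f a, mk' n k y = _
  induction y using MvPolynomial.induction_on with
  | C c =>
    refine ⟨MvPolynomial.C c, 0, ?_⟩
    rw [pow_zero, mul_one]
    change mk' n k (algebraMap k _ c) = φ n k (algebraMap k _ c)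
    rw [AlgHom.commutes, AlgHom.commutes]
  | add p q hp hq =>
    obtain ⟨f, a, hf⟩ := hp
    obtain ⟨g, b, hg⟩ := hq
    refine ⟨f * detP n k ^ b + g * detP n k ^ a, a + b, ?_⟩
    rw [map_add, hf, hg, φ_mul_Dinv_pow f a b, φ_mul_Dinv_pow g b a, add_comm b a, map_add, add_mul]
  | mul_X p s hp =>
    obtain ⟨f, a, hf⟩ := hp
    rcases s with ⟨i, j⟩ | ⟨⟩
    · refine ⟨f * MvPolynomial.X (i, j), a, ?_⟩
      rw [map_mul, hf, map_mul, φ_X]
      change _ * GLn.X i j = _
      ring
    · refine ⟨f, a + 1, ?_⟩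
      rw [map_mul, hf]
      change _ * GLn.Dinv = _
      ring

/-- divisors of a power of the determinant -/
lemma eq_of_dvd_detP_pow (f : MvPolynomial (Fin n × Fin n) k) (N : ℕ) (h : f ∣ detP n k ^ N) :
    ∃ (c : k) (i : ℕ), c ≠ 0 ∧ f = MvPolynomial.C c * detP n k ^ i := by
  have hunit : ∀ u : MvPolynomial (Fin n × Fin n) k, IsUnit u → ∃ c : k, c ≠ 0 ∧ u = MvPolynomial.C c := by
    intro u hu
    obtain ⟨c, hc, rfl⟩ := (MvPolynomial.isUnit_iff_eq_C_of_isReduced).1 hu
    exact ⟨c, hc.ne_zero, rfl⟩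
  rcases Nat.eq_zero_or_pos n with h0 | hpos
  · subst h0
    have h1 : detP 0 k = 1 := Matrix.det_isEmpty
    rw [h1, one_pow] at h
    obtain ⟨c, hc, hfc⟩ := hunit f (isUnit_of_dvd_one h)
    exact ⟨c, 0, hc, by rw [pow_zero, mul_one, hfc]⟩
  · have hprime : Prime (detP n k) := (Groth.Agent.S6485.result k n hpos).prime
    obtain ⟨i, -, hi⟩ := (dvd_prime_pow hprime N).1 h
    obtain ⟨u, hu⟩ := hi.symm
    obtain ⟨c, hc, hcu⟩ := hunit u u.isUnit
    exact ⟨c, i, hc, by rw [← hu, hcu, mul_comm]⟩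

/-- units of the coordinate ring of `GL_n` -/
theorem unit_eq (χ : GLn n k) (hχ : IsUnit χ) :
    ∃ (c : k) (m : ℕ), c ≠ 0 ∧ (χ = c • GLn.det ^ m ∨ χ = c • GLn.Dinv ^ m) := by
  obtain ⟨ψ, hψ⟩ := hχ.exists_right_inv
  obtain ⟨f, a, hf⟩ := exists_repr χ
  obtain ⟨g, b, hg⟩ := exists_repr ψ
  have h1 : φ n k (f * g) = φ n k (detP n k ^ (a + b)) := by
    have h2 : φ n k (f * g) * GLn.Dinv ^ (a + b) = 1 := by
      rw [← hψ, hf, hg, map_mul, pow_add]
      ring
    have h3 : φ n k (detP n k ^ (a + b)) * GLn.Dinv ^ (a + b) = 1 := by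
      rw [map_pow, ← mul_pow, φ_detP_mul_Dinv, one_pow]
    calc φ n k (f * g) = φ n k (f * g) * (φ n k (detP n k ^ (a + b)) * GLn.Dinv ^ (a + b)) := by
          rw [h3, mul_one]
      _ = (φ n k (f * g) * GLn.Dinv ^ (a + b)) * φ n k (detP n k ^ (a + b)) := by ring
      _ = φ n k (detP n k ^ (a + b)) := by rw [h2, one_mul]
  have h4 : f ∣ detP n k ^ (a + b) := ⟨g, (φ_injective h1).symm⟩
  obtain ⟨c, i, hc, hfc⟩ := eq_of_dvd_detP_pow f (a + b) h4
  refine ⟨c, ?_⟩
  have hχ' : χ = c • (GLn.det ^ i * GLn.Dinv ^ a) := by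
    rw [hf, hfc, map_mul, map_pow, φ_detP]
    have : φ n k (MvPolynomial.C c) = algebraMap k _ c := (φ n k).commutes c
    rw [this, Algebra.smul_def]
    ring
  rcases le_total a i with hai | hia
  · obtain ⟨d, rfl⟩ := Nat.exists_eq_add_of_le hai
    refine ⟨d, hc, Or.inl ?_⟩
    rw [hχ', pow_add, mul_assoc, mul_comm (GLn.det ^ d), ← mul_assoc, ← mul_pow, GLn.det_mul_Dinv, one_pow,
      one_mul]
  · obtain ⟨d, rfl⟩ := Nat.exists_eq_add_of_le hia
    refine ⟨d, hc, Or.inr ?_⟩
    rw [hχ', pow_add, ← mul_assoc, ← mul_pow, GLn.det_mul_Dinv, one_pow, one_mul]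

theorem isGroupLike_det : IsGroupLikeElem k (GLn.det : GLn n k) :=
  ⟨GLn.counit_det, GLn.comul_det⟩

theorem isGroupLike_Dinv : IsGroupLikeElem k (GLn.Dinv : GLn n k) :=
  ⟨GLn.counit_Dinv, GLn.comul_Dinv⟩

theorem main (χ : GLn n k) :
    IsGroupLikeElem k χ ↔
      ∃ m : ℕ, χ = (GLn.det : GLn n k) ^ m ∨ χ = (GLn.Dinv : GLn n k) ^ m := by
  constructor
  · intro h
    obtain ⟨c, m, hc, hcm⟩ := unit_eq χ h.isUnit
    have h1 := h.counit_eq_one
    refine ⟨m, ?_⟩
    rcases hcm with hcm | hcm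
    · left
      rw [hcm, map_smul] at h1
      have h2 : Coalgebra.counit (R := k) ((GLn.det : GLn n k) ^ m) = 1 :=
        (isGroupLike_det.pow).counit_eq_one
      rw [h2, smul_eq_mul, mul_one] at h1
      rw [hcm, h1, one_smul]
    · right
      rw [hcm, map_smul] at h1
      have h2 : Coalgebra.counit (R := k) ((GLn.Dinv : GLn n k) ^ m) = 1 :=
        (isGroupLike_Dinv.pow).counit_eq_one
      rw [h2, smul_eq_mul, mul_one] at h1
      rw [hcm, h1, one_smul]
  · rintro ⟨m, rfl | rfl⟩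
    · exact isGroupLike_det.pow
    · exact isGroupLike_Dinv.pow

end Groth.Agent.Helper7.GLnChar
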