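import Mathlib
import Groth.Agent.Helper9.Null

/-!
# Rational points of constructible sets and of images (helper7)
-/

set_option autoImplicit false
set_option linter.unusedSectionVars false
universe u v w

namespace Groth.Agent.Helper7.OrbFin

open PrimeSpectrum Topology

section

variable {k : Type u} [Field k] [IsAlgClosed k]

/-- the point of `Spec R` given by a rational point -/
def ptOf {R : Type v} [CommRing R] [Algebra k R] (z : R →ₐ[k] k) : PrimeSpectrum R :=
  ⟨RingHom.ker z, RingHom.ker_isPrime z⟩

/-- a rational point in the image of `Spec A → Spec R` is the image of a rational point -/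
theorem exists_algHom_of_mem_range {A : Type v} [CommRing A] [Algebra k A] [Algebra.FiniteType k A]
    {R : Type w} [CommRing R] [Algebra k R] (φ : R →ₐ[k] A) (z : R →ₐ[k] k)
    (h : ptOf z ∈ Set.range (PrimeSpectrum.comap φ.toRingHom)) :
    ∃ g : A →ₐ[k] k, g.comp φ = z := by
  obtain ⟨q, hq⟩ := h
  have hq' : RingHom.ker z = Ideal.comap φ.toRingHom q.asIdeal := by
    have := congrArg PrimeSpectrum.asIdeal hq
    exact this.symm
  have hne : Ideal.map φ.toRingHom (RingHom.ker z) ≠ ⊤ := by
    intro htop
    have hle : Ideal.map φ.toRingHom (RingHom.ker z) ≤ q.asIdeal := by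
      rw [Ideal.map_le_iff_le_comap, hq']
    rw [htop] at hle
    exact q.isPrime.ne_top (top_le_iff.mp hle)
  obtain ⟨g, hg⟩ := Groth.Agent.Helper9.exists_point_of_ne_top (k := k) _ hne
  refine ⟨g, ?_⟩
  apply AlgHom.ext
  intro f
  have hmem : f - algebraMap k R (z f) ∈ RingHom.ker z := by
    rw [RingHom.mem_ker, map_sub, AlgHom.commutes]
    simp
  have h2 := hg (Ideal.mem_map_of_mem φ.toRingHom hmem)
  rw [RingHom.mem_ker] at h2
  have h3 : g (φ (f - algebraMap k R (z f))) = 0 := h2
  rw [map_sub, map_sub, AlgHom.commutes, AlgHom.commutes, sub_eq_zero] at h3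
  have h4 : g (φ f) = z f := by simpa using h3
  exact h4

/-- a closed point of `Spec R`, `R` of finite type, is a rational point -/
theorem exists_algHom_of_isClosed_singleton {R : Type v} [CommRing R] [Algebra k R]
    [Algebra.FiniteType k R] (x : PrimeSpectrum R) (hx : IsClosed ({x} : Set (PrimeSpectrum R))) :
    ∃ z : R →ₐ[k] k, ptOf z = x := by
  have hxmax : x.asIdeal.IsMaximal := (isClosed_singleton_iff_isMaximal x).mp hx
  obtain ⟨z, hz⟩ := Groth.Agent.Helper9.exists_point_of_ne_top (k := k) x.asIdeal hxmax.ne_top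
  refine ⟨z, ?_⟩
  apply PrimeSpectrum.ext
  change RingHom.ker z = x.asIdeal
  exact (hxmax.eq_of_le (RingHom.ker_ne_top z.toRingHom) hz).symm

/-- a non-empty constructible subset of `Spec R` contains a rational point -/
theorem exists_algHom_mem_of_isConstructible {R : Type v} [CommRing R] [Algebra k R]
    [Algebra.FiniteType k R] (E : Set (PrimeSpectrum R)) (hE : IsConstructible E) (hne : E.Nonempty) :
    ∃ z : R →ₐ[k] k, ptOf z ∈ E := by
  classical
  haveI : IsJacobsonRing R := isJacobsonRing_of_finiteType (A := k) (B := R)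
  haveI : JacobsonSpace (PrimeSpectrum R) := PrimeSpectrum.isJacobsonRing_iff_jacobsonSpace.mp inferInstance
  obtain ⟨S, hS⟩ := exists_constructibleSetData_iff.mpr hE
  obtain ⟨x₀, hx₀⟩ := hne
  rw [← hS, ConstructibleSetData.toSet] at hx₀
  simp only [Set.mem_iUnion] at hx₀
  obtain ⟨C, hCS, hx₀C⟩ := hx₀
  have hCsub : C.toSet ⊆ E := by
    rw [← hS, ConstructibleSetData.toSet]
    intro x hx
    simp only [Set.mem_iUnion]
    exact ⟨C, hCS, hx⟩
  have hClc : IsLocallyClosed C.toSet := by
    rw [BasicConstructibleSetData.toSet, Set.sdiff_eq]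
    exact (isClosed_zeroLocus _).isLocallyClosed.inter (isClosed_zeroLocus _).isOpen_compl.isLocallyClosed
  obtain ⟨x, hxC, hxcl⟩ := nonempty_inter_closedPoints ⟨x₀, hx₀C⟩ hClc
  obtain ⟨z, hz⟩ := exists_algHom_of_isClosed_singleton (k := k) x hxcl
  exact ⟨z, by rw [hz]; exact hCsub hxC⟩

theorem isConstructible_range_comap_algHom {A : Type v} [CommRing A] [Algebra k A]
    [Algebra.FiniteType k A] {R : Type w} [CommRing R] [Algebra k R] [Algebra.FiniteType k R]
    (φ : R →ₐ[k] A) : IsConstructible (Set.range (PrimeSpectrum.comap φ.toRingHom)) := by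
  have hft : φ.toRingHom.FiniteType := by
    have h1 : (φ.toRingHom.comp (algebraMap k R)).FiniteType := by
      have : φ.toRingHom.comp (algebraMap k R) = algebraMap k A := by
        ext c; simp
      rw [this]
      exact RingHom.finiteType_algebraMap.mpr inferInstance
    exact RingHom.FiniteType.of_comp_finiteType h1
  haveI : IsNoetherianRing R := Algebra.FiniteType.isNoetherianRing k R
  have hfp : φ.toRingHom.FinitePresentation := RingHom.FinitePresentation.of_finiteType.mp hft
  exact isConstructible_range_comap hfp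

/-- if the image of `Spec A → Spec R` is not closed, its closure has a rational point outside the image -/
theorem exists_point_closure_not_range {A : Type v} [CommRing A] [Algebra k A]
    [Algebra.FiniteType k A] {R : Type w} [CommRing R] [Algebra k R] [Algebra.FiniteType k R]
    (φ : R →ₐ[k] A) (hncl : ¬ IsClosed (Set.range (PrimeSpectrum.comap φ.toRingHom))) :
    ∃ p : R →ₐ[k] k, RingHom.ker φ ≤ RingHom.ker p ∧ ∀ g : A →ₐ[k] k, g.comp φ ≠ p := by
  classical
  haveI : IsNoetherianRing R := Algebra.FiniteType.isNoetherianRing k R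
  set E := Set.range (PrimeSpectrum.comap φ.toRingHom) with hE
  have hEc : IsConstructible E := isConstructible_range_comap_algHom φ
  have hclE : closure E = zeroLocus (RingHom.ker φ.toRingHom : Set R) :=
    closure_range_comap φ.toRingHom
  have hclc : IsConstructible (closure E) := by
    rw [hclE, ← isConstructible_compl]
    have hfg : (RingHom.ker φ.toRingHom).FG := (isNoetherianRing_iff_ideal_fg _).mp inferInstance _
    exact (isRetrocompact_zeroLocus_compl_of_fg hfg).isConstructible (isClosed_zeroLocus _).isOpen_compl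
  have hZc : IsConstructible (closure E \ E) := hclc.sdiff hEc
  have hZne : (closure E \ E).Nonempty := by
    rw [Set.nonempty_iff_ne_empty, Ne, Set.sdiff_eq_empty]
    intro hsub
    exact hncl (closure_subset_iff_isClosed.mp hsub)
  obtain ⟨p, hp⟩ := exists_algHom_mem_of_isConstructible (k := k) _ hZc hZne
  obtain ⟨hpcl, hpE⟩ := hp
  refine ⟨p, ?_, ?_⟩
  · rw [hclE, mem_zeroLocus] at hpcl
    exact hpcl
  · intro g hg
    apply hpE
    refine ⟨⟨RingHom.ker g, RingHom.ker_isPrime g⟩, ?_⟩
    apply PrimeSpectrum.ext
    change Ideal.comap φ.toRingHom (RingHom.ker g) = RingHom.ker p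
    rw [← hg]
    ext r
    simp [RingHom.mem_ker]

end

end Groth.Agent.Helper7.OrbFin
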