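import Mathlib
import Groth.Agent.Helper7.OrbFinA
import Groth.Agent.Helper9.GrpPt

/-!
# Closed orbits along a finite equivariant map (helper7)
-/

set_option autoImplicit false
set_option linter.unusedSectionVars false
universe u

namespace Groth.Agent.Helper7.OrbFin

open PrimeSpectrum Topology TensorProduct Groth.Agent.Helper9

section

variable {k : Type u} [Field k] {A : Type u} [CommRing A] [HopfAlgebra k A]
variable {R : Type u} [CommRing R] [Algebra k R] [HopfRep.Comod k A R] [GLin.IsCoactAlg k A R]

/-- the closure of an orbit is stable: the ideal of the orbit closure of `x` vanishes on the orbit of any point of it -/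
theorem ker_orbitHom_le (x p : R →ₐ[k] k) (h : GLin.InOrbitClosure k A x p) :
    RingHom.ker (GLin.orbitHom k A x) ≤ RingHom.ker (GLin.orbitHom k A p) := by
  intro f hf
  rw [RingHom.mem_ker] at hf ⊢
  rw [orbitHom_eq_zero_iff]
  intro φ
  have : act k A R φ f ∈ RingHom.ker (GLin.orbitHom k A x) := by
    rw [RingHom.mem_ker, orbitHom_eq_zero_iff]
    rw [orbitHom_eq_zero_iff] at hf
    intro ψ
    rw [act_comp]
    exact hf _
  exact h this

end

section Main

variable {k : Type u} [Field k] [IsAlgClosed k] {A : Type u} [CommRing A] [HopfAlgebra k A]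
  [Algebra.FiniteType k A]
variable {S : Type u} [CommRing S] [Algebra k S] [Algebra.FiniteType k S] [HopfRep.Comod k A S]
  [GLin.IsCoactAlg k A S]
variable {R : Type u} [CommRing R] [Algebra k R] [Algebra.FiniteType k R] [HopfRep.Comod k A R]
  [GLin.IsCoactAlg k A R]
variable [Algebra S R] [IsScalarTower k S R]

theorem orbitHom_comp
    (hequiv : ∀ s : S, HopfRep.Comod.coact (k := k) (A := A) (algebraMap S R s) =
      Algebra.TensorProduct.map (IsScalarTower.toAlgHom k S R) (AlgHom.id k A)
        (HopfRep.Comod.coact (k := k) (A := A) s))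
    (z : R →ₐ[k] k) :
    GLin.orbitHom k A (z.comp (IsScalarTower.toAlgHom k S R)) =
      (GLin.orbitHom k A z).comp (IsScalarTower.toAlgHom k S R) := by
  apply AlgHom.ext
  intro s
  show (Algebra.TensorProduct.lid k A) ((Algebra.TensorProduct.map (z.comp (IsScalarTower.toAlgHom k S R))
      (AlgHom.id k A)) (HopfRep.Comod.coact (k := k) (A := A) s)) =
    (Algebra.TensorProduct.lid k A) ((Algebra.TensorProduct.map z (AlgHom.id k A))
      (HopfRep.Comod.coact (k := k) (A := A) (algebraMap S R s)))
  rw [hequiv s]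
  congr 1
  generalize HopfRep.Comod.coact (k := k) (A := A) s = t
  induction t using TensorProduct.induction_on with
  | zero => simp
  | tmul a b => simp
  | add t₁ t₂ h₁ h₂ => simp only [map_add, h₁, h₂]

theorem actPt_comp
    (hequiv : ∀ s : S, HopfRep.Comod.coact (k := k) (A := A) (algebraMap S R s) =
      Algebra.TensorProduct.map (IsScalarTower.toAlgHom k S R) (AlgHom.id k A)
        (HopfRep.Comod.coact (k := k) (A := A) s))
    (g : A →ₐ[k] k) (z : R →ₐ[k] k) :
    (GLin.actPt k g z).comp (IsScalarTower.toAlgHom k S R) =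
      GLin.actPt k g (z.comp (IsScalarTower.toAlgHom k S R)) := by
  unfold GLin.actPt
  rw [orbitHom_comp hequiv z, AlgHom.comp_assoc]

theorem isClosedOrbit_iff_of_finite [Module.Finite S R]
    (hequiv : ∀ s : S, HopfRep.Comod.coact (k := k) (A := A) (algebraMap S R s) =
      Algebra.TensorProduct.map (IsScalarTower.toAlgHom k S R) (AlgHom.id k A)
        (HopfRep.Comod.coact (k := k) (A := A) s))
    (x : R →ₐ[k] k) :
    GLin.IsClosedOrbit k A x ↔ GLin.IsClosedOrbit k A (x.comp (IsScalarTower.toAlgHom k S R)) := by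
  classical
  set ι := IsScalarTower.toAlgHom k S R with hι
  haveI : Algebra.IsIntegral S R := Algebra.IsIntegral.of_finite S R
  have hιint : ι.toRingHom.IsIntegral := by
    have : ι.toRingHom = algebraMap S R := rfl
    rw [this]
    exact algebraMap_isIntegral_iff.mpr inferInstance
  have hrange : ∀ z : R →ₐ[k] k,
      Set.range (PrimeSpectrum.comap (GLin.orbitHom k A (z.comp ι)).toRingHom) =
        PrimeSpectrum.comap ι.toRingHom '' Set.range (PrimeSpectrum.comap (GLin.orbitHom k A z).toRingHom) := by
    intro z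
    rw [orbitHom_comp hequiv z, ← Set.range_comp]
    rfl
  constructor
  · intro hx
    unfold GLin.IsClosedOrbit
    rw [hrange x]
    exact PrimeSpectrum.isClosedMap_comap_of_isIntegral ι.toRingHom hιint _ hx
  · intro hy
    by_contra hx
    obtain ⟨p, hp1, hp2⟩ := exists_point_closure_not_range (k := k) (GLin.orbitHom k A x) hx
    have hp1' : GLin.InOrbitClosure k A x p := hp1
    -- move `p` into the fibre over `y`
    have hyp : GLin.InOrbitClosure k A (x.comp ι) (p.comp ι) := by
      intro s hs
      rw [RingHom.mem_ker] at hs ⊢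
      rw [orbitHom_comp hequiv x] at hs
      exact hp1 hs
    obtain ⟨g, hg⟩ := exists_actPt_of_closed (x.comp ι) (p.comp ι) hy hyp
    set ginv : A →ₐ[k] k := ((WithConv.toConv g)⁻¹).ofConv with hginv
    set p' := GLin.actPt k ginv p with hp'
    have hp'y : p'.comp ι = x.comp ι := by
      rw [hp', actPt_comp hequiv, ← hg, ← actPt_mul]
      have : WithConv.toConv g * WithConv.toConv ginv = 1 := mul_inv_cancel (WithConv.toConv g)
      rw [this, actPt_one]
    have hp'orb : ∀ h : A →ₐ[k] k, GLin.actPt k h x ≠ p' := by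
      intro h hh
      obtain ⟨h', hh'⟩ := same_orbit x p h ginv hh
      exact hp2 h' hh'.symm
    have hp'cl : GLin.InOrbitClosure k A x p' := by
      intro f hf
      have := ker_orbitHom_le x p hp1' hf
      rw [RingHom.mem_ker] at this ⊢
      show ginv (GLin.orbitHom k A p f) = 0
      rw [this, map_zero]
    set I := RingHom.ker (GLin.orbitHom k A x) with hI
    set I' := RingHom.ker (GLin.orbitHom k A p') with hI'
    set J := RingHom.ker (GLin.orbitHom k A (x.comp ι)) with hJ
    have hII' : I ≤ I' := ker_orbitHom_le x p' hp'cl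
    have hIJ : I.comap (algebraMap S R) = J := by
      ext s
      rw [Ideal.mem_comap, hI, hJ, RingHom.mem_ker, RingHom.mem_ker, orbitHom_comp hequiv x]
      rfl
    have hI'J : I'.comap (algebraMap S R) = J := by
      ext s
      rw [Ideal.mem_comap, hI', hJ, RingHom.mem_ker, RingHom.mem_ker, ← hp'y, orbitHom_comp hequiv p']
      rfl
    haveI : Nontrivial A := (Bialgebra.counitAlgHom k A).toRingHom.domain_nontrivial
    have hJtop : J ≠ ⊤ := RingHom.ker_ne_top _
    obtain ⟨q, hq⟩ := Ideal.nonempty_minimalPrimes hJtop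
    haveI hqprime : q.IsPrime := hq.1.1
    obtain ⟨P', hP'I, hP'prime, hP'q⟩ := Ideal.exists_ideal_over_prime_of_isIntegral q I'
      (by rw [hI'J]; exact hq.1.2)
    haveI := hP'prime
    obtain ⟨P, hP, hPP'⟩ := Ideal.exists_minimalPrimes_le hP'I
    haveI hPprime : P.IsPrime := hP.1.1
    have hPq : P.comap (algebraMap S R) = q := by
      apply le_antisymm
      · rw [← hP'q]; exact Ideal.comap_mono hPP'
      · apply hq.2 ⟨Ideal.comap_isPrime _ _, ?_⟩
        · rw [← hP'q]; exact Ideal.comap_mono hPP'
        · rw [← hI'J]; exact Ideal.comap_mono hP.1.2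
    obtain ⟨P₀, hP₀, hP₀P⟩ := Ideal.exists_minimalPrimes_le (hII'.trans hP.1.2)
    haveI hP₀prime : P₀.IsPrime := hP₀.1.1
    have hP₀q : P₀.comap (algebraMap S R) = q := by
      apply le_antisymm
      · rw [← hPq]; exact Ideal.comap_mono hP₀P
      · apply hq.2 ⟨Ideal.comap_isPrime _ _, ?_⟩
        · rw [← hPq]; exact Ideal.comap_mono hP₀P
        · rw [← hIJ]; exact Ideal.comap_mono hP₀.1.2
    have hPP₀ : P₀ = P := by
      by_contra hne
      have hlt : P₀ < P := lt_of_le_of_ne hP₀P hne
      have := Ideal.IsIntegral.comap_lt_comap (R := S) hlt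
      rw [hP₀q, hPq] at this
      exact lt_irrefl _ this
    subst hPP₀
    -- the generic point `P₀` lies in both orbits
    have hmem1 : (⟨P₀, hP₀prime⟩ : PrimeSpectrum R) ∈
        Set.range (PrimeSpectrum.comap (GLin.orbitHom k A x).toRingHom) := by
      have H : P₀ ∈ ((⊥ : Ideal A).comap (GLin.orbitHom k A x).toRingHom).minimalPrimes := by
        rw [← RingHom.ker_eq_comap_bot]; exact hP₀
      obtain ⟨Q, hQprime, -, hQ⟩ := Ideal.exists_comap_eq_of_mem_minimalPrimes _ P₀ H
      exact ⟨⟨Q, hQprime⟩, PrimeSpectrum.ext hQ⟩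
    have hmem2 : (⟨P₀, hP₀prime⟩ : PrimeSpectrum R) ∈
        Set.range (PrimeSpectrum.comap (GLin.orbitHom k A p').toRingHom) := by
      have H : P₀ ∈ ((⊥ : Ideal A).comap (GLin.orbitHom k A p').toRingHom).minimalPrimes := by
        rw [← RingHom.ker_eq_comap_bot]; exact hP
      obtain ⟨Q, hQprime, -, hQ⟩ := Ideal.exists_comap_eq_of_mem_minimalPrimes _ P₀ H
      exact ⟨⟨Q, hQprime⟩, PrimeSpectrum.ext hQ⟩
    have hcons := (isConstructible_range_comap_algHom (k := k) (GLin.orbitHom k A x)).inter
      (isConstructible_range_comap_algHom (k := k) (GLin.orbitHom k A p'))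
    obtain ⟨z, hz1, hz2⟩ := exists_algHom_mem_of_isConstructible (k := k) _ hcons ⟨_, hmem1, hmem2⟩
    obtain ⟨g1, hg1⟩ := exists_algHom_of_mem_range (GLin.orbitHom k A x) z hz1
    obtain ⟨g2, hg2⟩ := exists_algHom_of_mem_range (GLin.orbitHom k A p') z hz2
    have heq : GLin.actPt k g1 x = GLin.actPt k g2 p' := by
      show g1.comp _ = g2.comp _
      rw [hg1, hg2]
    obtain ⟨h', hh'⟩ := same_orbit x p' g1 g2 heq
    exact hp'orb h' hh'.symm

end Main

end Groth.Agent.Helper7.OrbFin
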