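import Mathlib
import Groth.Agent.Helper7.OrbFinB
import Groth.Agent.Helper7.HopfCartier
import Groth.Agent.Helper2.PtsDense
import Groth.Agent.Helper2.LinRedSplit

/-!
# The closed orbit in a fibre of the affine quotient (helper7)
-/

set_option autoImplicit false
set_option linter.unusedSectionVars false
universe u

namespace Groth.Agent.Helper7.OrbFin

open PrimeSpectrum Topology TensorProduct Groth.Agent.Helper9

section

variable {k : Type u} [Field k] [IsAlgClosed k] {A : Type u} [CommRing A] [HopfAlgebra k A]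
  [Algebra.FiniteType k A]
variable {R : Type u} [CommRing R] [Algebra k R] [Algebra.FiniteType k R] [HopfRep.Comod k A R]
  [GLin.IsCoactAlg k A R]

theorem apply_comodAct (y : R →ₐ[k] k) (g : A →ₐ[k] k) (f : R) :
    y (HopfRep.Comod.act k A R g f) = GLin.actPt k g y f := by
  have := apply_orbitHom y g.toLinearMap f
  exact this.symm

theorem ker_orbitHom_le_ker (y : R →ₐ[k] k) :
    RingHom.ker (GLin.orbitHom k A y) ≤ RingHom.ker y := by
  intro f hf
  rw [RingHom.mem_ker] at hf ⊢
  have h1 : GLin.actPt k (1 : WithConv (A →ₐ[k] k)).ofConv y f = y f := by rw [actPt_one]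
  rw [← h1]
  show (1 : WithConv (A →ₐ[k] k)).ofConv (GLin.orbitHom k A y f) = 0
  rw [hf, map_zero]

theorem actPt_inv_actPt (g : A →ₐ[k] k) (y : R →ₐ[k] k) :
    GLin.actPt k ((WithConv.toConv g)⁻¹).ofConv (GLin.actPt k g y) = y := by
  rw [← actPt_mul]
  have : WithConv.toConv g * WithConv.toConv ((WithConv.toConv g)⁻¹).ofConv = 1 :=
    mul_inv_cancel (WithConv.toConv g)
  rw [this, actPt_one]

/-- two rational points with the same orbit-closure ideal lie in the same orbit -/
theorem exists_actPt_of_ker_eq (y z : R →ₐ[k] k)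
    (h : RingHom.ker (GLin.orbitHom k A y) = RingHom.ker (GLin.orbitHom k A z)) :
    ∃ g : A →ₐ[k] k, z = GLin.actPt k g y := by
  classical
  haveI : Nontrivial A := (Bialgebra.counitAlgHom k A).toRingHom.domain_nontrivial
  have hJtop : RingHom.ker (GLin.orbitHom k A y) ≠ ⊤ := RingHom.ker_ne_top _
  obtain ⟨P₀, hP₀⟩ := Ideal.nonempty_minimalPrimes hJtop
  haveI hP₀prime : P₀.IsPrime := hP₀.1.1
  have hmem1 : (⟨P₀, hP₀prime⟩ : PrimeSpectrum R) ∈
      Set.range (PrimeSpectrum.comap (GLin.orbitHom k A y).toRingHom) := by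
    have H : P₀ ∈ ((⊥ : Ideal A).comap (GLin.orbitHom k A y).toRingHom).minimalPrimes := by
      rw [← RingHom.ker_eq_comap_bot]; exact hP₀
    obtain ⟨Q, hQprime, -, hQ⟩ := Ideal.exists_comap_eq_of_mem_minimalPrimes _ P₀ H
    exact ⟨⟨Q, hQprime⟩, PrimeSpectrum.ext hQ⟩
  have hmem2 : (⟨P₀, hP₀prime⟩ : PrimeSpectrum R) ∈
      Set.range (PrimeSpectrum.comap (GLin.orbitHom k A z).toRingHom) := by
    have H : P₀ ∈ ((⊥ : Ideal A).comap (GLin.orbitHom k A z).toRingHom).minimalPrimes := by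
      rw [← RingHom.ker_eq_comap_bot]
      have : RingHom.ker (GLin.orbitHom k A z).toRingHom = RingHom.ker (GLin.orbitHom k A y) := h.symm
      rw [this]; exact hP₀
    obtain ⟨Q, hQprime, -, hQ⟩ := Ideal.exists_comap_eq_of_mem_minimalPrimes _ P₀ H
    exact ⟨⟨Q, hQprime⟩, PrimeSpectrum.ext hQ⟩
  have hcons := (isConstructible_range_comap_algHom (k := k) (GLin.orbitHom k A y)).inter
    (isConstructible_range_comap_algHom (k := k) (GLin.orbitHom k A z))
  obtain ⟨w, hw1, hw2⟩ := exists_algHom_mem_of_isConstructible (k := k) _ hcons ⟨_, hmem1, hmem2⟩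
  obtain ⟨g1, hg1⟩ := exists_algHom_of_mem_range (GLin.orbitHom k A y) w hw1
  obtain ⟨g2, hg2⟩ := exists_algHom_of_mem_range (GLin.orbitHom k A z) w hw2
  have heq : GLin.actPt k g1 y = GLin.actPt k g2 z := by
    show g1.comp _ = g2.comp _
    rw [hg1, hg2]
  exact same_orbit y z g1 g2 heq

theorem mem_ker_orbitHom_iff [IsReduced A] (y : R →ₐ[k] k) (f : R) :
    f ∈ RingHom.ker (GLin.orbitHom k A y) ↔
      ∀ g : A →ₐ[k] k, y (HopfRep.Comod.act k A R g f) = 0 := by
  rw [RingHom.mem_ker]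
  constructor
  · intro h g
    rw [apply_comodAct]
    show g (GLin.orbitHom k A y f) = 0
    rw [h, map_zero]
  · intro h
    apply Groth.Agent.Helper2.PtsDense.eq_zero_of_forall_algHom' (k := k)
    intro g
    have := h g
    rw [apply_comodAct] at this
    exact this

theorem sameInv_of_inOrbitClosure (y z : R →ₐ[k] k) (h : GLin.InOrbitClosure k A y z) (f : R)
    (hf : f ∈ HopfRep.fixedPts k A R) : z f = y f := by
  have hmem : f - algebraMap k R (y f) ∈ RingHom.ker (GLin.orbitHom k A y) := by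
    rw [RingHom.mem_ker, map_sub, orbitHom_invariant y f hf, AlgHom.commutes, sub_self]
  have := h hmem
  rw [RingHom.mem_ker, map_sub, AlgHom.commutes, sub_eq_zero] at this
  simpa using this

/-- every fibre of the quotient contains a rational point with closed orbit -/
theorem exists_closed (x : R →ₐ[k] k) :
    ∃ y : R →ₐ[k] k, (∀ f ∈ HopfRep.fixedPts k A R, y f = x f) ∧
      ∀ z : R →ₐ[k] k, GLin.InOrbitClosure k A y z → ∃ g : A →ₐ[k] k, z = GLin.actPt k g y := by
  haveI : IsNoetherianRing R := Algebra.FiniteType.isNoetherianRing k R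
  let S : Set (Ideal R) := {J | ∃ p : R →ₐ[k] k, (∀ f ∈ HopfRep.fixedPts k A R, p f = x f) ∧
    J = RingHom.ker (GLin.orbitHom k A p)}
  have hS : S.Nonempty := ⟨_, x, fun _ _ => rfl, rfl⟩
  obtain ⟨J, ⟨y, hy, rfl⟩, hmax⟩ := set_has_maximal_iff_noetherian.mpr inferInstance S hS
  refine ⟨y, hy, fun z hz => ?_⟩
  apply exists_actPt_of_ker_eq
  have hle := ker_orbitHom_le y z hz
  have hzS : RingHom.ker (GLin.orbitHom k A z) ∈ S :=
    ⟨z, fun f hf => by rw [sameInv_of_inOrbitClosure y z hz f hf, hy f hf], rfl⟩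
  by_contra hne
  exact hmax _ hzS (lt_of_le_of_ne hle hne)

/-- a closed orbit lies in the closure of every orbit of its fibre -/
theorem inOrbitClosure_of_sameInv (hG : HopfRep.IsLinearlyReductive k A) (x' y : R →ₐ[k] k)
    (hinv : ∀ f ∈ HopfRep.fixedPts k A R, x' f = y f)
    (hcl : ∀ z : R →ₐ[k] k, GLin.InOrbitClosure k A y z → ∃ g : A →ₐ[k] k, z = GLin.actPt k g y) :
    GLin.InOrbitClosure k A x' y := by
  have hss : HopfRep.IsSemisimpleComod k A R :=
    fun W hW => Groth.Agent.Helper2.LinRedSplit.exists_compl hG W hW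
  obtain ⟨E, hE₁, hE₂, hE₃⟩ := exists_reynolds hss
  have hne : RingHom.ker (GLin.orbitHom k A x') ⊔ RingHom.ker (GLin.orbitHom k A y) ≠ ⊤ := by
    intro htop
    have h1 : (1 : R) ∈ RingHom.ker (GLin.orbitHom k A x') ⊔ RingHom.ker (GLin.orbitHom k A y) := by
      rw [htop]; trivial
    obtain ⟨a, ha, b, hb, hab⟩ := Submodule.mem_sup.mp h1
    have hEa : E a ∈ RingHom.ker (GLin.orbitHom k A x') :=
      reynolds_mem hss E hE₁ hE₂ hE₃ ((RingHom.ker (GLin.orbitHom k A x')).restrictScalars k)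
        (isSubcomod_ker_orbitHom x') a ha
    have hEb : E b ∈ RingHom.ker (GLin.orbitHom k A y) :=
      reynolds_mem hss E hE₁ hE₂ hE₃ ((RingHom.ker (GLin.orbitHom k A y)).restrictScalars k)
        (isSubcomod_ker_orbitHom y) b hb
    have hEa_inv : E a ∈ HopfRep.fixedPts k A R := (hE₃ _).mp (hE₂ a)
    have hx'a : x' (E a) = 0 := ker_orbitHom_le_ker x' hEa
    have hyb : y (E b) = 0 := ker_orbitHom_le_ker y hEb
    have hya : y (E a) = 0 := by rw [← hinv _ hEa_inv]; exact hx'a
    have h1inv : (1 : R) ∈ HopfRep.fixedPts k A R := (GLin.invariants k A R).one_mem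
    have hE1 : E 1 = 1 := (hE₃ 1).mpr h1inv
    have : y 1 = 0 := by
      rw [← hE1, ← hab, map_add, map_add, hya, hyb, add_zero]
    rw [map_one] at this
    exact one_ne_zero this
  obtain ⟨w, hw⟩ := exists_point_of_ne_top (k := k) _ hne
  obtain ⟨g, hg⟩ := hcl w (le_sup_right.trans hw)
  have h1 : GLin.InOrbitClosure k A x' w := le_sup_left.trans hw
  have h2 := ker_orbitHom_le x' w h1
  intro f hf
  have h3 := h2 hf
  rw [RingHom.mem_ker] at h3 ⊢
  have hy : y = GLin.actPt k ((WithConv.toConv g)⁻¹).ofConv w := by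
    rw [hg, actPt_inv_actPt]
  rw [hy]
  show ((WithConv.toConv g)⁻¹).ofConv (GLin.orbitHom k A w f) = 0
  rw [h3, map_zero]

end

end Groth.Agent.Helper7.OrbFin
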