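import Mathlib
import Groth.Agent.Helper7.FibCone3
import Groth.Agent.Helper7.OrbFinA

/-!
# Dimension inequalities for finite type algebras and quasi-finite maps (helper7)
-/

set_option autoImplicit false
set_option linter.unusedSectionVars false
set_option linter.style.haveILetI false
universe u v w

namespace Groth.Agent.Helper7.OrbFin

open PrimeSpectrum Topology

section dim

/-- an injective map of finite type algebras over a field does not lower the dimension of the target -/
theorem ringKrullDim_le_of_injective (k : Type u) [Field k] (B : Type v) [CommRing B] [Algebra k B]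
    [Algebra.FiniteType k B] (A : Type w) [CommRing A] [Algebra k A] [Algebra.FiniteType k A]
    (φ : B →ₐ[k] A) (hφ : Function.Injective φ) : ringKrullDim B ≤ ringKrullDim A := by
  by_cases hB : Subsingleton B
  · rw [ringKrullDim_eq_bot_of_subsingleton]
    exact bot_le
  haveI : Nontrivial B := not_subsingleton_iff_nontrivial.mp hB
  obtain ⟨s, h, hinj, hfin⟩ := exists_finite_inj_algHom_of_fg k B
  have hdim : ringKrullDim B = s := by
    letI : Algebra (MvPolynomial (Fin s) k) B := h.toRingHom.toAlgebra
    haveI : Module.Finite (MvPolynomial (Fin s) k) B := hfin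
    haveI : Algebra.IsIntegral (MvPolynomial (Fin s) k) B := Algebra.IsIntegral.of_finite _ _
    have h1 := NN.ringKrullDim_eq_of_isIntegral_of_injective
      (R := MvPolynomial (Fin s) k) (S := B) hinj
    rw [h1, MvPolynomial.ringKrullDim_of_isNoetherianRing, ringKrullDim_eq_zero_of_field]
    simp
  rw [hdim]
  have := FibCone.le_ringKrullDim_of_injective k A s (φ.comp h) (hφ.comp hinj)
  exact_mod_cast this

variable {R : Type*} [CommRing R]

set_option backward.isDefEq.respectTransparency false in
/-- if no minimal prime of `J` contains `J'`, the dimension drops from `R/J` to `R/J'` -/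
theorem ringKrullDim_quotient_succ_le (J J' : Ideal R) (hJJ' : J ≤ J')
    (h : ∀ q ∈ J.minimalPrimes, ¬ J' ≤ q) :
    ringKrullDim (R ⧸ J') + 1 ≤ ringKrullDim (R ⧸ J) := by
  by_cases hJ' : J' = ⊤
  · haveI : Subsingleton (R ⧸ J') := Ideal.Quotient.subsingleton_iff.mpr hJ'
    rw [ringKrullDim_eq_bot_of_subsingleton]
    simp
  have hne' : Nonempty (PrimeSpectrum.zeroLocus (R := R) J') := by
    rwa [Set.nonempty_coe_sort, Set.nonempty_iff_ne_empty, ne_eq,
      PrimeSpectrum.zeroLocus_empty_iff_eq_top]
  have hne : Nonempty (PrimeSpectrum.zeroLocus (R := R) J) := by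
    obtain ⟨p, hp⟩ := hne'
    exact ⟨⟨p, fun x hx => hp (hJJ' hx)⟩⟩
  rw [ringKrullDim_quotient, ringKrullDim_quotient, Order.krullDim_eq_iSup_length,
    Order.krullDim_eq_iSup_length, ← WithBot.coe_one, ← WithBot.coe_add,
    ENat.iSup_add, WithBot.coe_le_coe, iSup_le_iff]
  intro l
  have hhead : J ≤ l.head.1.asIdeal := fun x hx => l.head.2 (hJJ' hx)
  obtain ⟨p, hp, hp'⟩ := Ideal.exists_minimalPrimes_le hhead
  let p' : PrimeSpectrum.zeroLocus (R := R) J := ⟨⟨p, hp.1.1⟩, hp.1.2⟩
  let incl : PrimeSpectrum.zeroLocus (R := R) J' → PrimeSpectrum.zeroLocus (R := R) J :=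
    fun q => ⟨q.1, fun x hx => q.2 (hJJ' hx)⟩
  have hincl : StrictMono incl := fun a b hab => hab
  have hlt : p' < incl l.head := by
    refine lt_of_le_of_ne hp' fun heq => h p hp ?_
    have h1 : p = l.head.1.asIdeal := congrArg (fun q => q.1.asIdeal) heq
    rw [h1]
    exact l.head.2
  refine le_trans ?_ (le_iSup _ ((l.map incl hincl).cons p' hlt))
  simp

/-- a map which is quasi-finite at every prime does not raise the dimension -/
theorem ringKrullDim_le_quotient_ker_of_quasiFiniteAt {A : Type*} [CommRing A] [Algebra R A]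
    (hq : ∀ (P : Ideal A) [P.IsPrime], Algebra.QuasiFiniteAt R P) :
    ringKrullDim A ≤ ringKrullDim (R ⧸ RingHom.ker (algebraMap R A)) := by
  rw [ringKrullDim_quotient]
  let f : PrimeSpectrum A → PrimeSpectrum.zeroLocus (R := R) (RingHom.ker (algebraMap R A)) :=
    fun P => ⟨PrimeSpectrum.comap (algebraMap R A) P, by
      intro x hx
      have hx' : algebraMap R A x = 0 := hx
      show algebraMap R A x ∈ P.asIdeal
      rw [hx']
      exact P.asIdeal.zero_mem⟩
  refine Order.krullDim_le_of_strictMono f ?_
  intro P Q hPQ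
  refine lt_of_le_of_ne (Ideal.comap_mono (f := algebraMap R A) hPQ.le) ?_
  intro h
  have h2 : P.asIdeal.under R = Q.asIdeal.under R := congrArg (fun q => q.1.asIdeal) h
  haveI := hq Q.asIdeal
  have h3 := Algebra.QuasiFiniteAt.eq_of_le_of_under_eq (R := R) hPQ.le h2
  exact hPQ.ne (PrimeSpectrum.ext h3)

end dim

end Groth.Agent.Helper7.OrbFin
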