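import Mathlib
import Groth.Agent.Helper7.OrbFinD

/-!
# Quasi-finiteness from finiteness of rational fibres (helper7)
-/

set_option autoImplicit false
set_option linter.unusedSectionVars false
set_option linter.style.haveILetI false
universe u v w

namespace Groth.Agent.Helper7.OrbFin

open PrimeSpectrum Topology

section

variable {k : Type u} [Field k] [IsAlgClosed k]

/-- every maximal ideal of a finite type algebra is the kernel of a rational point -/
theorem exists_algHom_ker_eq {A : Type v} [CommRing A] [Algebra k A] [Algebra.FiniteType k A]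
    (M : Ideal A) (hM : M.IsMaximal) : ∃ h : A →ₐ[k] k, RingHom.ker h = M := by
  obtain ⟨h, hh⟩ := Groth.Agent.Helper9.exists_point_of_ne_top (k := k) M hM.ne_top
  exact ⟨h, (hM.eq_of_le (RingHom.ker_ne_top h.toRingHom) hh).symm⟩

/-- if only finitely many rational points lie on `V(I)`, every prime containing `I` is the kernel of
one of them -/
theorem exists_algHom_ker_eq_of_finite {A : Type v} [CommRing A] [Algebra k A]
    [Algebra.FiniteType k A] (I : Ideal A)
    (hfin : {h : A →ₐ[k] k | I ≤ RingHom.ker h}.Finite) (P : Ideal A) [hP : P.IsPrime] (hIP : I ≤ P) :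
    ∃ h : A →ₐ[k] k, RingHom.ker h = P := by
  classical
  haveI : IsJacobsonRing A := isJacobsonRing_of_finiteType (A := k) (B := A)
  have hjac : P.jacobson = P := IsJacobsonRing.out' _ hP.isRadical
  set 𝓜 : Set (Ideal A) := {J | P ≤ J ∧ J.IsMaximal} with h𝓜
  have hsub : 𝓜 ⊆ (fun h : A →ₐ[k] k => RingHom.ker h) '' {h : A →ₐ[k] k | I ≤ RingHom.ker h} := by
    rintro M ⟨hPM, hM⟩
    obtain ⟨h, hh⟩ := exists_algHom_ker_eq (k := k) M hM
    exact ⟨h, by show I ≤ RingHom.ker h; rw [hh]; exact hIP.trans hPM, hh⟩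
  have h𝓜fin : 𝓜.Finite := (hfin.image _).subset hsub
  have hinf : h𝓜fin.toFinset.inf id ≤ P := by
    rw [Finset.inf_id_eq_sInf, Set.Finite.coe_toFinset]
    exact hjac.le
  obtain ⟨M, hM𝓜, hMP⟩ := hP.inf_le'.mp hinf
  rw [Set.Finite.mem_toFinset] at hM𝓜
  obtain ⟨hPM, hM⟩ := hM𝓜
  obtain ⟨h, hh⟩ := exists_algHom_ker_eq (k := k) M hM
  exact ⟨h, hh.trans (le_antisymm hMP hPM)⟩

end

section

variable {R : Type*} [CommRing R] {A : Type*} [CommRing A] [Algebra R A] [Algebra.FiniteType R A]

/-- a prime whose fibre is finite and consists of closed points is a point of quasi-finiteness -/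
theorem quasiFiniteAt_of_finite_fibre (q : PrimeSpectrum A)
    (hfin : (PrimeSpectrum.comap (algebraMap R A) ⁻¹' {q.comap (algebraMap R A)}).Finite)
    (hcl : ∀ Q ∈ PrimeSpectrum.comap (algebraMap R A) ⁻¹' {q.comap (algebraMap R A)},
      IsClosed ({Q} : Set (PrimeSpectrum A))) :
    Algebra.QuasiFiniteAt R q.asIdeal := by
  apply Algebra.QuasiFiniteAt.of_isOpen_singleton_fiber
  haveI : Finite (PrimeSpectrum.comap (algebraMap R A) ⁻¹' {q.comap (algebraMap R A)}) :=
    hfin.to_subtype
  haveI : T1Space (PrimeSpectrum.comap (algebraMap R A) ⁻¹' {q.comap (algebraMap R A)}) := by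
    refine ⟨fun Q => ?_⟩
    have h1 := (hcl Q.1 Q.2).preimage (continuous_subtype_val
      (p := fun Q => Q ∈ PrimeSpectrum.comap (algebraMap R A) ⁻¹' {q.comap (algebraMap R A)}))
    convert h1 using 1
    ext Q'
    simp [Subtype.ext_iff]
  exact isOpen_discrete _

end

section

variable {k : Type u} [Field k] [IsAlgClosed k]

/-- a map of finite type algebras with finite rational fibres is quasi-finite at every prime -/
theorem quasiFiniteAt_of_finite_rational_fibres {R : Type v} [CommRing R] [Algebra k R]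
    [Algebra.FiniteType k R] {A : Type w} [CommRing A] [Algebra k A] [Algebra.FiniteType k A]
    [Algebra R A] [IsScalarTower k R A]
    (hfib : ∀ g : A →ₐ[k] k, {h : A →ₐ[k] k |
      h.comp (IsScalarTower.toAlgHom k R A) = g.comp (IsScalarTower.toAlgHom k R A)}.Finite)
    (P : Ideal A) [hP : P.IsPrime] : Algebra.QuasiFiniteAt R P := by
  classical
  haveI : Algebra.FiniteType R A := Algebra.FiniteType.of_restrictScalars_finiteType k R A
  obtain ⟨M, hM, hPM⟩ := Ideal.exists_le_maximal P hP.ne_top
  haveI := hM.isPrime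
  suffices Algebra.QuasiFiniteAt R M from Algebra.QuasiFiniteAt.of_le hPM
  obtain ⟨g, hg⟩ := exists_algHom_ker_eq (k := k) M hM
  set φ := IsScalarTower.toAlgHom k R A with hφ
  set m : Ideal R := RingHom.ker (g.comp φ) with hm
  set I : Ideal A := Ideal.map (algebraMap R A) m with hI
  -- rational points on `V(I)`
  have hT : {h : A →ₐ[k] k | I ≤ RingHom.ker h} ⊆ {h : A →ₐ[k] k | h.comp φ = g.comp φ} := by
    intro h hh
    apply AlgHom.ext
    intro f
    have hmem : f - algebraMap k R ((g.comp φ) f) ∈ m := by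
      rw [hm, RingHom.mem_ker, map_sub, AlgHom.commutes]
      simp
    have h2 := hh (Ideal.mem_map_of_mem (algebraMap R A) hmem)
    rw [RingHom.mem_ker] at h2
    have h3 : h (φ (f - algebraMap k R ((g.comp φ) f))) = 0 := h2
    rw [map_sub, map_sub, AlgHom.commutes, AlgHom.commutes, sub_eq_zero] at h3
    simpa using h3
  have hTfin : {h : A →ₐ[k] k | I ≤ RingHom.ker h}.Finite := (hfib g).subset hT
  let q : PrimeSpectrum A := ⟨M, hM.isPrime⟩
  have hfibre : ∀ Q ∈ PrimeSpectrum.comap (algebraMap R A) ⁻¹' {q.comap (algebraMap R A)},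
      ∃ h : A →ₐ[k] k, I ≤ RingHom.ker h ∧ RingHom.ker h = Q.asIdeal := by
    intro Q hQ
    have hQ' : Q.asIdeal.comap (algebraMap R A) = M.comap (algebraMap R A) :=
      congrArg PrimeSpectrum.asIdeal hQ
    have hIQ : I ≤ Q.asIdeal := by
      rw [hI, Ideal.map_le_iff_le_comap, hQ', ← hg]
      intro f hf
      exact hf
    obtain ⟨h, hh⟩ := exists_algHom_ker_eq_of_finite (k := k) I hTfin Q.asIdeal hIQ
    exact ⟨h, hh ▸ hIQ, hh⟩
  have hq : Algebra.QuasiFiniteAt R q.asIdeal := by
    apply quasiFiniteAt_of_finite_fibre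
    · refine (hTfin.image (fun h => (⟨RingHom.ker h, RingHom.ker_isPrime h⟩ : PrimeSpectrum A))).subset ?_
      intro Q hQ
      obtain ⟨h, hh1, hh2⟩ := hfibre Q hQ
      exact ⟨h, hh1, PrimeSpectrum.ext hh2⟩
    · intro Q hQ
      obtain ⟨h, -, hh2⟩ := hfibre Q hQ
      rw [PrimeSpectrum.isClosed_singleton_iff_isMaximal, ← hh2]
      exact RingHom.ker_isMaximal_of_surjective h.toRingHom
        (fun c => ⟨algebraMap k A c, by simp⟩)
  exact hq

/-- a map of finite type algebras with finite rational fibres does not raise the dimension -/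
theorem ringKrullDim_le_of_finite_rational_fibres {R : Type v} [CommRing R] [Algebra k R]
    [Algebra.FiniteType k R] {A : Type w} [CommRing A] [Algebra k A] [Algebra.FiniteType k A]
    (φ : R →ₐ[k] A)
    (hfib : ∀ g : A →ₐ[k] k, {h : A →ₐ[k] k | h.comp φ = g.comp φ}.Finite) :
    ringKrullDim A ≤ ringKrullDim (R ⧸ RingHom.ker φ) := by
  letI : Algebra R A := φ.toRingHom.toAlgebra
  haveI : IsScalarTower k R A := IsScalarTower.of_algebraMap_eq (fun c => (φ.commutes c).symm)
  have hφ : IsScalarTower.toAlgHom k R A = φ := by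
    apply AlgHom.ext; intro f; rfl
  have := ringKrullDim_le_quotient_ker_of_quasiFiniteAt (R := R) (A := A)
    (fun P _ => quasiFiniteAt_of_finite_rational_fibres (k := k) (R := R) (A := A)
      (by rw [hφ]; exact hfib) P)
  exact this

end

end Groth.Agent.Helper7.OrbFin
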