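import Mathlib
import Groth.Agent.Helper7.OrbFinC
import Groth.Agent.Helper7.OrbFinE

/-!
# An orbit in the boundary of another orbit has infinite stabiliser (helper7)
-/

set_option autoImplicit false
set_option linter.unusedSectionVars false
set_option linter.style.haveILetI false
universe u

namespace Groth.Agent.Helper7.OrbFin

open PrimeSpectrum Topology TensorProduct Groth.Agent.Helper9

section

/-- a non-trivial finite type algebra over a field has finite Krull dimension -/
theorem exists_nat_ringKrullDim_eq (k : Type*) [Field k] (B : Type*) [CommRing B] [Algebra k B]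
    [Algebra.FiniteType k B] [Nontrivial B] : ∃ s : ℕ, ringKrullDim B = s := by
  obtain ⟨s, h, hinj, hfin⟩ := exists_finite_inj_algHom_of_fg k B
  refine ⟨s, ?_⟩
  letI : Algebra (MvPolynomial (Fin s) k) B := h.toRingHom.toAlgebra
  haveI : Module.Finite (MvPolynomial (Fin s) k) B := hfin
  haveI : Algebra.IsIntegral (MvPolynomial (Fin s) k) B := Algebra.IsIntegral.of_finite _ _
  have h1 := NN.ringKrullDim_eq_of_isIntegral_of_injective
    (R := MvPolynomial (Fin s) k) (S := B) hinj
  rw [h1, MvPolynomial.ringKrullDim_of_isNoetherianRing, ringKrullDim_eq_zero_of_field]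
  simp

theorem isConstructible_zeroLocus {R : Type*} [CommRing R] [IsNoetherianRing R] (I : Ideal R) :
    IsConstructible (zeroLocus (I : Set R)) := by
  rw [← isConstructible_compl]
  have hfg : I.FG := (isNoetherianRing_iff_ideal_fg _).mp inferInstance _
  exact (isRetrocompact_zeroLocus_compl_of_fg hfg).isConstructible (isClosed_zeroLocus _).isOpen_compl

end

section

variable {k : Type u} [Field k] [IsAlgClosed k] {A : Type u} [CommRing A] [HopfAlgebra k A]
  [Algebra.FiniteType k A]
variable {R : Type u} [CommRing R] [Algebra k R] [Algebra.FiniteType k R] [HopfRep.Comod k A R]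
  [GLin.IsCoactAlg k A R]

theorem actPt_actPt_inv (g : A →ₐ[k] k) (y : R →ₐ[k] k) :
    GLin.actPt k g (GLin.actPt k ((WithConv.toConv g)⁻¹).ofConv y) = y := by
  rw [← actPt_mul]
  have : WithConv.toConv ((WithConv.toConv g)⁻¹).ofConv * WithConv.toConv g = 1 :=
    inv_mul_cancel (WithConv.toConv g)
  rw [this, actPt_one]

/-- the ideal of the orbit closure only depends on the orbit -/
theorem ker_orbitHom_actPt (g : A →ₐ[k] k) (y : R →ₐ[k] k) :
    RingHom.ker (GLin.orbitHom k A (GLin.actPt k g y)) = RingHom.ker (GLin.orbitHom k A y) := by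
  have key : ∀ (g : A →ₐ[k] k) (y : R →ₐ[k] k),
      RingHom.ker (GLin.orbitHom k A y) ≤ RingHom.ker (GLin.orbitHom k A (GLin.actPt k g y)) := by
    intro g y
    apply ker_orbitHom_le
    intro f hf
    rw [RingHom.mem_ker] at hf ⊢
    show g (GLin.orbitHom k A y f) = 0
    rw [hf, map_zero]
  apply le_antisymm _ (key g y)
  have := key ((WithConv.toConv g)⁻¹).ofConv (GLin.actPt k g y)
  rwa [actPt_inv_actPt] at this

/-- finite stabiliser: the rational fibres of the orbit map are finite -/
theorem finite_fibre_of_finite_stab (x : R →ₐ[k] k)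
    (hfin : {g : A →ₐ[k] k | GLin.actPt k g x = x}.Finite) (g : A →ₐ[k] k) :
    {h : A →ₐ[k] k | h.comp (GLin.orbitHom k A x) = g.comp (GLin.orbitHom k A x)}.Finite := by
  refine (hfin.image (fun s => (WithConv.toConv s * WithConv.toConv g).ofConv)).subset ?_
  intro h hh
  have hh' : GLin.actPt k h x = GLin.actPt k g x := hh
  refine ⟨(WithConv.toConv h * (WithConv.toConv g)⁻¹).ofConv, ?_, ?_⟩
  · show GLin.actPt k (WithConv.toConv h * WithConv.toConv ((WithConv.toConv g)⁻¹).ofConv).ofConv x = x
    rw [actPt_mul, hh', actPt_inv_actPt]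
  · show (WithConv.toConv h * (WithConv.toConv g)⁻¹ * WithConv.toConv g).ofConv = h
    rw [inv_mul_cancel_right]

/-- finite stabiliser: the orbit has the dimension of the group -/
theorem ringKrullDim_le_of_finite_stab (x : R →ₐ[k] k)
    (hfin : {g : A →ₐ[k] k | GLin.actPt k g x = x}.Finite) :
    ringKrullDim A ≤ ringKrullDim (R ⧸ RingHom.ker (GLin.orbitHom k A x)) :=
  ringKrullDim_le_of_finite_rational_fibres (k := k) (GLin.orbitHom k A x)
    (finite_fibre_of_finite_stab x hfin)

/-- **a point with finite stabiliser in the closure of an orbit lies in that orbit** -/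
theorem exists_actPt_of_finite_stab (x y : R →ₐ[k] k)
    (hfin : {g : A →ₐ[k] k | GLin.actPt k g x = x}.Finite)
    (hcl : GLin.InOrbitClosure k A y x) : ∃ g : A →ₐ[k] k, x = GLin.actPt k g y := by
  classical
  haveI : IsNoetherianRing R := Algebra.FiniteType.isNoetherianRing k R
  haveI : Nontrivial A := (Bialgebra.counitAlgHom k A).toRingHom.domain_nontrivial
  set Jx := RingHom.ker (GLin.orbitHom k A x) with hJx
  set Jy := RingHom.ker (GLin.orbitHom k A y) with hJy
  have hle : Jy ≤ Jx := ker_orbitHom_le y x hcl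
  by_cases heq : Jy = Jx
  · exact exists_actPt_of_ker_eq y x heq
  exfalso
  -- no minimal prime of `Jy` contains `Jx`
  have hmin : ∀ q ∈ Jy.minimalPrimes, ¬ Jx ≤ q := by
    intro q hq hJq
    haveI hqprime : q.IsPrime := hq.1.1
    have hmem1 : (⟨q, hqprime⟩ : PrimeSpectrum R) ∈
        Set.range (PrimeSpectrum.comap (GLin.orbitHom k A y).toRingHom) := by
      have H : q ∈ ((⊥ : Ideal A).comap (GLin.orbitHom k A y).toRingHom).minimalPrimes := by
        rw [← RingHom.ker_eq_comap_bot]; exact hq
      obtain ⟨Q, hQprime, -, hQ⟩ := Ideal.exists_comap_eq_of_mem_minimalPrimes _ q H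
      exact ⟨⟨Q, hQprime⟩, PrimeSpectrum.ext hQ⟩
    have hmem2 : (⟨q, hqprime⟩ : PrimeSpectrum R) ∈ zeroLocus (Jx : Set R) := hJq
    have hcons := (isConstructible_range_comap_algHom (k := k) (GLin.orbitHom k A y)).inter
      (isConstructible_zeroLocus Jx)
    obtain ⟨w, hw1, hw2⟩ := exists_algHom_mem_of_isConstructible (k := k) _ hcons ⟨_, hmem1, hmem2⟩
    obtain ⟨g, hg⟩ := exists_algHom_of_mem_range (GLin.orbitHom k A y) w hw1
    have hw : w = GLin.actPt k g y := hg.symm
    have h1 : GLin.InOrbitClosure k A x w := hw2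
    have h2 := ker_orbitHom_le x w h1
    rw [hw, ker_orbitHom_actPt] at h2
    exact heq (le_antisymm hle h2)
  have h1 := ringKrullDim_quotient_succ_le Jy Jx hle hmin
  have h2 : ringKrullDim (R ⧸ Jy) ≤ ringKrullDim A := by
    have hinj : Function.Injective (Ideal.kerLiftAlg (GLin.orbitHom k A y)) :=
      Ideal.kerLiftAlg_injective _
    exact ringKrullDim_le_of_injective k (R ⧸ Jy) A (Ideal.kerLiftAlg (GLin.orbitHom k A y)) hinj
  have h3 := ringKrullDim_le_of_finite_stab x hfin
  haveI : Nontrivial (R ⧸ Jx) := Ideal.Quotient.nontrivial_iff.mpr (RingHom.ker_ne_top _)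
  obtain ⟨s, hs⟩ := exists_nat_ringKrullDim_eq k (R ⧸ Jx)
  have h4 : ringKrullDim (R ⧸ Jx) + 1 ≤ ringKrullDim (R ⧸ Jx) := h1.trans (h2.trans h3)
  rw [hs] at h4
  have h5 : (s : WithBot ℕ∞) + 1 = ((s + 1 : ℕ) : WithBot ℕ∞) := by push_cast; rfl
  rw [h5] at h4
  have h6 : s + 1 ≤ s := by exact_mod_cast h4
  omega

end

end Groth.Agent.Helper7.OrbFin
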