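import Mathlib
import Groth.Agent.Helper7.OrbFinF

/-!
# Stable points and the fibres of the affine quotient, pointwise formulations (helper7)
-/

set_option autoImplicit false
set_option linter.unusedSectionVars false
set_option linter.style.haveILetI false
universe u

namespace Groth.Agent.Helper7.OrbFin

open PrimeSpectrum Topology TensorProduct Groth.Agent.Helper9

section

variable {k : Type u} [Field k] [IsAlgClosed k] {A : Type u} [CommRing A] [HopfAlgebra k A]
  [Algebra.FiniteType k A]
variable {R : Type u} [CommRing R] [Algebra k R] [Algebra.FiniteType k R] [HopfRep.Comod k A R]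
  [GLin.IsCoactAlg k A R]

/-- pointwise closedness of the orbit -/
def PtClosed (x : R →ₐ[k] k) : Prop :=
  ∀ z : R →ₐ[k] k, GLin.InOrbitClosure k A x z → ∃ g : A →ₐ[k] k, z = GLin.actPt k g x

theorem stab_eq (x : R →ₐ[k] k) :
    {g : A →ₐ[k] k | ∀ f : R, x (HopfRep.Comod.act k A R g f) = x f} =
      {g : A →ₐ[k] k | GLin.actPt k g x = x} := by
  ext g
  constructor
  · intro h
    apply AlgHom.ext
    intro f
    rw [← apply_comodAct]
    exact h f
  · intro h f
    rw [apply_comodAct, h]

theorem ptClosed_iff [IsReduced A] (x : R →ₐ[k] k) :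
    (∀ z : R →ₐ[k] k, (∀ f : R, (∀ g : A →ₐ[k] k, x (HopfRep.Comod.act k A R g f) = 0) → z f = 0) →
        ∃ g : A →ₐ[k] k, ∀ f : R, z f = x (HopfRep.Comod.act k A R g f)) ↔ PtClosed (A := A) x := by
  have key : ∀ (z : R →ₐ[k] k),
      (∀ f : R, (∀ g : A →ₐ[k] k, x (HopfRep.Comod.act k A R g f) = 0) → z f = 0) ↔
        GLin.InOrbitClosure k A x z := by
    intro z
    constructor
    · intro h f hf
      exact h f ((mem_ker_orbitHom_iff x f).mp hf)
    · intro h f hf
      exact h ((mem_ker_orbitHom_iff x f).mpr hf)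
  have key2 : ∀ (z : R →ₐ[k] k),
      (∃ g : A →ₐ[k] k, ∀ f : R, z f = x (HopfRep.Comod.act k A R g f)) ↔
        ∃ g : A →ₐ[k] k, z = GLin.actPt k g x := by
    intro z
    constructor
    · rintro ⟨g, hg⟩
      refine ⟨g, AlgHom.ext fun f => ?_⟩
      rw [hg f, apply_comodAct]
    · rintro ⟨g, hg⟩
      refine ⟨g, fun f => ?_⟩
      rw [apply_comodAct, ← hg]
  unfold PtClosed
  constructor
  · intro h z hz
    rw [← key2]
    exact h z ((key z).mpr hz)
  · intro h z hz
    rw [key2]
    exact h z ((key z).mp hz)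

/-- a stable orbit is separated from every other orbit by an invariant -/
theorem exists_invariant_ne (hG : HopfRep.IsLinearlyReductive k A) (x y : R →ₐ[k] k)
    (hcl : PtClosed (A := A) x) (hfin : {g : A →ₐ[k] k | GLin.actPt k g x = x}.Finite)
    (hy : ∀ g : A →ₐ[k] k, y ≠ GLin.actPt k g x) :
    ∃ f ∈ HopfRep.fixedPts k A R, x f ≠ y f := by
  by_contra hcon
  push Not at hcon
  have h1 : GLin.InOrbitClosure k A y x :=
    inOrbitClosure_of_sameInv hG y x (fun f hf => (hcon f hf).symm) hcl
  obtain ⟨g, hg⟩ := exists_actPt_of_finite_stab x y hfin h1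
  apply hy ((WithConv.toConv g)⁻¹).ofConv
  rw [hg, actPt_inv_actPt]

/-- the stabiliser of a translate is a conjugate -/
theorem finite_stab_actPt (x : R →ₐ[k] k) (g : A →ₐ[k] k)
    (hfin : {s : A →ₐ[k] k | GLin.actPt k s x = x}.Finite) :
    {s : A →ₐ[k] k | GLin.actPt k s (GLin.actPt k g x) = GLin.actPt k g x}.Finite := by
  refine (hfin.image (fun t => ((WithConv.toConv g)⁻¹ * WithConv.toConv t * WithConv.toConv g).ofConv)).subset ?_
  intro s hs
  have hs' : GLin.actPt k s (GLin.actPt k g x) = GLin.actPt k g x := hs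
  refine ⟨(WithConv.toConv g * WithConv.toConv s * (WithConv.toConv g)⁻¹).ofConv, ?_, ?_⟩
  · show GLin.actPt k (WithConv.toConv (WithConv.toConv g * WithConv.toConv s).ofConv *
      WithConv.toConv ((WithConv.toConv g)⁻¹).ofConv).ofConv x = x
    rw [actPt_mul]
    show GLin.actPt k _ (GLin.actPt k (WithConv.toConv g * WithConv.toConv s).ofConv x) = x
    rw [actPt_mul, hs', actPt_inv_actPt]
  · show ((WithConv.toConv g)⁻¹ * (WithConv.toConv g * WithConv.toConv s * (WithConv.toConv g)⁻¹) *
      WithConv.toConv g).ofConv = s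
    have : (WithConv.toConv g)⁻¹ * (WithConv.toConv g * WithConv.toConv s * (WithConv.toConv g)⁻¹) *
      WithConv.toConv g = WithConv.toConv s := by group
    rw [this]

/-- stability is the finiteness of all stabilisers of the fibre of the quotient map -/
theorem stable_iff_fibre (hG : HopfRep.IsLinearlyReductive k A) (x : R →ₐ[k] k) :
    (PtClosed (A := A) x ∧ {g : A →ₐ[k] k | GLin.actPt k g x = x}.Finite) ↔
      ∀ z : R →ₐ[k] k, (∀ f ∈ HopfRep.fixedPts k A R, z f = x f) →
        {g : A →ₐ[k] k | GLin.actPt k g z = z}.Finite := by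
  constructor
  · rintro ⟨hcl, hfin⟩ z hz
    have h1 : GLin.InOrbitClosure k A z x := inOrbitClosure_of_sameInv hG z x hz hcl
    obtain ⟨g, hg⟩ := exists_actPt_of_finite_stab x z hfin h1
    have hz' : z = GLin.actPt k ((WithConv.toConv g)⁻¹).ofConv x := by
      rw [hg, actPt_inv_actPt]
    rw [hz']
    exact finite_stab_actPt x _ hfin
  · intro h
    refine ⟨?_, h x (fun _ _ => rfl)⟩
    intro z hz
    have hzfin := h z (fun f hf => sameInv_of_inOrbitClosure x z hz f hf)
    exact exists_actPt_of_finite_stab z x hzfin hz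

end

end Groth.Agent.Helper7.OrbFin
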