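import Mathlib
import Groth.Prelude.Def_GLin6

/-!
# Polynomial matrix representations of the matrix monoid (helper7)

A `PolyRep k n ι` is a matrix corepresentation `c : ι → ι → Mat n k` of the coordinate bialgebra of
`n × n` matrices which is diagonal on the diagonal torus with weights `wt : ι → (Fin n →₀ ℕ)`.
`ρ.rho M` is the matrix of `M ∈ M_n(B)` in the representation; it is multiplicative, unital,
compatible with base change, and diagonal on diagonal matrices.
-/

set_option autoImplicit false
set_option linter.unusedSectionVars false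
universe u v v' w

namespace Groth.Agent.Helper7.SLHM

open CoordGrp TensorProduct

section Defs

variable (k : Type u) [CommRing k] (n : ℕ)

/-- Restriction of functions on matrices to the diagonal torus, in universal form. -/
noncomputable def diagHom : Mat n k →ₐ[k] MvPolynomial (Fin n) k :=
  Mat.aeval n k (Matrix.diagonal fun i => (MvPolynomial.X i : MvPolynomial (Fin n) k))

/-- A matrix corepresentation of the matrix monoid, diagonal on the diagonal torus. -/
structure PolyRep (ι : Type w) [Fintype ι] [DecidableEq ι] where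
  /-- matrix coefficients -/
  c : ι → ι → Mat n k
  comul_c : ∀ l m, CoalgebraStruct.comul (R := k) (c l m) = ∑ j, c l j ⊗ₜ[k] c j m
  counit_c : ∀ l m, CoalgebraStruct.counit (R := k) (c l m) = if l = m then 1 else 0
  /-- torus weights of the coordinates -/
  wt : ι → Fin n →₀ ℕ
  diag_c : ∀ l m, diagHom k n (c l m) = if l = m then MvPolynomial.monomial (wt m) (1 : k) else 0

end Defs

section Rho

variable {k : Type u} [CommRing k] {n : ℕ} {ι : Type w} [Fintype ι] [DecidableEq ι]
  (ρ : PolyRep k n ι)

/-- The matrix of `M` in the representation. -/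
noncomputable def PolyRep.rho {B : Type v} [CommRing B] [Algebra k B] (M : Matrix (Fin n) (Fin n) B) :
    Matrix ι ι B := fun l m => Mat.aeval n k M (ρ.c l m)

theorem aeval_mul {B : Type v} [CommRing B] [Algebra k B] (M M' : Matrix (Fin n) (Fin n) B) :
    Mat.aeval n k (M * M') =
      (Algebra.TensorProduct.lift (Mat.aeval n k M) (Mat.aeval n k M') (fun _ _ => Commute.all _ _)).comp
        (Bialgebra.comulAlgHom k (Mat n k)) := by
  apply Mat.algHom_ext
  intro i j
  rw [AlgHom.comp_apply, Bialgebra.comulAlgHom_apply, Mat.comul_X, map_sum, Mat.aeval_X,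
    Matrix.mul_apply]
  refine Finset.sum_congr rfl fun l _ => ?_
  rw [Algebra.TensorProduct.lift_tmul, Mat.aeval_X, Mat.aeval_X]

theorem PolyRep.rho_mul {B : Type v} [CommRing B] [Algebra k B] (M M' : Matrix (Fin n) (Fin n) B) :
    ρ.rho (M * M') = ρ.rho M * ρ.rho M' := by
  ext l m
  rw [Matrix.mul_apply]
  change Mat.aeval n k (M * M') (ρ.c l m) = _
  rw [aeval_mul, AlgHom.comp_apply, Bialgebra.comulAlgHom_apply, ρ.comul_c, map_sum]
  refine Finset.sum_congr rfl fun j _ => ?_
  rw [Algebra.TensorProduct.lift_tmul]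
  rfl

theorem aeval_one {B : Type v} [CommRing B] [Algebra k B] :
    Mat.aeval n k (1 : Matrix (Fin n) (Fin n) B) =
      (Algebra.ofId k B).comp (Bialgebra.counitAlgHom k (Mat n k)) := by
  apply Mat.algHom_ext
  intro i j
  rw [AlgHom.comp_apply, Bialgebra.counitAlgHom_apply, Mat.counit_X, Mat.aeval_X, Matrix.one_apply]
  split_ifs <;> simp

theorem PolyRep.rho_one {B : Type v} [CommRing B] [Algebra k B] :
    ρ.rho (1 : Matrix (Fin n) (Fin n) B) = 1 := by
  ext l m
  change Mat.aeval n k (1 : Matrix (Fin n) (Fin n) B) (ρ.c l m) = _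
  rw [aeval_one, AlgHom.comp_apply, Bialgebra.counitAlgHom_apply, ρ.counit_c, Matrix.one_apply]
  split_ifs <;> simp

theorem aeval_map {B : Type v} [CommRing B] [Algebra k B] {B' : Type v'} [CommRing B'] [Algebra k B']
    (θ : B →ₐ[k] B') (M : Matrix (Fin n) (Fin n) B) :
    Mat.aeval n k (M.map θ) = θ.comp (Mat.aeval n k M) := by
  apply Mat.algHom_ext
  intro i j
  simp

theorem PolyRep.rho_map {B : Type v} [CommRing B] [Algebra k B] {B' : Type v'} [CommRing B']
    [Algebra k B'] (θ : B →ₐ[k] B') (M : Matrix (Fin n) (Fin n) B) :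
    ρ.rho (M.map θ) = (ρ.rho M).map θ := by
  ext l m
  change Mat.aeval n k (M.map θ) (ρ.c l m) = θ (Mat.aeval n k M (ρ.c l m))
  rw [aeval_map]; rfl

theorem aeval_diagonal {B : Type v} [CommRing B] [Algebra k B] (d : Fin n → B) :
    Mat.aeval n k (Matrix.diagonal d) = (MvPolynomial.aeval d).comp (diagHom k n) := by
  apply Mat.algHom_ext
  intro i j
  rw [AlgHom.comp_apply, diagHom, Mat.aeval_X, Mat.aeval_X, Matrix.diagonal_apply,
    Matrix.diagonal_apply]
  split_ifs <;> simp

/-- the character of the diagonal torus by which it acts on the `m`-th coordinate -/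
def PolyRep.chi {B : Type v} [CommRing B] (d : Fin n → B) (m : ι) : B := ∏ j, d j ^ (ρ.wt m j)

theorem PolyRep.rho_diagonal {B : Type v} [CommRing B] [Algebra k B] (d : Fin n → B) :
    ρ.rho (Matrix.diagonal d) = Matrix.diagonal (ρ.chi d) := by
  ext l m
  change Mat.aeval n k (Matrix.diagonal d) (ρ.c l m) = _
  rw [aeval_diagonal, AlgHom.comp_apply, ρ.diag_c, Matrix.diagonal_apply]
  by_cases h : l = m
  · subst h
    rw [if_pos rfl, if_pos rfl, MvPolynomial.aeval_monomial, map_one, one_mul,
      Finsupp.prod_fintype _ _ (fun i => pow_zero _)]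
    rfl
  · rw [if_neg h, if_neg h, map_zero]

end Rho

end Groth.Agent.Helper7.SLHM
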