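import Mathlib
import Groth.Agent.Helper7.SLHMa

/-!
# Points of `SL_n` and the orbit map of a polynomial representation (helper7)

For a coaction `cM` of the matrix monoid on affine `ι`-space with matrix coefficients `ρ.c`, restricted
to `SL_n`: a point `g : SLn n k → B` is a matrix `matOf g` of determinant one, and `g ∘ orbitHom a` is the
point `a · ρ(matOf g)` of affine space.
-/

set_option autoImplicit false
set_option linter.unusedSectionVars false
universe u v w

namespace Groth.Agent.Helper7.SLHM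

open CoordGrp TensorProduct Matrix

section Pts

variable {k : Type u} [CommRing k] {n : ℕ}

/-- the bialgebra map from matrices to `SL_n` -/
noncomputable abbrev piSL (k : Type u) [CommRing k] (n : ℕ) : Mat n k →ₐc[k] SLn n k :=
  (SLn.mkHom n k).comp (Mat.toGLn n k)

theorem piSL_X (i j : Fin n) : piSL k n (Mat.X i j) = SLn.X i j := by
  change SLn.mkHom n k (Mat.toGLn n k (Mat.X i j)) = _
  rw [Mat.toGLn_X]; rfl

instance : Algebra.FiniteType k (GLb n k) :=
  inferInstanceAs (Algebra.FiniteType k (MvPolynomial (GLPoly.Idx n) k))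

instance : Algebra.FiniteType k (GLn n k) :=
  Algebra.FiniteType.of_surjective (GLn.mk n k) Ideal.Quotient.mk_surjective

instance : Algebra.FiniteType k (SLn n k) :=
  Algebra.FiniteType.of_surjective (SLn.mk n k) Ideal.Quotient.mk_surjective

/-- the matrix of a point of `SL_n` -/
noncomputable def matOf {B : Type v} [CommRing B] [Algebra k B] (g : SLn n k →ₐ[k] B) : Matrix (Fin n) (Fin n) B :=
  fun i j => g (SLn.X i j)

theorem comp_piSL {B : Type v} [CommRing B] [Algebra k B] (g : SLn n k →ₐ[k] B) :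
    g.comp (piSL k n : Mat n k →ₐ[k] SLn n k) = Mat.aeval n k (matOf g) := by
  apply Mat.algHom_ext
  intro i j
  rw [Mat.aeval_X]
  change g (piSL k n (Mat.X i j)) = _
  rw [piSL_X]; rfl

theorem det_matOf {B : Type v} [CommRing B] [Algebra k B] (g : SLn n k →ₐ[k] B) :
    (matOf g).det = 1 := by
  have h1 : matOf g = (g.comp (SLn.mk n k)).mapMatrix (GLn.genMat n k) := by
    ext i j; rfl
  rw [h1, ← AlgHom.map_det, ← GLn.det_eq, AlgHom.comp_apply, SLn.det_eq_one, map_one]

theorem matOf_pt {B : Type v} [CommRing B] [Algebra k B] (M : Matrix (Fin n) (Fin n) B)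
    (h : M.det = 1) : matOf (SLn.pt n k M h) = M := by
  ext i j
  exact SLn.pt_X M h i j

end Pts

section Orbit

variable {k : Type u} [CommRing k] {n : ℕ} {ι : Type w} [Fintype ι] [DecidableEq ι]
  (ρ : PolyRep k n ι)
  (cM : HopfRep.Comod k (Mat n k) (MvPolynomial ι k))
  (hcM : @GLin.IsCoactAlg k _ (Mat n k) _ _ (MvPolynomial ι k) _ _ cM)
  (hX : ∀ m, cM.coact (MvPolynomial.X m) = ∑ l, MvPolynomial.X l ⊗ₜ[k] ρ.c l m)

/-- the restriction of the coaction to `SL_n` -/
@[reducible] noncomputable def cSL : HopfRep.Comod k (SLn n k) (MvPolynomial ι k) :=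
  GLin.comodAlong (piSL k n) cM

include hcM in
theorem hcSL : @GLin.IsCoactAlg k _ (SLn n k) _ _ (MvPolynomial ι k) _ _ (cSL cM) :=
  GLin.isCoactAlg_comodAlong (piSL k n) cM hcM

/-- the orbit map of the `SL_n`-action at the point `a` -/
noncomputable def orb (a : ι → k) : MvPolynomial ι k →ₐ[k] SLn n k :=
  @GLin.orbitHom k _ (SLn n k) _ _ (MvPolynomial ι k) _ _ (cSL cM) (hcSL cM hcM) (GLin.vecPt k ι a)

include hX in
theorem orb_X (a : ι → k) (m : ι) :
    orb cM hcM a (MvPolynomial.X m) = ∑ l, a l • piSL k n (ρ.c l m) := by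
  letI := cSL cM
  haveI := hcSL cM hcM
  change (Algebra.TensorProduct.lid k (SLn n k))
    ((Algebra.TensorProduct.map (GLin.vecPt k ι a) (AlgHom.id k (SLn n k)))
      (TensorProduct.map LinearMap.id ((piSL k n : Mat n k →ₐc[k] SLn n k) : Mat n k →ₗ[k] SLn n k)
        (cM.coact (MvPolynomial.X m)))) = _
  rw [hX, map_sum, map_sum, map_sum]
  refine Finset.sum_congr rfl fun l _ => ?_
  rw [TensorProduct.map_tmul, Algebra.TensorProduct.map_tmul, Algebra.TensorProduct.lid_tmul]
  simp

include hX in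
/-- a point `g` of `SL_n` composed with the orbit map of `a` is the point `a · ρ(g)`. -/
theorem comp_orb {B : Type v} [CommRing B] [Algebra k B] (g : SLn n k →ₐ[k] B) (a : ι → k) :
    g.comp (orb cM hcM a) =
      MvPolynomial.aeval ((fun l => algebraMap k B (a l)) ᵥ* ρ.rho (matOf g)) := by
  apply MvPolynomial.algHom_ext
  intro m
  rw [AlgHom.comp_apply, orb_X ρ cM hcM hX, MvPolynomial.aeval_X, map_sum]
  change _ = ∑ l, algebraMap k B (a l) * ρ.rho (matOf g) l m
  refine Finset.sum_congr rfl fun l _ => ?_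
  rw [map_smul, Algebra.smul_def]
  congr 1
  change (g.comp (piSL k n : Mat n k →ₐ[k] SLn n k)) (ρ.c l m) = _
  rw [comp_piSL]; rfl

end Orbit

end Groth.Agent.Helper7.SLHM
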