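import Mathlib
import Groth.Agent.Helper7.SLHMa

/-!
# The representation of the matrix monoid on forms of degree `d` as a `PolyRep` (helper7)

* `subst M`: the substitution `x_i ↦ Σ_j M_ji x_j` on `k[x]`, with values in `B[x]`... here over the same ring.
* `aeval_formCoeff`: `formCoeff l m` evaluated at a matrix `M` is the `x^l`-coefficient of `subst M (x^m)`.
* `formRep k n d : PolyRep k n (FormIdx n d)`, torus weights the exponent vectors.
-/

set_option autoImplicit false
set_option linter.unusedSectionVars false
universe u v

namespace Groth.Agent.Helper7.Frm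

open CoordGrp TensorProduct MvPolynomial Groth.Agent.Helper7.SLHM

section Subst

variable {k : Type u} [CommRing k] {n : ℕ} {B : Type v} [CommRing B] [Algebra k B]

/-- the substitution `x_i ↦ Σ_j M_ji x_j`, from `k[x]` to `B[x]` -/
noncomputable def subst (M : Matrix (Fin n) (Fin n) B) : MvPolynomial (Fin n) k →ₐ[k] MvPolynomial (Fin n) B :=
  MvPolynomial.aeval fun i => ∑ j, C (M j i) * X j

/-- evaluate the matrix-coordinate factor at `M` -/
noncomputable def evalR (M : Matrix (Fin n) (Fin n) B) :
    MvPolynomial (Fin n) k ⊗[k] Mat n k →ₐ[k] MvPolynomial (Fin n) B :=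
  Algebra.TensorProduct.lift (MvPolynomial.mapAlgHom (Algebra.ofId k B))
    ((IsScalarTower.toAlgHom k B (MvPolynomial (Fin n) B)).comp (Mat.aeval n k M))
    (fun _ _ => Commute.all _ _)

theorem evalR_tmul (M : Matrix (Fin n) (Fin n) B) (p : MvPolynomial (Fin n) k) (a : Mat n k) :
    evalR M (p ⊗ₜ[k] a) = MvPolynomial.map (algebraMap k B) p * C (Mat.aeval n k M a) := by
  rw [evalR, Algebra.TensorProduct.lift_tmul]
  rfl

theorem evalR_comp_stdCoactAlg (M : Matrix (Fin n) (Fin n) B) :
    (evalR M).comp (stdCoactAlg n k) = subst M := by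
  apply MvPolynomial.algHom_ext
  intro i
  rw [AlgHom.comp_apply, stdCoactAlg_X, map_sum, subst, aeval_X]
  refine Finset.sum_congr rfl fun j _ => ?_
  rw [evalR_tmul, Mat.aeval_X, map_X, mul_comm]

theorem coeff_evalR (M : Matrix (Fin n) (Fin n) B) (l : Fin n →₀ ℕ)
    (w : MvPolynomial (Fin n) k ⊗[k] Mat n k) :
    coeff l (evalR M w) = Mat.aeval n k M (coeffT (k := k) l w) := by
  induction w using TensorProduct.induction_on with
  | zero => simp
  | tmul p a =>
    rw [evalR_tmul, coeffT_tmul, mul_comm, coeff_C_mul, coeff_map, map_smul, Algebra.smul_def,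
      mul_comm]
  | add x y hx hy => rw [map_add, coeff_add, hx, hy, map_add, map_add]

/-- the matrix coefficients of the representation on forms, evaluated at a matrix -/
theorem aeval_formCoeff (M : Matrix (Fin n) (Fin n) B) (d : ℕ) (l m : FormIdx n d) :
    Mat.aeval n k M (formCoeff k n d l m) = coeff l.1 (subst M (monomial m.1 (1 : k))) := by
  rw [formCoeff, ← coeff_evalR, ← AlgHom.comp_apply, evalR_comp_stdCoactAlg]

end Subst

section Rep

variable (k : Type u) [CommRing k] (n d : ℕ)

theorem subst_diagonal_monomial (m : Fin n →₀ ℕ) :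
    subst (k := k) (Matrix.diagonal fun i => (X i : MvPolynomial (Fin n) k)) (monomial m (1 : k)) =
      monomial m (monomial m (1 : k)) := by
  have hX : ∀ i, subst (k := k) (Matrix.diagonal fun i => (X i : MvPolynomial (Fin n) k)) (X i) =
      monomial (Finsupp.single i 1) (X i) := by
    intro i
    rw [subst, aeval_X, Finset.sum_eq_single i]
    · rw [Matrix.diagonal_apply_eq, C_mul_X_eq_monomial]
    · intro j _ hj
      rw [Matrix.diagonal_apply_ne _ hj, map_zero, zero_mul]
    · intro h; exact absurd (Finset.mem_univ i) h
  induction m using Finsupp.induction with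
  | zero => simp
  | single_add i e m hi he ih =>
    rw [show monomial (Finsupp.single i e + m) (1 : k) = X i ^ e * monomial m 1 by
      rw [X_pow_eq_monomial, monomial_mul, one_mul], map_mul, map_pow, hX, ih, monomial_pow,
      monomial_mul, Finsupp.smul_single, smul_eq_mul, mul_one, X_pow_eq_monomial,
      monomial_mul, one_mul]

/-- The representation of the matrix monoid on forms of degree `d`. -/
noncomputable def formRep : PolyRep k n (FormIdx n d) where
  c := formCoeff k n d
  comul_c := comul_formCoeff d
  counit_c := counit_formCoeff d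
  wt := fun m => m.1
  diag_c := by
    intro l m
    rw [diagHom, aeval_formCoeff, subst_diagonal_monomial, coeff_monomial]
    by_cases h : l = m
    · subst h; rw [if_pos rfl, if_pos rfl]
    · rw [if_neg h, if_neg (fun e => h (Subtype.ext e.symm))]

theorem formsCoact_coact_X (m : FormIdx n d) :
    (formsCoact k n d).coact (X m) = ∑ l, X l ⊗ₜ[k] (formRep k n d).c l m :=
  formsCoactAlg_X k n d m

end Rep

end Groth.Agent.Helper7.Frm
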