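import Mathlib
import Groth.Agent.Helper7.SLHMa
import Groth.Agent.S11796
import Groth.Agent.S11804

/-!
# Hilbert–Mumford for `SL_n`, the core step (helper7)

From a valuation ring `R ⊇ k` with residue field `k`, a matrix `Ξ ∈ SL_n(Frac R)` and a vector
`a ∈ k^ι` with `a · Ξ ∈ R^ι`, the Cartan decomposition `Ξ = P D Q` and a sign-preserving choice of
integer weights produce `M ∈ SL_n(k)` and a diagonal one-parameter subgroup `r` (non-trivial when
`Ξ ∉ M_n(R)`) such that all non-zero coordinates of `a · M` have non-negative `r`-weight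
(positive when `a · Ξ` reduces to `0`).
-/

set_option autoImplicit false
set_option linter.unusedSectionVars false
universe u w

namespace Groth.Agent.Helper7.SLHM

open CoordGrp IsLocalRing

section Val

variable (R : Type u) [CommRing R] [IsDomain R] [ValuationRing R]
  (K : Type u) [Field K] [Algebra R K] [IsFractionRing R K]

theorem val_le_one_iff (x : K) :
    ValuationRing.valuation R K x ≤ 1 ↔ ∃ a : R, algebraMap R K a = x := by
  rw [← Valuation.mem_integer_iff, ValuationRing.mem_integer_iff]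

theorem val_lt_one_of_mem_maximalIdeal (a : R) (ha : a ∈ maximalIdeal R) :
    ValuationRing.valuation R K (algebraMap R K a) < 1 := by
  have hle : ValuationRing.valuation R K (algebraMap R K a) ≤ 1 := (val_le_one_iff R K _).mpr ⟨a, rfl⟩
  refine lt_of_le_of_ne hle fun h1 => ?_
  have ha0 : algebraMap R K a ≠ 0 := by
    intro h0; rw [h0, map_zero] at h1; exact zero_ne_one h1
  have h2 : ValuationRing.valuation R K (algebraMap R K a)⁻¹ ≤ 1 := by
    rw [map_inv₀, h1, inv_one]
  obtain ⟨b, hb⟩ := (val_le_one_iff R K _).mp h2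
  have hab : a * b = 1 := by
    apply IsFractionRing.injective R K
    rw [map_mul, hb, map_one, mul_inv_cancel₀ ha0]
  exact (mem_maximalIdeal a).mp ha (isUnit_iff_exists_inv.mpr ⟨b, hab⟩)

/-- the additive value group -/
abbrev Lam : Type u := Additive (ValuationRing.ValueGroup R K)ˣ

/-- the order function on `Kˣ`, additively -/
noncomputable def ordv : Additive Kˣ →+ Lam R K :=
  MonoidHom.toAdditive (Units.map (ValuationRing.valuation R K : K →* ValuationRing.ValueGroup R K))

theorem ordv_le_zero_iff (x : Kˣ) :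
    ordv R K (Additive.ofMul x) ≤ 0 ↔ ValuationRing.valuation R K (x : K) ≤ 1 := by
  change Additive.ofMul (Units.map _ x) ≤ Additive.ofMul 1 ↔ _
  rw [Additive.ofMul_le, ← Units.val_le_val]
  rfl

theorem ordv_lt_zero_iff (x : Kˣ) :
    ordv R K (Additive.ofMul x) < 0 ↔ ValuationRing.valuation R K (x : K) < 1 := by
  change Additive.ofMul (Units.map _ x) < Additive.ofMul 1 ↔ _
  rw [Additive.ofMul_lt, ← Units.val_lt_val]
  rfl

theorem ordv_eq_zero_iff (x : Kˣ) :
    ordv R K (Additive.ofMul x) = 0 ↔ ValuationRing.valuation R K (x : K) = 1 := by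
  rw [le_antisymm_iff, le_antisymm_iff, ordv_le_zero_iff]
  constructor
  · rintro ⟨h1, h2⟩
    refine ⟨h1, ?_⟩
    by_contra h
    exact absurd ((ordv_lt_zero_iff R K x).mpr (lt_of_not_ge h)) (not_lt.mpr h2)
  · rintro ⟨h1, h2⟩
    refine ⟨h1, ?_⟩
    by_contra h
    exact absurd ((ordv_lt_zero_iff R K x).mp (lt_of_not_ge h)) (not_lt.mpr h2)

theorem sum_zsmul_ordv {n : ℕ} (x : Fin n → Kˣ) (e : Fin n → ℤ) :
    ∑ j, e j • ordv R K (Additive.ofMul (x j)) = ordv R K (Additive.ofMul (∏ j, x j ^ e j)) := by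
  rw [ofMul_prod, map_sum]
  refine Finset.sum_congr rfl fun j _ => ?_
  rw [ofMul_zpow, map_zsmul]

end Val

section Core

variable {k : Type u} [Field k] {n : ℕ} {ι : Type w} [Fintype ι] [DecidableEq ι] (ρ : PolyRep k n ι)
  (R : Type u) [CommRing R] [IsDomain R] [ValuationRing R] [Algebra k R]
  (K : Type u) [Field K] [Algebra R K] [IsFractionRing R K] [Algebra k K] [IsScalarTower k R K]

open Matrix in
theorem hm_core (res : R →ₐ[k] k) (hres : RingHom.ker res = maximalIdeal R)
    (a : ι → k) (Ξ : Matrix (Fin n) (Fin n) K) (hΞ : Ξ.det = 1) (h : ι → R)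
    (hh : (fun l => algebraMap k K (a l)) ᵥ* (ρ.rho Ξ) = fun m => algebraMap R K (h m)) :
    ∃ (M : Matrix (Fin n) (Fin n) k) (r : Fin n → ℤ), M.det = 1 ∧ ∑ j, r j = 0 ∧
      ((∃ i j, Ξ i j ∉ (algebraMap R K).range) → r ≠ 0) ∧
      ∀ m, (a ᵥ* ρ.rho M) m ≠ 0 →
        0 ≤ ∑ j, (ρ.wt m j : ℤ) * r j ∧
          ((∀ l, res (h l) = 0) → 0 < ∑ j, (ρ.wt m j : ℤ) * r j) := by
  classical
  obtain ⟨P, Q, d, hP, hQ, hΞeq⟩ := Groth.Agent.S11796.result R K n Ξ
  let θ : R →ₐ[k] K := IsScalarTower.toAlgHom k R K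
  have hθ : ∀ x, θ x = algebraMap R K x := fun _ => rfl
  have hdetmap : ∀ N : Matrix (Fin n) (Fin n) R, N.det = 1 → (N.map (algebraMap R K)).det = 1 := by
    intro N hN
    rw [← RingHom.mapMatrix_apply, ← RingHom.map_det, hN, map_one]
  have hdet : ∏ j, d j = 1 := by
    have := congrArg Matrix.det hΞeq
    rw [hΞ, Matrix.det_mul, Matrix.det_mul, Matrix.det_diagonal, hdetmap P hP, hdetmap Q hQ,
      one_mul, mul_one] at this
    exact this.symm
  have hd0 : ∀ j, d j ≠ 0 := fun j hj => by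
    have : ∏ j, d j = 0 := Finset.prod_eq_zero (Finset.mem_univ j) hj
    rw [hdet] at this; exact one_ne_zero this
  have hrhoΞ : ρ.rho Ξ = (ρ.rho P).map θ * Matrix.diagonal (ρ.chi d) * (ρ.rho Q).map θ := by
    rw [hΞeq, ρ.rho_mul, ρ.rho_mul, ρ.rho_diagonal,
      show P.map (algebraMap R K) = P.map θ from rfl,
      show Q.map (algebraMap R K) = Q.map θ from rfl, ρ.rho_map, ρ.rho_map]
  have hQQ : Q * Q.adjugate = 1 := by rw [Matrix.mul_adjugate, hQ, one_smul]
  have hρQQ : ρ.rho Q * ρ.rho Q.adjugate = 1 := by rw [← ρ.rho_mul, hQQ, ρ.rho_one]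
  let w : ι → R := (fun l => algebraMap k R (a l)) ᵥ* (ρ.rho P)
  let u : ι → R := h ᵥ* (ρ.rho Q.adjugate)
  have hwK : (fun m => algebraMap R K (w m)) = (fun l => algebraMap k K (a l)) ᵥ* (ρ.rho P).map θ := by
    funext m
    have := RingHom.map_vecMul (algebraMap R K) (ρ.rho P) (fun l => algebraMap k R (a l)) m
    rw [this]
    congr 1
    funext l
    simp only [Function.comp_apply]
    exact (IsScalarTower.algebraMap_apply k R K (a l)).symm
  have star : ∀ m, algebraMap R K (w m) * ρ.chi d m = algebraMap R K (u m) := by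
    intro m
    have h1 := congrArg (fun v => (v ᵥ* (ρ.rho Q.adjugate).map θ) m) hh
    beta_reduce at h1
    rw [Matrix.vecMul_vecMul, hrhoΞ, Matrix.mul_assoc, ← Matrix.map_mul, hρQQ,
      Matrix.map_one _ (map_zero θ) (map_one θ), Matrix.mul_one, ← Matrix.vecMul_vecMul,
      Matrix.vecMul_diagonal, ← hwK] at h1
    rw [h1]
    exact (RingHom.map_vecMul (algebraMap R K) (ρ.rho Q.adjugate) h m).symm
  -- the reduction
  let M : Matrix (Fin n) (Fin n) k := P.map res
  have hM : M.det = 1 := by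
    change (P.map res.toRingHom).det = 1
    rw [← RingHom.mapMatrix_apply, ← RingHom.map_det, hP, map_one]
  have hMw : ∀ m, (a ᵥ* ρ.rho M) m = res (w m) := by
    intro m
    rw [show ρ.rho M = (ρ.rho P).map res from ρ.rho_map res P]
    have := RingHom.map_vecMul res.toRingHom (ρ.rho P) (fun l => algebraMap k R (a l)) m
    change res (w m) = _ at this
    rw [this]
    congr 1
    funext l
    simp
  -- valuations
  have hchi0 : ∀ m, ρ.chi d m ≠ 0 := fun m =>
    Finset.prod_ne_zero_iff.mpr fun j _ => pow_ne_zero _ (hd0 j)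
  have hval : ∀ m, (a ᵥ* ρ.rho M) m ≠ 0 →
      ValuationRing.valuation R K (ρ.chi d m) ≤ 1 ∧
        ((∀ l, res (h l) = 0) → ValuationRing.valuation R K (ρ.chi d m) < 1) := by
    intro m hm
    rw [hMw] at hm
    have hwu : IsUnit (w m) := by
      by_contra hnu
      have : w m ∈ maximalIdeal R := (mem_maximalIdeal _).mpr hnu
      rw [← hres, RingHom.mem_ker] at this
      exact hm this
    obtain ⟨wi, hwi⟩ := isUnit_iff_exists_inv.mp hwu
    have hchi : ρ.chi d m = algebraMap R K (u m * wi) := by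
      have hw0 : algebraMap R K (w m) ≠ 0 := by
        intro h0
        have := congrArg (algebraMap R K) hwi
        rw [map_mul, h0, zero_mul, map_one] at this
        exact zero_ne_one this
      apply mul_left_cancel₀ hw0
      rw [star m, ← map_mul, ← mul_assoc, mul_comm (w m), mul_assoc, hwi, mul_one]
    refine ⟨(val_le_one_iff R K _).mpr ⟨_, hchi.symm⟩, fun h0 => ?_⟩
    rw [hchi]
    apply val_lt_one_of_mem_maximalIdeal
    apply Ideal.mul_mem_right
    rw [← hres, RingHom.mem_ker]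
    have := RingHom.map_vecMul res.toRingHom (ρ.rho Q.adjugate) h m
    change res (u m) = _ at this
    rw [this]
    have hz : (res.toRingHom ∘ h) = 0 := by
      funext l; exact h0 l
    rw [hz, Matrix.zero_vecMul]; rfl
  -- the sign vector
  let D : Fin n → Kˣ := fun j => Units.mk0 (d j) (hd0 j)
  let χ : Fin n → Lam R K := fun j => ordv R K (Additive.ofMul (D j))
  let Φ : Finset (Fin n → ℤ) :=
    (Finset.univ.image fun m : ι => fun j => (ρ.wt m j : ℤ)) ∪
      (Finset.univ.image fun j : Fin n => (Pi.single j 1 : Fin n → ℤ)) ∪ {fun _ => 1}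
  obtain ⟨r₀, hr₀⟩ := Groth.Agent.S11804.result (Lam R K) n χ Φ
  have hsumχ : ∀ e : Fin n → ℤ, ∑ j, e j • χ j = ordv R K (Additive.ofMul (∏ j, D j ^ e j)) :=
    fun e => sum_zsmul_ordv R K D e
  have hchiD : ∀ m, ((∏ j, D j ^ ((ρ.wt m j : ℕ) : ℤ) : Kˣ) : K) = ρ.chi d m := by
    intro m
    rw [Units.coe_prod]
    refine Finset.prod_congr rfl fun j _ => ?_
    rw [zpow_natCast, Units.val_pow_eq_pow_val]
    rfl
  refine ⟨M, fun j => - r₀ j, hM, ?_, ?_, ?_⟩
  · -- sum zero
    have hmem : (fun _ => 1 : Fin n → ℤ) ∈ Φ := by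
      simp only [Φ, Finset.mem_union, Finset.mem_singleton, or_true]
    have h1 := (hr₀ _ hmem).2
    have h2 : ∑ j, (1 : ℤ) • χ j = 0 := by
      rw [hsumχ (fun _ => 1), ordv_eq_zero_iff]
      have : ((∏ j, D j ^ (1 : ℤ) : Kˣ) : K) = 1 := by
        rw [Units.coe_prod]
        simp only [zpow_one]
        exact hdet
      rw [this, map_one]
    have h3 := h1.mp h2
    simp only [one_mul] at h3
    rw [Finset.sum_neg_distrib, h3, neg_zero]
  · -- nontrivial
    rintro ⟨i, j, hij⟩ hr
    apply hij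
    have hall : ∀ l, d l ∈ (algebraMap R K).range := by
      intro l
      have hmem : (Pi.single l 1 : Fin n → ℤ) ∈ Φ := by
        simp only [Φ, Finset.mem_union, Finset.mem_image, Finset.mem_univ, true_and]
        left; right; exact ⟨l, rfl⟩
      have h1 := (hr₀ _ hmem).2
      have h2 : ∑ j, (Pi.single l 1 : Fin n → ℤ) j * r₀ j = 0 := by
        have hr0 : ∀ j, r₀ j = 0 := fun j => by
          have := congrFun hr j
          simpa using this
        simp [hr0]
      have h3 := h1.mpr h2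
      rw [hsumχ, ordv_eq_zero_iff] at h3
      have h4 : ((∏ j, D j ^ ((Pi.single l 1 : Fin n → ℤ) j) : Kˣ) : K) = d l := by
        rw [Units.coe_prod, Finset.prod_eq_single l]
        · simp [D]
        · intro b _ hb
          simp [hb]
        · intro h; exact absurd (Finset.mem_univ l) h
      rw [h4] at h3
      obtain ⟨x, hx⟩ := (val_le_one_iff R K (d l)).mp h3.le
      exact ⟨x, hx⟩
    rw [hΞeq, Matrix.mul_apply]
    refine Subring.sum_mem _ fun l _ => Subring.mul_mem _ ?_ ⟨Q l j, rfl⟩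
    rw [Matrix.mul_apply]
    refine Subring.sum_mem _ fun l' _ => Subring.mul_mem _ ⟨P i l', rfl⟩ ?_
    rw [Matrix.diagonal_apply]
    split_ifs with hll
    · exact hall l'
    · exact Subring.zero_mem _
  · intro m hm
    obtain ⟨hle, hlt⟩ := hval m hm
    have hmem : (fun j => (ρ.wt m j : ℤ)) ∈ Φ := by
      simp only [Φ, Finset.mem_union, Finset.mem_image, Finset.mem_univ, true_and]
      left; left; exact ⟨m, rfl⟩
    obtain ⟨hpos, hzero⟩ := hr₀ _ hmem
    have hsum : ∑ j, ((ρ.wt m j : ℕ) : ℤ) • χ j = ordv R K (Additive.ofMul (∏ j, D j ^ ((ρ.wt m j : ℕ) : ℤ))) :=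
      hsumχ _
    have hneg : ∑ j, (ρ.wt m j : ℤ) * (- r₀ j) = - ∑ j, (ρ.wt m j : ℤ) * r₀ j := by
      simp [Finset.sum_neg_distrib]
    rw [hneg]
    constructor
    · have hle' : ∑ j, ((ρ.wt m j : ℕ) : ℤ) • χ j ≤ 0 := by
        rw [hsum, ordv_le_zero_iff, hchiD]; exact hle
      have : ¬ 0 < ∑ j, (ρ.wt m j : ℤ) * r₀ j := fun hp => absurd (hpos.mpr hp) (not_lt.mpr hle')
      omega
    · intro h0
      have hlt' : ∑ j, ((ρ.wt m j : ℕ) : ℤ) • χ j < 0 := by
        rw [hsum, ordv_lt_zero_iff, hchiD]; exact hlt h0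
      have h1 : ¬ 0 < ∑ j, (ρ.wt m j : ℤ) * r₀ j := fun hp => absurd (hpos.mpr hp) (not_lt.mpr hlt'.le)
      have h2 : ¬ ∑ j, (ρ.wt m j : ℤ) * r₀ j = 0 := fun hz => absurd (hzero.mpr hz) hlt'.ne
      omega

end Core

end Groth.Agent.Helper7.SLHM
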