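import Mathlib
import Groth.Agent.Helper7.SLHMc
import Groth.Agent.Helper9.GrpPt

/-!
# Diagonal one-parameter subgroups acting through a polynomial representation (helper7)

`gT`: for `M ∈ SL_n(k)` and integer weights `r` with `Σ r = 0`, the `k[T,T⁻¹]`-point `M · diag(T^r)` of
`SL_n`.  When every non-zero coordinate of `a · M` has non-negative weight, its composite with the orbit map of
`a` extends to the affine line (`gT_comp_orb`).  Consequences: a strictly destabilised vector is a nullform.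
-/

set_option autoImplicit false
set_option linter.unusedSectionVars false
universe u v w

namespace Groth.Agent.Helper7.SLHM

open CoordGrp TensorProduct Matrix LaurentPolynomial

section General

variable {k : Type u} [CommRing k] {n : ℕ} {ι : Type w} [Fintype ι] [DecidableEq ι]
  (ρ : PolyRep k n ι)

/-- the weight of the `m`-th coordinate under the one-parameter subgroup `r` -/
def PolyRep.wtr (r : Fin n → ℤ) (m : ι) : ℤ := ∑ j, (ρ.wt m j : ℤ) * r j

theorem PolyRep.chi_T (r : Fin n → ℤ) (m : ι) :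
    ρ.chi (fun j => (T (r j) : k[T;T⁻¹])) m = T (ρ.wtr r m) := by
  unfold PolyRep.chi PolyRep.wtr
  simp_rw [T_pow]
  exact GLn.prod_T Finset.univ _

/-- `a · (M · diag t)` in coordinates, over any `k`-algebra -/
theorem PolyRep.vecMul_rho_mul_diagonal {B : Type v} [CommRing B] [Algebra k B]
    (a : ι → k) (M : Matrix (Fin n) (Fin n) k) (t : Fin n → B) (m : ι) :
    ((fun l => algebraMap k B (a l)) ᵥ* ρ.rho (M.map (algebraMap k B) * Matrix.diagonal t)) m =
      algebraMap k B ((a ᵥ* ρ.rho M) m) * ρ.chi t m := by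
  rw [ρ.rho_mul, ρ.rho_diagonal, ← Matrix.vecMul_vecMul, Matrix.vecMul_diagonal,
    show M.map (algebraMap k B) = M.map (Algebra.ofId k B) from rfl, ρ.rho_map]
  congr 1
  exact (RingHom.map_vecMul (algebraMap k B) (ρ.rho M) a m).symm

theorem PolyRep.vecMul_rho_map {B : Type v} [CommRing B] [Algebra k B]
    (a : ι → k) (M : Matrix (Fin n) (Fin n) k) :
    ((fun l => algebraMap k B (a l)) ᵥ* ρ.rho (M.map (algebraMap k B))) =
      fun m => algebraMap k B ((a ᵥ* ρ.rho M) m) := by
  funext m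
  rw [show M.map (algebraMap k B) = M.map (Algebra.ofId k B) from rfl, ρ.rho_map]
  exact (RingHom.map_vecMul (algebraMap k B) (ρ.rho M) a m).symm

end General

section OnePS

variable {k : Type u} [CommRing k] {n : ℕ}

/-- the matrix `M · diag(T^r)` over the Laurent polynomial ring -/
noncomputable def matT (M : Matrix (Fin n) (Fin n) k) (r : Fin n → ℤ) :
    Matrix (Fin n) (Fin n) k[T;T⁻¹] :=
  M.map (algebraMap k k[T;T⁻¹]) * Matrix.diagonal fun j => (T (r j) : k[T;T⁻¹])

theorem det_matT (M : Matrix (Fin n) (Fin n) k) (hM : M.det = 1) (r : Fin n → ℤ)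
    (hr : ∑ j, r j = 0) : (matT M r).det = 1 := by
  rw [matT, Matrix.det_mul, Matrix.det_diagonal, GLn.prod_T, hr, T_zero, mul_one,
    ← RingHom.mapMatrix_apply, ← RingHom.map_det, hM, map_one]

/-- the `k[T,T⁻¹]`-point `M · diag(T^r)` of `SL_n` -/
noncomputable def gT (M : Matrix (Fin n) (Fin n) k) (hM : M.det = 1) (r : Fin n → ℤ)
    (hr : ∑ j, r j = 0) : SLn n k →ₐ[k] k[T;T⁻¹] :=
  SLn.pt n k (matT M r) (det_matT M hM r hr)

end OnePS

section Orbit

variable {k : Type u} [CommRing k] {n : ℕ} {ι : Type w} [Fintype ι] [DecidableEq ι]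
  (ρ : PolyRep k n ι)
  (cM : HopfRep.Comod k (Mat n k) (MvPolynomial ι k))
  (hcM : @GLin.IsCoactAlg k _ (Mat n k) _ _ (MvPolynomial ι k) _ _ cM)
  (hX : ∀ m, cM.coact (MvPolynomial.X m) = ∑ l, MvPolynomial.X l ⊗ₜ[k] ρ.c l m)

/-- the polynomial-valued point extending the one-parameter orbit -/
noncomputable def hpoly (a' : ι → k) (w : ι → ℤ) : MvPolynomial ι k →ₐ[k] Polynomial k :=
  MvPolynomial.aeval fun m => Polynomial.C (a' m) * Polynomial.X ^ (w m).toNat

include hX in
theorem gT_comp_orb (a : ι → k) (M : Matrix (Fin n) (Fin n) k) (hM : M.det = 1) (r : Fin n → ℤ)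
    (hr : ∑ j, r j = 0) (hpos : ∀ m, (a ᵥ* ρ.rho M) m ≠ 0 → 0 ≤ ρ.wtr r m) :
    (gT M hM r hr).comp (orb cM hcM a) =
      (Polynomial.toLaurentAlg (R := k)).comp (hpoly (a ᵥ* ρ.rho M) (ρ.wtr r)) := by
  rw [comp_orb ρ cM hcM hX, gT, matOf_pt]
  apply MvPolynomial.algHom_ext
  intro m
  rw [MvPolynomial.aeval_X, matT, ρ.vecMul_rho_mul_diagonal, ρ.chi_T, AlgHom.comp_apply, hpoly,
    MvPolynomial.aeval_X, Polynomial.toLaurentAlg_apply, Polynomial.toLaurent_C_mul_X_pow,
    ← C_eq_algebraMap]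
  by_cases h0 : (a ᵥ* ρ.rho M) m = 0
  · rw [h0, map_zero, zero_mul, zero_mul]
  · rw [Int.toNat_of_nonneg (hpos m h0)]

theorem aeval_zero_comp_hpoly (a' : ι → k) (w : ι → ℤ) (hpos : ∀ m, a' m ≠ 0 → 0 ≤ w m) :
    (Polynomial.aeval (0 : k)).comp (hpoly a' w) =
      MvPolynomial.aeval fun m => if w m = 0 then a' m else 0 := by
  apply MvPolynomial.algHom_ext
  intro m
  rw [AlgHom.comp_apply, hpoly, MvPolynomial.aeval_X, MvPolynomial.aeval_X, map_mul, map_pow,
    Polynomial.aeval_C, Polynomial.aeval_X]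
  by_cases h0 : a' m = 0
  · simp [h0]
  · have hw := hpos m h0
    by_cases hw0 : w m = 0
    · simp [hw0]
    · have : (w m).toNat ≠ 0 := by omega
      simp [hw0, this]

end Orbit

end Groth.Agent.Helper7.SLHM
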