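import Mathlib
import Groth.Agent.Helper7.SLHMd

/-!
# Hilbert–Mumford for `SL_n`, the easy directions (helper7)

* `isNullform_of_strictDestab`: if all non-zero coordinates of `a · M` have positive weight under a diagonal
  one-parameter subgroup, then `a` is a nullform.
* `not_destab_of_isStable`: a stable vector has no non-trivial diagonal one-parameter subgroup (in any
  coordinates `M ∈ SL_n(k)`) under which all non-zero coordinates have non-negative weight.
-/

set_option autoImplicit false
set_option linter.unusedSectionVars false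
universe u v w

namespace Groth.Agent.Helper7.SLHM

open CoordGrp TensorProduct Matrix LaurentPolynomial

section Gen

theorem algHom_apply_mem_range_of_finite {k : Type u} [Field k] [IsAlgClosed k] {A : Type v}
    [CommRing A] [Algebra k A] {L : Type w} [CommRing L] [IsDomain L] [Algebra k L] (I : Ideal A)
    (hfin : Module.Finite k (A ⧸ I)) (μ : A →ₐ[k] L) (hμ : ∀ x ∈ I, μ x = 0) (x : A) :
    ∃ c : k, μ x = algebraMap k L c := by
  let μ' : A ⧸ I →ₐ[k] L := Ideal.Quotient.liftₐ I μ hμ
  let S : Subalgebra k L := μ'.range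
  haveI : Module.Finite k S :=
    Module.Finite.of_surjective μ'.rangeRestrict.toLinearMap μ'.rangeRestrict_surjective
  haveI : Algebra.IsIntegral k S := Algebra.IsIntegral.of_finite k S
  obtain ⟨c, hc⟩ := (IsAlgClosed.algebraMap_bijective_of_isIntegral (k := k) (K := S)).2
    ⟨μ x, ⟨Ideal.Quotient.mk I x, rfl⟩⟩
  exact ⟨c, (congrArg Subtype.val hc).symm⟩

theorem T_eq_algebraMap_iff {k : Type u} [CommRing k] [Nontrivial k] (e : ℤ) (c : k)
    (h : (T e : k[T;T⁻¹]) = algebraMap k k[T;T⁻¹] c) : e = 0 := by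
  by_contra he
  have := congrArg (fun p : k[T;T⁻¹] => p.coeff e) h
  simp only [T_apply, if_true, ← C_eq_algebraMap, C_apply, if_neg he] at this
  exact one_ne_zero this

end Gen

section Main

variable {k : Type u} [Field k] {n : ℕ} {ι : Type w} [Fintype ι] [DecidableEq ι]
  (ρ : PolyRep k n ι)
  (cM : HopfRep.Comod k (Mat n k) (MvPolynomial ι k))
  (hcM : @GLin.IsCoactAlg k _ (Mat n k) _ _ (MvPolynomial ι k) _ _ cM)
  (hX : ∀ m, cM.coact (MvPolynomial.X m) = ∑ l, MvPolynomial.X l ⊗ₜ[k] ρ.c l m)

include hX in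
theorem isNullform_of_strictDestab (a : ι → k) (M : Matrix (Fin n) (Fin n) k) (hM : M.det = 1)
    (r : Fin n → ℤ) (hr : ∑ j, r j = 0)
    (hpos : ∀ m, (a ᵥ* ρ.rho M) m ≠ 0 → 0 < ρ.wtr r m) :
    @GLin.IsNullform k _ (SLn n k) _ _ ι (cSL cM) (hcSL cM hcM) a := by
  letI := cSL cM
  haveI := hcSL cM hcM
  intro F hF d hd hFd
  have h1 : orb cM hcM a F = algebraMap k (SLn n k) (MvPolynomial.aeval a F) :=
    Groth.Agent.Helper9.orbitHom_invariant (GLin.vecPt k ι a) F hF
  have h2 := congrArg (fun φ => φ F)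
    (gT_comp_orb ρ cM hcM hX a M hM r hr (fun m hm => (hpos m hm).le))
  simp only [AlgHom.comp_apply] at h2
  rw [h1, AlgHom.commutes, Polynomial.toLaurentAlg_apply, ← C_eq_algebraMap,
    ← Polynomial.toLaurent_C] at h2
  have h3 := Polynomial.toLaurent_injective h2
  have h4 := congrArg (Polynomial.aeval (0 : k)) h3
  rw [Polynomial.aeval_C] at h4
  have h5 := congrArg (fun φ => φ F)
    (aeval_zero_comp_hpoly (a ᵥ* ρ.rho M) (ρ.wtr r) (fun m hm => (hpos m hm).le))
  simp only [AlgHom.comp_apply] at h5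
  rw [← h4] at h5
  have hz : (fun m => if ρ.wtr r m = 0 then (a ᵥ* ρ.rho M) m else 0) = fun _ => (0 : k) := by
    funext m
    split_ifs with hw
    · by_contra h0
      have := hpos m h0
      omega
    · rfl
  rw [hz] at h5
  have h6 : MvPolynomial.aeval (fun _ : ι => (0 : k)) F = 0 := by
    rw [MvPolynomial.aeval_eq_eval, MvPolynomial.eval_zero', MvPolynomial.constantCoeff_eq]
    apply hFd.coeff_eq_zero
    simp only [map_zero]
    omega
  rw [h6] at h5
  rw [← MvPolynomial.aeval_eq_eval]
  simpa using h5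

end Main

end Groth.Agent.Helper7.SLHM
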