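import Mathlib
import Groth.Agent.Helper7.SLHMe

/-!
# Hilbert–Mumford for `SL_n`: stable vectors are not destabilised (helper7)
-/

set_option autoImplicit false
set_option linter.unusedSectionVars false
universe u v w

namespace Groth.Agent.Helper7.SLHM

open CoordGrp TensorProduct Matrix LaurentPolynomial

section Main

variable {k : Type u} [Field k] {n : ℕ} {ι : Type w} [Fintype ι] [DecidableEq ι]
  (ρ : PolyRep k n ι)
  (cM : HopfRep.Comod k (Mat n k) (MvPolynomial ι k))
  (hcM : @GLin.IsCoactAlg k _ (Mat n k) _ _ (MvPolynomial ι k) _ _ cM)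
  (hX : ∀ m, cM.coact (MvPolynomial.X m) = ∑ l, MvPolynomial.X l ⊗ₜ[k] ρ.c l m)

/-- the limit point of a destabilising one-parameter subgroup -/
def limPt (a' : ι → k) (w : ι → ℤ) : ι → k := fun m => if w m = 0 then a' m else 0

include hX in
/-- the limit point lies in the orbit closure -/
theorem inOrbitClosure_limPt (a : ι → k) (M : Matrix (Fin n) (Fin n) k) (hM : M.det = 1)
    (r : Fin n → ℤ) (hr : ∑ j, r j = 0) (hpos : ∀ m, (a ᵥ* ρ.rho M) m ≠ 0 → 0 ≤ ρ.wtr r m) :
    @GLin.InOrbitClosure k _ (SLn n k) _ _ (MvPolynomial ι k) _ _ (cSL cM) (hcSL cM hcM)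
      (GLin.vecPt k ι a) (GLin.vecPt k ι (limPt (a ᵥ* ρ.rho M) (ρ.wtr r))) := by
  intro f hf
  have hf' : orb cM hcM a f = 0 := hf
  have h2 := congrArg (fun φ => φ f) (gT_comp_orb ρ cM hcM hX a M hM r hr hpos)
  simp only [AlgHom.comp_apply] at h2
  rw [hf', map_zero, Polynomial.toLaurentAlg_apply] at h2
  have h3 : hpoly (a ᵥ* ρ.rho M) (ρ.wtr r) f = 0 :=
    Polynomial.toLaurent_injective (h2.symm.trans (map_zero _).symm)
  have h5 := congrArg (fun φ => φ f) (aeval_zero_comp_hpoly (a ᵥ* ρ.rho M) (ρ.wtr r) hpos)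
  simp only [AlgHom.comp_apply] at h5
  rw [h3, map_zero] at h5
  rw [RingHom.mem_ker]
  exact h5.symm

include hX in
theorem not_destab_of_isStable [IsAlgClosed k] (a : ι → k)
    (hst : @GLin.IsStableVec k _ (SLn n k) _ _ ι (cSL cM) (hcSL cM hcM) a)
    (M : Matrix (Fin n) (Fin n) k) (hM : M.det = 1) (r : Fin n → ℤ) (hr0 : r ≠ 0)
    (hr : ∑ j, r j = 0) (hpos : ∀ m, (a ᵥ* ρ.rho M) m ≠ 0 → 0 ≤ ρ.wtr r m) : False := by
  letI := cSL cM
  haveI := hcSL cM hcM
  obtain ⟨hcl, hfin⟩ := hst
  set z := limPt (a ᵥ* ρ.rho M) (ρ.wtr r) with hz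
  have hzcl := inOrbitClosure_limPt ρ cM hcM hX a M hM r hr hpos
  obtain ⟨g', hg'⟩ := Groth.Agent.Helper9.exists_actPt_of_closed (GLin.vecPt k ι a)
    (GLin.vecPt k ι z) hcl hzcl
  set M' := matOf g' with hM'
  have hdetM' : M'.det = 1 := det_matOf g'
  -- `z = a · M'`
  have hzM' : a ᵥ* ρ.rho M' = z := by
    have h1 : g'.comp (orb cM hcM a) = GLin.vecPt k ι z := hg'
    rw [comp_orb ρ cM hcM hX] at h1
    funext m
    have := congrArg (fun φ => φ (MvPolynomial.X m)) h1
    simpa using this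
  -- the conjugated one-parameter subgroup
  let L := k[T;T⁻¹]
  let ML : Matrix (Fin n) (Fin n) L := M'.map (algebraMap k L)
  let MLa : Matrix (Fin n) (Fin n) L := M'.adjugate.map (algebraMap k L)
  let DT : Matrix (Fin n) (Fin n) L := Matrix.diagonal fun j => (T (r j) : L)
  have hMMa : ML * MLa = 1 := by
    change M'.map (algebraMap k L) * M'.adjugate.map (algebraMap k L) = 1
    rw [← Matrix.map_mul, Matrix.mul_adjugate, hdetM', one_smul,
      Matrix.map_one _ (map_zero _) (map_one _)]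
  have hMaM : MLa * ML = 1 := by
    change M'.adjugate.map (algebraMap k L) * M'.map (algebraMap k L) = 1
    rw [← Matrix.map_mul, Matrix.adjugate_mul, hdetM', one_smul,
      Matrix.map_one _ (map_zero _) (map_one _)]
  let N : Matrix (Fin n) (Fin n) L := ML * DT * MLa
  have hdetN : N.det = 1 := by
    have h1 : (ML * DT).det = 1 := det_matT M' hdetM' r hr
    have h2 : MLa.det = 1 := by
      have := congrArg Matrix.det hMMa
      rw [Matrix.det_mul, Matrix.det_one] at this
      have h3 : ML.det = 1 := by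
        change (M'.map (algebraMap k L)).det = 1
        rw [← RingHom.mapMatrix_apply, ← RingHom.map_det, hdetM', map_one]
      rwa [h3, one_mul] at this
    change (ML * DT * MLa).det = 1
    rw [Matrix.det_mul, h1, h2, one_mul]
  let μ : SLn n k →ₐ[k] L := SLn.pt n k N hdetN
  -- `μ` fixes `a`
  have hμa : (fun l => algebraMap k L (a l)) ᵥ* ρ.rho N = fun l => algebraMap k L (a l) := by
    change (fun l => algebraMap k L (a l)) ᵥ* ρ.rho (ML * DT * MLa) = _
    rw [ρ.rho_mul, ← Matrix.vecMul_vecMul]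
    have h1 : (fun l => algebraMap k L (a l)) ᵥ* ρ.rho (ML * DT) =
        (fun l => algebraMap k L (a l)) ᵥ* ρ.rho ML := by
      funext m
      rw [ρ.vecMul_rho_mul_diagonal, ρ.chi_T, ρ.vecMul_rho_map, hzM']
      by_cases hw : ρ.wtr r m = 0
      · rw [hw, T_zero, mul_one]
      · have : z m = 0 := by rw [hz, limPt, if_neg hw]
        rw [this, map_zero, zero_mul]
        change 0 = algebraMap k L (z m)
        rw [this, map_zero]
    rw [h1, Matrix.vecMul_vecMul, ← ρ.rho_mul, hMMa, ρ.rho_one, Matrix.vecMul_one]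
  have hμorb : μ.comp (orb cM hcM a) = MvPolynomial.aeval (fun l => algebraMap k L (a l)) := by
    rw [comp_orb ρ cM hcM hX, matOf_pt, hμa]
  -- `μ` kills the stabiliser ideal
  have hμstab : ∀ x ∈ GLin.stabIdeal k (SLn n k) (GLin.vecPt k ι a), μ x = 0 := by
    intro x hx
    have hle : GLin.stabIdeal k (SLn n k) (GLin.vecPt k ι a) ≤ RingHom.ker μ := by
      rw [GLin.stabIdeal, Ideal.map_le_iff_le_comap]
      intro f hf
      rw [Ideal.mem_comap, RingHom.mem_ker]
      have h1 := congrArg (fun φ => φ f) hμorb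
      simp only [AlgHom.comp_apply] at h1
      change μ (orb cM hcM a f) = 0
      rw [h1]
      have h2 : MvPolynomial.aeval (fun l => algebraMap k L (a l)) f =
          algebraMap k L (MvPolynomial.aeval a f) := by
        rw [← MvPolynomial.aeval_algebraMap_apply]; rfl
      rw [h2]
      have h3 : MvPolynomial.aeval a f = 0 := hf
      rw [h3, map_zero]
    exact hle hx
  -- entries of `N` are constants
  have hNc : ∀ i j, ∃ c : k, N i j = algebraMap k L c := by
    intro i j
    obtain ⟨c, hc⟩ := algHom_apply_mem_range_of_finite _ hfin μ hμstab (SLn.X i j)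
    exact ⟨c, by rw [← hc]; exact (SLn.pt_X N hdetN i j).symm⟩
  -- hence so are those of `DT`
  have hDT : DT = MLa * N * ML := by
    change DT = MLa * (ML * DT * MLa) * ML
    rw [Matrix.mul_assoc, Matrix.mul_assoc, Matrix.mul_assoc, hMaM, Matrix.mul_one,
      ← Matrix.mul_assoc, hMaM, Matrix.one_mul]
  apply hr0
  funext j
  have hmem : DT j j ∈ (algebraMap k L).range := by
    rw [hDT, Matrix.mul_apply]
    refine Subring.sum_mem _ fun l _ => Subring.mul_mem _ ?_ ⟨M' l j, rfl⟩
    rw [Matrix.mul_apply]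
    refine Subring.sum_mem _ fun l' _ => Subring.mul_mem _ ⟨M'.adjugate j l', rfl⟩ ?_
    obtain ⟨c, hc⟩ := hNc l' l
    exact ⟨c, hc.symm⟩
  obtain ⟨c, hc⟩ := hmem
  have hjj : DT j j = T (r j) := by
    change Matrix.diagonal (fun j => (T (r j) : L)) j j = _
    rw [Matrix.diagonal_apply_eq]
  rw [hjj] at hc
  exact T_eq_algebraMap_iff (r j) c hc.symm

end Main

end Groth.Agent.Helper7.SLHM
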