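import Mathlib

/-!
# A non-closed image of finite type has a rational boundary point (helper7)

`φ : k[x_ι] → A`, `A` of finite type over the algebraically closed field `k`.  If the image of
`Spec A → 𝔸^ι` is not closed, there is a rational point `y` of its closure which is not the image of any rational
point of `Spec A`.  (Chevalley's constructibility theorem and the Jacobson property.)
-/

set_option autoImplicit false
set_option linter.unusedSectionVars false
universe u v w

namespace Groth.Agent.Helper7.SLHM

open PrimeSpectrum Topology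

theorem exists_point_closure_not_range {k : Type u} [Field k] [IsAlgClosed k] {A : Type v} [CommRing A]
    [Algebra k A] [Algebra.FiniteType k A] {ι : Type w} [Finite ι] (φ : MvPolynomial ι k →ₐ[k] A)
    (hncl : ¬ IsClosed (Set.range (PrimeSpectrum.comap φ.toRingHom))) :
    ∃ y : ι → k, RingHom.ker φ ≤ RingHom.ker (MvPolynomial.aeval y : MvPolynomial ι k →ₐ[k] k) ∧
      ∀ g : A →ₐ[k] k, g.comp φ ≠ MvPolynomial.aeval y := by
  classical
  set E := Set.range (PrimeSpectrum.comap φ.toRingHom) with hE
  have hft : φ.toRingHom.FiniteType := by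
    have h1 : (φ.toRingHom.comp (algebraMap k (MvPolynomial ι k))).FiniteType := by
      have : φ.toRingHom.comp (algebraMap k (MvPolynomial ι k)) = algebraMap k A := by
        ext c; simp
      rw [this]
      exact RingHom.finiteType_algebraMap.mpr inferInstance
    exact RingHom.FiniteType.of_comp_finiteType h1
  have hfp : φ.toRingHom.FinitePresentation := RingHom.FinitePresentation.of_finiteType.mp hft
  have hEc : IsConstructible E := isConstructible_range_comap hfp
  have hclE : closure E = zeroLocus (RingHom.ker φ.toRingHom : Set (MvPolynomial ι k)) :=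
    closure_range_comap φ.toRingHom
  have hclc : IsConstructible (closure E) := by
    rw [hclE, ← isConstructible_compl]
    have hfg : (RingHom.ker φ.toRingHom).FG := (isNoetherianRing_iff_ideal_fg _).mp inferInstance _
    exact (isRetrocompact_zeroLocus_compl_of_fg hfg).isConstructible (isClosed_zeroLocus _).isOpen_compl
  have hZc : IsConstructible (closure E \ E) := hclc.sdiff hEc
  have hZne : (closure E \ E).Nonempty := by
    rw [Set.nonempty_iff_ne_empty, Ne, Set.sdiff_eq_empty]
    intro hsub
    exact hncl (closure_subset_iff_isClosed.mp hsub)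
  obtain ⟨S, hS⟩ := exists_constructibleSetData_iff.mpr hZc
  obtain ⟨x₀, hx₀⟩ := hZne
  rw [← hS, ConstructibleSetData.toSet] at hx₀
  simp only [Set.mem_iUnion] at hx₀
  obtain ⟨C, hCS, hx₀C⟩ := hx₀
  have hCsub : C.toSet ⊆ closure E \ E := by
    rw [← hS, ConstructibleSetData.toSet]
    intro x hx
    simp only [Set.mem_iUnion]
    exact ⟨C, hCS, hx⟩
  have hClc : IsLocallyClosed C.toSet := by
    rw [BasicConstructibleSetData.toSet, Set.sdiff_eq]
    exact (isClosed_zeroLocus _).isLocallyClosed.inter (isClosed_zeroLocus _).isOpen_compl.isLocallyClosed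
  obtain ⟨x, hxC, hxcl⟩ := nonempty_inter_closedPoints ⟨x₀, hx₀C⟩ hClc
  have hxmax : x.asIdeal.IsMaximal := (isClosed_singleton_iff_isMaximal x).mp hxcl
  obtain ⟨y, hy⟩ := (MvPolynomial.isMaximal_iff_eq_vanishingIdeal_singleton (K := k)).mp hxmax
  have hker : x.asIdeal = RingHom.ker (MvPolynomial.aeval y : MvPolynomial ι k →ₐ[k] k) := by
    rw [hy]
    ext p
    rw [MvPolynomial.mem_vanishingIdeal_singleton_iff, RingHom.mem_ker]
  obtain ⟨hxclE, hxE⟩ := hCsub hxC
  refine ⟨y, ?_, ?_⟩
  · rw [← hker]
    rw [hclE, mem_zeroLocus] at hxclE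
    exact hxclE
  · intro g hg
    apply hxE
    refine ⟨⟨RingHom.ker g, RingHom.ker_isPrime g⟩, ?_⟩
    apply PrimeSpectrum.ext
    change Ideal.comap φ.toRingHom (RingHom.ker g) = x.asIdeal
    rw [hker, ← hg]
    ext p
    simp [RingHom.mem_ker]

end Groth.Agent.Helper7.SLHM
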