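import Mathlib
import Groth.Agent.Helper7.ChevExtD

/-!
# An infinite affine scheme of finite type has a point at infinity (helper7)

`C` of finite type over the algebraically closed field `k`, not finite-dimensional.  Then there are a field
`F ⊇ k`, a `k`-algebra map `ψ : C → F` and a valuation ring of `F` with residue field `k` (a maximal graph `Γ`)
which does not contain `ψ(C)`.
-/

set_option autoImplicit false
set_option linter.unusedSectionVars false
universe u

namespace Groth.Agent.Helper7.SLHM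

open Groth.Agent.Helper7.ChevExt Polynomial

theorem exists_place_of_not_finite {k : Type u} [Field k] [IsAlgClosed k] {C : Type u} [CommRing C]
    [Algebra k C] [Algebra.FiniteType k C] (hnf : ¬ Module.Finite k C) :
    ∃ (F : Type u) (_ : Field F) (_ : Algebra k F) (ψ : C →ₐ[k] F) (Γ : Subalgebra k (F × k)),
      Maximal IsGraph Γ ∧ ∃ x : C, ∀ c : k, (ψ x, c) ∉ Γ := by
  -- a non-maximal prime
  obtain ⟨𝔭, h𝔭, h𝔭max⟩ : ∃ 𝔭 : Ideal C, 𝔭.IsPrime ∧ ¬ 𝔭.IsMaximal := by
    by_contra hcon
    push Not at hcon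
    exact hnf ((Module.finite_iff_krullDimLE_zero k C).mpr (Ring.krullDimLE_zero_iff.mpr hcon))
  let D := C ⧸ 𝔭
  let F := FractionRing D
  let ψ : C →ₐ[k] F := (IsScalarTower.toAlgHom k D F).comp (Ideal.Quotient.mkₐ k 𝔭)
  -- a non-zero non-unit of `D`
  obtain ⟨f, hf0, hfu⟩ : ∃ f : D, f ≠ 0 ∧ ¬ IsUnit f := by
    by_contra hcon
    push Not at hcon
    apply h𝔭max
    apply Ideal.Quotient.maximal_of_isField
    exact ⟨⟨0, 1, zero_ne_one⟩, mul_comm, fun {a} ha => (isUnit_iff_exists_inv.mp (hcon a ha))⟩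
  obtain ⟨x, hx⟩ := Ideal.Quotient.mk_surjective f
  set u : F := (algebraMap D F f)⁻¹ with hu
  have hfF : algebraMap D F f ≠ 0 := by
    intro h0
    exact hf0 (IsFractionRing.injective D F (h0.trans (map_zero _).symm))
  have hu0 : u ≠ 0 := inv_ne_zero hfF
  -- `u` is transcendental over `k`
  have htr : RingHom.ker (aeval u : k[X] →ₐ[k] F) ≤ RingHom.ker (aeval (0 : k) : k[X] →ₐ[k] k) := by
    intro p hp
    rw [RingHom.mem_ker] at hp
    by_cases hp0 : p = 0
    · rw [hp0]; exact Ideal.zero_mem _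
    exfalso
    have halg : IsAlgebraic k u := ⟨p, hp0, hp⟩
    have hint : IsIntegral k u := halg.isIntegral
    let S : Subalgebra k F := Algebra.adjoin k {u}
    haveI : Algebra.IsIntegral k S := by
      apply Algebra.IsIntegral.adjoin
      intro z hz
      rw [Set.mem_singleton_iff] at hz
      rw [hz]; exact hint
    obtain ⟨c, hc⟩ := (IsAlgClosed.algebraMap_bijective_of_isIntegral (k := k) (K := S)).2
      ⟨u, Algebra.subset_adjoin rfl⟩
    have hc' : algebraMap k F c = u := congrArg Subtype.val hc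
    have hc0 : c ≠ 0 := by
      rintro rfl
      rw [map_zero] at hc'
      exact hu0 hc'.symm
    apply hfu
    have hfc : f = algebraMap k D c⁻¹ := by
      apply IsFractionRing.injective D F
      rw [← IsScalarTower.algebraMap_apply, map_inv₀, hc', hu, inv_inv]
    rw [hfc]
    exact (IsUnit.mk0 _ (inv_ne_zero hc0)).map (algebraMap k D)
  obtain ⟨Γ, hΓ, hmem⟩ := chevalley (aeval u : k[X] →ₐ[k] F) (aeval (0 : k) : k[X] →ₐ[k] k) htr
  have hu0Γ : (u, (0 : k)) ∈ Γ := by
    have := hmem X
    simpa using this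
  refine ⟨F, inferInstance, inferInstance, ψ, Γ, hΓ, x, fun c hc => ?_⟩
  have hψx : ψ x = u⁻¹ := by
    change algebraMap D F (Ideal.Quotient.mk 𝔭 x) = _
    rw [hx, hu, inv_inv]
  rw [hψx] at hc
  have h1 : ((1 : F), (0 : k)) ∈ Γ := by
    have := Γ.mul_mem hu0Γ hc
    have e : ((u, (0 : k)) : F × k) * (u⁻¹, c) = (1, 0) := by
      ext
      · exact mul_inv_cancel₀ hu0
      · simp
    rwa [e] at this
  have h2 : ((0 : F), (-1 : k)) ∈ Γ := by
    have := Γ.sub_mem h1 Γ.one_mem
    have e : ((1, (0 : k)) : F × k) - 1 = (0, -1) := by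
      ext
      · simp
      · simp
    rwa [e] at this
  have := hΓ.1 _ h2 rfl
  simp at this

end Groth.Agent.Helper7.SLHM
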