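import Mathlib
import Groth.Agent.Helper7.SLHMb
import Groth.Agent.Helper7.SLHMf
import Groth.Agent.Helper7.SLHMg
import Groth.Agent.Helper7.SLHMh
import Groth.Agent.Helper7.ChevExtF

/-!
# Hilbert–Mumford for `SL_n`: unstable vectors are destabilised (helper7)
-/

set_option autoImplicit false
set_option linter.unusedSectionVars false
universe u v v' w

namespace Groth.Agent.Helper7.SLHM

open CoordGrp TensorProduct Matrix Groth.Agent.Helper7.ChevExt

section Pts

variable {k : Type u} [CommRing k] {n : ℕ}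

theorem SLn_mk_Dinv : SLn.mk n k GLn.Dinv = 1 := by
  have h : SLn.mk n k (GLn.Dinv * GLn.det) = 1 := by rw [GLn.Dinv_mul_det, map_one]
  rwa [map_mul, SLn.det_eq_one, mul_one] at h

theorem SLn_algHom_ext {B : Type v} [Semiring B] [Algebra k B] {f g : SLn n k →ₐ[k] B}
    (h : ∀ i j, f (SLn.X i j) = g (SLn.X i j)) : f = g :=
  SLn.algHom_ext h (by rw [SLn_mk_Dinv, map_one, map_one])

/-- if the matrix of a point has entries in the image of an injective `θ`, the point factors through `θ` -/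
theorem exists_factor {B : Type v} {B' : Type v'} [CommRing B] [Algebra k B] [CommRing B']
    [Algebra k B'] (θ : B →ₐ[k] B') (hθ : Function.Injective θ) (g : SLn n k →ₐ[k] B')
    (h : ∀ i j, ∃ b : B, θ b = matOf g i j) : ∃ g₀ : SLn n k →ₐ[k] B, θ.comp g₀ = g := by
  choose N hN using h
  have hNmap : (Matrix.of N).map θ = matOf g := by
    ext i j; exact hN i j
  have hdet : (Matrix.of N).det = 1 := by
    apply hθ
    have : θ (Matrix.of N).det = ((Matrix.of N).map θ).det := by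
      rw [← AlgHom.mapMatrix_apply, ← AlgHom.map_det]
    rw [this, hNmap, det_matOf, map_one]
  refine ⟨SLn.pt n k (Matrix.of N) hdet, SLn_algHom_ext fun i j => ?_⟩
  rw [AlgHom.comp_apply, SLn.pt_X]
  exact hN i j

end Pts

section Main

variable {k : Type u} [Field k] [IsAlgClosed k] {n : ℕ} {ι : Type w} [Fintype ι] [DecidableEq ι]
  (ρ : PolyRep k n ι)
  (cM : HopfRep.Comod k (Mat n k) (MvPolynomial ι k))
  (hcM : @GLin.IsCoactAlg k _ (Mat n k) _ _ (MvPolynomial ι k) _ _ cM)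
  (hX : ∀ m, cM.coact (MvPolynomial.X m) = ∑ l, MvPolynomial.X l ⊗ₜ[k] ρ.c l m)

include hX in
theorem exists_destab_of_not_closed (a : ι → k)
    (hncl : ¬ @GLin.IsClosedOrbit k _ (SLn n k) _ _ (MvPolynomial ι k) _ _ (cSL cM) (hcSL cM hcM)
      (GLin.vecPt k ι a)) :
    ∃ (M : Matrix (Fin n) (Fin n) k) (r : Fin n → ℤ), M.det = 1 ∧ r ≠ 0 ∧ ∑ j, r j = 0 ∧
      ∀ m, (a ᵥ* ρ.rho M) m ≠ 0 → 0 ≤ ρ.wtr r m := by
  obtain ⟨y, hycl, hyn⟩ := exists_point_closure_not_range (orb cM hcM a) hncl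
  obtain ⟨R, _, _, _, _, res, Ξ, h, hres, hcomp, hresh⟩ :=
    valuative_core' (orb cM hcM a) (MvPolynomial.aeval y) hycl
  have hh : (fun l => algebraMap k (FractionRing R) (a l)) ᵥ* ρ.rho (matOf Ξ) =
      fun m => algebraMap R (FractionRing R) (h (MvPolynomial.X m)) := by
    funext m
    have := congrArg (fun φ => φ (MvPolynomial.X m)) hcomp
    rw [comp_orb ρ cM hcM hX] at this
    simpa using this.symm
  obtain ⟨M, r, hM, hr, hnt, hpos⟩ := hm_core ρ R (FractionRing R) res hres a (matOf Ξ)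
    (det_matOf Ξ) (fun m => h (MvPolynomial.X m)) hh
  refine ⟨M, r, hM, hnt ?_, hr, fun m hm => (hpos m hm).1⟩
  by_contra hcon
  push Not at hcon
  obtain ⟨g₀, hg₀⟩ := exists_factor (IsScalarTower.toAlgHom k R (FractionRing R))
    (IsFractionRing.injective R (FractionRing R)) Ξ (fun i j => hcon i j)
  apply hyn (res.comp g₀)
  have hgh : g₀.comp (orb cM hcM a) = h := by
    apply AlgHom.ext
    intro f
    apply IsFractionRing.injective R (FractionRing R)
    have := congrArg (fun φ => φ f) hcomp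
    simp only [AlgHom.comp_apply] at this
    rw [← hg₀] at this
    exact this.symm
  rw [AlgHom.comp_assoc, hgh, hresh]

include hX in
theorem exists_destab_of_not_finiteStab (a : ι → k)
    (hnf : ¬ @GLin.HasFiniteStab k _ (SLn n k) _ _ (MvPolynomial ι k) _ _ (cSL cM) (hcSL cM hcM)
      (GLin.vecPt k ι a)) :
    ∃ (M : Matrix (Fin n) (Fin n) k) (r : Fin n → ℤ), M.det = 1 ∧ r ≠ 0 ∧ ∑ j, r j = 0 ∧
      ∀ m, (a ᵥ* ρ.rho M) m ≠ 0 → 0 ≤ ρ.wtr r m := by
  letI := cSL cM
  haveI := hcSL cM hcM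
  set I := GLin.stabIdeal k (SLn n k) (GLin.vecPt k ι a) with hI
  obtain ⟨F, _, _, ψ, Γ, hΓ, x, hx⟩ := exists_place_of_not_finite (C := SLn n k ⧸ I) hnf
  let Ξ₀ : SLn n k →ₐ[k] F := ψ.comp (Ideal.Quotient.mkₐ k I)
  haveI := isDomain_of_isGraph hΓ.1
  haveI := valuationRing hΓ
  letI := algGF Γ
  haveI := isFractionRing hΓ
  haveI := isScalarTower_algGF Γ
  -- `Ξ₀` fixes `a`
  have hΞorb : Ξ₀.comp (orb cM hcM a) = MvPolynomial.aeval (fun l => algebraMap k F (a l)) := by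
    apply AlgHom.ext
    intro f
    have hmem : f - MvPolynomial.C (MvPolynomial.aeval a f) ∈ RingHom.ker (GLin.vecPt k ι a) := by
      rw [RingHom.mem_ker, map_sub]
      simp
    have h1 : orb cM hcM a (f - MvPolynomial.C (MvPolynomial.aeval a f)) ∈ I :=
      Ideal.mem_map_of_mem _ hmem
    have h2 : Ξ₀ (orb cM hcM a (f - MvPolynomial.C (MvPolynomial.aeval a f))) = 0 := by
      change ψ (Ideal.Quotient.mk I _) = 0
      rw [Ideal.Quotient.eq_zero_iff_mem.mpr h1, map_zero]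
    rw [map_sub, map_sub, sub_eq_zero] at h2
    rw [AlgHom.comp_apply, h2, ← MvPolynomial.algebraMap_eq, AlgHom.commutes, AlgHom.commutes]
    have h3 : MvPolynomial.aeval (fun l => algebraMap k F (a l)) f =
        algebraMap k F (MvPolynomial.aeval a f) := by
      rw [← MvPolynomial.aeval_algebraMap_apply]; rfl
    rw [h3]
  have hh : (fun l => algebraMap k F (a l)) ᵥ* ρ.rho (matOf Ξ₀) =
      fun m => algebraMap Γ F (algebraMap k Γ (a m)) := by
    funext m
    have := congrArg (fun φ => φ (MvPolynomial.X m)) hΞorb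
    rw [comp_orb ρ cM hcM hX] at this
    simp only [MvPolynomial.aeval_X] at this
    rw [this, ← IsScalarTower.algebraMap_apply]
  obtain ⟨M, r, hM, hr, hnt, hpos⟩ := hm_core ρ Γ F (pr2 Γ) (ker_pr2_eq_maximalIdeal hΓ) a
    (matOf Ξ₀) (det_matOf Ξ₀) (fun m => algebraMap k Γ (a m)) hh
  refine ⟨M, r, hM, hnt ?_, hr, fun m hm => (hpos m hm).1⟩
  by_contra hcon
  push Not at hcon
  obtain ⟨g₀, hg₀⟩ := exists_factor (pr1 Γ) (pr1_injective hΓ.1) Ξ₀ (fun i j => hcon i j)
  obtain ⟨x', hx'⟩ := Ideal.Quotient.mk_surjective x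
  apply hx (pr2 Γ (g₀ x'))
  have h1 : ψ x = pr1 Γ (g₀ x') := by
    rw [← hx']
    have := congrArg (fun φ => φ x') hg₀
    exact this.symm
  rw [h1]
  exact (g₀ x').2

include hX in
theorem exists_destab_of_not_isStable (a : ι → k)
    (hns : ¬ @GLin.IsStableVec k _ (SLn n k) _ _ ι (cSL cM) (hcSL cM hcM) a) :
    ∃ (M : Matrix (Fin n) (Fin n) k) (r : Fin n → ℤ), M.det = 1 ∧ r ≠ 0 ∧ ∑ j, r j = 0 ∧
      ∀ m, (a ᵥ* ρ.rho M) m ≠ 0 → 0 ≤ ρ.wtr r m := by
  by_cases hcl : @GLin.IsClosedOrbit k _ (SLn n k) _ _ (MvPolynomial ι k) _ _ (cSL cM) (hcSL cM hcM)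
      (GLin.vecPt k ι a)
  · apply exists_destab_of_not_finiteStab ρ cM hcM hX a
    intro hfin
    exact hns ⟨hcl, hfin⟩
  · exact exists_destab_of_not_closed ρ cM hcM hX a hcl

end Main

end Groth.Agent.Helper7.SLHM
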