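import Mathlib
import Groth.Prelude.Def_HopfRep
import Groth.Agent.Helper8.LRFix
import Groth.Agent.Helper8.GLnEmb

/-!
# A Hopf algebra over a field with a normalised invariant integral is linearly reductive
-/

set_option autoImplicit false
universe u v

namespace Groth.Agent.Helper7.IntRed
open TensorProduct

theorem main (k : Type u) [Field k] (A : Type v) [CommRing A] [HopfAlgebra k A]
    (lam : A →ₗ[k] k)
    (hinv : ∀ a : A, (TensorProduct.rid k A) (LinearMap.lTensor A lam (Coalgebra.comul (R := k) a)) =
      lam a • (1 : A))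
    (h1 : lam 1 ≠ 0) :
    HopfRep.IsLinearlyReductive k A := by
  rw [Groth.Agent.Helper8.LRFix.main]
  intro V _ _ cV hfin π hπs hπ
  classical
  haveI := hfin
  set d := Module.finrank k V with hd
  let b : Module.Basis (Fin d) k V := Module.finBasis k V
  obtain ⟨M, hM1, hM2, hM3⟩ := Groth.Agent.Helper8.GLnEmb.exists_matrix cV b
  have key : ∀ l j, ∑ i, lam (M i j) • M l i = lam (M l j) • (1 : A) := by
    intro l j
    have h := hinv (M l j)
    rw [hM2] at h
    simp only [map_sum, LinearMap.lTensor_tmul, TensorProduct.rid_tmul] at h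
    exact h
  obtain ⟨u, hu⟩ := hπs 1
  set c : Fin d → k := fun i => ∑ j, lam (M i j) * b.repr u j with hc
  have hcM : ∀ l, ∑ i, c i • M l i = c l • (1 : A) := by
    intro l
    simp only [hc, Finset.sum_smul]
    rw [Finset.sum_comm]
    have : ∀ j, ∑ i, (lam (M i j) * b.repr u j) • M l i =
        b.repr u j • ∑ i, lam (M i j) • M l i := by
      intro j
      rw [Finset.smul_sum]
      refine Finset.sum_congr rfl fun i _ => ?_
      rw [smul_smul, mul_comm]
    simp_rw [this, key]
    refine Finset.sum_congr rfl fun j _ => ?_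
    rw [smul_smul, mul_comm]
  refine ⟨∑ i, c i • b i, ?_, ?_⟩
  · change HopfRep.Comod.coact (k := k) (A := A) (∑ i, c i • b i) = (∑ i, c i • b i) ⊗ₜ[k] 1
    rw [map_sum]
    simp only [map_smul]
    have h1 : ∀ i, HopfRep.Comod.coact (k := k) (A := A) (b i) = ∑ l, b l ⊗ₜ[k] M l i := hM1
    simp_rw [h1, Finset.smul_sum]
    rw [Finset.sum_comm]
    have h2 : ∀ l, ∑ i, c i • (b l ⊗ₜ[k] M l i) = (c l • b l) ⊗ₜ[k] (1 : A) := by
      intro l
      simp_rw [← TensorProduct.tmul_smul]
      rw [← TensorProduct.tmul_sum, hcM, TensorProduct.tmul_smul, TensorProduct.smul_tmul']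
    simp_rw [h2]
    rw [← TensorProduct.sum_tmul]
  · have hπM : ∀ j, ∑ i, π (b i) • M i j = π (b j) • (1 : A) := by
      intro j
      have h := LinearMap.congr_fun hπ (b j)
      simp only [LinearMap.comp_apply, LinearMap.flip_apply, TensorProduct.mk_apply] at h
      have h1 : HopfRep.Comod.coact (k := k) (A := A) (b j) = ∑ l, b l ⊗ₜ[k] M l j := hM1 j
      rw [h1, map_sum] at h
      simp only [LinearMap.rTensor_tmul] at h
      have h2 := congrArg (TensorProduct.lid k A) h
      simpa [map_sum, TensorProduct.lid_tmul] using h2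
    have hπl : ∀ j, ∑ i, π (b i) * lam (M i j) = π (b j) * lam 1 := by
      intro j
      have := congrArg lam (hπM j)
      simpa [map_sum, map_smul] using this
    have hu' : ∑ j, b.repr u j * π (b j) = 1 := by
      have h3 : π u = π (∑ j, b.repr u j • b j) := by rw [b.sum_repr]
      rw [map_sum] at h3
      simp only [map_smul, smul_eq_mul] at h3
      rw [← h3, hu]
    have hval : π (∑ i, c i • b i) = lam 1 := by
      rw [map_sum]
      simp only [map_smul, smul_eq_mul, hc, Finset.sum_mul]
      rw [Finset.sum_comm]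
      have : ∀ j, ∑ i, lam (M i j) * b.repr u j * π (b i) =
          b.repr u j * ∑ i, π (b i) * lam (M i j) := by
        intro j
        rw [Finset.mul_sum]
        refine Finset.sum_congr rfl fun i _ => ?_
        ring
      simp_rw [this, hπl]
      have : ∀ j, b.repr u j * (π (b j) * lam 1) = (b.repr u j * π (b j)) * lam 1 := by
        intro j; ring
      simp_rw [this]
      rw [← Finset.sum_mul, hu', one_mul]
    rw [hval]
    exact h1

end Groth.Agent.Helper7.IntRed
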