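import Mathlib
import Groth.Prelude.Def_GLin5
import Groth.Agent.Helper7.FischB
import Groth.Agent.Helper7.GLnChar

/-!
# Cayley's Ω-process on the coordinate rings of the matrix monoid and of `GL_n`
-/

set_option autoImplicit false
universe u

namespace Groth.Agent.Helper7.GLnRedA
open MvPolynomial CoordGrp TensorProduct
open Groth.Agent.Helper7.FischA Groth.Agent.Helper7.FischB Groth.Agent.Helper7.GLnChar

variable (n : ℕ) (k : Type u) [Field k]

/-- The functional `⟨det^m, ·⟩` on the coordinate ring of the matrix monoid. -/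
noncomputable def bdet (m : ℕ) : Mat n k →ₗ[k] k :=
  (pair (detY n k ^ m)) ∘ₗ (Mat.toPoly n k).toLinearMap

/-- `Mat ⊗ Mat → Mat[Y]`. -/
noncomputable def θ : Mat n k ⊗[k] Mat n k →ₐ[k] MvPolynomial (Fin n × Fin n) (Mat n k) :=
  Algebra.TensorProduct.lift (IsScalarTower.toAlgHom k (Mat n k) (MvPolynomial (Fin n × Fin n) (Mat n k)))
    ((MvPolynomial.mapAlgHom (Algebra.ofId k (Mat n k))).comp (Mat.toPoly n k).toAlgHom)
    (fun _ _ => Commute.all _ _)

theorem θ_tmul (a Q : Mat n k) :
    θ n k (a ⊗ₜ[k] Q) = C a * MvPolynomial.map (algebraMap k (Mat n k)) (Mat.toPoly n k Q) := by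
  simp [θ, Algebra.TensorProduct.lift_tmul]

theorem θ_comul :
    (θ n k).comp (Bialgebra.comulAlgHom k (Mat n k)) =
      ((subL (gmat (Mat.genMat n k))).restrictScalars k).comp
        ((MvPolynomial.mapAlgHom (Algebra.ofId k (Mat n k))).comp (Mat.toPoly n k).toAlgHom) := by
  apply Mat.algHom_ext
  intro i j
  simp only [AlgHom.comp_apply, Bialgebra.comulAlgHom_apply, Mat.comul_X, map_sum, θ_tmul]
  have h1 : (Mat.toPoly n k).toAlgHom (Mat.X i j) = (MvPolynomial.X (i, j) : MvPolynomial (Fin n × Fin n) k) := rfl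
  rw [h1]
  simp only [MvPolynomial.mapAlgHom_apply, MvPolynomial.map_X, AlgHom.restrictScalars_apply]
  rw [subL_gmat_X]
  refine Finset.sum_congr rfl fun l _ => ?_
  have h2 : (Mat.toPoly n k) (Mat.X l j) = (MvPolynomial.X (l, j) : MvPolynomial (Fin n × Fin n) k) := rfl
  rw [h2, MvPolynomial.map_X]
  rfl

theorem pair_θ (m : ℕ) (w : Mat n k ⊗[k] Mat n k) :
    (TensorProduct.rid k (Mat n k)) (LinearMap.lTensor (Mat n k) (bdet n k m) w) =
      pair (detY n (Mat n k) ^ m) (θ n k w) := by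
  induction w using TensorProduct.induction_on with
  | zero => simp
  | add x y hx hy => simp only [map_add, hx, hy]
  | tmul a Q =>
    rw [LinearMap.lTensor_tmul, TensorProduct.rid_tmul, θ_tmul, ← smul_eq_C_mul, map_smul]
    have h1 : detY n (Mat n k) ^ m = MvPolynomial.map (algebraMap k (Mat n k)) (detY n k ^ m) := by
      rw [map_pow, detY_map]
    rw [h1, pair_map, smul_eq_mul, Algebra.smul_def, mul_comm]
    rfl

/-- The key lemma of the Ω-process on the matrix monoid: `(id ⊗ ⟨det^m,·⟩) ∘ Δ = ⟨det^m,·⟩ · det^m`. -/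
theorem mat_key (m : ℕ) (P : Mat n k) :
    (TensorProduct.rid k (Mat n k)) (LinearMap.lTensor (Mat n k) (bdet n k m) (Coalgebra.comul P)) =
      bdet n k m P • (Mat.det n k) ^ m := by
  rw [pair_θ]
  have h := DFunLike.congr_fun (θ_comul n k) P
  simp only [AlgHom.comp_apply, Bialgebra.comulAlgHom_apply, AlgHom.restrictScalars_apply] at h
  rw [h, key]
  have h1 : detY n (Mat n k) ^ m = MvPolynomial.map (algebraMap k (Mat n k)) (detY n k ^ m) := by
    rw [map_pow, detY_map]
  rw [h1]
  change _ * pair _ (MvPolynomial.map (algebraMap k (Mat n k)) (Mat.toPoly n k P)) = _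
  rw [pair_map, Algebra.smul_def, mul_comm]
  rfl

/-! ### Passing to `GL_n` -/

theorem toGLn_eq_φ (P : Mat n k) : Mat.toGLn n k P = φ n k (Mat.toPoly n k P) := by
  have h : ((Mat.toGLn n k : Mat n k →ₐc[k] GLn n k) : Mat n k →ₐ[k] GLn n k) =
      (φ n k).comp (Mat.toPoly n k).toAlgHom := by
    apply Mat.algHom_ext
    intro i j
    have h1 : (Mat.toPoly n k).toAlgHom (Mat.X i j) =
        (MvPolynomial.X (i, j) : MvPolynomial (Fin n × Fin n) k) := rfl
    rw [AlgHom.comp_apply, h1, φ_X]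
    exact Mat.toGLn_X i j
  exact DFunLike.congr_fun h P

theorem toGLn_injective : Function.Injective (Mat.toGLn n k) := by
  intro P Q h
  rw [toGLn_eq_φ, toGLn_eq_φ] at h
  exact (Mat.toPoly n k).injective (φ_injective h)

theorem toGLn_det : Mat.toGLn n k (Mat.det n k) = GLn.det := by
  rw [toGLn_eq_φ]
  exact φ_detP

/-- `P ↦ P · det^{-m}`. -/
noncomputable def jm (m : ℕ) : Mat n k →ₗ[k] GLn n k :=
  (LinearMap.mulRight k (GLn.Dinv ^ m : GLn n k)) ∘ₗ
    ((Mat.toGLn n k : Mat n k →ₐc[k] GLn n k) : Mat n k →ₐ[k] GLn n k).toLinearMap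

theorem jm_apply (m : ℕ) (P : Mat n k) : jm n k m P = Mat.toGLn n k P * GLn.Dinv ^ m := rfl

theorem jm_injective (m : ℕ) : Function.Injective (jm n k m) := by
  intro P Q h
  rw [jm_apply, jm_apply] at h
  have h2 := congrArg (fun x => x * (GLn.det : GLn n k) ^ m) h
  simp only [mul_assoc, ← mul_pow, GLn.Dinv_mul_det, one_pow, mul_one] at h2
  exact toGLn_injective n k h2

theorem jm_det_pow (m : ℕ) : jm n k m (Mat.det n k ^ m) = 1 := by
  rw [jm_apply, map_pow, toGLn_det, ← mul_pow, GLn.det_mul_Dinv, one_pow]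

theorem jm_succ (m : ℕ) (P : Mat n k) : jm n k m P = jm n k (m + 1) (P * Mat.det n k) := by
  rw [jm_apply, jm_apply, map_mul, toGLn_det, pow_succ, mul_assoc, ← mul_assoc GLn.det, mul_comm GLn.det,
    mul_assoc (GLn.Dinv ^ m), GLn.det_mul_Dinv, mul_one]

theorem jm_add (m c : ℕ) (P : Mat n k) : jm n k m P = jm n k (m + c) (P * Mat.det n k ^ c) := by
  induction c with
  | zero => simp
  | succ c ih => rw [ih, jm_succ, ← add_assoc, mul_assoc, ← pow_succ]

theorem exists_jm (a : GLn n k) : ∃ (m : ℕ) (P : Mat n k), a = jm n k m P := by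
  obtain ⟨f, m, h⟩ := exists_repr a
  refine ⟨m, (Mat.toPoly n k).symm f, ?_⟩
  rw [jm_apply, toGLn_eq_φ, AlgEquiv.apply_symm_apply]
  exact h

theorem exists_jm_common {ι : Type*} [Finite ι] (a : ι → GLn n k) :
    ∃ m : ℕ, ∀ i, ∃ P : Mat n k, a i = jm n k m P := by
  classical
  cases nonempty_fintype ι
  choose m P h using fun i => exists_jm n k (a i)
  refine ⟨∑ i, m i, fun i => ?_⟩
  have hle : m i ≤ ∑ i, m i := Finset.single_le_sum (f := m) (fun _ _ => Nat.zero_le _) (Finset.mem_univ i)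
  obtain ⟨c, hc⟩ := Nat.exists_eq_add_of_le hle
  refine ⟨P i * Mat.det n k ^ c, ?_⟩
  rw [h i, hc]
  exact jm_add n k (m i) c (P i)

/-- A functional on `O(GL_n)` restricting to `⟨det^m, ·⟩` on `O(Mat)·det^{-m}`. -/
noncomputable def lam (m : ℕ) : GLn n k →ₗ[k] k :=
  (bdet n k m) ∘ₗ Classical.choose (LinearMap.exists_leftInverse_of_injective (jm n k m)
    (LinearMap.ker_eq_bot.mpr (jm_injective n k m)))

theorem lam_jm (m : ℕ) (P : Mat n k) : lam n k m (jm n k m P) = bdet n k m P := by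
  have h := Classical.choose_spec (LinearMap.exists_leftInverse_of_injective (jm n k m)
    (LinearMap.ker_eq_bot.mpr (jm_injective n k m)))
  unfold lam
  rw [LinearMap.comp_apply]
  congr 1
  exact LinearMap.congr_fun h P

theorem comul_Dinv_pow (m : ℕ) :
    Coalgebra.comul (R := k) ((GLn.Dinv : GLn n k) ^ m) = (GLn.Dinv ^ m) ⊗ₜ[k] (GLn.Dinv ^ m) := by
  rw [Bialgebra.comul_pow, GLn.comul_Dinv, Algebra.TensorProduct.tmul_pow]

theorem comul_jm (m : ℕ) (P : Mat n k) :
    Coalgebra.comul (R := k) (jm n k m P) =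
      TensorProduct.map (jm n k m) (jm n k m) (Coalgebra.comul (R := k) P) := by
  rw [jm_apply, Bialgebra.comul_mul, comul_Dinv_pow]
  have h1 : Coalgebra.comul (R := k) (Mat.toGLn n k P) =
      TensorProduct.map ((Mat.toGLn n k : Mat n k →ₐc[k] GLn n k) : Mat n k →ₗ[k] GLn n k)
        ((Mat.toGLn n k : Mat n k →ₐc[k] GLn n k) : Mat n k →ₗ[k] GLn n k) (Coalgebra.comul (R := k) P) := by
    have := CoalgHomClass.map_comp_comul (Mat.toGLn n k)
    exact (LinearMap.congr_fun this P).symm
  rw [h1]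
  generalize (Coalgebra.comul (R := k) P) = w
  induction w using TensorProduct.induction_on with
  | zero => simp
  | add x y hx hy => simp only [map_add, add_mul, hx, hy]
  | tmul a b =>
    rw [TensorProduct.map_tmul, TensorProduct.map_tmul, Algebra.TensorProduct.tmul_mul_tmul]
    rfl

/-- The key lemma of the Ω-process on `GL_n`. -/
theorem gl_key (m : ℕ) (P : Mat n k) :
    (TensorProduct.rid k (GLn n k)) (LinearMap.lTensor (GLn n k) (lam n k m)
      (Coalgebra.comul (R := k) (jm n k m P))) = bdet n k m P • (1 : GLn n k) := by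
  rw [comul_jm]
  have h : ∀ w : Mat n k ⊗[k] Mat n k,
      (TensorProduct.rid k (GLn n k)) (LinearMap.lTensor (GLn n k) (lam n k m)
        (TensorProduct.map (jm n k m) (jm n k m) w)) =
      jm n k m ((TensorProduct.rid k (Mat n k)) (LinearMap.lTensor (Mat n k) (bdet n k m) w)) := by
    intro w
    induction w using TensorProduct.induction_on with
    | zero => simp
    | add x y hx hy => simp only [map_add, hx, hy]
    | tmul a b =>
      rw [TensorProduct.map_tmul, LinearMap.lTensor_tmul, LinearMap.lTensor_tmul, TensorProduct.rid_tmul,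
        TensorProduct.rid_tmul, lam_jm, map_smul]
  rw [h, mat_key, map_smul, jm_det_pow]

theorem lam_one (m : ℕ) : lam n k m 1 = pair (detY n k ^ m) (detY n k ^ m) := by
  rw [← jm_det_pow n k m, lam_jm]
  rfl

end Groth.Agent.Helper7.GLnRedA
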