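import Mathlib
import Groth.Prelude.Def_GLin5
import Groth.Agent.Helper7.FischC
import Groth.Agent.Helper7.GLnRedA

/-!
# The Fischer pairing and the comultiplication of the matrix monoid: right-handed identities
-/

set_option autoImplicit false
universe u

namespace Groth.Agent.Helper7.GLnRedC
open MvPolynomial CoordGrp TensorProduct
open Groth.Agent.Helper7.FischA Groth.Agent.Helper7.FischB Groth.Agent.Helper7.FischC
open Groth.Agent.Helper7.GLnRedA

variable (n : ℕ) (k : Type u) [Field k]

/-- The functional `⟨Q, ·⟩` on the coordinate ring of the matrix monoid. -/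
noncomputable def bq (Q : Mat n k) : Mat n k →ₗ[k] k :=
  (pair (Mat.toPoly n k Q)) ∘ₗ (Mat.toPoly n k).toLinearMap

theorem bq_apply (Q P : Mat n k) : bq n k Q P = pair (Mat.toPoly n k Q) (Mat.toPoly n k P) := rfl

/-- `Mat ⊗ Mat → Mat[Y]`, the first factor giving the variables. -/
noncomputable def θ' : Mat n k ⊗[k] Mat n k →ₐ[k] MvPolynomial (Fin n × Fin n) (Mat n k) :=
  Algebra.TensorProduct.lift
    ((MvPolynomial.mapAlgHom (Algebra.ofId k (Mat n k))).comp (Mat.toPoly n k).toAlgHom)
    (IsScalarTower.toAlgHom k (Mat n k) (MvPolynomial (Fin n × Fin n) (Mat n k)))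
    (fun _ _ => Commute.all _ _)

theorem θ'_tmul (Q a : Mat n k) :
    θ' n k (Q ⊗ₜ[k] a) = C a * MvPolynomial.map (algebraMap k (Mat n k)) (Mat.toPoly n k Q) := by
  simp [θ', Algebra.TensorProduct.lift_tmul, mul_comm]

theorem θ'_comul :
    (θ' n k).comp (Bialgebra.comulAlgHom k (Mat n k)) =
      ((subL (gmat' (Mat.genMat n k))).restrictScalars k).comp
        ((MvPolynomial.mapAlgHom (Algebra.ofId k (Mat n k))).comp (Mat.toPoly n k).toAlgHom) := by
  apply Mat.algHom_ext
  intro i j
  simp only [AlgHom.comp_apply, Bialgebra.comulAlgHom_apply, Mat.comul_X, map_sum, θ'_tmul]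
  have h1 : (Mat.toPoly n k).toAlgHom (Mat.X i j) = (MvPolynomial.X (i, j) : MvPolynomial (Fin n × Fin n) k) := rfl
  rw [h1]
  simp only [MvPolynomial.mapAlgHom_apply, MvPolynomial.map_X, AlgHom.restrictScalars_apply]
  rw [subL_gmat'_X]
  refine Finset.sum_congr rfl fun l _ => ?_
  have h2 : (Mat.toPoly n k) (Mat.X i l) = (MvPolynomial.X (i, l) : MvPolynomial (Fin n × Fin n) k) := rfl
  rw [h2, MvPolynomial.map_X]
  rfl

theorem pair_θ' (Q : Mat n k) (w : Mat n k ⊗[k] Mat n k) :
    (TensorProduct.lid k (Mat n k)) (LinearMap.rTensor (Mat n k) (bq n k Q) w) =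
      pair (MvPolynomial.map (algebraMap k (Mat n k)) (Mat.toPoly n k Q)) (θ' n k w) := by
  induction w using TensorProduct.induction_on with
  | zero => simp
  | add x y hx hy => simp only [map_add, hx, hy]
  | tmul b a =>
    rw [LinearMap.rTensor_tmul, TensorProduct.lid_tmul, θ'_tmul, ← smul_eq_C_mul, map_smul, pair_map,
      smul_eq_mul, Algebra.smul_def, mul_comm]
    rfl

/-- `(⟨Q,·⟩ ⊗ id) ∘ Δ` in terms of the transposed substitution. -/
theorem mat_right (Q P : Mat n k) :
    (TensorProduct.lid k (Mat n k)) (LinearMap.rTensor (Mat n k) (bq n k Q) (Coalgebra.comul P)) =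
      pair (subR (gmat' (Mat.genMat n k)) (MvPolynomial.map (algebraMap k (Mat n k)) (Mat.toPoly n k Q)))
        (MvPolynomial.map (algebraMap k (Mat n k)) (Mat.toPoly n k P)) := by
  rw [pair_θ']
  have h := DFunLike.congr_fun (θ'_comul n k) P
  simp only [AlgHom.comp_apply, Bialgebra.comulAlgHom_apply, AlgHom.restrictScalars_apply] at h
  rw [h, pair_comm, pair_subL, pair_comm]
  rfl

/-- The key lemma of the Ω-process on the matrix monoid, on the right. -/
theorem mat_key' (m : ℕ) (P : Mat n k) :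
    (TensorProduct.lid k (Mat n k)) (LinearMap.rTensor (Mat n k) (bdet n k m) (Coalgebra.comul P)) =
      bdet n k m P • (Mat.det n k) ^ m := by
  have h0 : bdet n k m = bq n k ((Mat.toPoly n k).symm (detY n k ^ m)) := by
    apply LinearMap.ext
    intro P
    rw [bq_apply, AlgEquiv.apply_symm_apply]
    rfl
  rw [h0, mat_right, AlgEquiv.apply_symm_apply, map_pow, detY_map, map_pow, subR'_detY, mul_pow, ← map_pow,
    ← smul_eq_C_mul, map_smul, LinearMap.smul_apply]
  have h1 : detY n (Mat n k) ^ m = MvPolynomial.map (algebraMap k (Mat n k)) (detY n k ^ m) := by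
    rw [map_pow, detY_map]
  rw [h1, pair_map, smul_eq_mul, Algebra.smul_def, mul_comm, bq_apply, AlgEquiv.apply_symm_apply]
  rfl

/-- The product of entries `∏_t X (I t) (J t)`. -/
noncomputable def xm {a : ℕ} (I J : Fin a → Fin n) : Mat n k := ∏ t, Mat.X (I t) (J t)

/-- `(⟨x_{IK},·⟩ ⊗ id)(ΔP) = Σ_J ⟨x_{IJ}, P⟩ x_{KJ}`. -/
theorem mat_right_xm {a : ℕ} (I K : Fin a → Fin n) (P : Mat n k) :
    (TensorProduct.lid k (Mat n k)) (LinearMap.rTensor (Mat n k) (bq n k (xm n k I K)) (Coalgebra.comul P)) =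
      ∑ J : Fin a → Fin n, bq n k (xm n k I J) P • xm n k K J := by
  rw [mat_right]
  have h1 : MvPolynomial.map (algebraMap k (Mat n k)) (Mat.toPoly n k (xm n k I K)) =
      ∏ t, (X (I t, K t) : MvPolynomial (Fin n × Fin n) (Mat n k)) := by
    unfold xm
    rw [map_prod, map_prod]
    refine Finset.prod_congr rfl fun t _ => ?_
    have h2 : (Mat.toPoly n k) (Mat.X (I t) (K t)) =
        (MvPolynomial.X (I t, K t) : MvPolynomial (Fin n × Fin n) k) := rfl
    rw [h2, MvPolynomial.map_X]
  rw [h1, subR'_prod, map_sum, LinearMap.sum_apply]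
  refine Finset.sum_congr rfl fun J _ => ?_
  rw [← smul_eq_C_mul, map_smul, LinearMap.smul_apply]
  have h3 : (∏ t, (X (I t, J t) : MvPolynomial (Fin n × Fin n) (Mat n k))) =
      MvPolynomial.map (algebraMap k (Mat n k)) (Mat.toPoly n k (xm n k I J)) := by
    unfold xm
    rw [map_prod, map_prod]
    refine Finset.prod_congr rfl fun t _ => ?_
    have h2 : (Mat.toPoly n k) (Mat.X (I t) (J t)) =
        (MvPolynomial.X (I t, J t) : MvPolynomial (Fin n × Fin n) k) := rfl
    rw [h2, MvPolynomial.map_X]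
  rw [h3, pair_map, smul_eq_mul, Algebra.smul_def, mul_comm, bq_apply]
  rfl

end Groth.Agent.Helper7.GLnRedC
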