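import Mathlib
import Groth.Prelude.Def_GLin5
import Groth.Agent.Helper7.GLnRedC

/-!
# The invariant integral on the coordinate ring of the matrix monoid (characteristic zero)
-/

set_option autoImplicit false
universe u

namespace Groth.Agent.Helper7.SLnRedA
open MvPolynomial CoordGrp TensorProduct
open Groth.Agent.Helper7.FischA Groth.Agent.Helper7.FischB Groth.Agent.Helper7.FischC
open Groth.Agent.Helper7.GLnRedA Groth.Agent.Helper7.GLnRedC

variable (n : ℕ) (k : Type u) [Field k]

/-- `⟨det^m, det^m⟩`. -/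
noncomputable def cm (m : ℕ) : k := pair (detY n k ^ m) (detY n k ^ m)

theorem cm_ne_zero [CharZero k] (m : ℕ) : cm n k m ≠ 0 := pair_detY_pow_ne_zero m

theorem toPoly_det : Mat.toPoly n k (Mat.det n k) = detY n k := rfl

theorem bdet_det_pow (m : ℕ) : bdet n k m (Mat.det n k ^ m) = cm n k m := by
  have h : Mat.toPoly n k (Mat.det n k ^ m) = detY n k ^ m := by
    rw [map_pow (Mat.toPoly n k), toPoly_det]
  unfold bdet cm
  rw [LinearMap.comp_apply]
  change pair (detY n k ^ m) (Mat.toPoly n k (Mat.det n k ^ m)) = _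
  rw [h]

theorem det_ne_zero : Mat.det n k ≠ 0 := by
  intro h
  have h2 := congrArg (Mat.toPoly n k) h
  rw [toPoly_det, map_zero] at h2
  exact Matrix.det_mvPolynomialX_ne_zero (Fin n) k h2

/-- Fubini. -/
theorem fubini (L L' : Mat n k →ₗ[k] k) (w : Mat n k ⊗[k] Mat n k) :
    L ((TensorProduct.rid k (Mat n k)) (LinearMap.lTensor (Mat n k) L' w)) =
      L' ((TensorProduct.lid k (Mat n k)) (LinearMap.rTensor (Mat n k) L w)) := by
  induction w using TensorProduct.induction_on with
  | zero => simp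
  | add x y hx hy => simp only [map_add, hx, hy]
  | tmul a b =>
    simp only [LinearMap.lTensor_tmul, LinearMap.rTensor_tmul, TensorProduct.rid_tmul,
      TensorProduct.lid_tmul, map_smul, smul_eq_mul]
    ring

/-- A left semi-invariant functional of weight `det^m` is proportional to `⟨det^m, ·⟩`. -/
theorem uniq (m : ℕ) (L' : Mat n k →ₗ[k] k)
    (hL : ∀ P : Mat n k, (TensorProduct.rid k (Mat n k)) (LinearMap.lTensor (Mat n k) L' (Coalgebra.comul P)) =
      L' P • (Mat.det n k) ^ m) (P : Mat n k) :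
    cm n k m * L' P = L' (Mat.det n k ^ m) * bdet n k m P := by
  have h := fubini n k (bdet n k m) L' (Coalgebra.comul P)
  rw [hL, mat_key', map_smul, map_smul, bdet_det_pow, smul_eq_mul, smul_eq_mul] at h
  rw [mul_comm, h, mul_comm]

/-- `P ↦ ⟨det^{m+1}, det · P⟩`. -/
noncomputable def Ld (m : ℕ) : Mat n k →ₗ[k] k :=
  (bdet n k (m + 1)) ∘ₗ (LinearMap.mulLeft k (Mat.det n k))

theorem Ld_apply (m : ℕ) (P : Mat n k) : Ld n k m P = bdet n k (m + 1) (Mat.det n k * P) := rfl

theorem Ld_key (m : ℕ) (P : Mat n k) :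
    (TensorProduct.rid k (Mat n k)) (LinearMap.lTensor (Mat n k) (Ld n k m) (Coalgebra.comul P)) =
      Ld n k m P • (Mat.det n k) ^ m := by
  have h1 := mat_key n k (m + 1) (Mat.det n k * P)
  rw [Bialgebra.comul_mul, Mat.comul_det] at h1
  have h2 : ∀ w : Mat n k ⊗[k] Mat n k,
      (TensorProduct.rid k (Mat n k)) (LinearMap.lTensor (Mat n k) (bdet n k (m + 1))
        ((Mat.det n k ⊗ₜ[k] Mat.det n k) * w)) =
      Mat.det n k * (TensorProduct.rid k (Mat n k)) (LinearMap.lTensor (Mat n k) (Ld n k m) w) := by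
    intro w
    induction w using TensorProduct.induction_on with
    | zero => simp
    | add x y hx hy => simp only [mul_add, map_add, hx, hy]
    | tmul a b =>
      rw [Algebra.TensorProduct.tmul_mul_tmul, LinearMap.lTensor_tmul, LinearMap.lTensor_tmul,
        TensorProduct.rid_tmul, TensorProduct.rid_tmul, Ld_apply, mul_smul_comm]
  rw [h2] at h1
  have h3 : Mat.det n k * ((TensorProduct.rid k (Mat n k)) (LinearMap.lTensor (Mat n k) (Ld n k m)
      (Coalgebra.comul P))) = Mat.det n k * (Ld n k m P • (Mat.det n k) ^ m) := by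
    rw [h1, Ld_apply, pow_succ', mul_smul_comm]
  exact mul_left_cancel₀ (det_ne_zero n k) h3

theorem bdet_succ_det_mul (m : ℕ) (P : Mat n k) :
    cm n k m * bdet n k (m + 1) (Mat.det n k * P) = cm n k (m + 1) * bdet n k m P := by
  have h := uniq n k m (Ld n k m) (Ld_key n k m) P
  rw [Ld_apply, Ld_apply, ← pow_succ', bdet_det_pow] at h
  exact h

/-! ### Truncated integrals -/

/-- `Σ_{m<N} ⟨det^m, ·⟩ / ⟨det^m, det^m⟩`. -/
noncomputable def intN (N : ℕ) : Mat n k →ₗ[k] k :=
  ∑ m ∈ Finset.range N, (cm n k m)⁻¹ • bdet n k m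

theorem intN_apply (N : ℕ) (P : Mat n k) :
    intN n k N P = ∑ m ∈ Finset.range N, (cm n k m)⁻¹ * bdet n k m P := by
  simp [intN, LinearMap.sum_apply]

theorem bdet_zero_apply (P : Mat n k) : bdet n k 0 P = coeff 0 (Mat.toPoly n k P) := by
  unfold bdet
  rw [LinearMap.comp_apply, pow_zero, pair_one]
  rfl

theorem detY_isHomogeneous : (detY n k).IsHomogeneous n := by
  unfold detY
  rw [Matrix.det_apply]
  apply IsHomogeneous.sum
  intro σ _
  have h : (∏ i, Matrix.mvPolynomialX (Fin n) (Fin n) k (σ i) i).IsHomogeneous n := by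
    have := IsHomogeneous.prod (Finset.univ : Finset (Fin n))
      (fun i => Matrix.mvPolynomialX (Fin n) (Fin n) k (σ i) i) (fun _ => 1)
      (fun i _ => by rw [Matrix.mvPolynomialX_apply]; exact isHomogeneous_X _ _)
    simpa using this
  rcases Int.units_eq_one_or (Equiv.Perm.sign σ) with h1 | h1
  · rw [h1, one_smul]; exact h
  · rw [h1, Units.neg_smul, one_smul]; exact h.neg

theorem coeff_zero_det_mul (hn : 0 < n) (P : Mat n k) :
    coeff 0 (Mat.toPoly n k (Mat.det n k * P)) = 0 := by
  rw [map_mul, toPoly_det]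
  have h1 : coeff 0 (detY n k) = 0 := by
    apply (detY_isHomogeneous n k).coeff_eq_zero
    simp
    omega
  have : coeff 0 (detY n k * Mat.toPoly n k P) = coeff 0 (detY n k) * coeff 0 (Mat.toPoly n k P) := by
    have := (constantCoeff (R := k) (σ := Fin n × Fin n)).map_mul (detY n k) (Mat.toPoly n k P)
    simpa [constantCoeff_eq] using this
  rw [this, h1, zero_mul]

theorem intN_succ_det_mul [CharZero k] (hn : 0 < n) (N : ℕ) (P : Mat n k) :
    intN n k (N + 1) (Mat.det n k * P) = intN n k N P := by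
  rw [intN_apply, intN_apply, Finset.sum_range_succ', bdet_zero_apply, coeff_zero_det_mul n k hn, mul_zero,
    add_zero]
  refine Finset.sum_congr rfl fun m _ => ?_
  have h := bdet_succ_det_mul n k m P
  have h1 := cm_ne_zero n k m
  have h2 := cm_ne_zero n k (m + 1)
  field_simp
  linear_combination h

theorem intN_key (N : ℕ) (P : Mat n k) :
    (TensorProduct.rid k (Mat n k)) (LinearMap.lTensor (Mat n k) (intN n k N) (Coalgebra.comul P)) =
      ∑ m ∈ Finset.range N, ((cm n k m)⁻¹ * bdet n k m P) • (Mat.det n k) ^ m := by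
  unfold intN
  have hs : ∀ (s : Finset ℕ) (f : ℕ → (Mat n k →ₗ[k] k)),
      LinearMap.lTensor (Mat n k) (∑ m ∈ s, f m) = ∑ m ∈ s, LinearMap.lTensor (Mat n k) (f m) := by
    intro s f
    exact map_sum (LinearMap.lTensorHom (R := k) (Mat n k) (N := Mat n k) (P := k)) f s
  rw [hs, LinearMap.sum_apply, map_sum]
  refine Finset.sum_congr rfl fun m _ => ?_
  rw [LinearMap.lTensor_smul, LinearMap.smul_apply, map_smul, mat_key, smul_smul]

/-- the total degree -/
noncomputable def deg (P : Mat n k) : ℕ := (Mat.toPoly n k P).totalDegree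

theorem bdet_eq_zero_of_lt (hn : 0 < n) (m : ℕ) (P : Mat n k) (h : deg n k P < m) :
    bdet n k m P = 0 := by
  unfold bdet
  rw [LinearMap.comp_apply, pair_eq_sum]
  refine Finset.sum_eq_zero fun α hα => ?_
  have h1 : α.degree = n * m :=
    ((detY_isHomogeneous n k).pow m).degree_eq_sum_deg_support hα ▸ rfl
  have h2 : coeff α (Mat.toPoly n k P) = 0 := by
    apply coeff_eq_zero_of_totalDegree_lt
    have h3 : (Mat.toPoly n k P).totalDegree < n * m := by
      have : m ≤ n * m := Nat.le_mul_of_pos_left m hn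
      unfold deg at h
      omega
    have h4 : ∑ i ∈ α.support, α i = α.degree := rfl
    rw [h4, h1]
    exact h3
  change _ * coeff α (Mat.toPoly n k P) = 0
  rw [h2, mul_zero]

theorem intN_stab (hn : 0 < n) (N : ℕ) (P : Mat n k) (h : deg n k P < N) :
    intN n k N P = intN n k (deg n k P + 1) P := by
  rw [intN_apply, intN_apply]
  symm
  apply Finset.sum_subset
  · intro m hm
    rw [Finset.mem_range] at hm ⊢
    omega
  · intro m _ hm
    rw [Finset.mem_range] at hm
    rw [bdet_eq_zero_of_lt n k hn m P (by omega), mul_zero]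

end Groth.Agent.Helper7.SLnRedA
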