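import Mathlib
import Groth.Prelude.Def_GLin5
import Groth.Agent.Helper7.SLnRedA
import Groth.Agent.Helper7.IntRed

/-!
# `SL_n` is linearly reductive in characteristic zero
-/

set_option autoImplicit false
universe u

namespace Groth.Agent.Helper7.SLnRedB
open MvPolynomial CoordGrp TensorProduct
open Groth.Agent.Helper7.FischA Groth.Agent.Helper7.FischB
open Groth.Agent.Helper7.GLnRedA Groth.Agent.Helper7.GLnRedC Groth.Agent.Helper7.SLnRedA

variable (n : ℕ) (k : Type u) [Field k]

/-- `O(Mat) → O(SL_n)`. -/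
noncomputable def ψ : Mat n k →ₐc[k] SLn n k := (SLn.mkHom n k).comp (Mat.toGLn n k)

theorem ψ_apply (P : Mat n k) : ψ n k P = SLn.mk n k (Mat.toGLn n k P) := rfl

theorem mk_Dinv : SLn.mk n k (GLn.Dinv : GLn n k) = 1 := by
  have h := congrArg (SLn.mk n k) (GLn.Dinv_mul_det (n := n) (k := k))
  rw [map_mul, SLn.det_eq_one, mul_one, map_one] at h
  exact h

theorem ψ_det : ψ n k (Mat.det n k) = 1 := by
  rw [ψ_apply, toGLn_det, SLn.det_eq_one]

theorem ψ_surjective : Function.Surjective (ψ n k) := by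
  intro a
  obtain ⟨g, rfl⟩ := Ideal.Quotient.mkₐ_surjective k (GLn.slIdeal n k) a
  obtain ⟨m, P, rfl⟩ := exists_jm n k g
  refine ⟨P, ?_⟩
  rw [ψ_apply, jm_apply]
  change _ = SLn.mk n k (Mat.toGLn n k P * GLn.Dinv ^ m)
  rw [map_mul, map_pow, mk_Dinv, one_pow, mul_one]

/-- kernel of `ψ`: `P det^m = (det - 1) Q` for some `m`, `Q`. -/
theorem ψ_ker (P : Mat n k) (h : ψ n k P = 0) :
    ∃ (m : ℕ) (Q : Mat n k), P * Mat.det n k ^ m = (Mat.det n k - 1) * Q := by
  rw [ψ_apply] at h
  have h1 : Mat.toGLn n k P ∈ GLn.slIdeal n k := (Ideal.Quotient.eq_zero_iff_mem).mp h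
  obtain ⟨g, hg⟩ := Ideal.mem_span_singleton'.mp h1
  obtain ⟨m, Q, rfl⟩ := exists_jm n k g
  refine ⟨m, Q, ?_⟩
  apply toGLn_injective n k
  rw [map_mul, map_mul, map_sub, map_one, map_pow, toGLn_det]
  rw [jm_apply, GLn.slRel] at hg
  have h2 : Mat.toGLn n k Q * GLn.Dinv ^ m * (GLn.det - 1) * (GLn.det : GLn n k) ^ m =
      Mat.toGLn n k P * (GLn.det : GLn n k) ^ m := by rw [hg]
  rw [← h2]
  have h3 : (GLn.Dinv : GLn n k) ^ m * GLn.det ^ m = 1 := by
    rw [← mul_pow, GLn.Dinv_mul_det, one_pow]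
  symm
  calc (GLn.det - 1) * Mat.toGLn n k Q
      = Mat.toGLn n k Q * (GLn.Dinv ^ m * GLn.det ^ m) * (GLn.det - 1) := by rw [h3]; ring
    _ = Mat.toGLn n k Q * GLn.Dinv ^ m * (GLn.det - 1) * GLn.det ^ m := by ring

theorem comul_ψ (P : Mat n k) :
    Coalgebra.comul (R := k) (ψ n k P) =
      TensorProduct.map ((ψ n k : Mat n k →ₐc[k] SLn n k) : Mat n k →ₗ[k] SLn n k)
        ((ψ n k : Mat n k →ₐc[k] SLn n k) : Mat n k →ₗ[k] SLn n k) (Coalgebra.comul (R := k) P) := by
  have := CoalgHomClass.map_comp_comul (ψ n k)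
  exact (LinearMap.congr_fun this P).symm

section pos
variable [CharZero k] (hn : 0 < n)
include hn

theorem deg_add_le (P Q : Mat n k) : deg n k (P + Q) ≤ max (deg n k P) (deg n k Q) := by
  unfold deg
  rw [map_add]
  exact totalDegree_add _ _

theorem deg_smul_le (c : k) (P : Mat n k) : deg n k (c • P) ≤ deg n k P := by
  unfold deg
  rw [map_smul]
  exact totalDegree_smul_le _ _

/-- The invariant integral on `O(Mat)`. -/
noncomputable def intg : Mat n k →ₗ[k] k where
  toFun P := intN n k (deg n k P + 1) P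
  map_add' P Q := by
    have h := deg_add_le n k hn P Q
    set N := max (deg n k P) (deg n k Q) + 1 with hN
    rw [← intN_stab n k hn N (P + Q) (by omega), ← intN_stab n k hn N P (by omega),
      ← intN_stab n k hn N Q (by omega), map_add]
  map_smul' c P := by
    have h := deg_smul_le n k hn c P
    rw [← intN_stab n k hn (deg n k P + 1) (c • P) (by omega), map_smul]
    rfl

theorem intg_eq (N : ℕ) (P : Mat n k) (h : deg n k P < N) : intg n k hn P = intN n k N P :=
  (intN_stab n k hn N P h).symm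

theorem intg_det_mul (P : Mat n k) : intg n k hn (Mat.det n k * P) = intg n k hn P := by
  set N := max (deg n k (Mat.det n k * P)) (deg n k P) + 1 with hN
  rw [intg_eq n k hn (N + 1) _ (by omega), intg_eq n k hn N P (by omega), intN_succ_det_mul n k hn]

theorem intg_mul_det_pow (m : ℕ) (P : Mat n k) : intg n k hn (P * Mat.det n k ^ m) = intg n k hn P := by
  induction m with
  | zero => simp
  | succ m ih => rw [pow_succ, ← mul_assoc, mul_comm, intg_det_mul, ih]

theorem intg_one : intg n k hn 1 = 1 := by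
  have hd : deg n k (1 : Mat n k) = 0 := by
    unfold deg
    rw [map_one, totalDegree_one]
  rw [intg_eq n k hn 1 1 (by omega), intN_apply]
  simp only [Finset.range_one, Finset.sum_singleton]
  rw [bdet_zero_apply, map_one, coeff_zero_one]
  have : cm n k 0 = 1 := by
    unfold cm
    rw [pow_zero, pair_one, coeff_zero_one]
  rw [this]; simp

theorem intg_ker (P : Mat n k) (h : ψ n k P = 0) : intg n k hn P = 0 := by
  obtain ⟨m, Q, hQ⟩ := ψ_ker n k P h
  rw [← intg_mul_det_pow n k hn m P, hQ, sub_mul, one_mul, map_sub, intg_det_mul, sub_self]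

/-- The invariant integral on `O(SL_n)`. -/
noncomputable def lamS : SLn n k →ₗ[k] k :=
  (intg n k hn) ∘ₗ Classical.choose
    (LinearMap.exists_rightInverse_of_surjective ((ψ n k : Mat n k →ₐc[k] SLn n k) : Mat n k →ₗ[k] SLn n k)
      (LinearMap.range_eq_top.mpr (ψ_surjective n k)))

theorem lamS_ψ (P : Mat n k) : lamS n k hn (ψ n k P) = intg n k hn P := by
  have hs := Classical.choose_spec
    (LinearMap.exists_rightInverse_of_surjective ((ψ n k : Mat n k →ₐc[k] SLn n k) : Mat n k →ₗ[k] SLn n k)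
      (LinearMap.range_eq_top.mpr (ψ_surjective n k)))
  set s := Classical.choose
    (LinearMap.exists_rightInverse_of_surjective ((ψ n k : Mat n k →ₐc[k] SLn n k) : Mat n k →ₗ[k] SLn n k)
      (LinearMap.range_eq_top.mpr (ψ_surjective n k))) with hsdef
  have h1 : ψ n k (s (ψ n k P)) = ψ n k P := LinearMap.congr_fun hs (ψ n k P)
  have h2 : ψ n k (s (ψ n k P) - P) = 0 := by rw [map_sub, h1, sub_self]
  have h3 := intg_ker n k hn _ h2
  rw [map_sub, sub_eq_zero] at h3
  change intg n k hn (s (ψ n k P)) = _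
  exact h3

theorem exists_N (w : Mat n k ⊗[k] Mat n k) :
    ∃ N₀ : ℕ, ∀ N, N₀ ≤ N →
      LinearMap.lTensor (Mat n k) (intg n k hn) w = LinearMap.lTensor (Mat n k) (intN n k N) w := by
  induction w using TensorProduct.induction_on with
  | zero => exact ⟨0, fun N _ => by simp⟩
  | add x y hx hy =>
    obtain ⟨N₁, h₁⟩ := hx
    obtain ⟨N₂, h₂⟩ := hy
    refine ⟨max N₁ N₂, fun N hN => ?_⟩
    rw [map_add, map_add, h₁ N (le_trans (le_max_left _ _) hN), h₂ N (le_trans (le_max_right _ _) hN)]
  | tmul a b =>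
    refine ⟨deg n k b + 1, fun N hN => ?_⟩
    rw [LinearMap.lTensor_tmul, LinearMap.lTensor_tmul, intg_eq n k hn N b (by omega)]

theorem lamS_inv (a : SLn n k) :
    (TensorProduct.rid k (SLn n k)) (LinearMap.lTensor (SLn n k) (lamS n k hn) (Coalgebra.comul (R := k) a)) =
      lamS n k hn a • (1 : SLn n k) := by
  obtain ⟨P, rfl⟩ := ψ_surjective n k a
  rw [comul_ψ, lamS_ψ]
  have h : ∀ w : Mat n k ⊗[k] Mat n k,
      (TensorProduct.rid k (SLn n k)) (LinearMap.lTensor (SLn n k) (lamS n k hn)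
        (TensorProduct.map ((ψ n k : Mat n k →ₐc[k] SLn n k) : Mat n k →ₗ[k] SLn n k)
          ((ψ n k : Mat n k →ₐc[k] SLn n k) : Mat n k →ₗ[k] SLn n k) w)) =
      ψ n k ((TensorProduct.rid k (Mat n k)) (LinearMap.lTensor (Mat n k) (intg n k hn) w)) := by
    intro w
    induction w using TensorProduct.induction_on with
    | zero => simp
    | add x y hx hy => simp only [map_add, hx, hy]
    | tmul a b =>
      rw [TensorProduct.map_tmul, LinearMap.lTensor_tmul, LinearMap.lTensor_tmul, TensorProduct.rid_tmul,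
        TensorProduct.rid_tmul, map_smul]
      congr 1
      exact lamS_ψ n k hn b
  rw [h]
  obtain ⟨N₀, hN₀⟩ := exists_N n k hn (Coalgebra.comul (R := k) P)
  set N := max N₀ (deg n k P + 1) with hN
  rw [hN₀ N (le_max_left _ _), intN_key, map_sum, intg_eq n k hn N P (by omega), intN_apply, Finset.sum_smul]
  refine Finset.sum_congr rfl fun m _ => ?_
  rw [map_smul, map_pow, ψ_det, one_pow]

end pos

theorem main [CharZero k] : HopfRep.IsLinearlyReductive k (SLn n k) := by
  rcases Nat.eq_zero_or_pos n with h0 | hn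
  · subst h0
    -- the trivial group
    have hsc : ∀ a : SLn 0 k, ∃ c : k, a = algebraMap k _ c := by
      intro a
      obtain ⟨P, rfl⟩ := ψ_surjective 0 k a
      obtain ⟨c, hc⟩ := MvPolynomial.C_surjective (R := k) (Fin 0 × Fin 0) (Mat.toPoly 0 k P)
      refine ⟨c, ?_⟩
      have : P = algebraMap k (Mat 0 k) c := by
        apply (Mat.toPoly 0 k).injective
        rw [← hc, AlgEquiv.commutes]
        rfl
      rw [this, AlgHomClass.commutes]
    apply Groth.Agent.Helper7.IntRed.main k (SLn 0 k) (Coalgebra.counit (R := k) (A := SLn 0 k))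
    · intro a
      obtain ⟨c, rfl⟩ := hsc a
      rw [Algebra.algebraMap_eq_smul_one, map_smul, map_smul, map_smul, map_smul, Bialgebra.comul_one,
        Bialgebra.counit_one]
      simp [Algebra.TensorProduct.one_def]
    · rw [Bialgebra.counit_one]; exact one_ne_zero
  · apply Groth.Agent.Helper7.IntRed.main k (SLn n k) (lamS n k hn) (lamS_inv n k hn)
    have : (1 : SLn n k) = ψ n k 1 := (map_one _).symm
    rw [this, lamS_ψ, intg_one]
    exact one_ne_zero

end Groth.Agent.Helper7.SLnRedB
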