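import Mathlib
import Groth.Agent.Helper7.SLHMi
import Groth.Agent.Helper9.HomogComod
import Groth.Agent.S12559

/-!
# Hilbert–Mumford for `SL_n`: nullforms are strictly destabilised (helper7)

`inOrbitClosure_zero_of_isNullform` is the universe-general form of (one direction of) helper9's S19603
(same proof, through the Reynolds operator).
-/

set_option autoImplicit false
set_option linter.unusedSectionVars false
universe u v w

namespace Groth.Agent.Helper7.SLHM

open CoordGrp TensorProduct Matrix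

section General

variable {k : Type u} [Field k] {A : Type v} [CommRing A] [Bialgebra k A]
  {ι : Type w} [Fintype ι] [HopfRep.Comod k A (MvPolynomial ι k)]
  [GLin.IsCoactAlg k A (MvPolynomial ι k)]

theorem inOrbitClosure_zero_of_isNullform
    (hssR : HopfRep.IsSemisimpleComod k A (MvPolynomial ι k)) (hlin : GLin.IsLinear k A ι)
    (v : ι → k) (hnull : GLin.IsNullform k A v) :
    GLin.InOrbitClosure k A (GLin.vecPt k ι v) (GLin.vecPt k ι (fun _ => (0 : k))) := by
  by_contra hncl
  obtain ⟨E, hE₁, hE₂, hE₃⟩ := Groth.Agent.Helper9.exists_reynolds hssR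
  have : ∃ h ∈ RingHom.ker (GLin.orbitHom k A (GLin.vecPt k ι v)),
      GLin.vecPt k ι (fun _ => (0 : k)) h ≠ 0 := by
    by_contra hcon
    push Not at hcon
    exact hncl (fun h hh => (RingHom.mem_ker).mpr (hcon h hh))
  obtain ⟨h, hh, hh0⟩ := this
  set c := GLin.vecPt k ι (fun _ => (0 : k)) h with hc
  set a : MvPolynomial ι k := c⁻¹ • h with ha
  have haI : a ∈ RingHom.ker (GLin.orbitHom k A (GLin.vecPt k ι v)) := by
    rw [RingHom.mem_ker, ha, map_smul, (RingHom.mem_ker).mp hh, smul_zero]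
  have hb0 : (1 - a) ∈ RingHom.ker (GLin.vecPt k ι (fun _ => (0 : k))) := by
    rw [RingHom.mem_ker, map_sub, map_one, ha, map_smul, ← hc, smul_eq_mul,
      inv_mul_cancel₀ hh0, sub_self]
  have hinv : ∀ r, E r ∈ GLin.invariants k A (MvPolynomial ι k) := fun r => (hE₃ _).mp (hE₂ r)
  have hE1 : E 1 = 1 := (hE₃ 1).mpr (GLin.invariants k A (MvPolynomial ι k)).one_mem
  have hEa : E a ∈ RingHom.ker (GLin.orbitHom k A (GLin.vecPt k ι v)) :=
    Groth.Agent.Helper9.reynolds_mem hssR E hE₁ hE₂ hE₃ _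
      (Groth.Agent.Helper9.isSubcomod_ker_orbitHom _) a haI
  have hEb : E (1 - a) ∈ RingHom.ker (GLin.vecPt k ι (fun _ => (0 : k))) :=
    Groth.Agent.Helper9.reynolds_mem hssR E hE₁ hE₂ hE₃ _
      (Groth.Agent.Helper9.isSubcomod_ker_zero hlin) (1 - a) hb0
  set f := E (1 - a) with hf
  have hfv : GLin.vecPt k ι v f = 1 := by
    rw [hf, map_sub, hE1, map_sub, map_one,
      Groth.Agent.Helper9.apply_eq_zero_of_invariant_of_mem_ker _ _ (hinv a) hEa, sub_zero]
  have hsum := MvPolynomial.sum_homogeneousComponent f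
  have hfv' : ∑ d ∈ Finset.range (f.totalDegree + 1),
      GLin.vecPt k ι v (MvPolynomial.homogeneousComponent d f) = 1 := by
    rw [← map_sum, hsum, hfv]
  have : ∃ d ∈ Finset.range (f.totalDegree + 1),
      GLin.vecPt k ι v (MvPolynomial.homogeneousComponent d f) ≠ 0 := by
    by_contra hcon
    push Not at hcon
    rw [Finset.sum_eq_zero hcon] at hfv'
    exact zero_ne_one hfv'
  obtain ⟨d, _, hd⟩ := this
  have hd0 : d ≠ 0 := by
    intro h0
    subst h0
    apply hd
    rw [MvPolynomial.homogeneousComponent_zero]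
    have : MvPolynomial.coeff 0 f = 0 := by
      have := (RingHom.mem_ker).mp hEb
      have h5 : MvPolynomial.aeval (fun _ => (0 : k)) f = 0 := this
      rw [MvPolynomial.aeval_eq_eval, MvPolynomial.eval_zero', MvPolynomial.constantCoeff_eq]
        at h5
      exact h5
    rw [this, map_zero, map_zero]
  apply hd
  have hFinv : MvPolynomial.homogeneousComponent d f ∈ GLin.invariants k A (MvPolynomial ι k) :=
    Groth.Agent.Helper9.map_mem_fixedPts
      (Groth.Agent.Helper9.isComodHom_homogeneousComponent hlin d) (hinv (1 - a))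
  have := hnull _ hFinv d (Nat.pos_of_ne_zero hd0)
    (MvPolynomial.homogeneousComponent_isHomogeneous d f)
  show MvPolynomial.aeval v (MvPolynomial.homogeneousComponent d f) = 0
  rw [MvPolynomial.aeval_eq_eval]
  exact this

end General

section Main

variable {k : Type u} [Field k] [IsAlgClosed k] {n : ℕ} {ι : Type w} [Fintype ι] [DecidableEq ι]
  (ρ : PolyRep k n ι)
  (cM : HopfRep.Comod k (Mat n k) (MvPolynomial ι k))
  (hcM : @GLin.IsCoactAlg k _ (Mat n k) _ _ (MvPolynomial ι k) _ _ cM)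
  (hX : ∀ m, cM.coact (MvPolynomial.X m) = ∑ l, MvPolynomial.X l ⊗ₜ[k] ρ.c l m)

include hX in
theorem exists_strictDestab_of_inOrbitClosure_zero (a : ι → k)
    (hcl : @GLin.InOrbitClosure k _ (SLn n k) _ _ (MvPolynomial ι k) _ _ (cSL cM) (hcSL cM hcM)
      (GLin.vecPt k ι a) (GLin.vecPt k ι (fun _ => (0 : k)))) :
    ∃ (M : Matrix (Fin n) (Fin n) k) (r : Fin n → ℤ), M.det = 1 ∧ ∑ j, r j = 0 ∧
      ∀ m, (a ᵥ* ρ.rho M) m ≠ 0 → 0 < ρ.wtr r m := by
  obtain ⟨R, _, _, _, _, res, Ξ, h, hres, hcomp, hresh⟩ :=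
    Groth.Agent.Helper7.ChevExt.valuative_core' (orb cM hcM a)
      (MvPolynomial.aeval (fun _ : ι => (0 : k))) hcl
  have hh : (fun l => algebraMap k (FractionRing R) (a l)) ᵥ* ρ.rho (matOf Ξ) =
      fun m => algebraMap R (FractionRing R) (h (MvPolynomial.X m)) := by
    funext m
    have := congrArg (fun φ => φ (MvPolynomial.X m)) hcomp
    rw [comp_orb ρ cM hcM hX] at this
    simpa using this.symm
  obtain ⟨M, r, hM, hr, -, hpos⟩ := hm_core ρ R (FractionRing R) res hres a (matOf Ξ)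
    (det_matOf Ξ) (fun m => h (MvPolynomial.X m)) hh
  refine ⟨M, r, hM, hr, fun m hm => (hpos m hm).2 fun l => ?_⟩
  have := congrArg (fun φ => φ (MvPolynomial.X l)) hresh
  simpa using this

end Main

section Main0

variable {k : Type u} [Field k] [IsAlgClosed k] {n : ℕ} {ι : Type} [Fintype ι] [DecidableEq ι]
  (ρ : PolyRep k n ι)
  (cM : HopfRep.Comod k (Mat n k) (MvPolynomial ι k))
  (hcM : @GLin.IsCoactAlg k _ (Mat n k) _ _ (MvPolynomial ι k) _ _ cM)
  (hX : ∀ m, cM.coact (MvPolynomial.X m) = ∑ l, MvPolynomial.X l ⊗ₜ[k] ρ.c l m)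

include hX in
theorem exists_strictDestab_of_isNullform [CharZero k] (a : ι → k)
    (hnull : @GLin.IsNullform k _ (SLn n k) _ _ ι (cSL cM) (hcSL cM hcM) a) :
    ∃ (M : Matrix (Fin n) (Fin n) k) (r : Fin n → ℤ), M.det = 1 ∧ ∑ j, r j = 0 ∧
      ∀ m, (a ᵥ* ρ.rho M) m ≠ 0 → 0 < ρ.wtr r m := by
  letI := cSL cM
  haveI := hcSL cM hcM
  apply exists_strictDestab_of_inOrbitClosure_zero ρ cM hcM hX a
  have hss : HopfRep.IsSemisimpleComod k (SLn n k) (MvPolynomial ι k) :=
    Groth.Agent.Helper9.semisimple_of_finite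
      (fun V' _ _ _ hf => Groth.Agent.S12559.result k n V' hf)
  have hlin : GLin.IsLinear k (SLn n k) ι := by
    intro m
    refine ⟨fun l => piSL k n (ρ.c l m), ?_⟩
    change TensorProduct.map LinearMap.id
      ((piSL k n : Mat n k →ₐc[k] SLn n k) : Mat n k →ₗ[k] SLn n k) (cM.coact (MvPolynomial.X m)) = _
    rw [hX, map_sum]
    simp
  exact inOrbitClosure_zero_of_isNullform hss hlin a hnull

end Main0

end Groth.Agent.Helper7.SLHM
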