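import Mathlib
import Groth.Agent.Helper7.FrmC
import Groth.Agent.Helper7.FrmD

/-!
# Binary forms: the numerical criterion in terms of multiple roots (helper7)
-/

set_option autoImplicit false
set_option linter.unusedSectionVars false
universe u

namespace Groth.Agent.Helper7.Frm

open CoordGrp MvPolynomial Matrix Groth.Agent.Helper7.SLHM

section Lin

variable {k : Type u} [Field k]

/-- a homogeneous polynomial of degree one in two variables is a linear form -/
theorem eq_linear_of_isHomogeneous_one (ℓ : MvPolynomial (Fin 2) k) (h : ℓ.IsHomogeneous 1) :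
    ℓ = C (coeff (Finsupp.single 0 1) ℓ) * X 0 + C (coeff (Finsupp.single 1 1) ℓ) * X 1 := by
  classical
  ext μ
  rw [coeff_add, coeff_C_mul, coeff_C_mul, coeff_X, coeff_X]
  have hne : ¬ Finsupp.single (1 : Fin 2) 1 = Finsupp.single (0 : Fin 2) 1 := by
    intro e
    have := congrArg (fun f => f 0) e
    simp at this
  by_cases h1 : Finsupp.single 0 1 = μ
  · subst h1
    rw [if_pos rfl, if_neg hne]; simp
  · by_cases h2 : Finsupp.single 1 1 = μ
    · subst h2
      rw [if_neg (fun e => hne e.symm), if_pos rfl]; simp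
    · rw [if_neg h1, if_neg h2, mul_zero, mul_zero, add_zero]
      by_contra h0
      have hdeg : (Finsupp.weight 1) μ = 1 := h h0
      have hdeg' : μ 0 + μ 1 = 1 := by
        have := Finsupp.degree_eq_sum μ
        rw [Fin.sum_univ_two] at this
        rw [← this, Finsupp.degree_eq_weight_one]; exact hdeg
      rcases Nat.eq_zero_or_pos (μ 0) with h00 | h00
      · apply h2
        ext i; fin_cases i
        · simp [h00]
        · simp; omega
      · apply h1
        ext i; fin_cases i
        · simp; omega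
        · simp; omega

/-- a non-zero linear form can be moved to `X 0` by a matrix of determinant one -/
theorem exists_compM_eq_X0 (ℓ : MvPolynomial (Fin 2) k) (h : ℓ.IsHomogeneous 1) (h0 : ℓ ≠ 0) :
    ∃ M : Matrix (Fin 2) (Fin 2) k, M.det = 1 ∧ compM M ℓ = X 0 := by
  set α := coeff (Finsupp.single 0 1) ℓ with hα
  set β := coeff (Finsupp.single 1 1) ℓ with hβ
  have hℓ := eq_linear_of_isHomogeneous_one ℓ h
  obtain ⟨p, q, hpq⟩ : ∃ p q : k, p * α + q * β = 1 := by
    by_cases hα0 : α = 0
    · have hβ0 : β ≠ 0 := by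
        intro hβ0
        apply h0
        rw [hℓ, ← hα, ← hβ, hα0, hβ0]; simp
      exact ⟨0, β⁻¹, by rw [zero_mul, zero_add, inv_mul_cancel₀ hβ0]⟩
    · exact ⟨α⁻¹, 0, by rw [zero_mul, add_zero, inv_mul_cancel₀ hα0]⟩
  refine ⟨!![p, -β; q, α], ?_, ?_⟩
  · rw [Matrix.det_fin_two_of]; linear_combination hpq
  · rw [hℓ, ← hα, ← hβ, map_add, map_mul, map_mul, compM_X, compM_X, Fin.sum_univ_two,
      Fin.sum_univ_two, ← algebraMap_eq, AlgHom.commutes, AlgHom.commutes, algebraMap_eq]
    simp only [Matrix.of_apply, Matrix.cons_val_zero, Matrix.cons_val_one, Matrix.cons_val',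
      Matrix.cons_val_fin_one]
    have : (C α * (C p * X 0 + C (-β) * X 1) + C β * (C q * X 0 + C α * X 1) :
        MvPolynomial (Fin 2) k) = C (p * α + q * β) * X 0 := by
      simp only [map_add, map_mul, map_neg]; ring
    rw [this, hpq, map_one, one_mul]

/-- transport of divisibility by a power of a linear form / of a variable -/
theorem exists_linear_pow_dvd_iff (F : MvPolynomial (Fin 2) k) (E : ℕ) :
    (∃ (M : Matrix (Fin 2) (Fin 2) k) (j : Fin 2), M.det = 1 ∧ X j ^ E ∣ compM M F) ↔
      ∃ ℓ : MvPolynomial (Fin 2) k, ℓ.IsHomogeneous 1 ∧ ℓ ≠ 0 ∧ ℓ ^ E ∣ F := by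
  constructor
  · rintro ⟨M, j, hM, hdvd⟩
    have hMN : M * M.adjugate = 1 := by rw [Matrix.mul_adjugate, hM, one_smul]
    have hNM : M.adjugate * M = 1 := by rw [Matrix.adjugate_mul, hM, one_smul]
    refine ⟨compM M.adjugate (X j), isHomogeneous_compM_X _ _, ?_, ?_⟩
    · intro h0
      have := compM_compM_of_mul_eq_one hNM (X j : MvPolynomial (Fin 2) k)
      rw [h0, map_zero] at this
      exact (X_ne_zero j) this.symm
    · have := map_dvd (compM M.adjugate) hdvd
      rwa [map_pow, compM_compM_of_mul_eq_one hMN] at this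
  · rintro ⟨ℓ, hℓ, hℓ0, hdvd⟩
    obtain ⟨M, hM, hMℓ⟩ := exists_compM_eq_X0 ℓ hℓ hℓ0
    refine ⟨M, 0, hM, ?_⟩
    have := map_dvd (compM M) hdvd
    rwa [map_pow, hMℓ] at this

end Lin

end Groth.Agent.Helper7.Frm
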