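import Mathlib
import Groth.Agent.Helper7.FrmE

/-!
# Binary forms: stability and semistability in terms of root multiplicities (helper7)
-/

set_option autoImplicit false
set_option linter.unusedSectionVars false
universe u

namespace Groth.Agent.Helper7.Frm

open CoordGrp MvPolynomial Matrix Groth.Agent.Helper7.SLHM

section Bin

variable {k : Type u} [Field k] [CharZero k] {d : ℕ}

theorem forall_le_iff_X_pow_dvd {n : ℕ} (a' : FormIdx n d → k) (j : Fin n) (E : ℕ) :
    (∀ m, a' m ≠ 0 → E ≤ m.1 j) ↔ X j ^ E ∣ formPoly a' := by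
  rw [X_pow_dvd_iff]
  constructor
  · intro h μ hμ
    obtain ⟨m, rfl⟩ := exists_idx_of_coeff_ne_zero a' μ hμ
    exact h m ((coeff_formPoly_ne_zero_iff a' m).mp hμ)
  · intro h m hm
    exact h m.1 ((coeff_formPoly_ne_zero_iff a' m).mpr hm)

omit [CharZero k] in
theorem binary_wt (m : FormIdx 2 d) (r : Fin 2 → ℤ) (hr : ∑ j, r j = 0) :
    ∑ j, (m.1 j : ℤ) * r j = r 0 * (2 * (m.1 0 : ℤ) - d) ∧
      ∑ j, (m.1 j : ℤ) * r j = r 1 * (2 * (m.1 1 : ℤ) - d) := by
  have hdeg : m.1 0 + m.1 1 = d := by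
    have := Finsupp.degree_eq_sum m.1
    rw [Fin.sum_univ_two] at this
    rw [← this]; exact m.2
  rw [Fin.sum_univ_two] at hr ⊢
  have hd : (d : ℤ) = (m.1 0 : ℤ) + (m.1 1 : ℤ) := by exact_mod_cast hdeg.symm
  have hr1 : r 1 = - r 0 := by linarith
  constructor
  · rw [hd, hr1]; ring
  · rw [hd, hr1]; ring

variable [IsAlgClosed k]

theorem binary_destab_iff (a : FormIdx 2 d → k) :
    (∃ (M : Matrix (Fin 2) (Fin 2) k) (r : Fin 2 → ℤ), M.det = 1 ∧ r ≠ 0 ∧ ∑ j, r j = 0 ∧
        ∀ m, (a ᵥ* (formRep k 2 d).rho M) m ≠ 0 → 0 ≤ ∑ j, (m.1 j : ℤ) * r j) ↔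
      ∃ (M : Matrix (Fin 2) (Fin 2) k) (j : Fin 2), M.det = 1 ∧
        X j ^ ((d + 1) / 2) ∣ compM M (formPoly a) := by
  constructor
  · rintro ⟨M, r, hM, hr0, hr, hpos⟩
    rcases lt_trichotomy (r 0) 0 with hs | hs | hs
    · refine ⟨M, 1, hM, ?_⟩
      rw [compM, ← formPoly_vecMul, ← forall_le_iff_X_pow_dvd]
      intro m hm
      have h1 := hpos m hm
      rw [(binary_wt m r hr).2] at h1
      have hr1 : 0 < r 1 := by rw [Fin.sum_univ_two] at hr; linarith
      have := nonneg_of_mul_nonneg_right h1 hr1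
      omega
    · exfalso
      apply hr0
      funext j
      fin_cases j
      · exact hs
      · rw [Fin.sum_univ_two] at hr
        simp only [Pi.zero_apply]
        change r 1 = 0
        linarith
    · refine ⟨M, 0, hM, ?_⟩
      rw [compM, ← formPoly_vecMul, ← forall_le_iff_X_pow_dvd]
      intro m hm
      have h1 := hpos m hm
      rw [(binary_wt m r hr).1] at h1
      have := nonneg_of_mul_nonneg_right h1 hs
      omega
  · rintro ⟨M, j, hM, hdvd⟩
    rw [compM, ← formPoly_vecMul, ← forall_le_iff_X_pow_dvd] at hdvd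
    fin_cases j
    · refine ⟨M, ![1, -1], hM, ?_, by simp, fun m hm => ?_⟩
      · intro h
        have := congrFun h 0
        simp at this
      · rw [(binary_wt m ![1, -1] (by simp)).1]
        have := hdvd m hm
        simp only [Fin.zero_eta, Fin.isValue, Matrix.cons_val_zero, one_mul] at this ⊢
        omega
    · refine ⟨M, ![-1, 1], hM, ?_, by simp, fun m hm => ?_⟩
      · intro h
        have := congrFun h 0
        simp at this
      · rw [(binary_wt m ![-1, 1] (by simp)).2]
        have := hdvd m hm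
        simp only [Fin.mk_one, Fin.isValue, Matrix.cons_val_one, Matrix.cons_val_fin_one, one_mul] at this ⊢
        omega

theorem binary_strictDestab_iff (a : FormIdx 2 d → k) :
    (∃ (M : Matrix (Fin 2) (Fin 2) k) (r : Fin 2 → ℤ), M.det = 1 ∧ ∑ j, r j = 0 ∧
        ∀ m, (a ᵥ* (formRep k 2 d).rho M) m ≠ 0 → 0 < ∑ j, (m.1 j : ℤ) * r j) ↔
      ∃ (M : Matrix (Fin 2) (Fin 2) k) (j : Fin 2), M.det = 1 ∧
        X j ^ (d / 2 + 1) ∣ compM M (formPoly a) := by
  constructor
  · rintro ⟨M, r, hM, hr, hpos⟩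
    rcases lt_trichotomy (r 0) 0 with hs | hs | hs
    · refine ⟨M, 1, hM, ?_⟩
      rw [compM, ← formPoly_vecMul, ← forall_le_iff_X_pow_dvd]
      intro m hm
      have h1 := hpos m hm
      rw [(binary_wt m r hr).2] at h1
      have hr1 : 0 < r 1 := by rw [Fin.sum_univ_two] at hr; linarith
      have := pos_of_mul_pos_right h1 hr1.le
      omega
    · refine ⟨M, 0, hM, ?_⟩
      rw [compM, ← formPoly_vecMul, ← forall_le_iff_X_pow_dvd]
      intro m hm
      exfalso
      have h1 := hpos m hm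
      rw [(binary_wt m r hr).1, hs, zero_mul] at h1
      exact lt_irrefl _ h1
    · refine ⟨M, 0, hM, ?_⟩
      rw [compM, ← formPoly_vecMul, ← forall_le_iff_X_pow_dvd]
      intro m hm
      have h1 := hpos m hm
      rw [(binary_wt m r hr).1] at h1
      have := pos_of_mul_pos_right h1 hs.le
      omega
  · rintro ⟨M, j, hM, hdvd⟩
    rw [compM, ← formPoly_vecMul, ← forall_le_iff_X_pow_dvd] at hdvd
    fin_cases j
    · refine ⟨M, ![1, -1], hM, by simp, fun m hm => ?_⟩
      rw [(binary_wt m ![1, -1] (by simp)).1]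
      have := hdvd m hm
      simp only [Fin.zero_eta, Fin.isValue, Matrix.cons_val_zero, one_mul] at this ⊢
      omega
    · refine ⟨M, ![-1, 1], hM, by simp, fun m hm => ?_⟩
      rw [(binary_wt m ![-1, 1] (by simp)).2]
      have := hdvd m hm
      simp only [Fin.mk_one, Fin.isValue, Matrix.cons_val_one, Matrix.cons_val_fin_one, one_mul] at this ⊢
      omega

end Bin

end Groth.Agent.Helper7.Frm
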