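import Mathlib
import Groth.Agent.Helper7.FrmF

/-!
# Binary forms: the stability and semistability theorems (helper7)
-/

set_option autoImplicit false
set_option linter.unusedSectionVars false
universe u

namespace Groth.Agent.Helper7.Frm

open CoordGrp MvPolynomial Matrix Groth.Agent.Helper7.SLHM

variable (k : Type u) [Field k] [IsAlgClosed k] [CharZero k] (d : ℕ)

theorem binary_isStableVec_iff (a : FormIdx 2 d → k) :
    @GLin.IsStableVec k _ (SLn 2 k) _ _ (FormIdx 2 d)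
      (GLin.comodAlong ((SLn.mkHom 2 k).comp (Mat.toGLn 2 k)) (formsCoact k 2 d))
      (GLin.isCoactAlg_comodAlong ((SLn.mkHom 2 k).comp (Mat.toGLn 2 k)) (formsCoact k 2 d)
        (formsCoact_isCoactAlg k 2 d)) a ↔
      ∀ ℓ : MvPolynomial (Fin 2) k, ℓ.IsHomogeneous 1 → ℓ ≠ 0 →
        ∀ m : ℕ, ℓ ^ m ∣ formPoly a → 2 * m < d := by
  have key : (¬ @GLin.IsStableVec k _ (SLn 2 k) _ _ (FormIdx 2 d)
      (GLin.comodAlong ((SLn.mkHom 2 k).comp (Mat.toGLn 2 k)) (formsCoact k 2 d))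
      (GLin.isCoactAlg_comodAlong ((SLn.mkHom 2 k).comp (Mat.toGLn 2 k)) (formsCoact k 2 d)
        (formsCoact_isCoactAlg k 2 d)) a) ↔
      ∃ ℓ : MvPolynomial (Fin 2) k, ℓ.IsHomogeneous 1 ∧ ℓ ≠ 0 ∧ ℓ ^ ((d + 1) / 2) ∣ formPoly a := by
    rw [← exists_linear_pow_dvd_iff, ← binary_destab_iff, isStableVec_iff]
    push Not
    constructor
    · rintro ⟨M, r, hM, hr0, hr, h⟩
      exact ⟨M, r, hM, hr0, hr, h⟩
    · rintro ⟨M, r, hM, hr0, hr, h⟩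
      exact ⟨M, r, hM, hr0, hr, h⟩
  constructor
  · intro hst ℓ hℓ hℓ0 m hdvd
    by_contra hlt
    apply key.mpr _ hst
    refine ⟨ℓ, hℓ, hℓ0, dvd_trans (pow_dvd_pow ℓ ?_) hdvd⟩
    omega
  · intro h
    by_contra hns
    obtain ⟨ℓ, hℓ, hℓ0, hdvd⟩ := key.mp hns
    have := h ℓ hℓ hℓ0 _ hdvd
    omega

theorem binary_isSemistableVec_iff (a : FormIdx 2 d → k) :
    @GLin.IsSemistableVec k _ (SLn 2 k) _ _ (FormIdx 2 d)
      (GLin.comodAlong ((SLn.mkHom 2 k).comp (Mat.toGLn 2 k)) (formsCoact k 2 d))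
      (GLin.isCoactAlg_comodAlong ((SLn.mkHom 2 k).comp (Mat.toGLn 2 k)) (formsCoact k 2 d)
        (formsCoact_isCoactAlg k 2 d)) a ↔
      ∀ ℓ : MvPolynomial (Fin 2) k, ℓ.IsHomogeneous 1 → ℓ ≠ 0 →
        ∀ m : ℕ, ℓ ^ m ∣ formPoly a → 2 * m ≤ d := by
  have key : (@GLin.IsNullform k _ (SLn 2 k) _ _ (FormIdx 2 d)
      (GLin.comodAlong ((SLn.mkHom 2 k).comp (Mat.toGLn 2 k)) (formsCoact k 2 d))
      (GLin.isCoactAlg_comodAlong ((SLn.mkHom 2 k).comp (Mat.toGLn 2 k)) (formsCoact k 2 d)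
        (formsCoact_isCoactAlg k 2 d)) a) ↔
      ∃ ℓ : MvPolynomial (Fin 2) k, ℓ.IsHomogeneous 1 ∧ ℓ ≠ 0 ∧ ℓ ^ (d / 2 + 1) ∣ formPoly a := by
    rw [← exists_linear_pow_dvd_iff, ← binary_strictDestab_iff, isNullform_iff]
  unfold GLin.IsSemistableVec
  constructor
  · intro hss ℓ hℓ hℓ0 m hdvd
    by_contra hlt
    apply hss
    apply key.mpr
    refine ⟨ℓ, hℓ, hℓ0, dvd_trans (pow_dvd_pow ℓ ?_) hdvd⟩
    omega
  · intro h hnull
    obtain ⟨ℓ, hℓ, hℓ0, hdvd⟩ := key.mp hnull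
    have := h ℓ hℓ hℓ0 _ hdvd
    omega

end Groth.Agent.Helper7.Frm
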