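import Mathlib
import Groth.Prelude.Def_FrobAlg

set_option autoImplicit false
set_option linter.style.haveILetI false
set_option linter.unusedSectionVars false

/-! S17428: the relative Frobenius of an adic completion of an `F`-finite Noetherian ring is
bijective. -/

namespace Groth.Agent.Helper7.FrobCompl

open TensorProduct

universe u

section twist
variable (p : ℕ) [Fact p.Prime] (A : Type u) [CommRing A] [CharP A p]

theorem smul_twist (a : A) (t : FrobAlg.Twist p A) :
    a • t = FrobAlg.toTwist p A (a ^ p) * t := by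
  rw [Algebra.smul_def, FrobAlg.algebraMap_twist]

theorem mul_mem_smul_top (𝔞 : Ideal A) (r t : FrobAlg.Twist p A)
    (ht : t ∈ (𝔞 • ⊤ : Submodule A (FrobAlg.Twist p A))) :
    r * t ∈ (𝔞 • ⊤ : Submodule A (FrobAlg.Twist p A)) := by
  refine Submodule.smul_induction_on ht (fun a ha x _ => ?_) (fun x y hx hy => ?_)
  · rw [mul_smul_comm]
    exact Submodule.smul_mem_smul ha trivial
  · rw [mul_add]
    exact add_mem hx hy

theorem toTwist_mem_of_mem_map (𝔞 : Ideal A) (a : A) (ha : a ∈ 𝔞.map (frobenius A p)) :
    FrobAlg.toTwist p A a ∈ (𝔞 • ⊤ : Submodule A (FrobAlg.Twist p A)) := by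
  rw [Ideal.map] at ha
  induction ha using Submodule.span_induction with
  | mem x hx =>
    obtain ⟨c, hc, rfl⟩ := hx
    have : FrobAlg.toTwist p A (frobenius A p c) = c • (1 : FrobAlg.Twist p A) := by
      rw [smul_twist, mul_one, frobenius_def]
    rw [this]
    exact Submodule.smul_mem_smul hc trivial
  | zero => simp
  | add x y _ _ hx hy =>
    rw [map_add]
    exact add_mem hx hy
  | smul r x _ hx =>
    rw [smul_eq_mul, map_mul]
    exact mul_mem_smul_top p A 𝔞 _ _ hx

theorem exists_pow_le (𝔞 : Ideal A) (h𝔞 : 𝔞.FG) : ∃ k, 𝔞 ^ k ≤ 𝔞.map (frobenius A p) := by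
  apply Ideal.exists_pow_le_of_le_radical_of_fg _ h𝔞
  intro x hx
  refine ⟨p, ?_⟩
  rw [← frobenius_def]
  exact Ideal.mem_map_of_mem _ hx

end twist

section main
variable (p : ℕ) [Fact p.Prime] (A : Type u) [CommRing A] [CharP A p] (I : Ideal A)
  [CharP (AdicCompletion I A) p]

/-- the `A`-algebra map underlying the relative Frobenius -/
noncomputable abbrev L : FrobAlg.BaseChange p A (AdicCompletion I A) →ₐ[A]
    FrobAlg.Target p A (AdicCompletion I A) :=
  Algebra.TensorProduct.lift (FrobAlg.frobHom p A (AdicCompletion I A))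
    (FrobAlg.inclHom p A (AdicCompletion I A)) (fun _ _ => Commute.all _ _)

theorem L_tmul (b : AdicCompletion I A) (t : FrobAlg.Twist p A) :
    (FrobAlg.toTarget p A (AdicCompletion I A)).symm (L p A I (b ⊗ₜ t)) =
      b ^ p * algebraMap A (AdicCompletion I A) ((FrobAlg.toTwist p A).symm t) := by
  rw [L, Algebra.TensorProduct.lift_tmul]
  rfl

theorem relFrob_eq (z : FrobAlg.BaseChange p A (AdicCompletion I A)) :
    FrobAlg.relFrob p A (AdicCompletion I A) z =
      (FrobAlg.toTarget p A (AdicCompletion I A)).symm (L p A I z) := rfl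

/-- key compatibility between `L` and `ofTensorProduct` -/
theorem key (n m : ℕ) (hnm : n ≤ m) (z : FrobAlg.BaseChange p A (AdicCompletion I A)) :
    ∃ a : A, AdicCompletion.evalₐ I m
        ((FrobAlg.toTarget p A (AdicCompletion I A)).symm (L p A I z)) =
        Ideal.Quotient.mk (I ^ m) a ∧
      (AdicCompletion.ofTensorProduct I (FrobAlg.Twist p A) z).val n =
        Submodule.Quotient.mk (FrobAlg.toTwist p A a) := by
  induction z using TensorProduct.induction_on with
  | zero =>
    refine ⟨0, ?_, ?_⟩
    · simp
    · simp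
  | tmul b t =>
    induction b using AdicCompletion.induction_on with
    | _ f =>
    refine ⟨(f m) ^ p * (FrobAlg.toTwist p A).symm t, ?_, ?_⟩
    · rw [L_tmul, map_mul, map_pow, AdicCompletion.evalₐ_mk, AlgHom.commutes, map_mul, map_pow]
      rfl
    · rw [AdicCompletion.ofTensorProduct_tmul, AdicCompletion.smul_eval,
        AdicCompletion.mk_apply_coe]
      have h1 : (f m) • t = FrobAlg.toTwist p A ((f m) ^ p * (FrobAlg.toTwist p A).symm t) := by
        rw [smul_twist, map_mul, RingEquiv.apply_symm_apply]
      rw [← h1]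
      change (Ideal.Quotient.mk (I ^ n • ⊤) (f n)) • Submodule.Quotient.mk t = _
      rw [AdicCompletion.mk_smul_mk, ← Submodule.Quotient.mk_smul, Submodule.Quotient.eq,
        ← sub_smul]
      refine Submodule.smul_mem_smul ?_ Submodule.mem_top
      have := f.property hnm
      rw [SModEq.sub_mem] at this
      simpa using this
  | add x y hx hy =>
    obtain ⟨a, ha1, ha2⟩ := hx
    obtain ⟨b, hb1, hb2⟩ := hy
    refine ⟨a + b, ?_, ?_⟩
    · rw [map_add, map_add, map_add, ha1, hb1, map_add]
    · rw [map_add, AdicCompletion.val_add_apply, ha2, hb2, map_add]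
      rfl

theorem symm_mem_smul_top (𝔞 : Ideal A) (x : FrobAlg.Target p A (AdicCompletion I A))
    (hx : x ∈ (𝔞 • ⊤ : Submodule A (FrobAlg.Target p A (AdicCompletion I A)))) :
    (FrobAlg.toTarget p A (AdicCompletion I A)).symm x ∈
      (𝔞 • ⊤ : Submodule A (AdicCompletion I A)) := by
  refine Submodule.smul_induction_on hx (fun a ha y _ => ?_) (fun x y hx hy => ?_)
  · have hp : p - 1 + 1 = p := Nat.sub_add_cancel (Fact.out : p.Prime).one_le
    have : (FrobAlg.toTarget p A (AdicCompletion I A)).symm (a • y) =
        a • ((algebraMap A (AdicCompletion I A) a) ^ (p - 1) *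
          (FrobAlg.toTarget p A (AdicCompletion I A)).symm y) := by
      rw [Algebra.smul_def, FrobAlg.algebraMap_target, map_mul, RingEquiv.symm_apply_apply,
        Algebra.smul_def, ← mul_assoc, ← pow_succ', hp]
    rw [this]
    exact Submodule.smul_mem_smul ha Submodule.mem_top
  · rw [map_add]
    exact add_mem hx hy

theorem toTarget_mem_smul_top (k : ℕ) (hk : I ^ k ≤ I.map (frobenius A p))
    (w : AdicCompletion I A) (hw : w ∈ (I ^ k • ⊤ : Submodule A (AdicCompletion I A))) :
    FrobAlg.toTarget p A (AdicCompletion I A) w ∈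
      (I • ⊤ : Submodule A (FrobAlg.Target p A (AdicCompletion I A))) := by
  have aux : ∀ c ∈ I.map (frobenius A p), ∀ v : AdicCompletion I A,
      FrobAlg.toTarget p A (AdicCompletion I A) (c • v) ∈
        (I • ⊤ : Submodule A (FrobAlg.Target p A (AdicCompletion I A))) := by
    intro c hc
    rw [Ideal.map] at hc
    induction hc using Submodule.span_induction with
    | mem x hx =>
      obtain ⟨i, hi, rfl⟩ := hx
      intro v
      have : FrobAlg.toTarget p A (AdicCompletion I A) (frobenius A p i • v) =
          i • FrobAlg.toTarget p A (AdicCompletion I A) v := by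
        rw [Algebra.smul_def i, FrobAlg.algebraMap_target, ← map_mul, Algebra.smul_def,
          frobenius_def, map_pow]
      rw [this]
      exact Submodule.smul_mem_smul hi Submodule.mem_top
    | zero =>
      intro v
      simp
    | add x y _ _ hx hy =>
      intro v
      rw [add_smul, map_add]
      exact add_mem (hx v) (hy v)
    | smul r x _ hx =>
      intro v
      rw [smul_eq_mul, mul_comm, mul_smul]
      exact hx _
  refine Submodule.smul_induction_on hw (fun c hc v _ => aux c (hk hc) v) (fun x y hx hy => ?_)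
  rw [map_add]
  exact add_mem hx hy

theorem isHausdorff_target : IsHausdorff I (FrobAlg.Target p A (AdicCompletion I A)) := by
  refine ⟨fun x hx => ?_⟩
  have h0 : (FrobAlg.toTarget p A (AdicCompletion I A)).symm x = 0 := by
    apply (inferInstance : IsHausdorff I (AdicCompletion I A)).haus
    intro n
    rw [SModEq.zero]
    exact symm_mem_smul_top p A I (I ^ n) x (SModEq.zero.mp (hx n))
  simpa using congrArg (FrobAlg.toTarget p A (AdicCompletion I A)) h0

variable [IsNoetherianRing A] (hF : (frobenius A p).Finite)

include hF in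
theorem finite_twist : Module.Finite A (FrobAlg.Twist p A) := hF

include hF in
theorem L_injective : Function.Injective (L p A I) := by
  haveI := finite_twist p A hF
  rw [injective_iff_map_eq_zero]
  intro z hz
  apply (AdicCompletion.ofTensorProduct_bijective_of_finite_of_isNoetherian I
    (FrobAlg.Twist p A)).1
  rw [map_zero]
  ext n
  rw [AdicCompletion.val_zero_apply]
  obtain ⟨k, hk⟩ := exists_pow_le p A (I ^ n) (IsNoetherian.noetherian _)
  obtain ⟨a, ha1, ha2⟩ := key p A I n (n * k + n) (Nat.le_add_left _ _) z
  have ha : a ∈ I ^ (n * k + n) := by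
    rw [← Ideal.Quotient.eq_zero_iff_mem, ← ha1, hz]
    simp
  rw [ha2, Submodule.Quotient.mk_eq_zero]
  have ha' : a ∈ (I ^ n) ^ k := by
    rw [pow_add, pow_mul] at ha
    exact Ideal.mul_le_left ha
  exact toTwist_mem_of_mem_map p A (I ^ n) a (hk ha')

include hF in
theorem L_surjective : Function.Surjective (L p A I) := by
  haveI := finite_twist p A hF
  haveI := isHausdorff_target p A I
  haveI : IsAdicComplete I (AdicCompletion I (FrobAlg.Twist p A)) :=
    AdicCompletion.isAdicComplete (IsNoetherian.noetherian I)
  let e := (AdicCompletion.ofTensorProductEquivOfFiniteNoetherian I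
    (FrobAlg.Twist p A)).restrictScalars A
  let f : AdicCompletion I (FrobAlg.Twist p A) →ₗ[A] FrobAlg.Target p A (AdicCompletion I A) :=
    (L p A I).toLinearMap ∘ₗ e.symm.toLinearMap
  have hf : Function.Surjective f := by
    apply surjective_of_mkQ_comp_surjective (I := I)
    intro y'
    obtain ⟨y, rfl⟩ := Submodule.mkQ_surjective _ y'
    obtain ⟨k, hk⟩ := exists_pow_le p A I (IsNoetherian.noetherian _)
    obtain ⟨a, ha⟩ := Ideal.Quotient.mk_surjective
      (AdicCompletion.evalₐ I k ((FrobAlg.toTarget p A (AdicCompletion I A)).symm y))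
    refine ⟨e (1 ⊗ₜ FrobAlg.toTwist p A a), ?_⟩
    rw [LinearMap.comp_apply, Submodule.mkQ_apply, Submodule.mkQ_apply, Submodule.Quotient.eq]
    have h1 : f (e (1 ⊗ₜ FrobAlg.toTwist p A a)) =
        FrobAlg.toTarget p A (AdicCompletion I A) (algebraMap A (AdicCompletion I A) a) := by
      simp only [f, LinearMap.comp_apply, LinearEquiv.coe_coe, LinearEquiv.symm_apply_apply]
      apply (FrobAlg.toTarget p A (AdicCompletion I A)).symm.injective
      rw [AlgHom.toLinearMap_apply, L_tmul]
      simp
    rw [h1]
    have h2 : algebraMap A (AdicCompletion I A) a -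
        (FrobAlg.toTarget p A (AdicCompletion I A)).symm y ∈
        (I ^ k • ⊤ : Submodule A (AdicCompletion I A)) := by
      rw [AdicCompletion.pow_smul_top_eq_ker_eval (IsNoetherian.noetherian I), LinearMap.mem_ker,
        map_sub, sub_eq_zero,
        ← AdicCompletion.factor_evalₐ_eq_eval I _ (le_of_eq (by simp)),
        ← AdicCompletion.factor_evalₐ_eq_eval I _ (le_of_eq (by simp)), ← ha, AlgHom.commutes]
      rfl
    have := toTarget_mem_smul_top p A I k hk _ h2
    rwa [map_sub, RingEquiv.apply_symm_apply] at this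
  intro y
  obtain ⟨x, hx⟩ := hf y
  exact ⟨e.symm x, hx⟩

include hF in
theorem s17428 : Function.Bijective (FrobAlg.relFrob p A (AdicCompletion I A)) := by
  have hL : Function.Bijective (L p A I) := ⟨L_injective p A I hF, L_surjective p A I hF⟩
  exact (FrobAlg.toTarget p A (AdicCompletion I A)).symm.bijective.comp hL

end main

end Groth.Agent.Helper7.FrobCompl
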