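import Mathlib

namespace Groth.Agent.Helper7.FrobSys

open MvPolynomial

set_option linter.unusedSectionVars false

universe u

variable {R : Type u} [CommRing R] (p : ℕ) [Fact p.Prime] [CharP R p] {n : ℕ}
  (B : Matrix (Fin n) (Fin n) R) (c : Fin n → R)

/-- the relations `X_i^p - Σ_j B_ij X_j - c_i`. -/
noncomputable def rel (i : Fin n) : MvPolynomial (Fin n) R :=
  X i ^ p - ∑ j, C (B i j) * X j - C (c i)

/-- the algebra of the system -/
abbrev Sys := MvPolynomial (Fin n) R ⧸ Ideal.span (Set.range (rel p B c))

noncomputable def pres : Algebra.Presentation R (Sys p B c) (Fin n) (Fin n) :=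
  Algebra.Presentation.naive (v := rel p B c)

noncomputable def preSub : Algebra.PreSubmersivePresentation R (Sys p B c) (Fin n) (Fin n) :=
  { pres p B c with map := id, map_inj := Function.injective_id }

lemma pderiv_rel (i j : Fin n) : pderiv i (rel p B c j) = - C (B j i) := by
  have hp : ((p : ℕ) : MvPolynomial (Fin n) R) = 0 := by
    rw [← map_natCast (C : R →+* MvPolynomial (Fin n) R), CharP.cast_eq_zero, map_zero]
  simp only [rel, map_sub, map_sum, Derivation.leibniz, pderiv_C, Derivation.leibniz_pow,
    pderiv_X, add_zero, nsmul_eq_mul, hp, zero_mul, smul_eq_mul, mul_zero, zero_sub,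
    sub_zero]
  congr 1
  rw [Finset.sum_eq_single i]
  · simp
  · intro b _ hb
    simp [hb]
  · intro h; exact absurd (Finset.mem_univ _) h

lemma jacobiMatrix_eq : (preSub p B c).jacobiMatrix = - (B.transpose.map C) := by
  apply Matrix.ext
  intro i j
  rw [Algebra.PreSubmersivePresentation.jacobiMatrix_apply]
  change pderiv i (rel p B c j) = _
  rw [pderiv_rel]
  simp

lemma jacobian_isUnit (hB : IsUnit B.det) : IsUnit (preSub p B c).jacobian := by
  rw [Algebra.PreSubmersivePresentation.jacobian_eq_jacobiMatrix_det, jacobiMatrix_eq,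
    Matrix.det_neg]
  have : (B.transpose.map (C : R → MvPolynomial (Fin n) R)).det = C B.det := by
    have := (RingHom.map_det (C : R →+* MvPolynomial (Fin n) R) B.transpose).symm
    rw [Matrix.det_transpose] at this
    exact this
  rw [this, map_mul, map_pow, map_neg, map_one]
  have hneg : IsUnit ((-1 : Sys p B c) ^ Fintype.card (Fin n)) := by
    have := ((-1 : (Sys p B c)ˣ) ^ Fintype.card (Fin n)).isUnit
    simpa using this
  refine IsUnit.mul hneg ?_
  have : algebraMap (preSub p B c).Ring (Sys p B c) (C B.det) = algebraMap R (Sys p B c) B.det := by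
    rfl
  rw [this]
  exact hB.map _

noncomputable def sub (hB : IsUnit B.det) :
    Algebra.SubmersivePresentation R (Sys p B c) (Fin n) (Fin n) :=
  { preSub p B c with jacobian_isUnit := jacobian_isUnit p B c hB }

theorem etale (hB : IsUnit B.det) : Algebra.Etale R (Sys p B c) := by
  have : Algebra.IsStandardSmoothOfRelativeDimension 0 R (Sys p B c) :=
    (sub p B c hB).isStandardSmoothOfRelativeDimension (by
      simp [Algebra.Presentation.dimension])
  infer_instance

end Groth.Agent.Helper7.FrobSys
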