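import Mathlib
import Groth.Agent.Helper7.FrobSys1
import Groth.Agent.Helper3.HensFEt

namespace Groth.Agent.Helper7.FrobSys

open MvPolynomial

set_option linter.unusedSectionVars false

universe u

variable {R : Type u} [CommRing R] (p : ℕ) [Fact p.Prime] [CharP R p] {n : ℕ}
  (B : Matrix (Fin n) (Fin n) R) (c : Fin n → R)

section points

variable {R' : Type*} [CommRing R'] [Algebra R R']

/-- solutions of the system in an `R`-algebra -/
def IsSol (x : Fin n → R') : Prop :=
  ∀ i, x i ^ p = ∑ j, algebraMap R R' (B i j) * x j + algebraMap R R' (c i)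

lemma aeval_rel (x : Fin n → R') (i : Fin n) :
    aeval x (rel p B c i) = x i ^ p - ∑ j, algebraMap R R' (B i j) * x j - algebraMap R R' (c i) := by
  simp [rel, map_sub, map_sum]

/-- the point of the system attached to a solution -/
noncomputable def homOfSol (x : Fin n → R') (hx : IsSol p B c x) : Sys p B c →ₐ[R] R' :=
  Ideal.Quotient.liftₐ _ (aeval x) (by
    intro a ha
    have hle : Ideal.span (Set.range (rel p B c)) ≤ RingHom.ker (aeval x : MvPolynomial (Fin n) R →ₐ[R] R') := by
      rw [Ideal.span_le]
      rintro _ ⟨i, rfl⟩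
      rw [SetLike.mem_coe, RingHom.mem_ker, aeval_rel, hx i]
      ring
    exact hle ha)

lemma homOfSol_X (x : Fin n → R') (hx : IsSol p B c x) (i : Fin n) :
    homOfSol p B c x hx (Ideal.Quotient.mk _ (X i)) = x i := by
  simp [homOfSol]

lemma sol_of_hom (τ : Sys p B c →ₐ[R] R') :
    IsSol p B c (fun i => τ (Ideal.Quotient.mk _ (X i))) := by
  intro i
  have h0 : (Ideal.Quotient.mk (Ideal.span (Set.range (rel p B c)))) (rel p B c i) = 0 :=
    Ideal.Quotient.eq_zero_iff_mem.2 (Ideal.subset_span ⟨i, rfl⟩)
  have := congrArg τ h0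
  rw [map_zero] at this
  simp only [rel, map_sub, map_sum, map_mul, map_pow] at this
  have hC : ∀ r : R, τ ((Ideal.Quotient.mk (Ideal.span (Set.range (rel p B c)))) (C r)) =
      algebraMap R R' r := fun r => τ.commutes r
  simp only [hC] at this
  linear_combination this

lemma hom_ext' (τ τ' : Sys p B c →ₐ[R] R')
    (h : ∀ i, τ (Ideal.Quotient.mk _ (X i)) = τ' (Ideal.Quotient.mk _ (X i))) : τ = τ' := by
  apply Ideal.Quotient.algHom_ext
  apply MvPolynomial.algHom_ext
  intro i
  exact h i

end points

section hensel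

variable [HenselianLocalRing R]

/-- existence of lifts of solutions modulo the maximal ideal -/
theorem exists_lift (hB : IsUnit B.det)
    (xb : Fin n → R ⧸ IsLocalRing.maximalIdeal R) (hxb : IsSol p B c xb) :
    ∃ x : Fin n → R, IsSol p B c x ∧ ∀ i, Ideal.Quotient.mk _ (x i) = xb i := by
  have := etale p B c hB
  obtain ⟨τ, hτ⟩ := Groth.Agent.Helper3.HensEtale.etale_lift (IsLocalRing.maximalIdeal R) (Sys p B c)
    (homOfSol p B c xb hxb)
  refine ⟨fun i => τ (Ideal.Quotient.mk _ (X i)), sol_of_hom p B c τ, fun i => ?_⟩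
  have := congrArg (fun f => f (Ideal.Quotient.mk _ (X i))) hτ
  simp only [AlgHom.comp_apply, homOfSol_X] at this
  exact this

/-- uniqueness of lifts -/
theorem lift_unique (hB : IsUnit B.det) (x x' : Fin n → R) (hx : IsSol p B c x)
    (hx' : IsSol p B c x')
    (h : ∀ i, (Ideal.Quotient.mk (IsLocalRing.maximalIdeal R)) (x i) = Ideal.Quotient.mk _ (x' i)) :
    x = x' := by
  have := etale p B c hB
  have hJ : IsLocalRing.maximalIdeal R ≤ Ideal.jacobson ⊥ := by
    rw [IsLocalRing.jacobson_eq_maximalIdeal ⊥ bot_ne_top]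
  have := Groth.Agent.Helper3.HensFEt.unram_unique (A := R) (IsLocalRing.maximalIdeal R) hJ
    (homOfSol p B c x hx) (homOfSol p B c x' hx') (by
      intro b
      obtain ⟨f, rfl⟩ := Ideal.Quotient.mk_surjective b
      rw [← Ideal.Quotient.eq]
      -- both reductions agree as algebra maps
      have key : (Ideal.Quotient.mkₐ R (IsLocalRing.maximalIdeal R)).comp (homOfSol p B c x hx) =
          (Ideal.Quotient.mkₐ R (IsLocalRing.maximalIdeal R)).comp (homOfSol p B c x' hx') := by
        apply hom_ext'
        intro i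
        simp only [AlgHom.comp_apply, homOfSol_X]
        exact h i
      exact congrArg (fun g => g (Ideal.Quotient.mk _ f)) key)
  funext i
  have h2 := congrArg (fun g => g (Ideal.Quotient.mk _ (X i))) this
  simpa [homOfSol_X] using h2

end hensel

end Groth.Agent.Helper7.FrobSys
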