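import Mathlib
import Groth.Agent.Helper8.QLin

namespace Groth.Agent.Helper7.FrobSys

set_option linter.unusedSectionVars false

universe u

section primefield

variable {k : Type*} [Field k] (p : ℕ) [Fact p.Prime] [CharP k p]

/-- the fixed points of Frobenius form a set with `p` elements -/
theorem card_frob_fixed : Nat.card {a : k // a ^ p = a} = p := by
  classical
  have hp : p.Prime := Fact.out
  set f : Polynomial k := Polynomial.X ^ p - Polynomial.X with hf
  have hdeg : f.natDegree = p := FiniteField.X_pow_card_sub_X_natDegree_eq k hp.one_lt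
  have hne : f ≠ 0 := FiniteField.X_pow_card_sub_X_ne_zero k hp.one_lt
  have hset : {a : k | a ^ p = a} = ↑(f.roots.toFinset) := by
    ext a
    rw [Finset.mem_coe, Multiset.mem_toFinset, Polynomial.mem_roots hne, Polynomial.IsRoot.def, hf,
      Polynomial.eval_sub, Polynomial.eval_pow, Polynomial.eval_X, sub_eq_zero]
    rfl
  have hfin : Finite {a : k // a ^ p = a} := by
    have h1 : ({a : k | a ^ p = a} : Set k).Finite := by
      rw [hset]; exact Finset.finite_toSet _
    exact h1.to_subtype
  have hle : Nat.card {a : k // a ^ p = a} ≤ p := by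
    have h1 : Nat.card {a : k // a ^ p = a} = Set.ncard {a : k | a ^ p = a} := rfl
    rw [h1, hset, Set.ncard_coe_finset]
    calc f.roots.toFinset.card ≤ Multiset.card f.roots := Multiset.toFinset_card_le _
      _ ≤ f.natDegree := Polynomial.card_roots' f
      _ = p := hdeg
  have hge : p ≤ Nat.card {a : k // a ^ p = a} := by
    let g : ZMod p → {a : k // a ^ p = a} := fun a =>
      ⟨ZMod.castHom (dvd_refl p) k a, by rw [← map_pow, ZMod.pow_card]⟩
    have hg : Function.Injective g := by
      intro a b hab
      have := congrArg Subtype.val hab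
      exact (ZMod.castHom (dvd_refl p) k).injective this
    have := Nat.card_le_card_of_injective g hg
    rwa [Nat.card_zmod] at this
  exact le_antisymm hle hge

end primefield

section field

open Module Submodule

variable {k : Type*} [Field k] [IsSepClosed k] (p : ℕ) [Fact p.Prime] [CharP k p]

theorem card_fixed {V : Type*} [AddCommGroup V] [Module k V] [FiniteDimensional k V]
    (φ : V →+ V) (hφ : ∀ (c : k) (v : V), φ (c • v) = c ^ p • φ v)
    (hss : span k (Set.range φ) = ⊤) :
    Nat.card {v : V // φ v = v} = p ^ finrank k V := by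
  have hφ' : ∀ (c : k) (v : V), φ (c • v) = c ^ (p ^ 1) • φ v := by simpa using hφ
  obtain ⟨b, hb1, hb2⟩ := Groth.Agent.Helper8.QLin.main_3212 p 1 φ hφ' one_pos hss
  let e : {v : V // φ v = v} ≃ (Fin (finrank k V) → {a : k // a ^ p = a}) :=
    { toFun := fun v i => ⟨b.repr v i, by simpa using hb2 v v.2 i⟩
      invFun := fun c => ⟨∑ i, (c i : k) • b i, by
        rw [map_sum]
        refine Finset.sum_congr rfl fun i _ => ?_
        rw [hφ, hb1, (c i).2]⟩
      left_inv := fun v => Subtype.ext (b.sum_repr v)
      right_inv := fun c => by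
        funext i
        apply Subtype.ext
        show b.repr (∑ i, (c i : k) • b i) i = _
        rw [b.repr_sum_self] }
  rw [Nat.card_congr e, Nat.card_fun, card_frob_fixed, Nat.card_fin]

variable {n : ℕ} (B : Matrix (Fin n) (Fin n) k)

/-- the `p`-linear map `v ↦ B⁻¹ v^(p)` -/
noncomputable def phi : (Fin n → k) →+ (Fin n → k) where
  toFun v := B⁻¹.mulVec (fun i => v i ^ p)
  map_zero' := by
    have hp : p.Prime := Fact.out
    have : (fun i : Fin n => (0 : Fin n → k) i ^ p) = 0 := by
      funext i; simp [hp.ne_zero]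
    rw [this, Matrix.mulVec_zero]
  map_add' := fun v w => by
    rw [← Matrix.mulVec_add]
    congr 1
    funext i
    exact add_pow_char (v i) (w i) p

lemma phi_apply (v : Fin n → k) : phi p B v = B⁻¹.mulVec (fun i => v i ^ p) := rfl

lemma phi_smul (c : k) (v : Fin n → k) : phi p B (c • v) = c ^ p • phi p B v := by
  rw [phi_apply, phi_apply, ← Matrix.mulVec_smul]
  congr 1
  funext i
  simp [mul_pow]

lemma phi_span (hB : IsUnit B.det) : span k (Set.range (phi p B)) = ⊤ := by
  classical
  have hp : p.Prime := Fact.out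
  rw [eq_top_iff]
  intro w _
  have h1 : ∀ j, phi p B (Pi.single j 1) = B⁻¹.mulVec (Pi.single j 1) := by
    intro j
    rw [phi_apply]
    congr 1
    funext i
    by_cases h : i = j
    · subst h; simp
    · simp [Pi.single_eq_of_ne h, hp.ne_zero]
  have h2 : w = B⁻¹.mulVec (B.mulVec w) := by
    rw [Matrix.mulVec_mulVec, Matrix.nonsing_inv_mul _ hB, Matrix.one_mulVec]
  have h3 : B.mulVec w = ∑ j, (B.mulVec w) j • (Pi.single j 1 : Fin n → k) := by
    funext i
    simp [Finset.sum_apply, Pi.single_apply]
  rw [h2, h3, Matrix.mulVec_sum]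
  refine Submodule.sum_mem _ fun j _ => ?_
  rw [Matrix.mulVec_smul, ← h1]
  exact Submodule.smul_mem _ _ (subset_span ⟨_, rfl⟩)

lemma phi_fix_iff (hB : IsUnit B.det) (x : Fin n → k) :
    phi p B x = x ↔ ∀ i, x i ^ p = ∑ j, B i j * x j := by
  rw [phi_apply]
  constructor
  · intro h i
    have h1 := congrArg B.mulVec h
    rw [Matrix.mulVec_mulVec, Matrix.mul_nonsing_inv _ hB, Matrix.one_mulVec] at h1
    have := congrFun h1 i
    simpa [Matrix.mulVec, dotProduct] using this
  · intro h
    have h1 : (fun i => x i ^ p) = B.mulVec x := by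
      funext i
      rw [h i]; simp [Matrix.mulVec, dotProduct]
    rw [h1, Matrix.mulVec_mulVec, Matrix.nonsing_inv_mul _ hB, Matrix.one_mulVec]

/-- existence of solutions over a separably closed field -/
theorem exists_sol_field (hB : IsUnit B.det) (c : Fin n → k) :
    ∃ x : Fin n → k, ∀ i, x i ^ p = ∑ j, B i j * x j + c i := by
  have hφ' : ∀ (a : k) (v : Fin n → k), phi p B (a • v) = a ^ (p ^ 1) • phi p B v := by
    simpa using phi_smul p B
  obtain ⟨x, hx⟩ := Groth.Agent.Helper8.QLin.main_3213 p 1 (phi p B) hφ' one_pos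
    (- B⁻¹.mulVec c)
  refine ⟨x, fun i => ?_⟩
  have h0 : phi p B x = x + B⁻¹.mulVec c := by
    have : x - phi p B x = - B⁻¹.mulVec c := hx
    calc phi p B x = x - (x - phi p B x) := by abel
      _ = x - (- B⁻¹.mulVec c) := by rw [this]
      _ = _ := by abel
  rw [phi_apply] at h0
  have h1 := congrArg B.mulVec h0
  rw [Matrix.mulVec_mulVec, Matrix.mul_nonsing_inv _ hB, Matrix.one_mulVec, Matrix.mulVec_add,
    Matrix.mulVec_mulVec, Matrix.mul_nonsing_inv _ hB, Matrix.one_mulVec] at h1
  have := congrFun h1 i
  simpa [Matrix.mulVec, dotProduct] using this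

/-- the number of solutions of the homogeneous system over a separably closed field -/
theorem card_sol_field (hB : IsUnit B.det) :
    Nat.card {x : Fin n → k // ∀ i, x i ^ p = ∑ j, B i j * x j} = p ^ n := by
  have h1 := card_fixed p (phi p B) (phi_smul p B) (phi_span p B hB)
  rw [Module.finrank_fin_fun] at h1
  rw [← h1]
  exact Nat.card_congr (Equiv.subtypeEquivRight fun x => (phi_fix_iff p B hB x).symm)

end field

end Groth.Agent.Helper7.FrobSys
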