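import Mathlib
import Groth.Agent.Helper7.FrobSys2
import Groth.Agent.Helper7.FrobSys3

namespace Groth.Agent.Helper7.FrobSys

set_option linter.unusedSectionVars false

open Module

universe u v

section loc

variable (p : ℕ) [Fact p.Prime] {R : Type u} [CommRing R] [HenselianLocalRing R]
  [IsSepClosed (IsLocalRing.ResidueField R)] [CharP R p] {n : ℕ}
  (B : Matrix (Fin n) (Fin n) R)

theorem charP_residue : CharP (IsLocalRing.ResidueField R) p := by
  have hp : p.Prime := Fact.out
  rw [CharP.charP_iff_prime_eq_zero hp]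
  have : ((p : ℕ) : R) = 0 := CharP.cast_eq_zero R p
  have h2 := congrArg (IsLocalRing.residue R) this
  rw [map_natCast, map_zero] at h2
  exact h2

lemma isUnit_det_map (hB : IsUnit B.det) : IsUnit (B.map (IsLocalRing.residue R)).det := by
  have h1 : (B.map (IsLocalRing.residue R)).det = IsLocalRing.residue R B.det := by
    rw [RingHom.map_det]; rfl
  rw [h1]
  exact hB.map _

/-- existence of solutions over the strictly henselian ring -/
theorem exists_sol (hB : IsUnit B.det) (c : Fin n → R) : ∃ x : Fin n → R, IsSol p B c x := by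
  have := charP_residue (R := R) p
  obtain ⟨xb, hxb⟩ := exists_sol_field p (B.map (IsLocalRing.residue R)) (isUnit_det_map B hB)
    (fun i => IsLocalRing.residue R (c i))
  have hsol : IsSol p B c (R' := R ⧸ IsLocalRing.maximalIdeal R) xb := fun i => hxb i
  obtain ⟨x, hx, _⟩ := exists_lift p B c hB xb hsol
  exact ⟨x, hx⟩

/-- the number of solutions of the homogeneous system -/
theorem card_sol (hB : IsUnit B.det) :
    Nat.card {x : Fin n → R // IsSol p B 0 x} = p ^ n := by
  have := charP_residue (R := R) p
  rw [← card_sol_field p (B.map (IsLocalRing.residue R)) (isUnit_det_map B hB)]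
  let f : {x : Fin n → R // IsSol p B 0 x} →
      {x : Fin n → IsLocalRing.ResidueField R //
        ∀ i, x i ^ p = ∑ j, (B.map (IsLocalRing.residue R)) i j * x j} := fun x =>
    ⟨fun i => IsLocalRing.residue R (x.1 i), fun i => by
      have h := congrArg (IsLocalRing.residue R) (x.2 i)
      simpa [map_sum] using h⟩
  have hinj : Function.Injective f := by
    intro x x' h
    apply Subtype.ext
    apply lift_unique p B 0 hB x.1 x'.1 x.2 x'.2
    intro i
    exact congrFun (congrArg Subtype.val h) i
  have hsurj : Function.Surjective f := by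
    intro xb
    have hsol : IsSol p B 0 (R' := R ⧸ IsLocalRing.maximalIdeal R) xb.1 := fun i => by
      have := xb.2 i
      simp only [Pi.zero_apply, map_zero, add_zero]
      exact this
    obtain ⟨x, hx, hx'⟩ := exists_lift p B 0 hB xb.1 hsol
    exact ⟨⟨x, hx⟩, Subtype.ext (funext hx')⟩
  exact Nat.card_congr (Equiv.ofBijective f ⟨hinj, hsurj⟩)

lemma isSol_iff_mulVec (c x : Fin n → R) :
    IsSol p B c x ↔ (fun i => x i ^ p) = B.mulVec x + c := by
  rw [funext_iff]
  refine forall_congr' fun i => ?_
  simp [Matrix.mulVec, dotProduct]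

lemma sol_iff_of_inv (A : Matrix (Fin n) (Fin n) R) (hA : IsUnit A.det) (x w : Fin n → R) :
    A.mulVec (fun i => x i ^ p) - x = w ↔ IsSol p A⁻¹ (A⁻¹.mulVec w) x := by
  rw [isSol_iff_mulVec, ← Matrix.mulVec_add]
  constructor
  · intro h
    rw [← h]
    have : x + (A.mulVec (fun i => x i ^ p) - x) = A.mulVec (fun i => x i ^ p) := by abel
    rw [this, Matrix.mulVec_mulVec, Matrix.nonsing_inv_mul _ hA, Matrix.one_mulVec]
  · intro h
    rw [h, Matrix.mulVec_mulVec, Matrix.mul_nonsing_inv _ hA, Matrix.one_mulVec]
    abel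

end loc

section main

variable (p : ℕ) [Fact p.Prime] {R : Type u} [CommRing R]
    [HenselianLocalRing R] [IsSepClosed (IsLocalRing.ResidueField R)] [CharP R p]
    {M : Type v} [AddCommGroup M] [Module R M] [Module.Free R M] [Module.Finite R M]
    (T : M →+ M) (hT : ∀ (r : R) (m : M), T (r • m) = r ^ p • T m)

/-- the matrix of `T` in a basis -/
noncomputable def matT {n : ℕ} (e : Basis (Fin n) R M) : Matrix (Fin n) (Fin n) R :=
  fun i j => e.repr (T (e j)) i

include hT in
lemma T_sum {n : ℕ} (e : Basis (Fin n) R M) (x : Fin n → R) :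
    T (∑ j, x j • e j) = ∑ j, x j ^ p • T (e j) := by
  rw [map_sum]
  exact Finset.sum_congr rfl fun j _ => hT _ _

include hT in
lemma equivFun_T {n : ℕ} (e : Basis (Fin n) R M) (m : M) :
    e.equivFun (T m) = (matT T e).mulVec (fun i => e.equivFun m i ^ p) := by
  conv_lhs => rw [← e.sum_equivFun m, T_sum p T hT e, map_sum]
  funext i
  simp only [Finset.sum_apply, map_smul, Pi.smul_apply, smul_eq_mul, Matrix.mulVec, dotProduct,
    matT, Basis.equivFun_apply]
  exact Finset.sum_congr rfl fun j _ => mul_comm _ _

include hT in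
lemma matT_isUnit {n : ℕ} (e : Basis (Fin n) R M)
    (hspan : Submodule.span R (Set.range T) = ⊤) : IsUnit (matT T e).det := by
  rw [← Matrix.isUnit_iff_isUnit_det, ← Matrix.mulVec_surjective_iff_isUnit]
  intro w
  -- the element with coordinates `w`
  have hmem : e.equivFun.symm w ∈ Submodule.span R (Set.range fun j => T (e j)) := by
    have hle : Submodule.span R (Set.range T) ≤ Submodule.span R (Set.range fun j => T (e j)) := by
      rw [Submodule.span_le]
      rintro _ ⟨m, rfl⟩
      rw [← e.sum_equivFun m, T_sum p T hT e]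
      exact Submodule.sum_mem _ fun j _ => Submodule.smul_mem _ _ (Submodule.subset_span ⟨j, rfl⟩)
    apply hle
    rw [hspan]; trivial
  rw [Submodule.mem_span_range_iff_exists_fun] at hmem
  obtain ⟨c, hc⟩ := hmem
  refine ⟨c, ?_⟩
  have h1 := congrArg e.equivFun hc
  rw [LinearEquiv.apply_symm_apply, map_sum] at h1
  rw [← h1]
  funext i
  simp only [Finset.sum_apply, map_smul, Pi.smul_apply, smul_eq_mul, Matrix.mulVec, dotProduct,
    matT, Basis.equivFun_apply]
  exact Finset.sum_congr rfl fun j _ => mul_comm _ _

include hT in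
theorem main (hspan : Submodule.span R (Set.range T) = ⊤) :
    Function.Surjective (fun m => T m - m) ∧
      Nat.card {m : M // T m = m} = p ^ Module.finrank R M := by
  set n := Module.finrank R M with hn
  let e : Basis (Fin n) R M := Module.finBasis R M
  set A := matT T e with hAdef
  have hA : IsUnit A.det := matT_isUnit p T hT e hspan
  have hB : IsUnit A⁻¹.det := Matrix.isUnit_nonsing_inv_det A hA
  have key : ∀ m y : M, T m - m = y ↔
      IsSol p A⁻¹ (A⁻¹.mulVec (e.equivFun y)) (e.equivFun m) := by
    intro m y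
    rw [← sol_iff_of_inv p A hA, ← equivFun_T p T hT e m, ← map_sub]
    exact e.equivFun.injective.eq_iff.symm
  constructor
  · intro y
    obtain ⟨x, hx⟩ := exists_sol p A⁻¹ hB (A⁻¹.mulVec (e.equivFun y))
    refine ⟨e.equivFun.symm x, ?_⟩
    show T (e.equivFun.symm x) - e.equivFun.symm x = y
    rw [key, LinearEquiv.apply_symm_apply]
    exact hx
  · rw [← card_sol p A⁻¹ hB]
    refine Nat.card_congr (Equiv.subtypeEquiv e.equivFun.toEquiv fun m => ?_)
    have := key m 0
    rw [map_zero, Matrix.mulVec_zero, sub_eq_zero] at this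
    exact this

end main

end Groth.Agent.Helper7.FrobSys
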