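import Mathlib

set_option autoImplicit false
set_option maxSynthPendingDepth 3

namespace Groth.Agent.Helper7.FunEq

open Polynomial

/-- If `G ∘ ℓ ∣ G` for an affine `ℓ = a + bX` (`b ≠ 0`), then `G(a) = b^deg G · G(0)`. -/
theorem eval_of_comp_dvd {K : Type*} [Field K] (G : K[X]) (hG : G ≠ 0) (a b : K) (hb : b ≠ 0)
    (h : G.comp (C a + C b * X) ∣ G) : G.eval a = b ^ G.natDegree * G.eval 0 := by
  set ℓ : K[X] := C a + C b * X with hℓ
  have hdeg : ℓ.natDegree = 1 := by
    rw [hℓ, add_comm, natDegree_add_C, natDegree_C_mul_X b hb]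
  have hlc : ℓ.leadingCoeff = b := by
    rw [hℓ, leadingCoeff_add_of_degree_lt]
    · rw [leadingCoeff_C_mul_X]
    · rw [degree_C_mul_X hb]
      exact lt_of_le_of_lt degree_C_le (by norm_num)
  obtain ⟨R, hR⟩ := h
  have hR0 : R ≠ 0 := by
    rintro rfl
    rw [mul_zero] at hR
    exact hG hR
  have hcomp0 : G.comp ℓ ≠ 0 := by
    intro h0
    rw [h0, zero_mul] at hR
    exact hG hR
  have hd : (G.comp ℓ).natDegree = G.natDegree := by
    rw [natDegree_comp, hdeg, mul_one]
  have hRd : R.natDegree = 0 := by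
    have := congrArg natDegree hR
    rw [natDegree_mul hcomp0 hR0, hd] at this
    omega
  obtain ⟨c, rfl⟩ : ∃ c, R = C c := ⟨R.coeff 0, eq_C_of_natDegree_eq_zero hRd⟩
  have h1 : G.leadingCoeff = G.leadingCoeff * b ^ G.natDegree * c := by
    have := congrArg leadingCoeff hR
    rw [leadingCoeff_mul, leadingCoeff_C, leadingCoeff_comp (by rw [hdeg]; norm_num), hlc] at this
    exact this
  have hlcG : G.leadingCoeff ≠ 0 := leadingCoeff_ne_zero.mpr hG
  have h2 : b ^ G.natDegree * c = 1 := by
    have : G.leadingCoeff * (b ^ G.natDegree * c) = G.leadingCoeff * 1 := by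
      rw [mul_one, ← mul_assoc]
      exact h1.symm
    exact mul_left_cancel₀ hlcG this
  have h3 : G.eval 0 = G.eval a * c := by
    have := congrArg (eval 0) hR
    rw [eval_mul, eval_C, eval_comp] at this
    simpa [hℓ] using this
  rw [h3]
  calc G.eval a = G.eval a * (b ^ G.natDegree * c) := by rw [h2, mul_one]
    _ = b ^ G.natDegree * (G.eval a * c) := by ring

end Groth.Agent.Helper7.FunEq
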