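import Groth.Agent.Helper7.FunEq1

set_option autoImplicit false
set_option maxSynthPendingDepth 3

namespace Groth.Agent.Helper7.FunEq

open Polynomial

variable {k : Type*} [Field k]

theorem final (F : RatFunc k) (h0 : F.denom.eval 0 ≠ 0) (h1 : F.num.eval 0 = F.denom.eval 0)
    (E1 : algebraMap k[X] (RatFunc k) F.num =
      F ^ F.num.natDegree * RatFunc.C (F.num.eval 0))
    (E2 : algebraMap k[X] (RatFunc k) F.denom =
      F ^ F.denom.natDegree * RatFunc.C (F.denom.eval 0)) :
    ∃ a : k, F = 1 + RatFunc.C a * RatFunc.X := by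
  set P := F.num with hP
  set Q := F.denom with hQ
  set p := P.natDegree with hp
  set q := Q.natDegree with hq
  have hQ0 : Q ≠ 0 := RatFunc.denom_ne_zero F
  have hP0 : P ≠ 0 := by
    intro h
    rw [h, eval_zero] at h1
    exact h0 h1.symm
  have hcop : IsCoprime P Q := RatFunc.isCoprime_num_denom F
  have hinj := IsFractionRing.injective k[X] (RatFunc k)
  have hQK : algebraMap k[X] (RatFunc k) Q ≠ 0 := by
    rw [Ne, map_eq_zero_iff _ hinj]; exact hQ0
  have hF : F = algebraMap k[X] (RatFunc k) P / algebraMap k[X] (RatFunc k) Q :=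
    (RatFunc.num_div_denom F).symm
  -- E2 in k[X]
  have e2 : Q * Q ^ q = P ^ q * C (Q.eval 0) := by
    apply hinj
    rw [map_mul, map_mul, map_pow, map_pow, RatFunc.algebraMap_C]
    have := E2
    rw [hF, div_pow] at this
    rw [div_mul_eq_mul_div, eq_div_iff (pow_ne_zero _ hQK)] at this
    exact this
  have hq0 : q = 0 := by
    have hdvd : Q ∣ C (Q.eval 0) := by
      have h3 : Q ∣ C (Q.eval 0) * P ^ q := ⟨Q ^ q, by rw [e2]; ring⟩
      exact (hcop.symm.pow_right (n := q)).dvd_of_dvd_mul_right h3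
    have := natDegree_le_of_dvd hdvd (by rw [Ne, C_eq_zero]; exact h0)
    rw [natDegree_C] at this
    omega
  have hQ1 : Q = 1 := by
    have hmon : Q.Monic := RatFunc.monic_denom F
    exact hmon.natDegree_eq_zero.mp hq0
  -- E1 in k[X]
  have e1 : P * Q ^ p = P ^ p * C (P.eval 0) := by
    apply hinj
    rw [map_mul, map_mul, map_pow, map_pow, RatFunc.algebraMap_C]
    have := E1
    rw [hF, div_pow] at this
    rw [div_mul_eq_mul_div, eq_div_iff (pow_ne_zero _ hQK)] at this
    exact this
  rw [hQ1, one_pow, mul_one] at e1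
  have hPe : P.eval 0 ≠ 0 := by rw [h1]; exact h0
  have hp1 : p ≤ 1 := by
    have := congrArg natDegree e1
    rw [natDegree_mul (pow_ne_zero _ hP0) (by rw [Ne, C_eq_zero]; exact hPe), natDegree_C,
      natDegree_pow, add_zero, ← hp] at this
    by_contra hlt
    have h2 : 2 ≤ p := by omega
    nlinarith
  obtain ⟨a1, a0, hPf⟩ : ∃ a1 a0 : k, P = C a1 * X + C a0 :=
    ⟨_, _, eq_X_add_C_of_natDegree_le_one hp1⟩
  have ha0 : a0 = 1 := by
    have : P.eval 0 = a0 := by rw [hPf]; simp
    rw [← this, h1, hQ1, eval_one]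
  refine ⟨a1, ?_⟩
  rw [hF, hQ1, map_one, div_one, hPf, map_add, map_mul, RatFunc.algebraMap_C,
    RatFunc.algebraMap_C, RatFunc.algebraMap_X, add_comm, ha0, map_one]

end Groth.Agent.Helper7.FunEq
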