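import Groth.Agent.Helper7.FunEq2

set_option autoImplicit false
set_option maxSynthPendingDepth 3

namespace Groth.Agent.Helper7.FunEq

open Polynomial

variable {k : Type*} [Field k]

theorem eval_map_X (P : k[X]) :
    (P.map (algebraMap k (RatFunc k))).eval RatFunc.X = algebraMap k[X] (RatFunc k) P := by
  rw [eval_map, ← aeval_def, RatFunc.aeval_X_left_eq_algebraMap]

theorem of_star (F : RatFunc k) (h0 : F.denom.eval 0 ≠ 0) (h1 : F.num.eval 0 = F.denom.eval 0)
    (hstar : ((F.num.map (algebraMap k (RatFunc k))).comp (C RatFunc.X + C F * X)) *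
        (C (algebraMap k[X] (RatFunc k) F.denom) * F.denom.map (algebraMap k (RatFunc k))) =
      ((F.denom.map (algebraMap k (RatFunc k))).comp (C RatFunc.X + C F * X)) *
        (C (algebraMap k[X] (RatFunc k) F.num) * F.num.map (algebraMap k (RatFunc k)))) :
    ∃ a : k, F = 1 + RatFunc.C a * RatFunc.X := by
  set alg := algebraMap k (RatFunc k) with halg
  set P := F.num with hP
  set Q := F.denom with hQ
  have hQ0 : Q ≠ 0 := RatFunc.denom_ne_zero F
  have hP0 : P ≠ 0 := by
    intro h
    rw [h, eval_zero] at h1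
    exact h0 h1.symm
  have hinj := IsFractionRing.injective k[X] (RatFunc k)
  have hQK : algebraMap k[X] (RatFunc k) Q ≠ 0 := by
    rw [Ne, map_eq_zero_iff _ hinj]; exact hQ0
  have hPK : algebraMap k[X] (RatFunc k) P ≠ 0 := by
    rw [Ne, map_eq_zero_iff _ hinj]; exact hP0
  have hF0 : F ≠ 0 := by
    rw [← RatFunc.num_div_denom F]
    exact div_ne_zero hPK hQK
  have hPy0 : P.map alg ≠ 0 := (Polynomial.map_ne_zero_iff alg.injective).mpr hP0
  have hQy0 : Q.map alg ≠ 0 := (Polynomial.map_ne_zero_iff alg.injective).mpr hQ0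
  have hcopy : IsCoprime (P.map alg) (Q.map alg) :=
    (RatFunc.isCoprime_num_denom F).map (mapRingHom alg)
  have hcopθ : IsCoprime ((P.map alg).comp (C RatFunc.X + C F * X))
      ((Q.map alg).comp (C RatFunc.X + C F * X)) :=
    hcopy.map (compRingHom (C RatFunc.X + C F * X))
  -- divisibility for P
  have hdP : (P.map alg).comp (C RatFunc.X + C F * X) ∣ P.map alg := by
    have h2 : (P.map alg).comp (C RatFunc.X + C F * X) ∣
        (C (algebraMap k[X] (RatFunc k) P) * P.map alg) *
          (Q.map alg).comp (C RatFunc.X + C F * X) :=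
      ⟨C (algebraMap k[X] (RatFunc k) Q) * Q.map alg, by rw [hstar]; ring⟩
    have h3 := hcopθ.dvd_of_dvd_mul_right h2
    exact ((isUnit_C.mpr (IsUnit.mk0 _ hPK)).dvd_mul_left).mp h3
  have hdQ : (Q.map alg).comp (C RatFunc.X + C F * X) ∣ Q.map alg := by
    have h2 : (Q.map alg).comp (C RatFunc.X + C F * X) ∣
        (C (algebraMap k[X] (RatFunc k) Q) * Q.map alg) *
          (P.map alg).comp (C RatFunc.X + C F * X) :=
      ⟨C (algebraMap k[X] (RatFunc k) P) * P.map alg, by rw [← hstar]; ring⟩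
    have h3 := hcopθ.symm.dvd_of_dvd_mul_right h2
    exact ((isUnit_C.mpr (IsUnit.mk0 _ hQK)).dvd_mul_left).mp h3
  have eP := eval_of_comp_dvd (P.map alg) hPy0 RatFunc.X F hF0 hdP
  have eQ := eval_of_comp_dvd (Q.map alg) hQy0 RatFunc.X F hF0 hdQ
  rw [eval_map_X, natDegree_map, eval_zero_map, halg, RatFunc.algebraMap_eq_C] at eP eQ
  exact final F h0 h1 eP eQ

end Groth.Agent.Helper7.FunEq
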