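import Groth.Agent.Helper7.FunEq3

set_option autoImplicit false
set_option maxSynthPendingDepth 3

namespace Groth.Agent.Helper7.FunEq

open Polynomial

variable {k : Type*} [Field k]

/-- homogenisation identity. -/
theorem hom_sum {S : Type*} [CommRing S] (g : k →+* S) (u v w : S) (hvw : v * w = 1) (P : k[X])
    (N : ℕ) (hN : P.natDegree ≤ N) :
    ∑ i ∈ Finset.range (N + 1), g (P.coeff i) * u ^ i * v ^ (N - i) =
      v ^ N * P.eval₂ g (u * w) := by
  rw [eval₂_eq_sum_range' g (n := N + 1) (by omega), Finset.mul_sum]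
  refine Finset.sum_congr rfl fun i hi => ?_
  have hi' : i ≤ N := by
    have := Finset.mem_range.mp hi
    omega
  have h1 : v ^ N = v ^ (N - i) * v ^ i := by rw [← pow_add]; congr 1; omega
  rw [h1, mul_pow]
  have h2 : v ^ i * w ^ i = 1 := by rw [← mul_pow, hvw, one_pow]
  calc g (P.coeff i) * u ^ i * v ^ (N - i)
      = g (P.coeff i) * u ^ i * v ^ (N - i) * (v ^ i * w ^ i) := by rw [h2, mul_one]
    _ = v ^ (N - i) * v ^ i * (g (P.coeff i) * (u ^ i * w ^ i)) := by ring

/-- `aeval (X i)` is injective. -/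
theorem aeval_X_injective (i : Fin 2) :
    Function.Injective (Polynomial.aeval (MvPolynomial.X i : MvPolynomial (Fin 2) k) :
      k[X] →ₐ[k] MvPolynomial (Fin 2) k) := by
  have h : ∀ P : k[X], MvPolynomial.aeval (fun _ : Fin 2 => (X : k[X]))
      (Polynomial.aeval (MvPolynomial.X i : MvPolynomial (Fin 2) k) P) = P := by
    intro P
    rw [← Polynomial.aeval_algHom_apply, MvPolynomial.aeval_X, Polynomial.aeval_X_left_apply]
  intro P P' hPP
  rw [← h P, ← h P', hPP]

end Groth.Agent.Helper7.FunEq
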