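import Groth.Agent.Helper7.FunEq4

set_option autoImplicit false
set_option maxSynthPendingDepth 3

namespace Groth.Agent.Helper7.FunEq

open Polynomial

variable {k : Type*} [Field k]

section rho

/-- the specialisation `k[X₀,X₁] → k(X)[Y]`. -/
noncomputable def rho : MvPolynomial (Fin 2) k →ₐ[k] (RatFunc k)[X] :=
  MvPolynomial.aeval ![C RatFunc.X, X]

theorem rho_X0 : rho (MvPolynomial.X 0 : MvPolynomial (Fin 2) k) = C RatFunc.X := by
  simp [rho]

theorem rho_X1 : rho (MvPolynomial.X 1 : MvPolynomial (Fin 2) k) = X := by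
  simp [rho]

theorem rho_C (c : k) : rho (MvPolynomial.C c : MvPolynomial (Fin 2) k) =
    C (algebraMap k (RatFunc k) c) := by
  simp [rho, RatFunc.algebraMap_eq_C]

theorem rho_aeval0 (P : k[X]) :
    rho (Polynomial.aeval (MvPolynomial.X 0 : MvPolynomial (Fin 2) k) P) =
      C (algebraMap k[X] (RatFunc k) P) := by
  rw [← Polynomial.aeval_algHom_apply, rho_X0]
  have : (C (RatFunc.X : RatFunc k) : (RatFunc k)[X]) = CAlgHom (R := k) (RatFunc.X : RatFunc k) :=
    rfl
  rw [this, Polynomial.aeval_algHom_apply, RatFunc.aeval_X_left_eq_algebraMap]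
  rfl

theorem aeval_X_eq_map (P : k[X]) :
    Polynomial.aeval (X : (RatFunc k)[X]) P = P.map (algebraMap k (RatFunc k)) := by
  rw [aeval_def]
  have : algebraMap k (RatFunc k)[X] = (C : RatFunc k →+* (RatFunc k)[X]).comp
      (algebraMap k (RatFunc k)) := rfl
  rw [this, ← eval₂_map, eval₂_C_X]

theorem rho_aeval1 (P : k[X]) :
    rho (Polynomial.aeval (MvPolynomial.X 1 : MvPolynomial (Fin 2) k) P) =
      P.map (algebraMap k (RatFunc k)) := by
  rw [← Polynomial.aeval_algHom_apply, rho_X1, aeval_X_eq_map]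

theorem eval₂_eq_comp (P : k[X]) (ℓ : (RatFunc k)[X]) :
    P.eval₂ (algebraMap k (RatFunc k)[X]) ℓ = (P.map (algebraMap k (RatFunc k))).comp ℓ := by
  have : algebraMap k (RatFunc k)[X] = (C : RatFunc k →+* (RatFunc k)[X]).comp
      (algebraMap k (RatFunc k)) := rfl
  rw [this, ← eval₂_map]
  rfl

end rho

end Groth.Agent.Helper7.FunEq
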