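import Groth.Agent.Helper7.FunEq5

set_option autoImplicit false
set_option maxSynthPendingDepth 3

namespace Groth.Agent.Helper7.FunEq

open Polynomial

variable {k : Type*} [Field k]

/-- the homogenised composite. -/
noncomputable def hc (P Pn Qd : k[X]) : MvPolynomial (Fin 2) k :=
  ∑ i ∈ Finset.range (P.natDegree + 1), MvPolynomial.C (P.coeff i) *
    (MvPolynomial.X 0 * Polynomial.aeval (MvPolynomial.X 0 : MvPolynomial (Fin 2) k) Qd +
      MvPolynomial.X 1 * Polynomial.aeval (MvPolynomial.X 0 : MvPolynomial (Fin 2) k) Pn) ^ i *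
    (Polynomial.aeval (MvPolynomial.X 0 : MvPolynomial (Fin 2) k) Qd) ^ (P.natDegree - i)

theorem rho_hc (F : RatFunc k) (P : k[X]) :
    rho (hc P F.num F.denom) = C (algebraMap k[X] (RatFunc k) F.denom) ^ P.natDegree *
      (P.map (algebraMap k (RatFunc k))).comp (C RatFunc.X + C F * X) := by
  have hQK : algebraMap k[X] (RatFunc k) F.denom ≠ 0 := by
    rw [Ne, map_eq_zero_iff _ (IsFractionRing.injective k[X] (RatFunc k))]
    exact RatFunc.denom_ne_zero F
  rw [hc, map_sum]
  simp only [map_mul, map_pow, map_add, rho_X0, rho_X1, rho_aeval0, rho_C]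
  have h := hom_sum (algebraMap k (RatFunc k)[X])
    (C RatFunc.X * C (algebraMap k[X] (RatFunc k) F.denom) +
      X * C (algebraMap k[X] (RatFunc k) F.num))
    (C (algebraMap k[X] (RatFunc k) F.denom)) (C (algebraMap k[X] (RatFunc k) F.denom)⁻¹)
    (by rw [← C_mul, mul_inv_cancel₀ hQK, C_1]) P P.natDegree le_rfl
  have hA : ∀ c : k, algebraMap k (RatFunc k)[X] c = C (algebraMap k (RatFunc k) c) := fun c => rfl
  simp only [hA] at h
  rw [h]
  congr 1
  have hℓ : (C RatFunc.X * C (algebraMap k[X] (RatFunc k) F.denom) +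
      X * C (algebraMap k[X] (RatFunc k) F.num)) * C (algebraMap k[X] (RatFunc k) F.denom)⁻¹ =
      C RatFunc.X + C F * X := by
    have hF : F = algebraMap k[X] (RatFunc k) F.num * (algebraMap k[X] (RatFunc k) F.denom)⁻¹ := by
      rw [← div_eq_mul_inv, RatFunc.num_div_denom]
    conv_rhs => rw [hF, C_mul]
    have h1 : C (algebraMap k[X] (RatFunc k) F.denom) *
        C (algebraMap k[X] (RatFunc k) F.denom)⁻¹ = (1 : (RatFunc k)[X]) := by
      rw [← C_mul, mul_inv_cancel₀ hQK, C_1]
    linear_combination (C RatFunc.X) * h1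
  rw [hℓ]
  have : (fun c : k => C (algebraMap k (RatFunc k) c)) = algebraMap k (RatFunc k)[X] := rfl
  exact eval₂_eq_comp P _

end Groth.Agent.Helper7.FunEq
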