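import Groth.Agent.Helper7.FunEq6

set_option autoImplicit false
set_option maxSynthPendingDepth 3

namespace Groth.Agent.Helper7.FunEq

open Polynomial

variable {k : Type*} [Field k]

local notation "A" => MvPolynomial (Fin 2) k
local notation "L" => FractionRing (MvPolynomial (Fin 2) k)

theorem eval₂_alg (i : Fin 2) (G : k[X]) :
    G.eval₂ (algebraMap k L) (algebraMap A L (MvPolynomial.X i)) =
      algebraMap A L (Polynomial.aeval (MvPolynomial.X i : A) G) := by
  rw [← aeval_def, aeval_algebraMap_apply]

theorem map_hc (P Pn Qd : k[X])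
    (hv : algebraMap A L (Polynomial.aeval (MvPolynomial.X 0 : A) Qd) ≠ 0) :
    algebraMap A L (hc P Pn Qd) =
      algebraMap A L (Polynomial.aeval (MvPolynomial.X 0 : A) Qd) ^ P.natDegree *
        P.eval₂ (algebraMap k L) (algebraMap A L (MvPolynomial.X 0) +
          algebraMap A L (MvPolynomial.X 1) *
            (algebraMap A L (Polynomial.aeval (MvPolynomial.X 0 : A) Pn) /
              algebraMap A L (Polynomial.aeval (MvPolynomial.X 0 : A) Qd))) := by
  rw [hc, map_sum]
  simp only [map_mul, map_pow, map_add]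
  have hC : ∀ c : k, algebraMap A L (MvPolynomial.C c) = algebraMap k L c := fun c => by
    rw [IsScalarTower.algebraMap_apply k A L]
    rfl
  simp only [hC]
  rw [hom_sum (algebraMap k L) _ _ _ (mul_inv_cancel₀ hv) P P.natDegree le_rfl]
  congr 2
  field_simp

theorem star_of_FE (F : RatFunc k) (h0 : F.denom.eval 0 ≠ 0)
    (h1 : F.num.eval 0 = F.denom.eval 0)
    (hFE : RatFunc.eval (algebraMap k L)
        (algebraMap A L (MvPolynomial.X 0) + algebraMap A L (MvPolynomial.X 1) *
            RatFunc.eval (algebraMap k L) (algebraMap A L (MvPolynomial.X 0)) F) F =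
      RatFunc.eval (algebraMap k L) (algebraMap A L (MvPolynomial.X 0)) F *
        RatFunc.eval (algebraMap k L) (algebraMap A L (MvPolynomial.X 1)) F) :
    hc F.num F.num F.denom *
        (Polynomial.aeval (MvPolynomial.X 0 : A) F.denom) ^ F.denom.natDegree *
        Polynomial.aeval (MvPolynomial.X 0 : A) F.denom *
        Polynomial.aeval (MvPolynomial.X 1 : A) F.denom =
      hc F.denom F.num F.denom *
        (Polynomial.aeval (MvPolynomial.X 0 : A) F.denom) ^ F.num.natDegree *
        Polynomial.aeval (MvPolynomial.X 0 : A) F.num *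
        Polynomial.aeval (MvPolynomial.X 1 : A) F.num := by
  set P := F.num with hP
  set Q := F.denom with hQ
  have hQ0 : Q ≠ 0 := RatFunc.denom_ne_zero F
  have hP0 : P ≠ 0 := by
    intro h
    rw [h, eval_zero] at h1
    exact h0 h1.symm
  have hinj := IsFractionRing.injective A L
  have hne : ∀ (i : Fin 2) (G : k[X]), G ≠ 0 →
      algebraMap A L (Polynomial.aeval (MvPolynomial.X i : A) G) ≠ 0 := by
    intro i G hG
    rw [Ne, map_eq_zero_iff _ hinj, map_eq_zero_iff _ (aeval_X_injective i)]
    exact hG
  have hP0' := hne 0 P hP0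
  have hP1' := hne 1 P hP0
  have hQ0' := hne 0 Q hQ0
  have hQ1' := hne 1 Q hQ0
  unfold RatFunc.eval at hFE
  rw [← hP, ← hQ] at hFE
  simp only [eval₂_alg] at hFE
  have hHP := map_hc P P Q hQ0'
  have hHQ := map_hc Q P Q hQ0'
  set t := algebraMap A L (MvPolynomial.X 0) + algebraMap A L (MvPolynomial.X 1) *
      (algebraMap A L (Polynomial.aeval (MvPolynomial.X 0 : A) P) /
        algebraMap A L (Polynomial.aeval (MvPolynomial.X 0 : A) Q)) with ht
  set EP := P.eval₂ (algebraMap k L) t with hEP
  set EQ := Q.eval₂ (algebraMap k L) t with hEQ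
  have hEQ0 : EQ ≠ 0 := by
    intro h
    rw [h, div_zero] at hFE
    exact (mul_ne_zero (div_ne_zero hP0' hQ0') (div_ne_zero hP1' hQ1')) hFE.symm
  have hcross : EP * algebraMap A L (Polynomial.aeval (MvPolynomial.X 0 : A) Q) *
      algebraMap A L (Polynomial.aeval (MvPolynomial.X 1 : A) Q) =
      EQ * algebraMap A L (Polynomial.aeval (MvPolynomial.X 0 : A) P) *
      algebraMap A L (Polynomial.aeval (MvPolynomial.X 1 : A) P) := by
    field_simp at hFE
    linear_combination hFE
  apply hinj
  simp only [map_mul, map_pow, hHP, hHQ]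
  linear_combination (algebraMap A L (Polynomial.aeval (MvPolynomial.X 0 : A) Q)) ^ P.natDegree *
    (algebraMap A L (Polynomial.aeval (MvPolynomial.X 0 : A) Q)) ^ Q.natDegree * hcross

end Groth.Agent.Helper7.FunEq
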