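import Groth.Agent.Helper7.FunEq7

set_option autoImplicit false
set_option maxSynthPendingDepth 3

namespace Groth.Agent.Helper7.FunEq

open Polynomial

theorem main_8471 (k : Type) [Field k] (F : RatFunc k)
    (h0 : F.denom.eval 0 ≠ 0) (h1 : F.num.eval 0 = F.denom.eval 0)
    (hFE : RatFunc.eval (algebraMap k (FractionRing (MvPolynomial (Fin 2) k)))
        (algebraMap (MvPolynomial (Fin 2) k) (FractionRing (MvPolynomial (Fin 2) k)) (MvPolynomial.X 0) +
          algebraMap (MvPolynomial (Fin 2) k) (FractionRing (MvPolynomial (Fin 2) k)) (MvPolynomial.X 1) *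
            RatFunc.eval (algebraMap k (FractionRing (MvPolynomial (Fin 2) k)))
              (algebraMap (MvPolynomial (Fin 2) k) (FractionRing (MvPolynomial (Fin 2) k)) (MvPolynomial.X 0)) F) F =
      RatFunc.eval (algebraMap k (FractionRing (MvPolynomial (Fin 2) k)))
          (algebraMap (MvPolynomial (Fin 2) k) (FractionRing (MvPolynomial (Fin 2) k)) (MvPolynomial.X 0)) F *
        RatFunc.eval (algebraMap k (FractionRing (MvPolynomial (Fin 2) k)))
          (algebraMap (MvPolynomial (Fin 2) k) (FractionRing (MvPolynomial (Fin 2) k)) (MvPolynomial.X 1)) F) :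
    ∃ a : k, F = 1 + RatFunc.C a * RatFunc.X := by
  have hstar := star_of_FE F h0 h1 hFE
  have h2 := congrArg rho hstar
  simp only [map_mul, map_pow, rho_hc, rho_aeval0, rho_aeval1] at h2
  have hQK : algebraMap k[X] (RatFunc k) F.denom ≠ 0 := by
    rw [Ne, map_eq_zero_iff _ (IsFractionRing.injective k[X] (RatFunc k))]
    exact RatFunc.denom_ne_zero F
  have hCQ : (C (algebraMap k[X] (RatFunc k) F.denom) : (RatFunc k)[X]) ≠ 0 := by
    rw [Ne, C_eq_zero]; exact hQK
  apply of_star F h0 h1
  have h3 : (C (algebraMap k[X] (RatFunc k) F.denom) ^ F.num.natDegree *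
      C (algebraMap k[X] (RatFunc k) F.denom) ^ F.denom.natDegree) ≠ (0 : (RatFunc k)[X]) :=
    mul_ne_zero (pow_ne_zero _ hCQ) (pow_ne_zero _ hCQ)
  apply mul_left_cancel₀ h3
  linear_combination h2

end Groth.Agent.Helper7.FunEq
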