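import Mathlib

set_option autoImplicit false
open Matrix

namespace Groth.Agent.Helper7.GL2Z

/-- A 2×2 integer matrix with det 1, a nonzero fixed vector and finite order is the identity. -/
theorem eq_one_of_det_one (A : Matrix (Fin 2) (Fin 2) ℤ) (hdet : A.det = 1)
    (v : Fin 2 → ℤ) (hv : v ≠ 0) (hfix : A *ᵥ v = v) (n : ℕ) (hn : 0 < n) (hAn : A ^ n = 1) :
    A = 1 := by
  have hd0 : (A - 1).det = 0 := by
    rw [← Matrix.exists_mulVec_eq_zero_iff]
    refine ⟨v, hv, ?_⟩
    rw [Matrix.sub_mulVec, hfix, Matrix.one_mulVec, sub_self]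
  rw [Matrix.det_fin_two] at hdet hd0
  simp only [Matrix.sub_apply, Matrix.one_apply_eq, Matrix.one_apply_ne, ne_eq, Fin.reduceEq,
    not_false_eq_true, sub_zero] at hd0
  have htr : A 0 0 + A 1 1 = 2 := by
    linear_combination hdet - hd0
  set N := A - 1 with hN
  have hNN : N * N = 0 := by
    ext i j
    fin_cases i <;> fin_cases j
    · simp [hN, Matrix.mul_apply, Fin.sum_univ_two, Matrix.sub_apply, Matrix.one_apply]
      linear_combination (A 0 0) * htr - hdet
    · simp [hN, Matrix.mul_apply, Fin.sum_univ_two, Matrix.sub_apply, Matrix.one_apply]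
      linear_combination (A 0 1) * htr
    · simp [hN, Matrix.mul_apply, Fin.sum_univ_two, Matrix.sub_apply, Matrix.one_apply]
      linear_combination (A 1 0) * htr
    · simp [hN, Matrix.mul_apply, Fin.sum_univ_two, Matrix.sub_apply, Matrix.one_apply]
      linear_combination (A 1 1) * htr - hdet
  have hA : A = 1 + N := by rw [hN]; abel
  have hpow : ∀ k : ℕ, A ^ k = 1 + (k : ℤ) • N := by
    intro k
    induction k with
    | zero => simp
    | succ k ih =>
      rw [pow_succ, ih, hA]
      have : (1 + (k : ℤ) • N) * (1 + N) = 1 + ((k : ℤ) + 1) • N + (k : ℤ) • (N * N) := by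
        rw [mul_add, add_mul, add_mul, mul_one, one_mul, mul_one, smul_mul_assoc, add_smul, one_smul]
        abel
      rw [this, hNN, smul_zero, add_zero]
      push_cast
      rfl
  have h1 := hpow n
  rw [hAn] at h1
  have h2 : (n : ℤ) • N = 0 := by
    have := h1
    rw [left_eq_add] at this
    exact this
  have h3 : N = 0 := by
    ext i j
    have := congrFun (congrFun h2 i) j
    simp only [Matrix.smul_apply, smul_eq_mul, Matrix.zero_apply] at this
    rcases mul_eq_zero.mp this with h | h
    · omega
    · simpa using h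
  rw [hA, h3, add_zero]

end Groth.Agent.Helper7.GL2Z
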