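import Mathlib

set_option autoImplicit false
open Matrix

namespace Groth.Agent.Helper7.GL2Zb

/-- the trace of a finite-order complex 2×2 matrix has norm at most 2 -/
theorem norm_trace_le (M : Matrix (Fin 2) (Fin 2) ℂ) (n : ℕ) (hn : 0 < n) (hM : M ^ n = 1) :
    ‖M.trace‖ ≤ 2 := by
  classical
  rw [Matrix.trace_eq_sum_roots_charpoly]
  have hroot : ∀ l ∈ M.charpoly.roots, ‖l‖ = 1 := by
    intro l hl
    have h0 : M.charpoly.eval l = 0 := (Polynomial.mem_roots'.mp hl).2
    rw [Matrix.eval_charpoly] at h0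
    obtain ⟨v, hv, hvl⟩ := (Matrix.exists_mulVec_eq_zero_iff).mpr h0
    have h1 : M *ᵥ v = l • v := by
      rw [Matrix.sub_mulVec, sub_eq_zero] at hvl
      rw [← hvl]
      simp [Matrix.scalar_apply, Matrix.smul_mulVec]
    have h2 : ∀ k : ℕ, (M ^ k) *ᵥ v = l ^ k • v := by
      intro k
      induction k with
      | zero => simp
      | succ k ih =>
        rw [pow_succ, ← Matrix.mulVec_mulVec, h1, Matrix.mulVec_smul, ih, smul_smul, pow_succ,
          mul_comm]
    have h3 := h2 n
    rw [hM, Matrix.one_mulVec] at h3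
    have h4 : l ^ n = 1 := by
      by_contra hne
      apply hv
      have : (1 - l ^ n) • v = 0 := by rw [sub_smul, one_smul, ← h3, sub_self]
      rcases smul_eq_zero.mp this with h | h
      · exact absurd (sub_eq_zero.mp h).symm hne
      · exact h
    exact Complex.norm_eq_one_of_pow_eq_one h4 hn.ne'
  have hcard : Multiset.card M.charpoly.roots ≤ 2 := by
    have := Polynomial.card_roots' M.charpoly
    rw [Matrix.charpoly_natDegree_eq_dim, Fintype.card_fin] at this
    exact this
  calc ‖M.charpoly.roots.sum‖ ≤ (M.charpoly.roots.map (fun l => ‖l‖)).sum :=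
        norm_multiset_sum_le _
    _ = (M.charpoly.roots.map (fun _ => (1 : ℝ))).sum := by
        congr 1
        exact Multiset.map_congr rfl hroot
    _ = Multiset.card M.charpoly.roots := by simp
    _ ≤ 2 := by exact_mod_cast hcard

/-- the trace of a finite-order integer 2×2 matrix has absolute value at most 2 -/
theorem abs_trace_le (A : Matrix (Fin 2) (Fin 2) ℤ) (n : ℕ) (hn : 0 < n) (hA : A ^ n = 1) :
    |A.trace| ≤ 2 := by
  have h1 : (A.map (Int.castRingHom ℂ)) ^ n = 1 := by
    have := congrArg (fun X => (Int.castRingHom ℂ).mapMatrix X) hA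
    beta_reduce at this
    rw [map_pow, map_one] at this
    exact this
  have h2 := norm_trace_le _ n hn h1
  have h3 : (A.map (Int.castRingHom ℂ)).trace = ((A.trace : ℤ) : ℂ) := by
    simp [Matrix.trace, Fin.sum_univ_two]
  rw [h3] at h2
  have h4 : ‖((A.trace : ℤ) : ℂ)‖ = |(A.trace : ℝ)| := by
    rw [← Complex.ofReal_intCast, Complex.norm_real, Real.norm_eq_abs]
  rw [h4] at h2
  have h5 : |(A.trace : ℝ)| = ((|A.trace| : ℤ) : ℝ) := by push_cast; rfl
  rw [h5] at h2
  exact_mod_cast h2

end Groth.Agent.Helper7.GL2Zb
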