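import Groth.Agent.Helper7.GL2Zb
import Groth.Agent.S15162

set_option autoImplicit false
open Matrix

namespace Groth.Agent.Helper7.GL2Zc

theorem main
    (Γ : Subgroup (Matrix.GeneralLinearGroup (Fin 2) ℤ)) [Finite Γ] (d : ℕ) (hd : 6 < d)
    (w : Fin 2 → ZMod d) (hw : ∀ m : ℕ, 0 < m → m < d → m • w ≠ 0)
    (hfix : ∀ γ ∈ Γ, ((γ : Matrix (Fin 2) (Fin 2) ℤ).map (Int.castRingHom (ZMod d))) *ᵥ w = w) :
    ∃ v : Fin 2 → ℤ, v ≠ 0 ∧ ∀ γ ∈ Γ, (γ : Matrix (Fin 2) (Fin 2) ℤ) *ᵥ v = v := by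
  classical
  haveI : NeZero d := ⟨by omega⟩
  apply Groth.Agent.S15162.result Γ
  intro γ hγ
  set A : Matrix (Fin 2) (Fin 2) ℤ := (γ : Matrix (Fin 2) (Fin 2) ℤ) with hA
  -- finite order
  have hfin : ∃ n : ℕ, 0 < n ∧ A ^ n = 1 := by
    have hfo : IsOfFinOrder (⟨γ, hγ⟩ : Γ) := isOfFinOrder_of_finite _
    obtain ⟨n, hn, hpow⟩ := hfo.exists_pow_eq_one
    refine ⟨n, hn, ?_⟩
    have h1 : γ ^ n = 1 := by
      have := congrArg Subtype.val hpow
      simpa using this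
    have h2 := congrArg (fun u : Matrix.GeneralLinearGroup (Fin 2) ℤ =>
      (u : Matrix (Fin 2) (Fin 2) ℤ)) h1
    simpa using h2
  obtain ⟨n, hn, hpow⟩ := hfin
  have htr := GL2Zb.abs_trace_le A n hn hpow
  have hdet : A.det = 1 ∨ A.det = -1 := by
    have hu : IsUnit A.det := by
      rw [← Matrix.isUnit_iff_isUnit_det]; exact γ.isUnit
    exact Int.isUnit_iff.mp hu
  -- D
  set D : ℤ := (A - 1).det with hD
  have hDformula : D = A.det - A.trace + 1 := by
    rw [hD, Matrix.det_fin_two, Matrix.det_fin_two, Matrix.trace_fin_two]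
    simp only [Matrix.sub_apply, Matrix.one_apply_eq, Matrix.one_apply_ne, ne_eq, Fin.reduceEq,
      not_false_eq_true, sub_zero]
    ring
  have hDbound : |D| < (d : ℤ) := by
    rw [abs_le] at htr
    rw [abs_lt, hDformula]
    rcases hdet with h | h <;> rw [h] <;> constructor <;> omega
  -- d ∣ D
  have hdvd : (d : ℤ) ∣ D := by
    rw [← ZMod.intCast_zmod_eq_zero_iff_dvd]
    set Nb : Matrix (Fin 2) (Fin 2) (ZMod d) := (Int.castRingHom (ZMod d)).mapMatrix (A - 1) with hNb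
    have hNw : Nb *ᵥ w = 0 := by
      rw [hNb, map_sub, map_one, Matrix.sub_mulVec, Matrix.one_mulVec, sub_eq_zero]
      exact hfix γ hγ
    have hdetw : Nb.det • w = 0 := by
      have := congrArg (fun u => Nb.adjugate *ᵥ u) hNw
      simp only [Matrix.mulVec_mulVec, Matrix.adjugate_mul, Matrix.mulVec_zero] at this
      rw [Matrix.smul_mulVec, Matrix.one_mulVec] at this
      exact this
    have hdetD : Nb.det = ((D : ℤ) : ZMod d) := by
      rw [hNb, hD, ← RingHom.map_det]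
      rfl
    rw [hdetD] at hdetw
    by_contra hne
    set m := ((D : ℤ) : ZMod d).val with hm
    have hm0 : 0 < m := by
      rw [hm, ZMod.val_pos]
      exact hne
    have hmd : m < d := ZMod.val_lt _
    apply hw m hm0 hmd
    rw [← Nat.cast_smul_eq_nsmul (ZMod d), hm, ZMod.natCast_zmod_val]
    exact hdetw
  have hD0 : D = 0 := Int.eq_zero_of_abs_lt_dvd hdvd hDbound
  obtain ⟨v, hv, hvA⟩ := (Matrix.exists_mulVec_eq_zero_iff).mpr hD0
  refine ⟨v, hv, ?_⟩
  rw [Matrix.sub_mulVec, Matrix.one_mulVec, sub_eq_zero] at hvA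
  exact hvA

end Groth.Agent.Helper7.GL2Zc
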