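import Mathlib
import Groth.Prelude.Def_GLin5
import Groth.Agent.Helper7.GLnRedC

/-!
# The pairing with powers of the trace and the scalar one-parameter subgroup
-/

set_option autoImplicit false
universe u

namespace Groth.Agent.Helper7.GLTensA
open MvPolynomial CoordGrp TensorProduct
open Groth.Agent.Helper7.FischA Groth.Agent.Helper7.FischB Groth.Agent.Helper7.FischC
open Groth.Agent.Helper7.GLnRedA Groth.Agent.Helper7.GLnRedC

variable (r : ℕ) (k : Type u) [Field k]

/-- The coefficient matrix of the substitution `Y ↦ t · 1`. -/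
def gtr : Fin r × Fin r → Unit → k := fun p _ => if p.1 = p.2 then 1 else 0

/-- Evaluation of a polynomial in matrix entries at the scalar matrix `t · 1`. -/
noncomputable def ev : Mat r k →ₐ[k] Polynomial k :=
  ((MvPolynomial.uniqueAlgEquiv k Unit).toAlgHom.comp (subL (gtr r k))).comp (Mat.toPoly r k).toAlgHom

theorem ev_apply (P : Mat r k) :
    ev r k P = MvPolynomial.uniqueAlgEquiv k Unit (subL (gtr r k) (Mat.toPoly r k P)) := rfl

theorem ev_X (i j : Fin r) : ev r k (Mat.X i j) = if i = j then Polynomial.X else 0 := by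
  rw [ev_apply]
  have h1 : (Mat.toPoly r k) (Mat.X i j) = (MvPolynomial.X (i, j) : MvPolynomial (Fin r × Fin r) k) := rfl
  rw [h1, subL_X]
  simp only [Finset.univ_unique, Finset.sum_singleton, gtr]
  by_cases h : i = j
  · simp [h]
  · simp [h]

theorem diag_toGLn (P : Mat r k) :
    GLn.diag r k (fun _ => 1) (Mat.toGLn r k P) = Polynomial.toLaurent (ev r k P) := by
  have h : ((GLn.diag r k (fun _ => 1) : GLn r k →ₐc[k] LaurentPolynomial k) : GLn r k →ₐ[k] LaurentPolynomial k).comp
      ((Mat.toGLn r k : Mat r k →ₐc[k] GLn r k) : Mat r k →ₐ[k] GLn r k) =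
      (Polynomial.toLaurentAlg (R := k)).comp (ev r k) := by
    apply Mat.algHom_ext
    intro i j
    simp only [AlgHom.comp_apply, AlgHom.coe_coe, Mat.toGLn_X, GLn.diag_X, ev_X,
      Polynomial.toLaurentAlg_apply]
    by_cases hij : i = j
    · simp [hij]
    · simp [hij]
  exact DFunLike.congr_fun h P

theorem subR_gtr_X : subR (gtr r k) (X ()) = ∑ i : Fin r, (X (i, i) : MvPolynomial (Fin r × Fin r) k) := by
  rw [subR_X, Fintype.sum_prod_type]
  refine Finset.sum_congr rfl fun i _ => ?_
  rw [Finset.sum_eq_single i]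
  · simp [gtr]
  · intro b _ hb; simp [gtr, Ne.symm hb]
  · intro h; exact absurd (Finset.mem_univ i) h

theorem sum_xm_diag (a : ℕ) :
    ∑ I : Fin a → Fin r, Mat.toPoly r k (xm r k I I) =
      (∑ i : Fin r, (X (i, i) : MvPolynomial (Fin r × Fin r) k)) ^ a := by
  have h := Finset.prod_univ_sum (fun _ : Fin a => (Finset.univ : Finset (Fin r)))
    (fun (_ : Fin a) (i : Fin r) => (X (i, i) : MvPolynomial (Fin r × Fin r) k))
  simp only [Finset.prod_const, Finset.card_univ, Fintype.card_fin, Fintype.piFinset_univ] at h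
  rw [h]
  refine Finset.sum_congr rfl fun I _ => ?_
  unfold xm
  rw [map_prod]
  rfl

/-- Pairing with the `a`-th power of the trace extracts `a!` times the coefficient of `t^a` of the
restriction to scalar matrices. -/
theorem sum_bq_diag (a : ℕ) (P : Mat r k) :
    ∑ I : Fin a → Fin r, bq r k (xm r k I I) P = (a.factorial : k) * (ev r k P).coeff a := by
  simp only [bq_apply]
  rw [← LinearMap.sum_apply, ← map_sum, sum_xm_diag, ← subR_gtr_X, ← map_pow, pair_comm, ← pair_subL, ev_apply,
    MvPolynomial.coeff_uniqueAlgEquiv, pair_comm, X_pow_eq_monomial, pair_monomial, one_mul]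
  congr 1
  simp [mfact]

end Groth.Agent.Helper7.GLTensA
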