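import Mathlib
import Groth.Prelude.Def_HopfRep

/-!
# An injective comodule map into a semisimple comodule has a comodule retraction
-/

set_option autoImplicit false
universe u v w w'

namespace Groth.Agent.Helper7.SplitInj
open TensorProduct

variable {k : Type u} [Field k] {A : Type v} [CommRing A] [Bialgebra k A]
  {V : Type w} [AddCommGroup V] [Module k V] [HopfRep.Comod k A V]
  {Z : Type w'} [AddCommGroup Z] [Module k Z] [HopfRep.Comod k A Z]

theorem exists_retraction (hss : HopfRep.IsSemisimpleComod k A Z) (i : V →ₗ[k] Z)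
    (hi : Function.Injective i)
    (hhom : HopfRep.Comod.coact (k := k) (A := A) ∘ₗ i = i.rTensor A ∘ₗ HopfRep.Comod.coact (k := k) (A := A)) :
    ∃ p : Z →ₗ[k] V, p ∘ₗ i = LinearMap.id ∧
      HopfRep.Comod.coact (k := k) (A := A) ∘ₗ p = p.rTensor A ∘ₗ HopfRep.Comod.coact (k := k) (A := A) := by
  set W : Submodule k Z := LinearMap.range i with hWdef
  have hW : HopfRep.IsSubcomod (k := k) (A := A) W := by
    rintro _ ⟨v, rfl⟩
    have h1 := LinearMap.congr_fun hhom v
    simp only [LinearMap.comp_apply] at h1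
    rw [h1]
    have h2 : i = W.subtype ∘ₗ i.rangeRestrict := by
      apply LinearMap.ext; intro x; rfl
    refine ⟨i.rangeRestrict.rTensor A (HopfRep.Comod.coact (k := k) (A := A) v), ?_⟩
    rw [← LinearMap.comp_apply, ← LinearMap.rTensor_comp]
    congr 2
  obtain ⟨W', hW', hc⟩ := hss W hW
  let e : V ≃ₗ[k] W := LinearEquiv.ofInjective i hi
  let pr : Z →ₗ[k] W := W.projectionOnto W' hc
  let p : Z →ₗ[k] V := (e.symm : W →ₗ[k] V) ∘ₗ pr
  have hpi : p ∘ₗ i = LinearMap.id := by
    apply LinearMap.ext
    intro v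
    have h1 : pr (i v) = e v := by
      have : i v = ((e v : W) : Z) := rfl
      rw [this]
      exact Submodule.projectionOnto_apply_left hc (e v)
    simp only [LinearMap.comp_apply, LinearMap.id_apply, p, LinearEquiv.coe_coe]
    rw [h1, LinearEquiv.symm_apply_apply]
  have hpW' : p ∘ₗ W'.subtype = 0 := by
    apply LinearMap.ext
    intro w'
    have h1 : pr (w' : Z) = 0 := Submodule.projectionOnto_apply_right hc w'
    simp only [LinearMap.comp_apply, Submodule.subtype_apply, p, LinearMap.zero_apply]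
    rw [h1, map_zero]
  refine ⟨p, hpi, ?_⟩
  apply LinearMap.ext
  intro z
  simp only [LinearMap.comp_apply]
  have hz : z ∈ W ⊔ W' := by rw [hc.sup_eq_top]; exact Submodule.mem_top
  obtain ⟨w, hw, w', hw', rfl⟩ := Submodule.mem_sup.mp hz
  obtain ⟨v, rfl⟩ := hw
  rw [map_add, map_add, map_add, map_add]
  congr 1
  · have h1 := LinearMap.congr_fun hhom v
    simp only [LinearMap.comp_apply] at h1
    have h2 : p (i v) = v := LinearMap.congr_fun hpi v
    rw [h2, h1, ← LinearMap.comp_apply, ← LinearMap.rTensor_comp, hpi, LinearMap.rTensor_id, LinearMap.id_apply]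
  · obtain ⟨y, hy⟩ := hW' w' hw'
    have h1 : p w' = 0 := LinearMap.congr_fun hpW' ⟨w', hw'⟩
    rw [h1, map_zero, ← hy, ← LinearMap.comp_apply, ← LinearMap.rTensor_comp, hpW', LinearMap.rTensor_zero,
      LinearMap.zero_apply]

end Groth.Agent.Helper7.SplitInj
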