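import Mathlib
import Groth.Prelude.Def_ComodTens

/-!
# The coaction of a tensor power on pure tensors of basis vectors
-/

set_option autoImplicit false
universe u v w

namespace Groth.Agent.Helper7.TPowCo
open TensorProduct PiTensorProduct ComodTens

variable {k : Type u} [CommRing k] {A : Type v} [CommRing A] [Bialgebra k A]
  {V : Type w} [AddCommGroup V] [Module k V]

theorem tprod_snoc_eq {a : ℕ} (u : Fin a → V) (x : V) :
    tprod k (Fin.snoc (α := fun _ => V) u x) =
      TensorPower.mulEquiv (R := k) (M := V) (n := a) (m := 1) (tprod k u ⊗ₜ[k] tprod k (fun _ : Fin 1 => x)) := by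
  have h := TensorPower.tprod_mul_tprod k u (fun _ : Fin 1 => x)
  rw [TensorPower.gMul_def] at h
  rw [h, Fin.append_right_eq_snoc]

theorem tpowOne_coact_tprod (c : HopfRep.Comod k A V) {ι : Type*} (s : Finset ι) (x : V)
    (x₀ : ι → V) (x₁ : ι → A) (hx : c.coact x = ∑ i ∈ s, x₀ i ⊗ₜ[k] x₁ i) :
    (Comod.tpowOne c).coact (tprod k (fun _ : Fin 1 => x)) =
      ∑ i ∈ s, (tprod k (fun _ : Fin 1 => x₀ i)) ⊗ₜ[k] x₁ i := by
  have h1 : (tprod k (fun _ : Fin 1 => x)) =
      (PiTensorProduct.subsingletonEquiv (R := k) (s := fun _ : Fin 1 => V) (0 : Fin 1)).symm x :=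
    (PiTensorProduct.subsingletonEquiv_symm_apply' (0 : Fin 1) x).symm
  rw [h1]
  unfold Comod.tpowOne
  rw [ofEquiv_coact_apply, hx, map_sum]
  refine Finset.sum_congr rfl fun i _ => ?_
  rw [LinearMap.rTensor_tmul]
  congr 1
  exact PiTensorProduct.subsingletonEquiv_symm_apply' (0 : Fin 1) (x₀ i)

/-- The coaction of the `a`-th tensor power on a pure tensor of "basis" vectors. -/
theorem tpow_coact_tprod (c : HopfRep.Comod k A V) {n : ℕ} (e : Fin n → V) (m : Matrix (Fin n) (Fin n) A)
    (hc : ∀ j, c.coact (e j) = ∑ i, e i ⊗ₜ[k] m i j) :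
    ∀ (a : ℕ) (J : Fin a → Fin n),
      (Comod.tpow c a).coact (tprod k fun t => e (J t)) =
        ∑ K : Fin a → Fin n, (tprod k fun t => e (K t)) ⊗ₜ[k] ∏ t, m (K t) (J t) := by
  intro a
  induction a with
  | zero =>
    intro J
    rw [tpow_zero]
    have h1 : (tprod k fun t => e (J t)) =
        (PiTensorProduct.isEmptyEquiv (Fin 0) (R := k) (s := fun _ : Fin 0 => V)).symm 1 := by
      rw [LinearEquiv.eq_symm_apply, PiTensorProduct.isEmptyEquiv_apply_tprod]
    rw [Fintype.sum_eq_single J (fun K hK => absurd (Subsingleton.elim K J) hK)]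
    rw [h1, ofEquiv_coact_apply]
    change (LinearMap.rTensor A _) ((1 : k) ⊗ₜ[k] (1 : A)) = _
    rw [LinearMap.rTensor_tmul, Finset.univ_eq_empty, Finset.prod_empty]
    rfl
  | succ a ih =>
    intro J
    rw [tpow_succ]
    have hJ : (fun t => e (J t)) =
        Fin.snoc (α := fun _ => V) (fun t : Fin a => e (J t.castSucc)) (e (J (Fin.last a))) := by
      funext t
      refine Fin.lastCases ?_ (fun i => ?_) t
      · simp
      · simp
    rw [hJ, tprod_snoc_eq, ofEquiv_coact_apply]
    rw [tensor_coact_tmul_of_sum (Comod.tpow c a) (Comod.tpowOne c) Finset.univ Finset.univ _ _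
      (fun K : Fin a → Fin n => tprod k fun t => e (K t)) (fun K => ∏ t, m (K t) (J t.castSucc))
      (fun i : Fin n => tprod k (fun _ : Fin 1 => e i)) (fun i => m i (J (Fin.last a)))
      (ih (fun t => J t.castSucc))
      (tpowOne_coact_tprod c Finset.univ (e (J (Fin.last a))) e (fun i => m i (J (Fin.last a))) (hc _))]
    rw [map_sum]
    simp_rw [map_sum, LinearMap.rTensor_tmul]
    rw [← (Fin.snocEquiv (fun _ : Fin (a + 1) => Fin n)).sum_comp, Fintype.sum_prod_type]
    conv_rhs => rw [Finset.sum_comm]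
    refine Finset.sum_congr rfl fun K _ => ?_
    refine Finset.sum_congr rfl fun i _ => ?_
    have h2 : (fun t => e ((Fin.snocEquiv (fun _ : Fin (a + 1) => Fin n)) (i, K) t)) =
        Fin.snoc (α := fun _ => V) (fun t : Fin a => e (K t)) (e i) := by
      funext t
      refine Fin.lastCases ?_ (fun j => ?_) t
      · simp [Fin.snocEquiv]
      · simp [Fin.snocEquiv]
    rw [h2, tprod_snoc_eq]
    congr 1
    rw [Fin.prod_univ_castSucc]
    simp [Fin.snocEquiv]

end Groth.Agent.Helper7.TPowCo
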