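import Mathlib
import Groth.Prelude.Def_GLin5
import Groth.Prelude.Def_ComodTens
import Groth.Prelude.Def_Hoch
import Groth.Agent.Helper7.GLTensA
import Groth.Agent.Helper7.TPowCo
import Groth.Agent.Helper7.SplitInj
import Groth.Agent.Helper7.GLnRedB

/-!
# Homogeneous representations of `GL_r` are direct summands of twisted tensor powers
-/

set_option autoImplicit false
universe u

namespace Groth.Agent.Helper7.GLTensB
open MvPolynomial CoordGrp TensorProduct ComodTens
open Groth.Agent.Helper7.FischA Groth.Agent.Helper7.FischB Groth.Agent.Helper7.FischC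
open Groth.Agent.Helper7.GLnRedA Groth.Agent.Helper7.GLnRedC Groth.Agent.Helper7.GLTensA

variable (r : ℕ) (k : Type u) [Field k]

/-- The standard comodule of `GL_r`. -/
@[reducible] noncomputable def cStd : HopfRep.Comod k (GLn r k) (Fin r → k) :=
  GLin.comodAlong (Mat.toGLn r k) (ComodTens.stdVec r k)

theorem cStd_coact (j : Fin r) :
    (cStd r k).coact (Pi.single j (1 : k)) = ∑ i : Fin r, (Pi.single i (1 : k)) ⊗ₜ[k] (GLn.X i j : GLn r k) := by
  rw [GLin.comodAlong_coact, stdVec_coact_single, map_sum]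
  refine Finset.sum_congr rfl fun i _ => ?_
  rw [TensorProduct.map_tmul, LinearMap.id_apply]
  congr 1
  exact Mat.toGLn_X i j

theorem toGLn_xm {a : ℕ} (K J : Fin a → Fin r) :
    Mat.toGLn r k (xm r k K J) = ∏ t, (GLn.X (K t) (J t) : GLn r k) := by
  unfold xm
  rw [map_prod]
  refine Finset.prod_congr rfl fun t _ => ?_
  exact Mat.toGLn_X _ _

/-- The twisted tensor power coaction on pure tensors of standard basis vectors. -/
theorem tw_coact (a c : ℕ) (hg : IsGroupLikeElem k ((GLn.Dinv : GLn r k) ^ c)) (J : Fin a → Fin r) :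
    (Comod.twist (Comod.tpow (cStd r k) a) ((GLn.Dinv : GLn r k) ^ c) hg).coact
        (PiTensorProduct.tprod k fun t => (Pi.single (J t) (1 : k) : Fin r → k)) =
      ∑ K : Fin a → Fin r, (PiTensorProduct.tprod k fun t => (Pi.single (K t) (1 : k) : Fin r → k)) ⊗ₜ[k]
        jm r k c (xm r k K J) := by
  have h := Groth.Agent.Helper7.TPowCo.tpow_coact_tprod (cStd r k)
    (fun j : Fin r => (Pi.single j (1 : k) : Fin r → k)) (fun i j => (GLn.X i j : GLn r k))
    (cStd_coact r k) a J
  rw [twist_coact_of_sum _ _ hg Finset.univ _ _ _ h]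
  refine Finset.sum_congr rfl fun K _ => ?_
  rw [jm_apply, toGLn_xm]

section comp

variable {r k}
variable {V : Type u} [AddCommGroup V] [Module k V] {d : ℕ} (b : Module.Basis (Fin d) k V)
  (P : Fin d × Fin d → Mat r k) (a : ℕ)

/-- The basis tensor `e_J`. -/
noncomputable def eT (J : Fin a → Fin r) : TensorPower k a (Fin r → k) :=
  PiTensorProduct.tprod k fun t => (Pi.single (J t) (1 : k) : Fin r → k)

/-- The component map `V → T^a` attached to a row index `l` and a multi-index `I`. -/
noncomputable def comp (l : Fin d) (I : Fin a → Fin r) : V →ₗ[k] TensorPower k a (Fin r → k) :=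
  b.constr k fun j => ∑ J : Fin a → Fin r, bq r k (xm r k I J) (P (l, j)) • eT (r := r) (k := k) a J

theorem comp_basis (l : Fin d) (I : Fin a → Fin r) (j : Fin d) :
    comp b P a l I (b j) = ∑ J : Fin a → Fin r, bq r k (xm r k I J) (P (l, j)) • eT (r := r) (k := k) a J :=
  Module.Basis.constr_basis _ _ _ _

theorem comp_hom (ρ : HopfRep.Comod k (GLn r k) V) (M : Matrix (Fin d) (Fin d) (GLn r k)) (c : ℕ)
    (hg : IsGroupLikeElem k ((GLn.Dinv : GLn r k) ^ c))
    (hM1 : ∀ j, ρ.coact (b j) = ∑ i, b i ⊗ₜ[k] M i j)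
    (hP : ∀ l j, M l j = jm r k c (P (l, j)))
    (hPmul : ∀ l j, Coalgebra.comul (R := k) (P (l, j)) = ∑ i, P (l, i) ⊗ₜ[k] P (i, j))
    (l : Fin d) (I : Fin a → Fin r) :
    (Comod.twist (Comod.tpow (cStd r k) a) ((GLn.Dinv : GLn r k) ^ c) hg).coact ∘ₗ comp b P a l I =
      (comp b P a l I).rTensor (GLn r k) ∘ₗ ρ.coact := by
  apply b.ext
  intro j
  simp only [LinearMap.comp_apply]
  rw [comp_basis, hM1, map_sum, map_sum]
  simp only [map_smul, LinearMap.rTensor_tmul, comp_basis]
  -- LHS
  have hL : ∀ J : Fin a → Fin r,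
      (Comod.twist (Comod.tpow (cStd r k) a) ((GLn.Dinv : GLn r k) ^ c) hg).coact (eT (r := r) (k := k) a J) =
        ∑ K : Fin a → Fin r, eT (r := r) (k := k) a K ⊗ₜ[k] jm r k c (xm r k K J) := tw_coact r k a c hg
  simp_rw [hL, Finset.smul_sum]
  rw [Finset.sum_comm]
  have h1 : ∀ K : Fin a → Fin r,
      ∑ J : Fin a → Fin r, bq r k (xm r k I J) (P (l, j)) • (eT (r := r) (k := k) a K ⊗ₜ[k] jm r k c (xm r k K J)) =
      eT (r := r) (k := k) a K ⊗ₜ[k] jm r k c
        (∑ J : Fin a → Fin r, bq r k (xm r k I J) (P (l, j)) • xm r k K J) := by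
    intro K
    rw [map_sum, TensorProduct.tmul_sum]
    refine Finset.sum_congr rfl fun J _ => ?_
    rw [map_smul, TensorProduct.tmul_smul]
  simp_rw [h1, ← mat_right_xm, hPmul]
  simp only [map_sum, LinearMap.rTensor_tmul, TensorProduct.lid_tmul, map_smul]
  -- RHS
  simp_rw [TensorProduct.sum_tmul, hP]
  rw [Finset.sum_comm]
  refine Finset.sum_congr rfl fun K _ => ?_
  rw [TensorProduct.tmul_sum]
  refine Finset.sum_congr rfl fun i _ => ?_
  rw [TensorProduct.tmul_smul, TensorProduct.smul_tmul']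

end comp

section assemble

variable {r k}
variable {V : Type u} [AddCommGroup V] [Module k V] {d : ℕ} (b : Module.Basis (Fin d) k V)
  (P : Fin d × Fin d → Mat r k) (a : ℕ) {bb : ℕ} (eqv : Fin d × (Fin a → Fin r) ≃ Fin bb)

/-- The embedding `V → (T^a)^bb`. -/
noncomputable def iMap : V →ₗ[k] (Fin bb → TensorPower k a (Fin r → k)) :=
  LinearMap.pi fun β => comp b P a (eqv.symm β).1 (eqv.symm β).2

theorem iMap_eq_sum :
    iMap b P a eqv = ∑ β : Fin bb,
      (LinearMap.single k (fun _ : Fin bb => TensorPower k a (Fin r → k)) β) ∘ₗ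
        comp b P a (eqv.symm β).1 (eqv.symm β).2 := by
  apply LinearMap.ext
  intro v
  funext β'
  simp only [iMap, LinearMap.pi_apply, LinearMap.sum_apply, LinearMap.comp_apply, LinearMap.coe_single,
    Finset.sum_apply]
  rw [Finset.sum_eq_single β']
  · simp
  · intro β _ hβ; simp [Pi.single_apply, Ne.symm hβ]
  · intro h; exact absurd (Finset.mem_univ β') h

theorem iMap_hom (ρ : HopfRep.Comod k (GLn r k) V) (M : Matrix (Fin d) (Fin d) (GLn r k)) (c : ℕ)
    (hg : IsGroupLikeElem k ((GLn.Dinv : GLn r k) ^ c))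
    (hM1 : ∀ j, ρ.coact (b j) = ∑ i, b i ⊗ₜ[k] M i j)
    (hP : ∀ l j, M l j = jm r k c (P (l, j)))
    (hPmul : ∀ l j, Coalgebra.comul (R := k) (P (l, j)) = ∑ i, P (l, i) ⊗ₜ[k] P (i, j)) :
    (Comod.twist (Comod.pi fun _ : Fin bb => Comod.tpow (cStd r k) a) ((GLn.Dinv : GLn r k) ^ c) hg).coact ∘ₗ
        iMap b P a eqv =
      (iMap b P a eqv).rTensor (GLn r k) ∘ₗ ρ.coact := by
  apply LinearMap.ext
  intro v
  simp only [LinearMap.comp_apply]
  rw [twist_coact, pi_coact, map_sum]
  have h1 : ∀ β : Fin bb,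
      (LinearMap.lTensor (Fin bb → TensorPower k a (Fin r → k)) (LinearMap.mulRight k ((GLn.Dinv : GLn r k) ^ c)))
        ((LinearMap.rTensor (GLn r k) (LinearMap.single k (fun _ : Fin bb => TensorPower k a (Fin r → k)) β))
          ((Comod.tpow (cStd r k) a).coact (iMap b P a eqv v β))) =
      (LinearMap.rTensor (GLn r k) ((LinearMap.single k (fun _ : Fin bb => TensorPower k a (Fin r → k)) β) ∘ₗ
        comp b P a (eqv.symm β).1 (eqv.symm β).2)) (ρ.coact v) := by
    intro β
    rw [← LinearMap.comp_apply, LinearMap.lTensor_comp_rTensor, ← LinearMap.rTensor_comp_lTensor,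
      LinearMap.comp_apply, ← twist_coact _ _ hg]
    have h2 := LinearMap.congr_fun (comp_hom b P a ρ M c hg hM1 hP hPmul (eqv.symm β).1 (eqv.symm β).2) v
    simp only [LinearMap.comp_apply] at h2
    have h3 : iMap b P a eqv v β = comp b P a (eqv.symm β).1 (eqv.symm β).2 v := rfl
    rw [h3, h2, ← LinearMap.comp_apply, ← LinearMap.rTensor_comp]
  simp_rw [h1]
  rw [iMap_eq_sum]
  have h4 : ∀ (s : Finset (Fin bb)) (f : Fin bb → (V →ₗ[k] (Fin bb → TensorPower k a (Fin r → k)))),
      LinearMap.rTensor (GLn r k) (∑ β ∈ s, f β) = ∑ β ∈ s, LinearMap.rTensor (GLn r k) (f β) := by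
    intro s f
    exact map_sum (LinearMap.rTensorHom (R := k) (GLn r k) (N := V)
      (P := Fin bb → TensorPower k a (Fin r → k))) f s
  rw [h4, LinearMap.sum_apply]

theorem eT_eq_basis (J : Fin a → Fin r) :
    eT (r := r) (k := k) a J =
      _root_.Basis.piTensorProduct (fun _ : Fin a => Pi.basisFun k (Fin r)) J := by
  rw [_root_.Basis.piTensorProduct_apply]
  unfold eT
  congr 1
  funext t
  rw [Pi.basisFun_apply]

theorem iMap_injective [CharZero k]
    (hev : ∀ l j, (ev r k (P (l, j))).coeff a = if l = j then 1 else 0) :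
    Function.Injective (iMap b P a eqv) := by
  classical
  rw [injective_iff_map_eq_zero]
  intro v hv
  have hc : ∀ l I, comp b P a l I v = 0 := by
    intro l I
    have h1 := congrFun hv (eqv (l, I))
    simp only [iMap, LinearMap.pi_apply, Equiv.symm_apply_apply, Pi.zero_apply] at h1
    exact h1
  have hcoef : ∀ l (I : Fin a → Fin r), ∑ j, b.repr v j * bq r k (xm r k I I) (P (l, j)) = 0 := by
    intro l I
    have h1 := hc l I
    conv_lhs at h1 => rw [← b.sum_repr v]
    rw [map_sum] at h1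
    simp only [map_smul, comp_basis, Finset.smul_sum, smul_smul] at h1
    rw [Finset.sum_comm] at h1
    simp_rw [← Finset.sum_smul, eT_eq_basis] at h1
    have h2 := congrArg (fun x => (_root_.Basis.piTensorProduct (fun _ : Fin a => Pi.basisFun k (Fin r))).repr x I) h1
    simp only [Module.Basis.repr_sum_self, map_zero, Finsupp.coe_zero, Pi.zero_apply] at h2
    exact h2
  have hl : ∀ l, b.repr v l = 0 := by
    intro l
    have h1 : ∑ I : Fin a → Fin r, ∑ j, b.repr v j * bq r k (xm r k I I) (P (l, j)) = 0 :=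
      Finset.sum_eq_zero fun I _ => hcoef l I
    rw [Finset.sum_comm] at h1
    simp_rw [← Finset.mul_sum, sum_bq_diag, hev] at h1
    simp only [mul_ite, mul_one, mul_zero] at h1
    rw [Finset.sum_eq_single l] at h1
    · simp only [if_true] at h1
      have h2 : (a.factorial : k) ≠ 0 := Nat.cast_ne_zero.mpr (Nat.factorial_ne_zero a)
      exact (mul_eq_zero.mp h1).resolve_right h2
    · intro j _ hj; simp [Ne.symm hj]
    · intro h; exact absurd (Finset.mem_univ l) h
  rw [← b.sum_repr v]
  simp [hl]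

end assemble

open LaurentPolynomial in
theorem main [CharZero k] (hr : 0 < r)
    (V : Type u) [AddCommGroup V] [Module k V] [Module.Finite k V] (ρ : HopfRep.Comod k (GLn r k) V)
    (h : ℤ)
    (hh : @HopfRep.eigenspace k (LaurentPolynomial k) _ _ _ V _ _
      (GLin.comodAlong (GLn.diag r k (fun _ => 1)) ρ) (LaurentPolynomial.T h) = ⊤) :
    ∃ (a bb c : ℕ), 0 < c ∧
      ∃ (i : V →ₗ[k] (Fin bb → TensorPower k a (Fin r → k)))
        (p : (Fin bb → TensorPower k a (Fin r → k)) →ₗ[k] V),
        p ∘ₗ i = LinearMap.id ∧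
        @Hoch.IsComodHom k _ (GLn r k) _ _ _ V _ _ ρ (Fin bb → TensorPower k a (Fin r → k)) _ _
          (Comod.twist
            (Comod.pi fun _ : Fin bb => Comod.tpow (GLin.comodAlong (Mat.toGLn r k) (stdVec r k)) a)
            ((GLn.Dinv : GLn r k) ^ c) (IsGroupLikeElem.pow ⟨GLn.counit_Dinv, GLn.comul_Dinv⟩)) i ∧
        @Hoch.IsComodHom k _ (GLn r k) _ _ _ (Fin bb → TensorPower k a (Fin r → k)) _ _
          (Comod.twist
            (Comod.pi fun _ : Fin bb => Comod.tpow (GLin.comodAlong (Mat.toGLn r k) (stdVec r k)) a)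
            ((GLn.Dinv : GLn r k) ^ c) (IsGroupLikeElem.pow ⟨GLn.counit_Dinv, GLn.comul_Dinv⟩)) V _ _ ρ p := by
  classical
  set d := Module.finrank k V with hd
  let b : Module.Basis (Fin d) k V := Module.finBasis k V
  obtain ⟨M, hM1, hM2, hM3⟩ := Groth.Agent.Helper8.GLnEmb.exists_matrix ρ b
  obtain ⟨c₀, hc₀⟩ := exists_jm_common r k (fun p : Fin d × Fin d => M p.1 p.2)
  choose P₀ hP₀ using hc₀
  set e := 1 + h.natAbs with he
  set c := c₀ + e with hc
  let P : Fin d × Fin d → Mat r k := fun p => P₀ p * Mat.det r k ^ e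
  have hP : ∀ l j, M l j = jm r k c (P (l, j)) := by
    intro l j
    rw [hP₀ (l, j)]
    exact jm_add r k c₀ e (P₀ (l, j))
  have hcpos : 0 < c := by omega
  -- multiplicativity over the matrix monoid
  have hPmul : ∀ l j, Coalgebra.comul (R := k) (P (l, j)) = ∑ i, P (l, i) ⊗ₜ[k] P (i, j) := by
    intro l j
    have hinj : Function.Injective (TensorProduct.map (jm r k c) (jm r k c)) :=
      TensorProduct.map_injective_of_flat_flat _ _ (jm_injective r k c) (jm_injective r k c)
    apply hinj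
    rw [← comul_jm, ← hP, hM2, map_sum]
    refine Finset.sum_congr rfl fun i _ => ?_
    rw [TensorProduct.map_tmul, ← hP, ← hP]
  -- the weights of the scalar subgroup
  have hdiag : ∀ l j, GLn.diag r k (fun _ => 1) (M l j) = if l = j then (T h : LaurentPolynomial k) else 0 := by
    intro l j
    have hmem : b j ∈ @HopfRep.eigenspace k (LaurentPolynomial k) _ _ _ V _ _
        (GLin.comodAlong (GLn.diag r k (fun _ => 1)) ρ) (LaurentPolynomial.T h) := by
      rw [hh]; exact Submodule.mem_top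
    have h1 : (GLin.comodAlong (GLn.diag r k (fun _ => 1)) ρ).coact (b j) =
        b j ⊗ₜ[k] (T h : LaurentPolynomial k) := hmem
    rw [GLin.comodAlong_coact, hM1, map_sum] at h1
    simp only [TensorProduct.map_tmul, LinearMap.id_apply] at h1
    have h2 := congrArg (fun y => TensorProduct.equivFinsuppOfBasisLeft b y l) h1
    simp only [Groth.Agent.Helper8.GLnEmb.coef_sum, TensorProduct.equivFinsuppOfBasisLeft_apply_tmul_apply,
      Module.Basis.repr_self, Finsupp.single_apply] at h2
    have h2' : GLn.diag r k (fun _ => 1) (M l j) =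
        (if j = l then (1 : k) else 0) • (T h : LaurentPolynomial k) := h2
    rw [h2']
    by_cases hlj : l = j
    · subst hlj; simp
    · rw [if_neg hlj, if_neg (Ne.symm hlj), zero_smul]
  -- the degree
  have hnn : 0 ≤ h + (r : ℤ) * c := by
    have h1 : (1 : ℤ) ≤ r := by exact_mod_cast hr
    have h2 : (h.natAbs : ℤ) ≤ c := by omega
    have h3 : -(h.natAbs : ℤ) ≤ h := by omega
    nlinarith
  set a := (h + (r : ℤ) * c).toNat with ha
  have ha' : (a : ℤ) = h + (r : ℤ) * c := Int.toNat_of_nonneg hnn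
  have hev : ∀ l j, (ev r k (P (l, j))).coeff a = if l = j then 1 else 0 := by
    intro l j
    have h1 : Polynomial.toLaurent (ev r k (P (l, j))) =
        Polynomial.toLaurent (if l = j then (Polynomial.X ^ a : Polynomial k) else 0) := by
      rw [← diag_toGLn]
      have h2 : Mat.toGLn r k (P (l, j)) = M l j * GLn.det ^ c := by
        rw [hP, jm_apply, mul_assoc, ← mul_pow, GLn.Dinv_mul_det, one_pow, mul_one]
      rw [h2, map_mul, map_pow, hdiag, GLn.diag_det]
      simp only [Finset.sum_const, Finset.card_univ, Fintype.card_fin, nsmul_eq_mul, mul_one, T_pow]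
      by_cases hlj : l = j
      · rw [if_pos hlj, if_pos hlj, Polynomial.toLaurent_X_pow, ← T_add, ha']
        congr 1
        push_cast
        ring
      · rw [if_neg hlj, if_neg hlj, zero_mul, map_zero]
    have h3 := Polynomial.toLaurent_injective h1
    rw [h3]
    by_cases hlj : l = j
    · simp [hlj]
    · simp [hlj]
  -- the embedding
  let eqv : Fin d × (Fin a → Fin r) ≃ Fin (Fintype.card (Fin d × (Fin a → Fin r))) := Fintype.equivFin _
  set bb := Fintype.card (Fin d × (Fin a → Fin r)) with hbb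
  have hg : IsGroupLikeElem k ((GLn.Dinv : GLn r k) ^ c) := IsGroupLikeElem.pow ⟨GLn.counit_Dinv, GLn.comul_Dinv⟩
  have hhom := iMap_hom b P a eqv ρ M c hg hM1 hP hPmul
  have hinj := iMap_injective b P a eqv hev
  let cZ : HopfRep.Comod k (GLn r k) (Fin bb → TensorPower k a (Fin r → k)) :=
    Comod.twist (Comod.pi fun _ : Fin bb => Comod.tpow (cStd r k) a) ((GLn.Dinv : GLn r k) ^ c) hg
  have hss : @HopfRep.IsSemisimpleComod k (GLn r k) _ _ _ _ (Fin bb → TensorPower k a (Fin r → k)) _ _ cZ :=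
    @Groth.Agent.Helper7.GLnRedB.main k _ _ r (Fin bb → TensorPower k a (Fin r → k)) _ _ cZ inferInstance
  obtain ⟨p, hpi, hphom⟩ := @Groth.Agent.Helper7.SplitInj.exists_retraction k _ (GLn r k) _ _ V _ _ ρ
    (Fin bb → TensorPower k a (Fin r → k)) _ _ cZ hss (iMap b P a eqv) hinj hhom
  exact ⟨a, bb, c, hcpos, iMap b P a eqv, p, hpi, hhom, hphom⟩

end Groth.Agent.Helper7.GLTensB
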