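import Mathlib

/-!
# Units of `A[X_ij, 1/det]`: specialisation to the Laurent polynomial ring
-/

set_option autoImplicit false
set_option linter.unusedSectionVars false
universe u

namespace Groth.Agent.Helper7.GLnUnit

open MvPolynomial

variable {n : ℕ} (R : Type u) [CommRing R]

/-- the generic determinant -/
noncomputable abbrev dd (n : ℕ) (R : Type u) [CommRing R] : MvPolynomial (Fin n × Fin n) R :=
  (Matrix.mvPolynomialX (Fin n) (Fin n) R).det

/-- the diagonal specialisation `X_00 ↦ t`, `X_ii ↦ 1`, `X_ij ↦ 0` -/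
noncomputable def σ (n : ℕ) (R : Type u) [CommRing R] :
    MvPolynomial (Fin n × Fin n) R →ₐ[R] Polynomial R :=
  MvPolynomial.aeval (fun p : Fin n × Fin n =>
    if p.1 = p.2 then (if (p.1 : ℕ) = 0 then Polynomial.X else 1) else 0)

lemma σ_X (i j : Fin n) : σ n R (MvPolynomial.X (i, j)) =
    if i = j then (if (i : ℕ) = 0 then Polynomial.X else 1) else 0 := by
  simp [σ]

lemma σ_dd (hn : 0 < n) : σ n R (dd n R) = Polynomial.X := by
  rw [dd, AlgHom.map_det]
  have : (σ n R).mapMatrix (Matrix.mvPolynomialX (Fin n) (Fin n) R) =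
      Matrix.diagonal (fun i : Fin n => if (i : ℕ) = 0 then (Polynomial.X : Polynomial R) else 1) := by
    ext i j
    rw [AlgHom.mapMatrix_apply, Matrix.map_apply, Matrix.mvPolynomialX_apply, σ_X,
      Matrix.diagonal_apply]
  rw [this, Matrix.det_diagonal]
  rw [Finset.prod_eq_single (⟨0, hn⟩ : Fin n)]
  · simp
  · intro b _ hb
    rw [if_neg]
    intro h
    exact hb (Fin.ext h)
  · intro h
    exact absurd (Finset.mem_univ _) h

lemma σ_C (a : R) : σ n R (MvPolynomial.C a) = Polynomial.C a := by
  change σ n R (algebraMap R _ a) = _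
  rw [AlgHom.commutes]
  rfl

lemma σ_C_mul_dd_pow (hn : 0 < n) (a : R) (i : ℕ) :
    σ n R (MvPolynomial.C a * dd n R ^ i) = Polynomial.C a * Polynomial.X ^ i := by
  rw [map_mul, map_pow, σ_dd R hn, σ_C]

/-- naturality of the specialisation -/
lemma σ_map {S : Type u} [CommRing S] (ψ : R →+* S) (f : MvPolynomial (Fin n × Fin n) R) :
    σ n S (MvPolynomial.map ψ f) = Polynomial.map ψ (σ n R f) := by
  have : (((σ n S).toRingHom).comp (MvPolynomial.map ψ)) =
      (Polynomial.mapRingHom ψ).comp ((σ n R).toRingHom) := by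
    apply MvPolynomial.ringHom_ext
    · intro a
      simp only [RingHom.comp_apply, MvPolynomial.map_C, AlgHom.toRingHom_eq_coe, RingHom.coe_coe, σ_C,
        Polynomial.coe_mapRingHom, Polynomial.map_C]
    · rintro ⟨i, j⟩
      simp only [RingHom.comp_apply, MvPolynomial.map_X, AlgHom.toRingHom_eq_coe, RingHom.coe_coe, σ_X,
        Polynomial.coe_mapRingHom]
      split_ifs <;> simp
  exact DFunLike.congr_fun this f

lemma map_dd {S : Type u} [CommRing S] (ψ : R →+* S) :
    MvPolynomial.map ψ (dd n R) = dd n S := by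
  rw [dd, dd, RingHom.map_det]
  congr 1
  ext i j
  simp [Matrix.mvPolynomialX_apply]

/-- the coefficient functionals -/
noncomputable def cf (i : ℕ) (f : MvPolynomial (Fin n × Fin n) R) : R := (σ n R f).coeff i

lemma cf_map {S : Type u} [CommRing S] (ψ : R →+* S) (i : ℕ) (f : MvPolynomial (Fin n × Fin n) R) :
    cf S i (MvPolynomial.map ψ f) = ψ (cf R i f) := by
  rw [cf, cf, σ_map, Polynomial.coeff_map]

lemma cf_C_mul_dd_pow (hn : 0 < n) (a : R) (i j : ℕ) :
    cf R j (MvPolynomial.C a * dd n R ^ i) = if j = i then a else 0 := by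
  rw [cf, σ_C_mul_dd_pow R hn, Polynomial.coeff_C_mul, Polynomial.coeff_X_pow]
  split_ifs <;> simp

variable (n)

/-- the localisation -/
abbrev LL (n : ℕ) (R : Type u) [CommRing R] := Localization.Away (dd n R)

/-- the induced map to Laurent polynomials -/
noncomputable def τ (hn : 0 < n) : LL n R →+* LaurentPolynomial R :=
  IsLocalization.Away.lift (dd n R)
    (g := (Polynomial.toLaurent (R := R) : Polynomial R →+* LaurentPolynomial R).comp
      (σ n R : MvPolynomial (Fin n × Fin n) R →+* Polynomial R))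
    (by
      rw [RingHom.comp_apply]
      change IsUnit (Polynomial.toLaurent (σ n R (dd n R)))
      rw [σ_dd R hn, Polynomial.toLaurent_X]
      exact LaurentPolynomial.isUnit_T 1)

lemma τ_algebraMap (hn : 0 < n) (f : MvPolynomial (Fin n × Fin n) R) :
    τ n R hn (algebraMap _ _ f) = Polynomial.toLaurent (σ n R f) := by
  rw [τ, IsLocalization.Away.lift_eq]
  rfl

/-- the unit `det` of the localisation -/
noncomputable def du : (LL n R)ˣ :=
  (IsLocalization.Away.algebraMap_isUnit (S := LL n R) (dd n R)).unit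

/-- the unit `T` -/
noncomputable def Tu : (LaurentPolynomial R)ˣ :=
  ⟨LaurentPolynomial.T 1, LaurentPolynomial.T (-1),
    by rw [← LaurentPolynomial.T_add]; simp,
    by rw [← LaurentPolynomial.T_add]; simp⟩

lemma Tu_zpow (e : ℤ) : ((Tu R ^ e : (LaurentPolynomial R)ˣ) : LaurentPolynomial R) =
    LaurentPolynomial.T e := by
  induction e using Int.induction_on with
  | zero => simp
  | succ i ih =>
    rw [zpow_add_one, Units.val_mul, ih, LaurentPolynomial.T_add]
    rfl
  | pred i ih =>
    rw [zpow_sub_one, Units.val_mul, ih, sub_eq_add_neg, LaurentPolynomial.T_add]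
    rfl

lemma map_du (hn : 0 < n) : Units.map (τ n R hn).toMonoidHom (du n R) = Tu R := by
  apply Units.ext
  change (τ n R hn) (algebraMap _ _ (dd n R)) = LaurentPolynomial.T 1
  rw [τ_algebraMap, σ_dd R hn, Polynomial.toLaurent_X]

/-- the map in the statement -/
noncomputable def Φ (p : Rˣ × ℤ) : (LL n R)ˣ :=
  Units.map (algebraMap R (LL n R)).toMonoidHom p.1 * du n R ^ p.2

lemma τ_Φ (hn : 0 < n) (p : Rˣ × ℤ) :
    τ n R hn (Φ n R p : LL n R) = LaurentPolynomial.C (p.1 : R) * LaurentPolynomial.T p.2 := by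
  have h1 : Units.map (τ n R hn).toMonoidHom (Φ n R p) =
      Units.map (LaurentPolynomial.C (R := R)).toMonoidHom p.1 * Tu R ^ p.2 := by
    rw [Φ, map_mul, map_zpow, map_du]
    congr 1
    apply Units.ext
    change τ n R hn (algebraMap R (LL n R) (p.1 : R)) = LaurentPolynomial.C (p.1 : R)
    rw [IsScalarTower.algebraMap_apply R (MvPolynomial (Fin n × Fin n) R) (LL n R), τ_algebraMap]
    change Polynomial.toLaurent (σ n R (MvPolynomial.C (p.1 : R))) = _
    rw [σ_C, Polynomial.toLaurent_C]
  have h2 := congrArg Units.val h1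
  rw [Units.val_mul, Tu_zpow] at h2
  exact h2

lemma Φ_injective [Nontrivial R] (hn : 0 < n) : Function.Injective (Φ n R) := by
  rintro ⟨a, e⟩ ⟨a', e'⟩ h
  have h1 := congrArg (fun u : (LL n R)ˣ => τ n R hn (u : LL n R)) h
  simp only [τ_Φ] at h1
  rw [← LaurentPolynomial.single_eq_C_mul_T, ← LaurentPolynomial.single_eq_C_mul_T] at h1
  have h2 := congrArg (fun q : LaurentPolynomial R => q.coeff e) h1
  simp only [AddMonoidAlgebra.coeff_single] at h2
  rw [Finsupp.single_eq_same, Finsupp.single_apply] at h2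
  split_ifs at h2 with hee
  · subst hee
    have : a = a' := Units.ext h2
    rw [this]
  · exact absurd h2 a.ne_zero

/-- if `R` is not reduced, the map is not surjective -/
lemma not_surjective_of_not_isReduced [Nontrivial R] (hn : 0 < n) (h : ¬ IsReduced R) :
    ¬ Function.Surjective (Φ n R) := by
  intro hs
  apply h
  refine ⟨fun ε hε => ?_⟩
  -- reduce to square zero
  obtain ⟨m, hm⟩ := hε
  induction m using Nat.strong_induction_on generalizing ε with
  | _ m ih =>
  rcases Nat.lt_or_ge m 2 with hlt | hge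
  · interval_cases m
    · exfalso
      rw [pow_zero] at hm
      exact one_ne_zero hm
    · simpa using hm
  · -- ε^(m-1) has square zero
    have hsq : ∀ η : R, η ^ 2 = 0 → η = 0 := by
      intro η hη
      -- the unit 1 + η X_00
      have hnil : IsNilpotent (MvPolynomial.C η * MvPolynomial.X ((⟨0, hn⟩ : Fin n), (⟨0, hn⟩ : Fin n)) :
          MvPolynomial (Fin n × Fin n) R) := by
        refine ⟨2, ?_⟩
        rw [mul_pow, ← map_pow, hη, map_zero, zero_mul]
      have hu : IsUnit (1 + MvPolynomial.C η * MvPolynomial.X ((⟨0, hn⟩ : Fin n), (⟨0, hn⟩ : Fin n)) :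
          MvPolynomial (Fin n × Fin n) R) := by
        rw [add_comm]
        exact hnil.isUnit_add_one
      obtain ⟨⟨a, e⟩, hae⟩ := hs (Units.map (algebraMap _ (LL n R)).toMonoidHom hu.unit)
      have h1 := congrArg (fun u : (LL n R)ˣ => τ n R hn (u : LL n R)) hae
      simp only [τ_Φ] at h1
      change _ = τ n R hn (algebraMap _ _ (1 + MvPolynomial.C η *
        MvPolynomial.X ((⟨0, hn⟩ : Fin n), (⟨0, hn⟩ : Fin n)))) at h1
      rw [τ_algebraMap, map_add, map_one, map_mul, σ_C, σ_X, if_pos rfl, if_pos rfl, map_add,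
        map_one, map_mul, Polynomial.toLaurent_C, Polynomial.toLaurent_X,
        ← LaurentPolynomial.single_eq_C_mul_T, ← LaurentPolynomial.single_eq_C_mul_T] at h1
      change AddMonoidAlgebra.single e (a : R) = _ at h1
      have hone : (1 : LaurentPolynomial R) = AddMonoidAlgebra.single 0 1 := rfl
      rw [hone] at h1
      have h0 := congrArg (fun q : LaurentPolynomial R => q.coeff 0) h1
      have h1' := congrArg (fun q : LaurentPolynomial R => q.coeff 1) h1
      simp only [AddMonoidAlgebra.coeff_single, AddMonoidAlgebra.coeff_add, Finsupp.add_apply,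
        Finsupp.single_apply] at h0 h1'
      norm_num at h0 h1'
      split_ifs at h0 with he0
      · subst he0
        rw [if_neg (by norm_num)] at h1'
        exact h1'.symm
      · exact absurd h0.symm one_ne_zero
    have h2 : (ε ^ (m - 1)) ^ 2 = 0 := by
      rw [← pow_mul]
      exact pow_eq_zero_of_le (by omega) hm
    exact ih (m - 1) (by omega) ε (hsq _ h2)

end Groth.Agent.Helper7.GLnUnit
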