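import Mathlib
import Groth.Agent.Helper7.GLnUnit1
import Groth.Agent.Helper7.GLnChar

/-!
# Units of `A[X_ij, 1/det]` for a reduced connected ring `A`
-/

set_option autoImplicit false
set_option linter.unusedSectionVars false
universe u

namespace Groth.Agent.Helper7.GLnUnit

open MvPolynomial

variable {n : ℕ} (A : Type u) [CommRing A]

/-- per-prime analysis of a divisor of a power of the determinant -/
lemma prime_analysis (hn : 0 < n) (f g : MvPolynomial (Fin n × Fin n) A) (s N : ℕ)
    (h : dd n A ^ s * (f * g) = dd n A ^ N) (p : Ideal A) [p.IsPrime] :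
    ∃ i : ℕ, cf A i f ∉ p ∧ (∀ j, j ≠ i → cf A j f ∈ p) ∧
      ∀ m, MvPolynomial.coeff m (f - MvPolynomial.C (cf A i f) * dd n A ^ i) ∈ p := by
  let K := FractionRing (A ⧸ p)
  let ψ : A →+* K := (algebraMap (A ⧸ p) K).comp (Ideal.Quotient.mk p)
  have hker : ∀ a, ψ a = 0 ↔ a ∈ p := by
    intro a
    rw [RingHom.comp_apply, map_eq_zero_iff _ (IsFractionRing.injective (A ⧸ p) K),
      Ideal.Quotient.eq_zero_iff_mem]
  have h1 := congrArg (MvPolynomial.map ψ) h
  rw [map_mul, map_pow, map_pow, map_dd, map_mul] at h1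
  have hdvd : MvPolynomial.map ψ f ∣ dd n K ^ N :=
    ⟨dd n K ^ s * MvPolynomial.map ψ g, by rw [← h1]; ring⟩
  obtain ⟨c, i, hc, hfc⟩ := GLnChar.eq_of_dvd_detP_pow (MvPolynomial.map ψ f) N hdvd
  have hcf : ∀ j, ψ (cf A j f) = if j = i then c else 0 := by
    intro j
    rw [← cf_map, hfc]
    exact cf_C_mul_dd_pow K hn c i j
  refine ⟨i, ?_, ?_, ?_⟩
  · rw [← hker, hcf i, if_pos rfl]
    exact hc
  · intro j hj
    rw [← hker, hcf j, if_neg hj]
  · intro m
    rw [← hker, ← MvPolynomial.coeff_map, map_sub, map_mul, map_pow, map_dd, MvPolynomial.map_C,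
      hcf i, if_pos rfl, hfc, sub_self, MvPolynomial.coeff_zero]

lemma eq_zero_of_forall_prime [IsReduced A] (x : A) (h : ∀ p : Ideal A, p.IsPrime → x ∈ p) :
    x = 0 := by
  have : IsNilpotent x := nilpotent_iff_mem_prime.2 h
  exact this.eq_zero

/-- a divisor of a power of the determinant over a reduced connected ring -/
lemma eq_C_mul_pow [IsReduced A] [Nontrivial A]
    (hconn : ∀ e : A, IsIdempotentElem e → e = 0 ∨ e = 1) (hn : 0 < n)
    (f g : MvPolynomial (Fin n × Fin n) A) (s N : ℕ)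
    (h : dd n A ^ s * (f * g) = dd n A ^ N) :
    ∃ (a : Aˣ) (i : ℕ), f = MvPolynomial.C (a : A) * dd n A ^ i := by
  have hP := fun (p : Ideal A) (hp : p.IsPrime) => @prime_analysis n A _ hn f g s N h p hp
  -- orthogonality
  have horth : ∀ j j' : ℕ, j ≠ j' → cf A j f * cf A j' f = 0 := by
    intro j j' hjj
    apply eq_zero_of_forall_prime
    intro p hp
    obtain ⟨i, -, hi, -⟩ := hP p hp
    by_cases hj : j = i
    · have : j' ≠ i := fun h' => hjj (hj.trans h'.symm)
      exact p.mul_mem_left _ (hi j' this)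
    · exact p.mul_mem_right _ (hi j hj)
  set D := (σ n A f).natDegree with hD
  have hzero : ∀ j, j ∉ Finset.range (D + 1) → cf A j f = 0 := by
    intro j hj
    rw [Finset.mem_range, not_lt] at hj
    exact Polynomial.coeff_eq_zero_of_natDegree_lt (by omega)
  set tot := ∑ j ∈ Finset.range (D + 1), cf A j f with htot
  have hunit : IsUnit tot := by
    by_contra hnu
    obtain ⟨p, hpmax, hp⟩ := exists_max_ideal_of_mem_nonunits hnu
    obtain ⟨i, hi1, hi2, -⟩ := hP p hpmax.isPrime
    have hi : i ∈ Finset.range (D + 1) := by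
      by_contra hi
      rw [hzero i hi] at hi1
      exact hi1 p.zero_mem
    apply hi1
    have h2 : cf A i f + ∑ j ∈ (Finset.range (D + 1)).erase i, cf A j f = tot :=
      Finset.add_sum_erase _ _ hi
    have h3 : ∑ j ∈ (Finset.range (D + 1)).erase i, cf A j f ∈ p :=
      p.sum_mem fun j hj => hi2 j (Finset.ne_of_mem_erase hj)
    have : cf A i f = tot - ∑ j ∈ (Finset.range (D + 1)).erase i, cf A j f := by
      rw [← h2]; ring
    rw [this]
    exact p.sub_mem hp h3
  obtain ⟨tu, htu⟩ := hunit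
  let e : ℕ → A := fun j => cf A j f * ((tu⁻¹ : Aˣ) : A)
  have he_orth : ∀ j j', j ≠ j' → e j * e j' = 0 := by
    intro j j' hjj
    change cf A j f * _ * (cf A j' f * _) = 0
    rw [mul_mul_mul_comm, horth j j' hjj, zero_mul]
  have he_sum : ∑ j ∈ Finset.range (D + 1), e j = 1 := by
    rw [← Finset.sum_mul, ← htot, ← htu, Units.mul_inv]
  have he_zero : ∀ j, j ∉ Finset.range (D + 1) → e j = 0 := by
    intro j hj
    change cf A j f * _ = 0
    rw [hzero j hj, zero_mul]
  have he_idem : ∀ j, IsIdempotentElem (e j) := by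
    intro j
    by_cases hj : j ∈ Finset.range (D + 1)
    · change e j * e j = e j
      have : e j = e j * ∑ j' ∈ Finset.range (D + 1), e j' := by rw [he_sum, mul_one]
      conv_rhs => rw [this]
      rw [Finset.mul_sum, Finset.sum_eq_single j]
      · intro b _ hb
        exact he_orth j b (Ne.symm hb)
      · intro h'
        exact absurd hj h'
    · rw [he_zero j hj]
      exact IsIdempotentElem.zero
  obtain ⟨i₀, hi₀, hne⟩ : ∃ i ∈ Finset.range (D + 1), e i ≠ 0 := by
    apply Finset.exists_ne_zero_of_sum_ne_zero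
    rw [he_sum]
    exact one_ne_zero
  have hone : e i₀ = 1 := (hconn _ (he_idem i₀)).resolve_left hne
  have he_other : ∀ j, j ≠ i₀ → e j = 0 := by
    intro j hj
    have := he_orth j i₀ hj
    rwa [hone, mul_one] at this
  have hcf_other : ∀ j, j ≠ i₀ → cf A j f = 0 := by
    intro j hj
    have := he_other j hj
    change cf A j f * _ = 0 at this
    have h2 := congrArg (· * (tu : A)) this
    simp only [mul_assoc, Units.inv_mul, mul_one, zero_mul] at h2
    exact h2
  have hcf_i₀ : cf A i₀ f = tu := by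
    change cf A i₀ f * _ = 1 at hone
    have h2 := congrArg (· * (tu : A)) hone
    simp only [mul_assoc, Units.inv_mul, mul_one, one_mul] at h2
    exact h2
  refine ⟨tu, i₀, ?_⟩
  rw [← sub_eq_zero]
  ext m
  rw [MvPolynomial.coeff_zero]
  apply eq_zero_of_forall_prime
  intro p hp
  obtain ⟨i, hi1, -, hi3⟩ := hP p hp
  have : i = i₀ := by
    by_contra hne'
    rw [hcf_other i hne'] at hi1
    exact hi1 p.zero_mem
  subst this
  rw [← hcf_i₀]
  exact hi3 m

/-- surjectivity of `(a, e) ↦ a det^e` for a reduced connected ring -/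
lemma Φ_surjective [IsReduced A] [Nontrivial A]
    (hconn : ∀ e : A, IsIdempotentElem e → e = 0 ∨ e = 1) (hn : 0 < n) :
    Function.Surjective (Φ n A) := by
  intro u
  obtain ⟨m, f, hf⟩ := IsLocalization.Away.surj (dd n A) (u : LL n A)
  obtain ⟨l, g, hg⟩ := IsLocalization.Away.surj (dd n A) ((u⁻¹ : (LL n A)ˣ) : LL n A)
  have h1 : algebraMap _ (LL n A) (f * g) = algebraMap _ (LL n A) (dd n A ^ (m + l)) := by
    rw [map_mul, ← hf, ← hg, map_pow, pow_add]
    have : (u : LL n A) * ((u⁻¹ : (LL n A)ˣ) : LL n A) = 1 := Units.mul_inv u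
    calc (u : LL n A) * algebraMap _ _ (dd n A) ^ m * (((u⁻¹ : (LL n A)ˣ) : LL n A) * algebraMap _ _ (dd n A) ^ l)
        = ((u : LL n A) * ((u⁻¹ : (LL n A)ˣ) : LL n A)) * (algebraMap _ _ (dd n A) ^ m * algebraMap _ _ (dd n A) ^ l) := by ring
      _ = _ := by rw [this, one_mul]
  obtain ⟨⟨c, s, hs⟩, hc⟩ := IsLocalization.exists_of_eq (M := Submonoid.powers (dd n A)) h1
  change c * (f * g) = c * dd n A ^ (m + l) at hc
  have hs' : c = dd n A ^ s := hs.symm
  rw [hs', ← pow_add] at hc
  obtain ⟨a, i, hfa⟩ := eq_C_mul_pow A hconn hn f g s (s + (m + l)) hc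
  refine ⟨(a, (i : ℤ) - (m : ℤ)), ?_⟩
  have h2 : u * du n A ^ m = Units.map (algebraMap A (LL n A)).toMonoidHom a * du n A ^ i := by
    apply Units.ext
    rw [Units.val_mul, Units.val_mul, Units.val_pow_eq_pow_val, Units.val_pow_eq_pow_val]
    change (u : LL n A) * algebraMap _ _ (dd n A) ^ m = algebraMap A (LL n A) (a : A) * algebraMap _ _ (dd n A) ^ i
    rw [hf, hfa, map_mul, map_pow]
    rfl
  rw [Φ]
  change _ * du n A ^ ((i : ℤ) - (m : ℤ)) = u
  rw [zpow_sub, zpow_natCast, zpow_natCast, ← mul_assoc, ← h2, mul_assoc, mul_inv_cancel, mul_one]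

/-- the main theorem -/
theorem main [Nontrivial A] (hconn : ∀ e : A, IsIdempotentElem e → e = 0 ∨ e = 1) (hn : 0 < n) :
    Function.Bijective (Φ n A) ↔ IsReduced A := by
  constructor
  · intro hb
    by_contra hr
    exact not_surjective_of_not_isReduced n A hn hr hb.2
  · intro hr
    exact ⟨Φ_injective n A hn, Φ_surjective A hconn hn⟩

end Groth.Agent.Helper7.GLnUnit
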