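import Mathlib
import Groth.Prelude.Def_Grpd
import Groth.Prelude.Def_QuotSh
import Groth.Agent.Helper7.GQ9
import Groth.Agent.Helper2.QuotIff

set_option autoImplicit false
universe u

namespace Groth.Agent.Helper7.GQ10

open CategoryTheory CategoryTheory.Limits AlgebraicGeometry Grpd
open Groth.Agent.Helper7.GQ8 Groth.Agent.Helper8

variable {S : Scheme.{u}} (G : Grpd.GroupoidScheme S)
variable [IsAffine G.U] [IsAffine G.R]
  [IsFinite G.s] [Flat G.s] [LocallyOfFinitePresentation G.s]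
  [IsFinite G.t] [Flat G.t] [LocallyOfFinitePresentation G.t] [Mono G.j]

instance : IsFinite G.toQuot := (GQ8.main G).1.1
instance : Flat G.toQuot := (GQ8.main G).1.2.1
instance : LocallyOfFinitePresentation G.toQuot := (GQ8.main G).1.2.2
instance : Surjective G.toQuot := ⟨GrpdQuot.toQuot_surjective G⟩

/-- a morphism out of `U` equalising `s` and `t` kills the kernel pair of `U → M` -/
lemma comp_eq_of_toQuot_eq {W : Scheme.{u}} (f : G.U ⟶ W) (hf : G.t ≫ f = G.s ≫ f)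
    {Z : Scheme.{u}} (g₁ g₂ : Z ⟶ G.U) (h : g₁ ≫ G.toQuot = g₂ ≫ G.toQuot) :
    g₁ ≫ f = g₂ ≫ f := by
  have hpb := isPullback_toQuot G
  have h1 : hpb.lift g₁ g₂ h ≫ G.t = g₁ := hpb.lift_fst _ _ _
  have h2 : hpb.lift g₁ g₂ h ≫ G.s = g₂ := hpb.lift_snd _ _ _
  calc g₁ ≫ f = (hpb.lift g₁ g₂ h ≫ G.t) ≫ f := by rw [h1]
    _ = (hpb.lift g₁ g₂ h ≫ G.s) ≫ f := by rw [Category.assoc, hf, Category.assoc]
    _ = g₂ ≫ f := by rw [h2]

/-- `U → M` is a coequalizer of `(t, s)` in the category of schemes -/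
noncomputable def descQuot {W : Scheme.{u}} (f : G.U ⟶ W) (hf : G.t ≫ f = G.s ≫ f) :
    Spec (CommRingCat.of G.invariants) ⟶ W :=
  EffectiveEpi.desc G.toQuot f fun g₁ g₂ h => comp_eq_of_toQuot_eq G f hf g₁ g₂ h

lemma toQuot_descQuot {W : Scheme.{u}} (f : G.U ⟶ W) (hf : G.t ≫ f = G.s ≫ f) :
    G.toQuot ≫ descQuot G f hf = f :=
  EffectiveEpi.fac _ _ _

theorem isQuotient (m : Spec (CommRingCat.of G.invariants) ⟶ S) (h : G.toQuot ≫ m = G.pU) :
    QuotSh.IsQuotient Scheme.fppfPrecoverage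
      (Over.homMk G.s G.s_over : Over.mk G.pR ⟶ Over.mk G.pU)
      (Over.homMk G.t G.t_over : Over.mk G.pR ⟶ Over.mk G.pU)
      (Over.homMk G.toQuot h : Over.mk G.pU ⟶ Over.mk m) := by
  apply Groth.Agent.Helper2.QuotIff.isQuotient_of_kernelPair
  · apply IsPullback.of_map_of_faithful (Over.forget S)
    exact (isPullback_toQuot G).flip
  · apply Groth.Agent.Helper2.QuotIff.epi_of_singleton_mem
    intro T w
    change Presieve.singleton (pullback.fst w.left G.toQuot) ∈ _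
    exact (pullback.fst w.left G.toQuot).singleton_mem_fppfPrecoverage

theorem main : ∃! m : Spec (CommRingCat.of G.invariants) ⟶ S, ∃ h : G.toQuot ≫ m = G.pU,
    QuotSh.IsQuotient Scheme.fppfPrecoverage
      (Over.homMk G.s G.s_over : Over.mk G.pR ⟶ Over.mk G.pU)
      (Over.homMk G.t G.t_over : Over.mk G.pR ⟶ Over.mk G.pU)
      (Over.homMk G.toQuot h : Over.mk G.pU ⟶ Over.mk m) := by
  have hf : G.t ≫ G.pU = G.s ≫ G.pU := G.t_over.trans G.s_over.symm
  refine ⟨descQuot G G.pU hf, ⟨toQuot_descQuot G G.pU hf, isQuotient G _ _⟩, ?_⟩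
  rintro m' ⟨h', -⟩
  rw [← cancel_epi G.toQuot, h', toQuot_descQuot]

end Groth.Agent.Helper7.GQ10
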