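import Mathlib

set_option autoImplicit false
universe u v

namespace Groth.Agent.Helper7.GRa

open DirectSum

variable {A : Type u} [CommRing A] (𝒜 : ℤ → AddSubgroup A) [GradedRing 𝒜]
variable {R' : Type v} [CommRing R'] (ψ : A →+* R') (ϖ : R')
variable (T : Finset A) (dT : A → ℕ)

theorem dvd_of_mem
    (hT : Ideal.span {a : A | ∃ d : ℤ, 0 < d ∧ a ∈ 𝒜 d} = Ideal.span (T : Set A))
    (hdpos : ∀ t ∈ T, 0 < dT t) (hdeg : ∀ t ∈ T, t ∈ 𝒜 (dT t : ℤ))
    (hdvd : ∀ t ∈ T, ϖ ^ dT t ∣ ψ t) :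
    ∀ d : ℕ, 0 < d → ∀ a ∈ 𝒜 (d : ℤ), ϖ ^ d ∣ ψ a := by
  intro d
  induction d using Nat.strong_induction_on with
  | _ d ih =>
    intro hd a ha
    have h1 : a ∈ Ideal.span (T : Set A) := by
      rw [← hT]
      apply Ideal.subset_span
      exact ⟨d, by exact_mod_cast hd, ha⟩
    obtain ⟨c, -, hc⟩ := Submodule.mem_span_finset.mp h1
    have h2 : a = ∑ t ∈ T, ((decompose 𝒜 (c t) ((d : ℤ) - (dT t : ℤ)) : 𝒜 _) : A) * t := by
      have h3 : GradedRing.proj 𝒜 (d : ℤ) a = a := by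
        rw [GradedRing.proj_apply]
        exact decompose_of_mem_same 𝒜 ha
      rw [← h3, ← hc, map_sum]
      apply Finset.sum_congr rfl
      intro t ht
      rw [GradedRing.proj_apply, smul_eq_mul]
      have h4 : (d : ℤ) = ((d : ℤ) - (dT t : ℤ)) + (dT t : ℤ) := by ring
      conv_lhs => rw [h4]
      exact coe_decompose_mul_add_of_right_mem 𝒜 (hdeg t ht)
    rw [h2, map_sum]
    apply Finset.dvd_sum
    intro t ht
    rw [map_mul]
    by_cases hlt : dT t < d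
    · have h5 : (d : ℤ) - (dT t : ℤ) = ((d - dT t : ℕ) : ℤ) := by
        rw [Nat.cast_sub hlt.le]
      have h6 : ((decompose 𝒜 (c t) ((d : ℤ) - (dT t : ℤ)) : 𝒜 _) : A) ∈ 𝒜 ((d - dT t : ℕ) : ℤ) := by
        rw [← h5]
        exact SetLike.coe_mem _
      have h7 := ih (d - dT t) (by have := hdpos t ht; omega) (by omega) _ h6
      have h8 : ϖ ^ d = ϖ ^ (d - dT t) * ϖ ^ dT t := by
        rw [← pow_add, Nat.sub_add_cancel hlt.le]
      rw [h8]
      exact mul_dvd_mul h7 (hdvd t ht)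
    · have h5 : ϖ ^ d ∣ ϖ ^ dT t := pow_dvd_pow _ (by omega)
      exact Dvd.dvd.mul_left (h5.trans (hdvd t ht)) _

end Groth.Agent.Helper7.GRa
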