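import Mathlib
import Groth.Agent.Helper7.GRa

set_option autoImplicit false
set_option linter.unusedSectionVars false
universe u v

namespace Groth.Agent.Helper7.GRb

open DirectSum Groth.Agent.Helper7

variable {A : Type u} [CommRing A] (𝒜 : ℤ → AddSubgroup A) [GradedRing 𝒜]
variable {R' : Type v} [CommRing R'] [IsDomain R'] (ψ : A →+* R') (ϖ : R')
variable (K' : Type v) [Field K'] [Algebra R' K'] [IsFractionRing R' K']

/-- the degree-`d` piece of the rescaled map -/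
noncomputable def fd (d : ℤ) : 𝒜 d →+ K' :=
  (AddMonoidHom.mulRight ((algebraMap R' K' ϖ) ^ (-d))).comp
    (((algebraMap R' K').comp ψ).toAddMonoidHom.comp (𝒜 d).subtype)

omit [GradedRing 𝒜] [IsDomain R'] [IsFractionRing R' K'] in
theorem fd_apply (d : ℤ) (a : 𝒜 d) :
    fd 𝒜 ψ ϖ K' d a = algebraMap R' K' (ψ a) * (algebraMap R' K' ϖ) ^ (-d) := rfl

/-- the rescaled map to the fraction field -/
noncomputable def G (hϖ : ϖ ≠ 0) : A →+* K' :=
  (DirectSum.toSemiring (fd 𝒜 ψ ϖ K')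
    (by
      rw [fd_apply]
      simp [SetLike.coe_gOne])
    (by
      intro i j ai aj
      rw [fd_apply, fd_apply, fd_apply, SetLike.coe_gMul, map_mul, map_mul, neg_add,
        zpow_add₀ ((map_ne_zero_iff _ (IsFractionRing.injective R' K')).mpr hϖ)]
      ring)).comp (decomposeRingEquiv 𝒜).toRingHom

theorem G_of_mem (hϖ : ϖ ≠ 0) (d : ℤ) (a : A) (ha : a ∈ 𝒜 d) :
    G 𝒜 ψ ϖ K' hϖ a = algebraMap R' K' (ψ a) * (algebraMap R' K' ϖ) ^ (-d) := by
  unfold G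
  rw [RingHom.comp_apply]
  change (DirectSum.toSemiring (fd 𝒜 ψ ϖ K') _ _) (decompose 𝒜 a) = _
  rw [decompose_of_mem 𝒜 ha, toSemiring_of, fd_apply]

theorem G_mem_range (hϖ : ϖ ≠ 0)
    (hdvd : ∀ d : ℕ, 0 < d → ∀ a ∈ 𝒜 (d : ℤ), ϖ ^ d ∣ ψ a) (a : A) :
    G 𝒜 ψ ϖ K' hϖ a ∈ (algebraMap R' K').range := by
  have hϖ' : algebraMap R' K' ϖ ≠ 0 := (map_ne_zero_iff _ (IsFractionRing.injective R' K')).mpr hϖ
  induction a using DirectSum.Decomposition.inductionOn 𝒜 with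
  | zero => rw [map_zero]; exact Subring.zero_mem _
  | add x y hx hy => rw [map_add]; exact Subring.add_mem _ hx hy
  | homogeneous m =>
    rename_i d
    rw [G_of_mem 𝒜 ψ ϖ K' hϖ d m m.2]
    rcases le_or_gt d 0 with hd | hd
    · obtain ⟨n, hn⟩ : ∃ n : ℕ, -d = (n : ℤ) := ⟨(-d).toNat, by omega⟩
      rw [hn, zpow_natCast, ← map_pow, ← map_mul]
      exact ⟨_, rfl⟩
    · obtain ⟨n, hn⟩ : ∃ n : ℕ, d = (n : ℤ) := ⟨d.toNat, by omega⟩
      have hn0 : 0 < n := by omega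
      have hm : (m : A) ∈ 𝒜 (n : ℤ) := hn ▸ m.2
      obtain ⟨q, hq⟩ := hdvd n hn0 m hm
      refine ⟨q, ?_⟩
      rw [hq, map_mul, map_pow, hn, zpow_neg, zpow_natCast]
      field_simp

theorem exists_g (hϖ : ϖ ≠ 0)
    (hdvd : ∀ d : ℕ, 0 < d → ∀ a ∈ 𝒜 (d : ℤ), ϖ ^ d ∣ ψ a) :
    ∃ g : A →+* R', ∀ (d : ℤ) (a : A), a ∈ 𝒜 d →
      algebraMap R' K' (g a) * algebraMap R' K' ϖ ^ d = algebraMap R' K' (ψ a) := by
  have hϖ' : algebraMap R' K' ϖ ≠ 0 := (map_ne_zero_iff _ (IsFractionRing.injective R' K')).mpr hϖ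
  let e : R' ≃+* (algebraMap R' K').range :=
    RingEquiv.ofBijective (algebraMap R' K').rangeRestrict
      ⟨fun x y hxy => IsFractionRing.injective R' K' (congrArg Subtype.val hxy),
        (algebraMap R' K').rangeRestrict_surjective⟩
  let g : A →+* R' := e.symm.toRingHom.comp
    ((G 𝒜 ψ ϖ K' hϖ).codRestrict (algebraMap R' K').range (G_mem_range 𝒜 ψ ϖ K' hϖ hdvd))
  have hg : ∀ a, algebraMap R' K' (g a) = G 𝒜 ψ ϖ K' hϖ a := by
    intro a
    have h1 : e (g a) = (G 𝒜 ψ ϖ K' hϖ).codRestrict (algebraMap R' K').range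
        (G_mem_range 𝒜 ψ ϖ K' hϖ hdvd) a := by
      simp only [g, RingHom.comp_apply, RingEquiv.toRingHom_eq_coe, RingHom.coe_coe,
        RingEquiv.apply_symm_apply]
    have h2 := congrArg Subtype.val h1
    exact h2
  refine ⟨g, ?_⟩
  intro d a ha
  rw [hg, G_of_mem 𝒜 ψ ϖ K' hϖ d a ha, mul_assoc, ← zpow_add₀ hϖ', neg_add_cancel, zpow_zero, mul_one]

end Groth.Agent.Helper7.GRb
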