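import Mathlib
import Groth.Agent.Helper7.Eis1

set_option autoImplicit false
set_option linter.unusedSectionVars false
universe u v

namespace Groth.Agent.Helper7.GRc

open Groth.Agent.Helper7

variable {A : Type u} [CommRing A]
variable (R : Type v) [CommRing R] [IsDomain R] [IsDiscreteValuationRing R]
variable (π : R) (hπ : Irreducible π) (φ : A →+* R) (T : Finset A) (dT : A → ℕ)

include hπ in
theorem exists_k (b : ℕ) (hbpos : 0 < b) (hbdvd : ∀ t ∈ T, dT t ∣ b)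
    (hdpos : ∀ t ∈ T, 0 < dT t)
    (hmem : ∀ t ∈ T, φ t ∈ IsLocalRing.maximalIdeal R)
    (hne : ∃ t ∈ T, φ t ≠ 0) :
    ∃ k : ℕ, 0 < k ∧
      (∀ t ∈ T, (Eis.x R π b ^ k) ^ dT t ∣
        AdjoinRoot.of (Eis.f R π b) (φ t)) ∧
      ∃ t₀ ∈ T, ∃ u : (AdjoinRoot (Eis.f R π b))ˣ,
        AdjoinRoot.of (Eis.f R π b) (φ t₀) =
          u * (Eis.x R π b ^ k) ^ dT t₀ := by
  classical
  -- valuations
  have hval : ∀ t : A, ∃ n : ℕ, φ t ≠ 0 → ∃ u : Rˣ, φ t = u * π ^ n := by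
    intro t
    by_cases h0 : φ t = 0
    · exact ⟨0, fun h => absurd h0 h⟩
    · obtain ⟨n, u, hu⟩ := IsDiscreteValuationRing.eq_unit_mul_pow_irreducible h0 hπ
      exact ⟨n, fun _ => ⟨u, hu⟩⟩
  choose v hv using hval
  have hvpos : ∀ t ∈ T, φ t ≠ 0 → 0 < v t := by
    intro t ht h0
    obtain ⟨u, hu⟩ := hv t h0
    rcases Nat.eq_zero_or_pos (v t) with h | h
    · exfalso
      rw [h, pow_zero, mul_one] at hu
      have h1 := hmem t ht
      rw [hu] at h1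
      exact (IsLocalRing.mem_maximalIdeal _).mp h1 u.isUnit
    · exact h
  let kt : A → ℕ := fun t => (b / dT t) * v t
  have hkt : ∀ t ∈ T, kt t * dT t = b * v t := by
    intro t ht
    have hdvd : dT t ∣ b := hbdvd t ht
    simp only [kt]
    rw [mul_assoc, mul_comm (v t), ← mul_assoc, Nat.div_mul_cancel hdvd]
  have hof : ∀ t ∈ T, φ t ≠ 0 → ∃ u : (AdjoinRoot (Eis.f R π b))ˣ,
      AdjoinRoot.of (Eis.f R π b) (φ t) = u * (Eis.x R π b) ^ (kt t * dT t) := by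
    intro t ht h0
    obtain ⟨u, hu⟩ := hv t h0
    refine ⟨Units.map (AdjoinRoot.of (Eis.f R π b)).toMonoidHom u, ?_⟩
    rw [hkt t ht, pow_mul, Eis.x_pow, hu, map_mul, map_pow]
    rfl
  obtain ⟨t₁, ht₁, ht₁0⟩ := hne
  have hT' : (T.filter (fun t => φ t ≠ 0)).Nonempty := ⟨t₁, Finset.mem_filter.mpr ⟨ht₁, ht₁0⟩⟩
  obtain ⟨t₀, ht₀, hmin⟩ := Finset.exists_min_image (T.filter (fun t => φ t ≠ 0)) kt hT'
  rw [Finset.mem_filter] at ht₀
  refine ⟨kt t₀, ?_, ?_, t₀, ht₀.1, ?_⟩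
  · have hdvd : dT t₀ ∣ b := hbdvd t₀ ht₀.1
    have h1 : 0 < b / dT t₀ := Nat.div_pos (Nat.le_of_dvd hbpos hdvd) (hdpos t₀ ht₀.1)
    exact Nat.mul_pos h1 (hvpos t₀ ht₀.1 ht₀.2)
  · intro t ht
    by_cases h0 : φ t = 0
    · rw [h0, map_zero]; exact dvd_zero _
    · obtain ⟨u, hu⟩ := hof t ht h0
      rw [hu, ← pow_mul]
      apply Dvd.dvd.mul_left
      apply pow_dvd_pow
      exact Nat.mul_le_mul_right _ (hmin t (Finset.mem_filter.mpr ⟨ht, h0⟩))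
  · obtain ⟨u, hu⟩ := hof t₀ ht₀.1 ht₀.2
    exact ⟨u, by rw [hu, ← pow_mul]⟩

end Groth.Agent.Helper7.GRc
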