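import Mathlib
import Groth.Agent.Helper7.GRa
import Groth.Agent.Helper7.GRb
import Groth.Agent.Helper7.GRc

set_option autoImplicit false
set_option linter.unusedSectionVars false
set_option linter.style.haveILetI false
universe u v

namespace Groth.Agent.Helper7.GRd

open Groth.Agent.Helper7 nonZeroDivisors

theorem main {A : Type u} [CommRing A] (𝒜 : ℤ → AddSubgroup A) [GradedRing 𝒜]
    (hfg : (Ideal.span {a : A | ∃ d : ℤ, 0 < d ∧ a ∈ 𝒜 d}).FG)
    (R : Type v) [CommRing R] [IsDomain R] [IsDiscreteValuationRing R]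
    (K : Type v) [Field K] [Algebra R K] [IsFractionRing R K]
    (φ : A →+* R)
    (hle : Ideal.map φ (Ideal.span {a : A | ∃ d : ℤ, 0 < d ∧ a ∈ 𝒜 d}) ≤ IsLocalRing.maximalIdeal R)
    (hne : Ideal.map φ (Ideal.span {a : A | ∃ d : ℤ, 0 < d ∧ a ∈ 𝒜 d}) ≠ ⊥) :
    ∃ (R' : Type v) (_ : CommRing R') (_ : IsDomain R') (_ : IsDiscreteValuationRing R')
      (K' : Type v) (_ : Field K') (_ : Algebra R' K') (_ : IsFractionRing R' K')
      (_ : Algebra R R') (_ : Algebra K K') (_ : Algebra R K')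
      (_ : IsScalarTower R R' K') (_ : IsScalarTower R K K')
      (_ : Module.Finite K K') (_ : IsLocalHom (algebraMap R R'))
      (ϖ : R') (g : A →+* R'),
      ϖ ≠ 0 ∧ ϖ ∈ IsLocalRing.maximalIdeal R' ∧
      (∀ (d : ℤ) (a : A), a ∈ 𝒜 d →
        algebraMap R' K' (g a) * algebraMap R' K' ϖ ^ d = algebraMap R K' (φ a)) ∧
      Ideal.map g (Ideal.span {a : A | ∃ d : ℤ, 0 < d ∧ a ∈ 𝒜 d}) = ⊤ := by
  classical
  -- Step 1: finite generating set
  obtain ⟨T, hTs, hT⟩ := (Submodule.fg_span_iff_fg_span_finset_subset _).mp hfg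
  have hdeg0 : ∀ t : A, ∃ n : ℕ, t ∈ T → (0 < n ∧ t ∈ 𝒜 (n : ℤ)) := by
    intro t
    by_cases ht : t ∈ T
    · obtain ⟨d, hd, htd⟩ := hTs ht
      refine ⟨d.toNat, fun _ => ⟨by omega, ?_⟩⟩
      rwa [Int.toNat_of_nonneg hd.le]
    · exact ⟨0, fun h => absurd h ht⟩
  choose dT hdT using hdeg0
  have hdpos : ∀ t ∈ T, 0 < dT t := fun t ht => (hdT t ht).1
  have hdeg : ∀ t ∈ T, t ∈ 𝒜 (dT t : ℤ) := fun t ht => (hdT t ht).2
  have hT' : Ideal.span {a : A | ∃ d : ℤ, 0 < d ∧ a ∈ 𝒜 d} = Ideal.span (T : Set A) := hT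
  have hmem : ∀ t ∈ T, φ t ∈ IsLocalRing.maximalIdeal R := by
    intro t ht
    apply hle
    exact Ideal.mem_map_of_mem _ (Ideal.subset_span (hTs ht))
  have hne' : ∃ t ∈ T, φ t ≠ 0 := by
    by_contra hcon
    push Not at hcon
    apply hne
    rw [hT', Ideal.map_span, Ideal.span_eq_bot]
    rintro _ ⟨t, ht, rfl⟩
    exact hcon t ht
  obtain ⟨π, hπ⟩ := IsDiscreteValuationRing.exists_irreducible R
  obtain ⟨b, hbpos, hbdvd⟩ : ∃ b : ℕ, 0 < b ∧ ∀ t ∈ T, dT t ∣ b :=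
    ⟨∏ t ∈ T, dT t, Finset.prod_pos hdpos, fun t ht => Finset.dvd_prod_of_mem dT ht⟩
  obtain ⟨k, hk, hdvdT, t₀, ht₀, u, hu⟩ :=
    GRc.exists_k R π hπ φ T dT b hbpos hbdvd hdpos hmem hne'
  -- the ring R'
  letI : IsDomain (AdjoinRoot (Eis.f R π b)) := Eis.isDomain R π hπ b hbpos
  letI : IsDiscreteValuationRing (AdjoinRoot (Eis.f R π b)) := Eis.isDVR R π hπ b hbpos
  obtain ⟨ϖ, hϖdef⟩ : ∃ ϖ : AdjoinRoot (Eis.f R π b), ϖ = Eis.x R π b ^ k := ⟨_, rfl⟩
  rw [← hϖdef] at hdvdT hu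
  have hϖ : ϖ ≠ 0 := hϖdef ▸ pow_ne_zero _ (Eis.x_ne_zero R π hπ b hbpos)
  let ψ : A →+* AdjoinRoot (Eis.f R π b) := (AdjoinRoot.of (Eis.f R π b)).comp φ
  have hdvd := GRa.dvd_of_mem 𝒜 ψ ϖ T dT hT' hdpos hdeg hdvdT
  obtain ⟨g, hg⟩ := GRb.exists_g 𝒜 ψ ϖ (FractionRing (AdjoinRoot (Eis.f R π b))) hϖ hdvd
  have hinjRR' : Function.Injective (algebraMap R (AdjoinRoot (Eis.f R π b))) :=
    Eis.of_injective R π hπ b hbpos
  have hinj : Function.Injective (algebraMap R (FractionRing (AdjoinRoot (Eis.f R π b)))) := by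
    rw [IsScalarTower.algebraMap_eq R (AdjoinRoot (Eis.f R π b))
      (FractionRing (AdjoinRoot (Eis.f R π b)))]
    exact (IsFractionRing.injective (AdjoinRoot (Eis.f R π b))
      (FractionRing (AdjoinRoot (Eis.f R π b)))).comp hinjRR'
  letI algKK' : Algebra K (FractionRing (AdjoinRoot (Eis.f R π b))) :=
    (IsFractionRing.lift hinj).toAlgebra
  haveI st2 : IsScalarTower R K (FractionRing (AdjoinRoot (Eis.f R π b))) :=
    IsScalarTower.of_algebraMap_eq (fun x => (IsFractionRing.lift_algebraMap hinj x).symm)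
  haveI : Module.Finite R (AdjoinRoot (Eis.f R π b)) := Eis.finite R π b hbpos
  haveI : FaithfulSMul R (AdjoinRoot (Eis.f R π b)) :=
    (faithfulSMul_iff_algebraMap_injective R _).mpr hinjRR'
  haveI fin : Module.Finite K (FractionRing (AdjoinRoot (Eis.f R π b))) :=
    Module.Finite.of_isLocalization R (AdjoinRoot (Eis.f R π b)) R⁰
  have hmax := Eis.maximalIdeal_eq R π hπ b hbpos
  have hloc : IsLocalHom (algebraMap R (AdjoinRoot (Eis.f R π b))) := by
    constructor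
    intro r hr
    by_contra hnu
    have h1 : r ∈ IsLocalRing.maximalIdeal R := (IsLocalRing.mem_maximalIdeal _).mpr hnu
    rw [hπ.maximalIdeal_eq] at h1
    have h2 := Eis.of_mem_span_x R π b hbpos r h1
    rw [← hmax] at h2
    exact (IsLocalRing.mem_maximalIdeal _).mp h2 hr
  refine ⟨AdjoinRoot (Eis.f R π b), inferInstance, inferInstance, inferInstance,
    FractionRing (AdjoinRoot (Eis.f R π b)), inferInstance, inferInstance, inferInstance,
    inferInstance, algKK', inferInstance, inferInstance, st2, fin, hloc, ϖ, g, hϖ, ?_, ?_, ?_⟩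
  · rw [hmax, hϖdef]
    obtain ⟨k', rfl⟩ : ∃ k', k = k' + 1 := ⟨k - 1, by omega⟩
    rw [pow_succ]
    exact Ideal.mul_mem_left _ _ (Ideal.mem_span_singleton_self _)
  · intro d a ha
    rw [hg d a ha]
    exact (IsScalarTower.algebraMap_apply R (AdjoinRoot (Eis.f R π b))
      (FractionRing (AdjoinRoot (Eis.f R π b))) (φ a)).symm
  · have h1 := hg (dT t₀ : ℤ) t₀ (hdeg t₀ ht₀)
    have h2 : ψ t₀ = u * ϖ ^ dT t₀ := hu
    rw [h2, zpow_natCast, map_mul, map_pow] at h1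
    have hϖ' : algebraMap (AdjoinRoot (Eis.f R π b)) (FractionRing (AdjoinRoot (Eis.f R π b))) ϖ ≠ 0 :=
      (map_ne_zero_iff _ (IsFractionRing.injective (AdjoinRoot (Eis.f R π b))
        (FractionRing (AdjoinRoot (Eis.f R π b))))).mpr hϖ
    have h3 := mul_right_cancel₀ (pow_ne_zero _ hϖ') h1
    have h4 : g t₀ = u := IsFractionRing.injective (AdjoinRoot (Eis.f R π b))
      (FractionRing (AdjoinRoot (Eis.f R π b))) h3
    apply Ideal.eq_top_of_isUnit_mem _ _ (h4 ▸ u.isUnit)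
    exact Ideal.mem_map_of_mem _ (Ideal.subset_span (hTs ht₀))

end Groth.Agent.Helper7.GRd
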