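import Mathlib
import Groth.Prelude
import Groth.Agent.Helper5.GmPts1
import Groth.Agent.Helper6.AffUnit

set_option autoImplicit false
set_option linter.unusedSectionVars false
universe u

open AlgebraicGeometry CategoryTheory CategoryTheory.Limits MonObj CartesianMonoidalCategory

namespace Groth.Agent.Helper7.GaGmTriv

open Groth.Agent.Helper5.GaPts Groth.Agent.Helper5.GmPts

variable (S : Scheme.{u})

/-- the map to Mathlib's affine line -/
noncomputable def toAff : (Red.Ga S).left ⟶ 𝔸(PUnit.{u+1}; S) :=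
  AffineSpace.homOfVector (Red.Ga S).hom (fun _ => Red.gaFn (𝟙 (Red.Ga S)))

lemma toAff_over : toAff S ≫ (𝔸(PUnit.{u+1}; S) ↘ S) = (Red.Ga S).hom :=
  AffineSpace.homOfVector_over _ _

/-- the map from Mathlib's affine line -/
noncomputable def ofAff : Over.mk (𝔸(PUnit.{u+1}; S) ↘ S) ⟶ Red.Ga S :=
  pt (X := Over.mk (𝔸(PUnit.{u+1}; S) ↘ S)) (AffineSpace.coord S PUnit.unit)

lemma toAff_ofAff : toAff S ≫ (ofAff S).left = 𝟙 _ := by
  have h : (Over.homMk (toAff S) (toAff_over S) : Red.Ga S ⟶ Over.mk (𝔸(PUnit.{u+1}; S) ↘ S)) ≫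
      ofAff S = 𝟙 (Red.Ga S) := by
    apply gaFn_injective
    rw [gaFn_comp, ofAff, gaFn_pt]
    exact AffineSpace.homOfVector_appTop_coord _ _ _
  have := congrArg (fun m => m.left) h
  exact this

/-- units on `𝔾_a` over a reduced base come from the base -/
theorem unit_Ga [IsReduced S] (w : Γ((Red.Ga S).left, ⊤)) (hw : IsUnit w) :
    ∃ v : Γ(S, ⊤), IsUnit v ∧ (Red.Ga S).hom.appTop v = w := by
  obtain ⟨v, hv, hvw⟩ := Groth.Agent.Helper6.AffUnit.main PUnit.{u+1} S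
    ((ofAff S).left.appTop w) (hw.map _)
  refine ⟨v, hv, ?_⟩
  have h1 : (toAff S).appTop ((ofAff S).left.appTop w) = w := by
    rw [← CommRingCat.comp_apply, ← Scheme.Hom.comp_appTop, toAff_ofAff]
    simp
  rw [← h1, ← hvw, ← CommRingCat.comp_apply, ← Scheme.Hom.comp_appTop, toAff_over]

theorem main [IsReduced S] (φ : Red.Ga S ⟶ Red.Gm S) [IsMonHom φ] : φ = 1 := by
  obtain ⟨v, hv, hvw⟩ := unit_Ga S (Red.gmFn φ) (isUnit_gmFn φ)
  apply gmFn_injective
  rw [Hom.one_def, gmFn_comp]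
  have h1 : η[Red.Ga S] ≫ φ = η[Red.Gm S] := IsMonHom.one_hom φ
  have h2 : Red.gmFn (η[Red.Ga S] ≫ φ) = v := by
    rw [gmFn_comp, ← hvw, ← CommRingCat.comp_apply, ← Scheme.Hom.comp_appTop]
    have : (η[Red.Ga S]).left ≫ (Red.Ga S).hom = 𝟙 S := Over.w (η[Red.Ga S])
    rw [this]
    simp
  rw [h1] at h2
  rw [h2, ← hvw]
  rfl

end Groth.Agent.Helper7.GaGmTriv
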