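import Mathlib
import Groth.Prelude.Def_W4c1stackycurvesGalP1

/-!
# Sharp 3-transitivity of `GL₂` on the projective line
-/

namespace Groth.Agent.Helper7.Gal3a

open Matrix Projectivization

variable {K : Type*} [Field K]

/-- action of an invertible matrix on a point of the projective line -/
noncomputable def act (g : GL (Fin 2) K) (x : Projectivization K (Fin 2 → K)) :
    Projectivization K (Fin 2 → K) :=
  (Matrix.GeneralLinearGroup.toLin g) • x

theorem mulVec_ne_zero (g : GL (Fin 2) K) {v : Fin 2 → K} (hv : v ≠ 0) : g.1 *ᵥ v ≠ 0 := by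
  intro h
  apply hv
  have := congrArg (fun w => (g⁻¹).1 *ᵥ w) h
  simp only [Matrix.mulVec_mulVec, Matrix.mulVec_zero] at this
  rwa [← Units.val_mul, inv_mul_cancel, Units.val_one, Matrix.one_mulVec] at this

theorem act_mk (g : GL (Fin 2) K) (v : Fin 2 → K) (hv : v ≠ 0) :
    act g (mk K v hv) = mk K (g.1 *ᵥ v) (mulVec_ne_zero g hv) := by
  rw [act, Projectivization.smul_mk]
  rfl

theorem act_one (x : Projectivization K (Fin 2 → K)) : act 1 x = x := by
  rw [act, map_one, one_smul]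

theorem act_mul (g h : GL (Fin 2) K) (x : Projectivization K (Fin 2 → K)) :
    act (g * h) x = act g (act h x) := by
  rw [act, map_mul, mul_smul]; rfl

theorem act_inv_act (g : GL (Fin 2) K) (x : Projectivization K (Fin 2 → K)) :
    act g⁻¹ (act g x) = x := by
  rw [← act_mul, inv_mul_cancel, act_one]

theorem span_pair_eq_top {v1 v2 : Fin 2 → K} (hli : LinearIndependent K ![v1, v2]) :
    Submodule.span K (Set.range ![v1, v2]) = ⊤ :=
  hli.span_eq_top_of_card_eq_finrank' (by simp)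

/-- a matrix with three eigenvectors in general position is scalar -/
theorem scalar_of_three (T : Matrix (Fin 2) (Fin 2) K) (v1 v2 : Fin 2 → K)
    (hli : LinearIndependent K ![v1, v2]) (a b : K) (ha : a ≠ 0) (hb : b ≠ 0) (l1 l2 l3 : K)
    (h1 : T *ᵥ v1 = l1 • v1) (h2 : T *ᵥ v2 = l2 • v2)
    (h3 : T *ᵥ (a • v1 + b • v2) = l3 • (a • v1 + b • v2)) : T = l3 • (1 : Matrix (Fin 2) (Fin 2) K) := by
  have h4 : (a * l1 - l3 * a) • v1 + (b * l2 - l3 * b) • v2 = 0 := by
    rw [Matrix.mulVec_add, Matrix.mulVec_smul, Matrix.mulVec_smul, h1, h2] at h3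
    rw [sub_smul, sub_smul, mul_smul, mul_smul, mul_smul, mul_smul]
    rw [smul_add] at h3
    rw [← sub_eq_zero] at h3
    rw [← h3]; abel
  have h5 := LinearIndependent.pair_iff.mp hli _ _ h4
  have e1 : l1 = l3 := by
    have := h5.1
    have h : a * (l1 - l3) = 0 := by rw [← this]; ring
    rcases mul_eq_zero.mp h with h | h
    · exact absurd h ha
    · exact sub_eq_zero.mp h
  have e2 : l2 = l3 := by
    have := h5.2
    have h : b * (l2 - l3) = 0 := by rw [← this]; ring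
    rcases mul_eq_zero.mp h with h | h
    · exact absurd h hb
    · exact sub_eq_zero.mp h
  rw [e1] at h1
  rw [e2] at h2
  have hlin : T.mulVecLin = (l3 • (1 : Matrix (Fin 2) (Fin 2) K)).mulVecLin := by
    apply LinearMap.ext_on (span_pair_eq_top hli)
    rintro _ ⟨i, rfl⟩
    fin_cases i
    · simpa [Matrix.smul_mulVec] using h1
    · simpa [Matrix.smul_mulVec] using h2
  apply Matrix.mulVec_injective
  funext w
  exact LinearMap.congr_fun hlin w

theorem li_of_ne {v1 v2 : Fin 2 → K} (hv1 : v1 ≠ 0) (hv2 : v2 ≠ 0)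
    (h : mk K v1 hv1 ≠ mk K v2 hv2) : LinearIndependent K ![v1, v2] := by
  rw [← independent_mk_iff_LinearIndependent hv1 hv2, independent_pair_iff_ne]
  exact h

theorem li_smul {v1 v2 : Fin 2 → K} (h : LinearIndependent K ![v1, v2]) {a b : K} (ha : a ≠ 0)
    (hb : b ≠ 0) : LinearIndependent K ![a • v1, b • v2] := by
  rw [LinearIndependent.pair_iff] at h ⊢
  intro s t hst
  rw [smul_smul, smul_smul] at hst
  have := h _ _ hst
  exact ⟨(mul_eq_zero.mp this.1).resolve_right ha, (mul_eq_zero.mp this.2).resolve_right hb⟩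

/-- Three distinct points of the projective line are `[v₁], [v₂], [v₁ + v₂]` for a basis. -/
theorem exists_frame (x1 x2 x3 : Projectivization K (Fin 2 → K)) (h12 : x1 ≠ x2) (h13 : x1 ≠ x3)
    (h23 : x2 ≠ x3) :
    ∃ (v1 v2 : Fin 2 → K) (hv1 : v1 ≠ 0) (hv2 : v2 ≠ 0) (hv3 : v1 + v2 ≠ 0),
      LinearIndependent K ![v1, v2] ∧ x1 = mk K v1 hv1 ∧ x2 = mk K v2 hv2 ∧
        x3 = mk K (v1 + v2) hv3 := by
  induction x1 using Projectivization.ind with | h v1 hv1 => ?_
  induction x2 using Projectivization.ind with | h v2 hv2 => ?_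
  induction x3 using Projectivization.ind with | h v3 hv3 => ?_
  have hli := li_of_ne hv1 hv2 h12
  have hmem : v3 ∈ Submodule.span K (Set.range ![v1, v2]) := by
    rw [span_pair_eq_top hli]; trivial
  have hr : Set.range ![v1, v2] = {v1, v2} := by
    ext w; simp [eq_comm, or_comm]
  rw [hr, Submodule.mem_span_pair] at hmem
  obtain ⟨a, b, hab⟩ := hmem
  have ha : a ≠ 0 := by
    rintro rfl
    apply h23
    rw [mk_eq_mk_iff']
    refine ⟨b⁻¹, ?_⟩
    rw [← hab, zero_smul, zero_add, smul_smul, inv_mul_cancel₀, one_smul]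
    rintro rfl
    apply hv3
    rw [← hab, zero_smul, zero_smul, zero_add]
  have hb : b ≠ 0 := by
    rintro rfl
    apply h13
    rw [mk_eq_mk_iff']
    refine ⟨a⁻¹, ?_⟩
    rw [← hab, zero_smul, add_zero, smul_smul, inv_mul_cancel₀ ha, one_smul]
  have hav1 : a • v1 ≠ 0 := smul_ne_zero ha hv1
  have hbv2 : b • v2 ≠ 0 := smul_ne_zero hb hv2
  refine ⟨a • v1, b • v2, hav1, hbv2, by rw [hab]; exact hv3, li_smul hli ha hb, ?_, ?_, ?_⟩
  · rw [mk_eq_mk_iff']; exact ⟨a⁻¹, by rw [smul_smul, inv_mul_cancel₀ ha, one_smul]⟩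
  · rw [mk_eq_mk_iff']; exact ⟨b⁻¹, by rw [smul_smul, inv_mul_cancel₀ hb, one_smul]⟩
  · congr 1; exact hab.symm

/-- existence of a matrix with prescribed values on a basis -/
theorem exists_gl_of_bases {v1 v2 w1 w2 : Fin 2 → K} (hv : LinearIndependent K ![v1, v2])
    (hw : LinearIndependent K ![w1, w2]) :
    ∃ g : GL (Fin 2) K, g.1 *ᵥ v1 = w1 ∧ g.1 *ᵥ v2 = w2 := by
  have hc : Fintype.card (Fin 2) = Module.finrank K (Fin 2 → K) := by simp
  let Bv := basisOfLinearIndependentOfCardEqFinrank hv hc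
  let Bw := basisOfLinearIndependentOfCardEqFinrank hw hc
  let e : (Fin 2 → K) ≃ₗ[K] (Fin 2 → K) := Bv.equiv Bw (Equiv.refl _)
  let g : GL (Fin 2) K :=
    Matrix.GeneralLinearGroup.toLin.symm (LinearMap.GeneralLinearGroup.ofLinearEquiv e)
  have hg : ∀ v, g.1 *ᵥ v = e v := by
    intro v
    have h1 : Matrix.GeneralLinearGroup.toLin g = LinearMap.GeneralLinearGroup.ofLinearEquiv e :=
      MulEquiv.apply_symm_apply _ _
    have h2 := Matrix.GeneralLinearGroup.toLin_apply (A := g) v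
    rw [h1] at h2
    exact h2.symm
  refine ⟨g, ?_, ?_⟩
  · rw [hg]
    have : v1 = Bv 0 := by simp [Bv]
    rw [this, Module.Basis.equiv_apply]
    simp [Bw]
  · rw [hg]
    have : v2 = Bv 1 := by simp [Bv]
    rw [this, Module.Basis.equiv_apply]
    simp [Bw]

/-- **Existence**: `GL₂(K)` is 3-transitive on the projective line. -/
theorem exists_act_eq (x1 x2 x3 y1 y2 y3 : Projectivization K (Fin 2 → K))
    (h12 : x1 ≠ x2) (h13 : x1 ≠ x3) (h23 : x2 ≠ x3)
    (k12 : y1 ≠ y2) (k13 : y1 ≠ y3) (k23 : y2 ≠ y3) :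
    ∃ g : GL (Fin 2) K, act g x1 = y1 ∧ act g x2 = y2 ∧ act g x3 = y3 := by
  obtain ⟨v1, v2, hv1, hv2, hv3, hv, rfl, rfl, rfl⟩ := exists_frame x1 x2 x3 h12 h13 h23
  obtain ⟨w1, w2, hw1, hw2, hw3, hw, rfl, rfl, rfl⟩ := exists_frame y1 y2 y3 k12 k13 k23
  obtain ⟨g, hg1, hg2⟩ := exists_gl_of_bases hv hw
  refine ⟨g, ?_, ?_, ?_⟩
  · rw [act_mk]; congr 1
  · rw [act_mk]; congr 1
  · rw [act_mk]; congr 1
    rw [Matrix.mulVec_add, hg1, hg2]

/-- **Uniqueness** up to scalars. -/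
theorem eq_smul_of_act_eq (g h : GL (Fin 2) K) (x1 x2 x3 : Projectivization K (Fin 2 → K))
    (h12 : x1 ≠ x2) (h13 : x1 ≠ x3) (h23 : x2 ≠ x3)
    (e1 : act g x1 = act h x1) (e2 : act g x2 = act h x2) (e3 : act g x3 = act h x3) :
    ∃ c : K, g.1 = c • h.1 := by
  have f1 : act (h⁻¹ * g) x1 = x1 := by rw [act_mul, e1, act_inv_act]
  have f2 : act (h⁻¹ * g) x2 = x2 := by rw [act_mul, e2, act_inv_act]
  have f3 : act (h⁻¹ * g) x3 = x3 := by rw [act_mul, e3, act_inv_act]
  obtain ⟨v1, v2, hv1, hv2, hv3, hv, rfl, rfl, rfl⟩ := exists_frame x1 x2 x3 h12 h13 h23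
  rw [act_mk, mk_eq_mk_iff'] at f1 f2 f3
  obtain ⟨l1, hl1⟩ := f1
  obtain ⟨l2, hl2⟩ := f2
  obtain ⟨l3, hl3⟩ := f3
  have hT := scalar_of_three (h⁻¹ * g).1 v1 v2 hv 1 1 one_ne_zero one_ne_zero l1 l2 l3 hl1.symm
    hl2.symm (by rw [one_smul, one_smul]; exact hl3.symm)
  refine ⟨l3, ?_⟩
  have : g = h * (h⁻¹ * g) := by group
  rw [this, Units.val_mul, hT, Matrix.mul_smul, Matrix.mul_one]

end Groth.Agent.Helper7.Gal3a
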