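import Mathlib
import Groth.Prelude.Def_W4c1stackycurvesGalP1
import Groth.Agent.Helper7.Gal3a

/-!
# Galois descent of the frame map
-/

namespace Groth.Agent.Helper7.Gal3b

open Matrix Projectivization W4c1stackycurves Groth.Agent.Helper7.Gal3a

variable {k K : Type*} [Field k] [Field K] [Algebra k K]

/-- Galois action on invertible matrices -/
noncomputable def galM (σ : K ≃ₐ[k] K) (g : GL (Fin 2) K) : GL (Fin 2) K :=
  Matrix.GeneralLinearGroup.map (σ : K →+* K) g

theorem galM_val (σ : K ≃ₐ[k] K) (g : GL (Fin 2) K) : (galM σ g).1 = g.1.map σ := rfl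

theorem galP_mk (σ : K ≃ₐ[k] K) (v : Fin 2 → K) (hv : v ≠ 0) :
    galP σ (mk K v hv) = mk K (galVec σ (Fin 2) v)
      (fun h => hv (galVec_injective σ (Fin 2) (h.trans (map_zero _).symm))) := by
  rw [galP, Projectivization.map_mk]

theorem act_galM (σ : K ≃ₐ[k] K) (g : GL (Fin 2) K) (x : Projectivization K (Fin 2 → K)) :
    act (galM σ g) (galP σ x) = galP σ (act g x) := by
  induction x using Projectivization.ind with | h v hv => ?_
  rw [galP_mk, act_mk, act_mk, galP_mk]
  congr 1
  funext i
  rw [galM_val, galVec_apply]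
  have := RingHom.map_mulVec (σ : K →+* K) g.1 v i
  exact this.symm

omit [Field k] [Algebra k K] in
theorem act_eq_of_smul (g h : GL (Fin 2) K) (c : K) (hgh : g.1 = c • h.1)
    (x : Projectivization K (Fin 2 → K)) : act g x = act h x := by
  induction x using Projectivization.ind with | h v hv => ?_
  rw [act_mk, act_mk, mk_eq_mk_iff']
  exact ⟨c, by rw [hgh, Matrix.smul_mulVec]⟩

omit [Field k] [Algebra k K] in
theorem exists_entry_ne_zero (h : GL (Fin 2) K) : ∃ i j, h.1 i j ≠ 0 := by
  by_contra hcon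
  simp only [not_exists, not_not] at hcon
  have h0 : h.1 = 0 := by
    ext i j; exact hcon i j
  have := h.mul_inv
  rw [h0, zero_mul] at this
  exact zero_ne_one this

/-- **Galois descent of the frame map.** -/
theorem descent [FiniteDimensional k K] [IsGalois k K]
    (x y : Fin 3 → Projectivization K (Fin 2 → K)) (hx : Function.Injective x)
    (hy : Function.Injective y)
    (heq : ∀ σ : K ≃ₐ[k] K, ∃ π : Equiv.Perm (Fin 3),
      ∀ i, galP σ (x i) = x (π i) ∧ galP σ (y i) = y (π i)) :
    ∃ g : GL (Fin 2) k, ∀ i, act (Matrix.GeneralLinearGroup.map (algebraMap k K) g) (x i) = y i := by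
  have hx01 : x 0 ≠ x 1 := fun h => by have := hx h; simp at this
  have hx02 : x 0 ≠ x 2 := fun h => by have := hx h; simp at this
  have hx12 : x 1 ≠ x 2 := fun h => by have := hx h; simp at this
  have hy01 : y 0 ≠ y 1 := fun h => by have := hy h; simp at this
  have hy02 : y 0 ≠ y 2 := fun h => by have := hy h; simp at this
  have hy12 : y 1 ≠ y 2 := fun h => by have := hy h; simp at this
  obtain ⟨h, h0, h1, h2⟩ := exists_act_eq (x 0) (x 1) (x 2) (y 0) (y 1) (y 2) hx01 hx02 hx12
    hy01 hy02 hy12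
  obtain ⟨i, j, hij⟩ := exists_entry_ne_zero h
  -- normalise
  have hdet : ((h.1 i j)⁻¹ • h.1).det ≠ 0 := by
    rw [Matrix.det_smul]
    refine mul_ne_zero (pow_ne_zero _ (inv_ne_zero hij)) ?_
    exact (Matrix.isUnit_iff_isUnit_det _).mp ⟨h, rfl⟩ |>.ne_zero
  let h' : GL (Fin 2) K := Matrix.GeneralLinearGroup.mkOfDetNeZero ((h.1 i j)⁻¹ • h.1) hdet
  have hh'val : h'.1 = (h.1 i j)⁻¹ • h.1 := rfl
  have hh'ij : h'.1 i j = 1 := by
    rw [hh'val, Matrix.smul_apply, smul_eq_mul, inv_mul_cancel₀ hij]
  have hact : ∀ l, act h' (x l) = y l := by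
    intro l
    rw [act_eq_of_smul h' h _ hh'val]
    fin_cases l
    · exact h0
    · exact h1
    · exact h2
  -- Galois invariance
  have hinv : ∀ σ : K ≃ₐ[k] K, (galM σ h').1 = h'.1 := by
    intro σ
    obtain ⟨π, hπ⟩ := heq σ
    have hσ : ∀ l, act (galM σ h') (x l) = act h' (x l) := by
      intro l
      have hl : l = π (π.symm l) := (π.apply_symm_apply l).symm
      rw [hact l]
      conv_lhs => rw [hl, ← (hπ (π.symm l)).1, act_galM, hact, (hπ (π.symm l)).2, ← hl]
    obtain ⟨c, hc⟩ := eq_smul_of_act_eq (galM σ h') h' (x 0) (x 1) (x 2) hx01 hx02 hx12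
      (hσ 0) (hσ 1) (hσ 2)
    have hc1 : c = 1 := by
      have := congrFun (congrFun hc i) j
      rw [galM_val, Matrix.map_apply, hh'ij, Matrix.smul_apply, hh'ij, smul_eq_mul, mul_one,
        map_one] at this
      exact this.symm
    rw [hc, hc1, one_smul]
  have hfix : ∀ a b, h'.1 a b ∈ Set.range (algebraMap k K) := by
    intro a b
    rw [IsGalois.mem_range_algebraMap_iff_fixed]
    intro σ
    have := congrFun (congrFun (hinv σ) a) b
    rwa [galM_val, Matrix.map_apply] at this
  choose M hM using hfix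
  have hMmap : (Matrix.of M).map (algebraMap k K) = h'.1 := by
    ext a b
    rw [Matrix.map_apply, Matrix.of_apply, hM]
  have hMdet : (Matrix.of M).det ≠ 0 := by
    intro h0
    have := RingHom.map_det (algebraMap k K) (Matrix.of M)
    rw [h0, map_zero] at this
    have h1 : (algebraMap k K).mapMatrix (Matrix.of M) = h'.1 := hMmap
    rw [h1] at this
    exact hdet this.symm
  refine ⟨Matrix.GeneralLinearGroup.mkOfDetNeZero (Matrix.of M) hMdet, ?_⟩
  intro l
  have hg : Matrix.GeneralLinearGroup.map (algebraMap k K)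
      (Matrix.GeneralLinearGroup.mkOfDetNeZero (Matrix.of M) hMdet) = h' := by
    apply Units.ext
    exact hMmap
  rw [hg, hact]

end Groth.Agent.Helper7.Gal3b
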