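import Mathlib
import Groth.Prelude.Def_W4c1stackycurvesGalP1
import Groth.Agent.Helper7.Gal3b

/-!
# `GL₂(k)` exchanges Galois-equivariantly isomorphic point sets of size ≤ 3 on the projective line
-/

namespace Groth.Agent.Helper7.Gal3c

open Matrix Projectivization W4c1stackycurves Groth.Agent.Helper7.Gal3a Groth.Agent.Helper7.Gal3b

universe u

variable {k K : Type u} [Field k] [Field K] [Algebra k K]

section Rat

omit [Field k] [Algebra k K] in
theorem vec10_ne : (![1, 0] : Fin 2 → K) ≠ 0 := fun h => one_ne_zero (congrFun h 0)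
omit [Field k] [Algebra k K] in
theorem vec01_ne : (![0, 1] : Fin 2 → K) ≠ 0 := fun h => one_ne_zero (congrFun h 1)
omit [Field k] [Algebra k K] in
theorem vec11_ne : (![1, 1] : Fin 2 → K) ≠ 0 := fun h => one_ne_zero (congrFun h 0)

/-- three rational points -/
noncomputable def r0 (K : Type u) [Field K] : Projectivization K (Fin 2 → K) := mk K ![1, 0] vec10_ne
noncomputable def r1 (K : Type u) [Field K] : Projectivization K (Fin 2 → K) := mk K ![0, 1] vec01_ne
noncomputable def r2 (K : Type u) [Field K] : Projectivization K (Fin 2 → K) := mk K ![1, 1] vec11_ne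

omit [Field k] [Algebra k K] in
theorem r0_ne_r1 : r0 K ≠ r1 K := by
  rw [r0, r1, Ne, mk_eq_mk_iff']
  rintro ⟨a, ha⟩
  have := congrFun ha 0
  simp at this

omit [Field k] [Algebra k K] in
theorem r0_ne_r2 : r0 K ≠ r2 K := by
  rw [r0, r2, Ne, mk_eq_mk_iff']
  rintro ⟨a, ha⟩
  have h0 := congrFun ha 0
  have h1 := congrFun ha 1
  simp at h0 h1
  rw [h1] at h0
  exact zero_ne_one h0

omit [Field k] [Algebra k K] in
theorem r1_ne_r2 : r1 K ≠ r2 K := by
  rw [r1, r2, Ne, mk_eq_mk_iff']
  rintro ⟨a, ha⟩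
  have h0 := congrFun ha 0
  have h1 := congrFun ha 1
  simp at h0 h1
  rw [h0] at h1
  exact zero_ne_one h1

theorem galP_r0 (σ : K ≃ₐ[k] K) : galP σ (r0 K) = r0 K := by
  rw [r0, galP_mk]
  congr 1
  funext i
  fin_cases i <;> simp [galVec_apply]

theorem galP_r1 (σ : K ≃ₐ[k] K) : galP σ (r1 K) = r1 K := by
  rw [r1, galP_mk]
  congr 1
  funext i
  fin_cases i <;> simp [galVec_apply]

theorem galP_r2 (σ : K ≃ₐ[k] K) : galP σ (r2 K) = r2 K := by
  rw [r2, galP_mk]
  congr 1
  funext i
  fin_cases i <;> simp [galVec_apply]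

open Classical in
/-- the set of the three rational points -/
noncomputable def Rat (K : Type u) [Field K] : Finset (Projectivization K (Fin 2 → K)) :=
  {r0 K, r1 K, r2 K}

omit [Field k] [Algebra k K] in
open Classical in
theorem card_Rat : (Rat K).card = 3 := by
  rw [Rat, Finset.card_insert_of_notMem, Finset.card_insert_of_notMem, Finset.card_singleton]
  · simp only [Finset.mem_singleton]; exact r1_ne_r2
  · simp only [Finset.mem_insert, Finset.mem_singleton, not_or]; exact ⟨r0_ne_r1, r0_ne_r2⟩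

open Classical in
theorem galP_of_mem_Rat (σ : K ≃ₐ[k] K) {x : Projectivization K (Fin 2 → K)} (hx : x ∈ Rat K) :
    galP σ x = x := by
  simp only [Rat, Finset.mem_insert, Finset.mem_singleton] at hx
  rcases hx with rfl | rfl | rfl
  · exact galP_r0 σ
  · exact galP_r1 σ
  · exact galP_r2 σ

theorem galP_injective (σ : K ≃ₐ[k] K) :
    Function.Injective (galP σ : Projectivization K (Fin 2 → K) → _) := by
  have : RingHomInvPair (σ : K →+* K) (σ.symm : K →+* K) :=
    ⟨by ext; simp, by ext; simp⟩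
  exact Projectivization.map_injective (τ := (σ.symm : K →+* K)) _ (galVec_injective σ (Fin 2))

end Rat

open Classical in
theorem main [FiniteDimensional k K] [IsGalois k K]
    (S S' : Set (Projectivization K (Fin 2 → K))) (hfin : S.Finite) (h3 : S.ncard ≤ 3)
    (hS : ∀ (σ : K ≃ₐ[k] K) (x : Projectivization K (Fin 2 → K)), x ∈ S → galP σ x ∈ S)
    (b : S ≃ S')
    (hb : ∀ (σ : K ≃ₐ[k] K) (x : S),
      (b ⟨galP σ x.1, hS σ x.1 x.2⟩ : Projectivization K (Fin 2 → K)) = galP σ (b x).1) :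
    ∃ g : Matrix.GeneralLinearGroup (Fin 2) k,
      (fun x => (Matrix.GeneralLinearGroup.toLin
        ((Matrix.GeneralLinearGroup.map (algebraMap k K)) g)) • x) '' S = S' := by
  -- finiteness and cardinalities
  have hfin' : S'.Finite := by
    have : Finite ↥S := hfin.to_subtype
    have : Finite ↥S' := Finite.of_equiv _ b
    exact Set.toFinite S'
  have hcard' : S'.ncard = S.ncard := by
    rw [← _root_.Nat.card_coe_set_eq, ← _root_.Nat.card_coe_set_eq]
    exact (Nat.card_congr b).symm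
  set n := S.ncard with hn
  have hSf : hfin.toFinset.card = n := by rw [hn, Set.ncard_eq_toFinset_card S hfin]
  have hSf' : hfin'.toFinset.card = n := by rw [← hcard', Set.ncard_eq_toFinset_card S' hfin']
  -- padding by rational points
  have hle : 3 - n ≤ (Rat K \ hfin.toFinset).card := by
    have := Finset.le_card_sdiff hfin.toFinset (Rat K)
    rw [card_Rat, hSf] at this
    exact this
  have hle' : 3 - n ≤ (Rat K \ hfin'.toFinset).card := by
    have := Finset.le_card_sdiff hfin'.toFinset (Rat K)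
    rw [card_Rat, hSf'] at this
    exact this
  obtain ⟨R₀, hR₀sub, hR₀card⟩ := Finset.exists_subset_card_eq hle
  obtain ⟨R₀', hR₀'sub, hR₀'card⟩ := Finset.exists_subset_card_eq hle'
  have hR₀rat : ∀ z ∈ R₀, z ∈ Rat K := fun z hz => (Finset.mem_sdiff.mp (hR₀sub hz)).1
  have hR₀S : ∀ z ∈ R₀, z ∉ S := fun z hz hzS =>
    (Finset.mem_sdiff.mp (hR₀sub hz)).2 (hfin.mem_toFinset.mpr hzS)
  have hR₀'rat : ∀ z ∈ R₀', z ∈ Rat K := fun z hz => (Finset.mem_sdiff.mp (hR₀'sub hz)).1
  have hR₀'S : ∀ z ∈ R₀', z ∉ S' := fun z hz hzS =>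
    (Finset.mem_sdiff.mp (hR₀'sub hz)).2 (hfin'.mem_toFinset.mpr hzS)
  let β : R₀ ≃ R₀' := Finset.equivOfCardEq (hR₀card.trans hR₀'card.symm)
  -- index type
  let T : Finset (Projectivization K (Fin 2 → K)) := hfin.toFinset ∪ R₀
  have hTcard : Fintype.card T = 3 := by
    rw [Fintype.card_coe, Finset.card_union_of_disjoint, hSf, hR₀card]
    · omega
    · rw [Finset.disjoint_left]
      intro z hz hz'
      exact hR₀S z hz' (hfin.mem_toFinset.mp hz)
  have hTmem : ∀ t : T, t.1 ∉ S → t.1 ∈ R₀ := by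
    intro t ht
    rcases Finset.mem_union.mp t.2 with h | h
    · exact absurd (hfin.mem_toFinset.mp h) ht
    · exact h
  let e : Fin 3 ≃ T := (Fintype.equivFinOfCardEq hTcard).symm
  let yfun : T → Projectivization K (Fin 2 → K) := fun t =>
    if h : t.1 ∈ S then (b ⟨t.1, h⟩).1 else (β ⟨t.1, hTmem t h⟩).1
  have yfun_pos : ∀ (t : T) (h : t.1 ∈ S), yfun t = (b ⟨t.1, h⟩).1 := fun t h => dif_pos h
  have yfun_neg : ∀ (t : T) (h : t.1 ∉ S), yfun t = (β ⟨t.1, hTmem t h⟩).1 := fun t h => dif_neg h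
  have yfun_inj : Function.Injective yfun := by
    intro t t' htt
    by_cases h : t.1 ∈ S <;> by_cases h' : t'.1 ∈ S
    · rw [yfun_pos t h, yfun_pos t' h'] at htt
      have := b.injective (Subtype.ext htt)
      exact Subtype.ext (congrArg (fun z : S => z.1) this)
    · exfalso
      rw [yfun_pos t h, yfun_neg t' h'] at htt
      exact hR₀'S _ (β ⟨t'.1, hTmem t' h'⟩).2 (htt ▸ (b ⟨t.1, h⟩).2)
    · exfalso
      rw [yfun_neg t h, yfun_pos t' h'] at htt
      exact hR₀'S _ (β ⟨t.1, hTmem t h⟩).2 (htt ▸ (b ⟨t'.1, h'⟩).2)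
    · rw [yfun_neg t h, yfun_neg t' h'] at htt
      have := β.injective (Subtype.ext htt)
      exact Subtype.ext (congrArg (fun z : R₀ => z.1) this)
  -- equivariance
  have hTstab : ∀ (σ : K ≃ₐ[k] K) (t : T), galP σ t.1 ∈ T := by
    intro σ t
    by_cases h : t.1 ∈ S
    · exact Finset.mem_union_left _ (hfin.mem_toFinset.mpr (hS σ _ h))
    · rw [galP_of_mem_Rat σ (hR₀rat _ (hTmem t h))]
      exact t.2
  have hyfun : ∀ (σ : K ≃ₐ[k] K) (t : T), yfun ⟨galP σ t.1, hTstab σ t⟩ = galP σ (yfun t) := by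
    intro σ t
    by_cases h : t.1 ∈ S
    · rw [yfun_pos t h, yfun_pos _ (hS σ _ h)]
      exact hb σ ⟨t.1, h⟩
    · have hfix : galP σ t.1 = t.1 := galP_of_mem_Rat σ (hR₀rat _ (hTmem t h))
      have ht : (⟨galP σ t.1, hTstab σ t⟩ : T) = t := Subtype.ext hfix
      rw [ht, yfun_neg t h]
      exact (galP_of_mem_Rat σ (hR₀'rat _ (β ⟨t.1, hTmem t h⟩).2)).symm
  obtain ⟨g, hg⟩ := descent (k := k) (fun i => (e i).1) (fun i => yfun (e i))
    (fun i j hij => e.injective (Subtype.ext hij))
    (fun i j hij => e.injective (yfun_inj hij))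
    (by
      intro σ
      have hinj : Function.Injective (fun t : T => (⟨galP σ t.1, hTstab σ t⟩ : T)) := by
        intro t t' htt
        exact Subtype.ext (galP_injective σ (congrArg Subtype.val htt))
      let π' : Equiv.Perm T := Equiv.ofBijective _ (Finite.injective_iff_bijective.mp hinj)
      refine ⟨e.trans (π'.trans e.symm), ?_⟩
      intro i
      have h1 : e ((e.trans (π'.trans e.symm)) i) = ⟨galP σ (e i).1, hTstab σ (e i)⟩ := by
        simp [π']
      constructor
      · rw [h1]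
      · rw [h1, hyfun])
  refine ⟨g, ?_⟩
  have key : ∀ (z : Projectivization K (Fin 2 → K)) (hz : z ∈ S),
      act (Matrix.GeneralLinearGroup.map (algebraMap k K) g) z = (b ⟨z, hz⟩).1 := by
    intro z hz
    let t : T := ⟨z, Finset.mem_union_left _ (hfin.mem_toFinset.mpr hz)⟩
    have := hg (e.symm t)
    simp only [Equiv.apply_symm_apply] at this
    rw [yfun_pos t hz] at this
    exact this
  ext s'
  constructor
  · rintro ⟨z, hz, rfl⟩
    have := key z hz
    change act _ z ∈ S'
    rw [this]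
    exact (b ⟨z, hz⟩).2
  · intro hs'
    refine ⟨(b.symm ⟨s', hs'⟩).1, (b.symm ⟨s', hs'⟩).2, ?_⟩
    change act _ _ = s'
    rw [key _ (b.symm ⟨s', hs'⟩).2]
    simp

end Groth.Agent.Helper7.Gal3c
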