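import Mathlib

set_option autoImplicit false
universe u v w

namespace Groth.Agent.Helper7.GalIdeal

open TensorProduct Module

section defs
variable {K : Type u} {L : Type v} [Field K] [Field L] [Algebra K L]
variable {A : Type w} [Ring A] [Algebra K A]

/-- `γ ⊗ id` as a ring automorphism of `L ⊗ A`. -/
noncomputable def gE (γ : L ≃ₐ[K] L) : (L ⊗[K] A) ≃ₐ[K] (L ⊗[K] A) :=
  Algebra.TensorProduct.congr γ AlgEquiv.refl

theorem gE_apply (γ : L ≃ₐ[K] L) (x : L ⊗[K] A) :
    gE γ x = Algebra.TensorProduct.map (γ : L →ₐ[K] L) (AlgHom.id K A) x := rfl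

theorem gE_tmul (γ : L ≃ₐ[K] L) (l : L) (a : A) : gE γ (l ⊗ₜ[K] a) = γ l ⊗ₜ a := rfl

theorem gE_mul (γ δ : L ≃ₐ[K] L) (x : L ⊗[K] A) : gE γ (gE δ x) = gE (γ * δ) x := by
  induction x using TensorProduct.induction_on with
  | zero => simp
  | tmul l a => rfl
  | add x y hx hy => simp only [map_add, hx, hy]

theorem gE_one (x : L ⊗[K] A) : gE (1 : L ≃ₐ[K] L) x = x := by
  induction x using TensorProduct.induction_on with
  | zero => simp
  | tmul l a => rfl
  | add x y hx hy => simp only [map_add, hx, hy]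

theorem gE_inv (γ : L ≃ₐ[K] L) (x : L ⊗[K] A) : gE γ⁻¹ (gE γ x) = x := by
  rw [gE_mul, inv_mul_cancel, gE_one]

theorem gE_inv' (γ : L ≃ₐ[K] L) (x : L ⊗[K] A) : gE γ (gE γ⁻¹ x) = x := by
  rw [gE_mul, mul_inv_cancel, gE_one]

theorem gE_smul (γ : L ≃ₐ[K] L) (l : L) (x : L ⊗[K] A) : gE γ (l • x) = γ l • gE γ x := by
  induction x using TensorProduct.induction_on with
  | zero => simp
  | tmul l' a =>
    rw [TensorProduct.smul_tmul', gE_tmul, gE_tmul, TensorProduct.smul_tmul', smul_eq_mul,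
      smul_eq_mul, map_mul]
  | add x y hx hy => simp only [map_add, smul_add, hx, hy]

variable {ι : Type*} (b : Basis ι K A)

theorem repr_gE (γ : L ≃ₐ[K] L) (x : L ⊗[K] A) (i : ι) :
    (Algebra.TensorProduct.basis L b).repr (gE γ x) i =
      γ ((Algebra.TensorProduct.basis L b).repr x i) := by
  induction x using TensorProduct.induction_on with
  | zero => simp
  | tmul l a =>
    rw [gE_tmul, Algebra.TensorProduct.basis_repr_tmul, Algebra.TensorProduct.basis_repr_tmul]
    simp
  | add x y hx hy => simp only [map_add, Finsupp.add_apply, hx, hy]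

end defs

section descent
variable {K : Type u} {L : Type v} [Field K] [Field L] [Algebra K L] [IsGalois K L]
variable {A : Type w} [Ring A] [Algebra K A]

theorem smul_mem (S : TwoSidedIdeal (L ⊗[K] A)) (l : L) {x : L ⊗[K] A} (hx : x ∈ S) :
    l • x ∈ S := by
  rw [Algebra.smul_def]
  exact S.mul_mem_left _ _ hx

/-- a nonzero Galois-stable two-sided ideal of `L ⊗ A` contains a nonzero pure tensor `1 ⊗ a`. -/
theorem exists_pure_mem (S : TwoSidedIdeal (L ⊗[K] A)) (hS : S ≠ ⊥)
    (hstab : ∀ (γ : L ≃ₐ[K] L) (x : L ⊗[K] A), x ∈ S → gE γ x ∈ S) :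
    ∃ a : A, a ≠ 0 ∧ (1 : L) ⊗ₜ[K] a ∈ S := by
  classical
  let b := Module.Free.chooseBasis K A
  let B := Algebra.TensorProduct.basis L b
  have hex : ∃ n : ℕ, ∃ x ∈ S, x ≠ 0 ∧ (B.repr x).support.card = n := by
    by_contra hcon
    apply hS
    ext x
    rw [TwoSidedIdeal.mem_bot]
    constructor
    · intro hx
      by_contra hx0
      exact hcon ⟨_, x, hx, hx0, rfl⟩
    · rintro rfl
      exact S.zero_mem
  obtain ⟨x, hxS, hx0, hcard⟩ := Nat.find_spec hex
  have hmin : ∀ y ∈ S, y ≠ 0 → (B.repr x).support.card ≤ (B.repr y).support.card := by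
    intro y hy hy0
    rw [hcard]
    exact Nat.find_min' hex ⟨y, hy, hy0, rfl⟩
  have hsupp : (B.repr x).support.Nonempty := by
    rw [Finsupp.support_nonempty_iff]
    intro h
    exact hx0 (B.repr.map_eq_zero_iff.1 h)
  obtain ⟨i₀, hi₀⟩ := hsupp
  have hc : B.repr x i₀ ≠ 0 := Finsupp.mem_support_iff.1 hi₀
  set x' := (B.repr x i₀)⁻¹ • x with hx'
  have hx'S : x' ∈ S := smul_mem S _ hxS
  have hrepr : ∀ i, B.repr x' i = (B.repr x i₀)⁻¹ * B.repr x i := by
    intro i
    rw [hx', map_smul, Finsupp.smul_apply, smul_eq_mul]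
  have hone : B.repr x' i₀ = 1 := by rw [hrepr, inv_mul_cancel₀ hc]
  have hsupp' : (B.repr x').support = (B.repr x).support := by
    ext i
    rw [Finsupp.mem_support_iff, Finsupp.mem_support_iff, hrepr]
    simp [hc]
  have hfix : ∀ (γ : L ≃ₐ[K] L) (i : Module.Free.ChooseBasisIndex K A),
      γ (B.repr x' i) = B.repr x' i := by
    intro γ i
    set t := gE γ x' - x' with ht
    have htS : t ∈ S := S.sub_mem (hstab γ x' hx'S) hx'S
    have htrepr : ∀ j, B.repr t j = γ (B.repr x' j) - B.repr x' j := by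
      intro j
      rw [ht, map_sub, Finsupp.sub_apply, repr_gE]
    have hsub : (B.repr t).support ⊆ (B.repr x).support.erase i₀ := by
      intro j hj
      rw [Finsupp.mem_support_iff, htrepr] at hj
      rw [Finset.mem_erase]
      constructor
      · rintro rfl
        apply hj
        rw [hone, map_one, sub_self]
      · rw [← hsupp', Finsupp.mem_support_iff]
        intro h0
        apply hj
        rw [h0, map_zero, sub_self]
    have ht0 : t = 0 := by
      by_contra hne
      have h1 := hmin t htS hne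
      have h2 := Finset.card_le_card hsub
      rw [Finset.card_erase_of_mem hi₀] at h2
      have h3 : 0 < (B.repr x).support.card := Finset.card_pos.2 ⟨i₀, hi₀⟩
      omega
    have := htrepr i
    rw [ht0, map_zero, Finsupp.zero_apply] at this
    exact (sub_eq_zero.1 this.symm)
  have hK : ∀ i, ∃ c : K, algebraMap K L c = B.repr x' i := fun i =>
    (InfiniteGalois.mem_range_algebraMap_iff_fixed (B.repr x' i)).2 (fun γ => hfix γ i)
  choose c hc' using hK
  refine ⟨∑ i ∈ (B.repr x').support, c i • b i, ?_, ?_⟩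
  · intro h0
    have hlin := (linearIndependent_iff'.1 b.linearIndependent) _ c h0
    have : c i₀ = 0 := hlin i₀ (by rw [hsupp']; exact hi₀)
    have h1 := hc' i₀
    rw [this, map_zero, hone] at h1
    exact zero_ne_one h1
  · have hx'eq : x' = ∑ i ∈ (B.repr x').support, B.repr x' i • B i := by
      conv_lhs => rw [← B.linearCombination_repr x', Finsupp.linearCombination_apply, Finsupp.sum]
    have : (1 : L) ⊗ₜ[K] (∑ i ∈ (B.repr x').support, c i • b i) = x' := by
      rw [TensorProduct.tmul_sum]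
      refine Eq.trans ?_ hx'eq.symm
      apply Finset.sum_congr rfl
      intro i _
      rw [TensorProduct.tmul_smul, ← hc', Algebra.TensorProduct.basis_apply, algebraMap_smul]
    rw [this]
    exact hx'S

end descent

section main
variable {K : Type u} {L : Type v} [Field K] [Field L] [Algebra K L] [IsGalois K L]
variable {A : Type w} [Ring A] [Algebra K A] [IsSimpleRing A]

/-- the sum of the Galois translates of a two-sided ideal. -/
noncomputable def orbitSum (I : TwoSidedIdeal (L ⊗[K] A)) : TwoSidedIdeal (L ⊗[K] A) :=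
  TwoSidedIdeal.mk' (AddSubgroup.closure (⋃ γ : L ≃ₐ[K] L, gE γ '' (I : Set (L ⊗[K] A))))
    (AddSubgroup.zero_mem _) (fun hx hy => AddSubgroup.add_mem _ hx hy)
    (fun hx => AddSubgroup.neg_mem _ hx)
    (by
      intro y x hx
      induction hx using AddSubgroup.closure_induction with
      | mem x hx =>
        obtain ⟨γ, i, hi, rfl⟩ := Set.mem_iUnion.1 hx
        apply AddSubgroup.subset_closure
        refine Set.mem_iUnion.2 ⟨γ, gE γ⁻¹ y * i, I.mul_mem_left _ _ hi, ?_⟩
        rw [map_mul, gE_inv']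
      | zero => rw [mul_zero]; exact AddSubgroup.zero_mem _
      | add x z _ _ hx hz => rw [mul_add]; exact AddSubgroup.add_mem _ hx hz
      | neg x _ hx => rw [mul_neg]; exact AddSubgroup.neg_mem _ hx)
    (by
      intro x y hx
      induction hx using AddSubgroup.closure_induction with
      | mem x hx =>
        obtain ⟨γ, i, hi, rfl⟩ := Set.mem_iUnion.1 hx
        apply AddSubgroup.subset_closure
        refine Set.mem_iUnion.2 ⟨γ, i * gE γ⁻¹ y, I.mul_mem_right _ _ hi, ?_⟩
        rw [map_mul, gE_inv']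
      | zero => rw [zero_mul]; exact AddSubgroup.zero_mem _
      | add x z _ _ hx hz => rw [add_mul]; exact AddSubgroup.add_mem _ hx hz
      | neg x _ hx => rw [neg_mul]; exact AddSubgroup.neg_mem _ hx)

theorem mem_orbitSum (I : TwoSidedIdeal (L ⊗[K] A)) (x : L ⊗[K] A) :
    x ∈ orbitSum I ↔ x ∈ AddSubgroup.closure (⋃ γ : L ≃ₐ[K] L, gE γ '' (I : Set (L ⊗[K] A))) := by
  rw [orbitSum, TwoSidedIdeal.mem_mk']
  rfl

theorem one_mem_orbitSum (I : TwoSidedIdeal (L ⊗[K] A)) (hI : I ≠ ⊥) : (1 : L ⊗[K] A) ∈ orbitSum I := by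
  have hne : orbitSum I ≠ ⊥ := by
    intro h
    apply hI
    ext i
    rw [TwoSidedIdeal.mem_bot]
    constructor
    · intro hi
      have : i ∈ orbitSum I := by
        rw [mem_orbitSum]
        apply AddSubgroup.subset_closure
        exact Set.mem_iUnion.2 ⟨1, i, hi, gE_one i⟩
      rw [h, TwoSidedIdeal.mem_bot] at this
      exact this
    · rintro rfl; exact I.zero_mem
  have hstab : ∀ (γ : L ≃ₐ[K] L) (x : L ⊗[K] A), x ∈ orbitSum I → gE γ x ∈ orbitSum I := by
    intro γ x hx
    rw [mem_orbitSum] at hx ⊢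
    induction hx using AddSubgroup.closure_induction with
    | mem x hx =>
      obtain ⟨δ, i, hi, rfl⟩ := Set.mem_iUnion.1 hx
      apply AddSubgroup.subset_closure
      exact Set.mem_iUnion.2 ⟨γ * δ, i, hi, (gE_mul γ δ i).symm⟩
    | zero => rw [map_zero]; exact AddSubgroup.zero_mem _
    | add x z _ _ hx hz => rw [map_add]; exact AddSubgroup.add_mem _ hx hz
    | neg x _ hx => rw [map_neg]; exact AddSubgroup.neg_mem _ hx
  obtain ⟨a, ha, hmem⟩ := exists_pure_mem (orbitSum I) hne hstab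
  let T : TwoSidedIdeal A := (orbitSum I).comap
    (Algebra.TensorProduct.includeRight : A →ₐ[K] L ⊗[K] A).toRingHom
  have hT : T ≠ ⊥ := by
    intro h
    have : a ∈ T := by
      rw [TwoSidedIdeal.mem_comap]
      exact hmem
    rw [h, TwoSidedIdeal.mem_bot] at this
    exact ha this
  have hTtop : T = ⊤ := (eq_bot_or_eq_top T).resolve_left hT
  have h1 : (1 : A) ∈ T := by rw [hTtop]; exact TwoSidedIdeal.mem_top A
  rw [TwoSidedIdeal.mem_comap] at h1
  exact h1

theorem result14846 (I J : TwoSidedIdeal (L ⊗[K] A)) (hI : IsAtom I) (hJ : IsAtom J) :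
    ∃ γ : L ≃ₐ[K] L, (J : Set (L ⊗[K] A)) =
      Algebra.TensorProduct.map (γ : L →ₐ[K] L) (AlgHom.id K A) '' (I : Set (L ⊗[K] A)) := by
  by_contra hcon
  push Not at hcon
  -- the translates of `I` as two-sided ideals
  let Iγ : (L ≃ₐ[K] L) → TwoSidedIdeal (L ⊗[K] A) := fun γ =>
    (gE (A := A) γ).toRingEquiv.mapTwoSidedIdeal I
  have hIγ_mem : ∀ γ x, x ∈ Iγ γ ↔ x ∈ gE γ '' (I : Set (L ⊗[K] A)) := by
    intro γ x
    show x ∈ I.comap (gE (A := A) γ).toRingEquiv.symm ↔ _
    rw [TwoSidedIdeal.mem_comap]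
    constructor
    · intro h
      exact ⟨_, h, (gE γ).apply_symm_apply x⟩
    · rintro ⟨i, hi, rfl⟩
      have : (gE (A := A) γ).toRingEquiv.symm (gE γ i) = i := (gE γ).symm_apply_apply i
      rw [this]
      exact hi
  have hIγ_atom : ∀ γ, IsAtom (Iγ γ) := fun γ =>
    ((gE (A := A) γ).toRingEquiv.mapTwoSidedIdeal.isAtom_iff I).2 hI
  have hne : ∀ γ, J ≠ Iγ γ := by
    intro γ h
    apply hcon γ
    ext x
    rw [SetLike.mem_coe, h, hIγ_mem]
    rfl
  have hzero : ∀ j ∈ J, ∀ x ∈ AddSubgroup.closure (⋃ γ : L ≃ₐ[K] L, gE γ '' (I : Set (L ⊗[K] A))),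
      j * x = 0 := by
    intro j hj x hx
    induction hx using AddSubgroup.closure_induction with
    | mem x hx =>
      obtain ⟨γ, hxγ⟩ := Set.mem_iUnion.1 hx
      have h1 : j * x ∈ J := J.mul_mem_right _ _ hj
      have h2 : j * x ∈ Iγ γ := (Iγ γ).mul_mem_left _ _ ((hIγ_mem γ x).2 hxγ)
      have h3 : j * x ∈ J ⊓ Iγ γ := (TwoSidedIdeal.mem_inf _).2 ⟨h1, h2⟩
      rw [(hJ.disjoint_of_ne (hIγ_atom γ) (hne γ)).eq_bot, TwoSidedIdeal.mem_bot] at h3
      exact h3
    | zero => rw [mul_zero]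
    | add x z _ _ hx hz => rw [mul_add, hx, hz, add_zero]
    | neg x _ hx => rw [mul_neg, hx, neg_zero]
  have h1 := one_mem_orbitSum I hI.1
  rw [mem_orbitSum] at h1
  apply hJ.1
  ext j
  rw [TwoSidedIdeal.mem_bot]
  constructor
  · intro hj
    have := hzero j hj 1 h1
    rwa [mul_one] at this
  · rintro rfl; exact J.zero_mem

end main

end Groth.Agent.Helper7.GalIdeal
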