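import Mathlib
import Groth.Agent.Helper7.GenSmooth

set_option autoImplicit false
set_option linter.style.haveILetI false
set_option linter.unusedSectionVars false
universe u v

namespace Groth.Agent.Helper7.GenSmooth

/-- a field formally smooth over a Noetherian ring `R` and generated by a finitely generated
subalgebra is the fraction field of a smooth finite type subalgebra -/
theorem exists_subalgebra (R : Type v) (K : Type u) [CommRing R] [IsNoetherianRing R] [Field K] [Algebra R K]
    [Algebra.FormallySmooth R K] (A₀ : Subalgebra R K) (hfg : A₀.FG)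
    (hfrac : ∀ z : K, ∃ x y : A₀, z = (x : K) / (y : K)) :
    ∃ A : Subalgebra R K, Algebra.FiniteType R A ∧ Algebra.Smooth R A ∧ IsFractionRing A K := by
  haveI : Algebra.FiniteType R A₀ := (Subalgebra.fg_iff_finiteType A₀).mp hfg
  haveI : Algebra.FinitePresentation R A₀ := Algebra.FinitePresentation.of_finiteType.mp inferInstance
  haveI : IsFractionRing A₀ K := IsFractionRing.of_field A₀ K hfrac
  obtain ⟨h, h0, hs⟩ := exists_away R A₀ K
  have hunit : ∀ y : Submonoid.powers h, IsUnit (algebraMap A₀ K y) := by
    rintro ⟨_, n, rfl⟩
    rw [map_pow]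
    refine IsUnit.pow n (IsUnit.mk0 _ ?_)
    intro h1
    exact h0 (FaithfulSMul.algebraMap_injective A₀ K (h1.trans (map_zero _).symm))
  let φ : Localization.Away h →ₐ[A₀] K :=
    IsLocalization.liftAlgHom (M := Submonoid.powers h) (f := Algebra.ofId A₀ K) hunit
  have hφ : Function.Injective φ := by
    have : (φ : Localization.Away h →+* K) = IsLocalization.lift (M := Submonoid.powers h)
        (g := algebraMap A₀ K) hunit := rfl
    change Function.Injective (φ : Localization.Away h →+* K)
    rw [this, IsLocalization.lift_injective_iff]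
    intro x y
    rw [(FaithfulSMul.algebraMap_injective A₀ K).eq_iff,
      (IsLocalization.injective (Localization.Away h)
        (powers_le_nonZeroDivisors_of_noZeroDivisors h0)).eq_iff]
  let ψ : Localization.Away h →ₐ[R] K := φ.restrictScalars R
  let e : Localization.Away h ≃ₐ[R] ψ.range := AlgEquiv.ofInjective ψ hφ
  haveI : Algebra.FiniteType A₀ (Localization.Away h) := IsLocalization.finiteType_of_monoid_fg (Submonoid.powers h) _
  haveI : Algebra.FiniteType R (Localization.Away h) := Algebra.FiniteType.trans (S := A₀) inferInstance inferInstance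
  haveI : Algebra.FiniteType R ψ.range := Algebra.FiniteType.equiv inferInstance e
  haveI : Algebra.FormallySmooth R ψ.range := Algebra.FormallySmooth.of_equiv e
  haveI : Algebra.FinitePresentation R ψ.range := Algebra.FinitePresentation.of_finiteType.mp inferInstance
  refine ⟨ψ.range, inferInstance, ⟨inferInstance, inferInstance⟩, IsFractionRing.of_field _ _ ?_⟩
  intro z
  obtain ⟨x, y, hxy⟩ := hfrac z
  refine ⟨⟨(x : K), algebraMap A₀ _ x, φ.commutes x⟩, ⟨(y : K), algebraMap A₀ _ y, φ.commutes y⟩, hxy⟩

end Groth.Agent.Helper7.GenSmooth
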