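import Mathlib
import Groth.Agent.Helper7.GenSmooth2
import Groth.Agent.Helper1.FieldSmooth6

set_option autoImplicit false
set_option linter.style.haveILetI false
set_option linter.unusedSectionVars false
universe u

namespace Groth.Agent.Helper7.GenSmooth

theorem s14732
    (K : Type u) [Field K] (p : ℕ) [Fact p.Prime] [CharP K p] (s : Finset K)
    (hs : Subfield.closure (↑s : Set K) = ⊤) :
    ∃ A : Subalgebra (⊥ : Subfield K) K, Algebra.FiniteType (⊥ : Subfield K) A ∧
      Algebra.Smooth (⊥ : Subfield K) A ∧ IsFractionRing A K := by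
  have hF : ∀ a : (⊥ : Subfield K), ∃ b : (⊥ : Subfield K), b ^ p = a := by
    have hle : (⊥ : Subfield K) ≤ (frobenius K p).eqLocusField (RingHom.id K) := bot_le
    intro a
    refine ⟨a, ?_⟩
    have := hle a.2
    ext
    simpa [RingHom.eqLocusField, frobenius_def] using this
  haveI : Algebra.FormallySmooth (⊥ : Subfield K) K :=
    Groth.Agent.Helper1.FieldSmooth.formallySmooth_of_perfect p hF
  refine exists_subalgebra (⊥ : Subfield K) K (Algebra.adjoin _ (↑s : Set K))
    (Subalgebra.fg_adjoin_finset s) ?_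
  intro z
  have hz : z ∈ Subfield.closure (↑s : Set K) := hs ▸ Subfield.mem_top z
  obtain ⟨x, hx, y, hy, rfl⟩ := Subfield.mem_closure_iff.mp hz
  have hle : Subring.closure (↑s : Set K) ≤ (Algebra.adjoin (⊥ : Subfield K) (↑s : Set K)).toSubring :=
    Subring.closure_le.mpr Algebra.subset_adjoin
  exact ⟨⟨x, hle hx⟩, ⟨y, hle hy⟩, rfl⟩

theorem s14731
    (K : Type u) [Field K] [CharZero K] (s : Finset K)
    (hs : Subfield.closure (↑s : Set K) = ⊤) :
    ∃ A : Subring K, Algebra.FiniteType ℤ A ∧ Algebra.Smooth ℤ A ∧ IsFractionRing A K := by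
  haveI h1 : Algebra.FormallySmooth ℤ ℚ :=
    Algebra.FormallySmooth.of_isLocalization (nonZeroDivisors ℤ)
  haveI h2 : Algebra.FormallySmooth ℚ K :=
    Groth.Agent.Helper1.FieldSmooth.formallySmooth_of_charZero
  haveI : @IsScalarTower ℤ ℚ K Algebra.toSMul Algebra.toSMul Algebra.toSMul :=
    IsScalarTower.of_algebraMap_eq' (Subsingleton.elim _ _)
  haveI h3 : Algebra.FormallySmooth ℤ K :=
    Algebra.FormallySmooth.comp ℤ ℚ K
  obtain ⟨A, hA1, hA2, hA3⟩ := exists_subalgebra ℤ K (Algebra.adjoin _ (↑s : Set K))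
    (Subalgebra.fg_adjoin_finset s) (by
      intro z
      have hz : z ∈ Subfield.closure (↑s : Set K) := hs ▸ Subfield.mem_top z
      obtain ⟨x, hx, y, hy, rfl⟩ := Subfield.mem_closure_iff.mp hz
      have hle : Subring.closure (↑s : Set K) ≤ (Algebra.adjoin ℤ (↑s : Set K)).toSubring :=
        Subring.closure_le.mpr Algebra.subset_adjoin
      exact ⟨⟨x, hle hx⟩, ⟨y, hle hy⟩, rfl⟩)
  refine ⟨A.toSubring, ?_, ?_, ?_⟩
  · exact hA1
  · exact hA2
  · exact hA3

end Groth.Agent.Helper7.GenSmooth
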