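import Mathlib
import Groth.Agent.Helper7.GenSmooth

set_option autoImplicit false
set_option linter.style.haveILetI false
set_option linter.unusedSectionVars false
universe u

namespace Groth.Agent.Helper7.GenSmooth

/-- a separably generated field extension is formally smooth -/
theorem formallySmooth_of_sepGen (K L : Type u) [Field K] [Field L] [Algebra K L]
    (n : ℕ) (a : Fin n → L) (ha : IsTranscendenceBasis K a)
    (hsep : Algebra.IsSeparable ↥(IntermediateField.adjoin K (Set.range a)) L) :
    Algebra.FormallySmooth K L := by
  haveI h1 : Algebra.FormallySmooth K (FractionRing (MvPolynomial (Fin n) K)) := by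
    haveI : Algebra.FormallySmooth (MvPolynomial (Fin n) K) (FractionRing (MvPolynomial (Fin n) K)) :=
      Algebra.FormallySmooth.of_isLocalization (nonZeroDivisors _)
    exact Algebra.FormallySmooth.comp K (MvPolynomial (Fin n) K) _
  haveI h2 : Algebra.FormallySmooth K ↥(IntermediateField.adjoin K (Set.range a)) :=
    Algebra.FormallySmooth.of_equiv ha.1.aevalEquivField
  haveI h3 : Algebra.FormallyEtale ↥(IntermediateField.adjoin K (Set.range a)) L :=
    Algebra.FormallyEtale.of_isSeparable _ _
  haveI h4 : Algebra.FormallySmooth ↥(IntermediateField.adjoin K (Set.range a)) L :=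
    inferInstance
  exact Algebra.FormallySmooth.comp K ↥(IntermediateField.adjoin K (Set.range a)) L

theorem s14441 (k : Type u) [Field k]
    (A B : Type u) [CommRing A] [CommRing B] [IsDomain A] [IsDomain B] [Algebra k A] [Algebra k B] [Algebra A B] [IsScalarTower k A B]
    [Algebra.FiniteType k A] [Algebra.FiniteType k B]
    (K L : Type u) [Field K] [Field L] [Algebra A K] [IsFractionRing A K] [Algebra B L] [IsFractionRing B L]
    [Algebra K L] [Algebra A L] [IsScalarTower A B L] [IsScalarTower A K L]
    (n : ℕ) (a : Fin n → L) (ha : IsTranscendenceBasis K a)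
    (hsep : Algebra.IsSeparable ↥(IntermediateField.adjoin K (Set.range a)) L) :
    ∃ g : B, g ≠ 0 ∧ ∀ (C : Type u) [CommRing C] [Algebra B C] [IsLocalization.Away g C] [Algebra A C] [IsScalarTower A B C],
      Algebra.Smooth A C := by
  haveI : Algebra.FormallySmooth K L := formallySmooth_of_sepGen K L n a ha hsep
  haveI : Algebra.FormallySmooth A K := Algebra.FormallySmooth.of_isLocalization (nonZeroDivisors A)
  haveI : Algebra.FormallySmooth A L := Algebra.FormallySmooth.comp A K L
  haveI : IsNoetherianRing A := Algebra.FiniteType.isNoetherianRing k A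
  haveI : Algebra.FiniteType A B := Algebra.FiniteType.of_restrictScalars_finiteType k A B
  haveI : Algebra.FinitePresentation A B := Algebra.FinitePresentation.of_finiteType.mp inferInstance
  exact exists_away' A B L

end Groth.Agent.Helper7.GenSmooth
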