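import Mathlib

namespace Groth.Agent.Helper7.Gleason

open Set Function

universe u

/-- Rigidity of irreducible surjections. -/
theorem eq_id_of_irreducible {E X : Type*} [TopologicalSpace E] [T2Space E]
    (p : E → X) (hsurj : Function.Surjective p)
    (hirr : ∀ C : Set E, IsClosed C → C ≠ Set.univ → p '' C ≠ Set.univ)
    (h : E → E) (hh : Continuous h) (hp : p ∘ h = p) : h = id := by
  by_contra hne
  obtain ⟨e, he⟩ : ∃ e, h e ≠ e := by
    by_contra hall
    push Not at hall
    exact hne (funext hall)
  obtain ⟨U1, U2, hU1, hU2, he1, he2, hdisj⟩ := t2_separation he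
  -- he1 : h e ∈ U1, he2 : e ∈ U2
  set U : Set E := U2 ∩ h ⁻¹' U1 with hU
  have hUo : IsOpen U := hU2.inter (hU1.preimage hh)
  have heU : e ∈ U := ⟨he2, he1⟩
  have hC : IsClosed Uᶜ := hUo.isClosed_compl
  have hCne : Uᶜ ≠ Set.univ := by
    intro hEq
    have : e ∈ Uᶜ := hEq ▸ Set.mem_univ e
    exact this heU
  have := hirr _ hC hCne
  obtain ⟨x, hx⟩ := (Set.ne_univ_iff_exists_notMem _).1 this
  obtain ⟨e', rfl⟩ := hsurj x
  have he'U : e' ∈ U := by
    by_contra hc
    exact hx ⟨e', hc, rfl⟩
  have hhe'U : h e' ∈ U := by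
    by_contra hc
    refine hx ⟨h e', hc, ?_⟩
    exact congrFun hp e'
  exact Set.disjoint_left.1 hdisj he'U.2 hhe'U.1

/-- `X` with the discrete topology. -/
structure Disc (X : Type u) : Type u where
  out : X

instance (X : Type u) : TopologicalSpace (Disc X) := ⊥
instance (X : Type u) : DiscreteTopology (Disc X) := ⟨rfl⟩

theorem projective_of_retract {D E : Type u} [TopologicalSpace D] [TopologicalSpace E]
    (hD : CompactT2.Projective D) (i : E → D) (r : D → E) (hi : Continuous i) (hr : Continuous r)
    (hri : r ∘ i = id) : CompactT2.Projective E := by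
  intro Y Z _ _ _ _ _ _ f g hf hg hgs
  obtain ⟨h', hh', hgh'⟩ := hD (f := f ∘ r) (g := g) (hf.comp hr) hg hgs
  refine ⟨h' ∘ i, hh'.comp hi, ?_⟩
  rw [← Function.comp_assoc, hgh', Function.comp_assoc, hri, Function.comp_id]

theorem exists_cover (X : Type u) [TopologicalSpace X] [CompactSpace X] [T2Space X] :
    ∃ (X' : Type u) (_ : TopologicalSpace X') (_ : CompactSpace X') (_ : T2Space X')
      (_ : ExtremallyDisconnected X')
        (p : X' → X), Continuous p ∧ Function.Surjective p ∧
        ∀ E : Set X', IsClosed E → E ≠ Set.univ → p '' E ≠ Set.univ := by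
  let D := StoneCech (Disc X)
  have hid : Continuous (Disc.out : Disc X → X) := continuous_of_discreteTopology
  let π : D → X := stoneCechExtend hid
  have π_cont : Continuous π := continuous_stoneCechExtend hid
  have π_ext : π ∘ stoneCechUnit = (Disc.out : Disc X → X) := stoneCechExtend_extends hid
  have π_surj : Function.Surjective π := fun x => ⟨stoneCechUnit (Disc.mk x), congrFun π_ext (Disc.mk x)⟩
  obtain ⟨E, hEc, hEonto, hEmin⟩ := exists_compact_surjective_zorn_subset π_cont π_surj
  let ρ : E → X := E.domRestrict π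
  have ρ_cont : Continuous ρ := π_cont.continuousOn.domRestrict
  have ρ_surj : Function.Surjective ρ := fun a => by
    rcases (hEonto ▸ mem_univ a : a ∈ π '' E) with ⟨d, ⟨hd, rfl⟩⟩; exact ⟨⟨d, hd⟩, rfl⟩
  have hirr : ∀ C : Set E, IsClosed C → C ≠ Set.univ → ρ '' C ≠ Set.univ :=
    fun C hC hne => hEmin C hne hC
  have hDproj : CompactT2.Projective D := StoneCech.projective
  obtain ⟨r, hr, hρr⟩ := hDproj (f := π) (g := ρ) π_cont ρ_cont ρ_surj
  have hri : r ∘ (Subtype.val : E → D) = id := by
    apply eq_id_of_irreducible ρ ρ_surj hirr _ (hr.comp continuous_subtype_val)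
    rw [← Function.comp_assoc, hρr]
    rfl
  have hEproj : CompactT2.Projective E :=
    projective_of_retract hDproj Subtype.val r continuous_subtype_val hr hri
  exact ⟨E, inferInstance, hEc, inferInstance, hEproj.extremallyDisconnected, ρ, ρ_cont, ρ_surj, hirr⟩

theorem unique_cover (X : Type u) [TopologicalSpace X] [CompactSpace X] [T2Space X]
    (X' X'' : Type u) [TopologicalSpace X'] [CompactSpace X'] [T2Space X'] [ExtremallyDisconnected X']
    [TopologicalSpace X''] [CompactSpace X''] [T2Space X''] [ExtremallyDisconnected X'']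
    (p : X' → X) (q : X'' → X)
    (hp : Continuous p) (hps : Function.Surjective p)
    (hpi : ∀ E : Set X', IsClosed E → E ≠ Set.univ → p '' E ≠ Set.univ)
    (hq : Continuous q) (hqs : Function.Surjective q)
    (hqi : ∀ E : Set X'', IsClosed E → E ≠ Set.univ → q '' E ≠ Set.univ) :
    ∃ h : X' ≃ₜ X'', q ∘ h = p := by
  have P' : CompactT2.Projective X' := CompactT2.ExtremallyDisconnected.projective
  have P'' : CompactT2.Projective X'' := CompactT2.ExtremallyDisconnected.projective
  obtain ⟨f, hf, hqf⟩ := P' (f := p) (g := q) hp hq hqs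
  obtain ⟨g, hg, hpg⟩ := P'' (f := q) (g := p) hq hp hps
  have hgf : g ∘ f = id := by
    apply eq_id_of_irreducible p hps hpi _ (hg.comp hf)
    rw [← Function.comp_assoc, hpg, hqf]
  have hfg : f ∘ g = id := by
    apply eq_id_of_irreducible q hqs hqi _ (hf.comp hg)
    rw [← Function.comp_assoc, hqf, hpg]
  refine ⟨{ toFun := f, invFun := g, left_inv := congrFun hgf, right_inv := congrFun hfg,
            continuous_toFun := hf, continuous_invFun := hg }, ?_⟩
  exact hqf

end Groth.Agent.Helper7.Gleason
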