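import Mathlib

/-! Gluing squares of rings: surjectivity and kernel of a presentation. -/

universe u v w x y

namespace Groth.Agent.Helper7.GlueSq

theorem mvPolynomial_surjective
    {R : Type u} [CommRing R] {A : Type v} {B : Type w} {C : Type x}
    [CommRing A] [CommRing B] [CommRing C] [Algebra R A] [Algebra R B] [Algebra R C]
    (i : A →ₐ[R] B) (j : A →ₐ[R] C)
    (hinj : ∀ t : A, i t = 0 → j t = 0 → t = 0)
    (c : B) (u : C →+* B ⧸ Ideal.span ({c} : Set B))
    (hu : ∀ t : A, u (j t) = Ideal.Quotient.mk (Ideal.span ({c} : Set B)) (i t))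
    (ζ : A) (hiζ : i ζ = c) (hjζ : j ζ = 0)
    {σ τ : Type y}
    (η : MvPolynomial (Option σ) R →ₐ[R] A) (hη : η (MvPolynomial.X none) = ζ)
    (hηU : Function.Surjective ((j.comp η).comp (MvPolynomial.rename (Option.some : σ → Option σ))))
    (a : MvPolynomial τ R →ₐ[R] B) (ha : Function.Surjective a)
    (ηZ : MvPolynomial (Option σ) R →ₐ[R] MvPolynomial τ R)
    (hcomm : ∀ t, a (ηZ t) = i (η t)) (hηZ : Function.Surjective ηZ) :
    Function.Surjective η := by
  -- every element of `B` is `i (η x)`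
  have hB : ∀ b : B, ∃ x, i (η x) = b := by
    intro b
    obtain ⟨y, rfl⟩ := ha b
    obtain ⟨x, rfl⟩ := hηZ y
    exact ⟨x, (hcomm x).symm⟩
  intro t
  obtain ⟨x, hx⟩ := hB (i t)
  set t' := t - η x with ht'
  have hit' : i t' = 0 := by rw [ht', map_sub, hx, sub_self]
  obtain ⟨p, hp⟩ := hηU (j t')
  have hp' : j (η (MvPolynomial.rename Option.some p)) = j t' := hp
  have h1 : Ideal.Quotient.mk (Ideal.span ({c} : Set B))
      (i (η (MvPolynomial.rename Option.some p))) = 0 := by
    rw [← hu, hp', hu, hit', map_zero]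
  rw [Ideal.Quotient.eq_zero_iff_mem, Ideal.mem_span_singleton'] at h1
  obtain ⟨b, hb⟩ := h1
  obtain ⟨x₂, hx₂⟩ := hB b
  set s := η (MvPolynomial.rename Option.some p - MvPolynomial.X none * x₂) with hs
  have his : i s = 0 := by
    rw [hs, map_sub, map_sub, map_mul, map_mul, hη, hiζ, hx₂, ← hb, mul_comm, sub_self]
  have hjs : j s = j t' := by
    rw [hs, map_sub, map_sub, map_mul, map_mul, hη, hjζ, zero_mul, sub_zero, hp']
  have heq : t' = s := by
    have := hinj (t' - s) (by rw [map_sub, hit', his, sub_self]) (by rw [map_sub, hjs, sub_self])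
    exact sub_eq_zero.mp this
  refine ⟨x + (MvPolynomial.rename Option.some p - MvPolynomial.X none * x₂), ?_⟩
  rw [map_add, ← hs, ← heq, ht']
  abel

/-- decomposition of a polynomial in `X_σ, Z` as a polynomial in `X_σ` plus a multiple of `Z` -/
theorem exists_decomp {R : Type u} [CommRing R] {σ : Type y} (x : MvPolynomial (Option σ) R) :
    ∃ (x₀ : MvPolynomial σ R) (x₁ : MvPolynomial (Option σ) R),
      x = MvPolynomial.rename Option.some x₀ + MvPolynomial.X none * x₁ := by
  induction x using MvPolynomial.induction_on with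
  | C a => exact ⟨MvPolynomial.C a, 0, by simp⟩
  | add p q hp hq =>
    obtain ⟨p₀, p₁, rfl⟩ := hp
    obtain ⟨q₀, q₁, rfl⟩ := hq
    exact ⟨p₀ + q₀, p₁ + q₁, by rw [map_add]; ring⟩
  | mul_X p n hp =>
    obtain ⟨p₀, p₁, rfl⟩ := hp
    cases n with
    | none => exact ⟨0, MvPolynomial.rename Option.some p₀ + MvPolynomial.X none * p₁, by
        rw [map_zero]; ring⟩
    | some n => exact ⟨p₀ * MvPolynomial.X n, p₁ * MvPolynomial.X (some n), by
        rw [map_mul, MvPolynomial.rename_X]; ring⟩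

theorem ker_mvPolynomial_eq_span
    {R : Type u} [CommRing R] {A : Type v} {B : Type w} {C : Type x}
    [CommRing A] [CommRing B] [CommRing C] [Algebra R A] [Algebra R B] [Algebra R C]
    (i : A →ₐ[R] B) (j : A →ₐ[R] C)
    (hinj : ∀ t : A, i t = 0 → j t = 0 → t = 0)
    (c : B) (hc : c ∈ nonZeroDivisors B)
    (ζ : A) (hiζ : i ζ = c) (hjζ : j ζ = 0)
    {σ τ ιp ιq ιv : Type y}
    (η : MvPolynomial (Option σ) R →ₐ[R] A) (hη : η (MvPolynomial.X none) = ζ)
    (a : MvPolynomial τ R →ₐ[R] B)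
    (ηZ : MvPolynomial (Option σ) R →ₐ[R] MvPolynomial τ R)
    (hcomm : ∀ t, a (ηZ t) = i (η t)) (hηZ : Function.Surjective ηZ)
    (cZ : MvPolynomial τ R) (hcZ : a cZ = c)
    (p : ιp → MvPolynomial σ R)
    (hp : Ideal.span (Set.range p) =
      RingHom.ker ((j.comp η).comp (MvPolynomial.rename (Option.some : σ → Option σ))))
    (q' : ιq → MvPolynomial τ R) (hq' : Ideal.span (Set.range q') = RingHom.ker a)
    (q : ιq → MvPolynomial (Option σ) R) (hq : ∀ h, ηZ (q h) = q' h)
    (v : ιv → MvPolynomial (Option σ) R) (hv : Ideal.span (Set.range v) = RingHom.ker ηZ)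
    (g' : ιp → MvPolynomial τ R)
    (hg' : ∀ h, ηZ (MvPolynomial.rename (Option.some : σ → Option σ) (p h)) + g' h * cZ ∈
      Ideal.span (Set.range q'))
    (g : ιp → MvPolynomial (Option σ) R) (hg : ∀ h, ηZ (g h) = g' h) :
    RingHom.ker η = Ideal.span
      (Set.range (fun h : ιq => MvPolynomial.X none * q h) ∪
        Set.range (fun h : ιv => MvPolynomial.X none * v h) ∪
        Set.range (fun h : ιp =>
          MvPolynomial.rename (Option.some : σ → Option σ) (p h) + MvPolynomial.X none * g h)) := by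
  set K : Ideal (MvPolynomial (Option σ) R) := Ideal.span
      (Set.range (fun h : ιq => MvPolynomial.X none * q h) ∪
        Set.range (fun h : ιv => MvPolynomial.X none * v h) ∪
        Set.range (fun h : ιp =>
          MvPolynomial.rename (Option.some : σ → Option σ) (p h) + MvPolynomial.X none * g h)) with hK
  have hKq : ∀ h, MvPolynomial.X none * q h ∈ K := fun h =>
    Ideal.subset_span (Or.inl (Or.inl ⟨h, rfl⟩))
  have hKv : ∀ h, MvPolynomial.X none * v h ∈ K := fun h =>
    Ideal.subset_span (Or.inl (Or.inr ⟨h, rfl⟩))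
  have hKp : ∀ h, MvPolynomial.rename (Option.some : σ → Option σ) (p h) +
      MvPolynomial.X none * g h ∈ K := fun h => Ideal.subset_span (Or.inr ⟨h, rfl⟩)
  have hq'ker : ∀ h, a (q' h) = 0 := by
    intro h
    have : q' h ∈ RingHom.ker a := by rw [← hq']; exact Ideal.subset_span ⟨h, rfl⟩
    exact this
  have hvker : ∀ h, ηZ (v h) = 0 := by
    intro h
    have : v h ∈ RingHom.ker ηZ := by rw [← hv]; exact Ideal.subset_span ⟨h, rfl⟩
    exact this
  have hpker : ∀ h, j (η (MvPolynomial.rename Option.some (p h))) = 0 := by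
    intro h
    have : p h ∈ RingHom.ker ((j.comp η).comp
        (MvPolynomial.rename (Option.some : σ → Option σ))) := by
      rw [← hp]; exact Ideal.subset_span ⟨h, rfl⟩
    exact this
  -- `K ≤ ker η`
  have hKle : K ≤ RingHom.ker η := by
    rw [hK, Ideal.span_le]
    rintro _ ((⟨h, rfl⟩ | ⟨h, rfl⟩) | ⟨h, rfl⟩)
    · apply hinj
      · rw [map_mul, map_mul, hη, hiζ, ← hcomm, hq, hq'ker, mul_zero]
      · rw [map_mul, map_mul, hη, hjζ, zero_mul]
    · apply hinj
      · rw [map_mul, map_mul, hη, hiζ, ← hcomm, hvker, map_zero, mul_zero]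
      · rw [map_mul, map_mul, hη, hjζ, zero_mul]
    · apply hinj
      · rw [map_add, map_add, map_mul, map_mul, hη, hiζ, ← hcomm, ← hcomm, hg, ← hcZ, ← map_mul,
          ← map_add, mul_comm]
        have := hg' h
        rw [hq'] at this
        exact this
      · rw [map_add, map_add, map_mul, map_mul, hη, hjζ, zero_mul, add_zero, hpker]
  apply le_antisymm _ hKle
  intro x hx
  obtain ⟨x₀, x₁, rfl⟩ := exists_decomp x
  have hx0 : η (MvPolynomial.rename Option.some x₀ + MvPolynomial.X none * x₁) = 0 := hx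
  -- `x₀` lies in the span of the `p h`
  have hx₀ : x₀ ∈ Ideal.span (Set.range p) := by
    rw [hp]
    show j (η (MvPolynomial.rename Option.some x₀)) = 0
    have := congrArg j hx0
    rw [map_add, map_add, map_mul, map_mul, hη, hjζ, zero_mul, add_zero, map_zero] at this
    exact this
  have step1 : ∀ z ∈ Ideal.span (Set.range p), ∃ y : MvPolynomial (Option σ) R,
      MvPolynomial.rename Option.some z + MvPolynomial.X none * y ∈ K := by
    intro z hz
    refine Submodule.span_induction (p := fun z _ => ∃ y : MvPolynomial (Option σ) R,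
      MvPolynomial.rename Option.some z + MvPolynomial.X none * y ∈ K) ?_ ?_ ?_ ?_ hz
    · rintro _ ⟨h, rfl⟩
      exact ⟨g h, hKp h⟩
    · exact ⟨0, by simp⟩
    · rintro z₁ z₂ _ _ ⟨y₁, h₁⟩ ⟨y₂, h₂⟩
      refine ⟨y₁ + y₂, ?_⟩
      have := K.add_mem h₁ h₂
      rw [map_add]
      convert this using 1
      ring
    · rintro r z _ ⟨y, h⟩
      refine ⟨MvPolynomial.rename Option.some r * y, ?_⟩
      have := K.mul_mem_left (MvPolynomial.rename Option.some r) h
      rw [smul_eq_mul, map_mul]
      convert this using 1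
      ring
  obtain ⟨y, hy⟩ := step1 x₀ hx₀
  -- reduce to `Z * x₂`
  set x₂ := x₁ - y with hx₂
  have hdec : MvPolynomial.rename Option.some x₀ + MvPolynomial.X none * x₁ =
      (MvPolynomial.rename Option.some x₀ + MvPolynomial.X none * y) + MvPolynomial.X none * x₂ := by
    rw [hx₂]; ring
  rw [hdec]
  refine K.add_mem hy ?_
  have hZx₂ : η (MvPolynomial.X none * x₂) = 0 := by
    have h1 : η (MvPolynomial.rename Option.some x₀ + MvPolynomial.X none * y) = 0 := hKle hy
    have h2 := hx0
    rw [hdec, map_add, h1, zero_add] at h2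
    exact h2
  have hax₂ : a (ηZ x₂) = 0 := by
    have := congrArg i hZx₂
    rw [map_mul, map_mul, hη, hiζ, map_zero, ← hcomm] at this
    exact (mul_left_mem_nonZeroDivisors_eq_zero_iff hc).1 this
  have hmem : ηZ x₂ ∈ Ideal.span (Set.range q') := by rw [hq']; exact hax₂
  have step2 : ∀ z ∈ Ideal.span (Set.range q'), ∃ x₃ : MvPolynomial (Option σ) R,
      ηZ x₃ = z ∧ MvPolynomial.X none * x₃ ∈ K := by
    intro z hz
    refine Submodule.span_induction (p := fun z _ => ∃ x₃ : MvPolynomial (Option σ) R,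
      ηZ x₃ = z ∧ MvPolynomial.X none * x₃ ∈ K) ?_ ?_ ?_ ?_ hz
    · rintro _ ⟨h, rfl⟩
      exact ⟨q h, hq h, hKq h⟩
    · exact ⟨0, map_zero _, by simp⟩
    · rintro z₁ z₂ _ _ ⟨y₁, e₁, h₁⟩ ⟨y₂, e₂, h₂⟩
      refine ⟨y₁ + y₂, by rw [map_add, e₁, e₂], ?_⟩
      rw [mul_add]
      exact K.add_mem h₁ h₂
    · rintro r z _ ⟨y, e, h⟩
      obtain ⟨r', rfl⟩ := hηZ r
      refine ⟨r' * y, by rw [map_mul, e, smul_eq_mul], ?_⟩
      have := K.mul_mem_left r' h
      convert this using 1
      ring
  obtain ⟨x₃, hx₃, hKx₃⟩ := step2 _ hmem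
  have hd : x₂ - x₃ ∈ Ideal.span (Set.range v) := by
    rw [hv, RingHom.mem_ker, map_sub, hx₃, sub_self]
  have step3 : ∀ z ∈ Ideal.span (Set.range v), MvPolynomial.X none * z ∈ K := by
    intro z hz
    refine Submodule.span_induction (p := fun z _ => MvPolynomial.X none * z ∈ K) ?_ ?_ ?_ ?_ hz
    · rintro _ ⟨h, rfl⟩
      exact hKv h
    · simp
    · intro z₁ z₂ _ _ h₁ h₂
      rw [mul_add]
      exact K.add_mem h₁ h₂
    · intro r z _ h
      have := K.mul_mem_left r h
      rw [smul_eq_mul]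
      convert this using 1
      ring
  have := K.add_mem (step3 _ hd) hKx₃
  convert this using 1
  ring

end Groth.Agent.Helper7.GlueSq
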