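import Mathlib

set_option autoImplicit false

/-!
# Adjoining a root of a monic lift of an irreducible polynomial over the residue field of a DVR
-/

namespace Groth.Agent.Helper7.Gonf

open Polynomial IsLocalRing

universe u

variable {B : Type u} [CommRing B] [IsDomain B] [IsDiscreteValuationRing B]
  (f : B[X]) (hf : f.Monic) (hirr : Irreducible (f.map (residue B)))

include hf hirr in
theorem irreducible_f : Irreducible f :=
  hf.irreducible_of_irreducible_map (residue B) f hirr

include hf hirr in
theorem isDomain : IsDomain (AdjoinRoot f) :=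
  AdjoinRoot.isDomain_of_prime (irreducible_f f hf hirr).prime

include hf hirr in
theorem natDegree_pos : 0 < f.natDegree := by
  have h1 : (f.map (residue B)).natDegree = f.natDegree := hf.natDegree_map _
  rw [← h1]
  exact Polynomial.natDegree_pos_iff_degree_pos.mpr (Polynomial.degree_pos_of_irreducible hirr)

include hf hirr in
theorem of_injective : Function.Injective (AdjoinRoot.of f) :=
  AdjoinRoot.of.injective_of_degree_ne_zero (by
    rw [degree_eq_natDegree hf.ne_zero]
    exact_mod_cast (natDegree_pos f hf hirr).ne')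

include hf in
theorem finite : Module.Finite B (AdjoinRoot f) := hf.finite_adjoinRoot

include hirr in
theorem map_isMaximal : ((maximalIdeal B).map (AdjoinRoot.of f)).IsMaximal := by
  have e := AdjoinRoot.quotEquivQuotMap f (maximalIdeal B)
  have h1 : (Ideal.span ({f.map (Ideal.Quotient.mk (maximalIdeal B))} :
      Set (B ⧸ maximalIdeal B)[X])).IsMaximal := by
    letI := Ideal.Quotient.field (maximalIdeal B)
    exact PrincipalIdealRing.isMaximal_of_irreducible hirr
  letI := Ideal.Quotient.field (Ideal.span ({f.map (Ideal.Quotient.mk (maximalIdeal B))} :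
      Set (B ⧸ maximalIdeal B)[X]))
  have h2 : IsField (AdjoinRoot f ⧸ (maximalIdeal B).map (AdjoinRoot.of f)) :=
    e.toMulEquiv.isField (Field.toIsField _)
  exact Ideal.Quotient.maximal_of_isField _ h2

include hf hirr in
theorem isLocalRing : IsLocalRing (AdjoinRoot f) := by
  apply IsLocalRing.of_unique_max_ideal
  refine ⟨_, map_isMaximal f hirr, fun M hM => ?_⟩
  haveI := finite f hf
  haveI : Algebra.IsIntegral B (AdjoinRoot f) := Algebra.IsIntegral.of_finite _ _
  have h1 : (M.comap (algebraMap B (AdjoinRoot f))).IsMaximal :=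
    Ideal.isMaximal_comap_of_isIntegral_of_isMaximal M
  have h2 : M.comap (algebraMap B (AdjoinRoot f)) = maximalIdeal B := eq_maximalIdeal h1
  have hle : (maximalIdeal B).map (AdjoinRoot.of f) ≤ M := by
    rw [Ideal.map_le_iff_le_comap, ← h2]
    rfl
  exact ((map_isMaximal f hirr).eq_of_le hM.ne_top hle).symm

include hf hirr in
theorem maximalIdeal_eq [IsLocalRing (AdjoinRoot f)] :
    maximalIdeal (AdjoinRoot f) = (maximalIdeal B).map (AdjoinRoot.of f) :=
  (eq_maximalIdeal (map_isMaximal f hirr)).symm

include hf in
theorem isNoetherianRing : IsNoetherianRing (AdjoinRoot f) := by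
  haveI := finite f hf
  have : IsNoetherian B (AdjoinRoot f) := isNoetherian_of_isNoetherianRing_of_finite B _
  exact isNoetherianRing_iff.mpr (isNoetherian_of_tower B this)

include hf hirr in
theorem isDVR [IsDomain (AdjoinRoot f)] : IsDiscreteValuationRing (AdjoinRoot f) := by
  haveI := isLocalRing f hf hirr
  haveI := isNoetherianRing f hf
  have hmax := maximalIdeal_eq f hf hirr
  obtain ⟨ϖ, hϖ⟩ := IsDiscreteValuationRing.exists_irreducible B
  have hmax' : maximalIdeal (AdjoinRoot f) = Ideal.span {AdjoinRoot.of f ϖ} := by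
    rw [hmax, hϖ.maximalIdeal_eq, Ideal.map_span, Set.image_singleton]
  have hnf : ¬ IsField (AdjoinRoot f) := by
    rw [IsLocalRing.isField_iff_maximalIdeal_eq, hmax', Ideal.span_singleton_eq_bot]
    intro h0
    exact hϖ.ne_zero (of_injective f hf hirr (by rw [h0, map_zero]))
  refine ((IsDiscreteValuationRing.TFAE (AdjoinRoot f) hnf).out 0 4).2 ?_
  rw [hmax']
  exact ⟨⟨_, rfl⟩⟩

end Groth.Agent.Helper7.Gonf
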