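import Mathlib
import Groth.Agent.Helper7.GonfA

set_option autoImplicit false

namespace Groth.Agent.Helper7.Gonf

open Polynomial IsLocalRing

universe u

section choose

variable {B : Type u} [CommRing B] [IsDomain B] [IsDiscreteValuationRing B]
  {k' : Type u} [Field k'] (ρ : B →+* k') (hρ : RingHom.ker ρ = maximalIdeal B)
  {Ks : Type u} [Field Ks] (j : B →+* Ks) (hj : Function.Injective j)
  (a : k') (ha : ∃ q : B[X], q.Monic ∧ q.eval₂ ρ a = 0)

/-- the map induced by `ρ` on the residue field -/
noncomputable def rhoBar : ResidueField B →+* k' :=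
  Ideal.Quotient.lift (maximalIdeal B) ρ (fun x hx => by rw [← hρ] at hx; exact hx)

theorem rhoBar_residue (x : B) : rhoBar ρ hρ (residue B x) = ρ x := rfl

theorem eval₂_eq (g : B[X]) :
    g.eval₂ ρ a = (g.map (residue B)).eval₂ (rhoBar ρ hρ) a := by
  rw [Polynomial.eval₂_map]
  rfl

include hρ hj ha in
theorem exists_poly : ∃ f : B[X], f.Monic ∧ Irreducible (f.map (residue B)) ∧ f.eval₂ ρ a = 0 ∧
    (f.map j).Separable := by
  classical
  letI : Algebra (ResidueField B) k' := (rhoBar ρ hρ).toAlgebra
  obtain ⟨q, hq, hqa⟩ := ha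
  have hint : IsIntegral (ResidueField B) a := by
    refine ⟨q.map (residue B), hq.map _, ?_⟩
    rw [eval₂_eq ρ hρ a q] at hqa
    exact hqa
  obtain ⟨m, hm1, -, hm3⟩ := Polynomial.lifts_and_degree_eq_and_monic
    ((Polynomial.mem_lifts _).2 (Polynomial.map_surjective _ residue_surjective
      (minpoly (ResidueField B) a))) (minpoly.monic hint)
  have hmirr : Irreducible (m.map (residue B)) := by rw [hm1]; exact minpoly.irreducible hint
  have hma : ∀ g : B[X], g.map (residue B) = minpoly (ResidueField B) a → g.eval₂ ρ a = 0 := by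
    intro g hg
    rw [eval₂_eq ρ hρ a g, hg]
    exact minpoly.aeval (ResidueField B) a
  let L := FractionRing B
  have hsepL : ∀ g : B[X], (g.map (algebraMap B L)).Separable → (g.map j).Separable := by
    intro g hg
    have h1 : j = (IsFractionRing.lift (K := L) hj : L →+* Ks).comp (algebraMap B L) := by
      ext x
      simp
    rw [h1, ← Polynomial.map_map]
    exact hg.map
  have hirrL : Irreducible (m.map (algebraMap B L)) :=
    (hm3.irreducible_iff_irreducible_map_fraction_map (K := L)).1 (irreducible_f m hm3 hmirr)
  by_cases hsep : (m.map (algebraMap B L)).Separable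
  · exact ⟨m, hm3, hmirr, hma m hm1, hsepL m hsep⟩
  · have hder : derivative (m.map (algebraMap B L)) = 0 := by
      by_contra h
      exact hsep ((Polynomial.separable_iff_derivative_ne_zero hirrL).2 h)
    obtain ⟨ϖ, hϖ⟩ := IsDiscreteValuationRing.exists_irreducible B
    have hd1 : 0 < m.natDegree := natDegree_pos m hm3 hmirr
    have hd2 : m.natDegree ≠ 1 := by
      intro h1
      have h2 := congrArg (fun p => p.coeff 0) hder
      simp only [Polynomial.coeff_derivative, Polynomial.coeff_zero, Polynomial.coeff_map] at h2
      have h3 : m.coeff (0 + 1) = 1 := by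
        have := hm3.coeff_natDegree
        rwa [h1] at this
      rw [h3] at h2
      simp at h2
    have hdeg : (C ϖ * X : B[X]).degree < m.degree := by
      rw [degree_eq_natDegree hm3.ne_zero]
      calc (C ϖ * X : B[X]).degree ≤ 1 := by
            refine (Polynomial.degree_C_mul_X_le ϖ)
        _ < (m.natDegree : WithBot ℕ) := by exact_mod_cast (by omega : 1 < m.natDegree)
    have hmon : (m + C ϖ * X).Monic := hm3.add_of_left hdeg
    have hmap : (m + C ϖ * X).map (residue B) = minpoly (ResidueField B) a := by
      rw [Polynomial.map_add, hm1, Polynomial.map_mul, Polynomial.map_C, Polynomial.map_X]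
      have : residue B ϖ = 0 := by
        rw [IsLocalRing.residue_eq_zero_iff, hϖ.maximalIdeal_eq]
        exact Ideal.mem_span_singleton_self ϖ
      rw [this, map_zero, zero_mul, add_zero]
    refine ⟨m + C ϖ * X, hmon, by rw [hmap]; exact minpoly.irreducible hint, hma _ hmap,
      hsepL _ ?_⟩
    rw [Polynomial.separable_def, Polynomial.map_add, derivative_add, hder, zero_add,
      Polynomial.map_mul, Polynomial.map_C, Polynomial.map_X, derivative_C_mul, derivative_X,
      mul_one]
    have h0 : algebraMap B L ϖ ≠ 0 := by
      intro h0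
      exact hϖ.ne_zero ((IsFractionRing.injective B L) (by rw [h0, map_zero]))
    exact ⟨0, C (algebraMap B L ϖ)⁻¹, by rw [zero_mul, zero_add, ← C_mul, inv_mul_cancel₀ h0, C_1]⟩

end choose

end Groth.Agent.Helper7.Gonf
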