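import Mathlib
import Groth.Agent.Helper7.GonfB

set_option autoImplicit false

namespace Groth.Agent.Helper7.Gonf

open Polynomial IsLocalRing

universe u

section abstractDVR

variable {B : Type*} [CommRing B] [IsDomain B] (ϖ : B) (h0 : ϖ ≠ 0) (hnu : ¬ IsUnit ϖ)
  (hfac : ∀ x : B, x ≠ 0 → ∃ n : ℕ, ∃ u : B, IsUnit u ∧ x = ϖ ^ n * u)

include h0 hnu hfac in
theorem irreducible_of_fac : Irreducible ϖ := by
  refine ⟨hnu, fun x y hxy => ?_⟩
  have hx0 : x ≠ 0 := by rintro rfl; rw [zero_mul] at hxy; exact h0 hxy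
  have hy0 : y ≠ 0 := by rintro rfl; rw [mul_zero] at hxy; exact h0 hxy
  obtain ⟨a, u, hu, rfl⟩ := hfac x hx0
  obtain ⟨b, v, hv, rfl⟩ := hfac y hy0
  have huv : IsUnit (u * v) := hu.mul hv
  have h1 : ϖ = ϖ ^ (a + b) * (u * v) := by
    conv_lhs => rw [hxy]
    rw [pow_add]; ring
  rcases Nat.lt_or_ge (a + b) 1 with hab | hab
  · have : a + b = 0 := by omega
    rw [this, pow_zero, one_mul] at h1
    exact absurd (h1 ▸ huv) hnu
  rcases Nat.eq_or_lt_of_le hab with hab | hab
  · have : a = 0 ∨ b = 0 := by omega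
    rcases this with rfl | rfl
    · left; rw [pow_zero, one_mul]; exact hu
    · right; rw [pow_zero, one_mul]; exact hv
  · exfalso
    obtain ⟨c, hc⟩ : ∃ c, a + b = c + 2 := ⟨a + b - 2, by omega⟩
    rw [hc] at h1
    have h2 : ϖ * 1 = ϖ * (ϖ * (ϖ ^ c * (u * v))) := by
      rw [mul_one]
      conv_lhs => rw [h1]
      ring
    have h3 := mul_left_cancel₀ h0 h2
    exact hnu (IsUnit.of_mul_eq_one _ h3.symm)

include h0 hnu hfac in
theorem isDVR_of_fac : IsDiscreteValuationRing B := by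
  apply IsDiscreteValuationRing.ofHasUnitMulPowIrreducibleFactorization
  refine ⟨ϖ, irreducible_of_fac ϖ h0 hnu hfac, fun {x} hx => ?_⟩
  obtain ⟨n, u, hu, rfl⟩ := hfac x hx
  exact ⟨n, ⟨hu.unit, rfl⟩⟩

end abstractDVR

section ambient

variable (O : Type u) [CommRing O] [IsDomain O] [IsDiscreteValuationRing O]
  (k' : Type u) [Field k'] [Algebra (ResidueField O) k']

/-- the separable closure of the fraction field -/
abbrev Ksep : Type u := SeparableClosure (FractionRing O)

/-- the structure map into the ambient ring `Ksep × k'` -/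
noncomputable def iota : O →+* Ksep O × k' :=
  RingHom.prod ((algebraMap (FractionRing O) (Ksep O)).comp (algebraMap O (FractionRing O)))
    ((algebraMap (ResidueField O) k').comp (residue O))

theorem iota_fst (x : O) :
    (iota O k' x).1 = algebraMap (FractionRing O) (Ksep O) (algebraMap O (FractionRing O) x) := rfl

theorem iota_snd (x : O) :
    (iota O k' x).2 = algebraMap (ResidueField O) k' (residue O x) := rfl

theorem iota_fst_injective : Function.Injective (fun x : O => (iota O k' x).1) := by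
  intro x y hxy
  exact IsFractionRing.injective O (FractionRing O)
    ((algebraMap (FractionRing O) (Ksep O)).injective hxy)

variable (π : O)

/-- the admissible subrings of the ambient ring -/
structure Good (G : Subring (Ksep O × k')) : Prop where
  le : (iota O k').range ≤ G
  inj : ∀ g ∈ G, g.1 = 0 → g = 0
  fac : ∀ g ∈ G, g ≠ 0 → ∃ n : ℕ, ∃ u ∈ G, ∃ v ∈ G, u * v = 1 ∧ g = (iota O k' π) ^ n * u

variable {O k' π}

theorem good_range (hπ : Irreducible π) : Good O k' π (iota O k').range := by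
  refine ⟨le_rfl, ?_, ?_⟩
  · rintro _ ⟨x, rfl⟩ hx
    have : x = 0 := iota_fst_injective O k' (by simpa using hx)
    rw [this, map_zero]
  · rintro _ ⟨x, rfl⟩ hx
    have hx0 : x ≠ 0 := by rintro rfl; exact hx (map_zero _)
    obtain ⟨n, u, rfl⟩ := IsDiscreteValuationRing.eq_unit_mul_pow_irreducible hx0 hπ
    refine ⟨n, iota O k' u, ⟨_, rfl⟩, iota O k' (↑u⁻¹ : O), ⟨_, rfl⟩, ?_, ?_⟩
    · rw [← map_mul, Units.mul_inv, map_one]
    · rw [map_mul, map_pow, mul_comm]

theorem good_sSup (c : Set (Subring (Ksep O × k'))) (hc : IsChain (· ≤ ·) c)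
    (hne : c.Nonempty) (hgood : ∀ G ∈ c, Good O k' π G) : Good O k' π (sSup c) := by
  have hdir : DirectedOn (· ≤ ·) c := hc.directedOn
  obtain ⟨y, hy⟩ := hne
  refine ⟨(hgood y hy).le.trans (le_sSup hy), ?_, ?_⟩
  · intro g hg hg1
    obtain ⟨G, hG, hgG⟩ := (Subring.mem_sSup_of_directedOn ⟨y, hy⟩ hdir).1 hg
    exact (hgood G hG).inj g hgG hg1
  · intro g hg hg0
    obtain ⟨G, hG, hgG⟩ := (Subring.mem_sSup_of_directedOn ⟨y, hy⟩ hdir).1 hg
    obtain ⟨n, u, hu, v, hv, huv, hgu⟩ := (hgood G hG).fac g hgG hg0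
    exact ⟨n, u, le_sSup hG hu, v, le_sSup hG hv, huv, hgu⟩

theorem exists_maximal (hπ : Irreducible π) :
    ∃ G : Subring (Ksep O × k'), Maximal (Good O k' π) G := by
  obtain ⟨m, -, hm⟩ := zorn_le_nonempty₀ {G | Good O k' π G}
    (fun c hcs hc y hy => ⟨sSup c, good_sSup c hc ⟨y, hy⟩ (fun G hG => hcs hG),
      fun z hz => le_sSup hz⟩) _ (good_range hπ)
  exact ⟨m, hm⟩

end ambient

end Groth.Agent.Helper7.Gonf
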