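import Mathlib
import Groth.Agent.Helper7.GonfC

set_option autoImplicit false

namespace Groth.Agent.Helper7.Gonf

open Polynomial IsLocalRing

universe u

section good

variable {O : Type u} [CommRing O] [IsDomain O] [IsDiscreteValuationRing O]
  {k' : Type u} [Field k'] [Algebra (ResidueField O) k'] {π : O}
  {G : Subring (Ksep O × k')}

/-- first projection on an admissible subring -/
noncomputable def jG (G : Subring (Ksep O × k')) : ↥G →+* Ksep O :=
  (RingHom.fst _ _).comp G.subtype

/-- second projection on an admissible subring -/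
noncomputable def rhoG (G : Subring (Ksep O × k')) : ↥G →+* k' :=
  (RingHom.snd _ _).comp G.subtype

theorem jG_apply (x : ↥G) : jG G x = x.1.1 := rfl
theorem rhoG_apply (x : ↥G) : rhoG G x = x.1.2 := rfl

/-- the structure map into an admissible subring -/
noncomputable def phiG (hG : Good O k' π G) : O →+* ↥G :=
  (iota O k').codRestrict G (fun x => hG.le ⟨x, rfl⟩)

theorem phiG_coe (hG : Good O k' π G) (x : O) : (phiG hG x : Ksep O × k') = iota O k' x := rfl

theorem jG_injective (hG : Good O k' π G) : Function.Injective (jG G) := by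
  rw [injective_iff_map_eq_zero]
  intro x hx
  exact Subtype.ext (hG.inj x.1 x.2 hx)

theorem isDomainG (hG : Good O k' π G) : IsDomain ↥G :=
  Function.Injective.isDomain (jG G) (jG_injective hG)

theorem phiG_injective (hG : Good O k' π G) : Function.Injective (phiG hG) := by
  intro x y hxy
  apply iota_fst_injective O k'
  have := congrArg (fun z : ↥G => z.1.1) hxy
  exact this

theorem rhoG_phiG (hG : Good O k' π G) (x : O) :
    rhoG G (phiG hG x) = algebraMap (ResidueField O) k' (residue O x) := rfl

theorem rhoG_pi (hπ : Irreducible π) (hG : Good O k' π G) : rhoG G (phiG hG π) = 0 := by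
  rw [rhoG_phiG]
  have : residue O π = 0 := by
    rw [residue_eq_zero_iff, hπ.maximalIdeal_eq]
    exact Ideal.mem_span_singleton_self π
  rw [this, map_zero]

theorem pi_ne_zero (hπ : Irreducible π) (hG : Good O k' π G) : phiG hG π ≠ 0 := by
  intro h
  exact hπ.ne_zero (phiG_injective hG (by rw [h, map_zero]))

theorem pi_not_isUnit (hπ : Irreducible π) (hG : Good O k' π G) : ¬ IsUnit (phiG hG π) := by
  intro h
  have := h.map (rhoG G)
  rw [rhoG_pi hπ hG] at this
  exact not_isUnit_zero this

theorem facG (hG : Good O k' π G) (x : ↥G) (hx : x ≠ 0) :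
    ∃ n : ℕ, ∃ u : ↥G, IsUnit u ∧ x = (phiG hG π) ^ n * u := by
  have hx' : (x : Ksep O × k') ≠ 0 := fun h => hx (Subtype.ext h)
  obtain ⟨n, u, hu, v, hv, huv, hxu⟩ := hG.fac x.1 x.2 hx'
  refine ⟨n, ⟨u, hu⟩, IsUnit.of_mul_eq_one ⟨v, hv⟩ (Subtype.ext huv), Subtype.ext ?_⟩
  rw [hxu]
  rfl

theorem isDVR_G (hπ : Irreducible π) (hG : Good O k' π G) :
    haveI := isDomainG hG
    IsDiscreteValuationRing ↥G := by
  haveI := isDomainG hG
  exact isDVR_of_fac (phiG hG π) (pi_ne_zero hπ hG) (pi_not_isUnit hπ hG) (facG hG)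

theorem irreducible_pi (hπ : Irreducible π) (hG : Good O k' π G) :
    haveI := isDomainG hG
    Irreducible (phiG hG π) := by
  haveI := isDomainG hG
  exact irreducible_of_fac (phiG hG π) (pi_ne_zero hπ hG) (pi_not_isUnit hπ hG) (facG hG)

theorem ker_rhoG (hπ : Irreducible π) (hG : Good O k' π G) :
    haveI := isDomainG hG
    haveI := isDVR_G hπ hG
    RingHom.ker (rhoG G) = maximalIdeal ↥G := by
  haveI := isDomainG hG
  haveI := isDVR_G hπ hG
  rw [(irreducible_pi hπ hG).maximalIdeal_eq]
  apply le_antisymm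
  · intro x hx
    rw [RingHom.mem_ker] at hx
    by_cases hx0 : x = 0
    · rw [hx0]; exact Ideal.zero_mem _
    obtain ⟨n, u, hu, rfl⟩ := facG hG x hx0
    rcases Nat.eq_zero_or_pos n with rfl | hn
    · rw [pow_zero, one_mul] at hx
      have := hu.map (rhoG G)
      rw [hx] at this
      exact absurd this not_isUnit_zero
    · obtain ⟨m, rfl⟩ : ∃ m, n = m + 1 := ⟨n - 1, by omega⟩
      rw [Ideal.mem_span_singleton]
      exact ⟨(phiG hG π) ^ m * u, by ring⟩
  · rw [Ideal.span_le, Set.singleton_subset_iff]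
    exact rhoG_pi hπ hG

end good

end Groth.Agent.Helper7.Gonf
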