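import Mathlib
import Groth.Agent.Helper7.GonfE

set_option autoImplicit false

namespace Groth.Agent.Helper7.Gonf

open Polynomial IsLocalRing

universe u

theorem main (OK : Type u) [CommRing OK] [IsDomain OK] [IsDiscreteValuationRing OK]
    (k' : Type u) [Field k'] [Algebra (IsLocalRing.ResidueField OK) k']
    [Algebra.IsAlgebraic (IsLocalRing.ResidueField OK) k'] :
    ∃ (OL : Type u) (_ : CommRing OL) (_ : IsDomain OL) (_ : IsDiscreteValuationRing OL)
      (φ : OK →+* OL),
      Function.Injective φ ∧ IsLocalHom φ ∧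
      Ideal.map φ (IsLocalRing.maximalIdeal OK) = IsLocalRing.maximalIdeal OL ∧
      (∃ e : IsLocalRing.ResidueField OL ≃+* k',
        ∀ a : OK, e (IsLocalRing.residue OL (φ a)) =
          algebraMap (IsLocalRing.ResidueField OK) k' (IsLocalRing.residue OK a)) ∧
      ∀ x : OL, ∃ p : Polynomial OK,
        (p.map (algebraMap OK (FractionRing OK))).Separable ∧ Polynomial.eval₂ φ x p = 0 := by
  obtain ⟨π, hπ⟩ := IsDiscreteValuationRing.exists_irreducible OK
  obtain ⟨G, hG, hmax⟩ := exists_maximal (O := OK) (k' := k') hπ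
  have hsurj : Function.Surjective (rhoG G) := by
    intro a
    obtain ⟨G', hG', hle, g, hg, hga⟩ := exists_succ hπ hG a
    exact ⟨⟨g, hmax hG' hle hg⟩, hga⟩
  haveI := isDomainG hG
  haveI := isDVR_G hπ hG
  refine ⟨↥G, inferInstance, isDomainG hG, isDVR_G hπ hG, phiG hG, phiG_injective hG, ?_, ?_, ?_, ?_⟩
  · refine ⟨fun x hx => ?_⟩
    by_contra hxu
    have hxm : x ∈ maximalIdeal OK := (IsLocalRing.mem_maximalIdeal x).2 hxu
    rw [hπ.maximalIdeal_eq, Ideal.mem_span_singleton] at hxm
    obtain ⟨y, rfl⟩ := hxm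
    rw [map_mul] at hx
    exact pi_not_isUnit hπ hG (isUnit_of_mul_isUnit_left hx)
  · rw [hπ.maximalIdeal_eq, Ideal.map_span, Set.image_singleton,
      (irreducible_pi hπ hG).maximalIdeal_eq]
  · let e : (↥G ⧸ maximalIdeal ↥G) ≃+* k' :=
      (Ideal.quotEquivOfEq (ker_rhoG hπ hG).symm).trans
        (RingHom.quotientKerEquivOfSurjective hsurj)
    refine ⟨e, fun a => ?_⟩
    rfl
  · intro x
    let K := FractionRing OK
    let z : Ksep OK := jG G x
    have hz : (minpoly K z).Separable := Algebra.IsSeparable.isSeparable K z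
    have hza : Polynomial.aeval z (minpoly K z) = 0 := minpoly.aeval K z
    refine ⟨IsLocalization.integerNormalization (nonZeroDivisors OK) (minpoly K z), ?_, ?_⟩
    · obtain ⟨b, hbM, hb⟩ := IsLocalization.integerNormalization_spec (nonZeroDivisors OK)
        (minpoly K z)
      rw [hb]
      have h1 : (b • minpoly K z) = C (algebraMap OK K b) * minpoly K z := by
        rw [← Polynomial.smul_eq_C_mul, algebraMap_smul]
      rw [h1]
      apply Polynomial.Separable.unit_mul _ hz
      rw [Polynomial.isUnit_C]
      apply IsUnit.mk0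
      intro h0
      have : b = 0 := IsFractionRing.injective OK K (by rw [h0, map_zero])
      exact nonZeroDivisors.ne_zero hbM this
    · apply jG_injective hG
      rw [map_zero, Polynomial.hom_eval₂]
      have h2 : (jG G).comp (phiG hG) = (algebraMap K (Ksep OK)).comp (algebraMap OK K) := rfl
      rw [h2]
      exact IsLocalization.integerNormalization_eval₂_eq_zero (nonZeroDivisors OK)
        (algebraMap K (Ksep OK)) (minpoly K z) hza

end Groth.Agent.Helper7.Gonf
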