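import Mathlib
import Groth.Agent.Helper7.GonfE

set_option autoImplicit false

namespace Groth.Agent.Helper7.Gonf

open Polynomial IsLocalRing

universe u

section succdata

variable {O : Type u} [CommRing O] [IsDomain O] [IsDiscreteValuationRing O]
  {k' : Type u} [Field k'] [Algebra (ResidueField O) k'] {π : O}
  {G : Subring (Ksep O × k')}

/-- The data of the successor step, with the polynomial exposed. -/
theorem exists_succ_data [Algebra.IsAlgebraic (ResidueField O) k'] (hπ : Irreducible π)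
    (hG : Good O k' π G) (a : k') :
    haveI := isDomainG hG
    haveI := isDVR_G hπ hG
    ∃ (f : (↥G)[X]) (Ψ : AdjoinRoot f →+* Ksep O × k'), f.Monic ∧
      Irreducible (f.map (residue ↥G)) ∧ f.eval₂ (rhoG G) a = 0 ∧
      (∀ b : ↥G, Ψ (AdjoinRoot.of f b) = b.1) ∧ Function.Injective Ψ ∧
      (Ψ (AdjoinRoot.root f)).2 = a ∧ Good O k' π Ψ.range ∧ G ≤ Ψ.range := by
  haveI := isDomainG hG
  haveI := isDVR_G hπ hG
  obtain ⟨f, hfm, hfirr, hfa, hfsep⟩ := exists_poly (rhoG G) (ker_rhoG hπ hG) (jG G)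
    (jG_injective hG) a (exists_monic_eval₂ hG a)
  have hdeg : (f.map (jG G)).degree ≠ 0 := by
    rw [degree_map_eq_of_injective (jG_injective hG), degree_eq_natDegree hfm.ne_zero]
    exact_mod_cast (natDegree_pos f hfm hfirr).ne'
  obtain ⟨α, hα⟩ := IsSepClosed.exists_root (f.map (jG G)) hdeg hfsep
  have hα' : f.eval₂ (jG G) α = 0 := by rwa [IsRoot.def, eval_map] at hα
  haveI := isDomain f hfm hfirr
  haveI := isDVR f hfm hfirr
  let Ψ₁ : AdjoinRoot f →+* Ksep O := AdjoinRoot.lift (jG G) α hα'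
  let Ψ₂ : AdjoinRoot f →+* k' := AdjoinRoot.lift (rhoG G) a hfa
  let Ψ : AdjoinRoot f →+* Ksep O × k' := Ψ₁.prod Ψ₂
  have hΨof : ∀ b : ↥G, Ψ (AdjoinRoot.of f b) = b.1 := by
    intro b
    refine Prod.ext ?_ ?_
    · change Ψ₁ (AdjoinRoot.of f b) = _
      rw [AdjoinRoot.lift_of]; rfl
    · change Ψ₂ (AdjoinRoot.of f b) = _
      rw [AdjoinRoot.lift_of]; rfl
  have hle : G ≤ Ψ.range := fun g hg => ⟨AdjoinRoot.of f ⟨g, hg⟩, hΨof ⟨g, hg⟩⟩
  have hΨ₁inj : Function.Injective Ψ₁ := by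
    rw [injective_iff_map_eq_zero]
    haveI := finite f hfm
    haveI : Algebra.IsIntegral ↥G (AdjoinRoot f) := Algebra.IsIntegral.of_finite _ _
    have hker : RingHom.ker Ψ₁ = ⊥ := by
      apply Ideal.eq_bot_of_comap_eq_bot (R := ↥G)
      rw [eq_bot_iff]
      intro b hb
      rw [Ideal.mem_comap, RingHom.mem_ker] at hb
      have h1 : Ψ₁ (AdjoinRoot.of f b) = jG G b := AdjoinRoot.lift_of hα'
      change Ψ₁ (AdjoinRoot.of f b) = 0 at hb
      rw [h1] at hb
      have : b = 0 := jG_injective hG (by rw [hb, map_zero])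
      rw [this]; exact Ideal.zero_mem _
    intro y hy
    have : y ∈ RingHom.ker Ψ₁ := hy
    rwa [hker] at this
  have hΨinj : Function.Injective Ψ := by
    intro x y hxy
    exact hΨ₁inj (congrArg Prod.fst hxy)
  refine ⟨f, Ψ, hfm, hfirr, hfa, hΨof, hΨinj, ?_, ⟨hG.le.trans hle, ?_, ?_⟩, hle⟩
  · change Ψ₂ (AdjoinRoot.root f) = a
    exact AdjoinRoot.lift_root hfa
  · rintro _ ⟨y, rfl⟩ hy
    have : y = 0 := hΨ₁inj (by rw [map_zero]; exact hy)
    rw [this, map_zero]
  · rintro _ ⟨y, rfl⟩ hy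
    have hy0 : y ≠ 0 := by rintro rfl; exact hy (map_zero _)
    have hmax : maximalIdeal (AdjoinRoot f) = Ideal.span {AdjoinRoot.of f (phiG hG π)} := by
      rw [maximalIdeal_eq f hfm hfirr, (irreducible_pi hπ hG).maximalIdeal_eq, Ideal.map_span,
        Set.image_singleton]
    have hne : AdjoinRoot.of f (phiG hG π) ≠ 0 := by
      intro h0
      exact pi_ne_zero hπ hG (of_injective f hfm hfirr (by rw [h0, map_zero]))
    have hirr : Irreducible (AdjoinRoot.of f (phiG hG π)) :=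
      IsDiscreteValuationRing.irreducible_of_span_eq_maximalIdeal _ hne hmax
    obtain ⟨n, u, rfl⟩ := IsDiscreteValuationRing.eq_unit_mul_pow_irreducible hy0 hirr
    refine ⟨n, Ψ u, ⟨_, rfl⟩, Ψ (↑u⁻¹ : AdjoinRoot f), ⟨_, rfl⟩, ?_, ?_⟩
    · rw [← map_mul, Units.mul_inv, map_one]
    · rw [map_mul, map_pow, hΨof, mul_comm]
      rfl

end succdata

end Groth.Agent.Helper7.Gonf
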