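import Mathlib

set_option autoImplicit false

namespace Groth.Agent.Helper7.Gonf

open Polynomial

universe u v

section ext

variable {O : Type u} [CommRing O] [Nontrivial O] {A : Type v} [CommRing A] [Nontrivial A]
  [Algebra O A]
  (G : Subring A) (S₀ : Subalgebra O A) (hS₀ : S₀.toSubring ≤ G)

/-- the inclusion of a subalgebra contained in a subring -/
noncomputable def inc : ↥S₀ →+* ↥G :=
  (S₀.val : ↥S₀ →ₐ[O] A).toRingHom.codRestrict G (fun x => hS₀ x.2)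

theorem inc_coe (x : ↥S₀) : ((inc G S₀ hS₀ x : ↥G) : A) = x := rfl

theorem inc_injective : Function.Injective (inc G S₀ hS₀) := by
  intro x y hxy
  exact Subtype.ext (congrArg (fun z : ↥G => (z : A)) hxy)

theorem mem_lifts_inc (q : (↥G)[X]) (hq : ∀ n, ((q.coeff n : ↥G) : A) ∈ S₀) :
    q ∈ Polynomial.lifts (inc G S₀ hS₀) := by
  rw [Polynomial.lifts_iff_coeff_lifts]
  intro n
  exact ⟨⟨_, hq n⟩, Subtype.ext rfl⟩

include hS₀ in
theorem exists_subalgebra_adjoin [Module.Finite O S₀] [Module.Free O S₀]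
    (f : (↥G)[X]) (hf : f.Monic) (hfc : ∀ n, ((f.coeff n : ↥G) : A) ∈ S₀)
    (Ψ : AdjoinRoot f →+* A) (hΨof : ∀ b : ↥G, Ψ (AdjoinRoot.of f b) = b.1)
    (hΨinj : Function.Injective Ψ) :
    ∃ S : Subalgebra O A, S.toSubring ≤ Ψ.range ∧
      (∀ q : (↥G)[X], (∀ n, ((q.coeff n : ↥G) : A) ∈ S₀) → Ψ (AdjoinRoot.mk f q) ∈ S) ∧
      Module.Finite O S ∧ Module.Free O S ∧
      Module.finrank O S = Module.finrank O S₀ * f.natDegree := by
  classical
  obtain ⟨f₀, hf₀map, hf₀deg, hf₀m⟩ :=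
    Polynomial.lifts_and_degree_eq_and_monic (mem_lifts_inc G S₀ hS₀ f hfc) hf
  have hΨmk : ∀ q₀ : (↥S₀)[X], Ψ (AdjoinRoot.mk f (q₀.map (inc G S₀ hS₀))) =
      q₀.eval₂ (S₀.val : ↥S₀ →ₐ[O] A) (Ψ (AdjoinRoot.root f)) := by
    intro q₀
    have h1 : AdjoinRoot.mk f (q₀.map (inc G S₀ hS₀)) =
        q₀.eval₂ ((AdjoinRoot.of f).comp (inc G S₀ hS₀)) (AdjoinRoot.root f) := by
      rw [← Polynomial.eval₂_map, ← AdjoinRoot.aeval_eq, Polynomial.aeval_def]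
      rfl
    rw [h1, Polynomial.hom_eval₂]
    congr 1
    ext x
    simp only [RingHom.coe_comp, Function.comp_apply]
    rw [hΨof]
    rfl
  have h0 : f₀.eval₂ (S₀.val : ↥S₀ →ₐ[O] A) (Ψ (AdjoinRoot.root f)) = 0 := by
    rw [← hΨmk, hf₀map, AdjoinRoot.mk_self, map_zero]
  let Θ : AdjoinRoot f₀ →ₐ[O] A := AdjoinRoot.liftAlgHom f₀ S₀.val (Ψ (AdjoinRoot.root f)) h0
  have hΘmk : ∀ q₀ : (↥S₀)[X], Θ (AdjoinRoot.mk f₀ q₀) =
      Ψ (AdjoinRoot.mk f (q₀.map (inc G S₀ hS₀))) := by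
    intro q₀
    rw [hΨmk]
    rfl
  have hΘinj : Function.Injective Θ := by
    rw [injective_iff_map_eq_zero]
    intro y hy
    obtain ⟨q₀, rfl⟩ := AdjoinRoot.mk_surjective y
    rw [hΘmk] at hy
    have h1 : AdjoinRoot.mk f (q₀.map (inc G S₀ hS₀)) = 0 := hΨinj (by rw [hy, map_zero])
    rw [AdjoinRoot.mk_eq_zero, ← hf₀map] at h1
    have h2 : (q₀ %ₘ f₀).map (inc G S₀ hS₀) = 0 := by
      rw [Polynomial.map_modByMonic _ hf₀m]
      exact (Polynomial.modByMonic_eq_zero_iff_dvd (hf₀m.map _)).2 h1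
    have h3 : q₀ %ₘ f₀ = 0 :=
      Polynomial.map_injective _ (inc_injective G S₀ hS₀) (by rw [h2, Polynomial.map_zero])
    rw [AdjoinRoot.mk_eq_zero]
    exact (Polynomial.modByMonic_eq_zero_iff_dvd hf₀m).1 h3
  let e : AdjoinRoot f₀ ≃ₐ[O] Θ.range := AlgEquiv.ofInjective Θ hΘinj
  let pb := AdjoinRoot.powerBasis' hf₀m
  haveI : Module.Finite ↥S₀ (AdjoinRoot f₀) := pb.finite
  haveI : Module.Free ↥S₀ (AdjoinRoot f₀) := Module.Free.of_basis pb.basis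
  haveI : Module.Finite O (AdjoinRoot f₀) := Module.Finite.trans ↥S₀ _
  haveI : Module.Free O (AdjoinRoot f₀) := Module.Free.trans (R := O) (S := ↥S₀)
  have hrank : Module.finrank O (AdjoinRoot f₀) = Module.finrank O S₀ * f.natDegree := by
    rw [← Module.finrank_mul_finrank O ↥S₀ (AdjoinRoot f₀), pb.finrank]
    congr 1
    change f₀.natDegree = f.natDegree
    exact Polynomial.natDegree_eq_of_degree_eq hf₀deg
  refine ⟨Θ.range, ?_, ?_, Module.Finite.equiv e.toLinearEquiv, Module.Free.of_equiv e.toLinearEquiv,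
    ?_⟩
  · rintro _ ⟨y, rfl⟩
    obtain ⟨q₀, rfl⟩ := AdjoinRoot.mk_surjective y
    exact ⟨_, (hΘmk q₀).symm⟩
  · intro q hq
    obtain ⟨q₀, rfl⟩ := (Polynomial.mem_lifts _).1 (mem_lifts_inc G S₀ hS₀ q hq)
    exact ⟨AdjoinRoot.mk f₀ q₀, hΘmk q₀⟩
  · rw [← e.toLinearEquiv.finrank_eq, hrank]

end ext

end Groth.Agent.Helper7.Gonf
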