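import Mathlib
import Groth.Agent.Helper7.GonfG
import Groth.Agent.Helper7.GonfH

set_option autoImplicit false

namespace Groth.Agent.Helper7.Gonf

open Polynomial IsLocalRing

universe u

section goodp

variable (O : Type u) [CommRing O] [IsDomain O] [IsDiscreteValuationRing O]
  (k' : Type u) [Field k'] [Algebra (ResidueField O) k'] (π : O) (p : ℕ)

/-- the `O`-algebra structure on the ambient ring -/
@[reducible] noncomputable def algA : Algebra O (Ksep O × k') := (iota O k').toAlgebra

attribute [local instance] algA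

theorem algebraMap_algA (x : O) : algebraMap O (Ksep O × k') x = iota O k' x := rfl

/-- admissible subrings which are directed unions of finite free subalgebras of `p`-power rank -/
structure Good' (G : Subring (Ksep O × k')) : Prop extends Good O k' π G where
  dir : ∀ s : Finset (Ksep O × k'), (↑s : Set (Ksep O × k')) ⊆ G →
    ∃ S : Subalgebra O (Ksep O × k'), S.toSubring ≤ G ∧ (↑s : Set (Ksep O × k')) ⊆ S ∧
      Module.Finite O S ∧ Module.Free O S ∧ ∃ m : ℕ, Module.finrank O S = p ^ m

variable {O k' π p}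

theorem iota_injective : Function.Injective (iota O k') := by
  intro x y hxy
  exact iota_fst_injective O k' (congrArg Prod.fst hxy)

theorem good'_range (hπ : Irreducible π) : Good' O k' π p (iota O k').range := by
  refine ⟨good_range hπ, fun s hs => ?_⟩
  have hinj : Function.Injective (algebraMap O (Ksep O × k')) := iota_injective
  let e := Algebra.botEquivOfInjective hinj
  refine ⟨⊥, ?_, ?_, Module.Finite.equiv e.symm.toLinearEquiv,
    Module.Free.of_equiv e.symm.toLinearEquiv, 0, ?_⟩
  · intro x hx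
    obtain ⟨y, rfl⟩ := Algebra.mem_bot.1 hx
    exact ⟨y, rfl⟩
  · intro x hx
    obtain ⟨y, rfl⟩ := hs hx
    exact Algebra.mem_bot.2 ⟨y, rfl⟩
  · rw [e.toLinearEquiv.finrank_eq, Module.finrank_self, pow_zero]

theorem exists_mem_chain_of_finset (c : Set (Subring (Ksep O × k'))) (hc : IsChain (· ≤ ·) c)
    (hne : c.Nonempty) (s : Finset (Ksep O × k'))
    (hs : (↑s : Set (Ksep O × k')) ⊆ ((sSup c : Subring (Ksep O × k')) : Set (Ksep O × k'))) :
    ∃ G ∈ c, (↑s : Set (Ksep O × k')) ⊆ G := by
  classical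
  induction s using Finset.induction_on with
  | empty =>
    obtain ⟨y, hy⟩ := hne
    exact ⟨y, hy, by simp⟩
  | insert a s _ ih =>
    rw [Finset.coe_insert, Set.insert_subset_iff] at hs
    obtain ⟨G₂, hG₂, hsG₂⟩ := ih hs.2
    obtain ⟨G₁, hG₁, haG₁⟩ := (Subring.mem_sSup_of_directedOn hne hc.directedOn).1 hs.1
    rcases hc.total hG₁ hG₂ with h | h
    · refine ⟨G₂, hG₂, ?_⟩
      rw [Finset.coe_insert, Set.insert_subset_iff]
      exact ⟨h haG₁, hsG₂⟩
    · refine ⟨G₁, hG₁, ?_⟩
      rw [Finset.coe_insert, Set.insert_subset_iff]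
      exact ⟨haG₁, hsG₂.trans h⟩

theorem good'_sSup (c : Set (Subring (Ksep O × k'))) (hc : IsChain (· ≤ ·) c)
    (hne : c.Nonempty) (hgood : ∀ G ∈ c, Good' O k' π p G) : Good' O k' π p (sSup c) := by
  refine ⟨good_sSup c hc hne (fun G hG => (hgood G hG).toGood), fun s hs => ?_⟩
  obtain ⟨G, hG, hsG⟩ := exists_mem_chain_of_finset c hc hne s hs
  obtain ⟨S, hSG, hsS, h1, h2, h3⟩ := (hgood G hG).dir s hsG
  exact ⟨S, hSG.trans (le_sSup hG), hsS, h1, h2, h3⟩

theorem exists_maximal' (hπ : Irreducible π) :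
    ∃ G : Subring (Ksep O × k'), Maximal (Good' O k' π p) G := by
  obtain ⟨m, -, hm⟩ := zorn_le_nonempty₀ {G | Good' O k' π p G}
    (fun c hcs hc y hy => ⟨sSup c, good'_sSup c hc ⟨y, hy⟩ (fun G hG => hcs hG),
      fun z hz => le_sSup hz⟩) _ (good'_range hπ)
  exact ⟨m, hm⟩

end goodp

end Groth.Agent.Helper7.Gonf
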