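import Mathlib
import Groth.Agent.Helper7.GonfI

set_option autoImplicit false

namespace Groth.Agent.Helper7.Gonf

open Polynomial IsLocalRing

universe u

section succp

variable {O : Type u} [CommRing O] [IsDomain O] [IsDiscreteValuationRing O]
  {k' : Type u} [Field k'] [Algebra (ResidueField O) k'] {π : O} {p : ℕ}
  {G : Subring (Ksep O × k')}

attribute [local instance] algA

/-- the degree of the polynomial in the successor step is `p` when `a ^ p` is already reached -/
theorem natDegree_eq_of_pow_mem [Fact p.Prime] [CharP k' p] (hπ : Irreducible π)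
    (hG : Good O k' π G) (a : k') (ha : a ∉ (rhoG G).range) (hap : a ^ p ∈ (rhoG G).range)
    (f : (↥G)[X])
    (hfm : f.Monic)
    (hfirr : haveI := isDomainG hG; haveI := isDVR_G hπ hG; Irreducible (f.map (residue ↥G)))
    (hfa : f.eval₂ (rhoG G) a = 0) : f.natDegree = p := by
  haveI := isDomainG hG
  haveI := isDVR_G hπ hG
  have hρ := ker_rhoG hπ hG
  letI : Algebra (ResidueField ↥G) k' := (rhoBar (rhoG G) hρ).toAlgebra
  obtain ⟨c, hc⟩ := hap
  have hirr2 : Irreducible (X ^ p - C (residue ↥G c) : (ResidueField ↥G)[X]) := by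
    apply X_pow_sub_C_irreducible_of_prime (Fact.out : p.Prime)
    intro b hb
    obtain ⟨b', rfl⟩ := residue_surjective b
    have h1 : (rhoG G b') ^ p = a ^ p := by
      rw [← hc, ← map_pow]
      have := congrArg (rhoBar (rhoG G) hρ) hb
      rw [← map_pow] at this
      exact this
    have h2 : (rhoG G b' - a) ^ p = 0 := by rw [sub_pow_char, h1, sub_self]
    have h3 : rhoG G b' = a := sub_eq_zero.1 (pow_eq_zero_iff (Fact.out : p.Prime).ne_zero |>.1 h2)
    exact ha ⟨b', h3⟩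
  have hint : IsIntegral (ResidueField ↥G) a := by
    refine ⟨f.map (residue ↥G), hfm.map _, ?_⟩
    rw [eval₂_eq (rhoG G) hρ a f] at hfa
    exact hfa
  have h1 : f.map (residue ↥G) = minpoly (ResidueField ↥G) a := by
    apply minpoly.eq_of_irreducible_of_monic hfirr _ (hfm.map _)
    rw [eval₂_eq (rhoG G) hρ a f] at hfa
    exact hfa
  have h2 : (X ^ p - C (residue ↥G c) : (ResidueField ↥G)[X]) = minpoly (ResidueField ↥G) a := by
    apply minpoly.eq_of_irreducible_of_monic hirr2 _ (monic_X_pow_sub_C _ (Fact.out : p.Prime).ne_zero)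
    rw [map_sub, map_pow, aeval_X, aeval_C]
    change a ^ p - rhoBar (rhoG G) hρ (residue ↥G c) = 0
    rw [rhoBar_residue, hc, sub_self]
  have h3 : (f.map (residue ↥G)).natDegree = f.natDegree := hfm.natDegree_map _
  rw [← h3, h1, ← h2, natDegree_X_pow_sub_C]

theorem exists_succ' [Algebra.IsAlgebraic (ResidueField O) k'] [Fact p.Prime] [CharP k' p]
    (hπ : Irreducible π) (hG : Good' O k' π p G) (a : k') (ha : a ∉ (rhoG G).range)
    (hap : a ^ p ∈ (rhoG G).range) :
    ∃ G' : Subring (Ksep O × k'), Good' O k' π p G' ∧ G ≤ G' ∧ ∃ g ∈ G', g.2 = a := by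
  classical
  haveI := isDomainG hG.toGood
  haveI := isDVR_G hπ hG.toGood
  obtain ⟨f, Ψ, hfm, hfirr, hfa, hΨof, hΨinj, hΨroot, hgood, hle⟩ :=
    exists_succ_data hπ hG.toGood a
  have hdeg : f.natDegree = p := natDegree_eq_of_pow_mem hπ hG.toGood a ha hap f hfm hfirr hfa
  refine ⟨Ψ.range, ⟨hgood, fun s hs => ?_⟩, hle, ⟨Ψ (AdjoinRoot.root f), ⟨_, rfl⟩, hΨroot⟩⟩
  have hq : ∀ x ∈ s, ∃ q : (↥G)[X], Ψ (AdjoinRoot.mk f q) = x := by
    intro x hx
    obtain ⟨y, rfl⟩ := hs hx
    obtain ⟨q, rfl⟩ := AdjoinRoot.mk_surjective y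
    exact ⟨q, rfl⟩
  choose! q hq using hq
  let cf : (↥G)[X] → Finset (Ksep O × k') := fun g =>
    g.support.image (fun n => ((g.coeff n : ↥G) : Ksep O × k'))
  let t : Finset (Ksep O × k') := s.biUnion (fun x => cf (q x)) ∪ cf f
  have hcfG : ∀ g : (↥G)[X], (↑(cf g) : Set (Ksep O × k')) ⊆ G := by
    intro g y hy
    obtain ⟨n, -, rfl⟩ := Finset.mem_image.1 hy
    exact (g.coeff n).2
  have htG : (↑t : Set (Ksep O × k')) ⊆ G := by
    intro y hy
    rcases Finset.mem_union.1 hy with h | h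
    · obtain ⟨x, -, hyx⟩ := Finset.mem_biUnion.1 h
      exact hcfG _ hyx
    · exact hcfG _ h
  obtain ⟨S₀, hS₀G, htS₀, hfin, hfree, m, hm⟩ := hG.dir t htG
  have hcoef : ∀ g : (↥G)[X], cf g ⊆ t → ∀ n, ((g.coeff n : ↥G) : Ksep O × k') ∈ S₀ := by
    intro g hg n
    by_cases hn : n ∈ g.support
    · exact htS₀ (hg (Finset.mem_image.2 ⟨n, hn, rfl⟩))
    · rw [Polynomial.notMem_support_iff.1 hn]
      exact S₀.zero_mem
  have hfc : ∀ n, ((f.coeff n : ↥G) : Ksep O × k') ∈ S₀ :=
    hcoef f Finset.subset_union_right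
  obtain ⟨S, hSle, hSmem, h1, h2, h3⟩ :=
    exists_subalgebra_adjoin G S₀ hS₀G f hfm hfc Ψ hΨof hΨinj
  refine ⟨S, hSle, fun x hx => ?_, h1, h2, m + 1, ?_⟩
  · rw [← hq x hx]
    refine hSmem (q x) (hcoef (q x) ?_)
    exact (Finset.subset_biUnion_of_mem (fun x => cf (q x)) hx).trans Finset.subset_union_left
  · rw [h3, hm, hdeg, pow_succ]

end succp

end Groth.Agent.Helper7.Gonf
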