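import Mathlib
import Groth.Agent.Helper7.GonfJ

set_option autoImplicit false

namespace Groth.Agent.Helper7.Gonf

open Polynomial IsLocalRing

universe u

section mainp

variable {O : Type u} [CommRing O] [IsDomain O] [IsDiscreteValuationRing O]
  {k' : Type u} [Field k'] [Algebra (ResidueField O) k'] {π : O} {p : ℕ}

attribute [local instance] algA

theorem range_algebraMap_le_range_rhoG {G : Subring (Ksep O × k')} (hG : Good O k' π G) :
    (algebraMap (ResidueField O) k').range ≤ (rhoG G).range := by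
  rintro _ ⟨c, rfl⟩
  obtain ⟨c', rfl⟩ := residue_surjective c
  exact ⟨phiG hG c', rfl⟩

theorem exists_good'_surjective [Fact p.Prime] [CharP k' p]
    (hpi : ∀ y : k', ∃ m : ℕ, y ^ (p ^ m) ∈ (algebraMap (ResidueField O) k').range)
    (hπ : Irreducible π) :
    ∃ G : Subring (Ksep O × k'), Good' O k' π p G ∧ Function.Surjective (rhoG G) := by
  classical
  haveI : Algebra.IsAlgebraic (ResidueField O) k' := by
    refine ⟨fun y => ?_⟩
    obtain ⟨m, c, hc⟩ := hpi y
    apply IsIntegral.isAlgebraic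
    refine ⟨X ^ (p ^ m) - C c, monic_X_pow_sub_C _ (pow_ne_zero _ (Fact.out : p.Prime).ne_zero), ?_⟩
    rw [eval₂_sub, eval₂_pow, eval₂_X, eval₂_C, hc, sub_self]
  obtain ⟨G, hG, hmax⟩ := exists_maximal' (O := O) (k' := k') (p := p) hπ
  refine ⟨G, hG, fun b => ?_⟩
  by_contra hb
  have hb' : b ∉ (rhoG G).range := hb
  have hex : ∃ m : ℕ, b ^ (p ^ m) ∈ (rhoG G).range := by
    obtain ⟨m, hm⟩ := hpi b
    exact ⟨m, range_algebraMap_le_range_rhoG hG.toGood hm⟩
  have hmin : ∀ {m : ℕ}, m < Nat.find hex → b ^ (p ^ m) ∉ (rhoG G).range :=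
    fun {m} hm => Nat.find_min hex hm
  have hspec := Nat.find_spec hex
  rcases Nat.eq_zero_or_pos (Nat.find hex) with h0 | hpos
  · rw [h0, pow_zero, pow_one] at hspec
    exact hb' hspec
  · obtain ⟨n, hn⟩ : ∃ n, Nat.find hex = n + 1 := ⟨Nat.find hex - 1, by omega⟩
    have ha : b ^ (p ^ n) ∉ (rhoG G).range := hmin (by omega)
    have hap : (b ^ (p ^ n)) ^ p ∈ (rhoG G).range := by
      rw [← pow_mul, ← pow_succ, ← hn]
      exact hspec
    obtain ⟨G', hG', hle, g, hg, hga⟩ := exists_succ' hπ hG (b ^ (p ^ n)) ha hap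
    exact ha ⟨⟨g, hmax hG' hle hg⟩, hga⟩

end mainp

end Groth.Agent.Helper7.Gonf
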