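import Mathlib
import Groth.Agent.Helper7.GonfK
import Groth.Agent.Helper2.HensInt

set_option autoImplicit false

namespace Groth.Agent.Helper7.Gonf

open Polynomial IsLocalRing

universe u

section final

variable {O : Type u} [CommRing O] [IsDomain O] [IsDiscreteValuationRing O]
  {k' : Type u} [Field k'] [Algebra (ResidueField O) k'] {π : O} {p : ℕ}
  {G : Subring (Ksep O × k')}

attribute [local instance] algA

/-- the algebra structure on an admissible subring -/
@[reducible] noncomputable def algG (hG : Good O k' π G) : Algebra O ↥G := (phiG hG).toAlgebra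

/-- the inclusion of an admissible subring as an algebra map -/
noncomputable def valA (hG : Good O k' π G) :
    letI := algG hG
    ↥G →ₐ[O] (Ksep O × k') :=
  letI := algG hG
  { G.subtype with commutes' := fun _ => rfl }

theorem valA_apply (hG : Good O k' π G) (x : ↥G) :
    letI := algG hG
    valA hG x = (x : Ksep O × k') := rfl

theorem isIntegral_of_good' (hG : Good' O k' π p G) :
    letI := algG hG.toGood
    Algebra.IsIntegral O ↥G := by
  letI := algG hG.toGood
  refine ⟨fun x => ?_⟩
  obtain ⟨S, -, hxS, hfin, -, -⟩ := hG.dir {(x : Ksep O × k')} (by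
    intro y hy
    rw [Finset.coe_singleton, Set.mem_singleton_iff] at hy
    rw [hy]; exact x.2)
  have hx : (x : Ksep O × k') ∈ S := hxS (by simp)
  haveI := hfin
  have h1 : IsIntegral O (⟨(x : Ksep O × k'), hx⟩ : S) := IsIntegral.of_finite O _
  have h2 : IsIntegral O (x : Ksep O × k') := h1.map S.val
  have hinj : Function.Injective (valA hG.toGood) := fun a b hab => Subtype.ext hab
  exact (isIntegral_algHom_iff (valA hG.toGood) hinj).1 h2

theorem exists_subalgebra_of_good' (hG : Good' O k' π p G) (s : Finset ↥G) :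
    letI := algG hG.toGood
    ∃ S : Subalgebra O ↥G, (↑s : Set ↥G) ⊆ ↑S ∧ Module.Finite O S ∧ Module.Free O S ∧
      ∃ m : ℕ, Module.finrank O S = p ^ m := by
  classical
  letI := algG hG.toGood
  obtain ⟨S, hSG, hsS, hfin, hfree, m, hm⟩ := hG.dir (s.image Subtype.val) (by
    intro y hy
    obtain ⟨x, -, rfl⟩ := Finset.mem_image.1 hy
    exact x.2)
  let S' : Subalgebra O ↥G := S.comap (valA hG.toGood)
  let e : S' ≃ₗ[O] S :=
    { toFun := fun x => ⟨(x.1 : Ksep O × k'), x.2⟩
      map_add' := fun _ _ => rfl
      map_smul' := fun _ _ => rfl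
      invFun := fun y => ⟨⟨y.1, hSG y.2⟩, y.2⟩
      left_inv := fun _ => rfl
      right_inv := fun _ => rfl }
  refine ⟨S', ?_, Module.Finite.equiv e.symm, Module.Free.of_equiv e.symm, m, ?_⟩
  · intro x hx
    exact hsS (Finset.mem_image.2 ⟨x, hx, rfl⟩)
  · rw [e.finrank_eq, hm]

end final

end Groth.Agent.Helper7.Gonf
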