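import Mathlib
import Groth.Agent.Helper7.GonfL

set_option autoImplicit false

namespace Groth.Agent.Helper7.Gonf

open Polynomial IsLocalRing

universe u

attribute [local instance] algA

theorem s16360_zero (R : Type u) [CommRing R] [IsDomain R]
    [IsDiscreteValuationRing R] [HenselianLocalRing R] :
    ∃ (R' : Type u) (_ : CommRing R') (_ : IsDomain R') (_ : IsDiscreteValuationRing R')
      (_ : HenselianLocalRing R') (_ : Algebra R R'),
      Function.Injective (algebraMap R R') ∧
      Ideal.map (algebraMap R R') (IsLocalRing.maximalIdeal R) = IsLocalRing.maximalIdeal R' ∧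
      (∀ s : Finset R', ∃ S : Subalgebra R R', (↑s : Set R') ⊆ ↑S ∧ Module.Finite R S ∧
        Module.Free R S ∧ ∃ m : ℕ, Module.finrank R S = 1 ^ m) ∧
      (∀ y : R', ∃ z : R', z ^ 1 - y ∈ IsLocalRing.maximalIdeal R') ∧
      (∀ y : R', ∃ (m : ℕ) (z : R),
        algebraMap R R' z - y ^ (1 ^ m) ∈ IsLocalRing.maximalIdeal R') := by
  refine ⟨R, inferInstance, inferInstance, inferInstance, inferInstance, Algebra.id R,
    Function.injective_id, Ideal.map_id _, fun s => ?_, fun y => ⟨y, ?_⟩, fun y => ⟨0, y, ?_⟩⟩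
  · let e : (⊤ : Subalgebra R R) ≃ₐ[R] R := Subalgebra.topEquiv
    refine ⟨⊤, fun x _ => Algebra.mem_top, Module.Finite.equiv e.symm.toLinearEquiv,
      Module.Free.of_equiv e.symm.toLinearEquiv, 0, ?_⟩
    rw [e.toLinearEquiv.finrank_eq, Module.finrank_self, pow_zero]
  · rw [pow_one, sub_self]; exact Ideal.zero_mem _
  · rw [pow_zero, pow_one]
    change y - y ∈ _
    rw [sub_self]; exact Ideal.zero_mem _

theorem s16360_prime (R : Type u) [CommRing R] [IsDomain R]
    [IsDiscreteValuationRing R] [HenselianLocalRing R] (p : ℕ) (hp : p.Prime)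
    [CharP (ResidueField R) p] :
    ∃ (R' : Type u) (_ : CommRing R') (_ : IsDomain R') (_ : IsDiscreteValuationRing R')
      (_ : HenselianLocalRing R') (_ : Algebra R R'),
      Function.Injective (algebraMap R R') ∧
      Ideal.map (algebraMap R R') (IsLocalRing.maximalIdeal R) = IsLocalRing.maximalIdeal R' ∧
      (∀ s : Finset R', ∃ S : Subalgebra R R', (↑s : Set R') ⊆ ↑S ∧ Module.Finite R S ∧
        Module.Free R S ∧ ∃ m : ℕ, Module.finrank R S = p ^ m) ∧
      (∀ y : R', ∃ z : R', z ^ p - y ∈ IsLocalRing.maximalIdeal R') ∧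
      (∀ y : R', ∃ (m : ℕ) (z : R),
        algebraMap R R' z - y ^ (p ^ m) ∈ IsLocalRing.maximalIdeal R') := by
  haveI : Fact p.Prime := ⟨hp⟩
  let k' := PerfectClosure (ResidueField R) p
  letI : Algebra (ResidueField R) k' := (PerfectClosure.of (ResidueField R) p).toAlgebra
  have hpi : ∀ y : k', ∃ m : ℕ, y ^ (p ^ m) ∈ (algebraMap (ResidueField R) k').range := by
    intro y
    obtain ⟨⟨n, x⟩, rfl⟩ := PerfectClosure.mk_surjective (ResidueField R) p y
    refine ⟨n, x, ?_⟩
    rw [← iterate_frobenius, PerfectClosure.iterate_frobenius_mk]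
    rfl
  obtain ⟨π, hπ⟩ := IsDiscreteValuationRing.exists_irreducible R
  obtain ⟨G, hG, hsurj⟩ := exists_good'_surjective (O := R) (k' := k') (p := p) hpi hπ
  haveI dom := isDomainG hG.toGood
  haveI dvr := isDVR_G hπ hG.toGood
  letI alg : Algebra R ↥G := algG hG.toGood
  haveI := isIntegral_of_good' hG
  have hens : HenselianLocalRing ↥G := Helper2.HensInt.henselianLocalRing_of_isIntegral R ↥G
  have hker := ker_rhoG hπ hG.toGood
  refine ⟨↥G, inferInstance, dom, dvr, hens, alg, phiG_injective hG.toGood, ?_,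
    exists_subalgebra_of_good' hG, fun y => ?_, fun y => ?_⟩
  · change Ideal.map (phiG hG.toGood) (maximalIdeal R) = _
    rw [hπ.maximalIdeal_eq, Ideal.map_span, Set.image_singleton,
      (irreducible_pi hπ hG.toGood).maximalIdeal_eq]
  · obtain ⟨w, hw⟩ := (surjective_frobenius k' p) (rhoG G y)
    obtain ⟨z, rfl⟩ := hsurj w
    refine ⟨z, ?_⟩
    rw [← hker, RingHom.mem_ker, map_sub, map_pow, ← hw, frobenius_def, sub_self]
  · obtain ⟨m, c, hc⟩ := hpi (rhoG G y)
    obtain ⟨c', rfl⟩ := residue_surjective c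
    refine ⟨m, c', ?_⟩
    rw [← hker, RingHom.mem_ker, map_sub, map_pow, ← hc]
    change rhoG G (phiG hG.toGood c') - _ = 0
    rw [rhoG_phiG, sub_self]

theorem s16360 (R : Type u) [CommRing R] [IsDomain R]
    [IsDiscreteValuationRing R] [HenselianLocalRing R] :
    ∃ (R' : Type u) (_ : CommRing R') (_ : IsDomain R') (_ : IsDiscreteValuationRing R')
      (_ : HenselianLocalRing R') (_ : Algebra R R'),
      Function.Injective (algebraMap R R') ∧
      Ideal.map (algebraMap R R') (IsLocalRing.maximalIdeal R) = IsLocalRing.maximalIdeal R' ∧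
      (∀ s : Finset R', ∃ S : Subalgebra R R', (↑s : Set R') ⊆ ↑S ∧ Module.Finite R S ∧
        Module.Free R S ∧
        ∃ m : ℕ, Module.finrank R S = ringExpChar (IsLocalRing.ResidueField R) ^ m) ∧
      (∀ y : R', ∃ z : R',
        z ^ ringExpChar (IsLocalRing.ResidueField R) - y ∈ IsLocalRing.maximalIdeal R') ∧
      (∀ y : R', ∃ (m : ℕ) (z : R),
        algebraMap R R' z - y ^ (ringExpChar (IsLocalRing.ResidueField R) ^ m) ∈
          IsLocalRing.maximalIdeal R') := by
  have hexp : ExpChar (ResidueField R) (ringExpChar (ResidueField R)) := inferInstance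
  generalize ringExpChar (ResidueField R) = q at hexp ⊢
  cases hexp with
  | zero => exact s16360_zero R
  | prime hprime => exact s16360_prime R q hprime

end Groth.Agent.Helper7.Gonf
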