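import Mathlib
import Groth.Prelude.Def_CycDet
import Groth.Agent.Helper8.CycD
import Groth.Agent.Helper6.Dim1MinPrimes

/-!
# Good sequences at a minimal prime of the support

Helper library for S1852.
-/

namespace Groth.Agent.Helper7.GoodSeq

open CycDet Groth.Agent.Helper8.CycD Groth.Agent.Helper6.Dim1

universe u

variable {R : Type u} [CommRing R] [IsLocalRing R] {M : Type u} [AddCommGroup M] [Module R M]

/-- The length of the localization at `q`. -/
noncomputable abbrev ell (q : Ideal R) [q.IsPrime] (N : Type u) [AddCommGroup N] [Module R N] :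
    ℕ∞ :=
  Module.length (Localization q.primeCompl) (LocalizedModule q.primeCompl N)

/-- `ℕ`-indexed form of the successive-quotient condition. -/
def Good (q : Ideal R) {l : ℕ} (x : Fin l → M) : Prop :=
  ∀ i : ℕ, i < l → Nonempty ((↥(spanBefore R M x (i + 1)) ⧸
    (spanBefore R M x i).submoduleOf (spanBefore R M x (i + 1))) ≃ₗ[R] (R ⧸ q))

omit [IsLocalRing R] in
theorem ell_step (q : Ideal R) [q.IsPrime] (N N' : Submodule R M) (h : N ≤ N')
    (e : (↥N' ⧸ N.submoduleOf N') ≃ₗ[R] (R ⧸ q)) : ell q ↥N' = ell q ↥N + 1 := by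
  have hex : Function.Exact (Submodule.inclusion h) (N.submoduleOf N').mkQ := by
    rw [LinearMap.exact_iff, Submodule.ker_mkQ, Submodule.range_inclusion]
    rfl
  have h1 := length_localized_add q.primeCompl (Submodule.inclusion h) (N.submoduleOf N').mkQ
    (Submodule.inclusion_injective h) (Submodule.mkQ_surjective _) hex
  rw [ell, h1, length_localized_congr q.primeCompl e, length_localized_quot_self]

omit [IsLocalRing R] in
theorem ell_total (q : Ideal R) [q.IsPrime] (N : Submodule R M) :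
    ell q M = ell q ↥N + ell q (M ⧸ N) :=
  length_localized_add q.primeCompl N.subtype N.mkQ N.injective_subtype
    (Submodule.mkQ_surjective _) (LinearMap.exact_subtype_mkQ N)

omit [IsLocalRing R] in
theorem ell_eq_zero_iff (q : PrimeSpectrum R) (N : Type u) [AddCommGroup N] [Module R N] :
    ell q.asIdeal N = 0 ↔ q ∉ Module.support R N := by
  rw [Module.notMem_support_iff, ell, Module.length_eq_zero_iff]

theorem spanBefore_zero {l : ℕ} (x : Fin l → M) : spanBefore R M x 0 = ⊥ := by
  rw [spanBefore]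
  have : {j : Fin l | (j : ℕ) < 0} = ∅ := by
    ext j; simp
  rw [this, Set.image_empty, Submodule.span_empty]

theorem spanBefore_top {l : ℕ} (x : Fin l → M) :
    spanBefore R M x l = Submodule.span R (Set.range x) := by
  rw [spanBefore]
  have : {j : Fin l | (j : ℕ) < l} = Set.univ := by
    ext j; simp
  rw [this, Set.image_univ]

theorem ell_spanBefore (q : Ideal R) [q.IsPrime] {l : ℕ} (x : Fin l → M) (hx : Good q x) :
    ∀ i : ℕ, i ≤ l → ell q ↥(spanBefore R M x i) = i := by
  intro i
  induction i with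
  | zero =>
    intro _
    rw [spanBefore_zero, Nat.cast_zero, ell, Module.length_eq_zero_iff,
      LocalizedModule.subsingleton_iff]
    intro m
    exact ⟨1, Submonoid.one_mem _, Subsingleton.elim _ _⟩
  | succ i ih =>
    intro hi
    obtain ⟨e⟩ := hx i hi
    rw [ell_step q _ _ (spanBefore_mono R M x (Nat.le_succ i)) e, ih (Nat.le_of_succ_le hi)]
    push_cast
    rfl

theorem ell_eq_of_good (q : PrimeSpectrum R) {l : ℕ} (x : Fin l → M) (hx : Good q.asIdeal x)
    (hs : q ∉ Module.support R (M ⧸ Submodule.span R (Set.range x))) :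
    (l : ℕ∞) = ell q.asIdeal M := by
  rw [ell_total q.asIdeal (Submodule.span R (Set.range x)), (ell_eq_zero_iff q _).mpr hs, add_zero,
    ← spanBefore_top, ell_spanBefore q.asIdeal x hx l le_rfl]

section snoc

variable {l : ℕ} (x : Fin l → M) (y : M)

theorem spanBefore_snoc_of_le {i : ℕ} (hi : i ≤ l) :
    spanBefore R M (Fin.snoc x y : Fin (l + 1) → M) i = spanBefore R M x i := by
  rw [spanBefore, spanBefore]
  congr 1
  ext m
  constructor
  · rintro ⟨j, hj, rfl⟩
    have hjl : (j : ℕ) < l := lt_of_lt_of_le hj hi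
    refine ⟨⟨j, hjl⟩, hj, ?_⟩
    have h1 : (Fin.snoc x y : Fin (l + 1) → M) (Fin.castSucc ⟨j, hjl⟩) = x ⟨j, hjl⟩ :=
      Fin.snoc_castSucc (α := fun _ => M) y x ⟨j, hjl⟩
    rw [← h1]
    rfl
  · rintro ⟨j, hj, rfl⟩
    refine ⟨Fin.castSucc j, hj, ?_⟩
    rw [Fin.snoc_castSucc]

theorem spanBefore_snoc_last :
    spanBefore R M (Fin.snoc x y : Fin (l + 1) → M) (l + 1) =
      spanBefore R M x l ⊔ Submodule.span R {y} := by
  have h := spanBefore_succ R M (Fin.snoc x y : Fin (l + 1) → M) (Fin.last l)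
  rw [Fin.val_last, Fin.snoc_last, spanBefore_snoc_of_le x y le_rfl] at h
  exact h

end snoc

omit [IsLocalRing R] in
/-- The successive quotient for one new generator whose class has annihilator `q`. -/
theorem nonempty_equiv_of_colon (q : Ideal R) (N : Submodule R M) (y : M)
    (hy : ∀ r : R, r ∈ q ↔ r • y ∈ N) :
    Nonempty ((↥(N ⊔ Submodule.span R {y}) ⧸ N.submoduleOf (N ⊔ Submodule.span R {y})) ≃ₗ[R]
      (R ⧸ q)) := by
  set N' := N ⊔ Submodule.span R {y} with hN'
  have hyN' : y ∈ N' := Submodule.mem_sup_right (Submodule.mem_span_singleton_self y)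
  let f : R →ₗ[R] (↥N' ⧸ N.submoduleOf N') :=
    (N.submoduleOf N').mkQ ∘ₗ LinearMap.toSpanSingleton R ↥N' ⟨y, hyN'⟩
  have hsurj : Function.Surjective f := by
    intro z
    obtain ⟨⟨n', hn'⟩, rfl⟩ := Submodule.mkQ_surjective _ z
    obtain ⟨n, hn, w, hw, rfl⟩ := Submodule.mem_sup.mp hn'
    obtain ⟨r, rfl⟩ := Submodule.mem_span_singleton.mp hw
    refine ⟨r, ?_⟩
    change (N.submoduleOf N').mkQ (r • ⟨y, hyN'⟩) = (N.submoduleOf N').mkQ ⟨n + r • y, hn'⟩
    rw [eq_comm, Submodule.mkQ_apply, Submodule.mkQ_apply, Submodule.Quotient.eq]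
    change _ ∈ N
    simpa using hn
  have hker : LinearMap.ker f = q := by
    ext r
    rw [LinearMap.mem_ker, hy]
    change (N.submoduleOf N').mkQ (r • ⟨y, hyN'⟩) = 0 ↔ _
    rw [Submodule.mkQ_apply, Submodule.Quotient.mk_eq_zero]
    rfl
  exact ⟨((Submodule.quotEquivOfEq _ _ hker).symm ≪≫ₗ f.quotKerEquivOfSurjective hsurj).symm⟩

end Groth.Agent.Helper7.GoodSeq
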