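import Groth.Agent.Helper7.GoodSeqA

/-!
# Existence of good sequences (S1852)
-/

namespace Groth.Agent.Helper7.GoodSeq

open CycDet Groth.Agent.Helper8.CycD

universe u

variable {R : Type u} [CommRing R] [IsNoetherianRing R] [IsLocalRing R]
variable {M : Type u} [AddCommGroup M] [Module R M] [Module.Finite R M]

omit [IsLocalRing R] in
/-- If `q` is minimal in the support of `M` and lies in the support of `M ⧸ N`, some class in
`M ⧸ N` has annihilator exactly `q`. -/
theorem exists_colon_eq (q : PrimeSpectrum R)
    (hq : Minimal (fun p : PrimeSpectrum R => p ∈ Module.support R M) q) (N : Submodule R M)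
    (hN : q ∈ Module.support R (M ⧸ N)) :
    ∃ y : M, ∀ r : R, r ∈ q.asIdeal ↔ r • y ∈ N := by
  have hsub : Module.support R (M ⧸ N) ⊆ Module.support R M :=
    Module.support_subset_of_surjective N.mkQ (Submodule.mkQ_surjective N)
  have hmin : q.asIdeal ∈ (Module.annihilator R (M ⧸ N)).minimalPrimes := by
    rw [Module.support_eq_zeroLocus, PrimeSpectrum.mem_zeroLocus] at hN
    refine ⟨⟨q.isPrime, hN⟩, ?_⟩
    rintro p' ⟨hp', hann⟩ hle
    have h1 : (⟨p', hp'⟩ : PrimeSpectrum R) ∈ Module.support R (M ⧸ N) := by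
      rw [Module.support_eq_zeroLocus, PrimeSpectrum.mem_zeroLocus]
      exact hann
    have h2 : q ≤ ⟨p', hp'⟩ := hq.le_of_le (hsub h1) hle
    exact h2
  have hass := Module.associatedPrimes.minimalPrimes_annihilator_subset_associatedPrimes R (M ⧸ N)
    hmin
  obtain ⟨-, ybar, hy⟩ := isAssociatedPrime_iff.mp hass
  obtain ⟨y, rfl⟩ := Submodule.mkQ_surjective N ybar
  refine ⟨y, fun r => ?_⟩
  rw [hy, Submodule.mem_colon_singleton, Submodule.mem_bot, ← map_smul, Submodule.mkQ_apply,
    Submodule.Quotient.mk_eq_zero]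

theorem exists_good_from (q : PrimeSpectrum R)
    (hq : Minimal (fun p : PrimeSpectrum R => p ∈ Module.support R M) q) (N : Submodule R M) :
    ∀ (l : ℕ) (x : Fin l → M), Good q.asIdeal x → spanBefore R M x l = N →
      ∃ (l' : ℕ) (x' : Fin l' → M), Good q.asIdeal x' ∧
        q ∉ Module.support R (M ⧸ Submodule.span R (Set.range x')) := by
  induction N using IsNoetherian.induction with
  | hgt N ih =>
    intro l x hx hN
    by_cases hsupp : q ∈ Module.support R (M ⧸ N)
    · obtain ⟨y, hy⟩ := exists_colon_eq q hq N hsupp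
      have hyN : y ∉ N := by
        intro h
        have : (1 : R) ∈ q.asIdeal := (hy 1).mpr (by rwa [one_smul])
        exact q.isPrime.ne_top ((Ideal.eq_top_iff_one _).mpr this)
      have hlt : N < N ⊔ Submodule.span R {y} := by
        refine lt_of_le_of_ne le_sup_left fun h => hyN ?_
        rw [h]
        exact Submodule.mem_sup_right (Submodule.mem_span_singleton_self y)
      refine ih _ hlt (l + 1) (Fin.snoc x y : Fin (l + 1) → M) ?_ ?_
      · intro i hi
        rcases Nat.lt_succ_iff_lt_or_eq.mp hi with h | h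
        · rw [spanBefore_snoc_of_le x y (Nat.succ_le_of_lt h), spanBefore_snoc_of_le x y h.le]
          exact hx i h
        · subst h
          rw [spanBefore_snoc_last, spanBefore_snoc_of_le x y le_rfl, hN]
          exact nonempty_equiv_of_colon q.asIdeal N y hy
      · rw [spanBefore_snoc_last, hN]
    · refine ⟨l, x, hx, ?_⟩
      rwa [← spanBefore_top, hN]

theorem exists_good (q : PrimeSpectrum R)
    (hq : Minimal (fun p : PrimeSpectrum R => p ∈ Module.support R M) q) :
    ∃ (l : ℕ) (x : Fin l → M), Good q.asIdeal x ∧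
      q ∉ Module.support R (M ⧸ Submodule.span R (Set.range x)) :=
  exists_good_from q hq ⊥ 0 (Fin.elim0) (fun i hi => absurd hi (Nat.not_lt_zero i))
    (spanBefore_zero _)

end Groth.Agent.Helper7.GoodSeq
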