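import Mathlib
import Groth.Agent.Helper7.CanDuD

set_option autoImplicit false
universe u

/-!
# Duality of lattices in `K^n` with respect to a canonical ideal (dimension one)
-/

namespace Groth.Agent.Helper7.CanDu

open CategoryTheory Function IsLocalRing
open scoped Pointwise
open Groth.Agent.Helper6.Dim1

variable {O : Type u} [CommRing O] [IsDomain O] {K : Type u} [Field K] [Algebra O K]
  [IsFractionRing O K] {n : ℕ}

/-- the standard lattice `O^n ⊆ K^n` -/
def stdL (O : Type u) [CommRing O] (K : Type u) [Field K] [Algebra O K] (n : ℕ) :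
    Submodule O (Fin n → K) :=
  Submodule.pi Set.univ (fun _ : Fin n => (1 : Submodule O K))

theorem mem_stdL {v : Fin n → K} : v ∈ stdL O K n ↔ ∀ i, v i ∈ (1 : Submodule O K) := by
  simp [stdL, Submodule.mem_pi]

/-- the dual lattice -/
def dualL (ω : Submodule O K) (L : Submodule O (Fin n → K)) : Submodule O (Fin n → K) where
  carrier := {x | ∀ l ∈ L, x ⬝ᵥ l ∈ ω}
  add_mem' := by
    intro a b ha hb l hl
    rw [add_dotProduct]
    exact ω.add_mem (ha l hl) (hb l hl)
  zero_mem' := by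
    intro l _
    rw [zero_dotProduct]
    exact ω.zero_mem
  smul_mem' := by
    intro r x hx l hl
    rw [smul_dotProduct]
    exact ω.smul_mem r (hx l hl)

theorem mem_dualL {ω : Submodule O K} {L : Submodule O (Fin n → K)} {x : Fin n → K} :
    x ∈ dualL ω L ↔ ∀ l ∈ L, x ⬝ᵥ l ∈ ω := Iff.rfl

theorem dualL_antitone (ω : Submodule O K) {J I : Submodule O (Fin n → K)} (h : J ≤ I) :
    dualL ω I ≤ dualL ω J := fun _ hx l hl => hx l (h hl)

theorem le_dualL_dualL (ω : Submodule O K) (L : Submodule O (Fin n → K)) :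
    L ≤ dualL ω (dualL ω L) := by
  intro l hl x hx
  rw [dotProduct_comm]
  exact hx l hl

theorem dualL_dualL_dualL (ω : Submodule O K) (L : Submodule O (Fin n → K)) :
    dualL ω (dualL ω (dualL ω L)) = dualL ω L :=
  le_antisymm (dualL_antitone ω (le_dualL_dualL ω L)) (le_dualL_dualL ω (dualL ω L))

theorem smul_dualL_smul (ω : Submodule O K) (L : Submodule O (Fin n → K)) {y : O}
    (hy : y ≠ 0) : y • dualL ω (y • L) = dualL ω L := by
  have hyK := algebraMap_ne_zero' (K := K) hy
  ext x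
  rw [Submodule.mem_smul_pointwise_iff_exists]
  constructor
  · rintro ⟨z, hz, rfl⟩
    intro l hl
    have := hz (y • l) (Submodule.smul_mem_pointwise_smul l y L hl)
    rwa [dotProduct_smul, ← smul_dotProduct] at this
  · intro hx
    refine ⟨(algebraMap O K y)⁻¹ • x, ?_, ?_⟩
    · intro l' hl'
      obtain ⟨l, hl, rfl⟩ := (Submodule.mem_smul_pointwise_iff_exists _ _ _).1 hl'
      have e1 : ((algebraMap O K y)⁻¹ • x) ⬝ᵥ (y • l) =
          (algebraMap O K y)⁻¹ * (x ⬝ᵥ (y • l)) := by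
        rw [smul_dotProduct, smul_eq_mul]
      have e2 : x ⬝ᵥ (y • l) = algebraMap O K y * (x ⬝ᵥ l) := by
        rw [dotProduct_smul, Algebra.smul_def]
      have e : ((algebraMap O K y)⁻¹ • x) ⬝ᵥ (y • l) = x ⬝ᵥ l := by
        rw [e1, e2, ← mul_assoc, inv_mul_cancel₀ hyK, one_mul]
      rw [e]
      exact hx l hl
    · rw [← algebraMap_smul K y ((algebraMap O K y)⁻¹ • x), smul_smul, mul_inv_cancel₀ hyK,
        one_smul]

theorem dualL_stdL (ω : Submodule O K) :
    dualL ω (stdL O K n) = Submodule.pi Set.univ (fun _ : Fin n => ω) := by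
  classical
  ext x
  rw [mem_dualL, Submodule.mem_pi]
  constructor
  · intro h i _
    have h1 : (Pi.single i (1 : K) : Fin n → K) ∈ stdL O K n := by
      rw [mem_stdL]
      intro j
      by_cases hj : j = i
      · subst hj
        rw [Pi.single_eq_same]
        exact Submodule.one_le.1 le_rfl
      · rw [Pi.single_eq_of_ne hj]
        exact Submodule.zero_mem _
    have := h _ h1
    rwa [dotProduct_single, mul_one] at this
  · intro h l hl
    rw [mem_stdL] at hl
    unfold dotProduct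
    apply Submodule.sum_mem
    intro i _
    obtain ⟨r, hr⟩ := Submodule.mem_one.1 (hl i)
    rw [← hr, mul_comm, ← Algebra.smul_def]
    exact ω.smul_mem r (h i trivial)

/-- lattices: submodules commensurable with the standard lattice -/
def IsLat (L : Submodule O (Fin n → K)) : Prop :=
  (∃ x : O, x ≠ 0 ∧ x • stdL O K n ≤ L) ∧ (∃ y : O, y ≠ 0 ∧ y • L ≤ stdL O K n)

theorem smul_mono_sub (y : O) {L L' : Submodule O (Fin n → K)} (h : L ≤ L') :
    y • L ≤ y • L' := by
  intro x hx
  obtain ⟨l, hl, rfl⟩ := (Submodule.mem_smul_pointwise_iff_exists _ _ _).1 hx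
  exact Submodule.smul_mem_pointwise_smul l y L' (h hl)

theorem smul_smul_sub (x y : O) (L : Submodule O (Fin n → K)) : x • y • L = (x * y) • L := by
  rw [smul_smul]

theorem smul_le_self_sub (y : O) (L : Submodule O (Fin n → K)) : y • L ≤ L := by
  intro x hx
  obtain ⟨l, hl, rfl⟩ := (Submodule.mem_smul_pointwise_iff_exists _ _ _).1 hx
  exact L.smul_mem y hl

theorem isLat_stdL : IsLat (stdL O K n) :=
  ⟨⟨1, one_ne_zero, by rw [one_smul]⟩, ⟨1, one_ne_zero, by rw [one_smul]⟩⟩

theorem IsLat.smul {L : Submodule O (Fin n → K)} (hL : IsLat L) {y : O} (hy : y ≠ 0) :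
    IsLat (y • L) := by
  obtain ⟨⟨x, hx, hxL⟩, ⟨z, hz, hzL⟩⟩ := hL
  refine ⟨⟨y * x, mul_ne_zero hy hx, ?_⟩, ⟨z, hz, ?_⟩⟩
  · rw [← smul_smul_sub]
    exact smul_mono_sub y hxL
  · rw [smul_comm]
    exact (smul_le_self_sub y _).trans hzL

theorem stdL_fg : (stdL O K n).FG := by
  apply Submodule.fg_pi
  intro i
  exact one_fg

theorem smulLin_injective {y : O} (hy : y ≠ 0) :
    Injective (DistribSMul.toLinearMap O (Fin n → K) y) := by
  intro a b hab
  have h : y • a = y • b := hab
  funext i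
  have hi := congrFun h i
  simp only [Pi.smul_apply] at hi
  have := smul_eq_zero_frac hy (a i - b i) (by rw [smul_sub, hi, sub_self])
  exact sub_eq_zero.1 this

theorem IsLat.fg [IsNoetherianRing O] {L : Submodule O (Fin n → K)} (hL : IsLat L) : L.FG := by
  obtain ⟨-, ⟨y, hy, hyL⟩⟩ := hL
  have h1 : (y • L).FG := Submodule.FG.of_le stdL_fg hyL
  exact Submodule.fg_of_fg_map_injective _ (smulLin_injective hy) h1

theorem IsLat.of_le_of_le {L L₁ L₂ : Submodule O (Fin n → K)} (h1 : IsLat L₁) (h2 : IsLat L₂)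
    (h1L : L₁ ≤ L) (hL2 : L ≤ L₂) : IsLat L := by
  obtain ⟨⟨x, hx, hxL⟩, -⟩ := h1
  obtain ⟨-, ⟨y, hy, hyL⟩⟩ := h2
  exact ⟨⟨x, hx, hxL.trans h1L⟩, ⟨y, hy, (smul_mono_sub y hL2).trans hyL⟩⟩

end Groth.Agent.Helper7.CanDu
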