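import Mathlib
import Groth.Agent.Helper7.LatDuA

set_option autoImplicit false
universe u

/-!
# Duality of lattices in `K^n`: lengths and reflexivity
-/

namespace Groth.Agent.Helper7.CanDu

open CategoryTheory Function IsLocalRing
open scoped Pointwise
open Groth.Agent.Helper6.Dim1

variable {O : Type u} [CommRing O] [IsDomain O] {K : Type u} [Field K] [Algebra O K]
  [IsFractionRing O K] {n : ℕ}

section

variable [IsNoetherianRing O]

/-- `ℓ(L/yL)` is the same for all lattices -/
theorem rl_smul_lat (hdim : ringKrullDim O ≤ 1) {L : Submodule O (Fin n → K)} (hL : IsLat L)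
    {y : O} (hy : y ≠ 0) :
    rl (y • L) L = Module.length O (QuotSMulTop y (Fin n → O)) := by
  have hLfg := hL.fg
  obtain ⟨⟨x, hx, hxL⟩, ⟨z, hz, hzL⟩⟩ := hL
  let emb : (Fin n → O) →ₗ[O] (Fin n → K) := (Algebra.linearMap O K).compLeft (Fin n)
  have hemb : ∀ v : Fin n → O, emb v ∈ stdL O K n := by
    intro v
    rw [mem_stdL]
    intro i
    exact Submodule.mem_one.2 ⟨v i, rfl⟩
  have hemb_surj : ∀ w ∈ stdL O K n, ∃ v : Fin n → O, emb v = w := by
    intro w hw
    rw [mem_stdL] at hw
    choose v hv using fun i => Submodule.mem_one.1 (hw i)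
    exact ⟨v, funext hv⟩
  have hembinj : Injective emb := by
    intro a b hab
    funext i
    exact IsFractionRing.injective O K (congrFun hab i)
  let φ : (Fin n → O) →ₗ[O] ↥L :=
    LinearMap.codRestrict L (x • emb) (fun v =>
      hxL (Submodule.smul_mem_pointwise_smul _ x _ (hemb v)))
  have hφv : ∀ v, ((φ v : ↥L) : Fin n → K) = x • emb v := fun v => rfl
  have hφ : Injective φ := by
    intro a b hab
    have h1 : x • emb a = x • emb b := by rw [← hφv, ← hφv, hab]
    exact hembinj (smulLin_injective hx h1)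
  have hF : LinearMap.ker (T y (Fin n → O)) = ⊥ :=
    ker_T_pi_eq_bot (mem_nonZeroDivisors_of_ne_zero hy) n
  haveI : Module.Finite O ↥L := Module.Finite.iff_fg.mpr hLfg
  have hC : Module.length O (↥L ⧸ LinearMap.range φ) ≠ ⊤ := by
    apply length_ne_top_of_isTorsionBy hdim
      (not_mem_minimalPrimes_of_ne_zero (mul_ne_zero hx hz))
    intro q
    obtain ⟨⟨l, hl⟩, rfl⟩ := Submodule.Quotient.mk_surjective _ q
    rw [← Submodule.Quotient.mk_smul, Submodule.Quotient.mk_eq_zero]
    obtain ⟨v, hv⟩ := hemb_surj (z • l) (hzL (Submodule.smul_mem_pointwise_smul l z L hl))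
    refine ⟨v, ?_⟩
    apply Subtype.ext
    rw [hφv, hv]
    show x • z • l = (x * z) • l
    rw [smul_smul]
  have h := length_quot_eq_of_injective y φ hφ hF hC
  have hker : Module.length O (LinearMap.ker (T y ↥L)) = 0 := by
    apply length_ker_T_eq_zero
    intro l hl
    apply Subtype.ext
    have h1 : y • (l : Fin n → K) = 0 := congrArg Subtype.val hl
    funext i
    have := congrFun h1 i
    exact smul_eq_zero_frac hy _ this
  rw [hker, zero_add] at h
  rw [← h, rl_def]
  have : Submodule.comap L.subtype (y • L) = y • (⊤ : Submodule O ↥L) := by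
    ext ⟨w, hw⟩
    simp only [Submodule.mem_comap, Submodule.subtype_apply,
      Submodule.mem_smul_pointwise_iff_exists]
    constructor
    · rintro ⟨l, hl, rfl⟩
      exact ⟨⟨l, hl⟩, trivial, rfl⟩
    · rintro ⟨⟨l, hl⟩, -, h⟩
      exact ⟨l, hl, congrArg Subtype.val h⟩
  rw [this]

theorem length_quotSMulTop_pi_ne_top (hdim : ringKrullDim O ≤ 1) {y : O} (hy : y ≠ 0) :
    Module.length O (QuotSMulTop y (Fin n → O)) ≠ ⊤ :=
  length_quotSMulTop_ne_top (Fin n → O) hdim (not_mem_minimalPrimes_of_ne_zero hy)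

/-- the dual of a lattice is a lattice -/
theorem IsLat.dual {L : Submodule O (Fin n → K)} (hL : IsLat L) (ω : Submodule O K)
    (hωfg : ω.FG) (hω0 : ω ≠ ⊥) : IsLat (dualL ω L) := by
  obtain ⟨⟨x, hx, hxL⟩, ⟨z, hz, hzL⟩⟩ := hL
  -- `a • 1 ≤ ω` and `b • ω ≤ 1`
  obtain ⟨a, ha, haω⟩ : ∃ a : O, a ≠ 0 ∧ algebraMap O K a ∈ ω := by
    obtain ⟨w, hwω, hw0⟩ := (Submodule.ne_bot_iff ω).1 hω0
    obtain ⟨p, q, hq, rfl⟩ := IsFractionRing.div_surjective (A := O) w
    have hq0 : algebraMap O K q ≠ 0 := algebraMap_ne_zero' (nonZeroDivisors.ne_zero hq)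
    refine ⟨p, ?_, ?_⟩
    · rintro rfl
      rw [map_zero, zero_div] at hw0
      exact hw0 rfl
    · have := ω.smul_mem q hwω
      rwa [Algebra.smul_def, mul_div_cancel₀ _ hq0] at this
  obtain ⟨b, hb, hbω⟩ := exists_smul_le_of_fg (K := K) (1 : Submodule O K) ω hωfg (by
    intro v _
    have : Submodule.span K (((1 : Submodule O K) : Submodule O K) : Set K) = ⊤ := by
      rw [eq_top_iff]
      intro t _
      have ht : t = t • (1 : K) := by rw [smul_eq_mul, mul_one]
      rw [ht]
      exact Submodule.smul_mem _ _ (Submodule.subset_span (Submodule.one_le.1 le_rfl))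
    rw [this]
    trivial)
  constructor
  · -- (z * a) • E ≤ dualL L
    refine ⟨z * a, mul_ne_zero hz ha, ?_⟩
    have h1 : dualL ω (stdL O K n) ≤ dualL ω (z • L) := dualL_antitone ω hzL
    have h2 : z • dualL ω (stdL O K n) ≤ dualL ω L := by
      rw [← smul_dualL_smul ω L hz]
      exact smul_mono_sub z h1
    refine le_trans ?_ h2
    rw [← smul_smul_sub]
    apply smul_mono_sub
    rw [dualL_stdL]
    intro v hv
    obtain ⟨e, he, rfl⟩ := (Submodule.mem_smul_pointwise_iff_exists _ _ _).1 hv
    rw [mem_stdL] at he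
    rw [Submodule.mem_pi]
    intro i _
    obtain ⟨r, hr⟩ := Submodule.mem_one.1 (he i)
    show a • e i ∈ ω
    rw [← hr, Algebra.smul_def, mul_comm, ← Algebra.smul_def]
    exact ω.smul_mem r haω
  · -- (x * b) • dualL L ≤ E
    refine ⟨x * b, mul_ne_zero hx hb, ?_⟩
    have h1 : dualL ω L ≤ dualL ω (x • stdL O K n) := dualL_antitone ω hxL
    have h2 : x • dualL ω L ≤ dualL ω (stdL O K n) := by
      rw [← smul_dualL_smul ω (stdL O K n) hx]
      exact smul_mono_sub x h1
    rw [mul_comm, ← smul_smul_sub]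
    refine le_trans (smul_mono_sub b h2) ?_
    rw [dualL_stdL]
    intro v hv
    obtain ⟨e, he, rfl⟩ := (Submodule.mem_smul_pointwise_iff_exists _ _ _).1 hv
    rw [Submodule.mem_pi] at he
    rw [mem_stdL]
    intro i
    exact hbω (e i) (he i trivial)

end

section Socle

variable [IsNoetherianRing O] [IsLocalRing O]

/-- the basic inequality for lattices -/
theorem rl_dualL_le (ω : Submodule O K)
    (hs : Module.length O (ResidueField O →ₗ[O] K ⧸ ω) = 1) {J I : Submodule O (Fin n → K)}
    (hfin : rl J I ≠ ⊤) : rl (dualL ω I) (dualL ω J) ≤ rl J I := by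
  let Φ : ↥(dualL ω J) →ₗ[O] ((↥I ⧸ Submodule.comap I.subtype J) →ₗ[O] K ⧸ ω) :=
    { toFun := fun x => Submodule.liftQ _
        (ω.mkQ ∘ₗ (LinearMap.restrictScalars O (dotProductBilin K K (x : Fin n → K))) ∘ₗ
          I.subtype) (by
        intro i hi
        rw [LinearMap.mem_ker]
        show ω.mkQ ((x : Fin n → K) ⬝ᵥ (i : Fin n → K)) = 0
        rw [Submodule.mkQ_apply, Submodule.Quotient.mk_eq_zero]
        exact x.2 _ hi)
      map_add' := fun x x' => by
        apply LinearMap.ext
        intro q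
        obtain ⟨i, rfl⟩ := Submodule.Quotient.mk_surjective _ q
        show ω.mkQ (((x + x' : ↥(dualL ω J)) : Fin n → K) ⬝ᵥ (i : Fin n → K)) =
          ω.mkQ ((x : Fin n → K) ⬝ᵥ (i : Fin n → K)) + ω.mkQ ((x' : Fin n → K) ⬝ᵥ (i : Fin n → K))
        rw [← map_add, Submodule.coe_add, add_dotProduct]
      map_smul' := fun r x => by
        apply LinearMap.ext
        intro q
        obtain ⟨i, rfl⟩ := Submodule.Quotient.mk_surjective _ q
        show ω.mkQ (((r • x : ↥(dualL ω J)) : Fin n → K) ⬝ᵥ (i : Fin n → K)) =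
          r • ω.mkQ ((x : Fin n → K) ⬝ᵥ (i : Fin n → K))
        rw [← map_smul, Submodule.coe_smul, smul_dotProduct] }
  have hΦ : ∀ (x : ↥(dualL ω J)) (i : ↥I),
      Φ x (Submodule.Quotient.mk i) = ω.mkQ ((x : Fin n → K) ⬝ᵥ (i : Fin n → K)) :=
    fun _ _ => rfl
  have hker : LinearMap.ker Φ = Submodule.comap (dualL ω J).subtype (dualL ω I) := by
    ext x
    rw [LinearMap.mem_ker, Submodule.mem_comap, Submodule.subtype_apply, mem_dualL]
    constructor
    · intro hx i hi
      have := LinearMap.congr_fun hx (Submodule.Quotient.mk ⟨i, hi⟩)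
      rw [hΦ, LinearMap.zero_apply, Submodule.mkQ_apply, Submodule.Quotient.mk_eq_zero] at this
      exact this
    · intro hx
      apply LinearMap.ext
      intro q
      obtain ⟨i, rfl⟩ := Submodule.Quotient.mk_surjective _ q
      rw [hΦ, LinearMap.zero_apply, Submodule.mkQ_apply, Submodule.Quotient.mk_eq_zero]
      exact hx i i.2
  calc rl (dualL ω I) (dualL ω J) = Module.length O (↥(dualL ω J) ⧸ LinearMap.ker Φ) := by
        rw [hker]; rfl
    _ = Module.length O (LinearMap.range Φ) := (Φ.quotKerEquivRange).length_eq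
    _ ≤ Module.length O ((↥I ⧸ Submodule.comap I.subtype J) →ₗ[O] K ⧸ ω) :=
        Module.length_le_of_injective (Submodule.subtype _) (Submodule.injective_subtype _)
    _ ≤ Module.length O (ResidueField O →ₗ[O] K ⧸ ω) *
          Module.length O (↥I ⧸ Submodule.comap I.subtype J) :=
        length_hom_le _ (Module.length_ne_top_iff.1 hfin)
    _ = rl J I := by rw [hs, one_mul]; rfl

/-- **Duality for lattices** -/
theorem lat_duality (hdim : ringKrullDim O = 1) (ω : Submodule O K) (hωfg : ω.FG)
    (hω0 : ω ≠ ⊥) (h : HasInjectiveDimensionLT (ModuleCat.of O ↥ω) 2)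
    {J I : Submodule O (Fin n → K)} (hJI : J ≤ I) (hJ : IsLat J) (hI : IsLat I) :
    rl (dualL ω I) (dualL ω J) = rl J I := by
  have hs := socle_length_eq_one hdim ω hωfg hω0 h
  obtain ⟨⟨x, hx, hxJ⟩, -⟩ := hJ
  obtain ⟨-, ⟨z, hz, hzI⟩⟩ := hI
  -- y • I ≤ J
  have hy : x * z ≠ 0 := mul_ne_zero hx hz
  have hyIJ : (x * z) • I ≤ J := by
    rw [← smul_smul_sub]
    exact (smul_mono_sub x hzI).trans hxJ
  have hI' : IsLat I := ⟨⟨x, hx, hxJ.trans hJI⟩, ⟨z, hz, hzI⟩⟩
  set y := x * z with hydef
  set N := Module.length O (QuotSMulTop y (Fin n → O)) with hN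
  have hNfin : N ≠ ⊤ := length_quotSMulTop_pi_ne_top hdim.le hy
  have e1 : rl (y • I) I = N := rl_smul_lat hdim.le hI' hy
  have e2 : rl (y • I) I = rl (y • I) J + rl J I := rl_add hyIJ hJI
  have hD1 : dualL ω I ≤ dualL ω J := dualL_antitone ω hJI
  have hD2 : dualL ω J ≤ dualL ω (y • I) := dualL_antitone ω hyIJ
  have e3 : rl (dualL ω I) (dualL ω (y • I)) = N := by
    have := rl_smul_lat hdim.le ((hI'.smul hy).dual ω hωfg hω0) hy
    rwa [smul_dualL_smul ω I hy] at this
  have e4 : rl (dualL ω I) (dualL ω (y • I)) =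
      rl (dualL ω I) (dualL ω J) + rl (dualL ω J) (dualL ω (y • I)) := rl_add hD1 hD2
  have hfin1 : rl J I ≠ ⊤ := by
    intro htop
    rw [e1, htop, add_top] at e2
    exact hNfin e2
  have hfin2 : rl (y • I) J ≠ ⊤ := by
    intro htop
    rw [e1, htop, top_add] at e2
    exact hNfin e2
  have i1 := rl_dualL_le ω hs hfin1
  have i2 := rl_dualL_le ω hs hfin2
  rw [e1] at e2
  rw [e3] at e4
  generalize rl (dualL ω I) (dualL ω J) = a' at *
  generalize rl (dualL ω J) (dualL ω (y • I)) = b' at *
  generalize rl J I = a at *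
  generalize rl (y • I) J = b at *
  clear_value N
  induction N using ENat.recTopCoe with
  | top => exact absurd rfl hNfin
  | coe N =>
    induction a using ENat.recTopCoe with
    | top => exact absurd rfl hfin1
    | coe a =>
      induction b using ENat.recTopCoe with
      | top => exact absurd rfl hfin2
      | coe b =>
        induction a' using ENat.recTopCoe with
        | top => exact absurd (top_le_iff.1 i1) (ENat.natCast_ne_top a)
        | coe a' =>
          induction b' using ENat.recTopCoe with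
          | top => exact absurd (top_le_iff.1 i2) (ENat.natCast_ne_top b)
          | coe b' =>
            have h1 : N = b + a := by exact_mod_cast e2
            have h2 : N = a' + b' := by exact_mod_cast e4
            have h3 : a' ≤ a := by exact_mod_cast i1
            have h4 : b' ≤ b := by exact_mod_cast i2
            have : a' = a := by omega
            rw [this]

/-- reflexivity of lattices -/
theorem dualL_dualL_eq (hdim : ringKrullDim O = 1) (ω : Submodule O K) (hωfg : ω.FG)
    (hω0 : ω ≠ ⊥) (h : HasInjectiveDimensionLT (ModuleCat.of O ↥ω) 2)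
    {L : Submodule O (Fin n → K)} (hL : IsLat L) : dualL ω (dualL ω L) = L := by
  have hle := le_dualL_dualL ω L
  have hL2 : IsLat (dualL ω (dualL ω L)) := (hL.dual ω hωfg hω0).dual ω hωfg hω0
  have hd := lat_duality hdim ω hωfg hω0 h hle hL hL2
  rw [dualL_dualL_dualL, rl_self] at hd
  exact ((rl_eq_zero_iff hle).1 hd.symm).symm

end Socle

end Groth.Agent.Helper7.CanDu
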