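import Mathlib
import Groth.Agent.Helper7.LatDuB

set_option autoImplicit false
universe u

/-!
# `Hom(L, ω) ≅ L^∨` and reflexivity of lattices with respect to `ω`
-/

namespace Groth.Agent.Helper7.CanDu

open CategoryTheory Function IsLocalRing
open scoped Pointwise
open Groth.Agent.Helper6.Dim1

variable {O : Type u} [CommRing O] [IsDomain O] {K : Type u} [Field K] [Algebra O K]
  [IsFractionRing O K] {n : ℕ}

/-- `θ : L^∨ → Hom(L, ω)` -/
def theta (ω : Submodule O K) (L : Submodule O (Fin n → K)) :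
    ↥(dualL ω L) →ₗ[O] (↥L →ₗ[O] ↥ω) where
  toFun x :=
    { toFun := fun l => ⟨(x : Fin n → K) ⬝ᵥ (l : Fin n → K), x.2 l l.2⟩
      map_add' := fun l l' => by
        apply Subtype.ext
        show (x : Fin n → K) ⬝ᵥ ((l : Fin n → K) + (l' : Fin n → K)) = _
        rw [dotProduct_add]
        rfl
      map_smul' := fun r l => by
        apply Subtype.ext
        show (x : Fin n → K) ⬝ᵥ (r • (l : Fin n → K)) = r • ((x : Fin n → K) ⬝ᵥ (l : Fin n → K))
        rw [dotProduct_smul] }
  map_add' x x' := by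
    apply LinearMap.ext
    intro l
    apply Subtype.ext
    show ((x : Fin n → K) + (x' : Fin n → K)) ⬝ᵥ (l : Fin n → K) = _
    rw [add_dotProduct]
    rfl
  map_smul' r x := by
    apply LinearMap.ext
    intro l
    apply Subtype.ext
    show (r • (x : Fin n → K)) ⬝ᵥ (l : Fin n → K) = r • ((x : Fin n → K) ⬝ᵥ (l : Fin n → K))
    rw [smul_dotProduct]

theorem theta_apply (ω : Submodule O K) (L : Submodule O (Fin n → K)) (x : ↥(dualL ω L))
    (l : ↥L) : ((theta ω L x l : ↥ω) : K) = (x : Fin n → K) ⬝ᵥ (l : Fin n → K) := rfl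

/-- scaled standard basis vectors lie in a lattice -/
theorem IsLat.exists_single {L : Submodule O (Fin n → K)} (hL : IsLat L) :
    ∃ x : O, x ≠ 0 ∧ ∀ i : Fin n, (Pi.single i (algebraMap O K x) : Fin n → K) ∈ L := by
  classical
  obtain ⟨⟨x, hx, hxL⟩, -⟩ := hL
  refine ⟨x, hx, fun i => hxL ?_⟩
  rw [Submodule.mem_smul_pointwise_iff_exists]
  refine ⟨Pi.single i 1, ?_, ?_⟩
  · rw [mem_stdL]
    intro j
    by_cases hj : j = i
    · subst hj
      rw [Pi.single_eq_same]
      exact Submodule.one_le.1 le_rfl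
    · rw [Pi.single_eq_of_ne hj]
      exact Submodule.zero_mem _
  · funext j
    by_cases hj : j = i
    · subst hj
      rw [Pi.smul_apply, Pi.single_eq_same, Pi.single_eq_same, Algebra.smul_def, mul_one]
    · rw [Pi.smul_apply, Pi.single_eq_of_ne hj, Pi.single_eq_of_ne hj, smul_zero]

/-- a vector orthogonal to a lattice vanishes -/
theorem eq_zero_of_dotProduct_lat {L : Submodule O (Fin n → K)} (hL : IsLat L)
    (v : Fin n → K) (hv : ∀ l ∈ L, v ⬝ᵥ l = 0) : v = 0 := by
  classical
  obtain ⟨x, hx, hxL⟩ := hL.exists_single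
  funext i
  have := hv _ (hxL i)
  rw [dotProduct_single, mul_eq_zero] at this
  exact this.resolve_right (algebraMap_ne_zero' hx)

theorem theta_injective (ω : Submodule O K) {L : Submodule O (Fin n → K)} (hL : IsLat L) :
    Injective (theta ω L) := by
  rw [injective_iff_map_eq_zero]
  intro x hx
  apply Subtype.ext
  apply eq_zero_of_dotProduct_lat hL
  intro l hl
  have := congrArg Subtype.val (LinearMap.congr_fun hx ⟨l, hl⟩)
  exact this

theorem theta_surjective (ω : Submodule O K) {L : Submodule O (Fin n → K)} (hL : IsLat L) :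
    Surjective (theta ω L) := by
  classical
  intro φ
  obtain ⟨x, hx, hxL⟩ := hL.exists_single
  obtain ⟨-, ⟨y, hy, hyL⟩⟩ := hL
  have hxK := algebraMap_ne_zero' (K := K) hx
  have hyK := algebraMap_ne_zero' (K := K) hy
  let v : Fin n → K := fun i => (algebraMap O K x)⁻¹ * ((φ ⟨_, hxL i⟩ : ↥ω) : K)
  have key : ∀ l : ↥L, ((φ l : ↥ω) : K) = v ⬝ᵥ (l : Fin n → K) := by
    intro l
    -- y • l ∈ stdL
    have h1 := hyL (Submodule.smul_mem_pointwise_smul (l : Fin n → K) y L l.2)
    rw [mem_stdL] at h1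
    choose r hr using fun i => Submodule.mem_one.1 (h1 i)
    -- (x * y) • l = ∑ r_i • (x e_i)
    have h2 : (x * y) • l = ∑ i, r i • (⟨_, hxL i⟩ : ↥L) := by
      apply Subtype.ext
      rw [Submodule.coe_smul, Submodule.coe_sum]
      funext j
      rw [Finset.sum_apply]
      simp only [Submodule.coe_smul, Pi.smul_apply]
      rw [Finset.sum_eq_single j]
      · rw [Pi.single_eq_same, mul_smul]
        have := hr j
        simp only [Pi.smul_apply] at this
        rw [← this, Algebra.smul_def x, Algebra.smul_def (r j), mul_comm]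
      · intro i _ hij
        rw [Pi.single_eq_of_ne (Ne.symm hij), smul_zero]
      · intro h; exact absurd (Finset.mem_univ j) h
    have h3 := congrArg (fun t => ((φ t : ↥ω) : K)) h2
    simp only [map_smul, map_sum, Submodule.coe_smul, Submodule.coe_sum] at h3
    -- right side: ∑ r_i • φ(x e_i) = x * (v ⬝ᵥ (y • l))
    have h4 : ∑ i, r i • ((φ ⟨_, hxL i⟩ : ↥ω) : K) =
        algebraMap O K x * (algebraMap O K y * (v ⬝ᵥ (l : Fin n → K))) := by
      unfold dotProduct
      rw [Finset.mul_sum, Finset.mul_sum]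
      apply Finset.sum_congr rfl
      intro i _
      have := hr i
      simp only [Pi.smul_apply] at this
      rw [Algebra.smul_def (r i), this, Algebra.smul_def y]
      show _ = algebraMap O K x * (algebraMap O K y *
        ((algebraMap O K x)⁻¹ * ((φ ⟨_, hxL i⟩ : ↥ω) : K) * (l : Fin n → K) i))
      field_simp
    rw [h4, Algebra.smul_def, map_mul] at h3
    have h5 : algebraMap O K x * algebraMap O K y ≠ 0 := mul_ne_zero hxK hyK
    apply mul_left_cancel₀ h5
    rw [h3, mul_assoc]
  have hv : v ∈ dualL ω L := by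
    intro l hl
    rw [← key ⟨l, hl⟩]
    exact (φ ⟨l, hl⟩).2
  refine ⟨⟨v, hv⟩, ?_⟩
  apply LinearMap.ext
  intro l
  apply Subtype.ext
  rw [theta_apply]
  exact (key l).symm

section Refl

variable [IsNoetherianRing O] [IsLocalRing O]

/-- reflexivity of lattices with respect to `ω` -/
theorem ev_bijective_lat (hdim : ringKrullDim O = 1) (ω : Submodule O K) (hωfg : ω.FG)
    (hω0 : ω ≠ ⊥) (h : HasInjectiveDimensionLT (ModuleCat.of O ↥ω) 2)
    {L : Submodule O (Fin n → K)} (hL : IsLat L) :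
    Bijective (LinearMap.applyₗ : ↥L →ₗ[O] (↥L →ₗ[O] ↥ω) →ₗ[O] ↥ω) := by
  have hLd : IsLat (dualL ω L) := hL.dual ω hωfg hω0
  constructor
  · rw [injective_iff_map_eq_zero]
    intro l hl
    apply Subtype.ext
    apply eq_zero_of_dotProduct_lat hLd
    intro x hx
    have := congrArg Subtype.val (LinearMap.congr_fun hl (theta ω L ⟨x, hx⟩))
    rw [dotProduct_comm]
    exact this
  · intro Ψ
    obtain ⟨l', hl'⟩ := theta_surjective ω hLd (Ψ ∘ₗ theta ω L)
    have hmem : (l' : Fin n → K) ∈ L :=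
      (dualL_dualL_eq hdim ω hωfg hω0 h hL).le l'.2
    refine ⟨⟨(l' : Fin n → K), hmem⟩, ?_⟩
    apply LinearMap.ext
    intro φ
    obtain ⟨x, rfl⟩ := theta_surjective ω hL φ
    have h1 := LinearMap.congr_fun hl' x
    apply Subtype.ext
    have h2 := congrArg Subtype.val h1
    rw [theta_apply] at h2
    show ((theta ω L x ⟨(l' : Fin n → K), hmem⟩ : ↥ω) : K) = _
    rw [theta_apply, dotProduct_comm]
    exact h2

/-- reflexivity transfers along isomorphisms -/
theorem ev_bijective_of_equiv {M N W : Type*} [AddCommGroup M] [Module O M] [AddCommGroup N]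
    [Module O N] [AddCommGroup W] [Module O W] (e : M ≃ₗ[O] N)
    (hN : Bijective (LinearMap.applyₗ : N →ₗ[O] (N →ₗ[O] W) →ₗ[O] W)) :
    Bijective (LinearMap.applyₗ : M →ₗ[O] (M →ₗ[O] W) →ₗ[O] W) := by
  constructor
  · rw [injective_iff_map_eq_zero]
    intro m hm
    apply e.injective
    rw [map_zero]
    apply (injective_iff_map_eq_zero _).1 hN.1
    apply LinearMap.ext
    intro ψ
    exact LinearMap.congr_fun hm (ψ ∘ₗ e.toLinearMap)
  · intro Ψ
    let Ψ' : (N →ₗ[O] W) →ₗ[O] W := Ψ ∘ₗ (LinearMap.lcomp O W e.toLinearMap)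
    obtain ⟨n', hn'⟩ := hN.2 Ψ'
    refine ⟨e.symm n', ?_⟩
    apply LinearMap.ext
    intro φ
    have := LinearMap.congr_fun hn' (φ ∘ₗ e.symm.toLinearMap)
    show φ (e.symm n') = Ψ φ
    have e1 : Ψ' (φ ∘ₗ e.symm.toLinearMap) = Ψ φ := by
      show Ψ ((φ ∘ₗ e.symm.toLinearMap) ∘ₗ e.toLinearMap) = Ψ φ
      congr 1
      apply LinearMap.ext
      intro m
      simp
    rw [← e1, ← this]
    rfl

end Refl

end Groth.Agent.Helper7.CanDu
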