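import Mathlib
import Groth.Agent.S15009
import Groth.Agent.S15013
import Groth.Agent.Helper7.LatDuC
import Groth.Agent.Helper7.ExtDuD

set_option autoImplicit false

/-!
# Duality for finitely generated torsion-free modules over a one-dimensional local domain
with a canonical ideal
-/

namespace Groth.Agent.Helper7.TFDu

open CategoryTheory Abelian Function IsLocalRing
open scoped Pointwise
open Groth.Agent.Helper7.CanDu Groth.Agent.Helper7.ExtDu

universe u

variable (O : Type u) [CommRing O] [IsDomain O] [IsNoetherianRing O] [IsLocalRing O]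
  (hdim : ringKrullDim O = 1) [IsAlgClosed (IsLocalRing.ResidueField O)]
  (K : Type u) [Field K] [Algebra O K] [IsFractionRing O K]
  (hfin : Module.Finite O ↥(integralClosure O K))
  (ω : Submodule O K) (hω0 : ω ≠ ⊥) (hωfg : ω.FG)
  (hωinj : HasInjectiveDimensionLT (ModuleCat.of O ↥ω) 2)

include hdim hfin hω0 hωfg hωinj in
theorem isDualizingLike : IsDualizingLike (O := O) ↥ω where
  finite := Module.Finite.iff_fg.2 hωfg
  tf := by
    intro r m h
    by_cases hr : r = 0
    · left; exact hr
    · right
      apply Subtype.ext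
      have h1 : r • (m : K) = 0 := congrArg Subtype.val h
      exact smul_eq_zero_frac hr _ h1
  van := fun M hMfin hMtf j hj => by
    haveI := hMfin
    haveI : NoZeroSMulDivisors O M := ⟨fun {c x} h => hMtf c x h⟩
    exact Groth.Agent.S15013.result O hdim K hfin ω hω0 hωfg hωinj M j hj

/-- the conductor is nonzero -/
theorem exists_conductor_elt (hfin : Module.Finite O ↥(integralClosure O K)) :
    ∃ c : O, c ≠ 0 ∧ ∀ z ∈ integralClosure O K, c • z ∈ (1 : Submodule O K) := by
  have hfg : (Subalgebra.toSubmodule (integralClosure O K)).FG := Module.Finite.iff_fg.1 hfin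
  obtain ⟨c, hc, hcz⟩ := Groth.Agent.Helper6.Dim1.exists_smul_le_of_fg (K := K)
    (1 : Submodule O K) (Subalgebra.toSubmodule (integralClosure O K)) hfg (by
      intro v _
      have : Submodule.span K (((1 : Submodule O K) : Submodule O K) : Set K) = ⊤ := by
        rw [eq_top_iff]
        intro t _
        have ht : t = t • (1 : K) := by rw [smul_eq_mul, mul_one]
        rw [ht]
        exact Submodule.smul_mem _ _ (Submodule.subset_span (Submodule.one_le.1 le_rfl))
      rw [this]
      trivial)
  exact ⟨c, hc, fun z hz => hcz z hz⟩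

/-- a submodule between `O^n` and `Õ^n` is a lattice -/
theorem isLat_of_between (hfin : Module.Finite O ↥(integralClosure O K)) {n : ℕ}
    (L : Submodule O (Fin n → K)) (h1 : stdL O K n ≤ L)
    (h2 : L ≤ Submodule.pi Set.univ
      (fun _ : Fin n => (Subalgebra.toSubmodule (integralClosure O K)))) : IsLat L := by
  obtain ⟨c, hc, hcz⟩ := exists_conductor_elt O K hfin
  refine ⟨⟨1, one_ne_zero, by rw [one_smul]; exact h1⟩, ⟨c, hc, ?_⟩⟩
  intro v hv
  obtain ⟨l, hl, rfl⟩ := (Submodule.mem_smul_pointwise_iff_exists _ _ _).1 hv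
  rw [mem_stdL]
  intro i
  have := h2 hl
  rw [Submodule.mem_pi] at this
  exact hcz (l i) (this i trivial)

include hdim hfin in
/-- every finitely generated torsion-free module is isomorphic to a lattice -/
theorem exists_lat (M : Type u) [AddCommGroup M] [Module O M] [Module.Finite O M]
    [NoZeroSMulDivisors O M] :
    ∃ (n : ℕ) (L : Submodule O (Fin n → K)), IsLat L ∧ stdL O K n ≤ L ∧
      L ≤ Submodule.pi Set.univ
        (fun _ : Fin n => (Subalgebra.toSubmodule (integralClosure O K))) ∧
      Nonempty (M ≃ₗ[O] ↥L) := by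
  obtain ⟨L, h1, h2, h3⟩ := Groth.Agent.S15009.result O hdim K hfin M
    (Module.finrank K (TensorProduct O K M)) rfl
  exact ⟨_, L, isLat_of_between O K hfin L h1 h2, h1, h2, h3⟩

include hdim hfin hω0 hωfg hωinj in
/-- reflexivity of finitely generated torsion-free modules -/
theorem ev_bijective (M : Type u) [AddCommGroup M] [Module O M] [Module.Finite O M]
    [NoZeroSMulDivisors O M] :
    Bijective (LinearMap.applyₗ : M →ₗ[O] (M →ₗ[O] ↥ω) →ₗ[O] ↥ω) := by
  obtain ⟨n, L, hL, -, -, ⟨e⟩⟩ := exists_lat O hdim K hfin M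
  exact ev_bijective_of_equiv e (ev_bijective_lat hdim ω hωfg hω0 hωinj hL)

include hdim hfin hω0 hωfg hωinj in
/-- **Duality of Ext groups** -/
theorem ext_dual (M N : Type u) [AddCommGroup M] [Module O M] [Module.Finite O M]
    [NoZeroSMulDivisors O M] [AddCommGroup N] [Module O N] [Module.Finite O N]
    [NoZeroSMulDivisors O N] (i : ℕ) :
    Nonempty (Abelian.Ext (ModuleCat.of O M) (ModuleCat.of O N) i ≃+
      Abelian.Ext (ModuleCat.of O (N →ₗ[O] ↥ω)) (ModuleCat.of O (M →ₗ[O] ↥ω)) i) :=
  ext_duality (isDualizingLike O hdim K hfin ω hω0 hωfg hωinj) (ModuleCat.of O N)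
    (inferInstanceAs (Module.Finite O N)) (ev_bijective O hdim K hfin ω hω0 hωfg hωinj N) i
    (ModuleCat.of O M) (inferInstanceAs (Module.Finite O M))
    (fun r m h => eq_zero_or_eq_zero_of_smul_eq_zero h)

end Groth.Agent.Helper7.TFDu
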