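import Mathlib
import Groth.Agent.Helper6.Bass5
import Groth.Agent.Helper7.TFDuA

set_option autoImplicit false

/-!
# Gorenstein one-dimensional local domains: `ω = O`; `Hom(I, ω) = ω : I`; `Ext` along isomorphisms
-/

namespace Groth.Agent.Helper7.TFDu

open CategoryTheory Abelian Function IsLocalRing
open scoped Pointwise
open Groth.Agent.Helper7.CanDu Groth.Agent.Helper7.ExtDu

universe w v u

section ExtIso

variable {C : Type u} [Category.{v} C] [Abelian C] [HasExt.{w} C]

/-- `Ext` is invariant under isomorphisms of both arguments -/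
theorem nonempty_ext_equiv_of_iso {X X' Y Y' : C} (eX : X ≅ X') (eY : Y ≅ Y') (n : ℕ) :
    Nonempty (Ext.{w} X Y n ≃+ Ext.{w} X' Y' n) := by
  refine ⟨{ toFun := fun x => (Ext.mk₀ eX.inv).comp (x.comp (Ext.mk₀ eY.hom) (add_zero n))
              (zero_add n)
            invFun := fun x' => (Ext.mk₀ eX.hom).comp (x'.comp (Ext.mk₀ eY.inv) (add_zero n))
              (zero_add n)
            left_inv := ?_
            right_inv := ?_
            map_add' := ?_ }⟩
  · intro x
    simp only
    rw [Ext.comp_assoc_of_third_deg_zero, Ext.comp_assoc_of_third_deg_zero, Ext.mk₀_comp_mk₀,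
      eY.hom_inv_id, Ext.comp_mk₀_id, ← Ext.comp_assoc (Ext.mk₀ eX.hom) (Ext.mk₀ eX.inv) x
      (add_zero 0) (zero_add n) (by omega), Ext.mk₀_comp_mk₀, eX.hom_inv_id, Ext.mk₀_id_comp]
  · intro x
    simp only
    rw [Ext.comp_assoc_of_third_deg_zero, Ext.comp_assoc_of_third_deg_zero, Ext.mk₀_comp_mk₀,
      eY.inv_hom_id, Ext.comp_mk₀_id, ← Ext.comp_assoc (Ext.mk₀ eX.inv) (Ext.mk₀ eX.hom) x
      (add_zero 0) (zero_add n) (by omega), Ext.mk₀_comp_mk₀, eX.inv_hom_id, Ext.mk₀_id_comp]
  · intro x y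
    show (Ext.mk₀ eX.inv).comp ((x + y).comp (Ext.mk₀ eY.hom) (add_zero n)) (zero_add n) =
      (Ext.mk₀ eX.inv).comp (x.comp (Ext.mk₀ eY.hom) (add_zero n)) (zero_add n) +
      (Ext.mk₀ eX.inv).comp (y.comp (Ext.mk₀ eY.hom) (add_zero n)) (zero_add n)
    rw [Ext.add_comp, Ext.comp_add]

end ExtIso

section Gor

variable (O : Type u) [CommRing O] [IsDomain O]

theorem injdim_gor [LocCoh.IsGorensteinLocalRing O] (hdim : ringKrullDim O = 1) :
    HasInjectiveDimensionLT (ModuleCat.of O O) 2 := by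
  obtain ⟨-, hvan⟩ := Groth.Agent.Helper6.Bass.gorenstein_top (A := O) 1 (by rw [hdim]; rfl)
  exact Groth.Agent.Helper6.Bass.hasInjectiveDimensionLT_of_ext_residueField (A := O) O 1
    (fun i hi => hvan _ i hi)

variable (K : Type u) [Field K] [Algebra O K] [IsFractionRing O K]

/-- `O ≅ 1 ⊆ K` -/
noncomputable def oneEquiv : O ≃ₗ[O] ↥(1 : Submodule O K) :=
  LinearEquiv.ofBijective
    (LinearMap.codRestrict (1 : Submodule O K) (Algebra.linearMap O K)
      (fun r => Submodule.mem_one.2 ⟨r, rfl⟩))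
    ⟨fun a b h => IsFractionRing.injective O K (congrArg Subtype.val h), fun x => by
      obtain ⟨r, hr⟩ := Submodule.mem_one.1 x.2
      exact ⟨r, Subtype.ext hr⟩⟩

theorem oneEquiv_apply (r : O) : ((oneEquiv O K r : ↥(1 : Submodule O K)) : K) =
    algebraMap O K r := rfl

theorem injdim_one [LocCoh.IsGorensteinLocalRing O] (hdim : ringKrullDim O = 1) :
    HasInjectiveDimensionLT (ModuleCat.of O ↥(1 : Submodule O K)) 2 := by
  haveI := injdim_gor O hdim
  exact hasInjectiveDimensionLT_of_iso (oneEquiv O K).toModuleIso 2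

end Gor

section Theta

variable {O : Type u} [CommRing O] [IsDomain O] {K : Type u} [Field K] [Algebra O K]
  [IsFractionRing O K]

/-- `ω : I → Hom(I, ω)` -/
def thetaK (ω I : Submodule O K) : ↥(ω / I) →ₗ[O] (↥I →ₗ[O] ↥ω) where
  toFun x :=
    { toFun := fun i => ⟨(x : K) * (i : K), Submodule.mem_div_iff_forall_mul_mem.1 x.2 _ i.2⟩
      map_add' := fun i i' => by
        apply Subtype.ext
        show (x : K) * ((i : K) + (i' : K)) = _
        rw [mul_add]
        rfl
      map_smul' := fun r i => by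
        apply Subtype.ext
        show (x : K) * (r • (i : K)) = r • ((x : K) * (i : K))
        rw [mul_smul_comm] }
  map_add' x x' := by
    apply LinearMap.ext
    intro i
    apply Subtype.ext
    show ((x : K) + (x' : K)) * (i : K) = _
    rw [add_mul]
    rfl
  map_smul' r x := by
    apply LinearMap.ext
    intro i
    apply Subtype.ext
    show (r • (x : K)) * (i : K) = r • ((x : K) * (i : K))
    rw [smul_mul_assoc]

theorem thetaK_apply (ω I : Submodule O K) (x : ↥(ω / I)) (i : ↥I) :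
    ((thetaK ω I x i : ↥ω) : K) = (x : K) * (i : K) := rfl

theorem thetaK_bijective (ω I : Submodule O K) (hI0 : I ≠ ⊥) : Bijective (thetaK ω I) := by
  obtain ⟨i₀, hi₀I, hi₀⟩ := (Submodule.ne_bot_iff I).1 hI0
  constructor
  · rw [injective_iff_map_eq_zero]
    intro x hx
    apply Subtype.ext
    have := congrArg Subtype.val (LinearMap.congr_fun hx ⟨i₀, hi₀I⟩)
    rw [thetaK_apply] at this
    exact (mul_eq_zero.1 this).resolve_right hi₀
  · intro φ
    have key : ∀ i : ↥I, ((φ i : ↥ω) : K) =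
        (((φ ⟨i₀, hi₀I⟩ : ↥ω) : K) * i₀⁻¹) * (i : K) := by
      intro i
      obtain ⟨a, b, hb, hab⟩ := IsFractionRing.div_surjective (A := O) ((i : K) * i₀⁻¹)
      have hbK : algebraMap O K b ≠ 0 := algebraMap_ne_zero' (nonZeroDivisors.ne_zero hb)
      have h1 : b • i = a • (⟨i₀, hi₀I⟩ : ↥I) := by
        apply Subtype.ext
        show b • (i : K) = a • i₀
        rw [Algebra.smul_def, Algebra.smul_def]
        have : (i : K) = algebraMap O K a / algebraMap O K b * i₀ := by
          rw [hab, mul_assoc, inv_mul_cancel₀ hi₀, mul_one]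
        rw [this]
        field_simp
      have h2 := congrArg (fun t => ((φ t : ↥ω) : K)) h1
      simp only [map_smul, Submodule.coe_smul] at h2
      rw [Algebra.smul_def, Algebra.smul_def] at h2
      have h3 : ((φ i : ↥ω) : K) =
          algebraMap O K a / algebraMap O K b * ((φ ⟨i₀, hi₀I⟩ : ↥ω) : K) := by
        field_simp
        rw [mul_comm]
        exact h2
      rw [h3, hab]
      ring
    have hx : ((φ ⟨i₀, hi₀I⟩ : ↥ω) : K) * i₀⁻¹ ∈ ω / I := by
      rw [Submodule.mem_div_iff_forall_mul_mem]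
      intro i hi
      rw [← key ⟨i, hi⟩]
      exact (φ ⟨i, hi⟩).2
    refine ⟨⟨_, hx⟩, ?_⟩
    apply LinearMap.ext
    intro i
    apply Subtype.ext
    rw [thetaK_apply]
    exact (key i).symm

end Theta

end Groth.Agent.Helper7.TFDu
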