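import Mathlib
import Groth.Agent.Helper7.GorDuA

set_option autoImplicit false

/-!
# `Ext¹(M,M) ≅ Hom(𝔠, O/𝔠)` for an overring `M` of a one-dimensional Gorenstein local domain
-/

namespace Groth.Agent.Helper7.TFDu

open CategoryTheory Abelian Function IsLocalRing
open scoped Pointwise
open Groth.Agent.Helper7.CanDu Groth.Agent.Helper7.ExtDu

universe u

variable (O : Type u) [CommRing O] [IsDomain O] [IsNoetherianRing O] [IsLocalRing O]
  (hdim : ringKrullDim O = 1) [IsAlgClosed (IsLocalRing.ResidueField O)]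
  (K : Type u) [Field K] [Algebra O K] [IsFractionRing O K]
  (hfin : Module.Finite O ↥(integralClosure O K))
  (ω : Submodule O K) (hω0 : ω ≠ ⊥) (hωfg : ω.FG)
  (hωinj : HasInjectiveDimensionLT (ModuleCat.of O ↥ω) 2)

include hdim hfin hω0 hωfg hωinj in
/-- general form: `Ext¹(B,B) ≅ Hom(ω:B, ω/(ω:B))` for a subalgebra `O ⊆ B ⊆ Õ` with `ω ⊆ B`-free
hypotheses: we only need `ω : (ω : B) = B`. -/
theorem ext_one_overring (B : Subalgebra O K) (hB : B ≤ integralClosure O K)
    (hcω : ω / Subalgebra.toSubmodule B ≤ ω) :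
    Nonempty (Abelian.Ext (ModuleCat.of O ↥B) (ModuleCat.of O ↥B) 1 ≃+
      (↥(ω / Subalgebra.toSubmodule B) →ₗ[O]
        (↥ω ⧸ Submodule.comap ω.subtype (ω / Subalgebra.toSubmodule B)))) := by
  set Bs := Subalgebra.toSubmodule B with hBs
  set 𝔠 := ω / Bs with h𝔠
  have hÕfg : (Subalgebra.toSubmodule (integralClosure O K)).FG := Module.Finite.iff_fg.1 hfin
  have hBfg : Bs.FG := Submodule.FG.of_le hÕfg hB
  have hB0 : Bs ≠ ⊥ := by
    intro h0
    have : (1 : K) ∈ Bs := B.one_mem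
    rw [h0, Submodule.mem_bot] at this
    exact one_ne_zero this
  haveI : Module.Finite O ↥B := Module.Finite.iff_fg.2 hBfg
  haveI : NoZeroSMulDivisors O ↥B := ⟨fun {c x} h => by
    by_cases hc : c = 0
    · left; exact hc
    · right
      apply Subtype.ext
      have h1 : c • (x : K) = 0 := congrArg Subtype.val h
      exact smul_eq_zero_frac hc _ h1⟩
  have h𝔠fg : 𝔠.FG := div_fg ω Bs hωfg hB0
  have h𝔠0 : 𝔠 ≠ ⊥ := div_ne_bot ω Bs hω0 hBfg
  haveI : Module.Finite O ↥𝔠 := Module.Finite.iff_fg.2 h𝔠fg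
  have h𝔠tf : TF O ↥𝔠 := by
    intro c x h
    by_cases hc : c = 0
    · left; exact hc
    · right
      apply Subtype.ext
      have h1 : c • (x : K) = 0 := congrArg Subtype.val h
      exact smul_eq_zero_frac hc _ h1
  have hW := isDualizingLike O hdim K hfin ω hω0 hωfg hωinj
  -- step 1
  obtain ⟨e1⟩ := ext_dual O hdim K hfin ω hω0 hωfg hωinj ↥B ↥B 1
  -- step 2
  let eθ : ↥𝔠 ≃ₗ[O] (↥Bs →ₗ[O] ↥ω) :=
    LinearEquiv.ofBijective (thetaK ω Bs) (thetaK_bijective ω Bs hB0)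
  have eD : ModuleCat.of O ↥𝔠 ≅ ModuleCat.of O (↥B →ₗ[O] ↥ω) := eθ.toModuleIso
  obtain ⟨e2⟩ := nonempty_ext_equiv_of_iso eD.symm eD.symm 1
  -- step 3
  let S : ShortComplex (ModuleCat.{u} O) :=
    ShortComplex.mk (ModuleCat.ofHom (Submodule.inclusion hcω))
      (ModuleCat.ofHom (Submodule.mkQ (Submodule.comap ω.subtype 𝔠))) (by
        apply ModuleCat.hom_ext
        apply LinearMap.ext
        intro x
        show Submodule.mkQ _ (Submodule.inclusion hcω x) = 0
        rw [Submodule.mkQ_apply, Submodule.Quotient.mk_eq_zero]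
        exact x.2)
  have hS : S.ShortExact := by
    refine ShortComplex.ShortExact.mk' ?_ ?_ ?_
    · rw [ShortComplex.ShortExact.moduleCat_exact_iff_function_exact]
      intro y
      show Submodule.mkQ _ y = 0 ↔ _
      rw [Submodule.mkQ_apply, Submodule.Quotient.mk_eq_zero]
      constructor
      · intro hy
        exact ⟨⟨(y : K), hy⟩, rfl⟩
      · rintro ⟨x, rfl⟩
        exact x.2
    · exact (ModuleCat.mono_iff_injective _).mpr (Submodule.inclusion_injective hcω)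
    · exact (ModuleCat.epi_iff_surjective _).mpr (Submodule.mkQ_surjective _)
  have hvan : Subsingleton (Ext (ModuleCat.of O ↥𝔠) S.X₂ 1) :=
    hW.van (ModuleCat.of O ↥𝔠) inferInstance h𝔠tf 1 le_rfl
  obtain ⟨hsurj, hker⟩ := covariant_coker hS (ModuleCat.of O ↥𝔠) hvan
  -- every map 𝔠 → ω lands in 𝔠
  have hrefl : ω / 𝔠 = Bs := div_div_eq hdim ω hωfg hω0 hωinj Bs hB0 hBfg
  have hland : ∀ (φ : ↥𝔠 →ₗ[O] ↥ω) (c : ↥𝔠), ((φ c : ↥ω) : K) ∈ 𝔠 := by
    intro φ c
    obtain ⟨x, rfl⟩ := (thetaK_bijective ω 𝔠 h𝔠0).2 φ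
    rw [thetaK_apply]
    have hx : (x : K) ∈ B := hrefl.le x.2
    rw [mul_comm]
    exact mul_mem_div_subalgebra ω B c.2 hx
  have hrange : ∀ x₃ : Ext (ModuleCat.of O ↥𝔠) S.X₃ 0,
      x₃ ∈ ((Ext.mk₀ S.g).postcomp (ModuleCat.of O ↥𝔠) (add_zero 0)).range → x₃ = 0 := by
    rintro x₃ ⟨x₂, rfl⟩
    show x₂.comp (Ext.mk₀ S.g) (add_zero 0) = 0
    rw [← Ext.mk₀_addEquiv₀_apply x₂, Ext.mk₀_comp_mk₀]
    rw [Ext.mk₀_eq_zero_iff]
    apply ModuleCat.hom_ext
    apply LinearMap.ext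
    intro c
    show Submodule.mkQ _ ((Ext.addEquiv₀ x₂).hom c) = 0
    rw [Submodule.mkQ_apply, Submodule.Quotient.mk_eq_zero]
    exact hland (Ext.addEquiv₀ x₂).hom c
  have hbij : Bijective (hS.extClass.postcomp (ModuleCat.of O ↥𝔠) (zero_add 1)) := by
    refine ⟨?_, hsurj⟩
    rw [injective_iff_map_eq_zero]
    intro x₃ hx₃
    exact hrange x₃ ((hker x₃).1 hx₃)
  let e3 := AddEquiv.ofBijective _ hbij
  -- step 4
  let e4 : Ext (ModuleCat.of O ↥𝔠) S.X₃ 0 ≃+
      (↥𝔠 →ₗ[O] (↥ω ⧸ Submodule.comap ω.subtype 𝔠)) :=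
    Ext.addEquiv₀.trans ModuleCat.homAddEquiv
  exact ⟨e1.trans (e2.trans (e3.symm.trans e4))⟩

/-- S15040 -/
theorem s15040 (O : Type u) [CommRing O] [IsDomain O] [LocCoh.IsGorensteinLocalRing O]
    (hdim : ringKrullDim O = 1) [IsAlgClosed (IsLocalRing.ResidueField O)]
    (K : Type u) [Field K] [Algebra O K] [IsFractionRing O K]
    (hfin : Module.Finite O ↥(integralClosure O K)) (M : Subalgebra O K)
    (hM : M ≤ integralClosure O K) :
    Nonempty (Abelian.Ext (ModuleCat.of O ↥M) (ModuleCat.of O ↥M) 1 ≃+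
      (↥((1 : Submodule O K) / Subalgebra.toSubmodule M) →ₗ[O]
        (O ⧸ Submodule.comap (Algebra.linearMap O K)
          ((1 : Submodule O K) / Subalgebra.toSubmodule M)))) := by
  have hc1 : (1 : Submodule O K) / Subalgebra.toSubmodule M ≤ 1 := by
    intro x hx
    have := Submodule.mem_div_iff_forall_mul_mem.1 hx 1 M.one_mem
    rwa [mul_one] at this
  obtain ⟨e⟩ := ext_one_overring O hdim K hfin 1 one_ne_bot one_fg (injdim_one O K hdim) M hM hc1
  -- transport the target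
  have hmap : Submodule.map (oneEquiv O K : O →ₗ[O] ↥(1 : Submodule O K))
      (Submodule.comap (Algebra.linearMap O K)
        ((1 : Submodule O K) / Subalgebra.toSubmodule M)) =
      Submodule.comap (1 : Submodule O K).subtype
        ((1 : Submodule O K) / Subalgebra.toSubmodule M) := by
    ext y
    rw [Submodule.mem_map, Submodule.mem_comap]
    constructor
    · rintro ⟨r, hr, rfl⟩
      exact hr
    · intro hy
      obtain ⟨r, hr⟩ := (oneEquiv O K).surjective y
      refine ⟨r, ?_, hr⟩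
      rw [Submodule.mem_comap]
      rw [← hr] at hy
      exact hy
  let eq : (O ⧸ Submodule.comap (Algebra.linearMap O K)
        ((1 : Submodule O K) / Subalgebra.toSubmodule M)) ≃ₗ[O]
      (↥(1 : Submodule O K) ⧸ Submodule.comap (1 : Submodule O K).subtype
        ((1 : Submodule O K) / Subalgebra.toSubmodule M)) :=
    Submodule.Quotient.equiv _ _ (oneEquiv O K) hmap
  exact ⟨e.trans (LinearEquiv.congrRight eq.symm).toAddEquiv⟩

end Groth.Agent.Helper7.TFDu
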