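import Mathlib
import Groth.Agent.Helper7.GorQuot1

/-!
# Gorenstein from a local Gorenstein quotient by a regular element (helper7)
-/

set_option autoImplicit false
set_option linter.style.haveILetI false
universe u

namespace Groth.Agent.Helper7.GorQuot

open IsLocalRing

/-- if `B/(f)` is a Gorenstein local ring, `f` regular in the maximal ideal `q`, then `B_q` is
Gorenstein -/
theorem gorLocal_of_quotient_local {B : Type u} [CommRing B] [IsNoetherianRing B] (f : B)
    (hreg : IsSMulRegular B f) (q : Ideal B) [hq : q.IsMaximal] (hfq : f ∈ q)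
    [IsLocalRing (B ⧸ Ideal.span {f})]
    (hG : LocCoh.IsGorensteinLocalRing (B ⧸ Ideal.span {f})) :
    LocCoh.IsGorensteinLocalRing (Localization.AtPrime q) := by
  have hker : RingHom.ker (Ideal.Quotient.mk (Ideal.span {f})) ≤ q := by
    rw [Ideal.mk_ker, Ideal.span_singleton_le_iff_mem]
    exact hfq
  set Q : Ideal (B ⧸ Ideal.span {f}) := q.map (Ideal.Quotient.mk (Ideal.span {f})) with hQdef
  have hQmax : Q.IsMaximal :=
    Ideal.IsMaximal.map_of_surjective_of_ker_le Ideal.Quotient.mk_surjective hker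
  haveI hQp : Q.IsPrime := hQmax.isPrime
  have hcomap : Q.comap (Ideal.Quotient.mk (Ideal.span {f})) = q := by
    rw [hQdef, Ideal.comap_map_of_surjective _ Ideal.Quotient.mk_surjective,
      ← RingHom.ker_eq_comap_bot]
    exact sup_eq_left.2 hker
  have hQeq : Q = maximalIdeal (B ⧸ Ideal.span {f}) := eq_maximalIdeal hQmax
  have hunits : Q.primeCompl ≤ IsUnit.submonoid (B ⧸ Ideal.span {f}) := by
    intro x hx
    have hx' : x ∉ Q := hx
    rw [hQeq, mem_maximalIdeal, mem_nonunits_iff, not_not] at hx'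
    exact hx'
  let e : (B ⧸ Ideal.span {f}) ≃+* Localization.AtPrime Q :=
    (IsLocalization.atUnits (B ⧸ Ideal.span {f}) Q.primeCompl hunits).toRingEquiv
  have h1 : LocCoh.IsGorensteinLocalRing (Localization.AtPrime Q) :=
    Groth.Agent.Helper7.SegGor.gorLocal_of_ringEquiv e hG
  exact (gorLocal_quotient_iff f hreg q hfq Q hcomap).2 h1

/-- **graded version**: a ℤ-graded Noetherian *local ring with maximal *maximal ideal whose
quotient by a regular element of it is a Gorenstein local ring is Gorenstein -/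
theorem gorenstein_of_quotient_graded_local {B : Type u} [CommRing B] [IsNoetherianRing B]
    (𝒜 : ℤ → AddSubgroup B) [GradedRing 𝒜] (m : HomogeneousIdeal 𝒜) (hm : GrLC.IsStarLocal 𝒜 m)
    [hmm : m.toIdeal.IsMaximal] (f : B) (hreg : IsSMulRegular B f) (hfm : f ∈ m.toIdeal)
    [IsLocalRing (B ⧸ Ideal.span {f})]
    (hG : LocCoh.IsGorensteinLocalRing (B ⧸ Ideal.span {f})) : LocCoh.IsGorensteinRing B := by
  haveI : m.toIdeal.IsPrime := hmm.isPrime
  exact Groth.Agent.Helper7.GrGor.isGorensteinRing_of_local 𝒜 m hm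
    (gorLocal_of_quotient_local f hreg m.toIdeal hfm hG)

end Groth.Agent.Helper7.GorQuot
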