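import Mathlib

set_option autoImplicit false
universe v x

namespace Groth.Agent.Helper7.Gordan

open scoped Classical Pointwise

variable {R : Type v} {V : Type x} [Field R] [LinearOrder R] [IsStrictOrderedRing R]
  [AddCommGroup V] [Module R V]

theorem exists_small {κ : Type*} (t : Finset κ) (a : κ → R) (ha : ∀ k ∈ t, 0 < a k) :
    ∃ ε : R, 0 < ε ∧ ∀ k ∈ t, ε < a k := by
  induction t using Finset.induction_on with
  | empty => exact ⟨1, zero_lt_one, fun k hk => absurd hk (Finset.notMem_empty k)⟩
  | insert k t hk ih =>
    obtain ⟨ε, hε, h⟩ := ih (fun k' hk' => ha k' (Finset.mem_insert_of_mem hk'))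
    have hak := ha k (Finset.mem_insert_self k t)
    refine ⟨min ε (a k) / 2, by positivity, fun k' hk' => ?_⟩
    rcases Finset.mem_insert.1 hk' with rfl | hk'
    · have : min ε (a k') ≤ a k' := min_le_right _ _
      linarith [lt_min hε hak]
    · have : min ε (a k) ≤ ε := min_le_left _ _
      have := h k' hk'
      linarith [lt_min hε hak]

theorem exists_large {κ : Type*} (t : Finset κ) (a : κ → R) :
    ∃ s : R, ∀ k ∈ t, a k < s := by
  induction t using Finset.induction_on with
  | empty => exact ⟨0, fun k hk => absurd hk (Finset.notMem_empty k)⟩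
  | insert k t hk ih =>
    obtain ⟨s, h⟩ := ih
    refine ⟨max s (a k) + 1, fun k' hk' => ?_⟩
    rcases Finset.mem_insert.1 hk' with rfl | hk'
    · have : a k' ≤ max s (a k') := le_max_right _ _
      linarith
    · have : s ≤ max s (a k) := le_max_left _ _
      have := h k' hk'
      linarith

theorem pos_on_convexHull (f : V →ₗ[R] R) (s : Set V) (h : ∀ x ∈ s, 0 < f x) :
    ∀ z ∈ convexHull R s, 0 < f z := by
  have hconv : Convex R {w : V | 0 < f w} := convex_halfSpace_gt f.isLinear 0
  exact fun z hz => convexHull_min (fun x hx => h x hx) hconv hz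

/-- Gordan's theorem: if `0` is not in the convex hull of a finite set, some linear functional is
positive on the set. -/
theorem exists_dual_pos (t : Finset V) (h0 : (0 : V) ∉ convexHull R (t : Set V)) :
    ∃ f : V →ₗ[R] R, ∀ x ∈ t, 0 < f x := by
  suffices H : ∀ n : ℕ, ∀ t : Finset V, t.card ≤ n → (0 : V) ∉ convexHull R (t : Set V) →
      ∃ f : V →ₗ[R] R, ∀ x ∈ t, 0 < f x from H _ t le_rfl h0
  intro n
  induction n with
  | zero =>
    intro t ht _
    have : t = ∅ := Finset.card_eq_zero.1 (Nat.le_zero.1 ht)
    subst this
    exact ⟨0, fun x hx => absurd hx (Finset.notMem_empty x)⟩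
  | succ n ih =>
    intro t ht h0
    by_cases hte : t = ∅
    · subst hte
      exact ⟨0, fun x hx => absurd hx (Finset.notMem_empty x)⟩
    obtain ⟨a, ha⟩ := Finset.nonempty_iff_ne_empty.2 hte
    set t' := t.erase a with ht'
    have hcard : t'.card ≤ n := by
      have h1 := Finset.card_erase_of_mem ha
      have h2 : t'.card = t.card - 1 := by rw [ht']; exact h1
      omega
    have hsub : (t' : Set V) ⊆ (t : Set V) := Finset.coe_subset.2 (Finset.erase_subset a t)
    have h0' : (0 : V) ∉ convexHull R (t' : Set V) := fun h => h0 (convexHull_mono hsub h)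
    have hins : ∀ x ∈ t, x = a ∨ x ∈ t' := by
      intro x hx
      by_cases hxa : x = a
      · left; exact hxa
      · right; exact Finset.mem_erase.2 ⟨hxa, hx⟩
    have ha_hull : a ∈ convexHull R (t : Set V) := subset_convexHull R _ ha
    have ha0 : a ≠ 0 := by
      rintro rfl
      exact h0 ha_hull
    by_cases ht'e : t' = ∅
    · -- singleton case
      obtain ⟨f₀, hf₀⟩ : ∃ f₀ : V →ₗ[R] R, f₀ a ≠ 0 := by
        by_contra hne
        push Not at hne
        exact ha0 ((Module.forall_dual_apply_eq_zero_iff R a).1 hne)
      rcases lt_or_gt_of_ne hf₀ with hneg | hpos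
      · refine ⟨-f₀, fun x hx => ?_⟩
        rcases hins x hx with rfl | hx'
        · rw [LinearMap.neg_apply]
          linarith
        · rw [ht'e] at hx'
          exact absurd hx' (Finset.notMem_empty x)
      · refine ⟨f₀, fun x hx => ?_⟩
        rcases hins x hx with rfl | hx'
        · exact hpos
        · rw [ht'e] at hx'
          exact absurd hx' (Finset.notMem_empty x)
    obtain ⟨x₀, hx₀⟩ := Finset.nonempty_iff_ne_empty.2 ht'e
    obtain ⟨f, hf⟩ := ih t' hcard h0'
    by_cases hfa : 0 < f a
    · refine ⟨f, fun x hx => ?_⟩
      rcases hins x hx with rfl | hx'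
      · exact hfa
      · exact hf x hx'
    push Not at hfa
    set c := f a with hc
    -- the linear map L x = f x • a - c • x
    let L : V →ₗ[R] V := f.smulRight a - c • LinearMap.id
    have hL : ∀ x, L x = f x • a - c • x := fun x => rfl
    set t'' := t'.image L with ht''
    have hcard'' : t''.card ≤ n := le_trans Finset.card_image_le hcard
    have h0'' : (0 : V) ∉ convexHull R (t'' : Set V) := by
      intro h
      rw [ht'', Finset.coe_image, ← LinearMap.image_convexHull] at h
      obtain ⟨z, hz, hLz⟩ := h
      have hfz : 0 < f z := pos_on_convexHull f _ (fun x hx => hf x hx) z hz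
      have hzt : z ∈ convexHull R (t : Set V) := convexHull_mono hsub hz
      rw [hL] at hLz
      -- 0 = f z • a + (-c) • z
      have hsum : 0 < f z + -c := by linarith
      have hmem : (f z / (f z + -c)) • a + (-c / (f z + -c)) • z ∈ convexHull R (t : Set V) := by
        apply (convex_convexHull R _) ha_hull hzt
        · exact div_nonneg hfz.le hsum.le
        · exact div_nonneg (by linarith) hsum.le
        · rw [← add_div, div_self hsum.ne']
      have hzero : (f z / (f z + -c)) • a + (-c / (f z + -c)) • z = 0 := by
        have : (f z / (f z + -c)) • a + (-c / (f z + -c)) • z =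
            (f z + -c)⁻¹ • (f z • a - c • z) := by
          rw [smul_sub, smul_smul, smul_smul, div_eq_inv_mul, div_eq_inv_mul, sub_eq_add_neg,
            ← neg_smul, mul_neg]
        rw [this, hLz, smul_zero]
      rw [hzero] at hmem
      exact h0 hmem
    obtain ⟨g, hg⟩ := ih t'' hcard'' h0''
    have hgx : ∀ x ∈ t', 0 < f x * g a - c * g x := by
      intro x hx
      have := hg (L x) (Finset.mem_image_of_mem L hx)
      rw [hL, map_sub, map_smul, map_smul, smul_eq_mul, smul_eq_mul] at this
      exact this
    rcases hfa.lt_or_eq with hcneg | hc0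
    · -- c < 0
      have h3 : 0 < -c := by linarith
      have hgap : ∀ x ∈ t', 0 < g a / (-c) + g x / f x := by
        intro x hx
        have h1 := hgx x hx
        have h2 := hf x hx
        have : g a / (-c) + g x / f x = (f x * g a - c * g x) / (-c * f x) := by
          rw [div_add_div _ _ h3.ne' h2.ne']
          congr 1
          ring
        rw [this]
        exact div_pos h1 (mul_pos h3 h2)
      obtain ⟨ε, hε, hεlt⟩ := exists_small t' (fun x => g a / (-c) + g x / f x) hgap
      set s := g a / (-c) - ε with hs
      refine ⟨g + s • f, fun x hx => ?_⟩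
      rw [LinearMap.add_apply, LinearMap.smul_apply, smul_eq_mul]
      rcases hins x hx with hxa | hx'
      · -- g a + s * c > 0
        rw [hxa]
        have : g a + s * c = ε * (-c) := by
          rw [hs]
          have hcne : c ≠ 0 := hcneg.ne
          field_simp
          ring
        rw [← hc, this]
        exact mul_pos hε h3
      · have h2 := hf x hx'
        have h4 := hεlt x hx'
        have : g x + s * f x = (g a / (-c) + g x / f x - ε) * f x := by
          rw [hs]
          have hfx : f x ≠ 0 := h2.ne'
          field_simp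
          ring
        rw [this]
        exact mul_pos (by linarith) h2
    · -- c = 0
      have hga : 0 < g a := by
        have h1 := hgx x₀ hx₀
        rw [hc0, zero_mul, sub_zero] at h1
        exact (pos_iff_pos_of_mul_pos h1).1 (hf x₀ hx₀)
      obtain ⟨s, hs⟩ := exists_large t' (fun x => -g x / f x)
      refine ⟨g + s • f, fun x hx => ?_⟩
      rw [LinearMap.add_apply, LinearMap.smul_apply, smul_eq_mul]
      rcases hins x hx with hxa | hx'
      · rw [hxa, ← hc, hc0, mul_zero, add_zero]
        exact hga
      · have h2 := hf x hx'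
        have h4 := hs x hx'
        rw [div_lt_iff₀ h2] at h4
        linarith

theorem exists_dual_lt_of_notMem (s : Set V) (hs : s.Finite) (y : V) (hy : y ∉ convexHull R s) :
    ∃ f : V →ₗ[R] R, ∀ x ∈ s, f y < f x := by
  set t : Finset V := hs.toFinset.image (fun x => -y + x) with ht
  have hcoe : (t : Set V) = -y +ᵥ s := by
    rw [ht, Finset.coe_image, Set.Finite.coe_toFinset]
    rfl
  have h0 : (0 : V) ∉ convexHull R (t : Set V) := by
    rw [hcoe, convexHull_vadd]
    intro h
    obtain ⟨z, hz, hz0⟩ := h
    have : z = y := by
      have h1 : -y + z = 0 := hz0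
      have h2 : z = y + (-y + z) := by abel
      rw [h2, h1, add_zero]
    exact hy (this ▸ hz)
  obtain ⟨f, hf⟩ := exists_dual_pos t h0
  refine ⟨f, fun x hx => ?_⟩
  have hmem : -y + x ∈ t := by
    rw [ht]
    exact Finset.mem_image.2 ⟨x, (Set.Finite.mem_toFinset hs).2 hx, rfl⟩
  have := hf _ hmem
  rw [map_add, map_neg] at this
  linarith

end Groth.Agent.Helper7.Gordan
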