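import Mathlib
import Groth.Prelude.Def_GrLC
import Groth.Prelude.Def_CAlg
import Groth.Agent.Helper7.GrAInv1
import Groth.Agent.Helper7.GrAInv3
import Groth.Agent.Helper7.GrEC5
import Groth.Agent.Helper7.BassG
import Groth.Agent.Helper7.TorusI

/-!
# The `a`-invariant modulo a homogeneous non-zero-divisor over a general base (helper7)
-/

set_option autoImplicit false
set_option linter.unusedSectionVars false
set_option linter.style.haveILetI false

namespace Groth.Agent.Helper7.GrAInv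

open DirectSum Groth.Agent.Helper7.GrDel Groth.Agent.Helper7.Torus Groth.Agent.Helper7.BassNum

universe u

section End

variable {H : Type u} [AddCommGroup H] (ℋ : ℤ → AddSubgroup H)
  {G : Type u} [AddCommGroup G] (𝒢 : ℤ → AddSubgroup G)

theorem le_endDeg {j : ℤ} (hj : ℋ j ≠ ⊥) :
    ((j : WithTop ℤ) : WithBot (WithTop ℤ)) ≤ GrLC.endDeg ℋ := by
  unfold GrLC.endDeg
  exact le_iSup₂ (f := fun (n : ℤ) (_ : ℋ n ≠ ⊥) => ((n : WithTop ℤ) : WithBot (WithTop ℤ))) j hj

theorem endDeg_le {b : WithBot (WithTop ℤ)}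
    (h : ∀ j, ℋ j ≠ ⊥ → ((j : WithTop ℤ) : WithBot (WithTop ℤ)) ≤ b) : GrLC.endDeg ℋ ≤ b := by
  unfold GrLC.endDeg
  exact iSup₂_le h

/-- abstract form of the shift of the end, without boundedness -/
theorem endDeg_shift' (d : ℤ)
    (h1 : ∀ j, 𝒢 j ≠ ⊥ → ℋ (j - d) ≠ ⊥)
    (h2 : ∀ j, ℋ j ≠ ⊥ → ∃ j', j ≤ j' ∧ 𝒢 (j' + d) ≠ ⊥) :
    GrLC.endDeg 𝒢 = GrLC.endDeg ℋ + ((d : WithTop ℤ) : WithBot (WithTop ℤ)) := by
  apply le_antisymm
  · apply endDeg_le
    intro j hj
    have h3 := le_endDeg ℋ (h1 j hj)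
    have h4 : ((j : WithTop ℤ) : WithBot (WithTop ℤ)) =
        (((j - d : ℤ) : WithTop ℤ) : WithBot (WithTop ℤ)) +
          ((d : WithTop ℤ) : WithBot (WithTop ℤ)) := by
      rw [← WithBot.coe_add, ← WithTop.coe_add, sub_add_cancel]
    rw [h4]
    exact add_le_add_left h3 _
  · generalize hg : GrLC.endDeg 𝒢 = g
    induction g using WithBot.recBotCoe with
    | bot =>
      have hG : ∀ j, 𝒢 j = ⊥ := (endDeg_eq_bot_iff 𝒢).mp hg
      have hH : ∀ j, ℋ j = ⊥ := by
        intro j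
        by_contra hj
        obtain ⟨j', -, hj'⟩ := h2 j hj
        exact hj' (hG _)
      rw [(endDeg_eq_bot_iff ℋ).mpr hH, WithBot.bot_add]
    | coe g =>
      induction g using WithTop.recTopCoe with
      | top => exact le_top
      | coe c =>
        have hH : GrLC.endDeg ℋ ≤ (((c - d : ℤ) : WithTop ℤ) : WithBot (WithTop ℤ)) := by
          apply endDeg_le
          intro j hj
          obtain ⟨j', hjj', hj'⟩ := h2 j hj
          have h3 := le_endDeg 𝒢 hj'
          rw [hg, WithBot.coe_le_coe, WithTop.coe_le_coe] at h3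
          rw [WithBot.coe_le_coe, WithTop.coe_le_coe]
          omega
        calc GrLC.endDeg ℋ + ((d : WithTop ℤ) : WithBot (WithTop ℤ))
            ≤ (((c - d : ℤ) : WithTop ℤ) : WithBot (WithTop ℤ)) +
                ((d : WithTop ℤ) : WithBot (WithTop ℤ)) := add_le_add_left hH _
          _ = ((c : WithTop ℤ) : WithBot (WithTop ℤ)) := by
              rw [← WithBot.coe_add, ← WithTop.coe_add, sub_add_cancel]

end End

section Step

variable {R : Type u} [CommRing R] {𝒜 : ℤ → AddSubgroup R} [GradedRing 𝒜]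
  {M : Type u} [AddCommGroup M] [Module R M] {ℳ : ℤ → AddSubgroup M} [Decomposition ℳ]
  [SetLike.GradedSMul 𝒜 ℳ]
  {N : Type u} [AddCommGroup N] [Module R N] {𝒩 : ℤ → AddSubgroup N} [Decomposition 𝒩]
  [SetLike.GradedSMul 𝒜 𝒩]

/-- every class of graded local cohomology with support in `a` is killed by a power of any element
of `a` -/
theorem exists_pow_smul_eq_zero (E : GrLC.StarInjRes 𝒜 ℳ) (a : HomogeneousIdeal 𝒜) (i : ℕ)
    (x : R) (hxa : x ∈ a.toIdeal) (h : E.H a i) : ∃ n : ℕ, x ^ n • h = 0 := by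
  obtain ⟨z, rfl⟩ := Submodule.mkQ_surjective _ h
  obtain ⟨n, hn⟩ := z.2.1
  refine ⟨n, ?_⟩
  have h1 : x ^ n • z = 0 := by
    apply Subtype.ext
    rw [Submodule.coe_smul, Submodule.coe_zero]
    exact hn (x ^ n) (Ideal.pow_mem_pow hxa n)
  rw [← map_smul, h1, map_zero]

/-- With `H^q(M) = 0`, the end of `H^q(M/xM)` is the end of `H^{q+1}(M)` plus the degree of `x`, for a
homogeneous non-zero-divisor `x ∈ a` of nonnegative degree. -/
theorem endDeg_quot' (E : GrLC.StarInjRes 𝒜 ℳ) (F : GrLC.StarInjRes 𝒜 𝒩) (a : HomogeneousIdeal 𝒜)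
    (x : R) (d : ℤ) (hd : 0 ≤ d) (hx : x ∈ 𝒜 d) (hxa : x ∈ a.toIdeal) (L : MulLES E F a x d)
    (q : ℕ) (hq : Subsingleton (E.H a q)) :
    GrLC.endDeg (F.Hgr a q) =
      GrLC.endDeg (E.Hgr a (q + 1)) + ((d : WithTop ℤ) : WithBot (WithTop ℤ)) := by
  have hinj : ∀ w : F.H a q, L.δ q w = 0 → w = 0 := by
    intro w hw
    obtain ⟨y, rfl⟩ := (L.exact2 q w).mp hw
    rw [Subsingleton.elim y 0, map_zero]
  apply endDeg_shift' (E.Hgr a (q + 1)) (F.Hgr a q) d
  · intro j hj hbot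
    apply hj
    rw [eq_bot_iff]
    intro w hw
    rw [AddSubgroup.mem_bot]
    apply hinj
    have := L.δ_gr q j w hw
    rw [hbot, AddSubgroup.mem_bot] at this
    exact this
  · intro j hj
    -- a nonzero element of degree `j`
    obtain ⟨h, hh, hh0⟩ : ∃ h ∈ E.Hgr a (q + 1) j, h ≠ 0 := by
      by_contra hcon
      push Not at hcon
      apply hj
      rw [eq_bot_iff]
      intro h hh
      rw [AddSubgroup.mem_bot]
      exact hcon h hh
    obtain ⟨n, hn⟩ := exists_pow_smul_eq_zero E a (q + 1) x hxa h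
    -- the least such exponent
    classical
    let n₀ := Nat.find (⟨n, hn⟩ : ∃ n : ℕ, x ^ n • h = 0)
    have hn₀ : x ^ n₀ • h = 0 := Nat.find_spec (⟨n, hn⟩ : ∃ n : ℕ, x ^ n • h = 0)
    have hn₀pos : n₀ ≠ 0 := by
      intro h0
      rw [h0, pow_zero, one_smul] at hn₀
      exact hh0 hn₀
    obtain ⟨k, hk⟩ := Nat.exists_eq_succ_of_ne_zero hn₀pos
    have hk0 : x ^ k • h ≠ 0 := Nat.find_min (⟨n, hn⟩ : ∃ n : ℕ, x ^ n • h = 0)
      (show k < n₀ by omega)
    have hkx : x • (x ^ k • h) = 0 := by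
      have h5 : x ^ n₀ • h = 0 := hn₀
      rw [hk, pow_succ', mul_smul] at h5
      exact h5
    have hkdeg : x ^ k • h ∈ E.Hgr a (q + 1) (j + k * d) := by
      have hxk : x ^ k ∈ 𝒜 (k • d) := SetLike.pow_mem_graded k hx
      have h6 := smul_mem_Hgr (E := E) (a := a) hxk (q + 1) j h hh
      have h7 : j + k • d = j + k * d := by rw [nsmul_eq_mul]
      rw [h7] at h6
      exact h6
    refine ⟨j + k * d, ?_, ?_⟩
    · have : 0 ≤ (k : ℤ) * d := mul_nonneg (Int.natCast_nonneg k) hd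
      omega
    · obtain ⟨w, hw, hwδ⟩ := L.exact3_gr q (j + k * d) (x ^ k • h) hkdeg hkx
      intro hbot
      rw [hbot, AddSubgroup.mem_bot] at hw
      rw [hw, map_zero] at hwδ
      exact hk0 hwδ.symm

end Step

section Height

variable {R : Type u} [CommRing R] [IsNoetherianRing R] (𝒜 : ℤ → AddSubgroup R) [GradedRing 𝒜]
  (m : HomogeneousIdeal 𝒜) (hm : GrLC.IsStarLocal 𝒜 m)

include hm in
/-- in a *local graded ring whose *maximal ideal is maximal, the height of the *maximal ideal is the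
dimension -/
theorem height_eq_dim' [hmax : m.toIdeal.IsMaximal] (n : ℕ) (hn : ringKrullDim R = n) :
    m.toIdeal.height = n := by
  haveI : Nontrivial R := by
    by_contra hcon
    rw [not_nontrivial_iff_subsingleton] at hcon
    rw [ringKrullDim_eq_bot_of_subsingleton] at hn
    exact WithBot.bot_ne_coe hn
  haveI hmp : m.toIdeal.IsPrime := hmax.isPrime
  have hsup := Ideal.sup_isPrime_height_eq_ringKrullDim (R := R)
  rw [hn] at hsup
  have hsup' : (⨆ (I : Ideal R) (_ : I.IsPrime), I.height) = (n : ℕ∞) := by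
    exact_mod_cast hsup
  rw [← hsup']
  apply le_antisymm
  · exact le_iSup₂ (f := fun (I : Ideal R) (_ : I.IsPrime) => I.height) m.toIdeal hmp
  · refine iSup₂_le fun I hI => ?_
    haveI := hI
    haveI hc : (Ideal.homogeneousCore 𝒜 I).toIdeal.IsPrime := core_isPrime 𝒜 I
    have hle : (Ideal.homogeneousCore 𝒜 I).toIdeal ≤ m.toIdeal :=
      Groth.Agent.Helper7.GrEC.le_of_isHomogeneous_of_ne_top 𝒜 m hm _
        (Ideal.homogeneousCore 𝒜 I).isHomogeneous hc.ne_top
    rcases eq_or_lt_of_le hle with heq | hlt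
    · have h1 : m.toIdeal ≤ I := by
        rw [← heq]
        exact Ideal.toIdeal_homogeneousCore_le _ _
      rw [hmax.eq_of_le hI.ne_top h1]
    · have h1 := height_eq_height_core_add 𝒜 I
      have h2 := height_map_core_le_one 𝒜 I
      have h3 := Ideal.height_add_one_le_of_lt_of_isPrime hlt
      rw [h1]
      exact (add_le_add_right h2 _).trans h3

end Height

section Vanish

variable {R : Type u} [CommRing R] [hCM : LocCoh.IsCohenMacaulayRing R] (𝒜 : ℤ → AddSubgroup R)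
  [GradedRing 𝒜] (hpos : ∀ n : ℤ, n < 0 → 𝒜 n = ⊥)
  (m : HomogeneousIdeal 𝒜) (hm : GrLC.IsStarLocal 𝒜 m)

include hpos hm in
/-- local cohomology of a Cohen–Macaulay *local nonnegatively graded ring vanishes below the
dimension -/
theorem subsingleton_H_of_lt' (n : ℕ) (hn : ringKrullDim R = n) (E : GrLC.StarInjRes 𝒜 𝒜)
    (i : ℕ) (hi : i < n) : Subsingleton (E.H m i) := by
  have hN : IsNoetherianRing R := inferInstance
  haveI hmax : m.toIdeal.IsMaximal := Groth.Agent.Helper7.GrStarLoc.isMaximal 𝒜 hpos m hm.1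
  have hht := height_eq_dim' 𝒜 m hm n hn
  have hdepth : LocCoh.idealDepth m.toIdeal R = m.toIdeal.height :=
    (Groth.Agent.Helper7.CMRing.cm_iff R).mp hCM m.toIdeal hmax.ne_top
  have hIM := Groth.Agent.Helper7.CMRing.smul_top_ne_top m.toIdeal hmax.ne_top
  have hle : (n : ℕ∞) ≤ LocCoh.idealDepth m.toIdeal R := by
    rw [hdepth, hht]
  have hlc := (Groth.Agent.Helper1.LocCohDepth.le_idealDepth_iff_lc m.toIdeal R hIM n).mp hle i hi
  obtain ⟨e⟩ := Groth.Agent.Helper7.GrFinC.nonempty_H_equiv m E i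
  exact e.toEquiv.subsingleton

variable {N : Type u} [AddCommGroup N] [Module R N] {𝒩 : ℤ → AddSubgroup N} [Decomposition 𝒩]
  [SetLike.GradedSMul 𝒜 𝒩]

include hpos hm in
/-- `a(R/xR) = a(R) + deg x` for a Cohen–Macaulay *local nonnegatively graded ring -/
theorem endDeg_quotient_regular (d : ℕ) (hd : ringKrullDim R = (d + 1 : ℕ))
    (I : GrLC.StarInjRes 𝒜 𝒜) (x : R) (k : ℤ) (hxk : x ∈ 𝒜 k) (hxm : x ∈ m.toIdeal)
    (hx : IsSMulRegular R x) (π : R →ₗ[R] N) (hπ : GrLC.IsGrHom 𝒜 𝒩 π)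
    (hπs : Function.Surjective π) (hπk : LinearMap.ker π = Ideal.span {x})
    (F : GrLC.StarInjRes 𝒜 𝒩) :
    GrLC.endDeg (F.Hgr m d) =
      GrLC.endDeg (I.Hgr m (d + 1)) + ((k : WithTop ℤ) : WithBot (WithTop ℤ)) := by
  haveI : Nontrivial R := by
    by_contra hcon
    rw [not_nontrivial_iff_subsingleton] at hcon
    rw [ringKrullDim_eq_bot_of_subsingleton] at hd
    exact WithBot.bot_ne_coe hd
  have hk0 : 0 ≤ k := by
    by_contra hneg
    push Not at hneg
    have hx0 : x = 0 := Groth.Agent.Helper7.GrStarLoc.eq_zero_of_neg 𝒜 hpos k hneg x hxk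
    have h1 : x • (1 : R) = x • (0 : R) := by rw [hx0, zero_smul, zero_smul]
    exact one_ne_zero (hx h1)
  have hq : Subsingleton (I.H m d) :=
    subsingleton_H_of_lt' 𝒜 hpos m hm (d + 1) hd I d (Nat.lt_succ_self d)
  have hker : ∀ r, π r = 0 ↔ ∃ r', x • r' = r := by
    intro r
    rw [← LinearMap.mem_ker, hπk, Ideal.mem_span_singleton']
    constructor
    · rintro ⟨a, ha⟩
      exact ⟨a, by rw [smul_eq_mul, mul_comm]; exact ha⟩
    · rintro ⟨a, ha⟩
      exact ⟨a, by rw [mul_comm]; exact ha⟩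
  obtain ⟨L⟩ := nonempty_mulLES I F m x k hxk hx π hπ hπs hker
  exact endDeg_quot' I F m x k hk0 hxk hxm L d hq

end Vanish

end Groth.Agent.Helper7.GrAInv
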