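import Mathlib

namespace Groth.Agent.Helper7.GrAvoid

open DirectSum

universe u v

variable {R : Type u} {A : Type v} [CommRing R] [CommRing A] [Algebra R A]
  (𝒜 : ℕ → Submodule R A) [GradedRing 𝒜]

/-- base case: one prime -/
theorem single (J : Ideal A) (hJ : J.IsHomogeneous 𝒜) (p : Ideal A) (hp : p.IsPrime)
    (hirr : ¬ (HomogeneousIdeal.irrelevant 𝒜).toIdeal ≤ p) (hJp : ¬ J ≤ p) :
    ∃ (z : A) (n : ℕ), 0 < n ∧ z ∈ 𝒜 n ∧ z ∈ J ∧ z ∉ p := by
  classical
  -- homogeneous element of J outside p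
  obtain ⟨x, hxJ, hxp⟩ := Set.not_subset.mp hJp
  have h1 : ∃ d, (decompose 𝒜 x d : A) ∉ p := by
    by_contra hcon
    push_neg at hcon
    apply hxp
    rw [← DirectSum.sum_support_decompose 𝒜 x]
    exact p.sum_mem fun d _ => hcon d
  obtain ⟨d, hd⟩ := h1
  -- homogeneous element of positive degree outside p
  rw [HomogeneousIdeal.toIdeal_irrelevant_le] at hirr
  push_neg at hirr
  obtain ⟨e, he, hle⟩ := hirr
  obtain ⟨w, hw, hwp⟩ := Set.not_subset.mp hle
  refine ⟨(decompose 𝒜 x d : A) * w, d + e, by omega, ?_, ?_, ?_⟩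
  · exact SetLike.mul_mem_graded (decompose 𝒜 x d).2 hw
  · exact J.mul_mem_right _ (hJ d hxJ)
  · intro hmem
    rcases hp.mem_or_mem hmem with h | h
    · exact hd h
    · exact hwp h

theorem main (J : Ideal A) (hJ : J.IsHomogeneous 𝒜) (P : Finset (Ideal A))
    (hP : ∀ p ∈ P, p.IsPrime ∧ ¬ (HomogeneousIdeal.irrelevant 𝒜).toIdeal ≤ p ∧ ¬ J ≤ p) :
    ∃ (z : A) (n : ℕ), 0 < n ∧ z ∈ 𝒜 n ∧ z ∈ J ∧ ∀ p ∈ P, z ∉ p := by
  classical
  induction P using Finset.strongInduction with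
  | H P ih =>
    rcases P.eq_empty_or_nonempty with hemp | ⟨p₁, hp₁⟩
    · subst hemp
      exact ⟨0, 1, one_pos, zero_mem _, zero_mem _, by simp⟩
    -- for each p ∈ P get z_p avoiding P.erase p
    have hz : ∀ p ∈ P, ∃ (z : A) (n : ℕ), 0 < n ∧ z ∈ 𝒜 n ∧ z ∈ J ∧ ∀ p' ∈ P.erase p, z ∉ p' :=
      fun p hp => ih (P.erase p) (Finset.erase_ssubset hp)
        (fun p' hp' => hP p' (Finset.mem_of_mem_erase hp'))
    by_cases hgood : ∃ p ∈ P, ∃ (z : A) (n : ℕ), 0 < n ∧ z ∈ 𝒜 n ∧ z ∈ J ∧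
        (∀ p' ∈ P.erase p, z ∉ p') ∧ z ∉ p
    · obtain ⟨p, hp, z, n, hn, hzn, hzJ, hav, hzp⟩ := hgood
      refine ⟨z, n, hn, hzn, hzJ, fun p' hp' => ?_⟩
      by_cases hpp : p' = p
      · rw [hpp]; exact hzp
      · exact hav p' (Finset.mem_erase.mpr ⟨hpp, hp'⟩)
    · push_neg at hgood
      choose! z n hn hzn hzJ hav using hz
      have hzp : ∀ p ∈ P, z p ∈ p := fun p hp =>
        hgood p hp (z p) (n p) (hn p hp) (hzn p hp) (hzJ p hp) (hav p hp)
      set Q := P.erase p₁ with hQ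
      by_cases hQe : Q = ∅
      · -- P = {p₁}
        obtain ⟨hpr, hirr, hJp⟩ := hP p₁ hp₁
        obtain ⟨z', n', hn', hz'n, hz'J, hz'p⟩ := single 𝒜 J hJ p₁ hpr hirr hJp
        refine ⟨z', n', hn', hz'n, hz'J, fun p hp => ?_⟩
        by_cases hpp : p = p₁
        · rw [hpp]; exact hz'p
        · have : p ∈ Q := Finset.mem_erase.mpr ⟨hpp, hp⟩
          rw [hQe] at this
          exact absurd this (Finset.notMem_empty _)
      · have hQne : Q.Nonempty := Finset.nonempty_iff_ne_empty.mpr hQe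
        obtain ⟨p₂, hp₂⟩ := hQne
        have hQP : ∀ p ∈ Q, p ∈ P := fun p hp => Finset.mem_of_mem_erase hp
        set a := ∑ p ∈ Q, n p with ha
        set b := n p₁ with hb
        have ha_pos : 0 < a := by
          apply Finset.sum_pos' (fun p _ => Nat.zero_le _)
          exact ⟨p₂, hp₂, hn p₂ (hQP p₂ hp₂)⟩
        have hb_pos : 0 < b := hn p₁ hp₁
        have hprod_mem : ∏ p ∈ Q, z p ∈ 𝒜 a :=
          SetLike.prod_mem_graded 𝒜 n z (fun p hp => hzn p (hQP p hp))
        have h1 : z p₁ ^ a ∈ 𝒜 (a * b) := by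
          have := SetLike.pow_mem_graded a (hzn p₁ hp₁)
          simpa [smul_eq_mul] using this
        have h2 : (∏ p ∈ Q, z p) ^ b ∈ 𝒜 (a * b) := by
          have := SetLike.pow_mem_graded b hprod_mem
          simpa [smul_eq_mul, mul_comm] using this
        have hprodJ : ∏ p ∈ Q, z p ∈ J := by
          rw [← Finset.mul_prod_erase Q z hp₂]
          exact J.mul_mem_right _ (hzJ p₂ (hQP p₂ hp₂))
        refine ⟨z p₁ ^ a + (∏ p ∈ Q, z p) ^ b, a * b, Nat.mul_pos ha_pos hb_pos,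
          add_mem h1 h2, ?_, ?_⟩
        · exact J.add_mem (J.pow_mem_of_mem (hzJ p₁ hp₁) a ha_pos)
            (J.pow_mem_of_mem hprodJ b hb_pos)
        · intro p hp hmem
          have hpr : p.IsPrime := (hP p hp).1
          by_cases hpp : p = p₁
          · subst hpp
            have hin : z p ^ a ∈ p := p.pow_mem_of_mem (hzp p hp) a ha_pos
            have : (∏ p' ∈ Q, z p') ^ b ∈ p := (Ideal.add_mem_iff_right p hin).mp hmem
            have := hpr.mem_of_pow_mem _ this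
            obtain ⟨p', hp'Q, hp'⟩ := (hpr.prod_mem_iff).mp this
            have hne : p' ≠ p := (Finset.mem_erase.mp hp'Q).1
            exact hav p' (hQP p' hp'Q) p (Finset.mem_erase.mpr ⟨hne.symm, hp⟩) hp'
          · have hpQ : p ∈ Q := Finset.mem_erase.mpr ⟨hpp, hp⟩
            have hin : (∏ p' ∈ Q, z p') ^ b ∈ p := by
              apply p.pow_mem_of_mem _ b hb_pos
              rw [← Finset.mul_prod_erase Q z hpQ]
              exact p.mul_mem_right _ (hzp p hp)
            have : z p₁ ^ a ∈ p := (Ideal.add_mem_iff_left p hin).mp hmem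
            have := hpr.mem_of_pow_mem _ this
            exact hav p₁ hp₁ p (Finset.mem_erase.mpr ⟨hpp, hp⟩) this

end Groth.Agent.Helper7.GrAvoid
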