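import Mathlib

namespace Groth.Agent.Helper7.GrDer

open DirectSum

universe u v

variable {k : Type u} [Field k] {A : Type v} [CommRing A] [Algebra k A]
  (𝒜 : ℤ → Submodule k A) [GradedAlgebra 𝒜]

/-- degree-0 projection -/
noncomputable abbrev p0 : A →ₗ[k] A := GradedAlgebra.proj 𝒜 0

theorem eq_zero_of_pos (hpos : ∀ i : ℤ, 0 < i → 𝒜 i = ⊥) {j : ℤ} (hj : 0 < j) {z : A}
    (hz : z ∈ 𝒜 j) : z = 0 := by
  rw [hpos j hj] at hz; simpa using hz

theorem p0_mul (hpos : ∀ i : ℤ, 0 < i → 𝒜 i = ⊥) (x y : A) :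
    p0 𝒜 (x * y) = p0 𝒜 x * p0 𝒜 y := by
  induction x using DirectSum.Decomposition.inductionOn 𝒜 with
  | zero => simp
  | @homogeneous i m =>
    have hm : (m : A) ∈ 𝒜 i := m.2
    rcases lt_trichotomy i 0 with hi | hi | hi
    · have h1 : p0 𝒜 ((m : A) * y) = (m : A) * (decompose 𝒜 y (-i) : A) := by
        have := coe_decompose_mul_add_of_left_mem 𝒜 (i := i) (j := -i) (b := y) hm
        rw [add_neg_cancel] at this
        simpa using this
      have h2 : (decompose 𝒜 y (-i) : A) = 0 :=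
        eq_zero_of_pos 𝒜 hpos (by omega : 0 < -i) (decompose 𝒜 y (-i)).2
      have h3 : p0 𝒜 (m : A) = 0 := by
        simpa using decompose_of_mem_ne 𝒜 hm (ne_of_lt hi)
      rw [h1, h2, h3]; simp
    · subst hi
      have h1 : p0 𝒜 ((m : A) * y) = (m : A) * (decompose 𝒜 y 0 : A) := by
        simpa using coe_decompose_mul_of_left_mem_zero 𝒜 (b := y) (j := 0) hm
      have h3 : p0 𝒜 (m : A) = m := by
        simpa using decompose_of_mem_same 𝒜 hm
      rw [h1, h3]; simp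
    · have : (m : A) = 0 := eq_zero_of_pos 𝒜 hpos hi hm
      rw [this]; simp
  | add m m' h h' => rw [add_mul, map_add, map_add, h, h', add_mul]

theorem p0_D (D : Derivation k A A) (l : ℤ)
    (hD : ∀ (i : ℤ) (a : A), a ∈ 𝒜 i → D a ∈ 𝒜 (i + l)) (a : A) :
    p0 𝒜 (D a) = D (GradedAlgebra.proj 𝒜 (-l) a) := by
  induction a using DirectSum.Decomposition.inductionOn 𝒜 with
  | zero => simp
  | @homogeneous i m =>
    have hm : (m : A) ∈ 𝒜 i := m.2
    have hDm := hD i m hm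
    by_cases hi : i = -l
    · subst hi
      rw [neg_add_cancel] at hDm
      have h1 : p0 𝒜 (D (m : A)) = D (m : A) := by
        simpa using decompose_of_mem_same 𝒜 hDm
      have h2 : GradedAlgebra.proj 𝒜 (-l) (m : A) = m := by
        simpa using decompose_of_mem_same 𝒜 hm
      rw [h1, h2]
    · have h1 : p0 𝒜 (D (m : A)) = 0 := by
        simpa using decompose_of_mem_ne 𝒜 hDm (by omega : i + l ≠ 0)
      have h2 : GradedAlgebra.proj 𝒜 (-l) (m : A) = 0 := by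
        simpa using decompose_of_mem_ne 𝒜 hm hi
      rw [h1, h2]; simp
  | add m m' h h' => simp only [map_add, h, h']

theorem main (hpos : ∀ i : ℤ, 0 < i → 𝒜 i = ⊥)
    (D : Derivation k A A) (l : ℤ) (hl : 0 < l)
    (hD : ∀ (i : ℤ) (a : A), a ∈ 𝒜 i → D a ∈ 𝒜 (i + l))
    (hfree : ∀ m : Ideal A, m.IsMaximal → (∀ i : ℤ, i < 0 → (𝒜 i : Set A) ⊆ m) →
      ∃ a : A, D a ∉ m) :
    ∃ f : A, D f = 1 := by
  classical
  set S : Set A := (⋃ i : {i : ℤ // i < 0}, (𝒜 i.1 : Set A)) ∪ Set.range D with hS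
  have hJ : Ideal.span S = ⊤ := by
    by_contra hne
    obtain ⟨m, hm, hle⟩ := Ideal.exists_le_maximal _ hne
    obtain ⟨a, ha⟩ := hfree m hm (fun i hi x hx => hle (Ideal.subset_span
      (Or.inl (Set.mem_iUnion.mpr ⟨⟨i, hi⟩, hx⟩))))
    exact ha (hle (Ideal.subset_span (Or.inr ⟨a, rfl⟩)))
  have key : ∀ x ∈ Ideal.span S, ∃ f : A, D f = p0 𝒜 x := by
    intro x hx
    induction hx using Submodule.span_induction with
    | mem x hx =>
      rcases hx with hx | ⟨a, rfl⟩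
      · obtain ⟨⟨i, hi⟩, hx⟩ := Set.mem_iUnion.mp hx
        refine ⟨0, ?_⟩
        have : p0 𝒜 x = 0 := by
          simpa using decompose_of_mem_ne 𝒜 hx (ne_of_lt hi)
        rw [this]; simp
      · exact ⟨_, (p0_D 𝒜 D l hD a).symm⟩
    | zero => exact ⟨0, by simp⟩
    | add x y _ _ hx hy =>
      obtain ⟨f, hf⟩ := hx
      obtain ⟨g, hg⟩ := hy
      exact ⟨f + g, by rw [map_add, hf, hg, map_add]⟩
    | smul c x _ hx =>
      obtain ⟨f, hf⟩ := hx
      refine ⟨p0 𝒜 c * f, ?_⟩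
      have h0 : D (p0 𝒜 c) = 0 := by
        have h1 : p0 𝒜 c ∈ 𝒜 0 := by
          simpa using (decompose 𝒜 c 0).2
        exact eq_zero_of_pos 𝒜 hpos (by omega : 0 < 0 + l) (hD 0 _ h1)
      rw [smul_eq_mul, p0_mul 𝒜 hpos, Derivation.leibniz, h0, hf]
      simp
  obtain ⟨f, hf⟩ := key 1 (by rw [hJ]; trivial)
  refine ⟨f, ?_⟩
  rw [hf]
  simpa using decompose_of_mem_same 𝒜 (SetLike.GradedOne.one_mem (A := 𝒜))

end Groth.Agent.Helper7.GrDer
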