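import Mathlib
import Groth.Prelude.Def_GrLC
import Groth.Agent.Helper6.GrMod
import Groth.Agent.Helper6.GrCon
import Groth.Agent.Helper7.GrDu2

/-!
# Graded Matlis duality, part 3: homogeneous components of a linear map out of a finitely generated graded
module; the pieces of a *canonical module are dual to the pieces of the top local cohomology (helper7)
-/

set_option autoImplicit false
set_option linter.unusedSectionVars false
set_option linter.style.haveILetI false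

namespace Groth.Agent.Helper7.GrDu

open DirectSum Groth.Agent.Helper6.GrMod Groth.Agent.Helper6.GrCon

universe u

section HomComp

variable {R : Type u} [CommRing R] (𝒜 : ℤ → AddSubgroup R) [GradedRing 𝒜]
  {C : Type u} [AddCommGroup C] [Module R C] (𝒞 : ℤ → AddSubgroup C) [Decomposition 𝒞]
  [SetLike.GradedSMul 𝒜 𝒞]
  {E : Type u} [AddCommGroup E] [Module R E] (𝓔 : ℤ → AddSubgroup E) [Decomposition 𝓔]
  [SetLike.GradedSMul 𝒜 𝓔]

/-- projection to a piece as an additive endomorphism -/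
noncomputable def projAdd (d : ℤ) : E →+ E where
  toFun z := (decompose 𝓔 z d : E)
  map_zero' := by simp
  map_add' z z' := by rw [decompose_add, DirectSum.add_apply, AddSubgroup.coe_add]

theorem projAdd_apply (d : ℤ) (z : E) : projAdd 𝓔 d z = (decompose 𝓔 z d : E) := rfl

/-- the component of degree `j` of a linear map, as an additive map -/
noncomputable def homCompAdd (f : C →ₗ[R] E) (j : ℤ) : C →+ E :=
  (DirectSum.toAddMonoid (fun g : ℤ =>
    ((projAdd 𝓔 (g + j)).comp f.toAddMonoidHom).comp (𝒞 g).subtype)).comp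
    (decomposeAddEquiv 𝒞).toAddMonoidHom

theorem homCompAdd_of_mem (f : C →ₗ[R] E) (j : ℤ) {g : ℤ} {x : C} (hx : x ∈ 𝒞 g) :
    homCompAdd 𝒞 𝓔 f j x = (decompose 𝓔 (f x) (g + j) : E) := by
  unfold homCompAdd
  rw [AddMonoidHom.comp_apply]
  show (DirectSum.toAddMonoid _) (decompose 𝒞 x) = _
  rw [decompose_of_mem 𝒞 hx, DirectSum.toAddMonoid_of]
  rfl

include 𝒜 in
theorem homCompAdd_smul (f : C →ₗ[R] E) (j : ℤ) (a : R) (x : C) :
    homCompAdd 𝒞 𝓔 f j (a • x) = a • homCompAdd 𝒞 𝓔 f j x := by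
  induction x using Decomposition.inductionOn 𝒞 with
  | zero => rw [smul_zero, map_zero, smul_zero]
  | @homogeneous g x =>
    induction a using Decomposition.inductionOn 𝒜 with
    | zero => rw [zero_smul, zero_smul, map_zero]
    | @homogeneous i a =>
      have hax : (a : R) • (x : C) ∈ 𝒞 (i + g) := smul_mem' 𝒜 𝒞 a.2 x.2
      rw [homCompAdd_of_mem 𝒞 𝓔 f j hax, homCompAdd_of_mem 𝒞 𝓔 f j x.2, map_smul, add_assoc,
        decompose_smul_homog 𝒜 𝓔 a.2]
    | add a a' h h' => rw [add_smul, add_smul, map_add, h, h']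
  | add x x' h h' => rw [smul_add, map_add, map_add, h, h', smul_add]

/-- **the homogeneous component of degree `j` of a linear map between graded modules** -/
noncomputable def homComp (f : C →ₗ[R] E) (j : ℤ) : C →ₗ[R] E where
  toFun := homCompAdd 𝒞 𝓔 f j
  map_add' := map_add _
  map_smul' a x := homCompAdd_smul 𝒜 𝒞 𝓔 f j a x

theorem homComp_of_mem (f : C →ₗ[R] E) (j : ℤ) {g : ℤ} {x : C} (hx : x ∈ 𝒞 g) :
    homComp 𝒜 𝒞 𝓔 f j x = (decompose 𝓔 (f x) (g + j) : E) :=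
  homCompAdd_of_mem 𝒞 𝓔 f j hx

theorem homComp_mem (f : C →ₗ[R] E) (j : ℤ) : homComp 𝒜 𝒞 𝓔 f j ∈ GrLC.homDeg 𝒜 𝒞 𝓔 j := by
  intro g x hx
  rw [homComp_of_mem 𝒜 𝒞 𝓔 f j hx]
  exact (decompose 𝓔 (f x) (g + j)).2

/-- **a linear map out of a finitely generated graded module is a finite sum of homogeneous maps** -/
theorem exists_sum_homComp [Module.Finite R C] (f : C →ₗ[R] E) :
    ∃ J : Finset ℤ, f = ∑ j ∈ J, homComp 𝒜 𝒞 𝓔 f j := by
  classical
  let HM : Set C := {c | ∃ t : ℤ, c ∈ 𝒞 t}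
  have hHM : Submodule.span R HM = ⊤ := by
    rw [eq_top_iff]
    rintro x -
    rw [← DirectSum.sum_support_decompose 𝒞 x]
    exact Submodule.sum_mem _ fun n _ => Submodule.subset_span ⟨n, SetLike.coe_mem _⟩
  have hfg : (Submodule.span R HM).FG := by
    rw [hHM]; exact Module.Finite.fg_top
  obtain ⟨G₀, hG₀H, hG₀⟩ := (Submodule.fg_span_iff_fg_span_finset_subset HM).1 hfg
  rw [hHM] at hG₀
  choose! deg hdeg using (fun c (hc : c ∈ (G₀ : Set C)) => hG₀H hc)
  let J : Finset ℤ := G₀.biUnion (fun c => (decompose 𝓔 (f c)).support.image (fun d => d - deg c))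
  refine ⟨J, ?_⟩
  apply LinearMap.ext_on hG₀.symm
  intro c hc
  rw [LinearMap.sum_apply]
  have h1 : ∀ j ∈ J, homComp 𝒜 𝒞 𝓔 f j c = (decompose 𝓔 (f c) (deg c + j) : E) :=
    fun j _ => homComp_of_mem 𝒜 𝒞 𝓔 f j (hdeg c hc)
  rw [Finset.sum_congr rfl h1]
  have h2 : ∑ j ∈ J, (decompose 𝓔 (f c) (deg c + j) : E) =
      ∑ d ∈ J.image (fun j => deg c + j), (decompose 𝓔 (f c) d : E) := by
    rw [Finset.sum_image]
    intro a _ b _ hab
    exact add_left_cancel hab
  rw [h2]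
  have h3 : (decompose 𝓔 (f c)).support ⊆ J.image (fun j => deg c + j) := by
    intro d hd
    rw [Finset.mem_image]
    refine ⟨d - deg c, ?_, by ring⟩
    rw [Finset.mem_biUnion]
    exact ⟨c, hc, Finset.mem_image_of_mem _ hd⟩
  rw [← Finset.sum_subset h3]
  · exact (DirectSum.sum_support_decompose 𝓔 (f c)).symm
  · intro d _ hd
    rw [DFinsupp.notMem_support_iff] at hd
    rw [hd]
    rfl

end HomComp

section Canon

variable {R : Type u} [CommRing R] (𝒜 : ℤ → AddSubgroup R) [GradedRing 𝒜]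
  {C : Type u} [AddCommGroup C] [Module R C] (𝒞 : ℤ → AddSubgroup C) [Decomposition 𝒞]
  [SetLike.GradedSMul 𝒜 𝒞] [Module.Finite R C]
  {E : Type u} [AddCommGroup E] [Module R E] (𝓔 : ℤ → AddSubgroup E) [Decomposition 𝓔]
  [SetLike.GradedSMul 𝒜 𝓔]
  {H : Type u} [AddCommGroup H] [Module R H]

/-- a bijection from `Hom(C, E)` onto an internally graded module that carries maps of degree `d` to elements of
degree `d` has an inverse carrying elements of degree `j` to maps of degree `j` -/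
theorem symm_mem_homDeg (𝓗 : ℤ → AddSubgroup H) (hint : DirectSum.IsInternal 𝓗)
    (φ : (C →ₗ[R] E) ≃ₗ[R] H)
    (hφ : ∀ (d : ℤ) (f : C →ₗ[R] E), f ∈ GrLC.homDeg 𝒜 𝒞 𝓔 d → φ f ∈ 𝓗 d)
    {j : ℤ} {y : H} (hy : y ∈ 𝓗 j) : φ.symm y ∈ GrLC.homDeg 𝒜 𝒞 𝓔 j := by
  classical
  letI : Decomposition 𝓗 := hint.chooseDecomposition
  obtain ⟨J, hJ⟩ := exists_sum_homComp 𝒜 𝒞 𝓔 (φ.symm y)
  set f := φ.symm y with hf
  have hy1 : y = ∑ i ∈ J, φ (homComp 𝒜 𝒞 𝓔 f i) := by
    rw [← map_sum, ← hJ, hf, LinearEquiv.apply_symm_apply]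
  have hy2 : y = if j ∈ J then φ (homComp 𝒜 𝒞 𝓔 f j) else 0 := by
    calc y = projAdd 𝓗 j y := (decompose_of_mem_same 𝓗 hy).symm
      _ = projAdd 𝓗 j (∑ i ∈ J, φ (homComp 𝒜 𝒞 𝓔 f i)) := by rw [← hy1]
      _ = ∑ i ∈ J, projAdd 𝓗 j (φ (homComp 𝒜 𝒞 𝓔 f i)) := map_sum _ _ _
      _ = ∑ i ∈ J, (if i = j then φ (homComp 𝒜 𝒞 𝓔 f j) else 0) := by
        apply Finset.sum_congr rfl
        intro i _
        have hi : φ (homComp 𝒜 𝒞 𝓔 f i) ∈ 𝓗 i := hφ i _ (homComp_mem 𝒜 𝒞 𝓔 f i)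
        by_cases hij : i = j
        · subst hij
          rw [if_pos rfl]
          exact decompose_of_mem_same 𝓗 hi
        · rw [if_neg hij]
          exact decompose_of_mem_ne 𝓗 hi hij
      _ = if j ∈ J then φ (homComp 𝒜 𝒞 𝓔 f j) else 0 := Finset.sum_ite_eq' J j _
  by_cases hj : j ∈ J
  · rw [if_pos hj] at hy2
    have h3 : f = homComp 𝒜 𝒞 𝓔 f j := by
      have h4 := congrArg φ.symm hy2
      rw [LinearEquiv.symm_apply_apply] at h4
      exact h4
    rw [h3]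
    exact homComp_mem 𝒜 𝒞 𝓔 f j
  · rw [if_neg hj] at hy2
    have h3 : f = 0 := by
      have h4 := congrArg φ.symm hy2
      rw [map_zero] at h4
      exact h4
    rw [h3]
    exact Submodule.zero_mem _

/-- the pieces correspond, with equal dimensions -/
theorem finrank_homDeg_eq (𝓗c : ℤ → Submodule (GrLC.deg0 𝒜) H)
    (hint : DirectSum.IsInternal (fun d => (𝓗c d).toAddSubgroup))
    (φ : (C →ₗ[R] E) ≃ₗ[R] H)
    (hφ : GrLC.IsGrHom (fun d => (GrLC.homDeg 𝒜 𝒞 𝓔 d).toAddSubgroup)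
      (fun d => (𝓗c d).toAddSubgroup) φ.toLinearMap) (j : ℤ) :
    Module.finrank (GrLC.deg0 𝒜) (GrLC.homDeg 𝒜 𝒞 𝓔 j) =
      Module.finrank (GrLC.deg0 𝒜) (𝓗c j) := by
  let ψ : GrLC.homDeg 𝒜 𝒞 𝓔 j →ₗ[GrLC.deg0 𝒜] 𝓗c j :=
    { toFun := fun f => ⟨φ f.1, hφ j f.1 f.2⟩
      map_add' := fun f f' => Subtype.ext (map_add φ f.1 f'.1)
      map_smul' := fun c f => Subtype.ext (by
        show φ ((c : R) • f.1) = (c : R) • φ f.1
        rw [map_smul]) }
  have hbij : Function.Bijective ψ := by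
    constructor
    · intro f f' h
      exact Subtype.ext (φ.injective (congrArg Subtype.val h))
    · intro y
      refine ⟨⟨φ.symm y.1, symm_mem_homDeg 𝒜 𝒞 𝓔 (fun d => (𝓗c d).toAddSubgroup) hint φ
        (fun d f hf => hφ d f hf) y.2⟩, ?_⟩
      exact Subtype.ext (φ.apply_symm_apply y.1)
  exact (LinearEquiv.ofBijective ψ hbij).finrank_eq

end Canon

end Groth.Agent.Helper7.GrDu
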