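import Mathlib
import Groth.Prelude.Def_GrLC
import Groth.Agent.Helper6.GrH
import Groth.Agent.Helper7.GrDu3
import Groth.Agent.Helper7.KunA
import Groth.Agent.Helper7.KunX
import Groth.Agent.Helper7.KunY
import Groth.Agent.Helper7.KunP2

/-!
# Graded Matlis duality, part 4: the pieces of a *canonical module of a graded ring defined over a field have the
dimensions of the pieces of the top local cohomology in the opposite degree (helper7)
-/

set_option autoImplicit false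
set_option linter.unusedSectionVars false
set_option linter.style.haveILetI false

namespace Groth.Agent.Helper7.GrDu

open DirectSum Groth.Agent.Helper7.Kun

universe u

section AddSub

variable {R : Type u} [CommRing R] (𝒜 : ℤ → AddSubgroup R) [GradedRing 𝒜]
  (hpos : ∀ n : ℤ, n < 0 → 𝒜 n = ⊥) (h0 : IsField (GrLC.deg0 𝒜))
  (m : HomogeneousIdeal 𝒜) (hm : IsCoatom m)
  {E : Type u} [AddCommGroup E] [Module R E] (𝓔 : ℤ → AddSubgroup E) [Decomposition 𝓔]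
  [SetLike.GradedSMul 𝒜 𝓔]
  (e : (R ⧸ m.toIdeal) →ₗ[R] E) (he : GrLC.IsStarInjHull 𝒜 (GrLC.quotGr 𝒜 m) 𝓔 e)
  {C : Type u} [AddCommGroup C] [Module R C] (𝒞 : ℤ → AddSubgroup C) [Decomposition 𝒞]
  [SetLike.GradedSMul 𝒜 𝒞]

include hpos h0 hm he in
/-- **the piece of degree `t` of a *canonical module has the dimension of the piece of degree `-t` of the top local
cohomology** (rings graded by additive subgroups) -/
theorem finrank_comp_of_isStarCanonical (I : GrLC.StarInjRes 𝒜 𝒜) (n : ℕ)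
    (hC : GrLC.IsStarCanonical 𝒜 𝒞 𝓔 m n I) {t j : ℤ} (htj : t + j = 0) :
    Module.finrank (GrLC.deg0 𝒜) (GrLC.comp 𝒜 𝒞 t) =
      Module.finrank (GrLC.deg0 𝒜) (I.Hcomp m n j) := by
  obtain ⟨hfin, φ, hφ⟩ := hC
  haveI := hfin
  rw [← finrank_homDeg 𝒜 hpos h0 m hm 𝓔 e he 𝒞 htj]
  exact finrank_homDeg_eq 𝒜 𝒞 𝓔 (fun d => I.Hcomp m n d)
    (Groth.Agent.Helper6.GrH.Hgr_isInternal 𝒜 𝒜 m I n) φ hφ j

end AddSub

section Sub

variable {k R : Type u} [Field k] [CommRing R] [Nontrivial R] [Algebra k R]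
  (𝒜 : ℤ → Submodule k R) [GradedAlgebra 𝒜]
  (hpos : ∀ n : ℤ, n < 0 → 𝒜 n = ⊥) (h0 : 𝒜 0 = Submodule.span k {(1 : R)})
  (mR : HomogeneousIdeal 𝒜)
  (hmR : mR.toIdeal = Ideal.span (⋃ n ∈ Set.Ioi (0 : ℤ), (𝒜 n : Set R)))
  {E : Type u} [AddCommGroup E] [Module R E] (𝓔 : ℤ → AddSubgroup E) [Decomposition 𝓔]
  [SetLike.GradedSMul 𝒜 𝓔]
  (e : (R ⧸ mR.toIdeal) →ₗ[R] E) (he : GrLC.IsStarInjHull 𝒜 (GrLC.quotGr 𝒜 mR) 𝓔 e)
  {C : Type u} [AddCommGroup C] [Module R C] (𝒞 : ℤ → AddSubgroup C) [Decomposition 𝒞]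
  [SetLike.GradedSMul 𝒜 𝒞]

include hpos in
theorem plus_eq_bot_of_neg (n : ℤ) (hn : n < 0) : plus 𝒜 n = ⊥ := by
  rw [eq_bot_iff]
  intro x hx
  have h1 : x ∈ 𝒜 n := hx
  rw [hpos n hn] at h1
  exact (AddSubgroup.mem_bot).mpr ((Submodule.mem_bot k).mp h1)

include he in
/-- a *injective envelope of the residue field, retyped -/
theorem isStarInjHull_plus [SetLike.GradedSMul (plus 𝒜) 𝓔] :
    GrLC.IsStarInjHull (plus 𝒜) (GrLC.quotGr (plus 𝒜) (idealPlus 𝒜 mR)) 𝓔 e where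
  injective := he.injective
  grHom := fun g x hx => he.grHom g x hx
  essential := he.essential
  starInj := isStarInj_plus 𝒜 𝓔 he.starInj

include hpos h0 hmR he in
/-- **the piece of degree `t` of a *canonical module has the dimension of the piece of degree `-t` of the top local
cohomology** (graded rings defined over a field) -/
theorem finrank_comp_of_isStarCanonical_sub (I : GrLC.StarInjRes 𝒜 𝒜) (n : ℕ)
    (hC : GrLC.IsStarCanonical 𝒜 𝒞 𝓔 mR n I) {t j : ℤ} (htj : t + j = 0) :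
    Module.finrank (GrLC.deg0 𝒜) (GrLC.comp 𝒜 𝒞 t) =
      Module.finrank (GrLC.deg0 𝒜) (I.Hcomp mR n j) := by
  haveI : SetLike.GradedSMul (plus 𝒜) 𝓔 := gradedSMul_plus 𝒜 𝓔
  haveI : SetLike.GradedSMul (plus 𝒜) 𝒞 := gradedSMul_plus 𝒜 𝒞
  haveI : SetLike.GradedSMul 𝒜 (plus 𝒜) := gradedSMul_self 𝒜
  have hC' : GrLC.IsStarCanonical (plus 𝒜) 𝒞 𝓔 (idealPlus 𝒜 mR) n (resPlus 𝒜 (resSelf 𝒜 I)) := by
    obtain ⟨hfin, φ, hφ⟩ := hC
    exact ⟨hfin, φ, fun d f hf => hφ d f hf⟩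
  exact finrank_comp_of_isStarCanonical (plus 𝒜) (plus_eq_bot_of_neg 𝒜 hpos) (deg0_isField h0)
    (idealPlus 𝒜 mR) (isStarLocal_idealPlus 𝒜 hpos h0 mR hmR).1 𝓔 e
    (isStarInjHull_plus 𝒜 mR 𝓔 e he) 𝒞 (resPlus 𝒜 (resSelf 𝒜 I)) n hC' htj

end Sub

end Groth.Agent.Helper7.GrDu
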