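import Mathlib
import Groth.Prelude.Def_GrLC
import Groth.Agent.Helper7.GrTopRE1
import Groth.Agent.Helper7.GrDu4

/-!
# Graded Matlis duality, part 5: `H^r_a(X) = 𝔟 H^r_a(X)` when `dim X/𝔟X < r = dim R`, and the consequence for
*canonical modules: a nonzero homogeneous element is not killed by a homogeneous ideal `𝔟` with `dim R/𝔟 < dim R`
(helper7)
-/

set_option autoImplicit false
set_option linter.unusedSectionVars false
set_option linter.style.haveILetI false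

namespace Groth.Agent.Helper7.GrDu

open DirectSum Groth.Agent.Helper6.GrMod Groth.Agent.Helper6.GrCon Groth.Agent.Helper6.GrShift
  Groth.Agent.Helper7.GrDel Groth.Agent.Helper7.GrWkReg Groth.Agent.Helper7.GrTopRE

universe u

section TopQuot

variable {R : Type u} [CommRing R] [IsNoetherianRing R] (𝒜 : ℤ → AddSubgroup R) [GradedRing 𝒜]
  (a : HomogeneousIdeal 𝒜)
  {M : Type u} [AddCommGroup M] [Module R M] {ℳ : ℤ → AddSubgroup M} [Decomposition ℳ]
  [SetLike.GradedSMul 𝒜 ℳ]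
  {N : Type u} [AddCommGroup N] [Module R N] {𝒩 : ℤ → AddSubgroup N} [Decomposition 𝒩]
  [SetLike.GradedSMul 𝒜 𝒩]

/-- right exactness of `H^r` for the quotient by a homogeneous element, degrees forgotten -/
theorem top_quot_ungraded (r : ℕ) (hvan : TopVan 𝒜 a r) (x : R) (t : ℤ) (hx : x ∈ 𝒜 t)
    (π : M →ₗ[R] N) (hπ : Function.Surjective π) (hπg : GrLC.IsGrHom ℳ 𝒩 π)
    (hker : ∀ m, π m = 0 ↔ ∃ m', x • m' = m)
    (E : GrLC.StarInjRes 𝒜 ℳ) (E' : GrLC.StarInjRes 𝒜 𝒩) :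
    (∀ w : E'.H a r, ∃ y : E.H a r, Hphi E E' π hπg a r y = w) ∧
    (∀ y : E.H a r, Hphi E E' π hπg a r y = 0 → ∃ y' : E.H a r, x • y' = y) := by
  let X : GrLC.GMod.{u} 𝒜 := GrLC.GMod.of 𝒜 M ℳ
  let μ : X.carrier →ₗ[R] X.carrier := x • LinearMap.id
  have hKh : (LinearMap.ker μ).IsHomogeneous X.gr := ker_smul_isHomogeneous 𝒜 X hx
  have hIh : (LinearMap.range μ).IsHomogeneous X.gr :=
    Groth.Agent.Helper7.GrFinC.range_smul_isHomogeneous X hx
  let XK : GrLC.GMod.{u} 𝒜 := subGMod 𝒜 X.gr (LinearMap.ker μ) hKh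
  let XI : GrLC.GMod.{u} 𝒜 := subGMod 𝒜 X.gr (LinearMap.range μ) hIh
  let XKs : GrLC.GMod.{u} 𝒜 := shiftGMod 𝒜 XK (-t)
  let XMs : GrLC.GMod.{u} 𝒜 := shiftGMod 𝒜 X (-t)
  obtain ⟨EKs⟩ := Groth.Agent.Helper6.GrExist.nonempty_starInjRes 𝒜 XKs.gr
  obtain ⟨EI⟩ := Groth.Agent.Helper6.GrExist.nonempty_starInjRes 𝒜 XI.gr
  let EMs : GrLC.StarInjRes 𝒜 XMs.gr := shiftRes E (-t)
  let u₂ : XKs.carrier →ₗ[R] XMs.carrier := (LinearMap.ker μ).subtype
  let v₂ : XMs.carrier →ₗ[R] XI.carrier := μ.rangeRestrict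
  have hu₂ : GrLC.IsGrHom XKs.gr XMs.gr u₂ := fun g z hz => hz
  have hv₂ : GrLC.IsGrHom XMs.gr XI.gr v₂ := by
    intro g z hz
    exact smul_mem_gr X hx g z hz
  obtain ⟨δ₂, -, -, -, e22, -⟩ := exists_les EKs EMs EI u₂ v₂ hu₂ hv₂
    Subtype.val_injective μ.surjective_rangeRestrict
    (fun m hm => ⟨⟨m, by
      have := congrArg Subtype.val hm
      exact this⟩, rfl⟩)
    (fun m' => Subtype.ext m'.2) a
  let u₁ : XI.carrier →ₗ[R] M := (LinearMap.range μ).subtype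
  have hu₁ : GrLC.IsGrHom XI.gr ℳ u₁ := fun g z hz => hz
  obtain ⟨δ₁, -, -, e11, e12, -⟩ := exists_les EI E E' u₁ π hu₁ hπg
    Subtype.val_injective hπ
    (fun m hm => by
      obtain ⟨m', hm'⟩ := (hker m).mp hm
      exact ⟨⟨m, ⟨m', hm'⟩⟩, rfl⟩)
    (fun m' => by
      obtain ⟨m'', hm''⟩ := m'.2
      exact (hker _).mpr ⟨m'', hm''⟩) a
  have hssK : Subsingleton (EKs.H a (r + 1)) := hvan XKs EKs
  have hssI : Subsingleton (EI.H a (r + 1)) := hvan XI EI
  constructor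
  · intro w
    exact (e12 r w).mp (Subsingleton.elim _ _)
  · intro y hy0
    obtain ⟨u₀, hu₀⟩ := (e11 r y).mp hy0
    obtain ⟨y₂, hy₂⟩ := (e22 r u₀).mp (Subsingleton.elim _ _)
    refine ⟨y₂, ?_⟩
    have hμg : GrLC.IsGrHom XMs.gr ℳ (x • (LinearMap.id : M →ₗ[R] M)) :=
      fun g z hz => smul_mem_gr X hx g z hz
    have h1 := Hphi_comp (E := EMs) (F := EI) (G := E) (φ := v₂) (ψ := u₁) hv₂ hu₁ a r
    have h2 := Hphi_congr EMs E (φ := u₁ ∘ₗ v₂) (φ' := x • (LinearMap.id : M →ₗ[R] M)) rfl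
      (fun g m hm => hu₁ g _ (hv₂ g m hm)) hμg a r
    have h3 : Hphi EMs E (x • (LinearMap.id : M →ₗ[R] M)) hμg a r y₂ =
        (x • (y₂ : E.H a r) : E.H a r) := by
      rw [Hphi_eq (mulHom E t x hx)]
      exact Hmap_mulHom E t x hx a r y₂
    have h4 : Hphi EI E u₁ hu₁ a r (Hphi EMs EI v₂ hv₂ a r y₂) = y := by
      rw [hy₂, hu₀]
    have h5 : Hphi EMs E (x • (LinearMap.id : M →ₗ[R] M)) hμg a r y₂ = y := by
      rw [← h2, ← h1]
      exact h4
    exact h3.symm.trans h5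

end TopQuot

section TopGen

variable {R : Type u} [CommRing R] [IsNoetherianRing R] (𝒜 : ℤ → AddSubgroup R) [GradedRing 𝒜]
  (a : HomogeneousIdeal 𝒜)

/-- a module killed by `𝔟` has dimension at most `dim R/𝔟` -/
theorem supportDim_le_of_smul_eq_bot (𝔟 : Ideal R) (X : Type u) [AddCommGroup X] [Module R X]
    (h : 𝔟 • (⊤ : Submodule R X) = ⊥) : Module.supportDim R X ≤ ringKrullDim (R ⧸ 𝔟) := by
  rw [ringKrullDim_quotient]
  have hsub : Module.support R X ⊆ PrimeSpectrum.zeroLocus (𝔟 : Set R) := by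
    intro p hp
    rw [PrimeSpectrum.mem_zeroLocus]
    intro b hb
    have h1 : b ∈ Module.annihilator R X := by
      rw [Module.mem_annihilator]
      intro x
      have : b • x ∈ 𝔟 • (⊤ : Submodule R X) := Submodule.smul_mem_smul hb trivial
      rw [h, Submodule.mem_bot] at this
      exact this
    exact Module.annihilator_le_of_mem_support hp h1
  exact Order.krullDim_le_of_strictMono (Set.inclusion hsub) (fun _ _ hlt => hlt)

/-- **`H^r_a(X) = (L) H^r_a(X)`** for a list `L` of homogeneous elements with `𝔟 X ⊆ (L) X` and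
`dim R/𝔟 < r`, when `H^{r+1}_a` vanishes identically -/
theorem top_gen (r : ℕ) (hvan : TopVan 𝒜 a r) (𝔟 : Ideal R)
    (h𝔟 : ringKrullDim (R ⧸ 𝔟) < (r : WithBot ℕ∞)) (L : List R) :
    (∀ x ∈ L, ∃ t : ℤ, x ∈ 𝒜 t) → ∀ (X : GrLC.GMod.{u} 𝒜),
      (𝔟 • (⊤ : Submodule R X.carrier) ≤ Ideal.span {x | x ∈ L} • (⊤ : Submodule R X.carrier)) →
      ∀ (E : GrLC.StarInjRes 𝒜 X.gr),
        (⊤ : Submodule R (E.H a r)) ≤ Ideal.span {x | x ∈ L} • (⊤ : Submodule R (E.H a r)) := by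
  induction L with
  | nil =>
    intro _ X hX E
    have he : {x : R | x ∈ ([] : List R)} = ∅ := by
      ext x
      simp
    rw [he, Ideal.span_empty, Submodule.bot_smul, le_bot_iff] at hX
    have hdim : Module.supportDim R X.carrier < (r : WithBot ℕ∞) :=
      lt_of_le_of_lt (supportDim_le_of_smul_eq_bot 𝔟 X.carrier hX) h𝔟
    obtain ⟨e⟩ := Groth.Agent.Helper7.GrFinC.nonempty_H_equiv a E r
    have hz := Groth.Agent.Helper1.LocCohVanish.isZero_lc_of_supportDim_lt a.toIdeal X.carrier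
      r hdim
    have : Subsingleton (LocCoh.H a.toIdeal r X.carrier) :=
      ModuleCat.subsingleton_of_isZero hz
    have hss : Subsingleton (E.H a r) := e.toEquiv.subsingleton
    intro y _
    rw [Subsingleton.elim y 0]
    exact Submodule.zero_mem _
  | cons x L ih =>
    intro hL X hX E
    obtain ⟨t, hx⟩ := hL x (List.mem_cons_self)
    let μ : X.carrier →ₗ[R] X.carrier := x • LinearMap.id
    have hP : (LinearMap.range μ).IsHomogeneous X.gr :=
      Groth.Agent.Helper7.GrFinC.range_smul_isHomogeneous X hx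
    let XN : GrLC.GMod.{u} 𝒜 := quotGMod 𝒜 X.gr (LinearMap.range μ) hP
    let π : X.carrier →ₗ[R] XN.carrier := (LinearMap.range μ).mkQ
    have hπg : GrLC.IsGrHom X.gr XN.gr π := fun g z hz => mkQ_mem_quotFam X.gr _ hz
    have hπs : Function.Surjective π := (LinearMap.range μ).mkQ_surjective
    have hker : ∀ m, π m = 0 ↔ ∃ m', x • m' = m := fun m =>
      ⟨fun h => (Submodule.Quotient.mk_eq_zero _).mp h,
        fun h => (Submodule.Quotient.mk_eq_zero _).mpr h⟩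
    obtain ⟨EN⟩ := Groth.Agent.Helper6.GrExist.nonempty_starInjRes 𝒜 XN.gr
    have key : ∀ w ∈ Ideal.span {y | y ∈ x :: L} • (⊤ : Submodule R X.carrier),
        π w ∈ Ideal.span {x | x ∈ L} • (⊤ : Submodule R XN.carrier) := by
      intro w hw
      induction hw using Submodule.smul_induction_on' with
      | smul s hs m _ =>
        have he : {y : R | y ∈ x :: L} = insert x {y | y ∈ L} := by
          ext y
          simp
        rw [he, Ideal.mem_span_insert] at hs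
        obtain ⟨b, s', hs', rfl⟩ := hs
        rw [add_smul, map_add, mul_smul, map_smul]
        have h0 : π (x • m) = 0 := (hker _).mpr ⟨m, rfl⟩
        rw [h0, smul_zero, zero_add, map_smul]
        exact Submodule.smul_mem_smul hs' trivial
      | add w₁ _ w₂ _ h₁ h₂ =>
        rw [map_add]
        exact add_mem h₁ h₂
    have hXN : 𝔟 • (⊤ : Submodule R XN.carrier) ≤
        Ideal.span {x | x ∈ L} • (⊤ : Submodule R XN.carrier) := by
      intro z' hz'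
      induction hz' using Submodule.smul_induction_on' with
      | smul b hb z'' _ =>
        obtain ⟨z, rfl⟩ := hπs z''
        rw [← map_smul]
        exact key _ (hX (Submodule.smul_mem_smul hb trivial))
      | add w₁ _ w₂ _ h₁ h₂ => exact add_mem h₁ h₂
    have hEN := ih (fun y hy => hL y (List.mem_cons_of_mem _ hy)) XN hXN EN
    obtain ⟨hsurj, hkerH⟩ := top_quot_ungraded 𝒜 a r hvan x t hx π hπs hπg hker E EN
    have hmono : Ideal.span {y | y ∈ L} • (⊤ : Submodule R (E.H a r)) ≤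
        Ideal.span {y | y ∈ x :: L} • (⊤ : Submodule R (E.H a r)) := by
      apply Submodule.smul_mono_left
      apply Ideal.span_mono
      intro y hy
      exact List.mem_cons_of_mem _ hy
    -- the image of `(L) H` is `(L) H'`
    have himg : ∀ w ∈ Ideal.span {y | y ∈ L} • (⊤ : Submodule R (EN.H a r)),
        ∃ y ∈ Ideal.span {y | y ∈ L} • (⊤ : Submodule R (E.H a r)),
          Hphi E EN π hπg a r y = w := by
      intro w hw
      induction hw using Submodule.smul_induction_on' with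
      | smul s hs w' _ =>
        obtain ⟨y', rfl⟩ := hsurj w'
        exact ⟨s • y', Submodule.smul_mem_smul hs trivial, map_smul _ _ _⟩
      | add w₁ _ w₂ _ h₁ h₂ =>
        obtain ⟨y₁, hy₁, e₁⟩ := h₁
        obtain ⟨y₂, hy₂, e₂⟩ := h₂
        exact ⟨y₁ + y₂, add_mem hy₁ hy₂, by rw [map_add, e₁, e₂]⟩
    intro y _
    obtain ⟨y₁, hy₁, e₁⟩ := himg (Hphi E EN π hπg a r y) (hEN trivial)
    have h0 : Hphi E EN π hπg a r (y - y₁) = 0 := by
      rw [map_sub, e₁, sub_self]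
    obtain ⟨y', hy'⟩ := hkerH (y - y₁) h0
    have hy : y = x • y' + y₁ := by rw [hy', sub_add_cancel]
    rw [hy]
    refine add_mem ?_ (hmono hy₁)
    exact Submodule.smul_mem_smul (Ideal.subset_span (List.mem_cons_self)) trivial

end TopGen

section LemmaT

variable {R : Type u} [CommRing R] [IsNoetherianRing R] (𝒜 : ℤ → AddSubgroup R) [GradedRing 𝒜]
  (hpos : ∀ n : ℤ, n < 0 → 𝒜 n = ⊥) (h0 : IsField (GrLC.deg0 𝒜))
  (m : HomogeneousIdeal 𝒜) (hm : IsCoatom m)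
  {E : Type u} [AddCommGroup E] [Module R E] (𝓔 : ℤ → AddSubgroup E) [Decomposition 𝓔]
  [SetLike.GradedSMul 𝒜 𝓔]
  (e : (R ⧸ m.toIdeal) →ₗ[R] E) (he : GrLC.IsStarInjHull 𝒜 (GrLC.quotGr 𝒜 m) 𝓔 e)
  {C : Type u} [AddCommGroup C] [Module R C] (𝒞 : ℤ → AddSubgroup C) [Decomposition 𝒞]
  [SetLike.GradedSMul 𝒜 𝒞]

include hpos h0 hm he in
/-- a nonzero homogeneous element is detected by a homogeneous map to the envelope -/
theorem exists_hom_ne_zero {d : ℤ} {u : C} (hu : u ∈ 𝒞 d) (hu0 : u ≠ 0) :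
    ∃ f : C →ₗ[R] E, f u ≠ 0 := by
  letI := h0.toField
  have hne : (⟨u, hu⟩ : GrLC.comp 𝒜 𝒞 d) ≠ 0 := fun h => hu0 (congrArg Subtype.val h)
  obtain ⟨ψ, hψ⟩ := Module.Projective.exists_dual_ne_zero (GrLC.deg0 𝒜) hne
  let ε' : GrLC.comp 𝒜 𝓔 0 := ⟨eps m e, eps_mem 𝒜 m 𝓔 e he⟩
  let θ : GrLC.comp 𝒜 𝒞 d →ₗ[GrLC.deg0 𝒜] GrLC.comp 𝒜 𝓔 0 :=
    (LinearMap.toSpanSingleton (GrLC.deg0 𝒜) (GrLC.comp 𝒜 𝓔 0) ε').comp ψ
  have htj : d + -d = 0 := by omega
  obtain ⟨f, hf⟩ := restr_surjective 𝒜 hpos h0 m hm 𝓔 e he 𝒞 htj θ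
  refine ⟨f.1, fun h => ?_⟩
  have h1 := restr_apply 𝒜 𝓔 𝒞 htj f ⟨u, hu⟩
  rw [hf] at h1
  have h2 : ((θ ⟨u, hu⟩ : GrLC.comp 𝒜 𝓔 0) : E) = 0 := h1.trans h
  have h3 : (θ ⟨u, hu⟩ : GrLC.comp 𝒜 𝓔 0) = ψ ⟨u, hu⟩ • ε' := rfl
  rw [h3] at h2
  have h4 : ((ψ ⟨u, hu⟩ : GrLC.deg0 𝒜) : R) • eps m e = 0 := h2
  obtain ⟨c, hc⟩ := h0.mul_inv_cancel hψ
  have hc' : ((ψ ⟨u, hu⟩ : GrLC.deg0 𝒜) : R) * (c : R) = 1 := congrArg Subtype.val hc
  apply eps_ne_zero 𝒜 m hm 𝓔 e he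
  calc eps m e = ((c : R) * ((ψ ⟨u, hu⟩ : GrLC.deg0 𝒜) : R)) • eps m e := by
        rw [mul_comm, hc', one_smul]
    _ = 0 := by rw [mul_smul, h4, smul_zero]

include hpos h0 hm he in
/-- **a nonzero homogeneous element of a *canonical module is not killed by a homogeneous ideal `𝔟` with
`dim R/𝔟 < dim R`** -/
theorem not_dim_lt_of_smul_eq_zero (n : ℕ) (hdim : ringKrullDim R = n) (I : GrLC.StarInjRes 𝒜 𝒜)
    (hC : GrLC.IsStarCanonical 𝒜 𝒞 𝓔 m n I) {d : ℤ} {u : C} (hu : u ∈ 𝒞 d) (hu0 : u ≠ 0)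
    (L : List R) (hL : ∀ x ∈ L, ∃ t : ℤ, x ∈ 𝒜 t) (hLu : ∀ x ∈ L, x • u = 0) :
    ¬ ringKrullDim (R ⧸ Ideal.span {x | x ∈ L}) < (n : WithBot ℕ∞) := by
  intro hlt
  obtain ⟨hfin, φ, hφ⟩ := hC
  have hvan := topVan_of_dim 𝒜 m n hdim
  have hH := top_gen 𝒜 m n hvan (Ideal.span {x | x ∈ L}) hlt L hL (GrLC.GMod.of 𝒜 R 𝒜) le_rfl I
  have hann : Ideal.span {x | x ∈ L} ≤ LinearMap.ker (LinearMap.toSpanSingleton R C u) := by
    rw [Ideal.span_le]
    intro x hx
    rw [SetLike.mem_coe, LinearMap.mem_ker, LinearMap.toSpanSingleton_apply]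
    exact hLu x hx
  have hkey : ∀ g ∈ Ideal.span {x | x ∈ L} • (⊤ : Submodule R (C →ₗ[R] E)), g u = 0 := by
    intro g hg
    induction hg using Submodule.smul_induction_on' with
    | smul b hb g _ =>
      rw [LinearMap.smul_apply, ← map_smul]
      have hb' := hann hb
      rw [LinearMap.mem_ker, LinearMap.toSpanSingleton_apply] at hb'
      rw [hb', map_zero]
    | add f₁ _ f₂ _ h₁ h₂ => rw [LinearMap.add_apply, h₁, h₂, add_zero]
  have hkill : ∀ f : C →ₗ[R] E, f u = 0 := by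
    intro f
    have h1 : φ f ∈ Ideal.span {x | x ∈ L} • (⊤ : Submodule R (I.H m n)) := hH trivial
    have h2 : f ∈ Ideal.span {x | x ∈ L} • (⊤ : Submodule R (C →ₗ[R] E)) := by
      have h3 := Submodule.mem_map_of_mem (f := φ.symm.toLinearMap) h1
      rw [Submodule.map_smul'', Submodule.map_top, LinearEquiv.range] at h3
      have h4 : φ.symm.toLinearMap (φ f) = f := φ.symm_apply_apply f
      rw [h4] at h3
      exact h3
    exact hkey f h2
  obtain ⟨f, hf⟩ := exists_hom_ne_zero 𝒜 hpos h0 m hm 𝓔 e he 𝒞 hu hu0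
  exact hf (hkill f)

end LemmaT

end Groth.Agent.Helper7.GrDu
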