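import Mathlib
import Groth.Prelude.Def_GrLC
import Groth.Agent.Helper7.GrDu5
import Groth.Agent.Helper7.GrTopRE3
import Groth.Agent.Helper7.GrFinD
import Groth.Agent.Helper7.KunT3
import Groth.Agent.Helper7.KunY

/-!
# Graded Matlis duality, part 6: the pieces of the *canonical module of a standard graded ring of dimension `≥ 2`
have dimension `≥ 2` above the initial degree (helper7)
-/

set_option autoImplicit false
set_option linter.unusedSectionVars false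
set_option linter.style.haveILetI false

namespace Groth.Agent.Helper7.GrDu

open DirectSum Groth.Agent.Helper6.GrMod Polynomial

universe u

section Std

variable {R : Type u} [CommRing R] (𝒜 : ℤ → AddSubgroup R) [GradedRing 𝒜]
  (hpos : ∀ n : ℤ, n < 0 → 𝒜 n = ⊥)
  (hstd : Ideal.span (⋃ n ∈ Set.Ioi (0 : ℤ), (𝒜 n : Set R)) =
    Ideal.span ((𝒜 1 : AddSubgroup R) : Set R))

include hpos hstd in
/-- a standard graded ring is generated by its pieces of degrees `0` and `1` -/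
theorem mem_of_std {R' : Type*} [CommRing R'] (q : R →+* R') (S : Subring R')
    (h0 : ∀ x ∈ 𝒜 0, q x ∈ S) (h1 : ∀ x ∈ 𝒜 1, q x ∈ S) (r : R) : q r ∈ S := by
  classical
  have key : ∀ i : ℕ, ∀ x ∈ 𝒜 (i : ℤ), q x ∈ S := by
    intro i
    induction i with
    | zero => exact fun x hx => h0 x hx
    | succ i ih =>
      intro x hx
      have hx1 : x ∈ Ideal.span ((𝒜 1 : AddSubgroup R) : Set R) := by
        rw [← hstd]
        apply Ideal.subset_span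
        rw [Set.mem_iUnion₂]
        exact ⟨((i + 1 : ℕ) : ℤ), by rw [Set.mem_Ioi]; positivity, hx⟩
      obtain ⟨n, f, g, hfg⟩ := Submodule.mem_span_set'.mp hx1
      have hx2 : x = ∑ l, (decompose 𝒜 (f l) (i : ℤ) : R) * (g l : R) := by
        have h3 : (decompose 𝒜 x ((i : ℤ) + 1) : R) = x :=
          decompose_of_mem_same 𝒜 (by rw [Nat.cast_succ] at hx; exact hx)
        rw [← h3, ← hfg, decompose_sum, DFinsupp.finsetSum_apply, AddSubmonoidClass.coe_finsetSum]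
        apply Finset.sum_congr rfl
        intro l _
        exact decompose_smul_right 𝒜 𝒜 (g l).2 (f l) (i : ℤ)
      rw [hx2, map_sum]
      apply Subring.sum_mem
      intro l _
      rw [map_mul]
      exact Subring.mul_mem _ (ih _ (SetLike.coe_mem _)) (h1 _ (g l).2)
  rw [← DirectSum.sum_support_decompose 𝒜 r, map_sum]
  apply Subring.sum_mem
  intro i _
  by_cases hi : i < 0
  · rw [Groth.Agent.Helper7.GrStarLoc.eq_zero_of_neg 𝒜 hpos i hi _ (SetLike.coe_mem _), map_zero]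
    exact Subring.zero_mem _
  · have hi' : ((i.toNat : ℕ) : ℤ) = i := Int.toNat_of_nonneg (by omega)
    apply key i.toNat
    rw [hi']
    exact SetLike.coe_mem _

include hpos hstd in
/-- if the degree-one piece is spanned modulo `𝔟` by a single element over a field `R_0`, then `dim R/𝔟 ≤ 1` -/
theorem ringKrullDim_quot_le_one (h0 : IsField (GrLC.deg0 𝒜)) (𝔟 : Ideal R) (ℓ0 : R)
    (h𝔟 : ∀ ℓ ∈ 𝒜 1, ∃ c ∈ 𝒜 0, ℓ - c * ℓ0 ∈ 𝔟) : ringKrullDim (R ⧸ 𝔟) ≤ 1 := by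
  letI := h0.toField
  let q : R →+* R ⧸ 𝔟 := Ideal.Quotient.mk 𝔟
  let φ : (GrLC.deg0 𝒜)[X] →+* R ⧸ 𝔟 :=
    Polynomial.eval₂RingHom (q.comp (GrLC.deg0 𝒜).subtype) (q ℓ0)
  have hC : ∀ c : GrLC.deg0 𝒜, q (c : R) ∈ φ.range := fun c => ⟨Polynomial.C c, by simp [φ]⟩
  have hX : q ℓ0 ∈ φ.range := ⟨Polynomial.X, by simp [φ]⟩
  have hsurj : Function.Surjective φ := by
    intro y
    obtain ⟨r, rfl⟩ := Ideal.Quotient.mk_surjective y
    have := mem_of_std 𝒜 hpos hstd q φ.range (fun x hx => hC ⟨x, hx⟩) (fun ℓ hℓ => by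
      obtain ⟨c, hc, hcℓ⟩ := h𝔟 ℓ hℓ
      have h1 : q ℓ = q (c * ℓ0) := by
        have := Ideal.Quotient.eq.mpr hcℓ
        exact this
      rw [h1, map_mul]
      exact Subring.mul_mem _ (hC ⟨c, hc⟩) hX) r
    exact this
  have h1 := ringKrullDim_le_of_surjective φ hsurj
  have h2 : ringKrullDim (GrLC.deg0 𝒜)[X] ≤ 1 := by
    have := Polynomial.ringKrullDim_le (R := GrLC.deg0 𝒜)
    rw [ringKrullDim_eq_zero_of_field, mul_zero, zero_add] at this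
    exact this
  exact h1.trans h2

end Std

section Main

variable {R : Type u} [CommRing R] [IsNoetherianRing R] (𝒜 : ℤ → AddSubgroup R) [GradedRing 𝒜]
  (hpos : ∀ n : ℤ, n < 0 → 𝒜 n = ⊥) (h0 : IsField (GrLC.deg0 𝒜))
  (m : HomogeneousIdeal 𝒜) (hm : IsCoatom m)
  (hmsp : m.toIdeal = Ideal.span (⋃ n ∈ Set.Ioi (0 : ℤ), (𝒜 n : Set R)))
  (hstd : Ideal.span (⋃ n ∈ Set.Ioi (0 : ℤ), (𝒜 n : Set R)) =
    Ideal.span ((𝒜 1 : AddSubgroup R) : Set R))
  {E : Type u} [AddCommGroup E] [Module R E] (𝓔 : ℤ → AddSubgroup E) [Decomposition 𝓔]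
  [SetLike.GradedSMul 𝒜 𝓔]
  (e : (R ⧸ m.toIdeal) →ₗ[R] E) (he : GrLC.IsStarInjHull 𝒜 (GrLC.quotGr 𝒜 m) 𝓔 e)
  {C : Type u} [AddCommGroup C] [Module R C] (𝒞 : ℤ → AddSubgroup C) [Decomposition 𝒞]
  [SetLike.GradedSMul 𝒜 𝒞]

include hpos h0 hm hmsp hstd he in
/-- **the pieces of the *canonical module of a standard graded ring of dimension `≥ 2` over a field have dimension
`≥ 2` in every degree above `-a(R)`** -/
theorem two_le_finrank_comp (n : ℕ) (hn : ringKrullDim R = n) (h2 : 2 ≤ n)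
    (I : GrLC.StarInjRes 𝒜 𝒜) (a : ℤ)
    (ha : GrLC.endDeg (I.Hgr m n) = ((a : WithTop ℤ) : WithBot (WithTop ℤ)))
    (hC : GrLC.IsStarCanonical 𝒜 𝒞 𝓔 m n I) (j : ℤ) (hj : -a < j) :
    2 ≤ Module.finrank (GrLC.deg0 𝒜) (GrLC.comp 𝒜 𝒞 j) := by
  classical
  letI := h0.toField
  haveI hfinC : Module.Finite R C := hC.1
  haveI : IsNoetherian R C := isNoetherian_of_isNoetherianRing_of_finite R C
  have hstd' : m.toIdeal = Ideal.span ((𝒜 1 : AddSubgroup R) : Set R) := hmsp.trans hstd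
  have hH : I.Hcomp m n (1 - j) ≠ ⊥ :=
    Groth.Agent.Helper7.GrTopRE.hcomp_ne_bot_of_le 𝒜 m n (by omega) hn hstd' I a ha (1 - j)
      (by omega)
  haveI : Module.Finite R (GrLC.GMod.of 𝒜 R 𝒜).carrier := Module.Finite.self R
  have hHfg : (I.Hcomp m n (1 - j)).FG :=
    Groth.Agent.Helper7.GrFinD.finite 𝒜 hpos m hmsp n (GrLC.GMod.of 𝒜 R 𝒜) I (1 - j)
  haveI : Module.Finite (GrLC.deg0 𝒜) (I.Hcomp m n (1 - j)) := Module.Finite.iff_fg.mpr hHfg
  have hd1 := finrank_comp_of_isStarCanonical 𝒜 hpos h0 m hm 𝓔 e he 𝒞 I n hC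
    (t := j - 1) (j := 1 - j) (by omega)
  have hpos1 : Module.finrank (GrLC.deg0 𝒜) (GrLC.comp 𝒜 𝒞 (j - 1)) ≠ 0 := by
    rw [hd1]
    intro h
    exact hH ((Groth.Agent.Helper7.Kun.finrank_eq_zero_iff_of_isField h0 _).mp h)
  obtain ⟨u, hu, hu0⟩ : ∃ u ∈ 𝒞 (j - 1), u ≠ 0 := by
    by_contra hcon
    push Not at hcon
    apply hpos1
    haveI : Subsingleton (GrLC.comp 𝒜 𝒞 (j - 1)) :=
      ⟨fun x y => Subtype.ext (by rw [hcon x.1 x.2, hcon y.1 y.2])⟩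
    exact Module.finrank_zero_of_subsingleton
  by_contra hlt
  push Not at hlt
  haveI : Module.Finite (GrLC.deg0 𝒜) (GrLC.comp 𝒜 𝒞 j) :=
    Module.Finite.iff_fg.mpr (Groth.Agent.Helper7.Kun.comp_fg 𝒜 𝒞 j)
  have hle1 : Module.finrank (GrLC.deg0 𝒜) (GrLC.comp 𝒜 𝒞 j) ≤ 1 := by omega
  obtain ⟨w, hw⟩ := finrank_le_one_iff.mp hle1
  have hmem : ∀ ℓ ∈ 𝒜 1, ℓ • u ∈ 𝒞 j := by
    intro ℓ hℓ
    have := smul_mem' 𝒜 𝒞 hℓ hu
    have e1 : (1 : ℤ) + (j - 1) = j := by ring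
    rwa [e1] at this
  -- a single element spans the degree-one piece modulo the annihilator of `u`
  obtain ⟨ℓ0, hℓ0, hspan⟩ : ∃ ℓ0 ∈ 𝒜 1, ∀ ℓ ∈ 𝒜 1, ∃ c ∈ 𝒜 0, (ℓ - c * ℓ0) • u = 0 := by
    by_cases hall : ∀ ℓ ∈ 𝒜 1, ℓ • u = 0
    · refine ⟨0, zero_mem _, fun ℓ hℓ => ⟨0, zero_mem _, ?_⟩⟩
      rw [zero_mul, sub_zero]
      exact hall ℓ hℓ
    · push Not at hall
      obtain ⟨ℓ0, hℓ0, hne⟩ := hall
      refine ⟨ℓ0, hℓ0, fun ℓ hℓ => ?_⟩
      obtain ⟨c0, hc0⟩ := hw ⟨ℓ0 • u, hmem ℓ0 hℓ0⟩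
      obtain ⟨c1, hc1⟩ := hw ⟨ℓ • u, hmem ℓ hℓ⟩
      have hc0' : (c0 : R) • (w : C) = ℓ0 • u := congrArg Subtype.val hc0
      have hc1' : (c1 : R) • (w : C) = ℓ • u := congrArg Subtype.val hc1
      have hc0ne : c0 ≠ 0 := by
        intro h
        apply hne
        rw [← hc0', h]
        show (0 : R) • (w : C) = 0
        rw [zero_smul]
      obtain ⟨b, hb⟩ := h0.mul_inv_cancel hc0ne
      have hb' : (c0 : R) * (b : R) = 1 := congrArg Subtype.val hb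
      refine ⟨(c1 : R) * (b : R), ?_, ?_⟩
      · have := SetLike.GradedMul.mul_mem (A := 𝒜) c1.2 b.2
        rwa [add_zero] at this
      · rw [sub_smul, mul_smul, mul_smul, ← hc0', ← mul_smul (b : R), mul_comm (b : R), hb',
          one_smul, hc1', sub_self]
  -- the ideal generated by the degree-one elements killing `u`
  let W : Set R := {y | y ∈ 𝒜 1 ∧ y • u = 0}
  have h𝔟 : ∀ ℓ ∈ 𝒜 1, ∃ c ∈ 𝒜 0, ℓ - c * ℓ0 ∈ Ideal.span W := by
    intro ℓ hℓ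
    obtain ⟨c, hc, hcu⟩ := hspan ℓ hℓ
    refine ⟨c, hc, Ideal.subset_span ⟨?_, hcu⟩⟩
    apply sub_mem hℓ
    have := SetLike.GradedMul.mul_mem (A := 𝒜) hc hℓ0
    rwa [zero_add] at this
  have hdim1 := ringKrullDim_quot_le_one 𝒜 hpos hstd h0 (Ideal.span W) ℓ0 h𝔟
  have hfg : (Ideal.span W).FG := (isNoetherianRing_iff_ideal_fg R).mp inferInstance _
  obtain ⟨s, hs, hss⟩ := (Submodule.fg_span_iff_fg_span_finset_subset _).mp hfg
  have hes : {x : R | x ∈ s.toList} = (s : Set R) := by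
    ext x
    simp
  have hkey := not_dim_lt_of_smul_eq_zero 𝒜 hpos h0 m hm 𝓔 e he 𝒞 n hn I hC hu hu0 s.toList
    (fun x hx => ⟨1, (hs (Finset.mem_toList.mp hx)).1⟩)
    (fun x hx => (hs (Finset.mem_toList.mp hx)).2)
  apply hkey
  rw [hes]
  have hss' : Ideal.span (s : Set R) = Ideal.span W := hss.symm
  rw [hss']
  refine lt_of_le_of_lt hdim1 ?_
  have : ((1 : ℕ) : WithBot ℕ∞) < (n : WithBot ℕ∞) := by
    exact_mod_cast (by omega : 1 < n)
  exact_mod_cast this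

end Main

end Groth.Agent.Helper7.GrDu
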