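import Mathlib
import Groth.Prelude.Def_GrLC
import Groth.Agent.Helper7.GrDu5
import Groth.Agent.Helper7.KunT3

/-!
# Graded Matlis duality, part 7: the *canonical module of a graded domain whose top local cohomology has the Hilbert
function of a shift of the ring is a shift of the ring (helper7)
-/

set_option autoImplicit false
set_option linter.unusedSectionVars false
set_option linter.style.haveILetI false

namespace Groth.Agent.Helper7.GrDu

open DirectSum Groth.Agent.Helper6.GrMod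

universe u

/-- `dim R/(r) < dim R` for a non-zero-divisor `r` when `dim R` is finite -/
theorem ringKrullDim_quot_lt {R : Type u} [CommRing R] {r : R} (hr : r ∈ nonZeroDivisors R) (n : ℕ)
    (hn : ringKrullDim R = n) : ringKrullDim (R ⧸ Ideal.span {r}) < (n : WithBot ℕ∞) := by
  have h := ringKrullDim_quotient_succ_le_of_nonZeroDivisor hr
  rw [hn] at h
  generalize ringKrullDim (R ⧸ Ideal.span {r}) = x at h
  induction x using WithBot.recBotCoe with
  | bot => exact WithBot.bot_lt_coe _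
  | coe c =>
    induction c using ENat.recTopCoe with
    | top =>
      exfalso
      have h' : ((⊤ : ℕ∞) : WithBot ℕ∞) + 1 = ((⊤ : ℕ∞) : WithBot ℕ∞) := rfl
      rw [h'] at h
      have : ((⊤ : ℕ∞) : WithBot ℕ∞) ≤ ((n : ℕ∞) : WithBot ℕ∞) := h
      rw [WithBot.coe_le_coe] at this
      exact absurd this (by simp)
    | coe c =>
      have h' : (((c + 1 : ℕ) : ℕ∞) : WithBot ℕ∞) ≤ ((n : ℕ∞) : WithBot ℕ∞) := by
        exact_mod_cast h
      have h2 : c + 1 ≤ n := by exact_mod_cast h'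
      have h3 : c < n := by omega
      exact_mod_cast h3

section Cyclic

variable {R : Type u} [CommRing R] [IsNoetherianRing R] [IsDomain R] (𝒜 : ℤ → AddSubgroup R)
  [GradedRing 𝒜]
  (hpos : ∀ n : ℤ, n < 0 → 𝒜 n = ⊥) (h0 : IsField (GrLC.deg0 𝒜))
  (m : HomogeneousIdeal 𝒜) (hm : IsCoatom m)
  {E : Type u} [AddCommGroup E] [Module R E] (𝓔 : ℤ → AddSubgroup E) [Decomposition 𝓔]
  [SetLike.GradedSMul 𝒜 𝓔]
  (e : (R ⧸ m.toIdeal) →ₗ[R] E) (he : GrLC.IsStarInjHull 𝒜 (GrLC.quotGr 𝒜 m) 𝓔 e)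
  {C : Type u} [AddCommGroup C] [Module R C] (𝒞 : ℤ → AddSubgroup C) [Decomposition 𝒞]
  [SetLike.GradedSMul 𝒜 𝒞]

/-- the degree-zero piece of the ring is one-dimensional over the degree-zero subring -/
theorem finrank_comp_self_zero (h0 : IsField (GrLC.deg0 𝒜)) :
    Module.finrank (GrLC.deg0 𝒜) (GrLC.comp 𝒜 𝒜 0) = 1 := by
  letI := h0.toField
  let Φ : GrLC.deg0 𝒜 →ₗ[GrLC.deg0 𝒜] GrLC.comp 𝒜 𝒜 0 :=
    { toFun := fun c => ⟨(c : R), c.2⟩
      map_add' := fun _ _ => rfl
      map_smul' := fun _ _ => rfl }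
  have hbij : Function.Bijective Φ :=
    ⟨fun c c' h => Subtype.ext (congrArg Subtype.val h), fun y => ⟨⟨y.1, y.2⟩, rfl⟩⟩
  rw [← (LinearEquiv.ofBijective Φ hbij).finrank_eq]
  exact Module.finrank_self _

include hpos h0 hm he in
/-- **if `dim H^n_m(R)_j = dim R_{-d-j}` for all `j`, the *canonical module of the graded domain `R` is `R(-d)`** -/
theorem exists_bijective_of_hilb (n : ℕ) (hdim : ringKrullDim R = n) (I : GrLC.StarInjRes 𝒜 𝒜)
    (hC : GrLC.IsStarCanonical 𝒜 𝒞 𝓔 m n I) (d : ℤ)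
    (hH : ∀ j : ℤ, Module.finrank (GrLC.deg0 𝒜) (I.Hcomp m n j) =
      Module.finrank (GrLC.deg0 𝒜) (GrLC.comp 𝒜 𝒜 (-d - j))) :
    ∃ f : R →ₗ[R] C, Function.Bijective f ∧ GrLC.IsGrHomDeg 𝒜 𝒞 f d := by
  classical
  letI := h0.toField
  haveI hfinC : Module.Finite R C := hC.1
  haveI : IsNoetherian R C := isNoetherian_of_isNoetherianRing_of_finite R C
  -- dimensions of the pieces
  have hdimC : ∀ t : ℤ, Module.finrank (GrLC.deg0 𝒜) (GrLC.comp 𝒜 𝒞 t) =
      Module.finrank (GrLC.deg0 𝒜) (GrLC.comp 𝒜 𝒜 (t - d)) := by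
    intro t
    rw [finrank_comp_of_isStarCanonical 𝒜 hpos h0 m hm 𝓔 e he 𝒞 I n hC (t := t) (j := -t) (by omega),
      hH (-t)]
    have e1 : -d - -t = t - d := by ring
    rw [e1]
  -- a generator
  have h1 : Module.finrank (GrLC.deg0 𝒜) (GrLC.comp 𝒜 𝒞 d) = 1 := by
    rw [hdimC d, sub_self]
    exact finrank_comp_self_zero 𝒜 h0
  obtain ⟨u, hu, hu0⟩ : ∃ u ∈ 𝒞 d, u ≠ 0 := by
    by_contra hcon
    push Not at hcon
    haveI : Subsingleton (GrLC.comp 𝒜 𝒞 d) :=
      ⟨fun x y => Subtype.ext (by rw [hcon x.1 x.2, hcon y.1 y.2])⟩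
    have := Module.finrank_zero_of_subsingleton (R := GrLC.deg0 𝒜) (M := GrLC.comp 𝒜 𝒞 d)
    omega
  let f : R →ₗ[R] C := LinearMap.toSpanSingleton R C u
  have hfdeg : GrLC.IsGrHomDeg 𝒜 𝒞 f d := by
    intro g r hr
    show f r ∈ 𝒞 (g + d)
    rw [LinearMap.toSpanSingleton_apply]
    exact smul_mem' 𝒜 𝒞 hr hu
  -- injectivity on homogeneous elements
  have hhom : ∀ (g : ℤ) (r : R), r ∈ 𝒜 g → r • u = 0 → r = 0 := by
    intro g r hr hru
    by_contra hr0
    have hnzd : r ∈ nonZeroDivisors R := mem_nonZeroDivisors_of_ne_zero hr0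
    have hlt := ringKrullDim_quot_lt hnzd n hdim
    have hes : {x : R | x ∈ [r]} = {r} := by
      ext x
      simp
    have := not_dim_lt_of_smul_eq_zero 𝒜 hpos h0 m hm 𝓔 e he 𝒞 n hdim I hC hu hu0 [r]
      (fun x hx => ⟨g, by rw [List.mem_singleton.mp hx]; exact hr⟩)
      (fun x hx => by rw [List.mem_singleton.mp hx]; exact hru)
    rw [hes] at this
    exact this hlt
  have hinj : Function.Injective f := by
    refine (injective_iff_map_eq_zero f).mpr ?_
    intro r hr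
    have hr' : r • u = 0 := hr
    apply eq_zero_of_components 𝒜
    intro g
    apply hhom g _ (decompose 𝒜 r g).2
    rw [← decompose_smul_right 𝒜 𝒞 hu r g, hr', decompose_zero]
    rfl
  -- surjectivity on each piece
  have hpiece : ∀ (t : ℤ) (c : C), c ∈ 𝒞 t → c ∈ LinearMap.range f := by
    intro t c hc
    let ft : GrLC.comp 𝒜 𝒜 (t - d) →ₗ[GrLC.deg0 𝒜] GrLC.comp 𝒜 𝒞 t :=
      { toFun := fun r => ⟨r.1 • u, by
          have := smul_mem' 𝒜 𝒞 r.2 hu
          rwa [sub_add_cancel] at this⟩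
        map_add' := fun r r' => Subtype.ext (add_smul r.1 r'.1 u)
        map_smul' := fun c r => Subtype.ext (by
          show ((c : R) * r.1) • u = (c : R) • (r.1 • u)
          rw [mul_smul]) }
    have hftinj : Function.Injective ft := by
      intro r r' h
      have h' : r.1 • u = r'.1 • u := congrArg Subtype.val h
      exact Subtype.ext (hinj h')
    haveI : Module.Finite (GrLC.deg0 𝒜) (GrLC.comp 𝒜 𝒞 t) :=
      Module.Finite.iff_fg.mpr (Groth.Agent.Helper7.Kun.comp_fg 𝒜 𝒞 t)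
    haveI : IsNoetherian R R := inferInstance
    haveI : Module.Finite (GrLC.deg0 𝒜) (GrLC.comp 𝒜 𝒜 (t - d)) :=
      Module.Finite.iff_fg.mpr (Groth.Agent.Helper7.Kun.comp_fg 𝒜 𝒜 (t - d))
    have hsurj := (LinearMap.injective_iff_surjective_of_finrank_eq_finrank (hdimC t).symm).mp hftinj
    obtain ⟨r, hr⟩ := hsurj ⟨c, hc⟩
    exact ⟨r.1, congrArg Subtype.val hr⟩
  have hsurj : Function.Surjective f := by
    intro c
    have : c ∈ LinearMap.range f := by
      rw [← DirectSum.sum_support_decompose 𝒞 c]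
      exact Submodule.sum_mem _ fun t _ => hpiece t _ (decompose 𝒞 c t).2
    exact this
  exact ⟨f, ⟨hinj, hsurj⟩, hfdeg⟩

end Cyclic

end Groth.Agent.Helper7.GrDu
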