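import Mathlib
import Groth.Prelude.Def_GrLC
import Groth.Agent.Helper7.GrDu4
import Groth.Agent.Helper7.KunT3

/-!
# Graded Matlis duality, part 8: the perfect pairing `H × C → R_0` attached to a *canonical module (helper7)
-/

set_option autoImplicit false
set_option linter.unusedSectionVars false
set_option linter.style.haveILetI false

namespace Groth.Agent.Helper7.GrDu

open DirectSum Groth.Agent.Helper6.GrMod

universe u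

/-- a perfect graded pairing `H × C → R_0`: graded Matlis duality over a field, in elementary terms -/
structure DualPair {R : Type u} [CommRing R] (𝒜 : ℤ → AddSubgroup R) [GradedRing 𝒜]
    {H : Type u} [AddCommGroup H] [Module R H] (ℋ : ℤ → AddSubgroup H)
    {C : Type u} [AddCommGroup C] [Module R C] (𝒞 : ℤ → AddSubgroup C) where
  B : H →+ C →+ R
  mem : ∀ h c, B h c ∈ 𝒜 0
  smul : ∀ (r : R) h c, B (r • h) c = B h (r • c)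
  smul0 : ∀ a ∈ 𝒜 0, ∀ h c, B (a • h) c = a * B h c
  nondeg : ∀ t, ∀ c ∈ 𝒞 t, (∀ h ∈ ℋ (-t), B h c = 0) → c = 0
  exists_rep : ∀ (t : ℤ) (l : H → R),
    (∀ h₁ ∈ ℋ (-t), ∀ h₂ ∈ ℋ (-t), l (h₁ + h₂) = l h₁ + l h₂) →
    (∀ a ∈ 𝒜 0, ∀ h ∈ ℋ (-t), l (a • h) = a * l h) → (∀ h ∈ ℋ (-t), l h ∈ 𝒜 0) →
    ∃ c ∈ 𝒞 t, ∀ h ∈ ℋ (-t), B h c = l h

section PairDef

variable {R : Type u} [CommRing R] (𝒜 : ℤ → AddSubgroup R) [GradedRing 𝒜]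
  {C : Type u} [AddCommGroup C] [Module R C]
  {E : Type u} [AddCommGroup E] [Module R E] (𝓔 : ℤ → AddSubgroup E) [Decomposition 𝓔]
  [SetLike.GradedSMul 𝒜 𝓔]
  {H : Type u} [AddCommGroup H] [Module R H]
  (coef : GrLC.comp 𝒜 𝓔 0 →ₗ[GrLC.deg0 𝒜] GrLC.deg0 𝒜) (Ψ : H →ₗ[R] C →ₗ[R] E)

/-- the pairing: the coefficient of the degree-zero component of `Ψ h c` -/
noncomputable def pairB : H →+ C →+ R :=
  AddMonoidHom.mk' (fun h => AddMonoidHom.mk'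
    (fun c => ((coef (projComp 𝒜 𝓔 0 (Ψ h c)) : GrLC.deg0 𝒜) : R))
    (fun c₁ c₂ => by rw [map_add, map_add, map_add]; rfl))
    (fun h₁ h₂ => by
      ext c
      show ((coef (projComp 𝒜 𝓔 0 (Ψ (h₁ + h₂) c)) : GrLC.deg0 𝒜) : R) =
        ((coef (projComp 𝒜 𝓔 0 (Ψ h₁ c)) : GrLC.deg0 𝒜) : R) +
          ((coef (projComp 𝒜 𝓔 0 (Ψ h₂ c)) : GrLC.deg0 𝒜) : R)
      rw [map_add, LinearMap.add_apply, map_add, map_add]; rfl)

theorem pairB_apply (h : H) (c : C) :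
    pairB 𝒜 𝓔 coef Ψ h c = ((coef (projComp 𝒜 𝓔 0 (Ψ h c)) : GrLC.deg0 𝒜) : R) := rfl

theorem pairB_mem (h : H) (c : C) : pairB 𝒜 𝓔 coef Ψ h c ∈ 𝒜 0 :=
  (coef (projComp 𝒜 𝓔 0 (Ψ h c))).2

theorem pairB_smul (r : R) (h : H) (c : C) :
    pairB 𝒜 𝓔 coef Ψ (r • h) c = pairB 𝒜 𝓔 coef Ψ h (r • c) := by
  rw [pairB_apply, pairB_apply, map_smul, LinearMap.smul_apply, ← map_smul]

theorem pairB_smul0 (a : R) (ha : a ∈ 𝒜 0) (h : H) (c : C) :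
    pairB 𝒜 𝓔 coef Ψ (a • h) c = a * pairB 𝒜 𝓔 coef Ψ h c := by
  rw [pairB_apply, pairB_apply, map_smul, LinearMap.smul_apply]
  have h1 : a • (Ψ h) c = (⟨a, ha⟩ : GrLC.deg0 𝒜) • (Ψ h) c := rfl
  rw [h1, map_smul, map_smul]
  rfl

end PairDef

section Concrete

variable {R : Type u} [CommRing R] [IsNoetherianRing R] (𝒜 : ℤ → AddSubgroup R) [GradedRing 𝒜]
  (hpos : ∀ n : ℤ, n < 0 → 𝒜 n = ⊥) (h0 : IsField (GrLC.deg0 𝒜))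
  (m : HomogeneousIdeal 𝒜) (hm : IsCoatom m)
  {E : Type u} [AddCommGroup E] [Module R E] (𝓔 : ℤ → AddSubgroup E) [Decomposition 𝓔]
  [SetLike.GradedSMul 𝒜 𝓔]
  (e : (R ⧸ m.toIdeal) →ₗ[R] E) (he : GrLC.IsStarInjHull 𝒜 (GrLC.quotGr 𝒜 m) 𝓔 e)
  {C : Type u} [AddCommGroup C] [Module R C] (𝒞 : ℤ → AddSubgroup C) [Decomposition 𝒞]
  [SetLike.GradedSMul 𝒜 𝒞] [Module.Finite R C]
  {H : Type u} [AddCommGroup H] [Module R H] (𝓗c : ℤ → Submodule (GrLC.deg0 𝒜) H)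
  (hint : DirectSum.IsInternal (fun d => (𝓗c d).toAddSubgroup))
  (Φ : (C →ₗ[R] E) ≃ₗ[R] H)
  (hΦ : ∀ (d : ℤ) (f : C →ₗ[R] E), f ∈ GrLC.homDeg 𝒜 𝒞 𝓔 d → Φ f ∈ 𝓗c d)
  (coef : GrLC.comp 𝒜 𝓔 0 ≃ₗ[GrLC.deg0 𝒜] GrLC.deg0 𝒜)

include hpos h0 hm he in
theorem nonempty_coef : Nonempty (GrLC.comp 𝒜 𝓔 0 ≃ₗ[GrLC.deg0 𝒜] GrLC.deg0 𝒜) := by
  letI := h0.toField
  have h1 := finrank_comp_zero 𝒜 hpos h0 m hm 𝓔 e he
  haveI : Module.Finite (GrLC.deg0 𝒜) (GrLC.comp 𝒜 𝓔 0) :=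
    Module.finite_of_finrank_pos (by omega)
  exact ⟨LinearEquiv.ofFinrankEq _ _ (by rw [h1, Module.finrank_self])⟩

/-- the key computation -/
theorem pair_key {t j : ℤ} (htj : t + j = 0) (f : GrLC.homDeg 𝒜 𝒞 𝓔 j) (v : GrLC.comp 𝒜 𝒞 t) :
    pairB 𝒜 𝓔 coef.toLinearMap Φ.symm.toLinearMap (Φ f.1) v.1 =
      ((coef (restr 𝒜 𝓔 𝒞 htj f v) : GrLC.deg0 𝒜) : R) := by
  rw [pairB_apply]
  have h1 : (Φ.symm.toLinearMap (Φ f.1)) v.1 = f.1 v.1 := by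
    show (Φ.symm (Φ f.1)) v.1 = f.1 v.1
    rw [LinearEquiv.symm_apply_apply]
  rw [h1]
  have h2 : f.1 v.1 ∈ 𝓔 0 := by
    have := f.2 t v.1 v.2
    rwa [htj] at this
  rw [projComp_of_mem 𝒜 𝓔 h2]
  rfl

include hpos h0 hm he hΦ in
theorem pair_nondeg (t : ℤ) (c : C) (hc : c ∈ 𝒞 t)
    (hB : ∀ h ∈ 𝓗c (-t), pairB 𝒜 𝓔 coef.toLinearMap Φ.symm.toLinearMap h c = 0) : c = 0 := by
  letI := h0.toField
  by_contra hc0
  have hv : (⟨c, hc⟩ : GrLC.comp 𝒜 𝒞 t) ≠ 0 := fun h => hc0 (congrArg Subtype.val h)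
  obtain ⟨ℓ, hℓ⟩ := Module.Projective.exists_dual_ne_zero (GrLC.deg0 𝒜) hv
  have htj : t + -t = 0 := by omega
  obtain ⟨f, hf⟩ := restr_surjective 𝒜 hpos h0 m hm 𝓔 e he 𝒞 htj (coef.symm.toLinearMap.comp ℓ)
  have h1 := pair_key 𝒜 𝓔 𝒞 Φ coef htj f ⟨c, hc⟩
  rw [hB _ (hΦ (-t) f.1 f.2), hf] at h1
  apply hℓ
  apply Subtype.ext
  have h2 : ((coef ((coef.symm.toLinearMap.comp ℓ) ⟨c, hc⟩) : GrLC.deg0 𝒜) : R) =
      ((ℓ ⟨c, hc⟩ : GrLC.deg0 𝒜) : R) := by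
    show ((coef (coef.symm (ℓ ⟨c, hc⟩)) : GrLC.deg0 𝒜) : R) = _
    rw [LinearEquiv.apply_symm_apply]
  rw [h2] at h1
  exact h1.symm

include hpos h0 hm he hΦ hint in
theorem pair_exists_rep (t : ℤ) (l : H → R)
    (hadd : ∀ h₁ ∈ 𝓗c (-t), ∀ h₂ ∈ 𝓗c (-t), l (h₁ + h₂) = l h₁ + l h₂)
    (hsm : ∀ a ∈ 𝒜 0, ∀ h ∈ 𝓗c (-t), l (a • h) = a * l h) (hmem : ∀ h ∈ 𝓗c (-t), l h ∈ 𝒜 0) :
    ∃ c ∈ 𝒞 t, ∀ h ∈ 𝓗c (-t), pairB 𝒜 𝓔 coef.toLinearMap Φ.symm.toLinearMap h c = l h := by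
  letI := h0.toField
  haveI : IsNoetherian R C := isNoetherian_of_isNoetherianRing_of_finite R C
  haveI : Module.Finite (GrLC.deg0 𝒜) (GrLC.comp 𝒜 𝒞 t) :=
    Module.Finite.iff_fg.mpr (Groth.Agent.Helper7.Kun.comp_fg 𝒜 𝒞 t)
  have htj : t + -t = 0 := by omega
  -- the comparison `H_{-t} → (C_t)^∨`
  let Ψ : 𝓗c (-t) →ₗ[GrLC.deg0 𝒜] Module.Dual (GrLC.deg0 𝒜) (GrLC.comp 𝒜 𝒞 t) :=
    { toFun := fun h =>
        { toFun := fun v => ⟨pairB 𝒜 𝓔 coef.toLinearMap Φ.symm.toLinearMap h.1 v.1,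
            pairB_mem 𝒜 𝓔 _ _ _ _⟩
          map_add' := fun v w => by
            apply Subtype.ext
            show pairB 𝒜 𝓔 coef.toLinearMap Φ.symm.toLinearMap h.1 (v.1 + w.1) = _
            rw [map_add]; rfl
          map_smul' := fun a v => by
            apply Subtype.ext
            show pairB 𝒜 𝓔 coef.toLinearMap Φ.symm.toLinearMap h.1 ((a : R) • v.1) =
              (a : R) * pairB 𝒜 𝓔 coef.toLinearMap Φ.symm.toLinearMap h.1 v.1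
            rw [← pairB_smul, pairB_smul0 𝒜 𝓔 _ _ _ a.2] }
      map_add' := fun h h' => by
        apply LinearMap.ext
        intro v
        apply Subtype.ext
        show pairB 𝒜 𝓔 coef.toLinearMap Φ.symm.toLinearMap (h.1 + h'.1) v.1 = _
        rw [map_add]; rfl
      map_smul' := fun a h => by
        apply LinearMap.ext
        intro v
        apply Subtype.ext
        show pairB 𝒜 𝓔 coef.toLinearMap Φ.symm.toLinearMap ((a : R) • h.1) v.1 =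
          (a : R) * pairB 𝒜 𝓔 coef.toLinearMap Φ.symm.toLinearMap h.1 v.1
        rw [pairB_smul0 𝒜 𝓔 _ _ _ a.2] }
  have hΨ : ∀ (h : 𝓗c (-t)) (v : GrLC.comp 𝒜 𝒞 t),
      ((Ψ h v : GrLC.deg0 𝒜) : R) = pairB 𝒜 𝓔 coef.toLinearMap Φ.symm.toLinearMap h.1 v.1 :=
    fun _ _ => rfl
  have hΨsurj : Function.Surjective Ψ := by
    intro ℓ
    obtain ⟨f, hf⟩ := restr_surjective 𝒜 hpos h0 m hm 𝓔 e he 𝒞 htj (coef.symm.toLinearMap.comp ℓ)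
    refine ⟨⟨Φ f.1, hΦ (-t) f.1 f.2⟩, ?_⟩
    apply LinearMap.ext
    intro v
    apply Subtype.ext
    rw [hΨ]
    have h1 := pair_key 𝒜 𝓔 𝒞 Φ coef htj f v
    rw [hf] at h1
    rw [h1]
    show ((coef (coef.symm (ℓ v)) : GrLC.deg0 𝒜) : R) = _
    rw [LinearEquiv.apply_symm_apply]
  have hΨinj : Function.Injective Ψ := by
    refine (injective_iff_map_eq_zero Ψ).mpr ?_
    intro h hh
    have hf : Φ.symm h.1 ∈ GrLC.homDeg 𝒜 𝒞 𝓔 (-t) :=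
      symm_mem_homDeg 𝒜 𝒞 𝓔 (fun d => (𝓗c d).toAddSubgroup) hint Φ hΦ h.2
    have hr : restr 𝒜 𝓔 𝒞 htj ⟨Φ.symm h.1, hf⟩ = 0 := by
      apply LinearMap.ext
      intro v
      have h1 := pair_key 𝒜 𝓔 𝒞 Φ coef htj ⟨Φ.symm h.1, hf⟩ v
      have h2 : Φ (Φ.symm h.1) = h.1 := LinearEquiv.apply_symm_apply Φ h.1
      have h3 : pairB 𝒜 𝓔 coef.toLinearMap Φ.symm.toLinearMap h.1 v.1 = 0 := by
        rw [← hΨ, hh]
        rfl
      have h1' : pairB 𝒜 𝓔 coef.toLinearMap Φ.symm.toLinearMap (Φ (Φ.symm h.1)) v.1 =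
        ((coef (restr 𝒜 𝓔 𝒞 htj ⟨Φ.symm h.1, hf⟩ v) : GrLC.deg0 𝒜) : R) := h1
      rw [h2, h3] at h1'
      have h4 : coef (restr 𝒜 𝓔 𝒞 htj ⟨Φ.symm h.1, hf⟩ v) = 0 := Subtype.ext h1'.symm
      rw [LinearMap.zero_apply]
      exact (LinearEquiv.map_eq_zero_iff coef).mp h4
    have h5 := restr_injective 𝒜 hpos h0 m hm 𝓔 e he 𝒞 htj (hr.trans (map_zero _).symm)
    have h6 : Φ.symm h.1 = 0 := congrArg Subtype.val h5
    apply Subtype.ext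
    show h.1 = 0
    rw [← LinearEquiv.apply_symm_apply Φ h.1, h6, map_zero]
  let Ψe := LinearEquiv.ofBijective Ψ ⟨hΨinj, hΨsurj⟩
  -- the functional
  let lt : 𝓗c (-t) →ₗ[GrLC.deg0 𝒜] GrLC.deg0 𝒜 :=
    { toFun := fun h => ⟨l h.1, hmem h.1 h.2⟩
      map_add' := fun h h' => Subtype.ext (hadd h.1 h.2 h'.1 h'.2)
      map_smul' := fun a h => Subtype.ext (hsm a.1 a.2 h.1 h.2) }
  obtain ⟨v, hv⟩ := (Module.evalEquiv (GrLC.deg0 𝒜) (GrLC.comp 𝒜 𝒞 t)).surjective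
    (lt.comp Ψe.symm.toLinearMap)
  refine ⟨v.1, v.2, fun h hh => ?_⟩
  have h1 := LinearMap.congr_fun hv (Ψ ⟨h, hh⟩)
  rw [Module.evalEquiv_apply, Module.Dual.eval_apply] at h1
  have h2 : (lt.comp Ψe.symm.toLinearMap) (Ψ ⟨h, hh⟩) = lt ⟨h, hh⟩ := by
    show lt (Ψe.symm (Ψe ⟨h, hh⟩)) = _
    rw [LinearEquiv.symm_apply_apply]
  rw [h2] at h1
  have h3 := congrArg Subtype.val h1
  exact h3

include hpos h0 hm he hΦ hint in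
/-- **the perfect pairing attached to a bijection `Hom(C, E) ≅ H` respecting degrees** -/
theorem nonempty_dualPair : Nonempty (DualPair 𝒜 (fun d => (𝓗c d).toAddSubgroup) 𝒞) := by
  obtain ⟨coef⟩ := nonempty_coef 𝒜 hpos h0 m hm 𝓔 e he
  exact ⟨{ B := pairB 𝒜 𝓔 coef.toLinearMap Φ.symm.toLinearMap
           mem := pairB_mem 𝒜 𝓔 _ _
           smul := pairB_smul 𝒜 𝓔 _ _
           smul0 := fun a ha h c => pairB_smul0 𝒜 𝓔 _ _ a ha h c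
           nondeg := fun t c hc hB => pair_nondeg 𝒜 hpos h0 m hm 𝓔 e he 𝒞 𝓗c Φ hΦ coef t c hc hB
           exists_rep := fun t l hadd hsm hmem =>
             pair_exists_rep 𝒜 hpos h0 m hm 𝓔 e he 𝒞 𝓗c hint Φ hΦ coef t l hadd hsm hmem }⟩

end Concrete

end Groth.Agent.Helper7.GrDu
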