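import Mathlib
import Groth.Prelude.Def_GrLC
import Groth.Agent.Helper7.GrDu8
import Groth.Agent.Helper7.GrVer2

/-!
# Graded Matlis duality, part 9: transferring a Veronese-type comparison of the duals to the modules (helper7)
-/

set_option autoImplicit false
set_option linter.unusedSectionVars false
set_option linter.style.haveILetI false

namespace Groth.Agent.Helper7.GrDu

open DirectSum Groth.Agent.Helper6.GrMod Groth.Agent.Helper7.GrVer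

universe u

section Transfer

variable {R R' : Type u} [CommRing R] [CommRing R'] {𝒜 : ℤ → AddSubgroup R} [GradedRing 𝒜]
  {𝒜' : ℤ → AddSubgroup R'} [GradedRing 𝒜'] (D : VData 𝒜 𝒜')
  {C : Type u} [AddCommGroup C] [Module R C] (𝒞 : ℤ → AddSubgroup C) [Decomposition 𝒞]
  [SetLike.GradedSMul 𝒜 𝒞]
  {C' : Type u} [AddCommGroup C'] [Module R' C'] (𝒞' : ℤ → AddSubgroup C') [Decomposition 𝒞']
  [SetLike.GradedSMul 𝒜' 𝒞']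
  {H : Type u} [AddCommGroup H] [Module R H] (ℋ : ℤ → AddSubgroup H)
  {H' : Type u} [AddCommGroup H'] [Module R' H'] (ℋ' : ℤ → AddSubgroup H')
  (hsm' : ∀ (i d : ℤ) (r' : R') (h' : H'), r' ∈ 𝒜' i → h' ∈ ℋ' d → r' • h' ∈ ℋ' (i + d))
  (P : DualPair 𝒜 ℋ 𝒞) (P' : DualPair 𝒜' ℋ' 𝒞')
  (θ : H' →ₛₗ[D.φ] H) (hθi : Function.Injective θ)
  (hθ1 : ∀ (j : ℤ) (h' : H'), h' ∈ ℋ' j → θ h' ∈ ℋ (j * (D.q : ℤ)))
  (hθ2 : ∀ (j : ℤ) (h : H), h ∈ ℋ (j * (D.q : ℤ)) → ∃ h' ∈ ℋ' j, θ h' = h)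

theorem VData.map_mem_zero {a' : R'} (ha' : a' ∈ 𝒜' 0) : D.φ a' ∈ 𝒜 0 := by
  have := D.map_mem 0 a' ha'
  rwa [zero_mul] at this

theorem VData.exists_mem_zero {a : R} (ha : a ∈ 𝒜 0) : ∃ a' ∈ 𝒜' 0, D.φ a' = a := by
  apply D.exists_mem 0 a
  rwa [zero_mul]

include hθ2 in
theorem exists_preimage_neg (j : ℤ) (h : H) (hh : h ∈ ℋ (-(j * (D.q : ℤ)))) :
    ∃ h' ∈ ℋ' (-j), θ h' = h := by
  apply hθ2 (-j) h
  rwa [neg_mul]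

include hθ1 in
theorem map_mem_neg (j : ℤ) (h' : H') (hh' : h' ∈ ℋ' (-j)) : θ h' ∈ ℋ (-(j * (D.q : ℤ))) := by
  have := hθ1 (-j) h' hh'
  rwa [neg_mul] at this

include hθ2 in
/-- two elements of `C_{jq}` with the same pairings against `θ(H'_{-j})` are equal -/
theorem piece_unique (j : ℤ) (c₁ c₂ : C) (h1 : c₁ ∈ 𝒞 (j * (D.q : ℤ))) (h2 : c₂ ∈ 𝒞 (j * (D.q : ℤ)))
    (heq : ∀ h' ∈ ℋ' (-j), P.B (θ h') c₁ = P.B (θ h') c₂) : c₁ = c₂ := by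
  rw [← sub_eq_zero]
  apply P.nondeg (j * (D.q : ℤ)) (c₁ - c₂) (sub_mem h1 h2)
  intro h hh
  obtain ⟨h', hh', rfl⟩ := exists_preimage_neg D ℋ ℋ' θ hθ2 j h hh
  rw [map_sub, heq h' hh', sub_self]

include hθi hθ1 hθ2 in
/-- the image of a homogeneous element -/
theorem exists_piece (j : ℤ) (c' : C') (hc' : c' ∈ 𝒞' j) :
    ∃ c ∈ 𝒞 (j * (D.q : ℤ)), ∀ h' ∈ ℋ' (-j), P.B (θ h') c = D.φ (P'.B h' c') := by
  classical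
  let σ : H → H' := fun h => if hh : ∃ h', θ h' = h then Classical.choose hh else 0
  have hσ : ∀ h', σ (θ h') = h' := by
    intro h'
    have hh : ∃ h'', θ h'' = θ h' := ⟨h', rfl⟩
    show (if hh : ∃ h'', θ h'' = θ h' then Classical.choose hh else 0) = h'
    rw [dif_pos hh]
    exact hθi (Classical.choose_spec hh)
  have key : ∃ c ∈ 𝒞 (j * (D.q : ℤ)), ∀ h ∈ ℋ (-(j * (D.q : ℤ))),
      P.B h c = D.φ (P'.B (σ h) c') := by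
    apply P.exists_rep (j * (D.q : ℤ)) (fun h => D.φ (P'.B (σ h) c'))
    · intro h₁ hh₁ h₂ hh₂
      obtain ⟨h₁', -, rfl⟩ := exists_preimage_neg D ℋ ℋ' θ hθ2 j h₁ hh₁
      obtain ⟨h₂', -, rfl⟩ := exists_preimage_neg D ℋ ℋ' θ hθ2 j h₂ hh₂
      show D.φ (P'.B (σ (θ h₁' + θ h₂')) c') =
        D.φ (P'.B (σ (θ h₁')) c') + D.φ (P'.B (σ (θ h₂')) c')
      rw [← map_add, hσ, hσ, hσ, map_add, AddMonoidHom.add_apply, map_add]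
    · intro a ha h hh
      obtain ⟨h', -, rfl⟩ := exists_preimage_neg D ℋ ℋ' θ hθ2 j h hh
      obtain ⟨a', ha', rfl⟩ := VData.exists_mem_zero D ha
      show D.φ (P'.B (σ (D.φ a' • θ h')) c') = D.φ a' * D.φ (P'.B (σ (θ h')) c')
      rw [← map_smulₛₗ, hσ, hσ, P'.smul0 a' ha', map_mul]
    · intro h _
      exact VData.map_mem_zero D (P'.mem _ _)
  obtain ⟨c, hc, hcB⟩ := key
  refine ⟨c, hc, fun h' hh' => ?_⟩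
  have := hcB (θ h') (map_mem_neg D ℋ ℋ' θ hθ1 j h' hh')
  rw [this, hσ]

/-- the map on the piece of degree `j` -/
noncomputable def gpcFun (j : ℤ) (c' : 𝒞' j) : C :=
  Classical.choose (exists_piece D 𝒞 𝒞' ℋ ℋ' P P' θ hθi hθ1 hθ2 j c'.1 c'.2)

theorem gpcFun_mem (j : ℤ) (c' : 𝒞' j) :
    gpcFun D 𝒞 𝒞' ℋ ℋ' P P' θ hθi hθ1 hθ2 j c' ∈ 𝒞 (j * (D.q : ℤ)) :=
  (Classical.choose_spec (exists_piece D 𝒞 𝒞' ℋ ℋ' P P' θ hθi hθ1 hθ2 j c'.1 c'.2)).1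

theorem gpcFun_spec (j : ℤ) (c' : 𝒞' j) (h' : H') (hh' : h' ∈ ℋ' (-j)) :
    P.B (θ h') (gpcFun D 𝒞 𝒞' ℋ ℋ' P P' θ hθi hθ1 hθ2 j c') = D.φ (P'.B h' c'.1) :=
  (Classical.choose_spec (exists_piece D 𝒞 𝒞' ℋ ℋ' P P' θ hθi hθ1 hθ2 j c'.1 c'.2)).2 h' hh'

/-- the map on the piece of degree `j`, additive -/
noncomputable def gpc (j : ℤ) : 𝒞' j →+ C :=
  AddMonoidHom.mk' (gpcFun D 𝒞 𝒞' ℋ ℋ' P P' θ hθi hθ1 hθ2 j) (by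
    intro c₁ c₂
    apply piece_unique D 𝒞 ℋ ℋ' P θ hθ2 j _ _ (gpcFun_mem D 𝒞 𝒞' ℋ ℋ' P P' θ hθi hθ1 hθ2 j _)
      (add_mem (gpcFun_mem D 𝒞 𝒞' ℋ ℋ' P P' θ hθi hθ1 hθ2 j _)
        (gpcFun_mem D 𝒞 𝒞' ℋ ℋ' P P' θ hθi hθ1 hθ2 j _))
    intro h' hh'
    rw [map_add, gpcFun_spec D 𝒞 𝒞' ℋ ℋ' P P' θ hθi hθ1 hθ2 j _ h' hh',
      gpcFun_spec D 𝒞 𝒞' ℋ ℋ' P P' θ hθi hθ1 hθ2 j _ h' hh',
      gpcFun_spec D 𝒞 𝒞' ℋ ℋ' P P' θ hθi hθ1 hθ2 j _ h' hh', ← map_add, ← map_add]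
    rfl)

/-- the additive map `C' → C` -/
noncomputable def gAdd : C' →+ C :=
  (DirectSum.toAddMonoid (gpc D 𝒞 𝒞' ℋ ℋ' P P' θ hθi hθ1 hθ2)).comp
    (decomposeAddEquiv 𝒞').toAddMonoidHom

theorem gAdd_of_mem {j : ℤ} {c' : C'} (hc' : c' ∈ 𝒞' j) :
    gAdd D 𝒞 𝒞' ℋ ℋ' P P' θ hθi hθ1 hθ2 c' = gpcFun D 𝒞 𝒞' ℋ ℋ' P P' θ hθi hθ1 hθ2 j ⟨c', hc'⟩ := by
  unfold gAdd
  rw [AddMonoidHom.comp_apply]
  show (DirectSum.toAddMonoid _) (decompose 𝒞' c') = _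
  rw [decompose_of_mem 𝒞' hc', DirectSum.toAddMonoid_of]
  rfl

theorem gAdd_mem {j : ℤ} {c' : C'} (hc' : c' ∈ 𝒞' j) :
    gAdd D 𝒞 𝒞' ℋ ℋ' P P' θ hθi hθ1 hθ2 c' ∈ 𝒞 (j * (D.q : ℤ)) := by
  rw [gAdd_of_mem D 𝒞 𝒞' ℋ ℋ' P P' θ hθi hθ1 hθ2 hc']
  exact gpcFun_mem D 𝒞 𝒞' ℋ ℋ' P P' θ hθi hθ1 hθ2 j _

theorem gAdd_spec {j : ℤ} {c' : C'} (hc' : c' ∈ 𝒞' j) (h' : H') (hh' : h' ∈ ℋ' (-j)) :
    P.B (θ h') (gAdd D 𝒞 𝒞' ℋ ℋ' P P' θ hθi hθ1 hθ2 c') = D.φ (P'.B h' c') := by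
  rw [gAdd_of_mem D 𝒞 𝒞' ℋ ℋ' P P' θ hθi hθ1 hθ2 hc']
  exact gpcFun_spec D 𝒞 𝒞' ℋ ℋ' P P' θ hθi hθ1 hθ2 j ⟨c', hc'⟩ h' hh'

include hsm' in
theorem gAdd_smul_homog {i j : ℤ} {r' : R'} (hr' : r' ∈ 𝒜' i) {c' : C'} (hc' : c' ∈ 𝒞' j) :
    gAdd D 𝒞 𝒞' ℋ ℋ' P P' θ hθi hθ1 hθ2 (r' • c') =
      D.φ r' • gAdd D 𝒞 𝒞' ℋ ℋ' P P' θ hθi hθ1 hθ2 c' := by
  have hrc : r' • c' ∈ 𝒞' (i + j) := smul_mem' 𝒜' 𝒞' hr' hc'
  apply piece_unique D 𝒞 ℋ ℋ' P θ hθ2 (i + j) _ _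
    (gAdd_mem D 𝒞 𝒞' ℋ ℋ' P P' θ hθi hθ1 hθ2 hrc)
  · have h1 := smul_mem' 𝒜 𝒞 (D.map_mem i r' hr') (gAdd_mem D 𝒞 𝒞' ℋ ℋ' P P' θ hθi hθ1 hθ2 hc')
    rwa [← add_mul] at h1
  · intro h' hh'
    rw [gAdd_spec D 𝒞 𝒞' ℋ ℋ' P P' θ hθi hθ1 hθ2 hrc h' hh', ← P.smul, ← map_smulₛₗ]
    have hrh : r' • h' ∈ ℋ' (-j) := by
      have := hsm' i (-(i + j)) r' h' hr' hh'
      have e : i + -(i + j) = -j := by ring
      rwa [e] at this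
    rw [gAdd_spec D 𝒞 𝒞' ℋ ℋ' P P' θ hθi hθ1 hθ2 hc' (r' • h') hrh, P'.smul]

include hsm' in
theorem gAdd_smul (r' : R') (c' : C') :
    gAdd D 𝒞 𝒞' ℋ ℋ' P P' θ hθi hθ1 hθ2 (r' • c') =
      D.φ r' • gAdd D 𝒞 𝒞' ℋ ℋ' P P' θ hθi hθ1 hθ2 c' := by
  induction c' using Decomposition.inductionOn 𝒞' with
  | zero => rw [smul_zero, map_zero, smul_zero]
  | @homogeneous j c' =>
    induction r' using Decomposition.inductionOn 𝒜' with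
    | zero => rw [zero_smul, map_zero, map_zero, zero_smul]
    | @homogeneous i r' =>
      exact gAdd_smul_homog D 𝒞 𝒞' ℋ ℋ' hsm' P P' θ hθi hθ1 hθ2 r'.2 c'.2
    | add a b ha hb => rw [add_smul, map_add, ha, hb, map_add, add_smul]
  | add x y hx hy => rw [smul_add, map_add, hx, hy, map_add, smul_add]

theorem decompose_gAdd (c' : C') (j : ℤ) :
    (decompose 𝒞 (gAdd D 𝒞 𝒞' ℋ ℋ' P P' θ hθi hθ1 hθ2 c') (j * (D.q : ℤ)) : C) =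
      gAdd D 𝒞 𝒞' ℋ ℋ' P P' θ hθi hθ1 hθ2 (decompose 𝒞' c' j : C') := by
  induction c' using Decomposition.inductionOn 𝒞' with
  | zero => simp
  | @homogeneous i c' =>
    have hm := gAdd_mem D 𝒞 𝒞' ℋ ℋ' P P' θ hθi hθ1 hθ2 c'.2
    by_cases hij : i = j
    · subst hij
      rw [decompose_of_mem_same 𝒞 hm, decompose_of_mem_same 𝒞' c'.2]
    · have hne : i * (D.q : ℤ) ≠ j * (D.q : ℤ) := fun h => hij (D.mul_inj h)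
      rw [decompose_of_mem_ne 𝒞 hm hne, decompose_of_mem_ne 𝒞' c'.2 hij, map_zero]
  | add x y hx hy =>
    rw [map_add, decompose_add, DirectSum.add_apply, AddSubgroup.coe_add, hx, hy, decompose_add,
      DirectSum.add_apply, AddSubgroup.coe_add, map_add]

include hθ2 in
theorem gAdd_injective : Function.Injective (gAdd D 𝒞 𝒞' ℋ ℋ' P P' θ hθi hθ1 hθ2) := by
  refine (injective_iff_map_eq_zero _).mpr ?_
  intro c' hc'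
  classical
  rw [← DirectSum.sum_support_decompose 𝒞' c']
  apply Finset.sum_eq_zero
  intro j _
  have h1 := decompose_gAdd D 𝒞 𝒞' ℋ ℋ' P P' θ hθi hθ1 hθ2 c' j
  rw [hc', decompose_zero, DirectSum.zero_apply, ZeroMemClass.coe_zero] at h1
  apply P'.nondeg j _ (decompose 𝒞' c' j).2
  intro h' hh'
  have h2 := gAdd_spec D 𝒞 𝒞' ℋ ℋ' P P' θ hθi hθ1 hθ2 (decompose 𝒞' c' j).2 h' hh'
  rw [← h1, map_zero] at h2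
  exact D.inj (h2.symm.trans (map_zero D.φ).symm)

include hθ2 in
theorem gAdd_surj (j : ℤ) (c : C) (hc : c ∈ 𝒞 (j * (D.q : ℤ))) :
    ∃ c' ∈ 𝒞' j, gAdd D 𝒞 𝒞' ℋ ℋ' P P' θ hθi hθ1 hθ2 c' = c := by
  classical
  let ψ : R → R' := fun a => if ha : ∃ a', D.φ a' = a then Classical.choose ha else 0
  have hψ : ∀ a', ψ (D.φ a') = a' := by
    intro a'
    have ha : ∃ a'', D.φ a'' = D.φ a' := ⟨a', rfl⟩
    show (if ha : ∃ a'', D.φ a'' = D.φ a' then Classical.choose ha else 0) = a'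
    rw [dif_pos ha]
    exact D.inj (Classical.choose_spec ha)
  have hψ0 : ∀ a ∈ 𝒜 0, ψ a ∈ 𝒜' 0 ∧ D.φ (ψ a) = a := by
    intro a ha
    obtain ⟨a', ha', rfl⟩ := VData.exists_mem_zero D ha
    rw [hψ]
    exact ⟨ha', rfl⟩
  have key : ∃ c' ∈ 𝒞' j, ∀ h' ∈ ℋ' (-j), P'.B h' c' = ψ (P.B (θ h') c) := by
    apply P'.exists_rep j (fun h' => ψ (P.B (θ h') c))
    · intro h₁ _ h₂ _
      show ψ (P.B (θ (h₁ + h₂)) c) = ψ (P.B (θ h₁) c) + ψ (P.B (θ h₂) c)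
      apply D.inj
      have e1 := (hψ0 _ (P.mem (θ (h₁ + h₂)) c)).2
      have e2 := (hψ0 _ (P.mem (θ h₁) c)).2
      have e3 := (hψ0 _ (P.mem (θ h₂) c)).2
      rw [e1, map_add D.φ, e2, e3, map_add θ, map_add P.B, AddMonoidHom.add_apply]
    · intro a' ha' h' _
      show ψ (P.B (θ (a' • h')) c) = a' * ψ (P.B (θ h') c)
      apply D.inj
      have e1 := (hψ0 _ (P.mem (θ (a' • h')) c)).2
      have e2 := (hψ0 _ (P.mem (θ h') c)).2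
      rw [e1, map_mul, e2, map_smulₛₗ, P.smul0 _ (VData.map_mem_zero D ha')]
    · intro h' _
      exact (hψ0 _ (P.mem _ _)).1
  obtain ⟨c', hc', hcB⟩ := key
  refine ⟨c', hc', ?_⟩
  apply piece_unique D 𝒞 ℋ ℋ' P θ hθ2 j _ _ (gAdd_mem D 𝒞 𝒞' ℋ ℋ' P P' θ hθi hθ1 hθ2 hc') hc
  intro h' hh'
  rw [gAdd_spec D 𝒞 𝒞' ℋ ℋ' P P' θ hθi hθ1 hθ2 hc' h' hh', hcB h' hh']
  exact (hψ0 _ (P.mem _ _)).2

include hsm' hθ2 P P' hθi hθ1 in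
/-- **transfer**: a semilinear bijection `H'_j ≅ H_{jq}` of the duals induces a semilinear injection `C' → C`
carrying `C'_j` onto `C_{jq}` -/
theorem exists_semilinear :
    ∃ g : C' →ₛₗ[D.φ] C, Function.Injective g ∧
      ∀ j : ℤ, (𝒞' j).map (g : C' →+ C) = 𝒞 (j * (D.q : ℤ)) := by
  refine ⟨{ toFun := gAdd D 𝒞 𝒞' ℋ ℋ' P P' θ hθi hθ1 hθ2
            map_add' := map_add _
            map_smul' := gAdd_smul D 𝒞 𝒞' ℋ ℋ' hsm' P P' θ hθi hθ1 hθ2 },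
    gAdd_injective D 𝒞 𝒞' ℋ ℋ' P P' θ hθi hθ1 hθ2, fun j => ?_⟩
  ext c
  constructor
  · rintro ⟨c', hc', rfl⟩
    exact gAdd_mem D 𝒞 𝒞' ℋ ℋ' P P' θ hθi hθ1 hθ2 hc'
  · intro hc
    obtain ⟨c', hc', e⟩ := gAdd_surj D 𝒞 𝒞' ℋ ℋ' P P' θ hθi hθ1 hθ2 j c hc
    exact ⟨c', hc', e⟩

end Transfer

end Groth.Agent.Helper7.GrDu
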