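import Mathlib
import Groth.Prelude.Def_GrLC
import Groth.Prelude.Def_GrSyz
import Groth.Agent.Helper7.GrTorV
import Groth.Agent.Helper7.GrH0

/-!
# The graded pieces of a *injective resolution and of its torsion subcomplex

Cycles of the resolution, the torsion subcomplex, its cycles, boundaries and cohomology, with the
short exact sequences of graded modules relating them.
-/

set_option autoImplicit false
set_option linter.unusedSectionVars false
set_option linter.style.haveILetI false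

open DirectSum

namespace Groth.Agent.Helper7.GrLCObj

open Groth.Agent.Helper7.GrTorV Groth.Agent.Helper7.GrH0

universe u

section Gen

variable {R : Type u} [CommRing R] {σ : Type u} [SetLike σ R] [AddSubgroupClass σ R]
  {𝒜 : ℤ → σ} [GradedRing 𝒜]
  {X : Type u} [AddCommGroup X] [Module R X] (𝒳 : ℤ → AddSubgroup X)

/-- induced pieces on a submodule. -/
def subFam (P : Submodule R X) (d : ℤ) : AddSubgroup ↥P :=
  (𝒳 d).comap P.subtype.toAddMonoidHom

theorem mem_subFam {P : Submodule R X} {d : ℤ} {x : ↥P} : x ∈ subFam 𝒳 P d ↔ (x : X) ∈ 𝒳 d :=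
  Iff.rfl

theorem gsmul_of_graded [SetLike.GradedSMul 𝒜 𝒳] : GSMul (R := R) 𝒜 𝒳 := by
  intro a b s x hs hx
  have := SetLike.GradedSMul.smul_mem (A := 𝒜) (B := 𝒳) hs hx
  rwa [vadd_eq_add] at this

theorem gsmul_subFam [SetLike.GradedSMul 𝒜 𝒳] (P : Submodule R X) :
    GSMul (R := R) 𝒜 (subFam 𝒳 P) := by
  intro a b s x hs hx
  exact gsmul_of_graded (𝒜 := 𝒜) 𝒳 a b s (x : X) hs hx

variable [Decomposition 𝒳] [SetLike.GradedSMul 𝒜 𝒳]

theorem decompose_smul {s : R} {t : ℤ} (hs : s ∈ 𝒜 t) (y : X) (d : ℤ) :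
    (decompose 𝒳 (s • y) (t + d) : X) = s • (decompose 𝒳 y d : X) := by
  classical
  refine DirectSum.Decomposition.inductionOn 𝒳 (motive := fun y =>
    (decompose 𝒳 (s • y) (t + d) : X) = s • (decompose 𝒳 y d : X)) ?_ ?_ ?_ y
  · simp
  · intro i x
    have h1 : s • (x : X) ∈ 𝒳 (t + i) := gsmul_of_graded (𝒜 := 𝒜) 𝒳 t i s x hs x.2
    by_cases h : i = d
    · subst h
      rw [decompose_of_mem_same 𝒳 h1, decompose_of_mem_same 𝒳 x.2]
    · rw [decompose_of_mem_ne 𝒳 h1 (fun h' => h (add_left_cancel h')),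
        decompose_of_mem_ne 𝒳 x.2 h, smul_zero]
  · intro x x' hx hx'
    simp only [smul_add, decompose_add, DirectSum.add_apply, AddSubgroup.coe_add, hx, hx']

theorem isHomogeneous_pow (a : HomogeneousIdeal 𝒜) (n : ℕ) : (a.toIdeal ^ n).IsHomogeneous 𝒜 := by
  induction n with
  | zero =>
    rw [pow_zero, Ideal.one_eq_top]
    exact Ideal.IsHomogeneous.top 𝒜
  | succ n ih =>
    rw [pow_succ]
    exact ih.mul a.isHomogeneous

/-- the torsion submodule of a homogeneous ideal is homogeneous. -/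
theorem decompose_mem_gam (a : HomogeneousIdeal 𝒜) (y : X) (hy : y ∈ GrLC.gam a.toIdeal X)
    (d : ℤ) : (decompose 𝒳 y d : X) ∈ GrLC.gam a.toIdeal X := by
  classical
  obtain ⟨n, hn⟩ := hy
  refine ⟨n, fun s hs => ?_⟩
  rw [← DirectSum.sum_support_decompose 𝒜 s, Finset.sum_smul]
  refine Finset.sum_eq_zero fun t _ => ?_
  have h1 : (decompose 𝒜 s t : R) ∈ a.toIdeal ^ n := isHomogeneous_pow a n t hs
  rw [← decompose_smul 𝒳 (decompose 𝒜 s t).2, hn _ h1, decompose_zero, DirectSum.zero_apply,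
    ZeroMemClass.coe_zero]

end Gen

section Res

variable {R : Type u} [CommRing R] {σ : Type u} [SetLike σ R] [AddSubgroupClass σ R]
  {𝒜 : ℤ → σ} [GradedRing 𝒜]
  {M : Type u} [AddCommGroup M] [Module R M] {τ : Type u} [SetLike τ M] [AddSubgroupClass τ M]
  {ℳ : ℤ → τ} [DirectSum.Decomposition ℳ] [SetLike.GradedSMul 𝒜 ℳ]
  (E : GrLC.StarInjRes 𝒜 ℳ) (a : HomogeneousIdeal 𝒜)

theorem d_comp (q : ℕ) (x : (E.X q).carrier) : E.d (q + 1) (E.d q x) = 0 := by
  have : E.d q x ∈ LinearMap.ker (E.d (q + 1)) := by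
    rw [E.exact_succ]
    exact ⟨x, rfl⟩
  exact this

/-- the cycles of the resolution. -/
abbrev ZE (q : ℕ) : Submodule R (E.X q).carrier := LinearMap.ker (E.d q)

/-- the torsion part of a term. -/
abbrev G (q : ℕ) : Submodule R (E.X q).carrier := GrLC.gam a.toIdeal (E.X q).carrier

/-- the differential as a map onto the cycles. -/
def gE (q : ℕ) : (E.X q).carrier →ₗ[R] ↥(ZE E (q + 1)) :=
  (E.d q).codRestrict _ (fun x => d_comp E q x)

theorem gE_coe (q : ℕ) (x : (E.X q).carrier) : ((gE E q x : ↥(ZE E (q + 1))) : _) = E.d q x := rfl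

/-- `0 → Z^q → E^q → Z^{q+1} → 0`. -/
theorem ses_e (q : ℕ) :
    GrSES (subFam (E.X q).gr (ZE E q)) (E.X q).gr (subFam (E.X (q + 1)).gr (ZE E (q + 1)))
      (ZE E q).subtype (gE E q) where
  f_inj := Subtype.val_injective
  f_mem _ _ hx := hx
  f_strict _ _ hx := hx
  g_mem d y hy := E.d_grHom q d y hy
  g_surj d z hz := by
    have hz2 : (z : (E.X (q + 1)).carrier) ∈ LinearMap.ker (E.d (q + 1)) := z.2
    rw [E.exact_succ] at hz2
    obtain ⟨y, hy⟩ := hz2
    refine ⟨(decompose (E.X q).gr y d : (E.X q).carrier), SetLike.coe_mem _, Subtype.ext ?_⟩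
    rw [gE_coe, ← decompose_map (E.X q).gr (E.X (q + 1)).gr (E.d q) (E.d_grHom q), hy]
    exact decompose_of_mem_same _ hz
  comp_zero x := Subtype.ext x.2
  exact y hy := by
    have : E.d q y = 0 := congrArg Subtype.val hy
    exact ⟨⟨y, this⟩, rfl⟩

theorem d_mem_gam (q : ℕ) (x : (E.X q).carrier) (hx : x ∈ G E a q) : E.d q x ∈ G E a (q + 1) := by
  obtain ⟨n, hn⟩ := hx
  exact ⟨n, fun s hs => by rw [← map_smul, hn s hs, map_zero]⟩

/-- the inclusion of the torsion cycles into the torsion part. -/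
def fA (q : ℕ) : ↥(E.cocyc a q) →ₗ[R] ↥(G E a q) := Submodule.inclusion inf_le_left

/-- the differential from the torsion part onto the boundaries. -/
def gA (q : ℕ) : ↥(G E a q) →ₗ[R] ↥(E.cobdy a (q + 1)) :=
  ((E.d q).domRestrict (G E a q)).codRestrict (E.cobdy a (q + 1)) (fun x => ⟨x, x.2, rfl⟩)

theorem gA_coe (q : ℕ) (x : ↥(G E a q)) :
    ((gA E a q x : ↥(E.cobdy a (q + 1))) : (E.X (q + 1)).carrier) = E.d q x := rfl

/-- `0 → Z^q_Γ → Γ(E^q) → B^{q+1} → 0`. -/
theorem ses_a (q : ℕ) :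
    GrSES (subFam (E.X q).gr (E.cocyc a q)) (subFam (E.X q).gr (G E a q))
      (subFam (E.X (q + 1)).gr (E.cobdy a (q + 1))) (fA E a q) (gA E a q) where
  f_inj := Submodule.inclusion_injective _
  f_mem _ _ hx := hx
  f_strict _ _ hx := hx
  g_mem d y hy := E.d_grHom q d y hy
  g_surj d z hz := by
    obtain ⟨y, hy, hyz⟩ := z.2
    have hyd := decompose_mem_gam (E.X q).gr a y hy d
    refine ⟨⟨(decompose (E.X q).gr y d : (E.X q).carrier), hyd⟩,
      (mem_subFam _).2 (SetLike.coe_mem _), Subtype.ext ?_⟩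
    rw [gA_coe]
    show E.d q (decompose (E.X q).gr y d : (E.X q).carrier) = z
    rw [← decompose_map (E.X q).gr (E.X (q + 1)).gr (E.d q) (E.d_grHom q), hyz]
    exact decompose_of_mem_same _ hz
  comp_zero x := Subtype.ext x.2.2
  exact y hy := by
    have : E.d q y = 0 := congrArg Subtype.val hy
    exact ⟨⟨y, y.2, this⟩, rfl⟩

theorem cobdy_le_cocyc (q : ℕ) : E.cobdy a q ≤ E.cocyc a q := by
  cases q with
  | zero => exact bot_le
  | succ q =>
    rintro _ ⟨y, hy, rfl⟩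
    exact ⟨d_mem_gam E a q y hy, d_comp E q y⟩

/-- the inclusion of the boundaries into the torsion cycles. -/
def fB (q : ℕ) : ↥(E.cobdy a q) →ₗ[R] ↥(E.cocyc a q) :=
  Submodule.inclusion (cobdy_le_cocyc E a q)

/-- `0 → B^q → Z^q_Γ → H^q → 0`. -/
theorem ses_b (q : ℕ) :
    GrSES (subFam (E.X q).gr (E.cobdy a q)) (subFam (E.X q).gr (E.cocyc a q)) (E.Hgr a q)
      (fB E a q) (E.toH a q) where
  f_inj := Submodule.inclusion_injective _
  f_mem _ _ hx := hx
  f_strict _ _ hx := hx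
  g_mem d z hz := ⟨z, hz, rfl⟩
  g_surj d x hx := by
    obtain ⟨z, hz, rfl⟩ := hx
    exact ⟨z, hz, rfl⟩
  comp_zero b := by
    rw [Submodule.mkQ_apply, Submodule.Quotient.mk_eq_zero, Submodule.mem_comap]
    exact b.2
  exact z hz := by
    rw [Submodule.mkQ_apply, Submodule.Quotient.mk_eq_zero, Submodule.mem_comap] at hz
    exact ⟨⟨z, hz⟩, rfl⟩

theorem gsmul_Hgr (q : ℕ) : GSMul (R := R) 𝒜 (E.Hgr a q) := by
  rintro i j s x hs ⟨z, hz, rfl⟩
  refine ⟨s • z, ?_, map_smul _ _ _⟩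
  exact gsmul_of_graded (𝒜 := 𝒜) (E.X q).gr i j s _ hs hz

/-- the module is the module of cycles in degree zero. -/
noncomputable def eM : M ≃ₗ[R] ↥(ZE E 0) :=
  (LinearEquiv.ofInjective E.ε E.ε_injective).trans (LinearEquiv.ofEq _ _ E.exact_zero.symm)

theorem eM_coe (x : M) : ((eM E x : ↥(ZE E 0)) : (E.X 0).carrier) = E.ε x := rfl

theorem eM_mem (d : ℤ) (x : M) : x ∈ ℳ d ↔ eM E x ∈ subFam (E.X 0).gr (ZE E 0) d := by
  rw [mem_subFam, eM_coe]
  exact ⟨fun h => E.ε_grHom d x h,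
    fun h => mem_of_map_mem ℳ (E.X 0).gr E.ε E.ε_grHom E.ε_injective x d h⟩

end Res

end Groth.Agent.Helper7.GrLCObj
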