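import Mathlib
import Groth.Agent.Helper1.TorCrit

set_option autoImplicit false
set_option linter.style.haveILetI false
universe u
open MvPolynomial DirectSum CategoryTheory TensorProduct

namespace Groth.Agent.Helper7.GrFreeTor

variable {k : Type u} [Field k] {n : ℕ}

local notation "S" => MvPolynomial (Fin (n + 1)) k
local notation "𝔪" => RingHom.ker (MvPolynomial.constantCoeff : MvPolynomial (Fin (n + 1)) k →+* k)

/-- shifted homogeneous component -/
noncomputable def hc (a d : ℕ) : S →ₗ[k] S :=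
  if a ≤ d then homogeneousComponent (d - a) else 0

section graded
variable {M : Type u} [AddCommGroup M] [Module (MvPolynomial (Fin (n + 1)) k) M]
  (ℳ : ℕ → AddSubgroup M)
  [SetLike.GradedSMul (MvPolynomial.homogeneousSubmodule (Fin (n + 1)) k) ℳ]
  [DirectSum.Decomposition ℳ]

/-- the `d`-th component as an additive map -/
noncomputable def comp (d : ℕ) : M →+ M :=
  (ℳ d).subtype.comp ((DFinsupp.evalAddMonoidHom d).comp (decomposeAddEquiv ℳ).toAddMonoidHom)

omit [SetLike.GradedSMul (MvPolynomial.homogeneousSubmodule (Fin (n + 1)) k) ℳ] in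
theorem comp_apply (d : ℕ) (z : M) : comp ℳ d z = (decompose ℳ z d : M) := rfl

theorem comp_smul_of_mem {a : ℕ} {x : M} (hx : x ∈ ℳ a) (s : S) (d : ℕ) :
    comp ℳ d (s • x) = hc a d s • x := by
  have key : ∀ (b : ℕ) (q : S), q ∈ homogeneousSubmodule (Fin (n + 1)) k b →
      comp ℳ d (q • x) = hc a d q • x := by
    intro b q hq
    have hqx : q • x ∈ ℳ (b + a) := by
      have := SetLike.GradedSMul.smul_mem (A := homogeneousSubmodule (Fin (n + 1)) k) (B := ℳ) hq hx
      simpa using this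
    rw [comp_apply]
    unfold hc
    by_cases h : b + a = d
    · subst h
      rw [decompose_of_mem_same ℳ hqx, if_pos (Nat.le_add_left _ _), Nat.add_sub_cancel,
        homogeneousComponent_of_mem hq, if_pos rfl]
    · rw [decompose_of_mem_ne ℳ hqx h]
      split_ifs with h1
      · rw [homogeneousComponent_of_mem hq, if_neg (by omega), zero_smul]
      · rw [LinearMap.zero_apply, zero_smul]
  rw [← sum_homogeneousComponent s]
  refine Finset.sum_induction _ (fun q => comp ℳ d (q • x) = hc a d q • x) ?_ ?_ ?_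
  · intro q q' h h'
    rw [add_smul, map_add, h, h', map_add, add_smul]
  · simp
  · intro b _
    exact key b _ (homogeneousComponent_mem b s)

theorem relation_component (T : Finset M) (deg : M → ℕ) (hdeg : ∀ x ∈ T, x ∈ ℳ (deg x))
    (c : ↥T → S) (hc0 : ∑ x : ↥T, c x • (x : M) = 0) (d : ℕ) :
    ∑ x : ↥T, hc (deg x) d (c x) • (x : M) = 0 := by
  have := congrArg (comp ℳ d) hc0
  rw [map_sum, map_zero] at this
  rw [← this]
  refine Finset.sum_congr rfl fun x _ => ?_
  rw [comp_smul_of_mem ℳ (hdeg x x.2)]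

end graded

theorem mem_irrel_iff (p : S) : p ∈ 𝔪 ↔ constantCoeff p = 0 := RingHom.mem_ker

theorem irrel_ne_top : (𝔪 : Ideal S) ≠ ⊤ := by
  rw [Ne, Ideal.eq_top_iff_one, mem_irrel_iff]
  simp

theorem coord_mem_pow (ι : Type u) [Fintype ι] (N : ℕ) (c : ι → S)
    (hc : c ∈ (𝔪 ^ N : Ideal S) • (⊤ : Submodule S (ι → S))) (i : ι) : c i ∈ (𝔪 ^ N : Ideal S) := by
  refine Submodule.smul_induction_on hc ?_ ?_
  · intro p hp t _
    rw [Pi.smul_apply, smul_eq_mul]
    exact Ideal.mul_mem_right _ _ hp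
  · intro x y hx hy
    rw [Pi.add_apply]
    exact Ideal.add_mem _ hx hy

theorem eq_bot_of_le_smul (ι : Type u) [Fintype ι] (K : Submodule S (ι → S))
    (hK : K ≤ (𝔪 : Ideal S) • K) : K = ⊥ := by
  have hpow : ∀ N : ℕ, K ≤ (𝔪 ^ N : Ideal S) • K := by
    intro N
    induction N with
    | zero => rw [pow_zero, Ideal.one_eq_top, Submodule.top_smul]
    | succ N ih =>
      calc K ≤ (𝔪 : Ideal S) • K := hK
        _ ≤ (𝔪 : Ideal S) • ((𝔪 ^ N : Ideal S) • K) := Submodule.smul_mono le_rfl ih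
        _ = (𝔪 ^ (N + 1) : Ideal S) • K := by rw [← Submodule.mul_smul, ← pow_succ']
  rw [eq_bot_iff]
  intro c hc
  rw [Submodule.mem_bot]
  funext i
  have h1 : ∀ N, c i ∈ (𝔪 ^ N : Ideal S) := fun N =>
    coord_mem_pow ι N c (Submodule.smul_mono le_rfl le_top (hpow N hc)) i
  have h2 : c i ∈ (⨅ N : ℕ, (𝔪 ^ N : Ideal S)) := by
    rw [Submodule.mem_iInf]; exact h1
  rw [Ideal.iInf_pow_eq_bot_of_isDomain _ irrel_ne_top] at h2
  exact h2

section main
variable {M : Type u} [AddCommGroup M] [Module (MvPolynomial (Fin (n + 1)) k) M]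
  [Module.Finite (MvPolynomial (Fin (n + 1)) k) M] (ℳ : ℕ → AddSubgroup M)
  [SetLike.GradedSMul (MvPolynomial.homogeneousSubmodule (Fin (n + 1)) k) ℳ]
  [DirectSum.Decomposition ℳ]

omit [SetLike.GradedSMul (MvPolynomial.homogeneousSubmodule (Fin (n + 1)) k) ℳ] in
/-- a finite homogeneous generating set exists -/
theorem exists_homog_gens : ∃ T : Finset M, (∀ x ∈ T, ∃ d, x ∈ ℳ d) ∧
    Submodule.span S (T : Set M) = ⊤ := by
  classical
  obtain ⟨G, hG⟩ := (Module.finite_def (R := MvPolynomial (Fin (n + 1)) k) (M := M)).1 inferInstance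
  refine ⟨G.biUnion fun x => (decompose ℳ x).support.image fun d => (decompose ℳ x d : M), ?_, ?_⟩
  · intro y hy
    rw [Finset.mem_biUnion] at hy
    obtain ⟨x, -, hy⟩ := hy
    rw [Finset.mem_image] at hy
    obtain ⟨d, -, rfl⟩ := hy
    exact ⟨d, (decompose ℳ x d).2⟩
  · rw [eq_top_iff, ← hG, Submodule.span_le]
    intro x hx
    rw [← sum_support_decompose ℳ x]
    refine Submodule.sum_mem _ fun d hd => Submodule.subset_span ?_
    rw [Finset.coe_biUnion, Set.mem_iUnion₂]
    exact ⟨x, hx, Finset.mem_coe.2 (Finset.mem_image.2 ⟨d, hd, rfl⟩)⟩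

theorem main
    (h : Limits.IsZero (((Tor (ModuleCat.{u} S) 1).obj (ModuleCat.of S M)).obj
      (ModuleCat.of S (S ⧸ 𝔪)))) :
    ∃ (ι : Type u) (b : Module.Basis ι S M), ∀ i, SetLike.IsHomogeneousElem ℳ (b i) := by
  classical
  -- minimal homogeneous generating set
  let P : ℕ → Prop := fun r => ∃ T : Finset M, T.card = r ∧ (∀ x ∈ T, ∃ d, x ∈ ℳ d) ∧
    Submodule.span S (T : Set M) = ⊤
  have hex : ∃ r, P r := by
    obtain ⟨T, h1, h2⟩ := exists_homog_gens (k := k) (n := n) ℳ
    exact ⟨T.card, T, rfl, h1, h2⟩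
  obtain ⟨T, hTcard, hThom, hTspan⟩ := Nat.find_spec hex
  have hmin : ∀ T' : Finset M, (∀ x ∈ T', ∃ d, x ∈ ℳ d) →
      Submodule.span S (T' : Set M) = ⊤ → T.card ≤ T'.card := by
    intro T' h1 h2
    rw [hTcard]
    exact Nat.find_min' hex ⟨T', rfl, h1, h2⟩
  choose! deg hdeg using hThom
  -- relations have coefficients in the irrelevant ideal
  have hrel : ∀ c : ↥T → S, ∑ x : ↥T, c x • (x : M) = 0 → ∀ y : ↥T, c y ∈ 𝔪 := by
    intro c hc0 y
    by_contra hy
    rw [mem_irrel_iff] at hy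
    have hcomp := relation_component ℳ T deg hdeg c hc0 (deg y)
    rw [← Finset.add_sum_erase _ _ (Finset.mem_univ y)] at hcomp
    have hyy : hc (deg (y : M)) (deg (y : M)) (c y) = C (constantCoeff (c y)) := by
      unfold hc
      rw [if_pos le_rfl, Nat.sub_self, homogeneousComponent_zero]
      rfl
    rw [hyy] at hcomp
    have hmem : (C (constantCoeff (c y)) : S) • (y : M) ∈ Submodule.span S ((T.erase y : Finset M) : Set M) := by
      rw [eq_neg_of_add_eq_zero_left hcomp]
      refine Submodule.neg_mem _ (Submodule.sum_mem _ fun x hx => ?_)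
      refine Submodule.smul_mem _ _ (Submodule.subset_span ?_)
      rw [Finset.mem_coe, Finset.mem_erase]
      refine ⟨fun hxy => (Finset.mem_erase.1 hx).1 (Subtype.ext hxy), x.2⟩
    have hy' : (y : M) ∈ Submodule.span S ((T.erase y : Finset M) : Set M) := by
      have := Submodule.smul_mem _ (C (constantCoeff (c y))⁻¹ : S) hmem
      rwa [smul_smul, ← C_mul, inv_mul_cancel₀ hy, C_1, one_smul] at this
    have hspan : Submodule.span S ((T.erase y : Finset M) : Set M) = ⊤ := by
      rw [eq_top_iff, ← hTspan, Submodule.span_le]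
      intro x hx
      by_cases hxy : x = y
      · rw [hxy]; exact hy'
      · exact Submodule.subset_span (Finset.mem_coe.2 (Finset.mem_erase.2 ⟨hxy, hx⟩))
    have h1 := hmin (T.erase y) (fun x hx => ⟨deg x, hdeg x (Finset.mem_of_mem_erase hx)⟩) hspan
    have h2 := Finset.card_erase_lt_of_mem y.2
    omega
  -- the presentation
  let g : (↥T → S) →ₗ[S] M := Fintype.linearCombination S (fun x : ↥T => (x : M))
  have hg : Function.Surjective g := by
    rw [← LinearMap.range_eq_top, Fintype.range_linearCombination, Subtype.range_coe_subtype]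
    exact hTspan
  let K := LinearMap.ker g
  have hinj := (Groth.Agent.Helper1.TorLib.isZero_torOne_iff_rTensor_injective K.subtype g
    (Submodule.injective_subtype K) hg (LinearMap.exact_subtype_ker_map g) (S ⧸ 𝔪)).1 h
  have htz : ∀ c' : ↥T → S, (∀ y, c' y ∈ 𝔪) → c' ⊗ₜ[S] (1 : S ⧸ 𝔪) = 0 := by
    intro c' hc'
    have hcsum : c' = ∑ y : ↥T, c' y • (Pi.single y (1 : S) : ↥T → S) := by
      funext z
      simp [Finset.sum_apply, Pi.single_apply]
    rw [hcsum, TensorProduct.sum_tmul]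
    refine Finset.sum_eq_zero fun y _ => ?_
    have h1 : (c' y) • (1 : S ⧸ 𝔪) = 0 := by
      rw [Algebra.smul_def, mul_one, Ideal.Quotient.algebraMap_eq, Ideal.Quotient.eq_zero_iff_mem]
      exact hc' y
    rw [TensorProduct.smul_tmul, h1, TensorProduct.tmul_zero]
  have hK : K ≤ (𝔪 : Ideal S) • K := by
    intro c hc
    have hcm : ∀ y, c y ∈ 𝔪 := hrel c (by
      have : g c = 0 := hc
      rwa [Fintype.linearCombination_apply] at this)
    have h0 : (K.subtype.rTensor (S ⧸ 𝔪)) ((⟨c, hc⟩ : K) ⊗ₜ[S] (1 : S ⧸ 𝔪)) = 0 := by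
      rw [LinearMap.rTensor_tmul, Submodule.subtype_apply]
      exact htz c hcm
    have h1 : ((⟨c, hc⟩ : K) ⊗ₜ[S] (1 : S ⧸ 𝔪)) = 0 := hinj (by rw [h0, map_zero])
    have h2 := congrArg (TensorProduct.tensorQuotEquivQuotSMul (↥K) (𝔪 : Ideal S)) h1
    rw [← map_one (Ideal.Quotient.mk (𝔪 : Ideal S)),
      TensorProduct.tensorQuotEquivQuotSMul_tmul_mk, map_zero, one_smul,
      Submodule.Quotient.mk_eq_zero] at h2
    have h3 := Submodule.mem_map_of_mem (f := K.subtype) h2
    rwa [Submodule.map_smul'', Submodule.map_top, Submodule.range_subtype] at h3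
  have hK0 : K = ⊥ := eq_bot_of_le_smul (↥T) K hK
  have hginj : Function.Injective g := LinearMap.ker_eq_bot.1 hK0
  let e : (↥T → S) ≃ₗ[S] M := LinearEquiv.ofBijective g ⟨hginj, hg⟩
  refine ⟨↥T, (Pi.basisFun S ↥T).map e, fun y => ⟨deg y, ?_⟩⟩
  have : ((Pi.basisFun S ↥T).map e) y = (y : M) := by
    rw [Module.Basis.map_apply, Pi.basisFun_apply]
    show g (Pi.single y 1) = _
    rw [Fintype.linearCombination_apply]
    simp [Pi.single_apply]
  rw [this]
  exact hdeg y y.2

end main

end Groth.Agent.Helper7.GrFreeTor
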