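import Mathlib
import Groth.Prelude.Def_GrLC
import Groth.Prelude.Def_Wider
import Groth.Agent.Helper6.GrMod
import Groth.Agent.Helper6.GrCon
import Groth.Agent.Helper6.GrExt
import Groth.Agent.Helper7.GrFinA
import Groth.Agent.Helper7.GrStarLoc1

/-!
# Descent of an isomorphism `C_m ≅ R_m` to a homogeneous isomorphism `R(a) ≅ C` for a finitely generated graded
module over a graded ring defined over a field (helper7)
-/

set_option autoImplicit false
set_option linter.unusedSectionVars false
set_option linter.style.haveILetI false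

namespace Groth.Agent.Helper7.GrGor

open DirectSum Groth.Agent.Helper6.GrMod Groth.Agent.Helper6.GrCon IsLocalRing TensorProduct

universe u

variable {R : Type u} [CommRing R] (𝒜 : ℤ → AddSubgroup R) [GradedRing 𝒜]
  (hpos : ∀ n : ℤ, n < 0 → 𝒜 n = ⊥) (h0 : IsField (GrLC.deg0 𝒜))
  (m : HomogeneousIdeal 𝒜)
  (hmsp : m.toIdeal = Ideal.span (⋃ n ∈ Set.Ioi (0 : ℤ), (𝒜 n : Set R)))

include hpos h0 hmsp in
/-- the degree-zero component of an element outside the irrelevant ideal is invertible in degree zero -/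
theorem exists_deg0_inv (s : R) (hs : s ∉ m.toIdeal) :
    ∃ u ∈ 𝒜 0, u * (decompose 𝒜 s 0 : R) = 1 := by
  have h1 := Groth.Agent.Helper7.GrFinA.sub_decompose_zero_mem 𝒜 hpos m hmsp s
  have hne : (⟨(decompose 𝒜 s 0 : R), SetLike.coe_mem _⟩ : GrLC.deg0 𝒜) ≠ 0 := by
    intro h
    have h2 : (decompose 𝒜 s 0 : R) = 0 := congrArg Subtype.val h
    rw [h2, sub_zero] at h1
    exact hs h1
  obtain ⟨u, hu⟩ := h0.mul_inv_cancel hne
  refine ⟨(u : R), u.2, ?_⟩
  have := congrArg Subtype.val hu
  rw [mul_comm]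
  exact this

section Inj

variable {Q : Type u} [AddCommGroup Q] [Module R Q] (𝒬 : ℤ → AddSubgroup Q) [Decomposition 𝒬]
  [SetLike.GradedSMul 𝒜 𝒬]

include 𝒬 hpos h0 hmsp in
/-- elements outside the irrelevant ideal are nonzerodivisors on every graded module -/
theorem smul_injective_of_notMem (s : R) (hs : s ∉ m.toIdeal) :
    Function.Injective (fun z : Q => s • z) := by
  classical
  obtain ⟨u, hu0, hu⟩ := exists_deg0_inv 𝒜 hpos h0 m hmsp s hs
  intro z z' h
  have h' : s • (z - z') = 0 := by rw [smul_sub]; exact sub_eq_zero.2 h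
  by_contra hne
  have hw : z - z' ≠ 0 := sub_ne_zero.2 hne
  generalize z - z' = w at h' hw
  have hsupp : (DFinsupp.support (decompose 𝒬 w)).Nonempty := by
    rw [Finset.nonempty_iff_ne_empty]
    intro h
    apply hw
    rw [← DirectSum.sum_support_decompose 𝒬 w, h, Finset.sum_empty]
  set j0 := (DFinsupp.support (decompose 𝒬 w)).min' hsupp with hj0
  have hj0mem : j0 ∈ DFinsupp.support (decompose 𝒬 w) := Finset.min'_mem _ hsupp
  have hwj0 : (decompose 𝒬 w j0 : Q) ≠ 0 := by
    intro h
    rw [DFinsupp.mem_support_iff] at hj0mem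
    exact hj0mem (Subtype.ext h)
  have hsum : s • w = ∑ j ∈ DFinsupp.support (decompose 𝒬 w), s • (decompose 𝒬 w j : Q) := by
    conv_lhs => rw [← DirectSum.sum_support_decompose 𝒬 w]
    rw [Finset.smul_sum]
  have hcomp : (decompose 𝒬 (s • w) j0 : Q) =
      (decompose 𝒜 s 0 : R) • (decompose 𝒬 w j0 : Q) := by
    rw [hsum, decompose_sum, DFinsupp.finsetSum_apply, AddSubmonoidClass.coe_finsetSum,
      Finset.sum_eq_single j0]
    · have := decompose_smul_right 𝒜 𝒬 (SetLike.coe_mem (decompose 𝒬 w j0)) s 0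
      rw [zero_add] at this
      exact this
    · intro j hj hjne
      have hlt : j0 < j := lt_of_le_of_ne (Finset.min'_le _ j hj) (Ne.symm hjne)
      have := decompose_smul_right 𝒜 𝒬 (SetLike.coe_mem (decompose 𝒬 w j)) s (j0 - j)
      rw [sub_add_cancel] at this
      rw [this, Groth.Agent.Helper7.GrStarLoc.eq_zero_of_neg 𝒜 hpos (j0 - j) (by omega) _
        (SetLike.coe_mem _), zero_smul]
    · intro h; exact absurd hj0mem h
  rw [h', decompose_zero, DirectSum.zero_apply, ZeroMemClass.coe_zero] at hcomp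
  apply hwj0
  calc (decompose 𝒬 w j0 : Q) = (u * (decompose 𝒜 s 0 : R)) • (decompose 𝒬 w j0 : Q) := by
        rw [hu, one_smul]
    _ = u • ((decompose 𝒜 s 0 : R) • (decompose 𝒬 w j0 : Q)) := mul_smul _ _ _
    _ = 0 := by rw [← hcomp, smul_zero]

end Inj

variable {C : Type u} [AddCommGroup C] [Module R C] (𝒞 : ℤ → AddSubgroup C) [Decomposition 𝒞]
  [SetLike.GradedSMul 𝒜 𝒞]

include hpos h0 hmsp in
/-- homogeneous submodules are saturated with respect to the complement of the irrelevant ideal -/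
theorem mem_of_smul_mem (N : Submodule R C) (hN : N.IsHomogeneous 𝒞) (s : R)
    (hs : s ∉ m.toIdeal) (y : C) (h : s • y ∈ N) : y ∈ N := by
  have h1 : s • N.mkQ y = s • (0 : C ⧸ N) := by
    rw [← map_smul, smul_zero]
    exact (Submodule.Quotient.mk_eq_zero N).2 h
  have h2 := smul_injective_of_notMem 𝒜 hpos h0 m hmsp (quotGMod 𝒜 𝒞 N hN).gr s hs h1
  exact (Submodule.Quotient.mk_eq_zero N).1 h2

include hpos h0 hmsp in
/-- **descent**: if `C_m ≅ R_m` then `C` is homogeneously isomorphic to a shift of `R` -/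
theorem exists_homog_iso_of_local_iso [hmp : m.toIdeal.IsPrime] [Module.Finite R C]
    (ψ : (Localization.AtPrime m.toIdeal) ⊗[R] C ≃ₗ[Localization.AtPrime m.toIdeal]
      Localization.AtPrime m.toIdeal) :
    ∃ (a : ℤ) (f : R →ₗ[R] C), Function.Bijective f ∧ GrLC.IsGrHomDeg 𝒜 𝒞 f a := by
  classical
  obtain ⟨J, _, x, d, hx, hspan⟩ := Groth.Agent.Helper6.GrExt.exists_homog_generators (R := R) 𝒞
  -- some generator maps to a unit
  have hexu : ∃ j : J, IsUnit (ψ ((1 : Localization.AtPrime m.toIdeal) ⊗ₜ[R] x j)) := by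
    by_contra hno
    push Not at hno
    have hall : ∀ z : (Localization.AtPrime m.toIdeal) ⊗[R] C,
        ψ z ∈ maximalIdeal (Localization.AtPrime m.toIdeal) := by
      intro z
      have hz : z ∈ Submodule.span (Localization.AtPrime m.toIdeal)
          (TensorProduct.mk R (Localization.AtPrime m.toIdeal) C 1 '' Set.range x) := by
        rw [← Submodule.baseChange_span, hspan, Submodule.baseChange_top]
        trivial
      induction hz using Submodule.span_induction with
      | mem z hz =>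
        obtain ⟨_, ⟨j, rfl⟩, rfl⟩ := hz
        exact hno j
      | zero => rw [map_zero]; exact zero_mem _
      | add z z' _ _ hz hz' => rw [map_add]; exact add_mem hz hz'
      | smul b z _ hz => rw [map_smul]; exact Ideal.mul_mem_left _ _ hz
    have h1 := hall (ψ.symm 1)
    rw [ψ.apply_symm_apply] at h1
    exact (maximalIdeal.isMaximal (Localization.AtPrime m.toIdeal)).ne_top
      ((Ideal.eq_top_iff_one _).2 h1)
  obtain ⟨j, hu⟩ := hexu
  set c : C := x j with hc
  have hcmem : c ∈ 𝒞 (d j) := hx j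
  set f : R →ₗ[R] C := LinearMap.toSpanSingleton R C c with hf
  have hψr : ∀ (r : R) (y : C), ψ ((1 : Localization.AtPrime m.toIdeal) ⊗ₜ[R] (r • y)) =
      algebraMap R (Localization.AtPrime m.toIdeal) r *
        ψ ((1 : Localization.AtPrime m.toIdeal) ⊗ₜ[R] y) := by
    intro r y
    rw [TensorProduct.tmul_smul, ← algebraMap_smul (Localization.AtPrime m.toIdeal) r
      ((1 : Localization.AtPrime m.toIdeal) ⊗ₜ[R] y), map_smul, smul_eq_mul]
  refine ⟨d j, f, ⟨?_, ?_⟩, ?_⟩
  · -- injective
    rw [← LinearMap.ker_eq_bot, LinearMap.ker_eq_bot']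
    intro r hr
    rw [hf, LinearMap.toSpanSingleton_apply] at hr
    have h1 := hψr r c
    rw [hr, TensorProduct.tmul_zero, map_zero] at h1
    have h2 : algebraMap R (Localization.AtPrime m.toIdeal) r = 0 := by
      have := hu.mul_left_eq_zero.1 h1.symm
      exact this
    obtain ⟨s, hs⟩ := (IsLocalization.map_eq_zero_iff m.toIdeal.primeCompl
      (Localization.AtPrime m.toIdeal) r).1 h2
    have h3 : (s : R) • r = (s : R) • (0 : R) := by
      rw [smul_zero, smul_eq_mul]; exact hs
    exact smul_injective_of_notMem 𝒜 hpos h0 m hmsp 𝒜 (s : R) s.2 h3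
  · -- surjective
    intro y
    have hN : (Submodule.span R {c}).IsHomogeneous 𝒞 := span_singleton_isHomogeneous 𝒜 𝒞 hcmem
    suffices hy : y ∈ Submodule.span R {c} by
      obtain ⟨r, hr⟩ := Submodule.mem_span_singleton.1 hy
      exact ⟨r, by rw [hf, LinearMap.toSpanSingleton_apply]; exact hr⟩
    obtain ⟨v, hv⟩ := hu
    set b' : Localization.AtPrime m.toIdeal :=
      (↑v⁻¹ : Localization.AtPrime m.toIdeal) *
        ψ ((1 : Localization.AtPrime m.toIdeal) ⊗ₜ[R] y) with hb'
    obtain ⟨⟨r, s⟩, hrs⟩ := IsLocalization.surj m.toIdeal.primeCompl b'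
    have hrs' : b' * algebraMap R (Localization.AtPrime m.toIdeal) (s : R) =
        algebraMap R (Localization.AtPrime m.toIdeal) r := hrs
    have h1 : ψ ((1 : Localization.AtPrime m.toIdeal) ⊗ₜ[R] ((s : R) • y - r • c)) = 0 := by
      rw [TensorProduct.tmul_sub, map_sub, hψr, hψr, ← hv, ← hrs', hb']
      have hvv : (v : Localization.AtPrime m.toIdeal) * (↑v⁻¹ : Localization.AtPrime m.toIdeal) = 1 :=
        v.mul_inv
      linear_combination (-(algebraMap R (Localization.AtPrime m.toIdeal) (s : R)) *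
        ψ ((1 : Localization.AtPrime m.toIdeal) ⊗ₜ[R] y)) * hvv
    have h2 : (TensorProduct.mk R (Localization.AtPrime m.toIdeal) C 1) ((s : R) • y - r • c) = 0 :=
      ψ.injective (by rw [map_zero]; exact h1)
    obtain ⟨s', hs'⟩ := (IsLocalizedModule.eq_zero_iff m.toIdeal.primeCompl
      (TensorProduct.mk R (Localization.AtPrime m.toIdeal) C 1)).1 h2
    have h3 : ((s' : R) * (s : R)) • y ∈ Submodule.span R {c} := by
      have h4 : ((s' : R) * (s : R)) • y = ((s' : R) * r) • c := by
        have h5 : (s' : R) • ((s : R) • y - r • c) = 0 := hs'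
        rw [smul_sub, sub_eq_zero] at h5
        rw [mul_smul, mul_smul, h5]
      rw [h4]
      exact Submodule.smul_mem _ _ (Submodule.mem_span_singleton_self c)
    exact mem_of_smul_mem 𝒜 hpos h0 m hmsp 𝒞 _ hN _ (s' * s).2 y h3
  · intro g r hr
    rw [hf, LinearMap.toSpanSingleton_apply]
    exact smul_mem' 𝒜 𝒞 hr hcmem

end Groth.Agent.Helper7.GrGor
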