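import Mathlib
import Groth.Prelude.Def_GrLC
import Groth.Agent.Helper7.GrDel6

/-!
# Hilbert functions of graded local cohomology along a homogeneous non-zero-divisor (helper7)
-/

set_option autoImplicit false
set_option linter.unusedSectionVars false
set_option linter.style.haveILetI false

namespace Groth.Agent.Helper7.GrHilb

open DirectSum Groth.Agent.Helper7.GrDel

universe u

section Step

variable {R : Type u} [CommRing R] {𝒜 : ℤ → AddSubgroup R} [GradedRing 𝒜]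
  {M : Type u} [AddCommGroup M] [Module R M] {ℳ : ℤ → AddSubgroup M} [Decomposition ℳ]
  [SetLike.GradedSMul 𝒜 ℳ]
  {N : Type u} [AddCommGroup N] [Module R N] {𝒩 : ℤ → AddSubgroup N} [Decomposition 𝒩]
  [SetLike.GradedSMul 𝒜 𝒩]
  {E : GrLC.StarInjRes 𝒜 ℳ} {F : GrLC.StarInjRes 𝒜 𝒩} {a : HomogeneousIdeal 𝒜}
  {r : R} {t : ℤ}

/-- multiplication by a homogeneous element on the pieces of the graded local cohomology -/
noncomputable def mulPiece (hr : r ∈ 𝒜 t) (i : ℕ) (j : ℤ) :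
    E.Hcomp a i j →ₗ[GrLC.deg0 𝒜] E.Hcomp a i (j + t) where
  toFun y := ⟨r • y.1, smul_mem_Hgr hr i j y.1 y.2⟩
  map_add' y y' := Subtype.ext (smul_add r y.1 y'.1)
  map_smul' c y := Subtype.ext (by
    show r • ((c : R) • y.1) = (c : R) • (r • y.1)
    rw [smul_comm])

/-- the connecting map on pieces -/
noncomputable def deltaPiece (L : MulLES E F a r t) (i : ℕ) (j : ℤ) :
    F.Hcomp a i (j + t) →ₗ[GrLC.deg0 𝒜] E.Hcomp a (i + 1) j where
  toFun w := ⟨L.δ i w.1, by
    have := L.δ_gr i (j + t) w.1 w.2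
    rwa [add_sub_cancel_right] at this⟩
  map_add' w w' := Subtype.ext (map_add (L.δ i) w.1 w'.1)
  map_smul' c w := Subtype.ext (by
    show L.δ i ((c : R) • w.1) = (c : R) • L.δ i w.1
    rw [map_smul])

/-- **the Hilbert function of `H^{q+1}(M)` along a homogeneous non-zero-divisor**: if `H^q(M) = 0` and
`H^{q+1}(M/rM) = 0` then `dim H^{q+1}(M)_j = dim H^{q+1}(M)_{j+t} + dim H^q(M/rM)_{j+t}` -/
theorem finrank_step (h0 : IsField (GrLC.deg0 𝒜)) (L : MulLES E F a r t) (hr : r ∈ 𝒜 t) (q : ℕ)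
    (hq : Subsingleton (E.H a q)) (hq' : Subsingleton (F.H a (q + 1))) (j : ℤ)
    [Module.Finite (GrLC.deg0 𝒜) (E.Hcomp a (q + 1) j)] :
    Module.finrank (GrLC.deg0 𝒜) (E.Hcomp a (q + 1) j) =
      Module.finrank (GrLC.deg0 𝒜) (E.Hcomp a (q + 1) (j + t)) +
        Module.finrank (GrLC.deg0 𝒜) (F.Hcomp a q (j + t)) := by
  letI := h0.toField
  set μ := mulPiece (E := E) (a := a) hr (q + 1) j with hμ
  set δ₀ := deltaPiece L q j with hδ₀
  have hsurj : Function.Surjective μ := by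
    intro z
    have hβ : L.β (q + 1) z.1 = 0 := Subsingleton.elim _ _
    obtain ⟨x', hx', hxz⟩ := L.exact1_gr hr (q + 1) (j + t) z.1 z.2 hβ
    rw [add_sub_cancel_right] at hx'
    exact ⟨⟨x', hx'⟩, Subtype.ext hxz⟩
  have hinj : Function.Injective δ₀ := by
    refine (injective_iff_map_eq_zero δ₀).mpr ?_
    intro w hw
    have hw' : L.δ q w.1 = 0 := congrArg Subtype.val hw
    obtain ⟨y, hy⟩ := (L.exact2 q w.1).mp hw'
    apply Subtype.ext
    rw [← hy, Subsingleton.elim y 0, map_zero]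
    rfl
  have hker : LinearMap.ker μ = LinearMap.range δ₀ := by
    ext y
    rw [LinearMap.mem_ker, LinearMap.mem_range]
    constructor
    · intro hy
      have hy' : r • y.1 = 0 := congrArg Subtype.val hy
      obtain ⟨w, hw, hwy⟩ := L.exact3_gr q j y.1 y.2 hy'
      exact ⟨⟨w, hw⟩, Subtype.ext hwy⟩
    · rintro ⟨w, rfl⟩
      apply Subtype.ext
      show r • L.δ q w.1 = 0
      exact (L.exact3 q _).mpr ⟨w.1, rfl⟩
  have h1 := LinearMap.finrank_range_add_finrank_ker μ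
  rw [LinearMap.range_eq_top.mpr hsurj, finrank_top, hker,
    LinearMap.finrank_range_of_inj hinj] at h1
  exact h1.symm

end Step

section Iso

variable {R : Type u} [CommRing R] {𝒜 : ℤ → AddSubgroup R} [GradedRing 𝒜]
  {M : Type u} [AddCommGroup M] [Module R M] {ℳ : ℤ → AddSubgroup M} [Decomposition ℳ]
  [SetLike.GradedSMul 𝒜 ℳ]
  {N : Type u} [AddCommGroup N] [Module R N] {𝒩 : ℤ → AddSubgroup N} [Decomposition 𝒩]
  [SetLike.GradedSMul 𝒜 𝒩]

/-- the inverse of a bijective homogeneous map is homogeneous -/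
theorem symm_isGrHom (π : M →ₗ[R] N) (hπ : GrLC.IsGrHom ℳ 𝒩 π) (hbij : Function.Bijective π) :
    GrLC.IsGrHom 𝒩 ℳ (LinearEquiv.ofBijective π hbij).symm.toLinearMap := by
  intro j n hn
  obtain ⟨m', hm', hmm⟩ := exists_mem_of_gr (Decomposition.isInternal ℳ)
    (Decomposition.isInternal 𝒩) π hπ j ((LinearEquiv.ofBijective π hbij).symm n) (by
      have : π ((LinearEquiv.ofBijective π hbij).symm n) = n :=
        (LinearEquiv.ofBijective π hbij).apply_symm_apply n
      rw [this]; exact hn)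
  have h3 : (LinearEquiv.ofBijective π hbij).symm.toLinearMap n = m' := (hbij.1 hmm).symm
  rw [h3]
  exact hm'

/-- a bijective homogeneous map induces a bijection with homogeneous inverse on graded local cohomology -/
theorem exists_inverse_of_bijective (E : GrLC.StarInjRes 𝒜 ℳ) (F : GrLC.StarInjRes 𝒜 𝒩)
    (π : M →ₗ[R] N) (hπ : GrLC.IsGrHom ℳ 𝒩 π) (hbij : Function.Bijective π)
    (a : HomogeneousIdeal 𝒜) (q : ℕ) :
    ∃ ψ : F.H a q →ₗ[R] E.H a q, GrLC.IsGrHom (F.Hgr a q) (E.Hgr a q) ψ ∧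
      (∀ y, ψ (Hphi E F π hπ a q y) = y) ∧ (∀ w, Hphi E F π hπ a q (ψ w) = w) := by
  let e : M ≃ₗ[R] N := LinearEquiv.ofBijective π hbij
  have he : GrLC.IsGrHom 𝒩 ℳ e.symm.toLinearMap := symm_isGrHom π hπ hbij
  refine ⟨Hphi F E e.symm.toLinearMap he a q, Hphi_gr he a q, ?_, ?_⟩
  · intro y
    have hc := Hphi_comp (E := E) (F := F) (G := E) (φ := π) (ψ := e.symm.toLinearMap) hπ he a q
    have hid : e.symm.toLinearMap ∘ₗ π = LinearMap.id := by
      ext m
      exact e.symm_apply_apply m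
    have h2 := Hphi_congr E E hid (fun j m hm => he j _ (hπ j m hm)) (fun _ _ h => h) a q
    rw [← LinearMap.comp_apply, hc, h2, Hphi_id]
    rfl
  · intro w
    have hc := Hphi_comp (E := F) (F := E) (G := F) (φ := e.symm.toLinearMap) (ψ := π) he hπ a q
    have hid : π ∘ₗ e.symm.toLinearMap = LinearMap.id := by
      ext n
      exact e.apply_symm_apply n
    have h2 := Hphi_congr F F hid (fun j m hm => hπ j _ (he j m hm)) (fun _ _ h => h) a q
    rw [← LinearMap.comp_apply, hc, h2, Hphi_id]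
    rfl

theorem subsingleton_H_of_bijective (E : GrLC.StarInjRes 𝒜 ℳ) (F : GrLC.StarInjRes 𝒜 𝒩)
    (π : M →ₗ[R] N) (hπ : GrLC.IsGrHom ℳ 𝒩 π) (hbij : Function.Bijective π)
    (a : HomogeneousIdeal 𝒜) (q : ℕ) (h : Subsingleton (F.H a q)) : Subsingleton (E.H a q) := by
  obtain ⟨ψ, -, h1, -⟩ := exists_inverse_of_bijective E F π hπ hbij a q
  refine ⟨fun y y' => ?_⟩
  rw [← h1 y, ← h1 y', Subsingleton.elim (Hphi E F π hπ a q y) (Hphi E F π hπ a q y')]

theorem finrank_Hcomp_of_bijective (E : GrLC.StarInjRes 𝒜 ℳ) (F : GrLC.StarInjRes 𝒜 𝒩)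
    (π : M →ₗ[R] N) (hπ : GrLC.IsGrHom ℳ 𝒩 π) (hbij : Function.Bijective π)
    (a : HomogeneousIdeal 𝒜) (q : ℕ) (j : ℤ) :
    Module.finrank (GrLC.deg0 𝒜) (E.Hcomp a q j) = Module.finrank (GrLC.deg0 𝒜) (F.Hcomp a q j) := by
  obtain ⟨ψ, hψ, h1, h2⟩ := exists_inverse_of_bijective E F π hπ hbij a q
  let Φ : E.Hcomp a q j →ₗ[GrLC.deg0 𝒜] F.Hcomp a q j :=
    { toFun := fun y => ⟨Hphi E F π hπ a q y.1, Hphi_gr hπ a q j y.1 y.2⟩
      map_add' := fun y y' => Subtype.ext (map_add _ y.1 y'.1)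
      map_smul' := fun c y => Subtype.ext (by
        show Hphi E F π hπ a q ((c : R) • y.1) = (c : R) • Hphi E F π hπ a q y.1
        rw [map_smul]) }
  have hbij' : Function.Bijective Φ := by
    constructor
    · intro y y' h
      have h' : Hphi E F π hπ a q y.1 = Hphi E F π hπ a q y'.1 := congrArg Subtype.val h
      apply Subtype.ext
      rw [← h1 y.1, ← h1 y'.1, h']
    · intro w
      exact ⟨⟨ψ w.1, hψ j w.1 w.2⟩, Subtype.ext (h2 w.1)⟩
  exact (LinearEquiv.ofBijective Φ hbij').finrank_eq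

theorem finrank_comp_of_bijective (π : M →ₗ[R] N) (hπ : GrLC.IsGrHom ℳ 𝒩 π)
    (hbij : Function.Bijective π) (j : ℤ) :
    Module.finrank (GrLC.deg0 𝒜) (GrLC.comp 𝒜 ℳ j) =
      Module.finrank (GrLC.deg0 𝒜) (GrLC.comp 𝒜 𝒩 j) := by
  have he := symm_isGrHom π hπ hbij
  let Φ : GrLC.comp 𝒜 ℳ j →ₗ[GrLC.deg0 𝒜] GrLC.comp 𝒜 𝒩 j :=
    { toFun := fun y => ⟨π y.1, hπ j y.1 y.2⟩
      map_add' := fun y y' => Subtype.ext (map_add _ y.1 y'.1)
      map_smul' := fun c y => Subtype.ext (by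
        show π ((c : R) • y.1) = (c : R) • π y.1
        rw [map_smul]) }
  have hbij' : Function.Bijective Φ := by
    constructor
    · intro y y' h
      exact Subtype.ext (hbij.1 (congrArg Subtype.val h))
    · intro w
      refine ⟨⟨(LinearEquiv.ofBijective π hbij).symm w.1, he j w.1 w.2⟩, Subtype.ext ?_⟩
      exact (LinearEquiv.ofBijective π hbij).apply_symm_apply w.1
  exact (LinearEquiv.ofBijective Φ hbij').finrank_eq

end Iso

section ModHilb

variable {R : Type u} [CommRing R] {𝒜 : ℤ → AddSubgroup R} [GradedRing 𝒜]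
  {M : Type u} [AddCommGroup M] [Module R M] {ℳ : ℤ → AddSubgroup M} [Decomposition ℳ]
  [SetLike.GradedSMul 𝒜 ℳ]
  {N : Type u} [AddCommGroup N] [Module R N] {𝒩 : ℤ → AddSubgroup N} [Decomposition 𝒩]
  [SetLike.GradedSMul 𝒜 𝒩]

/-- **additivity of the Hilbert function for the quotient by a homogeneous non-zero-divisor** -/
theorem finrank_comp_quot (h0 : IsField (GrLC.deg0 𝒜)) {x : R} {t : ℤ} (hx : x ∈ 𝒜 t)
    (hreg : IsSMulRegular M x) (π : M →ₗ[R] N) (hπ : GrLC.IsGrHom ℳ 𝒩 π)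
    (hπs : Function.Surjective π) (hker : ∀ m, π m = 0 ↔ ∃ m', x • m' = m) (e : ℤ)
    [Module.Finite (GrLC.deg0 𝒜) (GrLC.comp 𝒜 ℳ e)] :
    Module.finrank (GrLC.deg0 𝒜) (GrLC.comp 𝒜 ℳ e) =
      Module.finrank (GrLC.deg0 𝒜) (GrLC.comp 𝒜 ℳ (e - t)) +
        Module.finrank (GrLC.deg0 𝒜) (GrLC.comp 𝒜 𝒩 e) := by
  letI := h0.toField
  let πe : GrLC.comp 𝒜 ℳ e →ₗ[GrLC.deg0 𝒜] GrLC.comp 𝒜 𝒩 e :=
    { toFun := fun y => ⟨π y.1, hπ e y.1 y.2⟩
      map_add' := fun y y' => Subtype.ext (map_add _ y.1 y'.1)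
      map_smul' := fun c y => Subtype.ext (by
        show π ((c : R) • y.1) = (c : R) • π y.1
        rw [map_smul]) }
  let μ : GrLC.comp 𝒜 ℳ (e - t) →ₗ[GrLC.deg0 𝒜] GrLC.comp 𝒜 ℳ e :=
    { toFun := fun y => ⟨x • y.1, by
        have := Groth.Agent.Helper6.GrMod.smul_mem' 𝒜 ℳ hx y.2
        rwa [add_sub_cancel] at this⟩
      map_add' := fun y y' => Subtype.ext (smul_add x y.1 y'.1)
      map_smul' := fun c y => Subtype.ext (by
        show x • ((c : R) • y.1) = (c : R) • (x • y.1)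
        rw [smul_comm]) }
  have hsurj : Function.Surjective πe := by
    intro w
    obtain ⟨m, hm⟩ := hπs w.1
    refine ⟨⟨(decompose ℳ m e : M), (decompose ℳ m e).2⟩, Subtype.ext ?_⟩
    show π (decompose ℳ m e : M) = w.1
    rw [← Groth.Agent.Helper6.GrMod.decompose_map hπ, hm]
    exact decompose_of_mem_same 𝒩 w.2
  have hinj : Function.Injective μ := by
    intro y y' h
    exact Subtype.ext (hreg (congrArg Subtype.val h))
  have hkr : LinearMap.ker πe = LinearMap.range μ := by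
    ext y
    rw [LinearMap.mem_ker, LinearMap.mem_range]
    constructor
    · intro hy
      have hy' : π y.1 = 0 := congrArg Subtype.val hy
      obtain ⟨m', hm'⟩ := (hker y.1).mp hy'
      refine ⟨⟨(decompose ℳ m' (e - t) : M), (decompose ℳ m' (e - t)).2⟩, Subtype.ext ?_⟩
      show x • (decompose ℳ m' (e - t) : M) = y.1
      rw [← Groth.Agent.Helper6.GrMod.decompose_smul_homog 𝒜 ℳ hx, hm', add_sub_cancel]
      exact decompose_of_mem_same ℳ y.2
    · rintro ⟨z, rfl⟩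
      apply Subtype.ext
      show π (x • z.1) = 0
      exact (hker _).mpr ⟨z.1, rfl⟩
  have h1 := LinearMap.finrank_range_add_finrank_ker πe
  rw [LinearMap.range_eq_top.mpr hsurj, finrank_top, hkr,
    LinearMap.finrank_range_of_inj hinj, add_comm] at h1
  exact h1.symm

variable {E : GrLC.StarInjRes 𝒜 ℳ} {F : GrLC.StarInjRes 𝒜 𝒩} {a : HomogeneousIdeal 𝒜}
  {r : R} {t : ℤ}

/-- every class of `H^q_a(M)` is killed by a power of an element of `a` -/
theorem exists_pow_smul_eq_zero (hra : r ∈ a.toIdeal) (q : ℕ) (y : E.H a q) :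
    ∃ n : ℕ, r ^ n • y = 0 := by
  obtain ⟨z, rfl⟩ := Submodule.mkQ_surjective _ y
  obtain ⟨n, hn⟩ := z.2.1
  refine ⟨n, ?_⟩
  rw [← map_smul]
  have : r ^ n • z = 0 := Subtype.ext (hn (r ^ n) (Ideal.pow_mem_pow hra n))
  rw [this, map_zero]

/-- `H^q(M) = 0` when the non-zero-divisor `r ∈ a` acts injectively on it -/
theorem subsingleton_H_of_inj (L : MulLES E F a r t) (hra : r ∈ a.toIdeal) (q : ℕ)
    (h : q = 0 ∨ ∃ q', q = q' + 1 ∧ Subsingleton (F.H a q')) : Subsingleton (E.H a q) := by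
  have hinj : ∀ y : E.H a q, r • y = 0 → y = 0 := by
    rcases h with rfl | ⟨q', rfl, hq'⟩
    · exact L.inj0
    · intro y hy
      obtain ⟨w, rfl⟩ := (L.exact3 q' y).mp hy
      rw [Subsingleton.elim w 0, map_zero]
  have key : ∀ (n : ℕ) (y : E.H a q), r ^ n • y = 0 → y = 0 := by
    intro n
    induction n with
    | zero => intro y hy; rwa [pow_zero, one_smul] at hy
    | succ n ih =>
      intro y hy
      apply ih
      apply hinj
      rw [← mul_smul, ← pow_succ']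
      exact hy
  refine ⟨fun y y' => ?_⟩
  obtain ⟨n, hn⟩ := exists_pow_smul_eq_zero hra q y
  obtain ⟨n', hn'⟩ := exists_pow_smul_eq_zero hra q y'
  rw [key n y hn, key n' y' hn']

end ModHilb

end Groth.Agent.Helper7.GrHilb
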