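import Mathlib
import Groth.Prelude.Def_GrLC
import Groth.Agent.Helper7.GrHilb1
import Groth.Agent.Helper7.GrAInv2
import Groth.Agent.Helper7.GrFinD
import Groth.Agent.Helper6.GrLCIrr
import Groth.Agent.Helper7.KunT3

/-!
# The Hilbert function of the graded local cohomology of a module along a homogeneous regular sequence (helper7)
-/

set_option autoImplicit false
set_option linter.unusedSectionVars false
set_option linter.style.haveILetI false

namespace Groth.Agent.Helper7.GrHilb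

open DirectSum Groth.Agent.Helper6.GrMod Groth.Agent.Helper6.GrCon Groth.Agent.Helper7.GrDel
  Groth.Agent.Helper7.GrAInv RingTheory.Sequence Pointwise

universe u

/-- two functions satisfying the same downward recursion and vanishing in large degrees agree -/
theorem eq_of_recursion (F G c : ℤ → ℕ) (d : ℤ) (hd : 0 < d)
    (hF : ∀ j, F j = F (j + d) + c (j + d)) (hG : ∀ j, G j = G (j + d) + c (j + d))
    (hF0 : ∃ r : ℤ, ∀ j, r ≤ j → F j = 0) (hG0 : ∃ r : ℤ, ∀ j, r ≤ j → G j = 0) :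
    ∀ j, F j = G j := by
  obtain ⟨rF, hrF⟩ := hF0
  obtain ⟨rG, hrG⟩ := hG0
  have key : ∀ n : ℕ, ∀ j : ℤ, max rF rG - n ≤ j → F j = G j := by
    intro n
    induction n with
    | zero =>
      intro j hj
      rw [Nat.cast_zero, sub_zero] at hj
      rw [hrF j (le_trans (le_max_left _ _) hj), hrG j (le_trans (le_max_right _ _) hj)]
    | succ n ih =>
      intro j hj
      rw [hF j, hG j, ih (j + d) (by push_cast at hj; omega)]
  intro j
  apply key (max rF rG - j).toNat j
  omega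

section Main

variable {R : Type u} [CommRing R] [IsNoetherianRing R] (𝒜 : ℤ → AddSubgroup R) [GradedRing 𝒜]
  (hpos : ∀ n : ℤ, n < 0 → 𝒜 n = ⊥) (h0 : IsField (GrLC.deg0 𝒜)) (a : HomogeneousIdeal 𝒜)
  (ha : a.toIdeal = Ideal.span (⋃ n ∈ Set.Ioi (0 : ℤ), (𝒜 n : Set R)))

include hpos h0 ha in
/-- **the Hilbert function of local cohomology along a regular sequence**: if `X/(f)X` has its local cohomology
concentrated in degree `q₀`, with `dim H^{q₀}(X/(f)X)_j = dim (X/(f)X)_{s-j}`, then `X` has its local cohomology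
concentrated in degree `q₀ + t`, with `dim H^{q₀+t}(X)_j = dim X_{s - Σ deg f_i - j}` -/
theorem hilb_regSeq (q0 : ℕ) (s : ℤ) : ∀ (t : ℕ) (X : GrLC.GMod.{u} 𝒜) [Module.Finite R X.carrier]
    (E : GrLC.StarInjRes 𝒜 X.gr)
    (f : Fin t → R) (deg : Fin t → ℤ) (_ : ∀ i, f i ∈ 𝒜 (deg i)) (_ : ∀ i, 0 < deg i)
    (_ : IsWeaklyRegular X.carrier (List.ofFn f))
    (XN : GrLC.GMod.{u} 𝒜) (π : X.carrier →ₗ[R] XN.carrier) (_ : GrLC.IsGrHom X.gr XN.gr π)
    (_ : Function.Surjective π)
    (_ : LinearMap.ker π = Ideal.ofList (List.ofFn f) • (⊤ : Submodule R X.carrier))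
    (EN : GrLC.StarInjRes 𝒜 XN.gr)
    (_ : ∀ q, q ≠ q0 → Subsingleton (EN.H a q))
    (_ : ∀ j, Module.finrank (GrLC.deg0 𝒜) (EN.Hcomp a q0 j) =
      Module.finrank (GrLC.deg0 𝒜) (GrLC.comp 𝒜 XN.gr (s - j))),
    (∀ q, q ≠ q0 + t → Subsingleton (E.H a q)) ∧
      ∀ j, Module.finrank (GrLC.deg0 𝒜) (E.Hcomp a (q0 + t) j) =
        Module.finrank (GrLC.deg0 𝒜) (GrLC.comp 𝒜 X.gr (s - (∑ i, deg i) - j)) := by
  intro t
  haveI : Nontrivial (GrLC.deg0 𝒜) := h0.nontrivial
  induction t with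
  | zero =>
    intro X _ E f deg _ _ _ XN π hπ hπs hker EN hvanN hdualN
    have hinj : Function.Injective π := by
      rw [← LinearMap.ker_eq_bot, hker]
      simp
    have hbij : Function.Bijective π := ⟨hinj, hπs⟩
    refine ⟨fun q hq => subsingleton_H_of_bijective E EN π hπ hbij a q (hvanN q hq), fun j => ?_⟩
    rw [Finset.univ_eq_empty, Finset.sum_empty, sub_zero, add_zero,
      finrank_Hcomp_of_bijective E EN π hπ hbij a q0 j, hdualN j,
      finrank_comp_of_bijective π hπ hbij (s - j)]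
  | succ t ih =>
    intro X _ E f deg hdeg hdpos hreg XN π hπ hπs hker EN hvanN hdualN
    set x : R := f 0 with hx
    let f' : Fin t → R := fun i => f i.succ
    let deg' : Fin t → ℤ := fun i => deg i.succ
    have hlist : List.ofFn f = x :: List.ofFn f' := List.ofFn_succ
    rw [hlist] at hreg hker
    rw [isWeaklyRegular_cons_iff] at hreg
    obtain ⟨hxreg, hreg'⟩ := hreg
    have hxd : x ∈ 𝒜 (deg 0) := hdeg 0
    have hxa : x ∈ a.toIdeal := by
      rw [ha]
      apply Ideal.subset_span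
      rw [Set.mem_iUnion₂]
      exact ⟨deg 0, hdpos 0, hxd⟩
    have hP : (x • (⊤ : Submodule R X.carrier)).IsHomogeneous X.gr := by
      rw [smul_top_eq_range]
      exact Groth.Agent.Helper7.GrFinC.range_smul_isHomogeneous X hxd
    let X' : GrLC.GMod.{u} 𝒜 := quotGMod 𝒜 X.gr (x • (⊤ : Submodule R X.carrier)) hP
    have : Module.Finite R X'.carrier :=
      (inferInstance : Module.Finite R (X.carrier ⧸ (x • (⊤ : Submodule R X.carrier))))
    let p : X.carrier →ₗ[R] X'.carrier := (x • (⊤ : Submodule R X.carrier)).mkQ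
    have hp : GrLC.IsGrHom X.gr X'.gr p := fun j z hz => mkQ_mem_quotFam X.gr _ hz
    have hps : Function.Surjective p := Submodule.mkQ_surjective _
    have hpk : ∀ m, p m = 0 ↔ ∃ m', x • m' = m := by
      intro m
      have h1 : p m = 0 ↔ m ∈ x • (⊤ : Submodule R X.carrier) :=
        Submodule.Quotient.mk_eq_zero _
      rw [h1, Submodule.mem_smul_pointwise_iff_exists]
      constructor
      · rintro ⟨z, -, hz⟩
        exact ⟨z, hz⟩
      · rintro ⟨z, hz⟩
        exact ⟨z, trivial, hz⟩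
    obtain ⟨E'⟩ := Groth.Agent.Helper6.GrExist.nonempty_starInjRes 𝒜 X'.gr
    obtain ⟨L⟩ := nonempty_mulLES E E' a x (deg 0) hxd hxreg p hp hps hpk
    have hle : x • (⊤ : Submodule R X.carrier) ≤ LinearMap.ker π := by
      rw [hker, Ideal.ofList_cons_smul]
      exact le_sup_left
    let π' : X'.carrier →ₗ[R] XN.carrier := (x • (⊤ : Submodule R X.carrier)).liftQ π hle
    have hπ' : GrLC.IsGrHom X'.gr XN.gr π' := by
      intro j z hz
      obtain ⟨m, hm, rfl⟩ := (mem_quotFam X.gr _).mp hz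
      exact hπ j m hm
    have hπ's : Function.Surjective π' := by
      intro n
      obtain ⟨m, rfl⟩ := hπs n
      exact ⟨p m, rfl⟩
    have hker' : LinearMap.ker π' =
        Ideal.ofList (List.ofFn f') • (⊤ : Submodule R X'.carrier) := by
      show LinearMap.ker ((x • (⊤ : Submodule R X.carrier)).liftQ π hle) = _
      rw [Submodule.ker_liftQ, hker, Ideal.ofList_cons_smul, Submodule.map_sup,
        Submodule.mkQ_map_self, bot_sup_eq, Submodule.map_smul'', Submodule.map_top,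
        Submodule.range_mkQ]
      rfl
    obtain ⟨hvan', hdual'⟩ := ih X' E' f' deg' (fun i => hdeg i.succ) (fun i => hdpos i.succ) hreg'
      XN π' hπ' hπ's hker' EN hvanN hdualN
    -- vanishing
    have hvan : ∀ q, q ≠ q0 + (t + 1) → Subsingleton (E.H a q) := by
      intro q hq
      apply subsingleton_H_of_inj L hxa q
      cases q with
      | zero => exact Or.inl rfl
      | succ q' => exact Or.inr ⟨q', rfl, hvan' q' (by omega)⟩
    refine ⟨hvan, ?_⟩
    -- the Hilbert function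
    have hsum : (∑ i, deg i) = deg 0 + ∑ i, deg' i := Fin.sum_univ_succ deg
    have hF : ∀ j, Module.finrank (GrLC.deg0 𝒜) (E.Hcomp a (q0 + t + 1) j) =
        Module.finrank (GrLC.deg0 𝒜) (E.Hcomp a (q0 + t + 1) (j + deg 0)) +
          Module.finrank (GrLC.deg0 𝒜) (GrLC.comp 𝒜 X'.gr (s - (∑ i, deg' i) - (j + deg 0))) := by
      intro j
      haveI : Module.Finite (GrLC.deg0 𝒜) (E.Hcomp a (q0 + t + 1) j) :=
        Module.Finite.iff_fg.mpr (Groth.Agent.Helper7.GrFinD.finite 𝒜 hpos a ha (q0 + t + 1) X E j)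
      rw [← hdual' (j + deg 0)]
      exact finrank_step h0 L hxd (q0 + t) (hvan (q0 + t) (by omega)) (hvan' (q0 + t + 1) (by omega)) j
    have hG : ∀ j, Module.finrank (GrLC.deg0 𝒜) (GrLC.comp 𝒜 X.gr (s - (∑ i, deg i) - j)) =
        Module.finrank (GrLC.deg0 𝒜) (GrLC.comp 𝒜 X.gr (s - (∑ i, deg i) - (j + deg 0))) +
          Module.finrank (GrLC.deg0 𝒜) (GrLC.comp 𝒜 X'.gr (s - (∑ i, deg' i) - (j + deg 0))) := by
      intro j
      haveI : IsNoetherian R X.carrier := isNoetherian_of_isNoetherianRing_of_finite R X.carrier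
      haveI : Module.Finite (GrLC.deg0 𝒜) (GrLC.comp 𝒜 X.gr (s - (∑ i, deg i) - j)) :=
        Module.Finite.iff_fg.mpr (Groth.Agent.Helper7.Kun.comp_fg 𝒜 X.gr _)
      have h1 := finrank_comp_quot (ℳ := X.gr) (𝒩 := X'.gr) h0 hxd hxreg p hp hps hpk
        (s - (∑ i, deg i) - j)
      have e1 : s - (∑ i, deg i) - j - deg 0 = s - (∑ i, deg i) - (j + deg 0) := by ring
      have e2 : s - (∑ i, deg i) - j = s - (∑ i, deg' i) - (j + deg 0) := by rw [hsum]; ring
      rw [e1] at h1
      have e3 : Module.finrank (GrLC.deg0 𝒜) (GrLC.comp 𝒜 X'.gr (s - (∑ i, deg i) - j)) =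
          Module.finrank (GrLC.deg0 𝒜) (GrLC.comp 𝒜 X'.gr (s - (∑ i, deg' i) - (j + deg 0))) := by
        rw [e2]
      rw [h1, e3]
    have hF0 : ∃ r : ℤ, ∀ j, r ≤ j →
        Module.finrank (GrLC.deg0 𝒜) (E.Hcomp a (q0 + t + 1) j) = 0 := by
      obtain ⟨r, hr⟩ := Groth.Agent.Helper7.GrFinD.vanish 𝒜 hpos a ha (q0 + t + 1) X E
      refine ⟨r, fun j hj => ?_⟩
      have hb : E.Hcomp a (q0 + t + 1) j = ⊥ := by
        rw [eq_bot_iff]
        intro y hy
        have hy' : y ∈ E.Hgr a (q0 + t + 1) j := hy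
        rw [hr j hj, AddSubgroup.mem_bot] at hy'
        rw [Submodule.mem_bot]
        exact hy'
      rw [hb]
      exact finrank_bot _ _
    have hG0 : ∃ r : ℤ, ∀ j, r ≤ j →
        Module.finrank (GrLC.deg0 𝒜) (GrLC.comp 𝒜 X.gr (s - (∑ i, deg i) - j)) = 0 := by
      obtain ⟨d₀, hd₀⟩ := Groth.Agent.Helper6.GrLCIrr.exists_bounded_below 𝒜 X.gr hpos
      refine ⟨s - (∑ i, deg i) - d₀ + 1, fun j hj => ?_⟩
      have hb : GrLC.comp 𝒜 X.gr (s - (∑ i, deg i) - j) = ⊥ := by
        rw [eq_bot_iff]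
        intro y hy
        have hy' : y ∈ X.gr (s - (∑ i, deg i) - j) := hy
        rw [hd₀ _ (by omega), AddSubgroup.mem_bot] at hy'
        rw [Submodule.mem_bot]
        exact hy'
      rw [hb]
      exact finrank_bot _ _
    exact eq_of_recursion
      (fun j => Module.finrank (GrLC.deg0 𝒜) (E.Hcomp a (q0 + t + 1) j))
      (fun j => Module.finrank (GrLC.deg0 𝒜) (GrLC.comp 𝒜 X.gr (s - (∑ i, deg i) - j)))
      (fun j => Module.finrank (GrLC.deg0 𝒜) (GrLC.comp 𝒜 X'.gr (s - (∑ i, deg' i) - j)))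
      (deg 0) (hdpos 0) hF hG hF0 hG0

end Main

end Groth.Agent.Helper7.GrHilb
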