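import Mathlib
import Groth.Prelude.Def_GrLC
import Groth.Agent.Helper7.GrHilb2
import Groth.Agent.Helper7.GrH0

/-!
# `H^0_a(M)_j = M_j` for an `a`-torsion graded module (helper7)
-/

set_option autoImplicit false
set_option linter.unusedSectionVars false
set_option linter.style.haveILetI false

namespace Groth.Agent.Helper7.GrHilb

open DirectSum Groth.Agent.Helper7.GrDel

universe u

section H0

variable {R : Type u} [CommRing R] {𝒜 : ℤ → AddSubgroup R} [GradedRing 𝒜]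
  {M : Type u} [AddCommGroup M] [Module R M] {ℳ : ℤ → AddSubgroup M} [Decomposition ℳ]
  [SetLike.GradedSMul 𝒜 ℳ] (E : GrLC.StarInjRes 𝒜 ℳ) (a : HomogeneousIdeal 𝒜)

/-- the pieces of `H^0_a(M)` for an `a`-torsion module are the pieces of `M` -/
theorem finrank_H0_of_torsion (hM : ∀ y : M, y ∈ GrLC.gam a.toIdeal M) (j : ℤ) :
    Module.finrank (GrLC.deg0 𝒜) (E.Hcomp a 0 j) =
      Module.finrank (GrLC.deg0 𝒜) (GrLC.comp 𝒜 ℳ j) := by
  have hcoc : ∀ m : M, E.ε m ∈ E.cocyc a 0 := by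
    intro m
    refine ⟨map_mem_gam a.toIdeal E.ε (hM m), ?_⟩
    rw [SetLike.mem_coe, LinearMap.mem_ker]
    exact d_ε E _
  let Φ : GrLC.comp 𝒜 ℳ j →ₗ[GrLC.deg0 𝒜] E.Hcomp a 0 j :=
    { toFun := fun m => ⟨E.toH a 0 ⟨E.ε m.1, hcoc m.1⟩, ⟨⟨E.ε m.1, hcoc m.1⟩, E.ε_grHom j m.1 m.2, rfl⟩⟩
      map_add' := fun m m' => Subtype.ext (by
        show E.toH a 0 ⟨E.ε (m.1 + m'.1), _⟩ = E.toH a 0 ⟨E.ε m.1, _⟩ + E.toH a 0 ⟨E.ε m'.1, _⟩
        rw [← map_add]
        congr 1
        exact Subtype.ext (map_add E.ε m.1 m'.1))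
      map_smul' := fun c m => Subtype.ext (by
        show E.toH a 0 ⟨E.ε ((c : R) • m.1), _⟩ = (c : R) • E.toH a 0 ⟨E.ε m.1, _⟩
        rw [← map_smul]
        congr 1
        exact Subtype.ext (map_smul E.ε (c : R) m.1)) }
  have hbij : Function.Bijective Φ := by
    constructor
    · refine (injective_iff_map_eq_zero Φ).mpr ?_
      intro m hm
      have h0 : E.toH a 0 ⟨E.ε m.1, hcoc m.1⟩ = 0 := congrArg Subtype.val hm
      rw [Submodule.mkQ_apply, Submodule.Quotient.mk_eq_zero, Submodule.mem_comap] at h0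
      have h1 : E.ε m.1 ∈ (⊥ : Submodule R (E.X 0).carrier) := h0
      rw [Submodule.mem_bot] at h1
      apply Subtype.ext
      apply E.ε_injective
      rw [h1]
      exact (map_zero E.ε).symm
    · rintro ⟨y, z, hz, rfl⟩
      obtain ⟨u, hu⟩ := exists_of_d_zero E (z : (E.X 0).carrier) z.2.2
      have hun : u ∈ ℳ j := by
        apply Groth.Agent.Helper7.GrH0.mem_of_map_mem ℳ (E.X 0).gr E.ε E.ε_grHom E.ε_injective
        rw [hu]
        exact hz
      refine ⟨⟨u, hun⟩, Subtype.ext ?_⟩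
      show E.toH a 0 ⟨E.ε u, _⟩ = E.toH a 0 z
      congr 1
      exact Subtype.ext hu
  exact (LinearEquiv.ofBijective Φ hbij).finrank_eq.symm

end H0

end Groth.Agent.Helper7.GrHilb
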