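import Mathlib
import Groth.Prelude.Def_GrLC
import Groth.Agent.Helper7.GrHilb3

/-!
# The Hilbert function of the top local cohomology of a graded ring whose irrelevant ideal is generated by a
homogeneous regular sequence (helper7)
-/

set_option autoImplicit false
set_option linter.unusedSectionVars false
set_option linter.style.haveILetI false

namespace Groth.Agent.Helper7.GrHilb

open DirectSum Groth.Agent.Helper6.GrCon RingTheory.Sequence Pointwise

universe u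

variable {R : Type u} [CommRing R] [IsNoetherianRing R] (𝒜 : ℤ → AddSubgroup R) [GradedRing 𝒜]
  (hpos : ∀ n : ℤ, n < 0 → 𝒜 n = ⊥) (h0 : IsField (GrLC.deg0 𝒜)) (m : HomogeneousIdeal 𝒜)
  (hmsp : m.toIdeal = Ideal.span (⋃ n ∈ Set.Ioi (0 : ℤ), (𝒜 n : Set R)))

include hpos h0 hmsp in
/-- **a graded ring `R` over a field whose irrelevant ideal is generated by a regular sequence `f_1..f_t` of
homogeneous elements of positive degrees**: `H^q_m(R) = 0` for `q ≠ t` and `dim H^t_m(R)_j = dim R_{-d-j}`,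
`d = Σ deg f_i` -/
theorem hilb_ring_regSeq (t : ℕ) (f : Fin t → R) (deg : Fin t → ℤ) (hdeg : ∀ i, f i ∈ 𝒜 (deg i))
    (hdpos : ∀ i, 0 < deg i) (hreg : IsWeaklyRegular R (List.ofFn f))
    (hmf : m.toIdeal = Ideal.span (Set.range f)) (I : GrLC.StarInjRes 𝒜 𝒜) :
    (∀ q, q ≠ t → Subsingleton (I.H m q)) ∧
      ∀ j : ℤ, Module.finrank (GrLC.deg0 𝒜) (I.Hcomp m t j) =
        Module.finrank (GrLC.deg0 𝒜) (GrLC.comp 𝒜 𝒜 (-(∑ i, deg i) - j)) := by
  have hmh : Submodule.IsHomogeneous (m.toIdeal : Submodule R R) 𝒜 := m.isHomogeneous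
  letI : Decomposition (quotFam 𝒜 (m.toIdeal : Submodule R R)) :=
    (isInternal_quotFam 𝒜 (m.toIdeal : Submodule R R) hmh).chooseDecomposition
  letI : SetLike.GradedSMul 𝒜 (quotFam 𝒜 (m.toIdeal : Submodule R R)) :=
    gradedSMul_quotFam 𝒜 𝒜 (m.toIdeal : Submodule R R)
  let X₀ : GrLC.GMod.{u} 𝒜 := GrLC.GMod.of 𝒜 R 𝒜
  let XN : GrLC.GMod.{u} 𝒜 := GrLC.GMod.of 𝒜 (R ⧸ (m.toIdeal : Submodule R R))
    (quotFam 𝒜 (m.toIdeal : Submodule R R))
  have hfin : Module.Finite R X₀.carrier := (inferInstance : Module.Finite R R)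
  let π : R →ₗ[R] (R ⧸ (m.toIdeal : Submodule R R)) := (m.toIdeal : Submodule R R).mkQ
  have hπ : GrLC.IsGrHom 𝒜 (quotFam 𝒜 (m.toIdeal : Submodule R R)) π :=
    fun j z hz => mkQ_mem_quotFam 𝒜 _ hz
  have hπs : Function.Surjective π := Submodule.mkQ_surjective _
  have hker : LinearMap.ker π = Ideal.ofList (List.ofFn f) • (⊤ : Submodule R R) := by
    show LinearMap.ker (m.toIdeal : Submodule R R).mkQ = _
    rw [Submodule.ker_mkQ, hmf, smul_eq_mul, Ideal.mul_top]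
    unfold Ideal.ofList
    congr 1
    ext x
    simp only [Set.mem_range, Set.mem_ofPred_eq, List.mem_ofFn]
  obtain ⟨EN⟩ := Groth.Agent.Helper6.GrExist.nonempty_starInjRes 𝒜
    (quotFam 𝒜 (m.toIdeal : Submodule R R))
  have hM : ∀ y : R ⧸ (m.toIdeal : Submodule R R),
      y ∈ GrLC.gam m.toIdeal (R ⧸ (m.toIdeal : Submodule R R)) := by
    intro y
    obtain ⟨r, rfl⟩ := hπs y
    refine ⟨1, fun c hc => ?_⟩
    rw [pow_one] at hc
    rw [← map_smul]
    exact (Submodule.Quotient.mk_eq_zero _).mpr (m.toIdeal.mul_mem_right r hc)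
  have hvanN : ∀ q, q ≠ 0 → Subsingleton (EN.H m q) := fun q hq =>
    Groth.Agent.Helper7.GrFinC.H_subsingleton_of_torsion m hM EN q (by omega)
  have hXNbot : ∀ j : ℤ, j ≠ 0 →
      GrLC.comp 𝒜 (quotFam 𝒜 (m.toIdeal : Submodule R R)) j = ⊥ := by
    intro j hj
    rw [eq_bot_iff]
    intro y hy
    rw [Submodule.mem_bot]
    obtain ⟨r, hr, rfl⟩ := (mem_quotFam 𝒜 _).mp hy
    rcases lt_or_gt_of_ne hj with h | h
    · rw [hpos j h, AddSubgroup.mem_bot] at hr
      rw [hr, map_zero]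
    · apply (Submodule.Quotient.mk_eq_zero _).mpr
      show r ∈ m.toIdeal
      rw [hmsp]
      apply Ideal.subset_span
      rw [Set.mem_iUnion₂]
      exact ⟨j, h, hr⟩
  haveI : Nontrivial (GrLC.deg0 𝒜) := h0.nontrivial
  have hdualN : ∀ j, Module.finrank (GrLC.deg0 𝒜) (EN.Hcomp m 0 j) =
      Module.finrank (GrLC.deg0 𝒜)
        (GrLC.comp 𝒜 (quotFam 𝒜 (m.toIdeal : Submodule R R)) (0 - j)) := by
    intro j
    rw [finrank_H0_of_torsion EN m hM j]
    by_cases hj : j = 0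
    · rw [hj, sub_zero]
    · rw [hXNbot j hj, hXNbot (0 - j) (by omega)]
  have key := hilb_regSeq 𝒜 hpos h0 m hmsp 0 0 t X₀ I f deg hdeg hdpos hreg XN π hπ hπs hker EN
    hvanN hdualN
  rw [zero_add] at key
  refine ⟨key.1, fun j => ?_⟩
  have h2 : Module.finrank (GrLC.deg0 𝒜) (I.Hcomp m t j) =
      Module.finrank (GrLC.deg0 𝒜) (GrLC.comp 𝒜 𝒜 (0 - (∑ i, deg i) - j)) := key.2 j
  rw [h2, zero_sub]

end Groth.Agent.Helper7.GrHilb
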