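import Mathlib
import Groth.Prelude.Def_GrLC
import Groth.Prelude.Def_GrSyz
import Groth.Agent.Helper7.GrLCReg

/-!
# Mumford's lemma for graded local cohomology: weakly `e`-regular implies weakly `(e+1)`-regular
-/

set_option autoImplicit false
set_option linter.unusedSectionVars false
set_option linter.style.haveILetI false

open DirectSum MvPolynomial

namespace Groth.Agent.Helper7.GrLCMum

open Groth.Agent.Helper7.GrTorV Groth.Agent.Helper7.GrTorS Groth.Agent.Helper7.GrTorKos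
  Groth.Agent.Helper7.GrCoreg Groth.Agent.Helper7.GrStarDiv Groth.Agent.Helper7.GrLCObj
  Groth.Agent.Helper7.GrLCSoc Groth.Agent.Helper7.GrFinLen Groth.Agent.Helper7.GrTorK
  Groth.Agent.Helper7.GrLCReg

universe u v₁ v₂

variable {k : Type u} [Field k] {r : ℕ}

local notation "S" => MvPolynomial (Fin (r + 1)) k
local notation "𝒜" => GrSyz.stdGr k (Fin (r + 1))
local notation "𝔪" => HomogeneousIdeal.toIdeal (GrSyz.irrel (GrSyz.stdGr k (Fin (r + 1))))
local notation "irr" => GrSyz.irrel (GrSyz.stdGr k (Fin (r + 1)))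

section Zero

variable {N : Type v₁} [AddCommGroup N] [Module (MvPolynomial (Fin (r + 1)) k) N]
  {τ : Type v₂} [SetLike τ N] [AddSubgroupClass τ N] (𝒩 : ℤ → τ)

/-- if `T_0` vanishes in degree `t` and the piece of degree `t - 1` is zero then the piece of
degree `t` is zero. -/
theorem eq_zero_of_tvan_zero (K : KRes k r) (t : ℤ) (h : Tvan K.toCx 𝒩 0 t)
    (h1 : ∀ y : N, y ∈ 𝒩 (t - 1) → y = 0) (x : N) (hx : x ∈ 𝒩 t) : x = 0 := by
  have hv : InStr 𝒩 (K.deg 0) t (fun _ : Fin (K.rk 0) => x) := by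
    intro c
    rw [K.deg_zero, sub_zero]
    exact hx
  obtain ⟨w, hw, hdw⟩ := h _ hv trivial
  have hw0 : w = 0 := by
    funext c
    apply h1
    have := hw c
    rwa [(deg_eq K (0 + 1) c).1] at this
  rw [hw0, act_zero] at hdw
  exact (congrFun hdw K.c0).symm

end Zero

variable {M : Type u} [AddCommGroup M] [Module k M] [Module (MvPolynomial (Fin (r + 1)) k) M]
  [IsScalarTower k (MvPolynomial (Fin (r + 1)) k) M]
  {ℳ : ℤ → Submodule k M} [DirectSum.Decomposition ℳ]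
  [SetLike.GradedSMul (GrSyz.stdGr k (Fin (r + 1))) ℳ]
  (K : KRes k r) (E : GrLC.StarInjRes (GrSyz.stdGr k (Fin (r + 1))) ℳ)

/-- weakly `e`-regular: `H^i_𝔪(M)` vanishes in degree `e - i + 1` for all `i > 0`. -/
def Wk (e : ℤ) : Prop :=
  ∀ i : ℕ, 0 < i → ∀ x : E.H irr i, x ∈ E.Hgr irr i (e - i + 1) → x = 0

/-- socle elements of the boundaries beyond the spot `r + 1` lift to socle elements. -/
theorem liftSoc_a (q : ℕ) (hq : r + 1 < q + 1) (t : ℤ) :
    LiftSoc (k := k) (r := r) (subFam (E.X q).gr (G E irr q))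
      (subFam (E.X (q + 1)).gr (E.cobdy irr (q + 1))) (gA E irr q) t := by
  intro u hu hsoc
  have hcyc : (u : (E.X (q + 1)).carrier) ∈ E.cocyc irr (q + 1) := cobdy_le_cocyc E irr (q + 1) u.2
  obtain ⟨w, hw, hwsoc, hdw⟩ := socH_of_gt E (q + 1) hq t (u : (E.X (q + 1)).carrier) hu
    ((isSoc_coe_iff _).1 hsoc) hcyc.2
  exact ⟨⟨w, isSoc_mem_gam w hwsoc⟩, hw, (isSoc_coe_iff _).2 hwsoc, Subtype.ext hdw⟩

theorem tvan_ZG_of_wk (e : ℤ) (hW : Wk E e) (i : ℕ) (hi : 0 < i) :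
    ∀ (m s : ℕ), s + m = r →
      Tvan K.toCx (subFam (E.X (i + s)).gr (E.cocyc irr (i + s))) s (e - i + 2) := by
  intro m
  induction m with
  | zero =>
    intro s hs
    have hs' : s = r := by omega
    rw [hs']
    exact tvan_of_liftSoc K (ses_a E irr (i + r)) (gsmul_subFam _ _) _ (tvan_G K E (i + r) r le_rfl _)
      (liftSoc_a E (i + r) (by omega) _)
  | succ m ih =>
    intro s hs
    have h1 : Tvan K.toCx (subFam (E.X (i + s + 1)).gr (E.cocyc irr (i + s + 1))) (s + 1)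
        (e - i + 2) := ih (s + 1) (by omega)
    have hH : Tvan K.toCx (E.Hgr irr (i + s + 1)) (s + 1 + 1) (e - i + 2) := by
      refine tvan_of_piece_eq_zero K _ _ _ fun x hx => hW (i + s + 1) (by omega) x ?_
      have e1 : e - (i : ℤ) + 2 - ((s + 1 + 1 : ℕ) : ℤ) = e - ((i + s + 1 : ℕ) : ℤ) + 1 := by
        push_cast; ring
      rwa [e1] at hx
    have hB : Tvan K.toCx (subFam (E.X (i + s + 1)).gr (E.cobdy irr (i + s + 1))) (s + 1)
        (e - i + 2) :=
      (ses_b E irr (i + s + 1)).tvan₁ K.toCx (gsmul_subFam _ _) (s + 1) _ hH h1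
    exact (ses_a E irr (i + s)).tvan₁ K.toCx (gsmul_subFam _ _) s _ hB
      (tvan_G K E (i + s) s (by omega) _)

/-- **Mumford's lemma**. -/
theorem wk_succ (e : ℤ) (hW : Wk E e) : Wk E (e + 1) := by
  obtain ⟨K⟩ := exists_kres k r
  intro i hi x hx
  have h0 := tvan_ZG_of_wk K E e hW i hi r 0 (by omega)
  have hH0 : Tvan K.toCx (E.Hgr irr i) 0 (e - i + 2) :=
    (ses_b E irr i).tvan₃_zero K.toCx _ h0
  refine eq_zero_of_tvan_zero (E.Hgr irr i) K (e - i + 2) hH0 (fun y hy => hW i hi y ?_) x ?_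
  · rwa [show e - (i : ℤ) + 2 - 1 = e - i + 1 by ring] at hy
  · rwa [show e + 1 - (i : ℤ) + 1 = e - i + 2 by ring] at hx

theorem wk_mono (d e : ℤ) (hde : d ≤ e) (hW : Wk E d) : Wk E e := by
  induction e, hde using Int.leInduction with
  | base => exact hW
  | succ e _ ih => exact wk_succ E e ih

/-- `d`-regular (end of `H^0` at most `d` and weakly `d`-regular) gives the vanishing of all
`H^q` above `d - q`. -/
theorem hvan_of_wk (d : ℤ) (h0 : Hvan E d 0) (hW : Wk E d) : ∀ q, Hvan E d q := by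
  intro q
  cases q with
  | zero => exact h0
  | succ q =>
    intro t ht x hx
    have hW' := wk_mono E d (t + ((q + 1 : ℕ) : ℤ) - 1) (by push_cast at ht ⊢; omega) hW
    refine hW' (q + 1) (by omega) x ?_
    rwa [show t + ((q + 1 : ℕ) : ℤ) - 1 - ((q + 1 : ℕ) : ℤ) + 1 = t by ring]

section Final

variable (M : Type u) [AddCommGroup M] [Module k M] [Module (MvPolynomial (Fin (r + 1)) k) M]
  [IsScalarTower k (MvPolynomial (Fin (r + 1)) k) M]
  (ℳ : ℤ → Submodule k M) [DirectSum.Decomposition ℳ]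
  [SetLike.GradedSMul (GrSyz.stdGr k (Fin (r + 1))) ℳ]
  (E : GrLC.StarInjRes (GrSyz.stdGr k (Fin (r + 1))) ℳ)

theorem hvan_zero_iff (d : ℤ) :
    Hvan E d 0 ↔ GrLC.endDeg (E.Hgr irr 0) ≤ ((d : WithTop ℤ) : WithBot (WithTop ℤ)) := by
  have := endDeg_add_le_iff (E.Hgr irr 0) 0 d
  simp only [Nat.cast_zero, WithTop.coe_zero, WithBot.coe_zero, add_zero] at this
  rw [this]
  rfl

theorem wk_iff (d : ℤ) :
    Wk E d ↔ ∀ i : ℕ, 0 < i → E.Hcomp irr i (d - (i : ℤ) + 1) = ⊥ := by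
  refine forall_congr' fun i => forall_congr' fun _ => ?_
  rw [Submodule.eq_bot_iff]
  rfl

/-- the regularity conditions in the form "`d`-regular". -/
theorem hvan_iff_dreg (d : ℤ) :
    (∀ q, Hvan E d q) ↔
      (GrLC.endDeg (E.Hgr irr 0) ≤ ((d : WithTop ℤ) : WithBot (WithTop ℤ)) ∧
        ∀ i : ℕ, 0 < i → E.Hcomp irr i (d - (i : ℤ) + 1) = ⊥) := by
  rw [← hvan_zero_iff, ← wk_iff]
  constructor
  · intro h
    exact ⟨h 0, fun i _ x hx => h i _ (by omega) x hx⟩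
  · rintro ⟨h0, hW⟩
    exact hvan_of_wk E d h0 hW

/-- **Eisenbud–Goto, Mumford form**. -/
theorem isGenLE_iff_dreg (F : GrSyz.FreeRes 𝒜 ℳ) (hF : F.IsMinimal 𝔪) (d : ℤ) :
    F.IsGenLE d ↔
      (GrLC.endDeg (E.Hgr irr 0) ≤ ((d : WithTop ℤ) : WithBot (WithTop ℤ)) ∧
        ∀ i : ℕ, 0 < i → E.Hcomp irr i (d - (i : ℤ) + 1) = ⊥) := by
  obtain ⟨K⟩ := exists_kres k r
  rw [isGenLE_iff_tvan K M ℳ F hF d, tvan_iff_hvan K E d, hvan_iff_dreg]

end Final

end Groth.Agent.Helper7.GrLCMum
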