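import Mathlib
import Groth.Prelude.Def_GrSyz
import Groth.Agent.Helper7.GrRegSeq

/-!
# The length of a graded module is at least the sum of the dimensions of its pieces
-/

set_option autoImplicit false
set_option linter.unusedSectionVars false
set_option linter.style.haveILetI false

open DirectSum MvPolynomial

namespace Groth.Agent.Helper7.GrLenChain

open Groth.Agent.Helper7.HilbFn Groth.Agent.Helper7.GrSyzMin Groth.Agent.Helper7.GrRegSeq
  Groth.Agent.Helper7

universe u

variable {k : Type u} [Field k] {r : ℕ}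

local notation "S" => MvPolynomial (Fin (r + 1)) k
local notation "𝒜" => GrSyz.stdGr k (Fin (r + 1))

/-- homogeneous polynomials of degree zero are constants. -/
theorem eq_C_of_mem_zero {s : S} (hs : s ∈ 𝒜 0) : s = C (coeff 0 s) := by
  classical
  ext d
  rw [coeff_C]
  by_cases hd : 0 = d
  · rw [if_pos hd, hd]
  · rw [if_neg hd]
    rw [GrSyz.mem_stdGr_iff] at hs
    apply hs.coeff_eq_zero
    have := weight_one_pos d (Ne.symm hd)
    omega

variable {N : Type u} [AddCommGroup N] [Module k N] [Module (MvPolynomial (Fin (r + 1)) k) N]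
  [IsScalarTower k (MvPolynomial (Fin (r + 1)) k) N]
  (𝒩 : ℤ → Submodule k N) [DirectSum.Decomposition 𝒩]
  [SetLike.GradedSMul (GrSyz.stdGr k (Fin (r + 1))) 𝒩]

variable (r) in
/-- elements with no components below `d` and degree-`d` component in `W`. -/
noncomputable def G (d : ℤ) (W : Submodule k N) : Submodule (MvPolynomial (Fin (r + 1)) k) N where
  carrier := {n | (∀ d' : ℤ, d' < d → (decompose 𝒩 n d' : N) = 0) ∧ (decompose 𝒩 n d : N) ∈ W}
  zero_mem' := by
    refine ⟨fun d' _ => ?_, ?_⟩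
    · simp
    · simp
  add_mem' := by
    rintro a b ⟨ha1, ha2⟩ ⟨hb1, hb2⟩
    refine ⟨fun d' hd' => ?_, ?_⟩
    · rw [decompose_add, DirectSum.add_apply, Submodule.coe_add, ha1 d' hd', hb1 d' hd', add_zero]
    · rw [decompose_add, DirectSum.add_apply, Submodule.coe_add]
      exact W.add_mem ha2 hb2
  smul_mem' := by
    classical
    rintro s n ⟨h1, h2⟩
    refine DirectSum.Decomposition.inductionOn 𝒜 (motive := fun s => s • n ∈
      {n | (∀ d' : ℤ, d' < d → (decompose 𝒩 n d' : N) = 0) ∧ (decompose 𝒩 n d : N) ∈ W}) ?_ ?_ ?_ s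
    · rw [zero_smul]
      refine ⟨fun d' _ => ?_, ?_⟩
      · simp
      · simp
    · intro a x
      rcases lt_trichotomy a 0 with ha | ha | ha
      · have h3 : ∀ z : S, z ∈ 𝒜 a → z = 0 := fun z hz => by
          rw [stdGr_neg k _ a ha, Submodule.mem_bot] at hz; exact hz
        have hz : (x : S) = 0 := h3 _ x.2
        rw [hz, zero_smul]
        refine ⟨fun d' _ => ?_, ?_⟩
        · simp
        · simp
      · subst ha
        refine ⟨fun d' hd' => ?_, ?_⟩
        · rw [decompose_smul_of_left_mem 𝒩 x.2, sub_zero, h1 d' hd', smul_zero]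
        · rw [decompose_smul_of_left_mem 𝒩 x.2, sub_zero, eq_C_of_mem_zero x.2, ← algebraMap_eq,
            algebraMap_smul]
          exact W.smul_mem _ h2
      · refine ⟨fun d' hd' => ?_, ?_⟩
        · rw [decompose_smul_of_left_mem 𝒩 x.2, h1 (d' - a) (by omega), smul_zero]
        · rw [decompose_smul_of_left_mem 𝒩 x.2, h1 (d - a) (by omega), smul_zero]
          exact W.zero_mem
    · rintro a b ⟨ha1, ha2⟩ ⟨hb1, hb2⟩
      rw [add_smul]
      refine ⟨fun d' hd' => ?_, ?_⟩
      · rw [decompose_add, DirectSum.add_apply, Submodule.coe_add, ha1 d' hd', hb1 d' hd', add_zero]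
      · rw [decompose_add, DirectSum.add_apply, Submodule.coe_add]
        exact W.add_mem ha2 hb2

variable {𝒩}

theorem mem_G {d : ℤ} {W : Submodule k N} {n : N} :
    n ∈ G r 𝒩 d W ↔ (∀ d' : ℤ, d' < d → (decompose 𝒩 n d' : N) = 0) ∧ (decompose 𝒩 n d : N) ∈ W :=
  Iff.rfl

theorem G_mono (d : ℤ) {W W' : Submodule k N} (h : W ≤ W') : G r 𝒩 d W ≤ G r 𝒩 d W' :=
  fun _ hn => ⟨hn.1, h hn.2⟩

theorem mem_G_of_mem_piece {d : ℤ} {W : Submodule k N} {w : N} (hw : w ∈ 𝒩 d) :
    w ∈ G r 𝒩 d W ↔ w ∈ W := by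
  classical
  rw [mem_G, decompose_of_mem_same 𝒩 hw]
  refine and_iff_right fun d' hd' => ?_
  exact decompose_of_mem_ne 𝒩 hw (by omega)

theorem G_succ_le (d : ℤ) : G r 𝒩 (d + 1) ⊤ ≤ G r 𝒩 d ⊥ := by
  intro n hn
  refine ⟨fun d' hd' => hn.1 d' (by omega), ?_⟩
  rw [Submodule.mem_bot]
  exact hn.1 d (by omega)

section Height

variable [IsArtinian (MvPolynomial (Fin (r + 1)) k) N] [IsNoetherian (MvPolynomial (Fin (r + 1)) k) N]

theorem height_flag (d : ℤ) {c : ℕ} (b : Fin c → N) (hb : ∀ i, b i ∈ 𝒩 d)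
    (hli : LinearIndependent k b) (i : ℕ) (hi : i ≤ c) :
    Order.height (G r 𝒩 d ⊥) + (i : ℕ∞) ≤
      Order.height (G r 𝒩 d (Submodule.span k (b '' {j : Fin c | j.val < i}))) := by
  induction i with
  | zero =>
    rw [Nat.cast_zero, add_zero]
    exact Order.height_mono (G_mono d bot_le)
  | succ i ih =>
    have hi' : i < c := hi
    have hlt : G r 𝒩 d (Submodule.span k (b '' {j : Fin c | j.val < i})) <
        G r 𝒩 d (Submodule.span k (b '' {j : Fin c | j.val < i + 1})) := by
      refine lt_of_le_of_ne (G_mono d (Submodule.span_mono (Set.image_mono ?_))) ?_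
      · intro j hj
        exact Nat.lt_succ_of_lt hj
      · intro heq
        have h1 : b ⟨i, hi'⟩ ∈ G r 𝒩 d (Submodule.span k (b '' {j : Fin c | j.val < i + 1})) := by
          rw [mem_G_of_mem_piece (hb _)]
          exact Submodule.subset_span ⟨⟨i, hi'⟩, Nat.lt_succ_self i, rfl⟩
        rw [← heq, mem_G_of_mem_piece (hb _)] at h1
        exact hli.notMem_span_image (s := {j : Fin c | j.val < i}) (x := ⟨i, hi'⟩)
          (by simp) h1
    have := Order.add_one_le_of_lt (Submodule.height_strictMono hlt)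
    calc Order.height (G r 𝒩 d ⊥) + ((i + 1 : ℕ) : ℕ∞)
        = (Order.height (G r 𝒩 d ⊥) + (i : ℕ∞)) + 1 := by push_cast; rw [add_assoc]
      _ ≤ Order.height (G r 𝒩 d (Submodule.span k (b '' {j : Fin c | j.val < i}))) + 1 := by
          gcongr
          exact ih (le_of_lt hi')
      _ ≤ _ := this

variable [∀ d, FiniteDimensional k (𝒩 d)]

theorem height_step (d : ℤ) :
    Order.height (G r 𝒩 (d + 1) ⊤) + (Module.finrank k (𝒩 d) : ℕ∞) ≤ Order.height (G r 𝒩 d ⊤) := by
  classical
  let bb := Module.finBasis k (𝒩 d)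
  let b : Fin (Module.finrank k (𝒩 d)) → N := fun i => (bb i : N)
  have hli : LinearIndependent k b :=
    bb.linearIndependent.map' (𝒩 d).subtype (Submodule.ker_subtype _)
  have h1 := height_flag (r := r) (𝒩 := 𝒩) d b (fun i => (bb i).2) hli _ le_rfl
  calc Order.height (G r 𝒩 (d + 1) ⊤) + (Module.finrank k (𝒩 d) : ℕ∞)
      ≤ Order.height (G r 𝒩 d ⊥) + (Module.finrank k (𝒩 d) : ℕ∞) := by
        gcongr
        exact G_succ_le (r := r) (𝒩 := 𝒩) d
    _ ≤ _ := h1
    _ ≤ _ := Order.height_mono (G_mono (r := r) (𝒩 := 𝒩) d le_top)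

theorem height_ge_sum (d : ℤ) (m : ℕ) :
    ((∑ i ∈ Finset.range m, Module.finrank k (𝒩 (d + i)) : ℕ) : ℕ∞) +
      Order.height (G r 𝒩 (d + m) ⊤) ≤ Order.height (G r 𝒩 d ⊤) := by
  induction m with
  | zero => simp
  | succ m ih =>
    refine le_trans ?_ ih
    rw [Finset.sum_range_succ]
    push_cast
    rw [add_assoc]
    gcongr
    have h2 := height_step (r := r) (𝒩 := 𝒩) (d + m)
    rw [add_comm] at h2
    rw [show d + ((m : ℤ) + 1) = d + m + 1 by ring]
    exact h2

/-- the length is at least the sum of the dimensions of the pieces. -/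
theorem sum_finrank_le_length (d : ℤ) (m : ℕ) :
    ((∑ i ∈ Finset.range m, Module.finrank k (𝒩 (d + i)) : ℕ) : ℕ∞) ≤
      Module.length (MvPolynomial (Fin (r + 1)) k) N := by
  rw [Module.length_eq_height]
  exact le_trans (le_trans le_self_add (height_ge_sum (r := r) d m)) (Order.height_mono le_top)

end Height

end Groth.Agent.Helper7.GrLenChain
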