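import Mathlib
import Groth.Prelude.Def_GrSyz
import Groth.Prelude.Def_GrLC
import Groth.Agent.Helper7.GrLenChain

/-!
# Regularity of a graded quotient with an artinian reduction of length `ℓ`
-/

set_option autoImplicit false
set_option linter.unusedSectionVars false
set_option linter.style.haveILetI false

open DirectSum MvPolynomial

namespace Groth.Agent.Helper7.GrLenReg

open Groth.Agent.Helper7.HilbFn Groth.Agent.Helper7.GrTorV Groth.Agent.Helper7.GrTorS
  Groth.Agent.Helper7.GrTorBal Groth.Agent.Helper7.GrTorK Groth.Agent.Helper7.GrTorKos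
  Groth.Agent.Helper7.GrSyzMin Groth.Agent.Helper7.GrRegSeq Groth.Agent.Helper7.GrFinLen
  Groth.Agent.Helper7.GrLenChain Groth.Agent.Helper7

universe u

variable {k : Type u} [Field k] {r : ℕ}

local notation "S" => MvPolynomial (Fin (r + 1)) k
local notation "𝒜" => GrSyz.stdGr k (Fin (r + 1))
local notation "𝔪" => HomogeneousIdeal.toIdeal (GrSyz.irrel (GrSyz.stdGr k (Fin (r + 1))))

theorem sum_ge (f : ℕ → ℕ) (m : ℕ) (hm : 1 ≤ m) (hf : ∀ j ≤ m, 1 ≤ f j) :
    m + f 1 ≤ ∑ i ∈ Finset.range (m + 1), f i := by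
  induction m, hm using Nat.le_induction with
  | base =>
    rw [Finset.sum_range_succ, Finset.sum_range_one]
    have := hf 0 (by omega)
    omega
  | succ m hm ih =>
    rw [Finset.sum_range_succ]
    have h1 := ih (fun j hj => hf j (by omega))
    have h2 := hf (m + 1) le_rfl
    omega

section Cyclic

variable {N : Type u} [AddCommGroup N] [Module k N] [Module (MvPolynomial (Fin (r + 1)) k) N]
  [IsScalarTower k (MvPolynomial (Fin (r + 1)) k) N]
  (𝒩 : ℤ → Submodule k N) [DirectSum.Decomposition 𝒩]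
  [SetLike.GradedSMul (GrSyz.stdGr k (Fin (r + 1))) 𝒩]
  (ψ : MvPolynomial (Fin (r + 1)) k →ₗ[MvPolynomial (Fin (r + 1)) k] N)
  (hψ : Function.Surjective ψ)
  (hψg : GrLC.IsGrHom (GrSyz.stdGr k (Fin (r + 1))) 𝒩 ψ)

include hψ hψg in
theorem exists_of_mem_piece {d : ℤ} {n : N} (hn : n ∈ 𝒩 d) : ∃ s ∈ 𝒜 d, ψ s = n := by
  classical
  obtain ⟨s, hs⟩ := hψ n
  refine ⟨(decompose 𝒜 s d : S), (decompose 𝒜 s d).2, ?_⟩
  rw [← decompose_map 𝒜 𝒩 ψ hψg s d, hs, decompose_of_mem_same 𝒩 hn]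

include hψ hψg in
theorem piece_eq_bot_of_neg (d : ℤ) (hd : d < 0) : 𝒩 d = ⊥ := by
  rw [eq_bot_iff]
  intro n hn
  obtain ⟨s, hs, rfl⟩ := exists_of_mem_piece 𝒩 ψ hψ hψg hn
  have h3 : ∀ z : S, z ∈ 𝒜 d → z = 0 := fun z hz => by
    rw [stdGr_neg k _ d hd, Submodule.mem_bot] at hz; exact hz
  rw [h3 s hs, map_zero]
  exact Submodule.zero_mem _

include hψ hψg in
theorem piece_succ_eq_bot (d : ℤ) (hd : 0 ≤ d) (h : 𝒩 d = ⊥) : 𝒩 (d + 1) = ⊥ := by
  classical
  obtain ⟨K⟩ := exists_kres k r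
  rw [eq_bot_iff]
  intro n hn
  obtain ⟨s, hs, rfl⟩ := exists_of_mem_piece 𝒩 ψ hψ hψg hn
  rw [Submodule.mem_bot]
  obtain ⟨u, hu, hsum⟩ := exists_div K (d + 1) s (mem_irrel_of_mem_of_ne (by omega) hs) hs
  rw [← hsum K.c0]
  simp only [Matrix.mulVec, dotProduct]
  rw [map_sum]
  apply Finset.sum_eq_zero
  intro c _
  rw [← smul_eq_mul, map_smul]
  have h1 : u c ∈ 𝒜 d := by
    have := hu c
    rw [(deg_eq K 1 c).1] at this
    have e : d + 1 - ((1 : ℕ) : ℤ) = d := by push_cast; ring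
    rw [e] at this
    exact this
  have h2 := hψg d _ h1
  rw [h, Submodule.mem_bot] at h2
  rw [h2, smul_zero]

include hψ hψg in
theorem piece_add_eq_bot (d : ℤ) (hd : 0 ≤ d) (h : 𝒩 d = ⊥) (i : ℕ) : 𝒩 (d + i) = ⊥ := by
  induction i with
  | zero => simpa using h
  | succ i ih =>
    have := piece_succ_eq_bot 𝒩 ψ hψ hψg (d + i) (by omega) ih
    rw [show d + ((i + 1 : ℕ) : ℤ) = d + i + 1 by push_cast; ring]
    exact this

end Cyclic

theorem main (k : Type u) [Field k] (r : ℕ)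
    (M : Type u) [AddCommGroup M] [Module k M] [Module (MvPolynomial (Fin (r + 1)) k) M]
    [IsScalarTower k (MvPolynomial (Fin (r + 1)) k) M] [Module.Finite (MvPolynomial (Fin (r + 1)) k) M]
    (ℳ : ℤ → Submodule k M) [DirectSum.Decomposition ℳ] [SetLike.GradedSMul (GrSyz.stdGr k (Fin (r + 1))) ℳ]
    (π : MvPolynomial (Fin (r + 1)) k →ₗ[MvPolynomial (Fin (r + 1)) k] M) (hπ : Function.Surjective π)
    (hπg : GrLC.IsGrHom (GrSyz.stdGr k (Fin (r + 1))) ℳ π)
    (hlin : ∀ x : MvPolynomial (Fin (r + 1)) k, x ∈ GrSyz.stdGr k (Fin (r + 1)) 1 → π x = 0 → x = 0)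
    (ys : List (MvPolynomial (Fin (r + 1)) k)) (hys : ∀ y ∈ ys, y ∈ GrSyz.stdGr k (Fin (r + 1)) 1)
    (hreg : RingTheory.Sequence.IsWeaklyRegular M ys)
    (N : Type u) [AddCommGroup N] [Module k N] [Module (MvPolynomial (Fin (r + 1)) k) N]
    [IsScalarTower k (MvPolynomial (Fin (r + 1)) k) N]
    (𝒩 : ℤ → Submodule k N) [DirectSum.Decomposition 𝒩] [SetLike.GradedSMul (GrSyz.stdGr k (Fin (r + 1))) 𝒩]
    (σ : M →ₗ[MvPolynomial (Fin (r + 1)) k] N) (hσ : Function.Surjective σ) (hσg : GrLC.IsGrHom ℳ 𝒩 σ)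
    (hker : LinearMap.ker σ = Ideal.ofList ys • (⊤ : Submodule (MvPolynomial (Fin (r + 1)) k) M))
    (ℓ : ℕ) (hℓ : Module.length (MvPolynomial (Fin (r + 1)) k) N = (ℓ : ℕ∞)) :
    GrSyz.reg (GrSyz.stdGr k (Fin (r + 1))) ℳ (GrSyz.irrel (GrSyz.stdGr k (Fin (r + 1)))).toIdeal + ((((r : ℤ) + 1 - (ys.length : ℤ) : ℤ) : WithTop ℤ) : WithBot (WithTop ℤ)) ≤
      (((ℓ : ℤ) : WithTop ℤ) : WithBot (WithTop ℤ)) := by
  classical
  let ψ : (MvPolynomial (Fin (r + 1)) k) →ₗ[(MvPolynomial (Fin (r + 1)) k)] N := σ ∘ₗ π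
  have hψ : Function.Surjective ψ := hσ.comp hπ
  have hψg : GrLC.IsGrHom (GrSyz.stdGr k (Fin (r + 1))) 𝒩 ψ := fun g m hm => hσg g _ (hπg g m hm)
  haveI : Module.Finite (MvPolynomial (Fin (r + 1)) k) N := Module.Finite.of_surjective σ hσ
  have hfl : IsFiniteLength (MvPolynomial (Fin (r + 1)) k) N := by
    rw [← Module.length_ne_top_iff, hℓ]
    exact ENat.natCast_ne_top ℓ
  haveI : IsNoetherian (MvPolynomial (Fin (r + 1)) k) N := (isFiniteLength_iff_isNoetherian_isArtinian.1 hfl).1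
  haveI : IsArtinian (MvPolynomial (Fin (r + 1)) k) N := (isFiniteLength_iff_isNoetherian_isArtinian.1 hfl).2
  haveI : ∀ d, FiniteDimensional k (𝒩 d) := fun d => finiteDimensional_piece r N 𝒩 d
  rw [reg_eq_of_regularSeq ℳ 𝒩 σ hσ hσg ys hys hreg hker, reg_eq_endDeg N 𝒩 hfl]
  -- the span of the linear forms
  let W : Submodule k (MvPolynomial (Fin (r + 1)) k) := Submodule.span k {y | y ∈ ys}
  -- kernel claim
  have hkerψ : ∀ x : (MvPolynomial (Fin (r + 1)) k), x ∈ (GrSyz.stdGr k (Fin (r + 1))) 1 → ψ x = 0 → x ∈ W := by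
    intro x hx hx0
    have h1 : π x ∈ LinearMap.ker σ := hx0
    rw [hker] at h1
    have h2 : Ideal.ofList ys • (⊤ : Submodule (MvPolynomial (Fin (r + 1)) k) M) =
        Submodule.map π (Ideal.ofList ys • (⊤ : Submodule (MvPolynomial (Fin (r + 1)) k) (MvPolynomial (Fin (r + 1)) k))) := by
      rw [Submodule.map_smul'', Submodule.map_top, LinearMap.range_eq_top.2 hπ]
    rw [h2] at h1
    obtain ⟨z, hz, hzx⟩ := h1
    have hG : Ideal.ofList ys • (⊤ : Submodule (MvPolynomial (Fin (r + 1)) k) (MvPolynomial (Fin (r + 1)) k)) ≤ G r (GrSyz.stdGr k (Fin (r + 1))) 1 W := by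
      rw [Submodule.smul_le]
      intro a ha n _
      have ha' : a ∈ G r (GrSyz.stdGr k (Fin (r + 1))) 1 W := by
        have : Ideal.ofList ys ≤ G r (GrSyz.stdGr k (Fin (r + 1))) 1 W := by
          apply Ideal.span_le.2
          intro y hy
          exact (mem_G_of_mem_piece (hys y hy)).2 (Submodule.subset_span hy)
        exact this ha
      rw [smul_eq_mul, mul_comm, ← smul_eq_mul]
      exact (G r (GrSyz.stdGr k (Fin (r + 1))) 1 W).smul_mem n ha'
    have hz1 : (decompose (GrSyz.stdGr k (Fin (r + 1))) z 1 : (MvPolynomial (Fin (r + 1)) k)) ∈ W := (hG hz).2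
    have h3 : π (x - z) = 0 := by rw [map_sub, hzx, sub_self]
    have h4 : π (decompose (GrSyz.stdGr k (Fin (r + 1))) (x - z) 1 : (MvPolynomial (Fin (r + 1)) k)) = 0 := by
      rw [← decompose_map (GrSyz.stdGr k (Fin (r + 1))) ℳ π hπg (x - z) 1, h3]
      simp
    have h5 := hlin _ (decompose (GrSyz.stdGr k (Fin (r + 1))) (x - z) 1).2 h4
    rw [decompose_sub, DirectSum.sub_apply, Submodule.coe_sub, decompose_of_mem_same (GrSyz.stdGr k (Fin (r + 1))) hx,
      sub_eq_zero] at h5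
    rw [h5]
    exact hz1
  -- dimension of the degree one piece
  have hf1 : (r : ℤ) + 1 - (ys.length : ℤ) ≤ (Module.finrank k (𝒩 1) : ℤ) := by
    let φ : (GrSyz.stdGr k (Fin (r + 1))) 1 →ₗ[k] 𝒩 1 := (ψ.restrictScalars k).restrict (p := (GrSyz.stdGr k (Fin (r + 1))) 1) (q := 𝒩 1) (hψg 1)
    have hφs : LinearMap.range φ = ⊤ := by
      rw [LinearMap.range_eq_top]
      rintro ⟨n, hn⟩
      obtain ⟨s, hs, hsn⟩ := exists_of_mem_piece 𝒩 ψ hψ hψg hn
      exact ⟨⟨s, hs⟩, Subtype.ext hsn⟩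
    have h1 := LinearMap.finrank_range_add_finrank_ker φ
    rw [hφs, finrank_top, finrank_stdGr k r 1, if_pos (by norm_num)] at h1
    have h2 : Module.finrank k (LinearMap.ker φ) ≤ ys.length := by
      rw [← Submodule.finrank_map_subtype_eq]
      have hle : (LinearMap.ker φ).map ((GrSyz.stdGr k (Fin (r + 1))) 1).subtype ≤ Submodule.span k (↑ys.toFinset : Set (MvPolynomial (Fin (r + 1)) k)) := by
        rintro _ ⟨x, hx, rfl⟩
        have hx0 : ψ (x : (MvPolynomial (Fin (r + 1)) k)) = 0 := by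
          have := LinearMap.mem_ker.1 hx
          exact congrArg Subtype.val this
        have := hkerψ x x.2 hx0
        have e : (↑ys.toFinset : Set (MvPolynomial (Fin (r + 1)) k)) = {y | y ∈ ys} := by
          ext y; simp
        rw [e]
        exact this
      refine le_trans (Submodule.finrank_mono hle) ?_
      exact le_trans (finrank_span_finset_le_card _) (List.toFinset_card_le ys)
    have h3 : Nat.choose (r + (1 : ℤ).toNat) r = r + 1 := by
      rw [show (1 : ℤ).toNat = 1 from rfl, Nat.choose_succ_self_right]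
    omega
  -- the numerical claim
  have key : ∀ n : ℤ, 𝒩 n ≠ ⊥ → n + ((r : ℤ) + 1 - (ys.length : ℤ)) ≤ ℓ := by
    intro n hn
    have hn0 : 0 ≤ n := by
      by_contra hcon
      exact hn (piece_eq_bot_of_neg 𝒩 ψ hψ hψg n (by omega))
    obtain ⟨m, rfl⟩ := Int.eq_ofNat_of_zero_le hn0
    have hpos : ∀ j : ℕ, j ≤ m → 1 ≤ Module.finrank k (𝒩 (j : ℤ)) := by
      intro j hj
      rw [Nat.one_le_iff_ne_zero]
      intro h0
      rw [Submodule.finrank_eq_zero] at h0
      have := piece_add_eq_bot 𝒩 ψ hψ hψg j (by omega) h0 (m - j)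
      rw [show (j : ℤ) + ((m - j : ℕ) : ℤ) = m by omega] at this
      exact hn this
    have hcong : ∀ i : ℕ, Module.finrank k (𝒩 (0 + (i : ℤ))) = Module.finrank k (𝒩 (i : ℤ)) :=
      fun i => by rw [zero_add]
    have hone : Module.finrank k (𝒩 ((1 : ℕ) : ℤ)) = Module.finrank k (𝒩 1) := by
      rw [Nat.cast_one]
    rcases Nat.eq_zero_or_pos m with rfl | hm
    · have h1 := sum_finrank_le_length (r := r) (𝒩 := 𝒩) 0 2
      rw [hℓ, Nat.cast_le, Finset.sum_range_succ, Finset.sum_range_one, hcong, hcong, hone] at h1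
      rw [Nat.cast_zero, zero_add]
      omega
    · have h1 := sum_finrank_le_length (r := r) (𝒩 := 𝒩) 0 (m + 1)
      rw [hℓ, Nat.cast_le] at h1
      simp only [hcong] at h1
      have h2 := sum_ge (fun i => Module.finrank k (𝒩 (i : ℤ))) m hm hpos
      simp only [hone] at h2
      omega
  have h1 : GrLC.endDeg (fun n => (𝒩 n).toAddSubgroup) ≤
      ((((ℓ : ℤ) - ((r : ℤ) + 1 - (ys.length : ℤ)) : ℤ) : WithTop ℤ) : WithBot (WithTop ℤ)) :=
    (endDeg_le_iff N 𝒩 _).2 (fun n hn => by have := key n hn; omega)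
  calc GrLC.endDeg (fun n => (𝒩 n).toAddSubgroup) +
        ((((r : ℤ) + 1 - (ys.length : ℤ) : ℤ) : WithTop ℤ) : WithBot (WithTop ℤ))
      ≤ ((((ℓ : ℤ) - ((r : ℤ) + 1 - (ys.length : ℤ)) : ℤ) : WithTop ℤ) : WithBot (WithTop ℤ)) +
        ((((r : ℤ) + 1 - (ys.length : ℤ) : ℤ) : WithTop ℤ) : WithBot (WithTop ℤ)) :=
        add_le_add_left h1 _
    _ = (((ℓ : ℤ) : WithTop ℤ) : WithBot (WithTop ℤ)) := by
        rw [← WithBot.coe_add, ← WithTop.coe_add, sub_add_cancel]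

end Groth.Agent.Helper7.GrLenReg
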