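import Mathlib

set_option autoImplicit false

namespace Groth.Agent.Helper7.GrModGen

open DirectSum

universe u

section
variable {R : Type*} [CommRing R] {A : Type*} [CommRing A] [Algebra R A]
  (𝒜 : ℕ → Submodule R A) [GradedAlgebra 𝒜]

theorem piece_add (hA : ∀ n : ℕ, 𝒜 (n + 1) = 𝒜 1 * 𝒜 n) (a b : ℕ) :
    𝒜 (a + b) = 𝒜 a * 𝒜 b := by
  induction a with
  | zero =>
    rw [zero_add]
    apply le_antisymm
    · intro x hx
      have := Submodule.mul_mem_mul (SetLike.GradedOne.one_mem : (1 : A) ∈ 𝒜 0) hx
      simpa using this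
    · rw [Submodule.mul_le]
      intro x hx y hy
      have := SetLike.GradedMul.mul_mem hx hy
      simpa using this
  | succ a ih =>
    rw [add_right_comm, hA, ih, ← mul_assoc, ← hA]

variable {M : Type*} [AddCommGroup M] [Module R M] [Module A M] [IsScalarTower R A M]
  (ℳ : ℕ → Submodule R M) [DirectSum.Decomposition ℳ] [SetLike.GradedSMul 𝒜 ℳ]

theorem gsmul_mem {i j : ℕ} {a : A} {p : M} (ha : a ∈ 𝒜 i) (hp : p ∈ ℳ j) :
    a • p ∈ ℳ (i + j) :=
  SetLike.GradedSMul.smul_mem ha hp

theorem smul_piece_le (i j : ℕ) : 𝒜 i • ℳ j ≤ ℳ (i + j) := by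
  rw [Submodule.smul_le]
  intro a ha p hp
  exact gsmul_mem 𝒜 ℳ ha hp

theorem main (hA : ∀ n : ℕ, 𝒜 (n + 1) = 𝒜 1 * 𝒜 n)
    (s : Set M) (n₀ : ℕ) (hs : ∀ y ∈ s, ∃ d : ℕ, d ≤ n₀ ∧ y ∈ ℳ d)
    (hspan : Submodule.span A s = ⊤)
    (n k : ℕ) (hn : n₀ ≤ n) :
    ℳ (n + k) = 𝒜 k • ℳ n := by
  classical
  apply le_antisymm
  · let P : ℕ → Submodule R M := fun j => if n ≤ j then 𝒜 (j - n) • ℳ n else ℳ j
    have hP1 : ∀ j, n ≤ j → P j = 𝒜 (j - n) • ℳ n := fun j hj => if_pos hj
    have hP2 : ∀ j, ¬ n ≤ j → P j = ℳ j := fun j hj => if_neg hj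
    have hPle : ∀ j, P j ≤ ℳ j := by
      intro j
      by_cases hj : n ≤ j
      · rw [hP1 j hj]
        have := smul_piece_le 𝒜 ℳ (j - n) n
        rwa [Nat.sub_add_cancel hj] at this
      · rw [hP2 j hj]
    have hsm : ∀ (i j : ℕ) (a : A), a ∈ 𝒜 i → ∀ p ∈ P j, a • p ∈ P (i + j) := by
      intro i j a ha p hp
      by_cases hj : n ≤ j
      · rw [hP1 j hj] at hp
        rw [hP1 (i + j) (by omega)]
        refine Submodule.smul_induction_on hp ?_ ?_
        · intro r hr m hm
          rw [← mul_smul]
          have h1 : a * r ∈ 𝒜 (i + (j - n)) := SetLike.GradedMul.mul_mem ha hr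
          have h2 : i + (j - n) = i + j - n := by omega
          rw [h2] at h1
          exact Submodule.smul_mem_smul h1 hm
        · intro x y hx hy
          rw [smul_add]; exact add_mem hx hy
      · rw [hP2 j hj] at hp
        by_cases hij : n ≤ i + j
        · rw [hP1 (i + j) hij]
          have h1 : i = (i + j - n) + (n - j) := by omega
          rw [h1, piece_add 𝒜 hA] at ha
          refine Submodule.mul_induction_on ha ?_ ?_
          · intro b hb c hc
            rw [mul_smul]
            have h3 := gsmul_mem 𝒜 ℳ hc hp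
            have h4 : n - j + j = n := by omega
            rw [h4] at h3
            exact Submodule.smul_mem_smul hb h3
          · intro x y hx hy
            rw [add_smul]; exact add_mem hx hy
        · rw [hP2 (i + j) hij]
          exact gsmul_mem 𝒜 ℳ ha hp
    let T0 : Submodule R M := ⨆ j, P j
    have hT0 : ∀ (a : A) (x : M), x ∈ T0 → a • x ∈ T0 := by
      intro a x hx
      induction hx using Submodule.iSup_induction' with
      | mem j p hp =>
        induction a using DirectSum.Decomposition.inductionOn 𝒜 with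
        | zero => rw [zero_smul]; exact zero_mem _
        | homogeneous a' =>
          rename_i i
          exact Submodule.mem_iSup_of_mem (i + j) (hsm i j a' a'.2 p hp)
        | add a b ha hb => rw [add_smul]; exact add_mem ha hb
      | zero => rw [smul_zero]; exact zero_mem _
      | add x y _ _ hx hy => rw [smul_add]; exact add_mem hx hy
    let T : Submodule A M :=
      { carrier := T0
        add_mem' := fun ha hb => T0.add_mem ha hb
        zero_mem' := T0.zero_mem
        smul_mem' := fun a x hx => hT0 a x hx }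
    have hsT : s ⊆ T := by
      intro y hy
      obtain ⟨d, hd, hyd⟩ := hs y hy
      change y ∈ T0
      by_cases hdn : n ≤ d
      · have hdn' : d = n := by omega
        subst hdn'
        refine Submodule.mem_iSup_of_mem d ?_
        rw [hP1 d le_rfl, Nat.sub_self]
        have := Submodule.smul_mem_smul (SetLike.GradedOne.one_mem : (1 : A) ∈ 𝒜 0) hyd
        rwa [one_smul] at this
      · refine Submodule.mem_iSup_of_mem d ?_
        rw [hP2 d hdn]; exact hyd
    have hT : T = ⊤ := by
      rw [eq_top_iff, ← hspan]
      exact Submodule.span_le.mpr hsT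
    have hall : ∀ x : M, x ∈ T0 := by
      intro x
      have : x ∈ T := by rw [hT]; trivial
      exact this
    have hcomp : ∀ x : M, x ∈ T0 → ∀ j, ((decompose ℳ x j : ℳ j) : M) ∈ P j := by
      intro x hx
      induction hx using Submodule.iSup_induction' with
      | mem i p hp =>
        intro j
        by_cases hij : i = j
        · subst hij
          rw [decompose_of_mem_same ℳ (hPle i hp)]
          exact hp
        · rw [decompose_of_mem_ne ℳ (hPle i hp) hij]
          exact zero_mem _
      | zero => intro j; simp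
      | add x y _ _ hx hy =>
        intro j
        rw [decompose_add, DirectSum.add_apply, Submodule.coe_add]
        exact add_mem (hx j) (hy j)
    intro x hx
    have := hcomp x (hall x) (n + k)
    rw [decompose_of_mem_same ℳ hx, hP1 (n + k) (by omega)] at this
    have h5 : n + k - n = k := by omega
    rwa [h5] at this
  · have := smul_piece_le 𝒜 ℳ k n
    rwa [add_comm] at this

end

end Groth.Agent.Helper7.GrModGen
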