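import Mathlib
import Groth.Agent.Helper7.GrModGen

set_option autoImplicit false

namespace Groth.Agent.Helper7.GrModGen

open DirectSum

universe u

theorem main2
    (R : Type u) [CommRing R] (A : Type u) [CommRing A] [Algebra R A]
    (𝒜 : ℕ → Submodule R A) [GradedAlgebra 𝒜] (hA : ∀ n : ℕ, 𝒜 (n + 1) = 𝒜 1 * 𝒜 n)
    (S : Type u) [CommRing S] [Algebra R S] [Algebra A S] [IsScalarTower R A S]
    (𝒮 : ℕ → Submodule R S) [GradedAlgebra 𝒮]
    (hAS : ∀ (i : ℕ) (a : A), a ∈ 𝒜 i → algebraMap A S a ∈ 𝒮 i)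
    (s : Set S) (n₀ : ℕ)
    (hs : ∀ y ∈ s, ∃ d : ℕ, d ≤ n₀ ∧ y ∈ 𝒮 d) (hspan : Submodule.span A s = ⊤) :
    (∀ n k : ℕ, n₀ ≤ n → 𝒮 (n + k) = 𝒮 k * 𝒮 n) ∧
      (∀ d : ℕ, n₀ ≤ d → ∀ m : ℕ, 0 < m → 𝒮 (m * d) = 𝒮 d ^ m) := by
  haveI : SetLike.GradedSMul 𝒜 𝒮 :=
    ⟨fun {i j a x} ha hx => by
      rw [Algebra.smul_def]
      exact SetLike.GradedMul.mul_mem (hAS i a ha) hx⟩
  have h1 : ∀ n k : ℕ, n₀ ≤ n → 𝒮 (n + k) = 𝒮 k * 𝒮 n := by
    intro n k hn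
    apply le_antisymm
    · rw [main 𝒜 𝒮 hA s n₀ hs hspan n k hn, Submodule.smul_le]
      intro a ha x hx
      rw [Algebra.smul_def]
      exact Submodule.mul_mem_mul (hAS k a ha) hx
    · rw [Submodule.mul_le]
      intro x hx y hy
      have := SetLike.GradedMul.mul_mem hx hy
      rwa [add_comm] at this
  refine ⟨h1, ?_⟩
  intro d hd m hm
  induction m with
  | zero => omega
  | succ m ih =>
    rcases Nat.eq_zero_or_pos m with h | h
    · subst h; simp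
    · have h2 : (m + 1) * d = d + m * d := by ring
      rw [h2, h1 d (m * d) hd, ih h, pow_succ]

end Groth.Agent.Helper7.GrModGen
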