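import Mathlib
import Groth.Agent.Helper7.GrPolyQ1

/-!
# The Hilbert function of a polynomial ring in `s` variables, as a function on `ℤ`
-/

set_option autoImplicit false

namespace Groth.Agent.Helper7.GrPA

open Polynomial Groth.Agent.Helper7.GrPolyQ

/-- the number of monomials of degree `n` in `s` variables (zero for negative `n`) -/
noncomputable def hs (s : ℕ) (n : ℤ) : ℚ :=
  if 0 ≤ n then (((n.toNat + s - 1).choose n.toNat : ℕ) : ℚ) else 0

theorem hs_neg (s : ℕ) {n : ℤ} (hn : n < 0) : hs s n = 0 := by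
  unfold hs
  rw [if_neg (by omega)]

theorem hs_nat (s n : ℕ) : hs s (n : ℤ) = (((n + s - 1).choose n : ℕ) : ℚ) := by
  unfold hs
  rw [if_pos (by omega), Int.toNat_natCast]

theorem hs_zero_of_pos {n : ℤ} (hn : 0 < n) : hs 0 n = 0 := by
  obtain ⟨k, rfl⟩ := Int.eq_ofNat_of_zero_le hn.le
  rw [hs_nat]
  have hk : 0 < k := by exact_mod_cast hn
  have : k + 0 - 1 < k := by omega
  rw [Nat.choose_eq_zero_of_lt this]
  simp

theorem hs_zero_zero (s : ℕ) : hs s 0 = 1 := by
  have := hs_nat s 0
  simp only [Nat.cast_zero] at this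
  rw [this, Nat.choose_zero_right]
  simp

/-- Pascal's rule -/
theorem hs_pascal (s : ℕ) (n : ℤ) : hs (s + 1) n - hs (s + 1) (n + -1) = hs s n := by
  rcases lt_trichotomy n 0 with hn | hn | hn
  · rw [hs_neg _ hn, hs_neg _ (show n + -1 < 0 by omega), hs_neg _ hn, sub_zero]
  · subst hn
    rw [hs_zero_zero, hs_zero_zero, hs_neg _ (show (0 : ℤ) + -1 < 0 by omega), sub_zero]
  · obtain ⟨k, rfl⟩ := Int.eq_ofNat_of_zero_le hn.le
    have hk : 0 < k := by exact_mod_cast hn
    obtain ⟨j, rfl⟩ : ∃ j, k = j + 1 := ⟨k - 1, by omega⟩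
    have h1 : ((j + 1 : ℕ) : ℤ) + -1 = (j : ℤ) := by push_cast; ring
    rw [h1, hs_nat, hs_nat, hs_nat]
    have e1 : j + 1 + (s + 1) - 1 = (j + s) + 1 := by omega
    have e2 : j + (s + 1) - 1 = j + s := by omega
    have e3 : j + 1 + s - 1 = j + s := by omega
    rw [e1, e2, e3, Nat.choose_succ_succ]
    push_cast
    ring

/-- a polynomial of degree `< d` agreeing in all degrees `> -d` with a function vanishing in
negative degrees determines the function -/
theorem eq_hs (d : ℕ) (P : ℚ[X]) (H : ℤ → ℚ) (hdeg : P.degree < (d : WithBot ℕ))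
    (hPH : ∀ n : ℤ, -(d : ℤ) < n → P.eval (n : ℚ) = H n) (hneg : ∀ n : ℤ, n < 0 → H n = 0)
    (n : ℤ) : H n = H 0 * hs d n := by
  rcases lt_or_ge n 0 with hn | hn
  · rw [hneg n hn, hs_neg _ hn, mul_zero]
  cases d with
  | zero =>
    have hP0 : P = 0 := by
      rw [← Polynomial.degree_eq_bot]
      exact Nat.WithBot.lt_zero_iff.mp hdeg
    rcases eq_or_lt_of_le hn with h0 | h0
    · rw [← h0, hs_zero_zero, mul_one]
    · rw [hs_zero_of_pos h0, mul_zero, ← hPH n (by simpa using h0), hP0, eval_zero]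
  | succ s =>
    have hQ : P - C (H 0) * Qs s = 0 := by
      by_contra hne
      have hdQ : (P - C (H 0) * Qs s).natDegree < s + 1 := by
        refine lt_of_le_of_lt (natDegree_sub_le _ _) (max_lt ?_ ?_)
        · by_cases hP : P = 0
          · rw [hP]; simp
          · exact (natDegree_lt_iff_degree_lt hP).mpr hdeg
        · exact lt_of_le_of_lt (natDegree_C_mul_le _ _)
            (lt_of_le_of_lt (natDegree_Qs_le s) (Nat.lt_succ_self s))
      apply hne
      refine eq_zero_of_natDegree_lt_card_of_eval_eq_zero (P - C (H 0) * Qs s)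
        (f := fun i : Fin (s + 1) => (-((i : ℕ) : ℚ))) ?_ ?_ (by simpa using hdQ)
      · intro i j hij
        have h1 : ((i : ℕ) : ℚ) = ((j : ℕ) : ℚ) := neg_injective hij
        apply Fin.ext
        exact_mod_cast h1
      · intro i
        rw [eval_sub, eval_mul, eval_C]
        rcases Nat.eq_zero_or_pos (i : ℕ) with hi | hi
        · simp only [hi, Nat.cast_zero, neg_zero]
          have h1 := hPH 0 (by push_cast; omega)
          simp only [Int.cast_zero] at h1
          rw [h1]
          have := eval_Qs_nat s 0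
          simp only [Nat.cast_zero, zero_add, Nat.choose_self, Nat.cast_one] at this
          rw [this, mul_one, sub_self]
        · have hle : (i : ℕ) ≤ s := by have := i.2; omega
          have h1 := hPH (-((i : ℕ) : ℤ)) (by push_cast; omega)
          rw [hneg _ (by omega)] at h1
          have h2 : ((-((i : ℕ) : ℤ) : ℤ) : ℚ) = -((i : ℕ) : ℚ) := by push_cast; ring
          rw [h2] at h1
          rw [h1, eval_Qs_neg s i hi hle, mul_zero, sub_zero]
    obtain ⟨k, rfl⟩ := Int.eq_ofNat_of_zero_le hn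
    have h1 := hPH (k : ℤ) (by push_cast; omega)
    have h2 : P = C (H 0) * Qs s := sub_eq_zero.mp hQ
    rw [← h1, h2, eval_mul, eval_C, hs_nat]
    have h3 : (((k : ℤ) : ℚ)) = (k : ℚ) := by push_cast; ring
    rw [h3, eval_Qs_nat]
    have e1 : k + (s + 1) - 1 = k + s := by omega
    rw [e1, Nat.choose_symm_add]

end Groth.Agent.Helper7.GrPA
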