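import Mathlib
import Groth.Prelude.Def_GrLC
import Groth.Agent.Helper7.GrPA1
import Groth.Agent.Helper7.GrFR1
import Groth.Agent.Helper7.GrHP1
import Groth.Agent.Helper7.GrAInv2
import Groth.Agent.Helper7.HilbMono3

/-!
# Linear non-zero-divisors over a local degree-zero ring with infinite residue field, and generation
of the irrelevant ideal by linear forms from the Hilbert function
-/

set_option autoImplicit false
set_option linter.unusedSectionVars false
set_option linter.style.haveILetI false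

namespace Groth.Agent.Helper7.GrPA

open DirectSum Groth.Agent.Helper6.GrMod Groth.Agent.Helper6.GrCon Groth.Agent.Helper6.GrShift
  Groth.Agent.Helper7.GrDel Groth.Agent.Helper7.GrFinC Groth.Agent.Helper7.GrEC
  Groth.Agent.Helper7.GrAInv Groth.Agent.Helper7.GrFR Pointwise

universe u

section H0

variable {R : Type u} [CommRing R] {𝒜 : ℤ → AddSubgroup R} [GradedRing 𝒜]
  {M : Type u} [AddCommGroup M] [Module R M] {ℳ : ℤ → AddSubgroup M} [Decomposition ℳ]
  [SetLike.GradedSMul 𝒜 ℳ]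

/-- if `H^0_a(M) = 0` then `Γ_a(M) = 0` -/
theorem eq_zero_of_mem_gam (E : GrLC.StarInjRes 𝒜 ℳ) (a : HomogeneousIdeal 𝒜)
    (h : Subsingleton (E.H a 0)) (y : M) (hy : y ∈ GrLC.gam a.toIdeal M) : y = 0 := by
  have h1 : E.ε y ∈ E.cocyc a 0 :=
    ⟨map_mem_gam a.toIdeal E.ε hy, LinearMap.mem_ker.mpr (d_ε E y)⟩
  have h2 : E.toH a 0 ⟨E.ε y, h1⟩ = 0 := Subsingleton.elim _ _
  have h3 : (⟨E.ε y, h1⟩ : ↥(E.cocyc a 0)) ∈ (E.cobdy a 0).comap (E.cocyc a 0).subtype :=
    (Submodule.Quotient.mk_eq_zero _).mp h2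
  have h4 : E.ε y ∈ (⊥ : Submodule R (E.X 0).carrier) := h3
  rw [Submodule.mem_bot] at h4
  exact E.ε_injective (h4.trans (map_zero _).symm)

end H0

variable {R : Type u} [CommRing R] [IsNoetherianRing R] (𝒜 : ℤ → AddSubgroup R) [GradedRing 𝒜]
  (hpos : ∀ n : ℤ, n < 0 → 𝒜 n = ⊥) (a : HomogeneousIdeal 𝒜)
  (ha : a.toIdeal = Ideal.span (⋃ n ∈ Set.Ioi (0 : ℤ), (𝒜 n : Set R)))
  (hstd : a.toIdeal = Ideal.span ((𝒜 1 : AddSubgroup R) : Set R))

section Reg

variable [IsLocalRing (GrLC.deg0 𝒜)] (hinf : Infinite (Kq (GrLC.deg0 𝒜)))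

include hpos ha hstd hinf in
/-- a linear form which is a non-zero-divisor on a finite module without `R₊`-torsion -/
theorem exists_linear_regular (X : Type u) [AddCommGroup X] [Module R X] [Module.Finite R X]
    (hX : ∀ y : X, y ∈ GrLC.gam a.toIdeal X → y = 0) :
    ∃ x ∈ 𝒜 1, IsSMulRegular X x := by
  classical
  let R₀ := GrLC.deg0 𝒜
  let N : Submodule R₀ R := GrLC.comp 𝒜 𝒜 1
  have hstd' : HilbMono.irr 𝒜 = Ideal.span ((𝒜 1 : AddSubgroup R) : Set R) := by
    rw [← hstd, ha]; rfl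
  haveI : Module.Finite R₀ N := HilbMono.finite_comp hpos hstd' 1
  have hfin : (associatedPrimes R X).Finite := associatedPrimes.finite R X
  let QP : Ideal R → Submodule R₀ N := fun P =>
    Submodule.comap N.subtype (P.restrictScalars R₀)
  let 𝒬 : Set (Submodule R₀ N) := QP '' (associatedPrimes R X)
  have h𝒬 : 𝒬.Finite := hfin.image QP
  have hQ : ∀ Q ∈ 𝒬, Q ≠ ⊤ := by
    rintro _ ⟨P, hP, rfl⟩ htop
    have hPprime : P.IsPrime := hP.isPrime
    have hle : a.toIdeal ≤ P := by
      rw [hstd, Ideal.span_le]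
      intro z hz
      have : (⟨z, hz⟩ : N) ∈ QP P := by rw [htop]; trivial
      exact this
    obtain ⟨-, m, hm⟩ := (isAssociatedPrime_iff (R := R) (M := X)).mp hP
    have hm0 : m = 0 := by
      apply hX
      refine ⟨1, fun r hr => ?_⟩
      rw [pow_one] at hr
      have : r ∈ Submodule.colon (⊥ : Submodule R X) {m} := hm ▸ hle hr
      rw [Submodule.mem_colon_singleton, Submodule.mem_bot] at this
      exact this
    apply hPprime.ne_top
    rw [hm, hm0, eq_top_iff]
    intro r _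
    rw [Submodule.mem_colon_singleton, smul_zero]
    exact zero_mem _
  obtain ⟨w, hw⟩ := exists_notMem_of_finite hinf 𝒬 h𝒬 hQ
  refine ⟨(w : R), w.2, ?_⟩
  have hnz : ∀ y : X, (w : R) • y = 0 → y = 0 := by
    intro y hy
    by_contra hy0
    have hmem : (w : R) ∈ ⋃ p ∈ associatedPrimes R X, (p : Set R) := by
      rw [biUnion_associatedPrimes_eq_zero_divisors]
      exact ⟨y, hy0, hy⟩
    simp only [Set.mem_iUnion, SetLike.mem_coe] at hmem
    obtain ⟨P, hP, hxP⟩ := hmem
    exact hw (QP P) ⟨P, hP, rfl⟩ hxP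
  intro y z hyz
  have : (w : R) • (y - z) = 0 := by
    rw [smul_sub]
    exact sub_eq_zero.mpr hyz
  exact sub_eq_zero.mp (hnz _ this)

end Reg

section Hilb

variable [IsArtinianRing (GrLC.deg0 𝒜)]

include hpos in
/-- the Hilbert function of the quotient by a linear non-zero-divisor -/
theorem hilb_quot (X : GrLC.GMod.{u} 𝒜) [Module.Finite R X.carrier] (x : R) (hx : x ∈ 𝒜 1)
    (hreg : IsSMulRegular X.carrier x)
    (hP : (x • (⊤ : Submodule R X.carrier)).IsHomogeneous X.gr) (n : ℤ) :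
    hilb 𝒜 (quotGMod 𝒜 X.gr (x • (⊤ : Submodule R X.carrier)) hP) n =
      hilb 𝒜 X n - hilb 𝒜 X (n + -1) := by
  let X' : GrLC.GMod.{u} 𝒜 := quotGMod 𝒜 X.gr (x • (⊤ : Submodule R X.carrier)) hP
  have hfX' : Module.Finite R X'.carrier :=
    (inferInstance : Module.Finite R (X.carrier ⧸ (x • (⊤ : Submodule R X.carrier))))
  let Xs : GrLC.GMod.{u} 𝒜 := shiftGMod 𝒜 X (-1)
  have hfXs : Module.Finite R Xs.carrier := (inferInstance : Module.Finite R X.carrier)
  let u : Xs.carrier →ₗ[R] X.carrier := x • (LinearMap.id : X.carrier →ₗ[R] X.carrier)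
  let v : X.carrier →ₗ[R] X'.carrier := (x • (⊤ : Submodule R X.carrier)).mkQ
  have hu : GrLC.IsGrHom Xs.gr X.gr u := by
    intro j y hy
    exact smul_mem_gr X hx j y hy
  have hv : GrLC.IsGrHom X.gr X'.gr v := fun j z hz => mkQ_mem_quotFam X.gr _ hz
  have hker : ∀ m : X.carrier, v m = 0 ↔ ∃ m', x • m' = m := by
    intro m
    have h1 : v m = 0 ↔ m ∈ x • (⊤ : Submodule R X.carrier) :=
      Submodule.Quotient.mk_eq_zero _
    rw [h1, Submodule.mem_smul_pointwise_iff_exists]
    constructor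
    · rintro ⟨z, -, hz⟩
      exact ⟨z, hz⟩
    · rintro ⟨z, hz⟩
      exact ⟨z, trivial, hz⟩
  have h := hilb_ses 𝒜 hpos Xs X X' u v hu hv hreg (Submodule.mkQ_surjective _)
    (fun m hm => (hker m).mp hm) (fun m' => (hker _).mpr ⟨m', rfl⟩) n
  have e1 : hilb 𝒜 Xs n = hilb 𝒜 X (n + -1) := rfl
  rw [e1] at h
  show hilb 𝒜 X' n = _
  linarith

end Hilb

section Main

variable [IsArtinianRing (GrLC.deg0 𝒜)] [IsLocalRing (GrLC.deg0 𝒜)]
  (hinf : Infinite (Kq (GrLC.deg0 𝒜)))

include hpos ha hstd hinf in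
/-- if the Hilbert function of `X` is that of a free module over a polynomial ring in `t`
variables, and `depth X ≥ t`, then `X_n ⊆ (f_1, …, f_t) X` for all `n > 0`, for suitable linear forms -/
theorem exists_gens_of_hilb : ∀ (t : ℕ) (X : GrLC.GMod.{u} 𝒜) [Module.Finite R X.carrier]
    (E : GrLC.StarInjRes 𝒜 X.gr) (c : ℚ), (∀ i, i < t → Subsingleton (E.H a i)) →
    (∀ n, hilb 𝒜 X n = c * hs t n) →
    ∃ f : Fin t → R, (∀ i, f i ∈ 𝒜 1) ∧ ∀ n : ℤ, 0 < n → ∀ z ∈ X.gr n,
      z ∈ Ideal.ofList (List.ofFn f) • (⊤ : Submodule R X.carrier) := by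
  intro t
  induction t with
  | zero =>
    intro X _ E c _ hH
    refine ⟨fun i => i.elim0, fun i => i.elim0, fun n hn z hz => ?_⟩
    have h1 : hilb 𝒜 X n = 0 := by rw [hH n, hs_zero_of_pos hn, mul_zero]
    unfold hilb at h1
    have h2 : (Module.length (GrLC.deg0 𝒜) (GrLC.comp 𝒜 X.gr n)).toNat = 0 := by
      exact_mod_cast h1
    have h3 := length_comp_ne_top 𝒜 hpos X.gr n
    have h4 : Module.length (GrLC.deg0 𝒜) (GrLC.comp 𝒜 X.gr n) = 0 := by
      rcases (ENat.toNat_eq_zero).mp h2 with h | h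
      · exact h
      · exact absurd h h3
    have h5 : Subsingleton ↥(GrLC.comp 𝒜 X.gr n) := Module.length_eq_zero_iff.mp h4
    have h6 : (⟨z, hz⟩ : ↥(GrLC.comp 𝒜 X.gr n)) = 0 := Subsingleton.elim _ _
    have h7 : z = 0 := congrArg Subtype.val h6
    rw [h7]
    exact zero_mem _
  | succ t ih =>
    intro X _ E c hdepth hH
    -- a linear non-zero-divisor
    have hΓ : ∀ y : X.carrier, y ∈ GrLC.gam a.toIdeal X.carrier → y = 0 :=
      eq_zero_of_mem_gam E a (hdepth 0 (Nat.succ_pos t))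
    obtain ⟨x, hx, hreg⟩ := exists_linear_regular 𝒜 hpos a ha hstd hinf X.carrier hΓ
    have hP : (x • (⊤ : Submodule R X.carrier)).IsHomogeneous X.gr := by
      rw [smul_top_eq_range]
      exact range_smul_isHomogeneous X hx
    let X' : GrLC.GMod.{u} 𝒜 := quotGMod 𝒜 X.gr (x • (⊤ : Submodule R X.carrier)) hP
    have hfX' : Module.Finite R X'.carrier :=
      (inferInstance : Module.Finite R (X.carrier ⧸ (x • (⊤ : Submodule R X.carrier))))
    let p : X.carrier →ₗ[R] X'.carrier := (x • (⊤ : Submodule R X.carrier)).mkQ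
    have hp : GrLC.IsGrHom X.gr X'.gr p := fun j z hz => mkQ_mem_quotFam X.gr _ hz
    have hps : Function.Surjective p := Submodule.mkQ_surjective _
    have hpk : ∀ m, p m = 0 ↔ ∃ m', x • m' = m := by
      intro m
      have h1 : p m = 0 ↔ m ∈ x • (⊤ : Submodule R X.carrier) :=
        Submodule.Quotient.mk_eq_zero _
      rw [h1, Submodule.mem_smul_pointwise_iff_exists]
      constructor
      · rintro ⟨z, -, hz⟩
        exact ⟨z, hz⟩
      · rintro ⟨z, hz⟩
        exact ⟨z, trivial, hz⟩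
    obtain ⟨E'⟩ := Groth.Agent.Helper6.GrExist.nonempty_starInjRes 𝒜 X'.gr
    obtain ⟨L⟩ := nonempty_mulLES E E' a x 1 hx hreg p hp hps hpk
    have hdepth' : ∀ i, i < t → Subsingleton (E'.H a i) := by
      intro i hi
      exact subsingleton_quot E E' a x 1 L i (hdepth i (by omega)) (hdepth (i + 1) (by omega))
    have hH' : ∀ n, hilb 𝒜 X' n = c * hs t n := by
      intro n
      rw [hilb_quot 𝒜 hpos X x hx hreg hP n, hH n, hH (n + -1), ← mul_sub, hs_pascal]
    obtain ⟨f', hf', hgen'⟩ := ih X' E' c hdepth' hH'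
    refine ⟨Fin.cons x f', ?_, ?_⟩
    · intro i
      refine Fin.cases ?_ (fun j => ?_) i
      · rw [Fin.cons_zero]; exact hx
      · rw [Fin.cons_succ]; exact hf' j
    · intro n hn z hz
      have h1 : p z ∈ Ideal.ofList (List.ofFn f') • (⊤ : Submodule R X'.carrier) :=
        hgen' n hn (p z) (hp n z hz)
      have h2 : Ideal.ofList (List.ofFn f') • (⊤ : Submodule R X'.carrier) =
          (Ideal.ofList (List.ofFn f') • (⊤ : Submodule R X.carrier)).map p := by
        rw [Submodule.map_smul'', Submodule.map_top, LinearMap.range_eq_top.mpr hps]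
      rw [h2] at h1
      obtain ⟨w, hw, hwz⟩ := h1
      have h3 : z - w ∈ x • (⊤ : Submodule R X.carrier) := by
        have : p (z - w) = 0 := by rw [map_sub, hwz, sub_self]
        exact (Submodule.Quotient.mk_eq_zero _).mp this
      have h4 : List.ofFn (Fin.cons x f' : Fin (t + 1) → R) = x :: List.ofFn f' := by
        rw [List.ofFn_succ]
        simp
      rw [h4, Ideal.ofList_cons_smul]
      have : z = (z - w) + w := by abel
      rw [this]
      exact Submodule.add_mem _ (Submodule.mem_sup_left h3) (Submodule.mem_sup_right hw)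

end Main

end Groth.Agent.Helper7.GrPA
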