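import Mathlib
import Groth.Prelude.Def_GrLC

/-!
# The graded map from a polynomial ring over `R_0` onto a standard graded ring, and the length of
the pieces of a polynomial ring
-/

set_option autoImplicit false
set_option linter.unusedSectionVars false

namespace Groth.Agent.Helper7.GrPA

open DirectSum MvPolynomial

universe u

section Len

/-- the length of the module of homogeneous polynomials of degree `n` in `r` variables -/
theorem length_homog (A : Type u) [CommRing A] (r n : ℕ) :
    Module.length A ↥(homogeneousSubmodule (Fin r) A n) =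
      (((r + n - 1).choose n : ℕ) : ℕ∞) * Module.length A A := by
  classical
  rw [homogeneousSubmodule_eq_finsupp_supported]
  have hset : {d : Fin r →₀ ℕ | d.degree = n}
      = ↑((Finset.univ : Finset (Fin r)).finsuppAntidiag n) := by
    ext d
    simp only [Set.mem_ofPred_eq, Finset.mem_coe, Finset.mem_finsuppAntidiag, Finset.subset_univ,
      and_true]
    rw [Finsupp.degree_eq_sum]
  rw [hset, LinearEquiv.length_eq (AddMonoidAlgebra.supportedEquivFinsupp _), Module.length_finsupp]
  congr 1
  rw [ENat.card_eq_coe_fintype_card]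
  simp only [Finset.coe_sort_coe, Fintype.card_coe]
  rw [Finset.card_finsuppAntidiag_nat_eq_choose, Finset.card_univ, Fintype.card_fin]

/-- additivity of the length along a surjection -/
theorem length_eq_ker_add {A : Type*} [Ring A] {M P : Type*} [AddCommGroup M] [Module A M]
    [AddCommGroup P] [Module A P] (L : M →ₗ[A] P) (hL : Function.Surjective L) :
    Module.length A M = Module.length A ↥(LinearMap.ker L) + Module.length A P := by
  have hexact : Function.Exact (LinearMap.ker L).subtype L := LinearMap.exact_subtype_ker_map L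
  exact Module.length_eq_add_of_exact (LinearMap.ker L).subtype L
    (Submodule.injective_subtype _) hL hexact

/-- a surjection between modules of the same finite length is injective -/
theorem injective_of_surjective_of_length_eq {A : Type*} [Ring A] {M P : Type*} [AddCommGroup M]
    [Module A M] [AddCommGroup P] [Module A P] (L : M →ₗ[A] P) (hL : Function.Surjective L)
    (hlen : Module.length A P = Module.length A M) (hfin : Module.length A P ≠ ⊤) :
    Function.Injective L := by
  have hex := length_eq_ker_add L hL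
  rw [← hlen] at hex
  have hk : Module.length A ↥(LinearMap.ker L) = 0 := by
    generalize Module.length A P = b at hex hfin
    generalize Module.length A ↥(LinearMap.ker L) = c at hex
    lift b to ℕ using hfin
    cases c with
    | top => simp at hex
    | coe c =>
      have h1 : (b : ℕ∞) = ((c + b : ℕ) : ℕ∞) := by rw [hex]; push_cast; rfl
      have h2 : b = c + b := by exact_mod_cast h1
      have : c = 0 := by omega
      rw [this]; rfl
  have hss : Subsingleton ↥(LinearMap.ker L) := Module.length_eq_zero_iff.mp hk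
  rw [← LinearMap.ker_eq_bot]
  exact (Submodule.subsingleton_iff_eq_bot).mp hss

end Len

variable {R : Type u} [CommRing R] (𝒜 : ℤ → AddSubgroup R) [GradedRing 𝒜]
  {r : ℕ} (y : Fin r → R) (hy : ∀ i, y i ∈ 𝒜 1)

include hy in
/-- the value of a monomial at elements of degree one -/
theorem prod_mem (d : Fin r →₀ ℕ) : (d.prod fun i e => y i ^ e) ∈ 𝒜 (d.degree : ℤ) := by
  classical
  rw [Finsupp.prod]
  have h := SetLike.prod_pow_mem_graded 𝒜 (F := d.support) (i := fun _ : Fin r => (1 : ℤ))
    (g := y) (fun k => d k) (fun k _ => hy k)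
  have e : (∑ k ∈ d.support, d k • (1 : ℤ)) = (d.degree : ℤ) := by
    rw [Finsupp.degree_apply]
    push_cast
    refine Finset.sum_congr rfl fun k _ => ?_
    simp
  rw [e] at h
  exact h

include hy in
/-- a homogeneous polynomial of degree `n` evaluates into the piece of degree `n` -/
theorem aeval_mem (p : MvPolynomial (Fin r) (GrLC.deg0 𝒜)) (n : ℕ) (hp : p.IsHomogeneous n) :
    aeval y p ∈ 𝒜 (n : ℤ) := by
  classical
  rw [p.as_sum, map_sum]
  refine sum_mem fun d hd => ?_
  rw [aeval_monomial]
  have hdn : d.degree = n := by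
    have := hp (mem_support_iff.mp hd)
    rw [← this, Finsupp.degree_eq_weight_one]
    rfl
  have h1 : algebraMap (GrLC.deg0 𝒜) R (coeff d p) ∈ 𝒜 0 := (coeff d p).2
  have h2 := prod_mem 𝒜 y hy d
  have h3 := SetLike.GradedMul.mul_mem h1 h2
  rw [zero_add, hdn] at h3
  exact h3

variable (hstd : Ideal.span (⋃ n ∈ Set.Ioi (0 : ℤ), (𝒜 n : Set R)) =
    Ideal.span ((𝒜 1 : AddSubgroup R) : Set R))
  (hspan : ∀ z ∈ 𝒜 1, z ∈ Submodule.span (GrLC.deg0 𝒜) (Set.range y))

include hspan in
/-- elements of degree one are values of linear forms -/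
theorem exists_linear (z : R) (hz : z ∈ 𝒜 1) :
    ∃ p : MvPolynomial (Fin r) (GrLC.deg0 𝒜), p.IsHomogeneous 1 ∧ aeval y p = z := by
  obtain ⟨c, hc⟩ := (Submodule.mem_span_range_iff_exists_fun (GrLC.deg0 𝒜)).mp (hspan z hz)
  refine ⟨∑ i, C (c i) * X i, ?_, ?_⟩
  · refine IsHomogeneous.sum _ _ _ fun i _ => ?_
    have := (isHomogeneous_C (Fin r) (c i)).mul (isHomogeneous_X (GrLC.deg0 𝒜) i)
    rwa [zero_add] at this
  · rw [map_sum, ← hc]
    refine Finset.sum_congr rfl fun i _ => ?_
    rw [map_mul, aeval_C, aeval_X, Algebra.smul_def]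

include hstd hspan in
/-- every homogeneous element of degree `n ≥ 0` is the value of a homogeneous polynomial of
degree `n` -/
theorem exists_homog : ∀ (n : ℕ) (z : R), z ∈ 𝒜 (n : ℤ) →
    ∃ p : MvPolynomial (Fin r) (GrLC.deg0 𝒜), p.IsHomogeneous n ∧ aeval y p = z := by
  classical
  intro n
  induction n with
  | zero =>
    intro z hz
    refine ⟨C ⟨z, hz⟩, isHomogeneous_C _ _, ?_⟩
    rw [aeval_C]
    rfl
  | succ n ih =>
    intro z hz
    have hzs : z ∈ Ideal.span ((𝒜 1 : AddSubgroup R) : Set R) := by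
      rw [← hstd]
      apply Ideal.subset_span
      simp only [Set.mem_iUnion, Set.mem_Ioi, SetLike.mem_coe, exists_prop]
      exact ⟨((n + 1 : ℕ) : ℤ), by positivity, hz⟩
    obtain ⟨f, t, ht, -, hsum⟩ := Submodule.mem_span_iff_exists_finset_subset.mp hzs
    have hz' : z = ∑ w ∈ t, (decompose 𝒜 (f w) (n : ℤ) : R) * w := by
      have h1 : (decompose 𝒜 z ((n + 1 : ℕ) : ℤ) : R) = z := decompose_of_mem_same 𝒜 hz
      rw [← h1, ← hsum, decompose_sum, DFinsupp.finsetSum_apply, AddSubmonoidClass.coe_finsetSum]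
      refine Finset.sum_congr rfl fun w hw => ?_
      have hw1 : w ∈ 𝒜 1 := ht hw
      have h2 := DirectSum.coe_decompose_mul_add_of_right_mem 𝒜 (a := f w) (i := (n : ℤ)) hw1
      rw [smul_eq_mul]
      have e : ((n + 1 : ℕ) : ℤ) = (n : ℤ) + 1 := by push_cast; ring
      rw [e]
      exact h2
    have hterm : ∀ w ∈ t, ∃ p : MvPolynomial (Fin r) (GrLC.deg0 𝒜), p.IsHomogeneous (n + 1) ∧
        aeval y p = (decompose 𝒜 (f w) (n : ℤ) : R) * w := by
      intro w hw
      obtain ⟨p1, hp1, e1⟩ := ih _ (SetLike.coe_mem (decompose 𝒜 (f w) (n : ℤ)))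
      obtain ⟨p2, hp2, e2⟩ := exists_linear 𝒜 y hspan w (ht hw)
      exact ⟨p1 * p2, hp1.mul hp2, by rw [map_mul, e1, e2]⟩
    choose! P hP using hterm
    refine ⟨∑ w ∈ t, P w, IsHomogeneous.sum _ _ _ fun w hw => (hP w hw).1, ?_⟩
    rw [map_sum, hz']
    exact Finset.sum_congr rfl fun w hw => (hP w hw).2

include hstd hspan in
/-- the evaluation map is surjective when `R` is nonnegatively graded -/
theorem aeval_surjective (hpos : ∀ n : ℤ, n < 0 → 𝒜 n = ⊥) :
    Function.Surjective (aeval y : MvPolynomial (Fin r) (GrLC.deg0 𝒜) → R) := by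
  classical
  intro z
  rw [← DirectSum.sum_support_decompose 𝒜 z]
  have hterm : ∀ i : ℤ, ∃ p : MvPolynomial (Fin r) (GrLC.deg0 𝒜),
      aeval y p = (decompose 𝒜 z i : R) := by
    intro i
    rcases lt_or_ge i 0 with hi | hi
    · refine ⟨0, ?_⟩
      have h2 : ∀ w : R, w ∈ 𝒜 i → w = 0 := fun w hw => by
        rw [hpos i hi] at hw
        exact AddSubgroup.mem_bot.mp hw
      rw [h2 _ (SetLike.coe_mem _), map_zero]
    · obtain ⟨n, rfl⟩ := Int.eq_ofNat_of_zero_le hi
      obtain ⟨p, -, hp⟩ := exists_homog 𝒜 y hstd hspan n _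
        (SetLike.coe_mem (decompose 𝒜 z (n : ℤ)))
      exact ⟨p, hp⟩
  choose P hP using hterm
  refine ⟨∑ i ∈ (decompose 𝒜 z).support, P i, ?_⟩
  rw [map_sum]
  exact Finset.sum_congr rfl fun i _ => hP i

include hy in
/-- the evaluation map is injective if it is injective on homogeneous polynomials -/
theorem aeval_injective
    (hinj : ∀ (n : ℕ) (p : MvPolynomial (Fin r) (GrLC.deg0 𝒜)), p.IsHomogeneous n →
      aeval y p = 0 → p = 0) :
    Function.Injective (aeval y : MvPolynomial (Fin r) (GrLC.deg0 𝒜) → R) := by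
  classical
  rw [injective_iff_map_eq_zero]
  intro p hp
  have hcomp : ∀ m : ℕ, aeval y (homogeneousComponent m p) = 0 := by
    intro m
    have h1 : aeval y p = ∑ i ∈ Finset.range (p.totalDegree + 1),
        aeval y (homogeneousComponent i p) := by
      conv_lhs => rw [← sum_homogeneousComponent p]
      rw [map_sum]
    have h2 : (decompose 𝒜 (aeval y p) (m : ℤ) : R) = 0 := by
      rw [hp, decompose_zero, DirectSum.zero_apply, ZeroMemClass.coe_zero]
    rw [h1, decompose_sum, DFinsupp.finsetSum_apply, AddSubmonoidClass.coe_finsetSum] at h2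
    have hterm : ∀ i : ℕ, (decompose 𝒜 (aeval y (homogeneousComponent i p)) (m : ℤ) : R) =
        if i = m then aeval y (homogeneousComponent m p) else 0 := by
      intro i
      have hmem := aeval_mem 𝒜 y hy _ i (homogeneousComponent_isHomogeneous i p)
      split_ifs with h
      · subst h
        exact decompose_of_mem_same 𝒜 hmem
      · exact decompose_of_mem_ne 𝒜 hmem (by exact_mod_cast h)
    simp only [hterm] at h2
    rw [Finset.sum_ite_eq'] at h2
    by_cases hm : m ∈ Finset.range (p.totalDegree + 1)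
    · rwa [if_pos hm] at h2
    · have : homogeneousComponent m p = 0 := by
        apply homogeneousComponent_eq_zero
        have := Finset.mem_range.not.mp hm
        omega
      rw [this, map_zero]
  have hzero : ∀ m : ℕ, homogeneousComponent m p = 0 := fun m =>
    hinj m _ (homogeneousComponent_isHomogeneous m p) (hcomp m)
  rw [← sum_homogeneousComponent p]
  exact Finset.sum_eq_zero fun i _ => hzero i


include hy hstd hspan in
/-- the graded surjection from the polynomial ring is bijective if the lengths of the pieces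
agree (and are finite) -/
theorem aeval_bijective_of_length (hpos : ∀ n : ℤ, n < 0 → 𝒜 n = ⊥)
    (hlen : ∀ n : ℕ, Module.length (GrLC.deg0 𝒜) (GrLC.comp 𝒜 𝒜 (n : ℤ)) =
      Module.length (GrLC.deg0 𝒜) ↥(homogeneousSubmodule (Fin r) (GrLC.deg0 𝒜) n))
    (hfin : ∀ n : ℕ, Module.length (GrLC.deg0 𝒜) (GrLC.comp 𝒜 𝒜 (n : ℤ)) ≠ ⊤) :
    Function.Bijective (aeval y : MvPolynomial (Fin r) (GrLC.deg0 𝒜) → R) := by
  classical
  refine ⟨?_, aeval_surjective 𝒜 y hstd hspan hpos⟩
  apply aeval_injective 𝒜 y hy
  intro n p hp hp0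
  let L : ↥(homogeneousSubmodule (Fin r) (GrLC.deg0 𝒜) n) →ₗ[GrLC.deg0 𝒜]
      ↥(GrLC.comp 𝒜 𝒜 (n : ℤ)) :=
    ((aeval y : MvPolynomial (Fin r) (GrLC.deg0 𝒜) →ₐ[GrLC.deg0 𝒜] R).toLinearMap.restrict
      (p := homogeneousSubmodule (Fin r) (GrLC.deg0 𝒜) n) (q := GrLC.comp 𝒜 𝒜 (n : ℤ))
      (fun q hq => aeval_mem 𝒜 y hy q n ((mem_homogeneousSubmodule n q).mp hq)))
  have hLsurj : Function.Surjective L := by
    intro z
    obtain ⟨q, hq, hqz⟩ := exists_homog 𝒜 y hstd hspan n z.1 z.2
    exact ⟨⟨q, (mem_homogeneousSubmodule n q).mpr hq⟩, Subtype.ext hqz⟩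
  have hLinj : Function.Injective L :=
    injective_of_surjective_of_length_eq (A := GrLC.deg0 𝒜)
      (M := ↥(homogeneousSubmodule (Fin r) (GrLC.deg0 𝒜) n)) (P := ↥(GrLC.comp 𝒜 𝒜 (n : ℤ)))
      L hLsurj (hlen n) (hfin n)
  have h3 : (⟨p, (mem_homogeneousSubmodule n p).mpr hp⟩ :
      ↥(homogeneousSubmodule (Fin r) (GrLC.deg0 𝒜) n)) = 0 := by
    apply hLinj
    rw [map_zero]
    exact Subtype.ext hp0
  exact congrArg Subtype.val h3

end Groth.Agent.Helper7.GrPA
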