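import Mathlib
import Groth.Prelude.Def_GrLC
import Groth.Prelude.Def_CAlg
import Groth.Agent.Helper7.GrPA2
import Groth.Agent.Helper7.GrPA3
import Groth.Agent.Helper7.GrHt1

/-!
# A Cohen–Macaulay standard graded ring over an Artinian local ring with infinite residue field whose
Hilbert polynomial agrees with its Hilbert function in all degrees `> -dim` is a polynomial ring
-/

set_option autoImplicit false
set_option linter.unusedSectionVars false
set_option linter.style.haveILetI false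

namespace Groth.Agent.Helper7.GrPA

open DirectSum MvPolynomial Groth.Agent.Helper7.GrFR Groth.Agent.Helper7.GrEC

universe u

section Congr

variable {R : Type u} [CommRing R] {𝒜 : ℤ → AddSubgroup R} [GradedRing 𝒜]
  {M : Type u} [AddCommGroup M] [Module R M] {ℳ : ℤ → AddSubgroup M} [Decomposition ℳ]
  [SetLike.GradedSMul 𝒜 ℳ]

theorem subsingleton_quot_congr {X : Type u} [AddCommGroup X] [Module R X]
    (C C' B B' : Submodule R X) (hC : C = C') (hB : B = B')
    (h : Subsingleton (↥C ⧸ B.comap C.subtype)) : Subsingleton (↥C' ⧸ B'.comap C'.subtype) := by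
  subst hC hB
  exact h

/-- vanishing of local cohomology depends only on the torsion functor -/
theorem subsingleton_H_congr (E : GrLC.StarInjRes 𝒜 ℳ) (b c : HomogeneousIdeal 𝒜)
    (h : ∀ i, GrLC.gam b.toIdeal (E.X i).carrier = GrLC.gam c.toIdeal (E.X i).carrier)
    (i : ℕ) (hb : Subsingleton (E.H b i)) : Subsingleton (E.H c i) := by
  have hC : E.cocyc b i = E.cocyc c i := by
    show GrLC.gam b.toIdeal (E.X i).carrier ⊓ _ = GrLC.gam c.toIdeal (E.X i).carrier ⊓ _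
    rw [h i]
  have hB : E.cobdy b i = E.cobdy c i := by
    cases i with
    | zero => rfl
    | succ j =>
      show (GrLC.gam b.toIdeal (E.X j).carrier).map _ = (GrLC.gam c.toIdeal (E.X j).carrier).map _
      rw [h j]
  exact subsingleton_quot_congr _ _ _ _ hC hB hb

end Congr

set_option linter.overlappingInstances false

variable {R : Type u} [CommRing R] [IsNoetherianRing R] (𝒜 : ℤ → AddSubgroup R) [GradedRing 𝒜]
  (hpos : ∀ n : ℤ, n < 0 → 𝒜 n = ⊥) [IsArtinianRing (GrLC.deg0 𝒜)]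
  (m : HomogeneousIdeal 𝒜) (hm : GrLC.IsStarLocal 𝒜 m)

include hpos hm in
/-- the degree-zero part of a *local nonnegatively graded ring with Artinian degree-zero part is
local, with maximal ideal the degree-zero part of the *maximal ideal -/
theorem isLocalRing_deg0 : IsLocalRing (GrLC.deg0 𝒜) ∧
    ∀ [IsLocalRing (GrLC.deg0 𝒜)], IsLocalRing.maximalIdeal (GrLC.deg0 𝒜) =
      m.toIdeal.comap (GrLC.deg0 𝒜).subtype := by
  have hmax : m.toIdeal.IsMaximal := Groth.Agent.Helper7.GrStarLoc.isMaximal 𝒜 hpos m hm.1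
  have hmp : m.toIdeal.IsPrime := hmax.isPrime
  set J : Ideal (GrLC.deg0 𝒜) := m.toIdeal.comap (GrLC.deg0 𝒜).subtype with hJ
  have hJp : J.IsPrime := Ideal.comap_isPrime _ _
  have hJm : J.IsMaximal := IsArtinianRing.isMaximal_of_isPrime J
  have huniq : ∀ n₀ : Ideal (GrLC.deg0 𝒜), n₀.IsMaximal → n₀ = J := by
    intro n₀ hn₀
    have hle := comap_le_maximal 𝒜 hpos (Groth.Agent.Helper7.GrHt.irr 𝒜)
      (Groth.Agent.Helper7.GrHt.irr_toIdeal 𝒜) m hm n₀ hn₀
    exact (hJm.eq_of_le hn₀.ne_top hle).symm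
  have hloc : IsLocalRing (GrLC.deg0 𝒜) :=
    IsLocalRing.of_unique_max_ideal ⟨J, hJm, fun n₀ hn₀ => huniq n₀ hn₀⟩
  refine ⟨hloc, ?_⟩
  intro _
  exact huniq _ (IsLocalRing.maximalIdeal.isMaximal _)

include hpos hm in
/-- the residue field of `R_0` is infinite if `R / m` is -/
theorem infinite_Kq [IsLocalRing (GrLC.deg0 𝒜)] (hinf : Infinite (R ⧸ m.toIdeal)) :
    Infinite (Kq (GrLC.deg0 𝒜)) := by
  have hJ := (isLocalRing_deg0 𝒜 hpos m hm).2
  let φ : GrLC.deg0 𝒜 →+* R ⧸ m.toIdeal :=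
    (Ideal.Quotient.mk m.toIdeal).comp (GrLC.deg0 𝒜).subtype
  have hφ : ∀ z ∈ IsLocalRing.maximalIdeal (GrLC.deg0 𝒜), φ z = 0 := by
    intro z hz
    rw [hJ, Ideal.mem_comap] at hz
    exact Ideal.Quotient.eq_zero_iff_mem.mpr hz
  let ψ : Kq (GrLC.deg0 𝒜) →+* R ⧸ m.toIdeal :=
    Ideal.Quotient.lift (IsLocalRing.maximalIdeal (GrLC.deg0 𝒜)) φ hφ
  have hψ : Function.Surjective ψ := by
    intro q
    obtain ⟨r, rfl⟩ := Ideal.Quotient.mk_surjective q
    refine ⟨Ideal.Quotient.mk _ ⟨(decompose 𝒜 r 0 : R), SetLike.coe_mem _⟩, ?_⟩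
    show Ideal.Quotient.mk m.toIdeal (decompose 𝒜 r 0 : R) = Ideal.Quotient.mk m.toIdeal r
    rw [Ideal.Quotient.eq]
    have h1 := Groth.Agent.Helper7.GrFinA.sub_decompose_zero_mem 𝒜 hpos
      (Groth.Agent.Helper7.GrHt.irr 𝒜) (Groth.Agent.Helper7.GrHt.irr_toIdeal 𝒜) r
    have hle : (Groth.Agent.Helper7.GrHt.irr 𝒜).toIdeal ≤ m.toIdeal := by
      rw [Groth.Agent.Helper7.GrHt.irr_toIdeal, Ideal.span_le]
      intro x hx
      simp only [Set.mem_iUnion, Set.mem_Ioi, SetLike.mem_coe, exists_prop] at hx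
      obtain ⟨j, hj, hxj⟩ := hx
      exact Groth.Agent.Helper7.GrStarLoc.mem_of_pos 𝒜 hpos m hm.1 hj hxj
    have h2 := hle h1
    have h3 : (decompose 𝒜 r 0 : R) - r = -(r - (decompose 𝒜 r 0 : R)) := by ring
    rw [h3]
    exact m.toIdeal.neg_mem h2
  exact Infinite.of_surjective ψ hψ

/-- `R_0` as a module over itself is the piece of degree zero -/
noncomputable def deg0Equiv : GrLC.deg0 𝒜 ≃ₗ[GrLC.deg0 𝒜] ↥(GrLC.comp 𝒜 𝒜 0) where
  toFun z := ⟨(z : R), z.2⟩
  invFun z := ⟨(z : R), z.2⟩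
  left_inv _ := rfl
  right_inv _ := rfl
  map_add' _ _ := rfl
  map_smul' _ _ := rfl

include hpos hm in
/-- **a Cohen–Macaulay standard graded ring over an Artinian local ring with infinite residue field
whose Hilbert polynomial agrees with its Hilbert function in all degrees `> -dim R` is a polynomial
ring** -/
theorem main [hCM : LocCoh.IsCohenMacaulayRing R]
    (hstd : Ideal.span (⋃ n ∈ Set.Ioi (0 : ℤ), (𝒜 n : Set R)) =
      Ideal.span ((𝒜 1 : AddSubgroup R) : Set R))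
    (hinf : Infinite (R ⧸ m.toIdeal)) (d : ℕ) (hd : ringKrullDim R = d)
    (I : GrLC.StarInjRes 𝒜 𝒜) (P : Polynomial ℚ) (hdeg : P.degree < (d : WithBot ℕ))
    (hall : ∀ n : ℤ, -(d : ℤ) < n → P.eval (n : ℚ) =
      ((Module.length (GrLC.deg0 𝒜) (GrLC.comp 𝒜 𝒜 n)).toNat : ℚ)) :
    ∃ e : MvPolynomial (Fin d) (GrLC.deg0 𝒜) ≃ₐ[GrLC.deg0 𝒜] R,
      ∀ t : Fin d, e (MvPolynomial.X t) ∈ 𝒜 1 := by
  classical
  let a : HomogeneousIdeal 𝒜 := Groth.Agent.Helper7.GrHt.irr 𝒜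
  have ha : a.toIdeal = Ideal.span (⋃ n ∈ Set.Ioi (0 : ℤ), (𝒜 n : Set R)) := rfl
  have hstd' : a.toIdeal = Ideal.span ((𝒜 1 : AddSubgroup R) : Set R) := ha.trans hstd
  let X : GrLC.GMod.{u} 𝒜 := GrLC.GMod.of 𝒜 R 𝒜
  have hfX : Module.Finite R X.carrier := (inferInstance : Module.Finite R R)
  -- the Hilbert function
  have hneg : ∀ n : ℤ, n < 0 → hilb 𝒜 X n = 0 := fun n hn =>
    hilb_eq_zero_of_eq_bot 𝒜 X n (hpos n hn)
  have hH : ∀ n, hilb 𝒜 X n = hilb 𝒜 X 0 * hs d n :=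
    eq_hs d P (hilb 𝒜 X) hdeg hall hneg
  -- the degree-zero ring
  haveI hloc : IsLocalRing (GrLC.deg0 𝒜) := (isLocalRing_deg0 𝒜 hpos m hm).1
  have hinf' : Infinite (Kq (GrLC.deg0 𝒜)) := infinite_Kq 𝒜 hpos m hm hinf
  -- the depth
  have hdepth : ∀ i, i < d → Subsingleton (I.H a i) := by
    intro i hi
    have h1 := Groth.Agent.Helper7.GrHt.subsingleton_H_of_lt 𝒜 hpos m hm d hd I i hi
    exact subsingleton_H_congr I m a
      (fun j => Groth.Agent.Helper7.GrHt.gam_eq_irr 𝒜 hpos m hm _) i h1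
  -- the linear forms
  obtain ⟨f, hf, hgen⟩ := exists_gens_of_hilb 𝒜 hpos a ha hstd' hinf' d X I (hilb 𝒜 X 0) hdepth hH
  -- they span the piece of degree one over `R_0`
  have hspan : ∀ z ∈ 𝒜 1, z ∈ Submodule.span (GrLC.deg0 𝒜) (Set.range f) := by
    intro z hz
    have h1 : z ∈ Ideal.ofList (List.ofFn f) • (⊤ : Submodule R R) := hgen 1 one_pos z hz
    have h2 : Ideal.ofList (List.ofFn f) • (⊤ : Submodule R R) = Ideal.span (Set.range f) := by
      rw [smul_eq_mul, Ideal.mul_top]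
      show Ideal.span {r | r ∈ List.ofFn f} = Ideal.span (Set.range f)
      congr 1
      ext w
      exact List.mem_ofFn' f w
    rw [h2] at h1
    obtain ⟨c, hc⟩ := (Ideal.mem_span_range_iff_exists_fun).mp h1
    have hz' : z = ∑ i, (decompose 𝒜 (c i) 0 : R) * f i := by
      have h3 : (decompose 𝒜 z 1 : R) = z := decompose_of_mem_same 𝒜 hz
      rw [← h3, ← hc, decompose_sum, DFinsupp.finsetSum_apply, AddSubmonoidClass.coe_finsetSum]
      refine Finset.sum_congr rfl fun i _ => ?_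
      have h4 := DirectSum.coe_decompose_mul_add_of_right_mem 𝒜 (a := c i) (i := (0 : ℤ)) (hf i)
      rw [zero_add] at h4
      exact h4
    rw [hz']
    refine Submodule.sum_mem _ fun i _ => ?_
    have h5 : (decompose 𝒜 (c i) 0 : R) * f i =
        (⟨(decompose 𝒜 (c i) 0 : R), SetLike.coe_mem _⟩ : GrLC.deg0 𝒜) • f i := rfl
    rw [h5]
    exact Submodule.smul_mem _ _ (Submodule.subset_span ⟨i, rfl⟩)
  -- the lengths
  have hfin : ∀ n : ℕ, Module.length (GrLC.deg0 𝒜) (GrLC.comp 𝒜 𝒜 (n : ℤ)) ≠ ⊤ := fun n =>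
    length_comp_ne_top 𝒜 hpos 𝒜 (n : ℤ)
  have hlen : ∀ n : ℕ, Module.length (GrLC.deg0 𝒜) (GrLC.comp 𝒜 𝒜 (n : ℤ)) =
      Module.length (GrLC.deg0 𝒜) ↥(homogeneousSubmodule (Fin d) (GrLC.deg0 𝒜) n) := by
    intro n
    rw [length_homog, (deg0Equiv 𝒜).length_eq]
    have h1 := hH (n : ℤ)
    rw [hs_nat] at h1
    unfold hilb at h1
    have h2 : (Module.length (GrLC.deg0 𝒜) (GrLC.comp 𝒜 𝒜 (n : ℤ))).toNat =
        (Module.length (GrLC.deg0 𝒜) (GrLC.comp 𝒜 𝒜 0)).toNat * (n + d - 1).choose n := by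
      exact_mod_cast h1
    have h3 := hfin n
    have h4 : Module.length (GrLC.deg0 𝒜) (GrLC.comp 𝒜 𝒜 0) ≠ ⊤ :=
      length_comp_ne_top 𝒜 hpos 𝒜 0
    rw [← ENat.natCast_toNat h3, ← ENat.natCast_toNat h4, h2, Nat.add_comm d n]
    push_cast
    rw [mul_comm]
  have hbij := aeval_bijective_of_length 𝒜 f hf hstd hspan hpos hlen hfin
  refine ⟨AlgEquiv.ofBijective (aeval f) hbij, fun t => ?_⟩
  rw [AlgEquiv.ofBijective_apply, aeval_X]
  exact hf t

end Groth.Agent.Helper7.GrPA
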