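import Mathlib

/-!
# Graded sections of the conormal module of the irrelevant ideal
-/

set_option linter.style.haveILetI false
set_option linter.unusedSectionVars false
set_option autoImplicit false

universe u

namespace Groth.Agent.Helper7.GrPoly

open DirectSum

section graded

variable {A B : Type u} [CommRing A] [CommRing B] [Algebra A B] (𝒜 : ℕ → Submodule A B)
  [GradedAlgebra 𝒜]

/-- the irrelevant ideal -/
abbrev Bp : Ideal B := (HomogeneousIdeal.irrelevant 𝒜).toIdeal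

theorem exists_bound (x : B) : ∃ D : ℕ, ∀ d, D ≤ d → (decompose 𝒜 x d : B) = 0 := by
  classical
  refine ⟨(decompose 𝒜 x).support.sup id + 1, fun d hd => ?_⟩
  have : d ∉ (decompose 𝒜 x).support := by
    intro hmem
    have := Finset.le_sup (f := id) hmem
    simp only [id] at this
    omega
  rw [DFinsupp.notMem_support_iff] at this
  rw [this, ZeroMemClass.coe_zero]

theorem sum_proj (x : B) (D : ℕ) (hD : ∀ d, D ≤ d → (decompose 𝒜 x d : B) = 0) :
    ∑ d ∈ Finset.range D, (decompose 𝒜 x d : B) = x := by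
  classical
  conv_rhs => rw [← DirectSum.sum_support_decompose 𝒜 x]
  symm
  apply Finset.sum_subset
  · intro d hd
    rw [Finset.mem_range]
    by_contra hlt
    rw [DFinsupp.mem_support_iff] at hd
    apply hd
    apply Subtype.ext
    rw [hD d (by omega), ZeroMemClass.coe_zero]
  · intro d _ hd
    rw [DFinsupp.notMem_support_iff] at hd
    rw [hd, ZeroMemClass.coe_zero]

/-- the projection `p_d` restricted to the irrelevant ideal -/
noncomputable def P (d : ℕ) : Bp 𝒜 →ₗ[A] Bp 𝒜 :=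
  (GradedAlgebra.proj 𝒜 d).restrict (p := (Bp 𝒜).restrictScalars A)
    (q := (Bp 𝒜).restrictScalars A)
    (fun _ hx => (HomogeneousIdeal.irrelevant 𝒜).isHomogeneous d hx)

theorem coe_P (d : ℕ) (x : Bp 𝒜) : (P 𝒜 d x : B) = (decompose 𝒜 (x : B) d : B) := rfl

theorem isHomogeneous_sq : ((Bp 𝒜) ^ 2).IsHomogeneous 𝒜 := by
  rw [pow_two]
  exact (HomogeneousIdeal.irrelevant 𝒜).isHomogeneous.mul
    (HomogeneousIdeal.irrelevant 𝒜).isHomogeneous

/-- `q_d` on the conormal module -/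
noncomputable def q (d : ℕ) : (Bp 𝒜).Cotangent →ₗ[A] (Bp 𝒜).Cotangent :=
  Ideal.Cotangent.lift (((Bp 𝒜).toCotangent.restrictScalars A) ∘ₗ P 𝒜 d) (by
    intro x y
    change (Bp 𝒜).toCotangent (P 𝒜 d (x * y)) = 0
    rw [Ideal.toCotangent_eq_zero]
    have hxy : ((x * y : Bp 𝒜) : B) ∈ (Bp 𝒜) ^ 2 := by
      rw [pow_two]; exact Ideal.mul_mem_mul x.2 y.2
    exact isHomogeneous_sq 𝒜 d hxy)

theorem q_toCotangent (d : ℕ) (x : Bp 𝒜) :
    q 𝒜 d ((Bp 𝒜).toCotangent x) = (Bp 𝒜).toCotangent (P 𝒜 d x) := rfl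

theorem P_P (d e : ℕ) (x : Bp 𝒜) : P 𝒜 d (P 𝒜 e x) = if d = e then P 𝒜 d x else 0 := by
  apply Subtype.ext
  rw [coe_P, coe_P]
  split_ifs with h
  · subst h
    rw [coe_P, DirectSum.decompose_of_mem_same 𝒜 (SetLike.coe_mem _)]
  · rw [DirectSum.decompose_of_mem_ne 𝒜 (SetLike.coe_mem _) (Ne.symm h)]
    rfl

theorem q_q (d e : ℕ) (n : (Bp 𝒜).Cotangent) :
    q 𝒜 d (q 𝒜 e n) = if d = e then q 𝒜 d n else 0 := by
  obtain ⟨x, rfl⟩ := Ideal.toCotangent_surjective _ n
  rw [q_toCotangent, q_toCotangent, P_P]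
  split_ifs with h
  · rw [q_toCotangent]
  · rw [map_zero]

theorem sum_P (x : Bp 𝒜) (D : ℕ) (hD : ∀ d, D ≤ d → (decompose 𝒜 (x : B) d : B) = 0) :
    ∑ d ∈ Finset.range D, P 𝒜 d x = x := by
  apply Subtype.ext
  rw [AddSubmonoidClass.coe_finsetSum]
  simp_rw [coe_P]
  exact sum_proj 𝒜 x D hD

theorem P_eq_zero (x : Bp 𝒜) (d : ℕ) (hd : (decompose 𝒜 (x : B) d : B) = 0) : P 𝒜 d x = 0 := by
  apply Subtype.ext
  rw [coe_P, hd]
  rfl

/-- a uniform bound for the conormal module -/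
theorem exists_bound_cotangent [Module.Finite A (Bp 𝒜).Cotangent] :
    ∃ D : ℕ, (∀ d, D ≤ d → q 𝒜 d = 0) ∧
      ∀ n : (Bp 𝒜).Cotangent, ∑ d ∈ Finset.range D, q 𝒜 d n = n := by
  classical
  obtain ⟨S, hS⟩ := (Module.Finite.fg_top : (⊤ : Submodule A (Bp 𝒜).Cotangent).FG)
  choose lift hlift using fun n : (Bp 𝒜).Cotangent => Ideal.toCotangent_surjective _ n
  choose bd hbd using fun x : B => exists_bound 𝒜 x
  refine ⟨S.sup (fun n => bd (lift n : B)), ?_, ?_⟩
  · intro d hd
    apply LinearMap.ext_on hS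
    intro n hn
    rw [← hlift n, q_toCotangent, LinearMap.zero_apply, P_eq_zero, map_zero]
    apply hbd
    exact le_trans (Finset.le_sup (f := fun n => bd (lift n : B)) hn) hd
  · intro n
    have : (∑ d ∈ Finset.range (S.sup (fun n => bd (lift n : B))), q 𝒜 d) = LinearMap.id := by
      apply LinearMap.ext_on hS
      intro n hn
      rw [LinearMap.sum_apply, LinearMap.id_apply]
      have key : ∀ x : Bp 𝒜, (∀ d, S.sup (fun n => bd (lift n : B)) ≤ d →
          (decompose 𝒜 (x : B) d : B) = 0) →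
          ∑ d ∈ Finset.range (S.sup (fun n => bd (lift n : B))), q 𝒜 d ((Bp 𝒜).toCotangent x) =
            (Bp 𝒜).toCotangent x := by
        intro x hx
        simp_rw [q_toCotangent]
        rw [← map_sum, sum_P 𝒜 _ _ hx]
      have := key (lift n) (fun d hd => hbd _ d
        (le_trans (Finset.le_sup (f := fun n => bd (lift n : B)) hn) hd))
      rwa [hlift n] at this
    have h2 := LinearMap.congr_fun this n
    rwa [LinearMap.sum_apply, LinearMap.id_apply] at h2

/-- existence of a graded section of `B₊ → B₊/B₊²` -/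
theorem exists_graded_section [Module.Finite A (Bp 𝒜).Cotangent]
    [Module.Projective A (Bp 𝒜).Cotangent] :
    ∃ s : (Bp 𝒜).Cotangent →ₗ[A] Bp 𝒜, (∀ n, (Bp 𝒜).toCotangent (s n) = n) ∧
      ∀ e n, P 𝒜 e (s n) = s (q 𝒜 e n) := by
  classical
  obtain ⟨D, hD0, hDsum⟩ := exists_bound_cotangent 𝒜
  obtain ⟨s₀, hs₀⟩ := Module.projective_lifting_property
    ((Bp 𝒜).toCotangent.restrictScalars A) LinearMap.id (Ideal.toCotangent_surjective _)
  have hs₀' : ∀ y, (Bp 𝒜).toCotangent (s₀ y) = y := fun y => LinearMap.congr_fun hs₀ y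
  let s : (Bp 𝒜).Cotangent →ₗ[A] Bp 𝒜 := ∑ d ∈ Finset.range D, P 𝒜 d ∘ₗ s₀ ∘ₗ q 𝒜 d
  have hs : ∀ n, s n = ∑ d ∈ Finset.range D, P 𝒜 d (s₀ (q 𝒜 d n)) := by
    intro n
    simp only [s, LinearMap.sum_apply, LinearMap.comp_apply]
  refine ⟨s, ?_, ?_⟩
  · intro n
    rw [hs, map_sum]
    simp_rw [← q_toCotangent, hs₀', q_q]
    simpa using hDsum n
  · intro e n
    rw [hs, hs, map_sum]
    simp_rw [P_P, q_q]
    have h1 : ∀ d, P 𝒜 d (s₀ (if d = e then q 𝒜 d n else 0)) =
        if e = d then P 𝒜 e (s₀ (q 𝒜 e n)) else 0 := by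
      intro d
      by_cases h : d = e
      · subst h
        rw [if_pos rfl, if_pos rfl]
      · rw [if_neg h, if_neg (Ne.symm h), map_zero, map_zero]
    have h2 : ∀ d, (if e = d then P 𝒜 e (s₀ (q 𝒜 d n)) else 0) =
        if e = d then P 𝒜 e (s₀ (q 𝒜 e n)) else 0 := by
      intro d
      by_cases h : e = d
      · subst h
        rfl
      · rw [if_neg h, if_neg h]
    simp_rw [h1, h2]

theorem decompose_zero_of_mem_Bp (x : B) (hx : x ∈ Bp 𝒜) : (decompose 𝒜 x 0 : B) = 0 := hx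

/-- the degree `d` part of an element of `B₊²` is a sum of products of elements of lower degree -/
theorem decompose_sq_mem (C : Subalgebra A B) (d : ℕ)
    (ih : ∀ e, e < d → ∀ b ∈ 𝒜 e, b ∈ C) (w : B) (hw : w ∈ (Bp 𝒜) ^ 2) :
    (decompose 𝒜 w d : B) ∈ C := by
  classical
  rw [pow_two] at hw
  refine Submodule.mul_induction_on hw ?_ ?_
  · intro x hx y hy
    obtain ⟨Dx, hDx⟩ := exists_bound 𝒜 x
    have hxsum := sum_proj 𝒜 x Dx hDx
    rw [← hxsum, Finset.sum_mul, decompose_sum, DFinsupp.finsetSum_apply,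
      AddSubmonoidClass.coe_finsetSum]
    refine Subalgebra.sum_mem _ fun i _ => ?_
    rw [DirectSum.coe_decompose_mul_of_left_mem 𝒜 d (SetLike.coe_mem _)]
    split_ifs with hid
    · rcases Nat.eq_zero_or_pos i with rfl | hi
      · rw [decompose_zero_of_mem_Bp 𝒜 x hx, zero_mul]
        exact Subalgebra.zero_mem _
      · rcases Nat.lt_or_ge i d with hlt | hge
        · exact Subalgebra.mul_mem _ (ih i hlt _ (SetLike.coe_mem _))
            (ih (d - i) (by omega) _ (SetLike.coe_mem _))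
        · have : d - i = 0 := by omega
          rw [this, decompose_zero_of_mem_Bp 𝒜 y hy, mul_zero]
          exact Subalgebra.zero_mem _
    · exact Subalgebra.zero_mem _
  · intro x y hx hy
    rw [decompose_add, DirectSum.add_apply, Submodule.coe_add]
    exact Subalgebra.add_mem _ hx hy

/-- graded Nakayama: a subalgebra containing the image of a graded section is everything, when
`𝒜 0` is the image of `A` -/
theorem eq_top_of_graded_section (h0 : ∀ b : B, b ∈ 𝒜 0 → b ∈ Set.range (algebraMap A B))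
    (s : (Bp 𝒜).Cotangent →ₗ[A] Bp 𝒜) (hs1 : ∀ n, (Bp 𝒜).toCotangent (s n) = n)
    (hs2 : ∀ e n, P 𝒜 e (s n) = s (q 𝒜 e n))
    (C : Subalgebra A B) (hC : ∀ n, (s n : B) ∈ C) : C = ⊤ := by
  classical
  have claim : ∀ d, ∀ b ∈ 𝒜 d, b ∈ C := by
    intro d
    induction d using Nat.strong_induction_on with
    | _ d ih =>
      intro b hb
      rcases Nat.eq_zero_or_pos d with rfl | hd
      · obtain ⟨a, rfl⟩ := h0 b hb
        exact Subalgebra.algebraMap_mem _ _
      · have hbp : b ∈ Bp 𝒜 := HomogeneousIdeal.mem_irrelevant_of_mem 𝒜 hd hb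
        set x : Bp 𝒜 := ⟨b, hbp⟩ with hx
        set n := (Bp 𝒜).toCotangent x with hn
        have hw : ((x - s n : Bp 𝒜) : B) ∈ (Bp 𝒜) ^ 2 := by
          rw [← Ideal.toCotangent_eq_zero, map_sub, hs1, hn, sub_self]
        have hb2 : b = (s (q 𝒜 d n) : B) + (decompose 𝒜 ((x - s n : Bp 𝒜) : B) d : B) := by
          rw [← hs2, coe_P, ← Submodule.coe_add, ← DirectSum.add_apply, ← decompose_add]
          have : ((s n : Bp 𝒜) : B) + ((x - s n : Bp 𝒜) : B) = b := by
            rw [Submodule.coe_sub]; simp [hx]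
          rw [this, DirectSum.decompose_of_mem_same 𝒜 hb]
        rw [hb2]
        exact Subalgebra.add_mem _ (hC _) (decompose_sq_mem 𝒜 C d ih _ hw)
  rw [eq_top_iff]
  intro b _
  rw [← DirectSum.sum_support_decompose 𝒜 b]
  exact Subalgebra.sum_mem _ fun i _ => claim i _ (SetLike.coe_mem _)

end graded

end Groth.Agent.Helper7.GrPoly
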