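import Mathlib
import Groth.Agent.Helper7.AugDer

set_option linter.style.haveILetI false
set_option linter.unusedSectionVars false
set_option autoImplicit false

universe u

namespace Groth.Agent.Helper7.GrPoly

open Groth.Agent.Helper7.UnitSm

section poly

variable {A : Type u} [CommRing A] {ι : Type*} (ε : MvPolynomial ι A →ₐ[A] A)

theorem eps_apply (hε : ∀ i, ε (MvPolynomial.X i) = 0) (f : MvPolynomial ι A) :
    ε f = MvPolynomial.constantCoeff f := by
  have h : ε = MvPolynomial.aeval (0 : ι → A) := by
    apply MvPolynomial.algHom_ext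
    intro i
    rw [hε, MvPolynomial.aeval_X]
    rfl
  rw [h, MvPolynomial.aeval_zero]
  rfl

theorem ker_eps (hε : ∀ i, ε (MvPolynomial.X i) = 0) :
    RingHom.ker ε = MvPolynomial.idealOfVars ι A := by
  ext f
  rw [RingHom.mem_ker, eps_apply ε hε, ← pow_one (MvPolynomial.idealOfVars ι A),
    MvPolynomial.mem_pow_idealOfVars_iff']
  constructor
  · intro h x hx
    have : x = 0 := by
      rw [Nat.lt_one_iff] at hx
      exact (Finsupp.degree_eq_zero_iff x).mp hx
    rw [this]
    exact h
  · intro h
    exact h 0 (by simp)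

/-- `f = m f` with `m` in the augmentation ideal forces `f = 0` -/
theorem eq_zero_of_mul_eq (hε : ∀ i, ε (MvPolynomial.X i) = 0) (f m : MvPolynomial ι A)
    (hm : m ∈ RingHom.ker ε) (h : m * f = f) : f = 0 := by
  rw [ker_eps ε hε] at hm
  have hpow : ∀ n : ℕ, f ∈ MvPolynomial.idealOfVars ι A ^ n := by
    intro n
    induction n with
    | zero => simp
    | succ n ih =>
      rw [← h, pow_succ']
      exact Ideal.mul_mem_mul hm ih
  ext x
  rw [MvPolynomial.coeff_zero]
  exact (MvPolynomial.mem_pow_idealOfVars_iff' _ f).mp (hpow (Finsupp.degree x + 1)) x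
    (Nat.lt_succ_self _)

/-- the classes of the variables span the conormal module of the augmentation ideal -/
theorem span_cotangent (hε : ∀ i, ε (MvPolynomial.X i) = 0) :
    Submodule.span A (Set.range fun i => (RingHom.ker ε).toCotangent ⟨MvPolynomial.X i, hε i⟩)
      = ⊤ := by
  set S := Set.range fun i => (RingHom.ker ε).toCotangent ⟨MvPolynomial.X i, hε i⟩ with hS
  -- the `A`-span is stable under the polynomial ring
  let W' : Submodule (MvPolynomial ι A) (RingHom.ker ε).Cotangent :=
    { carrier := Submodule.span A S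
      add_mem' := fun ha hb => Submodule.add_mem _ ha hb
      zero_mem' := Submodule.zero_mem _
      smul_mem' := fun c x hx => by
        change c • x ∈ Submodule.span A S
        rw [smul_eq_eps_smul']
        exact Submodule.smul_mem _ _ hx }
  have h1 : Submodule.span (MvPolynomial ι A) S = ⊤ := by
    have h2 : Submodule.span (MvPolynomial ι A)
        (Set.range fun i => (⟨MvPolynomial.X i, hε i⟩ : RingHom.ker ε)) = ⊤ := by
      rw [eq_top_iff]
      rintro ⟨f, hf⟩ -
      have hf' : f ∈ Ideal.span (Set.range (MvPolynomial.X : ι → MvPolynomial ι A)) := by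
        have hf2 := hf
        rw [ker_eps ε hε] at hf2
        exact hf2
      have key : ∀ g ∈ Ideal.span (Set.range (MvPolynomial.X : ι → MvPolynomial ι A)),
          ∀ hg : g ∈ RingHom.ker ε, (⟨g, hg⟩ : RingHom.ker ε) ∈
            Submodule.span (MvPolynomial ι A)
              (Set.range fun i => (⟨MvPolynomial.X i, hε i⟩ : RingHom.ker ε)) := by
        intro g hg
        induction hg using Submodule.span_induction with
        | mem x hx =>
          obtain ⟨i, rfl⟩ := hx
          intro _
          exact Submodule.subset_span ⟨i, rfl⟩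
        | zero => intro _; exact Submodule.zero_mem _
        | add x y hx hy ihx ihy =>
          intro _
          have hx' : x ∈ RingHom.ker ε := by rw [ker_eps ε hε]; exact hx
          have hy' : y ∈ RingHom.ker ε := by rw [ker_eps ε hε]; exact hy
          exact Submodule.add_mem _ (ihx hx') (ihy hy')
        | smul a x hx ihx =>
          intro _
          have hx' : x ∈ RingHom.ker ε := by rw [ker_eps ε hε]; exact hx
          exact Submodule.smul_mem _ a (ihx hx')
      exact key f hf' hf
    have h3 := congrArg (Submodule.map (RingHom.ker ε).toCotangent) h2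
    rw [Submodule.map_span, Submodule.map_top, LinearMap.range_eq_top.mpr
      (Ideal.toCotangent_surjective _), ← Set.range_comp] at h3
    exact h3
  have h4 : Submodule.span (MvPolynomial ι A) S ≤ W' := Submodule.span_le.mpr
    (fun x hx => Submodule.subset_span hx)
  rw [eq_top_iff]
  intro x _
  have : x ∈ W' := h4 (by rw [h1]; trivial)
  exact this

end poly

section loc

variable {P B : Type u} [CommRing P] [CommRing B] [Algebra P B] [IsNoetherianRing P]

/-- a surjection which is étale at a prime is locally injective there -/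
theorem exists_notMem_mul_eq_zero (hsurj : Function.Surjective (algebraMap P B)) (Q : Ideal B)
    [Q.IsPrime] [hQ : Algebra.IsEtaleAt P Q] (f : P) (hf : algebraMap P B f = 0) :
    ∃ u : P, u ∉ Q.comap (algebraMap P B) ∧ u * f = 0 := by
  haveI : Q.LiesOver (Q.comap (algebraMap P B)) := ⟨rfl⟩
  letI := Localization.AtPrime.algebraOfLiesOver (Q.comap (algebraMap P B)) Q
  haveI : Algebra.FormallyEtale (Localization.AtPrime (Q.comap (algebraMap P B)))
      (Localization.AtPrime Q) := .localization_base (Q.comap (algebraMap P B)).primeCompl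
  have hs : Function.Surjective (algebraMap (Localization.AtPrime (Q.comap (algebraMap P B)))
      (Localization.AtPrime Q)) :=
    RingHom.surjective_localRingHom_of_surjective (algebraMap P B) hsurj Q
  have hid := (Algebra.FormallyEtale.iff_of_surjective hs).mp inferInstance
  have hbot : RingHom.ker (algebraMap (Localization.AtPrime (Q.comap (algebraMap P B)))
      (Localization.AtPrime Q)) = ⊥ := by
    apply Submodule.eq_bot_of_le_smul_of_le_jacobson_bot (RingHom.ker (algebraMap
      (Localization.AtPrime (Q.comap (algebraMap P B))) (Localization.AtPrime Q))) _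
      (IsNoetherian.noetherian _)
    · rw [smul_eq_mul]; exact hid.ge
    · rw [IsLocalRing.jacobson_eq_maximalIdeal ⊥ bot_ne_top]
      exact IsLocalRing.le_maximalIdeal (RingHom.ker_ne_top _)
  have h0 : algebraMap P (Localization.AtPrime (Q.comap (algebraMap P B))) f = 0 := by
    have : algebraMap P (Localization.AtPrime (Q.comap (algebraMap P B))) f ∈
        RingHom.ker (algebraMap (Localization.AtPrime (Q.comap (algebraMap P B)))
          (Localization.AtPrime Q)) := by
      rw [RingHom.mem_ker, ← IsScalarTower.algebraMap_apply,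
        IsScalarTower.algebraMap_apply P B (Localization.AtPrime Q), hf, map_zero]
    rwa [hbot, Ideal.mem_bot] at this
  obtain ⟨u, hu⟩ := (IsLocalization.map_eq_zero_iff (Q.comap (algebraMap P B)).primeCompl _ f).mp h0
  exact ⟨u, u.2, hu⟩

end loc

section inj

variable {A B : Type u} [CommRing A] [CommRing B] [Algebra A B] {ι : Type} [Finite ι]
  [IsNoetherianRing A]
  [Algebra (MvPolynomial ι A) B] [IsScalarTower A (MvPolynomial ι A) B]
  (σ₁ : B →ₐ[A] A)

/-- a surjection from a polynomial ring, compatible with sections and étale along the section,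
is injective -/
theorem injective_of_etale (hsurj : Function.Surjective (algebraMap (MvPolynomial ι A) B))
    (hX : ∀ i, σ₁ (algebraMap (MvPolynomial ι A) B (MvPolynomial.X i)) = 0)
    (hét : ∀ (Q : Ideal B) [Q.IsPrime], RingHom.ker σ₁ ≤ Q →
      Algebra.IsEtaleAt (MvPolynomial ι A) Q) :
    Function.Injective (algebraMap (MvPolynomial ι A) B) := by
  set ε : MvPolynomial ι A →ₐ[A] A :=
    σ₁.comp (IsScalarTower.toAlgHom A (MvPolynomial ι A) B) with hε
  have hεX : ∀ i, ε (MvPolynomial.X i) = 0 := hX
  rw [injective_iff_map_eq_zero]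
  intro f hf
  have hsup : (Submodule.span (MvPolynomial ι A) {f}).annihilator ⊔ RingHom.ker ε = ⊤ := by
    by_contra hne
    obtain ⟨p, hpmax, hle⟩ := Ideal.exists_le_maximal _ hne
    haveI := hpmax.isPrime
    have hker : RingHom.ker (algebraMap (MvPolynomial ι A) B) ≤ p := by
      intro x hx
      apply hle
      apply Ideal.mem_sup_right
      rw [RingHom.mem_ker] at hx ⊢
      change σ₁ (algebraMap _ B x) = 0
      rw [hx, map_zero]
    haveI : (p.map (algebraMap (MvPolynomial ι A) B)).IsPrime :=
      Ideal.map_isPrime_of_surjective hsurj hker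
    have hcomap : (p.map (algebraMap (MvPolynomial ι A) B)).comap
        (algebraMap (MvPolynomial ι A) B) = p := by
      rw [Ideal.comap_map_of_surjective' _ hsurj, sup_eq_left]; exact hker
    have hQ : RingHom.ker σ₁ ≤ p.map (algebraMap (MvPolynomial ι A) B) := by
      intro y hy
      obtain ⟨x, rfl⟩ := hsurj y
      apply Ideal.mem_map_of_mem
      apply hle; apply Ideal.mem_sup_right
      exact hy
    haveI := hét _ hQ
    obtain ⟨u, hu, huf⟩ := exists_notMem_mul_eq_zero hsurj
      (p.map (algebraMap (MvPolynomial ι A) B)) f hf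
    rw [hcomap] at hu
    apply hu; apply hle; apply Ideal.mem_sup_left
    rw [Submodule.mem_annihilator_span_singleton]; exact huf
  have h1 : (1 : MvPolynomial ι A) ∈
      (Submodule.span (MvPolynomial ι A) {f}).annihilator ⊔ RingHom.ker ε := by
    rw [hsup]; trivial
  obtain ⟨j, hj, m, hm, hjm⟩ := Submodule.mem_sup.mp h1
  rw [Submodule.mem_annihilator_span_singleton, smul_eq_mul] at hj
  apply eq_zero_of_mul_eq ε hεX f m hm
  calc m * f = (j + m) * f - j * f := by ring
    _ = f := by rw [hjm, hj, one_mul, sub_zero]

end inj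

section cot

variable {A B : Type u} [CommRing A] [CommRing B] [Algebra A B] {ι : Type}
  [Algebra (MvPolynomial ι A) B] [IsScalarTower A (MvPolynomial ι A) B]
  (σ₁ : B →ₐ[A] A) (σ₂ : MvPolynomial ι A →ₐ[A] A)

/-- the conormal map is bijective when the variables go to a basis -/
theorem cot_bijective
    (hle : RingHom.ker σ₂ ≤
      (RingHom.ker σ₁).comap (IsScalarTower.toAlgHom A (MvPolynomial ι A) B))
    (hX : ∀ i, σ₂ (MvPolynomial.X i) = 0)
    (e : Module.Basis ι A (RingHom.ker σ₁).Cotangent)
    (he : ∀ i, e i = (RingHom.ker σ₁).toCotangent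
      ⟨algebraMap (MvPolynomial ι A) B (MvPolynomial.X i), hle (hX i)⟩) :
    Function.Bijective (Ideal.mapCotangent (RingHom.ker σ₂) (RingHom.ker σ₁)
      (IsScalarTower.toAlgHom A (MvPolynomial ι A) B) hle) := by
  set c := Ideal.mapCotangent (RingHom.ker σ₂) (RingHom.ker σ₁)
      (IsScalarTower.toAlgHom A (MvPolynomial ι A) B) hle with hc
  have hcX : ∀ i, c ((RingHom.ker σ₂).toCotangent ⟨MvPolynomial.X i, hX i⟩) = e i := by
    intro i
    rw [he, hc, Ideal.mapCotangent_toCotangent]
    rfl
  let t : (RingHom.ker σ₁).Cotangent →ₗ[A] (RingHom.ker σ₂).Cotangent :=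
    e.constr A (fun i => (RingHom.ker σ₂).toCotangent ⟨MvPolynomial.X i, hX i⟩)
  have h1 : c ∘ₗ t = LinearMap.id := by
    apply e.ext
    intro i
    rw [LinearMap.comp_apply, Module.Basis.constr_basis, hcX, LinearMap.id_apply]
  have h2 : t ∘ₗ c = LinearMap.id := by
    apply LinearMap.ext_on (span_cotangent σ₂ hX)
    rintro _ ⟨i, rfl⟩
    rw [LinearMap.comp_apply, hcX, Module.Basis.constr_basis, LinearMap.id_apply]
  refine ⟨fun x y hxy => ?_, fun y => ⟨t y, LinearMap.congr_fun h1 y⟩⟩
  have := congrArg t hxy
  rw [← LinearMap.comp_apply, ← LinearMap.comp_apply, h2] at this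
  exact this

end cot

end Groth.Agent.Helper7.GrPoly
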