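import Mathlib
import Groth.Agent.Helper7.AugDer

/-!
# A morphism compatible with sections which is bijective on conormal modules is étale along the
section (the source being smooth along its section)
-/

set_option linter.style.haveILetI false
set_option linter.unusedSectionVars false
set_option autoImplicit false

universe u

namespace Groth.Agent.Helper7.SecEtale

open TensorProduct IsLocalRing KaehlerDifferential Groth.Agent.Helper7.UnitSm

section local_lemma

variable {T : Type*} [CommRing T] [IsLocalRing T]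

/-- a nontrivial finite module over a local ring has a nonzero functional to the residue field -/
theorem exists_functional_ne_zero {C : Type*} [AddCommGroup C] [Module T C] [Module.Finite T C]
    [Nontrivial C] : ∃ f : C →ₗ[T] ResidueField T, f ≠ 0 := by
  haveI : Nontrivial (ResidueField T ⊗[T] C) := by
    rw [← not_subsingleton_iff_nontrivial, IsLocalRing.subsingleton_tensorProduct]
    exact not_subsingleton_iff_nontrivial.mpr inferInstance
  obtain ⟨v, hv⟩ := exists_ne (0 : ResidueField T ⊗[T] C)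
  obtain ⟨ℓ, hℓ⟩ : ∃ ℓ : Module.Dual (ResidueField T) (ResidueField T ⊗[T] C), ℓ v ≠ 0 := by
    by_contra hcon
    push Not at hcon
    exact hv ((Module.forall_dual_apply_eq_zero_iff (ResidueField T) v).mp hcon)
  refine ⟨(ℓ.restrictScalars T) ∘ₗ (TensorProduct.mk T (ResidueField T) C 1), fun h0 => hℓ ?_⟩
  -- `ℓ` vanishes on pure tensors, hence everywhere
  have hpure : ∀ (c : ResidueField T) (x : C), ℓ (c ⊗ₜ[T] x) = 0 := by
    intro c x
    have h1 : c ⊗ₜ[T] x = c • ((1 : ResidueField T) ⊗ₜ[T] x) := by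
      rw [TensorProduct.smul_tmul', smul_eq_mul, mul_one]
    rw [h1, map_smul]
    have := LinearMap.congr_fun h0 x
    change ℓ ((1 : ResidueField T) ⊗ₜ[T] x) = 0 at this
    rw [this, smul_zero]
  have hall : ∀ w : ResidueField T ⊗[T] C, ℓ w = 0 := by
    intro w
    induction w using TensorProduct.induction_on with
    | zero => exact map_zero ℓ
    | tmul c x => exact hpure c x
    | add a b ha hb => rw [map_add, ha, hb, add_zero]
  exact hall v

/-- a linear map from a finite module to a finite free module over a local ring is bijective as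
soon as it induces a bijection on functionals to the residue field -/
theorem bijective_of_dual_bijective {M F : Type*} [AddCommGroup M] [Module T M] [Module.Finite T M]
    [AddCommGroup F] [Module T F] [Module.Finite T F] [Module.Free T F] (φ : M →ₗ[T] F)
    (hinj : ∀ ψ : F →ₗ[T] ResidueField T, ψ ∘ₗ φ = 0 → ψ = 0)
    (hsurj : ∀ χ : M →ₗ[T] ResidueField T, ∃ ψ : F →ₗ[T] ResidueField T, ψ ∘ₗ φ = χ) :
    Function.Bijective φ := by
  -- surjectivity
  have hs : Function.Surjective φ := by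
    rw [← LinearMap.range_eq_top]
    by_contra hne
    haveI : Nontrivial (F ⧸ LinearMap.range φ) := Submodule.Quotient.nontrivial_iff.mpr hne
    obtain ⟨f, hf⟩ := exists_functional_ne_zero (T := T) (C := F ⧸ LinearMap.range φ)
    have h0 : (f ∘ₗ (LinearMap.range φ).mkQ) ∘ₗ φ = 0 := by
      ext m
      change f (Submodule.Quotient.mk (φ m)) = 0
      rw [(Submodule.Quotient.mk_eq_zero _).mpr (LinearMap.mem_range_self φ m), map_zero]
    have h1 := hinj _ h0
    apply hf
    ext c
    exact LinearMap.congr_fun h1 c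
  refine ⟨?_, hs⟩
  -- injectivity
  obtain ⟨s, hsφ⟩ := Module.projective_lifting_property φ LinearMap.id hs
  rw [← LinearMap.ker_eq_bot]
  by_contra hne
  haveI : Nontrivial (LinearMap.ker φ) := Submodule.nontrivial_iff_ne_bot.mpr hne
  -- the projection onto the kernel
  let π : M →ₗ[T] LinearMap.ker φ :=
    (LinearMap.id - s ∘ₗ φ).codRestrict (LinearMap.ker φ) (fun m => by
      rw [LinearMap.mem_ker, LinearMap.sub_apply, map_sub, LinearMap.id_apply,
        LinearMap.comp_apply]
      have := LinearMap.congr_fun hsφ (φ m)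
      rw [LinearMap.comp_apply, LinearMap.id_apply] at this
      rw [this, sub_self])
  have hπ : ∀ k : LinearMap.ker φ, π k = k := by
    intro k
    apply Subtype.ext
    change (k : M) - s (φ k) = k
    rw [LinearMap.mem_ker.mp k.2, map_zero, sub_zero]
  haveI : Module.Finite T (LinearMap.ker φ) :=
    Module.Finite.of_surjective π (fun k => ⟨k, hπ k⟩)
  obtain ⟨f, hf⟩ := exists_functional_ne_zero (T := T) (C := LinearMap.ker φ)
  obtain ⟨ψ, hψ⟩ := hsurj (f ∘ₗ π)
  apply hf
  ext k
  have h1 := LinearMap.congr_fun hψ (k : M)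
  rw [LinearMap.comp_apply, LinearMap.comp_apply, hπ, LinearMap.mem_ker.mp k.2, map_zero] at h1
  rw [← h1]
  rfl

end local_lemma

section etale_crit

variable (R S T : Type u) [CommRing R] [CommRing S] [CommRing T] [Algebra R S] [Algebra R T]
  [Algebra S T] [IsScalarTower R S T]

/-- if `T` is formally smooth over `R` and `T ⊗[S] Ω[S⁄R] → Ω[T⁄R]` is bijective then `T` is
formally étale over `S` -/
theorem formallyEtale_of_bijective_mapBaseChange [Algebra.FormallySmooth R T]
    (h : Function.Bijective (KaehlerDifferential.mapBaseChange R S T)) :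
    Algebra.FormallyEtale S T := by
  refine ⟨⟨fun x y => ?_⟩, ⟨fun x y => ?_⟩⟩
  · have key : ∀ w : Ω[T⁄S], w = 0 := by
      intro w
      obtain ⟨v, rfl⟩ := KaehlerDifferential.map_surjective R S T w
      obtain ⟨u, rfl⟩ := h.2 v
      exact (KaehlerDifferential.exact_mapBaseChange_map R S T _).mpr ⟨u, rfl⟩
    rw [key x, key y]
  · have key : ∀ w : Algebra.H1Cotangent S T, w = 0 := by
      intro w
      have h1 : Algebra.H1Cotangent.δ R S T w = 0 := by
        apply h.1
        rw [map_zero]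
        exact (Algebra.H1Cotangent.exact_δ_mapBaseChange R S T _).mpr ⟨w, rfl⟩
      obtain ⟨v, rfl⟩ := (Algebra.H1Cotangent.exact_map_δ R S T w).mp h1
      rw [Subsingleton.elim v 0, map_zero]
    rw [key x, key y]

end etale_crit

section main

variable {A B₁ B₂ T : Type u} [CommRing A] [CommRing B₁] [CommRing B₂] [CommRing T]
  [Algebra A B₁] [Algebra A B₂] [Algebra B₂ B₁] [IsScalarTower A B₂ B₁]
  [Algebra A T] [Algebra B₁ T] [Algebra B₂ T] [IsScalarTower A B₁ T] [IsScalarTower A B₂ T]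
  [IsScalarTower B₂ B₁ T] [IsLocalRing T]
  (σ₁ : B₁ →ₐ[A] A) (σ₂ : B₂ →ₐ[A] A)

/-- elements of `b₁` act as zero on the residue field -/
theorem smul_residue_eq_zero
    (hP : ∀ x ∈ RingHom.ker σ₁, algebraMap B₁ T x ∈ maximalIdeal T)
    (x : B₁) (hx : x ∈ RingHom.ker σ₁) (z : ResidueField T) : x • z = 0 := by
  rw [← algebraMap_smul T x z, Algebra.smul_def, ResidueField.algebraMap_eq,
    (residue_eq_zero_iff _).mpr (hP x hx), zero_mul]

theorem smul_residue_eq
    (hP : ∀ x ∈ RingHom.ker σ₁, algebraMap B₁ T x ∈ maximalIdeal T)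
    (b : B₁) (z : ResidueField T) : b • z = σ₁ b • z := by
  have h := smul_residue_eq_zero σ₁ hP _ (sub_mem_I σ₁ b) z
  rw [sub_smul, sub_eq_zero, algebraMap_smul] at h
  exact h

theorem hinj_aux (M : Submonoid B₁) [IsLocalization M T]
    (hle : RingHom.ker σ₂ ≤ (RingHom.ker σ₁).comap (IsScalarTower.toAlgHom A B₂ B₁))
    (hcot : Function.Surjective
      (Ideal.mapCotangent (RingHom.ker σ₂) (RingHom.ker σ₁) (IsScalarTower.toAlgHom A B₂ B₁) hle))
    (hP : ∀ x ∈ RingHom.ker σ₁, algebraMap B₁ T x ∈ maximalIdeal T)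
    (ψ : Ω[T⁄A] →ₗ[T] ResidueField T)
    (h0 : ψ ∘ₗ KaehlerDifferential.mapBaseChange A B₂ T = 0) : ψ = 0 := by
  let D₁ : Derivation A B₁ (ResidueField T) :=
    (ψ.restrictScalars B₁).compDer ((D A T).compAlgebraMap B₁)
  have hD₁ : ∀ b, D₁ b = ψ (D A T (algebraMap B₁ T b)) := fun b => rfl
  have h1 : ∀ y : B₂, D₁ (algebraMap B₂ B₁ y) = 0 := by
    intro y
    rw [hD₁, ← IsScalarTower.algebraMap_apply]
    have := LinearMap.congr_fun h0 (1 ⊗ₜ D A B₂ y)
    simpa [mapBaseChange_tmul] using this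
  let f₁ : RingHom.ker σ₁ →ₗ[A] ResidueField T :=
    D₁.toLinearMap ∘ₗ ((RingHom.ker σ₁).subtype.restrictScalars A)
  have hf₁ : ∀ x y : RingHom.ker σ₁, f₁ (x * y) = 0 := by
    intro x y
    change D₁ ((x : B₁) * (y : B₁)) = 0
    rw [D₁.leibniz, smul_residue_eq_zero σ₁ hP x x.2, smul_residue_eq_zero σ₁ hP y y.2, add_zero]
  have h2 : ∀ c, Ideal.Cotangent.lift f₁ hf₁ c = 0 := by
    intro c
    obtain ⟨c', rfl⟩ := hcot c
    obtain ⟨y, rfl⟩ := Ideal.toCotangent_surjective _ c'
    rw [Ideal.mapCotangent_toCotangent, Ideal.Cotangent.lift_toCotangent]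
    exact h1 y
  have h3 : ∀ x ∈ RingHom.ker σ₁, D₁ x = 0 := fun x hx => by
    have := h2 ((RingHom.ker σ₁).toCotangent ⟨x, hx⟩)
    rwa [Ideal.Cotangent.lift_toCotangent] at this
  have h4 : ∀ b, D₁ b = 0 := by
    intro b
    have := h3 _ (sub_mem_I σ₁ b)
    rw [map_sub, D₁.map_algebraMap, sub_zero] at this
    exact this
  have hspan := span_range_map_derivation_of_isLocalization A B₁ T M
  apply LinearMap.ext_on hspan
  rintro _ ⟨b, rfl⟩
  rw [Function.comp_apply, map_D, LinearMap.zero_apply]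
  exact h4 b

theorem hsurj_aux [Algebra.FormallyEtale B₁ T]
    (hσ : σ₁.comp (IsScalarTower.toAlgHom A B₂ B₁) = σ₂)
    (hle : RingHom.ker σ₂ ≤ (RingHom.ker σ₁).comap (IsScalarTower.toAlgHom A B₂ B₁))
    (hcot : Function.Bijective
      (Ideal.mapCotangent (RingHom.ker σ₂) (RingHom.ker σ₁) (IsScalarTower.toAlgHom A B₂ B₁) hle))
    (hP : ∀ x ∈ RingHom.ker σ₁, algebraMap B₁ T x ∈ maximalIdeal T)
    (χ : T ⊗[B₂] Ω[B₂⁄A] →ₗ[T] ResidueField T) :
    ∃ ψ : Ω[T⁄A] →ₗ[T] ResidueField T, ψ ∘ₗ KaehlerDifferential.mapBaseChange A B₂ T = χ := by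
  have hσ' : ∀ y : B₂, σ₁ (algebraMap B₂ B₁ y) = σ₂ y := fun y => AlgHom.congr_fun hσ y
  -- the derivation of `B₂`
  let D₂ : Derivation A B₂ (ResidueField T) :=
    ((χ.restrictScalars B₂) ∘ₗ (TensorProduct.mk B₂ T Ω[B₂⁄A] 1)).compDer (D A B₂)
  have hD₂ : ∀ y, D₂ y = χ (1 ⊗ₜ D A B₂ y) := fun y => rfl
  have hb₂ : ∀ x ∈ RingHom.ker σ₂, ∀ z : ResidueField T, x • z = 0 := by
    intro x hx z
    rw [← algebraMap_smul B₁ x z]
    exact smul_residue_eq_zero σ₁ hP _ (hle hx) z
  let f₂ : RingHom.ker σ₂ →ₗ[A] ResidueField T :=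
    D₂.toLinearMap ∘ₗ ((RingHom.ker σ₂).subtype.restrictScalars A)
  have hf₂ : ∀ x y : RingHom.ker σ₂, f₂ (x * y) = 0 := by
    intro x y
    change D₂ ((x : B₂) * (y : B₂)) = 0
    rw [D₂.leibniz, hb₂ x x.2, hb₂ y y.2, add_zero]
  let e := LinearEquiv.ofBijective _ hcot
  let ℓ₁ : (RingHom.ker σ₁).Cotangent →ₗ[A] ResidueField T :=
    Ideal.Cotangent.lift f₂ hf₂ ∘ₗ e.symm.toLinearMap
  let D₁ : Derivation A B₁ (ResidueField T) :=
    Derivation.mk' (ℓ₁ ∘ₗ (der σ₁).toLinearMap) (by
      intro a b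
      change ℓ₁ (der σ₁ (a * b)) = a • ℓ₁ (der σ₁ b) + b • ℓ₁ (der σ₁ a)
      rw [(der σ₁).leibniz, map_add, smul_eq_eps_smul', smul_eq_eps_smul', map_smul, map_smul,
        smul_residue_eq σ₁ hP a, smul_residue_eq σ₁ hP b])
  have hD₁ : ∀ b, D₁ b = ℓ₁ (der σ₁ b) := fun b => rfl
  have hder : ∀ y : B₂, der σ₁ (algebraMap B₂ B₁ y) = e (der σ₂ y) := by
    intro y
    change derFun σ₁ _ = Ideal.mapCotangent _ _ _ hle (derFun σ₂ y)
    unfold derFun
    rw [Ideal.mapCotangent_toCotangent]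
    congr 1
    apply Subtype.ext
    change algebraMap B₂ B₁ y - algebraMap A B₁ (σ₁ (algebraMap B₂ B₁ y)) =
      algebraMap B₂ B₁ (y - algebraMap A B₂ (σ₂ y))
    rw [map_sub, hσ', ← IsScalarTower.algebraMap_apply]
  have h12 : ∀ y : B₂, D₁ (algebraMap B₂ B₁ y) = D₂ y := by
    intro y
    rw [hD₁, hder]
    change Ideal.Cotangent.lift f₂ hf₂ (e.symm (e (der σ₂ y))) = _
    rw [LinearEquiv.symm_apply_apply]
    change Ideal.Cotangent.lift f₂ hf₂ ((RingHom.ker σ₂).toCotangent _) = _
    rw [Ideal.Cotangent.lift_toCotangent]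
    change D₂ (y - algebraMap A B₂ (σ₂ y)) = _
    rw [map_sub, D₂.map_algebraMap, sub_zero]
  refine ⟨(isBaseChange_of_formallyEtale A B₁ T).lift D₁.liftKaehlerDifferential, ?_⟩
  have key : ∀ w : Ω[B₂⁄A],
      (isBaseChange_of_formallyEtale A B₁ T).lift D₁.liftKaehlerDifferential
        (KaehlerDifferential.mapBaseChange A B₂ T (1 ⊗ₜ w)) = χ (1 ⊗ₜ w) := by
    intro w
    have hw : w ∈ Submodule.span B₂ (Set.range (D A B₂)) := by
      rw [span_range_derivation]; trivial
    induction hw using Submodule.span_induction with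
    | mem x hx =>
      obtain ⟨y, rfl⟩ := hx
      rw [mapBaseChange_tmul, one_smul, map_D, IsScalarTower.algebraMap_apply B₂ B₁ T,
        ← map_D A A B₁ T, IsBaseChange.lift_eq, Derivation.liftKaehlerDifferential_comp_D, h12, hD₂]
    | zero => simp
    | add x y _ _ hx hy => rw [tmul_add, map_add, map_add, map_add, hx, hy]
    | smul a x _ hx =>
      rw [tmul_smul, LinearMap.map_smul_of_tower, LinearMap.map_smul_of_tower,
        LinearMap.map_smul_of_tower, hx]
  apply TensorProduct.AlgebraTensorModule.ext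
  intro t w
  have : t ⊗ₜ[B₂] w = t • ((1 : T) ⊗ₜ[B₂] w) := by
    rw [TensorProduct.smul_tmul', smul_eq_mul, mul_one]
  rw [this, map_smul, map_smul, LinearMap.comp_apply, key]

end main

/-- **Main theorem**: a morphism compatible with sections, bijective on conormal modules, whose
source is smooth along its section, is étale along the section. -/
theorem main (A B₁ B₂ : Type u)
    [CommRing A] [CommRing B₁] [CommRing B₂] [Algebra A B₁] [Algebra A B₂] [Algebra B₂ B₁]
    [IsScalarTower A B₂ B₁] [Algebra.FinitePresentation A B₁] [Algebra.FiniteType A B₂]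
    (σ₁ : B₁ →ₐ[A] A) (σ₂ : B₂ →ₐ[A] A) (hσ : σ₁.comp (IsScalarTower.toAlgHom A B₂ B₁) = σ₂)
    (hle : RingHom.ker σ₂ ≤ (RingHom.ker σ₁).comap (IsScalarTower.toAlgHom A B₂ B₁))
    (hcot : Function.Bijective
      (Ideal.mapCotangent (RingHom.ker σ₂) (RingHom.ker σ₁) (IsScalarTower.toAlgHom A B₂ B₁) hle))
    (hsm : ∀ (P : Ideal B₁) [P.IsPrime], RingHom.ker σ₁ ≤ P → Algebra.IsSmoothAt A P)
    (P : Ideal B₁) [P.IsPrime] (hP : RingHom.ker σ₁ ≤ P) : Algebra.IsEtaleAt B₂ P := by
  haveI : Algebra.FormallySmooth A (Localization.AtPrime P) := hsm P hP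
  apply formallyEtale_of_bijective_mapBaseChange A B₂ (Localization.AtPrime P)
  haveI : Module.Free (Localization.AtPrime P) Ω[Localization.AtPrime P⁄A] :=
    Module.free_of_flat_of_isLocalRing
  have hP' : ∀ x ∈ RingHom.ker σ₁,
      algebraMap B₁ (Localization.AtPrime P) x ∈ maximalIdeal (Localization.AtPrime P) := by
    intro x hx
    rw [IsLocalization.AtPrime.to_map_mem_maximal_iff (Localization.AtPrime P) P]
    exact hP hx
  exact bijective_of_dual_bijective _ (hinj_aux σ₁ σ₂ P.primeCompl hle hcot.2 hP')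
    (hsurj_aux σ₁ σ₂ hσ hle hcot hP')

end Groth.Agent.Helper7.SecEtale
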