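import Mathlib
import Groth.Agent.Helper7.SecEtale
import Groth.Agent.Helper7.GrPoly
import Groth.Agent.Helper7.GrPoly2

set_option linter.style.haveILetI false
set_option linter.unusedSectionVars false
set_option autoImplicit false

universe u

namespace Groth.Agent.Helper7.GrPoly

open DirectSum

section sigma

variable {A B : Type u} [CommRing A] [CommRing B] [Algebra A B] (𝒜 : ℕ → Submodule A B)
  [GradedAlgebra 𝒜]
  (h0 : ∀ b : B, b ∈ 𝒜 0 → b ∈ Set.range (algebraMap A B))
  (hinj : Function.Injective (algebraMap A B))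

/-- the augmentation, as a function -/
noncomputable def sigmaFun (b : B) : A :=
  Classical.choose (h0 _ (SetLike.coe_mem (decompose 𝒜 b 0)))

theorem sigmaFun_spec (b : B) : algebraMap A B (sigmaFun 𝒜 h0 b) = (decompose 𝒜 b 0 : B) :=
  Classical.choose_spec (h0 _ (SetLike.coe_mem (decompose 𝒜 b 0)))

/-- the augmentation `B → A` of a graded algebra with `B₀ = A` -/
noncomputable def sigma : B →ₐ[A] A where
  toFun := sigmaFun 𝒜 h0
  map_one' := hinj (by
    change algebraMap A B (sigmaFun 𝒜 h0 1) = algebraMap A B 1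
    rw [sigmaFun_spec, (algebraMap A B).map_one]
    exact (GradedRing.projZeroRingHom 𝒜).map_one)
  map_mul' x y := hinj (by
    change algebraMap A B (sigmaFun 𝒜 h0 (x * y)) =
      algebraMap A B (sigmaFun 𝒜 h0 x * sigmaFun 𝒜 h0 y)
    rw [(algebraMap A B).map_mul, sigmaFun_spec, sigmaFun_spec, sigmaFun_spec]
    exact (GradedRing.projZeroRingHom 𝒜).map_mul x y)
  map_zero' := hinj (by
    change algebraMap A B (sigmaFun 𝒜 h0 0) = algebraMap A B 0
    rw [sigmaFun_spec, (algebraMap A B).map_zero]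
    exact (GradedRing.projZeroRingHom 𝒜).map_zero)
  map_add' x y := hinj (by
    change algebraMap A B (sigmaFun 𝒜 h0 (x + y)) =
      algebraMap A B (sigmaFun 𝒜 h0 x + sigmaFun 𝒜 h0 y)
    rw [(algebraMap A B).map_add, sigmaFun_spec, sigmaFun_spec, sigmaFun_spec]
    exact (GradedRing.projZeroRingHom 𝒜).map_add x y)
  commutes' a := hinj (by
    rw [sigmaFun_spec, DirectSum.decompose_of_mem_same 𝒜 (SetLike.algebraMap_mem_graded 𝒜 a)]
    rfl)

theorem algebraMap_sigma (b : B) :
    algebraMap A B (sigma 𝒜 h0 hinj b) = (decompose 𝒜 b 0 : B) := sigmaFun_spec 𝒜 h0 b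

theorem ker_sigma : RingHom.ker (sigma 𝒜 h0 hinj) = Bp 𝒜 := by
  ext x
  rw [RingHom.mem_ker, ← (injective_iff_map_eq_zero' (algebraMap A B)).mp hinj, algebraMap_sigma]
  rfl

end sigma

/-- **Main theorem**: a finitely generated graded algebra `B` over `A = B₀`, smooth along the
irrelevant ideal with free conormal module of rank `r`, is a polynomial ring in `r` variables. -/
theorem main (k : Type u) [Field k]
    (A B : Type u) [CommRing A] [CommRing B] [Algebra k A] [Algebra k B] [Algebra A B]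
    [IsScalarTower k A B]
    [Algebra.FiniteType k A] [Algebra.FiniteType A B] (𝒜 : ℕ → Submodule A B) [GradedAlgebra 𝒜]
    (h0 : ∀ b : B, b ∈ 𝒜 0 ↔ b ∈ Set.range (algebraMap A B))
    (hinj : Function.Injective (algebraMap A B))
    (hsm : ∀ (P : Ideal B) [P.IsPrime], (HomogeneousIdeal.irrelevant 𝒜).toIdeal ≤ P →
      Algebra.IsSmoothAt A P)
    [Module.Free A (HomogeneousIdeal.irrelevant 𝒜).toIdeal.Cotangent]
    [Module.Finite A (HomogeneousIdeal.irrelevant 𝒜).toIdeal.Cotangent] :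
    Nonempty (B ≃ₐ[A]
      MvPolynomial (Fin (Module.finrank A (HomogeneousIdeal.irrelevant 𝒜).toIdeal.Cotangent)) A) := by
  have h0' : ∀ b : B, b ∈ 𝒜 0 → b ∈ Set.range (algebraMap A B) := fun b => (h0 b).mp
  rcases subsingleton_or_nontrivial A with hA | hA
  · haveI : Subsingleton B := by
      refine subsingleton_of_zero_eq_one ?_
      rw [← (algebraMap A B).map_one, Subsingleton.elim (1 : A) 0, map_zero]
    exact ⟨AlgEquiv.ofBijective ((Algebra.ofId A _).comp (sigma 𝒜 h0' hinj))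
      ⟨fun x y _ => Subsingleton.elim x y, fun y => ⟨0, Subsingleton.elim _ _⟩⟩⟩
  haveI : IsNoetherianRing A := Algebra.FiniteType.isNoetherianRing k A
  haveI : Algebra.FinitePresentation A B := Algebra.FinitePresentation.of_finiteType.mp inferInstance
  let e := Module.finBasis A (Bp 𝒜).Cotangent
  obtain ⟨s, hs1, hs2⟩ := exists_graded_section 𝒜
  let b : Fin (Module.finrank A (Bp 𝒜).Cotangent) → B := fun i => (s (e i) : B)
  let φ : MvPolynomial (Fin (Module.finrank A (Bp 𝒜).Cotangent)) A →ₐ[A] B := MvPolynomial.aeval b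
  have hφsurj : Function.Surjective φ := by
    rw [← AlgHom.range_eq_top]
    apply eq_top_of_graded_section 𝒜 h0' s hs1 hs2
    intro n
    rw [← e.sum_repr n, map_sum, AddSubmonoidClass.coe_finsetSum]
    refine Subalgebra.sum_mem _ fun i _ => ?_
    rw [map_smul]
    change (e.repr n i) • ((s (e i) : Bp 𝒜) : B) ∈ φ.range
    have hmem : ((s (e i) : Bp 𝒜) : B) ∈ φ.range :=
      ⟨MvPolynomial.X i, MvPolynomial.aeval_X b i⟩
    exact Subalgebra.smul_mem _ hmem _
  letI : Algebra (MvPolynomial (Fin (Module.finrank A (Bp 𝒜).Cotangent)) A) B :=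
    φ.toRingHom.toAlgebra
  haveI : IsScalarTower A (MvPolynomial (Fin (Module.finrank A (Bp 𝒜).Cotangent)) A) B :=
    IsScalarTower.of_algebraMap_eq (fun a => (φ.commutes a).symm)
  have hker : RingHom.ker (sigma 𝒜 h0' hinj) = Bp 𝒜 := ker_sigma 𝒜 h0' hinj
  have hle : RingHom.ker ((sigma 𝒜 h0' hinj).comp (IsScalarTower.toAlgHom A
      (MvPolynomial (Fin (Module.finrank A (Bp 𝒜).Cotangent)) A) B)) ≤
      (RingHom.ker (sigma 𝒜 h0' hinj)).comap (IsScalarTower.toAlgHom A
        (MvPolynomial (Fin (Module.finrank A (Bp 𝒜).Cotangent)) A) B) := fun x hx => hx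
  have hX : ∀ i, ((sigma 𝒜 h0' hinj).comp (IsScalarTower.toAlgHom A
      (MvPolynomial (Fin (Module.finrank A (Bp 𝒜).Cotangent)) A) B)) (MvPolynomial.X i) = 0 := by
    intro i
    change sigma 𝒜 h0' hinj (φ (MvPolynomial.X i)) = 0
    rw [MvPolynomial.aeval_X]
    have : b i ∈ RingHom.ker (sigma 𝒜 h0' hinj) := by rw [hker]; exact (s (e i)).2
    exact this
  let e' := e.map ((Ideal.Cotangent.equivOfEq _ _ hker.symm).restrictScalars A)
  have he' : ∀ i, e' i = (RingHom.ker (sigma 𝒜 h0' hinj)).toCotangent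
      ⟨algebraMap (MvPolynomial (Fin (Module.finrank A (Bp 𝒜).Cotangent)) A) B
        (MvPolynomial.X i), hle (hX i)⟩ := by
    intro i
    rw [Module.Basis.map_apply]
    conv_lhs => rw [← hs1 (e i)]
    change Ideal.Cotangent.equivOfEq _ _ _ ((Bp 𝒜).toCotangent (s (e i))) = _
    rw [Ideal.Cotangent.equivOfEq_toCotangent]
    congr 1
    apply Subtype.ext
    exact (MvPolynomial.aeval_X b i).symm
  have hcot := cot_bijective (sigma 𝒜 h0' hinj) _ hle hX e' he'
  have hsm' : ∀ (Q : Ideal B) [Q.IsPrime], RingHom.ker (sigma 𝒜 h0' hinj) ≤ Q →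
      Algebra.IsSmoothAt A Q := fun Q _ hQ => hsm Q (by rw [hker] at hQ; exact hQ)
  have hét : ∀ (Q : Ideal B) [Q.IsPrime], RingHom.ker (sigma 𝒜 h0' hinj) ≤ Q →
      Algebra.IsEtaleAt (MvPolynomial (Fin (Module.finrank A (Bp 𝒜).Cotangent)) A) Q :=
    fun Q _ hQ => SecEtale.main A B (MvPolynomial (Fin (Module.finrank A (Bp 𝒜).Cotangent)) A)
      (sigma 𝒜 h0' hinj) _ rfl hle hcot hsm' Q hQ
  have hinjφ : Function.Injective φ := injective_of_etale (sigma 𝒜 h0' hinj) hφsurj hX hét
  exact ⟨(AlgEquiv.ofBijective φ ⟨hinjφ, hφsurj⟩).symm⟩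

end Groth.Agent.Helper7.GrPoly
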