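import Mathlib
import Groth.Prelude.Def_GrSyz
import Groth.Prelude.Def_GrLC
import Groth.Agent.Helper7.GrTorTop
import Groth.Agent.Helper7.GrRegSeq

/-!
# Regularity and quasi-regular linear forms
-/

set_option autoImplicit false
set_option linter.unusedSectionVars false
set_option linter.style.haveILetI false

open DirectSum MvPolynomial

namespace Groth.Agent.Helper7.GrQReg

open Groth.Agent.Helper7.HilbFn Groth.Agent.Helper7.GrSyzMin Groth.Agent.Helper7.MinRes
  Groth.Agent.Helper7.GrTorV Groth.Agent.Helper7.GrTorS Groth.Agent.Helper7.GrTorBal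
  Groth.Agent.Helper7.GrTorK Groth.Agent.Helper7.GrTorKos Groth.Agent.Helper7.GrTorTop
  Groth.Agent.Helper7.GrFinLen Groth.Agent.Helper7.GrRegSeq Groth.Agent.Helper7

universe u

variable {k : Type u} [Field k] {r : ℕ}

local notation "S" => MvPolynomial (Fin (r + 1)) k
local notation "𝒜" => GrSyz.stdGr k (Fin (r + 1))
local notation "𝔪" => HomogeneousIdeal.toIdeal (GrSyz.irrel (GrSyz.stdGr k (Fin (r + 1))))

variable {M : Type u} [AddCommGroup M] [Module k M] [Module (MvPolynomial (Fin (r + 1)) k) M]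
  [IsScalarTower k (MvPolynomial (Fin (r + 1)) k) M]
  (ℳ : ℤ → Submodule k M) [DirectSum.Decomposition ℳ]
  [SetLike.GradedSMul (GrSyz.stdGr k (Fin (r + 1))) ℳ]

variable (r) in
/-- the socle of `M` vanishes in degrees above `ρ`. -/
def Soc (ρ : ℤ) : Prop :=
  ∀ n : ℤ, ρ < n → ∀ u ∈ ℳ n,
    (∀ s ∈ HomogeneousIdeal.toIdeal (GrSyz.irrel (GrSyz.stdGr k (Fin (r + 1)))), s • u = 0) → u = 0

omit [Module k M] [IsScalarTower k (MvPolynomial (Fin (r + 1)) k) M] in
theorem smul_eq_zero_of_gens (u : M)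
    (h : ∀ d : ℤ, 0 < d → ∀ s ∈ GrSyz.stdGr k (Fin (r + 1)) d, s • u = 0) :
    ∀ s ∈ HomogeneousIdeal.toIdeal (GrSyz.irrel (GrSyz.stdGr k (Fin (r + 1)))), s • u = 0 := by
  have : 𝔪 ≤ LinearMap.ker (LinearMap.toSpanSingleton S M u) := by
    change Ideal.span _ ≤ _
    rw [Ideal.span_le]
    rintro p ⟨n, hn, hp⟩
    rw [SetLike.mem_coe, LinearMap.mem_ker, LinearMap.toSpanSingleton_apply]
    exact h n hn p hp
  intro s hs
  have := this hs
  rwa [LinearMap.mem_ker, LinearMap.toSpanSingleton_apply] at this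

variable {ℳ}

theorem soc_pow {ρ : ℤ} (hS : Soc r ℳ ρ) (N : ℕ) :
    ∀ n : ℤ, ρ < n → ∀ u ∈ ℳ n, (∀ s ∈ 𝔪 ^ N, s • u = 0) → u = 0 := by
  induction N with
  | zero =>
    intro n _ u _ h
    have := h 1 (by simp)
    simpa using this
  | succ N ih =>
    intro n hn u hu h
    apply hS n hn u hu
    apply smul_eq_zero_of_gens
    intro d hd s hs
    have hsu : s • u ∈ ℳ (d + n) := SetLike.GradedSMul.smul_mem hs hu
    apply ih (d + n) (by omega) (s • u) hsu
    intro s' hs'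
    rw [smul_smul]
    apply h
    rw [pow_succ]
    exact Ideal.mul_mem_mul hs' (Ideal.subset_span ⟨d, hd, hs⟩)

/-- an Artinian submodule lives in degrees `≤ ρ` when the socle does. -/
theorem piece_inf_eq_zero (T : Submodule (MvPolynomial (Fin (r + 1)) k) M)
    [IsArtinian (MvPolynomial (Fin (r + 1)) k) T] {ρ : ℤ} (hS : Soc r ℳ ρ) :
    ∀ n : ℤ, ρ < n → ∀ u ∈ ℳ n, u ∈ T → u = 0 := by
  classical
  -- vanishing in large degrees
  obtain ⟨D, hD⟩ : ∃ D : ℤ, ∀ n : ℤ, D ≤ n → ∀ u ∈ ℳ n, u ∈ T → u = 0 := by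
    let f : ℕ →o (Submodule S T)ᵒᵈ :=
      ⟨fun n => OrderDual.toDual ((tail (r := r) M ℳ (n : ℤ)).comap T.subtype), fun a b hab =>
        Submodule.comap_mono (tail_antitone M ℳ (by exact_mod_cast hab))⟩
    obtain ⟨n₀, hn₀⟩ := IsArtinian.monotone_stabilizes f
    refine ⟨(n₀ : ℤ), fun n hn u hu huT => ?_⟩
    obtain ⟨m, rfl⟩ := Int.eq_ofNat_of_zero_le (le_trans (Int.natCast_nonneg n₀) hn)
    have hm : n₀ ≤ m := by exact_mod_cast hn
    have h1 : (tail (r := r) M ℳ (m : ℤ)).comap T.subtype =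
        (tail (r := r) M ℳ ((m + 1 : ℕ) : ℤ)).comap T.subtype := by
      have e1 := hn₀ m hm
      have e2 := hn₀ (m + 1) (by omega)
      exact OrderDual.toDual.injective (e1.symm.trans e2)
    have hx1 : (⟨u, huT⟩ : T) ∈ (tail (r := r) M ℳ (m : ℤ)).comap T.subtype := by
      rw [Submodule.mem_comap]
      refine Submodule.subset_span ?_
      simp only [Set.mem_iUnion]
      exact ⟨(m : ℤ), le_rfl, hu⟩
    rw [h1, Submodule.mem_comap] at hx1
    have := decompose_eq_zero_of_mem_tail M ℳ _ u hx1 (m : ℤ) (by push_cast; omega)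
    rwa [decompose_of_mem_same ℳ hu] at this
  have key : ∀ (m : ℕ) (n : ℤ), ρ < n → D ≤ n + m → ∀ u ∈ ℳ n, u ∈ T → u = 0 := by
    intro m
    induction m with
    | zero =>
      intro n _ hn u hu huT
      exact hD n (by simpa using hn) u hu huT
    | succ m ih =>
      intro n hn hD' u hu huT
      apply hS n hn u hu
      apply smul_eq_zero_of_gens
      intro d hd s hs
      have hsu : s • u ∈ ℳ (d + n) := SetLike.GradedSMul.smul_mem hs hu
      exact ih (d + n) (by omega) (by push_cast at hD'; omega) (s • u) hsu (T.smul_mem s huT)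
  intro n hn u hu huT
  obtain ⟨m, hm⟩ : ∃ m : ℕ, D ≤ n + m := ⟨(D - n).toNat, by omega⟩
  exact key m n hn hm u hu huT

variable (ℳ)

/-- the pieces of a submodule. -/
noncomputable def tgr (T : Submodule (MvPolynomial (Fin (r + 1)) k) M) (d : ℤ) : AddSubgroup T :=
  (ℳ d).toAddSubgroup.comap T.subtype.toAddMonoidHom

theorem mem_tgr {T : Submodule S M} {d : ℤ} {t : T} : t ∈ tgr ℳ T d ↔ (t : M) ∈ ℳ d := Iff.rfl

theorem ses_sub (T : Submodule (MvPolynomial (Fin (r + 1)) k) M) :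
    GrSES (tgr ℳ T) ℳ (mgr ℳ T) T.subtype T.mkQ where
  f_inj := T.injective_subtype
  f_mem _ _ hx := hx
  f_strict _ _ hx := hx
  g_mem _ y hy := mem_mgr.2 ⟨y, hy, rfl⟩
  g_surj d z hz := by
    obtain ⟨t, ht, rfl⟩ := mem_mgr.1 hz
    exact ⟨t, ht, rfl⟩
  comp_zero x := by
    rw [Submodule.mkQ_apply, Submodule.Quotient.mk_eq_zero]
    exact x.2
  exact y hy := by
    rw [Submodule.mkQ_apply, Submodule.Quotient.mk_eq_zero] at hy
    exact ⟨⟨y, hy⟩, rfl⟩


section Quasi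

variable (x : MvPolynomial (Fin (r + 1)) k) (hx : x ∈ GrSyz.stdGr k (Fin (r + 1)) 1)

/-- multiplication by `x` on `M / (0 : x)`. -/
noncomputable def mulBar : (M ⧸ Submodule.torsionBy (MvPolynomial (Fin (r + 1)) k) M x) →ₗ[S] M :=
  (Submodule.torsionBy S M x).liftQ (x • (LinearMap.id : M →ₗ[S] M)) (by
    intro m hm
    rw [Submodule.mem_torsionBy_iff] at hm
    rw [LinearMap.mem_ker, LinearMap.smul_apply, LinearMap.id_apply]
    exact hm)

omit [Module k M] [IsScalarTower k (MvPolynomial (Fin (r + 1)) k) M] in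
theorem mulBar_mk (m : M) : mulBar (M := M) x ((Submodule.torsionBy S M x).mkQ m) = x • m := by
  unfold mulBar
  rw [Submodule.mkQ_apply, Submodule.liftQ_apply, LinearMap.smul_apply, LinearMap.id_apply]

variable {N : Type u} [AddCommGroup N] [Module k N] [Module (MvPolynomial (Fin (r + 1)) k) N]
  [IsScalarTower k (MvPolynomial (Fin (r + 1)) k) N]
  (𝒩 : ℤ → Submodule k N) [DirectSum.Decomposition 𝒩]
  [SetLike.GradedSMul (GrSyz.stdGr k (Fin (r + 1))) 𝒩]
  (π : M →ₗ[MvPolynomial (Fin (r + 1)) k] N) (hπ : Function.Surjective π)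
  (hπg : GrLC.IsGrHom ℳ 𝒩 π)
  (hker : LinearMap.ker π = LinearMap.range (x • (LinearMap.id : M →ₗ[MvPolynomial (Fin (r + 1)) k] M)))

include hx hπ hπg hker in
theorem ses_quasi :
    GrSES (fun d => mgr ℳ (Submodule.torsionBy (MvPolynomial (Fin (r + 1)) k) M x) (d - 1)) ℳ 𝒩
      (mulBar (M := M) x) π where
  f_inj := by
    rw [← LinearMap.ker_eq_bot]
    unfold mulBar
    apply Submodule.ker_liftQ_eq_bot
    intro m hm
    rw [LinearMap.mem_ker, LinearMap.smul_apply, LinearMap.id_apply] at hm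
    rw [Submodule.mem_torsionBy_iff]
    exact hm
  f_mem d z hz := by
    rw [mem_mgr] at hz
    obtain ⟨t, ht, rfl⟩ := hz
    rw [mulBar_mk]
    have := SetLike.GradedSMul.smul_mem (A := 𝒜) (B := ℳ) hx ht
    rwa [vadd_eq_add, show (1 : ℤ) + (d - 1) = d by ring] at this
  f_strict d z hz := by
    classical
    obtain ⟨m, rfl⟩ := (Submodule.torsionBy S M x).mkQ_surjective z
    rw [mulBar_mk] at hz
    rw [mem_mgr]
    refine ⟨(decompose ℳ m (d - 1) : M), SetLike.coe_mem _, ?_⟩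
    rw [Submodule.mkQ_apply, Submodule.mkQ_apply, Submodule.Quotient.eq,
      Submodule.mem_torsionBy_iff, smul_sub, ← decompose_smul_of_left_mem ℳ hx m d,
      decompose_of_mem_same ℳ hz, sub_self]
  g_mem d y hy := hπg d y hy
  g_surj d z hz := by
    classical
    obtain ⟨m, rfl⟩ := hπ z
    refine ⟨(decompose ℳ m d : M), SetLike.coe_mem _, ?_⟩
    rw [← decompose_map ℳ 𝒩 π hπg, decompose_of_mem_same 𝒩 hz]
  comp_zero z := by
    obtain ⟨m, rfl⟩ := (Submodule.torsionBy S M x).mkQ_surjective z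
    rw [mulBar_mk, ← LinearMap.mem_ker, hker]
    exact ⟨m, rfl⟩
  exact y hy := by
    rw [← LinearMap.mem_ker, hker] at hy
    obtain ⟨m, rfl⟩ := hy
    exact ⟨(Submodule.torsionBy S M x).mkQ m, mulBar_mk x m⟩

end Quasi


section Main

variable (x : MvPolynomial (Fin (r + 1)) k) (hx : x ∈ GrSyz.stdGr k (Fin (r + 1)) 1)
  {N : Type u} [AddCommGroup N] [Module k N] [Module (MvPolynomial (Fin (r + 1)) k) N]
  [IsScalarTower k (MvPolynomial (Fin (r + 1)) k) N]
  (𝒩 : ℤ → Submodule k N) [DirectSum.Decomposition 𝒩]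
  [SetLike.GradedSMul (GrSyz.stdGr k (Fin (r + 1))) 𝒩]
  (π : M →ₗ[MvPolynomial (Fin (r + 1)) k] N) (hπ : Function.Surjective π)
  (hπg : GrLC.IsGrHom ℳ 𝒩 π)
  (hker : LinearMap.ker π = LinearMap.range (x • (LinearMap.id : M →ₗ[MvPolynomial (Fin (r + 1)) k] M)))
  (K : KRes k r)

/-- the torsion part contributes nothing above `ρ`. -/
theorem tvan_tgr (T : Submodule (MvPolynomial (Fin (r + 1)) k) M)
    [IsArtinian (MvPolynomial (Fin (r + 1)) k) T] {ρ : ℤ} (hS : Soc r ℳ ρ) (q : ℕ) (j : ℤ)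
    (hj : ρ + q < j) : Tvan K.toCx (tgr ℳ T) q j := by
  apply tvan_of_piece_eq_zero K (tgr ℳ T) q j
  intro t ht
  rw [mem_tgr] at ht
  have := piece_inf_eq_zero T hS (j - q) (by omega) (t : M) ht t.2
  exact Subtype.ext this

/-- `M / T` is as regular as `M`. -/
theorem tvan_quot (T : Submodule (MvPolynomial (Fin (r + 1)) k) M)
    [IsArtinian (MvPolynomial (Fin (r + 1)) k) T] {ρ : ℤ} (hS : Soc r ℳ ρ)
    (h : ∀ (q : ℕ) (j : ℤ), ρ + q < j → Tvan K.toCx ℳ q j) (q : ℕ) (j : ℤ) (hj : ρ + q < j) :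
    Tvan K.toCx (mgr ℳ T) q j := by
  cases q with
  | zero => exact (ses_sub ℳ T).tvan₃_zero K.toCx j (h 0 j hj)
  | succ q =>
    refine (ses_sub ℳ T).tvan₃ K.toCx (gsmul_M (ℳ := ℳ)) q j (h (q + 1) j hj) ?_
    apply tvan_tgr ℳ K T hS
    push_cast at hj
    omega

variable [Module.Finite (MvPolynomial (Fin (r + 1)) k) M]
  [Module.Finite (MvPolynomial (Fin (r + 1)) k) N]

include hx hπ hπg hker in
theorem isRegLE_iff
    (hq : IsFiniteLength (MvPolynomial (Fin (r + 1)) k)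
      ↥(Submodule.torsionBy (MvPolynomial (Fin (r + 1)) k) M x)) (ρ : ℤ) :
    GrSyz.IsRegLE 𝒜 ℳ 𝔪 ρ ↔ Soc r ℳ ρ ∧ GrSyz.IsRegLE 𝒜 𝒩 𝔪 ρ := by
  obtain ⟨K⟩ := exists_kres k r
  haveI : IsArtinian S (Submodule.torsionBy S M x) :=
    (isFiniteLength_iff_isNoetherian_isArtinian.1 hq).2
  have hses := ses_quasi ℳ x hx 𝒩 π hπ hπg hker
  rw [isRegLE_iff_tvan K M ℳ ρ, isRegLE_iff_tvan K N 𝒩 ρ]
  constructor
  · intro h
    have hS : Soc r ℳ ρ := by
      intro n hn u hu hsoc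
      exact eq_zero_of_tvan K ℳ n (h (r + 1) _ (by push_cast; omega)) u hu hsoc
    refine ⟨hS, fun q j hj => ?_⟩
    cases q with
    | zero => exact hses.tvan₃_zero K.toCx j (h 0 j hj)
    | succ q =>
      refine hses.tvan₃ K.toCx (gsmul_M (ℳ := ℳ)) q j (h (q + 1) j hj) ?_
      rw [tvan_shift]
      apply tvan_quot ℳ K _ hS h
      push_cast at hj
      omega
  · rintro ⟨hS, hN⟩
    obtain ⟨F, hF⟩ := MinRes.exists_minimal_res (k := k) (r := r) M ℳ
    obtain ⟨ρ', hρ'⟩ := exists_isGenLE ℳ F (r + 1) (GrSyzygy.hasLengthLE_of_isMinimal M ℳ F hF)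
    have h' := (isGenLE_iff_tvan K M ℳ F hF ρ').1 hρ'
    have key : ∀ (n : ℕ) (q : ℕ) (j : ℤ), ρ + q < j → ρ' + q < j + n →
        Tvan K.toCx ℳ q j := by
      intro n
      induction n with
      | zero =>
        intro q j _ hj'
        exact h' q j (by simpa using hj')
      | succ n ih =>
        intro q j hj hj'
        have h1 : Tvan K.toCx ℳ q (j + 1) := ih q (j + 1) (by omega) (by push_cast at hj'; omega)
        have h3 : Tvan K.toCx 𝒩 (q + 1) (j + 1) := hN (q + 1) (j + 1) (by push_cast; omega)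
        have h2 := hses.tvan₁ K.toCx (gsmul_M (ℳ := ℳ)) q (j + 1) h3 h1
        rw [tvan_shift, add_sub_cancel_right] at h2
        exact (ses_sub ℳ _).tvan₂ K.toCx (gsmul_M (ℳ := ℳ)) q j (tvan_tgr ℳ K _ hS q j hj) h2
    intro q j hj
    obtain ⟨n, hn⟩ : ∃ n : ℕ, ρ' + q < j + n := ⟨(ρ' + q - j + 1).toNat, by omega⟩
    exact key n q j hj hn

end Main

end Groth.Agent.Helper7.GrQReg
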