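import Mathlib
import Groth.Prelude.Def_GrSyz
import Groth.Prelude.Def_GrLC
import Groth.Agent.Helper7.GrQReg
import Groth.Agent.Helper7.GrH0
import Groth.Agent.Helper7.RegSup

/-!
# `reg M = max (end H^0_𝔪(M), reg M/xM)` for a quasi-regular linear form `x`
-/

set_option autoImplicit false
set_option linter.unusedSectionVars false
set_option linter.style.haveILetI false

open DirectSum MvPolynomial

namespace Groth.Agent.Helper7.GrQRegMain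

open Groth.Agent.Helper7.GrQReg Groth.Agent.Helper7.GrH0 Groth.Agent.Helper7

universe u

/-- infimum over a conjunction with an upward closed condition. -/
theorem iInf_and_eq (e : WithBot (WithTop ℤ)) (B : ℤ → Prop) (hB : ∀ a b : ℤ, a ≤ b → B a → B b) :
    (⨅ (ρ : ℤ) (_ : e ≤ ((ρ : WithTop ℤ) : WithBot (WithTop ℤ)) ∧ B ρ),
      ((ρ : WithTop ℤ) : WithBot (WithTop ℤ))) =
    e ⊔ ⨅ (ρ : ℤ) (_ : B ρ), ((ρ : WithTop ℤ) : WithBot (WithTop ℤ)) := by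
  apply le_antisymm
  · conv_rhs => rw [← RegSup.iInf_ge_eq (e ⊔ ⨅ (ρ : ℤ) (_ : B ρ), ((ρ : WithTop ℤ) : WithBot (WithTop ℤ)))]
    refine le_iInf₂ fun ρ hρ => ?_
    rw [sup_le_iff] at hρ
    have hlt : (⨅ (ρ : ℤ) (_ : B ρ), ((ρ : WithTop ℤ) : WithBot (WithTop ℤ))) <
        (((ρ + 1 : ℤ) : WithTop ℤ) : WithBot (WithTop ℤ)) := by
      refine lt_of_le_of_lt hρ.2 ?_
      rw [WithBot.coe_lt_coe, WithTop.coe_lt_coe]
      omega
    rw [iInf_lt_iff] at hlt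
    obtain ⟨ρ', hlt⟩ := hlt
    rw [iInf_lt_iff] at hlt
    obtain ⟨hρ', hlt'⟩ := hlt
    rw [WithBot.coe_lt_coe, WithTop.coe_lt_coe] at hlt'
    exact iInf₂_le (f := fun (ρ : ℤ) (_ : e ≤ ((ρ : WithTop ℤ) : WithBot (WithTop ℤ)) ∧ B ρ) =>
      ((ρ : WithTop ℤ) : WithBot (WithTop ℤ))) ρ ⟨hρ.1, hB ρ' ρ (by omega) hρ'⟩
  · refine le_iInf₂ fun ρ hρ => sup_le hρ.1 ?_
    exact iInf₂_le (f := fun (ρ : ℤ) (_ : B ρ) => ((ρ : WithTop ℤ) : WithBot (WithTop ℤ))) ρ hρ.2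

variable {k : Type u} [Field k] {r : ℕ}

local notation "S" => MvPolynomial (Fin (r + 1)) k
local notation "𝒜" => GrSyz.stdGr k (Fin (r + 1))
local notation "𝔪" => HomogeneousIdeal.toIdeal (GrSyz.irrel (GrSyz.stdGr k (Fin (r + 1))))

variable {M : Type u} [AddCommGroup M] [Module k M] [Module (MvPolynomial (Fin (r + 1)) k) M]
  [IsScalarTower k (MvPolynomial (Fin (r + 1)) k) M]
  (ℳ : ℤ → Submodule k M) [DirectSum.Decomposition ℳ]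
  [SetLike.GradedSMul (GrSyz.stdGr k (Fin (r + 1))) ℳ]

theorem endDeg_le_iff_soc (E : GrLC.StarInjRes (GrSyz.stdGr k (Fin (r + 1))) ℳ) (ρ : ℤ) :
    GrLC.endDeg (E.Hgr (GrSyz.irrel (GrSyz.stdGr k (Fin (r + 1)))) 0) ≤
      ((ρ : WithTop ℤ) : WithBot (WithTop ℤ)) ↔ Soc r ℳ ρ := by
  rw [GrH0.endDeg_le_iff]
  constructor
  · intro h n hn u hu hsoc
    refine h n hn u hu ⟨1, fun s hs => hsoc s ?_⟩
    rwa [pow_one] at hs
  · rintro h n hn u hu ⟨N, hN⟩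
    exact soc_pow h N n hn u hu hN

theorem isRegLE_mono {a b : ℤ} (hab : a ≤ b) (h : GrSyz.IsRegLE 𝒜 ℳ 𝔪 a) :
    GrSyz.IsRegLE 𝒜 ℳ 𝔪 b := by
  obtain ⟨F, hF, hgen⟩ := h
  refine ⟨F, hF, fun i c => ?_⟩
  have := hgen i c
  omega

variable (x : MvPolynomial (Fin (r + 1)) k) (hx : x ∈ GrSyz.stdGr k (Fin (r + 1)) 1)
  {N : Type u} [AddCommGroup N] [Module k N] [Module (MvPolynomial (Fin (r + 1)) k) N]
  [IsScalarTower k (MvPolynomial (Fin (r + 1)) k) N]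
  (𝒩 : ℤ → Submodule k N) [DirectSum.Decomposition 𝒩]
  [SetLike.GradedSMul (GrSyz.stdGr k (Fin (r + 1))) 𝒩]
  (π : M →ₗ[MvPolynomial (Fin (r + 1)) k] N) (hπ : Function.Surjective π)
  (hπg : GrLC.IsGrHom ℳ 𝒩 π)
  (hker : LinearMap.ker π = LinearMap.range (x • (LinearMap.id : M →ₗ[MvPolynomial (Fin (r + 1)) k] M)))
  [Module.Finite (MvPolynomial (Fin (r + 1)) k) M]
  [Module.Finite (MvPolynomial (Fin (r + 1)) k) N]

include hx hπ hπg hker in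
theorem main
    (hq : IsFiniteLength (MvPolynomial (Fin (r + 1)) k)
      ↥(Submodule.torsionBy (MvPolynomial (Fin (r + 1)) k) M x))
    (E : GrLC.StarInjRes (GrSyz.stdGr k (Fin (r + 1))) ℳ) :
    GrSyz.reg 𝒜 ℳ 𝔪 =
      GrLC.endDeg (E.Hgr (GrSyz.irrel (GrSyz.stdGr k (Fin (r + 1)))) 0) ⊔ GrSyz.reg 𝒜 𝒩 𝔪 := by
  unfold GrSyz.reg
  simp_rw [GrQReg.isRegLE_iff ℳ x hx 𝒩 π hπ hπg hker hq, ← endDeg_le_iff_soc ℳ E]
  exact iInf_and_eq _ _ (fun a b hab h => isRegLE_mono 𝒩 hab h)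

end Groth.Agent.Helper7.GrQRegMain
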