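import Mathlib

/-!
# ℤ-graded rings with a homogeneous unit `t` of positive degree `N`: basic lemmas
-/

set_option autoImplicit false

namespace Groth.Agent.Helper7.GrReg1
open DirectSum

universe u

variable {R : Type u} [CommRing R] (𝒜 : ℤ → AddSubgroup R) [GradedRing 𝒜]

/-- The inverse of a homogeneous unit is homogeneous. -/
theorem exists_inv_mem {n : ℤ} {t : R} (ht : t ∈ 𝒜 n) (htu : IsUnit t) :
    ∃ s ∈ 𝒜 (-n), t * s = 1 := by
  classical
  obtain ⟨s, hs⟩ := htu.exists_right_inv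
  refine ⟨(decompose 𝒜 s (-n) : R), SetLike.coe_mem _, ?_⟩
  have h := coe_decompose_mul_add_of_left_mem 𝒜 (j := -n) (b := s) ht
  rw [← h, hs, add_neg_cancel]
  exact decompose_of_mem_same 𝒜 (SetLike.one_mem_graded 𝒜)

variable {𝒜} in
/-- integer powers of a homogeneous unit are homogeneous -/
theorem zpow_mem {N : ℤ} (u : Rˣ) (hu : (u : R) ∈ 𝒜 N) (j : ℤ) :
    ((u ^ j : Rˣ) : R) ∈ 𝒜 (j * N) := by
  have hinv : ((u⁻¹ : Rˣ) : R) ∈ 𝒜 (-N) := by
    obtain ⟨s, hs, hts⟩ := exists_inv_mem 𝒜 hu u.isUnit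
    have : ((u⁻¹ : Rˣ) : R) = s := by
      rw [Units.inv_eq_of_mul_eq_one_right hts]
    rw [this]; exact hs
  rcases Int.eq_nat_or_neg j with ⟨n, rfl | rfl⟩
  · rw [zpow_natCast, Units.val_pow_eq_pow_val]
    have := SetLike.pow_mem_graded (A := 𝒜) n hu
    simpa [mul_comm] using this
  · rw [zpow_neg, zpow_natCast, ← inv_pow, Units.val_pow_eq_pow_val]
    have := SetLike.pow_mem_graded (A := 𝒜) n hinv
    simpa [mul_comm] using this

end Groth.Agent.Helper7.GrReg1
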