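import Mathlib
import Groth.Agent.Helper7.GrReg1

/-!
# The ideal generated by homogeneous non-units in a ℤ-graded ring with local degree-0 part
-/

set_option autoImplicit false

namespace Groth.Agent.Helper7.GrReg2
open DirectSum

universe u

variable {R : Type u} [CommRing R] (𝒜 : ℤ → AddSubgroup R) [GradedRing 𝒜]

/-- The ideal generated by homogeneous non-units. -/
def J : Ideal R := Ideal.span {x | SetLike.IsHomogeneousElem 𝒜 x ∧ ¬ IsUnit x}

theorem J_isHomogeneous : (J 𝒜).IsHomogeneous 𝒜 :=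
  Ideal.homogeneous_span 𝒜 _ (fun _ hx => hx.1)

omit [GradedRing 𝒜] in
theorem mem_J_of_homogeneous {x : R} {i : ℤ} (hx : x ∈ 𝒜 i) (hu : ¬ IsUnit x) : x ∈ J 𝒜 :=
  Ideal.subset_span ⟨⟨i, hx⟩, hu⟩

/-- units of degree 0 are units of the degree-0 subring -/
theorem isUnit_deg0_iff (c : SetLike.GradeZero.subring 𝒜) : IsUnit c ↔ IsUnit (c : R) := by
  constructor
  · intro h
    exact h.map (SetLike.GradeZero.subring 𝒜).subtype
  · intro h
    obtain ⟨s, hs, hcs⟩ := GrReg1.exists_inv_mem 𝒜 (n := 0) c.2 h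
    rw [neg_zero] at hs
    exact IsUnit.of_mul_eq_one ⟨s, hs⟩ (Subtype.ext hcs)

variable [IsLocalRing (SetLike.GradeZero.subring 𝒜)]

/-- sums of degree-0 non-units are non-units -/
theorem not_isUnit_add {a b : R} (ha : a ∈ 𝒜 0) (hb : b ∈ 𝒜 0) (hau : ¬ IsUnit a)
    (hbu : ¬ IsUnit b) : ¬ IsUnit (a + b) := by
  have h1 : (⟨a, ha⟩ : SetLike.GradeZero.subring 𝒜) ∈ nonunits _ := by
    rw [mem_nonunits_iff, isUnit_deg0_iff]; exact hau
  have h2 : (⟨b, hb⟩ : SetLike.GradeZero.subring 𝒜) ∈ nonunits _ := by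
    rw [mem_nonunits_iff, isUnit_deg0_iff]; exact hbu
  have h3 := IsLocalRing.nonunits_add h1 h2
  rw [mem_nonunits_iff, isUnit_deg0_iff] at h3
  exact h3

/-- the degree-0 component of any multiple of an element of `J` is a non-unit -/
theorem not_isUnit_proj_zero_of_mem_J {x : R} (hx : x ∈ J 𝒜) (r : R) :
    ¬ IsUnit (decompose 𝒜 (r * x) 0 : R) := by
  classical
  have : Nontrivial R :=
    (Subtype.coe_injective : Function.Injective
      (fun c : SetLike.GradeZero.subring 𝒜 => (c : R))).nontrivial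
  revert r
  refine Submodule.span_induction (p := fun x _ => ∀ r : R, ¬ IsUnit (decompose 𝒜 (r * x) 0 : R))
    ?_ ?_ ?_ ?_ hx
  · rintro g ⟨⟨i, hg⟩, hgu⟩ r
    have h := coe_decompose_mul_add_of_right_mem 𝒜 (i := -i) (a := r) hg
    rw [neg_add_cancel] at h
    rw [h]
    intro hu
    exact hgu (isUnit_of_mul_isUnit_right hu)
  · intro r
    simp
  · intro x y _ _ hx hy r
    rw [mul_add, decompose_add, DirectSum.add_apply, AddSubgroup.coe_add]
    exact not_isUnit_add 𝒜 (SetLike.coe_mem _) (SetLike.coe_mem _) (hx r) (hy r)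
  · intro a x _ hx r
    rw [smul_eq_mul, ← mul_assoc]
    exact hx (r * a)

theorem not_isUnit_of_mem_J_of_mem_zero {c : R} (hc : c ∈ 𝒜 0) (hJ : c ∈ J 𝒜) : ¬ IsUnit c := by
  have := not_isUnit_proj_zero_of_mem_J 𝒜 hJ 1
  rwa [one_mul, decompose_of_mem_same 𝒜 hc] at this

theorem J_ne_top : J 𝒜 ≠ ⊤ := by
  intro h
  have h1 : (1 : R) ∈ J 𝒜 := by rw [h]; trivial
  exact not_isUnit_of_mem_J_of_mem_zero 𝒜 (SetLike.one_mem_graded 𝒜) h1 isUnit_one

end Groth.Agent.Helper7.GrReg2
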