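import Mathlib
import Groth.Agent.Helper7.GrReg1
import Groth.Agent.Helper7.GrReg2

/-!
# Saturation of `J` with respect to `t - 1`, and the detection lemma
-/

set_option autoImplicit false

namespace Groth.Agent.Helper7.GrReg3
open DirectSum Groth.Agent.Helper7

universe u

variable {R : Type u} [CommRing R] (𝒜 : ℤ → AddSubgroup R) [GradedRing 𝒜]

/-- a bound for the support of the decomposition -/
theorem exists_bound (x : R) : ∃ B : ℕ, ∀ i : ℤ, (B : ℤ) < |i| → (decompose 𝒜 x i : R) = 0 := by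
  classical
  refine ⟨∑ i ∈ (decompose 𝒜 x).support, i.natAbs, ?_⟩
  intro i hi
  by_contra h
  have hmem : i ∈ (decompose 𝒜 x).support := by
    rw [DFinsupp.mem_support_iff]
    intro h0
    exact h (by rw [h0]; rfl)
  have := Finset.single_le_sum (f := fun i : ℤ => i.natAbs) (fun _ _ => Nat.zero_le _) hmem
  have h2 : |i| = (i.natAbs : ℤ) := Int.abs_eq_natAbs i
  rw [h2] at hi
  have : (i.natAbs : ℤ) ≤ ((∑ i ∈ (decompose 𝒜 x).support, i.natAbs : ℕ) : ℤ) := by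
    exact_mod_cast this
  omega

variable (N : ℕ) (hN : 0 < N) (u : Rˣ) (hu : (u : R) ∈ 𝒜 (N : ℤ))

include hu in
theorem pow_mem (m : ℕ) : (u : R) ^ m ∈ 𝒜 ((m : ℤ) * N) := by
  have := GrReg1.zpow_mem u hu (m : ℤ)
  rwa [zpow_natCast, Units.val_pow_eq_pow_val] at this

include hu in
/-- components of `(t^m - 1) x` -/
theorem decompose_pow_sub_one_mul (m : ℕ) (x : R) (i : ℤ) :
    (decompose 𝒜 (((u : R) ^ m - 1) * x) i : R) =
      (u : R) ^ m * (decompose 𝒜 x (i - m * N) : R) - (decompose 𝒜 x i : R) := by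
  rw [sub_mul, one_mul, decompose_sub, DirectSum.sub_apply, AddSubgroup.coe_sub]
  congr 1
  have h := coe_decompose_mul_add_of_left_mem 𝒜 (j := i - m * N) (b := x) (pow_mem 𝒜 N u hu m)
  rw [show (m : ℤ) * N + (i - m * N) = i by ring] at h
  rw [h]

variable [IsLocalRing (SetLike.GradeZero.subring 𝒜)]

include hN hu in
omit [IsLocalRing (SetLike.GradeZero.subring 𝒜)] in
/-- `J` is saturated with respect to `t - 1`. -/
theorem mem_J_of_sub_one_mul_mem {x : R} (h : ((u : R) - 1) * x ∈ GrReg2.J 𝒜) :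
    x ∈ GrReg2.J 𝒜 := by
  obtain ⟨B, hB⟩ := exists_bound 𝒜 x
  set m := 2 * B + 1 with hm
  have hdvd : ((u : R) - 1) ∣ (u : R) ^ m - 1 := by
    have := sub_dvd_pow_sub_pow (u : R) 1 m
    rwa [one_pow] at this
  have h2 : ((u : R) ^ m - 1) * x ∈ GrReg2.J 𝒜 := by
    obtain ⟨c, hc⟩ := hdvd
    rw [hc, mul_right_comm]
    exact Ideal.mul_mem_right _ _ h
  rw [(GrReg2.J_isHomogeneous 𝒜).mem_iff]
  intro i
  by_cases hi : (B : ℤ) < |i|
  · rw [hB i hi]; exact Ideal.zero_mem _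
  · have h3 := ((GrReg2.J_isHomogeneous 𝒜).mem_iff.mp h2) i
    rw [decompose_pow_sub_one_mul 𝒜 N u hu] at h3
    have h4 : (decompose 𝒜 x (i - m * N) : R) = 0 := by
      apply hB
      have hN' : (1 : ℤ) ≤ N := by exact_mod_cast hN
      have : (m : ℤ) * N ≥ m := by nlinarith
      have hi' : |i| ≤ B := not_lt.mp hi
      have hi1 := abs_le.mp hi'
      rw [lt_abs]
      right
      push_cast [hm] at this ⊢
      linarith [hi1.1, hi1.2]
    rw [h4, mul_zero, zero_sub] at h3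
    exact (Ideal.neg_mem_iff _).mp h3

include hN hu in
theorem J_sup_ne_top : GrReg2.J 𝒜 ⊔ Ideal.span {(u : R) - 1} ≠ ⊤ := by
  intro htop
  have h1 : (1 : R) ∈ GrReg2.J 𝒜 ⊔ Ideal.span {(u : R) - 1} := by rw [htop]; trivial
  obtain ⟨j, hj, k, hk, hjk⟩ := Submodule.mem_sup.mp h1
  obtain ⟨w, rfl⟩ := Ideal.mem_span_singleton'.mp hk
  -- `(t - 1) * (w + 1)`... use saturation: `(t-1) * w = 1 - j`
  -- multiply by `t`: consider `y := w * (t - 1) - 1 = -j ∈ J`
  have hy : ((u : R) - 1) * w - 1 ∈ GrReg2.J 𝒜 := by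
    have : ((u : R) - 1) * w - 1 = -j := by linear_combination hjk
    rw [this]; exact (Ideal.neg_mem_iff _).mpr hj
  obtain ⟨B, hB⟩ := exists_bound 𝒜 w
  set m := B + 1 with hm
  -- `(t^m - 1) w - g_m ∈ J`
  have hg : ((u : R) ^ m - 1) * w - ∑ l ∈ Finset.range m, (u : R) ^ l ∈ GrReg2.J 𝒜 := by
    have : ((u : R) ^ m - 1) * w - ∑ l ∈ Finset.range m, (u : R) ^ l =
        (∑ l ∈ Finset.range m, (u : R) ^ l) * (((u : R) - 1) * w - 1) := by
      rw [← geom_sum_mul (u : R) m]; ring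
    rw [this]
    exact Ideal.mul_mem_left _ _ hy
  have hN' : (1 : ℤ) ≤ N := by exact_mod_cast hN
  have hmN : (B : ℤ) < |(m : ℤ) * N| := by
    rw [abs_of_nonneg (by positivity)]
    have : (m : ℤ) * N ≥ m := by nlinarith
    push_cast [hm] at this ⊢
    linarith
  have hmN' : (B : ℤ) < |(0 : ℤ) - (m : ℤ) * N| := by
    rw [zero_sub, abs_neg]; exact hmN
  have hcomp := (GrReg2.J_isHomogeneous 𝒜).mem_iff.mp hg
  -- decomposition of the geometric sum
  have hgs : ∀ d : ℤ, (decompose 𝒜 (∑ l ∈ Finset.range m, (u : R) ^ l) d : R) =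
      ∑ l ∈ Finset.range m, if (l : ℤ) * N = d then (u : R) ^ l else 0 := by
    intro d
    rw [← GradedRing.proj_apply, map_sum]
    refine Finset.sum_congr rfl fun l _ => ?_
    rw [GradedRing.proj_apply]
    split_ifs with hl
    · rw [← hl]; exact decompose_of_mem_same 𝒜 (pow_mem 𝒜 N u hu l)
    · exact decompose_of_mem_ne 𝒜 (pow_mem 𝒜 N u hu l) hl
  -- degree `m N`
  have hA := hcomp ((m : ℤ) * N)
  rw [decompose_sub, DirectSum.sub_apply, AddSubgroup.coe_sub,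
    decompose_pow_sub_one_mul 𝒜 N u hu, hgs, sub_self, hB _ hmN, sub_zero] at hA
  have hzero : ∑ l ∈ Finset.range m, (if (l : ℤ) * N = (m : ℤ) * N then (u : R) ^ l else 0) = 0 := by
    apply Finset.sum_eq_zero
    intro l hl
    rw [if_neg]
    intro h
    have hlm : l < m := Finset.mem_range.mp hl
    have : (l : ℤ) = m := by
      have hNpos : (0 : ℤ) < N := by exact_mod_cast hN
      exact mul_right_cancel₀ (ne_of_gt hNpos) h
    omega
  rw [hzero, sub_zero] at hA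
  have hw0 : (decompose 𝒜 w 0 : R) ∈ GrReg2.J 𝒜 := by
    have h5 := Ideal.mul_mem_left (GrReg2.J 𝒜) (((u⁻¹ : Rˣ) : R) ^ m) hA
    have h6 : ((u⁻¹ : Rˣ) : R) ^ m * ((u : R) ^ m * (decompose 𝒜 w 0 : R)) =
        (decompose 𝒜 w 0 : R) := by
      rw [← mul_assoc, ← mul_pow, Units.inv_mul, one_pow, one_mul]
    rwa [h6] at h5
  -- degree `0`
  have hC := hcomp 0
  rw [decompose_sub, DirectSum.sub_apply, AddSubgroup.coe_sub,
    decompose_pow_sub_one_mul 𝒜 N u hu, hgs, hB _ hmN', mul_zero, zero_sub] at hC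
  have hone : ∑ l ∈ Finset.range m, (if (l : ℤ) * N = 0 then (u : R) ^ l else 0) = 1 := by
    rw [Finset.sum_eq_single 0]
    · simp
    · intro l _ hl
      rw [if_neg]
      intro h
      have hNpos : (N : ℤ) ≠ 0 := by exact_mod_cast hN.ne'
      rcases mul_eq_zero.mp h with h | h
      · exact hl (by exact_mod_cast h)
      · exact hNpos h
    · intro h
      exact absurd (Finset.mem_range.mpr (by omega)) h
  rw [hone] at hC
  have h1J : (1 : R) ∈ GrReg2.J 𝒜 := by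
    have := Ideal.add_mem _ hC hw0
    have h7 : -(decompose 𝒜 w 0 : R) - 1 + (decompose 𝒜 w 0 : R) = -1 := by ring
    rw [h7] at this
    exact (Ideal.neg_mem_iff _).mp this
  exact GrReg2.J_ne_top 𝒜 ((Ideal.eq_top_iff_one _).mpr h1J)


omit [GradedRing 𝒜] [IsLocalRing (SetLike.GradeZero.subring 𝒜)] in
/-- `(I + (f))² ⊆ I + (f²)` -/
theorem sup_span_sq_le (I : Ideal R) (f : R) :
    (I ⊔ Ideal.span {f}) ^ 2 ≤ I ⊔ Ideal.span {f ^ 2} := by
  rw [pow_two, Ideal.mul_le]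
  intro a ha b hb
  obtain ⟨j₁, hj₁, k₁, hk₁, rfl⟩ := Submodule.mem_sup.mp ha
  obtain ⟨j₂, hj₂, k₂, hk₂, rfl⟩ := Submodule.mem_sup.mp hb
  obtain ⟨w₁, rfl⟩ := Ideal.mem_span_singleton'.mp hk₁
  obtain ⟨w₂, rfl⟩ := Ideal.mem_span_singleton'.mp hk₂
  have : (j₁ + w₁ * f) * (j₂ + w₂ * f) =
      (j₁ * (j₂ + w₂ * f) + j₂ * (w₁ * f)) + (w₁ * w₂) * f ^ 2 := by ring
  rw [this]
  refine Submodule.add_mem_sup ?_ (Ideal.mem_span_singleton'.mpr ⟨_, rfl⟩)
  exact Ideal.add_mem _ (Ideal.mul_mem_right _ _ hj₁) (Ideal.mul_mem_right _ _ hj₂)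

include hN hu in
omit [IsLocalRing (SetLike.GradeZero.subring 𝒜)] in
/-- the detection lemma: `t - 1` is not in the square of `J + (t - 1)`, even locally -/
theorem not_mul_mem_sq (s : R) (hs : s ∉ GrReg2.J 𝒜 ⊔ Ideal.span {(u : R) - 1}) :
    s * ((u : R) - 1) ∉ (GrReg2.J 𝒜 ⊔ Ideal.span {(u : R) - 1}) ^ 2 := by
  intro h
  have h2 := sup_span_sq_le (GrReg2.J 𝒜) ((u : R) - 1) h
  obtain ⟨j, hj, k, hk, hjk⟩ := Submodule.mem_sup.mp h2
  obtain ⟨w, rfl⟩ := Ideal.mem_span_singleton'.mp hk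
  have h3 : ((u : R) - 1) * (s - w * ((u : R) - 1)) ∈ GrReg2.J 𝒜 := by
    have : ((u : R) - 1) * (s - w * ((u : R) - 1)) = j := by linear_combination -hjk
    rw [this]; exact hj
  have h4 := mem_J_of_sub_one_mul_mem 𝒜 N hN u hu h3
  apply hs
  have : s = (s - w * ((u : R) - 1)) + w * ((u : R) - 1) := by ring
  rw [this]
  exact Submodule.add_mem_sup h4 (Ideal.mem_span_singleton'.mpr ⟨w, rfl⟩)

end Groth.Agent.Helper7.GrReg3
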