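import Mathlib
import Groth.Agent.Helper7.GrReg1
import Groth.Agent.Helper7.GrReg2
import Groth.Agent.Helper7.GrReg3

/-!
# The quotient `R ⧸ (t - 1)` of a ℤ-graded ring by a homogeneous unit minus one is local
-/

set_option autoImplicit false

namespace Groth.Agent.Helper7.GrReg4
open DirectSum Groth.Agent.Helper7

universe u

variable {R : Type u} [CommRing R] (𝒜 : ℤ → AddSubgroup R) [GradedRing 𝒜]
  (N : ℕ) (hN : 0 < N) (u : Rˣ) (hu : (u : R) ∈ 𝒜 (N : ℤ))

local notation "Iu" => (Ideal.span {((u : Rˣ) : R) - 1} : Ideal R)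

omit [GradedRing 𝒜] in
theorem mk_u : Ideal.Quotient.mk Iu (u : R) = 1 := by
  have : Ideal.Quotient.mk Iu ((u : R) - 1) = 0 :=
    Ideal.Quotient.eq_zero_iff_mem.mpr (Ideal.mem_span_singleton_self _)
  rw [map_sub, map_one, sub_eq_zero] at this
  exact this

omit [GradedRing 𝒜] in
theorem mk_zpow (j : ℤ) : Ideal.Quotient.mk Iu ((u ^ j : Rˣ) : R) = 1 := by
  have h1 : Units.map (Ideal.Quotient.mk Iu : R →* R ⧸ Iu) u = 1 := by
    ext
    simpa using mk_u u
  have h2 : Units.map (Ideal.Quotient.mk Iu : R →* R ⧸ Iu) (u ^ j) = 1 := by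
    rw [map_zpow, h1, one_zpow]
  have := congrArg Units.val h2
  rw [Units.coe_map, Units.val_one] at this
  exact this

include hu in
/-- every homogeneous element has `N`-th power congruent to a degree-0 element -/
theorem exists_pow_eq {i : ℤ} {a : R} (ha : a ∈ 𝒜 i) :
    ∃ c ∈ 𝒜 0, a ^ N = c * ((u ^ i : Rˣ) : R) := by
  refine ⟨a ^ N * ((u ^ (-i) : Rˣ) : R), ?_, ?_⟩
  · have h1 := SetLike.pow_mem_graded (A := 𝒜) N ha
    have h2 := GrReg1.zpow_mem u hu (-i)
    have h3 := SetLike.mul_mem_graded h1 h2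
    have : N • i + -i * (N : ℤ) = 0 := by simp; ring
    rwa [this] at h3
  · rw [mul_assoc, ← Units.val_mul, ← zpow_add, neg_add_cancel, zpow_zero, Units.val_one, mul_one]

include hu in
/-- elements of degree divisible by `N` are degree-0 elements times a power of `t` -/
theorem exists_eq_mul {j : ℤ} {a : R} (ha : a ∈ 𝒜 (j * N)) :
    ∃ c ∈ 𝒜 0, a = c * ((u ^ j : Rˣ) : R) := by
  refine ⟨a * ((u ^ (-j) : Rˣ) : R), ?_, ?_⟩
  · have h2 := GrReg1.zpow_mem u hu (-j)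
    have h3 := SetLike.mul_mem_graded ha h2
    have : j * (N : ℤ) + -j * (N : ℤ) = 0 := by ring
    rwa [this] at h3
  · rw [mul_assoc, ← Units.val_mul, ← zpow_add, neg_add_cancel, zpow_zero, Units.val_one, mul_one]

include hN hu in
theorem isIntegral_mk_of_homogeneous {i : ℤ} {a : R} (ha : a ∈ 𝒜 i) :
    IsIntegral (SetLike.GradeZero.subring 𝒜) (Ideal.Quotient.mk Iu a) := by
  obtain ⟨c, hc, hac⟩ := exists_pow_eq 𝒜 N u hu ha
  apply IsIntegral.of_pow hN
  have : (Ideal.Quotient.mk Iu a) ^ N =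
      algebraMap (SetLike.GradeZero.subring 𝒜) (R ⧸ Iu) ⟨c, hc⟩ := by
    rw [← map_pow, hac, map_mul, mk_zpow, mul_one]
    rfl
  rw [this]
  exact isIntegral_algebraMap

include hN hu in
theorem isIntegral : Algebra.IsIntegral (SetLike.GradeZero.subring 𝒜) (R ⧸ Iu) := by
  classical
  constructor
  intro x
  obtain ⟨r, rfl⟩ := Ideal.Quotient.mk_surjective x
  rw [← sum_support_decompose 𝒜 r, map_sum]
  apply IsIntegral.sum
  intro i _
  exact isIntegral_mk_of_homogeneous 𝒜 N hN u hu (SetLike.coe_mem _)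

variable [IsLocalRing (SetLike.GradeZero.subring 𝒜)]

include hN hu in
/-- every maximal ideal of the quotient contains the image of `J` -/
theorem map_J_le (M : Ideal (R ⧸ Iu)) [hM : M.IsMaximal] :
    (GrReg2.J 𝒜).map (Ideal.Quotient.mk Iu) ≤ M := by
  have hint := isIntegral 𝒜 N hN u hu
  have hmax : (M.comap (algebraMap (SetLike.GradeZero.subring 𝒜) (R ⧸ Iu))).IsMaximal :=
    Ideal.isMaximal_comap_of_isIntegral_of_isMaximal M
  have hcomap := IsLocalRing.eq_maximalIdeal hmax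
  -- degree-0 non-units map into `M`
  have h0 : ∀ c : R, c ∈ 𝒜 0 → ¬ IsUnit c → Ideal.Quotient.mk Iu c ∈ M := by
    intro c hc hcu
    have : (⟨c, hc⟩ : SetLike.GradeZero.subring 𝒜) ∈
        IsLocalRing.maximalIdeal (SetLike.GradeZero.subring 𝒜) := by
      rw [IsLocalRing.mem_maximalIdeal, mem_nonunits_iff, GrReg2.isUnit_deg0_iff]
      exact hcu
    rw [← hcomap, Ideal.mem_comap] at this
    exact this
  rw [Ideal.map_le_iff_le_comap, GrReg2.J, Ideal.span_le]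
  rintro g ⟨⟨i, hg⟩, hgu⟩
  obtain ⟨c, hc, hgc⟩ := exists_pow_eq 𝒜 N u hu hg
  have hcu : ¬ IsUnit c := by
    intro h
    apply hgu
    have : IsUnit (g ^ N) := by rw [hgc]; exact h.mul (Units.isUnit _)
    exact (isUnit_pow_iff hN.ne').mp this
  have h1 := h0 c hc hcu
  have h2 : (Ideal.Quotient.mk Iu g) ^ N ∈ M := by
    rw [← map_pow, hgc, map_mul, mk_zpow, mul_one]
    exact h1
  exact hM.isPrime.mem_of_pow_mem N h2

variable (H : ∀ i : ℤ, ¬ ((N : ℤ) ∣ i) → ∀ a ∈ 𝒜 i, ¬ IsUnit a)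

include hu H in
omit [IsLocalRing (SetLike.GradeZero.subring 𝒜)] in
/-- every homogeneous element is congruent to a degree-0 element modulo the image of `J` -/
theorem exists_deg0_congr_of_homogeneous {i : ℤ} {a : R} (ha : a ∈ 𝒜 i) :
    ∃ c ∈ 𝒜 0, Ideal.Quotient.mk Iu a - Ideal.Quotient.mk Iu c ∈
      (GrReg2.J 𝒜).map (Ideal.Quotient.mk Iu) := by
  by_cases hi : (N : ℤ) ∣ i
  · obtain ⟨j, rfl⟩ := hi
    rw [mul_comm] at ha
    obtain ⟨c, hc, hac⟩ := exists_eq_mul 𝒜 N u hu ha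
    refine ⟨c, hc, ?_⟩
    rw [hac, map_mul, mk_zpow, mul_one, sub_self]
    exact Ideal.zero_mem _
  · refine ⟨0, zero_mem _, ?_⟩
    rw [map_zero, sub_zero]
    exact Ideal.mem_map_of_mem _ (GrReg2.mem_J_of_homogeneous 𝒜 ha (H i hi a ha))

include hu H in
omit [IsLocalRing (SetLike.GradeZero.subring 𝒜)] in
theorem exists_deg0_congr (r : R) :
    ∃ c ∈ 𝒜 0, Ideal.Quotient.mk Iu r - Ideal.Quotient.mk Iu c ∈
      (GrReg2.J 𝒜).map (Ideal.Quotient.mk Iu) := by
  classical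
  rw [← sum_support_decompose 𝒜 r]
  refine Finset.sum_induction _
    (fun y : R => ∃ c ∈ 𝒜 0, Ideal.Quotient.mk Iu y - Ideal.Quotient.mk Iu c ∈
      (GrReg2.J 𝒜).map (Ideal.Quotient.mk Iu)) ?_ ?_ ?_
  · rintro a b ⟨c, hc, hac⟩ ⟨d, hd, hbd⟩
    refine ⟨c + d, add_mem hc hd, ?_⟩
    have : Ideal.Quotient.mk Iu (a + b) - Ideal.Quotient.mk Iu (c + d) =
        (Ideal.Quotient.mk Iu a - Ideal.Quotient.mk Iu c) +
        (Ideal.Quotient.mk Iu b - Ideal.Quotient.mk Iu d) := by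
      simp only [map_add]; ring
    rw [this]
    exact Ideal.add_mem _ hac hbd
  · exact ⟨0, zero_mem _, by simp⟩
  · intro i _
    exact exists_deg0_congr_of_homogeneous 𝒜 N u hu H (SetLike.coe_mem _)

include hN hu H in
/-- every maximal ideal of the quotient is the image of `J` -/
theorem eq_map_J (M : Ideal (R ⧸ Iu)) [hM : M.IsMaximal] :
    M = (GrReg2.J 𝒜).map (Ideal.Quotient.mk Iu) := by
  apply le_antisymm _ (map_J_le 𝒜 N hN u hu M)
  intro x hx
  obtain ⟨r, rfl⟩ := Ideal.Quotient.mk_surjective x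
  obtain ⟨c, hc, hrc⟩ := exists_deg0_congr 𝒜 N u hu H r
  have hJM := map_J_le 𝒜 N hN u hu M
  have hcM : Ideal.Quotient.mk Iu c ∈ M := by
    have := M.sub_mem hx (hJM hrc)
    simpa using this
  have hcu : ¬ IsUnit c := by
    intro h
    exact hM.ne_top (Ideal.eq_top_of_isUnit_mem _ hcM (h.map _))
  have hcJ : Ideal.Quotient.mk Iu c ∈ (GrReg2.J 𝒜).map (Ideal.Quotient.mk Iu) :=
    Ideal.mem_map_of_mem _ (GrReg2.mem_J_of_homogeneous 𝒜 hc hcu)
  have := Ideal.add_mem _ hrc hcJ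
  simpa using this

include hN hu in
theorem span_ne_top : Iu ≠ ⊤ := by
  intro h
  apply GrReg3.J_sup_ne_top 𝒜 N hN u hu
  rw [h, sup_top_eq]

include hN hu H in
theorem isLocalRing_quotient : IsLocalRing (R ⧸ Iu) := by
  have hnt : Nontrivial (R ⧸ Iu) := Ideal.Quotient.nontrivial_iff.mpr (span_ne_top 𝒜 N hN u hu)
  obtain ⟨M, hM⟩ := Ideal.exists_maximal (R ⧸ Iu)
  apply IsLocalRing.of_unique_max_ideal
  refine ⟨M, hM, ?_⟩
  intro M' hM'
  rw [eq_map_J 𝒜 N hN u hu H M', eq_map_J 𝒜 N hN u hu H M]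

end Groth.Agent.Helper7.GrReg4
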