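import Mathlib
import Groth.Agent.Lead.RegLocal

/-!
# Regularity of a localization of `A ⧸ (f)` for `A` a regular ring

`f ∉ (q A_q)^2` is reformulated without localization, and the quotient criterion of
`Lead.RegLocal` is transported to `Localization.AtPrime P` for `P` a prime of `A ⧸ (f)`.
-/

set_option autoImplicit false

namespace Groth.Agent.Helper7.WReg1
open IsLocalRing

universe u

variable {A : Type u} [CommRing A]

/-- If `f/1 ∈ (q A_q)^2` then `s * f ∈ q^2` for some `s ∉ q`. -/
lemma exists_mul_mem_sq (q : Ideal A) [q.IsPrime] (f : A)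
    (h : algebraMap A (Localization.AtPrime q) f ∈ maximalIdeal (Localization.AtPrime q) ^ 2) :
    ∃ s : A, s ∉ q ∧ s * f ∈ q ^ 2 := by
  rw [← Localization.AtPrime.map_eq_maximalIdeal, ← Ideal.map_pow] at h
  obtain ⟨⟨a, s⟩, h⟩ := (IsLocalization.mem_map_algebraMap_iff q.primeCompl
    (Localization.AtPrime q)).mp h
  rw [← map_mul, IsLocalization.eq_iff_exists q.primeCompl] at h
  obtain ⟨c, hc⟩ := h
  refine ⟨c.1 * s.1, q.primeCompl.mul_mem c.2 s.2, ?_⟩
  have : (c.1 * s.1) * f = c.1 * a.1 := by rw [← hc]; ring
  rw [this]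
  exact Ideal.mul_mem_left _ _ a.2

/-- Regularity of `(A ⧸ f)_P` when no `s ∉ q` has `s * f ∈ q^2` (`q` the preimage of `P`). -/
theorem isRegularLocalRing_quotient [IsRegularRing A] (f : A)
    (P : Ideal (A ⧸ Ideal.span ({f} : Set A))) [hP : P.IsPrime]
    (h : ∀ s : A, s ∉ P.comap (Ideal.Quotient.mk (Ideal.span {f})) →
      s * f ∉ (P.comap (Ideal.Quotient.mk (Ideal.span {f}))) ^ 2) :
    IsRegularLocalRing (Localization.AtPrime P) := by
  set q := P.comap (Ideal.Quotient.mk (Ideal.span {f})) with hq
  have hqp : q.IsPrime := Ideal.comap_isPrime _ _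
  have hfq : f ∈ q := by
    rw [hq, Ideal.mem_comap,
      Ideal.Quotient.eq_zero_iff_mem.mpr (Ideal.mem_span_singleton_self f)]
    exact P.zero_mem
  have hx : algebraMap A (Localization.AtPrime q) f ∈ maximalIdeal (Localization.AtPrime q) :=
    (IsLocalization.AtPrime.to_map_mem_maximal_iff (Localization.AtPrime q) q f).mpr hfq
  have hx2 : algebraMap A (Localization.AtPrime q) f ∉
      maximalIdeal (Localization.AtPrime q) ^ 2 := by
    intro hmem
    obtain ⟨s, hs, hsf⟩ := exists_mul_mem_sq q f hmem
    exact h s hs hsf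
  obtain ⟨hreg, -⟩ := Groth.Agent.Lead.RegLocal.quotient_isRegularLocalRing hx hx2
  have hspan : Ideal.span {algebraMap A (Localization.AtPrime q) f} =
      (Ideal.span {f}).map (algebraMap A (Localization.AtPrime q)) := by
    rw [Ideal.map_span, Set.image_singleton]
  rw [hspan] at hreg
  have : P.LiesOver q := ⟨rfl⟩
  have hsub : Algebra.algebraMapSubmonoid (A ⧸ Ideal.span {f}) q.primeCompl = P.primeCompl :=
    Ideal.algebraMapSubmonoid_primeCompl_of_liesOver_surjective P q
      Ideal.Quotient.mk_surjective
  have : IsLocalization.AtPrime (Localization.AtPrime q ⧸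
      (Ideal.span {f}).map (algebraMap A (Localization.AtPrime q))) P := by
    have : IsLocalization (Algebra.algebraMapSubmonoid (A ⧸ Ideal.span {f}) q.primeCompl)
      (Localization.AtPrime q ⧸
        (Ideal.span {f}).map (algebraMap A (Localization.AtPrime q))) := inferInstance
    rwa [hsub] at this
  let e : (Localization.AtPrime q ⧸
      (Ideal.span {f}).map (algebraMap A (Localization.AtPrime q))) ≃+*
      Localization.AtPrime P :=
    (IsLocalization.algEquiv P.primeCompl _ _).toRingEquiv
  exact IsRegularLocalRing.of_ringEquiv e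


/-- Version for an arbitrary presentation `π : A ↠ B` with kernel `(f)`. -/
theorem isRegularLocalRing_of_surjective [IsRegularRing A] {B : Type u} [CommRing B]
    (π : A →+* B) (hπ : Function.Surjective π) (f : A) (hker : RingHom.ker π = Ideal.span {f})
    (P : Ideal B) [hP : P.IsPrime]
    (h : ∀ s : A, s ∉ P.comap π → s * f ∉ (P.comap π) ^ 2) :
    IsRegularLocalRing (Localization.AtPrime P) := by
  let e : (A ⧸ Ideal.span ({f} : Set A)) ≃+* B :=
    (Ideal.quotEquivOfEq hker.symm).trans (RingHom.quotientKerEquivOfSurjective hπ)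
  have he : ∀ a : A, e (Ideal.Quotient.mk _ a) = π a := fun a => by
    simp [e]
  have hcomap : (P.comap e).comap
      (Ideal.Quotient.mk (Ideal.span {f})) = P.comap π := by
    ext a
    simp only [Ideal.mem_comap]
    rw [he a]
  have hP' : (P.comap e).IsPrime :=
    Ideal.comap_isPrime _ _
  have hreg : IsRegularLocalRing (Localization.AtPrime
      (P.comap e)) := by
    apply isRegularLocalRing_quotient f
    rw [hcomap]
    exact h
  exact IsRegularLocalRing.of_ringEquiv <| IsLocalization.ringEquivOfRingEquiv
    (Localization.AtPrime (P.comap e))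
    (Localization.AtPrime P) e (e.map_primeCompl_comap_eq P)

end Groth.Agent.Helper7.WReg1
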