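import Mathlib
import Groth.Agent.Helper7.WReg1
import Groth.Agent.Helper7.GrReg1
import Groth.Agent.Helper7.GrReg2
import Groth.Agent.Helper7.GrReg3
import Groth.Agent.Helper7.GrReg4

/-!
# `R ⧸ (t - 1)` is a regular local ring for a regular ℤ-graded ring `R` with `R₀` local
-/

set_option autoImplicit false

namespace Groth.Agent.Helper7.GrReg5
open DirectSum Groth.Agent.Helper7 IsLocalRing

universe u

variable {R : Type u} [CommRing R] (𝒜 : ℤ → AddSubgroup R) [GradedRing 𝒜]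
  (N : ℕ) (hN : 0 < N) (u : Rˣ) (hu : (u : R) ∈ 𝒜 (N : ℤ))
  [IsLocalRing (SetLike.GradeZero.subring 𝒜)]
  (H : ∀ i : ℤ, ¬ ((N : ℤ) ∣ i) → ∀ a ∈ 𝒜 i, ¬ IsUnit a)

include hN hu H in
/-- the core theorem -/
theorem core [IsRegularRing R] :
    IsRegularLocalRing (R ⧸ (Ideal.span {(u : R) - 1} : Ideal R)) := by
  have hloc := GrReg4.isLocalRing_quotient 𝒜 N hN u hu H
  have hmax : maximalIdeal (R ⧸ (Ideal.span {(u : R) - 1} : Ideal R)) =
      (GrReg2.J 𝒜).map (Ideal.Quotient.mk _) :=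
    GrReg4.eq_map_J 𝒜 N hN u hu H _
  have hcomap : (maximalIdeal (R ⧸ (Ideal.span {(u : R) - 1} : Ideal R))).comap
      (Ideal.Quotient.mk (Ideal.span {(u : R) - 1})) =
      GrReg2.J 𝒜 ⊔ Ideal.span {(u : R) - 1} := by
    rw [hmax, Ideal.comap_map_of_surjective _ Ideal.Quotient.mk_surjective,
      ← RingHom.ker_eq_comap_bot, Ideal.mk_ker]
  have hreg : IsRegularLocalRing (Localization.AtPrime
      (maximalIdeal (R ⧸ (Ideal.span {(u : R) - 1} : Ideal R)))) := by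
    refine WReg1.isRegularLocalRing_of_surjective (Ideal.Quotient.mk (Ideal.span {(u : R) - 1}))
      Ideal.Quotient.mk_surjective ((u : R) - 1) Ideal.mk_ker _ ?_
    rw [hcomap]
    intro s hs
    exact GrReg3.not_mul_mem_sq 𝒜 N hN u hu s hs
  let e : (R ⧸ (Ideal.span {(u : R) - 1} : Ideal R)) ≃ₐ[R ⧸ (Ideal.span {(u : R) - 1} : Ideal R)]
      (Localization.AtPrime (maximalIdeal (R ⧸ (Ideal.span {(u : R) - 1} : Ideal R)))) :=
    IsLocalization.atUnits _ (maximalIdeal _).primeCompl (fun x ↦ by simpa using! fun a ↦ a)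
  exact IsRegularLocalRing.of_ringEquiv e.toRingEquiv.symm


omit [IsLocalRing (SetLike.GradeZero.subring 𝒜)] in
include hN hu in
/-- no homogeneous units in degrees not divisible by `N`, from minimality of `N` -/
theorem H_of_min (hmin : ∀ (n : ℤ), 0 < n → n < (N : ℤ) → ∀ s ∈ 𝒜 n, ¬ IsUnit s) :
    ∀ i : ℤ, ¬ ((N : ℤ) ∣ i) → ∀ a ∈ 𝒜 i, ¬ IsUnit a := by
  intro i hi a ha hau
  have hNpos : (0 : ℤ) < N := by exact_mod_cast hN
  have h1 : 0 < i % (N : ℤ) := (Int.emod_pos_of_not_dvd hi).resolve_left hNpos.ne'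
  have h2 : i % (N : ℤ) < N := Int.emod_lt_of_pos i hNpos
  have h3 := GrReg1.zpow_mem u hu (-(i / (N : ℤ)))
  have h4 := SetLike.mul_mem_graded ha h3
  have h5 : i + -(i / (N : ℤ)) * N = i % (N : ℤ) := by
    rw [Int.emod_def]; ring
  rw [h5] at h4
  exact hmin _ h1 h2 _ h4 (hau.mul (Units.isUnit _))

include hN in
/-- S14659 -/
theorem main [IsNoetherianRing R]
    (hreg : ∀ (p : Ideal R) [p.IsPrime], IsRegularLocalRing (Localization.AtPrime p))
    (t : R) (ht : t ∈ 𝒜 (N : ℤ)) (htu : IsUnit t)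
    (hmin : ∀ (n : ℤ), 0 < n → n < (N : ℤ) → ∀ s ∈ 𝒜 n, ¬ IsUnit s) :
    IsRegularLocalRing (R ⧸ Ideal.span {t - 1}) := by
  have : IsRegularRing R := isRegularRing_iff.mpr hreg
  have hu' : ((htu.unit : Rˣ) : R) ∈ 𝒜 (N : ℤ) := by rw [IsUnit.unit_spec]; exact ht
  have := core 𝒜 N hN htu.unit hu' (H_of_min 𝒜 N hN htu.unit hu' hmin)
  rwa [IsUnit.unit_spec] at this

end Groth.Agent.Helper7.GrReg5
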