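import Mathlib

/-!
# The coaction map `R → (R ⧸ I)[T;T⁻¹]` of a ℤ-graded ring
-/

set_option autoImplicit false

namespace Groth.Agent.Helper7.GrReg6
open DirectSum

universe u

variable {R : Type u} [CommRing R] (𝒜 : ℤ → AddSubgroup R) [GradedRing 𝒜] (I : Ideal R)

/-- the degree-`i` part of the coaction -/
noncomputable def deltaAux (i : ℤ) : 𝒜 i →+ AddMonoidAlgebra (R ⧸ I) ℤ :=
  ((AddMonoidAlgebra.singleAddHom i : (R ⧸ I) →+ AddMonoidAlgebra (R ⧸ I) ℤ).comp
    (Ideal.Quotient.mk I : R →+* R ⧸ I).toAddMonoidHom).comp (𝒜 i).subtype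

omit [GradedRing 𝒜] in
theorem deltaAux_apply (i : ℤ) (a : 𝒜 i) :
    deltaAux 𝒜 I i a = AddMonoidAlgebra.single i (Ideal.Quotient.mk I (a : R)) := rfl

/-- coaction followed by reduction modulo `I`: `r ↦ ∑ᵢ (rᵢ mod I) Tⁱ` -/
noncomputable def delta : R →+* AddMonoidAlgebra (R ⧸ I) ℤ :=
  (DirectSum.toSemiring (deltaAux 𝒜 I)
    (by
      rw [deltaAux_apply]
      rfl)
    (by
      intro i j ai aj
      rw [deltaAux_apply, deltaAux_apply, deltaAux_apply, AddMonoidAlgebra.single_mul_single,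
        ← map_mul]
      rfl)).comp (DirectSum.decomposeRingEquiv 𝒜).toRingHom

theorem delta_of_mem {i : ℤ} {a : R} (ha : a ∈ 𝒜 i) :
    delta 𝒜 I a = AddMonoidAlgebra.single i (Ideal.Quotient.mk I a) := by
  unfold delta
  rw [RingHom.comp_apply]
  have : (DirectSum.decomposeRingEquiv 𝒜).toRingHom a = DirectSum.of (fun i => 𝒜 i) i ⟨a, ha⟩ :=
    DirectSum.decompose_of_mem 𝒜 ha
  rw [this, DirectSum.toSemiring_of, deltaAux_apply]

/-- coefficients of the coaction -/
theorem coeff_delta (r : R) (d : ℤ) :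
    (delta 𝒜 I r).coeff d = Ideal.Quotient.mk I (decompose 𝒜 r d : R) := by
  classical
  induction r using DirectSum.Decomposition.inductionOn 𝒜 with
  | zero => simp
  | homogeneous a =>
    rename_i i
    rw [delta_of_mem 𝒜 I a.2, AddMonoidAlgebra.coeff_single, Finsupp.single_apply]
    split_ifs with h
    · subst h
      rw [decompose_of_mem_same 𝒜 a.2]
    · rw [decompose_of_mem_ne 𝒜 a.2 h, map_zero]
  | add a b ha hb =>
    rw [map_add, AddMonoidAlgebra.coeff_add, Finsupp.add_apply, ha, hb, decompose_add,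
      DirectSum.add_apply, AddSubgroup.coe_add, map_add]

end Groth.Agent.Helper7.GrReg6
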