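import Mathlib
import Groth.Agent.Helper7.GrReg1
import Groth.Agent.Helper7.GrReg2
import Groth.Agent.Helper7.GrReg3

/-!
# Window lemma: a multiple of `t - 1` supported in `N` consecutive degrees vanishes
-/

set_option autoImplicit false

namespace Groth.Agent.Helper7.GrReg7
open DirectSum Groth.Agent.Helper7

universe u

variable {R : Type u} [CommRing R] (𝒜 : ℤ → AddSubgroup R) [GradedRing 𝒜]
  (N : ℕ) (hN : 0 < N) (u : Rˣ) (hu : (u : R) ∈ 𝒜 (N : ℤ))

include hu in
theorem decompose_sub_one_mul (x : R) (i : ℤ) :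
    (decompose 𝒜 (((u : R) - 1) * x) i : R) =
      (u : R) * (decompose 𝒜 x (i - N) : R) - (decompose 𝒜 x i : R) := by
  have := GrReg3.decompose_pow_sub_one_mul 𝒜 N u hu 1 x i
  rw [pow_one, Nat.cast_one, one_mul] at this
  exact this

include hN hu in
theorem window (d : ℤ) {y : R} (hy : y ∈ Ideal.span {(u : R) - 1})
    (hout : ∀ i : ℤ, (i ≤ d - N ∨ d < i) → (decompose 𝒜 y i : R) = 0) (i : ℤ) :
    (decompose 𝒜 y i : R) = 0 := by
  obtain ⟨w, rfl⟩ := Ideal.mem_span_singleton'.mp hy
  rw [mul_comm] at hout ⊢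
  obtain ⟨B, hB⟩ := GrReg3.exists_bound 𝒜 w
  have hNpos : (0 : ℤ) < N := by exact_mod_cast hN
  have hcancel : ∀ z : R, (u : R) * z = 0 → z = 0 := fun z hz => by
    have := congrArg (fun a => ((u⁻¹ : Rˣ) : R) * a) hz
    simpa [← mul_assoc] using this
  -- upper part
  have hA : ∀ n : ℕ, ∀ j : ℤ, d - N < j → (B : ℤ) < j + n * N → (decompose 𝒜 w j : R) = 0 := by
    intro n
    induction n with
    | zero =>
      intro j _ hj
      apply hB
      rw [lt_abs]; left; simpa using hj
    | succ n ih =>
      intro j hj1 hj2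
      have h1 : (decompose 𝒜 w (j + N) : R) = 0 := by
        apply ih (j + N) (by linarith)
        push_cast at hj2 ⊢
        linarith
      have h2 := hout (j + N) (Or.inr (by linarith))
      rw [decompose_sub_one_mul 𝒜 N u hu, h1, sub_zero, add_sub_cancel_right] at h2
      exact hcancel _ h2
  have hA' : ∀ j : ℤ, d - N < j → (decompose 𝒜 w j : R) = 0 := by
    intro j hj
    apply hA ((B : ℤ) - j).toNat.succ j hj
    have := Int.self_le_toNat ((B : ℤ) - j)
    push_cast
    nlinarith
  -- lower part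
  have hC : ∀ n : ℕ, ∀ j : ℤ, j ≤ d - N → j - n * N < -(B : ℤ) → (decompose 𝒜 w j : R) = 0 := by
    intro n
    induction n with
    | zero =>
      intro j _ hj
      apply hB
      rw [lt_abs]; right
      simp only [Nat.cast_zero, zero_mul, sub_zero] at hj
      linarith
    | succ n ih =>
      intro j hj1 hj2
      have h1 : (decompose 𝒜 w (j - N) : R) = 0 := by
        apply ih (j - N) (by linarith)
        push_cast at hj2 ⊢
        linarith
      have h2 := hout j (Or.inl hj1)
      rw [decompose_sub_one_mul 𝒜 N u hu, h1, mul_zero, zero_sub, neg_eq_zero] at h2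
      exact h2
  have hC' : ∀ j : ℤ, j ≤ d - N → (decompose 𝒜 w j : R) = 0 := by
    intro j hj
    apply hC ((B : ℤ) + j).toNat.succ j hj
    have := Int.self_le_toNat ((B : ℤ) + j)
    push_cast
    nlinarith
  have hall : ∀ j : ℤ, (decompose 𝒜 w j : R) = 0 := by
    intro j
    by_cases hj : j ≤ d - N
    · exact hC' j hj
    · exact hA' j (by linarith)
  rw [decompose_sub_one_mul 𝒜 N u hu, hall, hall, mul_zero, sub_zero]

end Groth.Agent.Helper7.GrReg7
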