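import Mathlib
import Groth.Agent.Helper7.GrReg1
import Groth.Agent.Helper7.GrReg4
import Groth.Agent.Helper7.GrReg6
import Groth.Agent.Helper7.GrReg7

/-!
# `R[U]/(U^N - t) ≃ (R ⧸ (t - 1))[T;T⁻¹]` for a homogeneous unit `t` of degree `N`
-/

set_option autoImplicit false

namespace Groth.Agent.Helper7.GrReg8
open DirectSum Polynomial Groth.Agent.Helper7

universe u

variable {R : Type u} [CommRing R] (𝒜 : ℤ → AddSubgroup R) [GradedRing 𝒜]
  (N : ℕ) (hN : 0 < N) (u : Rˣ) (hu : (u : R) ∈ 𝒜 (N : ℤ))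

local notation "Iu" => (Ideal.span {((u : Rˣ) : R) - 1} : Ideal R)
local notation "δ" => GrReg6.delta 𝒜 (Ideal.span {((u : Rˣ) : R) - 1} : Ideal R)

/-- the variable `T` -/
noncomputable def Tv : AddMonoidAlgebra (R ⧸ Iu) ℤ := AddMonoidAlgebra.single 1 1

include hu in
theorem delta_u : δ (u : R) = AddMonoidAlgebra.single (N : ℤ) 1 := by
  rw [GrReg6.delta_of_mem 𝒜 _ hu, GrReg4.mk_u]

theorem Tv_pow (n : ℕ) : (Tv u) ^ n = AddMonoidAlgebra.single (n : ℤ) 1 := by
  unfold Tv
  rw [AddMonoidAlgebra.single_pow, one_pow]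
  simp

include hu in
theorem eval₂_eq_zero : (X ^ N - C (u : R) : R[X]).eval₂ δ (Tv u) = 0 := by
  rw [eval₂_sub, eval₂_pow, eval₂_X, eval₂_C, delta_u 𝒜 N u hu, Tv_pow, sub_self]

/-- the comparison map -/
noncomputable def Psi : AdjoinRoot (X ^ N - C (u : R) : R[X]) →+* AddMonoidAlgebra (R ⧸ Iu) ℤ :=
  AdjoinRoot.lift δ (Tv u) (eval₂_eq_zero 𝒜 N u hu)

theorem Psi_mk (p : R[X]) : Psi 𝒜 N u hu (AdjoinRoot.mk _ p) = p.eval₂ δ (Tv u) :=
  AdjoinRoot.lift_mk _ p

/-- coefficients of the image of a polynomial of degree `< N` -/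
theorem coeff_eval₂ (p : R[X]) (hp : p.natDegree < N) (d : ℤ) :
    (p.eval₂ δ (Tv u)).coeff d =
      Ideal.Quotient.mk Iu (∑ j ∈ Finset.range N, (decompose 𝒜 (p.coeff j) (d - j) : R)) := by
  rw [eval₂_eq_sum_range' _ hp, AddMonoidAlgebra.coeff_sum, Finset.sum_apply', map_sum]
  refine Finset.sum_congr rfl fun j _ => ?_
  rw [Tv_pow, AddMonoidAlgebra.coeff_mul_single_apply, mul_one, GrReg6.coeff_delta]
  rfl

/-- components of the window sums -/
theorem decompose_window_sum (c : ℕ → R) (d i : ℤ) :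
    (decompose 𝒜 (∑ j ∈ Finset.range N, (decompose 𝒜 (c j) (d - j) : R)) i : R) =
      ∑ j ∈ Finset.range N, if d - j = i then (decompose 𝒜 (c j) i : R) else 0 := by
  classical
  rw [← GradedRing.proj_apply, map_sum]
  refine Finset.sum_congr rfl fun j _ => ?_
  rw [GradedRing.proj_apply]
  split_ifs with h
  · rw [← h]
    exact decompose_of_mem_same 𝒜 (SetLike.coe_mem _)
  · exact decompose_of_mem_ne 𝒜 (SetLike.coe_mem _) h

include hN in
theorem Psi_injective : Function.Injective (Psi 𝒜 N u hu) := by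
  classical
  rw [injective_iff_map_eq_zero]
  intro b hb
  by_cases hR : Nontrivial R
  swap
  · rw [not_nontrivial_iff_subsingleton] at hR
    have h1 : (1 : AdjoinRoot (X ^ N - C (u : R) : R[X])) = 0 := by
      rw [← map_one (AdjoinRoot.of _), Subsingleton.elim (1 : R) 0, map_zero]
    rw [← mul_one b, h1, mul_zero]
  have hf : (X ^ N - C (u : R) : R[X]).Monic := monic_X_pow_sub_C _ hN.ne'
  have hfd : (X ^ N - C (u : R) : R[X]).natDegree = N := natDegree_X_pow_sub_C
  have hf1 : (X ^ N - C (u : R) : R[X]) ≠ 1 := by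
    intro h
    rw [h, natDegree_one] at hfd
    omega
  obtain ⟨p, rfl⟩ := AdjoinRoot.mk_surjective b
  set q := p %ₘ (X ^ N - C (u : R) : R[X]) with hq
  have hmk : AdjoinRoot.mk (X ^ N - C (u : R) : R[X]) p = AdjoinRoot.mk _ q := by
    rw [AdjoinRoot.mk_eq_mk, hq, modByMonic_eq_sub_mul_div, sub_sub_cancel]
    exact dvd_mul_right _ _
  have hqd : q.natDegree < N := by
    have := natDegree_modByMonic_lt p hf hf1
    rwa [hfd] at this
  rw [hmk] at hb ⊢
  rw [Psi_mk] at hb
  -- the window sums lie in the ideal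
  have hy : ∀ d : ℤ, (∑ j ∈ Finset.range N, (decompose 𝒜 (q.coeff j) (d - j) : R)) ∈ Iu := by
    intro d
    have := coeff_eval₂ 𝒜 N u q hqd d
    rw [hb] at this
    exact Ideal.Quotient.eq_zero_iff_mem.mp this.symm
  -- hence all their components vanish
  have hz : ∀ d i : ℤ,
      (decompose 𝒜 (∑ j ∈ Finset.range N, (decompose 𝒜 (q.coeff j) (d - j) : R)) i : R) = 0 := by
    intro d i
    refine GrReg7.window 𝒜 N hN u hu d (hy d) ?_ i
    intro i hi
    rw [decompose_window_sum]
    apply Finset.sum_eq_zero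
    intro j hj
    rw [if_neg]
    have := Finset.mem_range.mp hj
    omega
  -- so all coefficients vanish
  have hcoeff : ∀ j₀ : ℕ, j₀ < N → q.coeff j₀ = 0 := by
    intro j₀ hj₀
    have hall : ∀ i : ℤ, (decompose 𝒜 (q.coeff j₀) i : R) = 0 := by
      intro i
      have h := hz (i + j₀) i
      rw [decompose_window_sum, Finset.sum_eq_single j₀] at h
      · rwa [if_pos (by ring)] at h
      · intro j _ hj
        rw [if_neg]
        intro h'
        apply hj
        have : (j : ℤ) = j₀ := by linarith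
        exact_mod_cast this
      · intro h'
        exact absurd (Finset.mem_range.mpr hj₀) h'
    rw [← sum_support_decompose 𝒜 (q.coeff j₀)]
    exact Finset.sum_eq_zero fun i _ => hall i
  have hq0 : q = 0 := by
    ext j
    rw [coeff_zero]
    by_cases hj : j < N
    · exact hcoeff j hj
    · exact coeff_eq_zero_of_natDegree_lt (by omega)
  rw [hq0, map_zero]

end Groth.Agent.Helper7.GrReg8
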