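import Mathlib
import Groth.Agent.Helper7.GrReg1
import Groth.Agent.Helper7.GrReg4
import Groth.Agent.Helper7.GrReg6
import Groth.Agent.Helper7.GrReg8

/-!
# Surjectivity of `R[U]/(U^N - t) → (R ⧸ (t - 1))[T;T⁻¹]`
-/

set_option autoImplicit false

namespace Groth.Agent.Helper7.GrReg9
open DirectSum Polynomial Groth.Agent.Helper7

universe u

variable {R : Type u} [CommRing R] (𝒜 : ℤ → AddSubgroup R) [GradedRing 𝒜]
  (N : ℕ) (hN : 0 < N) (u : Rˣ) (hu : (u : R) ∈ 𝒜 (N : ℤ))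

local notation "Iu" => (Ideal.span {((u : Rˣ) : R) - 1} : Ideal R)
local notation "δ" => GrReg6.delta 𝒜 (Ideal.span {((u : Rˣ) : R) - 1} : Ideal R)
local notation "Ψ" => GrReg8.Psi 𝒜 N u hu

theorem Psi_root : Ψ (AdjoinRoot.root _) = GrReg8.Tv u := AdjoinRoot.lift_root _

theorem Psi_of (r : R) : Ψ (AdjoinRoot.of _ r) = δ r := AdjoinRoot.lift_of _

theorem single_one_mem : (AddMonoidAlgebra.single (1 : ℤ) (1 : R ⧸ Iu)) ∈ (Ψ).range :=
  ⟨AdjoinRoot.root _, Psi_root 𝒜 N u hu⟩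

include hN in
theorem single_neg_one_mem : (AddMonoidAlgebra.single (-1 : ℤ) (1 : R ⧸ Iu)) ∈ (Ψ).range := by
  refine ⟨AdjoinRoot.root _ ^ (N - 1) * AdjoinRoot.of _ ((u⁻¹ : Rˣ) : R), ?_⟩
  rw [map_mul, map_pow, Psi_root, Psi_of, GrReg8.Tv_pow]
  have h1 : ((u⁻¹ : Rˣ) : R) ∈ 𝒜 (-1 * (N : ℤ)) := by
    have := GrReg1.zpow_mem u hu (-1)
    rwa [zpow_neg_one] at this
  rw [GrReg6.delta_of_mem 𝒜 _ h1, AddMonoidAlgebra.single_mul_single, one_mul]
  have h2 : Ideal.Quotient.mk Iu ((u⁻¹ : Rˣ) : R) = 1 := by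
    have := GrReg4.mk_zpow u (-1)
    rwa [zpow_neg_one] at this
  rw [h2]
  congr 1
  have : ((N - 1 : ℕ) : ℤ) = (N : ℤ) - 1 := by
    rw [Nat.cast_sub hN]; simp
  rw [this]; ring

include hN in
theorem single_int_mem (d : ℤ) : (AddMonoidAlgebra.single d (1 : R ⧸ Iu)) ∈ (Ψ).range := by
  rcases Int.eq_nat_or_neg d with ⟨n, rfl | rfl⟩
  · have := Subring.pow_mem _ (single_one_mem 𝒜 N u hu) n
    rwa [AddMonoidAlgebra.single_pow, one_pow, nsmul_eq_mul, mul_one] at this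
  · have := Subring.pow_mem _ (single_neg_one_mem 𝒜 N hN u hu) n
    rwa [AddMonoidAlgebra.single_pow, one_pow, nsmul_eq_mul, mul_neg, mul_one] at this

include hN in
theorem single_zero_mk_mem_of_homogeneous {i : ℤ} {a : R} (ha : a ∈ 𝒜 i) :
    (AddMonoidAlgebra.single (0 : ℤ) (Ideal.Quotient.mk Iu a)) ∈ (Ψ).range := by
  have h1 : δ a ∈ (Ψ).range := ⟨AdjoinRoot.of _ a, Psi_of 𝒜 N u hu a⟩
  have h2 := Subring.mul_mem _ h1 (single_int_mem 𝒜 N hN u hu (-i))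
  rwa [GrReg6.delta_of_mem 𝒜 _ ha, AddMonoidAlgebra.single_mul_single, mul_one,
    add_neg_cancel] at h2

include hN in
theorem single_zero_mem (c : R ⧸ Iu) :
    (AddMonoidAlgebra.single (0 : ℤ) c) ∈ (Ψ).range := by
  classical
  obtain ⟨r, rfl⟩ := Ideal.Quotient.mk_surjective c
  rw [← sum_support_decompose 𝒜 r, map_sum]
  have : (AddMonoidAlgebra.single (0 : ℤ)
      (∑ i ∈ (decompose 𝒜 r).support, Ideal.Quotient.mk Iu (decompose 𝒜 r i : R))) =
      ∑ i ∈ (decompose 𝒜 r).support,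
        AddMonoidAlgebra.single (0 : ℤ) (Ideal.Quotient.mk Iu (decompose 𝒜 r i : R)) :=
    map_sum (AddMonoidAlgebra.singleAddHom (0 : ℤ)) _ _
  rw [this]
  exact Subring.sum_mem _ fun i _ =>
    single_zero_mk_mem_of_homogeneous 𝒜 N hN u hu (SetLike.coe_mem _)

include hN in
theorem Psi_surjective : Function.Surjective Ψ := by
  rw [← RingHom.range_eq_top, eq_top_iff]
  intro x _
  induction x using AddMonoidAlgebra.induction_linear with
  | zero => exact Subring.zero_mem _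
  | add x y hx hy => exact Subring.add_mem _ (hx trivial) (hy trivial)
  | single d c =>
    have := Subring.mul_mem _ (single_zero_mem 𝒜 N hN u hu c) (single_int_mem 𝒜 N hN u hu d)
    rwa [AddMonoidAlgebra.single_mul_single, mul_one, zero_add] at this

/-- the comparison isomorphism -/
noncomputable def equiv (hN : 0 < N) :
    AdjoinRoot (X ^ N - C (u : R) : R[X]) ≃+* AddMonoidAlgebra (R ⧸ Iu) ℤ :=
  RingEquiv.ofBijective Ψ ⟨GrReg8.Psi_injective 𝒜 N hN u hu, Psi_surjective 𝒜 N hN u hu⟩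

end Groth.Agent.Helper7.GrReg9
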