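import Mathlib
import Groth.Agent.Helper2.SerreLoc
import Groth.Agent.Helper7.GrReg1
import Groth.Agent.Helper7.GrReg2
import Groth.Agent.Helper7.GrReg5
import Groth.Agent.Helper7.GrReg9

/-!
# `R[U]/(U^N - t)` is regular (S14658)
-/

set_option autoImplicit false

namespace Groth.Agent.Helper7.GrReg10
open DirectSum Polynomial Groth.Agent.Helper7 IsLocalRing

universe u

/-- a localization of a regular ring is regular -/
theorem isRegularRing_of_isLocalization {A : Type u} [CommRing A] (M : Submonoid A)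
    (S : Type u) [CommRing S] [Algebra A S] [IsLocalization M S] [IsRegularRing A] :
    IsRegularRing S := by
  have : IsNoetherianRing S := IsLocalization.isNoetherianRing M S inferInstance
  rw [isRegularRing_iff]
  intro Q hQ
  have : IsLocalization.AtPrime (Localization.AtPrime Q) (Q.comap (algebraMap A S)) :=
    IsLocalization.isLocalization_isLocalization_atPrime_isLocalization M (Localization.AtPrime Q) Q
  exact IsRegularLocalRing.of_ringEquiv
    (R := Localization.AtPrime (Q.comap (algebraMap A S)))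
    (IsLocalization.algEquiv (Q.comap (algebraMap A S)).primeCompl
      (Localization.AtPrime (Q.comap (algebraMap A S))) (Localization.AtPrime Q)).toRingEquiv

theorem isRegularRing_laurent (C : Type u) [CommRing C] [IsRegularRing C] :
    IsRegularRing (LaurentPolynomial C) :=
  isRegularRing_of_isLocalization (A := Polynomial C) (Submonoid.powers (X : Polynomial C))
    (LaurentPolynomial C)

variable {R : Type u} [CommRing R] (𝒜 : ℤ → AddSubgroup R) [GradedRing 𝒜]
  (N : ℕ) (hN : 0 < N) (u : Rˣ) (hu : (u : R) ∈ 𝒜 (N : ℤ))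
  [IsLocalRing (SetLike.GradeZero.subring 𝒜)]

include hN hu in
/-- no homogeneous units in degrees not divisible by `N`, from the product hypothesis -/
theorem H_of_mul
    (hm : ∀ (i j : ℤ), 0 < i → 0 < j → i + j = (N : ℤ) → ∀ a ∈ 𝒜 i, ∀ b ∈ 𝒜 j,
      ∃ c : SetLike.GradeZero.subring 𝒜, c ∈ maximalIdeal (SetLike.GradeZero.subring 𝒜) ∧
        a * b = (c : R) * (u : R)) :
    ∀ i : ℤ, ¬ ((N : ℤ) ∣ i) → ∀ a ∈ 𝒜 i, ¬ IsUnit a := by
  intro i hi a ha hau
  have hNpos : (0 : ℤ) < N := by exact_mod_cast hN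
  have h1 : 0 < i % (N : ℤ) := (Int.emod_pos_of_not_dvd hi).resolve_left hNpos.ne'
  have h2 : i % (N : ℤ) < N := Int.emod_lt_of_pos i hNpos
  have h3 := GrReg1.zpow_mem u hu (-(i / (N : ℤ)))
  have h4 := SetLike.mul_mem_graded ha h3
  have h5 : i + -(i / (N : ℤ)) * N = i % (N : ℤ) := by
    rw [Int.emod_def]; ring
  rw [h5] at h4
  have h4u : IsUnit (a * ((u ^ (-(i / (N : ℤ))) : Rˣ) : R)) := hau.mul (Units.isUnit _)
  obtain ⟨s, hs, has⟩ := GrReg1.exists_inv_mem 𝒜 h4 h4u
  have h6 : s * (u : R) ∈ 𝒜 (-(i % (N : ℤ)) + N) := SetLike.mul_mem_graded hs hu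
  obtain ⟨c, hc, hcm⟩ := hm (i % (N : ℤ)) (-(i % (N : ℤ)) + N) h1 (by linarith) (by ring) _ h4 _ h6
  rw [← mul_assoc, has, one_mul] at hcm
  have hc1 : (c : R) = 1 := by
    have := congrArg (fun z => z * ((u⁻¹ : Rˣ) : R)) hcm
    simp only [Units.mul_inv, mul_assoc, mul_one] at this
    exact this.symm
  have : c = 1 := Subtype.ext hc1
  rw [this] at hc
  exact (maximalIdeal (SetLike.GradeZero.subring 𝒜)).ne_top_iff_one.mp
    (IsLocalRing.maximalIdeal.isMaximal _).ne_top hc

include hN hu in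
/-- the regular-ring form of S14658 -/
theorem isRegularRing_adjoinRoot [IsRegularRing R]
    (H : ∀ i : ℤ, ¬ ((N : ℤ) ∣ i) → ∀ a ∈ 𝒜 i, ¬ IsUnit a) :
    IsRegularRing (AdjoinRoot (X ^ N - C (u : R) : R[X])) := by
  have h1 : IsRegularLocalRing (R ⧸ (Ideal.span {(u : R) - 1} : Ideal R)) :=
    GrReg5.core 𝒜 N hN u hu H
  have h2 : IsRegularRing (R ⧸ (Ideal.span {(u : R) - 1} : Ideal R)) :=
    Groth.Agent.Helper2.SerreLoc.isRegularRing_of_isRegularLocalRing _
  have h3 : IsRegularRing (LaurentPolynomial (R ⧸ (Ideal.span {(u : R) - 1} : Ideal R))) :=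
    isRegularRing_laurent _
  exact IsRegularRing.of_ringEquiv (GrReg9.equiv 𝒜 N u hu hN).symm

include hN in
/-- S14658 -/
theorem main [IsNoetherianRing R]
    (hreg : ∀ (p : Ideal R) [p.IsPrime], IsRegularLocalRing (Localization.AtPrime p))
    (t : R) (ht : t ∈ 𝒜 (N : ℤ)) (htu : IsUnit t)
    (hm : ∀ (i j : ℤ), 0 < i → 0 < j → i + j = (N : ℤ) → ∀ a ∈ 𝒜 i, ∀ b ∈ 𝒜 j,
      ∃ c : SetLike.GradeZero.subring 𝒜, c ∈ maximalIdeal (SetLike.GradeZero.subring 𝒜) ∧
        a * b = (c : R) * t)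
    (q : Ideal (AdjoinRoot (X ^ N - C t : R[X]))) [q.IsPrime] :
    IsRegularLocalRing (Localization.AtPrime q) := by
  have : IsRegularRing R := isRegularRing_iff.mpr hreg
  obtain ⟨u, rfl⟩ := htu
  have := isRegularRing_adjoinRoot 𝒜 N hN u ht (H_of_mul 𝒜 N hN u ht hm)
  exact IsRegularRing.isRegularLocalRing_localization q

end Groth.Agent.Helper7.GrReg10
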