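import Mathlib

set_option autoImplicit false
universe u

namespace Groth.Agent.Helper7.GrTail

open DirectSum

variable {R A : Type u} [CommRing R] [CommRing A] [Algebra R A] (𝒜 : ℕ → Submodule R A) [GradedAlgebra 𝒜]

/-- the ideal `⊕ {x ∈ S_n | f x ∈ p (n₁ + n)}` -/
def mkIdeal (p : ℕ → AddSubgroup A) (n₀ n₁ : ℕ) (hn₁ : n₀ ≤ n₁) (f : A)
    (h1 : ∀ m n : ℕ, n₀ ≤ n → ∀ a ∈ 𝒜 m, ∀ b ∈ p n, a * b ∈ p (m + n)) : Ideal A where
  carrier := {x | ∀ n, f * (decompose 𝒜 x n : A) ∈ p (n₁ + n)}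
  add_mem' := by
    intro a b ha hb n
    simp only [decompose_add, DirectSum.add_apply, Submodule.coe_add, mul_add]
    exact (p _).add_mem (ha n) (hb n)
  zero_mem' := by
    intro n
    simp only [decompose_zero, DirectSum.zero_apply, ZeroMemClass.coe_zero, mul_zero]
    exact (p _).zero_mem
  smul_mem' := by
    intro c x hx
    simp only [smul_eq_mul, Set.mem_ofPred_eq] at hx ⊢
    induction c using DirectSum.Decomposition.inductionOn 𝒜 with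
    | zero =>
      intro n
      simp only [zero_mul, decompose_zero, DirectSum.zero_apply, ZeroMemClass.coe_zero, mul_zero]
      exact (p _).zero_mem
    | @homogeneous m c =>
      intro n
      by_cases hmn : m ≤ n
      · rw [DirectSum.coe_decompose_mul_of_left_mem_of_le 𝒜 c.2 hmn]
        have := h1 m (n₁ + (n - m)) (by omega) c c.2 _ (hx (n - m))
        have e : m + (n₁ + (n - m)) = n₁ + n := by omega
        rw [e] at this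
        convert this using 1
        ring
      · rw [DirectSum.coe_decompose_mul_of_left_mem_of_not_le 𝒜 c.2 hmn, mul_zero]
        exact (p _).zero_mem
    | add c₁ c₂ h₁ h₂ =>
      intro n
      simp only [add_mul, decompose_add, DirectSum.add_apply, Submodule.coe_add, mul_add]
      exact (p _).add_mem (h₁ n) (h₂ n)

variable {𝒜} in
lemma mem_mkIdeal_iff (p : ℕ → AddSubgroup A) (n₀ n₁ : ℕ) (hn₁ : n₀ ≤ n₁) (f : A)
    (h1 : ∀ m n : ℕ, n₀ ≤ n → ∀ a ∈ 𝒜 m, ∀ b ∈ p n, a * b ∈ p (m + n)) (x : A) :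
    x ∈ mkIdeal 𝒜 p n₀ n₁ hn₁ f h1 ↔ ∀ n, f * (decompose 𝒜 x n : A) ∈ p (n₁ + n) := Iff.rfl

variable {𝒜} in
lemma mem_mkIdeal_of_mem (p : ℕ → AddSubgroup A) (n₀ n₁ : ℕ) (hn₁ : n₀ ≤ n₁) (f : A)
    (h1 : ∀ m n : ℕ, n₀ ≤ n → ∀ a ∈ 𝒜 m, ∀ b ∈ p n, a * b ∈ p (m + n)) {x : A} {n : ℕ}
    (hx : x ∈ 𝒜 n) :
    x ∈ mkIdeal 𝒜 p n₀ n₁ hn₁ f h1 ↔ f * x ∈ p (n₁ + n) := by
  rw [mem_mkIdeal_iff]
  constructor
  · intro h
    have := h n
    rwa [DirectSum.decompose_of_mem_same 𝒜 hx] at this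
  · intro h k
    by_cases hk : k = n
    · subst hk
      rwa [DirectSum.decompose_of_mem_same 𝒜 hx]
    · rw [DirectSum.decompose_of_mem_ne 𝒜 hx (Ne.symm hk), mul_zero]
      exact (p _).zero_mem

lemma isHomogeneous_mkIdeal (p : ℕ → AddSubgroup A) (n₀ n₁ : ℕ) (hn₁ : n₀ ≤ n₁) (f : A)
    (h1 : ∀ m n : ℕ, n₀ ≤ n → ∀ a ∈ 𝒜 m, ∀ b ∈ p n, a * b ∈ p (m + n)) :
    (mkIdeal 𝒜 p n₀ n₁ hn₁ f h1).IsHomogeneous 𝒜 := by
  intro i x hx
  rw [mem_mkIdeal_of_mem p n₀ n₁ hn₁ f h1 (SetLike.coe_mem _)]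
  exact hx i

lemma exists_homogeneous_notMem (𝔭 : HomogeneousIdeal 𝒜)
    (h : ¬ HomogeneousIdeal.irrelevant 𝒜 ≤ 𝔭) :
    ∃ k : ℕ, 0 < k ∧ ∃ f ∈ 𝒜 k, f ∉ 𝔭.toIdeal := by
  classical
  by_contra hcon
  push_neg at hcon
  apply h
  intro x hx
  rw [HomogeneousIdeal.mem_irrelevant_iff] at hx
  show x ∈ 𝔭.toIdeal
  rw [← DirectSum.sum_support_decompose 𝒜 x]
  refine Ideal.sum_mem _ (fun i _ => ?_)
  rcases Nat.eq_zero_or_pos i with rfl | hi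
  · have : ((decompose 𝒜 x 0 : 𝒜 0) : A) = 0 := by
      simpa [GradedRing.proj_apply] using hx
    rw [this]; exact zero_mem _
  · exact hcon i hi _ (SetLike.coe_mem _)

theorem main (n₀ : ℕ) (hn₀ : 0 < n₀) (p : ℕ → AddSubgroup A)
    (hp : ∀ n : ℕ, n₀ ≤ n → (p n : Set A) ⊆ 𝒜 n) :
    ((∃ 𝔭 : HomogeneousIdeal 𝒜, 𝔭.toIdeal.IsPrime ∧ ¬ HomogeneousIdeal.irrelevant 𝒜 ≤ 𝔭 ∧
        ∀ n : ℕ, n₀ ≤ n → (𝔭.toIdeal : Set A) ∩ 𝒜 n = p n) ↔
      ((∀ m n : ℕ, n₀ ≤ n → ∀ a ∈ 𝒜 m, ∀ b ∈ p n, a * b ∈ p (m + n)) ∧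
        (∀ m n : ℕ, n₀ ≤ m → n₀ ≤ n → ∀ f ∈ 𝒜 m, ∀ g ∈ 𝒜 n, f * g ∈ p (m + n) → f ∈ p m ∨ g ∈ p n) ∧
        ∃ n : ℕ, n₀ ≤ n ∧ (p n : Set A) ≠ 𝒜 n)) ∧
    ∀ 𝔭 𝔮 : HomogeneousIdeal 𝒜, 𝔭.toIdeal.IsPrime → 𝔮.toIdeal.IsPrime →
      ¬ HomogeneousIdeal.irrelevant 𝒜 ≤ 𝔭 → ¬ HomogeneousIdeal.irrelevant 𝒜 ≤ 𝔮 →
      (∀ n : ℕ, n₀ ≤ n → (𝔭.toIdeal : Set A) ∩ 𝒜 n = p n) →
      (∀ n : ℕ, n₀ ≤ n → (𝔮.toIdeal : Set A) ∩ 𝒜 n = p n) →
      𝔭 = 𝔮 := by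
  classical
  refine ⟨⟨?_, ?_⟩, ?_⟩
  · rintro ⟨𝔭, hprime, hirr, htail⟩
    have hmem : ∀ n, n₀ ≤ n → ∀ x, x ∈ p n ↔ (x ∈ 𝔭.toIdeal ∧ x ∈ 𝒜 n) := by
      intro n hn x
      have := Set.ext_iff.1 (htail n hn) x
      simpa using this.symm
    refine ⟨?_, ?_, ?_⟩
    · intro m n hn a ha b hb
      rw [hmem (m + n) (by omega)]
      rw [hmem n hn] at hb
      exact ⟨Ideal.mul_mem_left _ _ hb.1, SetLike.mul_mem_graded ha hb.2⟩
    · intro m n hm hn f hf g hg hfg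
      rw [hmem (m + n) (by omega)] at hfg
      rcases hprime.mem_or_mem hfg.1 with h | h
      · left; rw [hmem m hm]; exact ⟨h, hf⟩
      · right; rw [hmem n hn]; exact ⟨h, hg⟩
    · by_contra hcon
      push_neg at hcon
      obtain ⟨k, hk, f, hfk, hf⟩ := exists_homogeneous_notMem 𝒜 𝔭 hirr
      apply hf
      apply hprime.mem_of_pow_mem n₀
      have h1 : f ^ n₀ ∈ 𝒜 (n₀ • k) := SetLike.pow_mem_graded n₀ hfk
      have h2 : n₀ ≤ n₀ • k := by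
        rw [smul_eq_mul]; exact Nat.le_mul_of_pos_right _ hk
      have h3 : f ^ n₀ ∈ (p (n₀ • k) : Set A) := by
        rw [hcon _ h2]; exact h1
      exact ((hmem _ h2 _).1 h3).1
  · rintro ⟨h1, h2, n₁, hn₁, hne⟩
    -- pick f ∈ 𝒜 n₁ \ p n₁
    have hex : ∃ f ∈ 𝒜 n₁, f ∉ p n₁ := by
      by_contra hcon
      push_neg at hcon
      apply hne
      exact Set.Subset.antisymm (hp n₁ hn₁) (fun x hx => hcon x hx)
    obtain ⟨f, hf, hfp⟩ := hex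
    let I := mkIdeal 𝒜 p n₀ n₁ hn₁ f h1
    have hI : I.IsHomogeneous 𝒜 := isHomogeneous_mkIdeal 𝒜 p n₀ n₁ hn₁ f h1
    have hImem : ∀ {n : ℕ} {x : A}, x ∈ 𝒜 n → (x ∈ I ↔ f * x ∈ p (n₁ + n)) :=
      fun hx => mem_mkIdeal_of_mem p n₀ n₁ hn₁ f h1 hx
    -- for n ≥ n₀ the pieces agree
    have hpiece : ∀ n, n₀ ≤ n → ∀ x ∈ 𝒜 n, (x ∈ I ↔ x ∈ p n) := by
      intro n hn x hx
      rw [hImem hx]
      constructor
      · intro h
        rcases h2 n₁ n hn₁ hn f hf x hx h with h' | h'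
        · exact absurd h' hfp
        · exact h'
      · intro h
        exact h1 n₁ n hn f hf x h
    have hfI : f ∉ I := by
      rw [hpiece n₁ hn₁ f hf]; exact hfp
    refine ⟨⟨I, hI⟩, ?_, ?_, ?_⟩
    · show I.IsPrime
      refine hI.isPrime_of_homogeneous_mem_or_mem ?_ ?_
      · intro htop
        apply hfI; rw [htop]; trivial
      · intro x y hx hy hxy
        obtain ⟨m, hxm⟩ := hx
        obtain ⟨n, hyn⟩ := hy
        rw [hImem (SetLike.mul_mem_graded hxm hyn)] at hxy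
        have h3 : (f * x) * (f * y) ∈ p ((n₁ + m) + (n₁ + n)) := by
          have := h1 n₁ (n₁ + (m + n)) (by omega) f hf _ hxy
          have e : n₁ + (n₁ + (m + n)) = (n₁ + m) + (n₁ + n) := by omega
          rw [e] at this
          convert this using 1
          ring
        rcases h2 (n₁ + m) (n₁ + n) (by omega) (by omega) (f * x) (SetLike.mul_mem_graded hf hxm)
          (f * y) (SetLike.mul_mem_graded hf hyn) h3 with h | h
        · left; rw [hImem hxm]; exact h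
        · right; rw [hImem hyn]; exact h
    · intro hle
      apply hfI
      apply hle
      rw [HomogeneousIdeal.mem_irrelevant_iff, GradedRing.proj_apply,
        DirectSum.decompose_of_mem_ne 𝒜 hf (by omega : n₁ ≠ 0)]
    · intro n hn
      ext x
      simp only [Set.mem_inter_iff, SetLike.mem_coe]
      constructor
      · rintro ⟨hxI, hxn⟩
        exact (hpiece n hn x hxn).1 hxI
      · intro hx
        have hxn : x ∈ 𝒜 n := hp n hn hx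
        exact ⟨(hpiece n hn x hxn).2 hx, hxn⟩
  · intro 𝔭 𝔮 h𝔭 h𝔮 hirr𝔭 _ ht𝔭 ht𝔮
    have hmem𝔭 : ∀ n, n₀ ≤ n → ∀ x, x ∈ p n ↔ (x ∈ 𝔭.toIdeal ∧ x ∈ 𝒜 n) := by
      intro n hn x
      have := Set.ext_iff.1 (ht𝔭 n hn) x
      simpa using this.symm
    have hmem𝔮 : ∀ n, n₀ ≤ n → ∀ x, x ∈ p n ↔ (x ∈ 𝔮.toIdeal ∧ x ∈ 𝒜 n) := by
      intro n hn x
      have := Set.ext_iff.1 (ht𝔮 n hn) x
      simpa using this.symm
    obtain ⟨k, hk, f, hfk, hf⟩ := exists_homogeneous_notMem 𝒜 𝔭 hirr𝔭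
    have h1 : f ^ n₀ ∈ 𝒜 (n₀ • k) := SetLike.pow_mem_graded n₀ hfk
    have h2 : n₀ ≤ n₀ • k := by
      rw [smul_eq_mul]; exact Nat.le_mul_of_pos_right _ hk
    have hf𝔭 : f ^ n₀ ∉ 𝔭.toIdeal := fun h => hf (h𝔭.mem_of_pow_mem _ h)
    have hf𝔮 : f ^ n₀ ∉ 𝔮.toIdeal := by
      intro h
      apply hf𝔭
      exact ((hmem𝔭 _ h2 _).1 ((hmem𝔮 _ h2 _).2 ⟨h, h1⟩)).1
    -- homogeneous elements agree
    have key : ∀ n, ∀ x ∈ 𝒜 n, (x ∈ 𝔭.toIdeal ↔ x ∈ 𝔮.toIdeal) := by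
      intro n x hx
      have hd : f ^ n₀ * x ∈ 𝒜 (n₀ • k + n) := SetLike.mul_mem_graded h1 hx
      have hle : n₀ ≤ n₀ • k + n := by omega
      constructor
      · intro h
        have : f ^ n₀ * x ∈ 𝔮.toIdeal :=
          ((hmem𝔮 _ hle _).1 ((hmem𝔭 _ hle _).2 ⟨Ideal.mul_mem_left _ _ h, hd⟩)).1
        exact (h𝔮.mem_or_mem this).resolve_left hf𝔮
      · intro h
        have : f ^ n₀ * x ∈ 𝔭.toIdeal :=
          ((hmem𝔭 _ hle _).1 ((hmem𝔮 _ hle _).2 ⟨Ideal.mul_mem_left _ _ h, hd⟩)).1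
        exact (h𝔭.mem_or_mem this).resolve_left hf𝔭
    apply HomogeneousIdeal.toIdeal_injective
    ext x
    constructor
    · intro hx
      rw [← DirectSum.sum_support_decompose 𝒜 x]
      exact Ideal.sum_mem _ (fun i _ => (key i _ (SetLike.coe_mem _)).1 (𝔭.isHomogeneous i hx))
    · intro hx
      rw [← DirectSum.sum_support_decompose 𝒜 x]
      exact Ideal.sum_mem _ (fun i _ => (key i _ (SetLike.coe_mem _)).2 (𝔮.isHomogeneous i hx))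

end Groth.Agent.Helper7.GrTail
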