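import Mathlib
import Groth.Prelude.Def_GrLC
import Groth.Agent.Helper7.GrDel6

/-!
# The multiplication maps `τ_x : H^i_a(R) → H^i_a(M)`, part 1: additivity of the induced maps on graded local
cohomology, multiplication between shifted resolutions (helper7)
-/

set_option autoImplicit false
set_option linter.unusedSectionVars false

namespace Groth.Agent.Helper7.GrTau

open DirectSum Groth.Agent.Helper6.GrMod Groth.Agent.Helper6.GrCon Groth.Agent.Helper6.GrShift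
  Groth.Agent.Helper7.GrDel

universe u

section Add

variable {ι : Type} [AddCommGroup ι] [DecidableEq ι] {R : Type u} [CommRing R]
  {𝒜 : ι → AddSubgroup R} [GradedRing 𝒜]
  {M : Type u} [AddCommGroup M] [Module R M] {ℳ : ι → AddSubgroup M} [Decomposition ℳ]
  [SetLike.GradedSMul 𝒜 ℳ]
  {N : Type u} [AddCommGroup N] [Module R N] {𝒩 : ι → AddSubgroup N} [Decomposition 𝒩]
  [SetLike.GradedSMul 𝒜 𝒩]
  {E : GrLC.StarInjRes 𝒜 ℳ} {F : GrLC.StarInjRes 𝒜 𝒩}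

/-- the sum of two chain maps -/
def resAdd {φ ψ : M →ₗ[R] N} (f : ResHom E F φ) (g : ResHom E F ψ) : ResHom E F (φ + ψ) where
  f n := f.f n + g.f n
  f_gr n i x hx := add_mem (f.f_gr n i x hx) (g.f_gr n i x hx)
  comm_ε m := by
    rw [LinearMap.add_apply, f.comm_ε, g.comm_ε, LinearMap.add_apply, map_add]
  comm_d n x := by
    rw [LinearMap.add_apply, f.comm_d, g.comm_d, LinearMap.add_apply, map_add]

/-- the zero chain map -/
def resZero : ResHom E F (0 : M →ₗ[R] N) where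
  f _ := 0
  f_gr _ _ _ _ := zero_mem _
  comm_ε m := by
    rw [LinearMap.zero_apply, LinearMap.zero_apply, map_zero]
  comm_d n x := by
    rw [LinearMap.zero_apply, LinearMap.zero_apply, map_zero]

theorem Hmap_resAdd {φ ψ : M →ₗ[R] N} (f : ResHom E F φ) (g : ResHom E F ψ)
    (a : HomogeneousIdeal 𝒜) (i : ℕ) :
    Hmap (resAdd f g) a i = Hmap f a i + Hmap g a i := by
  apply LinearMap.ext
  intro x
  obtain ⟨z, rfl⟩ := Submodule.mkQ_surjective _ x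
  rw [LinearMap.add_apply]
  change Hmap (resAdd f g) a i (E.toH a i z) = Hmap f a i (E.toH a i z) + Hmap g a i (E.toH a i z)
  rw [Hmap_mk, Hmap_mk, Hmap_mk, ← map_add]
  rfl

theorem Hmap_resZero (a : HomogeneousIdeal 𝒜) (i : ℕ) :
    Hmap (resZero (E := E) (F := F)) a i = 0 := by
  apply LinearMap.ext
  intro x
  obtain ⟨z, rfl⟩ := Submodule.mkQ_surjective _ x
  change Hmap (resZero (E := E) (F := F)) a i (E.toH a i z) = 0
  rw [Hmap_mk]
  have : (⟨(resZero (E := E) (F := F)).f i z, (resZero (E := E) (F := F)).map_cocyc a i _ z.2⟩ :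
      ↥(F.cocyc a i)) = 0 := Subtype.ext rfl
  rw [this, map_zero]

theorem Hphi_add {φ ψ : M →ₗ[R] N} (hφ : GrLC.IsGrHom ℳ 𝒩 φ) (hψ : GrLC.IsGrHom ℳ 𝒩 ψ)
    (hφψ : GrLC.IsGrHom ℳ 𝒩 (φ + ψ)) (a : HomogeneousIdeal 𝒜) (i : ℕ) :
    Hphi E F (φ + ψ) hφψ a i = Hphi E F φ hφ a i + Hphi E F ψ hψ a i := by
  obtain ⟨f⟩ := nonempty_resHom E F φ hφ
  obtain ⟨g⟩ := nonempty_resHom E F ψ hψ
  rw [Hphi_eq (resAdd f g) hφψ, Hphi_eq f hφ, Hphi_eq g hψ, Hmap_resAdd]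

theorem Hphi_zero (h0 : GrLC.IsGrHom ℳ 𝒩 (0 : M →ₗ[R] N)) (a : HomogeneousIdeal 𝒜) (i : ℕ) :
    Hphi E F (0 : M →ₗ[R] N) h0 a i = 0 := by
  rw [Hphi_eq (resZero (E := E) (F := F)) h0, Hmap_resZero]

theorem isGrHom_zero : GrLC.IsGrHom ℳ 𝒩 (0 : M →ₗ[R] N) := fun _ _ _ => zero_mem _

theorem isGrHom_add {φ ψ : M →ₗ[R] N} (hφ : GrLC.IsGrHom ℳ 𝒩 φ) (hψ : GrLC.IsGrHom ℳ 𝒩 ψ) :
    GrLC.IsGrHom ℳ 𝒩 (φ + ψ) := fun i x hx => add_mem (hφ i x hx) (hψ i x hx)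

theorem isGrHom_sum {κ : Type*} (s : Finset κ) (φ : κ → M →ₗ[R] N)
    (hφ : ∀ j, GrLC.IsGrHom ℳ 𝒩 (φ j)) : GrLC.IsGrHom ℳ 𝒩 (∑ j ∈ s, φ j) := by
  intro i x hx
  rw [LinearMap.sum_apply]
  exact sum_mem fun j _ => hφ j i x hx

theorem Hphi_sum {κ : Type*} (s : Finset κ) (φ : κ → M →ₗ[R] N)
    (hφ : ∀ j, GrLC.IsGrHom ℳ 𝒩 (φ j)) (hsum : GrLC.IsGrHom ℳ 𝒩 (∑ j ∈ s, φ j))
    (a : HomogeneousIdeal 𝒜) (i : ℕ) :
    Hphi E F (∑ j ∈ s, φ j) hsum a i = ∑ j ∈ s, Hphi E F (φ j) (hφ j) a i := by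
  classical
  induction s using Finset.induction_on with
  | empty =>
    conv_rhs => rw [Finset.sum_empty]
    exact (Hphi_congr E F Finset.sum_empty hsum isGrHom_zero a i).trans
      (Hphi_zero isGrHom_zero a i)
  | insert j s hj ih =>
    conv_rhs => rw [Finset.sum_insert hj, ← ih (isGrHom_sum s φ hφ)]
    exact (Hphi_congr E F (Finset.sum_insert hj) hsum
      (isGrHom_add (hφ j) (isGrHom_sum s φ hφ)) a i).trans
      (Hphi_add (hφ j) (isGrHom_sum s φ hφ) _ a i)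

end Add

section MulSh

variable {R : Type u} [CommRing R] {𝒜 : ℤ → AddSubgroup R} [GradedRing 𝒜]
  {M : Type u} [AddCommGroup M] [Module R M] {ℳ : ℤ → AddSubgroup M} [Decomposition ℳ]
  [SetLike.GradedSMul 𝒜 ℳ]

theorem smul_mem_sh (X : GrLC.GMod.{u} 𝒜) {s t : ℤ} {r : R} (hr : r ∈ 𝒜 (s - t)) (i : ℤ)
    (x : X.carrier) (hx : x ∈ X.gr (i + -s)) : r • x ∈ X.gr (i + -t) := by
  have h := SetLike.GradedSMul.smul_mem (A := 𝒜) (B := X.gr) hr hx
  rw [vadd_eq_add] at h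
  have e : s - t + (i + -s) = i + -t := by ring
  rw [e] at h
  exact h

/-- multiplication by a homogeneous element as a chain map between shifted resolutions -/
def mulSh (E : GrLC.StarInjRes 𝒜 ℳ) (s t : ℤ) (r : R) (hr : r ∈ 𝒜 (s - t)) :
    ResHom (shiftRes E (-s)) (shiftRes E (-t)) (r • (LinearMap.id : M →ₗ[R] M)) where
  f n := r • (LinearMap.id : (E.X n).carrier →ₗ[R] (E.X n).carrier)
  f_gr n i x hx := smul_mem_sh (E.X n) hr i x hx
  comm_ε m := (map_smul E.ε r m).symm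
  comm_d n x := (map_smul (E.d n) r x).symm

theorem Hmap_mulSh (E : GrLC.StarInjRes 𝒜 ℳ) (s t : ℤ) (r : R) (hr : r ∈ 𝒜 (s - t))
    (a : HomogeneousIdeal 𝒜) (i : ℕ) (x : E.H a i) :
    Hmap (mulSh E s t r hr) a i x = r • x := by
  obtain ⟨z, rfl⟩ := Submodule.mkQ_surjective _ x
  rfl

end MulSh

end Groth.Agent.Helper7.GrTau
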