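import Mathlib
import Groth.Prelude.Def_GrLC
import Groth.Agent.Helper7.GrTau1

/-!
# The multiplication maps `τ_x : H^i_a(R) → H^i_a(M)`, part 2: definition and basic properties (helper7)
-/

set_option autoImplicit false
set_option linter.unusedSectionVars false

namespace Groth.Agent.Helper7.GrTau

open DirectSum Groth.Agent.Helper6.GrMod Groth.Agent.Helper6.GrCon Groth.Agent.Helper6.GrShift
  Groth.Agent.Helper7.GrDel

universe u

section Tau

variable {R : Type u} [CommRing R] (𝒜 : ℤ → AddSubgroup R) [GradedRing 𝒜]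
  {M : Type u} [AddCommGroup M] [Module R M] {ℳ : ℤ → AddSubgroup M} [Decomposition ℳ]
  [SetLike.GradedSMul 𝒜 ℳ]
  {N : Type u} [AddCommGroup N] [Module R N] {𝒩 : ℤ → AddSubgroup N} [Decomposition 𝒩]
  [SetLike.GradedSMul 𝒜 𝒩]

/-- the ring as a graded module over itself, with `1` placed in degree `t` -/
noncomputable abbrev Rsh (t : ℤ) : GrLC.GMod.{u} 𝒜 := shiftGMod 𝒜 (GrLC.GMod.of 𝒜 R 𝒜) (-t)

/-- `r ↦ r • x`, on `R(-t)` -/
noncomputable def mu (t : ℤ) (x : M) : (Rsh 𝒜 t).carrier →ₗ[R] M :=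
  (LinearMap.toSpanSingleton R M x : R →ₗ[R] M)

theorem mu_apply (t : ℤ) (x : M) (r : R) : mu 𝒜 t x r = r • x := rfl

/-- multiplication by `r`, from `R(-s)` to `R(-t)` -/
noncomputable def rmul (s t : ℤ) (r : R) : (Rsh 𝒜 s).carrier →ₗ[R] (Rsh 𝒜 t).carrier :=
  (r • (LinearMap.id : R →ₗ[R] R) : R →ₗ[R] R)

theorem rmul_apply (s t : ℤ) (r r' : R) : rmul 𝒜 s t r r' = r * r' := rfl

theorem mu_add (t : ℤ) (x y : M) : mu 𝒜 t (x + y) = mu 𝒜 t x + mu 𝒜 t y := by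
  apply LinearMap.ext
  intro r
  exact smul_add (show R from r) x y

theorem mu_smul (s t : ℤ) (r : R) (x : M) :
    mu 𝒜 s (r • x) = mu 𝒜 t x ∘ₗ rmul 𝒜 s t r := by
  apply LinearMap.ext
  intro r'
  exact (smul_smul (show R from r') r x).trans
    (congrArg (fun c : R => c • x) (mul_comm (show R from r') r))

theorem comp_mu (t : ℤ) (f : M →ₗ[R] N) (x : M) : f ∘ₗ mu 𝒜 t x = mu 𝒜 t (f x) := by
  apply LinearMap.ext
  intro r
  exact map_smul f (show R from r) x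

theorem mu_gr {t : ℤ} {x : M} (hx : x ∈ ℳ t) : GrLC.IsGrHom (Rsh 𝒜 t).gr ℳ (mu 𝒜 t x) := by
  intro g r hr
  have hr' : (r : R) ∈ 𝒜 (g + -t) := hr
  have h := smul_mem' 𝒜 ℳ hr' hx
  have e : g + -t + t = g := by ring
  rw [e] at h
  exact h

theorem rmul_gr {s t : ℤ} {r : R} (hr : r ∈ 𝒜 (s - t)) :
    GrLC.IsGrHom (Rsh 𝒜 s).gr (Rsh 𝒜 t).gr (rmul 𝒜 s t r) := by
  intro g y hy
  exact smul_mem_sh (GrLC.GMod.of 𝒜 R 𝒜) hr g y hy

variable {𝒜}
variable (I : GrLC.StarInjRes 𝒜 𝒜) (EM : GrLC.StarInjRes 𝒜 ℳ) (EN : GrLC.StarInjRes 𝒜 𝒩)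
  (a : HomogeneousIdeal 𝒜) (i : ℕ)

/-- `τ_x` for a homogeneous element `x` -/
noncomputable def tauH {t : ℤ} (x : M) (hx : x ∈ ℳ t) : I.H a i →ₗ[R] EM.H a i :=
  Hphi (shiftRes I (-t)) EM (mu 𝒜 t x) (mu_gr 𝒜 hx) a i

theorem tauH_add {t : ℤ} (x y : M) (hx : x ∈ ℳ t) (hy : y ∈ ℳ t) :
    tauH I EM a i (x + y) (add_mem hx hy) = tauH I EM a i x hx + tauH I EM a i y hy := by
  unfold tauH
  exact (Hphi_congr (shiftRes I (-t)) EM (mu_add 𝒜 t x y) (mu_gr 𝒜 (add_mem hx hy))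
    (isGrHom_add (mu_gr 𝒜 hx) (mu_gr 𝒜 hy)) a i).trans
    (Hphi_add (mu_gr 𝒜 hx) (mu_gr 𝒜 hy) _ a i)

/-- the piece maps -/
noncomputable def tauPc (t : ℤ) : ℳ t →+ (I.H a i →ₗ[R] EM.H a i) :=
  AddMonoidHom.mk' (fun x => tauH I EM a i x.1 x.2) (fun x y => tauH_add I EM a i x.1 y.1 x.2 y.2)

/-- **the multiplication maps**: `x ↦ τ_x = H^i_a(r ↦ r x)`, additive in `x` -/
noncomputable def tau : M →+ (I.H a i →ₗ[R] EM.H a i) :=
  (DirectSum.toAddMonoid (tauPc I EM a i)).comp (decomposeAddEquiv ℳ).toAddMonoidHom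

theorem tau_of_mem {t : ℤ} {x : M} (hx : x ∈ ℳ t) : tau I EM a i x = tauH I EM a i x hx := by
  unfold tau
  rw [AddMonoidHom.comp_apply]
  show (DirectSum.toAddMonoid _) (decompose ℳ x) = _
  rw [decompose_of_mem ℳ hx, DirectSum.toAddMonoid_of]
  rfl

theorem tau_gr {t j : ℤ} {x : M} (hx : x ∈ ℳ t) (η : I.H a i) (hη : η ∈ I.Hgr a i j) :
    tau I EM a i x η ∈ EM.Hgr a i (j + t) := by
  rw [tau_of_mem I EM a i hx]
  have h := Hphi_gr (E := shiftRes I (-t)) (F := EM) (φ := mu 𝒜 t x) (mu_gr 𝒜 hx) a i (j + t) η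
  apply h
  show η ∈ I.Hgr a i (j + t + -t)
  have e : j + t + -t = j := by ring
  rw [e]
  exact hη

/-- multiplication by a homogeneous element between shifted resolutions of the ring induces multiplication -/
theorem Hphi_rmul {s t : ℤ} {r : R} (hr : r ∈ 𝒜 (s - t)) (η : I.H a i) :
    Hphi (shiftRes I (-s)) (shiftRes I (-t)) (rmul 𝒜 s t r) (rmul_gr 𝒜 hr) a i η = r • η :=
  (LinearMap.congr_fun (Hphi_eq (mulSh I s t r hr) (rmul_gr 𝒜 hr) a i) η).trans
    (Hmap_mulSh I s t r hr a i η)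

theorem tau_smul_homog {s t : ℤ} {r : R} (hr : r ∈ 𝒜 s) {x : M} (hx : x ∈ ℳ t) (η : I.H a i) :
    tau I EM a i (r • x) η = r • tau I EM a i x η := by
  have hrx : r • x ∈ ℳ (s + t) := smul_mem' 𝒜 ℳ hr hx
  rw [tau_of_mem I EM a i hrx, tau_of_mem I EM a i hx]
  unfold tauH
  have hr' : r ∈ 𝒜 (s + t - t) := by
    have e : s + t - t = s := by ring
    rw [e]; exact hr
  have h1 := Hphi_comp (E := shiftRes I (-(s + t))) (F := shiftRes I (-t)) (G := EM)
    (φ := rmul 𝒜 (s + t) t r) (ψ := mu 𝒜 t x) (rmul_gr 𝒜 hr') (mu_gr 𝒜 hx) a i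
  have h2 := Hphi_congr (shiftRes I (-(s + t))) EM (mu_smul 𝒜 (s + t) t r x) (mu_gr 𝒜 hrx)
    (fun j m hm => mu_gr 𝒜 hx j _ (rmul_gr 𝒜 hr' j m hm)) a i
  exact ((LinearMap.congr_fun h2 η).trans (LinearMap.congr_fun h1 η).symm).trans
    ((congrArg (Hphi (shiftRes I (-t)) EM (mu 𝒜 t x) (mu_gr 𝒜 hx) a i)
      (Hphi_rmul I a i hr' η)).trans
      (map_smul (Hphi (shiftRes I (-t)) EM (mu 𝒜 t x) (mu_gr 𝒜 hx) a i) r η))

theorem tau_smul (r : R) (x : M) (η : I.H a i) :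
    tau I EM a i (r • x) η = r • tau I EM a i x η := by
  induction x using Decomposition.inductionOn ℳ with
  | zero => rw [smul_zero, map_zero, LinearMap.zero_apply, smul_zero]
  | @homogeneous t x =>
    induction r using Decomposition.inductionOn 𝒜 with
    | zero => rw [zero_smul, map_zero, LinearMap.zero_apply, zero_smul]
    | @homogeneous s r => exact tau_smul_homog I EM a i r.2 x.2 η
    | add r r' hr hr' => rw [add_smul, map_add, LinearMap.add_apply, hr, hr', add_smul]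
  | add x y hx hy =>
    rw [smul_add, map_add, LinearMap.add_apply, hx, hy, map_add, LinearMap.add_apply, smul_add]

/-- naturality -/
theorem tau_nat (f : M →ₗ[R] N) (hf : GrLC.IsGrHom ℳ 𝒩 f) (x : M) (η : I.H a i) :
    Hphi EM EN f hf a i (tau I EM a i x η) = tau I EN a i (f x) η := by
  induction x using Decomposition.inductionOn ℳ with
  | zero => rw [map_zero, LinearMap.zero_apply, map_zero, map_zero, map_zero, LinearMap.zero_apply]
  | @homogeneous t x =>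
    have hfx : f x.1 ∈ 𝒩 t := hf t x.1 x.2
    rw [tau_of_mem I EM a i x.2, tau_of_mem I EN a i hfx]
    unfold tauH
    have h1 := Hphi_comp (E := shiftRes I (-t)) (F := EM) (G := EN) (φ := mu 𝒜 t x.1) (ψ := f)
      (mu_gr 𝒜 x.2) hf a i
    have h2 := Hphi_congr (shiftRes I (-t)) EN (comp_mu 𝒜 t f x.1)
      (fun j m hm => hf j _ (mu_gr 𝒜 x.2 j m hm)) (mu_gr 𝒜 hfx) a i
    exact (LinearMap.congr_fun h1 η).trans (LinearMap.congr_fun h2 η)
  | add x y hx hy =>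
    rw [map_add, LinearMap.add_apply, map_add, hx, hy, map_add, map_add, LinearMap.add_apply]

end Tau

end Groth.Agent.Helper7.GrTau
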