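import Mathlib
import Groth.Prelude.Def_GrLC
import Groth.Agent.Helper7.GrTau2

/-!
# The multiplication maps `τ_x`, part 3: graded free modules `⊕ R(-t_i)`, homogeneous generators (helper7)
-/

set_option autoImplicit false
set_option linter.unusedSectionVars false

namespace Groth.Agent.Helper7.GrTau

open DirectSum Groth.Agent.Helper6.GrMod Groth.Agent.Helper6.GrCon Groth.Agent.Helper6.GrShift
  Groth.Agent.Helper7.GrDel

universe u

section Free

variable {R : Type u} [CommRing R] (𝒜 : ℤ → AddSubgroup R) [GradedRing 𝒜] {p : ℕ} (t : Fin p → ℤ)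

/-- the pieces of the graded free module `⊕ R(-t_i)` -/
def freeFam (g : ℤ) : AddSubgroup (Fin p → R) where
  carrier := {v | ∀ i, v i ∈ 𝒜 (g - t i)}
  zero_mem' _ := zero_mem _
  add_mem' ha hb i := add_mem (ha i) (hb i)
  neg_mem' ha i := neg_mem (ha i)

theorem mem_freeFam {g : ℤ} {v : Fin p → R} : v ∈ freeFam 𝒜 t g ↔ ∀ i, v i ∈ 𝒜 (g - t i) := Iff.rfl

theorem freeFam_isInternal : DirectSum.IsInternal (freeFam 𝒜 t) := by
  classical
  apply isInternal_of_proj (freeFam 𝒜 t) (fun g v i => (decompose 𝒜 (v i) (g - t i) : R))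
  · intro g v i
    exact (decompose 𝒜 (v i) (g - t i)).2
  · intro g v hv
    funext i
    exact decompose_of_mem_same 𝒜 (hv i)
  · intro g g' v hv hne
    funext i
    exact decompose_of_mem_ne 𝒜 (hv i) (by omega)
  · intro g v w
    funext i
    show (decompose 𝒜 (v i + w i) (g - t i) : R) = _
    rw [decompose_add, DirectSum.add_apply, AddSubgroup.coe_add]
    rfl
  · intro v
    refine ⟨Finset.univ.biUnion (fun i => (decompose 𝒜 (v i)).support.image (fun j => j + t i)), ?_⟩
    funext i
    rw [Finset.sum_apply]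
    have hsub : (decompose 𝒜 (v i)).support.image (fun j => j + t i) ⊆
        Finset.univ.biUnion (fun i => (decompose 𝒜 (v i)).support.image (fun j => j + t i)) :=
      Finset.subset_biUnion_of_mem (fun i => (decompose 𝒜 (v i)).support.image (fun j => j + t i))
        (Finset.mem_univ i)
    rw [← Finset.sum_subset hsub]
    · rw [Finset.sum_image (fun a _ b _ h => by simpa using h)]
      refine (Finset.sum_congr rfl (fun j _ => ?_)).trans
        (DirectSum.sum_support_decompose 𝒜 (v i))
      rw [add_sub_cancel_right]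
    · intro g _ hg
      by_contra hne
      apply hg
      rw [Finset.mem_image]
      refine ⟨g - t i, ?_, by ring⟩
      rw [DFinsupp.mem_support_toFun]
      intro h0
      apply hne
      rw [h0]
      rfl

theorem freeFam_gradedSMul : SetLike.GradedSMul 𝒜 (freeFam 𝒜 t) where
  smul_mem := by
    intro a g r v hr hv i
    have h := SetLike.GradedMul.mul_mem hr (hv i)
    have e : a + (g - t i) = (a + g) - t i := by ring
    show r * v i ∈ 𝒜 ((a + g) - t i)
    rw [← e]
    exact h

/-- the graded free module `⊕ R(-t_i)` -/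
noncomputable def freeGMod : GrLC.GMod.{u} 𝒜 :=
  letI := (freeFam_isInternal 𝒜 t).chooseDecomposition
  letI := freeFam_gradedSMul 𝒜 t
  { carrier := Fin p → R, gr := freeFam 𝒜 t }

/-- the basis vectors -/
def fe (i : Fin p) : (freeGMod 𝒜 t).carrier := (Pi.single i (1 : R) : Fin p → R)

theorem fe_mem (i : Fin p) : fe 𝒜 t i ∈ (freeGMod 𝒜 t).gr (t i) := by
  intro j
  show (Pi.single i (1 : R) : Fin p → R) j ∈ 𝒜 (t i - t j)
  by_cases h : j = i
  · subst h
    rw [Pi.single_eq_same, sub_self]
    exact SetLike.GradedOne.one_mem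
  · rw [Pi.single_eq_of_ne h]
    exact zero_mem _

/-- the coordinate maps -/
noncomputable def fproj (i : Fin p) : (freeGMod 𝒜 t).carrier →ₗ[R] (Rsh 𝒜 (t i)).carrier :=
  (LinearMap.proj i : (Fin p → R) →ₗ[R] R)

theorem fproj_apply (i : Fin p) (v : Fin p → R) : fproj 𝒜 t i v = v i := rfl

theorem fproj_gr (i : Fin p) :
    GrLC.IsGrHom (freeGMod 𝒜 t).gr (Rsh 𝒜 (t i)).gr (fproj 𝒜 t i) := by
  intro g v hv
  show (v : Fin p → R) i ∈ 𝒜 (g + -(t i))
  rw [← sub_eq_add_neg]
  exact hv i

theorem fproj_fe (i j : Fin p) : fproj 𝒜 t i (fe 𝒜 t j) = if i = j then (1 : R) else 0 := by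
  show (Pi.single j (1 : R) : Fin p → R) i = _
  rw [Pi.single_apply]

/-- the identity of the free module is the sum of the rank-one projectors -/
theorem sum_mu_fproj :
    ∑ i, mu 𝒜 (t i) (fe 𝒜 t i) ∘ₗ fproj 𝒜 t i =
      (LinearMap.id : (freeGMod 𝒜 t).carrier →ₗ[R] (freeGMod 𝒜 t).carrier) := by
  apply LinearMap.ext
  intro v
  rw [LinearMap.sum_apply, LinearMap.id_apply]
  have h : ∀ i, (mu 𝒜 (t i) (fe 𝒜 t i) ∘ₗ fproj 𝒜 t i) v =
      (Pi.single i ((v : Fin p → R) i) : Fin p → R) := by
    intro i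
    show ((v : Fin p → R) i) • (Pi.single i (1 : R) : Fin p → R) = _
    funext j
    rw [Pi.smul_apply, Pi.single_apply, Pi.single_apply, smul_eq_mul]
    split_ifs <;> simp
  rw [Finset.sum_congr rfl (fun i _ => h i)]
  exact Finset.univ_sum_single (v : Fin p → R)

variable {M : Type u} [AddCommGroup M] [Module R M] {ℳ : ℤ → AddSubgroup M} [Decomposition ℳ]
  [SetLike.GradedSMul 𝒜 ℳ] (x : Fin p → M) (hx : ∀ i, x i ∈ ℳ (t i))

/-- the presentation map `⊕ R(-t_i) → M` -/
noncomputable def fpi : (freeGMod 𝒜 t).carrier →ₗ[R] M :=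
  (Fintype.linearCombination R x : (Fin p → R) →ₗ[R] M)

theorem fpi_apply (v : Fin p → R) : fpi 𝒜 t x v = ∑ i, v i • x i := by
  show Fintype.linearCombination R x v = _
  rw [Fintype.linearCombination_apply]

theorem fpi_fe (i : Fin p) : fpi 𝒜 t x (fe 𝒜 t i) = x i := by
  show Fintype.linearCombination R x (Pi.single i (1 : R)) = _
  rw [Fintype.linearCombination_apply_single, one_smul]

include hx in
theorem fpi_gr : GrLC.IsGrHom (freeGMod 𝒜 t).gr ℳ (fpi 𝒜 t x) := by
  intro g v hv
  rw [fpi_apply]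
  refine sum_mem fun i _ => ?_
  have h := smul_mem' 𝒜 ℳ (hv i) (hx i)
  have e : g - t i + t i = g := by ring
  rw [e] at h
  exact h

theorem fpi_surjective (hspan : Submodule.span R (Set.range x) = ⊤) :
    Function.Surjective (fpi 𝒜 t x) := by
  rw [← LinearMap.range_eq_top]
  show LinearMap.range (Fintype.linearCombination R x) = ⊤
  rw [Fintype.range_linearCombination, hspan]

end Free

section Gens

variable {R : Type u} [CommRing R] (𝒜 : ℤ → AddSubgroup R) [GradedRing 𝒜]
  {M : Type u} [AddCommGroup M] [Module R M] (ℳ : ℤ → AddSubgroup M) [Decomposition ℳ]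
  [SetLike.GradedSMul 𝒜 ℳ]

/-- a finitely generated graded module is generated by finitely many homogeneous elements -/
theorem exists_homog_gens [Module.Finite R M] :
    ∃ (p : ℕ) (x : Fin p → M) (t : Fin p → ℤ), (∀ i, x i ∈ ℳ (t i)) ∧
      Submodule.span R (Set.range x) = ⊤ := by
  classical
  obtain ⟨S, hS⟩ := (Module.Finite.fg_top : (⊤ : Submodule R M).FG)
  let T : Finset M := S.biUnion (fun y => (decompose ℳ y).support.image
    (fun j => (decompose ℳ y j : M)))
  have hT : ∀ z ∈ T, ∃ j, z ∈ ℳ j := by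
    intro z hz
    rw [Finset.mem_biUnion] at hz
    obtain ⟨y, _, hz⟩ := hz
    rw [Finset.mem_image] at hz
    obtain ⟨j, _, rfl⟩ := hz
    exact ⟨j, (decompose ℳ y j).2⟩
  have hspan : Submodule.span R (T : Set M) = ⊤ := by
    rw [eq_top_iff, ← hS, Submodule.span_le]
    intro y hy
    rw [SetLike.mem_coe, ← DirectSum.sum_support_decompose ℳ y]
    refine sum_mem fun j hj => Submodule.subset_span ?_
    rw [Finset.mem_coe, Finset.mem_biUnion]
    exact ⟨y, hy, Finset.mem_image.mpr ⟨j, hj, rfl⟩⟩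
  refine ⟨T.card, fun i => (T.equivFin.symm i : M),
    fun i => Classical.choose (hT _ (T.equivFin.symm i).2),
    fun i => Classical.choose_spec (hT _ (T.equivFin.symm i).2), ?_⟩
  rw [eq_top_iff, ← hspan, Submodule.span_le]
  intro z hz
  apply Submodule.subset_span
  refine ⟨T.equivFin ⟨z, hz⟩, ?_⟩
  show ((T.equivFin.symm (T.equivFin ⟨z, hz⟩) : T) : M) = z
  rw [Equiv.symm_apply_apply]

end Gens

end Groth.Agent.Helper7.GrTau
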