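import Mathlib
import Groth.Prelude.Def_GrLC
import Groth.Agent.Helper7.GrTau3
import Groth.Agent.Helper7.GrTopRE1
import Groth.Agent.Helper6.GrExist

/-!
# The multiplication maps `τ_x`, part 4: the top local cohomology of a finitely generated graded module is generated by
the images of the `τ_x`, with the expected relations (helper7)
-/

set_option autoImplicit false
set_option linter.unusedSectionVars false

namespace Groth.Agent.Helper7.GrTau

open DirectSum Groth.Agent.Helper6.GrMod Groth.Agent.Helper6.GrCon Groth.Agent.Helper6.GrShift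
  Groth.Agent.Helper7.GrDel Groth.Agent.Helper7.GrTopRE

universe u

section Coh

variable {R : Type u} [CommRing R] {𝒜 : ℤ → AddSubgroup R} [GradedRing 𝒜]
  (I : GrLC.StarInjRes 𝒜 𝒜) (a : HomogeneousIdeal 𝒜) (n : ℕ)

/-- `τ` on `R(-t)` is multiplication -/
theorem tau_Rsh (t : ℤ) (r : (Rsh 𝒜 t).carrier) (η : I.H a n) :
    tau I (shiftRes I (-t)) a n r η = (show R from r) • η := by
  induction r using Decomposition.inductionOn (Rsh 𝒜 t).gr with
  | zero =>
    rw [map_zero, LinearMap.zero_apply]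
    exact (zero_smul R η).symm
  | @homogeneous s r =>
    have hr' : (show R from r.1) ∈ 𝒜 (s - t) := by
      have h : (show R from r.1) ∈ 𝒜 (s + -t) := r.2
      rwa [← sub_eq_add_neg] at h
    rw [tau_of_mem I (shiftRes I (-t)) a n r.2]
    unfold tauH
    have e : mu 𝒜 s r.1 = rmul 𝒜 s t (show R from r.1) := by
      apply LinearMap.ext
      intro r'
      exact mul_comm (show R from r') (show R from r.1)
    exact (LinearMap.congr_fun (Hphi_congr (shiftRes I (-s)) (shiftRes I (-t)) e (mu_gr 𝒜 r.2)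
      (rmul_gr 𝒜 hr') a n) η).trans (Hphi_rmul I a n hr' η)
  | add x y hx hy =>
    rw [map_add, LinearMap.add_apply, hx, hy]
    exact (add_smul (show R from x) (show R from y) η).symm

variable {p : ℕ} (t : Fin p → ℤ) (EF : GrLC.StarInjRes 𝒜 (freeGMod 𝒜 t).gr)

/-- the coordinate maps on cohomology -/
noncomputable def Pc (i : Fin p) : EF.H a n →ₗ[R] I.H a n :=
  Hphi EF (shiftRes I (-(t i))) (fproj 𝒜 t i) (fproj_gr 𝒜 t i) a n

theorem Pc_tau (i : Fin p) (v : (freeGMod 𝒜 t).carrier) (ζ : I.H a n) :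
    Pc I a n t EF i (tau I EF a n v ζ) = (show R from fproj 𝒜 t i v) • ζ :=
  (tau_nat I EF (shiftRes I (-(t i))) a n (fproj 𝒜 t i) (fproj_gr 𝒜 t i) v ζ).trans
    (tau_Rsh I a n (t i) (fproj 𝒜 t i v) ζ)

/-- every class of the free module is the sum of its coordinates -/
theorem free_id (Ξ : EF.H a n) :
    Ξ = ∑ i, tau I EF a n (fe 𝒜 t i) (Pc I a n t EF i Ξ) := by
  have hid : GrLC.IsGrHom (freeGMod 𝒜 t).gr (freeGMod 𝒜 t).gr
      (LinearMap.id : (freeGMod 𝒜 t).carrier →ₗ[R] (freeGMod 𝒜 t).carrier) := fun _ _ h => h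
  have hi : ∀ i, GrLC.IsGrHom (freeGMod 𝒜 t).gr (freeGMod 𝒜 t).gr
      (mu 𝒜 (t i) (fe 𝒜 t i) ∘ₗ fproj 𝒜 t i) :=
    fun i j m hm => mu_gr 𝒜 (fe_mem 𝒜 t i) j _ (fproj_gr 𝒜 t i j m hm)
  have h1 : Hphi EF EF (LinearMap.id : (freeGMod 𝒜 t).carrier →ₗ[R] (freeGMod 𝒜 t).carrier)
      hid a n = LinearMap.id := Hphi_id a n
  have h2 := Hphi_congr EF EF (sum_mu_fproj 𝒜 t) (isGrHom_sum Finset.univ _ hi) hid a n
  have h3 := Hphi_sum (E := EF) (F := EF) Finset.univ
    (fun i => mu 𝒜 (t i) (fe 𝒜 t i) ∘ₗ fproj 𝒜 t i) hi (isGrHom_sum Finset.univ _ hi) a n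
  have h4 : Ξ = (∑ i, Hphi EF EF (mu 𝒜 (t i) (fe 𝒜 t i) ∘ₗ fproj 𝒜 t i) (hi i) a n) Ξ := by
    rw [← h3, h2, h1, LinearMap.id_apply]
  rw [LinearMap.sum_apply] at h4
  refine h4.trans (Finset.sum_congr rfl fun i _ => ?_)
  have h5 := Hphi_comp (E := EF) (F := shiftRes I (-(t i))) (G := EF) (φ := fproj 𝒜 t i)
    (ψ := mu 𝒜 (t i) (fe 𝒜 t i)) (fproj_gr 𝒜 t i) (mu_gr 𝒜 (fe_mem 𝒜 t i)) a n
  rw [tau_of_mem I EF a n (fe_mem 𝒜 t i)]
  exact (LinearMap.congr_fun h5 Ξ).symm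

end Coh

end Groth.Agent.Helper7.GrTau
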