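import Mathlib
import Groth.Prelude.Def_GrLC
import Groth.Agent.Helper7.GrTau4

/-!
# The multiplication maps `τ_x`, part 5: generation and relations of the top local cohomology (helper7)
-/

set_option autoImplicit false
set_option linter.unusedSectionVars false

namespace Groth.Agent.Helper7.GrTau

open DirectSum Groth.Agent.Helper6.GrMod Groth.Agent.Helper6.GrCon Groth.Agent.Helper6.GrShift
  Groth.Agent.Helper7.GrDel Groth.Agent.Helper7.GrTopRE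

universe u

section GenRel

variable {R : Type u} [CommRing R] [IsNoetherianRing R] {𝒜 : ℤ → AddSubgroup R} [GradedRing 𝒜]
  (I : GrLC.StarInjRes 𝒜 𝒜) (a : HomogeneousIdeal 𝒜) (n : ℕ) (hvan : TopVan 𝒜 a n)
  {M : Type u} [AddCommGroup M] [Module R M] {ℳ : ℤ → AddSubgroup M} [Decomposition ℳ]
  [SetLike.GradedSMul 𝒜 ℳ] (EM : GrLC.StarInjRes 𝒜 ℳ)
  {p : ℕ} (x : Fin p → M) (t : Fin p → ℤ) (hx : ∀ i, x i ∈ ℳ (t i))
  (hspan : Submodule.span R (Set.range x) = ⊤)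

include hvan hx hspan in
/-- the presentation data: right exactness of the top local cohomology along `⊕ R(-t_i) → M` -/
theorem exists_presentation :
    ∃ (EF : GrLC.StarInjRes 𝒜 (freeGMod 𝒜 t).gr)
      (Z : Submodule R (freeGMod 𝒜 t).carrier) (hZ : Z.IsHomogeneous (freeGMod 𝒜 t).gr)
      (EZ : GrLC.StarInjRes 𝒜 (subGMod 𝒜 (freeGMod 𝒜 t).gr Z hZ).gr)
      (hincl : GrLC.IsGrHom (subGMod 𝒜 (freeGMod 𝒜 t).gr Z hZ).gr (freeGMod 𝒜 t).gr Z.subtype),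
      Z = LinearMap.ker (fpi 𝒜 t x) ∧
      (∀ ξ : EM.H a n, ∃ Ξ : EF.H a n, Hphi EF EM (fpi 𝒜 t x) (fpi_gr 𝒜 t x hx) a n Ξ = ξ) ∧
      ∀ Ξ : EF.H a n, Hphi EF EM (fpi 𝒜 t x) (fpi_gr 𝒜 t x hx) a n Ξ = 0 →
        ∃ ζ : EZ.H a n, Hphi EZ EF Z.subtype hincl a n ζ = Ξ := by
  obtain ⟨EF⟩ := Groth.Agent.Helper6.GrExist.nonempty_starInjRes 𝒜 (freeGMod 𝒜 t).gr
  have hπ := fpi_gr 𝒜 t x hx
  have hZ : (LinearMap.ker (fpi 𝒜 t x)).IsHomogeneous (freeGMod 𝒜 t).gr := ker_isHomogeneous hπ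
  obtain ⟨EZ⟩ := Groth.Agent.Helper6.GrExist.nonempty_starInjRes 𝒜
    (subGMod 𝒜 (freeGMod 𝒜 t).gr (LinearMap.ker (fpi 𝒜 t x)) hZ).gr
  have hincl : GrLC.IsGrHom (subGMod 𝒜 (freeGMod 𝒜 t).gr (LinearMap.ker (fpi 𝒜 t x)) hZ).gr
      (freeGMod 𝒜 t).gr (LinearMap.ker (fpi 𝒜 t x)).subtype := fun _ _ h => h
  obtain ⟨δ, -, -, hmid, hright, -⟩ := exists_les EZ EF EM (LinearMap.ker (fpi 𝒜 t x)).subtype
    (fpi 𝒜 t x) hincl hπ Subtype.val_injective (fpi_surjective 𝒜 t x hspan)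
    (fun m hm => ⟨⟨m, hm⟩, rfl⟩) (fun m' => m'.2) a
  refine ⟨EF, LinearMap.ker (fpi 𝒜 t x), hZ, EZ, hincl, rfl, ?_, ?_⟩
  · intro ξ
    haveI := hvan (subGMod 𝒜 (freeGMod 𝒜 t).gr (LinearMap.ker (fpi 𝒜 t x)) hZ) EZ
    obtain ⟨Ξ, hΞ⟩ := (hright n ξ).mp (Subsingleton.elim _ _)
    exact ⟨Ξ, hΞ⟩
  · intro Ξ hΞ
    obtain ⟨ζ, hζ⟩ := (hmid n Ξ).mp hΞ
    exact ⟨ζ, hζ⟩

include hvan hx hspan in
/-- **generation**: the top local cohomology of `M` is generated by the images of the `τ_{x_i}` -/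
theorem gen (ξ : EM.H a n) : ∃ η : Fin p → I.H a n, ξ = ∑ i, tau I EM a n (x i) (η i) := by
  obtain ⟨EF, Z, hZ, EZ, hincl, -, hsurj, -⟩ := exists_presentation a n hvan EM x t hx hspan
  obtain ⟨Ξ, rfl⟩ := hsurj ξ
  refine ⟨fun i => Pc I a n t EF i Ξ, ?_⟩
  conv_lhs => rw [free_id I a n t EF Ξ]
  rw [map_sum]
  refine Finset.sum_congr rfl fun i _ => ?_
  rw [tau_nat I EF EM a n (fpi 𝒜 t x) (fpi_gr 𝒜 t x hx), fpi_fe]

omit [IsNoetherianRing R] in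
theorem Pc_tau' (EF : GrLC.StarInjRes 𝒜 (freeGMod 𝒜 t).gr) (i : Fin p) (v : Fin p → R)
    (ζ : I.H a n) : Pc I a n t EF i (tau I EF a n v ζ) = v i • ζ :=
  Pc_tau I a n t EF i v ζ

include hvan hx hspan in
/-- **relations**: a relation `∑ τ_{x_i}(η_i) = 0` in the top local cohomology of `M` comes from relations between the
generators `x_i` -/
theorem rel (η : Fin p → I.H a n) (h : ∑ i, tau I EM a n (x i) (η i) = 0) :
    ∃ (q : ℕ) (z : Fin q → (Fin p → R)) (ζ : Fin q → I.H a n),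
      (∀ l, ∑ i, z l i • x i = 0) ∧ ∀ i, η i = ∑ l, z l i • ζ l := by
  classical
  obtain ⟨EF, Z, hZ, EZ, hincl, hZker, -, hmid⟩ := exists_presentation a n hvan EM x t hx hspan
  have h1 : Hphi EF EM (fpi 𝒜 t x) (fpi_gr 𝒜 t x hx) a n
      (∑ i, tau I EF a n (fe 𝒜 t i) (η i)) = 0 := by
    rw [map_sum, ← h]
    refine Finset.sum_congr rfl fun i _ => ?_
    rw [tau_nat I EF EM a n (fpi 𝒜 t x) (fpi_gr 𝒜 t x hx), fpi_fe]
  obtain ⟨ζ', hζ'⟩ := hmid _ h1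
  haveI : Module.Finite R (subGMod 𝒜 (freeGMod 𝒜 t).gr Z hZ).carrier := by
    haveI : IsNoetherian R (Fin p → R) := inferInstance
    exact (inferInstance : Module.Finite R ↥(show Submodule R (Fin p → R) from Z))
  obtain ⟨q, zz, s, hzz, hspanZ⟩ := exists_homog_gens (R := R) (subGMod 𝒜 (freeGMod 𝒜 t).gr Z hZ).gr
  obtain ⟨ζ, hζ⟩ := gen I a n hvan EZ zz s hzz hspanZ ζ'
  refine ⟨q, fun l => (Z.subtype (zz l) : Fin p → R), ζ, ?_, ?_⟩
  · intro l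
    have hm : Z.subtype (zz l) ∈ LinearMap.ker (fpi 𝒜 t x) := by
      rw [← hZker]
      exact (zz l).2
    rw [LinearMap.mem_ker, fpi_apply] at hm
    exact hm
  · intro i
    have e1 : Pc I a n t EF i (∑ j, tau I EF a n (fe 𝒜 t j) (η j)) = η i := by
      rw [map_sum, Finset.sum_eq_single i]
      · have := Pc_tau' I a n t EF i (Pi.single i (1 : R)) (η i)
        rw [Pi.single_eq_same, one_smul] at this
        exact this
      · intro j _ hji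
        have := Pc_tau' I a n t EF i (Pi.single j (1 : R)) (η j)
        rw [Pi.single_eq_of_ne (Ne.symm hji), zero_smul] at this
        exact this
      · intro hi
        exact absurd (Finset.mem_univ i) hi
    have e2 : Pc I a n t EF i (∑ j, tau I EF a n (fe 𝒜 t j) (η j)) =
        ∑ l, (Z.subtype (zz l) : Fin p → R) i • ζ l := by
      rw [← hζ', hζ, map_sum, map_sum]
      refine Finset.sum_congr rfl fun l _ => ?_
      rw [tau_nat I EZ EF a n Z.subtype hincl]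
      exact Pc_tau' I a n t EF i (Z.subtype (zz l)) (ζ l)
    rw [← e1, e2]

end GenRel

end Groth.Agent.Helper7.GrTau
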