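import Mathlib
import Groth.Prelude.Def_GrLC
import Groth.Prelude.Def_GrSeg
import Groth.Agent.Helper7.GrTau5

/-!
# Graded duality for the top local cohomology, part 6: the comparison map `(H^n_a(M))^* → Hom_R(M, (H^n_a(R))^*)`
(helper7)
-/

set_option autoImplicit false
set_option linter.unusedSectionVars false

namespace Groth.Agent.Helper7.GrTau

open DirectSum Groth.Agent.Helper6.GrMod Groth.Agent.Helper6.GrCon Groth.Agent.Helper6.GrShift
  Groth.Agent.Helper7.GrDel Groth.Agent.Helper7.GrTopRE

universe u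

section GDualBasics

variable {k : Type u} [Field k] {R : Type u} [CommRing R] [Algebra k R]
  {M : Type u} [AddCommGroup M] [Module R M] [Module k M] [IsScalarTower k R M]
  (ℳ : ℤ → AddSubgroup M) [Decomposition ℳ]
  {D : Type u} [AddCommGroup D] [Module R D] [Module k D] [IsScalarTower k R D]
  (𝒟 : ℤ → AddSubgroup D) [Decomposition 𝒟]
  (β : D →ₗ[k] M →ₗ[k] k) (hD : GrSeg.IsGDual R ℳ 𝒟 β)

/-- two functionals agreeing on homogeneous elements are equal -/
theorem ext_homog {f g : M →ₗ[k] k} (h : ∀ n, ∀ y ∈ ℳ n, f y = g y) : f = g := by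
  classical
  apply LinearMap.ext
  intro y
  rw [← DirectSum.sum_support_decompose ℳ y, map_sum, map_sum]
  exact Finset.sum_congr rfl fun n _ => h n _ (decompose ℳ y n).2

include hD in
/-- the pairing with `D` is nondegenerate on the left -/
theorem gdual_eq_zero (d : D) (hd : ∀ y, β d y = 0) : d = 0 := by
  classical
  have key : ∀ n, (decompose 𝒟 d n : D) = 0 := by
    intro n
    apply hD.eq_zero n _ (decompose 𝒟 d n).2
    intro x hx
    have h1 : β d x = β (decompose 𝒟 d n : D) x := by
      conv_lhs => rw [← DirectSum.sum_support_decompose 𝒟 d]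
      rw [map_sum, LinearMap.sum_apply]
      by_cases hn : n ∈ (decompose 𝒟 d).support
      · rw [Finset.sum_eq_single n]
        · intro m _ hmn
          exact hD.vanish m _ (decompose 𝒟 d m).2 (-n) (fun h => hmn (by omega)) x hx
        · intro h; exact absurd hn h
      · rw [DFinsupp.notMem_support_iff] at hn
        rw [hn, ZeroMemClass.coe_zero, map_zero, LinearMap.zero_apply]
        apply Finset.sum_eq_zero
        intro m _
        by_cases hmn : m = n
        · rw [hmn, hn, ZeroMemClass.coe_zero, map_zero, LinearMap.zero_apply]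
        · exact hD.vanish m _ (decompose 𝒟 d m).2 (-n) (fun h => hmn (by omega)) x hx
    rw [← h1, hd]
  rw [← DirectSum.sum_support_decompose 𝒟 d]
  exact Finset.sum_eq_zero fun n _ => key n

include hD in
theorem gdual_injective : Function.Injective β := by
  refine (injective_iff_map_eq_zero β).mpr ?_
  intro d hd
  apply gdual_eq_zero ℳ 𝒟 β hD
  intro y
  rw [hd, LinearMap.zero_apply]

include hD in
/-- a functional supported in one degree is represented by a homogeneous element of the graded dual -/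
theorem gdual_exists_of_supported (n : ℤ) (f : M →ₗ[k] k)
    (hf : ∀ m : ℤ, m ≠ -n → ∀ y ∈ ℳ m, f y = 0) : ∃ d ∈ 𝒟 n, β d = f := by
  obtain ⟨d, hd, hdf⟩ := hD.exists_eq n f
  refine ⟨d, hd, ext_homog ℳ fun m y hy => ?_⟩
  by_cases hm : m = -n
  · subst hm
    exact hdf y hy
  · rw [hf m hm y hy]
    exact hD.vanish n d hd m hm y hy

end GDualBasics

section Eps

variable {k : Type u} [Field k] {R : Type u} [CommRing R] [Algebra k R] [IsNoetherianRing R]
  {𝒜 : ℤ → AddSubgroup R} [GradedRing 𝒜]
  (I : GrLC.StarInjRes 𝒜 𝒜) (a : HomogeneousIdeal 𝒜) (n : ℕ)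
  [Module k (I.H a n)] [IsScalarTower k R (I.H a n)] [Decomposition (I.Hgr a n)]
  {K : Type u} [AddCommGroup K] [Module R K] [Module k K] [IsScalarTower k R K]
  {𝒦 : ℤ → AddSubgroup K} [Decomposition 𝒦] [SetLike.GradedSMul 𝒜 𝒦]
  (βK : K →ₗ[k] I.H a n →ₗ[k] k) (hK : GrSeg.IsGDual R (I.Hgr a n) 𝒦 βK)
  {M : Type u} [AddCommGroup M] [Module R M]
  {ℳ : ℤ → AddSubgroup M} [Decomposition ℳ] [SetLike.GradedSMul 𝒜 ℳ]
  (EM : GrLC.StarInjRes 𝒜 ℳ) [Module k (EM.H a n)] [IsScalarTower k R (EM.H a n)]
  [Decomposition (EM.Hgr a n)]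
  {D : Type u} [AddCommGroup D] [Module R D] [Module k D] [IsScalarTower k R D]
  {𝒟 : ℤ → AddSubgroup D} [Decomposition 𝒟] [SetLike.GradedSMul 𝒜 𝒟]
  (βD : D →ₗ[k] EM.H a n →ₗ[k] k) (hD : GrSeg.IsGDual R (EM.Hgr a n) 𝒟 βD)

/-- the functional `η ↦ β_D(δ)(τ_x η)` on `H^n_a(R)` -/
noncomputable def theta (δ : D) (x : M) : I.H a n →ₗ[k] k :=
  (βD δ).comp ((tau I EM a n x).restrictScalars k)

theorem theta_apply (δ : D) (x : M) (η : I.H a n) :
    theta I a n EM βD δ x η = βD δ (tau I EM a n x η) := rfl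

theorem theta_add_left (δ δ' : D) (x : M) :
    theta I a n EM βD (δ + δ') x = theta I a n EM βD δ x + theta I a n EM βD δ' x := by
  apply LinearMap.ext
  intro η
  rw [LinearMap.add_apply, theta_apply, theta_apply, theta_apply, map_add, LinearMap.add_apply]

theorem theta_add_right (δ : D) (x y : M) :
    theta I a n EM βD δ (x + y) = theta I a n EM βD δ x + theta I a n EM βD δ y := by
  apply LinearMap.ext
  intro η
  rw [LinearMap.add_apply, theta_apply, theta_apply, theta_apply, map_add, LinearMap.add_apply,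
    map_add]

theorem theta_zero_left (x : M) : theta I a n EM βD 0 x = 0 := by
  apply LinearMap.ext
  intro η
  rw [theta_apply, map_zero, LinearMap.zero_apply, LinearMap.zero_apply]

theorem theta_zero_right (δ : D) : theta I a n EM βD δ (0 : M) = 0 := by
  apply LinearMap.ext
  intro η
  rw [theta_apply, map_zero, LinearMap.zero_apply, map_zero, LinearMap.zero_apply]

include hK hD in
theorem exists_kappa_homog {d s : ℤ} {δ : D} (hδ : δ ∈ 𝒟 d) {x : M} (hx : x ∈ ℳ s) :
    ∃ κ ∈ 𝒦 (d + s), βK κ = theta I a n EM βD δ x := by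
  apply gdual_exists_of_supported (I.Hgr a n) 𝒦 βK hK (d + s)
  intro m hm y hy
  rw [theta_apply]
  exact hD.vanish d δ hδ (m + s) (by omega) _ (tau_gr I EM a n hx y hy)

include hK hD in
theorem exists_kappa (δ : D) (x : M) : ∃ κ : K, βK κ = theta I a n EM βD δ x := by
  induction δ using Decomposition.inductionOn 𝒟 with
  | zero => exact ⟨0, by rw [map_zero, theta_zero_left]⟩
  | @homogeneous d δ =>
    induction x using Decomposition.inductionOn ℳ with
    | zero => exact ⟨0, by rw [map_zero, theta_zero_right]⟩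
    | @homogeneous s x =>
      obtain ⟨κ, -, h⟩ := exists_kappa_homog I a n βK hK EM βD hD δ.2 x.2
      exact ⟨κ, h⟩
    | add x y hx hy =>
      obtain ⟨κ, h⟩ := hx
      obtain ⟨κ', h'⟩ := hy
      exact ⟨κ + κ', by rw [map_add, h, h', theta_add_right]⟩
  | add δ δ' h h' =>
    obtain ⟨κ, h⟩ := h
    obtain ⟨κ', h'⟩ := h'
    exact ⟨κ + κ', by rw [map_add, h, h', theta_add_left]⟩

/-- the element of `K = (H^n_a(R))^*` representing `θ(δ, x)` -/
noncomputable def kap (δ : D) (x : M) : K :=
  Classical.choose (exists_kappa I a n βK hK EM βD hD δ x)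

theorem kap_spec (δ : D) (x : M) :
    βK (kap I a n βK hK EM βD hD δ x) = theta I a n EM βD δ x :=
  Classical.choose_spec (exists_kappa I a n βK hK EM βD hD δ x)

theorem kap_apply (δ : D) (x : M) (η : I.H a n) :
    βK (kap I a n βK hK EM βD hD δ x) η = βD δ (tau I EM a n x η) := by
  rw [kap_spec, theta_apply]

/-- **the comparison map** `(H^n_a(M))^* → Hom_R(M, (H^n_a(R))^*)` -/
noncomputable def eps : D →ₗ[R] (M →ₗ[R] K) where
  toFun δ :=
    { toFun := fun x => kap I a n βK hK EM βD hD δ x
      map_add' := fun x y => by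
        apply gdual_injective (I.Hgr a n) 𝒦 βK hK
        rw [map_add, kap_spec, kap_spec, kap_spec, theta_add_right]
      map_smul' := fun r x => by
        apply gdual_injective (I.Hgr a n) 𝒦 βK hK
        apply LinearMap.ext
        intro η
        rw [RingHom.id_apply, hK.map_smul, kap_apply, kap_apply, tau_smul,
          (tau I EM a n x).map_smul r η] }
  map_add' δ δ' := by
    apply LinearMap.ext
    intro x
    apply gdual_injective (I.Hgr a n) 𝒦 βK hK
    show βK (kap I a n βK hK EM βD hD (δ + δ') x) =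
      βK (kap I a n βK hK EM βD hD δ x + kap I a n βK hK EM βD hD δ' x)
    rw [map_add, kap_spec, kap_spec, kap_spec, theta_add_left]
  map_smul' r δ := by
    apply LinearMap.ext
    intro x
    apply gdual_injective (I.Hgr a n) 𝒦 βK hK
    apply LinearMap.ext
    intro η
    show βK (kap I a n βK hK EM βD hD (r • δ) x) η =
      βK (r • kap I a n βK hK EM βD hD δ x) η
    rw [hK.map_smul, kap_apply, kap_apply, hD.map_smul, (tau I EM a n x).map_smul r η]

theorem eps_apply (δ : D) (x : M) (η : I.H a n) :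
    βK (eps I a n βK hK EM βD hD δ x) η = βD δ (tau I EM a n x η) :=
  kap_apply I a n βK hK EM βD hD δ x η

/-- the comparison map respects degrees -/
theorem eps_gr {d : ℤ} {δ : D} (hδ : δ ∈ 𝒟 d) :
    eps I a n βK hK EM βD hD δ ∈ GrLC.homDeg 𝒜 ℳ 𝒦 d := by
  intro s x hx
  obtain ⟨κ, hκ, h⟩ := exists_kappa_homog I a n βK hK EM βD hD hδ hx
  have e : κ = eps I a n βK hK EM βD hD δ x := by
    apply gdual_injective (I.Hgr a n) 𝒦 βK hK
    rw [h]
    exact (kap_spec I a n βK hK EM βD hD δ x).symm
  rw [← e, add_comm]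
  exact hκ

variable (hvan : TopVan 𝒜 a n) [Module.Finite R M]

include hvan in
/-- the comparison map is injective (generation of the top local cohomology) -/
theorem eps_injective : Function.Injective (eps I a n βK hK EM βD hD) := by
  refine (injective_iff_map_eq_zero _).mpr ?_
  intro δ hδ
  apply gdual_eq_zero (EM.Hgr a n) 𝒟 βD hD
  intro ξ
  obtain ⟨p, x, t, hx, hspan⟩ := exists_homog_gens (R := R) ℳ
  obtain ⟨η, rfl⟩ := gen I a n hvan EM x t hx hspan ξ
  rw [map_sum]
  apply Finset.sum_eq_zero
  intro i _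
  rw [← eps_apply I a n βK hK EM βD hD, hδ, LinearMap.zero_apply, map_zero,
    LinearMap.zero_apply]

end Eps

end Groth.Agent.Helper7.GrTau
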