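import Mathlib
import Groth.Prelude.Def_GrLC
import Groth.Prelude.Def_GrSeg
import Groth.Agent.Helper7.GrTau6
import Groth.Agent.Helper7.GrDu3

/-!
# Graded duality for the top local cohomology, part 7: `(H^n_a(M))^* ≅ Hom_R(M, (H^n_a(R))^*)` (helper7)
-/

set_option autoImplicit false
set_option linter.unusedSectionVars false

namespace Groth.Agent.Helper7.GrTau

open DirectSum Groth.Agent.Helper6.GrMod Groth.Agent.Helper6.GrCon Groth.Agent.Helper6.GrShift
  Groth.Agent.Helper7.GrDel Groth.Agent.Helper7.GrTopRE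

universe u

section Surj

variable {k : Type u} [Field k] {R : Type u} [CommRing R] [Algebra k R] [IsNoetherianRing R]
  {𝒜 : ℤ → AddSubgroup R} [GradedRing 𝒜]
  (I : GrLC.StarInjRes 𝒜 𝒜) (a : HomogeneousIdeal 𝒜) (n : ℕ)
  [Module k (I.H a n)] [IsScalarTower k R (I.H a n)] [Decomposition (I.Hgr a n)]
  {K : Type u} [AddCommGroup K] [Module R K] [Module k K] [IsScalarTower k R K]
  {𝒦 : ℤ → AddSubgroup K} [Decomposition 𝒦] [SetLike.GradedSMul 𝒜 𝒦]
  (βK : K →ₗ[k] I.H a n →ₗ[k] k) (hK : GrSeg.IsGDual R (I.Hgr a n) 𝒦 βK)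
  {M : Type u} [AddCommGroup M] [Module R M]
  {ℳ : ℤ → AddSubgroup M} [Decomposition ℳ] [SetLike.GradedSMul 𝒜 ℳ]
  (EM : GrLC.StarInjRes 𝒜 ℳ) [Module k (EM.H a n)] [IsScalarTower k R (EM.H a n)]
  [Decomposition (EM.Hgr a n)]
  {D : Type u} [AddCommGroup D] [Module R D] [Module k D] [IsScalarTower k R D]
  {𝒟 : ℤ → AddSubgroup D} [Decomposition 𝒟] [SetLike.GradedSMul 𝒜 𝒟]
  (βD : D →ₗ[k] EM.H a n →ₗ[k] k) (hD : GrSeg.IsGDual R (EM.Hgr a n) 𝒟 βD)
  (hvan : TopVan 𝒜 a n)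
  {p : ℕ} (x : Fin p → M) (t : Fin p → ℤ) (hx : ∀ i, x i ∈ ℳ (t i))
  (hspan : Submodule.span R (Set.range x) = ⊤)

/-- `τ_x` commutes with taking homogeneous components -/
theorem decompose_tau {s : ℤ} {y : M} (hy : y ∈ ℳ s) (η : I.H a n) (j : ℤ) :
    (decompose (EM.Hgr a n) (tau I EM a n y η) j : EM.H a n) =
      tau I EM a n y (decompose (I.Hgr a n) η (j - s) : I.H a n) := by
  induction η using Decomposition.inductionOn (I.Hgr a n) with
  | zero => simp
  | @homogeneous j' η =>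
    have hm := tau_gr I EM a n hy η.1 η.2
    by_cases hj : j' + s = j
    · subst hj
      rw [decompose_of_mem_same _ hm]
      have e : j' + s - s = j' := by ring
      rw [e, decompose_of_mem_same _ η.2]
    · rw [decompose_of_mem_ne _ hm hj, decompose_of_mem_ne _ η.2 (by omega), map_zero]
  | add η η' h h' =>
    rw [map_add, decompose_add, DirectSum.add_apply, AddSubgroup.coe_add, h, h', decompose_add,
      DirectSum.add_apply, AddSubgroup.coe_add, map_add]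

variable (k) in
/-- `η ↦ ∑ τ_{x_i}(η_i)` -/
noncomputable def Tmap : (Fin p → I.H a n) →ₗ[k] EM.H a n :=
  ∑ i, ((tau I EM a n (x i)).restrictScalars k).comp (LinearMap.proj i)

theorem Tmap_apply (η : Fin p → I.H a n) :
    Tmap k I a n EM x η = ∑ i, tau I EM a n (x i) (η i) := by
  unfold Tmap
  rw [LinearMap.sum_apply]
  rfl

/-- `η ↦ ∑ β_K(f x_i)(η_i)` -/
noncomputable def Lam (f : M →ₗ[R] K) : (Fin p → I.H a n) →ₗ[k] k :=
  ∑ i, (βK (f (x i))).comp (LinearMap.proj i)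

theorem Lam_apply (f : M →ₗ[R] K) (η : Fin p → I.H a n) :
    Lam I a n βK x f η = ∑ i, βK (f (x i)) (η i) := by
  unfold Lam
  rw [LinearMap.sum_apply]
  rfl

include hvan hx hspan in
theorem Tmap_surjective : Function.Surjective (Tmap k I a n EM x) := by
  intro ξ
  obtain ⟨η, hη⟩ := gen I a n hvan EM x t hx hspan ξ
  exact ⟨η, by rw [Tmap_apply, hη]⟩

include hvan hx hspan hK in
theorem ker_Tmap_le (f : M →ₗ[R] K) :
    LinearMap.ker (Tmap k I a n EM x) ≤ LinearMap.ker (Lam I a n βK x f) := by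
  intro η hη
  rw [LinearMap.mem_ker, Tmap_apply] at hη
  obtain ⟨q, z, ζ, hz, hηz⟩ := rel I a n hvan EM x t hx hspan η hη
  rw [LinearMap.mem_ker, Lam_apply]
  have h1 : ∀ i, βK (f (x i)) (η i) = ∑ l, βK (f (z l i • x i)) (ζ l) := by
    intro i
    rw [hηz i, map_sum]
    refine Finset.sum_congr rfl fun l _ => ?_
    rw [map_smul f, hK.map_smul]
  rw [Finset.sum_congr rfl (fun i _ => h1 i), Finset.sum_comm]
  apply Finset.sum_eq_zero
  intro l _
  have h2 : ∑ i, βK (f (z l i • x i)) (ζ l) = βK (f (∑ i, z l i • x i)) (ζ l) := by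
    rw [map_sum, map_sum, LinearMap.sum_apply]
  rw [h2, hz l, map_zero, map_zero, LinearMap.zero_apply]

include hvan hx hspan hK in
theorem exists_lam (f : M →ₗ[R] K) :
    ∃ lam : EM.H a n →ₗ[k] k, ∀ η, lam (Tmap k I a n EM x η) = Lam I a n βK x f η := by
  have hT := Tmap_surjective (k := k) I a n EM hvan x t hx hspan
  refine ⟨((LinearMap.ker (Tmap k I a n EM x)).liftQ (Lam I a n βK x f)
    (ker_Tmap_le I a n βK hK EM hvan x t hx hspan f)).comp
    ((Tmap k I a n EM x).quotKerEquivOfSurjective hT).symm.toLinearMap, fun η => ?_⟩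
  rw [LinearMap.comp_apply]
  show (LinearMap.ker (Tmap k I a n EM x)).liftQ _ _
    (((Tmap k I a n EM x).quotKerEquivOfSurjective hT).symm (Tmap k I a n EM x η)) = _
  rw [LinearMap.quotKerEquivOfSurjective_symm_apply]
  rfl

include hvan hx hspan in
/-- graded form of generation -/
theorem gen_homog {j : ℤ} (ξ : EM.H a n) (hξ : ξ ∈ EM.Hgr a n j) :
    ∃ η : Fin p → I.H a n, (∀ i, η i ∈ I.Hgr a n (j - t i)) ∧ Tmap k I a n EM x η = ξ := by
  obtain ⟨η, hη⟩ := gen I a n hvan EM x t hx hspan ξ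
  refine ⟨fun i => (decompose (I.Hgr a n) (η i) (j - t i) : I.H a n),
    fun i => (decompose (I.Hgr a n) (η i) (j - t i)).2, ?_⟩
  rw [Tmap_apply]
  have h1 : ξ = (decompose (EM.Hgr a n) ξ j : EM.H a n) := (decompose_of_mem_same _ hξ).symm
  rw [h1]
  conv_rhs => rw [hη]
  rw [decompose_sum, DFinsupp.finsetSum_apply, AddSubmonoidClass.coe_finsetSum]
  refine Finset.sum_congr rfl fun i _ => ?_
  exact (decompose_tau I a n EM (hx i) (η i) j).symm

include hvan hx hspan hK hD in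
/-- homogeneous maps are in the range of the comparison map -/
theorem mem_range_of_homog {d : ℤ} (f : M →ₗ[R] K) (hf : f ∈ GrLC.homDeg 𝒜 ℳ 𝒦 d) :
    ∃ δ : D, eps I a n βK hK EM βD hD δ = f := by
  obtain ⟨lam, hlam⟩ := exists_lam I a n βK hK EM hvan x t hx hspan f
  have hsupp : ∀ m : ℤ, m ≠ -d → ∀ ξ ∈ EM.Hgr a n m, lam ξ = 0 := by
    intro m hm ξ hξ
    obtain ⟨η, hη, rfl⟩ := gen_homog (k := k) I a n EM hvan x t hx hspan ξ hξ
    rw [hlam, Lam_apply]
    apply Finset.sum_eq_zero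
    intro i _
    exact hK.vanish (t i + d) (f (x i)) (hf (t i) (x i) (hx i)) (m - t i) (by omega) _ (hη i)
  obtain ⟨δ, -, hδ⟩ := gdual_exists_of_supported (EM.Hgr a n) 𝒟 βD hD d lam hsupp
  refine ⟨δ, ?_⟩
  apply LinearMap.ext
  intro y
  apply gdual_injective (I.Hgr a n) 𝒦 βK hK
  apply LinearMap.ext
  intro η
  rw [eps_apply, hδ]
  have hy : y ∈ Submodule.span R (Set.range x) := by rw [hspan]; trivial
  obtain ⟨c, rfl⟩ := (Submodule.mem_span_range_iff_exists_fun R).mp hy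
  have h1 : tau I EM a n (∑ i, c i • x i) η = Tmap k I a n EM x (fun i => c i • η) := by
    rw [Tmap_apply, map_sum, LinearMap.sum_apply]
    refine Finset.sum_congr rfl fun i _ => ?_
    rw [tau_smul, (tau I EM a n (x i)).map_smul]
  rw [h1, hlam, Lam_apply, map_sum, map_sum, LinearMap.sum_apply]
  refine Finset.sum_congr rfl fun i _ => ?_
  rw [map_smul f, hK.map_smul]

end Surj

section Main

variable {k : Type u} [Field k] {R : Type u} [CommRing R] [Algebra k R] [IsNoetherianRing R]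
  {𝒜 : ℤ → AddSubgroup R} [GradedRing 𝒜]
  (I : GrLC.StarInjRes 𝒜 𝒜) (a : HomogeneousIdeal 𝒜) (n : ℕ)
  [Module k (I.H a n)] [IsScalarTower k R (I.H a n)] [Decomposition (I.Hgr a n)]
  {K : Type u} [AddCommGroup K] [Module R K] [Module k K] [IsScalarTower k R K]
  {𝒦 : ℤ → AddSubgroup K} [Decomposition 𝒦] [SetLike.GradedSMul 𝒜 𝒦]
  (βK : K →ₗ[k] I.H a n →ₗ[k] k) (hK : GrSeg.IsGDual R (I.Hgr a n) 𝒦 βK)
  {M : Type u} [AddCommGroup M] [Module R M] [Module.Finite R M]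
  {ℳ : ℤ → AddSubgroup M} [Decomposition ℳ] [SetLike.GradedSMul 𝒜 ℳ]
  (EM : GrLC.StarInjRes 𝒜 ℳ) [Module k (EM.H a n)] [IsScalarTower k R (EM.H a n)]
  [Decomposition (EM.Hgr a n)]
  {D : Type u} [AddCommGroup D] [Module R D] [Module k D] [IsScalarTower k R D]
  {𝒟 : ℤ → AddSubgroup D} [Decomposition 𝒟] [SetLike.GradedSMul 𝒜 𝒟]
  (βD : D →ₗ[k] EM.H a n →ₗ[k] k) (hD : GrSeg.IsGDual R (EM.Hgr a n) 𝒟 βD)
  (hvan : TopVan 𝒜 a n)

include hvan in
theorem eps_surjective : Function.Surjective (eps I a n βK hK EM βD hD) := by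
  classical
  intro f
  obtain ⟨p, x, t, hx, hspan⟩ := exists_homog_gens (R := R) ℳ
  obtain ⟨J, hJ⟩ := Groth.Agent.Helper7.GrDu.exists_sum_homComp 𝒜 ℳ 𝒦 f
  have hex : ∀ j : ℤ, ∃ δ : D, eps I a n βK hK EM βD hD δ =
      Groth.Agent.Helper7.GrDu.homComp 𝒜 ℳ 𝒦 f j := fun j =>
    mem_range_of_homog I a n βK hK EM βD hD hvan x t hx hspan _
      (Groth.Agent.Helper7.GrDu.homComp_mem 𝒜 ℳ 𝒦 f j)
  choose δ hδ using hex
  refine ⟨∑ j ∈ J, δ j, ?_⟩
  rw [map_sum, Finset.sum_congr rfl (fun j _ => hδ j)]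
  exact hJ.symm

include I a n βK hK EM βD hD hvan in
/-- **graded duality for the top local cohomology**: `(H^n_a(M))^* ≅ Hom_R(M, (H^n_a(R))^*)`, an isomorphism of
graded modules, for a finitely generated graded module `M` over a Noetherian graded `k`-algebra with
`H^{n+1}_a = 0` -/
theorem exists_gdual_equiv :
    ∃ ε : D ≃ₗ[R] (M →ₗ[R] K),
      GrLC.IsGrHom 𝒟 (fun d : ℤ => (GrLC.homDeg 𝒜 ℳ 𝒦 d).toAddSubgroup) ε.toLinearMap :=
  ⟨LinearEquiv.ofBijective (eps I a n βK hK EM βD hD)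
    ⟨eps_injective I a n βK hK EM βD hD hvan, eps_surjective I a n βK hK EM βD hD hvan⟩,
    fun _ _ hδ => eps_gr I a n βK hK EM βD hD hδ⟩

end Main

end Groth.Agent.Helper7.GrTau
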