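import Mathlib
import Groth.Prelude.Def_GrSyz
import Groth.Agent.Helper7.GrKHtpy

/-!
# The modules `T^i(R)` and a vanishing criterion for `Tor_p(R, k)_j`
-/

set_option autoImplicit false
set_option linter.unusedSectionVars false
set_option linter.style.haveILetI false

open DirectSum MvPolynomial

namespace Groth.Agent.Helper7.GrTi

open Groth.Agent.Helper7.HilbFn Groth.Agent.Helper7.GrSyzMin Groth.Agent.Helper7.MinRes
  Groth.Agent.Helper7.GrTorV Groth.Agent.Helper7.GrTorS Groth.Agent.Helper7.GrTorBal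
  Groth.Agent.Helper7.GrTorK Groth.Agent.Helper7.GrTorKos Groth.Agent.Helper7.GrKHtpy
  Groth.Agent.Helper7

universe u

variable {k : Type u} [Field k] {r : ℕ}

local notation "S" => MvPolynomial (Fin (r + 1)) k
local notation "𝒜" => GrSyz.stdGr k (Fin (r + 1))
local notation "𝔪" => HomogeneousIdeal.toIdeal (GrSyz.irrel (GrSyz.stdGr k (Fin (r + 1))))

variable (M : Type u) [AddCommGroup M] [Module k M] [Module (MvPolynomial (Fin (r + 1)) k) M]
  [IsScalarTower k (MvPolynomial (Fin (r + 1)) k) M]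

/-- the module `T^i(M)`: functions on words of length `i` killed by the multiplication map in
every slot. -/
def Tsub (i : ℕ) : Submodule (MvPolynomial (Fin (r + 1)) k) ((Fin i → Fin (r + 1)) → M) where
  carrier := {m | ∀ (s : Fin i) (c : Fin i → Fin (r + 1)),
    ∑ v : Fin (r + 1), (X v : MvPolynomial (Fin (r + 1)) k) • m (Function.update c s v) = 0}
  add_mem' := by
    intro a b ha hb s c
    simp only [Pi.add_apply, smul_add, Finset.sum_add_distrib, ha s c, hb s c, add_zero]
  zero_mem' := by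
    intro s c
    simp
  smul_mem' := by
    intro t a ha s c
    simp only [Pi.smul_apply]
    have : ∀ v : Fin (r + 1), (X v : S) • t • a (Function.update c s v) =
        t • ((X v : S) • a (Function.update c s v)) := fun v => smul_comm _ _ _
    simp only [this, ← Finset.smul_sum, ha s c, smul_zero]

variable {M}

theorem mem_Tsub {i : ℕ} {m : (Fin i → Fin (r + 1)) → M} :
    m ∈ Tsub (k := k) (r := r) M i ↔ ∀ (s : Fin i) (c : Fin i → Fin (r + 1)),
      ∑ v : Fin (r + 1), (X v : S) • m (Function.update c s v) = 0 := Iff.rfl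

variable (ℳ : ℤ → Submodule k M)

/-- the pieces of `T^i(M)`. -/
def Tgr (i : ℕ) (e : ℤ) : AddSubgroup (Tsub (k := k) (r := r) M i) where
  carrier := {m | ∀ c, m.1 c ∈ ℳ (e - i)}
  add_mem' := by
    intro a b ha hb c
    exact add_mem (ha c) (hb c)
  zero_mem' := by
    intro c
    exact zero_mem _
  neg_mem' := by
    intro a ha c
    exact neg_mem (ha c)

variable {ℳ}

theorem mem_Tgr {i : ℕ} {e : ℤ} {m : Tsub (k := k) (r := r) M i} :
    m ∈ Tgr ℳ i e ↔ ∀ c, m.1 c ∈ ℳ (e - i) := Iff.rfl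

variable (ℳ) [SetLike.GradedSMul (GrSyz.stdGr k (Fin (r + 1))) ℳ]

theorem gsmul_Tgr (i : ℕ) : GSMul (R := S) 𝒜 (Tgr (r := r) ℳ i) := by
  intro a b s x hs hx c
  have := SetLike.GradedSMul.smul_mem (A := 𝒜) (B := ℳ) hs (hx c)
  rw [vadd_eq_add, show a + (b - (i : ℤ)) = a + b - i by ring] at this
  exact this

/-- `T^i(M)_e = S_1 · T^i(M)_{e-1}`. -/
def Sj (i : ℕ) (e : ℤ) : Prop :=
  ∀ m ∈ Tgr (r := r) ℳ i e, ∃ m' : Fin (r + 1) → Tsub (k := k) (r := r) M i,
    (∀ v, m' v ∈ Tgr ℳ i (e - 1)) ∧ ∑ v, (X v : S) • m' v = m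

variable (K : KRes k r)

theorem act_val {i : ℕ} {n n' : ℕ} (A : Matrix (Fin n) (Fin n') S)
    (w : Fin n' → Tsub (k := k) (r := r) M i) (b : Fin n) (c : Fin i → Fin (r + 1)) :
    (act A w b).1 c = ∑ a, A b a • (w a).1 c := by
  rw [act_apply, Submodule.coe_sum, Finset.sum_apply]
  rfl

theorem tvan_T_zero (i : ℕ) (j : ℤ) (h : Sj (r := r) ℳ i j) : Tvan K.toCx (Tgr (r := r) ℳ i) 0 j := by
  intro z hz _
  have hz' : ∀ a, z a ∈ Tgr ℳ i j := by
    intro a
    have := hz a
    rwa [K.deg_zero, sub_zero] at this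
  choose m' hm' hsum using fun a => h (z a) (hz' a)
  refine bdry_of_sum K 0 (Tgr ℳ i) (gsmul_Tgr ℳ i) j z (fun v a => m' a v) ?_ (fun _ => trivial) ?_
  · intro v a
    rw [K.deg_zero, sub_zero]
    exact hm' a v
  · funext a
    rw [Finset.sum_apply]
    exact (hsum a).symm


/-- from `Fin (r+1) → T^i` summing to zero against the variables... the element of `T^{i+1}`. -/
theorem tvan_T_succ (p i : ℕ) (j : ℤ) (h0 : Sj (r := r) ℳ i (j - ((p + 1 : ℕ) : ℤ)))
    (ih : Tvan K.toCx (Tgr (r := r) ℳ (i + 1)) p j) :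
    Tvan K.toCx (Tgr (r := r) ℳ i) (p + 1) j := by
  intro z hz hcyc
  have hcyc' : act (K.d p) z = 0 := hcyc
  have hz' : ∀ a, z a ∈ Tgr ℳ i (j - ((p + 1 : ℕ) : ℤ)) := by
    intro a
    have := hz a
    rwa [(deg_eq K (p + 1) a).1] at this
  choose y0 hy0 hsum using fun a => h0 (z a) (hz' a)
  -- the boundaries of the `y0 · v`
  set D : Fin (r + 1) → Fin (K.rk p) → Tsub (k := k) (r := r) M i :=
    fun v => act (K.d p) (fun a => y0 a v) with hD
  have hy0str : ∀ v, InStr (Tgr ℳ i) (K.deg (p + 1)) (j - 1) (fun a => y0 a v) := by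
    intro v a
    rw [(deg_eq K (p + 1) a).1]
    have := hy0 a v
    rwa [show j - ((p + 1 : ℕ) : ℤ) - 1 = j - 1 - ((p + 1 : ℕ) : ℤ) by ring] at this
  have hDstr : ∀ v, InStr (Tgr ℳ i) (K.deg p) (j - 1) (D v) := fun v =>
    (hy0str v).act (gsmul_Tgr ℳ i) (K.d_mem p)
  have hDsum : ∀ b, ∑ v, (X v : S) • D v b = 0 := by
    intro b
    have h1 : (∑ v, (X v : S) • D v) = act (K.d p) z := by
      have : z = ∑ v, (X v : S) • (fun a => y0 a v) := by
        funext a
        rw [Finset.sum_apply]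
        exact (hsum a).symm
      rw [this, act_sum]
      exact Finset.sum_congr rfl fun v _ => (act_smul _ _ _).symm
    have h2 := congrFun h1 b
    rw [hcyc', Finset.sum_apply] at h2
    exact h2
  -- the element of `K_p ⊗ T^{i+1}`
  have hy1mem : ∀ b : Fin (K.rk p), (fun c : Fin (i + 1) → Fin (r + 1) => (D (c 0) b).1 (Fin.tail c)) ∈
      Tsub (k := k) (r := r) M (i + 1) := by
    intro b s c
    refine Fin.cases ?_ (fun s' => ?_) s
    · simp only [Function.update_self, Fin.tail_update_zero]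
      have := congrArg (fun t : Tsub (k := k) (r := r) M i => t.1 (Fin.tail c)) (hDsum b)
      simp only [Submodule.coe_sum, Submodule.coe_smul, Finset.sum_apply, Pi.smul_apply,
        Submodule.coe_zero, Pi.zero_apply] at this
      exact this
    · have hne : (0 : Fin (i + 1)) ≠ s'.succ := (Fin.succ_ne_zero s').symm
      simp only [Function.update_of_ne hne, Fin.tail_update_succ]
      exact (D (c 0) b).2 s' (Fin.tail c)
  set y1 : Fin (K.rk p) → Tsub (k := k) (r := r) M (i + 1) := fun b => ⟨_, hy1mem b⟩ with hy1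
  have hy1str : InStr (Tgr ℳ (i + 1)) (K.deg p) j y1 := by
    intro b c
    have := hDstr (c 0) b (Fin.tail c)
    rw [show j - 1 - K.deg p b - (i : ℤ) = j - K.deg p b - ((i + 1 : ℕ) : ℤ) by push_cast; ring] at this
    exact this
  have hy1cyc : IsCyc K.toCx p y1 := by
    cases p with
    | zero => trivial
    | succ p' =>
      show act (K.d p') y1 = 0
      funext b'
      apply Subtype.ext
      funext c
      rw [act_val]
      show ∑ b, K.d p' b' b • (D (c 0) b).1 (Fin.tail c) = 0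
      rw [← act_val, hD]
      simp only
      rw [← act_mul, K.d_comp, act_zero_matrix]
      rfl
  obtain ⟨w, hw, hdw⟩ := ih y1 hy1str hy1cyc
  -- back to `T^i`
  have hw'mem : ∀ (a : Fin (K.rk (p + 1))) (v : Fin (r + 1)),
      (fun c : Fin i → Fin (r + 1) => (w a).1 (Fin.cons v c)) ∈ Tsub (k := k) (r := r) M i := by
    intro a v s c
    have := (w a).2 s.succ (Fin.cons v c)
    simp only [← Fin.cons_update] at this
    exact this
  set w' : Fin (K.rk (p + 1)) → Fin (r + 1) → Tsub (k := k) (r := r) M i :=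
    fun a v => ⟨_, hw'mem a v⟩ with hw'
  have hw'sum : ∀ a, ∑ v, (X v : S) • w' a v = 0 := by
    intro a
    apply Subtype.ext
    funext c
    simp only [Submodule.coe_sum, Submodule.coe_smul, Finset.sum_apply, Pi.smul_apply,
      Submodule.coe_zero, Pi.zero_apply]
    have := (w a).2 0 (Fin.cons 0 c)
    simp only [Fin.update_cons_zero] at this
    exact this
  have hw'str : ∀ v, InStr (Tgr ℳ i) (K.deg (p + 1)) (j - 1) (fun a => w' a v) := by
    intro v a c
    have := hw a (Fin.cons v c)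
    rw [show j - K.deg (p + 1) a - ((i + 1 : ℕ) : ℤ) = j - 1 - K.deg (p + 1) a - (i : ℤ) by
      push_cast; ring] at this
    exact this
  have hw'd : ∀ v, act (K.d p) (fun a => w' a v) = D v := by
    intro v
    funext b
    apply Subtype.ext
    funext c
    rw [act_val]
    show ∑ a, K.d p b a • (w a).1 (Fin.cons v c) = _
    rw [← act_val, hdw]
    show (D ((Fin.cons v c : Fin (i + 1) → Fin (r + 1)) 0) b).1
      (Fin.tail (Fin.cons v c : Fin (i + 1) → Fin (r + 1))) = _
    rw [Fin.cons_zero, Fin.tail_cons]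
  refine bdry_of_sum K (p + 1) (Tgr ℳ i) (gsmul_Tgr ℳ i) j z
    (fun v a => y0 a v - w' a v) ?_ ?_ ?_
  · intro v
    exact (hy0str v).sub (hw'str v)
  · intro v
    show act (K.d p) (fun a => y0 a v - w' a v) = 0
    have : (fun a => y0 a v - w' a v) = (fun a => y0 a v) - (fun a => w' a v) := rfl
    rw [this, act_sub, hw'd v]
    exact sub_self _
  · funext a
    rw [Finset.sum_apply]
    simp only [Pi.smul_apply, smul_sub, Finset.sum_sub_distrib]
    rw [hsum a, hw'sum a, sub_zero]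

theorem tvan_T (p : ℕ) : ∀ (i : ℕ) (j : ℤ),
    (∀ t : ℕ, t ≤ p → Sj (r := r) ℳ (i + t) (j - (p : ℤ) + (t : ℤ))) →
    Tvan K.toCx (Tgr (r := r) ℳ i) p j := by
  induction p with
  | zero =>
    intro i j h
    have := h 0 le_rfl
    simp only [Nat.cast_zero, add_zero, sub_zero] at this
    exact tvan_T_zero ℳ K i j this
  | succ p ih =>
    intro i j h
    refine tvan_T_succ ℳ K p i j ?_ (ih (i + 1) j ?_)
    · have := h 0 (Nat.zero_le _)
      simpa using this
    · intro t ht
      have := h (t + 1) (by omega)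
      rw [show i + (t + 1) = i + 1 + t by ring,
        show j - ((p + 1 : ℕ) : ℤ) + ((t + 1 : ℕ) : ℤ) = j - (p : ℤ) + (t : ℤ) by push_cast; ring] at this
      exact this


variable [DirectSum.Decomposition ℳ]

theorem sj_of_span (i : ℕ) (E : ℤ)
    (hgen : ∀ m : (Fin i → Fin (r + 1)) → M, m ∈ Tsub (k := k) (r := r) M i →
      m ∈ Submodule.span (MvPolynomial (Fin (r + 1)) k) {m' : (Fin i → Fin (r + 1)) → M |
        m' ∈ Tsub (k := k) (r := r) M i ∧ ∃ e : ℤ, e ≤ E - 1 ∧ ∀ c, m' c ∈ ℳ (e - (i : ℤ))}) :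
    Sj (r := r) ℳ i E := by
  classical
  intro m hm
  have h1 := hgen m.1 m.2
  rw [Submodule.mem_span_set'] at h1
  obtain ⟨n, f, g, hfg⟩ := h1
  choose e he hval using fun α => (g α).2.2
  have hpos : ∀ α, 0 < E - e α := fun α => by have := he α; omega
  choose t ht hsumt using fun α =>
    xdiv (E - e α) (hpos α) (decompose 𝒜 (f α) (E - e α) : S) (SetLike.coe_mem _)
  refine ⟨fun v => ⟨∑ α, t α v • (g α : (Fin i → Fin (r + 1)) → M),
    Submodule.sum_mem _ fun α _ => Submodule.smul_mem _ _ (g α).2.1⟩, ?_, ?_⟩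
  · intro v c
    show (∑ α, t α v • (g α : (Fin i → Fin (r + 1)) → M)) c ∈ ℳ (E - 1 - (i : ℤ))
    rw [Finset.sum_apply]
    refine sum_mem fun α _ => ?_
    have := SetLike.GradedSMul.smul_mem (A := 𝒜) (B := ℳ) (ht α v) (hval α c)
    rw [vadd_eq_add, show E - e α - 1 + (e α - (i : ℤ)) = E - 1 - i by ring] at this
    exact this
  · apply Subtype.ext
    funext c
    simp only [Submodule.coe_sum, Submodule.coe_smul, Finset.sum_apply, Pi.smul_apply,
      Finset.smul_sum]
    rw [Finset.sum_comm]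
    have h2 : m.1 c = (decompose ℳ (m.1 c) (E - (i : ℤ)) : M) :=
      (decompose_of_mem_same ℳ (hm c)).symm
    rw [h2, ← hfg, Finset.sum_apply, decompose_sum, DFinsupp.finsetSum_apply,
      AddSubmonoidClass.coe_finsetSum]
    refine Finset.sum_congr rfl fun α _ => ?_
    rw [Pi.smul_apply, decompose_smul_of_right_mem 𝒜 ℳ (hval α c) (f α) (E - (i : ℤ)),
      show E - (i : ℤ) - (e α - (i : ℤ)) = E - e α by ring, ← hsumt α, Finset.sum_smul]
    refine Finset.sum_congr rfl fun v _ => ?_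
    rw [mul_smul]

/-- `T^0(M) = M`. -/
noncomputable def equivZero : Tsub (k := k) (r := r) M 0 ≃ₗ[MvPolynomial (Fin (r + 1)) k] M where
  toFun m := m.1 (fun x => x.elim0)
  invFun x := ⟨fun _ => x, fun s => s.elim0⟩
  map_add' a b := rfl
  map_smul' t a := rfl
  left_inv m := by
    apply Subtype.ext
    funext c
    show m.1 _ = m.1 c
    exact congrArg m.1 (Subsingleton.elim _ _)
  right_inv x := rfl

theorem tvan_of_span (p : ℕ) (j : ℤ)
    (hgen : ∀ i : ℕ, i ≤ p → ∀ m : (Fin i → Fin (r + 1)) → M,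
      (∀ (s : Fin i) (c : Fin i → Fin (r + 1)),
        ∑ v : Fin (r + 1), (X v : MvPolynomial (Fin (r + 1)) k) • m (Function.update c s v) = 0) →
      m ∈ Submodule.span (MvPolynomial (Fin (r + 1)) k) {m' : (Fin i → Fin (r + 1)) → M |
        (∀ (s : Fin i) (c : Fin i → Fin (r + 1)),
          ∑ v : Fin (r + 1), (X v : MvPolynomial (Fin (r + 1)) k) • m' (Function.update c s v) = 0) ∧
        ∃ e : ℤ, e ≤ j - (p : ℤ) + (i : ℤ) - 1 ∧ ∀ c : Fin i → Fin (r + 1), m' c ∈ ℳ (e - (i : ℤ))}) :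
    Tvan K.toCx ℳ p j := by
  have h := tvan_T ℳ K p 0 j (fun t ht => by
    rw [zero_add]
    exact sj_of_span ℳ t (j - (p : ℤ) + (t : ℤ)) (hgen t ht))
  refine h.of_equiv K.toCx (equivZero (k := k) (r := r) (M := M)) ?_
  intro d m
  rw [mem_Tgr]
  constructor
  · intro hm
    have := hm (fun x => x.elim0)
    rwa [Nat.cast_zero, sub_zero] at this
  · intro hm c
    rw [Nat.cast_zero, sub_zero]
    have : c = fun x => x.elim0 := Subsingleton.elim _ _
    rw [this]
    exact hm

theorem main [Module.Finite (MvPolynomial (Fin (r + 1)) k) M] (p : ℕ) (j : ℤ)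
    (hgen : ∀ i : ℕ, i ≤ p → ∀ m : (Fin i → Fin (r + 1)) → M,
      (∀ (s : Fin i) (c : Fin i → Fin (r + 1)),
        ∑ v : Fin (r + 1), (X v : MvPolynomial (Fin (r + 1)) k) • m (Function.update c s v) = 0) →
      m ∈ Submodule.span (MvPolynomial (Fin (r + 1)) k) {m' : (Fin i → Fin (r + 1)) → M |
        (∀ (s : Fin i) (c : Fin i → Fin (r + 1)),
          ∑ v : Fin (r + 1), (X v : MvPolynomial (Fin (r + 1)) k) • m' (Function.update c s v) = 0) ∧
        ∃ e : ℤ, e ≤ j - (p : ℤ) + (i : ℤ) - 1 ∧ ∀ c : Fin i → Fin (r + 1), m' c ∈ ℳ (e - (i : ℤ))})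
    (F : GrSyz.FreeRes (GrSyz.stdGr k (Fin (r + 1))) ℳ)
    (hF : F.IsMinimal (HomogeneousIdeal.toIdeal (GrSyz.irrel (GrSyz.stdGr k (Fin (r + 1)))))) :
    F.betti p j = 0 := by
  obtain ⟨K⟩ := exists_kres k r
  rw [betti_eq_zero_iff F hF K p j]
  exact tvan_of_span ℳ K p j hgen

end Groth.Agent.Helper7.GrTi
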