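import Mathlib
import Groth.Prelude.Def_GrLC
import Groth.Agent.Helper6.GrCon

/-!
# Translation layer: from gradings valued in an arbitrary `SetLike` class (e.g. `Submodule k _`) to
gradings by additive subgroups, for graded rings, graded modules, *injective resolutions and their graded
local cohomology.
-/

set_option autoImplicit false
set_option linter.unusedSectionVars false

namespace Groth.Agent.Helper7.GrTr

open DirectSum

universe u

section Fam

variable {ι : Type*} [DecidableEq ι] {N : Type*} [AddCommGroup N] {τ : Type*} [SetLike τ N]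
  [AddSubgroupClass τ N] (𝒩 : ι → τ)

/-- the same family of pieces, as additive subgroups -/
def toAS : ι → AddSubgroup N := fun i => AddSubgroup.ofClass (𝒩 i)

theorem mem_toAS {i : ι} {x : N} : x ∈ toAS 𝒩 i ↔ x ∈ 𝒩 i := Iff.rfl

theorem isInternal_toAS [Decomposition 𝒩] : DirectSum.IsInternal (toAS 𝒩) := by
  classical
  apply Groth.Agent.Helper6.GrCon.isInternal_of_proj (toAS 𝒩) (fun i x => (decompose 𝒩 x i : N))
  · intro i x
    exact (decompose 𝒩 x i).2
  · intro i x hx
    exact decompose_of_mem_same 𝒩 hx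
  · intro i j x hx hij
    exact decompose_of_mem_ne 𝒩 hx hij
  · intro j x y
    rw [decompose_add, DirectSum.add_apply]
    rfl
  · intro x
    exact ⟨(decompose 𝒩 x).support, DirectSum.sum_support_decompose 𝒩 x⟩

noncomputable instance decomposition [Decomposition 𝒩] : Decomposition (toAS 𝒩) :=
  (isInternal_toAS 𝒩).chooseDecomposition

theorem decompose_toAS [Decomposition 𝒩] (x : N) (i : ι) :
    (decompose (toAS 𝒩) x i : N) = (decompose 𝒩 x i : N) := by
  classical
  have h := Groth.Agent.Helper6.GrCon.decompose_eq_of_sum (toAS 𝒩) (x := x)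
    (s := (decompose 𝒩 x).support) (y := fun i => (decompose 𝒩 x i : N))
    (fun i => (decompose 𝒩 x i).2) (DirectSum.sum_support_decompose 𝒩 x).symm i
  rw [h]
  split_ifs with hi
  · rfl
  · rw [DFinsupp.mem_support_toFun, not_not] at hi
    rw [hi]
    rfl

end Fam

section Ring

variable {ι : Type} [AddCommGroup ι] [DecidableEq ι] {R : Type u} [CommRing R]
  {σ : Type u} [SetLike σ R] [AddSubgroupClass σ R] (𝒜 : ι → σ) [GradedRing 𝒜]

instance gradedMonoid : SetLike.GradedMonoid (toAS 𝒜) where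
  one_mem := SetLike.GradedOne.one_mem (A := 𝒜)
  mul_mem := fun _ _ _ _ ha hb => SetLike.GradedMul.mul_mem (A := 𝒜) ha hb

noncomputable instance gradedRing : GradedRing (toAS 𝒜) :=
  { gradedMonoid 𝒜, decomposition 𝒜 with }

variable {M : Type u} [AddCommGroup M] [Module R M] {τ : Type u} [SetLike τ M]
  [AddSubgroupClass τ M] (ℳ : ι → τ) [SetLike.GradedSMul 𝒜 ℳ]

instance gradedSMul : SetLike.GradedSMul (toAS 𝒜) (toAS ℳ) where
  smul_mem := fun _ _ _ _ ha hb => SetLike.GradedSMul.smul_mem (A := 𝒜) (B := ℳ) ha hb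

/-- a module graded over `𝒜` by subgroups is graded over `toAS 𝒜` -/
theorem gradedSMul_as (𝒳 : ι → AddSubgroup M) [SetLike.GradedSMul 𝒜 𝒳] :
    SetLike.GradedSMul (toAS 𝒜) 𝒳 where
  smul_mem := fun _ _ _ _ ha hb => SetLike.GradedSMul.smul_mem (A := 𝒜) (B := 𝒳) ha hb

theorem gradedSMul_of_as (𝒳 : ι → AddSubgroup M) [SetLike.GradedSMul (toAS 𝒜) 𝒳] :
    SetLike.GradedSMul 𝒜 𝒳 where
  smul_mem := fun _ _ _ _ ha hb => SetLike.GradedSMul.smul_mem (A := toAS 𝒜) (B := 𝒳) ha hb

/-- transport a bundled graded module -/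
noncomputable def convG (X : GrLC.GMod.{u} 𝒜) : GrLC.GMod.{u} (toAS 𝒜) :=
  letI := gradedSMul_as 𝒜 X.gr
  { carrier := X.carrier, gr := X.gr }

/-- transport a bundled graded module back -/
noncomputable def convG' (X : GrLC.GMod.{u} (toAS 𝒜)) : GrLC.GMod.{u} 𝒜 :=
  letI := gradedSMul_of_as 𝒜 X.gr
  { carrier := X.carrier, gr := X.gr }

theorem isStarInj_conv (X : GrLC.GMod.{u} 𝒜) (h : GrLC.IsStarInj 𝒜 X.gr) :
    GrLC.IsStarInj (toAS 𝒜) (convG 𝒜 X).gr := by
  intro A B f hf hinj g hg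
  exact h (convG' 𝒜 A) (convG' 𝒜 B) f hf hinj g hg

/-- transport a homogeneous ideal -/
noncomputable def convI (a : HomogeneousIdeal 𝒜) : HomogeneousIdeal (toAS 𝒜) :=
  ⟨a.toIdeal, fun i r hr => by
    have h := a.isHomogeneous i hr
    rw [decompose_toAS]
    exact h⟩

theorem convI_toIdeal (a : HomogeneousIdeal 𝒜) : (convI 𝒜 a).toIdeal = a.toIdeal := rfl

end Ring

section Res

variable {ι : Type} [AddCommGroup ι] [DecidableEq ι] {R : Type u} [CommRing R]
  {σ : Type u} [SetLike σ R] [AddSubgroupClass σ R] {𝒜 : ι → σ} [GradedRing 𝒜]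
  {M : Type u} [AddCommGroup M] [Module R M] {τ : Type u} [SetLike τ M]
  [AddSubgroupClass τ M] {ℳ : ι → τ} [Decomposition ℳ] [SetLike.GradedSMul 𝒜 ℳ]

/-- transport a *injective resolution -/
noncomputable def convRes (E : GrLC.StarInjRes 𝒜 ℳ) : GrLC.StarInjRes (toAS 𝒜) (toAS ℳ) where
  X n := convG 𝒜 (E.X n)
  d n := E.d n
  ε := E.ε
  d_grHom n := E.d_grHom n
  ε_grHom := E.ε_grHom
  ε_injective := E.ε_injective
  exact_zero := E.exact_zero
  exact_succ := E.exact_succ
  starInj n := isStarInj_conv 𝒜 (E.X n) (E.starInj n)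

/-- vanishing of a piece of graded local cohomology, in terms of cocycles -/
theorem hcomp_eq_bot_iff (E : GrLC.StarInjRes 𝒜 ℳ) (a : HomogeneousIdeal 𝒜) (i : ℕ) (g : ι) :
    E.Hcomp a i g = ⊥ ↔
      ∀ z : ↥(E.cocyc a i), (z : (E.X i).carrier) ∈ (E.X i).gr g → E.toH a i z = 0 := by
  constructor
  · intro h z hz
    have : E.toH a i z ∈ E.Hcomp a i g := ⟨z, hz, rfl⟩
    rw [h] at this
    exact (Submodule.mem_bot _).mp this
  · intro h
    rw [eq_bot_iff]
    rintro x ⟨z, hz, rfl⟩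
    rw [Submodule.mem_bot]
    exact h z hz

theorem hgr_eq_bot_iff (E : GrLC.StarInjRes 𝒜 ℳ) (a : HomogeneousIdeal 𝒜) (i : ℕ) (g : ι) :
    E.Hgr a i g = ⊥ ↔
      ∀ z : ↥(E.cocyc a i), (z : (E.X i).carrier) ∈ (E.X i).gr g → E.toH a i z = 0 := by
  constructor
  · intro h z hz
    have : E.toH a i z ∈ E.Hgr a i g := ⟨z, hz, rfl⟩
    rw [h] at this
    exact (AddSubgroup.mem_bot).mp this
  · intro h
    rw [eq_bot_iff]
    rintro x ⟨z, hz, rfl⟩
    rw [AddSubgroup.mem_bot]
    exact h z hz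

/-- the transported resolution has the same graded local cohomology -/
theorem convRes_hgr_eq_bot_iff (E : GrLC.StarInjRes 𝒜 ℳ) (a : HomogeneousIdeal 𝒜) (i : ℕ)
    (g : ι) : (convRes E).Hgr (convI 𝒜 a) i g = ⊥ ↔ E.Hcomp a i g = ⊥ := by
  rw [hgr_eq_bot_iff, hcomp_eq_bot_iff]
  exact Iff.rfl

end Res

end Groth.Agent.Helper7.GrTr
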