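import Mathlib

/-!
# The `ℤ`-grading of a polynomial ring over a field by positive weights (helper7)
-/

set_option autoImplicit false
universe u

namespace Groth.Agent.Helper7.WPoly

open MvPolynomial

variable (k : Type u) [Field k] {σ : Type} (w : σ → ℤ) (hw : ∀ i, 0 < w i)

theorem weight_eq_sum (d : σ →₀ ℕ) :
    Finsupp.weight w d = ∑ i ∈ d.support, (d i : ℤ) * w i := by
  rw [Finsupp.weight_apply, Finsupp.sum]
  refine Finset.sum_congr rfl fun i _ => ?_
  simp

include hw in
theorem weight_nonneg (d : σ →₀ ℕ) : 0 ≤ Finsupp.weight w d := by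
  rw [weight_eq_sum]
  exact Finset.sum_nonneg fun i _ => mul_nonneg (Int.natCast_nonneg _) (le_of_lt (hw i))

include hw in
theorem weight_eq_zero_iff (d : σ →₀ ℕ) : Finsupp.weight w d = 0 ↔ d = 0 := by
  constructor
  · intro h
    rw [weight_eq_sum, Finset.sum_eq_zero_iff_of_nonneg
      (fun i _ => mul_nonneg (Int.natCast_nonneg _) (le_of_lt (hw i)))] at h
    ext i
    by_cases hi : i ∈ d.support
    · have h1 := h i hi
      have h2 : (d i : ℤ) = 0 := by
        rcases mul_eq_zero.mp h1 with h3 | h3
        · exact h3
        · exact absurd h3 (ne_of_gt (hw i))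
      simpa using h2
    · simpa using hi
  · rintro rfl
    simp

include hw in
/-- pieces of negative degree vanish -/
theorem hpos (n : ℤ) (hn : n < 0) : weightedHomogeneousSubmodule k w n = ⊥ := by
  rw [eq_bot_iff]
  intro f hf
  rw [Submodule.mem_bot]
  by_contra hne
  obtain ⟨d, hd⟩ := MvPolynomial.ne_zero_iff.1 hne
  have h1 : Finsupp.weight w d = n := hf hd
  have := weight_nonneg w hw d
  omega

include hw in
/-- the piece of degree zero consists of the constants -/
theorem h0 : weightedHomogeneousSubmodule k w 0 = Submodule.span k {(1 : MvPolynomial σ k)} := by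
  classical
  apply le_antisymm
  · intro f hf
    rw [Submodule.mem_span_singleton]
    refine ⟨coeff 0 f, ?_⟩
    ext d
    rw [coeff_smul, coeff_one]
    by_cases hd : 0 = d
    · subst hd
      simp
    · rw [if_neg hd, smul_zero]
      by_contra hne
      have h1 : Finsupp.weight w d = 0 := hf (Ne.symm hne)
      exact hd ((weight_eq_zero_iff w hw d).1 h1).symm
  · rw [Submodule.span_le]
    rintro _ rfl
    exact isWeightedHomogeneous_one k _

include hw in
/-- the irrelevant ideal is generated by the variables -/
theorem irr_eq : Ideal.span (⋃ n ∈ Set.Ioi (0 : ℤ),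
      (weightedHomogeneousSubmodule k w n : Set (MvPolynomial σ k))) =
    Ideal.span (Set.range (X : σ → MvPolynomial σ k)) := by
  classical
  apply le_antisymm
  · rw [Ideal.span_le]
    intro f hf
    obtain ⟨n, hn, hfn⟩ := Set.mem_iUnion₂.1 hf
    have hfn' : f.IsWeightedHomogeneous w n := hfn
    rw [SetLike.mem_coe, ← MvPolynomial.support_sum_monomial_coeff f]
    refine Ideal.sum_mem _ fun d hd => ?_
    have hwd : Finsupp.weight w d = n := hfn' (mem_support_iff.1 hd)
    have hd0 : d ≠ 0 := by
      rintro rfl
      rw [map_zero] at hwd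
      have : (0 : ℤ) < n := hn
      omega
    obtain ⟨i, hi⟩ : ∃ i, d i ≠ 0 := by
      by_contra hcon
      push Not at hcon
      exact hd0 (Finsupp.ext hcon)
    have hexp : Finsupp.single i 1 + (d - Finsupp.single i 1) = d := by
      ext j
      by_cases hj : j = i
      · subst hj
        simp only [Finsupp.coe_add, Finsupp.coe_tsub, Pi.add_apply, Pi.sub_apply,
          Finsupp.single_eq_same]
        omega
      · simp [Finsupp.single_eq_of_ne hj]
    have h2 : monomial d (coeff d f) = X i * monomial (d - Finsupp.single i 1) (coeff d f) := by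
      rw [X, monomial_mul, one_mul, hexp]
    rw [h2]
    apply Ideal.mul_mem_right
    exact Ideal.subset_span ⟨i, rfl⟩
  · rw [Ideal.span_le]
    rintro _ ⟨i, rfl⟩
    apply Ideal.subset_span
    exact Set.mem_iUnion₂.2 ⟨w i, Set.mem_Ioi.2 (hw i), isWeightedHomogeneous_X k w i⟩

end Groth.Agent.Helper7.WPoly
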