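import Mathlib
import Groth.Prelude.Def_GrLC
import Groth.Agent.Helper7.GrWPoly1
import Groth.Agent.Helper7.GrHilb4
import Groth.Agent.Helper7.KunA
import Groth.Agent.Helper7.KunY
import Groth.Agent.Helper1.KoszulPoly2

/-!
# The Hilbert function of the top local cohomology of a weighted polynomial ring over a field (helper7)
-/

set_option autoImplicit false
set_option linter.unusedSectionVars false
set_option linter.style.haveILetI false

namespace Groth.Agent.Helper7.WPoly

open MvPolynomial DirectSum Groth.Agent.Helper7.Kun Groth.Agent.Helper7.GrHilb RingTheory.Sequence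

universe u

attribute [local instance] MvPolynomial.weightedGradedAlgebra

variable (k : Type u) [Field k] (N : ℕ) (w : Fin N → ℤ) (hw : ∀ i, 0 < w i)

include hw in
theorem plus_eq_bot (n : ℤ) (hn : n < 0) : plus (weightedHomogeneousSubmodule k w) n = ⊥ := by
  rw [eq_bot_iff]
  intro x hx
  have h1 : x ∈ weightedHomogeneousSubmodule k w n := hx
  rw [hpos k w hw n hn] at h1
  exact (AddSubgroup.mem_bot).mpr ((Submodule.mem_bot k).mp h1)

include hw in
/-- **the local cohomology of a weighted polynomial ring `R = k[X_1..X_N]`**: `H^q_m(R) = 0` for `q ≠ N` and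
`dim H^N_m(R)_j = dim R_{-d-j}`, `d = Σ w_i` -/
theorem hilb_poly
    (m : HomogeneousIdeal (plus (weightedHomogeneousSubmodule k w)))
    (hmsp : m.toIdeal = Ideal.span (⋃ n ∈ Set.Ioi (0 : ℤ),
      ((plus (weightedHomogeneousSubmodule k w)) n : Set (MvPolynomial (Fin N) k))))
    (I : GrLC.StarInjRes (plus (weightedHomogeneousSubmodule k w))
      (plus (weightedHomogeneousSubmodule k w))) :
    (∀ q, q ≠ N → Subsingleton (I.H m q)) ∧
      ∀ j : ℤ, Module.finrank (GrLC.deg0 (plus (weightedHomogeneousSubmodule k w))) (I.Hcomp m N j) =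
        Module.finrank (GrLC.deg0 (plus (weightedHomogeneousSubmodule k w)))
          (GrLC.comp (plus (weightedHomogeneousSubmodule k w))
            (plus (weightedHomogeneousSubmodule k w)) (-(∑ i, w i) - j)) := by
  have h0A : IsField (GrLC.deg0 (plus (weightedHomogeneousSubmodule k w))) :=
    deg0_isField (h0 k w hw)
  have hmX : m.toIdeal = Ideal.span (Set.range (X : Fin N → MvPolynomial (Fin N) k)) :=
    hmsp.trans (irr_eq k w hw)
  have hreg : IsWeaklyRegular (MvPolynomial (Fin N) k)
      (List.ofFn (X : Fin N → MvPolynomial (Fin N) k)) := by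
    have h := Groth.Agent.Helper1.KoszulPoly.isWeaklyRegular_X_pow (A := k) N 1
    simp only [pow_one] at h
    exact h
  exact hilb_ring_regSeq (plus (weightedHomogeneousSubmodule k w)) (plus_eq_bot k N w hw) h0A m hmsp
    N X w (fun i => isWeightedHomogeneous_X k w i) hw hreg hmX I

end Groth.Agent.Helper7.WPoly
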