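import Mathlib
import Groth.Prelude.Def_GrSyz
import Groth.Agent.Helper7.HilbFn2

/-!
# The graded module structure on a homogeneous submodule (any index type), and on a homogeneous
ideal of a polynomial ring
-/

set_option autoImplicit false
set_option linter.unusedSectionVars false

open DirectSum MvPolynomial

namespace Groth.Agent.Helper7.PtsRes

section General

universe u

variable {ι : Type} [DecidableEq ι] [AddMonoid ι]
variable {R A : Type u} [CommRing R] [CommRing A] [Algebra R A] (𝒜 : ι → Submodule R A)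
  [GradedAlgebra 𝒜]
variable {M : Type u} [AddCommGroup M] [Module R M] [Module A M] [IsScalarTower R A M]
  (ℳ : ι → Submodule R M) [DirectSum.Decomposition ℳ] [SetLike.GradedSMul 𝒜 ℳ]
variable (N : Submodule A M)

/-- the induced grading on a submodule -/
def gr (i : ι) : Submodule R N := (ℳ i).comap ((N.subtype).restrictScalars R)

theorem mem_gr (i : ι) (x : N) : x ∈ gr ℳ N i ↔ (x : M) ∈ ℳ i := Iff.rfl

instance gradedSMul : SetLike.GradedSMul 𝒜 (gr ℳ N) :=
  ⟨fun {_ _ _ _} ha hx => SetLike.GradedSMul.smul_mem (A := 𝒜) (B := ℳ) ha hx⟩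

/-- the comparison of the pieces -/
def incl (i : ι) : gr ℳ N i →+ ℳ i where
  toFun x := ⟨x.1.1, x.2⟩
  map_zero' := rfl
  map_add' _ _ := rfl

theorem incl_injective (i : ι) : Function.Injective (incl ℳ N i) := by
  intro x y h
  apply Subtype.ext
  apply Subtype.ext
  exact congrArg (fun z : ℳ i => (z : M)) h

theorem coe_comm (y : ⨁ i, gr ℳ N i) :
    ((DirectSum.coeAddMonoidHom (gr ℳ N) y : N) : M) =
      DirectSum.coeAddMonoidHom ℳ (DirectSum.map (incl ℳ N) y) := by
  induction y using DirectSum.induction_on with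
  | zero => simp
  | of i x =>
    rw [DirectSum.coeAddMonoidHom_of, DirectSum.map_of, DirectSum.coeAddMonoidHom_of]
    rfl
  | add y y' h h' =>
    rw [map_add, map_add, map_add, Submodule.coe_add, h, h']

theorem isInternal (hN : ∀ x ∈ N, ∀ i, (decompose ℳ x i : M) ∈ N) :
    DirectSum.IsInternal (gr ℳ N) := by
  classical
  constructor
  · rw [injective_iff_map_eq_zero]
    intro y hy
    have h1 : DirectSum.coeAddMonoidHom ℳ (DirectSum.map (incl ℳ N) y) = 0 := by
      rw [← coe_comm, hy]; rfl
    have h2 : DirectSum.map (incl ℳ N) y = 0 :=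
      (injective_iff_map_eq_zero _).1 (DirectSum.Decomposition.isInternal ℳ).injective _ h1
    have h3 : Function.Injective (DirectSum.map (incl ℳ N)) :=
      (DirectSum.map_injective _).2 (incl_injective ℳ N)
    exact h3 (by rw [h2, map_zero])
  · intro x
    refine ⟨∑ i ∈ (decompose ℳ (x : M)).support,
      DirectSum.of (fun i => gr ℳ N i) i ⟨⟨decompose ℳ (x : M) i, hN x.1 x.2 i⟩,
        (decompose ℳ (x : M) i).2⟩, ?_⟩
    apply Subtype.ext
    rw [map_sum]
    simp only [DirectSum.coeAddMonoidHom_of]
    rw [AddSubmonoidClass.coe_finsetSum]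
    exact DirectSum.sum_support_decompose ℳ (x : M)

/-- the induced decomposition of a homogeneous submodule -/
@[instance_reducible]
noncomputable def decomposition (hN : ∀ x ∈ N, ∀ i, (decompose ℳ x i : M) ∈ N) :
    DirectSum.Decomposition (gr ℳ N) :=
  (isInternal ℳ N hN).chooseDecomposition

end General

open Groth.Agent.Helper7.HilbFn

universe u

variable {k : Type u} [Field k] {r : ℕ}

theorem decompose_stdGr_apply (f : MvPolynomial (Fin (r + 1)) k) (i : ℤ) :
    (DirectSum.decompose (GrSyz.stdGr k (Fin (r + 1))) f i : MvPolynomial (Fin (r + 1)) k) =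
      weightedHomogeneousComponent (fun _ : Fin (r + 1) => (1 : ℤ)) i f :=
  MvPolynomial.decompose'_apply k (fun _ : Fin (r + 1) => (1 : ℤ)) f i

theorem whc_natCast (f : MvPolynomial (Fin (r + 1)) k) (n : ℕ) :
    weightedHomogeneousComponent (fun _ : Fin (r + 1) => (1 : ℤ)) (n : ℤ) f =
      homogeneousComponent n f := by
  ext d
  rw [coeff_weightedHomogeneousComponent, coeff_homogeneousComponent, weight_one_eq]
  by_cases h : d.degree = n
  · rw [if_pos h, if_pos (by exact_mod_cast h)]
  · rw [if_neg h, if_neg (by exact_mod_cast h)]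

theorem whc_neg (f : MvPolynomial (Fin (r + 1)) k) (i : ℤ) (hi : i < 0) :
    weightedHomogeneousComponent (fun _ : Fin (r + 1) => (1 : ℤ)) i f = 0 := by
  ext d
  rw [coeff_weightedHomogeneousComponent, weight_one_eq, coeff_zero, if_neg]
  omega

/-- the homogeneous components (for the ℤ-grading) of an element of a homogeneous ideal lie
in the ideal. -/
theorem decompose_mem_of_hom (I : Ideal (MvPolynomial (Fin (r + 1)) k))
    (hom : ∀ f ∈ I, ∀ n : ℕ, homogeneousComponent n f ∈ I) (f : MvPolynomial (Fin (r + 1)) k)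
    (hf : f ∈ I) (i : ℤ) :
    (DirectSum.decompose (GrSyz.stdGr k (Fin (r + 1))) f i : MvPolynomial (Fin (r + 1)) k) ∈ I := by
  rw [decompose_stdGr_apply]
  rcases lt_or_ge i 0 with hi | hi
  · rw [whc_neg f i hi]
    exact I.zero_mem
  · obtain ⟨n, rfl⟩ := Int.eq_ofNat_of_zero_le hi
    rw [whc_natCast]
    exact hom f hf n

end Groth.Agent.Helper7.PtsRes
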