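import Mathlib
import Groth.Prelude.Def_GrLC
import Groth.Prelude.Def_GrSyz
import Groth.Agent.Helper7.GrTr1
import Groth.Agent.Helper7.GrWkReg1
import Groth.Agent.Helper7.GrFinLen
import Groth.Agent.Helper7.PtsRes1

/-!
# Weak regularity passes to the quotient by a quasi-regular linear form (polynomial ring form)
-/

set_option autoImplicit false
set_option linter.unusedSectionVars false

namespace Groth.Agent.Helper7.GrWkReg

open DirectSum Groth.Agent.Helper7.GrTr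

universe u

section Irrel

variable {R : Type u} [CommRing R] {σ : Type u} [SetLike σ R] [AddSubgroupClass σ R]
  (𝒜 : ℤ → σ) [GradedRing 𝒜]

theorem convI_irrel :
    (convI 𝒜 (GrSyz.irrel 𝒜)).toIdeal =
      Ideal.span (⋃ n ∈ Set.Ioi (0 : ℤ), (toAS 𝒜 n : Set R)) := by
  change Ideal.span {r : R | ∃ n : ℤ, 0 < n ∧ r ∈ 𝒜 n} = _
  congr 1
  ext r
  simp only [Set.mem_ofPred_eq, Set.mem_iUnion, Set.mem_Ioi, SetLike.mem_coe, exists_prop]
  rfl

end Irrel

section Poly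

variable (k : Type u) [Field k] (r : ℕ)
  (M : Type u) [AddCommGroup M] [Module k M] [Module (MvPolynomial (Fin (r + 1)) k) M]
  [IsScalarTower k (MvPolynomial (Fin (r + 1)) k) M]
  (ℳ : ℤ → Submodule k M) [DirectSum.Decomposition ℳ]
  [SetLike.GradedSMul (GrSyz.stdGr k (Fin (r + 1))) ℳ]

/-- the annihilator of a homogeneous element in a graded module is bounded above when it has finite length -/
theorem exists_bound_of_finiteLength (x : MvPolynomial (Fin (r + 1)) k) (t : ℤ)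
    (hx : x ∈ GrSyz.stdGr k (Fin (r + 1)) t)
    (hq : IsFiniteLength (MvPolynomial (Fin (r + 1)) k)
      ↥(Submodule.torsionBy (MvPolynomial (Fin (r + 1)) k) M x)) :
    ∃ D : ℤ, ∀ d, D ≤ d → ∀ m ∈ ℳ d, x • m = 0 → m = 0 := by
  classical
  let 𝒜 := GrSyz.stdGr k (Fin (r + 1))
  let K : Submodule (MvPolynomial (Fin (r + 1)) k) M :=
    Submodule.torsionBy (MvPolynomial (Fin (r + 1)) k) M x
  have hN : ∀ m ∈ K, ∀ i, (decompose ℳ m i : M) ∈ K := by
    intro m hm i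
    rw [Submodule.mem_torsionBy_iff] at hm ⊢
    have hx' : x ∈ toAS 𝒜 t := hx
    have h := Groth.Agent.Helper6.GrMod.decompose_smul_homog (toAS 𝒜) (toAS ℳ) hx' m i
    rw [hm, decompose_zero, DirectSum.zero_apply, ZeroMemClass.coe_zero, decompose_toAS] at h
    exact h.symm
  let _ : DirectSum.Decomposition (PtsRes.gr ℳ K) := PtsRes.decomposition ℳ K hN
  have : IsArtinian (MvPolynomial (Fin (r + 1)) k) ↥K :=
    (isFiniteLength_iff_isNoetherian_isArtinian.mp hq).2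
  obtain ⟨D, hD⟩ := GrFinLen.exists_tail_eq_bot (r := r) ↥K (PtsRes.gr ℳ K)
  refine ⟨D, fun d hd m hm hxm => ?_⟩
  have hmK : m ∈ K := (Submodule.mem_torsionBy_iff _ _).mpr hxm
  have : (⟨m, hmK⟩ : ↥K) ∈ PtsRes.gr ℳ K d := hm
  rw [hD d hd, Submodule.mem_bot] at this
  exact congrArg Subtype.val this

end Poly

section Main

variable (k : Type u) [Field k] (r : ℕ)
    (M : Type u) [AddCommGroup M] [Module k M] [Module (MvPolynomial (Fin (r + 1)) k) M]
    [IsScalarTower k (MvPolynomial (Fin (r + 1)) k) M]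
    (ℳ : ℤ → Submodule k M) [DirectSum.Decomposition ℳ]
    [SetLike.GradedSMul (GrSyz.stdGr k (Fin (r + 1))) ℳ]
    (N : Type u) [AddCommGroup N] [Module k N] [Module (MvPolynomial (Fin (r + 1)) k) N]
    [IsScalarTower k (MvPolynomial (Fin (r + 1)) k) N]
    (𝒩 : ℤ → Submodule k N) [DirectSum.Decomposition 𝒩]
    [SetLike.GradedSMul (GrSyz.stdGr k (Fin (r + 1))) 𝒩]

/-- General form: for a quasi-regular form `x` of degree `t`, vanishing of `H^i(M)_j` and `H^{i+1}(M)_{j-t}`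
gives vanishing of `H^i(M/xM)_j`. -/
theorem hcomp_quot_eq_bot (x : MvPolynomial (Fin (r + 1)) k) (t : ℤ)
    (hx : x ∈ GrSyz.stdGr k (Fin (r + 1)) t)
    (hq : IsFiniteLength (MvPolynomial (Fin (r + 1)) k)
      ↥(Submodule.torsionBy (MvPolynomial (Fin (r + 1)) k) M x))
    (π : M →ₗ[MvPolynomial (Fin (r + 1)) k] N) (hπ : Function.Surjective π)
    (hπg : GrLC.IsGrHom ℳ 𝒩 π)
    (hker : LinearMap.ker π =
      LinearMap.range (x • (LinearMap.id : M →ₗ[MvPolynomial (Fin (r + 1)) k] M)))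
    (E : GrLC.StarInjRes (GrSyz.stdGr k (Fin (r + 1))) ℳ)
    (E' : GrLC.StarInjRes (GrSyz.stdGr k (Fin (r + 1))) 𝒩) (i : ℕ) (j : ℤ)
    (h1 : E.Hcomp (GrSyz.irrel (GrSyz.stdGr k (Fin (r + 1)))) i j = ⊥)
    (h2 : E.Hcomp (GrSyz.irrel (GrSyz.stdGr k (Fin (r + 1)))) (i + 1) (j - t) = ⊥) :
    E'.Hcomp (GrSyz.irrel (GrSyz.stdGr k (Fin (r + 1)))) i j = ⊥ := by
  rw [← convRes_hgr_eq_bot_iff] at h1 h2 ⊢
  refine hgr_quot_eq_bot (toAS (GrSyz.stdGr k (Fin (r + 1))))
    (convI _ (GrSyz.irrel (GrSyz.stdGr k (Fin (r + 1))))) (convI_irrel _) x t hx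
    (exists_bound_of_finiteLength k r M ℳ x t hx hq) π hπ hπg ?_ (convRes E) (convRes E') i j h1 h2
  intro m
  rw [← LinearMap.mem_ker, hker]
  rfl

end Main

end Groth.Agent.Helper7.GrWkReg
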