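import Mathlib
import Groth.Agent.S4103

/-!
# Characters congruent to one modulo finitely many characters (helper7)

`exists_pow_eq`: `A` a commutative Hopf algebra over a field, `χ_i` (finitely many) and `χ` group-like
elements with `χ - 1` in the ideal generated by the `χ_i - 1`.  Then `χ` lies in the group generated by
the `χ_i`: `χ · ∏ χ_i^{p_i} = ∏ χ_i^{q_i}`.  (The character group of an algebraic group is finitely
generated follows by Noetherianity.)  Proof: `A` is faithfully flat over the Hopf subalgebra spanned by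
the group-like elements (Takeuchi, `S4103`), so the relation already holds in that group algebra, where
a linear functional constant on cosets separates.
-/

set_option autoImplicit false
set_option linter.unusedSectionVars false
set_option linter.style.haveILetI false
universe u

namespace Groth.Agent.Helper7.GrpLike

open TensorProduct

variable {k : Type u} [Field k] {A : Type u} [CommRing A] [HopfAlgebra k A]

variable (k A) in
/-- the subalgebra spanned by the group-like elements -/
noncomputable def grpAlg : Subalgebra k A := Algebra.adjoin k {a : A | IsGroupLikeElem k a}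

theorem grpAlg_toSubmodule :
    Subalgebra.toSubmodule (grpAlg k A) = Submodule.span k {a : A | IsGroupLikeElem k a} := by
  unfold grpAlg
  rw [Algebra.adjoin_eq_span]
  congr 1
  apply le_antisymm
  · intro x hx
    induction hx using Submonoid.closure_induction with
    | mem x hx => exact hx
    | one => exact IsGroupLikeElem.one
    | mul x y _ _ hx hy => exact hx.mul hy
  · exact Submonoid.subset_closure

theorem isHopfSubalgebra_grpAlg : SGA3.IsHopfSubalgebra k A (grpAlg k A) := by
  constructor
  · intro b hb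
    let Φ : (grpAlg k A) ⊗[k] (grpAlg k A) →ₐ[k] A ⊗[k] A :=
      Algebra.TensorProduct.map (grpAlg k A).val (grpAlg k A).val
    have hrange : ∀ t, t ∈ LinearMap.range (TensorProduct.map (grpAlg k A).val.toLinearMap
        (grpAlg k A).val.toLinearMap) ↔ t ∈ Φ.range := by
      intro t
      constructor
      · rintro ⟨s, rfl⟩; exact ⟨s, rfl⟩
      · rintro ⟨s, rfl⟩; exact ⟨s, rfl⟩
    rw [hrange]
    have hle : grpAlg k A ≤ Φ.range.comap (Bialgebra.comulAlgHom k A) := by
      unfold grpAlg
      rw [Algebra.adjoin_le_iff]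
      intro a ha
      have ha' : IsGroupLikeElem k a := ha
      refine ⟨(⟨a, Algebra.subset_adjoin ha⟩ : grpAlg k A) ⊗ₜ[k]
        (⟨a, Algebra.subset_adjoin ha⟩ : grpAlg k A), ?_⟩
      change a ⊗ₜ[k] a = Coalgebra.comul (R := k) a
      rw [ha'.comul_eq_tmul_self]
    exact hle hb
  · intro b hb
    have hle : grpAlg k A ≤ (grpAlg k A).comap (HopfAlgebra.antipodeAlgHom k A) := by
      unfold grpAlg
      rw [Algebra.adjoin_le_iff]
      intro a ha
      have ha' : IsGroupLikeElem k a := ha
      exact Algebra.subset_adjoin ha'.antipode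
    exact hle hb

variable {ι : Type*} [Fintype ι] (χ : ι → A) (hχ : ∀ i, IsGroupLikeElem k (χ i))

/-- the group generated by the `χ_i`, as a set of elements of `A` -/
def Gen : Set A := {a : A | IsGroupLikeElem k a ∧ ∃ p q : ι → ℕ, a * ∏ i, χ i ^ p i = ∏ i, χ i ^ q i}

include hχ in
theorem mul_mem_Gen_iff [DecidableEq ι] (a : A) (ha : IsGroupLikeElem k a) (j : ι) :
    a * χ j ∈ Gen (k := k) χ ↔ a ∈ Gen (k := k) χ := by
  have hsucc : ∀ p : ι → ℕ, ∏ i, χ i ^ (p + Pi.single j 1 : ι → ℕ) i = χ j * ∏ i, χ i ^ p i := by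
    intro p
    have : ∀ i, χ i ^ (p + Pi.single j 1 : ι → ℕ) i = χ i ^ p i * χ i ^ (Pi.single j 1 : ι → ℕ) i := by
      intro i
      rw [Pi.add_apply, pow_add]
    rw [Finset.prod_congr rfl (fun i _ => this i), Finset.prod_mul_distrib]
    have h1 : ∏ i, χ i ^ (Pi.single j 1 : ι → ℕ) i = χ j := by
      rw [Finset.prod_eq_single j]
      · simp
      · intro i _ hij
        rw [Pi.single_eq_of_ne hij, pow_zero]
      · intro h; exact absurd (Finset.mem_univ j) h
    rw [h1, mul_comm]
  constructor
  · rintro ⟨-, p, q, h⟩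
    refine ⟨ha, p + Pi.single j 1, q, ?_⟩
    rw [hsucc, ← h]
    ring
  · rintro ⟨-, p, q, h⟩
    refine ⟨ha.mul (hχ j), p, q + Pi.single j 1, ?_⟩
    rw [hsucc, ← h]
    ring

include hχ in
/-- **key lemma** -/
theorem exists_pow_eq (a : A) (ha : IsGroupLikeElem k a)
    (hmem : a - 1 ∈ Ideal.span (Set.range fun i => χ i - 1)) :
    ∃ p q : ι → ℕ, a * ∏ i, χ i ^ p i = ∏ i, χ i ^ q i := by
  classical
  by_contra hcon
  have haG : a ∉ Gen (k := k) χ := fun h => hcon h.2
  -- faithful flatness
  haveI : Module.FaithfullyFlat (grpAlg k A) A :=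
    Groth.Agent.S4103.result k A (grpAlg k A) isHopfSubalgebra_grpAlg
  have hgm : ∀ b : A, IsGroupLikeElem k b → b ∈ grpAlg k A := fun b hb => Algebra.subset_adjoin hb
  have h1m : (1 : A) ∈ grpAlg k A := (grpAlg k A).one_mem
  let I' : Ideal (grpAlg k A) :=
    Ideal.span (Set.range fun i => (⟨χ i - 1, (grpAlg k A).sub_mem (hgm _ (hχ i)) h1m⟩ : grpAlg k A))
  have hmap : I'.map (algebraMap (grpAlg k A) A) = Ideal.span (Set.range fun i => χ i - 1) := by
    rw [Ideal.map_span]
    congr 1
    ext x
    constructor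
    · rintro ⟨_, ⟨i, rfl⟩, rfl⟩; exact ⟨i, rfl⟩
    · rintro ⟨i, rfl⟩; exact ⟨_, ⟨i, rfl⟩, rfl⟩
  have hI' : (⟨a - 1, (grpAlg k A).sub_mem (hgm _ ha) h1m⟩ : grpAlg k A) ∈ I' := by
    rw [← Ideal.comap_map_eq_self_of_faithfullyFlat (B := A) I', Ideal.mem_comap, hmap]
    exact hmem
  -- the separating functional
  have hli := linearIndepOn_isGroupLikeElem (R := k) (A := A)
  let bas := Module.Basis.extend hli
  let ℓ : A →ₗ[k] k := bas.constr k (fun x => if (x : A) ∈ Gen (k := k) χ then (1 : k) else 0)
  have hℓ : ∀ b : A, IsGroupLikeElem k b → ℓ b = if b ∈ Gen (k := k) χ then 1 else 0 := by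
    intro b hb
    have hbmem : b ∈ hli.extend (Set.subset_univ _) := Module.Basis.subset_extend hli hb
    have : bas ⟨b, hbmem⟩ = b := Module.Basis.extend_apply_self hli ⟨b, hbmem⟩
    conv_lhs => rw [← this]
    rw [Module.Basis.constr_basis]
  -- `ℓ` kills the ideal
  have hkill0 : ∀ (i : ι) (d : A), d ∈ Submodule.span k {a : A | IsGroupLikeElem k a} →
      ℓ (d * (χ i - 1)) = 0 := by
    intro i d hd
    induction hd using Submodule.span_induction with
    | mem d hd =>
      have hd' : IsGroupLikeElem k d := hd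
      rw [mul_sub, mul_one, map_sub, hℓ _ (hd'.mul (hχ i)), hℓ _ hd']
      by_cases hdG : d ∈ Gen (k := k) χ
      · rw [if_pos ((mul_mem_Gen_iff χ hχ d hd' i).mpr hdG), if_pos hdG, sub_self]
      · rw [if_neg (fun h => hdG ((mul_mem_Gen_iff χ hχ d hd' i).mp h)), if_neg hdG, sub_self]
    | zero => rw [zero_mul, map_zero]
    | add x y _ _ hx hy => rw [add_mul, map_add, hx, hy, add_zero]
    | smul c x _ hx => rw [smul_mul_assoc, map_smul, hx, smul_zero]
  have hkill : ∀ x : grpAlg k A, x ∈ I' → ∀ b : grpAlg k A, ℓ ((b : A) * (x : A)) = 0 := by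
    intro x hx
    induction hx using Submodule.span_induction with
    | mem x hx =>
      obtain ⟨i, rfl⟩ := hx
      intro b
      have hb : (b : A) ∈ Submodule.span k {a : A | IsGroupLikeElem k a} := by
        rw [← grpAlg_toSubmodule]; exact b.2
      exact hkill0 i _ hb
    | zero => intro b; simp
    | add x y _ _ hx hy =>
      intro b
      rw [Subalgebra.coe_add, mul_add, map_add, hx b, hy b, add_zero]
    | smul c x _ hx =>
      intro b
      have : ((b : A) * ((c • x : grpAlg k A) : A)) = ((b * c : grpAlg k A) : A) * (x : A) := by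
        rw [smul_eq_mul, Subalgebra.coe_mul, Subalgebra.coe_mul, mul_assoc]
      rw [this, hx (b * c)]
  have h0 := hkill _ hI' 1
  rw [Subalgebra.coe_one, one_mul] at h0
  change ℓ (a - 1) = 0 at h0
  rw [map_sub, hℓ a ha, hℓ 1 IsGroupLikeElem.one, if_neg haG] at h0
  have h1G : (1 : A) ∈ Gen (k := k) χ := ⟨IsGroupLikeElem.one, 0, 0, by simp⟩
  rw [if_pos h1G] at h0
  norm_num at h0

end Groth.Agent.Helper7.GrpLike
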