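import Mathlib
import Groth.Agent.Helper7.HB1

set_option linter.style.haveILetI false
set_option linter.unusedSectionVars false

namespace Groth.Agent.Helper7.HB

universe u

open Matrix

variable {A : Type u} [CommRing A] [IsDomain A]
variable {r : ℕ} (φ : Matrix (Fin (r + 1)) (Fin r) A) (g : Fin (r + 1) → A)

/-- Exactness of `0 → A^r → A^{r+1} → A` with torsion-free cokernel survives reduction modulo a
prime element, so some maximal minor is not divisible by it. -/
theorem exists_not_dvd_Δ (hφ : Function.Injective φ.mulVecLin)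
    (hex : LinearMap.range φ.mulVecLin = LinearMap.ker (Fintype.linearCombination A g))
    {π : A} (hπ : Prime π) : ∃ j, ¬ π ∣ Δ φ j := by
  haveI : (Ideal.span {π}).IsPrime := (Ideal.span_singleton_prime hπ.ne_zero).mpr hπ
  haveI : IsDomain (A ⧸ Ideal.span {π}) := Ideal.Quotient.isDomain _
  set q := Ideal.Quotient.mk (Ideal.span {π}) with hq
  have hinj : Function.Injective (φ.map q).mulVecLin := by
    rw [← LinearMap.ker_eq_bot, LinearMap.ker_eq_bot']
    intro ub hub
    obtain ⟨u, rfl⟩ : ∃ u : Fin r → A, q ∘ u = ub :=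
      (Ideal.Quotient.mk_surjective.comp_left) ub
    rw [Matrix.mulVecLin_apply] at hub
    have h1 : ∀ i, π ∣ (φ *ᵥ u) i := by
      intro i
      have := congrFun hub i
      rw [← RingHom.map_mulVec, Pi.zero_apply] at this
      rwa [hq, Ideal.Quotient.eq_zero_iff_mem, Ideal.mem_span_singleton] at this
    choose w hw using h1
    have h2 : φ *ᵥ u = π • w := funext hw
    have h3 : w ∈ LinearMap.ker (Fintype.linearCombination A g) := by
      have hmem : φ *ᵥ u ∈ LinearMap.ker (Fintype.linearCombination A g) := by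
        rw [← hex]; exact ⟨u, rfl⟩
      rw [h2, LinearMap.mem_ker, map_smul, smul_eq_mul] at hmem
      exact (mul_eq_zero.mp hmem).resolve_left hπ.ne_zero
    rw [← hex] at h3
    obtain ⟨u', hu'⟩ := h3
    have h4 : u = π • u' := by
      apply hφ
      rw [Matrix.mulVecLin_apply, h2, map_smul, hu']
    rw [h4]
    funext k
    simp only [Function.comp_apply, Pi.smul_apply, smul_eq_mul, Pi.zero_apply]
    rw [hq, Ideal.Quotient.eq_zero_iff_mem, Ideal.mem_span_singleton]
    exact dvd_mul_right _ _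
  obtain ⟨i, hi⟩ := exists_Δ_ne_zero (φ.map q) hinj
  refine ⟨i, fun hdvd => hi ?_⟩
  rw [Δ_map, hq, Ideal.Quotient.eq_zero_iff_mem, Ideal.mem_span_singleton]
  exact hdvd

omit [IsDomain A] in
theorem dvd_of_forall_dvd_mul [IsDomain A] [UniqueFactorizationMonoid A] {ι : Type*} (D : ι → A)
    (hD : ∀ π : A, Prime π → ∃ j, ¬ π ∣ D j) (c : A) :
    c ≠ 0 → ∀ b : A, (∀ j, c ∣ b * D j) → c ∣ b := by
  refine UniqueFactorizationMonoid.induction_on_prime c (fun h => absurd rfl h)
    (fun x hx _ b _ => hx.dvd) ?_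
  intro a p ha hp IH _ b hb
  have h1 : a ∣ b := IH ha b fun j => dvd_of_mul_left_dvd (hb j)
  obtain ⟨b₁, rfl⟩ := h1
  obtain ⟨j, hj⟩ := hD p hp
  have h2 : p ∣ b₁ * D j := by
    have := hb j
    rw [mul_comm p a, mul_assoc] at this
    exact (mul_dvd_mul_iff_left ha).mp this
  have h3 : p ∣ b₁ := (hp.dvd_or_dvd h2).resolve_right hj
  rw [mul_comm p a]
  exact mul_dvd_mul_left a h3

/-- Hilbert–Burch over a UFD: the generators are a common multiple of the signed minors. -/
theorem exists_eq_mul_Δ [UniqueFactorizationMonoid A] (hφ : Function.Injective φ.mulVecLin)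
    (hex : LinearMap.range φ.mulVecLin = LinearMap.ker (Fintype.linearCombination A g))
    (hg : ∃ i, g i ≠ 0) : ∃ a : A, a ≠ 0 ∧ ∀ j, g j = a * Δ φ j := by
  obtain ⟨i₀, hi₀⟩ := hg
  obtain ⟨i₁, hi₁⟩ := exists_Δ_ne_zero φ hφ
  have hcross := cross_eq φ g hφ hex
  have hΔ0 : Δ φ i₀ ≠ 0 := by
    intro h0
    have := hcross i₀ i₁
    rw [h0, mul_zero] at this
    exact (mul_ne_zero hi₀ hi₁) this.symm
  have hdvd : Δ φ i₀ ∣ g i₀ := by
    apply dvd_of_forall_dvd_mul (Δ φ) (fun π hπ => exists_not_dvd_Δ φ g hφ hex hπ) _ hΔ0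
    intro j
    rw [← hcross i₀ j]
    exact dvd_mul_left _ _
  obtain ⟨a, ha⟩ := hdvd
  refine ⟨a, ?_, fun j => ?_⟩
  · rintro rfl
    rw [mul_zero] at ha
    exact hi₀ ha
  · have := hcross i₀ j
    rw [ha] at this
    have h5 : g j * Δ φ i₀ = (a * Δ φ j) * Δ φ i₀ := by rw [this]; ring
    exact mul_right_cancel₀ hΔ0 h5

end Groth.Agent.Helper7.HB
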