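import Mathlib
import Groth.Agent.Helper7.HB2
import Groth.Agent.Helper1.RegAB
import Groth.Agent.Helper7.DepthFin
import Groth.Agent.Helper7.Syz
import Groth.Agent.Lead.RegUFDA
import Groth.Agent.Lead.RegLocal

set_option linter.style.haveILetI false
set_option linter.unusedSectionVars false

namespace Groth.Agent.Helper7.HB

universe u

open Matrix CategoryTheory IsLocalRing

variable (A : Type u) [CommRing A] [IsRegularLocalRing A] (I : Ideal A)

/-- The depth of `A ⧸ I` as an `A`-module is its depth as a module over itself. -/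
theorem depth_quotient_self [IsLocalRing (A ⧸ I)] :
    LocCoh.depth A (A ⧸ I) = LocCoh.depth (A ⧸ I) (A ⧸ I) := by
  unfold LocCoh.depth
  rw [Groth.Agent.Helper7.DepthFin.idealDepth_map_eq (A := A) (B := A ⧸ I) (maximalIdeal A) (A ⧸ I)]
  congr 1
  have hI : I ≠ ⊤ := by
    intro h
    have : Subsingleton (A ⧸ I) := by rw [h]; exact Ideal.Quotient.subsingleton_iff.mpr rfl
    exact not_subsingleton (A ⧸ I) this
  have hle : I ≤ maximalIdeal A := le_maximalIdeal hI
  have hmax : ((maximalIdeal A).map (algebraMap A (A ⧸ I))).IsMaximal := by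
    rw [Ideal.Quotient.algebraMap_eq]
    apply Ideal.IsMaximal.map_of_surjective_of_ker_le Ideal.Quotient.mk_surjective
    rw [Ideal.mk_ker]
    exact hle
  exact (eq_maximalIdeal hmax)

theorem pd_lt_three [LocCoh.IsCohenMacaulayLocalRing (A ⧸ I)]
    (hcodim : ringKrullDim (A ⧸ I) + 2 = ringKrullDim A) :
    HasProjectiveDimensionLT (ModuleCat.of A (A ⧸ I)) 3 := by
  obtain ⟨e, he⟩ : ∃ e : ℕ, ringKrullDim A = e := by
    have h1 : ringKrullDim A ≠ ⊤ := ringKrullDim_ne_top
    have h2 : ringKrullDim A ≠ ⊥ := ringKrullDim_ne_bot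
    obtain ⟨e', he'⟩ := WithBot.ne_bot_iff_exists.mp h2
    have h3 : e' ≠ ⊤ := by
      rintro rfl
      exact h1 he'.symm
    obtain ⟨e, rfl⟩ := ENat.ne_top_iff_exists.mp h3
    exact ⟨e, he'.symm⟩
  have hCM := LocCoh.IsCohenMacaulayLocalRing.supportDim_eq_depth (R := A ⧸ I)
  rw [Module.supportDim_self_eq_ringKrullDim] at hCM
  have hdepth : (e : ℕ∞) ≤ (2 : ℕ) + LocCoh.depth A (A ⧸ I) := by
    rw [depth_quotient_self]
    rw [hCM, he] at hcodim
    have : ((LocCoh.depth (A ⧸ I) (A ⧸ I) + 2 : ℕ∞) : WithBot ℕ∞) = ((e : ℕ∞) : WithBot ℕ∞) := by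
      rw [WithBot.coe_add]; exact hcodim
    have h4 : LocCoh.depth (A ⧸ I) (A ⧸ I) + 2 = (e : ℕ∞) := WithBot.coe_injective this
    rw [← h4, add_comm]
    rfl
  exact Groth.Agent.Helper1.RegAB.pd_le_of_depth e he (A ⧸ I) 2 hdepth

/-- The kernel of a surjection from a finite free module onto `I` is free, when `pd (A/I) ≤ 2`. -/
theorem ker_projective (h3 : HasProjectiveDimensionLT (ModuleCat.of A (A ⧸ I)) 3)
    {n : ℕ} (g : Fin n → A) (hg : Ideal.span (Set.range g) = I) :
    Module.Projective A (LinearMap.ker (Fintype.linearCombination A g)) := by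
  have hI2 : HasProjectiveDimensionLT (ModuleCat.of A I) 2 :=
    Groth.Agent.Helper7.Syz.pdLT_of_ses (B := A) (Submodule.subtype I) (Submodule.mkQ I)
      (Submodule.injective_subtype I) (Submodule.mkQ_surjective I)
      (by
        rw [LinearMap.exact_iff, Submodule.ker_mkQ, Submodule.range_subtype])
      inferInstance 2 (by norm_num) h3
  have hrange : LinearMap.range (Fintype.linearCombination A g) = I := by
    rw [Fintype.range_linearCombination]
    exact hg
  let p : (Fin n → A) →ₗ[A] I :=
    (Fintype.linearCombination A g).codRestrict I (fun v => by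
      rw [← hrange]; exact ⟨v, rfl⟩)
  have hp : Function.Surjective p := by
    rintro ⟨x, hx⟩
    rw [← hrange] at hx
    obtain ⟨v, hv⟩ := hx
    exact ⟨v, Subtype.ext hv⟩
  have hker : LinearMap.ker p = LinearMap.ker (Fintype.linearCombination A g) :=
    LinearMap.ker_codRestrict _ _ _
  have hK1 : HasProjectiveDimensionLT
      (ModuleCat.of A (LinearMap.ker (Fintype.linearCombination A g))) 1 :=
    Groth.Agent.Helper7.Syz.pdLT_of_ses (B := A)
      (Submodule.subtype (LinearMap.ker (Fintype.linearCombination A g))) p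
      (Submodule.injective_subtype _) hp
      (by
        rw [LinearMap.exact_iff, Submodule.range_subtype, hker])
      inferInstance 1 le_rfl hI2
  rw [IsProjective.iff_projective, projective_iff_hasProjectiveDimensionLT_one]
  exact hK1

end Groth.Agent.Helper7.HB
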