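import Mathlib
import Groth.Agent.Helper7.HB3

set_option linter.style.haveILetI false
set_option linter.unusedSectionVars false

namespace Groth.Agent.Helper7.HB

universe u

open Matrix CategoryTheory IsLocalRing

/-- A nonzero ideal of a domain has rank one. -/
theorem finrank_ideal {A : Type u} [CommRing A] [IsDomain A] [IsNoetherianRing A] (I : Ideal A)
    (hI : I ≠ ⊥) : Module.finrank A I = 1 := by
  apply le_antisymm
  · have := Submodule.finrank_le (R := A) (M := A) I
    rwa [Module.finrank_self] at this
  · obtain ⟨x, hx, hx0⟩ := Submodule.exists_mem_ne_zero_of_ne_bot hI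
    let f : A →ₗ[A] I := LinearMap.toSpanSingleton A I ⟨x, hx⟩
    have hf : Function.Injective f := by
      rw [← LinearMap.ker_eq_bot, LinearMap.ker_eq_bot']
      intro c hc
      have : c * x = 0 := by
        have := congrArg Subtype.val hc
        simpa [f, LinearMap.toSpanSingleton_apply] using this
      exact (mul_eq_zero.mp this).resolve_right hx0
    have := LinearMap.finrank_le_finrank_of_injective hf
    rwa [Module.finrank_self] at this

variable (A : Type u) [CommRing A] [IsRegularLocalRing A] (I : Ideal A)

theorem exists_resolution [LocCoh.IsCohenMacaulayLocalRing (A ⧸ I)]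
    (hcodim : ringKrullDim (A ⧸ I) + 2 = ringKrullDim A) (hI : I ≠ ⊥) :
    ∃ (r : ℕ) (g : Fin (r + 1) → A) (φ : Matrix (Fin (r + 1)) (Fin r) A),
      Ideal.span (Set.range g) = I ∧ I.spanFinrank = r + 1 ∧ Function.Injective φ.mulVecLin ∧
      LinearMap.range φ.mulVecLin = LinearMap.ker (Fintype.linearCombination A g) := by
  classical
  haveI : IsDomain A := Groth.Agent.Lead.RegLocal.isDomain_of_isRegularLocalRing A
  have h3 := pd_lt_three A I hcodim
  obtain ⟨n, hn, g, hg⟩ : ∃ n : ℕ, I.spanFinrank = n ∧ ∃ g : Fin n → A,
      Ideal.span (Set.range g) = I := by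
    obtain ⟨s, hs, hs2⟩ := Submodule.FG.exists_span_finset_card_eq_spanFinrank
      (I.fg_of_isNoetherianRing)
    refine ⟨s.card, hs.symm, fun i => ((s.equivFin).symm i : A), ?_⟩
    have : Set.range (fun i => ((s.equivFin).symm i : A)) = (s : Set A) := by
      ext x
      constructor
      · rintro ⟨i, rfl⟩
        exact ((s.equivFin).symm i).2
      · intro hx
        exact ⟨s.equivFin ⟨x, hx⟩, by simp⟩
    rw [this]
    exact hs2
  have hproj := ker_projective A I h3 g hg
  set K := LinearMap.ker (Fintype.linearCombination A g) with hK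
  haveI : Module.Finite A K := Module.Finite.of_injective K.subtype (Submodule.injective_subtype K)
  haveI : Module.Free A K := Module.free_of_flat_of_isLocalRing
  have hrange : LinearMap.range (Fintype.linearCombination A g) = I := by
    rw [Fintype.range_linearCombination]
    exact hg
  have hrank : Module.finrank A K + 1 = n := by
    have h1 := Submodule.finrank_quotient_add_finrank (R := A) K
    have h2 : Module.finrank A ((Fin n → A) ⧸ K) = 1 := by
      rw [(LinearMap.quotKerEquivRange (Fintype.linearCombination A g)).finrank_eq, hrange]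
      exact finrank_ideal I hI
    rw [h2, Module.finrank_pi, Fintype.card_fin] at h1
    omega
  obtain ⟨r, rfl⟩ : ∃ r, n = r + 1 := ⟨Module.finrank A K, hrank.symm⟩
  have hr : Module.finrank A K = r := by omega
  let b : Module.Basis (Fin r) A K := Module.finBasisOfFinrankEq A K hr
  let φ' : (Fin r → A) →ₗ[A] (Fin (r + 1) → A) :=
    K.subtype.comp (b.equivFun.symm : (Fin r → A) →ₗ[A] K)
  have hφ'inj : Function.Injective φ' :=
    (Submodule.injective_subtype K).comp b.equivFun.symm.injective
  have hφ'range : LinearMap.range φ' = K := by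
    rw [LinearMap.range_comp, LinearEquiv.range, Submodule.map_top, Submodule.range_subtype]
  have hmv : (LinearMap.toMatrix' φ').mulVecLin = φ' := by
    rw [← Matrix.toLin'_apply', Matrix.toLin'_toMatrix']
  refine ⟨r, g, LinearMap.toMatrix' φ', hg, hn, ?_, ?_⟩
  · rw [hmv]; exact hφ'inj
  · rw [hmv]; exact hφ'range

end Groth.Agent.Helper7.HB
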