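import Mathlib
import Groth.Agent.Helper7.HB4

set_option linter.style.haveILetI false
set_option linter.unusedSectionVars false

namespace Groth.Agent.Helper7.HB

universe u

open Matrix CategoryTheory IsLocalRing

variable (A : Type u) [CommRing A] [IsRegularLocalRing A] (I : Ideal A)

theorem exists_nat_dim [LocCoh.IsCohenMacaulayLocalRing (A ⧸ I)] :
    ∃ d : ℕ, ringKrullDim (A ⧸ I) = d := by
  have h1 : ringKrullDim (A ⧸ I) ≠ ⊤ := ringKrullDim_ne_top
  have h2 : ringKrullDim (A ⧸ I) ≠ ⊥ := ringKrullDim_ne_bot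
  obtain ⟨e', he'⟩ := WithBot.ne_bot_iff_exists.mp h2
  have h3 : e' ≠ ⊤ := by
    rintro rfl
    exact h1 he'.symm
  obtain ⟨e, rfl⟩ := ENat.ne_top_iff_exists.mp h3
  exact ⟨e, he'.symm⟩

theorem ne_bot_of_codim [LocCoh.IsCohenMacaulayLocalRing (A ⧸ I)]
    (hcodim : ringKrullDim (A ⧸ I) + 2 = ringKrullDim A) : I ≠ ⊥ := by
  rintro rfl
  obtain ⟨d, hd⟩ := exists_nat_dim A (⊥ : Ideal A)
  have h1 : ringKrullDim (A ⧸ (⊥ : Ideal A)) = ringKrullDim A :=
    ringKrullDim_eq_of_ringEquiv (RingEquiv.quotientBot A)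
  rw [← h1, hd] at hcodim
  have : d + 2 = d := by exact_mod_cast hcodim
  omega

theorem not_le_span_prime [LocCoh.IsCohenMacaulayLocalRing (A ⧸ I)]
    (hcodim : ringKrullDim (A ⧸ I) + 2 = ringKrullDim A) {π : A} (hπ : ¬ IsUnit π) :
    ¬ I ≤ Ideal.span {π} := by
  intro hle
  obtain ⟨d, hd⟩ := exists_nat_dim A I
  have h1 : ringKrullDim (A ⧸ Ideal.span {π}) ≤ ringKrullDim (A ⧸ I) :=
    ringKrullDim_le_of_surjective (Ideal.Quotient.factor hle) (Ideal.Quotient.factor_surjective hle)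
  have h2 : ringKrullDim A ≤ ringKrullDim (A ⧸ Ideal.span ({π} : Set A)) + (({π} : Set A).encard : ℕ∞) := by
    apply ringKrullDim_le_ringKrullDim_quotient_add_encard
    rw [IsLocalRing.ringJacobson_eq_maximalIdeal]
    intro x hx
    rw [Set.mem_singleton_iff] at hx
    rw [hx]
    exact (mem_maximalIdeal π).mpr hπ
  rw [Set.encard_singleton] at h2
  have h3 : ringKrullDim A ≤ ringKrullDim (A ⧸ I) + 1 := by
    refine h2.trans ?_
    exact add_le_add h1 le_rfl
  rw [← hcodim, hd] at h3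
  have : d + 2 ≤ d + 1 := by exact_mod_cast h3
  omega

theorem main [LocCoh.IsCohenMacaulayLocalRing (A ⧸ I)]
    (hcodim : ringKrullDim (A ⧸ I) + 2 = ringKrullDim A) :
    ∃ (r : ℕ) (φ : Matrix (Fin (r + 1)) (Fin r) A),
      Ideal.span (Set.range (fun i : Fin (r + 1) =>
        (-1 : A) ^ (i : ℕ) * (φ.submatrix i.succAbove id).det)) = I ∧
      I.spanFinrank = r + 1 ∧
      Function.Injective φ.mulVecLin ∧
      LinearMap.range φ.mulVecLin =
        LinearMap.ker (Fintype.linearCombination A (fun i : Fin (r + 1) =>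
          (-1 : A) ^ (i : ℕ) * (φ.submatrix i.succAbove id).det)) := by
  haveI : IsDomain A := Groth.Agent.Lead.RegLocal.isDomain_of_isRegularLocalRing A
  haveI : UniqueFactorizationMonoid A := Groth.Agent.Lead.RegUFD.ufd_of_isRegularLocalRing A
  have hI := ne_bot_of_codim A I hcodim
  obtain ⟨r, g, φ, hg, hn, hφ, hex⟩ := exists_resolution A I hcodim hI
  have hg0 : ∃ i, g i ≠ 0 := by
    by_contra hcon
    push Not at hcon
    apply hI
    rw [← hg, Ideal.span_eq_bot]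
    rintro x ⟨i, rfl⟩
    exact hcon i
  obtain ⟨a, ha0, ha⟩ := exists_eq_mul_Δ φ g hφ hex hg0
  have hunit : IsUnit a := by
    by_contra hnu
    obtain ⟨π, hπirr, hπa⟩ := WfDvdMonoid.exists_irreducible_factor hnu ha0
    apply not_le_span_prime A I hcodim hπirr.not_isUnit
    rw [← hg, Ideal.span_le]
    rintro x ⟨i, rfl⟩
    rw [SetLike.mem_coe, Ideal.mem_span_singleton, ha i]
    exact Dvd.dvd.mul_right hπa _
  have hΔeq : (fun i : Fin (r + 1) => (-1 : A) ^ (i : ℕ) * (φ.submatrix i.succAbove id).det) =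
      Δ φ := rfl
  refine ⟨r, φ, ?_, hn, hφ, ?_⟩
  · rw [hΔeq, ← hg]
    apply le_antisymm
    · rw [Ideal.span_le]
      rintro x ⟨i, rfl⟩
      obtain ⟨b, hb⟩ := hunit.exists_left_inv
      have : Δ φ i = b * g i := by
        rw [ha i, ← mul_assoc, hb, one_mul]
      rw [this]
      exact Ideal.mul_mem_left _ _ (Ideal.subset_span ⟨i, rfl⟩)
    · rw [Ideal.span_le]
      rintro x ⟨i, rfl⟩
      rw [ha i]
      exact Ideal.mul_mem_left _ _ (Ideal.subset_span ⟨i, rfl⟩)
  · rw [hΔeq, ker_lc_Δ φ g hφ hex]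
    exact hex

end Groth.Agent.Helper7.HB
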