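import Mathlib

/-!
# Two matrix lemmas behind the numerical Hilbert–Burch theorem

For an injective `(t+1) × t` matrix over a domain, certain zero blocks are impossible.
-/

set_option autoImplicit false
set_option linter.unusedSectionVars false

open Matrix

namespace Groth.Agent.Helper7.HBMat

variable {R : Type*} [CommRing R] [IsDomain R] {t : ℕ}

/-- extension by zero of a vector indexed by the columns `≥ i`. -/
def ext (i : Fin t) (v : {q : Fin t // i ≤ q} → R) : Fin t → R :=
  fun q => if h : i ≤ q then v ⟨q, h⟩ else 0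

theorem ext_apply_of_le (i : Fin t) (v : {q : Fin t // i ≤ q} → R) (q : {q : Fin t // i ≤ q}) :
    ext i v q.1 = v q := by
  unfold ext
  rw [dif_pos q.2]

theorem ext_apply_of_not_le (i : Fin t) (v : {q : Fin t // i ≤ q} → R) (q : Fin t) (h : ¬ i ≤ q) :
    ext i v q = 0 := by
  unfold ext
  rw [dif_neg h]

theorem sum_ext (i : Fin t) (g : Fin t → R) (v : {q : Fin t // i ≤ q} → R) :
    ∑ q, g q * ext i v q = ∑ q : {q : Fin t // i ≤ q}, g q.1 * v q := by
  classical
  have h1 : ∑ q, g q * ext i v q = ∑ q ∈ Finset.univ.filter (fun q : Fin t => i ≤ q), g q * ext i v q := by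
    rw [Finset.sum_filter]
    refine Finset.sum_congr rfl fun q _ => ?_
    split_ifs with h
    · rfl
    · rw [ext_apply_of_not_le i v q h, mul_zero]
  rw [h1, Finset.sum_subtype (p := fun q : Fin t => i ≤ q) _ (fun x => by simp)]
  refine Finset.sum_congr rfl fun q _ => ?_
  rw [ext_apply_of_le]

theorem ext_eq_zero (i : Fin t) (v : {q : Fin t // i ≤ q} → R) (h : ext i v = 0) : v = 0 := by
  funext q
  rw [← ext_apply_of_le i v q, h]
  rfl

/-- the square block (rows `> i`, columns `≥ i`). -/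
def blk (D : Matrix (Fin (t + 1)) (Fin t) R) (i : Fin t) :
    Matrix {q : Fin t // i ≤ q} {q : Fin t // i ≤ q} R :=
  fun q' q => D q'.1.succ q.1

variable (D : Matrix (Fin (t + 1)) (Fin t) R) (i : Fin t)

theorem mulVec_ext_of_le (hz : ∀ (p : Fin (t + 1)) (q : Fin t), p.val ≤ i.val → i ≤ q → D p q = 0)
    (v : {q : Fin t // i ≤ q} → R) (p : Fin (t + 1)) (hp : p.val ≤ i.val) :
    (D *ᵥ ext i v) p = 0 := by
  rw [Matrix.mulVec, dotProduct, sum_ext]
  refine Finset.sum_eq_zero fun q _ => ?_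
  rw [hz p q.1 hp q.2, zero_mul]

theorem mulVec_ext_succ (v : {q : Fin t // i ≤ q} → R) (q' : {q : Fin t // i ≤ q}) :
    (D *ᵥ ext i v) q'.1.succ = (blk D i *ᵥ v) q' := by
  rw [Matrix.mulVec, dotProduct, sum_ext]
  rfl

theorem cases_row (p : Fin (t + 1)) :
    p.val ≤ i.val ∨ ∃ q' : {q : Fin t // i ≤ q}, q'.1.succ = p := by
  by_cases h : p.val ≤ i.val
  · exact Or.inl h
  · right
    have hp0 : p ≠ 0 := by
      intro h0
      rw [h0] at h
      exact h (Nat.zero_le _)
    refine ⟨⟨p.pred hp0, ?_⟩, Fin.succ_pred p hp0⟩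
    rw [Fin.le_def, Fin.val_pred]
    omega

theorem blk_injective (hinj : Function.Injective D.mulVec)
    (hz : ∀ (p : Fin (t + 1)) (q : Fin t), p.val ≤ i.val → i ≤ q → D p q = 0)
    (v : {q : Fin t // i ≤ q} → R) (hv : blk D i *ᵥ v = 0) : v = 0 := by
  apply ext_eq_zero i v
  apply hinj
  rw [Matrix.mulVec_zero]
  funext p
  rcases cases_row i p with hp | ⟨q', rfl⟩
  · exact mulVec_ext_of_le D i hz v p hp
  · rw [mulVec_ext_succ, hv]
    rfl

/-- the block of rows `≤ i + 1` and columns `≥ i` cannot vanish. -/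
theorem hb1 (hinj : Function.Injective D.mulVec)
    (hz : ∀ (p : Fin (t + 1)) (q : Fin t), p.val ≤ i.val + 1 → i ≤ q → D p q = 0) : False := by
  classical
  have hz' : ∀ (p : Fin (t + 1)) (q : Fin t), p.val ≤ i.val → i ≤ q → D p q = 0 :=
    fun p q hp hq => hz p q (by omega) hq
  have hdet : (blk D i).det = 0 := by
    refine Matrix.det_eq_zero_of_row_eq_zero ⟨i, le_rfl⟩ fun q => ?_
    exact hz _ _ (by simp) q.2
  obtain ⟨v, hv, hv0⟩ := Matrix.exists_mulVec_eq_zero_iff.2 hdet
  exact hv (blk_injective D i hinj hz' v hv0)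

/-- the block of rows `≤ i` and columns `≥ i` cannot vanish when the matrix has entries in a
proper ideal and presents a torsion-free module. -/
theorem hb2 {n0 : ℕ} (D0 : Matrix (Fin n0) (Fin (t + 1)) R)
    (hex : ∀ w : Fin (t + 1) → R, D0 *ᵥ w = 0 → ∃ v, D *ᵥ v = w)
    (hcomp : ∀ v : Fin t → R, D0 *ᵥ (D *ᵥ v) = 0)
    (hinj : Function.Injective D.mulVec) (𝔪 : Ideal R) (h𝔪 : 𝔪 ≠ ⊤) (hD : ∀ p q, D p q ∈ 𝔪)
    (hz : ∀ (p : Fin (t + 1)) (q : Fin t), p.val ≤ i.val → i ≤ q → D p q = 0) : False := by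
  classical
  have hdet : (blk D i).det ≠ 0 := by
    intro h0
    obtain ⟨v, hv, hv0⟩ := Matrix.exists_mulVec_eq_zero_iff.2 h0
    exact hv (blk_injective D i hinj hz v hv0)
  set c := (blk D i).det with hc
  let q₀ : {q : Fin t // i ≤ q} := ⟨i, le_rfl⟩
  let u : {q : Fin t // i ≤ q} → R := (blk D i).adjugate *ᵥ Pi.single q₀ 1
  have hu : blk D i *ᵥ u = c • Pi.single q₀ 1 := by
    show blk D i *ᵥ ((blk D i).adjugate *ᵥ Pi.single q₀ 1) = _
    rw [Matrix.mulVec_mulVec, Matrix.mul_adjugate, Matrix.smul_mulVec, Matrix.one_mulVec]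
  have hDu : D *ᵥ ext i u = c • Pi.single i.succ 1 := by
    funext p
    rcases cases_row i p with hp | ⟨q', rfl⟩
    · rw [mulVec_ext_of_le D i hz u p hp, Pi.smul_apply, Pi.single_apply, if_neg, smul_zero]
      intro hpi
      rw [hpi, Fin.val_succ] at hp
      omega
    · rw [mulVec_ext_succ, hu, Pi.smul_apply, Pi.smul_apply, Pi.single_apply, Pi.single_apply]
      congr 1
      by_cases hq : q' = q₀
      · rw [if_pos hq, if_pos]
        rw [hq]
      · rw [if_neg hq, if_neg]
        intro h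
        apply hq
        exact Subtype.ext (Fin.succ_injective _ h)
  have h0 : D0 *ᵥ (Pi.single i.succ 1 : Fin (t + 1) → R) = 0 := by
    have h1 := hcomp (ext i u)
    rw [hDu, Matrix.mulVec_smul] at h1
    funext a
    have h2 := congrFun h1 a
    rw [Pi.smul_apply, Pi.zero_apply, smul_eq_mul, mul_eq_zero] at h2
    rcases h2 with h2 | h2
    · exact absurd h2 hdet
    · exact h2
  obtain ⟨v, hv⟩ := hex _ h0
  have h1 : (D *ᵥ v) i.succ = 1 := by rw [hv, Pi.single_eq_same]
  apply h𝔪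
  rw [Ideal.eq_top_iff_one, ← h1, Matrix.mulVec, dotProduct]
  exact 𝔪.sum_mem fun q _ => 𝔪.mul_mem_right _ (hD _ _)

end Groth.Agent.Helper7.HBMat
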