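import Mathlib
import Groth.Prelude.Def_GrSyz
import Groth.Prelude.Def_GrLC
import Groth.Agent.Helper7.HBMat
import Groth.Agent.Helper7.GrLenReg

/-!
# Numerical lemmas for Hilbert–Burch
-/

set_option autoImplicit false
set_option linter.unusedSectionVars false

open Matrix

namespace Groth.Agent.Helper7.HBNum

/-- a quadratic polynomial with bounded values on a ray has vanishing quadratic and linear
coefficients. -/
theorem coeff_zero_of_bounded (α β γ B d₀ : ℤ)
    (h : ∀ d : ℤ, d₀ ≤ d → 0 ≤ α * d ^ 2 + β * d + γ ∧ α * d ^ 2 + β * d + γ ≤ B) :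
    α = 0 ∧ β = 0 := by
  have hB : 0 ≤ B := le_trans (h d₀ le_rfl).1 (h d₀ le_rfl).2
  have hα : α = 0 := by
    set N := B + 1 with hN
    have h0 := h d₀ le_rfl
    have h1 := h (d₀ + N) (by omega)
    have h2 := h (d₀ + 2 * N) (by omega)
    have key : (α * (d₀ + 2 * N) ^ 2 + β * (d₀ + 2 * N) + γ) - 2 * (α * (d₀ + N) ^ 2 + β * (d₀ + N) + γ)
        + (α * d₀ ^ 2 + β * d₀ + γ) = 2 * α * N ^ 2 := by ring
    have hN2 : B + 1 ≤ N ^ 2 := by nlinarith
    by_contra hne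
    rcases lt_or_gt_of_ne hne with hlt | hgt
    · have : α ≤ -1 := by omega
      nlinarith
    · have : 1 ≤ α := by omega
      nlinarith
  refine ⟨hα, ?_⟩
  subst hα
  set N := B + 1 with hN
  have h0 := h d₀ le_rfl
  have h1 := h (d₀ + N) (by omega)
  have key : (0 * (d₀ + N) ^ 2 + β * (d₀ + N) + γ) - (0 * d₀ ^ 2 + β * d₀ + γ) = β * N := by ring
  by_contra hne
  rcases lt_or_gt_of_ne hne with hlt | hgt
  · have : β ≤ -1 := by omega
    nlinarith
  · have : 1 ≤ β := by omega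
    nlinarith

theorem two_mul_choose (n : ℕ) : 2 * (2 + n).choose 2 = (n + 2) * (n + 1) := by
  induction n with
  | zero => rfl
  | succ n ih =>
    rw [show 2 + (n + 1) = (2 + n) + 1 by ring, Nat.choose_succ_succ' (2 + n) 1, Nat.choose_one_right,
      mul_add, ih]
    ring

theorem sum_quadratic {n : ℕ} (c : Fin n → ℤ) (d : ℤ) :
    ∑ b, (d - c b + 2) * (d - c b + 1) =
      (n : ℤ) * d ^ 2 + (3 * (n : ℤ) - 2 * ∑ b, c b) * d + ∑ b, (c b ^ 2 - 3 * c b + 2) := by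
  have : ∀ b, (d - c b + 2) * (d - c b + 1) = d ^ 2 + (3 - 2 * c b) * d + (c b ^ 2 - 3 * c b + 2) :=
    fun b => by ring
  simp only [this, Finset.sum_add_distrib, Finset.sum_const, Finset.card_univ, Fintype.card_fin,
    ← Finset.sum_mul, Finset.sum_sub_distrib, ← Finset.mul_sum, nsmul_eq_mul]
  ring


/-- the abstract inequalities: ordered degrees, entries of non-positive degree vanish. -/
theorem degree_gaps {R : Type*} [CommRing R] [IsDomain R] (𝔪 : Ideal R) (h𝔪 : 𝔪 ≠ ⊤)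
    (n0 n1 n2 t : ℕ) (h1 : n1 = t + 1) (h2 : n2 = t)
    (D0 : Matrix (Fin n0) (Fin n1) R) (D : Matrix (Fin n1) (Fin n2) R)
    (a : Fin n1 → ℤ) (b : Fin n2 → ℤ)
    (hDz : ∀ p q, b q - a p ≤ 0 → D p q = 0) (hD𝔪 : ∀ p q, D p q ∈ 𝔪)
    (hinj : Function.Injective D.mulVec)
    (hex : ∀ w : Fin n1 → R, D0 *ᵥ w = 0 → ∃ v, D *ᵥ v = w)
    (hcomp : ∀ v : Fin n2 → R, D0 *ᵥ (D *ᵥ v) = 0)
    (ha : ∀ i j : Fin (t + 1), i ≤ j → a (Fin.cast h1.symm j) ≤ a (Fin.cast h1.symm i))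
    (hb : ∀ i j : Fin t, i ≤ j → b (Fin.cast h2.symm j) ≤ b (Fin.cast h2.symm i))
    (i : Fin t) :
    1 ≤ b (Fin.cast h2.symm i) - a (Fin.cast h1.symm i.castSucc) ∧
      1 ≤ b (Fin.cast h2.symm i) - a (Fin.cast h1.symm i.succ) := by
  subst h1 h2
  simp only [Fin.cast_eq_self] at ha hb ⊢
  constructor
  · by_contra hcon
    push Not at hcon
    refine HBMat.hb2 D i D0 hex hcomp hinj 𝔪 h𝔪 hD𝔪 ?_
    intro p q hp hq
    apply hDz
    have h3 := hb i q hq
    have h4 := ha p i.castSucc (by rw [Fin.le_def, Fin.val_castSucc]; exact hp)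
    omega
  · by_contra hcon
    push Not at hcon
    refine HBMat.hb1 D i hinj ?_
    intro p q hp hq
    apply hDz
    have h3 := hb i q hq
    have h4 := ha p i.succ (by rw [Fin.le_def, Fin.val_succ]; exact hp)
    omega

end Groth.Agent.Helper7.HBNum
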