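import Mathlib
import Groth.Prelude.Def_GrSyz
import Groth.Prelude.Def_GrLC
import Groth.Agent.Helper7.HBNum

/-!
# The numerical Hilbert–Burch theorem for points in the plane
-/

set_option autoImplicit false
set_option linter.unusedSectionVars false
set_option linter.style.haveILetI false

open DirectSum MvPolynomial Matrix

namespace Groth.Agent.Helper7.HBMain

open Groth.Agent.Helper7.HilbFn Groth.Agent.Helper7.GrSyzMin Groth.Agent.Helper7.GrTorK
  Groth.Agent.Helper7.GrLenReg Groth.Agent.Helper7.HBNum Groth.Agent.Helper7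

universe u

section Bound

variable {k : Type u} [Field k] {r : ℕ}
  {M : Type u} [AddCommGroup M] [Module k M] [Module (MvPolynomial (Fin (r + 1)) k) M]
  [IsScalarTower k (MvPolynomial (Fin (r + 1)) k) M]
  (ℳ : ℤ → Submodule k M) [DirectSum.Decomposition ℳ]
  [SetLike.GradedSMul (GrSyz.stdGr k (Fin (r + 1))) ℳ]
  (π : MvPolynomial (Fin (r + 1)) k →ₗ[MvPolynomial (Fin (r + 1)) k] M)
  (hπ : Function.Surjective π)
  (hπg : GrLC.IsGrHom (GrSyz.stdGr k (Fin (r + 1))) ℳ π)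
  (Z : Finset (Fin (r + 1) → k)) (I : Ideal (MvPolynomial (Fin (r + 1)) k))
  (hI : ∀ f : MvPolynomial (Fin (r + 1)) k, f ∈ I ↔
      ∀ p ∈ Z, ∀ j : ℕ, MvPolynomial.eval p (MvPolynomial.homogeneousComponent j f) = 0)
  (hker : LinearMap.ker π = I)

include hI in
theorem mem_I_iff_of_mem {d : ℤ} {f : MvPolynomial (Fin (r + 1)) k}
    (hf : f ∈ GrSyz.stdGr k (Fin (r + 1)) d) : f ∈ I ↔ ∀ p ∈ Z, MvPolynomial.eval p f = 0 := by
  rw [hI]
  rcases lt_or_ge d 0 with hd | hd
  · have h3 : ∀ z : MvPolynomial (Fin (r + 1)) k, z ∈ GrSyz.stdGr k (Fin (r + 1)) d → z = 0 :=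
      fun z hz => by rw [stdGr_neg k _ d hd, Submodule.mem_bot] at hz; exact hz
    rw [h3 f hf]
    simp
  · obtain ⟨n, rfl⟩ := Int.eq_ofNat_of_zero_le hd
    rw [stdGr_natCast] at hf
    constructor
    · intro h p hp
      have := h p hp n
      rwa [homogeneousComponent_of_mem hf, if_pos rfl] at this
    · intro h p hp j
      rw [homogeneousComponent_of_mem hf]
      split_ifs
      · exact h p hp
      · simp

include hπ hπg hI hker in
/-- the Hilbert function of the coordinate ring of a finite set of points is bounded by the number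
of points. -/
theorem finrank_le_card (d : ℤ) : Module.finrank k (ℳ d) ≤ Z.card := by
  classical
  let πd : GrSyz.stdGr k (Fin (r + 1)) d →ₗ[k] ℳ d :=
    (π.restrictScalars k).restrict (p := GrSyz.stdGr k (Fin (r + 1)) d) (q := ℳ d) (hπg d)
  have hπs : LinearMap.range πd = ⊤ := by
    rw [LinearMap.range_eq_top]
    rintro ⟨n, hn⟩
    obtain ⟨s, hs, hsn⟩ := exists_of_mem_piece ℳ π hπ hπg hn
    exact ⟨⟨s, hs⟩, Subtype.ext hsn⟩
  let ev : MvPolynomial (Fin (r + 1)) k →ₗ[k] (Z → k) :=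
    LinearMap.pi fun p => (MvPolynomial.aeval (p.1 : Fin (r + 1) → k)).toLinearMap
  let evd : GrSyz.stdGr k (Fin (r + 1)) d →ₗ[k] (Z → k) :=
    ev ∘ₗ (GrSyz.stdGr k (Fin (r + 1)) d).subtype
  have hkk : LinearMap.ker πd = LinearMap.ker evd := by
    ext ⟨f, hf⟩
    rw [LinearMap.mem_ker, LinearMap.mem_ker]
    have h1 : πd ⟨f, hf⟩ = 0 ↔ f ∈ I := by
      rw [← hker, LinearMap.mem_ker]
      constructor
      · intro h
        exact congrArg Subtype.val h
      · intro h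
        exact Subtype.ext h
    rw [h1, mem_I_iff_of_mem Z I hI hf]
    constructor
    · intro h
      funext p
      exact h p.1 p.2
    · intro h p hp
      exact congrFun h ⟨p, hp⟩
  have h1 := LinearMap.finrank_range_add_finrank_ker πd
  have h2 := LinearMap.finrank_range_add_finrank_ker evd
  rw [hπs, finrank_top] at h1
  rw [hkk] at h1
  have h3 : Module.finrank k (LinearMap.range evd) ≤ Module.finrank k (Z → k) :=
    Submodule.finrank_le _
  rw [Module.finrank_fintype_fun_eq_card, Fintype.card_coe] at h3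
  omega

end Bound


section Hilb

variable {k : Type u} [Field k]
  {M : Type u} [AddCommGroup M] [Module k M] [Module (MvPolynomial (Fin (2 + 1)) k) M]
  [IsScalarTower k (MvPolynomial (Fin (2 + 1)) k) M]
  (ℳ : ℤ → Submodule k M) [DirectSum.Decomposition ℳ]
  [SetLike.GradedSMul (GrSyz.stdGr k (Fin (2 + 1))) ℳ]
  (F : GrSyz.FreeRes (GrSyz.stdGr k (Fin (2 + 1))) ℳ) (hlen : F.HasLengthLE 2)

include hlen in
/-- twice the Hilbert function is a quadratic polynomial in large degrees. -/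
theorem two_mul_finrank (d : ℤ) (hd : ∀ (i : ℕ) (b : Fin (F.rk i)), F.deg i b ≤ d) :
    2 * (Module.finrank k (ℳ d) : ℤ) =
      ((F.rk 0 : ℤ) - (F.rk 1 : ℤ) + (F.rk 2 : ℤ)) * d ^ 2 +
      ((3 * (F.rk 0 : ℤ) - 2 * ∑ b, F.deg 0 b) - (3 * (F.rk 1 : ℤ) - 2 * ∑ b, F.deg 1 b) +
        (3 * (F.rk 2 : ℤ) - 2 * ∑ b, F.deg 2 b)) * d +
      (∑ b, (F.deg 0 b ^ 2 - 3 * F.deg 0 b + 2) - ∑ b, (F.deg 1 b ^ 2 - 3 * F.deg 1 b + 2) +
        ∑ b, (F.deg 2 b ^ 2 - 3 * F.deg 2 b + 2)) := by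
  have key : ∀ i : ℕ, 2 * ∑ b : Fin (F.rk i),
      (if F.deg i b ≤ d then ((Nat.choose (2 + (d - F.deg i b).toNat) 2 : ℕ) : ℤ) else 0) =
      (F.rk i : ℤ) * d ^ 2 + (3 * (F.rk i : ℤ) - 2 * ∑ b, F.deg i b) * d +
        ∑ b, (F.deg i b ^ 2 - 3 * F.deg i b + 2) := by
    intro i
    rw [← sum_quadratic, Finset.mul_sum]
    refine Finset.sum_congr rfl fun b _ => ?_
    rw [if_pos (hd i b)]
    have h1 := two_mul_choose (d - F.deg i b).toNat
    have h2 : (((d - F.deg i b).toNat : ℕ) : ℤ) = d - F.deg i b :=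
      Int.toNat_of_nonneg (by have := hd i b; omega)
    have h3 : (2 : ℤ) * ((Nat.choose (2 + (d - F.deg i b).toNat) 2 : ℕ) : ℤ) =
        ((((d - F.deg i b).toNat : ℕ) : ℤ) + 2) * ((((d - F.deg i b).toNat : ℕ) : ℤ) + 1) := by
      exact_mod_cast h1
    rw [h3, h2]
  rw [hilbert_std k 2 M ℳ F 2 hlen d, Finset.sum_range_succ, Finset.sum_range_succ,
    Finset.sum_range_one]
  have k0 := key 0
  have k1 := key 1
  have k2 := key 2
  simp only [pow_zero, pow_one, one_mul]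
  linarith

end Hilb


theorem main (k : Type u) [Field k]
    (Z : Finset (Fin 3 → k)) (hZ : ∀ p ∈ Z, p ≠ 0) (hZne : Z.Nonempty) (I : Ideal (MvPolynomial (Fin 3) k))
    (hI : ∀ f : MvPolynomial (Fin 3) k, f ∈ I ↔
      ∀ p ∈ Z, ∀ j : ℕ, MvPolynomial.eval p (MvPolynomial.homogeneousComponent j f) = 0)
    (M : Type u) [AddCommGroup M] [Module k M] [Module (MvPolynomial (Fin 3) k) M] [IsScalarTower k (MvPolynomial (Fin 3) k) M]
    (ℳ : ℤ → Submodule k M) [DirectSum.Decomposition ℳ] [SetLike.GradedSMul (GrSyz.stdGr k (Fin 3)) ℳ]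
    (π : MvPolynomial (Fin 3) k →ₗ[MvPolynomial (Fin 3) k] M) (hπ : Function.Surjective π)
    (hπg : GrLC.IsGrHom (GrSyz.stdGr k (Fin 3)) ℳ π) (hker : LinearMap.ker π = I)
    (F : GrSyz.FreeRes (GrSyz.stdGr k (Fin 3)) ℳ) (hF : F.IsMinimal (GrSyz.irrel (GrSyz.stdGr k (Fin 3))).toIdeal) (hlen : F.HasLengthLE 2)
    (t : ℕ) (h1 : F.rk 1 = t + 1) (h2 : F.rk 2 = t)
    (ha : ∀ i j : Fin (t + 1), i ≤ j → F.deg 1 (Fin.cast h1.symm j) ≤ F.deg 1 (Fin.cast h1.symm i))
    (hb : ∀ i j : Fin t, i ≤ j → F.deg 2 (Fin.cast h2.symm j) ≤ F.deg 2 (Fin.cast h2.symm i)) :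
    (∀ i : Fin t, 1 ≤ F.deg 2 (Fin.cast h2.symm i) - F.deg 1 (Fin.cast h1.symm i.castSucc) ∧
        1 ≤ F.deg 2 (Fin.cast h2.symm i) - F.deg 1 (Fin.cast h1.symm i.succ)) ∧
      ∑ i : Fin (t + 1), F.deg 1 (Fin.cast h1.symm i) = ∑ j : Fin t, F.deg 2 (Fin.cast h2.symm j) := by
  classical
  constructor
  · -- the inequalities
    intro i
    have h𝔪 : (GrSyz.irrel (GrSyz.stdGr k (Fin 3))).toIdeal ≠ ⊤ := by
      rw [Ideal.ne_top_iff_one]
      exact one_not_mem k (Fin 3)
    have hinj : Function.Injective (F.d 1).mulVec := by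
      have h3 : F.rk 3 = 0 := hlen 3 (by norm_num)
      have hk := F.exact_succ 1
      have hr : LinearMap.range (Matrix.mulVecLin (F.d (1 + 1))) = ⊥ := by
        rw [eq_bot_iff]
        rintro _ ⟨w, rfl⟩
        haveI : IsEmpty (Fin (F.rk (1 + 1 + 1))) := by
          rw [show 1 + 1 + 1 = 3 from rfl, h3]; infer_instance
        rw [Submodule.mem_bot]
        funext a
        simp [Matrix.mulVec, dotProduct]
      rw [hr, LinearMap.ker_eq_bot] at hk
      exact hk
    have hex : ∀ w : Fin (F.rk 1) → MvPolynomial (Fin 3) k, (F.d 0) *ᵥ w = 0 → ∃ v, (F.d 1) *ᵥ v = w := by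
      intro w hw
      have : w ∈ LinearMap.ker (Matrix.mulVecLin (F.d 0)) := hw
      rw [F.exact_succ 0] at this
      exact this
    have hcomp : ∀ v : Fin (F.rk 2) → MvPolynomial (Fin 3) k, (F.d 0) *ᵥ ((F.d 1) *ᵥ v) = 0 := by
      intro v
      have : (F.d 1) *ᵥ v ∈ LinearMap.range (Matrix.mulVecLin (F.d (0 + 1))) := ⟨v, rfl⟩
      rw [← F.exact_succ 0] at this
      exact this
    exact degree_gaps _ h𝔪 (F.rk 0) (F.rk 1) (F.rk 2) t h1 h2 (F.d 0) (F.d 1) (F.deg 1) (F.deg 2)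
      (fun p q h => eq_zero_of_mem k (Fin 3) _ h _ (F.d_mem 1 p q) (hF 1 p q)) (hF 1) hinj hex hcomp
      ha hb i
  · -- the sum of degrees
    obtain ⟨d₀, hd₀⟩ : ∃ d₀ : ℤ, ∀ (i : ℕ) (b : Fin (F.rk i)), F.deg i b ≤ d₀ := by
      obtain ⟨d₀, hd₀⟩ := ((Finset.range 3).biUnion (fun i =>
        Finset.univ.image (fun b : Fin (F.rk i) => F.deg i b))).exists_le
      refine ⟨d₀, fun i b => ?_⟩
      have hi : i ≤ 2 := by
        by_contra hcon
        push Not at hcon
        have := hlen i hcon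
        rw [this] at b
        exact b.elim0
      exact hd₀ (F.deg i b) (by
        rw [Finset.mem_biUnion]
        exact ⟨i, Finset.mem_range.2 (by omega), Finset.mem_image.2 ⟨b, Finset.mem_univ _, rfl⟩⟩)
    have hq := coeff_zero_of_bounded _ _ _ (2 * (Z.card : ℤ)) d₀ (fun d hd => by
      rw [← two_mul_finrank ℳ F hlen d (fun i b => le_trans (hd₀ i b) hd)]
      have := finrank_le_card (r := 2) ℳ π hπ hπg Z I hI hker d
      constructor <;> omega)
    obtain ⟨hα, hβ⟩ := hq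
    have hrk0 : F.rk 0 = 1 := by
      rw [h1, h2] at hα
      push_cast at hα
      omega
    let b₀ : Fin (F.rk 0) := Fin.cast hrk0.symm 0
    have hb₀ : ∀ b : Fin (F.rk 0), b = b₀ := by
      intro b
      apply Fin.ext
      have := b.isLt
      simp only [b₀, Fin.val_cast, Fin.val_zero]
      omega
    have hsum0 : ∑ b, F.deg 0 b = F.deg 0 b₀ :=
      Fintype.sum_eq_single b₀ (fun b hb => absurd (hb₀ b) hb)
    -- `π 1 ≠ 0`
    have hπ1 : π 1 ≠ 0 := by
      intro h0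
      have h3 : (1 : MvPolynomial (Fin 3) k) ∈ I := by rw [← hker]; exact h0
      obtain ⟨p, hp⟩ := hZne
      have := (hI 1).1 h3 p hp 0
      rw [homogeneousComponent_zero] at this
      simp at this
    obtain ⟨v, hv⟩ := F.aug_surjective (π 1)
    rw [Fintype.linearCombination_apply, Fintype.sum_eq_single b₀ (fun b hb => absurd (hb₀ b) hb)] at hv
    have hc : F.deg 0 b₀ = 0 := by
      apply le_antisymm
      · by_contra hcon
        push Not at hcon
        have h3 : π 1 ∈ ℳ 0 := hπg 0 1 (SetLike.GradedOne.one_mem)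
        have h4 := decompose_of_mem_same ℳ h3
        rw [← hv, decompose_smul_of_right_mem (GrSyz.stdGr k (Fin 3)) ℳ (F.aug_mem b₀) (v b₀) 0] at h4
        have h5 : ∀ z : MvPolynomial (Fin 3) k, z ∈ GrSyz.stdGr k (Fin 3) (0 - F.deg 0 b₀) → z = 0 :=
          fun z hz => by
            rw [stdGr_neg k _ _ (by omega), Submodule.mem_bot] at hz; exact hz
        rw [h5 _ (SetLike.coe_mem _), zero_smul] at h4
        rw [← h4] at hv
        exact hπ1 hv.symm
      · by_contra hcon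
        push Not at hcon
        obtain ⟨f, hf⟩ := hπ (F.aug b₀)
        have h4 := decompose_of_mem_same ℳ (F.aug_mem b₀)
        rw [← hf, decompose_map (GrSyz.stdGr k (Fin (2 + 1))) ℳ π hπg f] at h4
        have h5 : ∀ z : MvPolynomial (Fin 3) k, z ∈ GrSyz.stdGr k (Fin 3) (F.deg 0 b₀) → z = 0 :=
          fun z hz => by
            rw [stdGr_neg k _ _ hcon, Submodule.mem_bot] at hz; exact hz
        rw [h5 _ (SetLike.coe_mem _), map_zero] at h4
        rw [hf] at h4
        rw [← h4, smul_zero] at hv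
        exact hπ1 hv.symm
    have e1 : (F.rk 1 : ℤ) = t + 1 := by rw [h1]; push_cast; rfl
    have e2 : (F.rk 2 : ℤ) = t := by rw [h2]
    have e0 : (F.rk 0 : ℤ) = 1 := by rw [hrk0]; rfl
    rw [hsum0, hc] at hβ
    rw [Fin.sum_congr' (fun b => F.deg 1 b) h1.symm, Fin.sum_congr' (fun b => F.deg 2 b) h2.symm]
    linarith

end Groth.Agent.Helper7.HBMain
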