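import Mathlib
import Groth.Agent.Helper7.HB1

set_option linter.style.haveILetI false
set_option linter.unusedSectionVars false
set_option autoImplicit false

namespace Groth.Agent.Helper7.HBSp

universe u

open Function Matrix
open Groth.Agent.Helper7.HB

section basic

variable {R : Type u} [CommRing R]

/-- A uniform multiplier for a finitely generated submodule. -/
theorem exists_smul_mem {M : Type*} [AddCommGroup M] [Module R M] (T : Submonoid R)
    (N N' : Submodule R M) (hN : N.FG) (h : ∀ v ∈ N, ∃ t ∈ T, t • v ∈ N') :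
    ∃ g ∈ T, ∀ v ∈ N, g • v ∈ N' := by
  classical
  obtain ⟨s, rfl⟩ := hN
  induction s using Finset.induction_on with
  | empty =>
    refine ⟨1, T.one_mem, fun v hv => ?_⟩
    simp only [Finset.coe_empty, Submodule.span_empty, Submodule.mem_bot] at hv
    rw [hv, smul_zero]
    exact zero_mem _
  | insert a s ha ih =>
    have hsub : Submodule.span R (s : Set M) ≤ Submodule.span R ((insert a s : Finset M) : Set M) :=
      Submodule.span_mono (by simp)
    obtain ⟨g, hg, hgs⟩ := ih (fun v hv => h v (hsub hv))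
    obtain ⟨t, ht, hta⟩ := h a (Submodule.subset_span (by simp))
    refine ⟨t * g, T.mul_mem ht hg, ?_⟩
    intro v hv
    rw [Finset.coe_insert, Submodule.mem_span_insert] at hv
    obtain ⟨c, w, hw, rfl⟩ := hv
    have e : (t * g) • (c • a + w) = (g * c) • (t • a) + t • (g • w) := by
      simp only [smul_add, smul_smul]
      congr 1
      · congr 1; ring
    rw [e]
    exact add_mem (N'.smul_mem _ hta) (N'.smul_mem _ (hgs w hw))

variable (T : Submonoid R) (S : Type u) [CommRing S] [Algebra R S] [IsLocalization T S]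

/-- A vector mapping to zero in the localization is killed by an element of the submonoid. -/
theorem exists_smul_eq_zero {n : ℕ} (x : Fin n → R) (hx : ∀ i, algebraMap R S (x i) = 0) :
    ∃ t ∈ T, t • x = 0 := by
  classical
  have h1 : ∀ i, ∃ m : T, (m : R) * x i = 0 := fun i =>
    (IsLocalization.map_eq_zero_iff T S (x i)).mp (hx i)
  choose m hm using h1
  refine ⟨∏ i, (m i : R), Submonoid.prod_mem T fun i _ => (m i).2, ?_⟩
  funext i
  rw [Pi.smul_apply, smul_eq_mul, Pi.zero_apply,
    ← Finset.mul_prod_erase Finset.univ (fun k => (m k : R)) (Finset.mem_univ i),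
    mul_comm ((m i : R)), mul_assoc, hm i, mul_zero]

/-- Clearing denominators of a vector. -/
theorem exists_lift_smul {n : ℕ} (w : Fin n → S) :
    ∃ t ∈ T, ∃ u : Fin n → R, ∀ i, algebraMap R S (u i) = algebraMap R S t * w i := by
  obtain ⟨b, hb⟩ := IsLocalization.exist_integer_multiples_of_finite T w
  choose u hu using hb
  refine ⟨b, b.2, u, fun i => ?_⟩
  rw [hu i, Algebra.smul_def]

end basic


section spread

variable {R : Type u} [CommRing R]
variable (T : Submonoid R) (S : Type u) [CommRing S] [Algebra R S] [IsLocalization T S]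
variable {a b c : ℕ} (A : Matrix (Fin b) (Fin a) R) (B : Matrix (Fin c) (Fin b) R)

/-- If the image of `v` lies in the range of `A` over the localization, a multiple of `v`
lies in the range of `A`. -/
theorem exists_smul_mem_range (v : Fin b → R) (w : Fin a → S)
    (h : (A.map (algebraMap R S)) *ᵥ w = algebraMap R S ∘ v) :
    ∃ t ∈ T, ∃ u : Fin a → R, A *ᵥ u = t • v := by
  obtain ⟨t₁, ht₁, u₁, hu₁⟩ := exists_lift_smul T S w
  have hu : (algebraMap R S ∘ u₁) = algebraMap R S t₁ • w := by
    funext j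
    simp [hu₁]
  have h0 : ∀ i, algebraMap R S ((A *ᵥ u₁ - t₁ • v) i) = 0 := by
    intro i
    rw [Pi.sub_apply, map_sub, RingHom.map_mulVec, Pi.smul_apply, smul_eq_mul, map_mul, hu,
      Matrix.mulVec_smul, Pi.smul_apply, h, smul_eq_mul, Function.comp_apply, sub_self]
  obtain ⟨t₂, ht₂, h2⟩ := exists_smul_eq_zero T S _ h0
  refine ⟨t₂ * t₁, T.mul_mem ht₂ ht₁, t₂ • u₁, ?_⟩
  rw [Matrix.mulVec_smul, mul_smul]
  rw [smul_sub, sub_eq_zero] at h2
  exact h2

/-- Clearing denominators inside a kernel. -/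
theorem exists_lift_ker (w : Fin b → S) (h : (B.map (algebraMap R S)) *ᵥ w = 0) :
    ∃ t ∈ T, ∃ v : Fin b → R, B *ᵥ v = 0 ∧ ∀ i, algebraMap R S (v i) = algebraMap R S t * w i := by
  obtain ⟨t₁, ht₁, v₁, hv₁⟩ := exists_lift_smul T S w
  have hv : (algebraMap R S ∘ v₁) = algebraMap R S t₁ • w := by
    funext j
    simp [hv₁]
  have h0 : ∀ i, algebraMap R S ((B *ᵥ v₁) i) = 0 := by
    intro i
    rw [RingHom.map_mulVec, hv, Matrix.mulVec_smul, h, smul_zero, Pi.zero_apply]
  obtain ⟨t₂, ht₂, h2⟩ := exists_smul_eq_zero T S _ h0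
  refine ⟨t₂ * t₁, T.mul_mem ht₂ ht₁, t₂ • v₁, ?_, fun i => ?_⟩
  · rw [Matrix.mulVec_smul, h2]
  · rw [Pi.smul_apply, smul_eq_mul, map_mul, hv₁ i, map_mul, mul_assoc]

/-- Exactness over the localization gives pointwise multipliers. -/
theorem exists_smul_mem_of_exact
    (hex : ∀ w : Fin b → S, (B.map (algebraMap R S)) *ᵥ w = 0 →
      ∃ w' : Fin a → S, (A.map (algebraMap R S)) *ᵥ w' = w)
    (v : Fin b → R) (hv : v ∈ LinearMap.ker B.mulVecLin) :
    ∃ t ∈ T, t • v ∈ LinearMap.range A.mulVecLin := by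
  have h1 : (B.map (algebraMap R S)) *ᵥ (algebraMap R S ∘ v) = 0 := by
    funext i
    rw [← RingHom.map_mulVec]
    have : B *ᵥ v = 0 := hv
    rw [this, Pi.zero_apply, map_zero, Pi.zero_apply]
  obtain ⟨w', hw'⟩ := hex _ h1
  obtain ⟨t, ht, u, hu⟩ := exists_smul_mem_range T S A v w' hw'
  exact ⟨t, ht, u, hu⟩

include T in
/-- Exactness descends from a uniform multiplier that becomes a unit. -/
theorem exact_of_smul_mem {g : R} (hg : IsUnit (algebraMap R S g))
    (H : ∀ v ∈ LinearMap.ker B.mulVecLin, g • v ∈ LinearMap.range A.mulVecLin)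
    (w : Fin b → S) (hw : (B.map (algebraMap R S)) *ᵥ w = 0) :
    ∃ w' : Fin a → S, (A.map (algebraMap R S)) *ᵥ w' = w := by
  obtain ⟨t, ht, v, hv0, hv⟩ := exists_lift_ker T S B w hw
  obtain ⟨u, hu⟩ := H v hv0
  have hu' : A *ᵥ u = g • v := hu
  have htu : IsUnit (algebraMap R S t) := IsLocalization.map_units S (⟨t, ht⟩ : T)
  obtain ⟨e, he⟩ := hg.mul htu
  refine ⟨(↑e⁻¹ : S) • (algebraMap R S ∘ u), ?_⟩
  rw [Matrix.mulVec_smul]
  funext i
  rw [Pi.smul_apply, ← RingHom.map_mulVec, hu', Pi.smul_apply, smul_eq_mul, smul_eq_mul, map_mul,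
    hv i, ← mul_assoc (algebraMap R S g), ← he, ← mul_assoc, Units.inv_mul, one_mul]

end spread

end Groth.Agent.Helper7.HBSp
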