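import Mathlib
import Groth.Agent.Helper7.HB1
import Groth.Agent.Helper7.HBSp1
import Groth.Agent.Helper8.RegSeqA

set_option linter.style.haveILetI false
set_option linter.unusedSectionVars false
set_option autoImplicit false

namespace Groth.Agent.Helper7.HBSp

universe u

open Function Matrix
open Groth.Agent.Helper7.HB
open Groth.Agent.Helper8.RegSeqA

/-- The Hilbert–Burch data for `(φ, I)`: the signed maximal minors generate `I` and
`0 → A^r → A^{r+1} → A` is exact. -/
def IsHB {A : Type*} [CommRing A] {r : ℕ} (φ : Matrix (Fin (r + 1)) (Fin r) A) (I : Ideal A) :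
    Prop :=
  Ideal.span (Set.range (Δ φ)) = I ∧ Function.Injective φ.mulVecLin ∧
    LinearMap.range φ.mulVecLin = LinearMap.ker (Fintype.linearCombination A (Δ φ))

section conv

variable {R : Type*} [CommRing R] {R' : Type*} [CommRing R'] (f : R →+* R') {r : ℕ}
  (φ : Matrix (Fin (r + 1)) (Fin r) R)

/-- The row matrix of signed minors. -/
noncomputable def rowΔ : Matrix (Fin 1) (Fin (r + 1)) R := Matrix.of fun _ j => Δ φ j

lemma rowΔ_map_mulVec_eq_zero_iff (w : Fin (r + 1) → R') :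
    ((rowΔ φ).map f) *ᵥ w = 0 ↔
      w ∈ LinearMap.ker (Fintype.linearCombination R' (Δ (φ.map f))) := by
  rw [LinearMap.mem_ker, Fintype.linearCombination_apply]
  have e : ∀ i : Fin 1, (((rowΔ φ).map f) *ᵥ w) i = ∑ j, w j • Δ (φ.map f) j := by
    intro i
    simp only [Matrix.mulVec, dotProduct, rowΔ, Matrix.map_apply, Matrix.of_apply, Δ_map,
      smul_eq_mul]
    exact Finset.sum_congr rfl fun j _ => mul_comm _ _
  constructor
  · intro h
    rw [← e 0, h, Pi.zero_apply]
  · intro h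
    funext i
    rw [e i, h, Pi.zero_apply]

/-- The zero matrix with no columns. -/
def emp : Matrix (Fin r) (Fin 0) R := 0

lemma emp_map_mulVec (w : Fin 0 → R') : ((emp (R := R) (r := r)).map f) *ᵥ w = 0 := by
  funext i
  simp [Matrix.mulVec, dotProduct]

lemma injective_iff_emp (ψ : Matrix (Fin (r + 1)) (Fin r) R') :
    Function.Injective ψ.mulVecLin ↔
      ∀ w : Fin r → R', ψ *ᵥ w = 0 →
        ∃ w' : Fin 0 → R', ((emp (R := R) (r := r)).map f) *ᵥ w' = w := by
  rw [injective_iff_map_eq_zero]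
  constructor
  · intro h w hw
    refine ⟨0, ?_⟩
    rw [emp_map_mulVec, h w hw]
  · intro h w hw
    obtain ⟨w', hw'⟩ := h w hw
    rw [← hw', emp_map_mulVec]

lemma range_eq_ker_iff (ψ : Matrix (Fin (r + 1)) (Fin r) R') :
    LinearMap.range ψ.mulVecLin = LinearMap.ker (Fintype.linearCombination R' (Δ ψ)) ↔
      ∀ w ∈ LinearMap.ker (Fintype.linearCombination R' (Δ ψ)), ∃ w' : Fin r → R', ψ *ᵥ w' = w := by
  constructor
  · intro h w hw
    rw [← h] at hw
    obtain ⟨w', hw'⟩ := hw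
    exact ⟨w', hw'⟩
  · intro h
    apply le_antisymm
    · rintro _ ⟨u, rfl⟩
      rw [LinearMap.mem_ker, Fintype.linearCombination_apply]
      simp only [smul_eq_mul, Matrix.mulVecLin_apply]
      exact sum_Δ_mulVec ψ u
    · intro w hw
      obtain ⟨w', hw'⟩ := h w hw
      exact ⟨w', hw'⟩

end conv

section main

variable {R : Type u} [CommRing R] [IsNoetherianRing R] (p : Ideal R) [p.IsPrime]
variable (S : Type u) [CommRing S] [Algebra R S] [IsLocalization.AtPrime S p]

/-- Spreading exactness of `R^a → R^b → R^c` from a localization at a prime to a basic open. -/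
theorem exists_exact_away {a b c : ℕ} (A : Matrix (Fin b) (Fin a) R)
    (B : Matrix (Fin c) (Fin b) R)
    (hex : ∀ w : Fin b → S, (B.map (algebraMap R S)) *ᵥ w = 0 →
      ∃ w' : Fin a → S, (A.map (algebraMap R S)) *ᵥ w' = w) :
    ∃ g ∉ p, ∀ G : R, g ∣ G → ∀ (R' : Type u) [CommRing R'] [Algebra R R']
      [IsLocalization.Away G R'],
      ∀ w : Fin b → R', (B.map (algebraMap R R')) *ᵥ w = 0 →
        ∃ w' : Fin a → R', (A.map (algebraMap R R')) *ᵥ w' = w := by
  have hfg : (LinearMap.ker B.mulVecLin).FG := IsNoetherian.noetherian _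
  obtain ⟨g, hg, H⟩ := exists_smul_mem p.primeCompl (LinearMap.ker B.mulVecLin)
    (LinearMap.range A.mulVecLin) hfg
    (fun v hv => exists_smul_mem_of_exact p.primeCompl S A B hex v hv)
  refine ⟨g, hg, fun G hG R' _ _ _ w hw => ?_⟩
  exact exact_of_smul_mem (Submonoid.powers G) R' A B (isUnit_of_dvd_away hG R') H w hw

/-- Spreading Hilbert–Burch data from the localization at a prime to a basic open. -/
theorem isHB_spread {r : ℕ} (φ : Matrix (Fin (r + 1)) (Fin r) R) (I : Ideal R)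
    (h : IsHB (φ.map (algebraMap R S)) (I.map (algebraMap R S))) :
    ∃ g ∉ p, ∀ G : R, g ∣ G → ∀ (R' : Type u) [CommRing R'] [Algebra R R']
      [IsLocalization.Away G R'],
      IsHB (φ.map (algebraMap R R')) (I.map (algebraMap R R')) := by
  obtain ⟨h1, h2, h3⟩ := h
  -- the ideal
  have hspan : ∀ (R' : Type u) [CommRing R'] [Algebra R R'],
      Ideal.span (Set.range (Δ (φ.map (algebraMap R R')))) =
        (Ideal.span (Set.range (Δ φ))).map (algebraMap R R') := by
    intro R' _ _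
    rw [Ideal.map_span, ← Set.range_comp]
    congr 2
    funext i
    exact Δ_map _ φ i
  rw [hspan S] at h1
  obtain ⟨g₁, hg₁, H₁⟩ := exists_mul_mem_of_map_le p S
    (IsNoetherian.noetherian (Ideal.span (Set.range (Δ φ)))) h1.le
  obtain ⟨g₂, hg₂, H₂⟩ := exists_mul_mem_of_map_le p S (IsNoetherian.noetherian I) h1.ge
  -- injectivity
  obtain ⟨g₃, hg₃, H₃⟩ := exists_exact_away p S (emp (R := R) (r := r)) φ
    ((injective_iff_emp (algebraMap R S) _).mp h2)
  -- exactness
  obtain ⟨g₄, hg₄, H₄⟩ := exists_exact_away p S φ (rowΔ φ) (by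
    intro w hw
    rw [rowΔ_map_mulVec_eq_zero_iff] at hw
    exact (range_eq_ker_iff _).mp h3 w hw)
  refine ⟨g₁ * g₂ * (g₃ * g₄), ?_, ?_⟩
  · intro hmem
    rcases Ideal.IsPrime.mem_or_mem inferInstance hmem with h | h
    · rcases Ideal.IsPrime.mem_or_mem inferInstance h with h | h
      exacts [hg₁ h, hg₂ h]
    · rcases Ideal.IsPrime.mem_or_mem inferInstance h with h | h
      exacts [hg₃ h, hg₄ h]
  · intro G hG R' _ _ _
    have hd₁ : g₁ ∣ G := Dvd.dvd.trans ⟨g₂ * (g₃ * g₄), by ring⟩ hG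
    have hd₂ : g₂ ∣ G := Dvd.dvd.trans ⟨g₁ * (g₃ * g₄), by ring⟩ hG
    have hd₃ : g₃ ∣ G := Dvd.dvd.trans ⟨g₁ * g₂ * g₄, by ring⟩ hG
    have hd₄ : g₄ ∣ G := Dvd.dvd.trans ⟨g₁ * g₂ * g₃, by ring⟩ hG
    refine ⟨?_, ?_, ?_⟩
    · rw [hspan R']
      apply le_antisymm
      · exact map_le_of_mul_mem H₁ (isUnit_of_dvd_away hd₁ R')
      · exact map_le_of_mul_mem H₂ (isUnit_of_dvd_away hd₂ R')
    · exact (injective_iff_emp (algebraMap R R') _).mpr (H₃ G hd₃ R')
    · rw [range_eq_ker_iff]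
      intro w hw
      rw [← rowΔ_map_mulVec_eq_zero_iff] at hw
      exact H₄ G hd₄ R' w hw

end main

end Groth.Agent.Helper7.HBSp
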