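import Mathlib
import Groth.Prelude
import Groth.Agent.Helper7.HB5
import Groth.Agent.Helper7.HBSp2
import Groth.Agent.Helper8.RegSeqB
import Groth.Agent.Helper4.SmReg
import Groth.Agent.Helper2.RegCM
import Groth.Agent.Helper2.DepthCM

set_option linter.style.haveILetI false
set_option linter.unusedSectionVars false
set_option autoImplicit false

namespace Groth.Agent.Helper7.HBSp

universe u

open AlgebraicGeometry CategoryTheory IsLocalRing
open Groth.Agent.Helper7.HB
open Groth.Agent.Helper8.RegSeqA Groth.Agent.Helper8.RegSeqB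

/-- depth is invariant under ring isomorphisms -/
lemma depth_eq_of_ringEquiv {R S : Type u} [CommRing R] [CommRing S] [IsLocalRing R]
    [IsLocalRing S] [IsNoetherianRing R] [IsNoetherianRing S] (e : R ≃+* S) :
    LocCoh.depth R R = LocCoh.depth S S := by
  letI : Algebra R S := e.toRingHom.toAlgebra
  haveI : IsLocalHom (algebraMap R S) := by
    show IsLocalHom e.toRingHom
    exact IsLocalHom.of_surjective _ e.surjective
  have hbij : Function.Bijective (Algebra.linearMap R S) := e.bijective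
  haveI : Module.Finite R S := Module.Finite.of_surjective (Algebra.linearMap R S) hbij.2
  rw [← Groth.Agent.Helper2.RegCM.depth_eq_of_isLocalHom R S S]
  exact Groth.Agent.Helper2.DepthCM.idealDepth_congr (maximalIdeal R)
    (LinearEquiv.ofBijective (Algebra.linearMap R S) hbij)

/-- Cohen–Macaulay local rings are invariant under ring isomorphisms. -/
theorem cm_of_ringEquiv {R S : Type u} [CommRing R] [CommRing S] (e : R ≃+* S)
    [h : LocCoh.IsCohenMacaulayLocalRing R] : LocCoh.IsCohenMacaulayLocalRing S := by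
  haveI : IsNoetherianRing S := isNoetherianRing_of_ringEquiv R e
  haveI : IsLocalRing S := e.isLocalRing
  refine ⟨?_⟩
  have h1 := h.supportDim_eq_depth
  rw [Module.supportDim_self_eq_ringKrullDim] at h1 ⊢
  rw [← ringKrullDim_eq_of_ringEquiv e, ← depth_eq_of_ringEquiv e]
  exact h1

/-- lifting a finite family of germs to an affine open neighbourhood. -/
theorem exists_lift_fintype {X : Scheme.{u}} (x : X) {ι : Type*} [Fintype ι]
    (f : ι → X.presheaf.stalk x) :
    ∃ (U : X.Opens) (_ : IsAffineOpen U) (hx : x ∈ U) (f₀ : ι → Γ(X, U)),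
      ∀ i, (X.presheaf.germ U x hx).hom (f₀ i) = f i := by
  obtain ⟨U, hU, hx, l₀, hl₀⟩ := exists_lift_list x ((Finset.univ : Finset ι).toList.map f)
  have : ∀ i, ∃ s : Γ(X, U), (X.presheaf.germ U x hx).hom s = f i := by
    intro i
    have hi : f i ∈ (Finset.univ : Finset ι).toList.map f :=
      List.mem_map.mpr ⟨i, by simp, rfl⟩
    rw [← hl₀] at hi
    obtain ⟨s, _, hs⟩ := List.mem_map.mp hi
    exact ⟨s, hs⟩
  choose f₀ hf₀ using this
  exact ⟨U, hU, hx, f₀, hf₀⟩

/-- Hilbert–Burch resolution on an affine neighbourhood of a point of a Cohen–Macaulay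
codimension two closed subscheme of a smooth scheme. -/
theorem main (k : Type u) [Field k] (X Y : Scheme.{u}) (f : X ⟶ Spec (CommRingCat.of k))
    [Smooth f] (ι : Y ⟶ X) [IsClosedImmersion ι]
    (hCM : ∀ y : Y, LocCoh.IsCohenMacaulayLocalRing (Y.presheaf.stalk y))
    (hcodim : ∀ y : Y, ringKrullDim (Y.presheaf.stalk y) + 2 =
      ringKrullDim (X.presheaf.stalk (ι.base y)))
    (y : Y) :
    ∃ U : X.affineOpens, ι.base y ∈ (U : X.Opens) ∧ ∃ (r : ℕ)
      (φ : Matrix (Fin (r + 1)) (Fin r) Γ(X, U)), IsHB φ (ι.ker.ideal U) := by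
  obtain ⟨hN, hreg⟩ := Groth.Agent.Helper4.SmReg.regular_of_smooth_field k f
  haveI := hN
  haveI : IsRegularLocalRing (X.presheaf.stalk (ι y)) := hreg (ι y)
  have hsurj : Function.Surjective (ι.stalkMap y).hom := ι.stalkMap_surjective y
  let e : (X.presheaf.stalk (ι y)) ⧸ RingHom.ker (ι.stalkMap y).hom ≃+* Y.presheaf.stalk y :=
    RingHom.quotientKerEquivOfSurjective hsurj
  haveI := hCM y
  haveI : LocCoh.IsCohenMacaulayLocalRing
      (X.presheaf.stalk (ι y) ⧸ RingHom.ker (ι.stalkMap y).hom) := cm_of_ringEquiv e.symm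
  have hc : ringKrullDim (X.presheaf.stalk (ι y) ⧸ RingHom.ker (ι.stalkMap y).hom) + 2 =
      ringKrullDim (X.presheaf.stalk (ι y)) := by
    rw [ringKrullDim_eq_of_ringEquiv e]
    exact hcodim y
  obtain ⟨r, φ, h1, -, h2, h3⟩ := Groth.Agent.Helper7.HB.main (X.presheaf.stalk (ι y))
    (RingHom.ker (ι.stalkMap y).hom) hc
  obtain ⟨U, hU, hz, φ₀', hφ₀'⟩ := exists_lift_fintype (ι y)
    (fun ij : Fin (r + 1) × Fin r => φ ij.1 ij.2)
  let φ₀ : Matrix (Fin (r + 1)) (Fin r) Γ(X, U) := Matrix.of fun i j => φ₀' (i, j)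
  letI algS : Algebra Γ(X, U) (X.presheaf.stalk (ι y)) :=
    X.presheaf.algebra_section_stalk ⟨ι y, hz⟩
  haveI locS : IsLocalization.AtPrime (X.presheaf.stalk (ι y))
      (hU.primeIdealOf ⟨ι y, hz⟩).asIdeal := hU.isLocalization_stalk ⟨ι y, hz⟩
  haveI : IsNoetherianRing Γ(X, U) := IsLocallyNoetherian.component_noetherian ⟨U, hU⟩
  have hφ : φ₀.map (algebraMap Γ(X, U) (X.presheaf.stalk (ι y))) = φ := by
    ext i j
    exact hφ₀' (i, j)
  have hkS : RingHom.ker (ι.stalkMap y).hom =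
      (RingHom.ker (ι.app U).hom).map (algebraMap Γ(X, U) (X.presheaf.stalk (ι y))) :=
    ker_stalkMap_eq ι y hU hz (hU.preimage ι) (app_surjective ι hU)
  have hHB : IsHB (φ₀.map (algebraMap Γ(X, U) (X.presheaf.stalk (ι y))))
      ((RingHom.ker (ι.app U).hom).map (algebraMap Γ(X, U) (X.presheaf.stalk (ι y)))) := by
    rw [hφ, ← hkS]
    exact ⟨h1, h2, h3⟩
  obtain ⟨g, hg, H⟩ := isHB_spread (hU.primeIdealOf ⟨ι y, hz⟩).asIdeal
    (X.presheaf.stalk (ι y)) φ₀ (RingHom.ker (ι.app U).hom) hHB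
  haveI locG := hU.isLocalization_basicOpen g
  have hzG : ι y ∈ X.basicOpen g := by
    rw [Scheme.mem_basicOpen X g (ι y) hz]
    exact (IsLocalization.AtPrime.isUnit_to_map_iff (X.presheaf.stalk (ι y))
      (hU.primeIdealOf ⟨ι y, hz⟩).asIdeal g).mpr hg
  refine ⟨X.affineBasicOpen (U := ⟨U, hU⟩) g, hzG, r,
    φ₀.map (algebraMap Γ(X, U) Γ(X, X.basicOpen g)), ?_⟩
  have hfin := H g dvd_rfl Γ(X, X.basicOpen g)
  have hmap := ι.ker.map_ideal_basicOpen ⟨U, hU⟩ g
  rw [ι.ker_apply ⟨U, hU⟩] at hmap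
  have e : ι.ker.ideal (X.affineBasicOpen (U := ⟨U, hU⟩) g) =
      (RingHom.ker (ι.app U).hom).map (algebraMap Γ(X, U) Γ(X, X.basicOpen g)) := hmap.symm
  rw [e]
  exact hfin

end Groth.Agent.Helper7.HBSp
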