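import Mathlib
import Groth.Prelude.Def_W4c2invhilbsl2HJ

set_option autoImplicit false
set_option linter.unusedSectionVars false

namespace Groth.Agent.Helper7.HJ

open W4c2invhilbsl2 HJFrac

/-- the general Hirzebruch–Jung recurrence `u_{i+2} = c_i u_{i+1} - u_i` -/
def seq (c : List ℤ) (u₀ u₁ : ℤ) : ℕ → ℤ
  | 0 => u₀
  | 1 => u₁
  | i + 2 => c.getD i 0 * seq c u₀ u₁ (i + 1) - seq c u₀ u₁ i

@[simp] lemma seq_zero (c : List ℤ) (u₀ u₁ : ℤ) : seq c u₀ u₁ 0 = u₀ := rfl
@[simp] lemma seq_one (c : List ℤ) (u₀ u₁ : ℤ) : seq c u₀ u₁ 1 = u₁ := rfl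
lemma seq_succ_succ (c : List ℤ) (u₀ u₁ : ℤ) (i : ℕ) :
    seq c u₀ u₁ (i + 2) = c.getD i 0 * seq c u₀ u₁ (i + 1) - seq c u₀ u₁ i := rfl

/-- two-step induction principle -/
lemma two_step {P : ℕ → Prop} (h0 : P 0) (h1 : P 1) (h : ∀ i, P i → P (i + 1) → P (i + 2)) :
    ∀ i, P i := by
  intro i
  have : P i ∧ P (i + 1) := by
    induction i with
    | zero => exact ⟨h0, h1⟩
    | succ n ih => exact ⟨ih.2, h n ih.1 ih.2⟩
  exact this.1

lemma seq_shift (a : ℤ) (l : List ℤ) (u₀ u₁ : ℤ) (j : ℕ) :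
    seq (a :: l) u₀ u₁ (j + 1) = seq l u₁ (a * u₁ - u₀) j := by
  induction j using Nat.strong_induction_on with
  | _ j ih =>
    match j with
    | 0 => rfl
    | 1 => simp [seq_succ_succ]
    | j + 2 =>
      rw [seq_succ_succ, ih (j + 1) (by omega), ih j (by omega), seq_succ_succ]
      simp

lemma hjP_eq_seq (c : List ℤ) (i : ℕ) : hjP c i = seq c 0 1 i := by
  induction i using Nat.strong_induction_on with
  | _ i ih =>
    match i with
    | 0 => rfl
    | 1 => rfl
    | i + 2 =>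
      rw [seq_succ_succ, ← ih (i + 1) (by omega), ← ih i (by omega)]
      rfl

lemma hjQ_eq_seq (c : List ℤ) (i : ℕ) : hjQ c i = seq c (-1) 0 i := by
  induction i using Nat.strong_induction_on with
  | _ i ih =>
    match i with
    | 0 => rfl
    | 1 => rfl
    | i + 2 =>
      rw [seq_succ_succ, ← ih (i + 1) (by omega), ← ih i (by omega)]
      rfl

/-- linearity of the recurrence -/
lemma seq_lin (c : List ℤ) (t b : ℤ) (i : ℕ) :
    seq c b t i = t * hjP c i - b * hjQ c i := by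
  induction i using Nat.strong_induction_on with
  | _ i ih =>
    match i with
    | 0 => simp [hjP, hjQ]
    | 1 => simp [hjP, hjQ]
    | i + 2 =>
      rw [seq_succ_succ, ih (i + 1) (by omega), ih i (by omega)]
      simp only [hjP, hjQ]
      ring

/-- the determinant `P_{i} Q_{i+1} - P_{i+1} Q_i = 1` -/
lemma det_PQ (c : List ℤ) (i : ℕ) :
    hjP c i * hjQ c (i + 1) - hjP c (i + 1) * hjQ c i = 1 := by
  induction i with
  | zero => simp [hjP, hjQ]
  | succ n ih =>
    have hP : hjP c (n + 2) = c.getD n 0 * hjP c (n + 1) - hjP c n := rfl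
    have hQ : hjQ c (n + 2) = c.getD n 0 * hjQ c (n + 1) - hjQ c n := rfl
    rw [hP, hQ]
    linarith [ih]

lemma hjVal_gt_one (l : List ℤ) (hl : ∀ x ∈ l, (2 : ℤ) ≤ x) (hne : l ≠ []) : 1 < hjVal l := by
  induction l with
  | nil => exact absurd rfl hne
  | cons a l ih =>
    have ha : (2 : ℚ) ≤ a := by exact_mod_cast hl a (List.mem_cons_self)
    by_cases hl' : l = []
    · subst hl'
      simp only [hjVal, inv_zero, sub_zero]
      linarith
    · have h1 := ih (fun x hx => hl x (List.mem_cons_of_mem _ hx)) hl'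
      simp only [hjVal]
      have h2 : (hjVal l)⁻¹ < 1 := inv_lt_one_of_one_lt₀ h1
      linarith

/-- the main properties of the remainder sequence -/
lemma seq_props (c : List ℤ) (hc : ∀ x ∈ c, (2 : ℤ) ≤ x) (hne : c ≠ []) (u₀ u₁ : ℤ)
    (hu₁ : 0 < u₁) (hval : hjVal c = (u₀ : ℚ) / (u₁ : ℚ)) :
    (∀ j, j ≤ c.length → seq c u₀ u₁ (j + 1) < seq c u₀ u₁ j) ∧
    (∀ j, j ≤ c.length → 0 < seq c u₀ u₁ j) ∧ seq c u₀ u₁ (c.length + 1) = 0 := by
  induction c generalizing u₀ u₁ with
  | nil => exact absurd rfl hne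
  | cons a l ih =>
    have ha : (2 : ℤ) ≤ a := hc a (List.mem_cons_self)
    have haq : (2 : ℚ) ≤ a := by exact_mod_cast ha
    have hu₁q : (0 : ℚ) < u₁ := by exact_mod_cast hu₁
    simp only [hjVal] at hval
    -- u₂ = a u₁ - u₀, and (hjVal l)⁻¹ = u₂ / u₁
    have hinv : (hjVal l)⁻¹ = ((a * u₁ - u₀ : ℤ) : ℚ) / (u₁ : ℚ) := by
      have h' : (hjVal l)⁻¹ = (a : ℚ) - (u₀ : ℚ) / (u₁ : ℚ) := by linarith
      rw [h']
      push_cast
      field_simp
    by_cases hl' : l = []
    · subst hl'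
      simp only [hjVal, inv_zero] at hinv
      have hu2 : a * u₁ - u₀ = 0 := by
        have : ((a * u₁ - u₀ : ℤ) : ℚ) = 0 := by
          rcases div_eq_zero_iff.1 hinv.symm with h | h
          · exact h
          · exact absurd h (ne_of_gt hu₁q)
        exact_mod_cast this
      have hu0 : u₀ = a * u₁ := by linarith
      refine ⟨?_, ?_, ?_⟩
      · intro j hj
        simp only [List.length_cons, List.length_nil, zero_add] at hj
        match j, hj with
        | 0, _ =>
          show u₁ < u₀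
          nlinarith
        | 1, _ =>
          show a * u₁ - u₀ < u₁
          linarith
      · intro j hj
        simp only [List.length_cons, List.length_nil, zero_add] at hj
        match j, hj with
        | 0, _ =>
          show 0 < u₀
          nlinarith
        | 1, _ => exact hu₁
      · show a * u₁ - u₀ = 0
        exact hu2
    · have hgt := hjVal_gt_one l (fun x hx => hc x (List.mem_cons_of_mem _ hx)) hl'
      have hpos : (0 : ℚ) < hjVal l := by linarith
      have hinv_pos : 0 < (hjVal l)⁻¹ := inv_pos.2 hpos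
      have hinv_lt : (hjVal l)⁻¹ < 1 := inv_lt_one_of_one_lt₀ hgt
      have hu2q_pos : (0 : ℚ) < ((a * u₁ - u₀ : ℤ) : ℚ) := by
        rw [hinv] at hinv_pos
        exact (div_pos_iff_of_pos_right hu₁q).1 hinv_pos
      have hu2_pos : 0 < a * u₁ - u₀ := by exact_mod_cast hu2q_pos
      have hu2_lt : a * u₁ - u₀ < u₁ := by
        rw [hinv, div_lt_one hu₁q] at hinv_lt
        exact_mod_cast hinv_lt
      have hval' : hjVal l = (u₁ : ℚ) / ((a * u₁ - u₀ : ℤ) : ℚ) := by
        rw [← inv_inv (hjVal l), hinv, inv_div]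
      obtain ⟨h1, h2, h3⟩ := ih (fun x hx => hc x (List.mem_cons_of_mem _ hx)) hl' u₁
        (a * u₁ - u₀) hu2_pos hval'
      have hu0 : u₁ < u₀ := by nlinarith
      refine ⟨?_, ?_, ?_⟩
      · intro j hj
        simp only [List.length_cons] at hj
        match j with
        | 0 => simpa using hu0
        | j + 1 =>
          rw [seq_shift, seq_shift]
          exact h1 j (by omega)
      · intro j hj
        simp only [List.length_cons] at hj
        match j with
        | 0 => simp only [seq_zero]; linarith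
        | j + 1 =>
          rw [seq_shift]
          exact h2 j (by omega)
      · simp only [List.length_cons]
        rw [seq_shift]
        exact h3

/-- `P` is strictly increasing on `0..r+1` and nonnegative -/
lemma hjP_mono' (c : List ℤ) (hc : ∀ x ∈ c, (2 : ℤ) ≤ x) :
    ∀ i, i ≤ c.length → 0 ≤ hjP c i ∧ 1 ≤ hjP c (i + 1) - hjP c i := by
  intro i
  induction i with
  | zero => intro _; simp [hjP]
  | succ n ih =>
    intro hn
    obtain ⟨h0, h⟩ := ih (by omega)
    have hP : hjP c (n + 2) = c.getD n 0 * hjP c (n + 1) - hjP c n := rfl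
    have hcn : (2 : ℤ) ≤ c.getD n 0 := by
      have hlt : n < c.length := by omega
      rw [List.getD_eq_getElem _ _ hlt]
      exact hc _ (List.getElem_mem hlt)
    have hpos : 0 ≤ hjP c (n + 1) := by linarith
    refine ⟨hpos, ?_⟩
    rw [hP]
    nlinarith

lemma hjP_mono (c : List ℤ) (hc : ∀ x ∈ c, (2 : ℤ) ≤ x) :
    ∀ i, i ≤ c.length → 1 ≤ hjP c (i + 1) - hjP c i :=
  fun i hi => (hjP_mono' c hc i hi).2

lemma hjP_pos (c : List ℤ) (hc : ∀ x ∈ c, (2 : ℤ) ≤ x) :
    ∀ i, i ≤ c.length → (i : ℤ) + 1 ≤ hjP c (i + 1) := by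
  intro i
  induction i with
  | zero => intro _; simp [hjP]
  | succ n ih =>
    intro hn
    have h := ih (by omega)
    have h2 := hjP_mono c hc (n + 1) hn
    push_cast
    linarith


lemma claimA_core (P' P t' t'' α β x ρ : ℤ) (hP' : 1 ≤ P') (hPP : P' < P) (ht'' : 1 ≤ t'')
    (htt : t'' < t') (hx : x = α * P' + β * P) (hρ : ρ = α * t' + β * t'') (hx0 : 0 < x)
    (hxP : x < P) (hρ0 : 0 ≤ ρ) : t' ≤ ρ := by
  rcases lt_trichotomy α 0 with hα | hα | hα
  · -- α ≤ -1 : contradiction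
    exfalso
    have hβ1 : 1 ≤ β := by
      by_contra h
      push Not at h
      have : β ≤ 0 := by omega
      nlinarith
    -- ρ ≥ 0 gives β > -α
    have hβ2 : -α + 1 ≤ β := by
      by_contra h
      push Not at h
      have h' : β ≤ -α := by omega
      -- ρ = α t' + β t'' ≤ α t' + (-α) t'' = α (t' - t'') < 0
      nlinarith
    nlinarith
  · subst hα
    exfalso
    simp only [zero_mul, zero_add] at hx
    rcases le_or_gt β 0 with h | h
    · nlinarith
    · have : 1 ≤ β := by omega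
      nlinarith
  · have hα1 : 1 ≤ α := by omega
    rcases lt_trichotomy β 0 with hβ | hβ | hβ
    · have hβ1 : β ≤ -1 := by omega
      have hαβ : -β + 1 ≤ α := by
        by_contra h
        push Not at h
        have h' : α ≤ -β := by omega
        nlinarith
      nlinarith
    · subst hβ
      simp only [zero_mul, add_zero] at hρ
      nlinarith
    · exfalso
      have hβ1 : 1 ≤ β := by omega
      nlinarith

section Lattice

variable (c : List ℤ) (hc : ∀ x ∈ c, (2 : ℤ) ≤ x) (b t : ℤ) (ht : 0 < t)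
  (hval : hjVal c = (b : ℚ) / (t : ℚ))

include hc ht hval in
lemma c_ne_nil (hb : 0 < b) : c ≠ [] := by
  rintro rfl
  simp only [hjVal] at hval
  have hbq : (0 : ℚ) < b := by exact_mod_cast hb
  have htq : (0 : ℚ) < t := by exact_mod_cast ht
  have := div_pos hbq htq
  linarith

include hc ht hval in
lemma seq_lt_b (hb : 0 < b) (i : ℕ) (hi1 : 1 ≤ i) (hi : i ≤ c.length + 1) :
    seq c b t i < b := by
  obtain ⟨h1, -, -⟩ := seq_props c hc (c_ne_nil c hc b t ht hval hb) b t ht hval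
  have : ∀ j, j ≤ c.length → seq c b t (j + 1) < b := by
    intro j
    induction j with
    | zero => intro _; simpa using h1 0 (by omega)
    | succ n ih =>
      intro hn
      exact lt_trans (h1 (n + 1) hn) (ih (by omega))
  obtain ⟨j, rfl⟩ : ∃ j, i = j + 1 := ⟨i - 1, by omega⟩
  exact this j (by omega)

include hc ht hval in
/-- Claim A: lower bound for the residues -/
lemma claimA (hb : 0 < b) (j : ℕ) (hj1 : 1 ≤ j) (hj : j + 1 ≤ c.length) (x : ℤ) (hx0 : 0 < x)
    (hx : x < hjP c (j + 1)) : seq c b t j ≤ (t * x) % b := by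
  obtain ⟨h1, h2, -⟩ := seq_props c hc (c_ne_nil c hc b t ht hval hb) b t ht hval
  have hdet := det_PQ c j
  have hρ0 : 0 ≤ (t * x) % b := Int.emod_nonneg _ (ne_of_gt hb)
  have hdiv := Int.mul_ediv_add_emod (t * x) b
  set k := (t * x) / b with hk
  set ρ := (t * x) % b with hρ
  have hPj : 1 ≤ hjP c j := by
    obtain ⟨j', rfl⟩ : ∃ j', j = j' + 1 := ⟨j - 1, by omega⟩
    have := hjP_pos c hc j' (by omega)
    have h0 : (0 : ℤ) ≤ j' := Int.natCast_nonneg j'
    linarith
  have hPP : hjP c j < hjP c (j + 1) := by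
    have := hjP_mono c hc j (by omega)
    linarith
  refine claimA_core (hjP c j) (hjP c (j + 1)) (seq c b t j) (seq c b t (j + 1))
    (x * hjQ c (j + 1) - k * hjP c (j + 1)) (k * hjP c j - x * hjQ c j) x ρ hPj hPP
    (h2 (j + 1) hj) (h1 j (by omega)) ?_ ?_ hx0 hx hρ0
  · linear_combination (-x) * hdet
  · rw [seq_lin, seq_lin]
    linear_combination hdiv - (t * x - b * k) * hdet

include hc ht hval in
/-- Claim B: upper bound for the residues -/
lemma claimB (hb : 0 < b) (j : ℕ) (hj1 : 1 ≤ j) (hj : j + 1 ≤ c.length) (x : ℤ) (hx0 : 0 < x)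
    (hx : x < hjP c (j + 1)) : (t * x) % b ≤ b + seq c b t (j + 1) - seq c b t j := by
  obtain ⟨h1, h2, -⟩ := seq_props c hc (c_ne_nil c hc b t ht hval hb) b t ht hval
  have hA := claimA c hc b t ht hval hb j hj1 hj x hx0 hx
  have hA' := claimA c hc b t ht hval hb j hj1 hj (hjP c (j + 1) - x) (by linarith) (by linarith)
  have hρb : (t * x) % b < b := Int.emod_lt_of_pos _ hb
  have hdiv := Int.mul_ediv_add_emod (t * x) b
  set k := (t * x) / b with hk
  set ρ := (t * x) % b with hρ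
  have hlt := h1 j (by omega)
  have hpos := h2 (j + 1) hj
  have hT : seq c b t (j + 1) = t * hjP c (j + 1) - b * hjQ c (j + 1) := seq_lin c t b (j + 1)
  have e : t * (hjP c (j + 1) - x) =
      (seq c b t (j + 1) - ρ + b) + b * (hjQ c (j + 1) - k - 1) := by
    linear_combination (-1 : ℤ) * hT + hdiv
  rw [e, Int.add_mul_emod_self_left, Int.emod_eq_of_lt (by linarith) (by linarith)] at hA'
  linarith

end Lattice

section Arith

variable (p q m : ℕ) (hp : 0 < p) (hpq : p < q) (hcop : Nat.Coprime p q) (hm : 0 < m)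
  (hnt : ¬ (q - p ∣ m))

include hpq hm in
lemma gcdK_pos : 0 < gcdK p q m := Nat.gcd_pos_of_pos_left _ hm

include hpq hm in
lemma bB_mul : gcdK p q m * bB p q m = q - p := by
  unfold bB gcdK
  exact Nat.mul_div_cancel' (Nat.gcd_dvd_right m (q - p))

include hpq hm in
lemma tT_mul : gcdK p q m * tT p q m = q - p - m * p % (q - p) := by
  unfold tT
  apply Nat.mul_div_cancel'
  have hd : gcdK p q m ∣ q - p := Nat.gcd_dvd_right m (q - p)
  have hβ : gcdK p q m ∣ m * p % (q - p) :=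
    (Nat.dvd_mod_iff hd).2 (Dvd.dvd.mul_right (Nat.gcd_dvd_left m (q - p)) p)
  exact Nat.dvd_sub hd hβ

include hpq hm in
lemma tT_pos : 0 < tT p q m := by
  have h := tT_mul p q m hpq hm
  have hd : 0 < q - p := Nat.sub_pos_of_lt hpq
  have hβ : m * p % (q - p) < q - p := Nat.mod_lt _ hd
  have : 0 < gcdK p q m * tT p q m := by rw [h]; omega
  exact Nat.pos_of_mul_pos_left this

include hpq hm in
lemma bB_pos : 0 < bB p q m := by
  have h := bB_mul p q m hpq hm
  have hd : 0 < q - p := Nat.sub_pos_of_lt hpq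
  have : 0 < gcdK p q m * bB p q m := by rw [h]; exact hd
  exact Nat.pos_of_mul_pos_left this

include hpq hm in
/-- `nᵢ = g (t Pᵢ - b Qᵢ)` -/
lemma nN_eq (c : List ℤ) (i : ℕ) :
    nN p q m c i = (gcdK p q m : ℤ) * seq c (bB p q m) (tT p q m) i := by
  rw [seq_lin]
  unfold nN eE lL
  have hd : 0 < q - p := Nat.sub_pos_of_lt hpq
  have h1 : ((gcdK p q m : ℤ)) * (bB p q m : ℤ) = (q : ℤ) - p := by
    have := bB_mul p q m hpq hm
    have h' : ((gcdK p q m * bB p q m : ℕ) : ℤ) = ((q - p : ℕ) : ℤ) := by rw [this]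
    rw [Nat.cast_sub hpq.le] at h'
    push_cast at h'
    exact h'
  have hβ : m * p % (q - p) < q - p := Nat.mod_lt _ hd
  have h2 : ((gcdK p q m : ℤ)) * (tT p q m : ℤ) =
      ((q : ℤ) - p) * ((alpha p q m : ℤ) + 1) - (m : ℤ) * p := by
    have := tT_mul p q m hpq hm
    have h' : ((gcdK p q m * tT p q m : ℕ) : ℤ) = ((q - p - m * p % (q - p) : ℕ) : ℤ) := by
      rw [this]
    rw [Nat.cast_sub hβ.le, Nat.cast_sub hpq.le] at h'
    push_cast at h'
    have hdiv := Nat.div_add_mod (m * p) (q - p)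
    have hdiv' : (((q - p) * (m * p / (q - p)) + m * p % (q - p) : ℕ) : ℤ) = ((m * p : ℕ) : ℤ) := by
      rw [hdiv]
    rw [Nat.cast_add, Nat.cast_mul, Nat.cast_sub hpq.le] at hdiv'
    push_cast at hdiv'
    unfold alpha
    rw [h']
    push_cast
    linarith
  push_cast
  have e1 : (gcdK p q m : ℤ) * ((tT p q m : ℤ) * hjP c i - (bB p q m : ℤ) * hjQ c i) =
      ((gcdK p q m : ℤ) * (tT p q m : ℤ)) * hjP c i -
        ((gcdK p q m : ℤ) * (bB p q m : ℤ)) * hjQ c i := by ring
  rw [e1, h1, h2]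
  ring

include hpq hm in
lemma hval_cast (c : List ℤ) (hc : IsHJDigits p q m c) :
    hjVal c = (((bB p q m : ℕ) : ℤ) : ℚ) / (((tT p q m : ℕ) : ℤ) : ℚ) := by
  rw [hc.2]; push_cast; rfl

include hpq hm in
lemma nN_div (c : List ℤ) (i : ℕ) :
    nN p q m c i / (gcdK p q m : ℤ) = seq c (bB p q m) (tT p q m) i := by
  rw [nN_eq p q m hpq hm]
  have hg : (gcdK p q m : ℤ) ≠ 0 := by
    have := gcdK_pos p q m hpq hm
    exact_mod_cast this.ne'
  exact Int.mul_ediv_cancel_left _ hg

include hpq hm in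
/-- S15734 -/
theorem S15734_main (c : List ℤ) (hc : IsHJDigits p q m c) :
    (∀ i : ℕ, 1 ≤ i → i ≤ c.length →
      Int.emod ((tT p q m : ℤ) * hjP c i) (bB p q m : ℤ) = nN p q m c i / (gcdK p q m : ℤ)) ∧
    (∀ i : ℕ, 1 < i → i ≤ c.length → ∀ x : ℤ, 0 < x → x < hjP c i →
      nN p q m c (i - 1) / (gcdK p q m : ℤ) ≤ Int.emod ((tT p q m : ℤ) * x) (bB p q m : ℤ) ∧
      Int.emod ((tT p q m : ℤ) * x) (bB p q m : ℤ) ≤
        (bB p q m : ℤ) + nN p q m c i / (gcdK p q m : ℤ) -
          nN p q m c (i - 1) / (gcdK p q m : ℤ)) := by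
  have hb : (0 : ℤ) < (bB p q m : ℤ) := by exact_mod_cast bB_pos p q m hpq hm
  have ht : (0 : ℤ) < (tT p q m : ℤ) := by exact_mod_cast tT_pos p q m hpq hm
  have hval := hval_cast p q m hpq hm c hc
  have hne := c_ne_nil c hc.1 _ _ ht hval hb
  obtain ⟨h1, h2, -⟩ := seq_props c hc.1 hne _ _ ht hval
  constructor
  · intro i hi1 hi
    rw [nN_div p q m hpq hm]
    have hT := seq_lin c (tT p q m : ℤ) (bB p q m : ℤ) i
    have e : (tT p q m : ℤ) * hjP c i =
        seq c (bB p q m) (tT p q m) i + (bB p q m : ℤ) * hjQ c i := by linarith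
    change ((tT p q m : ℤ) * hjP c i) % (bB p q m : ℤ) = _
    rw [e, Int.add_mul_emod_self_left]
    exact Int.emod_eq_of_lt (h2 i hi).le (seq_lt_b c hc.1 _ _ ht hval hb i hi1 (by omega))
  · intro i hi1 hi x hx0 hx
    obtain ⟨j, rfl⟩ : ∃ j, i = j + 1 := ⟨i - 1, by omega⟩
    rw [nN_div p q m hpq hm, nN_div p q m hpq hm]
    simp only [Nat.add_sub_cancel]
    exact ⟨claimA c hc.1 _ _ ht hval hb j (by omega) hi x hx0 hx,
      claimB c hc.1 _ _ ht hval hb j (by omega) hi x hx0 hx⟩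

include hpq hm in
/-- S15733 -/
theorem S15733_main (c : List ℤ) (hc : IsHJDigits p q m c) (i : ℕ) (hi : 1 < i)
    (hir : i ≤ c.length) (x : ℤ) (hx0 : 0 < x) (hx : x < hjP c i) :
    Int.emod ((p : ℤ) * m * x + nN p q m c i) ((q : ℤ) - p) =
      nN p q m c i + Int.emod ((p : ℤ) * m * x) ((q : ℤ) - p) := by
  have hb : (0 : ℤ) < (bB p q m : ℤ) := by exact_mod_cast bB_pos p q m hpq hm
  have ht : (0 : ℤ) < (tT p q m : ℤ) := by exact_mod_cast tT_pos p q m hpq hm
  have hg : (0 : ℤ) < (gcdK p q m : ℤ) := by exact_mod_cast gcdK_pos p q m hpq hm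
  have hval := hval_cast p q m hpq hm c hc
  have hne := c_ne_nil c hc.1 _ _ ht hval hb
  obtain ⟨h1, h2, -⟩ := seq_props c hc.1 hne _ _ ht hval
  obtain ⟨j, rfl⟩ : ∃ j, i = j + 1 := ⟨i - 1, by omega⟩
  have hA := claimA c hc.1 _ _ ht hval hb j (by omega) hir x hx0 hx
  have hlt := h1 j (by omega)
  have hpos := h2 (j + 1) hir
  have hρb : ((tT p q m : ℤ) * x) % (bB p q m : ℤ) < (bB p q m : ℤ) := Int.emod_lt_of_pos _ hb
  have hdiv := Int.mul_ediv_add_emod ((tT p q m : ℤ) * x) (bB p q m : ℤ)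
  set k := ((tT p q m : ℤ) * x) / (bB p q m : ℤ) with hk
  set ρ := ((tT p q m : ℤ) * x) % (bB p q m : ℤ) with hρ
  -- the arithmetic identities
  have hd : 0 < q - p := Nat.sub_pos_of_lt hpq
  have h1' : ((gcdK p q m : ℤ)) * (bB p q m : ℤ) = (q : ℤ) - p := by
    have := bB_mul p q m hpq hm
    have h' : ((gcdK p q m * bB p q m : ℕ) : ℤ) = ((q - p : ℕ) : ℤ) := by rw [this]
    rw [Nat.cast_sub hpq.le] at h'
    push_cast at h'
    exact h'
  have hβ : m * p % (q - p) < q - p := Nat.mod_lt _ hd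
  have h2' : ((gcdK p q m : ℤ)) * (tT p q m : ℤ) =
      ((q : ℤ) - p) * ((alpha p q m : ℤ) + 1) - (m : ℤ) * p := by
    have := tT_mul p q m hpq hm
    have h' : ((gcdK p q m * tT p q m : ℕ) : ℤ) = ((q - p - m * p % (q - p) : ℕ) : ℤ) := by
      rw [this]
    rw [Nat.cast_sub hβ.le, Nat.cast_sub hpq.le] at h'
    push_cast at h'
    have hdiv := Nat.div_add_mod (m * p) (q - p)
    have hdiv' : (((q - p) * (m * p / (q - p)) + m * p % (q - p) : ℕ) : ℤ) = ((m * p : ℕ) : ℤ) := by
      rw [hdiv]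
    rw [Nat.cast_add, Nat.cast_mul, Nat.cast_sub hpq.le] at hdiv'
    push_cast at hdiv'
    unfold alpha
    rw [h']
    push_cast
    linarith
  -- p m x mod d
  have hmod : ((p : ℤ) * m * x) % ((q : ℤ) - p) =
      (gcdK p q m : ℤ) * ((bB p q m : ℤ) - ρ) := by
    have e : (p : ℤ) * m * x = (gcdK p q m : ℤ) * ((bB p q m : ℤ) - ρ) +
        ((q : ℤ) - p) * (((alpha p q m : ℤ) + 1) * x - k - 1) := by
      have e2 : (gcdK p q m : ℤ) * ((tT p q m : ℤ) * x) =
          (gcdK p q m : ℤ) * ((bB p q m : ℤ) * k + ρ) := by rw [hdiv]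
      linear_combination x * h2' - e2 - (k + 1) * h1'
    rw [e, Int.add_mul_emod_self_left]
    apply Int.emod_eq_of_lt
    · apply mul_nonneg hg.le; linarith
    · rw [← h1']
      apply mul_lt_mul_of_pos_left _ hg
      linarith
  have hn : nN p q m c (j + 1) =
      (gcdK p q m : ℤ) * seq c (bB p q m) (tT p q m) (j + 1) := nN_eq p q m hpq hm c (j + 1)
  change ((p : ℤ) * m * x + nN p q m c (j + 1)) % ((q : ℤ) - p) =
    nN p q m c (j + 1) + ((p : ℤ) * m * x) % ((q : ℤ) - p)
  rw [← Int.emod_add_emod, hmod, hn]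
  rw [add_comm]
  apply Int.emod_eq_of_lt
  · have : 0 ≤ (gcdK p q m : ℤ) * ((bB p q m : ℤ) - ρ) := by
      apply mul_nonneg hg.le; linarith
    have : 0 ≤ (gcdK p q m : ℤ) * seq c (bB p q m) (tT p q m) (j + 1) :=
      mul_nonneg hg.le hpos.le
    linarith
  · rw [← h1', ← mul_add]
    apply mul_lt_mul_of_pos_left _ hg
    linarith

end Arith

end Groth.Agent.Helper7.HJ
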