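import Mathlib
import Groth.Agent.Helper7.HJ

set_option autoImplicit false
set_option linter.unusedSectionVars false

namespace Groth.Agent.Helper7.HJ

open W4c2invhilbsl2 HJFrac

/-- the last convergent of a Hirzebruch–Jung expansion of a reduced fraction -/
lemma hjPQ_last (c : List ℤ) (hc : ∀ x ∈ c, (2 : ℤ) ≤ x) (n r : ℤ) (hr : 0 < r) (hn : 0 < n)
    (hcop : IsCoprime n r) (hval : hjVal c = (n : ℚ) / (r : ℚ)) :
    hjP c (c.length + 1) = n ∧ hjQ c (c.length + 1) = r := by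
  have hne := c_ne_nil c hc n r hr hval hn
  obtain ⟨-, -, h3⟩ := seq_props c hc hne n r hr hval
  rw [seq_lin] at h3
  have hdet := det_PQ c c.length
  have hPpos : 0 < hjP c (c.length + 1) := by
    have := hjP_pos c hc c.length le_rfl
    have h0 : (0 : ℤ) ≤ c.length := Int.natCast_nonneg _
    linarith
  have hcopPQ : IsCoprime (hjP c (c.length + 1)) (hjQ c (c.length + 1)) :=
    ⟨-hjQ c c.length, hjP c c.length, by linarith⟩
  have h4 : r * hjP c (c.length + 1) = n * hjQ c (c.length + 1) := by linarith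
  have hd1 : n ∣ hjP c (c.length + 1) := by
    have : n ∣ r * hjP c (c.length + 1) := ⟨_, h4⟩
    exact hcop.dvd_of_dvd_mul_left this
  have hd2 : hjP c (c.length + 1) ∣ n := by
    have : hjP c (c.length + 1) ∣ n * hjQ c (c.length + 1) := ⟨r, by linarith⟩
    exact hcopPQ.dvd_of_dvd_mul_right this
  have hP : hjP c (c.length + 1) = n := Int.dvd_antisymm hPpos.le hn.le hd2 hd1
  refine ⟨hP, ?_⟩
  rw [hP] at h4
  have : n * (hjQ c (c.length + 1) - r) = 0 := by linarith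
  rcases mul_eq_zero.1 this with h | h
  · exact absurd h hn.ne'
  · linarith

section Mult

variable (l : ℕ) (hl : 1 ≤ l) (b : ℕ → ℤ)
    (hb : ∀ i, 1 ≤ i → i ≤ l → 2 ≤ b i)
    (n r : ℕ) (hr : 0 < r) (hrn : r < n) (hcop : Nat.Coprime r n)
    (hhj : (n : ℚ) / r = HJFrac.hjVal ((List.range l).map fun i => b (i + 1)))
    (m₁ m₂ : ℕ)
    (μ : ℕ → ℤ) (hμ0 : μ 0 = m₂) (hμl : μ (l + 1) = m₁)
    (hsys : ∀ i, 1 ≤ i → i ≤ l → b i * μ i = μ (i - 1) + μ (i + 1))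

/-- the digit list -/
abbrev cl : List ℤ := (List.range l).map fun i => b (i + 1)

lemma cl_length : (cl l b).length = l := by simp [cl]

lemma cl_getD (i : ℕ) (hi : i < l) : (cl l b).getD i 0 = b (i + 1) := by
  simp [cl, List.getD_eq_getElem?_getD, hi]

include hb in
lemma cl_ge : ∀ x ∈ cl l b, (2 : ℤ) ≤ x := by
  intro x hx
  simp only [cl, List.mem_map, List.mem_range] at hx
  obtain ⟨i, hi, rfl⟩ := hx
  exact hb (i + 1) (by omega) (by omega)

include hsys in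
lemma mu_eq_seq : ∀ i, i ≤ l + 1 → μ i = seq (cl l b) (μ 0) (μ 1) i := by
  intro i
  induction i using Nat.strong_induction_on with
  | _ i ih =>
    intro hi
    match i with
    | 0 => rfl
    | 1 => rfl
    | i + 2 =>
      rw [seq_succ_succ, ← ih (i + 1) (by omega) (by omega), ← ih i (by omega) (by omega),
        cl_getD l b i (by omega)]
      have := hsys (i + 1) (by omega) (by omega)
      simp only [Nat.add_sub_cancel] at this
      linarith

include hb hr hrn hcop hhj in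
lemma last_PQ : hjP (cl l b) (l + 1) = n ∧ hjQ (cl l b) (l + 1) = r := by
  have hn : 0 < n := lt_trans hr hrn
  have := hjPQ_last (cl l b) (cl_ge l b hb) (n : ℤ) (r : ℤ) (by exact_mod_cast hr)
    (by exact_mod_cast hn) (by
      have := Nat.isCoprime_iff_coprime.2 hcop.symm
      exact this) (by rw [← hhj]; push_cast; rfl)
  rwa [cl_length] at this

include hb hr hrn hcop hhj hμ0 hμl hsys in
/-- the basic relation `μ₁ n = m₁ + r m₂` -/
lemma mu_one_rel : μ 1 * n = m₁ + r * m₂ := by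
  obtain ⟨hP, hQ⟩ := last_PQ l b hb n r hr hrn hcop hhj
  have h := mu_eq_seq l b μ hsys (l + 1) le_rfl
  rw [seq_lin, hP, hQ, hμl, hμ0] at h
  linarith

include hb hr hrn hcop hhj hμ0 hμl hsys in
/-- S14799 -/
theorem gcd_dvd_mu (h₁ : Nat.Coprime m₁ n) :
    ∀ i, i ≤ l + 1 → ((Nat.gcd m₁ m₂ : ℕ) : ℤ) ∣ μ i := by
  have hrel := mu_one_rel l b hb n r hr hrn hcop hhj m₁ m₂ μ hμ0 hμl hsys
  have hg1 : ((Nat.gcd m₁ m₂ : ℕ) : ℤ) ∣ (m₁ : ℤ) := by
    exact_mod_cast Nat.gcd_dvd_left m₁ m₂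
  have hg2 : ((Nat.gcd m₁ m₂ : ℕ) : ℤ) ∣ (m₂ : ℤ) := by
    exact_mod_cast Nat.gcd_dvd_right m₁ m₂
  have hgn : IsCoprime ((Nat.gcd m₁ m₂ : ℕ) : ℤ) (n : ℤ) := by
    apply Nat.isCoprime_iff_coprime.2
    exact Nat.Coprime.coprime_dvd_left (Nat.gcd_dvd_left m₁ m₂) h₁
  have hμ1 : ((Nat.gcd m₁ m₂ : ℕ) : ℤ) ∣ μ 1 := by
    have : ((Nat.gcd m₁ m₂ : ℕ) : ℤ) ∣ μ 1 * n := by
      rw [hrel]
      exact dvd_add hg1 (Dvd.dvd.mul_left hg2 _)
    exact hgn.dvd_of_dvd_mul_right this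
  intro i hi
  rw [mu_eq_seq l b μ hsys i hi, seq_lin, hμ0]
  exact dvd_sub (Dvd.dvd.mul_right hμ1 _) (Dvd.dvd.mul_right hg2 _)

include hb hr hrn hcop hhj hμ0 hμl hsys in
/-- S14798 -/
theorem sum_inv_mu (hm₂ : 0 < m₂) (hμpos : ∀ i, i ≤ l + 1 → 0 < μ i) :
    (n : ℚ) / ((m₁ : ℚ) * m₂) =
      ∑ i ∈ Finset.range (l + 1), 1 / ((μ i : ℚ) * (μ (i + 1) : ℚ)) := by
  obtain ⟨hP, hQ⟩ := last_PQ l b hb n r hr hrn hcop hhj
  have hW : ∀ i, i ≤ l → hjP (cl l b) (i + 1) * μ i - hjP (cl l b) i * μ (i + 1) = m₂ := by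
    intro i hi
    rw [mu_eq_seq l b μ hsys i (by omega), mu_eq_seq l b μ hsys (i + 1) (by omega), seq_lin,
      seq_lin, hμ0]
    have := det_PQ (cl l b) i
    linear_combination (m₂ : ℤ) * this
  have hm₂q : (m₂ : ℚ) ≠ 0 := by exact_mod_cast hm₂.ne'
  have hterm : ∀ i ∈ Finset.range (l + 1), 1 / ((μ i : ℚ) * (μ (i + 1) : ℚ)) =
      (1 / (m₂ : ℚ)) * ((hjP (cl l b) (i + 1) : ℚ) / (μ (i + 1) : ℚ) -
        (hjP (cl l b) i : ℚ) / (μ i : ℚ)) := by
    intro i hi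
    have hi' : i ≤ l := by
      have := Finset.mem_range.1 hi
      omega
    have h1 : (μ i : ℚ) ≠ 0 := by exact_mod_cast (hμpos i (by omega)).ne'
    have h2 : (μ (i + 1) : ℚ) ≠ 0 := by exact_mod_cast (hμpos (i + 1) (by omega)).ne'
    have hWq : (hjP (cl l b) (i + 1) : ℚ) * (μ i : ℚ) - (hjP (cl l b) i : ℚ) * (μ (i + 1) : ℚ) =
        (m₂ : ℚ) := by exact_mod_cast hW i hi'
    field_simp
    linear_combination (-1 : ℚ) * hWq
  rw [Finset.sum_congr rfl hterm, ← Finset.mul_sum,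
    Finset.sum_range_sub (fun i => (hjP (cl l b) i : ℚ) / (μ i : ℚ))]
  rw [hP, hμl]
  simp only [hjP, Int.cast_zero, zero_div, sub_zero]
  push_cast
  field_simp

end Mult

end Groth.Agent.Helper7.HJ
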