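import Mathlib

set_option autoImplicit false
set_option linter.unusedSectionVars false
set_option linter.unusedVariables false

namespace Groth.Agent.Helper7.HM

open Module

section General

variable {K : Type*} [Field K] {H : Type*} [AddCommGroup H] [Module K H] [FiniteDimensional K H]

lemma finrank_sup_eq_sum {ι : Type*} [DecidableEq ι] (Hs : ι → Submodule K H) (S : Finset ι)
    (hS : S.SupIndep Hs) : finrank K ↥(S.sup Hs) = ∑ i ∈ S, finrank K (Hs i) := by
  induction S using Finset.induction_on with
  | empty => simp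
  | insert i S hi ih =>
    rw [Finset.sup_insert, Finset.sum_insert hi]
    have hd : Disjoint (Hs i) (S.sup Hs) :=
      hS (Finset.subset_insert i S) (Finset.mem_insert_self i S) hi
    have h1 := Submodule.finrank_sup_add_finrank_inf_eq (Hs i) (S.sup Hs)
    rw [hd.eq_bot, finrank_bot, add_zero] at h1
    rw [h1, ih (hS.subset (Finset.subset_insert i S))]

/-- the clamp / layer cake formula -/
lemma layer_cake (M : ℕ) (m : ℤ) :
    (∑ μ ∈ Finset.range M, ((if ((μ : ℤ) + 1) ≤ m then (1 : ℤ) else 0) -
      (if m ≤ -((μ : ℤ) + 1) then (1 : ℤ) else 0))) = max (min m M) (-(M : ℤ)) := by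
  induction M with
  | zero => simp
  | succ M ih =>
    rw [Finset.sum_range_succ, ih]
    push_cast
    split_ifs <;> omega

lemma layer_cake' (M : ℕ) (m : ℤ) (hm : m.natAbs ≤ M) :
    (∑ μ ∈ Finset.range M, ((if ((μ : ℤ) + 1) ≤ m then (1 : ℤ) else 0) -
      (if m ≤ -((μ : ℤ) + 1) then (1 : ℤ) else 0))) = m := by
  rw [layer_cake]
  omega

end General

end Groth.Agent.Helper7.HM
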