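import Mathlib
import Groth.Agent.Helper7.HM1

set_option autoImplicit false
set_option linter.unusedSectionVars false
set_option linter.unusedVariables false

namespace Groth.Agent.Helper7.HM

open Module

variable {K : Type*} [Field K] {H W : Type*} [AddCommGroup H] [Module K H] [FiniteDimensional K H]
  [AddCommGroup W] [Module K W]

/-- orthogonal of a subspace -/
def perp (q : H →ₗ[K] H →ₗ[K] W) (V : Submodule K H) : Submodule K H :=
  ⨅ (y : H) (_ : y ∈ V), LinearMap.ker (q.flip y)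

lemma mem_perp (q : H →ₗ[K] H →ₗ[K] W) (V : Submodule K H) (x : H) :
    x ∈ perp q V ↔ ∀ y ∈ V, q x y = 0 := by
  simp [perp, Submodule.mem_iInf]

variable {ι : Type*} [Fintype ι] [DecidableEq ι]

/-- the relation "`q` does not vanish on `H_i × H_j`" -/
def rel (q : H →ₗ[K] H →ₗ[K] W) (Hs : ι → Submodule K H) (i j : ι) : Prop :=
  ∃ x ∈ Hs i, ∃ y ∈ Hs j, q x y ≠ 0

lemma vanish_on_sups (q : H →ₗ[K] H →ₗ[K] W) (Hs : ι → Submodule K H) (S S' : Finset ι)
    (h : ∀ i ∈ S, ∀ j ∈ S', ¬ rel q Hs i j) :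
    ∀ x ∈ S.sup Hs, ∀ y ∈ S'.sup Hs, q x y = 0 := by
  have step1 : ∀ i ∈ S, ∀ x ∈ Hs i, ∀ y ∈ S'.sup Hs, q x y = 0 := by
    intro i hi x hx
    have : S'.sup Hs ≤ LinearMap.ker (q x) := by
      apply Finset.sup_le
      intro j hj y hy
      rw [LinearMap.mem_ker]
      by_contra hne
      exact h i hi j hj ⟨x, hx, y, hy, hne⟩
    intro y hy
    exact LinearMap.mem_ker.mp (this hy)
  intro x hx y hy
  have : S.sup Hs ≤ LinearMap.ker (q.flip y) := by
    apply Finset.sup_le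
    intro i hi x hx
    rw [LinearMap.mem_ker, LinearMap.flip_apply]
    exact step1 i hi x hx y hy
  have := LinearMap.mem_ker.mp (this hx)
  rwa [LinearMap.flip_apply] at this

section Count

variable (Hs : ι → Submodule K H) (m : ι → ℤ)

/-- number of weights `≥ μ + 1` counted with multiplicity -/
noncomputable def Pp (μ : ℕ) : ℤ :=
  ∑ i ∈ Finset.univ.filter (fun i => ((μ : ℤ) + 1) ≤ m i), (finrank K (Hs i) : ℤ)

/-- number of weights `≤ -(μ + 1)` counted with multiplicity -/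
noncomputable def Nm (μ : ℕ) : ℤ :=
  ∑ i ∈ Finset.univ.filter (fun i => m i ≤ -((μ : ℤ) + 1)), (finrank K (Hs i) : ℤ)

lemma Pp_nonneg (μ : ℕ) : 0 ≤ Pp Hs m μ :=
  Finset.sum_nonneg fun _ _ => Int.natCast_nonneg _

lemma Nm_nonneg (μ : ℕ) : 0 ≤ Nm Hs m μ :=
  Finset.sum_nonneg fun _ _ => Int.natCast_nonneg _

lemma Pp_antitone (μ : ℕ) : Pp Hs m (μ + 1) ≤ Pp Hs m μ := by
  unfold Pp
  apply Finset.sum_le_sum_of_subset_of_nonneg
  · intro i hi
    simp only [Finset.mem_filter, Finset.mem_univ, true_and] at hi ⊢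
    push_cast at hi
    omega
  · intro _ _ _; exact Int.natCast_nonneg _

lemma layer_sum (M : ℕ) (hM : ∀ i, (m i).natAbs ≤ M) :
    ∑ i, m i * (finrank K (Hs i) : ℤ) = ∑ μ ∈ Finset.range M, (Pp Hs m μ - Nm Hs m μ) := by
  have h1 : ∀ i, m i * (finrank K (Hs i) : ℤ) =
      ∑ μ ∈ Finset.range M, ((if ((μ : ℤ) + 1) ≤ m i then (finrank K (Hs i) : ℤ) else 0) -
        (if m i ≤ -((μ : ℤ) + 1) then (finrank K (Hs i) : ℤ) else 0)) := by
    intro i
    conv_lhs => rw [← layer_cake' M (m i) (hM i)]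
    rw [Finset.sum_mul]
    refine Finset.sum_congr rfl fun μ _ => ?_
    split_ifs <;> ring
  rw [Finset.sum_congr rfl fun i _ => h1 i, Finset.sum_comm]
  refine Finset.sum_congr rfl fun μ _ => ?_
  rw [Finset.sum_sub_distrib, Pp, Nm, Finset.sum_filter, Finset.sum_filter]

lemma Pp_eq_zero_of_le (M : ℕ) (hM : ∀ i, (m i).natAbs ≤ M) (μ : ℕ) (hμ : M ≤ μ) :
    Pp Hs m μ = 0 := by
  unfold Pp
  apply Finset.sum_eq_zero
  intro i hi
  simp only [Finset.mem_filter, Finset.mem_univ, true_and] at hi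
  have := hM i
  omega

/-- conclusion of the counting argument -/
lemma no_weights (M : ℕ) (hM : ∀ i, (m i).natAbs ≤ M)
    (hP : ∀ μ, μ < M → Pp Hs m μ = 0) (hN : ∀ μ, μ < M → Nm Hs m μ = 0)
    (i : ι) (hi : Hs i ≠ ⊥) : m i = 0 := by
  have hd : 0 < (finrank K (Hs i) : ℤ) := by
    have : 0 < finrank K (Hs i) := by
      rw [Module.finrank_pos_iff]
      exact (Submodule.nontrivial_iff_ne_bot).mpr hi
    exact_mod_cast this
  by_contra hne
  rcases lt_or_gt_of_ne hne with hlt | hgt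
  · -- negative weight
    have hμ : (m i).natAbs - 1 < M := by have := hM i; omega
    have := hN _ hμ
    unfold Nm at this
    have hmem : i ∈ Finset.univ.filter (fun j => m j ≤ -((((m i).natAbs - 1 : ℕ) : ℤ) + 1)) := by
      simp only [Finset.mem_filter, Finset.mem_univ, true_and]
      omega
    have h2 := Finset.single_le_sum (f := fun i => (finrank K (Hs i) : ℤ))
      (fun _ _ => Int.natCast_nonneg _) hmem
    omega
  · have hμ : (m i).natAbs - 1 < M := by have := hM i; omega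
    have := hP _ hμ
    unfold Pp at this
    have hmem : i ∈ Finset.univ.filter (fun j => ((((m i).natAbs - 1 : ℕ) : ℤ) + 1) ≤ m j) := by
      simp only [Finset.mem_filter, Finset.mem_univ, true_and]
      omega
    have h2 := Finset.single_le_sum (f := fun i => (finrank K (Hs i) : ℤ))
      (fun _ _ => Int.natCast_nonneg _) hmem
    omega

/-- stable-type counting -/
lemma count_stable (hsum : ∑ i, m i * (finrank K (Hs i) : ℤ) = 0)
    (key : ∀ μ, Nm Hs m μ ≤ Pp Hs m μ ∧ (Nm Hs m μ ≠ 0 → Nm Hs m μ < Pp Hs m μ))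
    (i : ι) (hi : Hs i ≠ ⊥) : m i = 0 := by
  set M := ∑ i, (m i).natAbs with hMdef
  have hM : ∀ i, (m i).natAbs ≤ M := fun i =>
    Finset.single_le_sum (f := fun i => (m i).natAbs) (fun _ _ => Nat.zero_le _) (Finset.mem_univ i)
  have h1 := layer_sum Hs m M hM
  rw [hsum] at h1
  have h2 : ∀ μ ∈ Finset.range M, Pp Hs m μ - Nm Hs m μ = 0 := by
    apply (Finset.sum_eq_zero_iff_of_nonneg ?_).mp h1.symm
    intro μ _
    linarith [(key μ).1]
  have hN : ∀ μ, μ < M → Nm Hs m μ = 0 := by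
    intro μ hμ
    by_contra hne
    have := (key μ).2 hne
    have := h2 μ (Finset.mem_range.mpr hμ)
    omega
  have hP : ∀ μ, μ < M → Pp Hs m μ = 0 := by
    intro μ hμ
    have := h2 μ (Finset.mem_range.mpr hμ)
    have := hN μ hμ
    omega
  exact no_weights Hs m M hM hP hN i hi

/-- semistable-type counting -/
lemma count_semistable (hsum : ∑ i, m i * (finrank K (Hs i) : ℤ) = 0)
    (key : ∀ μ, Nm Hs m μ ≤ Pp Hs m (μ + 1))
    (i : ι) (hi : Hs i ≠ ⊥) : m i = 0 := by
  set M := ∑ i, (m i).natAbs with hMdef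
  have hM : ∀ i, (m i).natAbs ≤ M := fun i =>
    Finset.single_le_sum (f := fun i => (m i).natAbs) (fun _ _ => Nat.zero_le _) (Finset.mem_univ i)
  have h1 := layer_sum Hs m M hM
  rw [hsum] at h1
  -- telescoping
  have h2 : ∑ μ ∈ Finset.range M, (Pp Hs m μ - Pp Hs m (μ + 1)) = Pp Hs m 0 - Pp Hs m M :=
    Finset.sum_range_sub' _ _
  have h3 : ∑ μ ∈ Finset.range M, (Pp Hs m μ - Pp Hs m (μ + 1)) ≤
      ∑ μ ∈ Finset.range M, (Pp Hs m μ - Nm Hs m μ) :=
    Finset.sum_le_sum fun μ _ => by linarith [key μ]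
  rw [h2, ← h1, Pp_eq_zero_of_le Hs m M hM M le_rfl, sub_zero] at h3
  have hP0 : Pp Hs m 0 = 0 := le_antisymm h3 (Pp_nonneg Hs m 0)
  have hPall : ∀ μ, Pp Hs m μ = 0 := by
    intro μ
    induction μ with
    | zero => exact hP0
    | succ μ ih => exact le_antisymm (by linarith [Pp_antitone Hs m μ]) (Pp_nonneg Hs m _)
  have hN : ∀ μ, μ < M → Nm Hs m μ = 0 := fun μ _ =>
    le_antisymm (by linarith [key μ, hPall (μ + 1)]) (Nm_nonneg Hs m μ)
  exact no_weights Hs m M hM (fun μ _ => hPall μ) hN i hi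

end Count

end Groth.Agent.Helper7.HM
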