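import Mathlib
import Groth.Agent.Helper7.HM2

set_option autoImplicit false
set_option linter.unusedSectionVars false
set_option linter.unusedVariables false

namespace Groth.Agent.Helper7.HM

open Module

variable {K : Type*} [Field K] {H W : Type*} [AddCommGroup H] [Module K H] [FiniteDimensional K H]
  [AddCommGroup W] [Module K W]

section Forward

variable {ι : Type*} [Fintype ι] [DecidableEq ι]
variable (q : H →ₗ[K] H →ₗ[K] W) (Hs : ι → Submodule K H) (m : ι → ℤ)

lemma finrank_filter_sup (hind : iSupIndep Hs) (p : ι → Prop) [DecidablePred p] :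
    (finrank K ↥((Finset.univ.filter p).sup Hs) : ℤ) =
      ∑ i ∈ Finset.univ.filter p, (finrank K (Hs i) : ℤ) := by
  rw [finrank_sup_eq_sum Hs _ (hind.supIndep' _)]
  push_cast
  rfl

lemma finrank_eq_sum_all (hind : iSupIndep Hs) (htop : iSup Hs = ⊤) :
    (finrank K H : ℤ) = ∑ i, (finrank K (Hs i) : ℤ) := by
  have h1 := finrank_sup_eq_sum Hs Finset.univ (hind.supIndep' _)
  rw [Finset.sup_univ_eq_iSup, htop, finrank_top] at h1
  rw [h1]; push_cast; rfl

lemma sup_eq_bot_of_sum_zero (hind : iSupIndep Hs) (p : ι → Prop) [DecidablePred p]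
    (h : ∑ i ∈ Finset.univ.filter p, (finrank K (Hs i) : ℤ) = 0) :
    (Finset.univ.filter p).sup Hs = ⊥ := by
  rw [← finrank_filter_sup Hs hind p] at h
  have : finrank K ↥((Finset.univ.filter p).sup Hs) = 0 := by exact_mod_cast h
  exact Submodule.finrank_eq_zero.mp this

lemma key_semistable (hind : iSupIndep Hs) (htop : iSup Hs = ⊤)
    (hst : ∀ V : Submodule K H, V ≠ ⊥ → (∀ x ∈ V, ∀ y ∈ V, q x y = 0) →
      finrank K V + finrank K ↥(perp q V) ≤ finrank K H)
    (hpos : ∀ i j, rel q Hs i j → 0 < m i + m j) (μ : ℕ) :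
    Nm Hs m μ ≤ Pp Hs m (μ + 1) := by
  set S := Finset.univ.filter (fun i => m i ≤ -((μ : ℤ) + 1)) with hS
  set S' := Finset.univ.filter (fun j => m j ≤ (μ : ℤ) + 1) with hS'
  set V := S.sup Hs with hV
  have hNm : Nm Hs m μ = (finrank K V : ℤ) := (finrank_filter_sup Hs hind _).symm
  by_cases hV0 : V = ⊥
  · rw [hNm, hV0, finrank_bot]
    exact Pp_nonneg Hs m _
  · have hiso : ∀ x ∈ V, ∀ y ∈ V, q x y = 0 := by
      apply vanish_on_sups q Hs S S
      intro i hi j hj hr
      have := hpos i j hr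
      simp only [hS, Finset.mem_filter, Finset.mem_univ, true_and] at hi hj
      omega
    have hle : S'.sup Hs ≤ perp q V := by
      intro y hy
      rw [mem_perp]
      intro x hx
      apply vanish_on_sups q Hs S' S _ y hy x hx
      intro j hj i hi hr
      have := hpos j i hr
      simp only [hS, hS', Finset.mem_filter, Finset.mem_univ, true_and] at hi hj
      omega
    have h1 := hst V hV0 hiso
    have h2 : finrank K ↥(S'.sup Hs) ≤ finrank K ↥(perp q V) := Submodule.finrank_mono hle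
    have h3 : (finrank K ↥(S'.sup Hs) : ℤ) = ∑ j ∈ S', (finrank K (Hs j) : ℤ) :=
      finrank_filter_sup Hs hind _
    have h4 := finrank_eq_sum_all Hs hind htop
    have h5 := Finset.sum_filter_add_sum_filter_not Finset.univ
      (fun j => m j ≤ (μ : ℤ) + 1) (fun j => (finrank K (Hs j) : ℤ))
    have h6 : Pp Hs m (μ + 1) =
        ∑ j ∈ Finset.univ.filter (fun j => ¬ m j ≤ (μ : ℤ) + 1), (finrank K (Hs j) : ℤ) := by
      unfold Pp
      apply Finset.sum_congr _ (fun _ _ => rfl)
      ext j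
      simp only [Finset.mem_filter, Finset.mem_univ, true_and]
      push_cast
      omega
    rw [hNm, h6]
    have h1' : (finrank K V : ℤ) + (finrank K ↥(perp q V) : ℤ) ≤ (finrank K H : ℤ) := by
      exact_mod_cast h1
    have h2' : (finrank K ↥(S'.sup Hs) : ℤ) ≤ (finrank K ↥(perp q V) : ℤ) := by exact_mod_cast h2
    linarith

lemma key_stable (hind : iSupIndep Hs) (htop : iSup Hs = ⊤)
    (hst : ∀ V : Submodule K H, V ≠ ⊥ → (∀ x ∈ V, ∀ y ∈ V, q x y = 0) →
      finrank K V + finrank K ↥(perp q V) < finrank K H)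
    (hpos : ∀ i j, rel q Hs i j → 0 ≤ m i + m j) (μ : ℕ) :
    Nm Hs m μ ≤ Pp Hs m μ ∧ (Nm Hs m μ ≠ 0 → Nm Hs m μ < Pp Hs m μ) := by
  set S := Finset.univ.filter (fun i => m i ≤ -((μ : ℤ) + 1)) with hS
  set S' := Finset.univ.filter (fun j => ¬ ((μ : ℤ) + 1 ≤ m j)) with hS'
  set V := S.sup Hs with hV
  have hNm : Nm Hs m μ = (finrank K V : ℤ) := (finrank_filter_sup Hs hind _).symm
  by_cases hV0 : V = ⊥
  · rw [hNm, hV0, finrank_bot]
    exact ⟨Pp_nonneg Hs m _, fun h => absurd rfl h⟩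
  · have hiso : ∀ x ∈ V, ∀ y ∈ V, q x y = 0 := by
      apply vanish_on_sups q Hs S S
      intro i hi j hj hr
      have := hpos i j hr
      simp only [hS, Finset.mem_filter, Finset.mem_univ, true_and] at hi hj
      omega
    have hle : S'.sup Hs ≤ perp q V := by
      intro y hy
      rw [mem_perp]
      intro x hx
      apply vanish_on_sups q Hs S' S _ y hy x hx
      intro j hj i hi hr
      have := hpos j i hr
      simp only [hS, hS', Finset.mem_filter, Finset.mem_univ, true_and] at hi hj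
      omega
    have h1 := hst V hV0 hiso
    have h2 : finrank K ↥(S'.sup Hs) ≤ finrank K ↥(perp q V) := Submodule.finrank_mono hle
    have h3 : (finrank K ↥(S'.sup Hs) : ℤ) = ∑ j ∈ S', (finrank K (Hs j) : ℤ) :=
      finrank_filter_sup Hs hind _
    have h4 := finrank_eq_sum_all Hs hind htop
    have h5 := Finset.sum_filter_add_sum_filter_not Finset.univ
      (fun j => (μ : ℤ) + 1 ≤ m j) (fun j => (finrank K (Hs j) : ℤ))
    have h6 : Pp Hs m μ =
        ∑ j ∈ Finset.univ.filter (fun j => (μ : ℤ) + 1 ≤ m j), (finrank K (Hs j) : ℤ) := rfl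
    have h1' : (finrank K V : ℤ) + (finrank K ↥(perp q V) : ℤ) < (finrank K H : ℤ) := by
      exact_mod_cast h1
    have h2' : (finrank K ↥(S'.sup Hs) : ℤ) ≤ (finrank K ↥(perp q V) : ℤ) := by exact_mod_cast h2
    rw [hNm, h6]
    constructor
    · linarith
    · intro _; linarith

theorem forward_semistable
    (hst : ∀ V : Submodule K H, V ≠ ⊥ → (∀ x ∈ V, ∀ y ∈ V, q x y = 0) →
      finrank K V + finrank K ↥(perp q V) ≤ finrank K H)
    (hint : DirectSum.IsInternal Hs) (hsum : ∑ i, m i * (finrank K (Hs i) : ℤ) = 0)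
    (hnt : ∃ i, m i ≠ 0 ∧ Hs i ≠ ⊥) :
    ∃ i j, (∃ x ∈ Hs i, ∃ y ∈ Hs j, q x y ≠ 0) ∧ m i + m j ≤ 0 := by
  by_contra hcon
  push Not at hcon
  have hind := hint.submodule_iSupIndep
  have htop := hint.submodule_iSup_eq_top
  obtain ⟨i, hi1, hi2⟩ := hnt
  exact hi1 (count_semistable Hs m hsum
    (key_semistable q Hs m hind htop hst (fun i j hr => hcon i j hr)) i hi2)

theorem forward_stable
    (hst : ∀ V : Submodule K H, V ≠ ⊥ → (∀ x ∈ V, ∀ y ∈ V, q x y = 0) →
      finrank K V + finrank K ↥(perp q V) < finrank K H)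
    (hint : DirectSum.IsInternal Hs) (hsum : ∑ i, m i * (finrank K (Hs i) : ℤ) = 0)
    (hnt : ∃ i, m i ≠ 0 ∧ Hs i ≠ ⊥) :
    ∃ i j, (∃ x ∈ Hs i, ∃ y ∈ Hs j, q x y ≠ 0) ∧ m i + m j < 0 := by
  by_contra hcon
  push Not at hcon
  have hind := hint.submodule_iSupIndep
  have htop := hint.submodule_iSup_eq_top
  obtain ⟨i, hi1, hi2⟩ := hnt
  exact hi1 (count_stable Hs m hsum
    (key_stable q Hs m hind htop hst (fun i j hr => hcon i j hr)) i hi2)

end Forward

end Groth.Agent.Helper7.HM
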