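import Mathlib
import Groth.Agent.Helper7.HM3

set_option autoImplicit false
set_option linter.unusedSectionVars false
set_option linter.unusedVariables false

namespace Groth.Agent.Helper7.HM

open Module

variable {K : Type*} [Field K] {H W : Type*} [AddCommGroup H] [Module K H] [FiniteDimensional K H]
  [AddCommGroup W] [Module K W]

/-- three-term internal decompositions from a flag with complements -/
lemma isInternal_three (V U C P : Submodule K H) (hVU : V ⊓ U = ⊥) (hP : V ⊔ U = P)
    (hPC : IsCompl P C) : DirectSum.IsInternal (![V, U, C] : Fin 3 → Submodule K H) := by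
  have hVP : V ≤ P := hP ▸ le_sup_left
  have hUP : U ≤ P := hP ▸ le_sup_right
  have hPC0 : ∀ x ∈ P, x ∈ C → x = 0 := fun x hx hc =>
    (Submodule.disjoint_def.mp hPC.disjoint) x hx hc
  have hVU0 : ∀ x ∈ V, x ∈ U → x = 0 := fun x hx hu => by
    have : x ∈ V ⊓ U := ⟨hx, hu⟩
    rw [hVU] at this
    exact (Submodule.mem_bot K).mp this
  rw [DirectSum.isInternal_submodule_iff_iSupIndep_and_iSup_eq_top]
  constructor
  · intro i
    fin_cases i
    · -- V vs U ⊔ C
      have hle : (⨆ j, ⨆ (_ : j ≠ (0 : Fin 3)), (![V, U, C] : Fin 3 → Submodule K H) j) ≤ U ⊔ C := by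
        refine iSup_le fun j => iSup_le fun hj => ?_
        fin_cases j
        · exact absurd rfl hj
        · exact le_sup_left
        · exact le_sup_right
      refine Disjoint.mono_right hle ?_
      rw [Submodule.disjoint_def]
      intro x hx hxs
      obtain ⟨u, hu, c, hc, rfl⟩ := Submodule.mem_sup.mp hxs
      have hc0 : c = 0 := by
        apply hPC0 c _ hc
        have : c = (u + c) - u := by abel
        rw [this]
        exact P.sub_mem (hVP hx) (hUP hu)
      rw [hc0, add_zero] at hx ⊢
      exact hVU0 u hx hu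
    · -- U vs V ⊔ C
      have hle : (⨆ j, ⨆ (_ : j ≠ (1 : Fin 3)), (![V, U, C] : Fin 3 → Submodule K H) j) ≤ V ⊔ C := by
        refine iSup_le fun j => iSup_le fun hj => ?_
        fin_cases j
        · exact le_sup_left
        · exact absurd rfl hj
        · exact le_sup_right
      refine Disjoint.mono_right hle ?_
      rw [Submodule.disjoint_def]
      intro x hx hxs
      obtain ⟨v, hv, c, hc, rfl⟩ := Submodule.mem_sup.mp hxs
      have hc0 : c = 0 := by
        apply hPC0 c _ hc
        have : c = (v + c) - v := by abel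
        rw [this]
        exact P.sub_mem (hUP hx) (hVP hv)
      rw [hc0, add_zero] at hx ⊢
      exact hVU0 v hv hx
    · -- C vs V ⊔ U = P
      have hle : (⨆ j, ⨆ (_ : j ≠ (2 : Fin 3)), (![V, U, C] : Fin 3 → Submodule K H) j) ≤ P := by
        refine iSup_le fun j => iSup_le fun hj => ?_
        fin_cases j
        · exact hVP
        · exact hUP
        · exact absurd rfl hj
      exact Disjoint.mono_right hle hPC.disjoint.symm
  · rw [eq_top_iff, ← hPC.sup_eq_top, ← hP]
    refine sup_le (sup_le ?_ ?_) ?_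
    · exact le_iSup (![V, U, C] : Fin 3 → Submodule K H) 0
    · exact le_iSup (![V, U, C] : Fin 3 → Submodule K H) 1
    · exact le_iSup (![V, U, C] : Fin 3 → Submodule K H) 2

variable (s : W →ₗ[K] W) (q : H →ₗ[K] H →ₗ[K] W) (hq : ∀ x y : H, q x y = s (q y x))

include hq in
lemma q_symm_zero {x y : H} (h : q y x = 0) : q x y = 0 := by
  rw [hq, h, map_zero]

include hq in
/-- the common part of the backward directions: a destabilising flag gives weights. -/
lemma backward_core (hq0 : q ≠ 0) (V : Submodule K H) (hV : V ≠ ⊥)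
    (hiso : ∀ x ∈ V, ∀ y ∈ V, q x y = 0) :
    ∃ (Hs : Fin 3 → Submodule K H) (a b c : ℤ), DirectSum.IsInternal Hs ∧
      (1 ≤ a ∧ 0 ≤ b ∧ 0 ≤ c) ∧
      (finrank K V : ℤ) = a ∧ (finrank K ↥(perp q V) : ℤ) = a + b ∧
      (finrank K H : ℤ) = a + b + c ∧
      (finrank K (Hs 0) : ℤ) = a ∧ (finrank K (Hs 1) : ℤ) = b ∧ (finrank K (Hs 2) : ℤ) = c ∧
      Hs 0 ≠ ⊥ ∧ (0 < a * b + c) ∧
      (∀ i j : Fin 3, (∃ x ∈ Hs i, ∃ y ∈ Hs j, q x y ≠ 0) →
        (i = 0 ∧ j = 2) ∨ (i = 2 ∧ j = 0) ∨ (i ≠ 0 ∧ j ≠ 0)) := by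
  set P := perp q V with hPdef
  have hVP : V ≤ P := by
    intro x hx
    rw [hPdef, mem_perp]
    exact fun y hy => hiso x hx y hy
  obtain ⟨U', hU'⟩ := Submodule.exists_isCompl V
  set U := U' ⊓ P with hU
  have hVU : V ⊓ U = ⊥ := by
    rw [eq_bot_iff, ← hU'.inf_eq_bot]
    exact inf_le_inf_left V inf_le_left
  have hsup : V ⊔ U = P := by
    rw [hU, ← sup_inf_assoc_of_le U' hVP, hU'.sup_eq_top, top_inf_eq]
  obtain ⟨C, hC⟩ := Submodule.exists_isCompl P
  have hint := isInternal_three V U C P hVU hsup hC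
  have h1 := Submodule.finrank_sup_add_finrank_inf_eq V U
  rw [hVU, finrank_bot, add_zero, hsup] at h1
  have h2 := Submodule.finrank_add_eq_of_isCompl hC
  have ha : 0 < finrank K V := by
    rw [Module.finrank_pos_iff]
    exact (Submodule.nontrivial_iff_ne_bot).mpr hV
  have hUP : U ≤ P := hsup ▸ le_sup_right
  refine ⟨![V, U, C], finrank K V, finrank K U, finrank K C, hint,
    ⟨by exact_mod_cast ha, Int.natCast_nonneg _, Int.natCast_nonneg _⟩, rfl,
    by rw [h1]; push_cast; rfl, by rw [← h2, h1]; push_cast; rfl, rfl, rfl, rfl, hV, ?_, ?_⟩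
  · -- nontriviality
    by_contra hcon
    push Not at hcon
    have hb0 : finrank K U = 0 := by
      by_contra hne
      have h3 : 0 < (finrank K U : ℤ) := by
        have : 0 < finrank K U := Nat.pos_of_ne_zero hne
        exact_mod_cast this
      have h4 : 0 < (finrank K V : ℤ) := by exact_mod_cast ha
      have h5 : 0 ≤ (finrank K C : ℤ) := Int.natCast_nonneg _
      nlinarith
    have hc0 : finrank K C = 0 := by
      have h5 : 0 ≤ (finrank K C : ℤ) := Int.natCast_nonneg _
      have h6 : 0 ≤ (finrank K V : ℤ) * (finrank K U : ℤ) := by positivity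
      have : (finrank K C : ℤ) = 0 := by linarith
      exact_mod_cast this
    have hUbot : U = ⊥ := Submodule.finrank_eq_zero.mp hb0
    have hCbot : C = ⊥ := Submodule.finrank_eq_zero.mp hc0
    have hPtop : P = ⊤ := by
      have := hC.sup_eq_top
      rwa [hCbot, sup_bot_eq] at this
    have hVtop : V = ⊤ := by
      rw [← hPtop, ← hsup, hUbot, sup_bot_eq]
    apply hq0
    ext x y
    exact hiso x (hVtop ▸ Submodule.mem_top) y (hVtop ▸ Submodule.mem_top)
  · intro i j ⟨x, hx, y, hy, hne⟩
    fin_cases i <;> fin_cases j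
    · exact absurd (hiso x hx y hy) hne
    · -- x ∈ V, y ∈ U ⊆ perp V
      exfalso
      apply hne
      apply q_symm_zero s q hq
      have hyP : y ∈ perp q V := hUP hy
      exact (mem_perp q V y).mp hyP x hx
    · exact Or.inl ⟨rfl, rfl⟩
    · exfalso
      apply hne
      have hxP : x ∈ perp q V := hUP hx
      exact (mem_perp q V x).mp hxP y hy
    · exact Or.inr (Or.inr ⟨by decide, by decide⟩)
    · exact Or.inr (Or.inr ⟨by decide, by decide⟩)
    · exact Or.inr (Or.inl ⟨rfl, rfl⟩)
    · exact Or.inr (Or.inr ⟨by decide, by decide⟩)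
    · exact Or.inr (Or.inr ⟨by decide, by decide⟩)

end Groth.Agent.Helper7.HM
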