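import Mathlib
import Groth.Agent.Helper7.HM4

set_option autoImplicit false
set_option linter.unusedSectionVars false
set_option linter.unusedVariables false

namespace Groth.Agent.Helper7.HM

open Module

variable {K : Type*} [Field K] {H W : Type*} [AddCommGroup H] [Module K H] [FiniteDimensional K H]
  [AddCommGroup W] [Module K W]
variable (s : W →ₗ[K] W) (q : H →ₗ[K] H →ₗ[K] W) (hq : ∀ x y : H, q x y = s (q y x))

/-- the weights used in the backward direction -/
def wts (a b c : ℤ) : Fin 3 → ℤ := ![-(a * b + c), a * (a - c), a * (b + 1)]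

include hq in
theorem backward_semistable (hq0 : q ≠ 0)
    (hnum : ∀ (Hs : Fin 3 → Submodule K H) (m : Fin 3 → ℤ),
      DirectSum.IsInternal Hs → (∑ i, m i * (finrank K (Hs i) : ℤ)) = 0 →
      (∃ i, m i ≠ 0 ∧ Hs i ≠ ⊥) →
      ∃ i j, (∃ x ∈ Hs i, ∃ y ∈ Hs j, q x y ≠ 0) ∧ m i + m j ≤ 0)
    (V : Submodule K H) (hV : V ≠ ⊥) (hiso : ∀ x ∈ V, ∀ y ∈ V, q x y = 0) :
    finrank K V + finrank K ↥(perp q V) ≤ finrank K H := by
  obtain ⟨Hs, a, b, c, hint, ⟨ha, hb, hc⟩, hVa, hPa, hHa, h0, h1, h2, hne, hpos, hcls⟩ :=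
    backward_core s q hq hq0 V hV hiso
  by_contra hcon
  have hac : c < a := by
    have : (finrank K H : ℤ) < (finrank K V : ℤ) + (finrank K ↥(perp q V) : ℤ) := by
      exact_mod_cast not_le.mp hcon
    linarith
  have hsum : ∑ i, wts a b c i * (finrank K (Hs i) : ℤ) = 0 := by
    rw [Fin.sum_univ_three, h0, h1, h2]
    simp only [wts, Matrix.cons_val_zero, Matrix.cons_val_one, Matrix.cons_val]
    ring
  have hnt : ∃ i, wts a b c i ≠ 0 ∧ Hs i ≠ ⊥ := by
    refine ⟨0, ?_, hne⟩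
    simp only [wts, Matrix.cons_val_zero]
    omega
  obtain ⟨i, j, hr, hle⟩ := hnum Hs (wts a b c) hint hsum hnt
  have hm1 : 0 < a * (a - c) := by nlinarith
  have hm2 : 0 < a * (b + 1) := by nlinarith
  have hm02 : 0 < -(a * b + c) + a * (b + 1) := by nlinarith
  rcases hcls i j hr with ⟨rfl, rfl⟩ | ⟨rfl, rfl⟩ | ⟨hi, hj⟩
  · simp only [wts, Matrix.cons_val_zero, Matrix.cons_val] at hle
    linarith
  · simp only [wts, Matrix.cons_val_zero, Matrix.cons_val] at hle
    linarith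
  · have hpi : ∀ l : Fin 3, l ≠ 0 → 0 < wts a b c l := by
      intro l hl
      fin_cases l
      · exact absurd rfl hl
      · simpa [wts] using hm1
      · simpa [wts] using hm2
    linarith [hpi i hi, hpi j hj]

include hq in
theorem backward_stable (hq0 : q ≠ 0)
    (hnum : ∀ (Hs : Fin 3 → Submodule K H) (m : Fin 3 → ℤ),
      DirectSum.IsInternal Hs → (∑ i, m i * (finrank K (Hs i) : ℤ)) = 0 →
      (∃ i, m i ≠ 0 ∧ Hs i ≠ ⊥) →
      ∃ i j, (∃ x ∈ Hs i, ∃ y ∈ Hs j, q x y ≠ 0) ∧ m i + m j < 0)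
    (V : Submodule K H) (hV : V ≠ ⊥) (hiso : ∀ x ∈ V, ∀ y ∈ V, q x y = 0) :
    finrank K V + finrank K ↥(perp q V) < finrank K H := by
  obtain ⟨Hs, a, b, c, hint, ⟨ha, hb, hc⟩, hVa, hPa, hHa, h0, h1, h2, hne, hpos, hcls⟩ :=
    backward_core s q hq hq0 V hV hiso
  by_contra hcon
  have hac : c ≤ a := by
    have : (finrank K H : ℤ) ≤ (finrank K V : ℤ) + (finrank K ↥(perp q V) : ℤ) := by
      exact_mod_cast not_lt.mp hcon
    linarith
  have hsum : ∑ i, wts a b c i * (finrank K (Hs i) : ℤ) = 0 := by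
    rw [Fin.sum_univ_three, h0, h1, h2]
    simp only [wts, Matrix.cons_val_zero, Matrix.cons_val_one, Matrix.cons_val]
    ring
  have hnt : ∃ i, wts a b c i ≠ 0 ∧ Hs i ≠ ⊥ := by
    refine ⟨0, ?_, hne⟩
    simp only [wts, Matrix.cons_val_zero]
    omega
  obtain ⟨i, j, hr, hlt⟩ := hnum Hs (wts a b c) hint hsum hnt
  have hm1 : 0 ≤ a * (a - c) := by nlinarith
  have hm2 : 0 < a * (b + 1) := by nlinarith
  have hm02 : 0 ≤ -(a * b + c) + a * (b + 1) := by nlinarith
  rcases hcls i j hr with ⟨rfl, rfl⟩ | ⟨rfl, rfl⟩ | ⟨hi, hj⟩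
  · simp only [wts, Matrix.cons_val_zero, Matrix.cons_val] at hlt
    linarith
  · simp only [wts, Matrix.cons_val_zero, Matrix.cons_val] at hlt
    linarith
  · have hpi : ∀ l : Fin 3, l ≠ 0 → 0 ≤ wts a b c l := by
      intro l hl
      fin_cases l
      · exact absurd rfl hl
      · simpa [wts] using hm1
      · simpa [wts] using hm2.le
    linarith [hpi i hi, hpi j hj]

end Groth.Agent.Helper7.HM
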