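import Mathlib

/-! Nakayama for half-exact functors. -/

universe u

open CategoryTheory Limits

namespace Groth.Agent.Helper7.HalfExact

variable {B A : Type u} [CommRing B] [CommRing A]
    [IsNoetherianRing B] [IsLocalRing B] [IsNoetherianRing A] [IsLocalRing A] [Algebra B A]
    [IsLocalHom (algebraMap B A)] (T : ModuleCat.{u} B ⥤ ModuleCat.{u} A) [T.Additive]

lemma exact_of_exact
    (hex : ∀ S : ShortComplex (ModuleCat.{u} B), S.ShortExact → Module.Finite B S.X₁ →
      Module.Finite B S.X₂ → Module.Finite B S.X₃ → (S.map T).Exact)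
    (N₁ N₂ N₃ : Type u) [AddCommGroup N₁] [Module B N₁] [h1 : Module.Finite B N₁]
    [AddCommGroup N₂] [Module B N₂] [h2 : Module.Finite B N₂]
    [AddCommGroup N₃] [Module B N₃] [h3 : Module.Finite B N₃]
    (f : N₁ →ₗ[B] N₂) (g : N₂ →ₗ[B] N₃) (hf : Function.Injective f) (hg : Function.Surjective g)
    (hfg : Function.Exact f g) :
    ((ModuleCat.shortComplexOfCompEqZero f g hfg.linearMap_comp_eq_zero).map T).Exact := by
  have hS : (ModuleCat.shortComplexOfCompEqZero f g hfg.linearMap_comp_eq_zero).ShortExact :=
    ModuleCat.shortComplex_shortExact _ hfg hf hg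
  exact hex _ hS h1 h2 h3

theorem main
    (hlin : ∀ (N : ModuleCat.{u} B) (b : B),
      T.map (ModuleCat.ofHom (b • (LinearMap.id : N →ₗ[B] N))) =
        ModuleCat.ofHom (algebraMap B A b • (LinearMap.id : T.obj N →ₗ[A] T.obj N)))
    (hfin : ∀ N : ModuleCat.{u} B, Module.Finite B N → Module.Finite A (T.obj N))
    (hex : ∀ S : ShortComplex (ModuleCat.{u} B), S.ShortExact → Module.Finite B S.X₁ →
      Module.Finite B S.X₂ → Module.Finite B S.X₃ → (S.map T).Exact)
    (h0 : Limits.IsZero (T.obj (ModuleCat.of B (B ⧸ IsLocalRing.maximalIdeal B)))) :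
    ∀ (I : Ideal B) (N : Type u) [AddCommGroup N] [Module B N] (_ : Module.Finite B N),
      I ≤ Module.annihilator B N → IsZero (T.obj (ModuleCat.of B N)) := by
  intro I
  induction I using WellFoundedGT.induction with
  | ind I ih =>
  intro N _ _ hN
  induction hN using IsNoetherianRing.induction_on_isQuotientEquivQuotientPrime B with
  | subsingleton N =>
    intro _
    exact T.map_isZero (ModuleCat.isZero_of_subsingleton _)
  | quotient N p e =>
    intro hI
    have hann : Module.annihilator B N = p.asIdeal := by
      rw [e.annihilator_eq, Ideal.annihilator_quotient]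
    rw [hann] at hI
    rcases hI.lt_or_eq with hlt | heq
    · exact ih p.asIdeal hlt N inferInstance hann.ge
    · by_cases hpm : p.asIdeal = IsLocalRing.maximalIdeal B
      · let e' : N ≃ₗ[B] (B ⧸ IsLocalRing.maximalIdeal B) :=
          e ≪≫ₗ Submodule.quotEquivOfEq _ _ hpm
        exact h0.of_iso (T.mapIso e'.toModuleIso)
      · obtain ⟨b, hbn, hbp⟩ : ∃ b ∈ IsLocalRing.maximalIdeal B, b ∉ p.asIdeal := by
          by_contra hcon
          push Not at hcon
          exact hpm (le_antisymm (IsLocalRing.le_maximalIdeal p.2.ne_top) hcon)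
        let μ : N →ₗ[B] N := b • LinearMap.id
        have hμ : ∀ x, μ x = b • x := fun x => rfl
        have hμinj : Function.Injective μ := by
          rw [injective_iff_map_eq_zero]
          intro x hx
          rw [hμ] at hx
          have h1 : b • e x = 0 := by rw [← map_smul, hx, map_zero]
          obtain ⟨y, hy⟩ := Ideal.Quotient.mk_surjective (e x)
          rw [← hy] at h1
          have h2 : (Ideal.Quotient.mk p.asIdeal) (b * y) = 0 := by
            rw [← h1]; rfl
          rw [Ideal.Quotient.eq_zero_iff_mem] at h2
          have h3 : y ∈ p.asIdeal := (p.2.mem_or_mem h2).resolve_left hbp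
          have h4 : e x = 0 := by rw [← hy, Ideal.Quotient.eq_zero_iff_mem]; exact h3
          exact e.map_eq_zero_iff.1 h4
        have hQ : IsZero (T.obj (ModuleCat.of B (N ⧸ LinearMap.range μ))) := by
          apply ih (p.asIdeal ⊔ Ideal.span {b}) ?_ (N ⧸ LinearMap.range μ) inferInstance ?_
          · rw [heq]
            refine lt_of_le_of_ne le_sup_left fun h => hbp ?_
            rw [h]
            exact Ideal.mem_sup_right (Ideal.mem_span_singleton_self b)
          · rw [sup_le_iff, Ideal.span_singleton_le_iff_mem]
            constructor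
            · rw [← hann]
              exact LinearMap.annihilator_le_of_surjective _ (Submodule.mkQ_surjective _)
            · rw [Module.mem_annihilator]
              intro m
              obtain ⟨x, rfl⟩ := Submodule.mkQ_surjective _ m
              rw [← map_smul, Submodule.mkQ_apply, Submodule.Quotient.mk_eq_zero]
              exact ⟨x, rfl⟩
        have hexS := exact_of_exact T hex N N (N ⧸ LinearMap.range μ) μ (LinearMap.range μ).mkQ
          hμinj (Submodule.mkQ_surjective _) (LinearMap.exact_map_mkQ_range μ)
        rw [ShortComplex.moduleCat_exact_iff] at hexS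
        haveI : Subsingleton (T.obj (ModuleCat.of B (N ⧸ LinearMap.range μ))) :=
          ModuleCat.subsingleton_of_isZero hQ
        have hsurj : Function.Surjective (T.map (ModuleCat.ofHom μ)).hom := by
          intro x
          obtain ⟨y, hy⟩ := hexS x
            (@Subsingleton.elim (T.obj (ModuleCat.of B (N ⧸ LinearMap.range μ))) _ _ _)
          exact ⟨y, hy⟩
        have hlin' := hlin (ModuleCat.of B N) b
        have hμeq : (ModuleCat.ofHom μ : ModuleCat.of B N ⟶ ModuleCat.of B N) =
            ModuleCat.ofHom (b • (LinearMap.id : (ModuleCat.of B N) →ₗ[B] (ModuleCat.of B N))) := rfl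
        rw [hμeq, hlin'] at hsurj
        haveI : Module.Finite A (T.obj (ModuleCat.of B N)) := hfin _ inferInstance
        have hmem : algebraMap B A b ∈ IsLocalRing.maximalIdeal A := by
          rw [IsLocalRing.mem_maximalIdeal, mem_nonunits_iff] at hbn ⊢
          exact fun h => hbn (isUnit_of_map_unit (algebraMap B A) b h)
        have htop : (⊤ : Submodule A (T.obj (ModuleCat.of B N))) = ⊥ := by
          apply Submodule.eq_bot_of_le_smul_of_le_jacobson_bot (IsLocalRing.maximalIdeal A) _
            Module.Finite.fg_top
          · intro x _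
            obtain ⟨y, hy⟩ := hsurj x
            rw [← hy]
            exact Submodule.smul_mem_smul hmem trivial
          · rw [IsLocalRing.jacobson_eq_maximalIdeal _ bot_ne_top]
        have hz : ∀ x : T.obj (ModuleCat.of B N), x = 0 := fun x =>
          (Submodule.mem_bot A).1 (htop ▸ (trivial : x ∈ (⊤ : Submodule A _)))
        haveI : Subsingleton (T.obj (ModuleCat.of B N)) := ⟨fun x y => by rw [hz x, hz y]⟩
        exact ModuleCat.isZero_of_subsingleton _
  | exact N₁ N₂ N₃ f g hf hg hfg h₁ h₃ =>
    intro hI
    have e1 := exact_of_exact T hex N₁ N₂ N₃ f g hf hg hfg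
    exact e1.isZero_of_both_isZero
      (h₁ (hI.trans (LinearMap.annihilator_le_of_injective f hf)))
      (h₃ (hI.trans (LinearMap.annihilator_le_of_surjective g hg)))

end Groth.Agent.Helper7.HalfExact
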