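import Mathlib

set_option autoImplicit false
universe u v

namespace Groth.Agent.Helper7.Harb

open Finset

variable {P : Type u} {ι : Type v} [Fintype ι] (inc : P → ι → Prop)

open Classical in
lemma card_eq (p : P) :
    Nat.card {j : ι // inc p j} = (Finset.univ.filter (fun j => inc p j)).card := by
  rw [Nat.card_eq_fintype_card, Fintype.card_subtype]

open Classical in
theorem result04 (h : ℕ)
    (hfin : ∀ i j : ι, i ≠ j → {p : P | inc p i ∧ inc p j}.Finite)
    (hcount : ∀ i j : ι, i ≠ j → {p : P | inc p i ∧ inc p j}.ncard = h) (i : ι) :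
    ∑ᶠ p ∈ {p : P | inc p i}, (Nat.card {j : ι // inc p j} - 1) = h * (Fintype.card ι - 1) := by
  let G : P → ι → ℕ := fun p j => if inc p i ∧ inc p j then 1 else 0
  have hind : ∀ p, Set.indicator {p : P | inc p i} (fun p => Nat.card {j : ι // inc p j} - 1) p =
      ∑ j ∈ Finset.univ.erase i, G p j := by
    intro p
    by_cases hp : inc p i
    · rw [Set.indicator_of_mem (show p ∈ {p : P | inc p i} from hp)]
      have h2 : ∑ j ∈ Finset.univ.erase i, G p j =
          ((Finset.univ.filter (fun j => inc p j)).erase i).card := by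
        simp only [G, hp, true_and]
        rw [Finset.sum_boole]
        simp only [Nat.cast_id]
        congr 1
        ext j
        simp [and_comm]
      rw [card_eq, h2, Finset.card_erase_of_mem (by simp [hp])]
    · rw [Set.indicator_of_notMem (show p ∉ {p : P | inc p i} from hp)]
      symm
      apply Finset.sum_eq_zero
      intro j _
      simp [G, hp]
  rw [finsum_mem_def, finsum_congr hind, finsum_sum_comm]
  · have hj : ∀ j ∈ Finset.univ.erase i, ∑ᶠ p, G p j = h := by
      intro j hj
      have hji : i ≠ j := (Finset.ne_of_mem_erase hj).symm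
      rw [← hcount i j hji, ← finsum_one, finsum_mem_def]
      apply finsum_congr
      intro p
      by_cases hp : inc p i ∧ inc p j
      · rw [Set.indicator_of_mem (show p ∈ {p : P | inc p i ∧ inc p j} from hp)]
        simp [G, hp]
      · rw [Set.indicator_of_notMem (show p ∉ {p : P | inc p i ∧ inc p j} from hp)]
        simp [G, hp]
    rw [Finset.sum_congr rfl hj, Finset.sum_const, Finset.card_erase_of_mem (Finset.mem_univ i),
      Finset.card_univ, smul_eq_mul, mul_comm]
  · intro j hj
    have hji : i ≠ j := (Finset.ne_of_mem_erase hj).symm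
    refine (hfin i j hji).subset ?_
    intro p hp
    simp only [Function.mem_support, G] at hp
    by_contra hn
    exact hp (by simp [show ¬ (inc p i ∧ inc p j) from hn])

end Groth.Agent.Helper7.Harb

namespace Groth.Agent.Helper7.Harb

open Finset

variable {P : Type u} {ι : Type v} [Fintype ι] (inc : P → ι → Prop)

/-- multiplicity of a point -/
noncomputable def mult (p : P) : ℕ := Nat.card {j : ι // inc p j}

open Classical in
lemma mult_eq (p : P) : mult inc p = (Finset.univ.filter (fun j => inc p j)).card := card_eq inc p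

open Classical in
lemma two_le_mult {p : P} {i j : ι} (hij : i ≠ j) (hi : inc p i) (hj : inc p j) :
    2 ≤ mult inc p := by
  rw [mult_eq, ← Finset.card_pair hij]
  apply Finset.card_le_card
  intro x hx
  rcases Finset.mem_insert.mp hx with rfl | hx
  · simp [hi]
  · rw [Finset.mem_singleton] at hx; subst hx; simp [hj]

open Classical in
lemma exists_of_two_le_mult {p : P} (hp : 2 ≤ mult inc p) :
    ∃ i j : ι, i ≠ j ∧ inc p i ∧ inc p j := by
  rw [mult_eq] at hp
  obtain ⟨a, ha, b, hb, hab⟩ := Finset.one_lt_card.mp hp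
  simp only [Finset.mem_filter, Finset.mem_univ, true_and] at ha hb
  exact ⟨a, b, hab, ha, hb⟩

open Classical in
lemma finite_multiple (hfin : ∀ i j : ι, i ≠ j → {p : P | inc p i ∧ inc p j}.Finite) :
    {p : P | 2 ≤ mult inc p}.Finite := by
  have : {p : P | 2 ≤ mult inc p} ⊆
      ⋃ ij ∈ ((Finset.univ : Finset ι).offDiag : Set (ι × ι)), {p : P | inc p ij.1 ∧ inc p ij.2} := by
    intro p hp
    obtain ⟨i, j, hij, hi, hj⟩ := exists_of_two_le_mult inc hp
    simp only [Set.mem_iUnion]
    exact ⟨(i, j), by simp [hij], hi, hj⟩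
  refine Set.Finite.subset (Set.Finite.biUnion (Finset.finite_toSet _) ?_) this
  intro ij hij
  simp only [Finset.coe_offDiag, Set.mem_offDiag, Finset.coe_univ, Set.mem_univ, true_and] at hij
  exact hfin _ _ hij

open Classical in
theorem result05 (h : ℕ)
    (hfin : ∀ i j : ι, i ≠ j → {p : P | inc p i ∧ inc p j}.Finite)
    (hcount : ∀ i j : ι, i ≠ j → {p : P | inc p i ∧ inc p j}.ncard = h) :
    ∑ k ∈ Finset.Icc 2 (Fintype.card ι), k * (k - 1) * Nat.card {p : P // Nat.card {j : ι // inc p j} = k} =
      h * (Fintype.card ι * (Fintype.card ι - 1)) := by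
  set Xf : Finset P := (finite_multiple inc hfin).toFinset with hXf
  have hmemX : ∀ p, p ∈ Xf ↔ 2 ≤ mult inc p := fun p => by simp [hXf]
  -- step 1: rewrite Nat.card
  have hcard : ∀ k ∈ Finset.Icc 2 (Fintype.card ι),
      Nat.card {p : P // Nat.card {j : ι // inc p j} = k} = (Xf.filter (fun p => mult inc p = k)).card := by
    intro k hk
    have hk2 : 2 ≤ k := (Finset.mem_Icc.mp hk).1
    have hset : {p : P | Nat.card {j : ι // inc p j} = k} = ↑(Xf.filter (fun p => mult inc p = k)) := by
      ext p
      simp only [Set.mem_setOf_eq, Finset.coe_filter, hmemX]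
      constructor
      · intro hp; exact ⟨by rw [mult, hp]; exact hk2, hp⟩
      · intro hp; exact hp.2
    change Nat.card ↥{p : P | Nat.card {j : ι // inc p j} = k} = _
    rw [hset, Nat.card_coe_set_eq, Set.ncard_coe_finset]
  rw [Finset.sum_congr rfl (fun k hk => by rw [hcard k hk])]
  -- step 2: fiberwise
  have hfib : ∑ k ∈ Finset.Icc 2 (Fintype.card ι), k * (k - 1) * (Xf.filter (fun p => mult inc p = k)).card =
      ∑ p ∈ Xf, mult inc p * (mult inc p - 1) := by
    rw [← Finset.sum_fiberwise_of_maps_to (g := fun p => mult inc p) (t := Finset.Icc 2 (Fintype.card ι))]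
    · refine Finset.sum_congr rfl (fun k _ => ?_)
      rw [Finset.sum_congr rfl (fun p hp => by rw [(Finset.mem_filter.mp hp).2]), Finset.sum_const,
        smul_eq_mul, mul_comm]
    · intro p hp
      rw [Finset.mem_Icc]
      refine ⟨(hmemX p).mp hp, ?_⟩
      rw [mult_eq, ← Finset.card_univ]
      exact Finset.card_le_card (Finset.filter_subset _ _)
  rw [hfib]
  -- step 3: multiplicities as off-diagonal counts
  have hoff : ∀ p, mult inc p * (mult inc p - 1) =
      ∑ ij ∈ (Finset.univ : Finset ι).offDiag, if inc p ij.1 ∧ inc p ij.2 then 1 else 0 := by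
    intro p
    rw [Finset.sum_boole, Nat.cast_id, mult_eq, Nat.mul_sub_one, ← Finset.offDiag_card]
    congr 1
    ext ⟨a, b⟩
    simp only [Finset.mem_offDiag, Finset.mem_filter, Finset.mem_univ, true_and]
    tauto
  rw [Finset.sum_congr rfl (fun p _ => hoff p), Finset.sum_comm]
  have hin : ∀ ij ∈ (Finset.univ : Finset ι).offDiag,
      ∑ p ∈ Xf, (if inc p ij.1 ∧ inc p ij.2 then 1 else 0) = h := by
    intro ij hij
    have hne : ij.1 ≠ ij.2 := (Finset.mem_offDiag.mp hij).2.2
    rw [Finset.sum_boole, Nat.cast_id, ← hcount ij.1 ij.2 hne, ← Set.ncard_coe_finset]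
    congr 1
    ext p
    simp only [Finset.coe_filter, hmemX, Set.mem_setOf_eq]
    constructor
    · intro hp; exact hp.2
    · intro hp; exact ⟨two_le_mult inc hne hp.1 hp.2, hp⟩
  rw [Finset.sum_congr rfl hin, Finset.sum_const, Finset.offDiag_card, Finset.card_univ, smul_eq_mul,
    Nat.mul_sub_one, mul_comm]

end Groth.Agent.Helper7.Harb

namespace Groth.Agent.Helper7.Harb

open Finset

variable {P : Type u} {ι : Type v} [Fintype ι] (inc : P → ι → Prop)

open Classical in
/-- a multiple point on `C_i` off `C_j` -/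
lemma exists_off (h : ℕ) (hh : 0 < h)
    (hfin : ∀ i j : ι, i ≠ j → {p : P | inc p i ∧ inc p j}.Finite)
    (hcount : ∀ i j : ι, i ≠ j → {p : P | inc p i ∧ inc p j}.ncard = h)
    (hnone : ∀ p : P, ∃ i : ι, ¬ inc p i) (i j : ι) (hij : i ≠ j) :
    ∃ p : P, 2 ≤ mult inc p ∧ inc p i ∧ ¬ inc p j := by
  by_contra hcon
  push_neg at hcon
  -- a point p₀ on both
  have hne : {p : P | inc p i ∧ inc p j}.Nonempty := by
    rw [← Set.ncard_pos (hfin i j hij), hcount i j hij]; exact hh
  obtain ⟨p₀, hp₀i, hp₀j⟩ := hne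
  obtain ⟨l, hl⟩ := hnone p₀
  have hli : i ≠ l := by rintro rfl; exact hl hp₀i
  have hsub : {p : P | inc p i ∧ inc p l} ⊆ {p : P | inc p i ∧ inc p j} := by
    rintro p ⟨hpi, hpl⟩
    exact ⟨hpi, hcon p (two_le_mult inc hli hpi hpl) hpi⟩
  have heq : {p : P | inc p i ∧ inc p l} = {p : P | inc p i ∧ inc p j} :=
    Set.eq_of_subset_of_ncard_le hsub (by rw [hcount i j hij, hcount i l hli]) (hfin i j hij)
  have : p₀ ∈ {p : P | inc p i ∧ inc p l} := by rw [heq]; exact ⟨hp₀i, hp₀j⟩
  exact hl this.2

open Classical in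
theorem result07 (h : ℕ) (hh : 0 < h) (hd : 2 ≤ Fintype.card ι)
    (hfin : ∀ i j : ι, i ≠ j → {p : P | inc p i ∧ inc p j}.Finite)
    (hcount : ∀ i j : ι, i ≠ j → {p : P | inc p i ∧ inc p j}.ncard = h)
    (hnone : ∀ p : P, ∃ i : ι, ¬ inc p i) :
    h + 2 ≤ Nat.card {p : P // 2 ≤ Nat.card {j : ι // inc p j}} := by
  obtain ⟨i, j, hij⟩ := Fintype.one_lt_card_iff.mp hd
  obtain ⟨p, hp2, hpi, hpj⟩ := exists_off inc h hh hfin hcount hnone i j hij
  obtain ⟨q, hq2, hqj, hqi⟩ := exists_off inc h hh hfin hcount hnone j i hij.symm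
  set Xf : Finset P := (finite_multiple inc hfin).toFinset with hXf
  have hmemX : ∀ p, p ∈ Xf ↔ 2 ≤ mult inc p := fun p => by simp [hXf]
  have hcardX : Nat.card {p : P // 2 ≤ Nat.card {j : ι // inc p j}} = Xf.card := by
    change Nat.card ↥{p : P | 2 ≤ mult inc p} = _
    rw [Nat.card_coe_set_eq, Set.ncard_eq_toFinset_card _ (finite_multiple inc hfin)]
  rw [hcardX]
  set I : Finset P := (hfin i j hij).toFinset with hI
  have hIcard : I.card = h := by
    rw [hI, ← Set.ncard_eq_toFinset_card _ (hfin i j hij), hcount i j hij]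
  have hmemI : ∀ x, x ∈ I ↔ inc x i ∧ inc x j := fun x => by simp [hI]
  have hqI : q ∉ I := fun hq => hqi ((hmemI q).mp hq).1
  have hpqI : p ∉ insert q I := by
    intro hp
    rcases Finset.mem_insert.mp hp with rfl | hp
    · exact hqi hpi
    · exact hpj ((hmemI p).mp hp).2
  have hsub : insert p (insert q I) ⊆ Xf := by
    intro x hx
    rw [hmemX]
    rcases Finset.mem_insert.mp hx with rfl | hx
    · exact hp2
    rcases Finset.mem_insert.mp hx with rfl | hx
    · exact hq2
    · obtain ⟨h1, h2⟩ := (hmemI x).mp hx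
      exact two_le_mult inc hij h1 h2
  calc h + 2 = (insert p (insert q I)).card := by
        rw [Finset.card_insert_of_notMem hpqI, Finset.card_insert_of_notMem hqI, hIcard]
    _ ≤ Xf.card := Finset.card_le_card hsub

end Groth.Agent.Helper7.Harb

namespace Groth.Agent.Helper7.Harb

open Finset

variable {P : Type u} {ι : Type v} [Fintype ι] (inc : P → ι → Prop)

open Classical in
theorem result06 (h : ℕ) (hh : 0 < h) (hd : 2 ≤ Fintype.card ι)
    (hfin : ∀ i j : ι, i ≠ j → {p : P | inc p i ∧ inc p j}.Finite)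
    (hcount : ∀ i j : ι, i ≠ j → {p : P | inc p i ∧ inc p j}.ncard = h)
    (hnone : ∀ p : P, ∃ i : ι, ¬ inc p i) :
    Fintype.card ι ≤ Nat.card {p : P // 2 ≤ Nat.card {j : ι // inc p j}} := by
  set Xf : Finset P := (finite_multiple inc hfin).toFinset with hXf
  have hmemX : ∀ p, p ∈ Xf ↔ 2 ≤ mult inc p := fun p => by simp [hXf]
  have hcardX : Nat.card {p : P // 2 ≤ Nat.card {j : ι // inc p j}} = Xf.card := by
    change Nat.card ↥{p : P | 2 ≤ mult inc p} = _
    rw [Nat.card_coe_set_eq, Set.ncard_eq_toFinset_card _ (finite_multiple inc hfin)]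
  rw [hcardX]
  -- pairwise counts inside Xf
  have hpair : ∀ i j : ι, i ≠ j → (Xf.filter (fun p => inc p i ∧ inc p j)).card = h := by
    intro i j hne
    rw [← hcount i j hne, ← Set.ncard_coe_finset]
    congr 1
    ext p
    simp only [Finset.coe_filter, hmemX, Set.mem_setOf_eq]
    constructor
    · intro hp; exact hp.2
    · intro hp; exact ⟨two_le_mult inc hne hp.1 hp.2, hp⟩
  -- n_i ≥ h + 1
  have hn : ∀ i : ι, h + 1 ≤ (Xf.filter (fun p => inc p i)).card := by
    intro i
    obtain ⟨j, hji⟩ : ∃ j, j ≠ i := by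
      obtain ⟨a, b, hab⟩ := Fintype.one_lt_card_iff.mp hd
      by_cases ha : a = i
      · exact ⟨b, fun hb => hab (ha.trans hb.symm)⟩
      · exact ⟨a, ha⟩
    obtain ⟨p, hp2, hpi, hpj⟩ := exists_off inc h hh hfin hcount hnone i j hji.symm
    have hpn : p ∉ Xf.filter (fun p => inc p i ∧ inc p j) := by
      simp [hpj]
    rw [← hpair i j hji.symm, ← Finset.card_insert_of_notMem hpn]
    apply Finset.card_le_card
    intro x hx
    rcases Finset.mem_insert.mp hx with rfl | hx
    · simp [hmemX, hp2, hpi]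
    · simp only [Finset.mem_filter] at hx ⊢
      exact ⟨hx.1, hx.2.1⟩
  -- the vectors
  let a : ι → (↥Xf → ℚ) := fun i p => if inc (p : P) i then 1 else 0
  have hG : ∀ i j : ι, ∑ p : ↥Xf, a i p * a j p =
      if i = j then ((Xf.filter (fun p => inc p i)).card : ℚ) else (h : ℚ) := by
    intro i j
    rw [Finset.sum_coe_sort Xf (fun p => (if inc p i then (1 : ℚ) else 0) * (if inc p j then 1 else 0))]
    split_ifs with hij
    · subst hij
      rw [← Finset.sum_boole]
      refine Finset.sum_congr rfl (fun p _ => ?_)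
      by_cases hp : inc p i <;> simp [hp]
    · rw [← hpair i j hij, ← Finset.sum_boole]
      refine Finset.sum_congr rfl (fun p _ => ?_)
      by_cases hp : inc p i <;> by_cases hq : inc p j <;> simp [hp, hq]
  have hLI : LinearIndependent ℚ a := by
    rw [Fintype.linearIndependent_iff]
    intro g hg
    have hpt : ∀ p : ↥Xf, ∑ i, g i * a i p = 0 := by
      intro p
      have := congrFun hg p
      simpa [Finset.sum_apply, Pi.smul_apply, smul_eq_mul] using this
    have hsq : ∑ p : ↥Xf, (∑ i, g i * a i p) * (∑ j, g j * a j p) = 0 := by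
      apply Finset.sum_eq_zero
      intro p _
      rw [hpt p, zero_mul]
    have hexp : ∑ p : ↥Xf, (∑ i, g i * a i p) * (∑ j, g j * a j p) =
        ∑ i, ∑ j, g i * g j * ∑ p : ↥Xf, a i p * a j p := by
      simp only [Finset.sum_mul_sum]
      rw [Finset.sum_comm]
      refine Finset.sum_congr rfl (fun i _ => ?_)
      rw [Finset.sum_comm]
      refine Finset.sum_congr rfl (fun j _ => ?_)
      rw [Finset.mul_sum]
      refine Finset.sum_congr rfl (fun p _ => ?_)
      ring
    rw [hexp] at hsq
    simp only [hG] at hsq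
    have hsplit : ∑ i, ∑ j, g i * g j *
        (if i = j then ((Xf.filter (fun p => inc p i)).card : ℚ) else (h : ℚ)) =
        (h : ℚ) * (∑ i, g i) ^ 2 +
          ∑ i, g i ^ 2 * (((Xf.filter (fun p => inc p i)).card : ℚ) - h) := by
      have h1 : ∀ i j : ι, g i * g j *
          (if i = j then ((Xf.filter (fun p => inc p i)).card : ℚ) else (h : ℚ)) =
          (h : ℚ) * (g i * g j) +
            (if i = j then g i * g j * (((Xf.filter (fun p => inc p i)).card : ℚ) - h) else 0) := by
        intro i j
        split_ifs <;> ring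
      simp only [h1, Finset.sum_add_distrib, Finset.sum_ite_eq, Finset.mem_univ, if_true]
      congr 1
      · rw [sq, Finset.sum_mul_sum, Finset.mul_sum]
        refine Finset.sum_congr rfl (fun i _ => ?_)
        rw [Finset.mul_sum]
      · refine Finset.sum_congr rfl (fun i _ => ?_)
        ring
    rw [hsplit] at hsq
    have hnn1 : 0 ≤ (h : ℚ) * (∑ i, g i) ^ 2 := mul_nonneg (Nat.cast_nonneg _) (sq_nonneg _)
    have hpos : ∀ i, (1 : ℚ) ≤ ((Xf.filter (fun p => inc p i)).card : ℚ) - h := by
      intro i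
      have := hn i
      have : ((h + 1 : ℕ) : ℚ) ≤ ((Xf.filter (fun p => inc p i)).card : ℚ) := by exact_mod_cast this
      push_cast at this
      linarith
    have hnn2 : ∀ i ∈ (Finset.univ : Finset ι),
        0 ≤ g i ^ 2 * (((Xf.filter (fun p => inc p i)).card : ℚ) - h) := fun i _ =>
      mul_nonneg (sq_nonneg _) (by linarith [hpos i])
    have hsum0 : ∑ i, g i ^ 2 * (((Xf.filter (fun p => inc p i)).card : ℚ) - h) = 0 := by
      have := Finset.sum_nonneg hnn2
      linarith
    intro i
    have := (Finset.sum_eq_zero_iff_of_nonneg hnn2).mp hsum0 i (Finset.mem_univ i)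
    rcases mul_eq_zero.mp this with h0 | h0
    · exact pow_eq_zero_iff (two_ne_zero) |>.mp h0
    · linarith [hpos i]
  have := hLI.fintype_card_le_finrank
  rwa [Module.finrank_fintype_fun_eq_card, Fintype.card_coe] at this

end Groth.Agent.Helper7.Harb
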