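import Mathlib
import Groth.Agent.Helper3.HensRows

set_option autoImplicit false
universe u

namespace Groth.Agent.Helper7.HensComplIdem
open Polynomial

theorem idem_zero_of_jac {A : Type*} [CommRing A] (t : A) (ht : t ∈ Ideal.jacobson (⊥ : Ideal A))
    (b w : A) (l s : ℕ) (hbw : b = t ^ (l + 1) * w)
    (hidem : t ^ s * (b * b - t ^ l * b) = 0) : t ^ (s + l) * b = 0 := by
  have hu : IsUnit (t * (-w) + 1) := (Ideal.mem_jacobson_bot.mp ht) (-w)
  have h1 : t ^ (s + 2 * l + 1) * w * (t * (-w) + 1) = 0 := by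
    rw [hbw] at hidem
    have : t ^ (s + 2 * l + 1) * w * (t * (-w) + 1) =
        - (t ^ s * (t ^ (l + 1) * w * (t ^ (l + 1) * w) - t ^ l * (t ^ (l + 1) * w))) := by
      ring
    rw [this, hidem, neg_zero]
  have h2 : t ^ (s + 2 * l + 1) * w = 0 := (hu.mul_left_eq_zero).mp h1
  rw [hbw]
  have : t ^ (s + l) * (t ^ (l + 1) * w) = t ^ (s + 2 * l + 1) * w := by ring
  rw [this, h2]

theorem isIntegral_of_sq {R S : Type*} [CommRing R] [CommRing S] [Algebra R S] (u : S) (r : R)
    (hu : u * u - u = algebraMap R S r) : IsIntegral R u := by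
  rcases subsingleton_or_nontrivial R with hR | hR
  · haveI : Subsingleton S := by
      refine subsingleton_of_zero_eq_one ?_
      rw [← map_one (algebraMap R S), ← map_zero (algebraMap R S), Subsingleton.elim (0 : R) 1]
    exact ⟨1, monic_one, Subsingleton.elim _ _⟩
  refine ⟨X ^ 2 - (X + C r), ?_, ?_⟩
  · apply Polynomial.monic_X_pow_sub
    refine (Polynomial.degree_add_le _ _).trans_lt (max_lt ?_ ?_)
    · exact degree_X_le.trans_lt (by norm_num)
    · exact degree_C_le.trans_lt (by norm_num)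
  · rw [eval₂_sub, eval₂_add, eval₂_pow, eval₂_X, eval₂_C, ← hu]
    ring

theorem isUnit_one_sub {R S : Type*} [CommRing R] [CommRing S] [Algebra R S] (I : Ideal R)
    (hI : I ≤ Ideal.jacobson ⊥) (u : S) (hu : IsIntegral R u) (r : R) (hr : r ∈ I) (q : S)
    (hq : q ∈ Algebra.adjoin R {u}) : IsUnit (1 - algebraMap R S r * q) := by
  let C := Algebra.adjoin R ({u} : Set S)
  haveI : Algebra.IsIntegral R C := Algebra.IsIntegral.adjoin (by
    intro x hx
    rw [Set.mem_singleton_iff] at hx
    rw [hx]; exact hu)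
  have hjac := Groth.Agent.Helper3.HensTFAE.map_le_jacobson_of_isIntegral (B := C) I hI
  let x : C := algebraMap R C r * ⟨q, hq⟩
  have hx : x ∈ Ideal.jacobson (⊥ : Ideal C) :=
    hjac (Ideal.mul_mem_right _ _ (Ideal.mem_map_of_mem _ hr))
  have h1 : IsUnit (x * (-1) + 1) := (Ideal.mem_jacobson_bot.mp hx) (-1)
  have h2 := h1.map C.val
  have h3 : C.val (x * (-1) + 1) = 1 - algebraMap R S r * q := by
    simp only [x, map_add, map_mul, map_neg, map_one]
    show ((algebraMap R C r : C) : S) * q * -1 + 1 = _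
    rw [show ((algebraMap R C r : C) : S) = algebraMap R S r from rfl]
    ring
  rwa [h3] at h2

theorem idem_lift_adjoin {A L : Type u} [CommRing A] [CommRing L] [Algebra A L] (t : A)
    [HenselianRing A (Ideal.span {t})] (u : L) (c : A)
    (hu : u * u - u = algebraMap A L (t * c)) :
    ∃ e : L, IsIdempotentElem e ∧ ∃ z ∈ Algebra.adjoin A ({u} : Set L),
      e - u = algebraMap A L t * z := by
  let C := Algebra.adjoin A ({u} : Set L)
  have hint : IsIntegral A u := isIntegral_of_sq u (t * c) hu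
  haveI : Algebra.IsIntegral A C := Algebra.IsIntegral.adjoin (by
    intro x hx
    rw [Set.mem_singleton_iff] at hx
    rw [hx]; exact hint)
  let x : C := ⟨u, Algebra.subset_adjoin rfl⟩
  have hx : x * x - x ∈ (Ideal.span {t}).map (algebraMap A C) := by
    have : x * x - x = algebraMap A C (t * c) := Subtype.ext hu
    rw [this]
    exact Ideal.mem_map_of_mem _ (Ideal.mul_mem_right _ _ (Ideal.subset_span rfl))
  obtain ⟨ε, hε, hεx⟩ := Groth.Agent.Helper3.HensRows.idemLift_of_hens (Ideal.span {t}) C x hx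
  rw [Ideal.map_span, Set.image_singleton, Ideal.mem_span_singleton'] at hεx
  obtain ⟨z, hz⟩ := hεx
  refine ⟨(ε : L), ?_, (z : L), z.2, ?_⟩
  · have := congrArg (Subtype.val) hε.eq
    exact this
  · have := congrArg (Subtype.val) hz
    rw [mul_comm]
    exact this.symm

end Groth.Agent.Helper7.HensComplIdem
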