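import Mathlib

set_option autoImplicit false
universe u

namespace Groth.Agent.Helper7.HensComplIdem

variable {A : Type u} [CommRing A] (t : A)

set_option quotPrecheck false in
local notation "Ah" => AdicCompletion (Ideal.span {t}) A
set_option quotPrecheck false in
local notation "τ" => algebraMap A (AdicCompletion (Ideal.span {t}) A) t

theorem evalA_algebraMap (K : ℕ) (a : A) :
    AdicCompletion.evalₐ (Ideal.span {t}) K (algebraMap A Ah a) =
      Ideal.Quotient.mk ((Ideal.span {t}) ^ K) a := by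
  rw [AlgHom.commutes]
  rfl

theorem eq_pow_mul_of_evalA_eq_zero (K : ℕ) (x : Ah)
    (hx : AdicCompletion.evalₐ (Ideal.span {t}) K x = 0) : ∃ y : Ah, x = τ ^ K * y := by
  have h1 : AdicCompletion.eval (Ideal.span {t}) A K x = 0 := by
    have hle : (Ideal.span {t}) ^ K ≤ ((Ideal.span {t}) ^ K • ⊤ : Ideal A) := by simp
    rw [← AdicCompletion.factor_evalₐ_eq_eval (Ideal.span {t}) x hle, hx, map_zero]
  have h2 : x ∈ ((Ideal.span {t}) ^ K • ⊤ : Submodule A Ah) := by
    rw [AdicCompletion.pow_smul_top_eq_ker_eval (Submodule.fg_span_singleton t)]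
    exact h1
  rw [Ideal.span_singleton_pow, Submodule.ideal_span_singleton_smul,
    Submodule.mem_smul_pointwise_iff_exists] at h2
  obtain ⟨y, -, hy⟩ := h2
  refine ⟨y, ?_⟩
  rw [← hy, Algebra.smul_def, map_pow]

theorem exists_approx (x : Ah) (K : ℕ) :
    ∃ (a : A) (y : Ah), x - algebraMap A Ah a = τ ^ K * y := by
  obtain ⟨a, ha⟩ := Ideal.Quotient.mk_surjective (AdicCompletion.evalₐ (Ideal.span {t}) K x)
  have h : AdicCompletion.evalₐ (Ideal.span {t}) K (x - algebraMap A Ah a) = 0 := by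
    rw [map_sub, evalA_algebraMap, ha, sub_self]
  obtain ⟨y, hy⟩ := eq_pow_mul_of_evalA_eq_zero t K _ h
  exact ⟨a, y, hy⟩

theorem mem_of_algebraMap_eq (x : A) (M : ℕ) (y : Ah) (h : algebraMap A Ah x = τ ^ M * y) :
    ∃ c : A, x = t ^ M * c := by
  have h1 := congrArg (AdicCompletion.evalₐ (Ideal.span {t}) M) h
  rw [evalA_algebraMap, map_mul (AdicCompletion.evalₐ (Ideal.span {t}) M),
    map_pow (AdicCompletion.evalₐ (Ideal.span {t}) M), evalA_algebraMap] at h1
  have h2 : (Ideal.Quotient.mk ((Ideal.span {t}) ^ M)) t ^ M = 0 := by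
    have h4 : t ^ M ∈ (Ideal.span {t}) ^ M :=
      Ideal.pow_mem_pow (Ideal.subset_span (Set.mem_singleton t)) M
    have h3 : (Ideal.Quotient.mk ((Ideal.span {t}) ^ M)) (t ^ M) = 0 :=
      Ideal.Quotient.eq_zero_iff_mem.mpr h4
    rw [← h3, map_pow]
  rw [h2, zero_mul, Ideal.Quotient.eq_zero_iff_mem, Ideal.span_singleton_pow,
    Ideal.mem_span_singleton] at h1
  obtain ⟨c, hc⟩ := h1
  exact ⟨c, hc⟩

theorem map_le_jacobson :
    (Ideal.span {t}).map (algebraMap A Ah) ≤ Ideal.jacobson (⊥ : Ideal Ah) := by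
  haveI := AdicCompletion.isAdicComplete_self (Ideal.span {t}) (Submodule.fg_span_singleton t)
  exact IsAdicComplete.le_jacobson_bot _

theorem tau_mem_map : τ ∈ (Ideal.span {t}).map (algebraMap A Ah) :=
  Ideal.mem_map_of_mem _ (Ideal.subset_span rfl)

end Groth.Agent.Helper7.HensComplIdem
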