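import Mathlib
import Groth.Agent.Helper7.HensComplIdem1
import Groth.Agent.Helper7.HensComplIdem2

set_option autoImplicit false
universe u

namespace Groth.Agent.Helper7.HensComplIdem

variable {A : Type u} [CommRing A] (t : A)

set_option quotPrecheck false in
local notation "Ah" => AdicCompletion (Ideal.span {t}) A
set_option quotPrecheck false in
local notation "τ" => algebraMap A (AdicCompletion (Ideal.span {t}) A) t
set_option quotPrecheck false in
local notation "Φ" => Localization.awayMap (algebraMap A (AdicCompletion (Ideal.span {t}) A)) t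
set_option quotPrecheck false in
local notation "Lh" => Localization.Away (algebraMap A (AdicCompletion (Ideal.span {t}) A) t)

theorem Phi_algebraMap (a : A) :
    Φ (algebraMap A (Localization.Away t) a) = algebraMap Ah Lh (algebraMap A Ah a) := by
  unfold Localization.awayMap IsLocalization.Away.map
  exact IsLocalization.map_eq _ a

theorem isUnit_T : IsUnit (algebraMap A (Localization.Away t) t) :=
  IsLocalization.Away.algebraMap_isUnit t

theorem isUnit_That : IsUnit (algebraMap Ah Lh τ) :=
  IsLocalization.Away.algebraMap_isUnit τ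

/-- `Φ` maps `A[u]` into `Â[Φ u]`. -/
theorem Phi_mem_adjoin (u z : Localization.Away t) (hz : z ∈ Algebra.adjoin A ({u} : Set _)) :
    Φ z ∈ Algebra.adjoin Ah ({Φ u} : Set Lh) := by
  induction hz using Algebra.adjoin_induction with
  | mem x hx =>
    rw [Set.mem_singleton_iff] at hx
    rw [hx]
    exact Algebra.subset_adjoin rfl
  | algebraMap a =>
    rw [Phi_algebraMap]
    exact Subalgebra.algebraMap_mem _ _
  | add x y _ _ hx hy => rw [map_add]; exact Subalgebra.add_mem _ hx hy
  | mul x y _ _ hx hy => rw [map_mul]; exact Subalgebra.mul_mem _ hx hy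

/-- Uniqueness: an idempotent of `A[1/t]` dying in `Â[1/t]` is zero. -/
theorem idem_zero (ht : t ∈ Ideal.jacobson (⊥ : Ideal A)) (E : Localization.Away t)
    (hE : E * E = E) (h0 : Φ E = 0) : E = 0 := by
  obtain ⟨l, z, hz⟩ := IsLocalization.Away.surj t E
  have hT := isUnit_T t
  have hTh := isUnit_That t
  -- image of z dies
  have h1 : algebraMap Ah Lh (algebraMap A Ah z) = 0 := by
    rw [← Phi_algebraMap, ← hz, map_mul, h0, zero_mul]
  obtain ⟨⟨_, m, rfl⟩, hm⟩ := (IsLocalization.map_eq_zero_iff (Submonoid.powers τ) Lh _).mp h1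
  simp only at hm
  -- z' = t^m z lies in all powers of t
  have h2 : algebraMap A Ah (t ^ m * z) = τ ^ (l + m + 1) * 0 := by
    rw [map_mul, map_pow, hm, mul_zero]
  obtain ⟨w, hw⟩ := mem_of_algebraMap_eq t (t ^ m * z) (l + m + 1) 0 h2
  have hz' : E * algebraMap A (Localization.Away t) t ^ (l + m) =
      algebraMap A (Localization.Away t) (t ^ m * z) := by
    rw [map_mul, map_pow, ← hz, pow_add]; ring
  have h3 : algebraMap A (Localization.Away t) ((t ^ m * z) * (t ^ m * z)) =
      algebraMap A (Localization.Away t) (t ^ (l + m) * (t ^ m * z)) := by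
    rw [map_mul, map_mul (algebraMap A (Localization.Away t)) (t ^ (l + m)), map_pow, ← hz']
    linear_combination (algebraMap A (Localization.Away t) t ^ (l + m) *
      algebraMap A (Localization.Away t) t ^ (l + m)) * hE
  obtain ⟨⟨_, s, rfl⟩, hs⟩ := (IsLocalization.eq_iff_exists (Submonoid.powers t) _).mp h3
  simp only at hs
  have hidem : t ^ s * ((t ^ m * z) * (t ^ m * z) - t ^ (l + m) * (t ^ m * z)) = 0 := by
    rw [mul_sub, hs, sub_self]
  have h4 := idem_zero_of_jac t ht (t ^ m * z) w (l + m) s hw hidem
  have h5 : algebraMap A (Localization.Away t) (t ^ m * z) = 0 := by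
    have := congrArg (algebraMap A (Localization.Away t)) h4
    rw [map_mul, map_pow, map_zero] at this
    exact ((hT.pow (s + (l + m))).mul_right_eq_zero).mp this
  rw [h5] at hz'
  exact ((hT.pow (l + m)).mul_left_eq_zero).mp hz'

end Groth.Agent.Helper7.HensComplIdem
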