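import Mathlib
import Groth.Agent.Helper7.HensComplIdem3

set_option autoImplicit false
universe u

namespace Groth.Agent.Helper7.HensComplIdem

variable {A : Type u} [CommRing A] (t : A)

set_option quotPrecheck false in
local notation "Ah" => AdicCompletion (Ideal.span {t}) A
set_option quotPrecheck false in
local notation "τ" => algebraMap A (AdicCompletion (Ideal.span {t}) A) t
set_option quotPrecheck false in
local notation "Φ" => Localization.awayMap (algebraMap A (AdicCompletion (Ideal.span {t}) A)) t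
set_option quotPrecheck false in
local notation "Lh" => Localization.Away (algebraMap A (AdicCompletion (Ideal.span {t}) A) t)
set_option quotPrecheck false in
local notation "jj" => algebraMap A (Localization.Away t)
set_option quotPrecheck false in
local notation "jh" => algebraMap (AdicCompletion (Ideal.span {t}) A)
  (Localization.Away (algebraMap A (AdicCompletion (Ideal.span {t}) A) t))

/-- approximate idempotent downstairs -/
theorem exists_approx_idem (e : Lh) (he : e * e = e) :
    ∃ (n : ℕ) (ah y : Ah) (a₀ c : A) (u₀ : Localization.Away t),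
      e * jh τ ^ n = jh ah ∧ ah - algebraMap A Ah a₀ = τ ^ (2 * n + 1) * y ∧
      u₀ * jj t ^ n = jj a₀ ∧ u₀ * u₀ - u₀ = jj (t * c) := by
  obtain ⟨n, ah, hah⟩ := IsLocalization.Away.surj τ e
  have hT := isUnit_T t
  have hTh := isUnit_That t
  -- idempotency in Â
  have h1 : jh (ah * ah) = jh (τ ^ n * ah) := by
    rw [map_mul, map_mul jh (τ ^ n), map_pow, ← hah]
    linear_combination (jh τ ^ n * jh τ ^ n) * he
  obtain ⟨⟨_, s, rfl⟩, hs⟩ := (IsLocalization.eq_iff_exists (Submonoid.powers τ) _).mp h1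
  simp only at hs
  obtain ⟨a₀, y, hy⟩ := exists_approx t ah (2 * n + 1)
  -- the defect
  have h2 : algebraMap A Ah (t ^ s * (a₀ * a₀ - t ^ n * a₀)) =
      τ ^ (s + (2 * n + 1)) * (-2 * ah * y + τ ^ (2 * n + 1) * y * y + τ ^ n * y) := by
    have hι : algebraMap A Ah a₀ = ah - τ ^ (2 * n + 1) * y := by rw [← hy]; ring
    rw [map_mul, map_sub, map_mul, map_mul, map_pow, map_pow, hι, pow_add]
    linear_combination hs
  obtain ⟨c, hc⟩ := mem_of_algebraMap_eq t _ _ _ h2
  -- u₀
  obtain ⟨v, hv⟩ := hT.exists_right_inv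
  refine ⟨n, ah, y, a₀, c, jj a₀ * v ^ n, hah, hy, ?_, ?_⟩
  · have : (jj t * v) ^ n = 1 := by rw [hv, one_pow]
    rw [mul_pow] at this
    linear_combination (jj a₀) * this
  · have h3 : jj t ^ s * (jj a₀ * jj a₀ - jj t ^ n * jj a₀) = jj t ^ s * (jj t ^ (2 * n + 1) * jj c) := by
      have := congrArg jj hc
      simp only [map_mul, map_sub, map_pow] at this
      rw [this, pow_add]; ring
    have h4 : jj a₀ * jj a₀ - jj t ^ n * jj a₀ = jj t ^ (2 * n + 1) * jj c :=
      (hT.pow s).mul_left_cancel h3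
    have hvn : jj t ^ n * v ^ n = 1 := by rw [← mul_pow, hv, one_pow]
    rw [map_mul]
    have e1 : jj a₀ * v ^ n * (jj a₀ * v ^ n) - jj a₀ * v ^ n - jj t * jj c =
        (jj a₀ * jj a₀ - jj t ^ n * jj a₀ - jj t ^ (2 * n + 1) * jj c) * (v ^ n * v ^ n)
        + (jj t ^ n * v ^ n - 1) * (jj a₀ * v ^ n + jj t * jj c * (jj t ^ n * v ^ n + 1)) := by
      ring
    rw [← sub_eq_zero, e1, hvn, h4]
    ring

end Groth.Agent.Helper7.HensComplIdem
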