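import Mathlib
import Groth.Agent.Helper7.HensComplIdem4

set_option autoImplicit false
universe u

namespace Groth.Agent.Helper7.HensComplIdem

variable {A : Type u} [CommRing A] (t : A)

set_option quotPrecheck false in
local notation "Ah" => AdicCompletion (Ideal.span {t}) A
set_option quotPrecheck false in
local notation "τ" => algebraMap A (AdicCompletion (Ideal.span {t}) A) t
set_option quotPrecheck false in
local notation "Φ" => Localization.awayMap (algebraMap A (AdicCompletion (Ideal.span {t}) A)) t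
set_option quotPrecheck false in
local notation "Lh" => Localization.Away (algebraMap A (AdicCompletion (Ideal.span {t}) A) t)
set_option quotPrecheck false in
local notation "jj" => algebraMap A (Localization.Away t)
set_option quotPrecheck false in
local notation "jh" => algebraMap (AdicCompletion (Ideal.span {t}) A)
  (Localization.Away (algebraMap A (AdicCompletion (Ideal.span {t}) A) t))

theorem exists_idem [HenselianRing A (Ideal.span {t})] (e : Lh) (he : e * e = e) :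
    ∃ e₀ : Localization.Away t, e₀ * e₀ = e₀ ∧ Φ e₀ = e := by
  obtain ⟨n, ah, y, a₀, c, u₀, hah, hy, hu₀, hu₀sq⟩ := exists_approx_idem t e he
  obtain ⟨e₀, he₀, z, hz, he₀z⟩ := idem_lift_adjoin t u₀ c hu₀sq
  have hTh := isUnit_That t
  refine ⟨e₀, he₀.eq, ?_⟩
  -- the image of u₀
  have hû_sq : Φ u₀ * Φ u₀ - Φ u₀ = jh (τ * algebraMap A Ah c) := by
    rw [← map_mul Φ, ← map_sub Φ, hu₀sq, Phi_algebraMap, map_mul (algebraMap A Ah)]
  have hint : IsIntegral Ah (Φ u₀) := isIntegral_of_sq _ _ hû_sq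
  -- d = Φ e₀ - e = jh τ * q
  have hq1 : Φ e₀ - Φ u₀ = jh τ * Φ z := by
    rw [← map_sub Φ, he₀z, map_mul Φ, Phi_algebraMap]
  have hq2 : Φ u₀ - e = jh τ * (- jh (τ ^ n * y)) := by
    have h1 : (Φ u₀ - e) * jh τ ^ n = - (jh τ ^ (2 * n + 1) * jh y) := by
      have h2 : Φ u₀ * jh τ ^ n = jh (algebraMap A Ah a₀) := by
        rw [← Phi_algebraMap t a₀, ← hu₀, map_mul Φ, map_pow Φ, Phi_algebraMap t t]
      have h3 := congrArg jh hy
      rw [map_sub, map_mul, map_pow] at h3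
      rw [sub_mul, h2, hah, ← h3]; ring
    have h4 : (Φ u₀ - e) * jh τ ^ n = (jh τ * (- jh (τ ^ n * y))) * jh τ ^ n := by
      rw [h1, map_mul, map_pow]; ring
    exact (hTh.pow n).mul_right_cancel h4
  have hd : Φ e₀ - e = jh τ * (Φ z - jh (τ ^ n * y)) := by
    have : Φ e₀ - e = (Φ e₀ - Φ u₀) + (Φ u₀ - e) := by ring
    rw [this, hq1, hq2]; ring
  have hqmem : Φ z - jh (τ ^ n * y) ∈ Algebra.adjoin Ah ({Φ u₀} : Set Lh) :=
    Subalgebra.sub_mem _ (Phi_mem_adjoin t u₀ z hz) (Subalgebra.algebraMap_mem _ _)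
  set q := Φ z - jh (τ ^ n * y) with hq
  -- unit
  have hunit : IsUnit (1 - jh τ * (jh τ * q * q)) :=
    isUnit_one_sub ((Ideal.span {t}).map (algebraMap A Ah)) (map_le_jacobson t) (Φ u₀) hint τ
      (tau_mem_map t) (jh τ * q * q)
      (Subalgebra.mul_mem _ (Subalgebra.mul_mem _ (Subalgebra.algebraMap_mem _ _) hqmem) hqmem)
  have hf : Φ e₀ * Φ e₀ = Φ e₀ := by rw [← map_mul Φ, he₀.eq]
  have hd3 : (Φ e₀ - e) * (1 - jh τ * (jh τ * q * q)) = 0 := by
    have h5 : (Φ e₀ - e) * (Φ e₀ - e) * (Φ e₀ - e) = Φ e₀ - e := by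
      linear_combination (Φ e₀ + 1 - 3 * e) * hf + (3 * Φ e₀ - e - 1) * he
    have h6 : jh τ * (jh τ * q * q) = (Φ e₀ - e) * (Φ e₀ - e) := by rw [hd]; ring
    rw [h6]
    linear_combination (-1 : Lh) * h5
  have hd0 : Φ e₀ - e = 0 := (hunit.mul_left_eq_zero).mp hd3
  exact sub_eq_zero.mp hd0

theorem main [HenselianRing A (Ideal.span {t})] (e : Lh) (he : IsIdempotentElem e) :
    ∃! e₀ : Localization.Away t, IsIdempotentElem e₀ ∧ Φ e₀ = e := by
  obtain ⟨e₀, he₀, hΦ⟩ := exists_idem t e he.eq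
  refine ⟨e₀, ⟨he₀, hΦ⟩, ?_⟩
  rintro e₁ ⟨he₁, hΦ₁⟩
  have ht : t ∈ Ideal.jacobson (⊥ : Ideal A) :=
    (HenselianRing.jac : Ideal.span {t} ≤ _) (Ideal.subset_span (Set.mem_singleton t))
  have h1 : e₁ * e₁ = e₁ := he₁.eq
  have hEE : (e₁ + e₀ - 2 * e₁ * e₀) * (e₁ + e₀ - 2 * e₁ * e₀) = e₁ + e₀ - 2 * e₁ * e₀ := by
    linear_combination (1 + 4 * e₀ * e₀ - 4 * e₀) * h1 + he₀
  have hE0 : Φ (e₁ + e₀ - 2 * e₁ * e₀) = 0 := by
    rw [map_sub, map_add, map_mul, map_mul, hΦ, hΦ₁, map_ofNat]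
    linear_combination (-2 : Lh) * he.eq
  have hE := idem_zero t ht _ hEE hE0
  have hdd : (e₁ - e₀) * (e₁ - e₀) = 0 := by
    rw [← hE]
    linear_combination h1 + he₀
  have hd3 : (e₁ - e₀) * (e₁ - e₀) * (e₁ - e₀) = e₁ - e₀ := by
    linear_combination (e₁ + 1 - 3 * e₀) * h1 + (3 * e₁ - e₀ - 1) * he₀
  rw [hdd, zero_mul] at hd3
  exact sub_eq_zero.mp hd3.symm

end Groth.Agent.Helper7.HensComplIdem
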