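import Mathlib

set_option autoImplicit false
universe u

namespace Groth.Agent.Helper7.LaurIdem
open PowerSeries

variable {R : Type u} [CommRing R]

lemma idem_eq_of_unit {S : Type*} [CommRing S] (e c : S) (he : IsIdempotentElem e)
    (hc : IsIdempotentElem c) (hu : IsUnit (e + c - 1)) : e = c := by
  have h : (e - c) * (e + c - 1) = 0 := by
    have h1 : e * e = e := he
    have h2 : c * c = c := hc
    linear_combination h1 - h2
  exact sub_eq_zero.mp ((hu.mul_left_eq_zero).mp h)

lemma coeff_nilpotent (p : PowerSeries R) (N : ℕ) (hp : p * p = X ^ N * p) :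
    ∀ k < N, IsNilpotent (coeff k p) := by
  intro k
  induction k using Nat.strong_induction_on with
  | _ k ih =>
    intro hk
    have h1 := congrArg (coeff (k + k)) hp
    rw [coeff_mul, coeff_X_pow_mul'] at h1
    have hmem : (k, k) ∈ Finset.HasAntidiagonal.antidiagonal (k + k) := by simp
    rw [← Finset.add_sum_erase _ _ hmem] at h1
    have hrest : (∑ x ∈ (Finset.HasAntidiagonal.antidiagonal (k + k)).erase (k, k),
        coeff x.1 p * coeff x.2 p)
        ∈ nilradical R := by
      apply Ideal.sum_mem
      rintro ⟨i, j⟩ hij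
      rw [Finset.mem_erase, Finset.HasAntidiagonal.mem_antidiagonal] at hij
      obtain ⟨hne, hsum⟩ := hij
      simp only at hsum
      have : i < k ∨ j < k := by
        by_contra hcon
        push_neg at hcon
        apply hne
        have hi : i = k := by omega
        have hj : j = k := by omega
        rw [hi, hj]
      rcases this with h | h
      · exact Ideal.mul_mem_right _ _ (mem_nilradical.mpr (ih i h (by omega)))
      · exact Ideal.mul_mem_left _ _ (mem_nilradical.mpr (ih j h (by omega)))
    have hrhs : (if N ≤ k + k then coeff (k + k - N) p else 0) ∈ nilradical R := by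
      split_ifs with h
      · exact mem_nilradical.mpr (ih (k + k - N) (by omega) (by omega))
      · exact Ideal.zero_mem _
    have hsq : coeff k p * coeff k p ∈ nilradical R := by
      have : coeff k p * coeff k p = (if N ≤ k + k then coeff (k + k - N) p else 0)
          - ∑ x ∈ (Finset.HasAntidiagonal.antidiagonal (k + k)).erase (k, k),
            coeff x.1 p * coeff x.2 p := by
        rw [← h1]; ring
      rw [this]
      exact Ideal.sub_mem _ hrhs hrest
    rw [← pow_two] at hsq
    exact (mem_nilradical.mp hsq).of_pow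

theorem result (e : LaurentSeries R) (he : IsIdempotentElem e) :
    ∃! r : R, IsIdempotentElem r ∧ HahnSeries.C r = e := by
  suffices h : ∃ r : R, IsIdempotentElem r ∧ HahnSeries.C r = e by
    obtain ⟨r, hr, hre⟩ := h
    refine ⟨r, ⟨hr, hre⟩, ?_⟩
    rintro r' ⟨_, hr'e⟩
    exact HahnSeries.C_injective (hr'e.trans hre.symm)
  obtain ⟨N, p, hp⟩ : ∃ (N : ℕ) (p : PowerSeries R),
      HahnSeries.single (N : ℤ) (1 : R) * e = HahnSeries.ofPowerSeries ℤ R p := by
    have key := LaurentSeries.single_order_mul_powerSeriesPart e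
    set o := e.order with ho
    set pp := e.powerSeriesPart with hpp0
    refine ⟨(-o).toNat, X ^ (o + (-o).toNat).toNat * pp, ?_⟩
    have hm : (((o + (-o).toNat).toNat : ℕ) : ℤ) = ((-o).toNat : ℤ) + o := by omega
    calc HahnSeries.single (((-o).toNat : ℕ) : ℤ) (1 : R) * e
        = HahnSeries.single (((-o).toNat : ℕ) : ℤ) (1 : R) *
            (HahnSeries.single o 1 * HahnSeries.ofPowerSeries ℤ R pp) := by rw [key]
      _ = HahnSeries.single ((((-o).toNat : ℕ) : ℤ) + o) (1 : R) *
            HahnSeries.ofPowerSeries ℤ R pp := by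
          rw [← mul_assoc, HahnSeries.single_mul_single, one_mul]
      _ = _ := by rw [map_mul, HahnSeries.ofPowerSeries_X_pow, hm]
  have hT : HahnSeries.ofPowerSeries ℤ R (X ^ N) = HahnSeries.single (N : ℤ) (1 : R) :=
    HahnSeries.ofPowerSeries_X_pow N
  have he2 : e * e = e := he
  have hpp : p * p = X ^ N * p := by
    apply HahnSeries.ofPowerSeries_injective (Γ := ℤ)
    rw [map_mul, map_mul, ← hp, hT]
    calc HahnSeries.single (N : ℤ) (1 : R) * e * (HahnSeries.single (N : ℤ) (1 : R) * e)
        = HahnSeries.single (N : ℤ) (1 : R) * (HahnSeries.single (N : ℤ) (1 : R) * (e * e)) := by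
          ring
      _ = _ := by rw [he2]
  have hnil := coeff_nilpotent p N hpp
  set q : PowerSeries R := PowerSeries.mk fun k => coeff (k + N) p with hq
  set pm : PowerSeries R := ((trunc N p : Polynomial R) : PowerSeries R) with hpm
  have hdecomp : p = pm + X ^ N * q := by
    ext k
    rw [map_add, coeff_X_pow_mul', hpm, Polynomial.coeff_coe, coeff_trunc, hq]
    by_cases h1 : k < N
    · rw [if_pos h1, if_neg (not_le.mpr h1), add_zero]
    · rw [if_neg h1, if_pos (not_lt.mp h1), zero_add, coeff_mk]
      have h2 : k - N + N = k := by omega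
      rw [h2]
  have hpmnil : IsNilpotent pm := by
    rw [hpm, ← Polynomial.coeToPowerSeries.ringHom_apply]
    apply IsNilpotent.map
    rw [Polynomial.isNilpotent_iff]
    intro i
    rw [coeff_trunc]
    split_ifs with h
    · exact hnil i h
    · exact IsNilpotent.zero
  set Tinv : LaurentSeries R := HahnSeries.single (-(N : ℤ)) (1 : R) with hTinv
  have hTT : Tinv * HahnSeries.single (N : ℤ) (1 : R) = 1 := by
    rw [hTinv, HahnSeries.single_mul_single, neg_add_cancel, one_mul]; rfl
  set ν : LaurentSeries R := Tinv * HahnSeries.ofPowerSeries ℤ R pm with hνdef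
  have he_eq : e = ν + HahnSeries.ofPowerSeries ℤ R q := by
    have h1 : e = Tinv * (HahnSeries.single (N : ℤ) (1 : R) * e) := by
      rw [← mul_assoc, hTT, one_mul]
    rw [h1, hp, hdecomp, map_add, map_mul, hT, mul_add, ← mul_assoc, hTT, one_mul]
  have hν : IsNilpotent ν :=
    (Commute.all _ _).isNilpotent_mul_left (hpmnil.map (HahnSeries.ofPowerSeries ℤ R))
  have hq_nil : IsNilpotent (q * q - q) := by
    have h1 : HahnSeries.ofPowerSeries ℤ R (q * q - q) = ν * (ν + 1 - 2 * e) := by
      have hq_e : HahnSeries.ofPowerSeries ℤ R q = e - ν := by rw [he_eq]; ring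
      rw [map_sub, map_mul, hq_e]; linear_combination he2
    have h2 : IsNilpotent (HahnSeries.ofPowerSeries ℤ R (q * q - q)) := by
      rw [h1]; exact (Commute.all _ _).isNilpotent_mul_right hν
    obtain ⟨n, hn⟩ := h2
    refine ⟨n, ?_⟩
    apply HahnSeries.ofPowerSeries_injective (Γ := ℤ)
    rw [map_pow, hn, map_zero]
  set c0 := constantCoeff q with hc0def
  have hc0 : IsNilpotent (c0 * c0 - c0) := by
    have := hq_nil.map (constantCoeff (R := R))
    simpa using this
  obtain ⟨r, hr, hrc⟩ : ∃ r : R, IsIdempotentElem r ∧ IsNilpotent (r - c0) := by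
    have := exists_isIdempotentElem_eq_of_ker_isNilpotent (Ideal.Quotient.mk (nilradical R)) ?_
      (Ideal.Quotient.mk _ c0) ⟨c0, rfl⟩ ?_
    · obtain ⟨r, hr, hr2⟩ := this
      refine ⟨r, hr, ?_⟩
      rw [← mem_nilradical, ← Ideal.Quotient.eq]
      exact hr2
    · intro x hx
      rw [RingHom.mem_ker, Ideal.Quotient.eq_zero_iff_mem, mem_nilradical] at hx
      exact hx
    · show Ideal.Quotient.mk _ c0 * Ideal.Quotient.mk _ c0 = Ideal.Quotient.mk _ c0
      rw [← map_mul, Ideal.Quotient.eq, mem_nilradical]
      exact hc0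
  refine ⟨r, hr, ?_⟩
  symm
  have hCr : IsIdempotentElem (HahnSeries.C r : LaurentSeries R) := by
    show HahnSeries.C r * HahnSeries.C r = HahnSeries.C r
    rw [← map_mul, hr.eq]
  apply idem_eq_of_unit e (HahnSeries.C r) he hCr
  set w : PowerSeries R := q + PowerSeries.C r - 1 with hw
  have hwunit : IsUnit w := by
    rw [PowerSeries.isUnit_iff_constantCoeff]
    have h1 : constantCoeff w = (2 * r - 1) + (c0 - r) := by
      rw [hw]; simp only [map_add, map_sub, constantCoeff_C, map_one]; ring
    rw [h1]
    have hu : IsUnit (2 * r - 1) := by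
      apply IsUnit.of_mul_eq_one (2 * r - 1)
      have : r * r = r := hr
      linear_combination 4 * this
    have hn : IsNilpotent (c0 - r) := by
      have := hrc.neg; rwa [neg_sub] at this
    exact hn.isUnit_add_left_of_commute hu (Commute.all _ _)
  have heq : e + HahnSeries.C r - 1 = HahnSeries.ofPowerSeries ℤ R w + ν := by
    rw [hw, map_sub, map_add, HahnSeries.ofPowerSeries_C, map_one, he_eq]; ring
  rw [heq]
  exact hν.isUnit_add_left_of_commute (hwunit.map _) (Commute.all _ _)

end Groth.Agent.Helper7.LaurIdem
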