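import Mathlib
import Groth.Prelude
import Groth.Agent.Helper2.PairHensProps
import Groth.Agent.Helper7.LaurIdem

set_option autoImplicit false
universe u

namespace Groth.Agent.Helper7.HensLaurIdem
open Polynomial

variable {R : Type u} [CommRing R] {B : Type u} [CommRing B] [Algebra R[X] B]

theorem map_span_X :
    (Ideal.span {(X : R[X])}).map (Polynomial.coeToPowerSeries.ringHom (R := R)) =
      Ideal.span {(PowerSeries.X : PowerSeries R)} := by
  rw [Ideal.map_span, Set.image_singleton]
  congr 2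
  exact Polynomial.coe_X

/-- the comparison map to power series -/
theorem exists_psi (hB : Hens2.IsPairHenselization R[X] (Ideal.span {(X : R[X])}) B) :
    ∃ ψ : B →+* PowerSeries R, ∀ a : R[X], ψ (algebraMap R[X] B a) = (a : PowerSeries R) := by
  obtain ⟨ψ, hψ, -⟩ := hB.2 (PowerSeries R) (Ideal.span {(PowerSeries.X : PowerSeries R)})
    (Polynomial.coeToPowerSeries.ringHom (R := R)) inferInstance map_span_X.le
  exact ⟨ψ, fun a => congr($hψ a)⟩

theorem map_pow_eq (n : ℕ) :
    ((Ideal.span {(X : R[X])}) ^ n).map (algebraMap R[X] B) =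
      Ideal.span {(algebraMap R[X] B X) ^ n} := by
  rw [Ideal.span_singleton_pow, Ideal.map_span, Set.image_singleton, map_pow]

/-- the kernel of the comparison map is contained in all powers of `t` -/
theorem ker_psi_le (hB : Hens2.IsPairHenselization R[X] (Ideal.span {(X : R[X])}) B)
    (ψ : B →+* PowerSeries R) (hψ : ∀ a : R[X], ψ (algebraMap R[X] B a) = (a : PowerSeries R))
    (b : B) (hb : ψ b = 0) (n : ℕ) : ∃ w : B, b = (algebraMap R[X] B X) ^ n * w := by
  obtain ⟨a, ha⟩ := Groth.Agent.Helper2.PairHens.exists_sub_mem_pow hB n b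
  rw [map_pow_eq, Ideal.mem_span_singleton'] at ha
  obtain ⟨w', hw'⟩ := ha
  have h1 : (a : PowerSeries R) = - (PowerSeries.X ^ n * ψ w') := by
    have h2 := congrArg ψ hw'
    rw [map_mul, map_pow, hψ, Polynomial.coe_X, map_sub, hb, hψ, zero_sub] at h2
    rw [mul_comm, h2, neg_neg]
  have h3 : X ^ n ∣ a := by
    rw [Polynomial.X_pow_dvd_iff]
    intro d hd
    have h4 := congrArg (PowerSeries.coeff d) h1
    rw [Polynomial.coeff_coe, map_neg, PowerSeries.coeff_X_pow_mul', if_neg (by omega), neg_zero] at h4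
    exact h4
  obtain ⟨a', rfl⟩ := h3
  refine ⟨w' + algebraMap R[X] B a', ?_⟩
  rw [map_mul, map_pow] at hw'
  linear_combination (-1 : B) * hw'

theorem t_mem_jacobson (hB : Hens2.IsPairHenselization R[X] (Ideal.span {(X : R[X])}) B) :
    algebraMap R[X] B X ∈ Ideal.jacobson (⊥ : Ideal B) :=
  hB.1.jac (Ideal.mem_map_of_mem _ (Ideal.subset_span rfl))

/-- key algebraic step -/
theorem eq_zero_of_idem (hB : Hens2.IsPairHenselization R[X] (Ideal.span {(X : R[X])}) B)
    (b w : B) (l s : ℕ) (hbw : b = (algebraMap R[X] B X) ^ (l + 1) * w)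
    (hidem : (algebraMap R[X] B X) ^ s * (b * b - (algebraMap R[X] B X) ^ l * b) = 0) :
    (algebraMap R[X] B X) ^ (s + l) * b = 0 := by
  set t := algebraMap R[X] B X with ht
  have hu : IsUnit (t * (-w) + 1) := (Ideal.mem_jacobson_bot.mp (t_mem_jacobson hB)) (-w)
  have h1 : t ^ (s + 2 * l + 1) * w * (t * (-w) + 1) = 0 := by
    rw [hbw] at hidem
    have : t ^ (s + 2 * l + 1) * w * (t * (-w) + 1) =
        - (t ^ s * (t ^ (l + 1) * w * (t ^ (l + 1) * w) - t ^ l * (t ^ (l + 1) * w))) := by
      ring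
    rw [this, hidem, neg_zero]
  have h2 : t ^ (s + 2 * l + 1) * w = 0 := (hu.mul_left_eq_zero).mp h1
  rw [hbw]
  have : t ^ (s + l) * (t ^ (l + 1) * w) = t ^ (s + 2 * l + 1) * w := by ring
  rw [this, h2]

end Groth.Agent.Helper7.HensLaurIdem
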