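import Mathlib
import Groth.Prelude
import Groth.Agent.Helper7.HensLaurIdem

set_option autoImplicit false
universe u

namespace Groth.Agent.Helper7.HensLaurIdem
open Polynomial

variable {R : Type u} [CommRing R] {B : Type u} [CommRing B] [Algebra R[X] B]

local notation "𝔱" => (algebraMap (Polynomial R) B Polynomial.X)

theorem isUnit_single_one : IsUnit (HahnSeries.single (1 : ℤ) (1 : R)) := by
  refine IsUnit.of_mul_eq_one (HahnSeries.single (-1 : ℤ) (1 : R)) ?_
  rw [HahnSeries.single_mul_single]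
  simp

/-- an idempotent of `B[1/t]` killed by the comparison map is zero -/
theorem idem_eq_zero (hB : Hens2.IsPairHenselization R[X] (Ideal.span {(X : R[X])}) B)
    (ψ : B →+* PowerSeries R) (hψ : ∀ a : R[X], ψ (algebraMap R[X] B a) = (a : PowerSeries R))
    (ψ' : Localization.Away (algebraMap R[X] B X) →+* LaurentSeries R)
    (hψ' : ∀ b, ψ' (algebraMap B (Localization.Away (algebraMap R[X] B X)) b) =
      HahnSeries.ofPowerSeries ℤ R (ψ b))
    (E : Localization.Away (algebraMap R[X] B X)) (hE : E * E = E) (h0 : ψ' E = 0) : E = 0 := by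
  obtain ⟨l, b, hb⟩ := IsLocalization.Away.surj 𝔱 E
  have hτ : IsUnit (algebraMap B (Localization.Away 𝔱) 𝔱) := IsLocalization.Away.algebraMap_isUnit 𝔱
  -- ψ b = 0
  have hψb : ψ b = 0 := by
    apply HahnSeries.ofPowerSeries_injective (Γ := ℤ)
    rw [← hψ', ← hb, map_mul, h0, zero_mul, map_zero]
  -- idempotency downstairs
  have h1 : algebraMap B (Localization.Away 𝔱) (b * b) =
      algebraMap B (Localization.Away 𝔱) (𝔱 ^ l * b) := by
    rw [map_mul, map_mul, map_pow, ← hb]
    linear_combination ((algebraMap B (Localization.Away 𝔱) 𝔱) ^ l *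
      (algebraMap B (Localization.Away 𝔱) 𝔱) ^ l) * hE
  obtain ⟨⟨_, s, rfl⟩, hs⟩ := (IsLocalization.eq_iff_exists (Submonoid.powers 𝔱) _).mp h1
  have hidem : 𝔱 ^ s * (b * b - 𝔱 ^ l * b) = 0 := by
    simp only at hs
    rw [mul_sub, hs, sub_self]
  obtain ⟨w, hw⟩ := ker_psi_le hB ψ hψ b hψb (l + 1)
  have h2 := eq_zero_of_idem hB b w l s hw hidem
  have h3 : algebraMap B (Localization.Away 𝔱) b = 0 := by
    have := congrArg (algebraMap B (Localization.Away 𝔱)) h2
    rw [map_mul, map_pow, map_zero] at this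
    exact ((hτ.pow (s + l)).mul_right_eq_zero).mp this
  rw [h3] at hb
  exact ((hτ.pow l).mul_left_eq_zero).mp hb

theorem main (hB : Hens2.IsPairHenselization R[X] (Ideal.span {(X : R[X])}) B)
    (e : Localization.Away (algebraMap R[X] B X)) (he : IsIdempotentElem e) :
    ∃! r : R, IsIdempotentElem r ∧
      algebraMap B (Localization.Away (algebraMap R[X] B X)) (algebraMap R[X] B (C r)) = e := by
  obtain ⟨ψ, hψ⟩ := exists_psi hB
  let g : B →+* LaurentSeries R := (HahnSeries.ofPowerSeries ℤ R).comp ψ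
  have hgt : IsUnit (g 𝔱) := by
    show IsUnit (HahnSeries.ofPowerSeries ℤ R (ψ 𝔱))
    rw [hψ, Polynomial.coe_X, HahnSeries.ofPowerSeries_X]
    exact isUnit_single_one
  let ψ' : Localization.Away 𝔱 →+* LaurentSeries R := IsLocalization.Away.lift 𝔱 hgt
  have hψ' : ∀ b, ψ' (algebraMap B (Localization.Away 𝔱) b) = HahnSeries.ofPowerSeries ℤ R (ψ b) :=
    fun b => IsLocalization.Away.lift_eq 𝔱 hgt b
  have hC : ∀ r : R, ψ' (algebraMap B (Localization.Away 𝔱) (algebraMap R[X] B (C r))) =
      HahnSeries.C r := by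
    intro r
    rw [hψ', hψ, Polynomial.coe_C, HahnSeries.ofPowerSeries_C]
  have hidem' : IsIdempotentElem (ψ' e) := he.map ψ'
  obtain ⟨r, ⟨hr, hre⟩, -⟩ := Groth.Agent.Helper7.LaurIdem.result (ψ' e) hidem'
  have key : ∀ r' : R, IsIdempotentElem r' → HahnSeries.C r' = ψ' e →
      algebraMap B (Localization.Away 𝔱) (algebraMap R[X] B (C r')) = e := by
    intro r' hr' hr'e
    set c := algebraMap B (Localization.Away 𝔱) (algebraMap R[X] B (C r')) with hc
    have hcc : c * c = c := by
      rw [hc, ← map_mul, ← map_mul, ← map_mul, hr'.eq]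
    have hee : e * e = e := he
    have hψc : ψ' c = ψ' e := by rw [hc, hC, hr'e]
    have hEE : (e + c - 2 * e * c) * (e + c - 2 * e * c) = e + c - 2 * e * c := by
      linear_combination (1 + 4 * c * c - 4 * c) * hee + hcc
    have hE0 : ψ' (e + c - 2 * e * c) = 0 := by
      have h1 : ψ' e * ψ' e = ψ' e := by rw [← map_mul, hee]
      rw [map_sub, map_add, map_mul, map_mul, hψc, map_ofNat]
      linear_combination (-2 : LaurentSeries R) * h1
    have hE := idem_eq_zero hB ψ hψ ψ' hψ' _ hEE hE0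
    have hdd : (c - e) * (c - e) = 0 := by
      rw [← hE]
      linear_combination hee + hcc
    have hd3 : (c - e) * (c - e) * (c - e) = c - e := by
      linear_combination (c + 1 - 3 * e) * hcc + (3 * c - e - 1) * hee
    rw [hdd, zero_mul] at hd3
    exact sub_eq_zero.mp hd3.symm
  refine ⟨r, ⟨hr, key r hr hre⟩, ?_⟩
  rintro r' ⟨hr', hr'e⟩
  apply HahnSeries.C_injective (Γ := ℤ)
  rw [← hC r', hr'e, ← hre]

end Groth.Agent.Helper7.HensLaurIdem
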