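import Mathlib
import Groth.Prelude.Def_GrSyz
import Groth.Agent.Helper7.HilbFn2

set_option autoImplicit false

namespace Groth.Agent.Helper7.HilbFn

universe u

section
variable {R : Type u} [CommRing R] {σ' : Type u} [SetLike σ' R] [AddSubgroupClass σ' R]
  {𝒜 : ℤ → σ'} {M : Type u} [AddCommGroup M] [Module R M] {τ : Type u} [SetLike τ M]
  [AddSubgroupClass τ M] {ℳ : ℤ → τ} [DirectSum.Decomposition ℳ] [SetLike.GradedSMul 𝒜 ℳ]
  (F : GrSyz.FreeRes 𝒜 ℳ)

theorem sum_deg_eq_finsum (i : ℕ) (g : ℤ → ℤ) :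
    ∑ b : Fin (F.rk i), g (F.deg i b) = ∑ᶠ j : ℤ, (F.betti i j : ℤ) * g j := by
  classical
  rw [finsum_eq_sum_of_support_subset (s := Finset.univ.image (F.deg i))]
  · rw [← Finset.sum_fiberwise_of_maps_to (s := Finset.univ) (t := Finset.univ.image (F.deg i))
      (g := F.deg i) (fun b _ => Finset.mem_image_of_mem _ (Finset.mem_univ b))]
    refine Finset.sum_congr rfl fun j _ => ?_
    rw [Finset.sum_congr rfl (g := fun _ => g j) (fun b hb => by rw [(Finset.mem_filter.1 hb).2])]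
    rw [Finset.sum_const, GrSyz.FreeRes.betti, nsmul_eq_mul]
  · intro j hj
    rw [Function.mem_support] at hj
    rw [Finset.coe_image, Set.mem_image]
    by_contra hcon
    apply hj
    have : F.betti i j = 0 := by
      rw [GrSyz.FreeRes.betti, Finset.card_eq_zero, Finset.filter_eq_empty_iff]
      intro b _ hb
      exact hcon ⟨b, by simp, hb⟩
    rw [this]; simp

theorem betti_support_finite (i : ℕ) (g : ℤ → ℤ) :
    (Function.support fun j : ℤ => (F.betti i j : ℤ) * g j).Finite := by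
  classical
  refine Set.Finite.subset (Finset.univ.image (F.deg i)).finite_toSet ?_
  intro j hj
  rw [Function.mem_support] at hj
  rw [Finset.coe_image, Set.mem_image]
  by_contra hcon
  apply hj
  have : F.betti i j = 0 := by
    rw [GrSyz.FreeRes.betti, Finset.card_eq_zero, Finset.filter_eq_empty_iff]
    intro b _ hb
    exact hcon ⟨b, by simp, hb⟩
  rw [this]; simp

theorem alt_sum_eq_finsum (m : ℕ) (g : ℤ → ℤ) :
    ∑ i ∈ Finset.range (m + 1), (-1 : ℤ) ^ i * ∑ b : Fin (F.rk i), g (F.deg i b) =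
      ∑ᶠ j : ℤ, (∑ i ∈ Finset.range (m + 1), (-1 : ℤ) ^ i * (F.betti i j : ℤ)) * g j := by
  have h1 : ∀ j : ℤ, (∑ i ∈ Finset.range (m + 1), (-1 : ℤ) ^ i * (F.betti i j : ℤ)) * g j =
      ∑ i ∈ Finset.range (m + 1), (-1 : ℤ) ^ i * ((F.betti i j : ℤ) * g j) := by
    intro j
    rw [Finset.sum_mul]
    refine Finset.sum_congr rfl fun i _ => by ring
  simp_rw [h1]
  rw [finsum_sum_comm]
  · refine Finset.sum_congr rfl fun i _ => ?_
    rw [sum_deg_eq_finsum, mul_finsum]
  · intro i _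
    refine Set.Finite.subset (betti_support_finite F i g) ?_
    intro j hj
    rw [Function.mem_support] at hj ⊢
    intro h0
    apply hj
    rw [h0, mul_zero]

theorem betti_eq_sum (i : ℕ) (j : ℤ) :
    (F.betti i j : ℤ) = ∑ b : Fin (F.rk i), (if F.deg i b = j then 1 else 0 : ℤ) := by
  classical
  rw [GrSyz.FreeRes.betti, Finset.card_filter]
  push_cast
  rfl

end

theorem hilbert_betti (k : Type u) [Field k] (r : ℕ)
    (M : Type u) [AddCommGroup M] [Module k M] [Module (MvPolynomial (Fin (r + 1)) k) M]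
    [IsScalarTower k (MvPolynomial (Fin (r + 1)) k) M]
    (ℳ : ℤ → Submodule k M) [DirectSum.Decomposition ℳ] [SetLike.GradedSMul (GrSyz.stdGr k (Fin (r + 1))) ℳ]
    (F : GrSyz.FreeRes (GrSyz.stdGr k (Fin (r + 1))) ℳ) (m : ℕ) (hF : F.HasLengthLE m) :
    (∀ d : ℤ, (Module.finrank k ↥(ℳ d) : ℤ) =
        ∑ᶠ j : ℤ, (∑ i ∈ Finset.range (m + 1), (-1 : ℤ) ^ i * (F.betti i j : ℤ)) *
          (if j ≤ d then ((Nat.choose (r + (d - j).toNat) r : ℕ) : ℤ) else 0)) ∧
      ∀ j : ℤ, (∑ i ∈ Finset.range (m + 1), (-1 : ℤ) ^ i * (F.betti i j : ℤ)) =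
        (Module.finrank k ↥(ℳ j) : ℤ) -
          ∑ᶠ n : ℤ, (if n < j then (∑ i ∈ Finset.range (m + 1), (-1 : ℤ) ^ i * (F.betti i n : ℤ)) * ((Nat.choose (r + (j - n).toNat) r : ℕ) : ℤ) else 0) := by
  have part1 : ∀ d : ℤ, (Module.finrank k ↥(ℳ d) : ℤ) =
        ∑ᶠ j : ℤ, (∑ i ∈ Finset.range (m + 1), (-1 : ℤ) ^ i * (F.betti i j : ℤ)) *
          (if j ≤ d then ((Nat.choose (r + (d - j).toNat) r : ℕ) : ℤ) else 0) := by
    intro d
    rw [hilbert_std k r M ℳ F m hF d]
    exact alt_sum_eq_finsum F m (fun a => if a ≤ d then ((Nat.choose (r + (d - a).toNat) r : ℕ) : ℤ) else 0)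
  refine ⟨part1, ?_⟩
  intro j
  have h2 : ∀ n : ℤ, (if n < j then (∑ i ∈ Finset.range (m + 1), (-1 : ℤ) ^ i * (F.betti i n : ℤ)) * ((Nat.choose (r + (j - n).toNat) r : ℕ) : ℤ) else 0) =
      (∑ i ∈ Finset.range (m + 1), (-1 : ℤ) ^ i * (F.betti i n : ℤ)) *
        (if n < j then ((Nat.choose (r + (j - n).toNat) r : ℕ) : ℤ) else 0) := by
    intro n; split_ifs <;> simp
  simp_rw [h2]
  rw [← alt_sum_eq_finsum F m (fun a => if a < j then ((Nat.choose (r + (j - a).toNat) r : ℕ) : ℤ) else 0),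
    hilbert_std k r M ℳ F m hF j, ← Finset.sum_sub_distrib]
  refine Finset.sum_congr rfl fun i _ => ?_
  rw [← mul_sub, ← Finset.sum_sub_distrib, betti_eq_sum]
  congr 1
  refine Finset.sum_congr rfl fun b _ => ?_
  rcases lt_trichotomy (F.deg i b) j with h | h | h
  · rw [if_neg (by omega), if_pos (by omega), if_pos h]; simp
  · rw [if_pos h, if_pos (by omega), if_neg (by omega), h]; simp
  · rw [if_neg (by omega), if_neg (by omega), if_neg (by omega)]; simp

end Groth.Agent.Helper7.HilbFn
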