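import Mathlib
import Groth.Agent.Helper7.DualFlat
import Groth.Prelude.Def_W4c6puncthilbintroLift

set_option linter.style.haveILetI false
set_option linter.unusedSectionVars false
set_option autoImplicit false

universe u

attribute [local instance] W4c6puncthilbintro.dualAlgebra

namespace Groth.Agent.Helper7.HilbTan

open TensorProduct DualNumber TrivSqZeroExt W4c6puncthilbintro Groth.Agent.Helper7.DualFlat

section basics

variable (A : Type u) [CommRing A] (R : Type u) [CommRing R] [Algebra A R]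

theorem algebraMap_dual_apply (s : DualNumber A) :
    algebraMap (DualNumber A) (DualNumber R) s = dualMap A R s := rfl

instance isScalarTower_dual : IsScalarTower A (DualNumber A) (DualNumber R) :=
  IsScalarTower.of_algebraMap_eq (fun (a : A) => by
    rw [algebraMap_dual_apply]
    change _ = dualMap A R (inl a)
    rw [dualMap_inl])

variable {R} (J : Ideal (DualNumber R))

instance isScalarTower_quot : IsScalarTower A (DualNumber A) (DualNumber R ⧸ J) := by
  refine ⟨fun a s x => ?_⟩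
  obtain ⟨t, rfl⟩ := Ideal.Quotient.mk_surjective x
  change Ideal.Quotient.mk J ((a • s) • t) = Ideal.Quotient.mk J (a • (s • t))
  rw [smul_assoc]

theorem eps_smul_mk (t : DualNumber R) :
    (ε : DualNumber A) • (Ideal.Quotient.mk J t) = Ideal.Quotient.mk J ((ε : DualNumber R) * t) := by
  change Ideal.Quotient.mk J ((ε : DualNumber A) • t) = _
  rw [Algebra.smul_def, algebraMap_dual_apply, dualMap_eps]

theorem eps_mul_eq (t : DualNumber R) : (ε : DualNumber R) * t = inr t.fst :=
  eps_mul' R t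

theorem eq_inl_add_inr (t : DualNumber R) : t = inl t.fst + inr t.snd :=
  (TrivSqZeroExt.inl_fst_add_inr_snd_eq t).symm

end basics

section part1

variable (A : Type u) [CommRing A] {R : Type u} [CommRing R] [Algebra A R] (I : Ideal R)
  (φ : I →ₗ[R] R ⧸ I)

theorem mem_liftIdeal (t : DualNumber R) :
    t ∈ liftIdeal I φ ↔ ∃ h : t.fst ∈ I, Ideal.Quotient.mk I t.snd = φ ⟨t.fst, h⟩ := Iff.rfl

theorem exists_mem_liftIdeal (a : R) (ha : a ∈ I) :
    ∃ b : R, (inl a + inr b : DualNumber R) ∈ liftIdeal I φ := by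
  obtain ⟨b, hb⟩ := Ideal.Quotient.mk_surjective (φ ⟨a, ha⟩)
  refine ⟨b, ?_⟩
  rw [mem_liftIdeal]
  have h1 : (inl a + inr b : DualNumber R).fst = a := by simp
  have h2 : (inl a + inr b : DualNumber R).snd = b := by simp
  refine ⟨by rw [h1]; exact ha, ?_⟩
  rw [h2, hb]
  congr 1
  exact Subtype.ext h1.symm

theorem map_fst_liftIdeal : Ideal.map (TrivSqZeroExt.fstHom A R R) (liftIdeal I φ) = I := by
  apply le_antisymm
  · rw [Ideal.map_le_iff_le_comap]
    intro t ht
    obtain ⟨h, -⟩ := (mem_liftIdeal I φ t).mp ht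
    exact h
  · intro a ha
    obtain ⟨b, hb⟩ := exists_mem_liftIdeal I φ a ha
    have := Ideal.mem_map_of_mem (TrivSqZeroExt.fstHom A R R) hb
    simpa using this

/-- the projection `R[ε]/J_φ → R/I` -/
noncomputable def piMap : (DualNumber R ⧸ liftIdeal I φ) →ₗ[A] R ⧸ I :=
  (Ideal.Quotient.liftₐ (liftIdeal I φ)
    ((Ideal.Quotient.mkₐ A I).comp (TrivSqZeroExt.fstHom A R R)) (fun t ht => by
      obtain ⟨h, -⟩ := (mem_liftIdeal I φ t).mp ht
      rw [AlgHom.comp_apply, Ideal.Quotient.mkₐ_eq_mk, Ideal.Quotient.eq_zero_iff_mem]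
      exact h)).toLinearMap

theorem piMap_mk (t : DualNumber R) :
    piMap A I φ (Ideal.Quotient.mk _ t) = Ideal.Quotient.mk I t.fst := rfl

theorem piMap_surjective : Function.Surjective (piMap A I φ) := by
  intro x
  obtain ⟨r, rfl⟩ := Ideal.Quotient.mk_surjective x
  exact ⟨Ideal.Quotient.mk _ (inl r), by rw [piMap_mk]; simp⟩

theorem piMap_eq_zero_iff (m : DualNumber R ⧸ liftIdeal I φ) :
    piMap A I φ m = 0 ↔ ∃ m', m = (ε : DualNumber A) • m' := by
  obtain ⟨t, rfl⟩ := Ideal.Quotient.mk_surjective m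
  rw [piMap_mk, Ideal.Quotient.eq_zero_iff_mem]
  constructor
  · intro h
    obtain ⟨b, hb⟩ := exists_mem_liftIdeal I φ t.fst h
    refine ⟨Ideal.Quotient.mk _ (inl (t.snd - b)), ?_⟩
    rw [eps_smul_mk, Ideal.Quotient.eq, eps_mul_eq]
    have : t - inr (inl (t.snd - b) : DualNumber R).fst = inl t.fst + inr b := by
      apply TrivSqZeroExt.ext <;> simp
    rw [this]
    exact hb
  · rintro ⟨m', hm'⟩
    obtain ⟨t', rfl⟩ := Ideal.Quotient.mk_surjective m'
    rw [eps_smul_mk, Ideal.Quotient.eq, eps_mul_eq] at hm'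
    obtain ⟨h, -⟩ := (mem_liftIdeal I φ _).mp hm'
    simpa using h

theorem eps_smul_eq_zero (m : DualNumber R ⧸ liftIdeal I φ)
    (h : (ε : DualNumber A) • m = 0) : ∃ m', m = (ε : DualNumber A) • m' := by
  rw [← piMap_eq_zero_iff]
  obtain ⟨t, rfl⟩ := Ideal.Quotient.mk_surjective m
  rw [eps_smul_mk, Ideal.Quotient.eq_zero_iff_mem, eps_mul_eq] at h
  obtain ⟨h1, h2⟩ := (mem_liftIdeal I φ _).mp h
  rw [piMap_mk]
  have h3 : (⟨(inr t.fst : DualNumber R).fst, h1⟩ : I) = 0 := by
    apply Subtype.ext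
    simp
  rw [h3, map_zero] at h2
  simpa using h2

theorem flat_liftIdeal [Module.Flat A (R ⧸ I)] :
    Module.Flat (DualNumber A) (DualNumber R ⧸ liftIdeal I φ) :=
  flat_of_dual A _ (R ⧸ I) (piMap A I φ) (piMap_surjective A I φ) (piMap_eq_zero_iff A I φ)
    (eps_smul_eq_zero A I φ)

end part1

section part2

variable {R : Type u} [CommRing R] (I : Ideal R)

theorem liftIdeal_injective : Function.Injective (liftIdeal I) := by
  intro φ ψ h
  apply LinearMap.ext
  rintro ⟨a, ha⟩
  obtain ⟨b, hb⟩ := exists_mem_liftIdeal I φ a ha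
  have hb' : (inl a + inr b : DualNumber R) ∈ liftIdeal I ψ := h ▸ hb
  obtain ⟨h1, h2⟩ := (mem_liftIdeal I φ _).mp hb
  obtain ⟨h1', h2'⟩ := (mem_liftIdeal I ψ _).mp hb'
  have e : (⟨(inl a + inr b : DualNumber R).fst, h1⟩ : I) = ⟨a, ha⟩ := by
    apply Subtype.ext; simp
  have e' : (⟨(inl a + inr b : DualNumber R).fst, h1'⟩ : I) = ⟨a, ha⟩ := by
    apply Subtype.ext; simp
  rw [e] at h2
  rw [e'] at h2'
  rw [← h2, ← h2']

end part2

section part3

variable (A : Type u) [CommRing A] {R : Type u} [CommRing R] [Algebra A R] (I : Ideal R)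
  (J : Ideal (DualNumber R)) [Module.Flat (DualNumber A) (DualNumber R ⧸ J)]
  (hJ : Ideal.map (TrivSqZeroExt.fstHom A R R) J = I)

include hJ in
theorem fst_mem_of_mem (t : DualNumber R) (ht : t ∈ J) : t.fst ∈ I := by
  rw [← hJ]
  exact Ideal.mem_map_of_mem (TrivSqZeroExt.fstHom A R R) ht

include hJ in
theorem exists_mem_of_mem (a : R) (ha : a ∈ I) : ∃ b : R, (inl a + inr b : DualNumber R) ∈ J := by
  rw [← hJ] at ha
  obtain ⟨t, ht, rfl⟩ := (Ideal.mem_map_iff_of_surjective (TrivSqZeroExt.fstHom A R R)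
    (fun r => ⟨inl r, by simp⟩)).mp ha
  refine ⟨t.snd, ?_⟩
  have : (inl ((TrivSqZeroExt.fstHom A R R) t) + inr t.snd : DualNumber R) = t := by
    apply TrivSqZeroExt.ext <;> simp
  rw [this]
  exact ht

include hJ in
theorem inr_mem_iff (b : R) : (inr b : DualNumber R) ∈ J ↔ b ∈ I := by
  constructor
  · intro h
    have h0 : (ε : DualNumber A) • (Ideal.Quotient.mk J (inl b)) = 0 := by
      rw [eps_smul_mk, Ideal.Quotient.eq_zero_iff_mem, eps_mul_eq]
      simpa using h
    obtain ⟨m', hm'⟩ := exists_eps_smul_of_flat A (DualNumber R ⧸ J) _ h0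
    obtain ⟨t', rfl⟩ := Ideal.Quotient.mk_surjective m'
    rw [eps_smul_mk, Ideal.Quotient.eq, eps_mul_eq] at hm'
    have := fst_mem_of_mem A I J hJ _ hm'
    simpa using this
  · intro h
    obtain ⟨c, hc⟩ := exists_mem_of_mem A I J hJ b h
    have := J.mul_mem_left (ε : DualNumber R) hc
    rw [eps_mul_eq] at this
    simpa using this

include hJ in
theorem exists_eq_liftIdeal : ∃ φ : I →ₗ[R] R ⧸ I, J = liftIdeal I φ := by
  classical
  choose b hb using fun a : I => exists_mem_of_mem A I J hJ a.1 a.2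
  have huniq : ∀ (a : R) (c c' : R), (inl a + inr c : DualNumber R) ∈ J →
      (inl a + inr c' : DualNumber R) ∈ J → Ideal.Quotient.mk I c = Ideal.Quotient.mk I c' := by
    intro a c c' h h'
    rw [Ideal.Quotient.eq, ← inr_mem_iff A I J hJ]
    have := J.sub_mem h h'
    have e : (inl a + inr c : DualNumber R) - (inl a + inr c') = inr (c - c') := by
      apply TrivSqZeroExt.ext <;> simp
    rwa [e] at this
  let φ : I →ₗ[R] R ⧸ I :=
    { toFun := fun a => Ideal.Quotient.mk I (b a)
      map_add' := fun a a' => by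
        apply huniq (a + a' : I).1 _ _ (hb (a + a'))
        have := J.add_mem (hb a) (hb a')
        have e : (inl a.1 + inr (b a) : DualNumber R) + (inl a'.1 + inr (b a')) =
            inl (a + a' : I).1 + inr (b a + b a') := by
          apply TrivSqZeroExt.ext <;> simp
        rwa [e] at this
      map_smul' := fun r a => by
        rw [RingHom.id_apply, Algebra.smul_def, Ideal.Quotient.algebraMap_eq, ← map_mul]
        apply huniq (r • a : I).1 _ _ (hb (r • a))
        have := J.mul_mem_left (inl r : DualNumber R) (hb a)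
        have e : (inl r : DualNumber R) * (inl a.1 + inr (b a)) =
            inl (r • a : I).1 + inr (r * b a) := by
          apply TrivSqZeroExt.ext <;> simp
        rwa [e] at this }
  refine ⟨φ, ?_⟩
  ext t
  rw [mem_liftIdeal]
  constructor
  · intro ht
    have h1 := fst_mem_of_mem A I J hJ t ht
    refine ⟨h1, ?_⟩
    change _ = Ideal.Quotient.mk I (b ⟨t.fst, h1⟩)
    apply huniq t.fst _ _ _ (hb ⟨t.fst, h1⟩)
    rw [← eq_inl_add_inr]
    exact ht
  · rintro ⟨h1, h2⟩
    change _ = Ideal.Quotient.mk I (b ⟨t.fst, h1⟩) at h2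
    rw [Ideal.Quotient.eq, ← inr_mem_iff A I J hJ] at h2
    have := J.add_mem (hb ⟨t.fst, h1⟩) h2
    have e : (inl t.fst + inr (b ⟨t.fst, h1⟩) : DualNumber R) + inr (t.snd - b ⟨t.fst, h1⟩) = t := by
      apply TrivSqZeroExt.ext <;> simp
    rwa [e] at this

end part3

theorem main (A : Type u) [CommRing A] (R : Type u) [CommRing R]
    [Algebra A R] (I : Ideal R) [Module.Flat A (R ⧸ I)] :
    (∀ φ : I →ₗ[R] R ⧸ I,
        Module.Flat (DualNumber A) (DualNumber R ⧸ W4c6puncthilbintro.liftIdeal I φ) ∧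
          Ideal.map (TrivSqZeroExt.fstHom A R R) (W4c6puncthilbintro.liftIdeal I φ) = I) ∧
      Function.Injective (W4c6puncthilbintro.liftIdeal I) ∧
      ∀ J : Ideal (DualNumber R), Module.Flat (DualNumber A) (DualNumber R ⧸ J) →
        Ideal.map (TrivSqZeroExt.fstHom A R R) J = I →
          ∃ φ : I →ₗ[R] R ⧸ I, J = W4c6puncthilbintro.liftIdeal I φ := by
  refine ⟨fun φ => ⟨flat_liftIdeal A I φ, map_fst_liftIdeal A I φ⟩, liftIdeal_injective I, ?_⟩
  intro J hflat hJ
  exact exists_eq_liftIdeal A I J hJ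

end Groth.Agent.Helper7.HilbTan
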