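import Mathlib

set_option autoImplicit false
universe u

namespace Groth.Agent.Helper7.NumSemi

open PowerSeries

variable {k : Type u} [Field k]

/-- successive approximation: if `A` contains elements of every order `≥ N`, every series of order
`≥ N` can be approximated by elements of `A` to any order -/
lemma exists_approx (A : Subalgebra k (PowerSeries k)) (N : ℕ)
    (hN : ∀ n : ℕ, N ≤ n → ∃ a ∈ A, PowerSeries.order a = n)
    (h : PowerSeries k) (hh : (N : ℕ∞) ≤ PowerSeries.order h) :
    ∀ m : ℕ, ∃ g ∈ A, ((N + m : ℕ) : ℕ∞) ≤ PowerSeries.order (h - g) := by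
  intro m
  induction m with
  | zero => exact ⟨0, A.zero_mem, by simpa using hh⟩
  | succ m ih =>
    obtain ⟨g, hg, hord⟩ := ih
    obtain ⟨a, ha, hao⟩ := hN (N + m) (Nat.le_add_right N m)
    have ha0 : coeff (N + m) a ≠ 0 := by
      have h1 : a ≠ 0 := by
        intro h0
        rw [h0, order_zero] at hao
        exact ENat.top_ne_natCast _ hao
      have := coeff_order h1
      rwa [hao, ENat.toNat_natCast] at this
    set b := coeff (N + m) (h - g) with hb
    refine ⟨g + (b / coeff (N + m) a) • a, A.add_mem hg (A.smul_mem ha _), ?_⟩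
    have e : h - (g + (b / coeff (N + m) a) • a) = (h - g) - (b / coeff (N + m) a) • a := by abel
    rw [e]
    apply nat_le_order
    intro i hi
    rw [map_sub, coeff_smul]
    rcases Nat.lt_succ_iff_lt_or_eq.1 (by omega : i < (N + m) + 1) with h1 | h1
    · rw [coeff_of_lt_order i (lt_of_lt_of_le (by exact_mod_cast h1) hord),
        coeff_of_lt_order i (by rw [hao]; exact_mod_cast h1), smul_zero, sub_zero]
    · rw [h1, ← hb, smul_eq_mul, div_mul_cancel₀ _ ha0, sub_self]

lemma mem_of_order_ge (A : Subalgebra k (PowerSeries k))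
    (hcl : ∀ f : PowerSeries k,
      (∀ n : ℕ, ∃ g ∈ A, (n : ℕ∞) ≤ PowerSeries.order (f - g)) → f ∈ A)
    (N : ℕ) (hN : ∀ n : ℕ, N ≤ n → ∃ a ∈ A, PowerSeries.order a = n)
    (h : PowerSeries k) (hh : (N : ℕ∞) ≤ PowerSeries.order h) : h ∈ A := by
  apply hcl
  intro n
  obtain ⟨g, hg, hord⟩ := exists_approx A N hN h hh n
  refine ⟨g, hg, le_trans ?_ hord⟩
  exact_mod_cast Nat.le_add_left n N

/-- S15016 -/
theorem conductor_iff (A : Subalgebra k (PowerSeries k))
    (hcl : ∀ f : PowerSeries k,
      (∀ n : ℕ, ∃ g ∈ A, (n : ℕ∞) ≤ PowerSeries.order (f - g)) → f ∈ A)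
    (Γ : Set ℕ) (hΓ : ∀ n : ℕ, n ∈ Γ ↔ ∃ f ∈ A, PowerSeries.order f = n) (c : ℕ)
    (hc : ∀ n : ℕ, c ≤ n → n ∈ Γ) (hc0 : c ≠ 0) (hc1 : c - 1 ∉ Γ) (f : PowerSeries k) :
    (∀ g : PowerSeries k, g * f ∈ A) ↔ (c : ℕ∞) ≤ PowerSeries.order f := by
  constructor
  · intro hf
    by_cases hf0 : f = 0
    · rw [hf0, order_zero]; exact le_top
    · by_contra hlt
      rw [not_le] at hlt
      obtain ⟨m, hm⟩ : ∃ m : ℕ, PowerSeries.order f = m := by
        have := (order_finite_iff_ne_zero (φ := f)).2 hf0
        exact ⟨f.order.toNat, (ENat.natCast_toNat this.ne).symm⟩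
      rw [hm] at hlt
      have hmc : m < c := by exact_mod_cast hlt
      apply hc1
      rw [hΓ]
      refine ⟨X ^ (c - 1 - m) * f, hf _, ?_⟩
      rw [order_mul, order_X_pow, hm]
      have : c - 1 - m + m = c - 1 := by omega
      exact_mod_cast this
  · intro hf g
    apply mem_of_order_ge A hcl c (fun n hn => (hΓ n).1 (hc n hn))
    rw [order_mul]
    exact le_trans hf le_add_self

/-- divisibility by order over a field -/
lemma dvd_of_order_le {a h : PowerSeries k} (ha : a ≠ 0)
    (hle : PowerSeries.order a ≤ PowerSeries.order h) : a ∣ h := by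
  obtain ⟨N, hN⟩ : ∃ m : ℕ, PowerSeries.order a = m :=
    ⟨a.order.toNat, (ENat.natCast_toNat ((order_finite_iff_ne_zero (φ := a)).2 ha).ne).symm⟩
  obtain ⟨a', ha'⟩ : (X : PowerSeries k) ^ N ∣ a := by
    have := X_pow_order_dvd (φ := a)
    rwa [hN, ENat.toNat_natCast] at this
  obtain ⟨h', hh'⟩ : (X : PowerSeries k) ^ N ∣ h := by
    rw [X_pow_dvd_iff]
    intro m hm
    exact coeff_of_lt_order m (lt_of_lt_of_le (by rw [hN]; exact_mod_cast hm) hle)
  have hu : IsUnit a' := by
    rw [isUnit_iff_constantCoeff, isUnit_iff_ne_zero]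
    have h1 := coeff_order ha
    rw [hN, ENat.toNat_natCast, ha'] at h1
    have h2 := coeff_X_pow_mul a' N 0
    rw [zero_add] at h2
    rw [h2, coeff_zero_eq_constantCoeff_apply] at h1
    exact h1
  obtain ⟨u, rfl⟩ := hu
  refine ⟨↑u⁻¹ * h', ?_⟩
  rw [ha', hh', mul_assoc, ← mul_assoc (u : PowerSeries k), Units.mul_inv, one_mul]

/-- existence of a conductor exponent -/
lemma exists_conductor_bound (A : Subalgebra k (PowerSeries k))
    (hA : Module.Finite ↥A (PowerSeries k))
    (hbir : ∀ f : PowerSeries k, ∃ a ∈ A, a ≠ 0 ∧ a * f ∈ A) :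
    ∃ N : ℕ, ∀ h : PowerSeries k, (N : ℕ∞) ≤ PowerSeries.order h → h ∈ A := by
  classical
  obtain ⟨S, hS⟩ := hA.fg_top
  -- a common denominator for the generators
  have hden : ∀ T : Finset (PowerSeries k), ∃ a ∈ A, a ≠ 0 ∧ ∀ g ∈ T, a * g ∈ A := by
    intro T
    induction T using Finset.induction_on with
    | empty => exact ⟨1, A.one_mem, one_ne_zero, fun g hg => absurd hg (Finset.notMem_empty g)⟩
    | insert g T _ ih =>
      obtain ⟨a, ha, ha0, haT⟩ := ih
      obtain ⟨b, hb, hb0, hbg⟩ := hbir g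
      refine ⟨a * b, A.mul_mem ha hb, mul_ne_zero ha0 hb0, fun g' hg' => ?_⟩
      rcases Finset.mem_insert.1 hg' with rfl | h
      · rw [mul_assoc]; exact A.mul_mem ha hbg
      · rw [mul_comm a b, mul_assoc]; exact A.mul_mem hb (haT g' h)
  obtain ⟨a, ha, ha0, haS⟩ := hden S
  have hall : ∀ h : PowerSeries k, a * h ∈ A := by
    intro h
    have hmem : h ∈ Submodule.span ↥A (S : Set (PowerSeries k)) := by rw [hS]; trivial
    induction hmem using Submodule.span_induction with
    | mem g hg => exact haS g hg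
    | zero => rw [mul_zero]; exact A.zero_mem
    | add x y _ _ hx hy => rw [mul_add]; exact A.add_mem hx hy
    | smul b x _ hx =>
      have : a * (b • x) = (b : PowerSeries k) * (a * x) := by
        rw [Subalgebra.smul_def, smul_eq_mul]; ring
      rw [this]
      exact A.mul_mem b.2 hx
  obtain ⟨N, hN⟩ : ∃ m : ℕ, PowerSeries.order a = m :=
    ⟨a.order.toNat, (ENat.natCast_toNat ((order_finite_iff_ne_zero (φ := a)).2 ha0).ne).symm⟩
  refine ⟨N, fun h hh => ?_⟩
  have hle : PowerSeries.order a ≤ PowerSeries.order h := by rw [hN]; exact hh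
  obtain ⟨q, rfl⟩ := dvd_of_order_le (a := a) (h := h) ha0 hle
  exact hall q

/-- S15015 -/
theorem finrank_quot_eq_card_gaps (A : Subalgebra k (PowerSeries k))
    (hA : Module.Finite ↥A (PowerSeries k))
    (hbir : ∀ f : PowerSeries k, ∃ a ∈ A, a ≠ 0 ∧ a * f ∈ A)
    (Γ : Set ℕ) (hΓ : ∀ n : ℕ, n ∈ Γ ↔ ∃ f ∈ A, PowerSeries.order f = n) :
    Γᶜ.Finite ∧ Module.finrank k (PowerSeries k ⧸ Subalgebra.toSubmodule A) = Γᶜ.ncard := by
  classical
  obtain ⟨N, hN⟩ := exists_conductor_bound A hA hbir
  have hΓN : ∀ n : ℕ, N ≤ n → n ∈ Γ := by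
    intro n hn
    rw [hΓ]
    exact ⟨X ^ n, hN _ (by rw [order_X_pow]; exact_mod_cast hn), order_X_pow n⟩
  have hfin : Γᶜ.Finite := by
    apply (Set.finite_Iio N).subset
    intro n hn
    by_contra h
    exact hn (hΓN n (not_lt.1 h))
  refine ⟨hfin, ?_⟩
  set Gf := hfin.toFinset with hGf
  have hGmem : ∀ n : ℕ, n ∈ Gf ↔ n ∉ Γ := by
    intro n
    rw [hGf, Set.Finite.mem_toFinset]
    rfl
  set Q := PowerSeries k ⧸ Subalgebra.toSubmodule A
  let v : Gf → Q := fun n => Submodule.Quotient.mk ((X : PowerSeries k) ^ (n : ℕ))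
  -- linear independence
  have hli : LinearIndependent k v := by
    rw [linearIndependent_iff']
    intro s g hg i hi
    by_contra hgi
    set p : PowerSeries k := ∑ j ∈ s, g j • (X : PowerSeries k) ^ (j : ℕ) with hp
    have hpA : p ∈ A := by
      have : (Submodule.mkQ (Subalgebra.toSubmodule A)) p = 0 := by
        rw [hp, map_sum]
        simpa [v] using hg
      exact (Submodule.Quotient.mk_eq_zero _).1 this
    have hcoeff : ∀ m : ℕ, coeff m p = ∑ j ∈ s, if m = (j : ℕ) then g j else 0 := by
      intro m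
      rw [hp, map_sum]
      apply Finset.sum_congr rfl
      intro j _
      rw [coeff_smul, coeff_X_pow, smul_eq_mul, mul_ite, mul_one, mul_zero]
    have hp0 : p ≠ 0 := by
      intro h0
      have := hcoeff (i : ℕ)
      rw [h0, map_zero, Finset.sum_eq_single i] at this
      · rw [if_pos rfl] at this
        exact hgi this.symm
      · intro j _ hji
        rw [if_neg]
        exact fun h => hji (Subtype.ext h.symm)
      · intro h; exact absurd hi h
    have h1 := coeff_order hp0
    set n₀ := p.order.toNat with hn₀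
    have hord : PowerSeries.order p = n₀ :=
      (ENat.natCast_toNat ((order_finite_iff_ne_zero (φ := p)).2 hp0).ne).symm
    have hn₀Γ : n₀ ∈ Γ := (hΓ n₀).2 ⟨p, hpA, hord⟩
    rw [hcoeff] at h1
    obtain ⟨j, _, hj⟩ := Finset.exists_ne_zero_of_sum_ne_zero h1
    have hj' : n₀ = (j : ℕ) := by
      by_contra hne
      rw [if_neg hne] at hj
      exact hj rfl
    exact (hGmem n₀).1 (hj' ▸ j.2) hn₀Γ
  -- spanning
  set W : Submodule k (PowerSeries k) :=
    Subalgebra.toSubmodule A ⊔ Submodule.span k (Set.range fun n : Gf => (X : PowerSeries k) ^ (n : ℕ))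
    with hW
  have hAW : ∀ h ∈ A, h ∈ W := fun h hh => Submodule.mem_sup_left hh
  have hstep : ∀ m : ℕ, ∀ h : PowerSeries k, ((N - m : ℕ) : ℕ∞) ≤ PowerSeries.order h → h ∈ W := by
    intro m
    induction m with
    | zero => intro h hh; exact hAW h (hN h (by simpa using hh))
    | succ m ih =>
      intro h hh
      by_cases hm : m + 1 ≤ N
      · set n := N - (m + 1) with hn
        have hn1 : n + 1 = N - m := by omega
        -- an element of W of order n
        obtain ⟨e, heW, heo⟩ : ∃ e ∈ W, PowerSeries.order e = n := by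
          by_cases hnΓ : n ∈ Γ
          · obtain ⟨a, ha, hao⟩ := (hΓ n).1 hnΓ
            exact ⟨a, hAW a ha, hao⟩
          · refine ⟨X ^ n, Submodule.mem_sup_right (Submodule.subset_span ⟨⟨n, (hGmem n).2 hnΓ⟩, rfl⟩),
              order_X_pow n⟩
        have he0 : coeff n e ≠ 0 := by
          have h1 : e ≠ 0 := by
            intro h0
            rw [h0, order_zero] at heo
            exact ENat.top_ne_natCast _ heo
          have := coeff_order h1
          rwa [heo, ENat.toNat_natCast] at this
        set b := coeff n h with hb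
        have h' : h - (b / coeff n e) • e ∈ W := by
          apply ih
          rw [← hn1]
          apply nat_le_order
          intro i hi
          rw [map_sub, coeff_smul, smul_eq_mul]
          rcases Nat.lt_succ_iff_lt_or_eq.1 hi with h1 | h1
          · rw [coeff_of_lt_order i (lt_of_lt_of_le (by exact_mod_cast h1) hh),
              coeff_of_lt_order i (by rw [heo]; exact_mod_cast h1), mul_zero, sub_zero]
          · rw [h1, ← hb, div_mul_cancel₀ _ he0, sub_self]
        have : h = (h - (b / coeff n e) • e) + (b / coeff n e) • e := by abel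
        rw [this]
        exact W.add_mem h' (W.smul_mem _ heW)
      · apply ih
        have : N - (m + 1) = N - m := by omega
        rwa [this] at hh
  have hsp : ⊤ ≤ Submodule.span k (Set.range v) := by
    intro q _
    obtain ⟨h, rfl⟩ := Submodule.Quotient.mk_surjective _ q
    have hhW : h ∈ W := hstep N h (by simp)
    rw [hW, Submodule.mem_sup] at hhW
    obtain ⟨a, ha, w, hw, rfl⟩ := hhW
    have e1 : (Submodule.Quotient.mk (a + w) : Q) = Submodule.Quotient.mk w := by
      rw [Submodule.Quotient.mk_add, (Submodule.Quotient.mk_eq_zero _).2 ha, zero_add]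
    rw [e1]
    have e2 : Set.range v = (Submodule.mkQ (Subalgebra.toSubmodule A)) ''
        (Set.range fun n : Gf => (X : PowerSeries k) ^ (n : ℕ)) := by
      rw [← Set.range_comp]; rfl
    rw [e2, ← Submodule.map_span]
    exact ⟨w, hw, rfl⟩
  have hbasis := Module.finrank_eq_card_basis (Module.Basis.mk hli hsp)
  rw [hbasis, Fintype.card_coe, Set.ncard_eq_toFinset_card Γᶜ hfin]

end Groth.Agent.Helper7.NumSemi
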