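import Mathlib
import Groth.Agent.Helper7.NumSemi

set_option autoImplicit false
universe u

namespace Groth.Agent.Helper7.HilbZ

open PowerSeries Groth.Agent.Helper7.NumSemi

variable {k : Type u} [Field k] {s : ℕ}

/-- S15146 -/
theorem mem_ideal_of_order_ge (R : Subalgebra k (Fin s → PowerSeries k)) (c : Fin s → ℕ)
    (hc : ∀ f : Fin s → PowerSeries k,
      (∀ g : Fin s → PowerSeries k, g * f ∈ R) ↔ ∀ i, ((c i : ℕ) : ℕ∞) ≤ (f i).order)
    (J : Ideal ↥R)
    (l : Fin s → ℕ) (hl : ∀ i : Fin s, ∃ f ∈ J, ((f : Fin s → PowerSeries k) i).order = ((l i : ℕ) : ℕ∞))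
    (g : Fin s → PowerSeries k) (hg : ∀ i : Fin s, ((l i + c i : ℕ) : ℕ∞) ≤ (g i).order) :
    ∃ hgR : g ∈ R, (⟨g, hgR⟩ : ↥R) ∈ J := by
  classical
  choose f hfJ hfo using hl
  have hf0 : ∀ i, (f i : Fin s → PowerSeries k) i ≠ 0 := by
    intro i h0
    have := hfo i
    rw [h0, order_zero] at this
    exact ENat.top_ne_natCast _ this
  have hdvd : ∀ i, (f i : Fin s → PowerSeries k) i ∣ g i := by
    intro i
    apply dvd_of_order_le (hf0 i)
    rw [hfo i]
    refine le_trans ?_ (hg i)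
    exact_mod_cast Nat.le_add_right _ _
  choose q hq using hdvd
  have hqo : ∀ i, ((c i : ℕ) : ℕ∞) ≤ (q i).order := by
    intro i
    have h1 := hg i
    rw [hq i, order_mul, hfo i, Nat.cast_add] at h1
    exact (ENat.add_le_add_iff_left (ENat.natCast_ne_top _)).1 h1
  have hcond : ∀ i, ∀ g' : Fin s → PowerSeries k, g' * Pi.single i (q i) ∈ R := by
    intro i
    rw [hc]
    intro j
    by_cases hji : j = i
    · subst hji; rw [Pi.single_eq_same]; exact hqo j
    · rw [Pi.single_eq_of_ne hji, order_zero]; exact le_top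
  have hhR : ∀ i, (Pi.single i (q i) : Fin s → PowerSeries k) ∈ R := by
    intro i
    have := hcond i 1
    rwa [one_mul] at this
  have hsum : g = ((∑ i, f i * ⟨Pi.single i (q i), hhR i⟩ : ↥R) : Fin s → PowerSeries k) := by
    funext j
    rw [AddSubmonoidClass.coe_finsetSum, Finset.sum_apply, Finset.sum_eq_single j]
    · simp only [MulMemClass.coe_mul, Pi.mul_apply, Pi.single_eq_same]
      exact hq j
    · intro i _ hij
      simp only [MulMemClass.coe_mul, Pi.mul_apply]
      rw [Pi.single_eq_of_ne (Ne.symm hij), mul_zero]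
    · intro h; exact absurd (Finset.mem_univ j) h
  have hmem : (∑ i, f i * ⟨Pi.single i (q i), hhR i⟩ : ↥R) ∈ J :=
    J.sum_mem fun i _ => J.mul_mem_right _ (hfJ i)
  refine ⟨hsum ▸ (∑ i, f i * ⟨Pi.single i (q i), hhR i⟩ : ↥R).2, ?_⟩
  convert hmem using 1
  exact Subtype.ext hsum

/-- S15147 -/
theorem conductor_shift_subset (R : Subalgebra k (Fin s → PowerSeries k)) (c : Fin s → ℕ)
    (hc : ∀ f : Fin s → PowerSeries k,
      (∀ g : Fin s → PowerSeries k, g * f ∈ R) ↔ ∀ i, ((c i : ℕ) : ℕ∞) ≤ (f i).order)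
    (I : Ideal ↥R) (a : Fin s → ℕ)
    (ha : (∀ i : Fin s, Ideal.map ((Pi.evalAlgHom k (fun _ : Fin s => PowerSeries k) i).comp R.val) I =
      Ideal.span {PowerSeries.X ^ (a i)})) :
    (∀ g : Fin s → PowerSeries k, (∀ i : Fin s, ((a i + c i : ℕ) : ℕ∞) ≤ (g i).order) →
      ∃ hgR : g ∈ R, (⟨g, hgR⟩ : ↥R) ∈ I) ∧
    (∀ f ∈ I, ∀ i : Fin s, ((a i : ℕ) : ℕ∞) ≤ ((f : Fin s → PowerSeries k) i).order) := by
  have h2 : ∀ f ∈ I, ∀ i : Fin s, ((a i : ℕ) : ℕ∞) ≤ ((f : Fin s → PowerSeries k) i).order := by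
    intro f hf i
    have hmem : ((Pi.evalAlgHom k (fun _ : Fin s => PowerSeries k) i).comp R.val) f ∈
        Ideal.map ((Pi.evalAlgHom k (fun _ : Fin s => PowerSeries k) i).comp R.val) I :=
      Ideal.mem_map_of_mem _ hf
    rw [ha i, Ideal.mem_span_singleton] at hmem
    obtain ⟨q, hq⟩ := hmem
    change (f : Fin s → PowerSeries k) i = _ at hq
    rw [hq, order_mul, order_X_pow]
    exact le_self_add
  refine ⟨fun g hg => ?_, h2⟩
  apply mem_ideal_of_order_ge R c hc I a _ g hg
  intro i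
  by_contra hno
  push Not at hno
  have hall : ∀ f ∈ I, ((a i + 1 : ℕ) : ℕ∞) ≤ ((f : Fin s → PowerSeries k) i).order := by
    intro f hf
    have h1 := h2 f hf i
    have h3 := hno f hf
    rcases lt_or_eq_of_le h1 with h | h
    · exact Order.add_one_le_of_lt h
    · exact absurd h.symm h3
  have hX : (PowerSeries.X : PowerSeries k) ^ (a i) ∈
      Ideal.map ((Pi.evalAlgHom k (fun _ : Fin s => PowerSeries k) i).comp R.val) I := by
    rw [ha i]; exact Ideal.mem_span_singleton_self _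
  have hord : ∀ x ∈ Ideal.map ((Pi.evalAlgHom k (fun _ : Fin s => PowerSeries k) i).comp R.val) I,
      ((a i + 1 : ℕ) : ℕ∞) ≤ PowerSeries.order x := by
    intro x hx
    rw [Ideal.map] at hx
    induction hx using Submodule.span_induction with
    | mem y hy =>
      obtain ⟨f, hf, rfl⟩ := hy
      exact hall f hf
    | zero => rw [order_zero]; exact le_top
    | add x y _ _ hx hy => exact le_trans (le_min hx hy) (min_order_le_order_add x y)
    | smul r x _ hx =>
      rw [smul_eq_mul, order_mul]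
      exact le_trans hx le_add_self
  have := hord _ hX
  rw [order_X_pow] at this
  have h4 : a i + 1 ≤ a i := by exact_mod_cast this
  omega

end Groth.Agent.Helper7.HilbZ
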