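import Mathlib
import Groth.Agent.Helper7.HilbZ

set_option autoImplicit false
universe u

namespace Groth.Agent.Helper7.HilbZ

open PowerSeries

section general

variable {k : Type u} [Field k] {V : Type*} [AddCommGroup V] [Module k V]

theorem finrank_quot_mono (P Q : Submodule k V) [Module.Finite k (V ⧸ P)] (h : P ≤ Q) :
    Module.finrank k (V ⧸ Q) ≤ Module.finrank k (V ⧸ P) ∧
      (Module.finrank k (V ⧸ Q) = Module.finrank k (V ⧸ P) → P = Q) := by
  set π : (V ⧸ P) →ₗ[k] (V ⧸ Q) := Submodule.mapQ P Q LinearMap.id h with hπ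
  have hsurj : Function.Surjective π := by
    intro y
    obtain ⟨v, rfl⟩ := Submodule.mkQ_surjective Q y
    exact ⟨Submodule.mkQ P v, rfl⟩
  have hrn := LinearMap.finrank_range_add_finrank_ker π
  rw [LinearMap.range_eq_top.mpr hsurj, finrank_top] at hrn
  refine ⟨by omega, fun heq => ?_⟩
  have hker : Module.finrank k (LinearMap.ker π) = 0 := by omega
  have hbot : LinearMap.ker π = ⊥ := Submodule.finrank_eq_zero.mp hker
  apply le_antisymm h
  intro q hq
  have : Submodule.mkQ P q ∈ LinearMap.ker π := by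
    rw [LinearMap.mem_ker, hπ, Submodule.mkQ_apply, Submodule.mapQ_apply, LinearMap.id_apply,
      Submodule.Quotient.mk_eq_zero]
    exact hq
  rw [hbot, Submodule.mem_bot, Submodule.mkQ_apply, Submodule.Quotient.mk_eq_zero] at this
  exact this

theorem finite_quot_of_le (P Q : Submodule k V) [Module.Finite k (V ⧸ P)] (h : P ≤ Q) :
    Module.Finite k (V ⧸ Q) := by
  apply Module.Finite.of_surjective (Submodule.mapQ P Q LinearMap.id h)
  intro y
  obtain ⟨v, rfl⟩ := Submodule.mkQ_surjective Q y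
  exact ⟨Submodule.mkQ P v, rfl⟩

end general

variable {k : Type u} [Field k] {s : ℕ}

/-- truncation map -/
noncomputable def Tr (k : Type u) [Field k] {s : ℕ} (a : Fin s → ℕ) :
    (Fin s → PowerSeries k) →ₗ[k] (Π i : Fin s, Fin (a i) → k) :=
  LinearMap.pi fun i => LinearMap.pi fun j => (PowerSeries.coeff (R := k) (j : ℕ)) ∘ₗ LinearMap.proj i

theorem Tr_apply (a : Fin s → ℕ) (f : Fin s → PowerSeries k) (i : Fin s) (j : Fin (a i)) :
    Tr k a f i j = PowerSeries.coeff (j : ℕ) (f i) := rfl

theorem Tr_surjective (a : Fin s → ℕ) : Function.Surjective (Tr k a) := by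
  intro t
  refine ⟨fun i => PowerSeries.mk fun n => if h : n < a i then t i ⟨n, h⟩ else 0, ?_⟩
  ext i j
  rw [Tr_apply, PowerSeries.coeff_mk, dif_pos j.2]

/-- the filtration `F^a` -/
noncomputable def Fil (k : Type u) [Field k] {s : ℕ} (a : Fin s → ℕ) :
    Submodule k (Fin s → PowerSeries k) := LinearMap.ker (Tr k a)

theorem mem_Fil (a : Fin s → ℕ) (f : Fin s → PowerSeries k) :
    f ∈ Fil k a ↔ ∀ i, ((a i : ℕ) : ℕ∞) ≤ (f i).order := by
  rw [Fil, LinearMap.mem_ker]
  constructor
  · intro h i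
    apply PowerSeries.nat_le_order
    intro n hn
    have := congrFun (congrFun h i) ⟨n, hn⟩
    rwa [Tr_apply] at this
  · intro h
    ext i j
    rw [Tr_apply]
    exact PowerSeries.coeff_of_lt_order _ (lt_of_lt_of_le (by exact_mod_cast j.2) (h i))

theorem finrank_quot_Fil (a : Fin s → ℕ) :
    Module.finrank k ((Fin s → PowerSeries k) ⧸ Fil k a) = ∑ i, a i := by
  rw [Fil, (LinearMap.quotKerEquivOfSurjective (Tr k a) (Tr_surjective a)).finrank_eq,
    Module.finrank_pi_fintype]
  simp

instance finite_quot_Fil (a : Fin s → ℕ) :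
    Module.Finite k ((Fin s → PowerSeries k) ⧸ Fil k a) :=
  Module.Finite.equiv (LinearMap.quotKerEquivOfSurjective (Tr k a) (Tr_surjective a)).symm

end Groth.Agent.Helper7.HilbZ

namespace Groth.Agent.Helper7.HilbZ

open PowerSeries

variable {k : Type u} [Field k] {s : ℕ}

/-- the image of an ideal of `R` in the ambient product -/
noncomputable def img (R : Subalgebra k (Fin s → PowerSeries k)) (I : Ideal ↥R) :
    Submodule k (Fin s → PowerSeries k) :=
  Submodule.map R.val.toLinearMap (I.restrictScalars k)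

theorem mem_img (R : Subalgebra k (Fin s → PowerSeries k)) (I : Ideal ↥R)
    (g : Fin s → PowerSeries k) : g ∈ img R I ↔ ∃ hgR : g ∈ R, (⟨g, hgR⟩ : ↥R) ∈ I := by
  rw [img, Submodule.mem_map]
  constructor
  · rintro ⟨f, hf, rfl⟩
    exact ⟨f.2, hf⟩
  · rintro ⟨hgR, hg⟩
    exact ⟨⟨g, hgR⟩, hg, rfl⟩

theorem img_le (R : Subalgebra k (Fin s → PowerSeries k)) (I : Ideal ↥R) :
    img R I ≤ Subalgebra.toSubmodule R := by
  intro g hg
  obtain ⟨hgR, -⟩ := (mem_img R I g).mp hg
  exact hgR

/-- `dim R/I + dim O/R = dim O/I'` -/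
theorem finrank_add (R : Subalgebra k (Fin s → PowerSeries k)) (I : Ideal ↥R)
    [Module.Finite k ((Fin s → PowerSeries k) ⧸ img R I)] :
    Module.finrank k (↥R ⧸ I) +
      Module.finrank k ((Fin s → PowerSeries k) ⧸ Subalgebra.toSubmodule R) =
      Module.finrank k ((Fin s → PowerSeries k) ⧸ img R I) := by
  set π : ((Fin s → PowerSeries k) ⧸ img R I) →ₗ[k]
      ((Fin s → PowerSeries k) ⧸ Subalgebra.toSubmodule R) :=
    Submodule.mapQ _ _ LinearMap.id (img_le R I) with hπ
  have hsurj : Function.Surjective π := by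
    intro y
    obtain ⟨v, rfl⟩ := Submodule.mkQ_surjective _ y
    exact ⟨Submodule.mkQ _ v, rfl⟩
  have hrn := LinearMap.finrank_range_add_finrank_ker π
  rw [LinearMap.range_eq_top.mpr hsurj, finrank_top] at hrn
  set φ : ↥R →ₗ[k] ((Fin s → PowerSeries k) ⧸ img R I) :=
    (Submodule.mkQ (img R I)) ∘ₗ R.val.toLinearMap with hφ
  have hker : LinearMap.ker φ = I.restrictScalars k := by
    ext x
    rw [LinearMap.mem_ker, hφ, LinearMap.comp_apply, Submodule.mkQ_apply,
      Submodule.Quotient.mk_eq_zero, Submodule.restrictScalars_mem, mem_img]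
    constructor
    · rintro ⟨h1, h2⟩
      exact h2
    · intro h
      exact ⟨x.2, h⟩
  have hrange : LinearMap.range φ = LinearMap.ker π := by
    ext y
    obtain ⟨v, rfl⟩ := Submodule.mkQ_surjective _ y
    rw [LinearMap.mem_ker, hπ, Submodule.mkQ_apply, Submodule.mapQ_apply, LinearMap.id_apply,
      Submodule.Quotient.mk_eq_zero]
    constructor
    · rintro ⟨x, hx⟩
      rw [hφ, LinearMap.comp_apply, Submodule.mkQ_apply, Submodule.Quotient.eq] at hx
      have h1 := img_le R I hx
      have h2 : (x : Fin s → PowerSeries k) ∈ Subalgebra.toSubmodule R := x.2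
      have := Submodule.sub_mem _ h2 h1
      simpa using this
    · intro hv
      exact ⟨⟨v, hv⟩, rfl⟩
  have e1 : Module.finrank k (↥R ⧸ I) = Module.finrank k (LinearMap.ker π) := by
    rw [← hrange, ← (LinearMap.quotKerEquivRange φ).finrank_eq,
      (Submodule.quotEquivOfEq _ _ hker).finrank_eq,
      (Submodule.Quotient.restrictScalarsEquiv k I).finrank_eq]
  rw [e1]
  omega

end Groth.Agent.Helper7.HilbZ

namespace Groth.Agent.Helper7.HilbZ

open PowerSeries

variable {k : Type u} [Field k] {s : ℕ}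

theorem order_ge_of_mem_map (R : Subalgebra k (Fin s → PowerSeries k)) (I : Ideal ↥R) (i : Fin s)
    (n : ℕ) (hall : ∀ f ∈ I, ((n : ℕ) : ℕ∞) ≤ ((f : Fin s → PowerSeries k) i).order)
    (x : PowerSeries k)
    (hx : x ∈ Ideal.map ((Pi.evalAlgHom k (fun _ : Fin s => PowerSeries k) i).comp R.val) I) :
    ((n : ℕ) : ℕ∞) ≤ PowerSeries.order x := by
  rw [Ideal.map] at hx
  induction hx using Submodule.span_induction with
  | mem y hy =>
    obtain ⟨f, hf, rfl⟩ := hy
    exact hall f hf
  | zero => rw [order_zero]; exact le_top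
  | add x y _ _ hx hy => exact le_trans (le_min hx hy) (min_order_le_order_add x y)
  | smul r x _ hx =>
    rw [smul_eq_mul, order_mul]
    exact le_trans hx le_add_self

theorem result48 (R : Subalgebra k (Fin s → PowerSeries k)) (c : Fin s → ℕ)
    (hc : ∀ f : Fin s → PowerSeries k,
      (∀ g : Fin s → PowerSeries k, g * f ∈ R) ↔ ∀ i, ((c i : ℕ) : ℕ∞) ≤ (f i).order)
    (I : Ideal ↥R) (a : Fin s → ℕ)
    (ha : (∀ i : Fin s, Ideal.map ((Pi.evalAlgHom k (fun _ : Fin s => PowerSeries k) i).comp R.val) I =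
      Ideal.span {PowerSeries.X ^ (a i)})) :
    (∑ i, a i) ≤ Module.finrank k (↥R ⧸ I) +
      Module.finrank k ((Fin s → PowerSeries k) ⧸ Subalgebra.toSubmodule R) ∧
    Module.finrank k (↥R ⧸ I) +
      Module.finrank k ((Fin s → PowerSeries k) ⧸ Subalgebra.toSubmodule R) ≤
        (∑ i, a i) + ∑ i, c i ∧
    (R ≠ ⊤ → Module.finrank k (↥R ⧸ I) +
      Module.finrank k ((Fin s → PowerSeries k) ⧸ Subalgebra.toSubmodule R) <
        (∑ i, a i) + ∑ i, c i) := by
  obtain ⟨hs1, hs2⟩ := conductor_shift_subset R c hc I a ha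
  have h1 : Fil k (fun i => a i + c i) ≤ img R I := by
    intro g hg
    rw [mem_Fil] at hg
    rw [mem_img]
    exact hs1 g hg
  have h2 : img R I ≤ Fil k a := by
    intro g hg
    rw [mem_img] at hg
    obtain ⟨hgR, hgI⟩ := hg
    rw [mem_Fil]
    exact hs2 _ hgI
  haveI : Module.Finite k ((Fin s → PowerSeries k) ⧸ img R I) := finite_quot_of_le _ _ h1
  have hadd := finrank_add R I
  obtain ⟨m1, m1'⟩ := finrank_quot_mono _ _ h1
  obtain ⟨m2, -⟩ := finrank_quot_mono _ _ h2
  rw [finrank_quot_Fil] at m1 m1' m2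
  rw [Finset.sum_add_distrib] at m1 m1'
  refine ⟨by omega, by omega, fun hR => ?_⟩
  rcases m1.lt_or_eq with hlt | heq
  · omega
  · exfalso
    have himg := m1' heq
    apply hR
    have hc0 : ∀ i, c i = 0 := by
      intro i
      have hX : (PowerSeries.X : PowerSeries k) ^ (a i) ∈
          Ideal.map ((Pi.evalAlgHom k (fun _ : Fin s => PowerSeries k) i).comp R.val) I := by
        rw [ha i]; exact Ideal.mem_span_singleton_self _
      have hall : ∀ f ∈ I, ((a i + c i : ℕ) : ℕ∞) ≤ ((f : Fin s → PowerSeries k) i).order := by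
        intro f hf
        have : (f : Fin s → PowerSeries k) ∈ img R I := (mem_img R I _).mpr ⟨f.2, hf⟩
        rw [← himg, mem_Fil] at this
        exact this i
      have := order_ge_of_mem_map R I i (a i + c i) hall _ hX
      rw [order_X_pow] at this
      have h4 : a i + c i ≤ a i := by exact_mod_cast this
      omega
    rw [eq_top_iff]
    intro g _
    have := (hc 1).mpr (fun i => by rw [hc0 i]; exact bot_le) g
    rwa [mul_one] at this

end Groth.Agent.Helper7.HilbZ
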