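import Mathlib
import Groth.Agent.Helper7.HilbZ2

set_option autoImplicit false
universe u

namespace Groth.Agent.Helper7.HilbZ

open PowerSeries

section general

variable {k : Type u} [Field k] {V : Type*} [AddCommGroup V] [Module k V]

/-- the map `V/P → V/M(P)` induced by `M` -/
noncomputable def psiQ (M : V →ₗ[k] V) (P : Submodule k V) : (V ⧸ P) →ₗ[k] (V ⧸ P.map M) :=
  Submodule.mapQ P (P.map M) M (Submodule.le_comap_map M P)

theorem psiQ_injective (M : V →ₗ[k] V) (hM : Function.Injective M) (P : Submodule k V) :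
    Function.Injective (psiQ M P) := by
  rw [← LinearMap.ker_eq_bot, eq_bot_iff]
  intro y hy
  obtain ⟨v, rfl⟩ := Submodule.mkQ_surjective P y
  rw [LinearMap.mem_ker, psiQ, Submodule.mkQ_apply, Submodule.mapQ_apply,
    Submodule.Quotient.mk_eq_zero] at hy
  obtain ⟨p, hp, hpv⟩ := hy
  rw [Submodule.mem_bot, Submodule.mkQ_apply, Submodule.Quotient.mk_eq_zero, ← hM hpv]
  exact hp

/-- the map `V/M(P) → V/M(V)` -/
noncomputable def piQ (M : V →ₗ[k] V) (P : Submodule k V) :
    (V ⧸ P.map M) →ₗ[k] (V ⧸ LinearMap.range M) :=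
  Submodule.mapQ (P.map M) (LinearMap.range M) LinearMap.id
    (by rintro _ ⟨p, -, rfl⟩; exact ⟨p, rfl⟩)

theorem piQ_surjective (M : V →ₗ[k] V) (P : Submodule k V) : Function.Surjective (piQ M P) := by
  intro y
  obtain ⟨v, rfl⟩ := Submodule.mkQ_surjective _ y
  exact ⟨Submodule.mkQ _ v, rfl⟩

theorem range_psiQ (M : V →ₗ[k] V) (P : Submodule k V) :
    LinearMap.range (psiQ M P) = LinearMap.ker (piQ M P) := by
  ext y
  obtain ⟨v, rfl⟩ := Submodule.mkQ_surjective _ y
  rw [LinearMap.mem_ker, piQ, Submodule.mkQ_apply, Submodule.mapQ_apply, LinearMap.id_apply,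
    Submodule.Quotient.mk_eq_zero]
  constructor
  · rintro ⟨x, hx⟩
    obtain ⟨w, rfl⟩ := Submodule.mkQ_surjective _ x
    rw [psiQ, Submodule.mkQ_apply, Submodule.mapQ_apply, Submodule.Quotient.eq] at hx
    obtain ⟨p, -, hp⟩ := hx
    refine ⟨w - p, ?_⟩
    rw [map_sub, hp]
    abel
  · rintro ⟨w, rfl⟩
    exact ⟨Submodule.mkQ P w, rfl⟩

theorem finite_of_finite_map (M : V →ₗ[k] V) (hM : Function.Injective M) (P : Submodule k V)
    [Module.Finite k (V ⧸ P.map M)] : Module.Finite k (V ⧸ P) :=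
  Module.Finite.of_injective (psiQ M P) (psiQ_injective M hM P)

theorem finite_map_of_finite (M : V →ₗ[k] V) (P : Submodule k V)
    [Module.Finite k (V ⧸ P)] [Module.Finite k (V ⧸ LinearMap.range M)] :
    Module.Finite k (V ⧸ P.map M) := by
  haveI : Module.Finite k (LinearMap.ker (piQ M P)) := by
    rw [← range_psiQ]
    exact Module.Finite.range _
  haveI : Module.Finite k ((V ⧸ P.map M) ⧸ LinearMap.ker (piQ M P)) :=
    Module.Finite.equiv (LinearMap.quotKerEquivOfSurjective (piQ M P) (piQ_surjective M P)).symm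
  exact Module.Finite.of_submodule_quotient (LinearMap.ker (piQ M P))

theorem finrank_map (M : V →ₗ[k] V) (hM : Function.Injective M) (P : Submodule k V)
    [Module.Finite k (V ⧸ P.map M)] :
    Module.finrank k (V ⧸ P.map M) =
      Module.finrank k (V ⧸ P) + Module.finrank k (V ⧸ LinearMap.range M) := by
  have hrn := LinearMap.finrank_range_add_finrank_ker (piQ M P)
  rw [LinearMap.range_eq_top.mpr (piQ_surjective M P), finrank_top, ← range_psiQ,
    LinearMap.finrank_range_of_inj (psiQ_injective M hM P)] at hrn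
  omega

end general

end Groth.Agent.Helper7.HilbZ

namespace Groth.Agent.Helper7.HilbZ

open PowerSeries

variable {k : Type u} [Field k] {s : ℕ}

/-- the element `ξ` -/
noncomputable abbrev xi (k : Type u) [Field k] {s : ℕ} (j : Fin s) : Fin s → PowerSeries k :=
  Pi.mulSingle j PowerSeries.X

theorem xi_ne_zero (j i : Fin s) : xi k j i ≠ 0 := by
  by_cases h : i = j
  · subst h; rw [xi, Pi.mulSingle_eq_same]; exact PowerSeries.X_ne_zero
  · rw [xi, Pi.mulSingle_eq_of_ne h]; exact one_ne_zero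

/-- multiplication by `ξ` -/
noncomputable def Mxi (k : Type u) [Field k] {s : ℕ} (j : Fin s) :
    (Fin s → PowerSeries k) →ₗ[k] (Fin s → PowerSeries k) :=
  LinearMap.mulLeft k (xi k j)

theorem Mxi_apply (j : Fin s) (f : Fin s → PowerSeries k) : Mxi k j f = xi k j * f := rfl

theorem Mxi_injective (j : Fin s) : Function.Injective (Mxi k j) := by
  intro f g hfg
  funext i
  have := congrFun hfg i
  simp only [Mxi_apply, Pi.mul_apply] at this
  exact mul_left_cancel₀ (xi_ne_zero j i) this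

theorem range_Mxi (j : Fin s) : LinearMap.range (Mxi k j) = Fil k (Pi.single j 1) := by
  ext f
  rw [mem_Fil]
  constructor
  · rintro ⟨g, rfl⟩ i
    by_cases h : i = j
    · subst h
      rw [Pi.single_eq_same, Mxi_apply, Pi.mul_apply, xi, Pi.mulSingle_eq_same, order_mul,
        order_X]
      exact le_self_add
    · rw [Pi.single_eq_of_ne h]
      exact bot_le
  · intro h
    have hj := h j
    rw [Pi.single_eq_same] at hj
    have h0 : PowerSeries.constantCoeff (f j) = 0 := by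
      rw [← PowerSeries.coeff_zero_eq_constantCoeff_apply]
      exact PowerSeries.coeff_of_lt_order 0 (lt_of_lt_of_le (by norm_num) hj)
    obtain ⟨q, hq⟩ := PowerSeries.X_dvd_iff.mpr h0
    refine ⟨Function.update f j q, ?_⟩
    funext i
    rw [Mxi_apply, Pi.mul_apply]
    by_cases hi : i = j
    · subst hi
      rw [xi, Pi.mulSingle_eq_same, Function.update_self, hq]
    · rw [xi, Pi.mulSingle_eq_of_ne hi, Function.update_of_ne hi, one_mul]

theorem finrank_quot_range_Mxi (j : Fin s) :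
    Module.finrank k ((Fin s → PowerSeries k) ⧸ LinearMap.range (Mxi k j)) = 1 := by
  rw [range_Mxi, finrank_quot_Fil]
  simp

instance finite_quot_range_Mxi (j : Fin s) :
    Module.Finite k ((Fin s → PowerSeries k) ⧸ LinearMap.range (Mxi k j)) := by
  rw [range_Mxi]; infer_instance

end Groth.Agent.Helper7.HilbZ

namespace Groth.Agent.Helper7.HilbZ

open PowerSeries

variable {k : Type u} [Field k] {s : ℕ}

theorem finite_quot_of_finite_img (R : Subalgebra k (Fin s → PowerSeries k)) (I : Ideal ↥R)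
    [Module.Finite k ((Fin s → PowerSeries k) ⧸ img R I)] : Module.Finite k (↥R ⧸ I) := by
  set φ : ↥R →ₗ[k] ((Fin s → PowerSeries k) ⧸ img R I) :=
    (Submodule.mkQ (img R I)) ∘ₗ R.val.toLinearMap with hφ
  have hker : LinearMap.ker φ = I.restrictScalars k := by
    ext x
    rw [LinearMap.mem_ker, hφ, LinearMap.comp_apply, Submodule.mkQ_apply,
      Submodule.Quotient.mk_eq_zero, Submodule.restrictScalars_mem, mem_img]
    constructor
    · rintro ⟨h1, h2⟩
      exact h2
    · intro h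
      exact ⟨x.2, h⟩
  have e : (↥R ⧸ I) ≃ₗ[k] LinearMap.range φ :=
    (Submodule.Quotient.restrictScalarsEquiv k I).symm ≪≫ₗ
      (Submodule.quotEquivOfEq _ _ hker).symm ≪≫ₗ (LinearMap.quotKerEquivRange φ)
  exact Module.Finite.equiv e.symm

/-- the relation `J = ξ · I` -/
def Rel (R : Subalgebra k (Fin s → PowerSeries k)) (j : Fin s) (I J : Ideal ↥R) : Prop :=
  (Subtype.val '' (J : Set ↥R)) = (fun f => xi k j * f) '' (Subtype.val '' (I : Set ↥R))

theorem coe_img (R : Subalgebra k (Fin s → PowerSeries k)) (I : Ideal ↥R) :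
    (img R I : Set (Fin s → PowerSeries k)) = Subtype.val '' (I : Set ↥R) := by
  ext g
  rw [SetLike.mem_coe, mem_img]
  constructor
  · rintro ⟨hgR, hg⟩
    exact ⟨⟨g, hgR⟩, hg, rfl⟩
  · rintro ⟨x, hx, rfl⟩
    exact ⟨x.2, hx⟩

theorem img_of_rel (R : Subalgebra k (Fin s → PowerSeries k)) (j : Fin s) (I J : Ideal ↥R)
    (h : Rel R j I J) : img R J = (img R I).map (Mxi k j) := by
  apply SetLike.coe_injective
  rw [coe_img, Submodule.map_coe, coe_img, h]
  rfl

theorem map_of_rel (R : Subalgebra k (Fin s → PowerSeries k)) (j : Fin s) (I J : Ideal ↥R)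
    (h : Rel R j I J) (i : Fin s) :
    Ideal.map ((Pi.evalAlgHom k (fun _ : Fin s => PowerSeries k) i).comp R.val) J =
      Ideal.span {xi k j i} *
        Ideal.map ((Pi.evalAlgHom k (fun _ : Fin s => PowerSeries k) i).comp R.val) I := by
  have himg : ∀ K : Ideal ↥R,
      (⇑((Pi.evalAlgHom k (fun _ : Fin s => PowerSeries k) i).comp R.val) '' (K : Set ↥R)) =
      (fun g : Fin s → PowerSeries k => g i) '' (Subtype.val '' (K : Set ↥R)) := by
    intro K
    rw [Set.image_image]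
    rfl
  rw [Ideal.map, Ideal.map, Ideal.span_mul_span', Set.singleton_mul]
  congr 1
  rw [himg J, himg I, h]
  ext y
  simp only [Set.mem_image]
  constructor
  · rintro ⟨g, ⟨f, ⟨x, hx, rfl⟩, rfl⟩, rfl⟩
    exact ⟨x.val i, ⟨x.val, ⟨x, hx, rfl⟩, rfl⟩, rfl⟩
  · rintro ⟨z, ⟨f, ⟨x, hx, rfl⟩, rfl⟩, rfl⟩
    exact ⟨xi k j * x.val, ⟨x.val, ⟨x, hx, rfl⟩, rfl⟩, rfl⟩

theorem dim_of_rel (R : Subalgebra k (Fin s → PowerSeries k)) (j : Fin s) (I J : Ideal ↥R)
    (h : Rel R j I J) [Module.Finite k ((Fin s → PowerSeries k) ⧸ img R J)] :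
    Module.Finite k (↥R ⧸ I) ∧ Module.Finite k (↥R ⧸ J) ∧
      Module.finrank k (↥R ⧸ J) = Module.finrank k (↥R ⧸ I) + 1 := by
  have himg := img_of_rel R j I J h
  haveI : Module.Finite k ((Fin s → PowerSeries k) ⧸ (img R I).map (Mxi k j)) := by
    rw [← himg]; infer_instance
  haveI : Module.Finite k ((Fin s → PowerSeries k) ⧸ img R I) :=
    finite_of_finite_map (Mxi k j) (Mxi_injective j) (img R I)
  refine ⟨finite_quot_of_finite_img R I, finite_quot_of_finite_img R J, ?_⟩
  have h1 := finrank_add R I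
  have h2 := finrank_add R J
  have h3 := finrank_map (Mxi k j) (Mxi_injective j) (img R I)
  rw [finrank_quot_range_Mxi] at h3
  have h4 : Module.finrank k ((Fin s → PowerSeries k) ⧸ img R J) =
      Module.finrank k ((Fin s → PowerSeries k) ⧸ (img R I).map (Mxi k j)) := by
    rw [himg]
  omega

end Groth.Agent.Helper7.HilbZ

namespace Groth.Agent.Helper7.HilbZ

open PowerSeries

variable {k : Type u} [Field k] {s : ℕ}

theorem single_mem_of_order (R : Subalgebra k (Fin s → PowerSeries k)) (c : Fin s → ℕ)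
    (hc : ∀ f : Fin s → PowerSeries k,
      (∀ g : Fin s → PowerSeries k, g * f ∈ R) ↔ ∀ i, ((c i : ℕ) : ℕ∞) ≤ (f i).order)
    (j : Fin s) (q : PowerSeries k) (hq : ((c j : ℕ) : ℕ∞) ≤ q.order) :
    (Pi.single j q : Fin s → PowerSeries k) ∈ R := by
  have := (hc (Pi.single j q)).mpr (fun i => by
    by_cases hi : i = j
    · subst hi; rw [Pi.single_eq_same]; exact hq
    · rw [Pi.single_eq_of_ne hi, order_zero]; exact le_top) 1
  rwa [one_mul] at this

theorem xi_mul_mem (R : Subalgebra k (Fin s → PowerSeries k)) (c : Fin s → ℕ)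
    (hc : ∀ f : Fin s → PowerSeries k,
      (∀ g : Fin s → PowerSeries k, g * f ∈ R) ↔ ∀ i, ((c i : ℕ) : ℕ∞) ≤ (f i).order)
    (j : Fin s) (f : Fin s → PowerSeries k) (hf : f ∈ R) (hfo : ((c j : ℕ) : ℕ∞) ≤ (f j).order) :
    xi k j * f ∈ R := by
  have h1 : xi k j * f = f + Pi.single j ((PowerSeries.X - 1) * f j) := by
    funext i
    by_cases hi : i = j
    · subst hi
      simp only [Pi.mul_apply, Pi.add_apply, xi, Pi.mulSingle_eq_same, Pi.single_eq_same]
      ring
    · simp only [Pi.mul_apply, Pi.add_apply, xi, Pi.mulSingle_eq_of_ne hi, Pi.single_eq_of_ne hi]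
      ring
  rw [h1]
  apply R.add_mem hf
  apply single_mem_of_order R c hc
  exact le_trans hfo (le_trans le_add_self (PowerSeries.le_order_mul _ _))

theorem exists_xi_div (R : Subalgebra k (Fin s → PowerSeries k)) (c : Fin s → ℕ)
    (hc : ∀ f : Fin s → PowerSeries k,
      (∀ g : Fin s → PowerSeries k, g * f ∈ R) ↔ ∀ i, ((c i : ℕ) : ℕ∞) ≤ (f i).order)
    (j : Fin s) (g : Fin s → PowerSeries k) (hg : g ∈ R)
    (hgo : ((c j + 1 : ℕ) : ℕ∞) ≤ (g j).order) :
    ∃ f : ↥R, g = xi k j * f.val := by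
  have h0 : PowerSeries.constantCoeff (g j) = 0 := by
    rw [← PowerSeries.coeff_zero_eq_constantCoeff_apply]
    apply PowerSeries.coeff_of_lt_order 0
    refine lt_of_lt_of_le ?_ hgo
    exact_mod_cast Nat.succ_pos _
  obtain ⟨q, hq⟩ := PowerSeries.X_dvd_iff.mpr h0
  have hqo : ((c j : ℕ) : ℕ∞) ≤ q.order := by
    rw [hq, order_mul, order_X, Nat.cast_add, Nat.cast_one, add_comm] at hgo
    exact (ENat.add_le_add_iff_left (ENat.one_ne_top)).1 hgo
  have hfR : Function.update g j q ∈ R := by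
    have h1 : Function.update g j q = g + Pi.single j ((1 - PowerSeries.X) * q) := by
      funext i
      by_cases hi : i = j
      · subst hi
        simp only [Function.update_self, Pi.add_apply, Pi.single_eq_same, hq]
        ring
      · simp only [Function.update_of_ne hi, Pi.add_apply, Pi.single_eq_of_ne hi, add_zero]
    rw [h1]
    apply R.add_mem hg
    apply single_mem_of_order R c hc
    exact le_trans hqo (le_trans le_add_self (PowerSeries.le_order_mul _ _))
  refine ⟨⟨Function.update g j q, hfR⟩, ?_⟩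
  funext i
  by_cases hi : i = j
  · subst hi
    simp only [Pi.mul_apply, xi, Pi.mulSingle_eq_same, Function.update_self, hq]
  · simp only [Pi.mul_apply, xi, Pi.mulSingle_eq_of_ne hi, Function.update_of_ne hi, one_mul]

/-- `ξ · I` -/
def xiImage (R : Subalgebra k (Fin s → PowerSeries k)) (j : Fin s) (I : Ideal ↥R) : Ideal ↥R where
  carrier := {g : ↥R | ∃ f ∈ I, g.val = xi k j * f.val}
  zero_mem' := ⟨0, I.zero_mem, by simp⟩
  add_mem' := by
    rintro g g' ⟨f, hf, h⟩ ⟨f', hf', h'⟩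
    refine ⟨f + f', I.add_mem hf hf', ?_⟩
    simp only [Subalgebra.coe_add] at h h' ⊢
    rw [h, h', mul_add]
  smul_mem' := by
    rintro r g ⟨f, hf, h⟩
    refine ⟨r * f, I.mul_mem_left r hf, ?_⟩
    simp only [smul_eq_mul, Subalgebra.coe_mul] at h ⊢
    rw [h]
    ring

/-- `ξ⁻¹ · J` -/
def xiPreimage (R : Subalgebra k (Fin s → PowerSeries k)) (j : Fin s) (J : Ideal ↥R) :
    Ideal ↥R where
  carrier := {f : ↥R | ∃ g ∈ J, g.val = xi k j * f.val}
  zero_mem' := ⟨0, J.zero_mem, by simp⟩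
  add_mem' := by
    rintro f f' ⟨g, hg, h⟩ ⟨g', hg', h'⟩
    refine ⟨g + g', J.add_mem hg hg', ?_⟩
    simp only [Subalgebra.coe_add] at h h' ⊢
    rw [h, h', mul_add]
  smul_mem' := by
    rintro r f ⟨g, hg, h⟩
    refine ⟨r * g, J.mul_mem_left r hg, ?_⟩
    simp only [smul_eq_mul, Subalgebra.coe_mul] at h ⊢
    rw [h]
    ring

theorem rel_xiImage (R : Subalgebra k (Fin s → PowerSeries k)) (j : Fin s) (I : Ideal ↥R)
    (h : ∀ f ∈ I, xi k j * f.val ∈ R) : Rel R j I (xiImage R j I) := by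
  unfold Rel
  ext y
  simp only [Set.mem_image, SetLike.mem_coe]
  constructor
  · rintro ⟨g, ⟨f, hf, hgf⟩, rfl⟩
    exact ⟨f.val, ⟨f, hf, rfl⟩, hgf.symm⟩
  · rintro ⟨_, ⟨f, hf, rfl⟩, rfl⟩
    exact ⟨⟨xi k j * f.val, h f hf⟩, ⟨f, hf, rfl⟩, rfl⟩

theorem rel_xiPreimage (R : Subalgebra k (Fin s → PowerSeries k)) (j : Fin s) (J : Ideal ↥R)
    (h : ∀ g ∈ J, ∃ f : ↥R, g.val = xi k j * f.val) : Rel R j (xiPreimage R j J) J := by
  unfold Rel
  ext y
  simp only [Set.mem_image, SetLike.mem_coe]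
  constructor
  · rintro ⟨g, hg, rfl⟩
    obtain ⟨f, hf⟩ := h g hg
    exact ⟨f.val, ⟨f, ⟨g, hg, hf⟩, rfl⟩, hf.symm⟩
  · rintro ⟨_, ⟨f, ⟨g, hg, hgf⟩, rfl⟩, rfl⟩
    exact ⟨g, hg, hgf⟩

end Groth.Agent.Helper7.HilbZ

namespace Groth.Agent.Helper7.HilbZ

open PowerSeries

variable {k : Type u} [Field k] {s : ℕ}

theorem finite_img_of_branch (R : Subalgebra k (Fin s → PowerSeries k)) (c : Fin s → ℕ)
    (hc : ∀ f : Fin s → PowerSeries k,
      (∀ g : Fin s → PowerSeries k, g * f ∈ R) ↔ ∀ i, ((c i : ℕ) : ℕ∞) ≤ (f i).order)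
    (I : Ideal ↥R) (a : Fin s → ℕ)
    (ha : (∀ i : Fin s, Ideal.map ((Pi.evalAlgHom k (fun _ : Fin s => PowerSeries k) i).comp R.val) I =
      Ideal.span {PowerSeries.X ^ (a i)})) :
    Module.Finite k ((Fin s → PowerSeries k) ⧸ img R I) := by
  obtain ⟨hs1, -⟩ := conductor_shift_subset R c hc I a ha
  have h1 : Fil k (fun i => a i + c i) ≤ img R I := by
    intro g hg
    rw [mem_Fil] at hg
    rw [mem_img]
    exact hs1 g hg
  exact finite_quot_of_le _ _ h1

theorem xi_mul_pow (j i : Fin s) (a : Fin s → ℕ) :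
    xi k j i * PowerSeries.X ^ (a i) = PowerSeries.X ^ ((Function.update a j (a j + 1)) i) := by
  by_cases hi : i = j
  · subst hi
    rw [xi, Pi.mulSingle_eq_same, Function.update_self, pow_succ']
  · rw [xi, Pi.mulSingle_eq_of_ne hi, Function.update_of_ne hi, one_mul]

theorem result49 (R : Subalgebra k (Fin s → PowerSeries k)) (c : Fin s → ℕ)
    (hc : ∀ f : Fin s → PowerSeries k,
      (∀ g : Fin s → PowerSeries k, g * f ∈ R) ↔ ∀ i, ((c i : ℕ) : ℕ∞) ≤ (f i).order)
    (j : Fin s) (d : ℕ) (a : Fin s → ℕ) (hj : c j ≤ a j) :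
    (∀ I ∈ {I : Ideal ↥R | Module.Finite k (↥R ⧸ I) ∧ Module.finrank k (↥R ⧸ I) = d ∧ (∀ i : Fin s, Ideal.map ((Pi.evalAlgHom k (fun _ : Fin s => PowerSeries k) i).comp R.val) I = Ideal.span {PowerSeries.X ^ (a i)})},
      ∃ J ∈ {I : Ideal ↥R | Module.Finite k (↥R ⧸ I) ∧ Module.finrank k (↥R ⧸ I) = d + 1 ∧ (∀ i : Fin s, Ideal.map ((Pi.evalAlgHom k (fun _ : Fin s => PowerSeries k) i).comp R.val) I = Ideal.span {PowerSeries.X ^ ((Function.update a j (a j + 1)) i)})},
        (Subtype.val '' (J : Set ↥R)) = (fun f => Pi.mulSingle j PowerSeries.X * f) '' (Subtype.val '' (I : Set ↥R))) ∧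
    (∀ J ∈ {I : Ideal ↥R | Module.Finite k (↥R ⧸ I) ∧ Module.finrank k (↥R ⧸ I) = d + 1 ∧ (∀ i : Fin s, Ideal.map ((Pi.evalAlgHom k (fun _ : Fin s => PowerSeries k) i).comp R.val) I = Ideal.span {PowerSeries.X ^ ((Function.update a j (a j + 1)) i)})},
      ∃ I ∈ {I : Ideal ↥R | Module.Finite k (↥R ⧸ I) ∧ Module.finrank k (↥R ⧸ I) = d ∧ (∀ i : Fin s, Ideal.map ((Pi.evalAlgHom k (fun _ : Fin s => PowerSeries k) i).comp R.val) I = Ideal.span {PowerSeries.X ^ (a i)})},
        (Subtype.val '' (J : Set ↥R)) = (fun f => Pi.mulSingle j PowerSeries.X * f) '' (Subtype.val '' (I : Set ↥R))) := by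
  constructor
  · rintro I ⟨-, hd, ha⟩
    obtain ⟨-, hs2⟩ := conductor_shift_subset R c hc I a ha
    have hmem : ∀ f ∈ I, xi k j * f.val ∈ R := by
      intro f hf
      apply xi_mul_mem R c hc j f.val f.2
      refine le_trans ?_ (hs2 f hf j)
      exact_mod_cast hj
    have hrel := rel_xiImage R j I hmem
    have hbranch : ∀ i : Fin s,
        Ideal.map ((Pi.evalAlgHom k (fun _ : Fin s => PowerSeries k) i).comp R.val)
          (xiImage R j I) =
        Ideal.span {PowerSeries.X ^ ((Function.update a j (a j + 1)) i)} := by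
      intro i
      rw [map_of_rel R j I _ hrel i, ha i, Ideal.span_singleton_mul_span_singleton, xi_mul_pow]
    haveI := finite_img_of_branch R c hc (xiImage R j I) _ hbranch
    obtain ⟨-, hfJ, hdim⟩ := dim_of_rel R j I (xiImage R j I) hrel
    exact ⟨xiImage R j I, ⟨hfJ, by rw [hdim, hd], hbranch⟩, hrel⟩
  · rintro J ⟨-, hd, ha'⟩
    obtain ⟨-, hs2⟩ := conductor_shift_subset R c hc J _ ha'
    have hdiv : ∀ g ∈ J, ∃ f : ↥R, g.val = xi k j * f.val := by
      intro g hg
      apply exists_xi_div R c hc j g.val g.2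
      have := hs2 g hg j
      rw [Function.update_self] at this
      refine le_trans ?_ this
      exact_mod_cast Nat.succ_le_succ hj
    have hrel := rel_xiPreimage R j J hdiv
    haveI := finite_img_of_branch R c hc J _ ha'
    obtain ⟨hfI, -, hdim⟩ := dim_of_rel R j (xiPreimage R j J) J hrel
    refine ⟨xiPreimage R j J, ⟨hfI, by omega, ?_⟩, hrel⟩
    intro i
    have h1 := map_of_rel R j (xiPreimage R j J) J hrel i
    rw [ha' i, ← xi_mul_pow, ← Ideal.span_singleton_mul_span_singleton] at h1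
    exact ((Ideal.span_singleton_mul_right_inj (xi_ne_zero j i)).mp h1).symm

end Groth.Agent.Helper7.HilbZ
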