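import Mathlib
import Groth.Agent.Helper7.CanDuA

/-!
# Duality counting over a self-injective local ring of finite length (helper7)
-/

set_option autoImplicit false
set_option linter.style.haveILetI false
set_option linter.unusedSectionVars false
universe u

namespace Groth.Agent.Helper7.HomLen

open IsLocalRing Matrix

section perp

variable {A : Type u} [CommRing A]

/-- the orthogonal of a submodule of `A^b` for the dot product -/
def perp {b : ℕ} (W : Submodule A (Fin b → A)) : Submodule A (Fin b → A) where
  carrier := {z | ∀ w ∈ W, z ⬝ᵥ w = 0}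
  add_mem' := by
    intro z z' hz hz' w hw
    rw [add_dotProduct, hz w hw, hz' w hw, add_zero]
  zero_mem' := by
    intro w _
    rw [zero_dotProduct]
  smul_mem' := by
    intro c z hz w hw
    rw [smul_dotProduct, hz w hw, smul_zero]

theorem mem_perp {b : ℕ} {W : Submodule A (Fin b → A)} {z : Fin b → A} :
    z ∈ perp W ↔ ∀ w ∈ W, z ⬝ᵥ w = 0 := Iff.rfl

/-- the orthogonal of `range Mᵀ + 𝔟 A^b` -/
theorem mem_perp_range_sup {a b : ℕ} (M : Matrix (Fin a) (Fin b) A) (𝔟 : Ideal A)
    (z : Fin b → A) :
    z ∈ perp (LinearMap.range Mᵀ.mulVecLin ⊔ 𝔟 • (⊤ : Submodule A (Fin b → A))) ↔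
      (M *ᵥ z = 0 ∧ ∀ t ∈ 𝔟, ∀ j, t * z j = 0) := by
  classical
  constructor
  · intro hz
    constructor
    · funext i
      have h1 : Mᵀ *ᵥ (Pi.single i 1) ∈
          LinearMap.range Mᵀ.mulVecLin ⊔ 𝔟 • (⊤ : Submodule A (Fin b → A)) :=
        Submodule.mem_sup_left ⟨Pi.single i 1, rfl⟩
      have h2 := hz _ h1
      rw [dotProduct_mulVec, vecMul_transpose, dotProduct_single, mul_one] at h2
      exact h2
    · intro t ht j
      have h1 : t • (Pi.single j (1 : A) : Fin b → A) ∈
          LinearMap.range Mᵀ.mulVecLin ⊔ 𝔟 • (⊤ : Submodule A (Fin b → A)) :=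
        Submodule.mem_sup_right (Submodule.smul_mem_smul ht Submodule.mem_top)
      have h2 := hz _ h1
      rw [dotProduct_smul, dotProduct_single, mul_one, smul_eq_mul] at h2
      exact h2
  · rintro ⟨h1, h2⟩ w hw
    obtain ⟨w1, ⟨y, rfl⟩, w2, hw2, rfl⟩ := Submodule.mem_sup.1 hw
    rw [dotProduct_add]
    have e1 : z ⬝ᵥ (Mᵀ.mulVecLin y) = 0 := by
      rw [Matrix.mulVecLin_apply, dotProduct_mulVec, vecMul_transpose, h1, zero_dotProduct]
    have e2 : z ⬝ᵥ w2 = 0 := by
      refine Submodule.smul_induction_on hw2 ?_ ?_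
      · intro t ht v _
        rw [dotProduct_smul, smul_eq_mul]
        rw [dotProduct, Finset.mul_sum]
        refine Finset.sum_eq_zero fun j _ => ?_
        rw [← mul_assoc, h2 t ht j, zero_mul]
      · intro v v' hv hv'
        rw [dotProduct_add, hv, hv', add_zero]
    rw [e1, e2, add_zero]

end perp

section dual

variable {A : Type u} [CommRing A] [IsLocalRing A]

/-- `ℓ(Hom(X, A)) = ℓ(X)` over a self-injective local ring of finite length -/
theorem length_dual (hinj : Module.Injective A A) (hfl : IsFiniteLength A A)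
    (X : Type u) [AddCommGroup X] [Module A X] (hX : IsFiniteLength A X) :
    Module.length A (X →ₗ[A] A) = Module.length A X := by
  have h1 := Groth.Agent.Helper7.CanDu.length_hom hinj A hfl
  have h2 : Module.length A (A →ₗ[A] A) = Module.length A A :=
    (LinearMap.ringLmapEquivSelf A A A).length_eq
  rw [h2] at h1
  have hne : Module.length A A ≠ ⊤ := Module.length_ne_top_iff.2 hfl
  have hne0 : Module.length A A ≠ 0 := by
    rw [Ne, Module.length_eq_zero_iff]
    exact not_subsingleton A
  obtain ⟨n, hn⟩ := ENat.ne_top_iff_exists.mp hne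
  have hn0 : n ≠ 0 := by
    rintro rfl
    exact hne0 hn.symm
  have hs : Module.length A (ResidueField A →ₗ[A] A) = 1 := by
    rw [← hn] at h1
    generalize Module.length A (ResidueField A →ₗ[A] A) = s at h1
    induction s using ENat.recTopCoe with
    | top =>
      rw [ENat.top_mul (by exact_mod_cast hn0)] at h1
      exact absurd h1 (ENat.natCast_ne_top n)
    | coe m =>
      have : n = m * n := by exact_mod_cast h1
      have hm : m = 1 := by
        rcases Nat.eq_zero_or_pos m with rfl | _
        · omega
        · nlinarith [Nat.pos_of_ne_zero hn0]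
      rw [hm]
      rfl
  rw [Groth.Agent.Helper7.CanDu.length_hom hinj X hX, hs, one_mul]

/-- `ℓ(A^b/W) = ℓ(W^⊥)` over a self-injective local ring of finite length -/
theorem length_quot_eq_length_perp (hinj : Module.Injective A A) (hfl : IsFiniteLength A A)
    {b : ℕ} (W : Submodule A (Fin b → A)) :
    Module.length A ((Fin b → A) ⧸ W) = Module.length A (perp W) := by
  classical
  have hfin : IsFiniteLength A ((Fin b → A) ⧸ W) := by
    haveI : IsArtinianRing A := (isFiniteLength_iff_isNoetherian_isArtinian.1 hfl).2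
    haveI : IsNoetherianRing A := (isFiniteLength_iff_isNoetherian_isArtinian.1 hfl).1
    rw [isFiniteLength_iff_isNoetherian_isArtinian]
    exact ⟨inferInstance, inferInstance⟩
  rw [← length_dual hinj hfl _ hfin]
  let e1 : Module.Dual A ((Fin b → A) ⧸ W) ≃ₗ[A] W.dualAnnihilator :=
    Submodule.dualQuotEquivDualAnnihilator W
  let e2 : (Fin b → A) ≃ₗ[A] Module.Dual A (Fin b → A) := dotProductEquiv A (Fin b)
  have hmap : Submodule.map e2.toLinearMap (perp W) = W.dualAnnihilator := by
    ext f
    constructor
    · rintro ⟨z, hz, rfl⟩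
      rw [Submodule.mem_dualAnnihilator]
      intro w hw
      exact hz w hw
    · intro hf
      refine ⟨e2.symm f, ?_, e2.apply_symm_apply f⟩
      intro w hw
      have := (Submodule.mem_dualAnnihilator f).1 hf w hw
      have h3 : e2 (e2.symm f) w = f w := by rw [e2.apply_symm_apply]
      rw [← h3] at this
      exact this
  let e3 : perp W ≃ₗ[A] W.dualAnnihilator :=
    (e2.submoduleMap (perp W)).trans (LinearEquiv.ofEq _ _ hmap)
  exact (e1.trans e3.symm).length_eq

end dual

end Groth.Agent.Helper7.HomLen
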