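import Mathlib
import Groth.Agent.Helper7.MonExtA
import Groth.Agent.Helper7.CanDuA

set_option autoImplicit false

/-!
# Computing `Hom(Q, N/xN)` by generators and relations, and the resulting formula
for `ℓ Ext¹(M,N)` for submodules `M, N` of a domain `L ⊇ R`.
-/

namespace Groth.Agent.Helper7.MonExt

open CategoryTheory Abelian Function
open Groth.Agent.Helper7.CanDu

universe u

section Sol

variable {R : Type*} [CommRing R] {Q P : Type*} [AddCommGroup Q] [Module R Q]
  [AddCommGroup P] [Module R P] {ι : Type*} [Fintype ι]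

/-- tuples in `P` satisfying all relations of the family `q` -/
def Sol (q : ι → Q) (P : Type*) [AddCommGroup P] [Module R P] : Submodule R (ι → P) where
  carrier := {p | ∀ a : ι → R, ∑ j, a j • q j = 0 → ∑ j, a j • p j = 0}
  add_mem' := by
    intro p p' hp hp' a ha
    simp only [Pi.add_apply, smul_add, Finset.sum_add_distrib, hp a ha, hp' a ha, add_zero]
  zero_mem' := by
    intro a _
    simp
  smul_mem' := by
    intro r p hp a ha
    have : ∑ j, a j • (r • p) j = r • ∑ j, a j • p j := by
      rw [Finset.smul_sum]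
      refine Finset.sum_congr rfl fun j _ => ?_
      rw [Pi.smul_apply, smul_comm]
    rw [this, hp a ha, smul_zero]

theorem mem_Sol {q : ι → Q} {p : ι → P} :
    p ∈ Sol (R := R) q P ↔ ∀ a : ι → R, ∑ j, a j • q j = 0 → ∑ j, a j • p j = 0 := Iff.rfl

/-- evaluation at the generators -/
def evalGen (q : ι → Q) (P : Type*) [AddCommGroup P] [Module R P] :
    (Q →ₗ[R] P) →ₗ[R] ↥(Sol (R := R) q P) where
  toFun φ := ⟨fun j => φ (q j), by
    intro a ha
    have : ∑ j, a j • φ (q j) = φ (∑ j, a j • q j) := by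
      rw [map_sum]
      refine Finset.sum_congr rfl fun j _ => ?_
      rw [map_smul]
    rw [this, ha, map_zero]⟩
  map_add' φ φ' := rfl
  map_smul' r φ := rfl

theorem evalGen_bijective (q : ι → Q) (hq : Submodule.span R (Set.range q) = ⊤) :
    Bijective (evalGen (R := R) q P) := by
  classical
  constructor
  · intro φ φ' h
    apply LinearMap.ext_on_range hq
    intro j
    have := congrArg (fun s : ↥(Sol (R := R) q P) => (s : ι → P) j) h
    exact this
  · rintro ⟨p, hp⟩
    let π : (ι → R) →ₗ[R] Q := Fintype.linearCombination R q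
    let ψ : (ι → R) →ₗ[R] P := Fintype.linearCombination R p
    have hπ : Surjective π := by
      rw [← LinearMap.range_eq_top, Fintype.range_linearCombination, hq]
    have hle : LinearMap.ker π ≤ LinearMap.ker ψ := by
      intro a ha
      rw [LinearMap.mem_ker] at ha ⊢
      rw [Fintype.linearCombination_apply] at ha ⊢
      exact hp a ha
    let φ : Q →ₗ[R] P :=
      ((LinearMap.ker π).liftQ ψ hle).comp (π.quotKerEquivOfSurjective hπ).symm.toLinearMap
    refine ⟨φ, ?_⟩
    apply Subtype.ext
    funext j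
    show φ (q j) = p j
    have hj : q j = π (Pi.single j 1) := by
      rw [Fintype.linearCombination_apply_single, one_smul]
    have h2 : (π.quotKerEquivOfSurjective hπ).symm (π (Pi.single j 1)) =
        Submodule.Quotient.mk (Pi.single j 1) := by
      rw [LinearEquiv.symm_apply_eq]
      rfl
    show ((LinearMap.ker π).liftQ ψ hle) ((π.quotKerEquivOfSurjective hπ).symm (q j)) = p j
    rw [hj, h2, Submodule.liftQ_apply, Fintype.linearCombination_apply_single, one_smul]

/-- if the relations are exactly "all coefficients in `I`", `Hom(Q,P)` is a power of `P[I]` -/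
theorem length_hom_of_relations (q : ι → Q) (hq : Submodule.span R (Set.range q) = ⊤)
    (I : Ideal R) (hrel : ∀ a : ι → R, ∑ j, a j • q j = 0 ↔ ∀ j, a j ∈ I) :
    Module.length R (Q →ₗ[R] P) =
      Fintype.card ι • Module.length R ↥(Submodule.torsionBySet R P (I : Set R)) := by
  classical
  have e1 := (LinearEquiv.ofBijective (evalGen (R := R) q P) (evalGen_bijective q hq)).length_eq
  rw [e1]
  let T := Submodule.torsionBySet R P (I : Set R)
  -- `Sol ≃ (ι → T)`
  let F : ↥(Sol (R := R) q P) →ₗ[R] (ι → ↥T) :=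
    { toFun := fun p j => ⟨(p : ι → P) j, by
        rw [Submodule.mem_torsionBySet_iff]
        rintro ⟨d, hd⟩
        have h1 : ∑ i, (Pi.single j d : ι → R) i • q i = 0 := by
          rw [hrel]
          intro i
          by_cases hij : i = j
          · subst hij
            rw [Pi.single_eq_same]
            exact hd
          · rw [Pi.single_eq_of_ne hij]
            exact I.zero_mem
        have h2 := p.2 _ h1
        have h3 : ∑ i, (Pi.single j d : ι → R) i • (p : ι → P) i = d • (p : ι → P) j := by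
          rw [Finset.sum_eq_single j]
          · rw [Pi.single_eq_same]
          · intro i _ hij
            rw [Pi.single_eq_of_ne hij, zero_smul]
          · intro hj
            exact absurd (Finset.mem_univ j) hj
        rw [← h3]
        exact h2⟩
      map_add' := fun p p' => rfl
      map_smul' := fun r p => rfl }
  have hF : Bijective F := by
    constructor
    · intro p p' h
      apply Subtype.ext
      funext j
      exact congrArg (fun s : ι → ↥T => ((s j : ↥T) : P)) h
    · intro t
      refine ⟨⟨fun j => (t j : P), ?_⟩, rfl⟩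
      intro a ha
      have ha' := (hrel a).1 ha
      refine Finset.sum_eq_zero fun j _ => ?_
      have := (Submodule.mem_torsionBySet_iff _ _).1 (t j).2 ⟨a j, ha' j⟩
      exact this
  rw [(LinearEquiv.ofBijective F hF).length_eq, Module.length_pi_of_fintype]
  simp only [Finset.sum_const, Finset.card_univ]
  rfl

end Sol

section Quot

variable {R : Type*} [CommRing R] {L : Type*} [AddCommGroup L] [Module R L]

/-- `{n ∈ N | I n ⊆ x N}` -/
def Hsub (N : Submodule R L) (x : R) (I : Set R) : Submodule R L where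
  carrier := {n | n ∈ N ∧ ∀ d ∈ I, d • n ∈ N.map (LinearMap.lsmul R L x)}
  add_mem' := by
    rintro a b ⟨ha, ha'⟩ ⟨hb, hb'⟩
    refine ⟨N.add_mem ha hb, fun d hd => ?_⟩
    rw [smul_add]
    exact Submodule.add_mem _ (ha' d hd) (hb' d hd)
  zero_mem' := ⟨N.zero_mem, fun d _ => by rw [smul_zero]; exact Submodule.zero_mem _⟩
  smul_mem' := by
    rintro r a ⟨ha, ha'⟩
    refine ⟨N.smul_mem r ha, fun d hd => ?_⟩
    rw [smul_comm]
    exact Submodule.smul_mem _ r (ha' d hd)

theorem mem_Hsub {N : Submodule R L} {x : R} {I : Set R} {n : L} :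
    n ∈ Hsub N x I ↔ n ∈ N ∧ ∀ d ∈ I, d • n ∈ N.map (LinearMap.lsmul R L x) := Iff.rfl

theorem Hsub_le (N : Submodule R L) (x : R) (I : Set R) : Hsub N x I ≤ N := fun _ h => h.1

theorem map_le_Hsub (N : Submodule R L) (x : R) (I : Set R) :
    N.map (LinearMap.lsmul R L x) ≤ Hsub N x I := by
  rintro _ ⟨n, hn, rfl⟩
  refine ⟨N.smul_mem x hn, fun d _ => ⟨d • n, N.smul_mem d hn, ?_⟩⟩
  show x • d • n = d • x • n
  rw [smul_comm]

theorem length_torsionBySet_quot (N : Submodule R L) (x : R) (I : Set R) :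
    Module.length R ↥(Submodule.torsionBySet R
      (↥N ⧸ LinearMap.range (LinearMap.lsmul R ↥N x)) I) =
      rl (N.map (LinearMap.lsmul R L x)) (Hsub N x I) := by
  let ψ : ↥(Hsub N x I) →ₗ[R] (↥N ⧸ LinearMap.range (LinearMap.lsmul R ↥N x)) :=
    (Submodule.mkQ _).comp (Submodule.inclusion (Hsub_le N x I))
  have hker : LinearMap.ker ψ =
      Submodule.comap (Hsub N x I).subtype (N.map (LinearMap.lsmul R L x)) := by
    ext h
    rw [LinearMap.mem_ker, Submodule.mem_comap]
    show Submodule.mkQ _ (Submodule.inclusion (Hsub_le N x I) h) = 0 ↔ _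
    rw [Submodule.mkQ_apply, Submodule.Quotient.mk_eq_zero, LinearMap.mem_range]
    constructor
    · rintro ⟨n, hn⟩
      refine ⟨(n : L), n.2, ?_⟩
      have := congrArg Subtype.val hn
      exact this
    · rintro ⟨n, hn, hn'⟩
      refine ⟨⟨n, hn⟩, ?_⟩
      apply Subtype.ext
      exact hn'
  have hrange : LinearMap.range ψ = Submodule.torsionBySet R
      (↥N ⧸ LinearMap.range (LinearMap.lsmul R ↥N x)) I := by
    ext p
    rw [LinearMap.mem_range, Submodule.mem_torsionBySet_iff]
    constructor
    · rintro ⟨h, rfl⟩ ⟨d, hd⟩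
      show d • Submodule.mkQ _ (Submodule.inclusion (Hsub_le N x I) h) = 0
      rw [Submodule.mkQ_apply, ← Submodule.Quotient.mk_smul, Submodule.Quotient.mk_eq_zero,
        LinearMap.mem_range]
      obtain ⟨n, hn, hn'⟩ := h.2.2 d hd
      refine ⟨⟨n, hn⟩, ?_⟩
      apply Subtype.ext
      exact hn'
    · intro hp
      obtain ⟨n, rfl⟩ := Submodule.Quotient.mk_surjective _ p
      refine ⟨⟨(n : L), n.2, ?_⟩, ?_⟩
      · intro d hd
        have h1 := hp ⟨d, hd⟩
        rw [← Submodule.Quotient.mk_smul, Submodule.Quotient.mk_eq_zero,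
          LinearMap.mem_range] at h1
        obtain ⟨n', hn'⟩ := h1
        refine ⟨(n' : L), n'.2, ?_⟩
        have := congrArg Subtype.val hn'
        exact this
      · rfl
  rw [rl_def, ← hker, (ψ.quotKerEquivRange).length_eq, hrange]

end Quot

section Final

variable {R : Type u} [CommRing R] {L : Type u} [CommRing L] [IsDomain L] [Algebra R L]

/-- `{n ∈ N | M n ⊆ N}` -/
def Esub (M N : Submodule R L) : Submodule R L where
  carrier := {n | n ∈ N ∧ ∀ m ∈ M, m * n ∈ N}
  add_mem' := by
    rintro a b ⟨ha, ha'⟩ ⟨hb, hb'⟩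
    refine ⟨N.add_mem ha hb, fun m hm => ?_⟩
    rw [mul_add]
    exact N.add_mem (ha' m hm) (hb' m hm)
  zero_mem' := ⟨N.zero_mem, fun m _ => by rw [mul_zero]; exact N.zero_mem⟩
  smul_mem' := by
    rintro r a ⟨ha, ha'⟩
    refine ⟨N.smul_mem r ha, fun m hm => ?_⟩
    rw [mul_smul_comm]
    exact N.smul_mem r (ha' m hm)

theorem mem_Esub {M N : Submodule R L} {n : L} :
    n ∈ Esub M N ↔ n ∈ N ∧ ∀ m ∈ M, m * n ∈ N := Iff.rfl

theorem Esub_le (M N : Submodule R L) : Esub M N ≤ N := fun _ h => h.1

variable (hinj : Injective (algebraMap R L))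
  (M N : Submodule R L) (h1 : (1 : L) ∈ M) (x : R) (hx : x ≠ 0)
  (hxM : ∀ m ∈ M, ∃ r : R, x • m = algebraMap R L r)

include hinj hx hxM in
theorem evalRange_eq :
    evalRange (R := R) ↥M ↥N ⟨1, h1⟩ = Submodule.comap N.subtype (Esub M N) := by
  have hx' : algebraMap R L x ≠ 0 := by
    intro h
    apply hx
    apply hinj
    rw [h, map_zero]
  ext n
  rw [mem_evalRange, Submodule.mem_comap, mem_Esub]
  constructor
  · rintro ⟨φ, rfl⟩
    refine ⟨(φ ⟨1, h1⟩).2, fun m hm => ?_⟩
    obtain ⟨r, hr⟩ := hxM m hm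
    have e1 : x • (⟨m, hm⟩ : ↥M) = r • (⟨1, h1⟩ : ↥M) := by
      apply Subtype.ext
      show x • m = r • (1 : L)
      rw [hr, Algebra.smul_def, mul_one]
    have e2 : x • φ ⟨m, hm⟩ = r • φ ⟨1, h1⟩ := by
      rw [← map_smul, ← map_smul, e1]
    have e3 : algebraMap R L x * ((φ ⟨m, hm⟩ : ↥N) : L) =
        algebraMap R L x * (m * ((φ ⟨1, h1⟩ : ↥N) : L)) := by
      have := congrArg (fun z : ↥N => (z : L)) e2
      simp only [Submodule.coe_smul, Algebra.smul_def] at this
      rw [this, ← mul_assoc, ← Algebra.smul_def x m, hr]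
    have e4 := mul_left_cancel₀ hx' e3
    show m * ((φ ⟨1, h1⟩ : ↥N) : L) ∈ N
    rw [← e4]
    exact (φ ⟨m, hm⟩).2
  · rintro ⟨hn, hn'⟩
    let φ : ↥M →ₗ[R] ↥N :=
      { toFun := fun m => ⟨(m : L) * (n : L), hn' m m.2⟩
        map_add' := fun a b => by
          apply Subtype.ext
          show ((a : L) + (b : L)) * (n : L) = a * n + b * n
          rw [add_mul]
        map_smul' := fun r a => by
          apply Subtype.ext
          show (r • (a : L)) * (n : L) = r • ((a : L) * (n : L))
          rw [smul_mul_assoc] }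
    refine ⟨φ, ?_⟩
    apply Subtype.ext
    show (1 : L) * (n : L) = n
    rw [one_mul]

variable {ι : Type} [Fintype ι] (v : ι → L) (hvM : ∀ j, v j ∈ M)
  (hspan : ∀ m ∈ M, ∃ (r : R) (a : ι → R), m = algebraMap R L r + ∑ j, a j • v j)
  (I : Ideal R)
  (hrel : ∀ a : ι → R, (∃ r : R, ∑ j, a j • v j = algebraMap R L r) ↔ ∀ j, a j ∈ I)

include hinj h1 hx hxM hvM hspan hrel in
/-- the final formula -/
theorem length_ext_final :
    Module.length R (Ext (ModuleCat.of R ↥M) (ModuleCat.of R ↥N) 1) + rl (Esub M N) N =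
      Fintype.card ι • rl (N.map (LinearMap.lsmul R L x)) (Hsub N x (I : Set R)) := by
  have hx' : algebraMap R L x ≠ 0 := by
    intro h
    apply hx
    apply hinj
    rw [h, map_zero]
  have he : Injective (fun r : R => r • (⟨1, h1⟩ : ↥M)) := by
    intro r r' h
    apply hinj
    have := congrArg (fun z : ↥M => (z : L)) h
    simpa [Algebra.smul_def] using this
  have hxM' : ∀ m : ↥M, x • m ∈ Submodule.span R {(⟨1, h1⟩ : ↥M)} := by
    intro m
    obtain ⟨r, hr⟩ := hxM m m.2
    rw [Submodule.mem_span_singleton]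
    refine ⟨r, ?_⟩
    apply Subtype.ext
    show r • (1 : L) = x • (m : L)
    rw [hr, Algebra.smul_def, mul_one]
  have hxN' : ∀ n : ↥N, x • n = 0 → n = 0 := by
    intro n hn
    apply Subtype.ext
    have := congrArg (fun z : ↥N => (z : L)) hn
    simp only [Submodule.coe_smul, Algebra.smul_def, Submodule.coe_zero] at this
    rcases mul_eq_zero.1 this with h | h
    · exact absurd h hx'
    · exact h
  have main := length_ext_one (R := R) ↥M ↥N ⟨1, h1⟩ x he hxM' hxN'
  rw [evalRange_eq hinj M N h1 x hx hxM] at main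
  rw [rl_def, main]
  -- the Hom side
  let q : ι → (↥M ⧸ Submodule.span R {(⟨1, h1⟩ : ↥M)}) :=
    fun j => Submodule.Quotient.mk ⟨v j, hvM j⟩
  have hq : Submodule.span R (Set.range q) = ⊤ := by
    rw [eq_top_iff]
    rintro y -
    obtain ⟨m, rfl⟩ := Submodule.Quotient.mk_surjective _ y
    obtain ⟨r, a, hm⟩ := hspan m m.2
    have e1 : (Submodule.Quotient.mk m : ↥M ⧸ Submodule.span R {(⟨1, h1⟩ : ↥M)}) =
        ∑ j, a j • q j := by
      have e2 : m = r • (⟨1, h1⟩ : ↥M) + ∑ j, a j • (⟨v j, hvM j⟩ : ↥M) := by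
        apply Subtype.ext
        rw [Submodule.coe_add, Submodule.coe_sum]
        show (m : L) = r • (1 : L) + ∑ j, a j • v j
        rw [hm, Algebra.smul_def, mul_one]
      conv_lhs => rw [e2]
      rw [Submodule.Quotient.mk_add, Submodule.Quotient.mk_smul]
      have e3 : (Submodule.Quotient.mk (⟨1, h1⟩ : ↥M) :
          ↥M ⧸ Submodule.span R {(⟨1, h1⟩ : ↥M)}) = 0 := by
        rw [Submodule.Quotient.mk_eq_zero]
        exact Submodule.mem_span_singleton_self _
      rw [e3, smul_zero, zero_add]
      rw [← Submodule.mkQ_apply, map_sum]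
      rfl
    rw [e1]
    exact Submodule.sum_mem _ fun j _ =>
      Submodule.smul_mem _ _ (Submodule.subset_span ⟨j, rfl⟩)
  have hrel' : ∀ a : ι → R, ∑ j, a j • q j = 0 ↔ ∀ j, a j ∈ I := by
    intro a
    rw [← hrel a]
    have e1 : ∑ j, a j • q j = Submodule.Quotient.mk (∑ j, a j • (⟨v j, hvM j⟩ : ↥M)) := by
      rw [← Submodule.mkQ_apply, map_sum]
      rfl
    rw [e1, Submodule.Quotient.mk_eq_zero, Submodule.mem_span_singleton]
    constructor
    · rintro ⟨r, hr⟩
      refine ⟨r, ?_⟩
      have := congrArg (fun z : ↥M => (z : L)) hr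
      simp only [Submodule.coe_smul, Submodule.coe_sum] at this
      rw [← this, Algebra.smul_def, mul_one]
    · rintro ⟨r, hr⟩
      refine ⟨r, ?_⟩
      apply Subtype.ext
      rw [Submodule.coe_sum]
      show r • (1 : L) = ∑ j, a j • v j
      rw [hr, Algebra.smul_def, mul_one]
  rw [length_hom_of_relations q hq I hrel', length_torsionBySet_quot]

end Final

end Groth.Agent.Helper7.MonExt
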