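import Mathlib
import Groth.Agent.Helper7.MonExtB

/-!
# `Hom(I, N)` from a presentation of `I`, and quotients of `R^b` versus `S^b` (helper7)
-/

set_option autoImplicit false
set_option linter.style.haveILetI false
set_option linter.unusedSectionVars false
universe u

namespace Groth.Agent.Helper7.HomLen

open Matrix Function

section pi

variable {R : Type u} [CommRing R]

theorem mem_smul_top_pi_iff {b : ℕ} (J : Ideal R) (x : Fin b → R) :
    x ∈ (J • ⊤ : Submodule R (Fin b → R)) ↔ ∀ i, x i ∈ J := by
  classical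
  constructor
  · intro hx i
    have h1 : Submodule.map (LinearMap.proj (R := R) (φ := fun _ : Fin b => R) i)
        (J • ⊤ : Submodule R (Fin b → R)) ≤ (J • ⊤ : Submodule R R) := by
      rw [Submodule.map_smul'']
      exact smul_mono_right _ le_top
    have := h1 ⟨x, hx, rfl⟩
    rwa [smul_eq_mul, Ideal.mul_top] at this
  · intro hx
    have h2 : x = ∑ i, Pi.single i (x i) := (Finset.univ_sum_single x).symm
    rw [h2]
    refine Submodule.sum_mem _ (fun i _ => ?_)
    have h3 : (Pi.single i (x i) : Fin b → R) = x i • (Pi.single i (1 : R) : Fin b → R) := by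
      rw [← Pi.single_smul, smul_eq_mul, mul_one]
    rw [h3]
    exact Submodule.smul_mem_smul (hx i) Submodule.mem_top

end pi

section quot

variable {R S : Type u} [CommRing R] [CommRing S] [Algebra R S]

/-- coordinatewise `algebraMap` -/
def cmap (b : ℕ) : (Fin b → R) →ₗ[R] (Fin b → S) := (Algebra.linearMap R S).compLeft (Fin b)

theorem cmap_apply {b : ℕ} (v : Fin b → R) (j : Fin b) :
    cmap (S := S) b v j = algebraMap R S (v j) := rfl

theorem cmap_surjective (hsurj : Surjective (algebraMap R S)) (b : ℕ) :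
    Surjective (cmap (R := R) (S := S) b) := by
  intro w
  choose v hv using fun j => hsurj (w j)
  exact ⟨v, funext hv⟩

theorem cmap_mulVec {a b : ℕ} (N : Matrix (Fin b) (Fin a) R) (y : Fin a → R) :
    cmap (S := S) b (N *ᵥ y) = (N.map (algebraMap R S)) *ᵥ (cmap (S := S) a y) := by
  funext j
  rw [cmap_apply]
  exact RingHom.map_mulVec (algebraMap R S) N y j

/-- `R^b/(range N + 𝔟 R^b)` and `S^b/(range N_S + 𝔟_S S^b)` have the same length -/
theorem length_quot_eq (hsurj : Surjective (algebraMap R S)) {a b : ℕ}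
    (N : Matrix (Fin b) (Fin a) R) (𝔟 : Ideal R) (hker : RingHom.ker (algebraMap R S) ≤ 𝔟) :
    Module.length R ((Fin b → R) ⧸
        (LinearMap.range N.mulVecLin ⊔ 𝔟 • (⊤ : Submodule R (Fin b → R)))) =
      Module.length S ((Fin b → S) ⧸
        (LinearMap.range (N.map (algebraMap R S)).mulVecLin ⊔
          (𝔟.map (algebraMap R S)) • (⊤ : Submodule S (Fin b → S)))) := by
  classical
  set W : Submodule S (Fin b → S) := LinearMap.range (N.map (algebraMap R S)).mulVecLin ⊔
          (𝔟.map (algebraMap R S)) • (⊤ : Submodule S (Fin b → S)) with hW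
  set U : Submodule R (Fin b → R) :=
    LinearMap.range N.mulVecLin ⊔ 𝔟 • (⊤ : Submodule R (Fin b → R)) with hU
  rw [← Module.length_eq_of_surjective (S := R) (R := S) (M := (Fin b → S) ⧸ W) hsurj]
  let p : (Fin b → R) →ₗ[R] ((Fin b → S) ⧸ W) := (W.mkQ.restrictScalars R) ∘ₗ cmap b
  have hp : Surjective p := (Submodule.mkQ_surjective W).comp (cmap_surjective hsurj b)
  have hkerp : LinearMap.ker p = U := by
    ext v
    rw [LinearMap.mem_ker]
    show W.mkQ (cmap b v) = 0 ↔ _
    rw [Submodule.mkQ_apply, Submodule.Quotient.mk_eq_zero]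
    constructor
    · intro hv
      obtain ⟨w1, ⟨y', rfl⟩, z', hz', hsum⟩ := Submodule.mem_sup.1 hv
      obtain ⟨y, rfl⟩ := cmap_surjective hsurj a y'
      have hz : cmap (S := S) b (v - N *ᵥ y) = z' := by
        rw [map_sub, cmap_mulVec, ← hsum, Matrix.mulVecLin_apply]
        abel
      have hmem : v - N *ᵥ y ∈ 𝔟 • (⊤ : Submodule R (Fin b → R)) := by
        rw [mem_smul_top_pi_iff]
        intro j
        have h1 := (mem_smul_top_pi_iff (𝔟.map (algebraMap R S)) z').1 hz' j
        rw [← hz, cmap_apply] at h1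
        have h2 : (v - N *ᵥ y) j ∈ (𝔟.map (algebraMap R S)).comap (algebraMap R S) := h1
        rw [Ideal.comap_map_of_surjective _ hsurj] at h2
        have h3 : 𝔟 ⊔ Ideal.comap (algebraMap R S) ⊥ ≤ 𝔟 := sup_le le_rfl hker
        exact h3 h2
      have : v = N.mulVecLin y + (v - N *ᵥ y) := by
        rw [Matrix.mulVecLin_apply]; abel
      rw [this]
      exact Submodule.add_mem _ (Submodule.mem_sup_left ⟨y, rfl⟩) (Submodule.mem_sup_right hmem)
    · intro hv
      obtain ⟨v1, ⟨y, rfl⟩, v2, hv2, rfl⟩ := Submodule.mem_sup.1 hv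
      rw [map_add]
      refine Submodule.add_mem _ (Submodule.mem_sup_left ?_) (Submodule.mem_sup_right ?_)
      · rw [Matrix.mulVecLin_apply, cmap_mulVec]
        exact ⟨cmap a y, rfl⟩
      · rw [mem_smul_top_pi_iff]
        intro j
        rw [cmap_apply]
        exact Ideal.mem_map_of_mem _ ((mem_smul_top_pi_iff 𝔟 v2).1 hv2 j)
  have e := p.quotKerEquivOfSurjective hp
  rw [← e.length_eq]
  exact (Submodule.quotEquivOfEq _ _ hkerp.symm).length_eq

end quot

end Groth.Agent.Helper7.HomLen
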