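import Mathlib
import Groth.Agent.Helper7.HomLenB

/-!
# `ℓ Hom(I, R/J)` from a Hilbert–Burch presentation of `I` (helper7)
-/

set_option autoImplicit false
set_option linter.style.haveILetI false
set_option linter.unusedSectionVars false
universe u

namespace Groth.Agent.Helper7.HomLen

open Matrix Function Groth.Agent.Helper7.MonExt

section count

variable {S : Type u} [CommRing S]

/-- kernel/cokernel count for a map `S^(b+1) → S^b` -/
theorem length_ker_eq {b : ℕ} (ψ : (Fin (b + 1) → S) →ₗ[S] (Fin b → S))
    (hS : Module.length S S ≠ ⊤) :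
    Module.length S (LinearMap.ker ψ) =
      Module.length S S + Module.length S ((Fin b → S) ⧸ LinearMap.range ψ) := by
  have h1 := Module.length_eq_add_of_exact (LinearMap.ker ψ).subtype ψ.rangeRestrict
    (Submodule.subtype_injective _) ψ.surjective_rangeRestrict (by
      rw [LinearMap.exact_iff, LinearMap.ker_rangeRestrict, Submodule.range_subtype])
  have h2 := Module.length_eq_add_of_exact (LinearMap.range ψ).subtype (LinearMap.range ψ).mkQ
    (Submodule.subtype_injective _) (Submodule.mkQ_surjective _)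
    (LinearMap.exact_subtype_mkQ _)
  rw [Module.length_pi] at h1 h2
  simp only [ENat.card_eq_coe_fintype_card, Fintype.card_fin] at h1 h2
  obtain ⟨s, hs⟩ := ENat.ne_top_iff_exists.mp hS
  rw [← hs] at h1 h2 ⊢
  have hρ : Module.length S (LinearMap.range ψ) ≠ ⊤ := by
    intro h
    rw [h, top_add] at h2
    exact absurd h2 (by exact_mod_cast ENat.natCast_ne_top (b * s))
  have hq : Module.length S ((Fin b → S) ⧸ LinearMap.range ψ) ≠ ⊤ := by
    intro h
    rw [h, add_top] at h2
    exact absurd h2 (by exact_mod_cast ENat.natCast_ne_top (b * s))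
  have hk : Module.length S (LinearMap.ker ψ) ≠ ⊤ := by
    intro h
    rw [h, top_add] at h1
    exact absurd h1 (by exact_mod_cast ENat.natCast_ne_top ((b + 1) * s))
  obtain ⟨ρ, hρ'⟩ := ENat.ne_top_iff_exists.mp hρ
  obtain ⟨q, hq'⟩ := ENat.ne_top_iff_exists.mp hq
  obtain ⟨k, hk'⟩ := ENat.ne_top_iff_exists.mp hk
  rw [← hρ', ← hq'] at h2
  rw [← hρ', ← hk'] at h1
  rw [← hk', ← hq']
  have h1' : (b + 1) * s = k + ρ := by exact_mod_cast h1
  have h2' : b * s = ρ + q := by exact_mod_cast h2
  have : k = s + q := by nlinarith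
  exact_mod_cast this

end count

section hom

variable {R : Type u} [CommRing R] (I J : Ideal R) {a b : ℕ} (gen : Fin a → R)
  (φ : Matrix (Fin a) (Fin b) R)

/-- `Hom(I, R/J)` is the kernel of the transposed presentation matrix over `R/J` -/
theorem length_hom_eq_length_ker (hgen : Ideal.span (Set.range gen) = I)
    (hφ : LinearMap.range φ.mulVecLin = LinearMap.ker (Fintype.linearCombination R gen)) :
    Module.length R (↥I →ₗ[R] (R ⧸ J)) =
      Module.length (R ⧸ J) (LinearMap.ker ((φ.map (Ideal.Quotient.mk J))ᵀ.mulVecLin)) := by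
  classical
  have hmem : ∀ i, gen i ∈ I := fun i => by
    rw [← hgen]; exact Ideal.subset_span ⟨i, rfl⟩
  let q : Fin a → I := fun i => ⟨gen i, hmem i⟩
  have hq : Submodule.span R (Set.range q) = ⊤ := by
    rw [eq_top_iff]
    rintro ⟨x, hx⟩ -
    have hx' : x ∈ Submodule.span R (Set.range gen) := by rw [Ideal.submodule_span_eq, hgen]; exact hx
    have : Submodule.map I.subtype (Submodule.span R (Set.range q)) =
        Submodule.span R (Set.range gen) := by
      rw [Submodule.map_span, ← Set.range_comp]
      rfl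
    rw [← this] at hx'
    obtain ⟨y, hy, hyx⟩ := hx'
    have : y = ⟨x, hx⟩ := Subtype.ext hyx
    rw [← this]
    exact hy
  let e : (↥I →ₗ[R] (R ⧸ J)) ≃ₗ[R] ↥(Sol (R := R) q (R ⧸ J)) :=
    LinearEquiv.ofBijective (evalGen (R := R) q (R ⧸ J)) (evalGen_bijective q hq)
  rw [e.length_eq]
  set ψ := (φ.map (Ideal.Quotient.mk J))ᵀ.mulVecLin with hψ
  have hSol : Sol (R := R) q (R ⧸ J) = (LinearMap.ker ψ).restrictScalars R := by
    ext y
    rw [mem_Sol, Submodule.restrictScalars_mem, LinearMap.mem_ker]
    have hcoord : ∀ j, ψ y j = ∑ i, φ i j • y i := by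
      intro j
      rw [hψ, Matrix.mulVecLin_apply, Matrix.mulVec, dotProduct]
      refine Finset.sum_congr rfl fun i _ => ?_
      rw [Matrix.transpose_apply, Matrix.map_apply]
      rfl
    constructor
    · intro h
      funext j
      rw [hcoord, Pi.zero_apply]
      apply h (fun i => φ i j)
      have h1 : φ.mulVecLin (Pi.single j 1) ∈
          LinearMap.ker (Fintype.linearCombination R gen) := by
        rw [← hφ]; exact ⟨_, rfl⟩
      rw [LinearMap.mem_ker, Fintype.linearCombination_apply] at h1
      apply Subtype.ext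
      rw [Submodule.coe_sum, ZeroMemClass.coe_zero, ← h1]
      refine Finset.sum_congr rfl fun i _ => ?_
      rw [Matrix.mulVecLin_apply, Matrix.mulVec_single_one]
      rfl
    · intro h c hc
      have hc' : c ∈ LinearMap.ker (Fintype.linearCombination R gen) := by
        rw [LinearMap.mem_ker, Fintype.linearCombination_apply]
        have := congrArg Subtype.val hc
        rw [Submodule.coe_sum, ZeroMemClass.coe_zero] at this
        rw [← this]
        rfl
      rw [← hφ] at hc'
      obtain ⟨v, rfl⟩ := hc'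
      have hj : ∀ j, ∑ i, φ i j • y i = 0 := fun j => by
        rw [← hcoord, h]; rfl
      calc ∑ i, (φ.mulVecLin v) i • y i = ∑ i, ∑ j, (φ i j * v j) • y i := by
            refine Finset.sum_congr rfl fun i _ => ?_
            rw [Matrix.mulVecLin_apply, Matrix.mulVec, dotProduct, Finset.sum_smul]
        _ = ∑ j, v j • ∑ i, φ i j • y i := by
            rw [Finset.sum_comm]
            refine Finset.sum_congr rfl fun j _ => ?_
            rw [Finset.smul_sum]
            refine Finset.sum_congr rfl fun i _ => ?_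
            rw [smul_smul, mul_comm]
        _ = 0 := by
            refine Finset.sum_eq_zero fun j _ => ?_
            rw [hj j, smul_zero]
  rw [hSol]
  rw [← Module.length_eq_of_surjective (S := R) (R := R ⧸ J) (M := ↥(LinearMap.ker ψ))
    Ideal.Quotient.mk_surjective]
  exact ((Submodule.restrictScalarsEquiv R (R ⧸ J) (Fin a → R ⧸ J) (LinearMap.ker ψ)).restrictScalars R).length_eq

/-- `ℓ Hom(I, R/J) = ℓ(R/J) + ℓ(R^b/(range φᵀ + J R^b))` for a presentation `R^b → R^(b+1) → I` -/
theorem length_hom_eq {b : ℕ} (gen : Fin (b + 1) → R) (φ : Matrix (Fin (b + 1)) (Fin b) R)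
    (hgen : Ideal.span (Set.range gen) = I)
    (hφ : LinearMap.range φ.mulVecLin = LinearMap.ker (Fintype.linearCombination R gen))
    (hJ : Module.length R (R ⧸ J) ≠ ⊤) :
    Module.length R (↥I →ₗ[R] (R ⧸ J)) =
      Module.length R (R ⧸ J) + Module.length R ((Fin b → R) ⧸
        (LinearMap.range φᵀ.mulVecLin ⊔ J • (⊤ : Submodule R (Fin b → R)))) := by
  have hSR : Module.length R (R ⧸ J) = Module.length (R ⧸ J) (R ⧸ J) :=
    Module.length_eq_of_surjective (S := R) (R := R ⧸ J) (M := R ⧸ J) Ideal.Quotient.mk_surjective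
  rw [length_hom_eq_length_ker I J gen φ hgen hφ, length_ker_eq _ (by rw [← hSR]; exact hJ), ← hSR]
  congr 1
  have hq := length_quot_eq (R := R) (S := R ⧸ J) Ideal.Quotient.mk_surjective φᵀ J (by
    rw [Ideal.Quotient.algebraMap_eq, Ideal.mk_ker])
  rw [hq]
  have h1 : φᵀ.map (algebraMap R (R ⧸ J)) = (φ.map (Ideal.Quotient.mk J))ᵀ := by
    rw [Ideal.Quotient.algebraMap_eq]
    rfl
  have h2 : J.map (algebraMap R (R ⧸ J)) = ⊥ := by
    rw [Ideal.Quotient.algebraMap_eq, Ideal.map_quotient_self]
  rw [h1, h2, Submodule.bot_smul, sup_bot_eq]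

end hom

end Groth.Agent.Helper7.HomLen
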