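import Mathlib
import Groth.Agent.Helper7.HomLenB

/-!
# `Tor₂(R/I, R/(x,y)) ≅ R/I` by hand, for a Hilbert–Burch presentation of `I` (helper7)
-/

set_option autoImplicit false
set_option linter.style.haveILetI false
set_option linter.unusedSectionVars false
universe u

namespace Groth.Agent.Helper7.HomLen

open Matrix Function

section theta

variable {R : Type u} [CommRing R] (I : Ideal R) {a b : ℕ} (gen : Fin a → R)
  (φ : Matrix (Fin a) (Fin b) R) (x y : R)

/-- elements of `(x,y) R^n` -/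
theorem exists_eq_smul_add_smul {n : ℕ} (z : Fin n → R)
    (hz : z ∈ (Ideal.span {x, y} • ⊤ : Submodule R (Fin n → R))) :
    ∃ p q : Fin n → R, z = x • p + y • q := by
  rw [mem_smul_top_pi_iff] at hz
  choose p q hpq using fun j => Ideal.mem_span_pair.1 (hz j)
  refine ⟨p, q, ?_⟩
  funext j
  rw [Pi.add_apply, Pi.smul_apply, Pi.smul_apply, smul_eq_mul, smul_eq_mul, ← hpq j]
  ring

theorem smul_add_smul_mem {n : ℕ} (p q : Fin n → R) :
    x • p + y • q ∈ (Ideal.span {x, y} • ⊤ : Submodule R (Fin n → R)) := by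
  refine Submodule.add_mem _ (Submodule.smul_mem_smul ?_ Submodule.mem_top)
    (Submodule.smul_mem_smul ?_ Submodule.mem_top)
  · exact Ideal.subset_span (by simp)
  · exact Ideal.subset_span (by simp)

/-- `cmap v = 0` iff `v ∈ (x,y) R^n` -/
theorem cmap_eq_zero_iff {n : ℕ} (v : Fin n → R) :
    cmap (S := R ⧸ Ideal.span {x, y}) n v = 0 ↔
      v ∈ (Ideal.span {x, y} • ⊤ : Submodule R (Fin n → R)) := by
  rw [mem_smul_top_pi_iff]
  constructor
  · intro h j
    have := congrFun h j
    rw [cmap_apply, Pi.zero_apply, Ideal.Quotient.algebraMap_eq,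
      Ideal.Quotient.eq_zero_iff_mem] at this
    exact this
  · intro h
    funext j
    rw [cmap_apply, Pi.zero_apply, Ideal.Quotient.algebraMap_eq, Ideal.Quotient.eq_zero_iff_mem]
    exact h j

variable (hgen : Ideal.span (Set.range gen) = I)
  (hφ : LinearMap.range φ.mulVecLin = LinearMap.ker (Fintype.linearCombination R gen))
  (hinj : Injective φ.mulVecLin)
  (hx : ∀ r, x * r = 0 → r = 0) (hxy : ∀ r s, y * r = x * s → ∃ t, r = x * t)

include hx hxy in
theorem syz (p q : R) (h : x * p + y * q = 0) : ∃ t, p = -(y * t) ∧ q = x * t := by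
  obtain ⟨t, ht⟩ := hxy q (-p) (by linear_combination h)
  refine ⟨t, ?_, ht⟩
  have : x * (p + y * t) = 0 := by rw [ht] at h; linear_combination h
  have := hx _ this
  linear_combination this

include hgen in
theorem lc_mem (v : Fin a → R) : Fintype.linearCombination R gen v ∈ I := by
  rw [← hgen, Fintype.linearCombination_apply]
  refine Ideal.sum_mem _ fun i _ => ?_
  exact Ideal.mul_mem_left _ _ (Ideal.subset_span ⟨i, rfl⟩)

include hgen in
theorem exists_lc_eq {t : R} (ht : t ∈ I) : ∃ s : Fin a → R, Fintype.linearCombination R gen s = t := by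
  have : t ∈ LinearMap.range (Fintype.linearCombination R gen) := by
    rw [Fintype.range_linearCombination, Ideal.submodule_span_eq, hgen]
    exact ht
  exact this

include hφ in
theorem exists_mulVec_eq {v : Fin a → R} (hv : Fintype.linearCombination R gen v = 0) :
    ∃ α : Fin b → R, φ *ᵥ α = v := by
  have : v ∈ LinearMap.range φ.mulVecLin := by
    rw [hφ, LinearMap.mem_ker]; exact hv
  exact this

include hφ in
theorem lc_mulVec (α : Fin b → R) : Fintype.linearCombination R gen (φ *ᵥ α) = 0 := by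
  have : φ.mulVecLin α ∈ LinearMap.ker (Fintype.linearCombination R gen) := by
    rw [← hφ]; exact ⟨α, rfl⟩
  exact this

/-- the data `w` with `φ w = y u − x v` -/
structure WData where
  u : Fin a → R
  v : Fin a → R
  w : Fin b → R
  hu : Fintype.linearCombination R gen u = x
  hv : Fintype.linearCombination R gen v = y
  hw : φ *ᵥ w = y • u - x • v

include hgen hφ in
theorem nonempty_wdata (hxI : x ∈ I) (hyI : y ∈ I) : Nonempty (WData gen φ x y) := by
  obtain ⟨u, hu⟩ := exists_lc_eq I gen hgen hxI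
  obtain ⟨v, hv⟩ := exists_lc_eq I gen hgen hyI
  obtain ⟨w, hw⟩ := exists_mulVec_eq gen φ hφ (v := y • u - x • v) (by
    rw [map_sub, map_smul, map_smul, hu, hv, smul_eq_mul, smul_eq_mul]; ring)
  exact ⟨⟨u, v, w, hu, hv, hw⟩⟩

variable (D : WData gen φ x y)

include hgen hφ hinj in
/-- `t ∈ I ⇒ t w ∈ (x,y) R^b` -/
theorem smul_w_mem_of_mem {t : R} (ht : t ∈ I) :
    t • D.w ∈ (Ideal.span {x, y} • ⊤ : Submodule R (Fin b → R)) := by
  obtain ⟨s, hs⟩ := exists_lc_eq I gen hgen ht
  obtain ⟨β, hβ⟩ := exists_mulVec_eq gen φ hφ (v := t • D.u - x • s) (by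
    rw [map_sub, map_smul, map_smul, D.hu, hs, smul_eq_mul, smul_eq_mul]; ring)
  obtain ⟨α, hα⟩ := exists_mulVec_eq gen φ hφ (v := t • D.v - y • s) (by
    rw [map_sub, map_smul, map_smul, D.hv, hs, smul_eq_mul, smul_eq_mul]; ring)
  have h1 : φ.mulVecLin (t • D.w) = φ.mulVecLin (y • β - x • α) := by
    rw [Matrix.mulVecLin_apply, Matrix.mulVecLin_apply, Matrix.mulVec_smul, D.hw,
      Matrix.mulVec_sub, Matrix.mulVec_smul, Matrix.mulVec_smul, hβ, hα]
    funext i
    simp only [Pi.smul_apply, Pi.sub_apply, smul_eq_mul]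
    ring
  rw [hinj h1]
  have : y • β - x • α = x • (-α) + y • β := by
    rw [smul_neg]; abel
  rw [this]
  exact smul_add_smul_mem x y _ _

include hgen hφ hx hxy in
/-- `t w ∈ (x,y) R^b ⇒ t ∈ I` -/
theorem mem_of_smul_w_mem {t : R}
    (ht : t • D.w ∈ (Ideal.span {x, y} • ⊤ : Submodule R (Fin b → R))) : t ∈ I := by
  obtain ⟨α, β, hαβ⟩ := exists_eq_smul_add_smul x y _ ht
  have h1 : ∀ i, y * ((t • D.u - φ *ᵥ β) i) = x * ((t • D.v + φ *ᵥ α) i) := by
    intro i
    have h2 := congrArg (fun z => (φ *ᵥ z) i) hαβ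
    simp only [Matrix.mulVec_smul, Matrix.mulVec_add, D.hw, Pi.smul_apply, Pi.add_apply,
      Pi.sub_apply, smul_eq_mul] at h2
    simp only [Pi.smul_apply, Pi.add_apply, Pi.sub_apply, smul_eq_mul]
    linear_combination h2
  choose s hs using fun i => hxy _ _ (h1 i)
  have h3 : t • D.u - φ *ᵥ β = x • s := by
    funext i
    rw [hs i, Pi.smul_apply, smul_eq_mul]
  have h4 := congrArg (Fintype.linearCombination R gen) h3
  rw [map_sub, map_smul, map_smul, D.hu, lc_mulVec gen φ hφ, sub_zero, smul_eq_mul,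
    smul_eq_mul] at h4
  have h5 : x * (t - Fintype.linearCombination R gen s) = 0 := by linear_combination h4
  have h6 := hx _ h5
  have : t = Fintype.linearCombination R gen s := by linear_combination h6
  rw [this]
  exact lc_mem I gen hgen s

include hφ hinj hx hxy in
/-- every `z` with `φ z ∈ (x,y) R^a` is `t w` modulo `(x,y) R^b` -/
theorem exists_sub_smul_w_mem (z : Fin b → R)
    (hz : φ *ᵥ z ∈ (Ideal.span {x, y} • ⊤ : Submodule R (Fin a → R))) :
    ∃ t : R, z - t • D.w ∈ (Ideal.span {x, y} • ⊤ : Submodule R (Fin b → R)) := by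
  obtain ⟨p, q, hpq⟩ := exists_eq_smul_add_smul x y _ hz
  have h0 := congrArg (Fintype.linearCombination R gen) hpq
  rw [lc_mulVec gen φ hφ, map_add, map_smul, map_smul, smul_eq_mul, smul_eq_mul] at h0
  obtain ⟨t, ht1, ht2⟩ := syz x y hx hxy _ _ h0.symm
  obtain ⟨α, hα⟩ := exists_mulVec_eq gen φ hφ (v := p + t • D.v) (by
    rw [map_add, map_smul, D.hv, ht1, smul_eq_mul]; ring)
  obtain ⟨β, hβ⟩ := exists_mulVec_eq gen φ hφ (v := q - t • D.u) (by
    rw [map_sub, map_smul, D.hu, ht2, smul_eq_mul]; ring)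
  refine ⟨t, ?_⟩
  have h1 : φ.mulVecLin z = φ.mulVecLin (x • α + y • β + t • D.w) := by
    rw [Matrix.mulVecLin_apply, Matrix.mulVecLin_apply, hpq, Matrix.mulVec_add,
      Matrix.mulVec_add, Matrix.mulVec_smul, Matrix.mulVec_smul, Matrix.mulVec_smul, hα, hβ,
      D.hw]
    funext i
    simp only [Pi.smul_apply, Pi.add_apply, Pi.sub_apply, smul_eq_mul]
    ring
  rw [hinj h1, add_sub_cancel_right]
  exact smul_add_smul_mem x y _ _

end theta

end Groth.Agent.Helper7.HomLen
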