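import Mathlib
import Groth.Agent.Helper7.HomLenA
import Groth.Agent.Helper7.HomLenD

/-!
# The length of the `J`-torsion of `Tor₂(R/I, R/(x,y))` (helper7)
-/

set_option autoImplicit false
set_option linter.style.haveILetI false
set_option linter.unusedSectionVars false
universe u

namespace Groth.Agent.Helper7.HomLen

open Matrix Function

section final

variable {R : Type u} [CommRing R] (I J : Ideal R) {a b : ℕ} (gen : Fin a → R)
  (φ : Matrix (Fin a) (Fin b) R) (x y : R)
  (hgen : Ideal.span (Set.range gen) = I)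
  (hφ : LinearMap.range φ.mulVecLin = LinearMap.ker (Fintype.linearCombination R gen))
  (hinj : Injective φ.mulVecLin)
  (hx : ∀ r, x * r = 0 → r = 0) (hxy : ∀ r s, y * r = x * s → ∃ t, r = x * t)
  (D : WData gen φ x y)

/-- `t ↦ class of t w` -/
noncomputable def Θ : R →ₗ[R] (Fin b → R ⧸ Ideal.span {x, y}) :=
  (cmap (S := R ⧸ Ideal.span {x, y}) b) ∘ₗ (LinearMap.toSpanSingleton R (Fin b → R) D.w)

theorem Θ_apply (t : R) : Θ gen φ x y D t = cmap (S := R ⧸ Ideal.span {x, y}) b (t • D.w) := rfl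

include hgen hφ hinj hx hxy in
theorem Θ_eq_zero_iff (t : R) : Θ gen φ x y D t = 0 ↔ t ∈ I := by
  rw [Θ_apply, cmap_eq_zero_iff]
  exact ⟨mem_of_smul_w_mem I gen φ x y hgen hφ hx hxy D,
    smul_w_mem_of_mem I gen φ x y hgen hφ hinj D⟩

theorem mk_smul_Θ (s t : R) :
    (Ideal.Quotient.mk (Ideal.span {x, y}) s) • Θ gen φ x y D t = Θ gen φ x y D (s * t) := by
  rw [Θ_apply, Θ_apply, mul_smul]
  funext j
  rw [Pi.smul_apply, cmap_apply, cmap_apply, Pi.smul_apply, smul_eq_mul, smul_eq_mul, map_mul]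
  rfl

theorem mulVec_Θ (t : R) :
    (φ.map (algebraMap R (R ⧸ Ideal.span {x, y}))) *ᵥ Θ gen φ x y D t = 0 := by
  rw [Θ_apply, ← cmap_mulVec, cmap_eq_zero_iff, Matrix.mulVec_smul, D.hw]
  have : t • (y • D.u - x • D.v) = x • (-(t • D.v)) + y • (t • D.u) := by
    funext i
    simp only [Pi.smul_apply, Pi.sub_apply, Pi.add_apply, Pi.neg_apply, smul_eq_mul]
    ring
  rw [this]
  exact smul_add_smul_mem x y _ _

include hφ hinj hx hxy in
theorem exists_eq_Θ (z : Fin b → R ⧸ Ideal.span {x, y})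
    (hz : (φ.map (algebraMap R (R ⧸ Ideal.span {x, y}))) *ᵥ z = 0) :
    ∃ t, z = Θ gen φ x y D t := by
  obtain ⟨z', rfl⟩ := cmap_surjective (R := R) (S := R ⧸ Ideal.span {x, y})
    Ideal.Quotient.mk_surjective b z
  rw [← cmap_mulVec, cmap_eq_zero_iff] at hz
  obtain ⟨t, ht⟩ := exists_sub_smul_w_mem gen φ x y hφ hinj hx hxy D z' hz
  refine ⟨t, ?_⟩
  rw [Θ_apply]
  rw [← cmap_eq_zero_iff, map_sub, sub_eq_zero] at ht
  exact ht

include hgen hφ hinj hx hxy D in
/-- **the count**: `ℓ(P) + ℓ(R/(I:J)) = ℓ(R/I)` for `P` the `J`-torsion of `ker(φ ⊗ R/(x,y))` -/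
theorem length_perp_add :
    Module.length (R ⧸ Ideal.span {x, y})
        (perp (LinearMap.range (φ.map (algebraMap R (R ⧸ Ideal.span {x, y})))ᵀ.mulVecLin ⊔
          (J.map (algebraMap R (R ⧸ Ideal.span {x, y}))) •
            (⊤ : Submodule (R ⧸ Ideal.span {x, y}) (Fin b → R ⧸ Ideal.span {x, y})))) +
        Module.length R (R ⧸ I.colon J) =
      Module.length R (R ⧸ I) := by
  classical
  set A := R ⧸ Ideal.span {x, y} with hA
  set M := φ.map (algebraMap R A) with hM
  set P := perp (LinearMap.range Mᵀ.mulVecLin ⊔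
          (J.map (algebraMap R A)) • (⊤ : Submodule A (Fin b → A))) with hP
  have hle : I ≤ I.colon J := by
    intro t ht
    rw [Submodule.mem_colon]
    intro s _
    exact Ideal.mul_mem_right _ _ ht
  let g : (R ⧸ I) →ₗ[R] (R ⧸ I.colon J) := Submodule.factor hle
  have hg : Surjective g := by
    intro z
    obtain ⟨t, rfl⟩ := Submodule.Quotient.mk_surjective _ z
    exact ⟨Submodule.Quotient.mk t, rfl⟩
  have hgker : ∀ t : R, (Submodule.Quotient.mk t : R ⧸ I) ∈ LinearMap.ker g ↔ t ∈ I.colon J := by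
    intro t
    rw [LinearMap.mem_ker]
    show (Submodule.Quotient.mk t : R ⧸ I.colon J) = 0 ↔ _
    rw [Submodule.Quotient.mk_eq_zero]
  have h1 := Module.length_eq_add_of_exact (LinearMap.ker g).subtype g
    (Submodule.subtype_injective _) hg (LinearMap.exact_subtype_ker_map g)
  rw [h1]
  congr 1
  -- the injection `R/I → A^b`
  have hkerΘ : I ≤ LinearMap.ker (Θ gen φ x y D) := fun t ht =>
    (Θ_eq_zero_iff I gen φ x y hgen hφ hinj hx hxy D t).2 ht
  let Θb : (R ⧸ I) →ₗ[R] (Fin b → A) := Submodule.liftQ I (Θ gen φ x y D) hkerΘ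
  have hΘb : Injective Θb := by
    rw [← LinearMap.ker_eq_bot]
    apply Submodule.ker_liftQ_eq_bot
    intro t ht
    exact (Θ_eq_zero_iff I gen φ x y hgen hφ hinj hx hxy D t).1 ht
  have hΘb_mk : ∀ t : R, Θb (Submodule.Quotient.mk t) = Θ gen φ x y D t := fun t => rfl
  have hmap : Submodule.map Θb (LinearMap.ker g) = P.restrictScalars R := by
    ext z
    rw [Submodule.restrictScalars_mem, hP, mem_perp_range_sup]
    constructor
    · rintro ⟨q, hq, rfl⟩
      obtain ⟨t, rfl⟩ := Submodule.Quotient.mk_surjective _ q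
      have hq := (hgker t).1 hq
      rw [Submodule.mem_colon] at hq
      rw [hΘb_mk]
      refine ⟨mulVec_Θ gen φ x y D t, ?_⟩
      intro s' hs' j
      obtain ⟨s, hs, rfl⟩ := (Ideal.mem_map_iff_of_surjective (algebraMap R A)
        Ideal.Quotient.mk_surjective).1 hs'
      have h2 := mk_smul_Θ gen φ x y D s t
      have h3 : Θ gen φ x y D (s * t) = 0 := by
        rw [Θ_eq_zero_iff I gen φ x y hgen hφ hinj hx hxy D]
        have := hq s hs
        rw [smul_eq_mul] at this
        rw [mul_comm]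
        exact this
      rw [h3] at h2
      have := congrFun h2 j
      rw [Pi.smul_apply, smul_eq_mul, Pi.zero_apply] at this
      exact this
    · rintro ⟨hz1, hz2⟩
      obtain ⟨t, rfl⟩ := exists_eq_Θ gen φ x y hφ hinj hx hxy D z hz1
      refine ⟨Submodule.Quotient.mk t, ?_, hΘb_mk t⟩
      apply (hgker t).2
      rw [Submodule.mem_colon]
      intro s hs
      rw [smul_eq_mul, mul_comm, ← Θ_eq_zero_iff I gen φ x y hgen hφ hinj hx hxy D,
        ← mk_smul_Θ]
      funext j
      rw [Pi.smul_apply, smul_eq_mul, Pi.zero_apply]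
      exact hz2 _ (Ideal.mem_map_of_mem _ hs) j
  have e1 : ↥(LinearMap.ker g) ≃ₗ[R] ↥(Submodule.map Θb (LinearMap.ker g)) :=
    Submodule.equivMapOfInjective Θb hΘb _
  rw [← Module.length_eq_of_surjective (S := R) (R := A) (M := ↥P) Ideal.Quotient.mk_surjective]
  rw [e1.length_eq]
  rw [(LinearEquiv.ofEq _ _ hmap).length_eq]
  exact ((Submodule.restrictScalarsEquiv R A (Fin b → A) P).restrictScalars R).length_eq

end final

end Groth.Agent.Helper7.HomLen
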