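import Mathlib
import Groth.Agent.Helper7.HB4
import Groth.Agent.Helper1.RegGlobalDim
import Groth.Agent.Lead.RegUFDA
import Groth.Agent.Lead.RegLocal

/-!
# Regular local rings of dimension two: presentations of ideals and coprime pairs (helper7)
-/

set_option autoImplicit false
set_option linter.style.haveILetI false
set_option linter.unusedSectionVars false
universe u

namespace Groth.Agent.Helper7.HomLen

open Matrix Function IsLocalRing CategoryTheory

variable (R : Type u) [CommRing R] [IsRegularLocalRing R]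

/-- Hilbert–Burch presentation of a nonzero ideal of a two-dimensional regular local ring -/
theorem exists_resolution' (hdim : ringKrullDim R = 2) (I : Ideal R) (hI : I ≠ ⊥) :
    ∃ (r : ℕ) (g : Fin (r + 1) → R) (φ : Matrix (Fin (r + 1)) (Fin r) R),
      Ideal.span (Set.range g) = I ∧ Function.Injective φ.mulVecLin ∧
      LinearMap.range φ.mulVecLin = LinearMap.ker (Fintype.linearCombination R g) := by
  classical
  haveI : IsDomain R := Groth.Agent.Lead.RegLocal.isDomain_of_isRegularLocalRing R
  have h3 : HasProjectiveDimensionLT (ModuleCat.of R (R ⧸ I)) 3 :=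
    Groth.Agent.Helper1.TorLib.hasProjectiveDimensionLT_of_isRegularLocalRing 2
      (by rw [hdim]; rfl) _
  obtain ⟨n, g, hg⟩ : ∃ n : ℕ, ∃ g : Fin n → R, Ideal.span (Set.range g) = I := by
    obtain ⟨s, hs⟩ := (I.fg_of_isNoetherianRing)
    refine ⟨s.card, fun i => ((s.equivFin).symm i : R), ?_⟩
    have : Set.range (fun i => ((s.equivFin).symm i : R)) = (s : Set R) := by
      ext x
      constructor
      · rintro ⟨i, rfl⟩
        exact ((s.equivFin).symm i).2
      · intro hx
        exact ⟨s.equivFin ⟨x, hx⟩, by simp⟩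
    rw [this]
    exact hs
  have hproj := Groth.Agent.Helper7.HB.ker_projective R I h3 g hg
  set K := LinearMap.ker (Fintype.linearCombination R g) with hK
  haveI : Module.Finite R K := Module.Finite.of_injective K.subtype (Submodule.injective_subtype K)
  haveI : Module.Free R K := Module.free_of_flat_of_isLocalRing
  have hrange : LinearMap.range (Fintype.linearCombination R g) = I := by
    rw [Fintype.range_linearCombination]
    exact hg
  have hrank : Module.finrank R K + 1 = n := by
    have h1 := Submodule.finrank_quotient_add_finrank (R := R) K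
    have h2 : Module.finrank R ((Fin n → R) ⧸ K) = 1 := by
      rw [(LinearMap.quotKerEquivRange (Fintype.linearCombination R g)).finrank_eq, hrange]
      exact Groth.Agent.Helper7.HB.finrank_ideal I hI
    rw [h2, Module.finrank_pi, Fintype.card_fin] at h1
    omega
  obtain ⟨r, rfl⟩ : ∃ r, n = r + 1 := ⟨Module.finrank R K, hrank.symm⟩
  have hr : Module.finrank R K = r := by omega
  let b : Module.Basis (Fin r) R K := Module.finBasisOfFinrankEq R K hr
  let φ' : (Fin r → R) →ₗ[R] (Fin (r + 1) → R) :=
    K.subtype.comp (b.equivFun.symm : (Fin r → R) →ₗ[R] K)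
  have hφ'inj : Function.Injective φ' :=
    (Submodule.injective_subtype K).comp b.equivFun.symm.injective
  have hφ'range : LinearMap.range φ' = K := by
    rw [LinearMap.range_comp, LinearEquiv.range, Submodule.map_top, Submodule.range_subtype]
  have hmv : (LinearMap.toMatrix' φ').mulVecLin = φ' := by
    rw [← Matrix.toLin'_apply', Matrix.toLin'_toMatrix']
  refine ⟨r, g, LinearMap.toMatrix' φ', hg, ?_, ?_⟩
  · rw [hmv]; exact hφ'inj
  · rw [hmv]; exact hφ'range

/-- a coprime pair inside an `𝔪`-primary ideal of a two-dimensional regular local ring -/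
theorem exists_relPrime_pair (hdim : ringKrullDim R = 2) (𝔞 : Ideal R) (n : ℕ)
    (h𝔞 : maximalIdeal R ^ n ≤ 𝔞) :
    ∃ x y : R, x ∈ 𝔞 ∧ y ∈ 𝔞 ∧ x ≠ 0 ∧ IsRelPrime x y := by
  classical
  haveI : IsDomain R := Groth.Agent.Lead.RegLocal.isDomain_of_isRegularLocalRing R
  haveI : UniqueFactorizationMonoid R := Groth.Agent.Lead.RegUFD.ufd_of_isRegularLocalRing R
  have hht : (maximalIdeal R).height = 2 := by
    have h := IsLocalRing.maximalIdeal_height_eq_ringKrullDim (R := R)
    rw [hdim] at h
    have h2 : ((maximalIdeal R).height : WithBot ℕ∞) = ((2 : ℕ∞) : WithBot ℕ∞) := h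
    exact WithBot.coe_injective h2
  have hm0 : maximalIdeal R ≠ ⊥ := by
    intro h
    rw [h, Ideal.height_bot] at hht
    exact absurd hht (by norm_num)
  have hmn : maximalIdeal R ^ n ≠ ⊥ := pow_ne_zero n hm0
  obtain ⟨x, hx, hx0⟩ := Submodule.exists_mem_ne_zero_of_ne_bot hmn
  -- no principal prime contains `𝔞`
  have hnot : ∀ p : R, Prime p → ¬ 𝔞 ≤ Ideal.span {p} := by
    intro p hp hle
    haveI : (Ideal.span {p}).IsPrime := (Ideal.span_singleton_prime hp.ne_zero).2 hp
    have h1 : maximalIdeal R ≤ Ideal.span {p} :=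
      Ideal.IsPrime.le_of_pow_le (le_trans h𝔞 hle)
    have h2 : Ideal.span {p} = maximalIdeal R :=
      le_antisymm (le_maximalIdeal (Ideal.IsPrime.ne_top inferInstance)) h1
    have h3 : (Ideal.span {p}).height ≤ 1 := by
      haveI : (Ideal.span {p}).IsPrincipal := ⟨⟨p, rfl⟩⟩
      apply Ideal.height_le_one_of_isPrincipal_of_mem_minimalPrimes (Ideal.span {p})
      exact ⟨⟨inferInstance, le_rfl⟩, fun q hq hqp => hq.2⟩
    rw [h2, hht] at h3
    exact absurd h3 (by norm_num)
  let S : Finset R := (UniqueFactorizationMonoid.factors x).toFinset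
  have hS : ∀ p ∈ S, Prime p := fun p hp =>
    UniqueFactorizationMonoid.prime_of_factor p (Multiset.mem_toFinset.1 hp)
  have hav : ¬ ((𝔞 : Set R) ⊆ ⋃ p ∈ (↑S : Set R), (Ideal.span {p} : Ideal R)) := by
    intro hsub
    have hprime : ∀ i ∈ S, i ≠ (0 : R) → i ≠ (0 : R) → (Ideal.span {i} : Ideal R).IsPrime := by
      intro i hi _ _
      exact (Ideal.span_singleton_prime (hS i hi).ne_zero).2 (hS i hi)
    obtain ⟨p, hp, hle⟩ := (Ideal.subset_union_prime (s := S) (f := fun p => Ideal.span {p})
      0 0 hprime).1 hsub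
    exact hnot p (hS p hp) hle
  rw [Set.not_subset] at hav
  obtain ⟨y, hy, hynot⟩ := hav
  refine ⟨x, y, h𝔞 hx, hy, hx0, ?_⟩
  intro d hdx hdy
  by_contra hdu
  have hd0 : d ≠ 0 := by
    rintro rfl
    exact hx0 (zero_dvd_iff.1 hdx)
  obtain ⟨p, hp, hpd⟩ := WfDvdMonoid.exists_irreducible_factor hdu hd0
  obtain ⟨q, hq, hpq⟩ := UniqueFactorizationMonoid.exists_mem_factors_of_dvd hx0 hp
    (hpd.trans hdx)
  apply hynot
  simp only [Set.mem_iUnion]
  refine ⟨q, Multiset.mem_toFinset.2 hq, ?_⟩
  show y ∈ Ideal.span {q}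
  rw [Ideal.mem_span_singleton]
  exact hpq.symm.dvd.trans (hpd.trans hdy)

end Groth.Agent.Helper7.HomLen
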