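import Mathlib
import Groth.Agent.Helper7.HomLenF
import Groth.Agent.Helper7.SegGorD
import Groth.Agent.Helper6.Rees3
import Groth.Agent.S0342

/-!
# The quotient of a two-dimensional regular local ring by a coprime pair is self-injective (helper7)
-/

set_option autoImplicit false
set_option linter.style.haveILetI false
set_option linter.unusedSectionVars false
universe u

namespace Groth.Agent.Helper7.HomLen

open Matrix Function IsLocalRing CategoryTheory

theorem dim_pred (a : WithBot ℕ∞) (n : ℕ) (h : a + 1 = ((n + 1 : ℕ) : WithBot ℕ∞)) :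
    a = (n : WithBot ℕ∞) := by
  induction a using WithBot.recBotCoe with
  | bot =>
    rw [WithBot.bot_add] at h
    exact absurd h (by exact_mod_cast WithBot.bot_ne_coe)
  | coe a =>
    have h1 : ((a + 1 : ℕ∞) : WithBot ℕ∞) = (((n + 1 : ℕ) : ℕ∞) : WithBot ℕ∞) := by
      rw [WithBot.coe_add]; exact h
    have h2 : a + 1 = ((n + 1 : ℕ) : ℕ∞) := WithBot.coe_injective h1
    induction a using ENat.recTopCoe with
    | top =>
      rw [top_add] at h2
      exact absurd h2.symm (ENat.natCast_ne_top _)
    | coe m =>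
      have : m + 1 = n + 1 := by exact_mod_cast h2
      have : m = n := by omega
      rw [this]
      rfl

variable (R : Type u) [CommRing R] [IsRegularLocalRing R]

section pair

variable (hdim : ringKrullDim R = 2) (x y : R) (hxm : x ∈ maximalIdeal R)
  (hym : y ∈ maximalIdeal R) (hx0 : x ≠ 0) (hrel : IsRelPrime x y)

include hx0 in
theorem reg_x : ∀ r, x * r = 0 → r = 0 := by
  haveI : IsDomain R := Groth.Agent.Lead.RegLocal.isDomain_of_isRegularLocalRing R
  intro r hr
  exact (mul_eq_zero.1 hr).resolve_left hx0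

include hx0 hrel in
theorem reg_xy : ∀ r s, y * r = x * s → ∃ t, r = x * t := by
  haveI : IsDomain R := Groth.Agent.Lead.RegLocal.isDomain_of_isRegularLocalRing R
  haveI : UniqueFactorizationMonoid R := Groth.Agent.Lead.RegUFD.ufd_of_isRegularLocalRing R
  intro r s h
  have : x ∣ y * r := ⟨s, h⟩
  exact hrel.dvd_of_dvd_mul_left this

include hxm hym in
theorem span_pair_ne_top : Ideal.span {x, y} ≠ (⊤ : Ideal R) := by
  intro h
  have : Ideal.span {x, y} ≤ maximalIdeal R := by
    rw [Ideal.span_le]
    intro z hz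
    rcases hz with rfl | rfl
    · exact hxm
    · exact hym
  rw [h] at this
  exact (Ideal.IsPrime.ne_top inferInstance) (top_le_iff.1 this)

include hxm hym in
theorem isLocalRing_quot : IsLocalRing (R ⧸ Ideal.span {x, y}) := by
  haveI : Nontrivial (R ⧸ Ideal.span {x, y}) :=
    Ideal.Quotient.nontrivial_iff.mpr (span_pair_ne_top R x y hxm hym)
  exact IsLocalRing.of_surjective' (Ideal.Quotient.mk _) Ideal.Quotient.mk_surjective

include hdim hxm hym hx0 hrel in
/-- `R/(x,y)` is Gorenstein of dimension zero -/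
theorem gor_quot : LocCoh.IsGorensteinLocalRing (R ⧸ Ideal.span {x, y}) ∧
    ringKrullDim (R ⧸ Ideal.span {x, y}) = 0 := by
  haveI : IsDomain R := Groth.Agent.Lead.RegLocal.isDomain_of_isRegularLocalRing R
  haveI : UniqueFactorizationMonoid R := Groth.Agent.Lead.RegUFD.ufd_of_isRegularLocalRing R
  have hregx : IsSMulRegular R x := by
    intro r s h
    have h' : x * (r - s) = 0 := by
      have : x * r = x * s := h
      rw [mul_sub, this, sub_self]
    have := reg_x R x hx0 _ h'
    exact sub_eq_zero.1 this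
  have hGR : LocCoh.IsGorensteinLocalRing R := Groth.Agent.S0342.result R
  have hxne : Ideal.span {x} ≠ (⊤ : Ideal R) := by
    intro h
    have : Ideal.span {x} ≤ maximalIdeal R := (Ideal.span_singleton_le_iff_mem _).2 hxm
    rw [h] at this
    exact (Ideal.IsPrime.ne_top inferInstance) (top_le_iff.1 this)
  haveI : Nontrivial (R ⧸ Ideal.span {x}) := Ideal.Quotient.nontrivial_iff.mpr hxne
  haveI : IsLocalRing (R ⧸ Ideal.span {x}) :=
    IsLocalRing.of_surjective' (Ideal.Quotient.mk _) Ideal.Quotient.mk_surjective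
  have hGB : LocCoh.IsGorensteinLocalRing (R ⧸ Ideal.span {x}) :=
    (Groth.Agent.Helper6.Rees.main R x hxm hregx).1 hGR
  set B := R ⧸ Ideal.span {x} with hB
  set yb : B := Ideal.Quotient.mk (Ideal.span {x}) y with hyb
  have hybm : yb ∈ maximalIdeal B := by
    rw [mem_maximalIdeal, mem_nonunits_iff]
    intro hu
    haveI : IsLocalHom (Ideal.Quotient.mk (Ideal.span {x})) :=
      IsLocalHom.of_surjective _ Ideal.Quotient.mk_surjective
    have := (isUnit_map_iff (Ideal.Quotient.mk (Ideal.span {x})) y).1 hu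
    exact (mem_nonunits_iff.1 ((mem_maximalIdeal y).1 hym)) this
  have hregy : IsSMulRegular B yb := by
    intro r s h
    obtain ⟨r, rfl⟩ := Ideal.Quotient.mk_surjective r
    obtain ⟨s, rfl⟩ := Ideal.Quotient.mk_surjective s
    have h' : Ideal.Quotient.mk (Ideal.span {x}) (y * (r - s)) = 0 := by
      have h1 : yb * Ideal.Quotient.mk (Ideal.span {x}) r =
          yb * Ideal.Quotient.mk (Ideal.span {x}) s := h
      rw [mul_sub, map_sub, map_mul, map_mul, ← hyb, h1, sub_self]
    rw [Ideal.Quotient.eq_zero_iff_mem, Ideal.mem_span_singleton] at h'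
    have h2 : x ∣ r - s := hrel.dvd_of_dvd_mul_left h'
    rw [← sub_eq_zero, ← map_sub, Ideal.Quotient.eq_zero_iff_mem, Ideal.mem_span_singleton]
    exact h2
  have hGC : LocCoh.IsGorensteinLocalRing (B ⧸ Ideal.span {yb}) :=
    (Groth.Agent.Helper6.Rees.main B yb hybm hregy).1 hGB
  have hdimB : ringKrullDim B = 1 := by
    have := ringKrullDim_quotient_span_singleton_succ_eq_ringKrullDim hregx hxm
    rw [hdim] at this
    exact dim_pred _ 1 this
  have hdimC : ringKrullDim (B ⧸ Ideal.span {yb}) = 0 := by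
    have := ringKrullDim_quotient_span_singleton_succ_eq_ringKrullDim hregy hybm
    rw [hdimB] at this
    exact dim_pred _ 0 this
  -- the ring isomorphism
  have h1 : (Ideal.span {y}).map (Ideal.Quotient.mk (Ideal.span {x})) = Ideal.span {yb} := by
    rw [Ideal.map_span, Set.image_singleton]
  have h2 : Ideal.span {x} ⊔ Ideal.span {y} = Ideal.span {x, y} := by
    rw [← Ideal.span_union]
    rfl
  let e : (B ⧸ Ideal.span {yb}) ≃+* (R ⧸ Ideal.span {x, y}) :=
    ((Ideal.quotEquivOfEq h1.symm).trans
      (DoubleQuot.quotQuotEquivQuotSup (Ideal.span {x}) (Ideal.span {y}))).trans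
      (Ideal.quotEquivOfEq h2)
  refine ⟨Groth.Agent.Helper7.SegGor.gorLocal_of_ringEquiv e hGC, ?_⟩
  rw [← ringKrullDim_eq_of_ringEquiv e, hdimC]

end pair

end Groth.Agent.Helper7.HomLen
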