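import Mathlib
import Groth.Agent.Helper7.HomLenC
import Groth.Agent.Helper7.HomLenE
import Groth.Agent.Helper7.HomLenG
import Groth.Agent.Helper7.SegGorA

/-!
# `ℓ Hom(I, R/J) + ℓ(R/(I:J)) = ℓ(R/J) + ℓ(R/I)` over a two-dimensional regular local ring (helper7)
-/

set_option autoImplicit false
set_option linter.style.haveILetI false
set_option linter.unusedSectionVars false
universe u

namespace Groth.Agent.Helper7.HomLen

open Matrix Function IsLocalRing CategoryTheory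

/-- a quotient of finite length of a Noetherian local ring is by an `𝔪`-primary ideal -/
theorem exists_pow_le {R : Type u} [CommRing R] [IsLocalRing R] [IsNoetherianRing R]
    (I : Ideal R) (hI : Module.length R (R ⧸ I) < ⊤) : ∃ n : ℕ, maximalIdeal R ^ n ≤ I := by
  by_cases hItop : I = ⊤
  · exact ⟨0, by rw [hItop]; exact le_top⟩
  haveI : Nontrivial (R ⧸ I) := Ideal.Quotient.nontrivial_iff.mpr hItop
  haveI : IsLocalRing (R ⧸ I) :=
    IsLocalRing.of_surjective' (Ideal.Quotient.mk _) Ideal.Quotient.mk_surjective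
  have hfl : IsFiniteLength R (R ⧸ I) := Module.length_ne_top_iff.1 hI.ne
  haveI : IsArtinian R (R ⧸ I) := (isFiniteLength_iff_isNoetherian_isArtinian.1 hfl).2
  haveI : IsArtinianRing (R ⧸ I) := isArtinian_of_tower R (inferInstance : IsArtinian R (R ⧸ I))
  have hnil : IsNilpotent (maximalIdeal (R ⧸ I)) := by
    have := IsArtinianRing.isNilpotent_jacobson_bot (R := R ⧸ I)
    rwa [IsLocalRing.jacobson_eq_maximalIdeal ⊥ bot_ne_top] at this
  obtain ⟨n, hn⟩ := hnil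
  refine ⟨n, ?_⟩
  have h1 : (maximalIdeal R).map (Ideal.Quotient.mk I) ≤ maximalIdeal (R ⧸ I) := by
    rw [Ideal.map_le_iff_le_comap]
    intro z hz
    rw [Ideal.mem_comap, mem_maximalIdeal, mem_nonunits_iff]
    intro hu
    haveI : IsLocalHom (Ideal.Quotient.mk I) :=
      IsLocalHom.of_surjective _ Ideal.Quotient.mk_surjective
    have := (isUnit_map_iff (Ideal.Quotient.mk I) z).1 hu
    exact (mem_nonunits_iff.1 ((mem_maximalIdeal z).1 hz)) this
  have h2 : (maximalIdeal R ^ n).map (Ideal.Quotient.mk I) ≤ ⊥ := by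
    rw [Ideal.map_pow]
    calc _ ≤ maximalIdeal (R ⧸ I) ^ n := Ideal.pow_right_mono h1 n
      _ = ⊥ := hn
  rw [Ideal.map_le_iff_le_comap, ← RingHom.ker_eq_comap_bot, Ideal.mk_ker] at h2
  exact h2

/-- **main theorem** -/
theorem main (R : Type u) [CommRing R] [IsRegularLocalRing R] (hdim : ringKrullDim R = 2)
    (I J : Ideal R) (hI : Module.length R (R ⧸ I) < ⊤) (hJ : Module.length R (R ⧸ J) < ⊤) :
    Module.length R (↥I →ₗ[R] (R ⧸ J)) + Module.length R (R ⧸ I.colon J) =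
      Module.length R (R ⧸ J) + Module.length R (R ⧸ I) := by
  classical
  haveI : IsDomain R := Groth.Agent.Lead.RegLocal.isDomain_of_isRegularLocalRing R
  obtain ⟨nI, hnI⟩ := exists_pow_le I hI
  obtain ⟨nJ, hnJ⟩ := exists_pow_le J hJ
  set 𝔞 : Ideal R := I * J * maximalIdeal R with h𝔞
  have h𝔞le : maximalIdeal R ^ (nI + nJ + 1) ≤ 𝔞 := by
    rw [pow_succ, pow_add]
    exact Ideal.mul_mono (Ideal.mul_mono hnI hnJ) le_rfl
  have h𝔞I : 𝔞 ≤ I := (Ideal.mul_le_left).trans Ideal.mul_le_left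
  have h𝔞J : 𝔞 ≤ J := (Ideal.mul_le_left).trans Ideal.mul_le_right
  have h𝔞m : 𝔞 ≤ maximalIdeal R := Ideal.mul_le_right
  obtain ⟨x, y, hx𝔞, hy𝔞, hx0, hrel⟩ := exists_relPrime_pair R hdim 𝔞 _ h𝔞le
  have hI0 : I ≠ ⊥ := by
    rintro rfl
    exact hx0 ((Submodule.mem_bot R).1 (h𝔞I hx𝔞))
  obtain ⟨b, gen, φ, hgen, hinj, hφ⟩ := exists_resolution' R hdim I hI0
  obtain ⟨D⟩ := nonempty_wdata I gen φ x y hgen hφ (h𝔞I hx𝔞) (h𝔞I hy𝔞)
  have hx := reg_x R x hx0
  have hxy := reg_xy R x y hx0 hrel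
  haveI : IsLocalRing (R ⧸ Ideal.span {x, y}) :=
    isLocalRing_quot R x y (h𝔞m hx𝔞) (h𝔞m hy𝔞)
  obtain ⟨hG, hdim0⟩ := gor_quot R hdim x y (h𝔞m hx𝔞) (h𝔞m hy𝔞) hx0 hrel
  have hinjA : Module.Injective (R ⧸ Ideal.span {x, y}) (R ⧸ Ideal.span {x, y}) :=
    Groth.Agent.Helper7.SegGor.injective_self_of_dim_zero _ hdim0
  have hflA : IsFiniteLength (R ⧸ Ideal.span {x, y}) (R ⧸ Ideal.span {x, y}) := by
    haveI : Ring.KrullDimLE 0 (R ⧸ Ideal.span {x, y}) := by
      rw [Ring.krullDimLE_iff, hdim0]; rfl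
    haveI : IsNoetherianRing (R ⧸ Ideal.span {x, y}) := hG.toIsNoetherian
    haveI : IsArtinianRing (R ⧸ Ideal.span {x, y}) := isArtinianRing_iff_krullDimLE_zero.2 inferInstance
    rw [isFiniteLength_iff_isNoetherian_isArtinian]
    exact ⟨inferInstance, inferInstance⟩
  -- the chain
  rw [length_hom_eq I J gen φ hgen hφ hJ.ne]
  have hker : RingHom.ker (algebraMap R (R ⧸ Ideal.span {x, y})) ≤ J := by
    rw [Ideal.Quotient.algebraMap_eq, Ideal.mk_ker, Ideal.span_le]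
    intro z hz
    rcases hz with rfl | rfl
    · exact h𝔞J hx𝔞
    · exact h𝔞J hy𝔞
  rw [length_quot_eq (R := R) (S := R ⧸ Ideal.span {x, y}) Ideal.Quotient.mk_surjective φᵀ J hker]
  have htr : φᵀ.map (algebraMap R (R ⧸ Ideal.span {x, y})) =
      (φ.map (algebraMap R (R ⧸ Ideal.span {x, y})))ᵀ := rfl
  rw [htr, length_quot_eq_length_perp hinjA hflA, add_assoc,
    length_perp_add I J gen φ x y hgen hφ hinj hx hxy D]

end Groth.Agent.Helper7.HomLen
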