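import Mathlib

namespace Groth.Agent.Helper7.Hopf

open MvPolynomial

set_option maxSynthPendingDepth 3

variable (k : Type*) [Field k] (u v : ℕ)

/-- The ambient polynomial ring. -/
abbrev B := MvPolynomial (Fin u ⊕ Fin v) k

variable {u v}

/-- The generators `x_i y_j` of the Segre cone. -/
noncomputable def gen (i : Fin u) (j : Fin v) : B k u v := X (Sum.inl i) * X (Sum.inr j)

variable (u v)

/-- The coordinate ring of the Segre cone. -/
noncomputable def R : Subalgebra k (B k u v) :=
  Algebra.adjoin k (Set.range fun ij : Fin u × Fin v => gen k ij.1 ij.2)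

variable {u v}

theorem gen_mem (i : Fin u) (j : Fin v) : gen k i j ∈ R k u v :=
  Algebra.subset_adjoin ⟨(i, j), rfl⟩

/-- The generators as elements of `R`. -/
noncomputable def g (i : Fin u) (j : Fin v) : R k u v := ⟨gen k i j, gen_mem k i j⟩

instance : Algebra.FiniteType k (R k u v) := by
  rw [← Subalgebra.fg_iff_finiteType]
  exact ⟨(Set.finite_range _).toFinset, by rw [Set.Finite.coe_toFinset]; rfl⟩

instance : IsNoetherianRing (R k u v) := Algebra.FiniteType.isNoetherianRing k _

instance : IsJacobsonRing (R k u v) := isJacobsonRing_of_finiteType (A := k)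

open Classical in
/-- Kill the variables in `S`. -/
noncomputable def kill (S : Set (Fin u ⊕ Fin v)) : B k u v →ₐ[k] B k u v :=
  aeval (fun x => if x ∈ S then 0 else X x)

open Classical in
theorem kill_X (S : Set (Fin u ⊕ Fin v)) (x : Fin u ⊕ Fin v) :
    kill k S (X x) = if x ∈ S then 0 else X x := by
  unfold kill
  rw [aeval_X]

theorem kill_comp {S S' : Set (Fin u ⊕ Fin v)} (h : S ⊆ S') :
    (kill k S').comp (kill k S) = kill k S' := by
  apply MvPolynomial.algHom_ext
  intro x
  rw [AlgHom.comp_apply, kill_X]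
  by_cases hx : x ∈ S
  · rw [if_pos hx, map_zero, kill_X, if_pos (h hx)]
  · rw [if_neg hx]

/-- The prime `P_S` of `R`. -/
noncomputable def P (S : Set (Fin u ⊕ Fin v)) : Ideal (R k u v) :=
  RingHom.ker ((kill k S).comp (R k u v).val)

instance (S : Set (Fin u ⊕ Fin v)) : (P k S).IsPrime := by
  unfold P
  exact RingHom.ker_isPrime _

theorem P_mono {S S' : Set (Fin u ⊕ Fin v)} (h : S ⊆ S') : P k S ≤ P k S' := by
  intro r hr
  have hr' : kill k S (r : B k u v) = 0 := hr
  change kill k S' (r : B k u v) = 0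
  rw [← kill_comp k h, AlgHom.comp_apply, hr', map_zero]

theorem g_mem_P (S : Set (Fin u ⊕ Fin v)) (i : Fin u) (j : Fin v) :
    g k i j ∈ P k S ↔ Sum.inl i ∈ S ∨ Sum.inr j ∈ S := by
  change kill k S (gen k i j) = 0 ↔ _
  unfold gen
  rw [map_mul, kill_X, kill_X, mul_eq_zero]
  constructor
  · rintro (h | h)
    · left
      by_contra hh
      rw [if_neg hh] at h
      exact X_ne_zero _ h
    · right
      by_contra hh
      rw [if_neg hh] at h
      exact X_ne_zero _ h
  · rintro (h | h)
    · left; rw [if_pos h]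
    · right; rw [if_pos h]

variable (u v) in
/-- Evaluation at the origin. -/
noncomputable def eps : R k u v →ₐ[k] k := (aeval (fun _ => (0 : k))).comp (R k u v).val

variable (u v) in
/-- The irrelevant maximal ideal. -/
noncomputable def Rplus : Ideal (R k u v) := RingHom.ker (eps k u v)

instance : (Rplus k u v).IsMaximal := by
  unfold Rplus
  refine RingHom.ker_isMaximal_of_surjective _ (fun a => ⟨algebraMap k _ a, ?_⟩)
  exact (eps k u v).commutes a

theorem g_mem_Rplus (i : Fin u) (j : Fin v) : g k i j ∈ Rplus k u v := by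
  change aeval (fun _ => (0 : k)) (gen k i j) = 0
  unfold gen
  simp

theorem P_univ : P k (Set.univ : Set (Fin u ⊕ Fin v)) = Rplus k u v := by
  have h : kill k (Set.univ : Set (Fin u ⊕ Fin v)) =
      (Algebra.ofId k (B k u v)).comp (aeval (fun _ => (0 : k))) := by
    apply MvPolynomial.algHom_ext
    intro x
    rw [kill_X, if_pos (Set.mem_univ x)]
    simp
  ext r
  change kill k Set.univ (r : B k u v) = 0 ↔ aeval (fun _ => (0 : k)) (r : B k u v) = 0
  rw [h, AlgHom.comp_apply]
  constructor
  · intro hr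
    exact (MvPolynomial.C_injective (Fin u ⊕ Fin v) k) (by simpa [Algebra.ofId_apply] using hr)
  · intro hr
    rw [hr, map_zero]

variable (u v) in
/-- The chain of variable sets. -/
def T (n : ℕ) : Set (Fin u ⊕ Fin v) :=
  {x | match x with
    | Sum.inl i => n = 0 ∨ n ≤ i.val
    | Sum.inr j => n = 0 ∨ (1 ≤ j.val ∧ n + 1 ≤ j.val + u)}

theorem T_zero : T u v 0 = Set.univ := by
  ext x
  rcases x with i | j <;> simp [T]

theorem T_anti (n : ℕ) : T u v (n + 1) ⊆ T u v n := by
  intro x hx
  rcases x with i | j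
  · simp only [T, Set.mem_ofPred_eq] at hx ⊢
    omega
  · simp only [T, Set.mem_ofPred_eq] at hx ⊢
    omega

theorem P_T_lt (hu : 1 ≤ u) (hv : 1 ≤ v) (n : ℕ) (hn : n + 2 ≤ u + v) :
    P k (T u v (n + 1)) < P k (T u v n) := by
  refine lt_of_le_of_ne (P_mono k (T_anti n)) ?_
  intro heq
  by_cases h0 : n = 0
  · subst h0
    have h1 : g k (⟨0, hu⟩ : Fin u) (⟨0, hv⟩ : Fin v) ∈ P k (T u v 0) := by
      rw [g_mem_P]; left; simp [T]
    rw [← heq, g_mem_P] at h1
    simp only [T, Set.mem_ofPred_eq] at h1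
    omega
  · by_cases hnu : n < u
    · have h1 : g k (⟨n, hnu⟩ : Fin u) (⟨0, hv⟩ : Fin v) ∈ P k (T u v n) := by
        rw [g_mem_P]; left; simp [T]
      rw [← heq, g_mem_P] at h1
      simp only [T, Set.mem_ofPred_eq] at h1
      omega
    · have hj : n + 1 - u < v := by omega
      have h1 : g k (⟨0, hu⟩ : Fin u) (⟨n + 1 - u, hj⟩ : Fin v) ∈ P k (T u v n) := by
        rw [g_mem_P]; right
        simp only [T, Set.mem_ofPred_eq]
        omega
      rw [← heq, g_mem_P] at h1
      simp only [T, Set.mem_ofPred_eq] at h1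
      omega

theorem height_P_T (hu : 1 ≤ u) (hv : 1 ≤ v) (d : ℕ) :
    ∀ m, m + d + 1 = u + v → (d : ℕ∞) ≤ (P k (T u v m)).height := by
  induction d with
  | zero => intro m _; exact zero_le
  | succ d ih =>
    intro m hm
    have h1 := ih (m + 1) (by omega)
    have h2 := Ideal.height_add_one_le_of_lt_of_isPrime (P_T_lt k hu hv m (by omega))
    calc ((d + 1 : ℕ) : ℕ∞) = (d : ℕ∞) + 1 := by push_cast; rfl
      _ ≤ (P k (T u v (m + 1))).height + 1 := by gcongr
      _ ≤ _ := h2

theorem height_Rplus (hu : 1 ≤ u) (hv : 1 ≤ v) :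
    ((u + v - 1 : ℕ) : ℕ∞) ≤ (Rplus k u v).height := by
  have := height_P_T k hu hv (u + v - 1) 0 (by omega)
  rwa [T_zero, P_univ] at this

end Groth.Agent.Helper7.Hopf
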