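import Mathlib
import Groth.Agent.Helper7.Hopf1

namespace Groth.Agent.Helper7.Hopf

open MvPolynomial

set_option maxSynthPendingDepth 3
set_option linter.style.haveILetI false

variable (k : Type*) [Field k] [IsAlgClosed k] {u v : ℕ}

theorem exists_point (m : Ideal (R k u v)) [m.IsMaximal] :
    ∃ χ : R k u v →ₐ[k] k, RingHom.ker χ = m := by
  letI := Ideal.Quotient.field m
  have h1 : Algebra.FiniteType k (R k u v ⧸ m) :=
    Algebra.FiniteType.of_surjective (Ideal.Quotient.mkₐ k m) (Ideal.Quotient.mkₐ_surjective k m)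
  have h2 : Module.Finite k (R k u v ⧸ m) := finite_of_finite_type_of_isJacobsonRing k _
  have hbij : Function.Bijective (algebraMap k (R k u v ⧸ m)) :=
    IsAlgClosed.algebraMap_bijective_of_isIntegral
  let e : k ≃ₐ[k] (R k u v ⧸ m) := AlgEquiv.ofBijective (Algebra.ofId k _) hbij
  refine ⟨(e.symm : (R k u v ⧸ m) →ₐ[k] k).comp (Ideal.Quotient.mkₐ k m), ?_⟩
  ext r
  rw [RingHom.mem_ker]
  change e.symm (Ideal.Quotient.mk m r) = 0 ↔ r ∈ m
  rw [map_eq_zero_iff e.symm e.symm.injective, Ideal.Quotient.eq_zero_iff_mem]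

omit [IsAlgClosed k] in
theorem g_rel (i i' : Fin u) (j j' : Fin v) :
    g k i j * g k i' j' = g k i j' * g k i' j := by
  apply Subtype.ext
  change gen k i j * gen k i' j' = gen k i j' * gen k i' j
  unfold gen
  ring

theorem exists_zero (hu : 1 ≤ u) (hv : 1 ≤ v) (w : ℕ) (hw : w + 2 ≤ u + v)
    (c : Fin w → Fin u → Fin v → k) :
    ∃ (a : Fin u → k) (b : Fin v → k), a ≠ 0 ∧ b ≠ 0 ∧
      ∀ l, ∑ i, ∑ j, c l i j * a i * b j = 0 := by
  classical
  let ℓ : Fin w → R k u v := fun l => ∑ i, ∑ j, c l i j • g k i j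
  let s : Finset (R k u v) := Finset.univ.image ℓ
  have hs : s.card ≤ w := (Finset.card_image_le).trans (by simp)
  have hI : Ideal.span (s : Set (R k u v)) ≤ Rplus k u v := by
    rw [Ideal.span_le]
    intro x hx
    obtain ⟨l, -, rfl⟩ := Finset.mem_image.1 (Finset.mem_coe.1 hx)
    refine sum_mem fun i _ => sum_mem fun j _ => ?_
    rw [Algebra.smul_def]
    exact Ideal.mul_mem_left _ _ (g_mem_Rplus k i j)
  have hnot : Rplus k u v ∉ (Ideal.span (s : Set (R k u v))).minimalPrimes := by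
    intro hmin
    have h1 := Ideal.height_le_card_of_mem_minimalPrimes_span_finset hmin
    have h2 := height_Rplus k hu hv
    have h3 : ((u + v - 1 : ℕ) : ℕ∞) ≤ (s.card : ℕ∞) := h2.trans h1
    have h4 : u + v - 1 ≤ s.card := by exact_mod_cast h3
    omega
  obtain ⟨q, hq, hqle⟩ := Ideal.exists_minimalPrimes_le hI
  have hqne : q ≠ Rplus k u v := fun h => hnot (h ▸ hq)
  have hqprime : q.IsPrime := hq.1.1
  obtain ⟨m, hm, hqm, hmne⟩ : ∃ m : Ideal (R k u v), m.IsMaximal ∧ q ≤ m ∧ m ≠ Rplus k u v := by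
    by_contra hcon
    push Not at hcon
    apply hqne
    have hj : q.jacobson = q := IsJacobsonRing.out inferInstance hqprime.isRadical
    refine le_antisymm hqle ?_
    rw [← hj, Ideal.jacobson]
    refine le_sInf ?_
    rintro J ⟨hJ1, hJ2⟩
    rw [hcon J hJ2 hJ1]
  obtain ⟨χ, hχ⟩ := exists_point k m
  have hχℓ : ∀ l, χ (ℓ l) = 0 := by
    intro l
    have : ℓ l ∈ m := hqm (hq.1.2 (Ideal.subset_span (Finset.mem_coe.2
      (Finset.mem_image.2 ⟨l, Finset.mem_univ _, rfl⟩))))
    rw [← hχ] at this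
    exact this
  obtain ⟨i₀, j₀, hz⟩ : ∃ i₀ j₀, χ (g k i₀ j₀) ≠ 0 := by
    by_contra hcon
    push Not at hcon
    apply hmne
    have : χ = eps k u v := by
      apply AlgHom.ext_of_eq_adjoin (s := Set.range fun ij : Fin u × Fin v => gen k ij.1 ij.2) rfl
      rintro x ⟨⟨i, j⟩, rfl⟩
      change χ (g k i j) = eps k u v (g k i j)
      rw [hcon i j]
      exact (g_mem_Rplus k i j).symm
    rw [← hχ, this]
    rfl
  have hrel : ∀ i j, χ (g k i j₀) * χ (g k i₀ j) = χ (g k i j) * χ (g k i₀ j₀) := by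
    intro i j
    rw [← map_mul, ← map_mul, g_rel]
  refine ⟨fun i => χ (g k i j₀), fun j => χ (g k i₀ j) / χ (g k i₀ j₀), ?_, ?_, ?_⟩
  · intro h
    exact hz (congrFun h i₀)
  · intro h
    have := congrFun h j₀
    simp only [Pi.zero_apply] at this
    rw [div_self hz] at this
    exact one_ne_zero this
  · intro l
    have : χ (ℓ l) = ∑ i, ∑ j, c l i j * χ (g k i j) := by
      simp only [ℓ, map_sum, map_smul, smul_eq_mul]
    rw [← hχℓ l, this]
    refine Finset.sum_congr rfl fun i _ => Finset.sum_congr rfl fun j _ => ?_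
    rw [mul_assoc, mul_div_assoc', hrel, mul_div_assoc, div_self hz, mul_one]

end Groth.Agent.Helper7.Hopf
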