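import Mathlib
import Groth.Agent.Helper7.Hopf2

namespace Groth.Agent.Helper7.Hopf

theorem finrank_le (k : Type*) [Field k] [IsAlgClosed k] (U V W : Type*)
    [AddCommGroup U] [Module k U] [AddCommGroup V] [Module k V] [AddCommGroup W] [Module k W]
    [Module.Finite k U] [Module.Finite k V] [Module.Finite k W] [Nontrivial U] [Nontrivial V]
    (φ : U →ₗ[k] V →ₗ[k] W) (hφ : ∀ (a : U) (b : V), a ≠ 0 → b ≠ 0 → φ a b ≠ 0) :
    Module.finrank k U + Module.finrank k V ≤ Module.finrank k W + 1 := by
  by_contra hcon
  push Not at hcon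
  have hu : 1 ≤ Module.finrank k U := Module.finrank_pos
  have hv : 1 ≤ Module.finrank k V := Module.finrank_pos
  let bU := Module.finBasis k U
  let bV := Module.finBasis k V
  let bW := Module.finBasis k W
  obtain ⟨a, b, ha, hb, hab⟩ := exists_zero k hu hv (Module.finrank k W) (by omega)
    (fun l i j => bW.repr (φ (bU i) (bV j)) l)
  have hx : ∑ i, a i • bU i ≠ 0 := by
    intro h
    apply ha
    funext i
    exact Fintype.linearIndependent_iff.1 bU.linearIndependent a h i
  have hy : ∑ j, b j • bV j ≠ 0 := by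
    intro h
    apply hb
    funext j
    exact Fintype.linearIndependent_iff.1 bV.linearIndependent b h j
  apply hφ _ _ hx hy
  apply bW.ext_elem
  intro l
  rw [map_zero, Finsupp.zero_apply, ← hab l]
  simp only [map_sum, LinearMap.sum_apply, map_smul, LinearMap.smul_apply, Finsupp.coe_finsetSum,
    Finset.sum_apply, Finsupp.coe_smul, Pi.smul_apply, smul_eq_mul]
  rw [Finset.sum_comm]
  refine Finset.sum_congr rfl fun j _ => ?_
  rw [Finset.mul_sum]
  refine Finset.sum_congr rfl fun i _ => ?_
  ring

end Groth.Agent.Helper7.Hopf
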