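import Mathlib
import Groth.Agent.Helper7.Fitt10

set_option autoImplicit false

/-!
# Kähler differentials of a local algebra with residue field the base field are generated by the
differentials of generators of the maximal ideal
-/

namespace Groth.Agent.Helper7.HypKah

open IsLocalRing

section Local

variable {k B : Type*} [Field k] [CommRing B] [IsLocalRing B] [Algebra k B]
  [Algebra.EssFiniteType k B]

theorem span_D_image_eq_top
    (hres : ∀ b : B, ∃ c : k, b - algebraMap k B c ∈ maximalIdeal B)
    (T : Finset B) (hT : Ideal.span (T : Set B) = maximalIdeal B) :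
    Submodule.span B ((KaehlerDifferential.D k B) '' (T : Set B)) = ⊤ := by
  set N := Submodule.span B ((KaehlerDifferential.D k B) '' (T : Set B)) with hN
  have hfg : (⊤ : Submodule B (Ω[B⁄k])).FG := Module.Finite.fg_top
  have key : (⊤ : Submodule B (Ω[B⁄k])) ≤ N ⊔ maximalIdeal B • (⊤ : Submodule B (Ω[B⁄k])) := by
    refine le_trans (le_of_eq (KaehlerDifferential.span_range_derivation k B).symm)
      (Submodule.span_le.2 ?_)
    rintro _ ⟨b, rfl⟩
    obtain ⟨c, hc⟩ := hres b
    have h1 : KaehlerDifferential.D k B b = KaehlerDifferential.D k B (b - algebraMap k B c) := by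
      rw [map_sub, Derivation.map_algebraMap, sub_zero]
    rw [h1]
    rw [← hT] at hc
    have : ∀ y ∈ Ideal.span (T : Set B), KaehlerDifferential.D k B y ∈
        N ⊔ maximalIdeal B • (⊤ : Submodule B (Ω[B⁄k])) := by
      intro y hy
      induction hy using Submodule.span_induction with
      | mem t ht =>
        exact Submodule.mem_sup_left (Submodule.subset_span ⟨t, ht, rfl⟩)
      | zero =>
        rw [map_zero]
        exact Submodule.zero_mem _
      | add y z _ _ hy hz =>
        rw [map_add]
        exact Submodule.add_mem _ hy hz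
      | smul a y hy' ih =>
        rw [smul_eq_mul, Derivation.leibniz]
        apply Submodule.add_mem
        · exact Submodule.smul_mem _ _ ih
        · apply Submodule.mem_sup_right
          apply Submodule.smul_mem_smul _ Submodule.mem_top
          rw [← hT]
          exact hy'
    exact this _ hc
  rw [eq_top_iff]
  exact Submodule.le_of_le_smul_of_le_jacobson_bot hfg
    (IsLocalRing.maximalIdeal_le_jacobson _) key

theorem exists_fin_span (hres : ∀ b : B, ∃ c : k, b - algebraMap k B c ∈ maximalIdeal B)
    (T : Finset B) (hT : Ideal.span (T : Set B) = maximalIdeal B) (r : ℕ) (hr : T.card ≤ r) :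
    ∃ g : Fin r → Ω[B⁄k], Submodule.span B (Set.range g) = ⊤ := by
  have h1 := span_D_image_eq_top hres T hT
  refine Groth.Agent.Helper7.FittLib.exists_fin_span_of_card_le (κ := ↥T)
    (fun t => KaehlerDifferential.D k B t.1) ?_ (by simpa using hr)
  rw [← h1]
  congr 1
  ext x
  constructor
  · rintro ⟨t, rfl⟩
    exact ⟨t.1, t.2, rfl⟩
  · rintro ⟨t, ht, rfl⟩
    exact ⟨⟨t, ht⟩, rfl⟩

end Local

end Groth.Agent.Helper7.HypKah
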