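import Mathlib
import Groth.Agent.Helper7.HypKahA

set_option autoImplicit false

/-!
# Fitting ideals of Kähler differentials at closed points of a finite type algebra over an
algebraically closed field
-/

namespace Groth.Agent.Helper7.HypKah

open IsLocalRing

universe u

section Closed

variable {k C : Type u} [Field k] [IsAlgClosed k] [CommRing C] [Algebra k C]
  [Algebra.FiniteType k C]

theorem algebraMap_quotient_bijective (m : Ideal C) [hm : m.IsMaximal] :
    Function.Bijective (algebraMap k (C ⧸ m)) := by
  letI : Field (C ⧸ m) := Ideal.Quotient.field m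
  haveI : Module.Finite k (C ⧸ m) := finite_of_finite_type_of_isJacobsonRing k (C ⧸ m)
  exact IsAlgClosed.algebraMap_bijective_of_isIntegral

theorem exists_sub_mem (m : Ideal C) [hm : m.IsMaximal] (a : C) : ∃ c : k, a - algebraMap k C c ∈ m := by
  obtain ⟨c, hc⟩ := (algebraMap_quotient_bijective (k := k) m).2 (Ideal.Quotient.mk m a)
  refine ⟨c, ?_⟩
  rw [← Ideal.Quotient.eq_zero_iff_mem, map_sub, ← hc, sub_eq_zero]
  rfl

theorem hres_localization (m : Ideal C) [hm : m.IsMaximal] (b : Localization.AtPrime m) :
    ∃ c : k, b - algebraMap k (Localization.AtPrime m) c ∈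
      maximalIdeal (Localization.AtPrime m) := by
  obtain ⟨a, s, rfl⟩ := IsLocalization.exists_mk'_eq m.primeCompl b
  obtain ⟨ca, hca⟩ := exists_sub_mem (k := k) m a
  obtain ⟨cs, hcs⟩ := exists_sub_mem (k := k) m (s : C)
  have hcs0 : cs ≠ 0 := by
    rintro rfl
    rw [map_zero, sub_zero] at hcs
    exact s.2 hcs
  refine ⟨ca / cs, ?_⟩
  have hunit : IsUnit (algebraMap C (Localization.AtPrime m) (s : C)) :=
    IsLocalization.map_units _ s
  have h1 : algebraMap C (Localization.AtPrime m) (s : C) *
      (IsLocalization.mk' (Localization.AtPrime m) a s -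
        algebraMap k (Localization.AtPrime m) (ca / cs)) =
      algebraMap C (Localization.AtPrime m) (a - algebraMap k C (ca / cs) * (s : C)) := by
    rw [mul_sub, IsLocalization.mk'_spec', map_sub, map_mul,
      ← IsScalarTower.algebraMap_apply k C (Localization.AtPrime m)]
    ring
  have h2 : a - algebraMap k C (ca / cs) * (s : C) ∈ m := by
    have : a - algebraMap k C (ca / cs) * (s : C) =
        (a - algebraMap k C ca) - algebraMap k C (ca / cs) * ((s : C) - algebraMap k C cs) := by
      rw [mul_sub, ← map_mul, div_mul_cancel₀ _ hcs0]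
      ring
    rw [this]
    exact m.sub_mem hca (m.mul_mem_left _ hcs)
  have h3 : algebraMap C (Localization.AtPrime m) (a - algebraMap k C (ca / cs) * (s : C)) ∈
      maximalIdeal (Localization.AtPrime m) :=
    (IsLocalization.AtPrime.to_map_mem_maximal_iff (Localization.AtPrime m) m _).2 h2
  rw [← h1] at h3
  exact (Ideal.unit_mul_mem_iff_mem _ hunit).1 h3

theorem fitt_kaehler_not_le (m : Ideal C) [hm : m.IsMaximal] (r : ℕ)
    (h : Module.finrank (ResidueField (Localization.AtPrime m))
      (CotangentSpace (Localization.AtPrime m)) ≤ r) :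
    ¬ Fitt.ideal C (Ω[C⁄k]) r ≤ m := by
  haveI : IsNoetherianRing C := Algebra.FiniteType.isNoetherianRing k C
  haveI : IsNoetherianRing (Localization.AtPrime m) :=
    IsLocalization.isNoetherianRing m.primeCompl _ inferInstance
  rw [← spanFinrank_maximalIdeal_eq_finrank_cotangentSpace] at h
  obtain ⟨T, hTcard, hT⟩ := Submodule.FG.exists_span_finset_card_eq_spanFinrank
    (maximalIdeal (Localization.AtPrime m)).fg_of_isNoetherianRing
  obtain ⟨g, hg⟩ := exists_fin_span (k := k) (B := Localization.AtPrime m)
    (hres_localization (k := k) m) T hT r (by rw [hTcard]; exact h)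
  have hp : m.map (algebraMap C (Localization.AtPrime m)) ≠ ⊤ := by
    rw [Localization.AtPrime.map_eq_maximalIdeal]
    exact (maximalIdeal.isMaximal _).ne_top
  exact Groth.Agent.Helper7.FittLib.fitt_not_le_of_gen r m hp
    (KaehlerDifferential.map k k C (Localization.AtPrime m))
    (IsLocalizedModule.isBaseChange m.primeCompl _ _) g hg

end Closed

end Groth.Agent.Helper7.HypKah
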