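import Mathlib
import Groth.Agent.Helper7.HypKahB
import Groth.Agent.Helper7.HullS2

set_option autoImplicit false

/-!
# Number of local generators of `Ω_{A/K}` for a finite type `K`-algebra whose geometric fibre is
integral with hypersurface singularities
-/

namespace Groth.Agent.Helper7.HypKah

open IsLocalRing TensorProduct

universe u

section Global

variable {K : Type u} [Field K] {A : Type u} [CommRing A] [Algebra K A]

attribute [local instance] Algebra.TensorProduct.rightAlgebra

theorem isIntegral_right : Algebra.IsIntegral A (AlgebraicClosure K ⊗[K] A) := by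
  refine ⟨fun x => ?_⟩
  induction x using TensorProduct.induction_on with
  | zero => exact isIntegral_zero
  | tmul c a =>
    have h1 : c ⊗ₜ[K] a = (c ⊗ₜ[K] (1 : A)) * algebraMap A (AlgebraicClosure K ⊗[K] A) a := by
      rw [Algebra.TensorProduct.right_algebraMap_apply, Algebra.TensorProduct.tmul_mul_tmul,
        mul_one, one_mul]
    rw [h1]
    refine IsIntegral.mul ?_ isIntegral_algebraMap
    have hc : IsIntegral K c := Algebra.IsIntegral.isIntegral c
    have h2 : IsIntegral K ((Algebra.TensorProduct.includeLeft :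
        AlgebraicClosure K →ₐ[K] AlgebraicClosure K ⊗[K] A) c) := hc.map _
    exact h2.tower_top
  | add x y hx hy => exact hx.add hy

theorem algebraMap_right_injective :
    Function.Injective (algebraMap A (AlgebraicClosure K ⊗[K] A)) := by
  have := Algebra.TensorProduct.includeRight_injective (R := K) (A := AlgebraicClosure K) (B := A)
    (algebraMap K (AlgebraicClosure K)).injective
  exact this

theorem main [Algebra.FiniteType K A]
    (hhyp : ∀ (q : Ideal (AlgebraicClosure K ⊗[K] A)) [q.IsPrime],
      (Module.finrank (ResidueField (Localization.AtPrime q))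
          (CotangentSpace (Localization.AtPrime q)) : ℕ∞) ≤ q.height + 1)
    (d : ℕ) (hd : ringKrullDim A = d) (p : Ideal A) [p.IsPrime] :
    ∃ s : Finset (LocalizedModule p.primeCompl (Ω[A⁄K])),
      s.card ≤ d + 1 ∧ Submodule.span (Localization.AtPrime p)
        (s : Set (LocalizedModule p.primeCompl (Ω[A⁄K]))) = ⊤ := by
  classical
  haveI := isIntegral_right (K := K) (A := A)
  have hF : ¬ Fitt.ideal A (Ω[A⁄K]) (d + 1) ≤ p := by
    intro hle
    obtain ⟨q, -, hqprime, hq⟩ := Ideal.exists_ideal_over_prime_of_isIntegral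
      (S := AlgebraicClosure K ⊗[K] A) p (⊥ : Ideal (AlgebraicClosure K ⊗[K] A)) (by
        rw [← RingHom.ker_eq_comap_bot,
          (RingHom.injective_iff_ker_eq_bot _).mp algebraMap_right_injective]
        exact bot_le)
    obtain ⟨m, hm, hqm⟩ := Ideal.exists_le_maximal q hqprime.ne_top
    have h1 : Fitt.ideal (AlgebraicClosure K ⊗[K] A)
        (Ω[(AlgebraicClosure K ⊗[K] A)⁄(AlgebraicClosure K)]) (d + 1) =
        (Fitt.ideal A (Ω[A⁄K]) (d + 1)).map (algebraMap A (AlgebraicClosure K ⊗[K] A)) := by
      rw [← Groth.Agent.Helper7.FittLib.fitt_congr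
        (KaehlerDifferential.tensorKaehlerEquiv K (AlgebraicClosure K) A
          (AlgebraicClosure K ⊗[K] A)) (d + 1), Groth.Agent.Helper7.FittLib.fitt_baseChange]
    have h2 : Fitt.ideal (AlgebraicClosure K ⊗[K] A)
        (Ω[(AlgebraicClosure K ⊗[K] A)⁄(AlgebraicClosure K)]) (d + 1) ≤ m := by
      rw [h1, Ideal.map_le_iff_le_comap]
      refine hle.trans ?_
      rw [← hq]
      exact Ideal.comap_mono hqm
    have hht : m.height ≤ (d : ℕ∞) := by
      have h3 := Groth.Agent.Helper7.HullS2.height_le_comap (R := A) m
      have h4 : ((m.comap (algebraMap A (AlgebraicClosure K ⊗[K] A))).height : WithBot ℕ∞) ≤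
          ringKrullDim A := Ideal.height_le_ringKrullDim_of_ne_top (Ideal.IsPrime.ne_top')
      rw [hd] at h4
      have h5 : (m.comap (algebraMap A (AlgebraicClosure K ⊗[K] A))).height ≤ (d : ℕ∞) := by
        exact_mod_cast h4
      exact h3.trans h5
    have h6 : Module.finrank (ResidueField (Localization.AtPrime m))
        (CotangentSpace (Localization.AtPrime m)) ≤ d + 1 := by
      have h7 := (hhyp m).trans (add_le_add_left hht 1)
      exact_mod_cast h7
    haveI : Algebra.FiniteType (AlgebraicClosure K) (AlgebraicClosure K ⊗[K] A) := inferInstance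
    exact fitt_kaehler_not_le (k := AlgebraicClosure K) m (d + 1) h6 h2
  obtain ⟨g, hg⟩ := ((Groth.Agent.Helper7.FittLib.fitt_not_le_iff (Ω[A⁄K]) (d + 1) p).2.1).1 hF
  refine ⟨Finset.image g Finset.univ, ?_, ?_⟩
  · exact Finset.card_image_le.trans (by simp)
  · rw [Finset.coe_image, Finset.coe_univ, Set.image_univ]
    exact hg

end Global

end Groth.Agent.Helper7.HypKah
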