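import Mathlib
import Groth.Prelude.Def_CAlg
import Groth.Agent.S0601
import Groth.Agent.Helper2.SkLift
import Groth.Agent.Lead.RegLocal

set_option linter.style.haveILetI false
set_option linter.unusedSectionVars false
set_option autoImplicit false

/-! A prime hypersurface in a regular ring is normal iff it is regular in codimension one. -/

namespace Groth.Agent.Helper7.HypNormal

open IsLocalRing Pointwise Groth.Agent.Helper2 CAlg

universe u

section L
variable {A : Type u} [CommRing A] [IsNoetherianRing A] (t : A)
  (P : Ideal (A ⧸ Ideal.span {t})) [P.IsPrime]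

theorem dim_eq' (hx : IsSMulRegular (Localization.AtPrime (P.comap (Ideal.Quotient.mk (Ideal.span {t}))))
      (algebraMap A (Localization.AtPrime (P.comap (Ideal.Quotient.mk (Ideal.span {t})))) t)) :
    ringKrullDim (Localization.AtPrime P) + 1 =
    ringKrullDim (Localization.AtPrime (P.comap (Ideal.Quotient.mk (Ideal.span {t})))) := by
  have e := RingHom.quotientKerEquivOfSurjective (SkLift.φ_surj t P)
  rw [← ringKrullDim_eq_of_ringEquiv e]
  have e2 := Ideal.quotEquivOfEq (SkLift.ker_φ t P)
  rw [ringKrullDim_eq_of_ringEquiv e2]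
  exact ringKrullDim_quotient_span_singleton_succ_eq_ringKrullDim hx (SkLift.x_mem t P)

theorem depth_eq' (hx : IsSMulRegular (Localization.AtPrime (P.comap (Ideal.Quotient.mk (Ideal.span {t}))))
      (algebraMap A (Localization.AtPrime (P.comap (Ideal.Quotient.mk (Ideal.span {t})))) t)) :
    LocCoh.depth (Localization.AtPrime P) (Localization.AtPrime P) + 1 =
    LocCoh.depth (Localization.AtPrime (P.comap (Ideal.Quotient.mk (Ideal.span {t}))))
      (Localization.AtPrime (P.comap (Ideal.Quotient.mk (Ideal.span {t})))) := by
  set B := Localization.AtPrime (P.comap (Ideal.Quotient.mk (Ideal.span {t}))) with hB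
  set x := algebraMap A B t with hx'
  letI : Algebra B (Localization.AtPrime P) := (SkLift.φ t P).toAlgebra
  haveI : IsLocalHom (algebraMap B (Localization.AtPrime P)) := by
    show IsLocalHom (SkLift.φ t P)
    unfold SkLift.φ
    infer_instance
  have hsurj : Function.Surjective (algebraMap B (Localization.AtPrime P)) := SkLift.φ_surj t P
  haveI : Module.Finite B (Localization.AtPrime P) :=
    Module.Finite.of_surjective (Algebra.linearMap B (Localization.AtPrime P)) hsurj
  have h1 := RegCM.depth_eq_of_isLocalHom B (Localization.AtPrime P) (Localization.AtPrime P)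
  rw [← h1]
  have hker : LinearMap.ker (Algebra.linearMap B (Localization.AtPrime P)) =
      x • (⊤ : Submodule B B) := by
    ext y
    rw [LinearMap.mem_ker, Algebra.linearMap_apply]
    have : y ∈ RingHom.ker (SkLift.φ t P) ↔ algebraMap B (Localization.AtPrime P) y = 0 := Iff.rfl
    rw [← this, SkLift.ker_φ t P, Ideal.mem_span_singleton', Submodule.mem_smul_pointwise_iff_exists]
    constructor
    · rintro ⟨a, rfl⟩
      exact ⟨a, Submodule.mem_top, by rw [smul_eq_mul, mul_comm]⟩
    · rintro ⟨a, -, rfl⟩
      exact ⟨a, by rw [smul_eq_mul, mul_comm]⟩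
  let e : QuotSMulTop x B ≃ₗ[B] Localization.AtPrime P :=
    (Submodule.quotEquivOfEq _ _ hker.symm).trans
      (LinearMap.quotKerEquivOfSurjective (Algebra.linearMap B (Localization.AtPrime P)) hsurj)
  have h2 : LocCoh.depth B (QuotSMulTop x B) = LocCoh.depth B (Localization.AtPrime P) :=
    DepthCM.idealDepth_congr (maximalIdeal B) e
  rw [← h2]
  exact DepthCM.idealDepth_quotSMulTop (maximalIdeal B) B (Depth.smul_top_ne_top B B) x
    (SkLift.x_mem t P) hx

/-- A regular local ring has depth equal to its dimension. -/
theorem depth_eq_dim_of_regular (B : Type u) [CommRing B] [IsRegularLocalRing B] :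
    ((LocCoh.depth B B : ℕ∞) : WithBot ℕ∞) = ringKrullDim B := by
  have h := RegCM.cm_of_isRegularLocalRing B
  unfold LocCoh.IsCohenMacaulayModule at h
  rw [Module.supportDim_self_eq_ringKrullDim] at h
  exact h.symm

/-- the local rings of a hypersurface in a regular ring are Cohen–Macaulay -/
theorem depth_eq_dim
    (hB : IsRegularLocalRing (Localization.AtPrime (P.comap (Ideal.Quotient.mk (Ideal.span {t}))))) :
    ((LocCoh.depth (Localization.AtPrime P) (Localization.AtPrime P) : ℕ∞) : WithBot ℕ∞) =
      ringKrullDim (Localization.AtPrime P) := by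
  haveI := hB
  haveI : IsDomain (Localization.AtPrime (P.comap (Ideal.Quotient.mk (Ideal.span {t})))) :=
    Groth.Agent.Lead.RegLocal.isDomain_of_isRegularLocalRing _
  by_cases hx0 : algebraMap A (Localization.AtPrime (P.comap (Ideal.Quotient.mk (Ideal.span {t})))) t = 0
  · -- `φ` is an isomorphism
    have hinj : Function.Injective (SkLift.φ t P) := by
      rw [RingHom.injective_iff_ker_eq_bot, SkLift.ker_φ, hx0]
      simp
    let e := RingEquiv.ofBijective (SkLift.φ t P) ⟨hinj, SkLift.φ_surj t P⟩
    haveI : IsRegularLocalRing (Localization.AtPrime P) := IsRegularLocalRing.of_ringEquiv e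
    exact depth_eq_dim_of_regular _
  · have hx : IsSMulRegular (Localization.AtPrime (P.comap (Ideal.Quotient.mk (Ideal.span {t}))))
        (algebraMap A (Localization.AtPrime (P.comap (Ideal.Quotient.mk (Ideal.span {t})))) t) :=
      (IsLeftCancelMulZero.mul_left_cancel_of_ne_zero hx0 : IsLeftRegular _).isSMulRegular
    have h1 := dim_eq' t P hx
    have h2 := depth_eq' t P hx
    have h3 := depth_eq_dim_of_regular (Localization.AtPrime (P.comap (Ideal.Quotient.mk (Ideal.span {t}))))
    rw [← h1, ← h2] at h3
    have hfin : ringKrullDim (Localization.AtPrime P) = (P.height : WithBot ℕ∞) :=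
      IsLocalization.AtPrime.ringKrullDim_eq_height P (Localization.AtPrime P)
    rw [hfin] at h3 ⊢
    have h4 : (LocCoh.depth (Localization.AtPrime P) (Localization.AtPrime P) : ℕ∞) + 1 = P.height + 1 := by
      exact_mod_cast h3
    have h5 : LocCoh.depth (Localization.AtPrime P) (Localization.AtPrime P) = P.height := by
      exact WithTop.add_right_cancel ENat.one_ne_top h4
    rw [h5]

end L

section main
variable (A : Type u) [CommRing A] [IsNoetherianRing A]
  (hreg : ∀ (p : Ideal A) (_ : p.IsPrime), IsRegularLocalRing (Localization.AtPrime p))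
  (f : A) (hf : (Ideal.span ({f} : Set A)).IsPrime)

include hreg in
theorem hasS2 : LocCoh.HasSk 2 (A ⧸ Ideal.span {f}) (A ⧸ Ideal.span {f}) := by
  rw [Groth.Agent.Helper1.SerreFlatU.hasSk_iff]
  intro P hP
  rw [depth_eq_dim f P (hreg _ inferInstance)]
  exact min_le_right _ _

include hreg hf in
theorem s10834 : IsIntegrallyClosed (A ⧸ Ideal.span ({f} : Set A)) ↔
      ∀ q : PrimeSpectrum (A ⧸ Ideal.span ({f} : Set A)),
        ringKrullDim (Localization.AtPrime q.asIdeal) = 1 →
          IsRegularLocalRing (Localization.AtPrime q.asIdeal) := by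
  haveI : IsDomain (A ⧸ Ideal.span {f}) := (Ideal.Quotient.isDomain_iff_prime _).mpr hf
  constructor
  · intro hic q hq
    haveI : IsIntegrallyClosed (Localization.AtPrime q.asIdeal) :=
      isIntegrallyClosed_of_isLocalization _ q.asIdeal.primeCompl
        q.asIdeal.primeCompl_le_nonZeroDivisors
    -- nonzero primes are maximal
    have h4 : ∀ P : Ideal (Localization.AtPrime q.asIdeal), P ≠ ⊥ → P.IsPrime →
        P = maximalIdeal _ := by
      intro P hP0 hP
      by_contra hne
      have hlt : P < maximalIdeal _ := lt_of_le_of_ne (le_maximalIdeal hP.ne_top) hne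
      have h1 : (⊥ : Ideal (Localization.AtPrime q.asIdeal)) < P := bot_lt_iff_ne_bot.mpr hP0
      haveI : (⊥ : Ideal (Localization.AtPrime q.asIdeal)).IsPrime := Ideal.isPrime_bot
      have e1 := Ideal.height_strict_mono_of_isPrime_of_isPrime h1
      have e2 := Ideal.height_strict_mono_of_isPrime_of_isPrime hlt
      have e3 : ((maximalIdeal (Localization.AtPrime q.asIdeal)).height : WithBot ℕ∞) ≤ 1 := by
        rw [← hq]
        exact Ideal.height_le_ringKrullDim_of_isPrime
      have e4 : (maximalIdeal (Localization.AtPrime q.asIdeal)).height ≤ 1 := by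
        exact_mod_cast e3
      have e5 : P.height < 1 := lt_of_lt_of_le e2 e4
      rw [Order.lt_one_iff] at e5
      rw [e5] at e1
      exact not_lt_zero e1
    have h5 : IsIntegrallyClosed (Localization.AtPrime q.asIdeal) ∧
        ∀ P : Ideal (Localization.AtPrime q.asIdeal), P ≠ ⊥ → P.IsPrime →
          P = maximalIdeal (Localization.AtPrime q.asIdeal) := ⟨inferInstance, h4⟩
    have h6 : IsPrincipalIdealRing (Localization.AtPrime q.asIdeal) :=
      ((tfae_of_isNoetherianRing_of_isLocalRing_of_isDomain
        (Localization.AtPrime q.asIdeal)).out 3 0).mp h5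
    infer_instance
  · intro H
    have h1 : LocCoh.HasRk 1 (A ⧸ Ideal.span {f}) := by
      intro p hp hht
      have hdim : ringKrullDim (Localization.AtPrime p) = (p.height : WithBot ℕ∞) :=
        IsLocalization.AtPrime.ringKrullDim_eq_height p (Localization.AtPrime p)
      by_cases h0 : p.height = 0
      · rw [h0] at hdim
        haveI : Ring.KrullDimLE 0 (Localization.AtPrime p) := by
          rw [Ring.krullDimLE_iff, hdim]; rfl
        have hfld : IsField (Localization.AtPrime p) := Ring.KrullDimLE.isField_of_isDomain
        letI := hfld.toField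
        infer_instance
      · have h1' : p.height = 1 := by
          have h2 : (p.height : ℕ∞) ≤ 1 := by exact_mod_cast hht
          have h3 : 1 ≤ p.height := Order.one_le_iff_pos.mpr (pos_iff_ne_zero.mpr h0)
          exact le_antisymm h2 h3
        refine H ⟨p, hp⟩ ?_
        change ringKrullDim (Localization.AtPrime p) = 1
        rw [hdim, h1']
        rfl
    have h2 := hasS2 A hreg f
    have := (Groth.Agent.S0601.result _).mpr ⟨h1, h2⟩
    exact IsIntegrallyClosed.of_localization_maximal (fun p _ _ => (this p).2)

end main

end Groth.Agent.Helper7.HypNormal
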