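import Mathlib

open Polynomial

namespace Groth.Agent.Helper7.HypSec

universe u

section alg

attribute [local instance] MvPolynomial.gradedAlgebra

variable {k : Type u} [Field k] {σ : Type*} [Finite σ]

local notation "𝒜" => MvPolynomial.homogeneousSubmodule σ k

/-- multiplication by `f` as a `k`-linear map -/
noncomputable def mulL (f : MvPolynomial σ k) : MvPolynomial σ k →ₗ[k] MvPolynomial σ k :=
  LinearMap.mulLeft k f

@[simp] lemma mulL_apply (f g : MvPolynomial σ k) : mulL f g = f * g := rfl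

lemma mulL_injective {f : MvPolynomial σ k} (hf : f ≠ 0) : Function.Injective (mulL f) := by
  intro a b hab
  simp only [mulL_apply] at hab
  exact mul_left_cancel₀ hf hab

instance fin_piece (m : ℕ) : Module.Finite k ↥(𝒜 m) :=
  Module.Finite.iff_fg.mpr (MvPolynomial.homogeneousSubmodule_fg σ k m)

lemma sup_eq (I : Ideal (MvPolynomial σ k)) (hIh : I.IsHomogeneous (MvPolynomial.homogeneousSubmodule σ k))
    (f : MvPolynomial σ k) (d : ℕ) (hf : f.IsHomogeneous d) (m : ℕ) (hm : d ≤ m) :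
    Submodule.restrictScalars k (I ⊔ Ideal.span {f}) ⊓ 𝒜 m =
      (Submodule.restrictScalars k I ⊓ 𝒜 m) ⊔ Submodule.map (mulL f) (𝒜 (m - d)) := by
  apply le_antisymm
  · rintro x ⟨hx1, hx2⟩
    simp only [SetLike.mem_coe, Submodule.restrictScalars_mem] at hx1
    obtain ⟨a, ha, b, hb, rfl⟩ := Submodule.mem_sup.mp hx1
    obtain ⟨g, rfl⟩ := Ideal.mem_span_singleton'.mp hb
    -- take degree m component
    have hx2' : (a + g * f) ∈ 𝒜 m := hx2
    have h1 : ((DirectSum.decompose 𝒜 (a + g * f) m : 𝒜 m) : MvPolynomial σ k) = a + g * f :=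
      DirectSum.decompose_of_mem_same _ hx2'
    have h2 : ((DirectSum.decompose 𝒜 (a + g * f) m : 𝒜 m) : MvPolynomial σ k) =
        ((DirectSum.decompose 𝒜 a m : 𝒜 m) : MvPolynomial σ k) +
          ((DirectSum.decompose 𝒜 (g * f) m : 𝒜 m) : MvPolynomial σ k) := by
      rw [DirectSum.decompose_add]; rfl
    have hfm : f ∈ 𝒜 d := hf
    have h3 : ((DirectSum.decompose 𝒜 (g * f) m : 𝒜 m) : MvPolynomial σ k) =
        ((DirectSum.decompose 𝒜 g (m - d) : 𝒜 (m - d)) : MvPolynomial σ k) * f := by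
      have := DirectSum.coe_decompose_mul_add_of_right_mem 𝒜 (i := m - d) (j := d) (a := g) hfm
      rw [Nat.sub_add_cancel hm] at this
      exact this
    rw [← h1, h2, h3]
    refine Submodule.add_mem_sup ⟨?_, ?_⟩ ?_
    · simp only [SetLike.mem_coe, Submodule.restrictScalars_mem]
      exact hIh m ha
    · exact SetLike.coe_mem _
    · refine ⟨((DirectSum.decompose 𝒜 g (m - d) : 𝒜 (m - d)) : MvPolynomial σ k), SetLike.coe_mem _, ?_⟩
      simp [mul_comm]
  · refine sup_le ?_ ?_
    · rintro x ⟨hx1, hx2⟩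
      refine ⟨?_, hx2⟩
      simp only [SetLike.mem_coe, Submodule.restrictScalars_mem] at hx1 ⊢
      exact Ideal.mem_sup_left hx1
    · rintro x ⟨g, hg, rfl⟩
      refine ⟨?_, ?_⟩
      · simp only [SetLike.mem_coe, Submodule.restrictScalars_mem, mulL_apply]
        exact Ideal.mem_sup_right (Ideal.mul_mem_right _ _ (Ideal.subset_span rfl))
      · have hfm : f ∈ 𝒜 d := hf
        have : f * g ∈ 𝒜 (d + (m - d)) := SetLike.GradedMul.mul_mem hfm hg
        rw [Nat.add_sub_cancel' hm] at this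
        exact this

lemma inf_eq (I : Ideal (MvPolynomial σ k)) [I.IsPrime]
    (f : MvPolynomial σ k) (d : ℕ) (hf : f.IsHomogeneous d) (hfI : f ∉ I) (m : ℕ) (hm : d ≤ m) :
    (Submodule.restrictScalars k I ⊓ 𝒜 m) ⊓ Submodule.map (mulL f) (𝒜 (m - d)) =
      Submodule.map (mulL f) (Submodule.restrictScalars k I ⊓ 𝒜 (m - d)) := by
  apply le_antisymm
  · rintro x ⟨⟨hx1, hx2⟩, ⟨g, hg, rfl⟩⟩
    simp only [SetLike.mem_coe, Submodule.restrictScalars_mem, mulL_apply] at hx1
    refine ⟨g, ⟨?_, hg⟩, rfl⟩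
    simp only [SetLike.mem_coe, Submodule.restrictScalars_mem]
    exact (Ideal.IsPrime.mem_or_mem inferInstance hx1).resolve_left hfI
  · rintro x ⟨g, ⟨hg1, hg2⟩, rfl⟩
    refine ⟨⟨?_, ?_⟩, ⟨g, hg2, rfl⟩⟩
    · simp only [SetLike.mem_coe, Submodule.restrictScalars_mem, mulL_apply] at hg1 ⊢
      exact Ideal.mul_mem_left _ _ hg1
    · have hfm : f ∈ 𝒜 d := hf
      have : f * g ∈ 𝒜 (d + (m - d)) := SetLike.GradedMul.mul_mem hfm hg2
      rw [Nat.add_sub_cancel' hm] at this
      exact this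

lemma finrank_map_mulL {f : MvPolynomial σ k} (hf : f ≠ 0) (S : Submodule k (MvPolynomial σ k)) :
    Module.finrank k ↥(Submodule.map (mulL f) S) = Module.finrank k ↥S :=
  (Submodule.equivMapOfInjective (mulL f) (mulL_injective hf) S).finrank_eq.symm

/-- the key rank identity -/
lemma finrank_identity (I : Ideal (MvPolynomial σ k))
    (hIh : I.IsHomogeneous (MvPolynomial.homogeneousSubmodule σ k)) [I.IsPrime]
    (f : MvPolynomial σ k) (d : ℕ) (hf : f.IsHomogeneous d) (hfI : f ∉ I) (m : ℕ) (hm : d ≤ m) :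
    Module.finrank k ↥(Submodule.restrictScalars k (I ⊔ Ideal.span {f}) ⊓ 𝒜 m) +
      Module.finrank k ↥(Submodule.restrictScalars k I ⊓ 𝒜 (m - d)) =
    Module.finrank k ↥(Submodule.restrictScalars k I ⊓ 𝒜 m) +
      Module.finrank k ↥(𝒜 (m - d)) := by
  have hf0 : f ≠ 0 := fun h => hfI (h ▸ I.zero_mem)
  haveI : Module.Finite k ↥(Submodule.restrictScalars k I ⊓ 𝒜 m) :=
    Module.Finite.of_injective (Submodule.inclusion (inf_le_right : _ ≤ 𝒜 m))
      (Submodule.inclusion_injective _)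
  haveI : Module.Finite k ↥(Submodule.map (mulL f) (𝒜 (m - d))) :=
    Module.Finite.of_surjective ((mulL f).submoduleMap (𝒜 (m - d)))
      ((mulL f).submoduleMap_surjective _)
  have h := Submodule.finrank_sup_add_finrank_inf_eq (Submodule.restrictScalars k I ⊓ 𝒜 m)
    (Submodule.map (mulL f) (𝒜 (m - d)))
  rw [← sup_eq I hIh f d hf m hm, inf_eq I f d hf hfI m hm, finrank_map_mulL hf0,
    finrank_map_mulL hf0] at h
  exact h

end alg

section poly

/-- coefficients of `P(X + c)` via Hasse derivatives. -/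
lemma coeff_comp_top (P : ℚ[X]) (c : ℚ) :
    (P.comp (X + C c)).coeff P.natDegree = P.leadingCoeff := by
  have h := Polynomial.taylor_coeff c P P.natDegree
  rw [Polynomial.taylor_apply] at h
  rw [h]
  have hdeg : (hasseDeriv P.natDegree P).natDegree ≤ 0 := by
    have := Polynomial.natDegree_hasseDeriv_le P P.natDegree
    omega
  rw [Polynomial.eq_C_of_natDegree_le_zero hdeg, Polynomial.eval_C, Polynomial.hasseDeriv_coeff]
  simp

lemma coeff_comp_gt (P : ℚ[X]) (c : ℚ) (j : ℕ) (hj : P.natDegree < j) :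
    (P.comp (X + C c)).coeff j = 0 := by
  apply Polynomial.coeff_eq_zero_of_natDegree_lt
  refine lt_of_le_of_lt Polynomial.natDegree_comp_le ?_
  have : (X + C c : ℚ[X]).natDegree ≤ 1 := by
    exact Polynomial.natDegree_X_add_C c |>.le
  calc P.natDegree * (X + C c : ℚ[X]).natDegree ≤ P.natDegree * 1 := Nat.mul_le_mul_left _ this
    _ = P.natDegree := mul_one _
    _ < j := hj

lemma coeff_comp_pred (P : ℚ[X]) (c : ℚ) (r : ℕ) (hr : P.natDegree = r + 1) :
    (P.comp (X + C c)).coeff r = P.coeff r + (r + 1) * P.leadingCoeff * c := by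
  have h := Polynomial.taylor_coeff c P r
  rw [Polynomial.taylor_apply] at h
  rw [h]
  have hdeg : (hasseDeriv r P).natDegree ≤ 1 := by
    have := Polynomial.natDegree_hasseDeriv_le P r
    omega
  rw [Polynomial.eq_X_add_C_of_natDegree_le_one hdeg]
  simp only [Polynomial.eval_add, Polynomial.eval_mul, Polynomial.eval_C, Polynomial.eval_X,
    Polynomial.hasseDeriv_coeff]
  rw [Polynomial.leadingCoeff, hr]
  simp only [zero_add, Nat.choose_self, Nat.cast_one, one_mul]
  rw [show 1 + r = r + 1 from add_comm _ _, Nat.choose_succ_self_right]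
  push_cast
  ring

/-- the difference polynomial `P - P(X - d)`. -/
lemma diff_poly (P : ℚ[X]) (d : ℚ) (hd : d ≠ 0) (hdim : 1 ≤ P.natDegree) :
    (P - P.comp (X + C (-d))).natDegree + 1 = P.natDegree ∧
      (((P - P.comp (X + C (-d))).natDegree.factorial : ℚ) *
        (P - P.comp (X + C (-d))).leadingCoeff =
        d * ((P.natDegree.factorial : ℚ) * P.leadingCoeff)) := by
  obtain ⟨r, hr⟩ : ∃ r, P.natDegree = r + 1 := ⟨P.natDegree - 1, by omega⟩
  set D := P - P.comp (X + C (-d)) with hD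
  have hP0 : P ≠ 0 := by
    rintro rfl; simp at hdim
  have hlc : P.leadingCoeff ≠ 0 := Polynomial.leadingCoeff_ne_zero.mpr hP0
  have hcr : D.coeff r = (r + 1) * P.leadingCoeff * d := by
    rw [hD, Polynomial.coeff_sub, coeff_comp_pred P (-d) r hr]; ring
  have hcr0 : D.coeff r ≠ 0 := by
    rw [hcr]
    have : ((r : ℚ) + 1) ≠ 0 := by positivity
    exact mul_ne_zero (mul_ne_zero this hlc) hd
  have hle : D.natDegree ≤ r := by
    rw [Polynomial.natDegree_le_iff_coeff_eq_zero]
    intro j hj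
    rw [hD, Polynomial.coeff_sub]
    rcases Nat.lt_or_ge (r + 1) j with h | h
    · rw [coeff_comp_gt P (-d) j (by omega), Polynomial.coeff_eq_zero_of_natDegree_lt (by omega)]
      simp
    · have : j = r + 1 := by omega
      subst this
      rw [← hr, coeff_comp_top]
      simp
  have hdeg : D.natDegree = r := le_antisymm hle (Polynomial.le_natDegree_of_ne_zero hcr0)
  refine ⟨by rw [hdeg, hr], ?_⟩
  rw [Polynomial.leadingCoeff, hdeg, hcr, hr, Nat.factorial_succ]
  push_cast
  ring

/-- Two rational polynomials that agree at all large naturals are equal. -/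
lemma eq_of_eval_nat_eq (A B : ℚ[X]) (m₀ : ℕ)
    (h : ∀ m : ℕ, m₀ ≤ m → A.eval (m : ℚ) = B.eval (m : ℚ)) : A = B := by
  apply Polynomial.eq_of_infinite_eval_eq
  refine Set.Infinite.mono (s := (fun m : ℕ => (m : ℚ)) '' {m | m₀ ≤ m}) ?_ ?_
  · rintro _ ⟨m, hm, rfl⟩
    exact h m hm
  · refine Set.Infinite.image (Nat.cast_injective.injOn) ?_
    exact Set.infinite_of_not_bddAbove (fun ⟨b, hb⟩ => by
      have := hb (show max m₀ (b + 1) ∈ {m | m₀ ≤ m} from (le_max_left _ _ : m₀ ≤ max m₀ (b + 1)))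
      have h2 := le_max_right m₀ (b + 1)
      omega)

end poly

attribute [local instance] MvPolynomial.gradedAlgebra in
/-- main theorem -/
theorem main {k : Type u} [Field k] (n : ℕ)
    (I : Ideal (MvPolynomial (Fin (n + 1)) k))
    (hIh : I.IsHomogeneous (MvPolynomial.homogeneousSubmodule (Fin (n + 1)) k)) [I.IsPrime]
    (f : MvPolynomial (Fin (n + 1)) k) (d : ℕ) (hd : 0 < d) (hf : f.IsHomogeneous d) (hfI : f ∉ I)
    (P Q : ℚ[X])
    (hP : ∃ m₀ : ℕ, ∀ m : ℕ, m₀ ≤ m → P.eval (m : ℚ) =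
      (Module.finrank k ↥(MvPolynomial.homogeneousSubmodule (Fin (n + 1)) k m) : ℚ) -
        Module.finrank k ↥(Submodule.restrictScalars k I ⊓
          MvPolynomial.homogeneousSubmodule (Fin (n + 1)) k m))
    (hQ : ∃ m₀ : ℕ, ∀ m : ℕ, m₀ ≤ m → Q.eval (m : ℚ) =
      (Module.finrank k ↥(MvPolynomial.homogeneousSubmodule (Fin (n + 1)) k m) : ℚ) -
        Module.finrank k ↥(Submodule.restrictScalars k (I ⊔ Ideal.span {f}) ⊓
          MvPolynomial.homogeneousSubmodule (Fin (n + 1)) k m))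
    (hdim : 1 ≤ P.natDegree) :
    Q.natDegree + 1 = P.natDegree ∧
      (Q.natDegree.factorial : ℚ) * Q.leadingCoeff =
        d * ((P.natDegree.factorial : ℚ) * P.leadingCoeff) := by
  obtain ⟨m₁, hP⟩ := hP
  obtain ⟨m₂, hQ⟩ := hQ
  have hQD : Q = P - P.comp (X + C (-(d : ℚ))) := by
    apply eq_of_eval_nat_eq _ _ (max m₂ (m₁ + d))
    intro m hm
    have hm2 : m₂ ≤ m := le_trans (le_max_left _ _) hm
    have hm1 : m₁ + d ≤ m := le_trans (le_max_right _ _) hm
    have hdm : d ≤ m := by omega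
    rw [hQ m hm2, Polynomial.eval_sub, Polynomial.eval_comp, hP m (by omega)]
    have he : (Polynomial.eval (m : ℚ) (X + C (-(d : ℚ)))) = ((m - d : ℕ) : ℚ) := by
      simp [Nat.cast_sub hdm]; ring
    rw [he, hP (m - d) (by omega)]
    have hid := finrank_identity I hIh f d hf hfI m hdm
    have hid' : (Module.finrank k ↥(Submodule.restrictScalars k (I ⊔ Ideal.span {f}) ⊓
          MvPolynomial.homogeneousSubmodule (Fin (n + 1)) k m) : ℚ) +
        Module.finrank k ↥(Submodule.restrictScalars k I ⊓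
          MvPolynomial.homogeneousSubmodule (Fin (n + 1)) k (m - d)) =
        Module.finrank k ↥(Submodule.restrictScalars k I ⊓
          MvPolynomial.homogeneousSubmodule (Fin (n + 1)) k m) +
        Module.finrank k ↥(MvPolynomial.homogeneousSubmodule (Fin (n + 1)) k (m - d)) := by
      exact_mod_cast hid
    linarith
  rw [hQD]
  exact diff_poly P d (by exact_mod_cast hd.ne') hdim

end Groth.Agent.Helper7.HypSec
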