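import Mathlib
import Groth.Agent.Helper3.WedgeAnn

set_option autoImplicit false
set_option linter.unusedSectionVars false
set_option linter.unusedVariables false

universe u

open Groth.Agent.Helper3

namespace Groth.Agent.Helper7.HypSm

section Local
variable {S : Type u} [CommRing S] [IsLocalRing S] {n : ℕ} (a : Fin n → S)

/-- the quotient `S^n / S a` -/
abbrev Q := (Fin n → S) ⧸ Submodule.span S {a}

theorem unit_case (i : Fin n) (hi : IsUnit (a i)) :
    (∀ c : S, c • a = 0 → c = 0) ∧ Module.Free S (Q a) ∧
      Subsingleton (⋀[S]^n (Q a)) := by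
  obtain ⟨u, hu⟩ := hi.exists_left_inv
  refine ⟨?_, ?_, ?_⟩
  · intro c hc
    have h1 : c * a i = 0 := by
      have := congrFun hc i
      simpa using this
    calc c = u * (c * a i) := by rw [mul_comm c, ← mul_assoc, hu, one_mul]
      _ = 0 := by rw [h1, mul_zero]
  · exact Module.Free.of_equiv (WedgeAnn.quotEquiv a i u hu).symm
  · have h1 := WedgeAnn.part1 S n a
    have h2 : Ideal.span (Set.range a) = ⊤ :=
      Ideal.eq_top_of_isUnit_mem _ (Ideal.subset_span ⟨i, rfl⟩) hi
    rw [h2, Submodule.annihilator_eq_top_iff] at h1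
    rw [h1]
    infer_instance

theorem nonunit_case (hn : ∀ i, a i ∈ IsLocalRing.maximalIdeal S) :
    ¬ ((∀ c : S, c • a = 0 → c = 0) ∧ Module.Projective S (Q a)) ∧
      Nontrivial (⋀[S]^n (Q a)) := by
  constructor
  · rintro ⟨hinj, hproj⟩
    obtain ⟨σ, hσ⟩ := Module.projective_lifting_property
      (Submodule.mkQ (Submodule.span S {a})) (LinearMap.id : Q a →ₗ[S] Q a)
      (Submodule.mkQ_surjective _)
    have ha : Submodule.span S {a} ≤
        (IsLocalRing.maximalIdeal S) • (⊤ : Submodule S (Fin n → S)) := by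
      rw [Submodule.span_le, Set.singleton_subset_iff]
      have h2 : a = ∑ j, a j • (Pi.single j 1 : Fin n → S) := by
        have := (Pi.basisFun S (Fin n)).sum_repr a
        simpa using this.symm
      rw [h2]
      exact Submodule.sum_mem _ fun j _ =>
        Submodule.smul_mem_smul (hn j) Submodule.mem_top
    have h1 : (⊤ : Submodule S (Fin n → S)) ≤ LinearMap.range σ ⊔
        (IsLocalRing.maximalIdeal S) • (⊤ : Submodule S (Fin n → S)) := by
      intro x _
      have hx : x - σ (Submodule.mkQ _ x) ∈ Submodule.span S {a} := by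
        have h0 : Submodule.mkQ (Submodule.span S {a}) (x - σ (Submodule.mkQ _ x)) = 0 := by
          rw [map_sub]
          have := LinearMap.congr_fun hσ (Submodule.mkQ _ x)
          simp only [LinearMap.comp_apply, LinearMap.id_apply] at this
          rw [this, sub_self]
        exact (Submodule.Quotient.mk_eq_zero _).1 h0
      have : x = σ (Submodule.mkQ _ x) + (x - σ (Submodule.mkQ _ x)) := by abel
      rw [this]
      exact Submodule.add_mem_sup (LinearMap.mem_range_self _ _) (ha hx)
    have h2 : (⊤ : Submodule S (Fin n → S)) ≤ LinearMap.range σ :=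
      Submodule.le_of_le_smul_of_le_jacobson_bot Module.Finite.fg_top
        (by rw [IsLocalRing.jacobson_eq_maximalIdeal ⊥ bot_ne_top]) h1
    obtain ⟨q, hq⟩ := h2 (Submodule.mem_top : a ∈ ⊤)
    have h3 : Submodule.mkQ (Submodule.span S {a}) a = 0 :=
      (Submodule.Quotient.mk_eq_zero _).2 (Submodule.mem_span_singleton_self a)
    have h4 : q = 0 := by
      have := LinearMap.congr_fun hσ q
      simp only [LinearMap.comp_apply, LinearMap.id_apply] at this
      rw [← this, hq, h3]
    have h5 : a = 0 := by rw [← hq, h4, map_zero]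
    have := hinj 1 (by rw [h5, smul_zero])
    exact one_ne_zero this
  · have h1 := WedgeAnn.part1 S n a
    by_contra hc
    rw [not_nontrivial_iff_subsingleton] at hc
    have h2 : (⋀[S]^n (Q a)) = ⊥ := by
      rw [Submodule.eq_bot_iff]
      intro x hx
      have := Subsingleton.elim (⟨x, hx⟩ : ↥(⋀[S]^n (Q a))) 0
      exact congrArg Subtype.val this
    rw [← Submodule.annihilator_eq_top_iff, h1] at h2
    have h3 : Ideal.span (Set.range a) ≤ IsLocalRing.maximalIdeal S := by
      rw [Ideal.span_le]
      rintro _ ⟨i, rfl⟩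
      exact hn i
    rw [h2] at h3
    exact (IsLocalRing.maximalIdeal.isMaximal S).ne_top (top_le_iff.1 h3)

/-- The dichotomy over a local ring. -/
theorem local_main :
    Nontrivial (⋀[S]^n (Q a)) ↔
      ¬ ((∀ c : S, c • a = 0 → c = 0) ∧ Module.Free S (Q a)) := by
  by_cases h : ∃ i, IsUnit (a i)
  · obtain ⟨i, hi⟩ := h
    obtain ⟨h1, h2, h3⟩ := unit_case a i hi
    constructor
    · intro hnt
      exact absurd h3 (not_subsingleton_iff_nontrivial.2 hnt)
    · intro hc
      exact absurd ⟨h1, h2⟩ hc
  · push Not at h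
    have hn : ∀ i, a i ∈ IsLocalRing.maximalIdeal S := fun i =>
      (IsLocalRing.mem_maximalIdeal _).2 (h i)
    obtain ⟨h1, h2⟩ := nonunit_case a hn
    constructor
    · intro _ hc
      exact h1 ⟨hc.1, by haveI := hc.2; infer_instance⟩
    · intro _
      exact h2

end Local

end Groth.Agent.Helper7.HypSm
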