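import Mathlib
import Groth.Agent.Helper7.HypSmA
import Groth.Agent.Helper7.ExtBC

set_option autoImplicit false
set_option linter.unusedSectionVars false
set_option linter.unusedVariables false

universe u

open TensorProduct

namespace Groth.Agent.Helper7.HypSm

section Global
variable {R : Type u} [CommRing R] (p : PrimeSpectrum R)
  {E : Type u} [AddCommGroup E] [Module R E] (v : E) {n : ℕ}
  (b : Module.Basis (Fin n) (Localization.AtPrime p.asIdeal)
    (Localization.AtPrime p.asIdeal ⊗[R] E))

/-- coordinates of `1 ⊗ v` -/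
noncomputable def coords : Fin n → Localization.AtPrime p.asIdeal :=
  b.equivFun ((1 : Localization.AtPrime p.asIdeal) ⊗ₜ[R] v)

theorem range_lTensor_eq :
    LinearMap.range (TensorProduct.AlgebraTensorModule.lTensor (Localization.AtPrime p.asIdeal)
      (Localization.AtPrime p.asIdeal) ((Submodule.span R {v}).subtype.restrictScalars R)) =
    Submodule.span (Localization.AtPrime p.asIdeal)
      {(1 : Localization.AtPrime p.asIdeal) ⊗ₜ[R] v} := by
  apply le_antisymm
  · rintro _ ⟨t, rfl⟩
    induction t with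
    | zero => simp
    | add x y hx hy => rw [map_add]; exact Submodule.add_mem _ hx hy
    | tmul s x =>
      obtain ⟨x, hx⟩ := x
      obtain ⟨c, rfl⟩ := Submodule.mem_span_singleton.1 hx
      have : (TensorProduct.AlgebraTensorModule.lTensor (Localization.AtPrime p.asIdeal)
          (Localization.AtPrime p.asIdeal) ((Submodule.span R {v}).subtype.restrictScalars R))
          (s ⊗ₜ[R] ⟨c • v, hx⟩) = (c • s) • ((1 : Localization.AtPrime p.asIdeal) ⊗ₜ[R] v) := by
        simp only [TensorProduct.AlgebraTensorModule.lTensor_tmul, LinearMap.coe_restrictScalars,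
          Submodule.subtype_apply]
        rw [TensorProduct.tmul_smul, TensorProduct.smul_tmul', TensorProduct.smul_tmul',
          smul_eq_mul, mul_one]
      rw [this]
      exact Submodule.smul_mem _ _ (Submodule.mem_span_singleton_self _)
  · rw [Submodule.span_le, Set.singleton_subset_iff]
    refine ⟨(1 : Localization.AtPrime p.asIdeal) ⊗ₜ[R]
      ⟨v, Submodule.mem_span_singleton_self v⟩, ?_⟩
    simp

/-- `S ⊗ (E / R v) ≃ S^n / S a`. -/
noncomputable def e1 :
    (Localization.AtPrime p.asIdeal) ⊗[R] (E ⧸ Submodule.span R {v}) ≃ₗ[Localization.AtPrime p.asIdeal]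
      Q (coords p v b) :=
  (TensorProduct.AlgebraTensorModule.tensorQuotientEquiv (Localization.AtPrime p.asIdeal) R
      (Localization.AtPrime p.asIdeal) (Submodule.span R {v})) ≪≫ₗ
    Submodule.Quotient.equiv _ _ b.equivFun (by
      rw [range_lTensor_eq, Submodule.map_span, Set.image_singleton]
      rfl)

theorem free_iff :
    p ∈ Module.freeLocus R (E ⧸ Submodule.span R {v}) ↔
      Module.Free (Localization.AtPrime p.asIdeal) (Q (coords p v b)) := by
  rw [Module.mem_freeLocus_iff_tensor p (Localization.AtPrime p.asIdeal)]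
  exact ⟨fun h => Module.Free.of_equiv (e1 p v b), fun h => Module.Free.of_equiv (e1 p v b).symm⟩

theorem tmul_eq_zero_iff (r : R) :
    (algebraMap R (Localization.AtPrime p.asIdeal) r) ⊗ₜ[R] v = 0 ↔
      ∃ t ∉ p.asIdeal, (t * r) • v = 0 := by
  have h1 : (algebraMap R (Localization.AtPrime p.asIdeal) r) ⊗ₜ[R] v =
      TensorProduct.mk R (Localization.AtPrime p.asIdeal) E 1 (r • v) := by
    rw [TensorProduct.mk_apply, TensorProduct.tmul_smul, TensorProduct.smul_tmul',
      Algebra.smul_def, mul_one]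
  rw [h1, IsLocalizedModule.eq_zero_iff p.asIdeal.primeCompl]
  constructor
  · rintro ⟨t, ht⟩
    refine ⟨t.1, t.2, ?_⟩
    rw [mul_smul]; exact ht
  · rintro ⟨t, ht, h⟩
    refine ⟨⟨t, ht⟩, ?_⟩
    rw [mul_smul] at h; exact h

theorem inj_iff :
    (∀ r : R, r • v = 0 → ∃ s ∉ p.asIdeal, s * r = 0) ↔
      (∀ c : Localization.AtPrime p.asIdeal, c • coords p v b = 0 → c = 0) := by
  have hc : ∀ c : Localization.AtPrime p.asIdeal, c • coords p v b = 0 ↔
      c ⊗ₜ[R] v = (0 : Localization.AtPrime p.asIdeal ⊗[R] E) := by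
    intro c
    rw [coords, ← map_smul, LinearEquiv.map_eq_zero_iff, TensorProduct.smul_tmul', smul_eq_mul,
      mul_one]
  constructor
  · intro h c hc0
    rw [hc] at hc0
    obtain ⟨r, s, rfl⟩ := IsLocalization.exists_mk'_eq p.asIdeal.primeCompl c
    have h2 : (algebraMap R (Localization.AtPrime p.asIdeal) r) ⊗ₜ[R] v = 0 := by
      have : algebraMap R (Localization.AtPrime p.asIdeal) r =
          (s : R) • IsLocalization.mk' (Localization.AtPrime p.asIdeal) r s := by
        rw [Algebra.smul_def, mul_comm, IsLocalization.mk'_spec]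
      rw [this, ← TensorProduct.smul_tmul', hc0, smul_zero]
    obtain ⟨t, ht, h3⟩ := (tmul_eq_zero_iff p v r).1 h2
    obtain ⟨s', hs', h4⟩ := h _ h3
    rw [IsLocalization.mk'_eq_zero_iff]
    refine ⟨⟨s' * t, p.asIdeal.primeCompl.mul_mem hs' ht⟩, ?_⟩
    rw [← h4]; simp [mul_assoc]
  · intro h r hr
    have h2 : (algebraMap R (Localization.AtPrime p.asIdeal) r) ⊗ₜ[R] v = 0 :=
      (tmul_eq_zero_iff p v r).2 ⟨1, p.asIdeal.primeCompl.one_mem, by rw [one_mul]; exact hr⟩
    have h3 := h _ ((hc _).2 h2)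
    obtain ⟨s, hs⟩ := (IsLocalization.map_eq_zero_iff p.asIdeal.primeCompl _ r).1 h3
    exact ⟨s.1, s.2, hs⟩

theorem ann_iff [Module.Finite R E] :
    (⋀[R]^n (E ⧸ Submodule.span R {v})).annihilator ≤ p.asIdeal ↔
      Nontrivial (⋀[Localization.AtPrime p.asIdeal]^n (Q (coords p v b))) := by
  change Module.annihilator R (⋀[R]^n (E ⧸ Submodule.span R {v})) ≤ p.asIdeal ↔ _
  rw [← Module.mem_support_iff_of_finite, Module.mem_support_iff]
  have e2 : LocalizedModule p.asIdeal.primeCompl (⋀[R]^n (E ⧸ Submodule.span R {v}))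
      ≃ₗ[Localization.AtPrime p.asIdeal]
      Localization.AtPrime p.asIdeal ⊗[R] (⋀[R]^n (E ⧸ Submodule.span R {v})) :=
    LocalizedModule.equivTensorProduct p.asIdeal.primeCompl _
  have e3 := LinearEquiv.ofBijective _ (ExtBC.beta_bijective R (Localization.AtPrime p.asIdeal)
    (E ⧸ Submodule.span R {v}) n)
  have e4 : (⋀[Localization.AtPrime p.asIdeal]^n
      (Localization.AtPrime p.asIdeal ⊗[R] (E ⧸ Submodule.span R {v})))
      ≃ₗ[Localization.AtPrime p.asIdeal]
      (⋀[Localization.AtPrime p.asIdeal]^n (Q (coords p v b))) :=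
    LinearEquiv.ofLinear (exteriorPower.map n (e1 p v b).toLinearMap)
      (exteriorPower.map n (e1 p v b).symm.toLinearMap)
      (by rw [← exteriorPower.map_comp, LinearEquiv.comp_symm, exteriorPower.map_id])
      (by rw [← exteriorPower.map_comp, LinearEquiv.symm_comp, exteriorPower.map_id])
  exact (e2 ≪≫ₗ e3 ≪≫ₗ e4).toEquiv.nontrivial_congr

include b in
theorem global_main [Module.Finite R E] :
    (⋀[R]^n (E ⧸ Submodule.span R {v})).annihilator ≤ p.asIdeal ↔
      ¬ ((∀ r : R, r • v = 0 → ∃ s ∉ p.asIdeal, s * r = 0) ∧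
        p ∈ Module.freeLocus R (E ⧸ Submodule.span R {v})) := by
  rw [ann_iff p v b, local_main, inj_iff p v b, free_iff p v b]

end Global

end Groth.Agent.Helper7.HypSm
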