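import Mathlib
import Groth.Agent.Helper7.HypSmB

set_option autoImplicit false
set_option linter.unusedSectionVars false
set_option linter.unusedVariables false

universe u

open TensorProduct KaehlerDifferential

namespace Groth.Agent.Helper7.HypSm

section Kaehler
variable (A B R : Type u) [CommRing A] [CommRing B] [CommRing R]
  [Algebra A B] [Algebra B R] [Algebra A R] [IsScalarTower A B R]
  (g : B)

/-- the vector `1 ⊗ dg` -/
noncomputable def vv : R ⊗[B] Ω[B⁄A] := (1 : R) ⊗ₜ[B] D A B g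

variable {A B R}

theorem tmul_D_mul (b0 : B) (hgk : algebraMap B R g = 0) :
    (1 : R) ⊗ₜ[B] D A B (b0 * g) = algebraMap B R b0 • vv A B R g := by
  rw [Derivation.leibniz, TensorProduct.tmul_add, TensorProduct.tmul_smul, TensorProduct.tmul_smul,
    TensorProduct.smul_tmul', TensorProduct.smul_tmul', Algebra.smul_def, Algebra.smul_def, mul_one,
    mul_one, hgk, TensorProduct.zero_tmul, add_zero, vv, TensorProduct.smul_tmul', smul_eq_mul,
    mul_one]

variable (hsurj : Function.Surjective (algebraMap B R))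
  (hker : RingHom.ker (algebraMap B R) = Ideal.span {g})

include hsurj hker in
theorem ker_mapBaseChange :
    LinearMap.ker (KaehlerDifferential.mapBaseChange A B R) =
      Submodule.span R {vv A B R g} := by
  have hgk : algebraMap B R g = 0 := by
    rw [← RingHom.mem_ker, hker]; exact Ideal.mem_span_singleton_self g
  apply le_antisymm
  · intro x hx
    rw [LinearMap.mem_ker] at hx
    obtain ⟨y, rfl⟩ := (exact_kerCotangentToTensor_mapBaseChange A B R hsurj x).1 hx
    obtain ⟨⟨y, hy⟩, rfl⟩ := Ideal.toCotangent_surjective _ y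
    rw [kerCotangentToTensor_toCotangent]
    rw [hker, Ideal.mem_span_singleton'] at hy
    obtain ⟨b0, rfl⟩ := hy
    change (1 : R) ⊗ₜ[B] D A B (b0 * g) ∈ _
    rw [tmul_D_mul g b0 hgk]
    exact Submodule.smul_mem _ _ (Submodule.mem_span_singleton_self _)
  · rw [Submodule.span_le, Set.singleton_subset_iff, SetLike.mem_coe, LinearMap.mem_ker, vv,
      mapBaseChange_tmul, one_smul, map_D, hgk, map_zero]

include hsurj hker in
/-- `Ω[R/A] ≃ (R ⊗ Ω[B/A]) / R (1 ⊗ dg)`. -/
theorem nonempty_kaehler_equiv :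
    Nonempty (((R ⊗[B] Ω[B⁄A]) ⧸ Submodule.span R {vv A B R g}) ≃ₗ[R] Ω[R⁄A]) :=
  ⟨(Submodule.quotEquivOfEq _ _ (ker_mapBaseChange g hsurj hker).symm).trans
    ((KaehlerDifferential.mapBaseChange A B R).quotKerEquivOfSurjective
      (mapBaseChange_surjective A B R hsurj))⟩

include hsurj hker in
theorem h1_iff [Algebra.FormallySmooth A B] (hg : IsSMulRegular B g) (p : PrimeSpectrum R) :
    p ∉ Module.support R (Algebra.H1Cotangent A R) ↔
      ∀ r : R, r • vv A B R g = 0 → ∃ s ∉ p.asIdeal, s * r = 0 := by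
  have hgk : algebraMap B R g = 0 := by
    rw [← RingHom.mem_ker, hker]; exact Ideal.mem_span_singleton_self g
  let P' : Algebra.Extension A R := ⟨B, _, Function.surjInv_eq hsurj⟩
  haveI : Algebra.FormallySmooth A P'.Ring := ‹_›
  have hP'ker : P'.ker = Ideal.span {g} := hker
  let e : P'.H1Cotangent ≃ₗ[R] Algebra.H1Cotangent A R := P'.equivH1CotangentOfFormallySmooth
  rw [← e.support_eq, Module.notMem_support_iff']
  have hcc : ∀ (b0 : B) (h : b0 * g ∈ P'.ker),
      P'.cotangentComplex (Algebra.Extension.Cotangent.mk ⟨b0 * g, h⟩) =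
        algebraMap B R b0 • vv A B R g := by
    intro b0 h
    rw [Algebra.Extension.cotangentComplex_mk]
    exact tmul_D_mul g b0 hgk
  have hsm : ∀ (c b0 : B) (h : b0 * g ∈ P'.ker) (h' : c * b0 * g ∈ P'.ker),
      algebraMap B R c • (Algebra.Extension.Cotangent.mk ⟨b0 * g, h⟩ : P'.Cotangent) =
        Algebra.Extension.Cotangent.mk ⟨c * b0 * g, h'⟩ := by
    intro c b0 h h'
    rw [algebraMap_smul, ← map_smul]
    congr 1
    ext
    simp [mul_assoc]
  have hmem : ∀ b0 : B, b0 * g ∈ P'.ker := by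
    intro b0
    rw [hP'ker]; exact Ideal.mem_span_singleton'.2 ⟨b0, rfl⟩
  constructor
  · intro h r hr
    obtain ⟨b0, rfl⟩ := hsurj r
    have hm : (Algebra.Extension.Cotangent.mk ⟨b0 * g, hmem b0⟩ : P'.Cotangent) ∈
        LinearMap.ker P'.cotangentComplex := by
      rw [LinearMap.mem_ker, hcc, hr]
    obtain ⟨s, hs, hs0⟩ := h ⟨_, hm⟩
    refine ⟨s, hs, ?_⟩
    obtain ⟨c, rfl⟩ := hsurj s
    have h1 : algebraMap B R c • (Algebra.Extension.Cotangent.mk ⟨b0 * g, hmem b0⟩ : P'.Cotangent)
        = 0 := by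
      have := congrArg Subtype.val hs0
      exact this
    rw [hsm c b0 (hmem b0) (hmem (c * b0)), Algebra.Extension.Cotangent.mk_eq_zero_iff] at h1
    have h1' : c * b0 * g ∈ (Ideal.span {g}) ^ 2 := by rw [← hP'ker]; exact h1
    rw [Ideal.span_singleton_pow, Ideal.mem_span_singleton'] at h1'
    obtain ⟨d, hd⟩ := h1'
    have h2 : c * b0 = d * g := by
      apply hg
      change g * (c * b0) = g * (d * g)
      linear_combination -hd
    rw [← map_mul, h2, map_mul, hgk, mul_zero]
  · intro h m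
    obtain ⟨x, hx⟩ := m
    obtain ⟨⟨y, hy⟩, rfl⟩ := Algebra.Extension.Cotangent.mk_surjective x
    have hy' := hy
    rw [hP'ker, Ideal.mem_span_singleton'] at hy'
    obtain ⟨b0, rfl⟩ := hy'
    rw [LinearMap.mem_ker, hcc] at hx
    obtain ⟨s, hs, hs0⟩ := h _ hx
    refine ⟨s, hs, ?_⟩
    obtain ⟨c, rfl⟩ := hsurj s
    apply Subtype.ext
    change algebraMap B R c • (Algebra.Extension.Cotangent.mk ⟨b0 * g, hy⟩ : P'.Cotangent) = 0
    rw [hsm c b0 hy (hmem (c * b0)), Algebra.Extension.Cotangent.mk_eq_zero_iff, pow_two]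
    refine Ideal.mul_mem_mul ?_ ?_
    · change c * b0 ∈ RingHom.ker (algebraMap B R)
      rw [RingHom.mem_ker, map_mul]; exact hs0
    · rw [hP'ker]; exact Ideal.mem_span_singleton_self g

end Kaehler

end Groth.Agent.Helper7.HypSm
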