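import Mathlib
import Groth.Agent.Helper7.HypSmC

set_option autoImplicit false
set_option linter.unusedSectionVars false
set_option linter.unusedVariables false

universe u

open TensorProduct KaehlerDifferential

namespace Groth.Agent.Helper7.HypSm

theorem main (A B R : Type u) [CommRing A] [CommRing B] [CommRing R]
    [Algebra A B] [Algebra B R] [Algebra A R] [IsScalarTower A B R] [Algebra.Smooth A B] (n : ℕ)
    (hn : ∀ p : PrimeSpectrum B, Module.rankAtStalk (Ω[B⁄A]) p = n)
    (g : B) (hg : IsSMulRegular B g) (hsurj : Function.Surjective (algebraMap B R))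
    (hker : RingHom.ker (algebraMap B R) = Ideal.span {g}) (p : PrimeSpectrum R) :
    (⋀[R]^n (Ω[R⁄A])).annihilator ≤ p.asIdeal ↔ p ∉ Algebra.smoothLocus A R := by
  haveI : Algebra.FiniteType A B := inferInstance
  haveI : Algebra.FiniteType A R :=
    Algebra.FiniteType.of_surjective (IsScalarTower.toAlgHom A B R) hsurj
  haveI : Algebra.EssFiniteType A R := inferInstance
  haveI : Module.Finite B (Ω[B⁄A]) := inferInstance
  haveI : Module.Projective B (Ω[B⁄A]) := inferInstance
  haveI : Module.Finite R (R ⊗[B] Ω[B⁄A]) := inferInstance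
  haveI : Module.Projective R (R ⊗[B] Ω[B⁄A]) := inferInstance
  have hrank : Module.finrank (Localization.AtPrime p.asIdeal)
      (Localization.AtPrime p.asIdeal ⊗[R] (R ⊗[B] Ω[B⁄A])) = n := by
    rw [← Module.rankAtStalk_eq_finrank_tensorProduct, Module.rankAtStalk_baseChange, hn]
  haveI : Module.Free (Localization.AtPrime p.asIdeal)
      (Localization.AtPrime p.asIdeal ⊗[R] (R ⊗[B] Ω[B⁄A])) :=
    Module.free_of_flat_of_isLocalRing
  let b := Module.finBasisOfFinrankEq (Localization.AtPrime p.asIdeal)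
    (Localization.AtPrime p.asIdeal ⊗[R] (R ⊗[B] Ω[B⁄A])) hrank
  obtain ⟨eK⟩ := nonempty_kaehler_equiv (A := A) g hsurj hker
  have eW : (⋀[R]^n ((R ⊗[B] Ω[B⁄A]) ⧸ Submodule.span R {vv A B R g})) ≃ₗ[R] (⋀[R]^n (Ω[R⁄A])) :=
    LinearEquiv.ofLinear (exteriorPower.map n eK.toLinearMap)
      (exteriorPower.map n eK.symm.toLinearMap)
      (by rw [← exteriorPower.map_comp, LinearEquiv.comp_symm, exteriorPower.map_id])
      (by rw [← exteriorPower.map_comp, LinearEquiv.symm_comp, exteriorPower.map_id])
  have hann : (⋀[R]^n (Ω[R⁄A])).annihilator =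
      (⋀[R]^n ((R ⊗[B] Ω[B⁄A]) ⧸ Submodule.span R {vv A B R g})).annihilator :=
    (LinearEquiv.annihilator_eq eW).symm
  rw [hann, global_main p (vv A B R g) b, Algebra.smoothLocus_eq_compl_support_inter,
    Set.mem_inter_iff, Set.mem_compl_iff, h1_iff g hsurj hker hg p, Module.freeLocus_congr eK]

end Groth.Agent.Helper7.HypSm
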