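import Mathlib
import Groth.Agent.Helper7.HypSmD

set_option autoImplicit false
set_option linter.unusedSectionVars false
set_option linter.unusedVariables false

universe u

open TensorProduct KaehlerDifferential Groth.Agent.Helper3

namespace Groth.Agent.Helper7.HypSm

section Order
variable {R : Type u} [CommRing R] (p : PrimeSpectrum R)
  {E : Type u} [AddCommGroup E] [Module R E] (v : E) {n : ℕ}
  (b : Module.Basis (Fin n) (Localization.AtPrime p.asIdeal)
    (Localization.AtPrime p.asIdeal ⊗[R] E))

/-- the `S`-linear identification `S ⊗ ⋀ⁿ(E/Rv) ≃ ⋀ⁿ(Sⁿ/Sa)` -/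
noncomputable def eps :
    Localization.AtPrime p.asIdeal ⊗[R] (⋀[R]^n (E ⧸ Submodule.span R {v}))
      ≃ₗ[Localization.AtPrime p.asIdeal]
      (⋀[Localization.AtPrime p.asIdeal]^n (Q (coords p v b))) :=
  (LinearEquiv.ofBijective _ (ExtBC.beta_bijective R (Localization.AtPrime p.asIdeal)
    (E ⧸ Submodule.span R {v}) n)) ≪≫ₗ
    LinearEquiv.ofLinear (exteriorPower.map n (e1 p v b).toLinearMap)
      (exteriorPower.map n (e1 p v b).symm.toLinearMap)
      (by rw [← exteriorPower.map_comp, LinearEquiv.comp_symm, exteriorPower.map_id])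
      (by rw [← exteriorPower.map_comp, LinearEquiv.symm_comp, exteriorPower.map_id])

theorem sum_coords :
    ∑ i, coords p v b i • b i = (1 : Localization.AtPrime p.asIdeal) ⊗ₜ[R] v :=
  b.sum_equivFun _

/-- value of a functional lies in the span of the local coordinates -/
theorem map_functional_mem (l : E →ₗ[R] R) :
    algebraMap R (Localization.AtPrime p.asIdeal) (l v) ∈ Ideal.span (Set.range (coords p v b)) := by
  let l' : Localization.AtPrime p.asIdeal ⊗[R] E →ₗ[Localization.AtPrime p.asIdeal]
      Localization.AtPrime p.asIdeal :=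
    (TensorProduct.AlgebraTensorModule.rid R (Localization.AtPrime p.asIdeal)
      (Localization.AtPrime p.asIdeal)).toLinearMap ∘ₗ
      (l.baseChange (Localization.AtPrime p.asIdeal))
  have h1 : l' ((1 : Localization.AtPrime p.asIdeal) ⊗ₜ[R] v) =
      algebraMap R (Localization.AtPrime p.asIdeal) (l v) := by
    simp only [l', LinearMap.comp_apply, LinearMap.baseChange_tmul, LinearEquiv.coe_coe,
      TensorProduct.AlgebraTensorModule.rid_tmul]
    rw [Algebra.smul_def, mul_one]
  rw [← h1, ← sum_coords p v b, map_sum]
  refine Ideal.sum_mem _ fun i _ => ?_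
  rw [map_smul, smul_eq_mul]
  exact Ideal.mul_mem_right _ _ (Ideal.subset_span ⟨i, rfl⟩)

/-- each local coordinate lies in the extension of the order ideal -/
theorem coords_mem [Module.FinitePresentation R E] (i : Fin n) :
    coords p v b i ∈ Ideal.map (algebraMap R (Localization.AtPrime p.asIdeal))
      (Ideal.span (Set.range fun l : E →ₗ[R] R => l v)) := by
  let gi : E →ₗ[R] Localization.AtPrime p.asIdeal :=
    ((b.coord i).restrictScalars R) ∘ₗ (TensorProduct.mk R (Localization.AtPrime p.asIdeal) E 1)
  obtain ⟨h, s, hs⟩ := Module.FinitePresentation.exists_lift_of_isLocalizedModule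
    p.asIdeal.primeCompl (Algebra.linearMap R (Localization.AtPrime p.asIdeal)) gi
  have h1 : algebraMap R (Localization.AtPrime p.asIdeal) (h v) =
      algebraMap R (Localization.AtPrime p.asIdeal) s * coords p v b i := by
    have := LinearMap.congr_fun hs v
    simp only [LinearMap.comp_apply, Algebra.linearMap_apply, LinearMap.smul_apply] at this
    rw [this]
    change (s : R) • (b.coord i) ((1 : Localization.AtPrime p.asIdeal) ⊗ₜ[R] v) = _
    rw [Algebra.smul_def]
    rfl
  have hu : IsUnit (algebraMap R (Localization.AtPrime p.asIdeal) s) :=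
    IsLocalization.map_units _ s
  obtain ⟨u, hu'⟩ := hu.exists_left_inv
  have h2 : coords p v b i = u * algebraMap R (Localization.AtPrime p.asIdeal) (h v) := by
    rw [h1, ← mul_assoc, hu', one_mul]
  rw [h2]
  exact Ideal.mul_mem_left _ _ (Ideal.mem_map_of_mem _ (Ideal.subset_span ⟨h, rfl⟩))

end Order

theorem order_ideal {R : Type u} [CommRing R] {E : Type u} [AddCommGroup E] [Module R E]
    [Module.FinitePresentation R E] (v : E) (n : ℕ)
    (hb : ∀ p : PrimeSpectrum R, Nonempty (Module.Basis (Fin n) (Localization.AtPrime p.asIdeal)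
      (Localization.AtPrime p.asIdeal ⊗[R] E))) :
    (⋀[R]^n (E ⧸ Submodule.span R {v})).annihilator =
      Ideal.span (Set.range fun l : E →ₗ[R] R => l v) := by
  apply le_antisymm
  · intro r hr
    refine Ideal.mem_of_localization_maximal fun P hP => ?_
    let p : PrimeSpectrum R := ⟨P, hP.isPrime⟩
    obtain ⟨b⟩ := hb p
    have h1 : algebraMap R (Localization.AtPrime p.asIdeal) r ∈
        (⋀[Localization.AtPrime p.asIdeal]^n (Q (coords p v b))).annihilator := by
      rw [Submodule.mem_annihilator]
      intro y hy
      have h2 : ∀ x : Localization.AtPrime p.asIdeal ⊗[R]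
          ↥(⋀[R]^n (E ⧸ Submodule.span R {v})),
          algebraMap R (Localization.AtPrime p.asIdeal) r • x = 0 := by
        intro x
        induction x with
        | zero => simp
        | add x y hx hy => rw [smul_add, hx, hy, add_zero]
        | tmul s w =>
          rw [TensorProduct.smul_tmul', smul_eq_mul, ← Algebra.smul_def, TensorProduct.smul_tmul]
          have : r • w = 0 := by
            apply Subtype.ext
            exact (Submodule.mem_annihilator.1 hr) w.1 w.2
          rw [this, TensorProduct.tmul_zero]
      obtain ⟨x, hx⟩ := (eps p v b).surjective ⟨y, hy⟩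
      have h3 := congrArg (eps p v b) (h2 x)
      rw [map_smul, hx, map_zero] at h3
      exact congrArg Subtype.val h3
    rw [WedgeAnn.part1] at h1
    refine (Ideal.span_le.2 ?_) h1
    rintro _ ⟨i, rfl⟩
    exact coords_mem p v b i
  · rw [Ideal.span_le]
    rintro _ ⟨l, rfl⟩
    rw [SetLike.mem_coe, Submodule.mem_annihilator]
    intro w hw
    have key : (l v) • (⟨w, hw⟩ : ↥(⋀[R]^n (E ⧸ Submodule.span R {v}))) = 0 := by
      refine Module.eq_zero_of_localization_maximal
        (fun (P : Ideal R) [P.IsMaximal] =>
          Localization.AtPrime P ⊗[R] ↥(⋀[R]^n (E ⧸ Submodule.span R {v})))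
        (fun (P : Ideal R) [P.IsMaximal] => TensorProduct.mk R (Localization.AtPrime P) _ 1) _ ?_
      intro P hP
      let p : PrimeSpectrum R := ⟨P, hP.isPrime⟩
      obtain ⟨b⟩ := hb p
      change (1 : Localization.AtPrime p.asIdeal) ⊗ₜ[R] ((l v) • (⟨w, hw⟩ :
        ↥(⋀[R]^n (E ⧸ Submodule.span R {v})))) = 0
      apply (eps p v b).injective
      rw [map_zero, TensorProduct.tmul_smul, ← algebraMap_smul (Localization.AtPrime p.asIdeal) (l v),
        map_smul]
      have h1 := map_functional_mem p v b l
      rw [← WedgeAnn.part1, Submodule.mem_annihilator] at h1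
      apply Subtype.ext
      exact h1 _ (Subtype.property _)
    exact congrArg Subtype.val key

end Groth.Agent.Helper7.HypSm
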