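import Mathlib
import Groth.Agent.Helper7.HypSmE

set_option autoImplicit false
set_option linter.unusedSectionVars false
set_option linter.unusedVariables false

universe u

open TensorProduct KaehlerDifferential

namespace Groth.Agent.Helper7.HypSm

theorem functionals_range (A B R : Type u) [CommRing A] [CommRing B] [CommRing R]
    [Algebra A B] [Algebra B R] [Algebra A R] [IsScalarTower A B R]
    [Module.Projective B (Ω[B⁄A])]
    (g : B) (hsurj : Function.Surjective (algebraMap B R)) :
    (Set.range fun l : (R ⊗[B] Ω[B⁄A]) →ₗ[R] R => l (vv A B R g)) =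
      Set.range fun φ : Ω[B⁄A] →ₗ[B] B => algebraMap B R (φ (KaehlerDifferential.D A B g)) := by
  ext x
  constructor
  · rintro ⟨l, rfl⟩
    let ψ : Ω[B⁄A] →ₗ[B] R := (l.restrictScalars B) ∘ₗ (TensorProduct.mk B R (Ω[B⁄A]) 1)
    obtain ⟨φ, hφ⟩ := Module.projective_lifting_property (Algebra.linearMap B R) ψ hsurj
    refine ⟨φ, ?_⟩
    have := LinearMap.congr_fun hφ (KaehlerDifferential.D A B g)
    simp only [LinearMap.comp_apply, Algebra.linearMap_apply] at this
    change algebraMap B R (φ (KaehlerDifferential.D A B g)) = l (vv A B R g)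
    rw [this]
    rfl
  · rintro ⟨φ, rfl⟩
    refine ⟨(TensorProduct.AlgebraTensorModule.rid B R R).toLinearMap ∘ₗ (φ.baseChange R), ?_⟩
    simp only [vv, LinearMap.comp_apply, LinearMap.baseChange_tmul, LinearEquiv.coe_coe,
      TensorProduct.AlgebraTensorModule.rid_tmul]
    rw [Algebra.smul_def, mul_one]

theorem main2 (A B R : Type u) [CommRing A] [CommRing B] [CommRing R]
    [Algebra A B] [Algebra B R] [Algebra A R] [IsScalarTower A B R] [Algebra.Smooth A B] (n : ℕ)
    (hn : ∀ p : PrimeSpectrum B, Module.rankAtStalk (Ω[B⁄A]) p = n)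
    (g : B) (hsurj : Function.Surjective (algebraMap B R))
    (hker : RingHom.ker (algebraMap B R) = Ideal.span {g}) :
    (⋀[R]^n (Ω[R⁄A])).annihilator =
      Ideal.span (Set.range fun φ : Ω[B⁄A] →ₗ[B] B =>
        algebraMap B R (φ (KaehlerDifferential.D A B g))) := by
  haveI : Algebra.FiniteType A B := inferInstance
  haveI : Module.Finite B (Ω[B⁄A]) := inferInstance
  haveI : Module.Projective B (Ω[B⁄A]) := inferInstance
  haveI : Module.Finite R (R ⊗[B] Ω[B⁄A]) := inferInstance
  haveI : Module.Projective R (R ⊗[B] Ω[B⁄A]) := inferInstance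
  haveI : Module.FinitePresentation R (R ⊗[B] Ω[B⁄A]) :=
    Module.finitePresentation_of_projective R _
  have hb : ∀ p : PrimeSpectrum R, Nonempty (Module.Basis (Fin n) (Localization.AtPrime p.asIdeal)
      (Localization.AtPrime p.asIdeal ⊗[R] (R ⊗[B] Ω[B⁄A]))) := by
    intro p
    have hrank : Module.finrank (Localization.AtPrime p.asIdeal)
        (Localization.AtPrime p.asIdeal ⊗[R] (R ⊗[B] Ω[B⁄A])) = n := by
      rw [← Module.rankAtStalk_eq_finrank_tensorProduct, Module.rankAtStalk_baseChange, hn]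
    haveI : Module.Free (Localization.AtPrime p.asIdeal)
        (Localization.AtPrime p.asIdeal ⊗[R] (R ⊗[B] Ω[B⁄A])) :=
      Module.free_of_flat_of_isLocalRing
    exact ⟨Module.finBasisOfFinrankEq (Localization.AtPrime p.asIdeal)
      (Localization.AtPrime p.asIdeal ⊗[R] (R ⊗[B] Ω[B⁄A])) hrank⟩
  obtain ⟨eK⟩ := nonempty_kaehler_equiv (A := A) g hsurj hker
  have eW : (⋀[R]^n ((R ⊗[B] Ω[B⁄A]) ⧸ Submodule.span R {vv A B R g})) ≃ₗ[R] (⋀[R]^n (Ω[R⁄A])) :=
    LinearEquiv.ofLinear (exteriorPower.map n eK.toLinearMap)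
      (exteriorPower.map n eK.symm.toLinearMap)
      (by rw [← exteriorPower.map_comp, LinearEquiv.comp_symm, exteriorPower.map_id])
      (by rw [← exteriorPower.map_comp, LinearEquiv.symm_comp, exteriorPower.map_id])
  have hann : (⋀[R]^n (Ω[R⁄A])).annihilator =
      (⋀[R]^n ((R ⊗[B] Ω[B⁄A]) ⧸ Submodule.span R {vv A B R g})).annihilator :=
    (LinearEquiv.annihilator_eq eW).symm
  rw [hann, order_ideal (vv A B R g) n hb, functionals_range A B R g hsurj]

end Groth.Agent.Helper7.HypSm
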