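import Mathlib

set_option autoImplicit false
universe u v

namespace Groth.Agent.Helper7.HypSpan

open Finset

variable {R : Type u} {A : Type v} [CommRing R] [CommRing A] [Algebra R A] (g : ℕ)
  (xb yb zb : A)

/-- the generators -/
def gens : Set A := {a | ∃ i n : ℕ, i ≤ 2 * g ∧ (a = xb ^ i * yb ^ n ∨ a = xb ^ i * zb ^ n)}

variable (R) in
/-- the span -/
def S : Submodule R A := Submodule.span R (gens g xb yb zb)

lemma y_mem (i n : ℕ) (hi : i ≤ 2 * g) : xb ^ i * yb ^ n ∈ S R g xb yb zb :=
  Submodule.subset_span ⟨i, n, hi, Or.inl rfl⟩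

lemma z_mem (i n : ℕ) (hi : i ≤ 2 * g) : xb ^ i * zb ^ n ∈ S R g xb yb zb :=
  Submodule.subset_span ⟨i, n, hi, Or.inr rfl⟩

variable (P : Polynomial R) (hP : P.Monic) (hdeg : P.natDegree = 2 * g + 1)
  (h1 : yb ^ 2 = Polynomial.aeval xb P) (h2 : yb * zb = 1)

include hP hdeg h1 in
lemma xpow_top : xb ^ (2 * g + 1) = yb ^ 2 - ∑ j ∈ range (2 * g + 1), P.coeff j • xb ^ j := by
  have h := hP.as_sum
  rw [hdeg] at h
  have h' := congrArg (Polynomial.aeval xb) h
  simp only [map_add, map_pow, Polynomial.aeval_X, map_sum, map_mul, Polynomial.aeval_C] at h'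
  rw [h1, h']
  have : ∀ j, (algebraMap R A) (P.coeff j) * xb ^ j = P.coeff j • xb ^ j := fun j => by
    rw [Algebra.smul_def]
  simp only [this]
  abel

include hP hdeg h1 h2 in
lemma mul_x_mem : ∀ s ∈ S R g xb yb zb, s * xb ∈ S R g xb yb zb := by
  intro s hs
  induction hs using Submodule.span_induction with
  | mem a ha =>
    obtain ⟨i, n, hi, rfl | rfl⟩ := ha
    · by_cases h : i + 1 ≤ 2 * g
      · have : xb ^ i * yb ^ n * xb = xb ^ (i + 1) * yb ^ n := by ring
        rw [this]; exact y_mem g xb yb zb _ _ h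
      · have hi' : i = 2 * g := by omega
        subst hi'
        have : xb ^ (2 * g) * yb ^ n * xb = xb ^ (2 * g + 1) * yb ^ n := by ring
        rw [this, xpow_top g xb yb P hP hdeg h1, sub_mul, Finset.sum_mul]
        refine sub_mem ?_ (sum_mem fun j hj => ?_)
        · have : yb ^ 2 * yb ^ n = xb ^ 0 * yb ^ (n + 2) := by ring
          rw [this]; exact y_mem g xb yb zb _ _ (Nat.zero_le _)
        · rw [smul_mul_assoc]
          exact Submodule.smul_mem _ _ (y_mem g xb yb zb j n (by
            have := Finset.mem_range.mp hj; omega))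
    · by_cases h : i + 1 ≤ 2 * g
      · have : xb ^ i * zb ^ n * xb = xb ^ (i + 1) * zb ^ n := by ring
        rw [this]; exact z_mem g xb yb zb _ _ h
      · have hi' : i = 2 * g := by omega
        subst hi'
        have : xb ^ (2 * g) * zb ^ n * xb = xb ^ (2 * g + 1) * zb ^ n := by ring
        rw [this, xpow_top g xb yb P hP hdeg h1, sub_mul, Finset.sum_mul]
        refine sub_mem ?_ (sum_mem fun j hj => ?_)
        · rcases n with _ | _ | n
          · have : yb ^ 2 * zb ^ 0 = xb ^ 0 * yb ^ 2 := by ring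
            rw [this]; exact y_mem g xb yb zb _ _ (Nat.zero_le _)
          · have : yb ^ 2 * zb ^ (0 + 1) = xb ^ 0 * yb ^ 1 := by
              calc yb ^ 2 * zb ^ (0 + 1) = yb * (yb * zb) := by ring
                _ = xb ^ 0 * yb ^ 1 := by rw [h2]; ring
            rw [this]; exact y_mem g xb yb zb _ _ (Nat.zero_le _)
          · have : yb ^ 2 * zb ^ (n + 1 + 1) = xb ^ 0 * zb ^ n := by
              calc yb ^ 2 * zb ^ (n + 1 + 1) = (yb * zb) ^ 2 * zb ^ n := by ring
                _ = xb ^ 0 * zb ^ n := by rw [h2]; ring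
            rw [this]; exact z_mem g xb yb zb _ _ (Nat.zero_le _)
        · rw [smul_mul_assoc]
          exact Submodule.smul_mem _ _ (z_mem g xb yb zb j n (by
            have := Finset.mem_range.mp hj; omega))
  | zero => rw [zero_mul]; exact Submodule.zero_mem _
  | add a b _ _ ha hb => rw [add_mul]; exact Submodule.add_mem _ ha hb
  | smul r a _ ha => rw [smul_mul_assoc]; exact Submodule.smul_mem _ _ ha

include h2 in
lemma mul_y_mem : ∀ s ∈ S R g xb yb zb, s * yb ∈ S R g xb yb zb := by
  intro s hs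
  induction hs using Submodule.span_induction with
  | mem a ha =>
    obtain ⟨i, n, hi, rfl | rfl⟩ := ha
    · have : xb ^ i * yb ^ n * yb = xb ^ i * yb ^ (n + 1) := by ring
      rw [this]; exact y_mem g xb yb zb _ _ hi
    · rcases n with _ | n
      · have : xb ^ i * zb ^ 0 * yb = xb ^ i * yb ^ 1 := by ring
        rw [this]; exact y_mem g xb yb zb _ _ hi
      · have : xb ^ i * zb ^ (n + 1) * yb = xb ^ i * zb ^ n := by
          calc xb ^ i * zb ^ (n + 1) * yb = xb ^ i * zb ^ n * (yb * zb) := by ring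
            _ = xb ^ i * zb ^ n := by rw [h2, mul_one]
        rw [this]; exact z_mem g xb yb zb _ _ hi
  | zero => rw [zero_mul]; exact Submodule.zero_mem _
  | add a b _ _ ha hb => rw [add_mul]; exact Submodule.add_mem _ ha hb
  | smul r a _ ha => rw [smul_mul_assoc]; exact Submodule.smul_mem _ _ ha

include h2 in
lemma mul_z_mem : ∀ s ∈ S R g xb yb zb, s * zb ∈ S R g xb yb zb := by
  intro s hs
  induction hs using Submodule.span_induction with
  | mem a ha =>
    obtain ⟨i, n, hi, rfl | rfl⟩ := ha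
    · rcases n with _ | n
      · have : xb ^ i * yb ^ 0 * zb = xb ^ i * zb ^ 1 := by ring
        rw [this]; exact z_mem g xb yb zb _ _ hi
      · have : xb ^ i * yb ^ (n + 1) * zb = xb ^ i * yb ^ n := by
          calc xb ^ i * yb ^ (n + 1) * zb = xb ^ i * yb ^ n * (yb * zb) := by ring
            _ = xb ^ i * yb ^ n := by rw [h2, mul_one]
        rw [this]; exact y_mem g xb yb zb _ _ hi
    · have : xb ^ i * zb ^ n * zb = xb ^ i * zb ^ (n + 1) := by ring
      rw [this]; exact z_mem g xb yb zb _ _ hi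
  | zero => rw [zero_mul]; exact Submodule.zero_mem _
  | add a b _ _ ha hb => rw [add_mul]; exact Submodule.add_mem _ ha hb
  | smul r a _ ha => rw [smul_mul_assoc]; exact Submodule.smul_mem _ _ ha

open MvPolynomial in
theorem result (R : Type u) [CommRing R] (g : ℕ)
    (P : Polynomial R) (hP : P.Monic) (hdeg : P.natDegree = 2 * g + 1) :
    Submodule.span R {a : MvPolynomial (Fin 3) R ⧸
        Ideal.span ({X 1 ^ 2 - Polynomial.aeval (X 0 : MvPolynomial (Fin 3) R) P, X 1 * X 2 - 1} :
          Set (MvPolynomial (Fin 3) R)) |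
        ∃ i n : ℕ, i ≤ 2 * g ∧
          (a = Ideal.Quotient.mk _ (X 0 ^ i * X 1 ^ n) ∨ a = Ideal.Quotient.mk _ (X 0 ^ i * X 2 ^ n))} =
      ⊤ := by
  set I := Ideal.span ({X 1 ^ 2 - Polynomial.aeval (X 0 : MvPolynomial (Fin 3) R) P, X 1 * X 2 - 1} :
          Set (MvPolynomial (Fin 3) R)) with hI
  set xb : MvPolynomial (Fin 3) R ⧸ I := Ideal.Quotient.mk I (X 0) with hxb
  set yb : MvPolynomial (Fin 3) R ⧸ I := Ideal.Quotient.mk I (X 1) with hyb
  set zb : MvPolynomial (Fin 3) R ⧸ I := Ideal.Quotient.mk I (X 2) with hzb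
  have hset : {a : MvPolynomial (Fin 3) R ⧸ I |
        ∃ i n : ℕ, i ≤ 2 * g ∧
          (a = Ideal.Quotient.mk _ (X 0 ^ i * X 1 ^ n) ∨ a = Ideal.Quotient.mk _ (X 0 ^ i * X 2 ^ n))} =
      gens g xb yb zb := by
    ext a
    simp only [gens, Set.mem_setOf_eq, map_mul, map_pow, hxb, hyb, hzb]
  rw [hset]
  change S R g xb yb zb = ⊤
  have h1 : yb ^ 2 = Polynomial.aeval xb P := by
    have hmem : (X 1 ^ 2 - Polynomial.aeval (X 0 : MvPolynomial (Fin 3) R) P) ∈ I :=
      Ideal.subset_span (by simp)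
    have := Ideal.Quotient.eq.mpr hmem
    rw [map_pow] at this
    rw [hyb, this, hxb]
    have : (Ideal.Quotient.mk I) (Polynomial.aeval (X 0 : MvPolynomial (Fin 3) R) P) =
        (Ideal.Quotient.mkₐ R I) (Polynomial.aeval (X 0 : MvPolynomial (Fin 3) R) P) := rfl
    rw [this, ← Polynomial.aeval_algHom_apply]
    rfl
  have h2 : yb * zb = 1 := by
    have hmem : (X 1 * X 2 - 1 : MvPolynomial (Fin 3) R) ∈ I :=
      Ideal.subset_span (by simp)
    have := Ideal.Quotient.eq.mpr hmem
    rw [map_mul, map_one] at this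
    exact this
  have hone : (1 : MvPolynomial (Fin 3) R ⧸ I) ∈ S R g xb yb zb := by
    have := y_mem (R := R) g xb yb zb 0 0 (Nat.zero_le _)
    simpa using this
  rw [eq_top_iff]
  intro a _
  obtain ⟨p, rfl⟩ := Ideal.Quotient.mk_surjective a
  have key : ∀ p : MvPolynomial (Fin 3) R, (Ideal.Quotient.mk I) p ∈ S R g xb yb zb := by
    intro p
    induction p using MvPolynomial.induction_on with
    | C r =>
      have : (Ideal.Quotient.mk I) (C r) = r • (1 : MvPolynomial (Fin 3) R ⧸ I) := by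
        rw [Algebra.smul_def (A := MvPolynomial (Fin 3) R ⧸ I), mul_one]; rfl
      rw [this]
      exact Submodule.smul_mem _ _ hone
    | add p q hp hq => rw [map_add]; exact Submodule.add_mem _ hp hq
    | mul_X p i hp =>
      rw [map_mul]
      fin_cases i
      · exact mul_x_mem g xb yb zb P hP hdeg h1 h2 _ hp
      · exact mul_y_mem g xb yb zb h2 _ hp
      · exact mul_z_mem g xb yb zb h2 _ hp
  exact key p

end Groth.Agent.Helper7.HypSpan
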