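import Mathlib

set_option autoImplicit false
universe u

namespace Groth.Agent.Helper7.ImgProj
open TensorProduct

theorem result (B : Type u) [CommRing B] [IsNoetherianRing B] (K K' : Type u) [AddCommGroup K]
    [Module B K] [Module.Finite B K] [Module.Flat B K] [AddCommGroup K'] [Module B K']
    [Module.Finite B K'] [Module.Flat B K'] (φ : K →ₗ[B] K')
    (hc : Module.Projective B (K' ⧸ LinearMap.range φ)) :
    Module.Projective B ↥(LinearMap.range φ) ∧
      ∀ (B' : Type u) [CommRing B'] [Algebra B B'],
        Function.Injective ((LinearMap.range φ).subtype.baseChange B') ∧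
        LinearMap.range ((LinearMap.range φ).subtype.baseChange B')
          = LinearMap.range (φ.baseChange B') := by
  haveI : Module.FinitePresentation B K' := Module.finitePresentation_of_finite B K'
  haveI : Module.Projective B K' := Module.Flat.projective_of_finitePresentation
  -- section of the quotient map
  obtain ⟨s, hs⟩ := Module.projective_lifting_property (LinearMap.range φ).mkQ LinearMap.id
    (Submodule.mkQ_surjective _)
  -- retraction onto the range
  have hmem : ∀ x : K', x - s ((LinearMap.range φ).mkQ x) ∈ LinearMap.range φ := by
    intro x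
    rw [← Submodule.Quotient.mk_eq_zero, Submodule.Quotient.mk_sub]
    have := LinearMap.congr_fun hs ((LinearMap.range φ).mkQ x)
    simp only [LinearMap.comp_apply, LinearMap.id_apply, Submodule.mkQ_apply] at this
    rw [Submodule.mkQ_apply, this, sub_self]
  let r : K' →ₗ[B] LinearMap.range φ :=
    (LinearMap.id - s ∘ₗ (LinearMap.range φ).mkQ).codRestrict (LinearMap.range φ) hmem
  have hr : r ∘ₗ (LinearMap.range φ).subtype = LinearMap.id := by
    ext ⟨x, hx⟩
    simp only [LinearMap.comp_apply, Submodule.subtype_apply, LinearMap.id_apply, r,
      LinearMap.codRestrict_apply, LinearMap.sub_apply, Submodule.mkQ_apply]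
    rw [(Submodule.Quotient.mk_eq_zero _).mpr hx, map_zero, sub_zero]
  refine ⟨Module.Projective.of_split (LinearMap.range φ).subtype r hr, ?_⟩
  intro B' _ _
  constructor
  · have hl : Function.LeftInverse (r.baseChange B') ((LinearMap.range φ).subtype.baseChange B') := by
      intro z
      rw [← LinearMap.comp_apply, ← LinearMap.baseChange_comp, hr, LinearMap.baseChange_id,
        LinearMap.id_apply]
    exact hl.injective
  · have hfac : φ = (LinearMap.range φ).subtype ∘ₗ φ.rangeRestrict := by
      ext x; rfl
    have hsurj : Function.Surjective (φ.rangeRestrict.baseChange B') :=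
      LinearMap.lTensor_surjective _ (LinearMap.surjective_rangeRestrict φ)
    conv_rhs => rw [hfac, LinearMap.baseChange_comp, LinearMap.range_comp,
      LinearMap.range_eq_top.mpr hsurj, Submodule.map_top]

end Groth.Agent.Helper7.ImgProj
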