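import Mathlib
import Groth.Agent.S2465

set_option linter.style.haveILetI false
set_option linter.unusedSectionVars false
set_option autoImplicit false

universe u

namespace Groth.Agent.Helper7.ImpBasis

open EGA41 KaehlerDifferential TensorProduct Groth.Agent.Helper1.PBasis

section partIII

variable (p : ℕ) [hp : Fact p.Prime] {A B : Type u} [CommRing A] [CommRing B] [Algebra A B]
  [CharP B p]
  (hinj : Function.Injective (algebraMap A B))
  (hpow : ∀ b : B, b ^ p ∈ Set.range (algebraMap A B))
  {Λ : Type u} (x : Λ → B) (hx : IsPBasis p A x) (x' : Λ → A)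
  (hx' : ∀ i, algebraMap A B (x' i) = x i ^ p)

/-- the candidate family `1 ⊗ d x'_λ` -/
noncomputable def fam (i : Λ) : B ⊗[A] Ω[A⁄ℤ] := (1 : B) ⊗ₜ[A] D ℤ A (x' i)

include hinj in
theorem natCast_eq_zero : (p : A) = 0 := by
  apply hinj
  rw [map_natCast, map_zero]
  exact CharP.cast_eq_zero B p

include hx' in
theorem fam_mem (i : Λ) : fam (B := B) x' i ∈ imperfection ℤ A B := by
  unfold imperfection fam
  rw [LinearMap.mem_ker, KaehlerDifferential.mapBaseChange_tmul, one_smul,
    KaehlerDifferential.map_D, hx', Derivation.leibniz_pow, ← Nat.cast_smul_eq_nsmul B,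
    CharP.cast_eq_zero, zero_smul]

/-- the span of the candidate family -/
noncomputable def Nsub : Submodule B (B ⊗[A] Ω[A⁄ℤ]) := Submodule.span B (Set.range (fam (B := B) x'))

/-- the derivation `A → (B ⊗ Ω_A)/N` -/
noncomputable def D0 : Derivation ℤ A ((B ⊗[A] Ω[A⁄ℤ]) ⧸ Nsub (B := B) x') :=
  (((Nsub (B := B) x').mkQ.restrictScalars A).comp (TensorProduct.mk A B Ω[A⁄ℤ] 1)).compDer (D ℤ A)

theorem D0_apply (a : A) :
    D0 (B := B) x' a = (Nsub (B := B) x').mkQ ((1 : B) ⊗ₜ[A] D ℤ A a) := rfl

theorem D0_x' (i : Λ) : D0 (B := B) x' (x' i) = 0 := by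
  rw [D0_apply, Submodule.mkQ_apply, Submodule.Quotient.mk_eq_zero]
  exact Submodule.subset_span ⟨i, rfl⟩

include hinj in
theorem D0_pow (a : A) : D0 (B := B) x' (a ^ p) = 0 := by
  rw [Derivation.leibniz_pow, ← Nat.cast_smul_eq_nsmul A, natCast_eq_zero p hinj, zero_smul]

include hinj hpow hx hx' in
theorem exists_D0_eq_zero (b : B) : ∃ a : A, D0 (B := B) x' a = 0 ∧ algebraMap A B a = b ^ p := by
  have hb : b ∈ Algebra.adjoin (pPowerSubalgebra p A B) (Set.range x) := by
    rw [adjoin_eq_top p x hx.2]; trivial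
  induction hb using Algebra.adjoin_induction with
  | mem y hy =>
    obtain ⟨i, rfl⟩ := hy
    exact ⟨x' i, D0_x' x' i, hx' i⟩
  | algebraMap c =>
    obtain ⟨a₀, ha₀⟩ := (mem_pPower_iff p hpow c.1).1 c.2
    refine ⟨a₀ ^ p, D0_pow p hinj x' a₀, ?_⟩
    rw [map_pow, ha₀]
    rfl
  | add y z _ _ hy hz =>
    obtain ⟨a, ha, ha'⟩ := hy
    obtain ⟨a₂, ha₂, ha₂'⟩ := hz
    refine ⟨a + a₂, by rw [map_add, ha, ha₂, add_zero], ?_⟩
    rw [map_add, ha', ha₂', add_pow_char]
  | mul y z _ _ hy hz =>
    obtain ⟨a, ha, ha'⟩ := hy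
    obtain ⟨a₂, ha₂, ha₂'⟩ := hz
    refine ⟨a * a₂, by rw [Derivation.leibniz, ha, ha₂, smul_zero, smul_zero, add_zero], ?_⟩
    rw [map_mul, ha', ha₂', mul_pow]

include hinj hpow hx hx' in
theorem imperfection_le : imperfection ℤ A B ≤ Nsub (B := B) x' := by
  have hcond : ∀ (a : A) (b : B), algebraMap A B a = b ^ p → D0 (B := B) x' a = 0 := by
    intro a b hab
    obtain ⟨a', h1, h2⟩ := exists_D0_eq_zero p hinj hpow x hx x' hx' b
    have : a = a' := hinj (hab.trans h2.symm)
    rw [this, h1]
  obtain ⟨D', ⟨hD', -⟩, -⟩ := (Groth.Agent.S2465.result p hinj hpow x hx _ (D0 (B := B) x')).2 hcond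
    (fun _ => 0)
  have key0 : ∀ (w : Ω[A⁄ℤ]) (b : B),
      D'.liftKaehlerDifferential (mapBaseChange ℤ A B (b ⊗ₜ[A] w)) =
        (Nsub (B := B) x').mkQ (b ⊗ₜ[A] w) := by
    intro w
    have hw : w ∈ Submodule.span A (Set.range (D ℤ A)) := by
      rw [span_range_derivation]; trivial
    induction hw using Submodule.span_induction with
    | mem w hw =>
      obtain ⟨a, rfl⟩ := hw
      intro b
      rw [KaehlerDifferential.mapBaseChange_tmul, KaehlerDifferential.map_D, map_smul,
        Derivation.liftKaehlerDifferential_comp_D, hD', D0_apply, ← map_smul, smul_tmul',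
        smul_eq_mul, mul_one]
    | zero => intro b; simp
    | add u v _ _ hu hv =>
      intro b
      rw [tmul_add, map_add, map_add, map_add, hu, hv]
    | smul c u _ hu =>
      intro b
      rw [tmul_smul, smul_tmul', hu]
  have key : ∀ ω : B ⊗[A] Ω[A⁄ℤ],
      D'.liftKaehlerDifferential (mapBaseChange ℤ A B ω) = (Nsub (B := B) x').mkQ ω := by
    intro ω
    induction ω using TensorProduct.induction_on with
    | zero => simp
    | add u v hu hv => rw [map_add, map_add, map_add, hu, hv]
    | tmul b w => exact key0 w b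
  intro ω hω
  have h1 : (Nsub (B := B) x').mkQ ω = 0 := by
    rw [← key]
    unfold imperfection at hω
    rw [LinearMap.mem_ker] at hω
    rw [hω, map_zero]
  rwa [Submodule.mkQ_apply, Submodule.Quotient.mk_eq_zero] at h1

end partIII

section partI

variable (p : ℕ) [hp : Fact p.Prime] {R A B : Type u} [CommRing R] [CommRing A] [CommRing B]
  [IsReduced B] [Algebra R A] [Algebra A B] [Algebra R B] [IsScalarTower R A B] [CharP B p]
  (hinj : Function.Injective (algebraMap A B))
  (hpow : ∀ b : B, b ^ p ∈ Set.range (algebraMap A B))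
  (hR : Set.range (algebraMap R B) = Set.range fun b : B => b ^ p)

include hR in
theorem exists_root (c : A) (hc : c ∈ pPowerSubalgebra p R A) :
    ∃ b : B, b ^ p = algebraMap A B c := by
  unfold pPowerSubalgebra at hc
  induction hc using Algebra.adjoin_induction with
  | mem y hy =>
    obtain ⟨a, rfl⟩ := hy
    exact ⟨algebraMap A B a, by rw [map_pow]⟩
  | algebraMap r =>
    have : algebraMap R B r ∈ Set.range fun b : B => b ^ p := by
      rw [← hR]; exact ⟨r, rfl⟩
    obtain ⟨b, hb⟩ := this
    exact ⟨b, by rw [← IsScalarTower.algebraMap_apply]; exact hb⟩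
  | add y z _ _ hy hz =>
    obtain ⟨b, hb⟩ := hy
    obtain ⟨b', hb'⟩ := hz
    exact ⟨b + b', by rw [add_pow_char, hb, hb', map_add]⟩
  | mul y z _ _ hy hz =>
    obtain ⟨b, hb⟩ := hy
    obtain ⟨b', hb'⟩ := hz
    exact ⟨b * b', by rw [mul_pow, hb, hb', map_mul]⟩

theorem pow_inj {b b' : B} (h : b ^ p = b' ^ p) : b = b' := frobenius_inj B p h

/-- the `p`-th root map `R[A^p] → B` -/
noncomputable def rhoFun (c : pPowerSubalgebra p R A) : B :=
  Classical.choose (exists_root p hR c.1 c.2)

theorem rhoFun_pow (c : pPowerSubalgebra p R A) :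
    rhoFun p hR c ^ p = algebraMap A B (c : A) :=
  Classical.choose_spec (exists_root p hR c.1 c.2)

theorem rhoFun_eq (c : pPowerSubalgebra p R A) (b : B) (h : b ^ p = algebraMap A B (c : A)) :
    rhoFun p hR c = b :=
  pow_inj p ((rhoFun_pow p hR c).trans h.symm)

/-- the `p`-th root map `R[A^p] → B` as a ring homomorphism -/
noncomputable def rho : pPowerSubalgebra p R A →+* B where
  toFun := rhoFun p hR
  map_one' := rhoFun_eq p hR _ _ (by simp)
  map_mul' c c' := rhoFun_eq p hR _ _ (by
    rw [mul_pow, rhoFun_pow, rhoFun_pow]; simp)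
  map_zero' := rhoFun_eq p hR _ _ (by simp [zero_pow hp.out.ne_zero])
  map_add' c c' := rhoFun_eq p hR _ _ (by
    rw [add_pow_char, rhoFun_pow, rhoFun_pow]; simp)

theorem rho_pow (c : pPowerSubalgebra p R A) : rho p hR c ^ p = algebraMap A B (c : A) :=
  rhoFun_pow p hR c

theorem rho_eq (c : pPowerSubalgebra p R A) (b : B) (h : b ^ p = algebraMap A B (c : A)) :
    rho p hR c = b := rhoFun_eq p hR c b h

theorem smul_def' (c : pPowerSubalgebra p R A) (b : B) : c • b = algebraMap A B (c : A) * b := by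
  rw [Algebra.smul_def]
  rfl

/-- the Frobenius twist of a derivation `P` of `B`, as a derivation of `R[A^p]` into `B` -/
noncomputable def twistDer (P : Derivation ℤ B B) : Derivation ℤ (pPowerSubalgebra p R A) B :=
  Derivation.mk'
    (AddMonoidHom.toIntLinearMap
      { toFun := fun c => P (rho p hR c) ^ p
        map_zero' := by simp [zero_pow hp.out.ne_zero]
        map_add' := fun c c' => by rw [map_add, map_add, add_pow_char] })
    (fun c c' => by
      change P (rho p hR (c * c')) ^ p = c • P (rho p hR c') ^ p + c' • P (rho p hR c) ^ p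
      rw [map_mul, Derivation.leibniz, add_pow_char, smul_eq_mul, smul_eq_mul, mul_pow, mul_pow,
        rho_pow, rho_pow, smul_def', smul_def'])

theorem twistDer_apply (P : Derivation ℤ B B) (c : pPowerSubalgebra p R A) :
    twistDer p hR P c = P (rho p hR c) ^ p := rfl


variable {Λ M : Type u} (x : Λ → B) (hx : IsPBasis p A x) (x' : Λ → A)
  (hx' : ∀ i, algebraMap A B (x' i) = x i ^ p) (y : M → A) (hy : IsPBasis p R y)

include hinj hR hx' in
theorem x'_mem (i : Λ) : x' i ∈ pPowerSubalgebra p R A := by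
  have : x i ^ p ∈ Set.range (algebraMap R B) := by rw [hR]; exact ⟨x i, rfl⟩
  obtain ⟨r, hr⟩ := this
  have h : x' i = algebraMap R A r := by
    apply hinj
    rw [hx', ← IsScalarTower.algebraMap_apply, hr]
  rw [h]
  exact Subalgebra.algebraMap_mem _ r

include hinj hR hx hx' hy in
open Classical in
theorem exists_partial (l : Λ) :
    ∃ d : Derivation ℤ A B, ∀ k, d (x' k) = if k = l then 1 else 0 := by
  -- the twisted derivation
  let P : Derivation ℤ B B := (partialD p A x hx l).restrictScalars ℤ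
  have hP : ∀ b, P b = partialD p A x hx l b := fun _ => rfl
  let δ := twistDer (R := R) (A := A) p hR P
  let z : M → TwD (B := B) δ := fun m => TwD.mk δ (algebraMap A B (y m)) 0
  have hz : ∀ m, z m ^ p = algebraMap (pPowerSubalgebra p R A) (TwD (B := B) δ) (cpow p R y m) := by
    intro m
    rw [TwD.algebraMap_apply]
    apply TwD.ext
    · rw [TwD.fst_pow, TwD.fst_mk, TwD.fst_mk]
      change algebraMap A B (y m) ^ p = algebraMap A B (y m ^ p)
      rw [map_pow]
    · rw [TwD.snd_pow, TwD.snd_mk, TwD.snd_mk, smul_zero, smul_zero]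
      have h1 : rho p hR (cpow p R y m) = algebraMap A B (y m) :=
        rho_eq p hR _ _ (by rw [← map_pow]; rfl)
      change (0 : B) = P (rho p hR (cpow p R y m)) ^ p
      rw [h1, hP, Derivation.map_algebraMap, zero_pow hp.out.ne_zero]
  let w := liftAlg p R y hy z hz
  have hw : ∀ m, w (y m) = z m := liftAlg_apply p R y hy z hz
  -- first component of `w`
  have hfst : ∀ a : A, (w a).fst = algebraMap A B a := by
    let F : A →ₐ[pPowerSubalgebra p R A] B := (TwD.fstHom δ).comp w
    let G : A →ₐ[pPowerSubalgebra p R A] B := IsScalarTower.toAlgHom (pPowerSubalgebra p R A) A B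
    have hFG : F = G := by
      apply algHom_ext p R y hy.2
      intro m
      change (w (y m)).fst = algebraMap A B (y m)
      rw [hw, TwD.fst_mk]
    intro a
    exact AlgHom.congr_fun hFG a
  refine ⟨Derivation.mk'
    (AddMonoidHom.toIntLinearMap
      { toFun := fun a => (w a).snd
        map_zero' := by rw [map_zero, TwD.snd_zero]
        map_add' := fun a a' => by rw [map_add, TwD.snd_add] })
    (fun a a' => by
      change (w (a * a')).snd = a • (w a').snd + a' • (w a).snd
      rw [map_mul, TwD.snd_mul, hfst, hfst, smul_eq_mul, smul_eq_mul, Algebra.smul_def,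
        Algebra.smul_def]), ?_⟩
  intro k
  change (w (x' k)).snd = _
  have h1 : x' k = algebraMap (pPowerSubalgebra p R A) A ⟨x' k, x'_mem p hinj hR x x' hx' k⟩ := rfl
  rw [h1, AlgHom.commutes, TwD.algebraMap_apply, TwD.snd_mk]
  change P (rho p hR _) ^ p = _
  have h2 : rho p hR ⟨x' k, x'_mem p hinj hR x x' hx' k⟩ = x k :=
    rho_eq p hR _ _ (hx' k).symm
  rw [h2, hP, partialD_x]
  split_ifs
  · exact one_pow p
  · exact zero_pow hp.out.ne_zero

end partI

section final

variable (p : ℕ) [hp : Fact p.Prime] {R A B : Type u} [CommRing R] [CommRing A] [CommRing B]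
  [IsReduced B] [Algebra R A] [Algebra A B] [Algebra R B] [IsScalarTower R A B] [CharP B p]
  (hinj : Function.Injective (algebraMap A B))
  (hpow : ∀ b : B, b ^ p ∈ Set.range (algebraMap A B))
  (hR : Set.range (algebraMap R B) = Set.range fun b : B => b ^ p)
  {Λ M : Type u} (x : Λ → B) (hx : IsPBasis p A x) (x' : Λ → A)
  (hx' : ∀ i, algebraMap A B (x' i) = x i ^ p) (y : M → A) (hy : IsPBasis p R y)

include hinj hR hx hx' hy in
theorem linearIndependent_fam : LinearIndependent B (fam (B := B) x') := by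
  classical
  rw [linearIndependent_iff']
  intro s g hg l hl
  obtain ⟨d, hd⟩ := exists_partial p hinj hR x hx x' hx' y hy l
  let ℓ : B ⊗[A] Ω[A⁄ℤ] →ₗ[B] B := LinearMap.liftBaseChange B d.liftKaehlerDifferential
  have hℓ : ∀ k, ℓ (fam (B := B) x' k) = if k = l then 1 else 0 := by
    intro k
    unfold fam
    rw [LinearMap.liftBaseChange_tmul, one_smul, Derivation.liftKaehlerDifferential_comp_D, hd]
  have := congrArg ℓ hg
  rw [map_sum, map_zero] at this
  simp only [map_smul, hℓ, smul_eq_mul, mul_ite, mul_one, mul_zero] at this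
  rw [Finset.sum_ite_eq' s l, if_pos hl] at this
  exact this

include hinj hpow hR hx hx' hy in
theorem main :
    ∃ b : Module.Basis Λ B (imperfection ℤ A B),
      ∀ i, (b i : B ⊗[A] Ω[A⁄ℤ]) = (1 : B) ⊗ₜ[A] KaehlerDifferential.D ℤ A (x' i) := by
  let v : Λ → imperfection ℤ A B := fun i => ⟨fam (B := B) x' i, fam_mem p x x' hx' i⟩
  have hli : LinearIndependent B v := by
    apply LinearIndependent.of_comp (imperfection ℤ A B).subtype
    exact linearIndependent_fam p hinj hR x hx x' hx' y hy
  have hsp : ⊤ ≤ Submodule.span B (Set.range v) := by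
    intro ω _
    have h1 : (ω : B ⊗[A] Ω[A⁄ℤ]) ∈ Nsub (B := B) x' :=
      imperfection_le p hinj hpow x hx x' hx' ω.2
    have h2 : Nsub (B := B) x' = (Submodule.span B (Set.range v)).map (imperfection ℤ A B).subtype := by
      rw [Submodule.map_span, ← Set.range_comp]
      rfl
    rw [h2] at h1
    obtain ⟨ω', hω', hω''⟩ := h1
    have : ω' = ω := Subtype.ext hω''
    rwa [this] at hω'
  refine ⟨Module.Basis.mk hli hsp, fun i => ?_⟩
  rw [Module.Basis.mk_apply]
  rfl

end final

end Groth.Agent.Helper7.ImpBasis
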