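import Mathlib
import Groth.Prelude.Def_EGA41

set_option linter.style.haveILetI false
set_option linter.unusedSectionVars false

/-!
# Diagram chases with imperfection modules
-/

namespace Groth.Agent.Helper7.Imperf

universe u₁ u₂ u₃ w
open TensorProduct KaehlerDifferential

section ind

theorem kaehler_induction {R : Type u₁} {S : Type w} [CommRing R] [CommRing S] [Algebra R S]
    {P : Ω[S⁄R] → Prop} (h0 : P 0) (hadd : ∀ x y, P x → P y → P (x + y))
    (hD : ∀ a b : S, P (a • D R S b)) (ω : Ω[S⁄R]) : P ω := by
  have h : ω ∈ Submodule.span S (Set.range (D R S)) := by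
    rw [span_range_derivation]; trivial
  obtain ⟨c, rfl⟩ := Finsupp.mem_span_range_iff_exists_finsupp.mp h
  unfold Finsupp.sum
  refine Finset.sum_induction _ P hadd h0 ?_
  intro i _
  exact hD _ _

theorem rank_restrict {F : Type w} [Field F] {E E' : Type w} [AddCommGroup E] [Module F E]
    [AddCommGroup E'] [Module F E'] (f : E →ₗ[F] E') (U W : Submodule F E) (V : Submodule F E')
    (hWU : W ≤ U) (hrange : ∀ y, y ∈ V ↔ ∃ x ∈ U, f x = y) (hker : ∀ x ∈ U, f x = 0 ↔ x ∈ W) :
    Module.rank F U = Module.rank F V + Module.rank F W := by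
  let φ : U →ₗ[F] E' := f.domRestrict U
  have hr : LinearMap.range φ = V := by
    ext y
    rw [hrange y]
    constructor
    · rintro ⟨⟨x, hx⟩, rfl⟩
      exact ⟨x, hx, rfl⟩
    · rintro ⟨x, hx, rfl⟩
      exact ⟨⟨x, hx⟩, rfl⟩
  have hk : LinearMap.ker φ = Submodule.comap U.subtype W := by
    ext ⟨x, hx⟩
    simp only [LinearMap.mem_ker, Submodule.mem_comap, Submodule.subtype_apply, φ,
      LinearMap.domRestrict_apply]
    exact hker x hx
  have h1 := LinearMap.rank_range_add_rank_ker φ
  rw [hk, hr, (Submodule.comapSubtypeEquivOfLe hWU).rank_eq] at h1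
  exact h1.symm

end ind

section tower

variable {R : Type u₁} {R' : Type u₂} {S T : Type w} [CommRing R] [CommRing R'] [CommRing S]
  [CommRing T] [Algebra R R'] [Algebra R S] [Algebra R' S] [IsScalarTower R R' S]
  [Algebra S T] [Algebra R T] [Algebra R' T] [IsScalarTower R S T] [IsScalarTower R' S T]

/-- the change of base map `T ⊗ Ω[S/R] → T ⊗ Ω[S/R']` -/
noncomputable abbrev bc : T ⊗[S] Ω[S⁄R] →ₗ[T] T ⊗[S] Ω[S⁄R'] :=
  (KaehlerDifferential.map R R' S S).baseChange T

theorem bc_surjective : Function.Surjective (bc (R := R) (R' := R') (S := S) (T := T)) :=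
  LinearMap.lTensor_surjective T (KaehlerDifferential.map_surjective R R' S)

/-- naturality: `Ω[T/R] → Ω[T/R']` after `T ⊗ Ω[S/R] → Ω[T/R]` -/
theorem map_mapBaseChange [IsScalarTower R R' T] (z : T ⊗[S] Ω[S⁄R]) :
    KaehlerDifferential.map R R' T T (mapBaseChange R S T z) =
      mapBaseChange R' S T (bc (R := R) (R' := R') z) := by
  induction z with
  | zero => simp
  | tmul t ω =>
    rw [mapBaseChange_tmul, map_smul, LinearMap.baseChange_tmul, mapBaseChange_tmul]
    congr 1
    have h : ω ∈ Submodule.span S (Set.range (D R S)) := by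
      rw [span_range_derivation]; trivial
    induction h using Submodule.span_induction with
    | mem x hx =>
      obtain ⟨a, rfl⟩ := hx
      simp [KaehlerDifferential.map_D]
    | zero => simp
    | add x y _ _ hx hy => simp only [map_add, hx, hy]
    | smul a x _ hx =>
      rw [map_smul (KaehlerDifferential.map R R S T), map_smul (KaehlerDifferential.map R R' S S),
        map_smul (KaehlerDifferential.map R' R' S T), ← hx,
        ← algebraMap_smul T a (KaehlerDifferential.map R R S T x), map_smul, algebraMap_smul]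
  | add x y hx hy => simp only [map_add, hx, hy]

/-- elements of `T ⊗ Ω[R'/R]` can be moved to `T ⊗ Ω[S/R]` -/
theorem exists_transfer [IsScalarTower R R' T] (y : T ⊗[R'] Ω[R'⁄R]) :
    ∃ z : T ⊗[S] Ω[S⁄R], mapBaseChange R S T z = mapBaseChange R R' T y ∧
      bc (R := R) (R' := R') z = 0 := by
  induction y with
  | zero => exact ⟨0, by simp, by simp⟩
  | tmul t ω =>
    refine ⟨t ⊗ₜ KaehlerDifferential.map R R R' S ω, ?_, ?_⟩
    · rw [mapBaseChange_tmul, mapBaseChange_tmul]
      congr 1
      refine kaehler_induction (P := fun ω => KaehlerDifferential.map R R S T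
        (KaehlerDifferential.map R R R' S ω) = KaehlerDifferential.map R R R' T ω)
        (by simp) (fun x y hx hy => by simp only [map_add, hx, hy]) (fun a b => ?_) ω
      rw [map_smul (KaehlerDifferential.map R R R' S), map_smul (KaehlerDifferential.map R R R' T),
        KaehlerDifferential.map_D, KaehlerDifferential.map_D,
        ← algebraMap_smul S a (D R S ((algebraMap R' S) b)),
        map_smul (KaehlerDifferential.map R R S T), KaehlerDifferential.map_D,
        ← IsScalarTower.algebraMap_apply, ← algebraMap_smul T (algebraMap R' S a),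
        ← IsScalarTower.algebraMap_apply, algebraMap_smul]
    · rw [LinearMap.baseChange_tmul]
      have h0 : KaehlerDifferential.map R R' S S (KaehlerDifferential.map R R R' S ω) = 0 := by
        refine kaehler_induction (P := fun ω => KaehlerDifferential.map R R' S S
          (KaehlerDifferential.map R R R' S ω) = 0)
          (by simp) (fun x y hx hy => by simp only [map_add, hx, hy, add_zero]) (fun a b => ?_) ω
        rw [map_smul (KaehlerDifferential.map R R R' S), KaehlerDifferential.map_D,
          ← algebraMap_smul S a (D R S ((algebraMap R' S) b)),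
          map_smul (KaehlerDifferential.map R R' S S), KaehlerDifferential.map_D,
          Algebra.algebraMap_self, RingHom.id_apply, Derivation.map_algebraMap, smul_zero]
      rw [h0, tmul_zero]
  | add y₁ y₂ h₁ h₂ =>
    obtain ⟨z₁, h11, h12⟩ := h₁
    obtain ⟨z₂, h21, h22⟩ := h₂
    exact ⟨z₁ + z₂, by rw [map_add, map_add, h11, h21], by rw [map_add, h12, h22, add_zero]⟩

end tower

section three

variable {k : Type u₁} {k' : Type u₂} {k'' : Type u₃} {K L : Type w}
    [Field k] [Field k'] [Field k''] [Field K] [Field L]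
    [Algebra k k'] [Algebra k k''] [Algebra k' k''] [IsScalarTower k k' k'']
    [Algebra k K] [Algebra k' K] [Algebra k'' K] [IsScalarTower k k' K] [IsScalarTower k' k'' K]
    [IsScalarTower k k'' K] [Algebra K L] [Algebra k L] [Algebra k' L] [Algebra k'' L]
    [IsScalarTower k K L] [IsScalarTower k' K L] [IsScalarTower k'' K L]

theorem map_map (ω : Ω[K⁄k]) : KaehlerDifferential.map k' k'' K K (KaehlerDifferential.map k k' K K ω) =
    KaehlerDifferential.map k k'' K K ω := by
  refine kaehler_induction (P := fun ω => KaehlerDifferential.map k' k'' K K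
    (KaehlerDifferential.map k k' K K ω) = KaehlerDifferential.map k k'' K K ω)
    (by simp) (fun x y hx hy => by simp only [map_add, hx, hy]) (fun a b => ?_) ω
  simp only [map_smul, KaehlerDifferential.map_D, Algebra.algebraMap_self, RingHom.id_apply]

theorem bc_bc (z : L ⊗[K] Ω[K⁄k]) :
    bc (R := k') (R' := k'') (S := K) (T := L) (bc (R := k) (R' := k') z) =
      bc (R := k) (R' := k'') z := by
  induction z with
  | zero => simp
  | tmul t ω => simp only [LinearMap.baseChange_tmul, map_map]
  | add x y hx hy => simp only [map_add, hx, hy]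

include K in
theorem isScalarTower_kk'L : IsScalarTower k k' L := by
  refine IsScalarTower.of_algebraMap_eq fun x => ?_
  rw [IsScalarTower.algebraMap_apply k K L, IsScalarTower.algebraMap_apply k k' K,
    ← IsScalarTower.algebraMap_apply k' K L]

theorem s5836_surj (w : L ⊗[K] Ω[K⁄k']) (hw : w ∈ EGA41.imperfection k' K L)
    (hw2 : bc (R := k') (R' := k'') (S := K) (T := L) w = 0) :
    ∃ z : L ⊗[K] Ω[K⁄k], z ∈ EGA41.imperfection k K L ∧
      bc (R := k) (R' := k'') (S := K) (T := L) z = 0 ∧ bc (R := k) (R' := k') z = w := by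
  haveI : IsScalarTower k k' L := isScalarTower_kk'L (K := K)
  obtain ⟨z₀, hz₀⟩ := bc_surjective (R := k) (R' := k') (S := K) (T := L) w
  have h1 : KaehlerDifferential.map k k' L L (mapBaseChange k K L z₀) = 0 := by
    rw [map_mapBaseChange, hz₀]
    exact hw
  obtain ⟨y, hy⟩ := (KaehlerDifferential.exact_mapBaseChange_map k k' L _).mp h1
  obtain ⟨z₁, hz₁, hz₁'⟩ := exists_transfer (R := k) (R' := k') (S := K) (T := L) y
  refine ⟨z₀ - z₁, ?_, ?_, ?_⟩
  · change mapBaseChange k K L (z₀ - z₁) = 0
    rw [map_sub, hz₁, hy, sub_self]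
  · rw [← bc_bc (k' := k'), map_sub, hz₁', sub_zero, hz₀, hw2]
  · rw [map_sub, hz₁', sub_zero, hz₀]

theorem s5836_rank :
    Module.rank L ↥(EGA41.imperfection k K L ⊓
          LinearMap.ker (bc (R := k) (R' := k'') (S := K) (T := L))) =
      Module.rank L ↥(EGA41.imperfection k' K L ⊓
            LinearMap.ker (bc (R := k') (R' := k'') (S := K) (T := L))) +
        Module.rank L ↥(EGA41.imperfection k K L ⊓
            LinearMap.ker (bc (R := k) (R' := k') (S := K) (T := L))) := by
  haveI : IsScalarTower k k' L := isScalarTower_kk'L (K := K)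
  refine rank_restrict (bc (R := k) (R' := k') (S := K) (T := L)) _ _ _ ?_ ?_ ?_
  · intro x hx
    refine ⟨hx.1, ?_⟩
    change bc (R := k) (R' := k'') x = 0
    have h2 : bc (R := k) (R' := k') x = 0 := hx.2
    rw [← bc_bc (k' := k'), h2, map_zero]
  · intro w
    constructor
    · intro hw
      obtain ⟨z, hz1, hz2, hz3⟩ := s5836_surj (k := k) w hw.1 hw.2
      exact ⟨z, ⟨hz1, hz2⟩, hz3⟩
    · rintro ⟨x, hx, rfl⟩
      refine ⟨?_, ?_⟩
      · change mapBaseChange k' K L (bc (R := k) (R' := k') x) = 0
        rw [← map_mapBaseChange]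
        have : mapBaseChange k K L x = 0 := hx.1
        rw [this, map_zero]
      · change bc (R := k') (R' := k'') (bc (R := k) (R' := k') x) = 0
        rw [bc_bc]
        exact hx.2
  · intro x hx
    constructor
    · intro h
      exact ⟨hx.1, h⟩
    · intro h
      exact h.2

end three

end Groth.Agent.Helper7.Imperf
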