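import Mathlib
import Groth.Agent.Helper7.Imperf1

set_option linter.style.haveILetI false
set_option linter.unusedSectionVars false

/-!
# The transfer maps between base changes of modules of differentials
-/

namespace Groth.Agent.Helper7.Imperf

universe u₁ u₂ u₃ u₄ w
open TensorProduct KaehlerDifferential

section lin

variable {L M : Type w} [Field L] [Field M] [Algebra L M] {X Y Z : Type w} [AddCommGroup X]
  [Module L X] [AddCommGroup Y] [Module L Y] [AddCommGroup Z] [Module L Z]

theorem rank_ker_baseChange (G : X →ₗ[L] Y) :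
    Module.rank M (LinearMap.ker (G.baseChange M)) = Module.rank L (LinearMap.ker G) := by
  have hex : Function.Exact (LinearMap.ker G).subtype G := LinearMap.exact_subtype_ker_map G
  have hex2 : Function.Exact ((LinearMap.ker G).subtype.baseChange M) (G.baseChange M) := by
    have := Module.Flat.lTensor_exact M hex
    intro z
    exact this z
  have hinj : Function.Injective ((LinearMap.ker G).subtype.baseChange M) := by
    have := Module.Flat.lTensor_preserves_injective_linearMap (M := M) (LinearMap.ker G).subtype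
      (Submodule.injective_subtype _)
    intro a b hab
    exact this hab
  rw [hex2.linearMap_ker_eq, rank_range_of_injective _ hinj, Module.rank_baseChange,
    Cardinal.lift_id]

theorem mem_ker_prod_baseChange (g : X →ₗ[L] Y) (h : X →ₗ[L] Z) (x : M ⊗[L] X) :
    x ∈ LinearMap.ker ((g.prod h).baseChange M) ↔
      g.baseChange M x = 0 ∧ h.baseChange M x = 0 := by
  have h1 : g = LinearMap.fst L Y Z ∘ₗ g.prod h := by ext; simp
  have h2 : h = LinearMap.snd L Y Z ∘ₗ g.prod h := by ext; simp
  rw [LinearMap.mem_ker]
  constructor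
  · intro hx
    constructor
    · conv_lhs => rw [h1, LinearMap.baseChange_comp, LinearMap.comp_apply, hx, map_zero]
    · conv_lhs => rw [h2, LinearMap.baseChange_comp, LinearMap.comp_apply, hx, map_zero]
  · rintro ⟨hg, hh⟩
    have h3 : (LinearMap.id : Y × Z →ₗ[L] Y × Z) =
        LinearMap.inl L Y Z ∘ₗ LinearMap.fst L Y Z + LinearMap.inr L Y Z ∘ₗ LinearMap.snd L Y Z := by
      ext <;> simp
    have h4 : ((g.prod h).baseChange M) x =
        (LinearMap.id : Y × Z →ₗ[L] Y × Z).baseChange M (((g.prod h).baseChange M) x) := by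
      rw [LinearMap.baseChange_id, LinearMap.id_apply]
    rw [h4, h3, LinearMap.baseChange_add, LinearMap.add_apply, LinearMap.baseChange_comp,
      LinearMap.baseChange_comp, LinearMap.comp_apply, LinearMap.comp_apply,
      ← LinearMap.comp_apply (LinearMap.baseChange M (LinearMap.fst L Y Z)),
      ← LinearMap.baseChange_comp, ← h1, hg,
      ← LinearMap.comp_apply (LinearMap.baseChange M (LinearMap.snd L Y Z)),
      ← LinearMap.baseChange_comp, ← h2, hh, map_zero, map_zero, add_zero]

end lin

section trans

variable (R : Type u₁) (R' : Type u₂) (S : Type u₃) (T : Type u₄) [CommRing R] [CommRing R']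
  [CommRing S] [CommRing T] [Algebra R R'] [Algebra R S] [Algebra R' S] [IsScalarTower R R' S]
  [Algebra S T] [Algebra R T] [Algebra R' T] [IsScalarTower R S T] [IsScalarTower R' S T]

/-- the transfer map `T ⊗ Ω[R'/R] → T ⊗ Ω[S/R]` -/
noncomputable def trans : T ⊗[R'] Ω[R'⁄R] →ₗ[T] T ⊗[S] Ω[S⁄R] :=
  (mapBaseChange R R' S).baseChange T ∘ₗ
    (TensorProduct.AlgebraTensorModule.cancelBaseChange R' S T T Ω[R'⁄R]).symm.toLinearMap

theorem trans_tmul (t : T) (ω : Ω[R'⁄R]) :
    trans R R' S T (t ⊗ₜ ω) = t ⊗ₜ KaehlerDifferential.map R R R' S ω := by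
  unfold trans
  rw [LinearMap.comp_apply, LinearEquiv.coe_coe,
    TensorProduct.AlgebraTensorModule.cancelBaseChange_symm_tmul, LinearMap.baseChange_tmul,
    mapBaseChange_tmul, one_smul]

theorem exact_trans_bc : Function.Exact (trans R R' S T)
    ((KaehlerDifferential.map R R' S S).baseChange T) := by
  have h1 : Function.Exact ((mapBaseChange R R' S).baseChange T)
      ((KaehlerDifferential.map R R' S S).baseChange T) :=
    lTensor_exact T (KaehlerDifferential.exact_mapBaseChange_map R R' S)
      (KaehlerDifferential.map_surjective R R' S)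
  intro z
  rw [h1 z]
  constructor
  · rintro ⟨y, rfl⟩
    refine ⟨TensorProduct.AlgebraTensorModule.cancelBaseChange R' S T T Ω[R'⁄R] y, ?_⟩
    unfold trans
    rw [LinearMap.comp_apply, LinearEquiv.coe_coe, LinearEquiv.symm_apply_apply]
  · rintro ⟨y, rfl⟩
    exact ⟨_, rfl⟩

theorem map_map_top [IsScalarTower R R' T] (ω : Ω[R'⁄R]) :
    KaehlerDifferential.map R R S T (KaehlerDifferential.map R R R' S ω) =
      KaehlerDifferential.map R R R' T ω := by
  refine kaehler_induction (P := fun ω => KaehlerDifferential.map R R S T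
    (KaehlerDifferential.map R R R' S ω) = KaehlerDifferential.map R R R' T ω)
    (by simp) (fun x y hx hy => by simp only [map_add, hx, hy]) (fun a b => ?_) ω
  rw [map_smul (KaehlerDifferential.map R R R' S), map_smul (KaehlerDifferential.map R R R' T),
    KaehlerDifferential.map_D, KaehlerDifferential.map_D,
    ← algebraMap_smul S a (D R S ((algebraMap R' S) b)),
    map_smul (KaehlerDifferential.map R R S T), KaehlerDifferential.map_D,
    ← IsScalarTower.algebraMap_apply, ← algebraMap_smul T (algebraMap R' S a),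
    ← IsScalarTower.algebraMap_apply, algebraMap_smul]

theorem mapBaseChange_trans [IsScalarTower R R' T] (y : T ⊗[R'] Ω[R'⁄R]) :
    mapBaseChange R S T (trans R R' S T y) = mapBaseChange R R' T y := by
  induction y with
  | zero => simp
  | tmul t ω => rw [trans_tmul, mapBaseChange_tmul, mapBaseChange_tmul, map_map_top]
  | add y₁ y₂ h₁ h₂ => simp only [map_add, h₁, h₂]

end trans

section trans2

variable (R : Type u₁) (R' : Type u₂) (S S' T : Type w) [CommRing R] [CommRing R']
  [CommRing S] [CommRing S'] [CommRing T] [Algebra R R'] [Algebra R S] [Algebra R' S]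
  [IsScalarTower R R' S] [Algebra S S'] [Algebra R S'] [Algebra R' S'] [IsScalarTower R S S']
  [IsScalarTower R' S S'] [Algebra S' T] [Algebra S T] [IsScalarTower S S' T]
  [Algebra R T] [Algebra R' T] [IsScalarTower R S T] [IsScalarTower R' S T]
  [IsScalarTower R S' T] [IsScalarTower R' S' T] [IsScalarTower R R' S']

theorem trans_trans (y : T ⊗[R'] Ω[R'⁄R]) :
    trans R S S' T (trans R R' S T y) = trans R R' S' T y := by
  induction y with
  | zero => simp
  | tmul t ω => rw [trans_tmul, trans_tmul, trans_tmul, map_map_top]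
  | add y₁ y₂ h₁ h₂ => simp only [map_add, h₁, h₂]

theorem bc_trans (x : T ⊗[S] Ω[S⁄R]) :
    (KaehlerDifferential.map R R' S' S').baseChange T (trans R S S' T x) =
      trans R' S S' T ((KaehlerDifferential.map R R' S S).baseChange T x) := by
  induction x with
  | zero => simp
  | tmul t ω =>
    rw [trans_tmul, LinearMap.baseChange_tmul, LinearMap.baseChange_tmul, trans_tmul]
    congr 1
    refine kaehler_induction (P := fun ω => KaehlerDifferential.map R R' S' S'
      (KaehlerDifferential.map R R S S' ω) = KaehlerDifferential.map R' R' S S'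
        (KaehlerDifferential.map R R' S S ω))
      (by simp) (fun x y hx hy => by simp only [map_add, hx, hy]) (fun a b => ?_) ω
    rw [map_smul (KaehlerDifferential.map R R S S'), map_smul (KaehlerDifferential.map R R' S S),
      map_smul (KaehlerDifferential.map R' R' S S'), KaehlerDifferential.map_D,
      KaehlerDifferential.map_D, KaehlerDifferential.map_D,
      ← algebraMap_smul S' a (D R S' ((algebraMap S S') b)),
      map_smul (KaehlerDifferential.map R R' S' S'), KaehlerDifferential.map_D,
      Algebra.algebraMap_self, RingHom.id_apply, Algebra.algebraMap_self, RingHom.id_apply,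
      algebraMap_smul]
  | add y₁ y₂ h₁ h₂ => simp only [map_add, h₁, h₂]

theorem bc_cancel (x₀ : T ⊗[S'] (S' ⊗[S] Ω[S⁄R])) :
    (KaehlerDifferential.map R R' S S).baseChange T
        (TensorProduct.AlgebraTensorModule.cancelBaseChange S S' T T Ω[S⁄R] x₀) =
      TensorProduct.AlgebraTensorModule.cancelBaseChange S S' T T Ω[S⁄R']
        ((((KaehlerDifferential.map R R' S S).baseChange S').baseChange T) x₀) := by
  induction x₀ with
  | zero => simp
  | tmul t y =>
    induction y with
    | zero => simp
    | tmul s' ω =>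
      rw [TensorProduct.AlgebraTensorModule.cancelBaseChange_tmul, LinearMap.baseChange_tmul,
        LinearMap.baseChange_tmul, LinearMap.baseChange_tmul,
        TensorProduct.AlgebraTensorModule.cancelBaseChange_tmul]
    | add y₁ y₂ h₁ h₂ => simp only [tmul_add, map_add, h₁, h₂]
  | add y₁ y₂ h₁ h₂ => simp only [map_add, h₁, h₂]

theorem trans_cancel (x₀ : T ⊗[S'] (S' ⊗[S] Ω[S⁄R])) :
    trans R S S' T (TensorProduct.AlgebraTensorModule.cancelBaseChange S S' T T Ω[S⁄R] x₀) =
      (mapBaseChange R S S').baseChange T x₀ := by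
  unfold trans
  rw [LinearMap.comp_apply, LinearEquiv.coe_coe, LinearEquiv.symm_apply_apply]

end trans2

section s5837

variable {k₀ : Type u₁} {k : Type u₂} {K L M : Type w}
    [Field k₀] [Field k] [Field K] [Field L] [Field M] [Algebra k₀ k]
    [Algebra k₀ K] [Algebra k K] [IsScalarTower k₀ k K] [Algebra k₀ L] [Algebra k L] [IsScalarTower k₀ k L]
    [Algebra K L] [Algebra K M] [Algebra L M] [IsScalarTower K L M]
    [Algebra k₀ M] [Algebra k M] [IsScalarTower k₀ K L] [IsScalarTower k K L]
    [IsScalarTower k₀ K M] [IsScalarTower k K M] [IsScalarTower k₀ L M] [IsScalarTower k L M]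

theorem s5837 :
    Module.rank M ↥(EGA41.imperfection k₀ K M ⊓
          LinearMap.ker ((KaehlerDifferential.map k₀ k K K).baseChange M)) =
      Module.rank M ↥(EGA41.imperfection k₀ L M ⊓
            LinearMap.ker ((KaehlerDifferential.map k₀ k L L).baseChange M)) +
        Module.rank L ↥(EGA41.imperfection k₀ K L ⊓
            LinearMap.ker ((KaehlerDifferential.map k₀ k K K).baseChange L)) := by
  haveI : IsScalarTower k₀ k M := by
    refine IsScalarTower.of_algebraMap_eq fun x => ?_
    rw [IsScalarTower.algebraMap_apply k₀ K M, IsScalarTower.algebraMap_apply k₀ k K,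
      ← IsScalarTower.algebraMap_apply k K M]
  let g : L ⊗[K] Ω[K⁄k₀] →ₗ[L] Ω[L⁄k₀] := mapBaseChange k₀ K L
  let h : L ⊗[K] Ω[K⁄k₀] →ₗ[L] L ⊗[K] Ω[K⁄k] := (KaehlerDifferential.map k₀ k K K).baseChange L
  let G := g.prod h
  let e := TensorProduct.AlgebraTensorModule.cancelBaseChange K L M M Ω[K⁄k₀]
  let e' := TensorProduct.AlgebraTensorModule.cancelBaseChange K L M M Ω[K⁄k]
  let W : Submodule M (M ⊗[K] Ω[K⁄k₀]) := (LinearMap.ker (G.baseChange M)).map e.toLinearMap
  have hΔ : EGA41.imperfection k₀ K L ⊓
      LinearMap.ker ((KaehlerDifferential.map k₀ k K K).baseChange L) = LinearMap.ker G := by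
    rw [LinearMap.ker_prod]
    rfl
  have hrankW : Module.rank M W = Module.rank L (LinearMap.ker G) := by
    rw [← rank_ker_baseChange (M := M) G]
    exact (e.submoduleMap (LinearMap.ker (G.baseChange M))).rank_eq.symm
  rw [hΔ, ← hrankW]
  refine rank_restrict (trans k₀ K L M) _ W _ ?_ ?_ ?_
  · rintro _ ⟨x₀, hx₀, rfl⟩
    obtain ⟨hg, hh⟩ := (mem_ker_prod_baseChange g h x₀).mp hx₀
    refine ⟨?_, ?_⟩
    · change mapBaseChange k₀ K M (e x₀) = 0
      rw [← mapBaseChange_trans k₀ K L M, trans_cancel]
      change mapBaseChange k₀ L M (g.baseChange M x₀) = 0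
      rw [hg, map_zero]
    · change (KaehlerDifferential.map k₀ k K K).baseChange M (e x₀) = 0
      rw [bc_cancel]
      change e' (h.baseChange M x₀) = 0
      rw [hh, map_zero]
  · intro y
    constructor
    · intro hy
      obtain ⟨y₀, hy₀⟩ := (exact_trans_bc k₀ k L M y).mp hy.2
      refine ⟨trans k₀ k K M y₀, ⟨?_, ?_⟩, ?_⟩
      · change mapBaseChange k₀ K M (trans k₀ k K M y₀) = 0
        rw [← mapBaseChange_trans k₀ K L M, trans_trans, hy₀]
        exact hy.1
      · exact (exact_trans_bc k₀ k K M _).mpr ⟨y₀, rfl⟩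
      · rw [trans_trans, hy₀]
    · rintro ⟨x, hx, rfl⟩
      refine ⟨?_, ?_⟩
      · change mapBaseChange k₀ L M (trans k₀ K L M x) = 0
        rw [mapBaseChange_trans]
        exact hx.1
      · change (KaehlerDifferential.map k₀ k L L).baseChange M (trans k₀ K L M x) = 0
        rw [bc_trans]
        have : (KaehlerDifferential.map k₀ k K K).baseChange M x = 0 := hx.2
        rw [this, map_zero]
  · intro x hx
    obtain ⟨x₀, rfl⟩ := e.surjective x
    rw [trans_cancel]
    constructor
    · intro hg
      refine ⟨x₀, ?_, rfl⟩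
      refine (mem_ker_prod_baseChange g h x₀).mpr ⟨hg, ?_⟩
      have h2 : (KaehlerDifferential.map k₀ k K K).baseChange M (e x₀) = 0 := hx.2
      rw [bc_cancel] at h2
      exact e'.injective (h2.trans (map_zero _).symm)
    · rintro ⟨x₁, hx₁, hx₁e⟩
      have : x₁ = x₀ := e.injective hx₁e
      subst this
      exact ((mem_ker_prod_baseChange g h x₁).mp hx₁).1

end s5837

end Groth.Agent.Helper7.Imperf
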