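import Mathlib
import Groth.Agent.Helper7.Imperf2
import Groth.Agent.Helper1.FieldSmooth7

set_option linter.style.haveILetI false
set_option linter.unusedSectionVars false

/-!
# Admissibility criteria for imperfection modules
-/

namespace Groth.Agent.Helper7.Imperf

universe v w
open TensorProduct KaehlerDifferential

section transport

variable {k : Type v} {L : Type w} [Field k] [Field L] [Algebra k L]

/-- separable (geometrically reduced) field extensions are formally smooth, in any universes -/
theorem formallySmooth_of_isGeometricallyReduced (h : Algebra.IsGeometricallyReduced k L) :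
    Algebra.FormallySmooth k L := by
  let k₁ : Subfield L := (algebraMap k L).fieldRange
  let e : k ≃+* k₁ := (algebraMap k L).rangeRestrictFieldEquiv
  letI : Algebra k k₁ := e.toRingHom.toAlgebra
  haveI : IsScalarTower k k₁ L := IsScalarTower.of_algebraMap_eq fun x => rfl
  -- `k₁` is formally smooth over `k`
  haveI : Algebra.FormallySmooth k k₁ :=
    Algebra.FormallySmooth.of_equiv
      ({ e with commutes' := fun x => rfl } : k ≃ₐ[k] k₁)
  -- `L` is geometrically reduced over `k₁`
  let Ωb := AlgebraicClosure k₁
  haveI : Algebra.IsAlgebraic k Ωb := by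
    refine ⟨fun x => ?_⟩
    obtain ⟨P, hP0, hP⟩ := (Algebra.IsAlgebraic.isAlgebraic (R := k₁) x)
    refine ⟨P.map e.symm.toRingHom, ?_, ?_⟩
    · rwa [Ne, Polynomial.map_eq_zero_iff e.symm.injective]
    · rw [Polynomial.aeval_def, Polynomial.eval₂_map]
      have : (algebraMap k Ωb).comp e.symm.toRingHom = algebraMap k₁ Ωb := by
        ext y
        change algebraMap k Ωb (e.symm y) = _
        rw [IsScalarTower.algebraMap_apply k k₁ Ωb]
        congr 1
        exact e.apply_symm_apply y
      rw [this]
      exact hP
  haveI : IsReduced (Ωb ⊗[k] L) := inferInstance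
  haveI : TensorProduct.CompatibleSMul k k₁ Ωb L := ⟨fun s a b => by
    obtain ⟨y, rfl⟩ := e.surjective s
    have h1 : (e y) • a = y • a := by
      rw [← algebraMap_smul k₁ y a]
      rfl
    have h2 : (e y) • b = y • b := by
      rw [← algebraMap_smul k₁ y b]
      rfl
    rw [h1, h2, TensorProduct.smul_tmul]⟩
  let φ : Ωb ⊗[k₁] L →ₐ[k₁] Ωb ⊗[k] L := Algebra.TensorProduct.mapOfCompatibleSMul k k₁ k₁ Ωb L
  let ψ : Ωb ⊗[k] L →ₐ[k₁] Ωb ⊗[k₁] L := Algebra.TensorProduct.mapOfCompatibleSMul k₁ k k₁ Ωb L
  have hψφ : ∀ x, ψ (φ x) = x := by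
    intro x
    induction x with
    | zero => simp
    | tmul a b => rfl
    | add x y hx hy => rw [map_add, map_add, hx, hy]
  haveI : IsReduced (Ωb ⊗[k₁] L) :=
    isReduced_of_injective φ (Function.LeftInverse.injective hψφ)
  haveI : Algebra.IsGeometricallyReduced k₁ L :=
    (Algebra.isGeometricallyReduced_field_iff k₁ L).mpr inferInstance
  haveI : Algebra.FormallySmooth k₁ L :=
    Groth.Agent.Helper1.FieldSmooth.formallySmooth_iff_isGeometricallyReduced.mpr inferInstance
  exact Algebra.FormallySmooth.comp k k₁ L

end transport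

section main

variable {k : Type v} {k₀ K L : Type w}
    [Field k₀] [Field k] [Field K] [Field L] [Algebra k₀ k] [Algebra k₀ K] [Algebra k₀ L] [Algebra k K]
    [Algebra k L] [Algebra K L] [IsScalarTower k₀ k K] [IsScalarTower k₀ k L] [IsScalarTower k₀ K L]
    [IsScalarTower k K L]

/-- if `L ⊗ Ω[k/k₀] → Ω[L/k₀]` is injective then `k` is admissible -/
theorem admissible_of_injective
    (hinj : Function.Injective (mapBaseChange k₀ k L)) (z : L ⊗[K] Ω[K⁄k₀])
    (hz : z ∈ EGA41.imperfection k₀ K L)
    (hz2 : (KaehlerDifferential.map k₀ k K K).baseChange L z = 0) : z = 0 := by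
  obtain ⟨y, rfl⟩ := (exact_trans_bc k₀ k K L z).mp hz2
  have h1 : mapBaseChange k₀ K L (trans k₀ k K L y) = 0 := hz
  rw [mapBaseChange_trans] at h1
  rw [hinj (h1.trans (map_zero _).symm), map_zero]

theorem injective_mapBaseChange_of_formallySmooth {R : Type w} {S : Type v} {T : Type w}
    [CommRing R] [CommRing S] [CommRing T]
    [Algebra R S] [Algebra S T] [Algebra R T] [IsScalarTower R S T] [Algebra.FormallySmooth S T] :
    Function.Injective (mapBaseChange R S T) := by
  haveI : Subsingleton (Algebra.H1Cotangent S T) := Algebra.FormallySmooth.subsingleton_h1Cotangent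
  have hex := Algebra.H1Cotangent.exact_δ_mapBaseChange R S T
  rw [← LinearMap.ker_eq_bot, hex.linearMap_ker_eq, LinearMap.range_eq_bot]
  exact Subsingleton.elim _ _

theorem s5835 (p : ℕ) [ExpChar K p]
    (h : Algebra.IsGeometricallyReduced k L ∨ Algebra.IsGeometricallyReduced K L ∨
      ∀ x : k, algebraMap k K x ∈ EGA41.pPowerSubalgebra p k₀ K) :
    ∀ z : L ⊗[K] Ω[K⁄k₀], z ∈ EGA41.imperfection k₀ K L →
      (KaehlerDifferential.map k₀ k K K).baseChange L z = 0 → z = 0 := by
  have case2 : Algebra.FormallySmooth K L → ∀ z : L ⊗[K] Ω[K⁄k₀], z ∈ EGA41.imperfection k₀ K L →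
      (KaehlerDifferential.map k₀ k K K).baseChange L z = 0 → z = 0 := by
    intro hfs z hz _
    have hinj : Function.Injective (mapBaseChange k₀ K L) :=
      injective_mapBaseChange_of_formallySmooth
    exact hinj ((show mapBaseChange k₀ K L z = 0 from hz).trans (map_zero _).symm)
  rcases h with h1 | h2 | h3
  · haveI := formallySmooth_of_isGeometricallyReduced h1
    intro z hz hz2
    exact admissible_of_injective injective_mapBaseChange_of_formallySmooth z hz hz2
  · exact case2 (formallySmooth_of_isGeometricallyReduced h2)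
  · rcases ‹ExpChar K p› with _ | ⟨hp⟩
    · haveI : Algebra.FormallySmooth K L :=
        Groth.Agent.Helper1.FieldSmooth.formallySmooth_of_charZero
      exact case2 inferInstance
    · -- characteristic `p`: the differentials of elements of `k₀(K^p)` vanish
      have hD : ∀ y ∈ EGA41.pPowerSubalgebra p k₀ K, D k₀ K y = 0 := by
        intro y hy
        unfold EGA41.pPowerSubalgebra at hy
        induction hy using Algebra.adjoin_induction with
        | mem x hx =>
          obtain ⟨b, rfl⟩ := hx
          rw [Derivation.leibniz_pow, ← Nat.cast_smul_eq_nsmul K p, CharP.cast_eq_zero K p, zero_smul]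
        | algebraMap r => exact Derivation.map_algebraMap _ r
        | add x y _ _ hx hy => rw [map_add, hx, hy, add_zero]
        | mul x y _ _ hx hy => rw [Derivation.leibniz, hx, hy, smul_zero, smul_zero, add_zero]
      have hmap : ∀ ω : Ω[k⁄k₀], KaehlerDifferential.map k₀ k₀ k K ω = 0 := by
        intro ω
        refine kaehler_induction (P := fun ω => KaehlerDifferential.map k₀ k₀ k K ω = 0)
          (by simp) (fun x y hx hy => by rw [map_add, hx, hy, add_zero]) (fun a b => ?_) ω
        rw [map_smul, KaehlerDifferential.map_D, hD _ (h3 b), smul_zero]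
      have htrans : ∀ y : L ⊗[k] Ω[k⁄k₀], trans k₀ k K L y = 0 := by
        intro y
        induction y with
        | zero => simp
        | tmul t ω => rw [trans_tmul, hmap, tmul_zero]
        | add y₁ y₂ h₁ h₂ => rw [map_add, h₁, h₂, add_zero]
      intro z _ hz2
      obtain ⟨y, rfl⟩ := (exact_trans_bc k₀ k K L z).mp hz2
      exact htrans y

end main

end Groth.Agent.Helper7.Imperf
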