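import Mathlib
import Groth.Agent.Helper7.RingPB

/-! Ideals meeting in zero, after base change. -/

universe u v w

open TensorProduct

namespace Groth.Agent.Helper7.InfBC

open Groth.Agent.Helper7.RingPB Groth.Agent.Helper7.FlatMilnor2

lemma map_idR_eq_lTensor {R : Type*} [CommRing R] {R' : Type*} [CommRing R'] [Algebra R R']
    {X Y : Type*} [CommRing X] [CommRing Y] [Algebra R X] [Algebra R Y] (h : X →ₐ[R] Y)
    (z : R' ⊗[R] X) :
    Algebra.TensorProduct.map (AlgHom.id R R') h z = LinearMap.lTensor R' h.toLinearMap z := by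
  induction z with
  | zero => rw [map_zero, map_zero]
  | add x y hx hy => rw [map_add, map_add, hx, hy]
  | tmul r x => simp

lemma lTensor_mk_eq_zero {R : Type*} [CommRing R] {R' : Type*} [CommRing R'] [Algebra R R']
    {A : Type*} [CommRing A] [Algebra R A] (I : Ideal A) (z : R' ⊗[R] A)
    (hz : z ∈ I.map (Algebra.TensorProduct.includeRight : A →ₐ[R] R' ⊗[R] A)) :
    LinearMap.lTensor R' (Ideal.Quotient.mkₐ R I).toLinearMap z = 0 := by
  rw [← map_idR_eq_lTensor]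
  have hle : I.map (Algebra.TensorProduct.includeRight : A →ₐ[R] R' ⊗[R] A) ≤
      RingHom.ker (Algebra.TensorProduct.map (AlgHom.id R R') (Ideal.Quotient.mkₐ R I)) := by
    rw [Ideal.map_le_iff_le_comap]
    intro i hi
    rw [Ideal.mem_comap, RingHom.mem_ker]
    show Algebra.TensorProduct.map (AlgHom.id R R') (Ideal.Quotient.mkₐ R I)
      ((1 : R') ⊗ₜ[R] i) = 0
    rw [Algebra.TensorProduct.map_tmul, Ideal.Quotient.mkₐ_eq_mk,
      Ideal.Quotient.eq_zero_iff_mem.2 hi, TensorProduct.tmul_zero]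
  exact hle hz

theorem map_inf_map_eq_bot (R : Type u) (A : Type v)
    [CommRing R] [CommRing A] [Algebra R A] (I J : Ideal A) (hIJ : I ⊓ J = ⊥)
    [Module.Flat R (A ⧸ (I ⊔ J))] (R' : Type w) [CommRing R'] [Algebra R R'] :
    I.map (Algebra.TensorProduct.includeRight : A →ₐ[R] R' ⊗[R] A) ⊓
      J.map (Algebra.TensorProduct.includeRight : A →ₐ[R] R' ⊗[R] A) = ⊥ := by
  set mkI : A →ₗ[R] A ⧸ I := (Ideal.Quotient.mkₐ R I).toLinearMap with hmkI
  set mkJ : A →ₗ[R] A ⧸ J := (Ideal.Quotient.mkₐ R J).toLinearMap with hmkJ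
  set ι : A →ₗ[R] (A ⧸ I) × (A ⧸ J) := LinearMap.prod mkI mkJ with hι
  set fI : A ⧸ I →ₗ[R] A ⧸ (I ⊔ J) := (Ideal.Quotient.factorₐ R (le_sup_left : I ≤ I ⊔ J)).toLinearMap
    with hfI
  set fJ : A ⧸ J →ₗ[R] A ⧸ (I ⊔ J) := (Ideal.Quotient.factorₐ R (le_sup_right : J ≤ I ⊔ J)).toLinearMap
    with hfJ
  set δ : (A ⧸ I) × (A ⧸ J) →ₗ[R] A ⧸ (I ⊔ J) := LinearMap.coprod fI (-fJ) with hδ
  have hδapp : ∀ a b : A, δ (Ideal.Quotient.mk I a, Ideal.Quotient.mk J b) =
      Ideal.Quotient.mk (I ⊔ J) (a - b) := by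
    intro a b
    simp [hδ, hfI, hfJ, sub_eq_add_neg]
  have hιinj : Function.Injective ι := by
    rw [injective_iff_map_eq_zero]
    intro a ha
    have h1 : Ideal.Quotient.mk I a = 0 := congrArg Prod.fst ha
    have h2 : Ideal.Quotient.mk J a = 0 := congrArg Prod.snd ha
    have : a ∈ I ⊓ J := ⟨Ideal.Quotient.eq_zero_iff_mem.1 h1, Ideal.Quotient.eq_zero_iff_mem.1 h2⟩
    rw [hIJ] at this
    exact this
  have hδsurj : Function.Surjective δ := by
    intro y
    obtain ⟨a, rfl⟩ := Ideal.Quotient.mk_surjective y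
    refine ⟨(Ideal.Quotient.mk I a, Ideal.Quotient.mk J 0), ?_⟩
    rw [hδapp, sub_zero]
  have hex : Function.Exact ι δ := by
    rintro ⟨x, y⟩
    obtain ⟨a, rfl⟩ := Ideal.Quotient.mk_surjective x
    obtain ⟨b, rfl⟩ := Ideal.Quotient.mk_surjective y
    constructor
    · intro h
      rw [hδapp, Ideal.Quotient.eq_zero_iff_mem, Submodule.mem_sup] at h
      obtain ⟨i, hi, j, hj, hij⟩ := h
      refine ⟨a - i, ?_⟩
      show (Ideal.Quotient.mk I (a - i), Ideal.Quotient.mk J (a - i)) = _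
      refine Prod.ext ?_ ?_
      · show Ideal.Quotient.mk I (a - i) = Ideal.Quotient.mk I a
        rw [map_sub, Ideal.Quotient.eq_zero_iff_mem.2 hi, sub_zero]
      · show Ideal.Quotient.mk J (a - i) = Ideal.Quotient.mk J b
        have : a - i = b + j := by linear_combination -hij
        rw [this, map_add, Ideal.Quotient.eq_zero_iff_mem.2 hj, add_zero]
    · rintro ⟨c, hc⟩
      have h1 : Ideal.Quotient.mk I c = Ideal.Quotient.mk I a := congrArg Prod.fst hc
      have h2 : Ideal.Quotient.mk J c = Ideal.Quotient.mk J b := congrArg Prod.snd hc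
      rw [← h1, ← h2, hδapp, sub_self, map_zero]
  have hT : Function.Injective (LinearMap.lTensor R' ι) :=
    lTensor_injective_of_flat_quotient ι δ hιinj hδsurj hex R'
  rw [eq_bot_iff]
  rintro z ⟨hzI, hzJ⟩
  rw [Ideal.mem_bot]
  apply hT
  have e1 : (LinearMap.fst R (A ⧸ I) (A ⧸ J)) ∘ₗ ι = mkI := by
    ext a; rfl
  have e2 : (LinearMap.snd R (A ⧸ I) (A ⧸ J)) ∘ₗ ι = mkJ := by
    ext a; rfl
  have h1 : LinearMap.lTensor R' (LinearMap.fst R (A ⧸ I) (A ⧸ J)) (LinearMap.lTensor R' ι z) = 0 := by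
    rw [← LinearMap.lTensor_comp_apply, e1, hmkI, lTensor_mk_eq_zero I z hzI]
  have h2 : LinearMap.lTensor R' (LinearMap.snd R (A ⧸ I) (A ⧸ J)) (LinearMap.lTensor R' ι z) = 0 := by
    rw [← LinearMap.lTensor_comp_apply, e2, hmkJ, lTensor_mk_eq_zero J z hzJ]
  rw [map_zero, dec_prod (LinearMap.lTensor R' ι z), h1, h2, map_zero, map_zero, add_zero]

end Groth.Agent.Helper7.InfBC
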