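import Mathlib

open CategoryTheory groupCohomology

namespace Groth.Agent.Helper7.InfSplit

universe u
variable {k G : Type u} [CommRing k] [Group G] (A : Rep.{u} k G) (P : Subgroup G)

section
variable [Finite P]

/-- sum of the values of a cocycle over `P`. -/
noncomputable def sumP : cocycles₁ A →ₗ[k] A :=
  letI := Fintype.ofFinite P
  ∑ q : P, ((LinearMap.proj (q : G) : (G → A) →ₗ[k] A) ∘ₗ (cocycles₁ A).subtype)

lemma sumP_apply (f : cocycles₁ A) :
    sumP A P f = (letI := Fintype.ofFinite P; ∑ q : P, f (q : G)) := by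
  unfold sumP
  rw [LinearMap.sum_apply]
  rfl

lemma card_smul_eq (f : cocycles₁ A) (p : P) :
    (Nat.card P : k) • f (p : G) = sumP A P f - A.ρ (p : G) (sumP A P f) := by
  classical
  letI := Fintype.ofFinite P
  rw [sumP_apply]
  have h1 : ∑ q : P, f ((p * q : P) : G) = ∑ q : P, f (q : G) :=
    Equiv.sum_comp (Equiv.mulLeft p) (fun q : P => f (q : G))
  have h2 : ∀ q : P, f ((p * q : P) : G) = A.ρ (p : G) (f (q : G)) + f (p : G) := fun q => by
    rw [Subgroup.coe_mul]
    exact (mem_cocycles₁_iff f).1 f.2 _ _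
  simp only [h2, Finset.sum_add_distrib, Finset.sum_const, Finset.card_univ, ← map_sum] at h1
  rw [Nat.card_eq_fintype_card, Nat.cast_smul_eq_nsmul, eq_sub_iff_add_eq']
  exact h1

variable (hP : Function.Bijective fun a : A => (Nat.card P : k) • a)

/-- inverse of multiplication by `|P|`. -/
noncomputable def invN : A →ₗ[k] A :=
  ((LinearEquiv.ofBijective (LinearMap.lsmul k A (Nat.card P : k)) hP).symm : A ≃ₗ[k] A)

lemma card_smul_invN (a : A) : (Nat.card P : k) • invN A P hP a = a :=
  (LinearEquiv.ofBijective (LinearMap.lsmul k A (Nat.card P : k)) hP).apply_symm_apply a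

/-- the correcting element `y(f)`. -/
noncomputable def yOf : cocycles₁ A →ₗ[k] A := - (invN A P hP ∘ₗ sumP A P)

lemma card_smul_yOf (f : cocycles₁ A) : (Nat.card P : k) • yOf A P hP f = - sumP A P f := by
  simp [yOf, card_smul_invN]

lemma eq_on_P (f : cocycles₁ A) (p : P) :
    f (p : G) = A.ρ (p : G) (yOf A P hP f) - yOf A P hP f := by
  apply hP.1
  show (Nat.card P : k) • f (p : G) = (Nat.card P : k) • (A.ρ (p : G) (yOf A P hP f) - yOf A P hP f)
  calc (Nat.card P : k) • f (p : G) = sumP A P f - A.ρ (p : G) (sumP A P f) := card_smul_eq A P f p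
    _ = A.ρ (p : G) (- sumP A P f) - (- sumP A P f) := by rw [map_neg]; abel
    _ = A.ρ (p : G) ((Nat.card P : k) • yOf A P hP f) - (Nat.card P : k) • yOf A P hP f := by
        rw [card_smul_yOf]
    _ = (Nat.card P : k) • (A.ρ (p : G) (yOf A P hP f) - yOf A P hP f) := by
        rw [smul_sub, map_smul]

/-- the corrected cocycle `F(f)(g) = f g - ρ(g) y + y`. -/
noncomputable def Fof (g : G) : cocycles₁ A →ₗ[k] A :=
  ((LinearMap.proj g : (G → A) →ₗ[k] A) ∘ₗ (cocycles₁ A).subtype) - (A.ρ g : A →ₗ[k] A) ∘ₗ yOf A P hP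
    + yOf A P hP

lemma Fof_apply (g : G) (f : cocycles₁ A) :
    Fof A P hP g f = f g - A.ρ g (yOf A P hP f) + yOf A P hP f := rfl

lemma Fof_mem (f : cocycles₁ A) (p : G) (hp : p ∈ P) : Fof A P hP p f = 0 := by
  rw [Fof_apply, eq_on_P A P hP f ⟨p, hp⟩]
  abel

lemma Fof_mul (f : cocycles₁ A) (g h : G) :
    Fof A P hP (g * h) f = A.ρ g (Fof A P hP h f) + Fof A P hP g f := by
  simp only [Fof_apply, (mem_cocycles₁_iff f).1 f.2 g h, map_mul, map_add, map_sub,
    Module.End.mul_apply]
  abel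

lemma Fof_mul_mem (f : cocycles₁ A) (g p : G) (hp : p ∈ P) :
    Fof A P hP (g * p) f = Fof A P hP g f := by
  rw [Fof_mul, Fof_mem A P hP f p hp, map_zero, zero_add]

variable [P.Normal]

lemma Fof_inv (f : cocycles₁ A) (g p : G) (hp : p ∈ P) :
    A.ρ p (Fof A P hP g f) = Fof A P hP g f := by
  have h1 := Fof_mul A P hP f p g
  rw [Fof_mem A P hP f p hp, add_zero] at h1
  rw [← h1]
  have : p * g = g * (g⁻¹ * p * g) := by group
  rw [this]
  exact Fof_mul_mem A P hP f g _ (Subgroup.Normal.conj_mem' ‹_› _ hp _)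

/-- the descended function. -/
noncomputable def rFun (f : cocycles₁ A) : G ⧸ P → (A.quotientToInvariants P) :=
  fun q => ⟨Fof A P hP q.out f, fun p => Fof_inv A P hP f _ p p.2⟩

lemma rFun_mk (f : cocycles₁ A) (g : G) :
    ((rFun A P hP f (g : G ⧸ P)) : A) = Fof A P hP g f := by
  obtain ⟨h, hh⟩ := QuotientGroup.mk_out_eq_mul P g
  show Fof A P hP (g : G ⧸ P).out f = _
  rw [hh]
  exact Fof_mul_mem A P hP f g h h.2

lemma rFun_mem (f : cocycles₁ A) : rFun A P hP f ∈ cocycles₁ (A.quotientToInvariants P) := by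
  rw [mem_cocycles₁_iff]
  intro g h
  induction g using QuotientGroup.induction_on with | @H g =>
  induction h using QuotientGroup.induction_on with | @H h =>
  apply Subtype.ext
  rw [← QuotientGroup.mk_mul, rFun_mk]
  show _ = A.ρ g (rFun A P hP f (h : G ⧸ P) : A) + (rFun A P hP f (g : G ⧸ P) : A)
  rw [rFun_mk, rFun_mk, Fof_mul]

/-- the retraction. -/
noncomputable def retr : cocycles₁ A →ₗ[k] cocycles₁ (A.quotientToInvariants P) where
  toFun f := ⟨rFun A P hP f, rFun_mem A P hP f⟩
  map_add' f f' := by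
    apply cocycles₁_ext
    intro q
    apply Subtype.ext
    show Fof A P hP q.out (f + f') = Fof A P hP q.out f + Fof A P hP q.out f'
    rw [map_add]
  map_smul' c f := by
    apply cocycles₁_ext
    intro q
    apply Subtype.ext
    show Fof A P hP q.out (c • f) = c • Fof A P hP q.out f
    rw [map_smul]

lemma inf_apply (h : cocycles₁ (A.quotientToInvariants P)) (g : G) :
    (mapCocycles₁ (QuotientGroup.mk' P) (Rep.ofHom (A.ρ.quotientToInvariants_lift P)) h) g
      = ((h (g : G ⧸ P)) : A) := by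
  simp [coe_mapCocycles₁ (QuotientGroup.mk' P)]

theorem result' :
    (groupCohomology.mapCocycles₁ (QuotientGroup.mk' P) (Rep.ofHom (A.ρ.quotientToInvariants_lift P)) :
          ModuleCat.of k (groupCohomology.cocycles₁ (A.quotientToInvariants P)) ⟶
            ModuleCat.of k (groupCohomology.cocycles₁ A)) ≫ ModuleCat.ofHom (retr A P hP) = 𝟙 _ := by
  refine ModuleCat.hom_ext (LinearMap.ext fun h => cocycles₁_ext fun q => ?_)
  induction q using QuotientGroup.induction_on with | @H g =>
  apply Subtype.ext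
  obtain ⟨ih, hval⟩ : ∃ ih : cocycles₁ A, ih = (mapCocycles₁ (QuotientGroup.mk' P)
      (Rep.ofHom (A.ρ.quotientToInvariants_lift P))) h ∧ ∀ g : G, ih g = ((h (g : G ⧸ P)) : A) :=
    ⟨_, rfl, fun g => inf_apply A P h g⟩
  obtain ⟨hih, hval⟩ := hval
  show ((rFun A P hP ((mapCocycles₁ (QuotientGroup.mk' P)
      (Rep.ofHom (A.ρ.quotientToInvariants_lift P))) h) (g : G ⧸ P)) : A) = ((h (g : G ⧸ P)) : A)
  rw [← hih, rFun_mk, Fof_apply, hval]
  have hy : yOf A P hP ih = 0 := by
    have : sumP A P ih = 0 := by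
      rw [sumP_apply]
      apply Finset.sum_eq_zero
      intro p _
      rw [hval, (QuotientGroup.eq_one_iff (p : G)).2 p.2, cocycles₁_map_one]
      rfl
    simp [yOf, this]
  rw [hy]
  simp

end

end Groth.Agent.Helper7.InfSplit
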