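import Mathlib
import Groth.Prelude

set_option autoImplicit false
set_option linter.style.haveILetI false
set_option linter.unusedSectionVars false

namespace Groth.Agent.Helper7.InjCol

open CategoryTheory CategoryTheory.Limits

universe u

section colim

variable {A : Type u} [CommRing A] {J : Type u} [AddCommGroup J] [Module A J]
  {P : Type u} [Preorder P] [IsDirectedOrder P] [Nonempty P]
  (N : P → Submodule A J) (hN : Monotone N) (hex : ∀ x : J, ∃ i, x ∈ N i)

include hN hex in
/-- a directed exhaustive union of submodules is a filtered colimit in `ModuleCat`. -/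
theorem exists_colimit_of_directed :
    ∃ (D : P ⥤ ModuleCat.{u} A) (c : Cocone D) (_ : IsColimit c),
      Nonempty (c.pt ≅ ModuleCat.of A J) ∧ ∀ i, D.obj i = ModuleCat.of A ↥(N i) := by
  classical
  let G : P → Type u := fun i => ↥(N i)
  let f : ∀ i j, i ≤ j → G i →ₗ[A] G j := fun i j h => Submodule.inclusion (hN h)
  haveI : DirectedSystem G fun i j h => f i j h :=
    { map_self := fun i x => by
        apply Subtype.ext
        rfl
      map_map := fun k j i hij hjk x => by
        apply Subtype.ext
        rfl }
  let g : ∀ i, G i →ₗ[A] J := fun i => (N i).subtype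
  have Hg : ∀ i j hij x, g j (f i j hij x) = g i x := fun i j hij x => rfl
  let L := Module.DirectLimit.lift A P G f g Hg
  have hinj : Function.Injective L :=
    Module.DirectLimit.lift_injective g Hg (fun i => Subtype.val_injective)
  have hsurj : Function.Surjective L := by
    intro x
    obtain ⟨i, hi⟩ := hex x
    exact ⟨Module.DirectLimit.of A P G f i ⟨x, hi⟩, Module.DirectLimit.lift_of g Hg _⟩
  let e : Module.DirectLimit G f ≃ₗ[A] J := LinearEquiv.ofBijective L ⟨hinj, hsurj⟩
  exact ⟨ModuleCat.directLimitDiagram G f, ModuleCat.directLimitCocone G f,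
    ModuleCat.directLimitIsColimit G f, ⟨e.toModuleIso⟩, fun i => rfl⟩

end colim

section foa

/-- `N` is a finite module over some Artinian `A`-algebra. -/
def FOA (A : Type u) [CommRing A] (N : Type u) [AddCommGroup N] [Module A N] : Prop :=
  ∃ (B : Type u) (_ : CommRing B) (_ : Algebra A B) (_ : IsArtinianRing B)
    (_ : Module B N) (_ : IsScalarTower A B N), Module.Finite B N

variable {A : Type u} [CommRing A]

theorem FOA.of_linearEquiv {N N' : Type u} [AddCommGroup N] [Module A N] [AddCommGroup N']
    [Module A N'] (h : FOA A N) (e : N ≃ₗ[A] N') : FOA A N' := by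
  obtain ⟨B, _, _, _, _, _, hfin⟩ := h
  letI : SMul B N' := ⟨fun b x => e (b • e.symm x)⟩
  have hsm : ∀ (b : B) (x : N'), b • x = e (b • e.symm x) := fun b x => rfl
  letI : Module B N' := Function.Surjective.module B (e : N →+ N') e.surjective (fun c x => by
    show e (c • x) = e (c • e.symm (e x))
    rw [e.symm_apply_apply])
  haveI : IsScalarTower A B N' := ⟨fun a b x => by
    rw [hsm, hsm, smul_assoc, map_smul]⟩
  let e' : N →ₗ[B] N' :=
    { toFun := e
      map_add' := map_add e
      map_smul' := fun b x => by
        show e (b • x) = e (b • e.symm (e x))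
        rw [e.symm_apply_apply] }
  exact ⟨B, inferInstance, inferInstance, inferInstance, inferInstance, inferInstance,
    Module.Finite.of_surjective e' e.surjective⟩

theorem finite_pi {ι : Type u} [Fintype ι] (B : ι → Type u) [∀ i, CommRing (B i)]
    (N : ι → Type u) [∀ i, AddCommGroup (N i)] [∀ i, Module (B i) (N i)]
    [∀ i, Module.Finite (B i) (N i)] : Module.Finite (Π i, B i) (Π i, N i) := by
  classical
  have hfg : ∀ i, ∃ S : Finset (N i), Submodule.span (B i) (S : Set (N i)) = ⊤ :=
    fun i => (Module.finite_def.mp inferInstance : (⊤ : Submodule (B i) (N i)).FG)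
  choose S hS using hfg
  refine ⟨⟨Finset.univ.biUnion fun i => (S i).image (Pi.single i), ?_⟩⟩
  rw [eq_top_iff]
  intro x _
  have hx : x = ∑ i, Pi.single i (x i) := by
    funext j
    rw [Finset.sum_apply, Finset.sum_eq_single j]
    · rw [Pi.single_eq_same]
    · intro i _ hij
      rw [Pi.single_eq_of_ne hij.symm]
    · intro h; exact absurd (Finset.mem_univ j) h
  rw [hx]
  refine Submodule.sum_mem _ fun i _ => ?_
  have hxi : x i ∈ Submodule.span (B i) (S i : Set (N i)) := by rw [hS i]; trivial
  refine Submodule.span_induction (p := fun y _ => (Pi.single i y : Π i, N i) ∈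
    Submodule.span (Π i, B i)
      ((Finset.univ.biUnion fun i => (S i).image (Pi.single i) : Finset (Π i, N i)) :
        Set (Π i, N i))) ?_ ?_ ?_ ?_ hxi
  · intro y hy
    apply Submodule.subset_span
    rw [Finset.mem_coe, Finset.mem_biUnion]
    exact ⟨i, Finset.mem_univ i, Finset.mem_image_of_mem _ hy⟩
  · rw [Pi.single_zero]; exact Submodule.zero_mem _
  · intro y z _ _ hy hz
    rw [Pi.single_add]; exact Submodule.add_mem _ hy hz
  · intro b y _ hy
    have : (Pi.single i (b • y) : Π i, N i) = (Pi.single i b : Π i, B i) • Pi.single i y := by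
      funext j
      by_cases hj : j = i
      · subst hj
        simp
      · simp [Pi.single_eq_of_ne hj]
    rw [this]
    exact Submodule.smul_mem _ _ hy

theorem FOA.pi {ι : Type u} [Fintype ι] (N : ι → Type u) [∀ i, AddCommGroup (N i)]
    [∀ i, Module A (N i)] (h : ∀ i, FOA A (N i)) : FOA A (Π i, N i) := by
  choose B hB1 hB2 hB3 hB4 hB5 hB6 using h
  haveI := finite_pi B N
  exact ⟨Π i, B i, inferInstance, inferInstance, inferInstance, inferInstance, inferInstance,
    inferInstance⟩

end foa

end Groth.Agent.Helper7.InjCol
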