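import Mathlib
import Groth.Prelude
import Groth.Agent.Helper7.InjColA

set_option autoImplicit false
set_option linter.style.haveILetI false
set_option linter.unusedSectionVars false

namespace Groth.Agent.Helper7.InjCol

open CategoryTheory CategoryTheory.Limits

universe u

section assemble

variable {A : Type u} [CommRing A] {J : Type u} [AddCommGroup J] [Module A J]
  {ι₀ : Type u} (E : ι₀ → Submodule A J) (hE : iSupIndep E) (hEtop : iSup E = ⊤)
  (T : ι₀ → ℕ → Submodule A J) (hTmono : ∀ i, Monotone (T i)) (hTE : ∀ i n, T i n ≤ E i)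
  (hTex : ∀ i, ∀ x ∈ E i, ∃ n, x ∈ T i n) (hfoa : ∀ i n, FOA A ↥(T i n))

/-- the sum map from a finite product of pieces. -/
noncomputable def Phi (F : Finset ι₀) (n : ℕ) : (Π i : ↥F, ↥(T i.1 n)) →ₗ[A] J :=
  ∑ i : ↥F, (T i.1 n).subtype ∘ₗ LinearMap.proj i

theorem Phi_apply (F : Finset ι₀) (n : ℕ) (x : Π i : ↥F, ↥(T i.1 n)) :
    Phi T F n x = ∑ i : ↥F, (x i : J) := by
  unfold Phi
  rw [LinearMap.sum_apply]
  rfl

include hE hTE in
theorem Phi_injective (F : Finset ι₀) (n : ℕ) : Function.Injective (Phi T F n) := by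
  classical
  rw [injective_iff_map_eq_zero]
  intro x hx
  rw [Phi_apply] at hx
  let v : ι₀ → J := fun i => if h : i ∈ F then (x ⟨i, h⟩ : J) else 0
  have hv : ∀ i : ↥F, v i.1 = (x i : J) := by
    intro i
    simp only [v]
    rw [dif_pos i.2]
  have hsum : ∑ i ∈ F, v i = 0 := by
    rw [← Finset.sum_coe_sort F v, ← hx]
    exact Finset.sum_congr rfl fun i _ => hv i
  have hmem : ∀ i ∈ F, v i ∈ E i := by
    intro i hi
    have := hv ⟨i, hi⟩
    simp only at this
    rw [this]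
    exact hTE i n (x ⟨i, hi⟩).2
  have h0 := (iSupIndep_iff_finsetSum_eq_zero_imp_eq_zero E).mp hE F v hmem hsum
  funext i
  apply Subtype.ext
  rw [← hv i]
  exact h0 i.1 i.2

theorem mem_range_Phi (F : Finset ι₀) (n : ℕ) (i : ι₀) (hi : i ∈ F) (y : J) (hy : y ∈ T i n) :
    y ∈ LinearMap.range (Phi T F n) := by
  classical
  refine ⟨Pi.single (⟨i, hi⟩ : ↥F) ⟨y, hy⟩, ?_⟩
  rw [Phi_apply, Finset.sum_eq_single (⟨i, hi⟩ : ↥F)]
  · rw [Pi.single_eq_same]
  · intro j _ hj
    rw [Pi.single_eq_of_ne hj]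
    rfl
  · intro h
    exact absurd (Finset.mem_univ _) h

include hTmono in
theorem range_Phi_mono {F F' : Finset ι₀} {n n' : ℕ} (hF : F ⊆ F') (hn : n ≤ n') :
    LinearMap.range (Phi T F n) ≤ LinearMap.range (Phi T F' n') := by
  rintro _ ⟨x, rfl⟩
  rw [Phi_apply]
  exact Submodule.sum_mem _ fun i _ =>
    mem_range_Phi T F' n' i.1 (hF i.2) _ (hTmono i.1 hn (x i).2)

include hEtop hTmono hTex in
theorem exists_mem_range_Phi (x : J) :
    ∃ p : Finset ι₀ × ℕ, x ∈ LinearMap.range (Phi T p.1 p.2) := by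
  classical
  have hx : x ∈ iSup E := by rw [hEtop]; trivial
  refine Submodule.iSup_induction E (motive := fun x => ∃ p : Finset ι₀ × ℕ,
    x ∈ LinearMap.range (Phi T p.1 p.2)) hx ?_ ?_ ?_
  · intro i y hy
    obtain ⟨n, hn⟩ := hTex i y hy
    exact ⟨({i}, n), mem_range_Phi T {i} n i (Finset.mem_singleton_self i) y hn⟩
  · exact ⟨(∅, 0), Submodule.zero_mem _⟩
  · rintro y z ⟨⟨F, n⟩, hy⟩ ⟨⟨F', n'⟩, hz⟩
    refine ⟨(F ∪ F', max n n'), Submodule.add_mem _ ?_ ?_⟩
    · exact range_Phi_mono T hTmono Finset.subset_union_left (le_max_left _ _) hy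
    · exact range_Phi_mono T hTmono Finset.subset_union_right (le_max_right _ _) hz

include hE hEtop hTmono hTE hTex hfoa in
theorem assemble :
    ∃ (ι : Type u) (_ : SmallCategory ι) (_ : IsFiltered ι) (D : ι ⥤ ModuleCat.{u} A)
      (c : Cocone D) (_ : IsColimit c), Nonempty (c.pt ≅ ModuleCat.of A J) ∧
      ∀ i : ι, ∃ (B : Type u) (_ : CommRing B) (_ : Algebra A B) (_ : IsArtinianRing B)
        (_ : Module B (D.obj i)) (_ : IsScalarTower A B (D.obj i)), Module.Finite B (D.obj i) := by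
  classical
  let N : Finset ι₀ × ℕ → Submodule A J := fun p => LinearMap.range (Phi T p.1 p.2)
  have hN : Monotone N := fun p q hpq => range_Phi_mono T hTmono hpq.1 hpq.2
  obtain ⟨D, c, hc, hiso, hD⟩ :=
    exists_colimit_of_directed N hN (exists_mem_range_Phi E hEtop T hTmono hTex)
  refine ⟨Finset ι₀ × ℕ, Preorder.smallCategory _, isFiltered_of_directed_le_nonempty _, D, c, hc,
    hiso, ?_⟩
  intro p
  rw [hD p]
  exact (FOA.pi _ (fun i : ↥p.1 => hfoa i.1 p.2)).of_linearEquiv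
    (LinearEquiv.ofInjective (Phi T p.1 p.2) (Phi_injective E hE T hTE p.1 p.2))

end assemble

end Groth.Agent.Helper7.InjCol
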