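import Mathlib
import Groth.Prelude
import Groth.Agent.Helper7.InjColB
import Groth.Agent.Helper6.Matlis10
import Groth.Agent.S0306
import Groth.Agent.S0307

set_option autoImplicit false
set_option linter.style.haveILetI false
set_option linter.unusedSectionVars false

namespace Groth.Agent.Helper7.InjCol

open CategoryTheory CategoryTheory.Limits IsLocalRing Groth.Agent.Helper6.Matlis

universe u

section local_

variable {R' : Type u} [CommRing R'] [IsLocalRing R'] [IsNoetherianRing R']
  (E' : Type u) [AddCommGroup E'] [Module R' E'] [IsArtinian R' E']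

/-- the `m^n`-torsion of an Artinian module over a Noetherian local ring is a finite module over
the Artinian ring `R ⧸ m^n`. -/
theorem finite_torsion (n : ℕ) :
    Module.Finite (R' ⧸ maximalIdeal R' ^ n)
      ↥(Submodule.torsionBySet R' E' ((maximalIdeal R' ^ n : Ideal R') : Set R')) := by
  haveI hB : IsArtinianRing (R' ⧸ maximalIdeal R' ^ n) :=
    isArtinian_of_tower R' (isFiniteLength_iff_isNoetherian_isArtinian.mp
      (isFiniteLength_quot_pow (R := R') n)).2
  haveI : IsArtinian (R' ⧸ maximalIdeal R' ^ n)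
      ↥(Submodule.torsionBySet R' E' ((maximalIdeal R' ^ n : Ideal R') : Set R')) :=
    isArtinian_of_tower R' inferInstance
  haveI : IsNoetherian (R' ⧸ maximalIdeal R' ^ n)
      ↥(Submodule.torsionBySet R' E' ((maximalIdeal R' ^ n : Ideal R') : Set R')) :=
    IsSemiprimaryRing.isNoetherian_iff_isArtinian.mpr inferInstance
  infer_instance

end local_

section hull

variable {A : Type u} [CommRing A] [IsNoetherianRing A] (p : Ideal A) [hp : p.IsPrime]
  (E : Type u) [AddCommGroup E] [Module A E]

/-- an injective hull of `κ(p)` is also an injective hull of `A ⧸ p`. -/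
theorem hull_quotient (g : p.ResidueField →ₗ[A] E) (hg : InjHull.IsInjectiveHull g) :
    InjHull.IsInjectiveHull
      (g ∘ₗ (IsScalarTower.toAlgHom A (A ⧸ p) p.ResidueField).toLinearMap) := by
  let ι : (A ⧸ p) →ₗ[A] p.ResidueField :=
    (IsScalarTower.toAlgHom A (A ⧸ p) p.ResidueField).toLinearMap
  have hιinj : Function.Injective ι := p.injective_algebraMap_quotient_residueField
  have hιess : ∀ x : p.ResidueField, x ≠ 0 → ∃ (b : A) (a : A ⧸ p), b • x = ι a ∧ b • x ≠ 0 := by
    intro x hx0
    obtain ⟨⟨a, b⟩, hab⟩ := IsLocalization.surj (nonZeroDivisors (A ⧸ p)) x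
    obtain ⟨b', hb'⟩ := Ideal.Quotient.mk_surjective (b : A ⧸ p)
    have hb0 : algebraMap (A ⧸ p) p.ResidueField b ≠ 0 := by
      intro h
      have := (IsFractionRing.injective (A ⧸ p) p.ResidueField) (h.trans (map_zero _).symm)
      exact nonZeroDivisors.coe_ne_zero b this
    have hsm : b' • x = algebraMap (A ⧸ p) p.ResidueField a := by
      rw [← hab, Algebra.smul_def, IsScalarTower.algebraMap_apply A (A ⧸ p) p.ResidueField,
        Ideal.Quotient.algebraMap_eq, hb', mul_comm]
    refine ⟨b', a, hsm, ?_⟩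
    rw [hsm, ← hab]
    exact mul_ne_zero hx0 hb0
  refine { injective := hg.injective.comp hιinj, essential := ?_, isInjective := hg.isInjective }
  intro N hN hbot
  obtain ⟨y, ⟨hyN, ⟨x, rfl⟩⟩, hy0⟩ := Submodule.exists_mem_ne_zero_of_ne_bot (hg.essential N hN)
  have hx0 : x ≠ 0 := fun h => hy0 (by rw [h, map_zero])
  obtain ⟨b, a, hba, hne⟩ := hιess x hx0
  have hmem : b • g x ∈ N ⊓ LinearMap.range (g ∘ₗ ι) :=
    ⟨N.smul_mem _ hyN, ⟨a, by rw [LinearMap.comp_apply, ← hba, map_smul]⟩⟩
  rw [hbot, Submodule.mem_bot, ← map_smul] at hmem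
  exact hne (hg.injective (by rw [hmem, map_zero]))

/-- an injective hull of `κ(p)` over a Noetherian ring is exhausted by submodules which are finite
over Artinian algebras. -/
theorem exists_exhaustion (g : p.ResidueField →ₗ[A] E) (hg : InjHull.IsInjectiveHull g) :
    ∃ T : ℕ → Submodule A E, Monotone T ∧ (∀ x, ∃ n, x ∈ T n) ∧ ∀ n, FOA A ↥(T n) := by
  have hf := hull_quotient p E g hg
  obtain ⟨-, h2⟩ := Groth.Agent.S11661.result A p.primeCompl p E _ hf
  have hdisj : Disjoint (p : Set A) (p.primeCompl : Set A) := by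
    rw [Set.disjoint_left]
    intro x hx hx'
    exact hx' hx
  obtain ⟨hbij, g', hg'⟩ := h2 hdisj
  let R' := Localization.AtPrime p
  let E' := LocalizedModule p.primeCompl E
  have hmax : p.map (algebraMap A R') = maximalIdeal R' :=
    Localization.AtPrime.map_eq_maximalIdeal
  let e0 : (R' ⧸ maximalIdeal R') ≃ₗ[R'] (R' ⧸ p.map (algebraMap A R')) :=
    Submodule.quotEquivOfEq _ _ hmax.symm
  have hg'' : InjHull.IsInjectiveHull (g' ∘ₗ e0.toLinearMap) :=
    isInjectiveHull_comp_equiv g' hg' e0
  haveI hart' : IsArtinian R' E' :=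
    isArtinian_hull (R := R') (E := E') (g' ∘ₗ e0.toLinearMap) hg''
  have hpt : LocCoh.IsPowerTorsion (maximalIdeal R') E' := isPowerTorsion_of_isArtinian E'
  let e : E ≃ₗ[A] E' := LinearEquiv.ofBijective (LocalizedModule.mkLinearMap p.primeCompl E) hbij
  let T' : ℕ → Submodule R' E' := fun n =>
    Submodule.torsionBySet R' E' ((maximalIdeal R' ^ n : Ideal R') : Set R')
  refine ⟨fun n => ((T' n).restrictScalars A).map (e.symm : E' →ₗ[A] E), ?_, ?_, ?_⟩
  · intro i j hij
    refine Submodule.map_mono ?_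
    intro x hx
    exact Submodule.torsionBySet_le_torsionBySet_of_subset
      (fun a ha => Ideal.pow_le_pow_right hij ha) hx
  · intro x
    obtain ⟨n, hn⟩ := hpt (e x)
    refine ⟨n, e x, ?_, e.symm_apply_apply x⟩
    show e x ∈ T' n
    rw [Submodule.mem_torsionBySet_iff]
    intro a
    exact hn a a.2
  · intro n
    have h1 : FOA A ↥(T' n) :=
      ⟨R' ⧸ maximalIdeal R' ^ n, inferInstance, inferInstance,
        isArtinian_of_tower R' (isFiniteLength_iff_isNoetherian_isArtinian.mp
          (isFiniteLength_quot_pow (R := R') n)).2, inferInstance, inferInstance,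
        finite_torsion E' n⟩
    let e1 : ↥(T' n) ≃ₗ[A] ↥((T' n).restrictScalars A) :=
      { toFun := fun x => ⟨x.1, x.2⟩
        invFun := fun x => ⟨x.1, x.2⟩
        map_add' := fun _ _ => rfl
        map_smul' := fun _ _ => rfl
        left_inv := fun _ => rfl
        right_inv := fun _ => rfl }
    exact (h1.of_linearEquiv e1).of_linearEquiv (e.symm.submoduleMap ((T' n).restrictScalars A))

end hull

/-- **An injective module over a Noetherian ring is a filtered colimit of modules finite over
Artinian algebras.** -/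
theorem main (A : Type u) [CommRing A] [IsNoetherianRing A]
    (J : Type u) [AddCommGroup J] [Module A J] [Module.Injective A J] :
    ∃ (ι : Type u) (_ : SmallCategory ι) (_ : IsFiltered ι) (D : ι ⥤ ModuleCat.{u} A)
      (c : Cocone D) (_ : IsColimit c), Nonempty (c.pt ≅ ModuleCat.of A J) ∧
      ∀ i : ι, ∃ (B : Type u) (_ : CommRing B) (_ : Algebra A B) (_ : IsArtinianRing B)
        (_ : Module B (D.obj i)) (_ : IsScalarTower A B (D.obj i)), Module.Finite B (D.obj i) := by
  classical
  obtain ⟨ι₀, E, hint, hE⟩ := Groth.Agent.S0307.result A J inferInstance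
  have hind : iSupIndep E := hint.submodule_iSupIndep
  have htop : iSup E = ⊤ := hint.submodule_iSup_eq_top
  have hpiece : ∀ i, ∃ T : ℕ → Submodule A J, Monotone T ∧ (∀ n, T n ≤ E i) ∧
      (∀ x ∈ E i, ∃ n, x ∈ T n) ∧ ∀ n, FOA A ↥(T n) := by
    intro i
    obtain ⟨hindec, hinj⟩ := hE i
    obtain ⟨p, hp, g, hg⟩ := Groth.Agent.S0306.result A ↥(E i) hindec hinj
    obtain ⟨T, hTm, hTex, hTf⟩ := exists_exhaustion p ↥(E i) g hg
    refine ⟨fun n => (T n).map (E i).subtype, ?_, ?_, ?_, ?_⟩
    · intro a b hab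
      exact Submodule.map_mono (hTm hab)
    · rintro n _ ⟨x, _, rfl⟩
      exact x.2
    · intro x hx
      obtain ⟨n, hn⟩ := hTex ⟨x, hx⟩
      exact ⟨n, ⟨x, hx⟩, hn, rfl⟩
    · intro n
      exact (hTf n).of_linearEquiv
        (Submodule.equivMapOfInjective (E i).subtype (E i).injective_subtype (T n))
  choose T hTm hTE hTex hTf using hpiece
  exact assemble E hind htop T hTm hTE hTex hTf

end Groth.Agent.Helper7.InjCol
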