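import Mathlib
import Groth.Prelude.Def_GSzCSA
import Groth.Agent.Helper5.CSA2
import Groth.Agent.S0190
import Groth.Agent.S0192
import Groth.Agent.S0201

set_option autoImplicit false
universe u v w x

namespace Groth.Agent.Helper7.RedChar

open Module TensorProduct Polynomial

section conj
variable (k : Type u) [Field k] (A : Type v) [Ring A] [Algebra k A] [Algebra.IsCentral k A]
  [IsSimpleRing A] [FiniteDimensional k A]

theorem ne_zero_of_finrank (n : ℕ) (hn : finrank k A = n * n) : n ≠ 0 := by
  rintro rfl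
  have : 0 < finrank k A := Module.finrank_pos
  omega

/-- a representation of degree `n` with `n² = dim A` extends to a splitting. -/
theorem exists_equiv_of_algHom (Ω : Type w) [Field Ω] [Algebra k Ω] (n : ℕ)
    (hn : finrank k A = n * n) (f : A →ₐ[k] Matrix (Fin n) (Fin n) Ω) :
    ∃ ψ : Ω ⊗[k] A ≃ₐ[Ω] Matrix (Fin n) (Fin n) Ω, ∀ a, ψ (1 ⊗ₜ a) = f a := by
  have : NeZero n := ⟨ne_zero_of_finrank k A n hn⟩
  let g : Ω ⊗[k] A →ₐ[Ω] Matrix (Fin n) (Fin n) Ω :=
    Algebra.TensorProduct.lift (Algebra.ofId Ω _) f (fun x b => Algebra.commutes x (f b))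
  have hs : IsSimpleRing (Ω ⊗[k] A) := Groth.Agent.S0190.result k Ω A
  have hinj : Function.Injective g := RingHom.injective g.toRingHom
  have h1 : finrank Ω (Ω ⊗[k] A) = finrank Ω (Matrix (Fin n) (Fin n) Ω) := by
    rw [Module.finrank_baseChange, hn, Module.finrank_matrix]
    simp
  have hbij : Function.Bijective g :=
    ⟨hinj, (LinearMap.injective_iff_surjective_of_finrank_eq_finrank h1
      (f := g.toLinearMap)).1 hinj⟩
  refine ⟨AlgEquiv.ofBijective g hbij, fun a => ?_⟩
  show g (1 ⊗ₜ a) = f a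
  simp [g]

/-- two representations of the same degree are conjugate. -/
theorem conj_of_reps (Ω : Type w) [Field Ω] [Algebra k Ω] (n : ℕ)
    (hn : finrank k A = n * n) (f f' : A →ₐ[k] Matrix (Fin n) (Fin n) Ω) :
    ∃ u : (Matrix (Fin n) (Fin n) Ω)ˣ, ∀ a, f' a = (u : Matrix (Fin n) (Fin n) Ω) * f a *
      ((u⁻¹ : (Matrix (Fin n) (Fin n) Ω)ˣ) : Matrix (Fin n) (Fin n) Ω) := by
  have : NeZero n := ⟨ne_zero_of_finrank k A n hn⟩
  obtain ⟨ψ, hψ⟩ := exists_equiv_of_algHom k A Ω n hn f
  obtain ⟨ψ', hψ'⟩ := exists_equiv_of_algHom k A Ω n hn f'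
  obtain ⟨u, hu⟩ := Groth.Agent.Helper5.CSA.skolem_noether Ω (Matrix (Fin n) (Fin n) Ω)
    (ψ.symm.trans ψ')
  refine ⟨u, fun a => ?_⟩
  have := hu (f a)
  rw [← hψ a, AlgEquiv.trans_apply, AlgEquiv.symm_apply_apply, hψ' a, hψ a] at this
  exact this

theorem charpoly_eq_of_reps (Ω : Type w) [Field Ω] [Algebra k Ω] (n : ℕ)
    (hn : finrank k A = n * n) (f f' : A →ₐ[k] Matrix (Fin n) (Fin n) Ω) (a : A) :
    (f' a).charpoly = (f a).charpoly := by
  obtain ⟨u, hu⟩ := conj_of_reps k A Ω n hn f f'
  rw [hu a, Matrix.coe_units_inv, Matrix.charpoly_units_conj]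

end conj

section compositum

/-- two field extensions have a common overfield. -/
theorem exists_compositum (k : Type u) [Field k] (K : Type v) [Field K] [Algebra k K]
    (L : Type w) [Field L] [Algebra k L] :
    ∃ (Ω : Type (max v w)) (_ : Field Ω) (_ : Algebra k Ω) (_ : K →ₐ[k] Ω) (_ : L →ₐ[k] Ω),
      True := by
  obtain ⟨m, hm⟩ := Ideal.exists_maximal (K ⊗[k] L)
  let _ : Field ((K ⊗[k] L) ⧸ m) := Ideal.Quotient.field m
  exact ⟨(K ⊗[k] L) ⧸ m, inferInstance, inferInstance,
    (Ideal.Quotient.mkₐ k m).comp Algebra.TensorProduct.includeLeft,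
    (Ideal.Quotient.mkₐ k m).comp Algebra.TensorProduct.includeRight, trivial⟩

end compositum

section descent
variable (k : Type u) [Field k] (A : Type v) [Ring A] [Algebra k A] [Algebra.IsCentral k A]
  [IsSimpleRing A] [FiniteDimensional k A]

/-- the degree of `A`. -/
noncomputable def deg : ℕ := Nat.sqrt (finrank k A)

theorem finrank_eq_deg : finrank k A = deg k A * deg k A := by
  obtain ⟨n, hn⟩ := Groth.Agent.S0192.result k A
  unfold deg
  rw [hn, Nat.sqrt_eq]

theorem deg_ne_zero : deg k A ≠ 0 := ne_zero_of_finrank k A _ (finrank_eq_deg k A)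

theorem eq_deg (n : ℕ) (hn : finrank k A = n * n) : n = deg k A := by
  unfold deg
  rw [hn, Nat.sqrt_eq]

/-- a Galois splitting field with a representation. -/
theorem exists_galois_rep : ∃ (K : Type u) (_ : Field K) (_ : Algebra k K),
    FiniteDimensional k K ∧ IsGalois k K ∧
      Nonempty (A →ₐ[k] Matrix (Fin (deg k A)) (Fin (deg k A)) K) := by
  obtain ⟨K, _, _, hfin, hgal, n, hn, ⟨φ⟩⟩ := Groth.Agent.S0201.result k A
  refine ⟨K, inferInstance, inferInstance, hfin, hgal, ?_⟩
  have hdim : finrank k A = n * n := by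
    have h1 : finrank K (K ⊗[k] A) = finrank k A := Module.finrank_baseChange
    rw [← h1, φ.toLinearEquiv.finrank_eq, Module.finrank_matrix]
    simp
  have := eq_deg k A n hdim
  subst this
  exact ⟨(φ.toAlgHom.restrictScalars k).comp Algebra.TensorProduct.includeRight⟩

/-- Galois descent of the characteristic polynomial of a representation. -/
theorem exists_descent (K : Type w) [Field K] [Algebra k K] [FiniteDimensional k K] [IsGalois k K]
    (n : ℕ) (hn : finrank k A = n * n) (f : A →ₐ[k] Matrix (Fin n) (Fin n) K) (a : A) :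
    ∃ p : k[X], p.map (algebraMap k K) = (f a).charpoly := by
  rw [← Polynomial.mem_lifts, Polynomial.lifts_iff_coeff_lifts]
  intro i
  rw [IsGalois.mem_range_algebraMap_iff_fixed]
  intro σ
  have h1 := charpoly_eq_of_reps k A K n hn f ((σ.toAlgHom.mapMatrix).comp f) a
  have h2 : ((σ.toAlgHom.mapMatrix).comp f) a = (f a).map (σ : K →+* K) := rfl
  rw [h2, Matrix.charpoly_map] at h1
  have h3 := congrArg (fun p => p.coeff i) h1
  simp only [Polynomial.coeff_map] at h3
  exact h3

end descent

section redchar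
variable (k : Type u) [Field k] (A : Type v) [Ring A] [Algebra k A] [Algebra.IsCentral k A]
  [IsSimpleRing A] [FiniteDimensional k A]

/-- a chosen finite Galois splitting field. -/
def K₀ : Type u := (exists_galois_rep k A).choose

noncomputable instance : Field (K₀ k A) := (exists_galois_rep k A).choose_spec.choose

noncomputable instance : Algebra k (K₀ k A) :=
  (exists_galois_rep k A).choose_spec.choose_spec.choose

instance : FiniteDimensional k (K₀ k A) :=
  (exists_galois_rep k A).choose_spec.choose_spec.choose_spec.1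

instance : IsGalois k (K₀ k A) :=
  (exists_galois_rep k A).choose_spec.choose_spec.choose_spec.2.1

/-- a chosen representation over the chosen Galois splitting field. -/
noncomputable def f₀ : A →ₐ[k] Matrix (Fin (deg k A)) (Fin (deg k A)) (K₀ k A) :=
  (exists_galois_rep k A).choose_spec.choose_spec.choose_spec.2.2.some

/-- the reduced characteristic polynomial. -/
noncomputable def redCharpoly (a : A) : k[X] :=
  (exists_descent k A (K₀ k A) (deg k A) (finrank_eq_deg k A) (f₀ k A) a).choose

theorem redCharpoly_map₀ (a : A) :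
    (redCharpoly k A a).map (algebraMap k (K₀ k A)) = (f₀ k A a).charpoly :=
  (exists_descent k A (K₀ k A) (deg k A) (finrank_eq_deg k A) (f₀ k A) a).choose_spec

/-- independence of the representation. -/
theorem redCharpoly_map (Ω : Type w) [Field Ω] [Algebra k Ω] (n : ℕ)
    (hn : finrank k A = n * n) (f : A →ₐ[k] Matrix (Fin n) (Fin n) Ω) (a : A) :
    (redCharpoly k A a).map (algebraMap k Ω) = (f a).charpoly := by
  have := eq_deg k A n hn
  subst this
  obtain ⟨Ω', _, _, i₁, i₂, -⟩ := exists_compositum k (K₀ k A) Ω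
  have h := charpoly_eq_of_reps k A Ω' _ hn ((i₁.mapMatrix).comp (f₀ k A))
    ((i₂.mapMatrix).comp f) a
  have h1 : ((i₁.mapMatrix).comp (f₀ k A)) a = (f₀ k A a).map (i₁ : K₀ k A →+* Ω') := rfl
  have h2 : ((i₂.mapMatrix).comp f) a = (f a).map (i₂ : Ω →+* Ω') := rfl
  rw [h1, h2, Matrix.charpoly_map, Matrix.charpoly_map, ← redCharpoly_map₀, Polynomial.map_map,
    AlgHom.comp_algebraMap, ← i₂.comp_algebraMap, ← Polynomial.map_map] at h
  exact (Polynomial.map_injective (i₂ : Ω →+* Ω') i₂.toRingHom.injective h).symm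

theorem redCharpoly_monic (a : A) : (redCharpoly k A a).Monic := by
  have h := redCharpoly_map₀ k A a
  have hm : ((redCharpoly k A a).map (algebraMap k (K₀ k A))).Monic := by
    rw [h]; exact Matrix.charpoly_monic _
  exact Polynomial.monic_of_injective (algebraMap k (K₀ k A)).injective hm

theorem redCharpoly_natDegree (a : A) : (redCharpoly k A a).natDegree = deg k A := by
  have h := redCharpoly_map₀ k A a
  have := congrArg Polynomial.natDegree h
  rw [Polynomial.natDegree_map, Matrix.charpoly_natDegree_eq_dim, Fintype.card_fin] at this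
  exact this

/-- Cayley–Hamilton. -/
theorem aeval_redCharpoly (a : A) : Polynomial.aeval a (redCharpoly k A a) = 0 := by
  have : NeZero (deg k A) := ⟨deg_ne_zero k A⟩
  have hinj : Function.Injective (f₀ k A) := (f₀ k A).toRingHom.injective
  apply hinj
  rw [map_zero, ← Polynomial.aeval_algHom_apply]
  have h := Matrix.aeval_self_charpoly (f₀ k A a)
  rw [← redCharpoly_map₀, Polynomial.aeval_map_algebraMap] at h
  exact h

theorem algebraMap_coeff_pred (Ω : Type w) [Field Ω] [Algebra k Ω] (n : ℕ)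
    (hn : finrank k A = n * n) (f : A →ₐ[k] Matrix (Fin n) (Fin n) Ω) (a : A) :
    algebraMap k Ω (-(redCharpoly k A a).coeff (deg k A - 1)) = Matrix.trace (f a) := by
  have hd := eq_deg k A n hn
  subst hd
  have : NeZero (deg k A) := ⟨deg_ne_zero k A⟩
  rw [Matrix.trace_eq_neg_charpoly_coeff, ← redCharpoly_map k A Ω _ hn f a, Polynomial.coeff_map,
    Fintype.card_fin, map_neg]

theorem algebraMap_coeff_zero (Ω : Type w) [Field Ω] [Algebra k Ω] (n : ℕ)
    (hn : finrank k A = n * n) (f : A →ₐ[k] Matrix (Fin n) (Fin n) Ω) (a : A) :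
    algebraMap k Ω ((-1) ^ deg k A * (redCharpoly k A a).coeff 0) = Matrix.det (f a) := by
  have hd := eq_deg k A n hn
  subst hd
  rw [Matrix.det_eq_sign_charpoly_coeff, ← redCharpoly_map k A Ω _ hn f a, Polynomial.coeff_map,
    Fintype.card_fin, map_mul, map_pow, map_neg, map_one]

/-- the reduced trace. -/
noncomputable def redTrace : A →ₗ[k] k where
  toFun a := -(redCharpoly k A a).coeff (deg k A - 1)
  map_add' a b := by
    apply (algebraMap k (K₀ k A)).injective
    rw [map_add, algebraMap_coeff_pred k A _ _ (finrank_eq_deg k A) (f₀ k A),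
      algebraMap_coeff_pred k A _ _ (finrank_eq_deg k A) (f₀ k A),
      algebraMap_coeff_pred k A _ _ (finrank_eq_deg k A) (f₀ k A), map_add, Matrix.trace_add]
  map_smul' c a := by
    apply (algebraMap k (K₀ k A)).injective
    rw [RingHom.id_apply, smul_eq_mul, map_mul,
      algebraMap_coeff_pred k A _ _ (finrank_eq_deg k A) (f₀ k A),
      algebraMap_coeff_pred k A _ _ (finrank_eq_deg k A) (f₀ k A), map_smul, Matrix.trace_smul,
      Algebra.smul_def]

theorem algebraMap_redTrace (Ω : Type w) [Field Ω] [Algebra k Ω] (n : ℕ)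
    (hn : finrank k A = n * n) (f : A →ₐ[k] Matrix (Fin n) (Fin n) Ω) (a : A) :
    algebraMap k Ω (redTrace k A a) = Matrix.trace (f a) :=
  algebraMap_coeff_pred k A Ω n hn f a

/-- the reduced norm. -/
noncomputable def redNorm : A →* k where
  toFun a := (-1) ^ deg k A * (redCharpoly k A a).coeff 0
  map_one' := by
    apply (algebraMap k (K₀ k A)).injective
    rw [algebraMap_coeff_zero k A _ _ (finrank_eq_deg k A) (f₀ k A), map_one, map_one,
      Matrix.det_one]
  map_mul' a b := by
    apply (algebraMap k (K₀ k A)).injective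
    rw [algebraMap_coeff_zero k A _ _ (finrank_eq_deg k A) (f₀ k A),
      map_mul (algebraMap k (K₀ k A)) ((-1) ^ deg k A * (redCharpoly k A a).coeff 0),
      algebraMap_coeff_zero k A _ _ (finrank_eq_deg k A) (f₀ k A),
      algebraMap_coeff_zero k A _ _ (finrank_eq_deg k A) (f₀ k A), map_mul, Matrix.det_mul]

theorem algebraMap_redNorm (Ω : Type w) [Field Ω] [Algebra k Ω] (n : ℕ)
    (hn : finrank k A = n * n) (f : A →ₐ[k] Matrix (Fin n) (Fin n) Ω) (a : A) :
    algebraMap k Ω (redNorm k A a) = Matrix.det (f a) :=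
  algebraMap_coeff_zero k A Ω n hn f a

/-- the representation attached to a splitting. -/
noncomputable def repOfEquiv (Ω : Type w) [Field Ω] [Algebra k Ω] (n : ℕ)
    (φ : Ω ⊗[k] A ≃ₐ[Ω] Matrix (Fin n) (Fin n) Ω) : A →ₐ[k] Matrix (Fin n) (Fin n) Ω :=
  (φ.toAlgHom.restrictScalars k).comp Algebra.TensorProduct.includeRight

theorem repOfEquiv_apply (Ω : Type w) [Field Ω] [Algebra k Ω] (n : ℕ)
    (φ : Ω ⊗[k] A ≃ₐ[Ω] Matrix (Fin n) (Fin n) Ω) (a : A) :
    repOfEquiv k A Ω n φ a = φ (1 ⊗ₜ a) := rfl

omit [Algebra.IsCentral k A] [IsSimpleRing A] in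
theorem finrank_of_equiv (Ω : Type w) [Field Ω] [Algebra k Ω] (n : ℕ)
    (φ : Ω ⊗[k] A ≃ₐ[Ω] Matrix (Fin n) (Fin n) Ω) : finrank k A = n * n := by
  have h1 : finrank Ω (Ω ⊗[k] A) = finrank k A := Module.finrank_baseChange
  rw [← h1, φ.toLinearEquiv.finrank_eq, Module.finrank_matrix]
  simp

/-- any reduced norm is the reduced norm. -/
theorem eq_redNorm (N : A →* k) (hN : CSAGal.IsRedNorm k A N) : N = redNorm k A := by
  obtain ⟨K, _, _, _, n, φ, h⟩ := hN
  ext a
  apply (algebraMap k K).injective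
  rw [h a, algebraMap_redNorm k A K n (finrank_of_equiv k A K n φ) (repOfEquiv k A K n φ) a,
    repOfEquiv_apply]

/-- any reduced trace is the reduced trace. -/
theorem eq_redTrace (T : A →+ k) (hT : CSAGal.IsRedTrace k A T) (a : A) : T a = redTrace k A a := by
  obtain ⟨K, _, _, _, n, φ, h⟩ := hT
  apply (algebraMap k K).injective
  rw [h a, algebraMap_redTrace k A K n (finrank_of_equiv k A K n φ) (repOfEquiv k A K n φ) a,
    repOfEquiv_apply]

end redchar

end Groth.Agent.Helper7.RedChar
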