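import Mathlib
import Groth.Agent.Helper7.RedChar

set_option autoImplicit false
universe u v w

namespace Groth.Agent.Helper7.Insep23

open Module Polynomial Groth.Agent.Helper7.RedChar

section rep
variable (k : Type u) [Field k] (A : Type v) [Ring A] [Algebra k A] [Algebra.IsCentral k A]
  [IsSimpleRing A] [FiniteDimensional k A]

theorem exists_rep (n : ℕ) (hn : finrank k A = n * n) : ∃ (K : Type u) (_ : Field K)
    (_ : Algebra k K), Nonempty (A →ₐ[k] Matrix (Fin n) (Fin n) K) := by
  have := eq_deg k A n hn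
  subst this
  exact ⟨K₀ k A, inferInstance, inferInstance, ⟨f₀ k A⟩⟩

end rep

section insep
variable (K : Type u) [Field K] (p : ℕ) [Fact p.Prime] [CharP K p]
variable (A : Type v) [DivisionRing A] [Algebra K A]

/-- an element outside the centre whose `p`-th power is central is not separable. -/
theorem not_isSeparable_of_pow_mem (θ : A) (c : K) (h : θ ^ p = algebraMap K A c)
    (hθ : θ ∉ Set.range (algebraMap K A)) : ¬ IsSeparable K θ := by
  have hp : p.Prime := Fact.out
  have : CharP A p := charP_of_injective_algebraMap (algebraMap K A).injective p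
  by_cases hc : ∃ β : K, β ^ p = c
  · obtain ⟨β, hβ⟩ := hc
    exfalso
    apply hθ
    have h1 : (θ - algebraMap K A β) ^ p = 0 := by
      rw [sub_pow_char_of_commute p (Algebra.commutes β θ).symm, h, ← map_pow, hβ, sub_self]
    have h2 := pow_eq_zero_iff (Nat.Prime.ne_zero hp) |>.1 h1
    exact ⟨β, (sub_eq_zero.1 h2).symm⟩
  · push Not at hc
    have hirr : Irreducible (X ^ p - C c : K[X]) := X_pow_sub_C_irreducible_of_prime hp hc
    have hroot : Polynomial.aeval θ (X ^ p - C c : K[X]) = 0 := by
      simp [h]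
    have hdvd : minpoly K θ ∣ X ^ p - C c := minpoly.dvd K θ hroot
    have hint : IsIntegral K θ := ⟨X ^ p - C c, monic_X_pow_sub_C c hp.ne_zero, hroot⟩
    have hnu : ¬ IsUnit (minpoly K θ) := minpoly.not_isUnit K θ
    have hass : Associated (minpoly K θ) (X ^ p - C c) :=
      (hirr.dvd_iff.1 hdvd).resolve_left hnu |>.symm
    have heq : minpoly K θ = X ^ p - C c :=
      Polynomial.eq_of_monic_of_associated (minpoly.monic hint)
        (monic_X_pow_sub_C c hp.ne_zero) hass
    unfold IsSeparable
    rw [heq]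
    intro hsep
    have hder : Polynomial.derivative (X ^ p - C c : K[X]) = 0 := by
      rw [Polynomial.derivative_sub, Polynomial.derivative_C, Polynomial.derivative_X_pow,
        CharP.cast_eq_zero K p, Polynomial.C_0, zero_mul, sub_zero]
    rw [Polynomial.separable_def, hder] at hsep
    exact hirr.not_isUnit (isCoprime_zero_right.1 hsep)

end insep

section cases
variable (K : Type u) [Field K] (A : Type v) [DivisionRing A] [Algebra K A]
  [Algebra.IsCentral K A] [FiniteDimensional K A]

theorem cayley3 {R : Type*} [CommRing R] (M : Matrix (Fin 3) (Fin 3) R) :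
    M * M * M - M.trace • (M * M) + (M.adjugate).trace • M -
      M.det • (1 : Matrix (Fin 3) (Fin 3) R) = 0 := by
  ext i j
  fin_cases i <;> fin_cases j <;>
    simp [Matrix.mul_apply, Fin.sum_univ_three, Matrix.trace, Matrix.det_fin_three,
      Matrix.adjugate_fin_three] <;> ring

/-- the scalars as a submodule. -/
noncomputable def scal : Submodule K A := LinearMap.range (Algebra.linearMap K A)

omit [Algebra.IsCentral K A] [FiniteDimensional K A] in
theorem mem_scal (a : A) : a ∈ scal K A ↔ a ∈ Set.range (algebraMap K A) := by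
  unfold scal
  rw [LinearMap.mem_range]
  rfl

omit [Algebra.IsCentral K A] in
theorem finrank_scal_le : finrank K (scal K A) ≤ 1 := by
  have := LinearMap.finrank_range_le (Algebra.linearMap K A)
  rwa [Module.finrank_self] at this

omit [Algebra.IsCentral K A] in
theorem finrank_ker_ge (T : A →ₗ[K] K) : finrank K A ≤ finrank K (LinearMap.ker T) + 1 := by
  have h1 := LinearMap.finrank_range_add_finrank_ker T
  have h2 : finrank K (LinearMap.range T) ≤ 1 := by
    have := Submodule.finrank_le (LinearMap.range T)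
    rwa [Module.finrank_self] at this
  omega

theorem case_two (hA : finrank K A = 2 * 2) :
    ∃ (θ : A) (c : K), θ ^ 2 = algebraMap K A c ∧ θ ∉ Set.range (algebraMap K A) := by
  obtain ⟨K₁, _, _, ⟨f⟩⟩ := exists_rep K A 2 hA
  have hinj : Function.Injective f := f.toRingHom.injective
  have h1 := finrank_ker_ge K A (redTrace K A)
  have h2 := finrank_scal_le K A
  have h3 : ¬ LinearMap.ker (redTrace K A) ≤ scal K A := by
    intro hle
    have := Submodule.finrank_mono hle
    omega
  obtain ⟨θ, hθ1, hθ2⟩ := SetLike.not_le_iff_exists.1 h3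
  rw [mem_scal] at hθ2
  refine ⟨θ, -(redNorm K A θ), ?_, hθ2⟩
  apply hinj
  have hT : Matrix.trace (f θ) = 0 := by
    rw [← algebraMap_redTrace K A K₁ 2 hA f θ, LinearMap.mem_ker.1 hθ1, map_zero]
  have hN : Matrix.det (f θ) = algebraMap K K₁ (redNorm K A θ) :=
    (algebraMap_redNorm K A K₁ 2 hA f θ).symm
  have hCH := Matrix.aeval_self_charpoly (f θ)
  rw [Matrix.charpoly_fin_two, hT] at hCH
  simp only [map_zero, zero_mul, sub_zero, map_add, map_pow, Polynomial.aeval_X,
    Polynomial.aeval_C] at hCH
  rw [map_pow, AlgHom.commutes, eq_neg_of_add_eq_zero_left hCH, hN, map_neg,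
    ← IsScalarTower.algebraMap_apply]

theorem case_three (hA : finrank K A = 3 * 3) :
    ∃ (θ : A) (c : K), θ ^ 3 = algebraMap K A c ∧ θ ∉ Set.range (algebraMap K A) := by
  classical
  obtain ⟨K₁, _, _, ⟨f⟩⟩ := exists_rep K A 3 hA
  have hinj : Function.Injective f := f.toRingHom.injective
  -- an element outside the scalars
  have hx : ∃ x : A, x ∉ scal K A := by
    by_contra hcon
    push Not at hcon
    have h1 : scal K A = ⊤ := eq_top_iff.2 (fun a _ => hcon a)
    have h2 := finrank_scal_le K A
    rw [h1, finrank_top] at h2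
    omega
  obtain ⟨x, hx⟩ := hx
  -- the span of 1, x, x²
  let W : Submodule K A := Submodule.span K (({1, x, x ^ 2} : Finset A) : Set A)
  have hWdim : finrank K W ≤ 3 :=
    (finrank_span_finset_le_card ({1, x, x ^ 2} : Finset A)).trans Finset.card_le_three
  have h1W : (1 : A) ∈ W := Submodule.subset_span (by simp)
  have hxW : x ∈ W := Submodule.subset_span (by simp)
  have hx2W : x ^ 2 ∈ W := Submodule.subset_span (by simp)
  have hsm : ∀ (c : K) (w : A), w ∈ W → algebraMap K A c * w ∈ W := fun c w hw => by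
    rw [← Algebra.smul_def]; exact W.smul_mem c hw
  have hx3W : x ^ 3 ∈ W := by
    have hd : deg K A = 3 := (eq_deg K A 3 hA).symm
    have hm := redCharpoly_monic K A x
    have hn := redCharpoly_natDegree K A x
    rw [hd] at hn
    have hz := aeval_redCharpoly K A x
    rw [hm.as_sum, hn] at hz
    simp only [map_add, map_pow, aeval_X, map_sum, map_mul, aeval_C, Finset.sum_range_succ,
      Finset.sum_range_zero, zero_add, pow_zero, pow_one, map_one] at hz
    rw [eq_neg_of_add_eq_zero_left hz]
    exact W.neg_mem (W.add_mem (W.add_mem (hsm _ _ h1W) (hsm _ _ hxW)) (hsm _ _ hx2W))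
  have hxmul : ∀ w ∈ W, x * w ∈ W := by
    intro w hw
    induction hw using Submodule.span_induction with
    | mem w hw =>
      simp only [Finset.coe_insert, Finset.coe_singleton, Set.mem_insert_iff,
        Set.mem_singleton_iff] at hw
      rcases hw with rfl | rfl | rfl
      · simpa using hxW
      · rw [← sq]; exact hx2W
      · rw [← pow_succ']; exact hx3W
    | zero => simp
    | add a b _ _ ha hb => rw [mul_add]; exact W.add_mem ha hb
    | smul c a _ ha => rw [mul_smul_comm]; exact W.smul_mem c ha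
  have hmul : ∀ a ∈ W, ∀ w ∈ W, a * w ∈ W := by
    intro a ha
    induction ha using Submodule.span_induction with
    | mem a ha =>
      simp only [Finset.coe_insert, Finset.coe_singleton, Set.mem_insert_iff,
        Set.mem_singleton_iff] at ha
      rcases ha with rfl | rfl | rfl
      · intro w hw; simpa using hw
      · exact hxmul
      · intro w hw; rw [sq, mul_assoc]; exact hxmul _ (hxmul w hw)
    | zero => intro w _; simp
    | add a b _ _ ha hb => intro w hw; rw [add_mul]; exact W.add_mem (ha w hw) (hb w hw)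
    | smul c a _ ha => intro w hw; rw [smul_mul_assoc]; exact W.smul_mem c (ha w hw)
  have hinv : ∀ m ∈ W, m ≠ 0 → m⁻¹ ∈ W := by
    intro m hm hm0
    let L : W →ₗ[K] W := (LinearMap.mulLeft K m).restrict (fun w hw => hmul m hm w hw)
    have hLinj : Function.Injective L := by
      rw [injective_iff_map_eq_zero]
      intro w hw
      have h1 : m * (w : A) = 0 := congrArg Subtype.val hw
      exact Subtype.ext ((mul_eq_zero.1 h1).resolve_left hm0)
    obtain ⟨w, hw⟩ := (LinearMap.injective_iff_surjective.1 hLinj) ⟨1, h1W⟩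
    have h1 : m * (w : A) = 1 := congrArg Subtype.val hw
    have h2 : (w : A) = m⁻¹ := eq_inv_of_mul_eq_one_right h1
    rw [← h2]; exact w.2
  -- the orthogonal of W
  let Φ : A →ₗ[K] (Fin 3 → K) := LinearMap.pi
    ![redTrace K A, (redTrace K A) ∘ₗ LinearMap.mulLeft K x,
      (redTrace K A) ∘ₗ LinearMap.mulLeft K (x ^ 2)]
  have hΦker : 6 ≤ finrank K (LinearMap.ker Φ) := by
    have h1 := LinearMap.finrank_range_add_finrank_ker Φ
    have h2 : finrank K (LinearMap.range Φ) ≤ 3 := by
      have := Submodule.finrank_le (LinearMap.range Φ)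
      simpa using this
    omega
  have h3 : ¬ LinearMap.ker Φ ≤ W := by
    intro hle
    have := Submodule.finrank_mono hle
    omega
  obtain ⟨y, hy1, hy2⟩ := SetLike.not_le_iff_exists.1 h3
  have hy0 : y ≠ 0 := fun h => hy2 (h ▸ W.zero_mem)
  have hΦy : Φ y = 0 := LinearMap.mem_ker.1 hy1
  have hTW : ∀ l ∈ W, redTrace K A (l * y) = 0 := by
    intro l hl
    induction hl using Submodule.span_induction with
    | mem l hl =>
      simp only [Finset.coe_insert, Finset.coe_singleton, Set.mem_insert_iff,
        Set.mem_singleton_iff] at hl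
      rcases hl with rfl | rfl | rfl
      · have := congrFun hΦy 0
        simpa [Φ] using this
      · have := congrFun hΦy 1
        simpa [Φ] using this
      · have := congrFun hΦy 2
        simpa [Φ] using this
    | zero => simp
    | add a b _ _ ha hb => rw [add_mul, map_add, ha, hb, add_zero]
    | smul c a _ ha => rw [smul_mul_assoc, map_smul, ha, smul_zero]
  -- the element m
  have hm : ∃ m ∈ W, m ≠ 0 ∧ redTrace K A (y⁻¹ * m) = 0 := by
    by_cases hT1 : redTrace K A y⁻¹ = 0
    · exact ⟨1, h1W, one_ne_zero, by rw [mul_one, hT1]⟩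
    · refine ⟨x - algebraMap K A (redTrace K A (y⁻¹ * x) / redTrace K A y⁻¹),
        W.sub_mem hxW (by
          have := hsm (redTrace K A (y⁻¹ * x) / redTrace K A y⁻¹) 1 h1W
          rwa [mul_one] at this), ?_, ?_⟩
      · intro h
        apply hx
        rw [mem_scal]
        exact ⟨_, (sub_eq_zero.1 h).symm⟩
      · rw [mul_sub, map_sub, ← Algebra.commutes, ← Algebra.smul_def, map_smul, smul_eq_mul,
          div_mul_cancel₀ _ hT1, sub_self]
  obtain ⟨m, hmW, hm0, hTm⟩ := hm
  have hθ0 : m⁻¹ * y ≠ 0 := mul_ne_zero (inv_ne_zero hm0) hy0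
  have hθW : m⁻¹ * y ∉ W := by
    intro h
    apply hy2
    have := hmul m hmW _ h
    rwa [← mul_assoc, mul_inv_cancel₀ hm0, one_mul] at this
  have hθs : m⁻¹ * y ∉ Set.range (algebraMap K A) := by
    rintro ⟨c, hc⟩
    apply hθW
    rw [← hc, ← mul_one (algebraMap K A c)]
    exact hsm c 1 h1W
  have hTθ : redTrace K A (m⁻¹ * y) = 0 := hTW _ (hinv m hmW hm0)
  have hTθ' : redTrace K A (m⁻¹ * y)⁻¹ = 0 := by
    rw [mul_inv_rev, inv_inv]; exact hTm
  refine ⟨m⁻¹ * y, redNorm K A (m⁻¹ * y), ?_, hθs⟩
  set θ := m⁻¹ * y with hθdef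
  apply hinj
  have hM1 : f θ * f θ⁻¹ = 1 := by rw [← map_mul, mul_inv_cancel₀ hθ0, map_one]
  have hM2 : f θ⁻¹ * f θ = 1 := by rw [← map_mul, inv_mul_cancel₀ hθ0, map_one]
  have ht : Matrix.trace (f θ) = 0 := by
    rw [← algebraMap_redTrace K A K₁ 3 hA f θ, hTθ, map_zero]
  have ht' : Matrix.trace (f θ⁻¹) = 0 := by
    rw [← algebraMap_redTrace K A K₁ 3 hA f θ⁻¹, hTθ', map_zero]
  have hN : Matrix.det (f θ) = algebraMap K K₁ (redNorm K A θ) :=
    (algebraMap_redNorm K A K₁ 3 hA f θ).symm
  have hadj : (f θ).adjugate = (f θ).det • f θ⁻¹ := by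
    calc (f θ).adjugate = (f θ).adjugate * (f θ * f θ⁻¹) := by rw [hM1, mul_one]
      _ = ((f θ).adjugate * f θ) * f θ⁻¹ := by rw [mul_assoc]
      _ = (f θ).det • f θ⁻¹ := by rw [Matrix.adjugate_mul, Matrix.smul_mul, one_mul]
  have hC := cayley3 (f θ)
  rw [hadj, Matrix.trace_smul, ht, ht', smul_zero, zero_smul, zero_smul, sub_zero, add_zero,
    sub_eq_zero] at hC
  rw [map_pow, pow_succ, pow_two, hC, hN, AlgHom.commutes, algebraMap_smul,
    ← Algebra.algebraMap_eq_smul_one]

end cases

theorem result15184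
    (K : Type u) [Field K] (p : ℕ) [Fact p.Prime] [CharP K p]
    (A : Type v) [DivisionRing A] [Algebra K A] [Algebra.IsCentral K A] [FiniteDimensional K A]
    (hA : Module.finrank K A = p ^ 2) (hp : p = 2 ∨ p = 3) :
    ∃ v : A, ¬ IsSeparable K v := by
  rcases hp with rfl | rfl
  · obtain ⟨θ, c, h1, h2⟩ := case_two K A (by rw [hA]; norm_num)
    exact ⟨θ, not_isSeparable_of_pow_mem K 2 A θ c h1 h2⟩
  · obtain ⟨θ, c, h1, h2⟩ := case_three K A (by rw [hA]; norm_num)
    exact ⟨θ, not_isSeparable_of_pow_mem K 3 A θ c h1 h2⟩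

end Groth.Agent.Helper7.Insep23
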