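import Mathlib

set_option autoImplicit false
universe u
open TensorProduct Polynomial

namespace Groth.Agent.Helper7.InsepNil

theorem aux (k E K : Type u) [Field k] [Field E]
    [Algebra k E] [FiniteDimensional k E] [Field K] [Algebra k K] [IsAlgClosed K]
    (h : ¬ Algebra.IsSeparable k E) : ∃ x : K ⊗[k] E, x ≠ 0 ∧ IsNilpotent x := by
  rw [Algebra.isSeparable_def] at h
  push_neg at h
  obtain ⟨α, hα⟩ := h
  have hint : IsIntegral k α := Algebra.IsIntegral.isIntegral α
  set f := minpoly k α with hf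
  have hirr : Irreducible f := minpoly.irreducible hint
  have hder : derivative f = 0 := by
    by_contra hne
    exact hα ((Polynomial.separable_iff_derivative_ne_zero hirr).mpr hne)
  set fK := f.map (algebraMap k K) with hfK
  have hfK0 : fK ≠ 0 := (Polynomial.map_ne_zero_iff (algebraMap k K).injective).mpr hirr.ne_zero
  have hdeg : fK.natDegree = f.natDegree := Polynomial.natDegree_map _
  have hdpos : 0 < f.natDegree := minpoly.natDegree_pos hint
  obtain ⟨r, hr⟩ := IsAlgClosed.exists_root fK (by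
    rw [Polynomial.degree_eq_natDegree hfK0, hdeg]
    exact_mod_cast hdpos.ne')
  have hderK : derivative fK = 0 := by rw [hfK, Polynomial.derivative_map, hder, Polynomial.map_zero]
  have hmult : 1 < fK.rootMultiplicity r := by
    rw [Polynomial.one_lt_rootMultiplicity_iff_isRoot hfK0]
    exact ⟨hr, by rw [hderK]; simp [IsRoot]⟩
  obtain ⟨q, hq⟩ := (Polynomial.le_rootMultiplicity_iff hfK0).mp hmult
  -- fK = (X - C r)^2 * q
  set G := (X - C r) * q with hG
  have hq0 : q ≠ 0 := by rintro rfl; exact hfK0 (by rw [hq, mul_zero])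
  have hG0 : G ≠ 0 := mul_ne_zero (Polynomial.X_sub_C_ne_zero r) hq0
  have hGdeg : G.natDegree < f.natDegree := by
    have h1 : fK.natDegree = 2 + q.natDegree := by
      rw [hq, Polynomial.natDegree_mul (pow_ne_zero _ (Polynomial.X_sub_C_ne_zero r)) hq0,
        Polynomial.natDegree_pow, Polynomial.natDegree_X_sub_C]
    have h2 : G.natDegree = 1 + q.natDegree := by
      rw [hG, Polynomial.natDegree_mul (Polynomial.X_sub_C_ne_zero r) hq0,
        Polynomial.natDegree_X_sub_C]
    omega
  have hGsq : G ^ 2 = fK * q := by rw [hG, hq]; ring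
  set θ : K ⊗[k] E := (1 : K) ⊗ₜ[k] α with hθ
  have hθf : aeval θ fK = 0 := by
    rw [hfK, Polynomial.aeval_map_algebraMap]
    have : θ = (Algebra.TensorProduct.includeRight : E →ₐ[k] K ⊗[k] E) α := rfl
    rw [this, Polynomial.aeval_algHom_apply, hf, minpoly.aeval, map_zero]
  refine ⟨aeval θ G, ?_, 2, ?_⟩
  · intro hzero
    have hLI : LinearIndependent K (fun i : Fin f.natDegree => (1 : K) ⊗ₜ[k] (α ^ (i : ℕ))) :=
      Module.Flat.linearIndependent_one_tmul (S := K) (linearIndependent_pow (K := k) α)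
    rw [Polynomial.aeval_eq_sum_range' hGdeg] at hzero
    have hpow : ∀ i : ℕ, θ ^ i = (1 : K) ⊗ₜ[k] (α ^ i) := fun i => by
      rw [hθ, Algebra.TensorProduct.tmul_pow, one_pow]
    simp only [hpow] at hzero
    rw [← Fin.sum_univ_eq_sum_range (fun i => G.coeff i • ((1 : K) ⊗ₜ[k] (α ^ i))) f.natDegree] at hzero
    have hcoef := Fintype.linearIndependent_iff.mp hLI (fun i => G.coeff i) hzero
    apply hG0
    ext i
    by_cases hi : i < f.natDegree
    · simpa using hcoef ⟨i, hi⟩
    · rw [Polynomial.coeff_eq_zero_of_natDegree_lt (by omega)]; simp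
  · rw [← map_pow, hGsq, map_mul, hθf, zero_mul]

theorem result (k E K : Type u) [Field k] [Field E]
    [Algebra k E] [FiniteDimensional k E] [Field K] [Algebra k K] [IsAlgClosure k K]
    (h : ¬ Algebra.IsSeparable k E) : ∃ x : E ⊗[k] K, x ≠ 0 ∧ IsNilpotent x := by
  haveI : IsAlgClosed K := IsAlgClosure.isAlgClosed k
  obtain ⟨x, hx0, hxn⟩ := aux k E K h
  refine ⟨Algebra.TensorProduct.comm k K E x, ?_, hxn.map _⟩
  intro h0
  exact hx0 ((Algebra.TensorProduct.comm k K E).injective (by rw [h0, map_zero]))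

end Groth.Agent.Helper7.InsepNil
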