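import Mathlib
import Groth.Agent.Helper7.Cosep

set_option autoImplicit false
set_option linter.unusedSectionVars false
universe u v w w'

namespace Groth.Agent.Helper7.Comodule

open TensorProduct HopfRep

section Gal

variable {K : Type u} {A : Type v} [Field K] [CommRing A] [HopfAlgebra K A]

/-- `x ⊗ b ↦ Σ x f(b₁) ⊗ b₂` -/
noncomputable def twA (f : A →ₗ[K] A) : A ⊗[K] A →ₗ[A] A ⊗[K] A :=
  LinearMap.liftBaseChange A (LinearMap.rTensor A f ∘ₗ CoalgebraStruct.comul (R := K) (A := A))

lemma twA_tmul (f : A →ₗ[K] A) (x b : A) :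
    twA f (x ⊗ₜ[K] b) = x • LinearMap.rTensor A f (CoalgebraStruct.comul (R := K) b) := by
  rw [twA, LinearMap.liftBaseChange_tmul]
  rfl

private lemma tw_aux (f g : A →ₗ[K] A) (u : A) (y : A ⊗[K] A) :
    LinearMap.rTensor A (LinearMap.mul' K A ∘ₗ TensorProduct.map g f)
      ((TensorProduct.assoc K A A A).symm (u ⊗ₜ[K] y)) = g u • LinearMap.rTensor A f y := by
  induction y using TensorProduct.induction_on with
  | zero => simp
  | tmul p q => simp [TensorProduct.smul_tmul']
  | add x y hx hy => simp only [TensorProduct.tmul_add, map_add, smul_add, hx, hy]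

lemma twA_rTensor (f g : A →ₗ[K] A) (y : A ⊗[K] A) :
    twA f (LinearMap.rTensor A g y) =
      LinearMap.rTensor A (LinearMap.mul' K A ∘ₗ TensorProduct.map g f)
        ((TensorProduct.assoc K A A A).symm
          (LinearMap.lTensor A (CoalgebraStruct.comul (R := K) (A := A)) y)) := by
  induction y using TensorProduct.induction_on with
  | zero => simp
  | tmul u b => rw [LinearMap.rTensor_tmul, twA_tmul, LinearMap.lTensor_tmul, tw_aux]
  | add x y hx hy => simp only [map_add, hx, hy]

lemma twA_twA (f g : A →ₗ[K] A) (x b : A) :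
    twA f (twA g (x ⊗ₜ[K] b)) =
      x • LinearMap.rTensor A (LinearMap.mul' K A ∘ₗ TensorProduct.map g f ∘ₗ
        CoalgebraStruct.comul (R := K) (A := A)) (CoalgebraStruct.comul (R := K) b) := by
  rw [twA_tmul, map_smul, twA_rTensor, Coalgebra.coassoc_symm_apply, ← LinearMap.comp_apply,
    ← LinearMap.rTensor_comp, LinearMap.comp_assoc]

private lemma rTensor_unit_counit (b : A) :
    LinearMap.rTensor A (Algebra.linearMap K A ∘ₗ CoalgebraStruct.counit (R := K) (A := A))
      (CoalgebraStruct.comul (R := K) b) = (1 : A) ⊗ₜ[K] b := by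
  rw [LinearMap.rTensor_comp, LinearMap.comp_apply, Coalgebra.rTensor_counit_comul]
  simp

lemma twA_antipode_id (z : A ⊗[K] A) :
    twA (HopfAlgebra.antipode K (A := A)) (twA LinearMap.id z) = z := by
  induction z using TensorProduct.induction_on with
  | zero => simp
  | tmul x b =>
    rw [twA_twA]
    have : LinearMap.mul' K A ∘ₗ TensorProduct.map LinearMap.id (HopfAlgebra.antipode K (A := A)) ∘ₗ
        CoalgebraStruct.comul (R := K) (A := A) =
        Algebra.linearMap K A ∘ₗ CoalgebraStruct.counit (R := K) (A := A) :=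
      HopfAlgebra.mul_antipode_lTensor_comul
    rw [this, rTensor_unit_counit, TensorProduct.smul_tmul', smul_eq_mul, mul_one]
  | add x y hx hy => simp only [map_add, hx, hy]

lemma twA_id_antipode (z : A ⊗[K] A) :
    twA LinearMap.id (twA (HopfAlgebra.antipode K (A := A)) z) = z := by
  induction z using TensorProduct.induction_on with
  | zero => simp
  | tmul x b =>
    rw [twA_twA]
    have : LinearMap.mul' K A ∘ₗ TensorProduct.map (HopfAlgebra.antipode K (A := A)) LinearMap.id ∘ₗ
        CoalgebraStruct.comul (R := K) (A := A) =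
        Algebra.linearMap K A ∘ₗ CoalgebraStruct.counit (R := K) (A := A) :=
      HopfAlgebra.mul_antipode_rTensor_comul
    rw [this, rTensor_unit_counit, TensorProduct.smul_tmul', smul_eq_mul, mul_one]
  | add x y hx hy => simp only [map_add, hx, hy]

lemma twA_id_tmul (x b : A) :
    twA (LinearMap.id : A →ₗ[K] A) (x ⊗ₜ[K] b) = x • CoalgebraStruct.comul (R := K) b := by
  rw [twA_tmul, LinearMap.rTensor_id, LinearMap.id_apply]

lemma twA_id_surjective : Function.Surjective (twA (LinearMap.id : A →ₗ[K] A)) :=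
  fun z => ⟨_, twA_id_antipode z⟩

/-- `x ⊗ b ↦ Δ(x) (1 ⊗ S b)` -/
noncomputable def galE : A ⊗[K] A →ₗ[K] A ⊗[K] A :=
  LinearMap.lTensor A (LinearMap.mul' K A ∘ₗ LinearMap.lTensor A (HopfAlgebra.antipode K (A := A))) ∘ₗ
    (TensorProduct.assoc K A A A).toLinearMap ∘ₗ
      LinearMap.rTensor A (CoalgebraStruct.comul (R := K) (A := A))

private lemma galE_aux (b : A) (y : A ⊗[K] A) :
    LinearMap.lTensor A (LinearMap.mul' K A ∘ₗ LinearMap.lTensor A (HopfAlgebra.antipode K (A := A)))
      ((TensorProduct.assoc K A A A) (y ⊗ₜ[K] b)) =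
      y * ((1 : A) ⊗ₜ[K] HopfAlgebra.antipode K b) := by
  induction y using TensorProduct.induction_on with
  | zero => simp
  | tmul p q => simp
  | add x y hx hy => simp only [TensorProduct.add_tmul, map_add, add_mul, hx, hy]

lemma galE_tmul (x b : A) :
    galE (K := K) (x ⊗ₜ[K] b) =
      CoalgebraStruct.comul (R := K) x * ((1 : A) ⊗ₜ[K] HopfAlgebra.antipode K b) := by
  rw [galE, LinearMap.coe_comp, LinearMap.coe_comp, Function.comp_apply, Function.comp_apply,
    LinearMap.rTensor_tmul, LinearEquiv.coe_coe, galE_aux]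

lemma galE_comul (a : A) :
    galE (K := K) (CoalgebraStruct.comul (R := K) a) = a ⊗ₜ[K] (1 : A) := by
  rw [galE, LinearMap.coe_comp, LinearMap.coe_comp, Function.comp_apply, Function.comp_apply,
    LinearEquiv.coe_coe, Coalgebra.coassoc_apply, ← LinearMap.comp_apply, ← LinearMap.lTensor_comp,
    LinearMap.comp_assoc, HopfAlgebra.mul_antipode_lTensor_comul, LinearMap.lTensor_comp,
    LinearMap.comp_apply, Coalgebra.lTensor_counit_comul]
  simp

lemma galE_smul (c : A) (y : A ⊗[K] A) :
    galE (K := K) (c • y) = CoalgebraStruct.comul (R := K) c * galE (K := K) y := by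
  induction y using TensorProduct.induction_on with
  | zero => simp
  | tmul x b =>
    rw [TensorProduct.smul_tmul', smul_eq_mul, galE_tmul, galE_tmul, Bialgebra.comul_mul, mul_assoc]
  | add x y hx hy => simp only [smul_add, map_add, mul_add, hx, hy]

lemma sliceR_mul_tmul_one (g : A →ₗ[K] K) (z : A ⊗[K] A) (a : A) :
    sliceR g (z * (a ⊗ₜ[K] (1 : A))) = sliceR g z * a := by
  induction z using TensorProduct.induction_on with
  | zero => simp
  | tmul p q => simp
  | add x y hx hy => simp only [add_mul, map_add, hx, hy]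

/-- the pairing `c ⊗ a ↦ l (c S(a))` -/
noncomputable def pairing (l : A →ₗ[K] K) : A ⊗[K] A →ₗ[K] K :=
  l ∘ₗ LinearMap.mul' K A ∘ₗ LinearMap.lTensor A (HopfAlgebra.antipode K (A := A))

private lemma sliceL_aux (κ : A ⊗[K] A →ₗ[K] K) (c : A) (y : A ⊗[K] A) :
    sliceL κ ((TensorProduct.assoc K A A A).symm (c ⊗ₜ[K] y)) = sliceL (kL κ c) y := by
  induction y using TensorProduct.induction_on with
  | zero => simp
  | tmul p q => simp
  | add x y hx hy => simp only [TensorProduct.tmul_add, map_add, hx, hy]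

/-- a left-invariant functional gives a balanced pairing -/
lemma pairing_bal (l : A →ₗ[K] K)
    (hl : ∀ a : A, sliceR l (CoalgebraStruct.comul (R := K) a) = l a • (1 : A)) (c a : A) :
    sliceR (kR (pairing l) a) (CoalgebraStruct.comul (R := K) c) =
      sliceL (kL (pairing l) c) (CoalgebraStruct.comul (R := K) a) := by
  -- both sides as linear maps in `c ⊗ a`
  let Q : A ⊗[K] A →ₗ[K] A := retr (W := A) (pairing l)
  let Q' : A ⊗[K] A →ₗ[K] A := sliceL (pairing l) ∘ₗ
    (TensorProduct.assoc K A A A).symm.toLinearMap ∘ₗ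
      LinearMap.lTensor A (CoalgebraStruct.comul (R := K) (A := A))
  have hQ : ∀ c a : A, Q (c ⊗ₜ[K] a) =
      sliceR (kR (pairing l) a) (CoalgebraStruct.comul (R := K) c) := fun c a => retr_tmul _ c a
  have hQ' : ∀ c a : A, Q' (c ⊗ₜ[K] a) =
      sliceL (kL (pairing l) c) (CoalgebraStruct.comul (R := K) a) := by
    intro c a
    change sliceL (pairing l) ((TensorProduct.assoc K A A A).symm
      (LinearMap.lTensor A (CoalgebraStruct.comul (R := K) (A := A)) (c ⊗ₜ[K] a))) = _
    rw [LinearMap.lTensor_tmul, sliceL_aux]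
  rw [← hQ, ← hQ']
  -- `Q = sliceR l ∘ galE`
  have hQE : ∀ z, Q z = sliceR l (galE (K := K) z) := by
    intro z
    change sliceR (pairing l) ((TensorProduct.assoc K A A A)
      (LinearMap.rTensor A (CoalgebraStruct.comul (R := K) (A := A)) z)) = _
    rw [pairing, ← sliceR_lTensor]
    rfl
  -- `Q' = sliceL l ∘ twA S`
  have hQ'E : ∀ z, Q' z = sliceL l (twA (HopfAlgebra.antipode K (A := A)) z) := by
    intro z
    change sliceL (pairing l) ((TensorProduct.assoc K A A A).symm
      (LinearMap.lTensor A (CoalgebraStruct.comul (R := K) (A := A)) z)) = _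
    rw [pairing, ← sliceL_rTensor]
    have h1 := twA_rTensor (HopfAlgebra.antipode K (A := A)) LinearMap.id z
    rw [LinearMap.rTensor_id, LinearMap.id_apply] at h1
    rw [h1]
    rfl
  have key : ∀ t : A ⊗[K] A, Q (twA LinearMap.id t) = Q' (twA LinearMap.id t) := by
    intro t
    rw [hQ'E, twA_antipode_id, hQE]
    induction t using TensorProduct.induction_on with
    | zero => simp
    | tmul x b =>
      rw [twA_id_tmul, galE_smul, galE_comul, sliceR_mul_tmul_one, hl, sliceL_tmul]
      simp
    | add x y hx hy => simp only [map_add, hx, hy]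
  obtain ⟨t, ht⟩ := twA_id_surjective (K := K) (c ⊗ₜ[K] a)
  rw [← ht, key]

lemma pairing_counit (l : A →ₗ[K] K) (h1 : l 1 = 1) (c : A) :
    pairing l (CoalgebraStruct.comul (R := K) c) = CoalgebraStruct.counit (R := K) c := by
  rw [pairing, LinearMap.comp_apply, ← LinearMap.comp_apply (f := LinearMap.mul' K A ∘ₗ _),
    LinearMap.comp_assoc, HopfAlgebra.mul_antipode_lTensor_comul, LinearMap.comp_apply,
    Algebra.linearMap_apply, Algebra.algebraMap_eq_smul_one, map_smul, h1, smul_eq_mul, mul_one]

/-- a normalized left-invariant functional on a Hopf algebra makes all comodules semisimple -/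
theorem isCosepPairing_of_integral (l : A →ₗ[K] K)
    (hl : ∀ a : A, sliceR l (CoalgebraStruct.comul (R := K) a) = l a • (1 : A)) (h1 : l 1 = 1) :
    IsCosepPairing (pairing l) :=
  ⟨pairing_counit l h1, pairing_bal l hl⟩

end Gal

end Groth.Agent.Helper7.Comodule
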