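import Mathlib
import Groth.Agent.Helper7.IntA
import Groth.Agent.Helper7.ComodI

set_option autoImplicit false
set_option linter.unusedSectionVars false
universe u v w w'

namespace Groth.Agent.Helper7.Comodule

open TensorProduct HopfRep

section Trace

variable {K : Type u} {A : Type v} [Field K] [CommRing A] [HopfAlgebra K A] [Module.Finite K A]

lemma mulLeft_tmul_eq (c b : A) :
    LinearMap.mulLeft A (c ⊗ₜ[K] b : A ⊗[K] A) = c • (LinearMap.mulLeft K b).baseChange A := by
  apply TensorProduct.AlgebraTensorModule.ext
  intro x y
  simp [TensorProduct.smul_tmul']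

lemma trace_mulLeft (z : A ⊗[K] A) :
    LinearMap.trace A (A ⊗[K] A) (LinearMap.mulLeft A z) = sliceR (Algebra.trace K A) z := by
  induction z using TensorProduct.induction_on with
  | zero => simp
  | tmul c b =>
    rw [mulLeft_tmul_eq, map_smul, LinearMap.trace_baseChange, sliceR_tmul, Algebra.trace_apply,
      smul_eq_mul, Algebra.smul_def, mul_comm]
    rfl
  | add x y hx hy =>
    have : LinearMap.mulLeft A (x + y) = LinearMap.mulLeft A x + LinearMap.mulLeft A y := by
      apply LinearMap.ext
      intro t
      simp [add_mul]
    rw [this, map_add, map_add, hx, hy]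

lemma trace_leftInvariant (a : A) :
    sliceR (Algebra.trace K A) (CoalgebraStruct.comul (R := K) a) =
      Algebra.trace K A a • (1 : A) := by
  have h1 : ∀ t : A ⊗[K] A, LinearMap.mulLeft A (CoalgebraStruct.comul (R := K) a)
      (twA LinearMap.id t) = twA LinearMap.id ((LinearMap.mulLeft K a).baseChange A t) := by
    intro t
    induction t using TensorProduct.induction_on with
    | zero => simp
    | tmul x b =>
      rw [LinearMap.baseChange_tmul, twA_id_tmul, twA_id_tmul, LinearMap.mulLeft_apply,
        LinearMap.mulLeft_apply, Bialgebra.comul_mul, mul_smul_comm]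
    | add x y hx hy => simp only [map_add, hx, hy]
  have h2 : LinearMap.mulLeft A (CoalgebraStruct.comul (R := K) a) =
      (twA LinearMap.id * (LinearMap.mulLeft K a).baseChange A) *
        twA (HopfAlgebra.antipode K (A := A)) := by
    apply LinearMap.ext
    intro z
    rw [Module.End.mul_apply, Module.End.mul_apply, ← h1, twA_id_antipode]
  have h3 : twA (HopfAlgebra.antipode K (A := A)) * twA LinearMap.id = 1 := by
    apply LinearMap.ext
    intro z
    rw [Module.End.mul_apply, twA_antipode_id, Module.End.one_apply]
  rw [← trace_mulLeft, h2, LinearMap.trace_mul_comm, ← mul_assoc, h3, one_mul,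
    LinearMap.trace_baseChange, Algebra.trace_apply, Algebra.algebraMap_eq_smul_one]
  rfl

end Trace

end Groth.Agent.Helper7.Comodule

namespace Groth.Agent.Helper7.Comodule

open TensorProduct HopfRep

section Final

variable {K : Type u} {A : Type v} [Field K] [CommRing A] [HopfAlgebra K A] [Module.Finite K A]

lemma sliceR_smul_fn {M : Type*} [AddCommGroup M] [Module K M] (c : K) (g : A →ₗ[K] K)
    (z : M ⊗[K] A) : sliceR (c • g) z = c • sliceR g z := by
  induction z using TensorProduct.induction_on with
  | zero => simp
  | tmul m a => simp [mul_smul]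
  | add x y hx hy => simp only [map_add, smul_add, hx, hy]

/-- a finite group scheme whose order is invertible is linearly reductive: Maschke -/
theorem isSemisimpleModule_of_finrank_ne_zero (hn : (Module.finrank K A : K) ≠ 0)
    (V : Type w) [AddCommGroup V] [Module K V] [Comod K A V] :
    IsSemisimpleModule (Dual K A) V := by
  let l : A →ₗ[K] K := (Module.finrank K A : K)⁻¹ • Algebra.trace K A
  have hl : ∀ a : A, sliceR l (CoalgebraStruct.comul (R := K) a) = l a • (1 : A) := by
    intro a
    change sliceR ((Module.finrank K A : K)⁻¹ • Algebra.trace K A) _ =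
      ((Module.finrank K A : K)⁻¹ • Algebra.trace K A a) • (1 : A)
    rw [sliceR_smul_fn, trace_leftInvariant, smul_assoc]
  have h1 : l 1 = 1 := by
    change (Module.finrank K A : K)⁻¹ • Algebra.trace K A (1 : A) = 1
    have : Algebra.trace K A (1 : A) = (Module.finrank K A : K) := by
      have := Algebra.trace_algebraMap (R := K) (S := A) (1 : K)
      rw [map_one] at this
      rw [this]
      simp
    rw [this, smul_eq_mul, inv_mul_cancel₀ hn]
  exact isSemisimpleModule_of_cosep (isCosepPairing_of_integral l hl h1)

/-- S14847 -/
theorem cosemisimple_of_charZero [CharZero K] :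
    ∃ (ι : Type v) (D : ι → Submodule K A), iSupIndep D ∧ iSup D = ⊤ ∧ ∀ i,
        D i ≠ ⊥ ∧ (∀ b ∈ D i, CoalgebraStruct.comul (R := K) b ∈
          LinearMap.range (TensorProduct.map (D i).subtype (D i).subtype)) ∧
        ∀ B : Submodule K A, B ≤ D i → (∀ b ∈ B, CoalgebraStruct.comul (R := K) b ∈
          LinearMap.range (TensorProduct.map B.subtype B.subtype)) → B = ⊥ ∨ B = D i := by
  rw [cosemisimple_iff]
  intro V _ _ _
  have hnt : Nontrivial A := by
    refine ⟨⟨1, 0, fun h => ?_⟩⟩
    have := congrArg (CoalgebraStruct.counit (R := K) (A := A)) h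
    rw [Bialgebra.counit_one, map_zero] at this
    exact one_ne_zero this
  have hn : (Module.finrank K A : K) ≠ 0 :=
    Nat.cast_ne_zero.2 (Module.finrank_pos (R := K) (M := A)).ne'
  have := isSemisimpleModule_of_finrank_ne_zero hn V
  exact isSemisimpleComod_of_isSemisimpleModule

end Final

end Groth.Agent.Helper7.Comodule
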