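import Groth.Agent.Helper7.InvCore

set_option autoImplicit false
set_option linter.style.haveILetI false
set_option linter.unusedSectionVars false
universe u v
open TensorProduct

namespace Groth.Agent.Helper7.InvBC

open Groth.Agent.Helper7.InvCore

section bc

variable {R T : Type u} [CommRing R] [CommRing T] [Algebra R T]
  {M M' : Type u} [CommRing M] [CommRing M'] [Algebra R M] [Algebra T M']
  {G : Type v}
  (ρ : G → (M →ₐ[R] M)) (ρ' : G → (M' →ₐ[T] M'))
  (α : M →+* M') (hα : ∀ g m, α (ρ g m) = ρ' g (α m))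
  (eM : T ⊗[R] M ≃+ M') (heM : ∀ (t : T) (m : M), eM (t ⊗ₜ m) = t • α m)

/-- The difference maps `ρ g - id`. -/
def dmap (g : G) : M →ₗ[R] M := (ρ g).toLinearMap - LinearMap.id

theorem dmap_apply (g : G) (m : M) : dmap ρ g m = ρ g m - m := rfl

include hα heM in
theorem eM_lTensor_dmap (g : G) (z : T ⊗[R] M) :
    eM ((dmap ρ g).lTensor T z) = ρ' g (eM z) - eM z := by
  induction z using TensorProduct.induction_on with
  | zero => simp
  | tmul t m =>
    rw [LinearMap.lTensor_tmul, dmap_apply, TensorProduct.tmul_sub, map_sub, heM, heM, hα,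
      map_smul]
  | add x y hx hy => rw [map_add, map_add, hx, hy, map_add, map_add]; abel

/-- The map to the product whose kernel is the invariants. -/
def fmap : M →ₗ[R] (G → M) := LinearMap.pi (dmap ρ)

theorem fmap_apply (m : M) (g : G) : fmap ρ m g = ρ g m - m := rfl

/-- The inclusion of the invariants. -/
def incl : (invSub ρ) →ₗ[R] M := (invSub ρ).val.toLinearMap

theorem incl_apply (k : invSub ρ) : incl ρ k = k.1 := rfl

theorem exact_incl_fmap : Function.Exact (incl ρ) (fmap ρ) := by
  intro x
  constructor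
  · intro h
    refine ⟨⟨x, fun g => ?_⟩, rfl⟩
    have := congr_fun h g
    rw [fmap_apply, Pi.zero_apply, sub_eq_zero] at this
    exact this
  · rintro ⟨k, rfl⟩
    funext g
    rw [fmap_apply, incl_apply, k.2 g, sub_self, Pi.zero_apply]

theorem lTensor_fmap_eq_zero [Finite G] (z : T ⊗[R] M)
    (hz : ∀ g, (dmap ρ g).lTensor T z = 0) : (fmap ρ).lTensor T z = 0 := by
  classical
  cases nonempty_fintype G
  apply (TensorProduct.piRight R T T (fun _ : G => M)).injective
  rw [map_zero]
  funext g
  have key : ∀ z : T ⊗[R] M, (TensorProduct.piRight R T T (fun _ : G => M))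
      ((fmap ρ).lTensor T z) g = (dmap ρ g).lTensor T z := by
    intro z
    induction z using TensorProduct.induction_on with
    | zero => simp
    | tmul t m =>
      rw [LinearMap.lTensor_tmul, TensorProduct.piRight_apply, TensorProduct.piRightHom_tmul,
        LinearMap.lTensor_tmul]
      rfl
    | add x y hx hy => rw [map_add, map_add, Pi.add_apply, hx, hy, map_add]
  rw [key, hz, Pi.zero_apply]

include hα heM in
/-- Invariants commute with flat base change. -/
theorem inv_bc [Module.Flat R T] [Finite G] :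
    ∃ e : T ⊗[R] (invSub ρ) ≃+ (invSub ρ'),
      ∀ (t : T) (k : invSub ρ), ((e (t ⊗ₜ k) : invSub ρ') : M') = t • α k := by
  let ψ₀ : T ⊗[R] (invSub ρ) →+ M' :=
    eM.toAddMonoidHom.comp ((incl ρ).lTensor T).toAddMonoidHom
  have hψ₀ : ∀ (t : T) (k : invSub ρ), ψ₀ (t ⊗ₜ k) = t • α k := by
    intro t k
    change eM ((incl ρ).lTensor T (t ⊗ₜ k)) = _
    rw [LinearMap.lTensor_tmul, heM, incl_apply]
  have hmem : ∀ w, ψ₀ w ∈ invSub ρ' := by
    intro w
    induction w using TensorProduct.induction_on with
    | zero => rw [map_zero]; exact (invSub ρ').zero_mem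
    | tmul t k =>
      rw [hψ₀]
      intro g
      rw [map_smul, ← hα, k.2 g]
    | add x y hx hy => rw [map_add]; exact (invSub ρ').add_mem hx hy
  let ψ : T ⊗[R] (invSub ρ) →+ (invSub ρ') :=
    { toFun := fun w => ⟨ψ₀ w, hmem w⟩
      map_zero' := Subtype.ext (map_zero ψ₀)
      map_add' := fun a b => Subtype.ext (map_add ψ₀ a b) }
  have hinj : Function.Injective ψ := by
    intro a b hab
    have h1 : ψ₀ a = ψ₀ b := congrArg Subtype.val hab
    have h2 : (incl ρ).lTensor T a = (incl ρ).lTensor T b := eM.injective h1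
    exact Module.Flat.lTensor_preserves_injective_linearMap (incl ρ)
      (fun x y hxy => Subtype.ext hxy) h2
  have hsurj : Function.Surjective ψ := by
    intro y
    have hz : ∀ g, (dmap ρ g).lTensor T (eM.symm y.1) = 0 := by
      intro g
      apply eM.injective
      rw [eM_lTensor_dmap ρ ρ' α hα eM heM, AddEquiv.apply_symm_apply, y.2 g, sub_self, map_zero]
    have h0 := lTensor_fmap_eq_zero (T := T) ρ (eM.symm y.1) hz
    obtain ⟨w, hw⟩ := (Module.Flat.lTensor_exact T (exact_incl_fmap ρ) _).1 h0
    refine ⟨w, Subtype.ext ?_⟩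
    change eM ((incl ρ).lTensor T w) = y.1
    rw [hw, AddEquiv.apply_symm_apply]
  exact ⟨AddEquiv.ofBijective ψ ⟨hinj, hsurj⟩, fun t k => hψ₀ t k⟩

end bc

end Groth.Agent.Helper7.InvBC
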