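import Mathlib
import Groth.Agent.Helper7.FEtRing

set_option autoImplicit false
set_option linter.style.haveILetI false
set_option linter.unusedSectionVars false
universe u v
open TensorProduct

namespace Groth.Agent.Helper7.InvCore

open Groth.Agent.Helper7.FEtRing

section inv

variable {S E : Type u} [CommRing S] [CommRing E] [Algebra S E] {G : Type v}

/-- The subalgebra of invariants of a family of algebra endomorphisms. -/
def invSub (σ : G → (E →ₐ[S] E)) : Subalgebra S E where
  carrier := {x | ∀ g, σ g x = x}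
  mul_mem' := fun ha hb g => by rw [map_mul, ha g, hb g]
  add_mem' := fun ha hb g => by rw [map_add, ha g, hb g]
  algebraMap_mem' := fun r g => (σ g).commutes r

theorem mem_invSub {σ : G → (E →ₐ[S] E)} {x : E} : x ∈ invSub σ ↔ ∀ g, σ g x = x := Iff.rfl

end inv

section idem

variable {A : Type u} [CommRing A] {ι : Type v}

theorem prod_idem (s : Finset ι) (f : ι → A) (hf : ∀ i ∈ s, IsIdempotentElem (f i)) :
    IsIdempotentElem (∏ i ∈ s, f i) := by
  unfold IsIdempotentElem
  rw [← Finset.prod_mul_distrib]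
  exact Finset.prod_congr rfl (fun i hi => (hf i hi).eq)

theorem mul_prod_eq_self (s : Finset ι) (f : ι → A) (y : A) (hf : ∀ i ∈ s, y * f i = y) :
    y * ∏ i ∈ s, f i = y := by
  classical
  induction s using Finset.induction_on with
  | empty => rw [Finset.prod_empty, mul_one]
  | insert a s ha ih =>
    rw [Finset.prod_insert ha, ← mul_assoc, hf a (Finset.mem_insert_self a s)]
    exact ih (fun i hi => hf i (Finset.mem_insert_of_mem hi))

theorem mul_prod_eq_zero (s : Finset ι) (f : ι → A) (y : A) {i₀ : ι} (hi : i₀ ∈ s)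
    (h0 : y * f i₀ = 0) : y * ∏ i ∈ s, f i = 0 := by
  classical
  rw [← Finset.mul_prod_erase s f hi, ← mul_assoc, h0, zero_mul]

end idem

section core

variable {S : Type u} [CommRing S] {n : ℕ} {G : Type v} [Group G] [Fintype G]
  (σ : G → ((Fin n → S) →ₐ[S] (Fin n → S)))

/-- The standard idempotents. -/
def ee (j : Fin n) : Fin n → S := Pi.single j 1

theorem ee_idem (j : Fin n) : IsIdempotentElem (ee (S := S) j) := by
  unfold IsIdempotentElem ee
  rw [← Pi.single_mul, mul_one]

theorem mul_ee (x : Fin n → S) (j : Fin n) : x * ee j = x j • ee j := by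
  funext k
  unfold ee
  by_cases hk : k = j
  · subst hk
    simp
  · simp [Pi.single_eq_of_ne hk]

theorem sum_ee : ∑ j : Fin n, ee (S := S) j = 1 := by
  unfold ee
  exact Finset.univ_sum_single (1 : Fin n → S)

/-- The orbit idempotents. -/
noncomputable def cc (j : Fin n) : Fin n → S := 1 - ∏ g, (1 - σ g (ee j))

theorem cc_idem (j : Fin n) : IsIdempotentElem (cc σ j) :=
  (prod_idem _ _ (fun g _ => ((ee_idem j).map (σ g)).one_sub)).one_sub

variable (h1 : σ 1 = AlgHom.id S _) (hmul : ∀ g h, σ (g * h) = (σ g).comp (σ h))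

include hmul in
theorem cc_mem (j : Fin n) : cc σ j ∈ invSub σ := by
  intro h
  unfold cc
  rw [map_sub, map_one, map_prod]
  congr 1
  calc ∏ g, σ h (1 - σ g (ee j)) = ∏ g, (1 - σ (h * g) (ee j)) :=
        Finset.prod_congr rfl (fun g _ => by rw [map_sub, map_one, hmul, AlgHom.comp_apply])
    _ = ∏ g, (1 - σ g (ee j)) := Equiv.prod_comp (Equiv.mulLeft h) (fun g => 1 - σ g (ee j))

include h1 in
theorem ee_mul_cc (j : Fin n) : ee j * cc σ j = ee j := by
  unfold cc
  rw [mul_sub, mul_one, mul_prod_eq_zero Finset.univ _ (ee j) (Finset.mem_univ (1 : G)), sub_zero]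
  rw [h1, AlgHom.id_apply, mul_sub, mul_one, (ee_idem j).eq, sub_self]

theorem mul_cc {x : Fin n → S} (hx : x ∈ invSub σ) (j : Fin n) : x * cc σ j = x j • cc σ j := by
  have key : ∀ g : G, (x - x j • 1) * (1 - σ g (ee j)) = x - x j • 1 := by
    intro g
    have e1 : x * σ g (ee j) = x j • σ g (ee j) := by
      conv_lhs => rw [← hx g]
      rw [← map_mul, mul_ee, map_smul]
    rw [mul_sub, mul_one, sub_mul, e1, smul_mul_assoc, one_mul, sub_self, sub_zero]
  have h2 := mul_prod_eq_self Finset.univ (fun g => 1 - σ g (ee j)) (x - x j • 1)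
    (fun g _ => key g)
  have h3 : (x - x j • 1) * cc σ j = 0 := by
    unfold cc
    rw [mul_sub, mul_one, h2, sub_self]
  rw [sub_mul, smul_mul_assoc, one_mul, sub_eq_zero] at h3
  exact h3

/-- The orthogonalised orbit idempotents. -/
noncomputable def dd (j : Fin n) : Fin n → S :=
  cc σ j * ∏ i ∈ Finset.univ.filter (· < j), (1 - cc σ i)

theorem dd_idem (j : Fin n) : IsIdempotentElem (dd σ j) :=
  (cc_idem σ j).mul (prod_idem _ _ (fun i _ => (cc_idem σ i).one_sub))

include hmul in
theorem dd_mem (j : Fin n) : dd σ j ∈ invSub σ :=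
  (invSub σ).mul_mem (cc_mem σ hmul j)
    ((invSub σ).prod_mem (fun i _ => (invSub σ).sub_mem (invSub σ).one_mem (cc_mem σ hmul i)))

theorem mul_dd {x : Fin n → S} (hx : x ∈ invSub σ) (j : Fin n) : x * dd σ j = x j • dd σ j := by
  unfold dd
  rw [← mul_assoc, mul_cc σ hx, smul_mul_assoc]

theorem dd_ortho {i j : Fin n} (hij : i ≠ j) : dd σ i * dd σ j = 0 := by
  have key : ∀ {i j : Fin n}, i < j → dd σ i * dd σ j = 0 := by
    intro i j hlt
    unfold dd
    have h0 : cc σ i * ∏ k ∈ Finset.univ.filter (· < j), (1 - cc σ k) = 0 :=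
      mul_prod_eq_zero _ _ _ (Finset.mem_filter.2 ⟨Finset.mem_univ i, hlt⟩)
        (by rw [mul_sub, mul_one, (cc_idem σ i).eq, sub_self])
    calc (cc σ i * (∏ k ∈ Finset.univ.filter (· < i), (1 - cc σ k))) *
          (cc σ j * (∏ k ∈ Finset.univ.filter (· < j), (1 - cc σ k)))
        = (cc σ i * (∏ k ∈ Finset.univ.filter (· < j), (1 - cc σ k))) *
          (cc σ j * (∏ k ∈ Finset.univ.filter (· < i), (1 - cc σ k))) := by ring
      _ = 0 := by rw [h0, zero_mul]
  rcases lt_or_gt_of_ne hij with h | h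
  · exact key h
  · rw [mul_comm]; exact key h

include h1 in
theorem sum_dd : ∑ j : Fin n, dd σ j = 1 := by
  have h0 : ∏ j : Fin n, (1 - cc σ j) = 0 := by
    have : ∀ k : Fin n, (∏ j : Fin n, (1 - cc σ j)) * ee k = 0 := by
      intro k
      rw [mul_comm]
      exact mul_prod_eq_zero _ _ _ (Finset.mem_univ k)
        (by rw [mul_sub, mul_one, ee_mul_cc σ h1, sub_self])
    calc ∏ j : Fin n, (1 - cc σ j) = (∏ j : Fin n, (1 - cc σ j)) * ∑ k : Fin n, ee k := by
          rw [sum_ee, mul_one]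
      _ = ∑ k : Fin n, (∏ j : Fin n, (1 - cc σ j)) * ee k := Finset.mul_sum _ _ _
      _ = 0 := Finset.sum_eq_zero (fun k _ => this k)
  have h2 := Finset.prod_one_sub_ordered (Finset.univ : Finset (Fin n)) (cc σ)
  rw [h0] at h2
  have h3 : ∑ j : Fin n, dd σ j =
      ∑ i ∈ (Finset.univ : Finset (Fin n)), cc σ i * ∏ j ∈ Finset.univ with j < i, (1 - cc σ j) := rfl
  rw [h3]
  exact (sub_eq_zero.1 h2.symm).symm

end core

section core2

variable {S : Type u} [CommRing S] {n : ℕ} {G : Type v} [Group G] [Fintype G]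
  (σ : G → ((Fin n → S) →ₐ[S] (Fin n → S)))
  (h1 : σ 1 = AlgHom.id S _) (hmul : ∀ g h, σ (g * h) = (σ g).comp (σ h))

/-- The orthogonal idempotents as elements of the invariant subalgebra. -/
noncomputable def dN (j : Fin n) : invSub σ := ⟨dd σ j, dd_mem σ hmul j⟩

include h1 in
theorem dN_complete : CompleteOrthogonalIdempotents (dN σ hmul) where
  idem j := Subtype.ext (dd_idem σ j)
  ortho := fun i j hij => Subtype.ext (dd_ortho σ hij)
  complete := Subtype.ext (by
    rw [AddSubmonoidClass.coe_finsetSum]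
    exact sum_dd σ h1)

/-- The support idempotent of `dd σ j`. -/
noncomputable def uu (j : Fin n) : S := 1 - ∏ k : Fin n, (1 - dd σ j k)

theorem dd_apply_idem (j k : Fin n) : IsIdempotentElem (dd σ j k) :=
  congr_fun (dd_idem σ j) k

theorem uu_idem (j : Fin n) : IsIdempotentElem (uu σ j) :=
  (prod_idem _ _ (fun k _ => (dd_apply_idem σ j k).one_sub)).one_sub

theorem smul_dd_eq_zero_iff (j : Fin n) (s : S) : s • dd σ j = 0 ↔ s * uu σ j = 0 := by
  constructor
  · intro h
    have hk : ∀ k ∈ (Finset.univ : Finset (Fin n)), s * (1 - dd σ j k) = s := by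
      intro k _
      have := congr_fun h k
      rw [Pi.smul_apply, smul_eq_mul, Pi.zero_apply] at this
      rw [mul_sub, mul_one, this, sub_zero]
    unfold uu
    rw [mul_sub, mul_one, mul_prod_eq_self _ _ _ hk, sub_self]
  · intro h
    funext k
    rw [Pi.smul_apply, smul_eq_mul, Pi.zero_apply]
    have hk : dd σ j k * uu σ j = dd σ j k := by
      unfold uu
      rw [mul_sub, mul_one, mul_prod_eq_zero _ _ _ (Finset.mem_univ k), sub_zero]
      rw [mul_sub, mul_one, (dd_apply_idem σ j k).eq, sub_self]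
    rw [← hk, ← mul_assoc, mul_comm s, mul_assoc, h, mul_zero]

/-- The factors of the invariant subalgebra. -/
abbrev QQ (j : Fin n) : Type u := (invSub σ) ⧸ Ideal.span {1 - dN σ hmul j}

theorem mk_dN (j : Fin n) :
    (Ideal.Quotient.mk (Ideal.span {1 - dN σ hmul j}) (dN σ hmul j)) = 1 := by
  rw [← map_one (Ideal.Quotient.mk (Ideal.span {1 - dN σ hmul j})), eq_comm, Ideal.Quotient.eq]
  exact Ideal.subset_span rfl

theorem mul_dN (x : invSub σ) (j : Fin n) : x * dN σ hmul j = x.1 j • dN σ hmul j :=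
  Subtype.ext (mul_dd σ x.2 j)

theorem QQ_surj (j : Fin n) : Function.Surjective (algebraMap S (QQ σ hmul j)) := by
  intro q
  obtain ⟨x, rfl⟩ := Ideal.Quotient.mk_surjective q
  refine ⟨x.1 j, ?_⟩
  have e1 : Ideal.Quotient.mk (Ideal.span {1 - dN σ hmul j}) x =
      Ideal.Quotient.mk (Ideal.span {1 - dN σ hmul j}) (x * dN σ hmul j) := by
    rw [map_mul, mk_dN, mul_one]
  rw [e1, mul_dN, Algebra.algebraMap_eq_smul_one]
  change _ = Ideal.Quotient.mkₐ S _ (x.1 j • dN σ hmul j)
  rw [map_smul]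
  congr 1
  exact (mk_dN σ hmul j).symm

theorem QQ_algebraMap_eq_zero_iff (j : Fin n) (s : S) :
    algebraMap S (QQ σ hmul j) s = 0 ↔ s * uu σ j = 0 := by
  rw [← smul_dd_eq_zero_iff]
  have hid : IsIdempotentElem (1 - dN σ hmul j) :=
    (show IsIdempotentElem (dN σ hmul j) from Subtype.ext (dd_idem σ j)).one_sub
  change Ideal.Quotient.mk (Ideal.span {1 - dN σ hmul j}) (algebraMap S (invSub σ) s) = 0 ↔ _
  rw [Ideal.Quotient.eq_zero_iff_mem, mem_span_idem_iff hid, mul_sub, mul_one, sub_eq_self,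
    Algebra.algebraMap_eq_smul_one, smul_mul_assoc, one_mul]
  constructor
  · intro h
    exact congrArg Subtype.val h
  · intro h
    exact Subtype.ext h

instance QQ_finite (j : Fin n) : Module.Finite S (QQ σ hmul j) :=
  Module.Finite.of_surjective (Algebra.linearMap S (QQ σ hmul j)) (QQ_surj σ hmul j)

theorem QQ_etale (j : Fin n) : Algebra.Etale S (QQ σ hmul j) := by
  have hker : RingHom.ker (Algebra.ofId S (QQ σ hmul j)) = Ideal.span {1 - uu σ j} := by
    ext s
    rw [RingHom.mem_ker, mem_span_idem_iff (uu_idem σ j).one_sub, mul_sub, mul_one, sub_eq_self]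
    exact QQ_algebraMap_eq_zero_iff σ hmul j s
  haveI : Algebra.Etale S (S ⧸ Ideal.span {1 - uu σ j}) := etale_quot_of_idem (uu_idem σ j).one_sub
  let e1 : (S ⧸ Ideal.span {1 - uu σ j}) ≃ₐ[S] (S ⧸ RingHom.ker (Algebra.ofId S (QQ σ hmul j))) :=
    Ideal.quotientEquivAlgOfEq S hker.symm
  let e2 : (S ⧸ RingHom.ker (Algebra.ofId S (QQ σ hmul j))) ≃ₐ[S] QQ σ hmul j :=
    Ideal.quotientKerAlgEquivOfSurjective (f := Algebra.ofId S (QQ σ hmul j)) (QQ_surj σ hmul j)
  exact Algebra.Etale.of_equiv (e1.trans e2)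

include h1 in
/-- The invariant subalgebra is a finite product of quotients of the base. -/
theorem exists_equiv_pi : Nonempty ((invSub σ) ≃ₐ[S] (∀ j : Fin n, QQ σ hmul j)) :=
  ⟨AlgEquiv.ofBijective (AlgHom.pi
    (fun j => Ideal.Quotient.mkₐ S (Ideal.span {1 - dN σ hmul j})))
    (dN_complete σ h1 hmul).bijective_pi⟩

include h1 hmul in
theorem finite_inv : Module.Finite S (invSub σ) := by
  obtain ⟨e⟩ := exists_equiv_pi σ h1 hmul
  exact Module.Finite.equiv e.symm.toLinearEquiv

include h1 hmul in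
theorem etale_inv : Algebra.Etale S (invSub σ) := by
  obtain ⟨e⟩ := exists_equiv_pi σ h1 hmul
  haveI : ∀ j, Algebra.Etale S (QQ σ hmul j) := QQ_etale σ hmul
  exact Algebra.Etale.of_equiv e.symm

end core2

end Groth.Agent.Helper7.InvCore
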