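import Groth.Agent.Helper7.InvBC

set_option autoImplicit false
set_option linter.style.haveILetI false
set_option linter.unusedSectionVars false
universe u v
open TensorProduct

namespace Groth.Agent.Helper7.InvDesc

open Groth.Agent.Helper7.InvCore Groth.Agent.Helper7.InvBC

section desc

variable {R T M : Type u} [CommRing R] [CommRing T] [CommRing M] [Algebra R T] [Algebra R M]
  [Module.FaithfullyFlat R T] {n : ℕ} {G : Type v} [Group G] [Finite G]
  (e : T ⊗[R] M ≃ₐ[T] (Fin n → T))
  (ρ : G → (M →ₐ[R] M)) (h1 : ρ 1 = AlgHom.id R M) (hmul : ∀ g h, ρ (g * h) = (ρ g).comp (ρ h))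

/-- The transported action on the split algebra. -/
noncomputable def ρT (g : G) : (Fin n → T) →ₐ[T] (Fin n → T) :=
  e.toAlgHom.comp ((Algebra.TensorProduct.map (AlgHom.id T T) (ρ g)).comp e.symm.toAlgHom)

include h1 in
theorem ρT_one : ρT e ρ 1 = AlgHom.id T _ := by
  unfold ρT
  rw [h1, Algebra.TensorProduct.map_id]
  ext x
  simp

include hmul in
theorem ρT_mul (g h : G) : ρT e ρ (g * h) = (ρT e ρ g).comp (ρT e ρ h) := by
  unfold ρT
  have key : Algebra.TensorProduct.map (AlgHom.id T T) ((ρ g).comp (ρ h)) =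
      (Algebra.TensorProduct.map (AlgHom.id T T) (ρ g)).comp
        (Algebra.TensorProduct.map (AlgHom.id T T) (ρ h)) := by
    rw [← Algebra.TensorProduct.map_comp, AlgHom.id_comp]
  rw [hmul, key]
  apply AlgHom.ext
  intro x
  simp

/-- The comparison ring map `M → Fin n → T`. -/
noncomputable def αT : M →+* (Fin n → T) :=
  (e : T ⊗[R] M →+* (Fin n → T)).comp
    (Algebra.TensorProduct.includeRight : M →ₐ[R] T ⊗[R] M).toRingHom

theorem αT_apply (m : M) : αT e m = e (1 ⊗ₜ m) := rfl

theorem αT_ρ (g : G) (m : M) : αT e (ρ g m) = ρT e ρ g (αT e m) := by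
  unfold ρT
  rw [αT_apply, αT_apply]
  simp

theorem e_tmul (t : T) (m : M) : e (t ⊗ₜ m) = t • αT e m := by
  rw [αT_apply, ← map_smul, TensorProduct.smul_tmul', smul_eq_mul, mul_one]

include e h1 hmul in
/-- Invariants of an algebra which becomes split after a faithfully flat base change are finite
étale. -/
theorem finite_etale_inv :
    Module.Finite R (invSub ρ) ∧ Algebra.Etale R (invSub ρ) := by
  cases nonempty_fintype G
  obtain ⟨ε, hε⟩ := inv_bc (T := T) ρ (ρT e ρ) (αT e) (αT_ρ e ρ) e.toAddEquiv (e_tmul e)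
  -- the algebra map
  let β : (invSub ρ) →ₐ[R] (invSub (ρT e ρ)) :=
    { toFun := fun k => ⟨αT e k.1, fun g => by rw [← αT_ρ, k.2 g]⟩
      map_one' := Subtype.ext (map_one (αT e))
      map_mul' := fun a b => Subtype.ext (map_mul (αT e) a.1 b.1)
      map_zero' := Subtype.ext (map_zero (αT e))
      map_add' := fun a b => Subtype.ext (map_add (αT e) a.1 b.1)
      commutes' := fun r => Subtype.ext (by
        change αT e (algebraMap R M r) = algebraMap R (Fin n → T) r
        rw [αT_apply, ← Algebra.TensorProduct.includeRight_apply, AlgHom.commutes,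
          IsScalarTower.algebraMap_apply R T (T ⊗[R] M), AlgEquiv.commutes,
          ← IsScalarTower.algebraMap_apply]) }
  let φ : T ⊗[R] (invSub ρ) →ₐ[T] (invSub (ρT e ρ)) :=
    Algebra.TensorProduct.lift (Algebra.ofId T _) β (fun _ _ => Commute.all _ _)
  have hφ : ∀ w, φ w = ε w := by
    intro w
    induction w using TensorProduct.induction_on with
    | zero => rw [map_zero, map_zero]
    | tmul t k =>
      apply Subtype.ext
      rw [hε, Algebra.TensorProduct.lift_tmul]
      change algebraMap T (Fin n → T) t * αT e k.1 = _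
      rw [Algebra.smul_def]
    | add a b ha hb => rw [map_add, map_add, ha, hb]
  have hbij : Function.Bijective φ := by
    have : (φ : T ⊗[R] (invSub ρ) → invSub (ρT e ρ)) = ε := funext hφ
    rw [this]
    exact ε.bijective
  let Φ : T ⊗[R] (invSub ρ) ≃ₐ[T] (invSub (ρT e ρ)) := AlgEquiv.ofBijective φ hbij
  haveI : Module.Finite T (invSub (ρT e ρ)) :=
    finite_inv (ρT e ρ) (ρT_one e ρ h1) (ρT_mul e ρ hmul)
  haveI : Algebra.Etale T (invSub (ρT e ρ)) :=
    etale_inv (ρT e ρ) (ρT_one e ρ h1) (ρT_mul e ρ hmul)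
  haveI : Module.Finite T (T ⊗[R] (invSub ρ)) := Module.Finite.equiv Φ.symm.toLinearEquiv
  haveI : Algebra.Etale T (T ⊗[R] (invSub ρ)) := Algebra.Etale.of_equiv Φ.symm
  exact ⟨Module.Finite.of_finite_tensorProduct_of_faithfullyFlat T,
    Algebra.Etale.of_etale_tensorProduct_of_faithfullyFlat T⟩

end desc

end Groth.Agent.Helper7.InvDesc
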