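import Mathlib
import Groth.Agent.Helper7.InvFracA
import Groth.Agent.Helper3.RosAlg

/-!
# Invariant rational functions on a factorial variety under a connected character-free group (helper7)

`main`: `A` a Hopf domain of finite type over an algebraically closed field whose only group-like
element is `1`, `B` a factorial domain of finite type with a multiplicative coaction; a fraction
`f/g` invariant under all rational points is a quotient of invariants.  The proof reduces `f/g` to
lowest terms; then `φ·f₁ = u_φ f₁` with `u_φ` units of `B`, the function `(x, φ) ↦ u_φ(x)` is, for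
fixed `x`, a nowhere vanishing function on the group, hence a unit, hence a character by Rosenlicht
(`Helper3.RosAlg.isGroupLikeElem_of_isUnit`), hence `1`.
-/

set_option autoImplicit false
set_option linter.unusedSectionVars false
set_option linter.style.haveILetI false
universe u

namespace Groth.Agent.Helper7.InvFrac

open TensorProduct Groth.Agent.Helper9 Groth.Agent.Helper7.OrbFin Groth.Agent.Helper7.LinTriv

section

variable {k : Type u} [Field k] [IsAlgClosed k] {A : Type u} [CommRing A] [HopfAlgebra k A]
  [Algebra.FiniteType k A] [IsDomain A]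
variable {B : Type u} [CommRing B] [Algebra k B] [Algebra.FiniteType k B] [IsDomain B]
  [HopfRep.Comod k A B] [GLin.IsCoactAlg k A B]

/-- **key**: an element all of whose translates it divides is invariant, when the group has no
non-trivial characters -/
theorem invariant_of_dvd (hchar : ∀ a : A, IsGroupLikeElem k a → a = 1)
    (f1 : B) (hf1 : f1 ≠ 0) (hdiv : ∀ φ : A →ₐ[k] k, f1 ∣ HopfRep.Comod.act k A B φ f1)
    (φ : A →ₐ[k] k) : HopfRep.Comod.act k A B φ f1 = f1 := by
  obtain ⟨U, hact, -, -, hux, hex⟩ := exists_slices f1 hf1 hdiv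
  have hU1 : U = 1 := by
    apply eq_one_of_slices
    intro x
    apply hchar
    exact Groth.Agent.Helper3.RosAlg.isGroupLikeElem_of_isUnit k A _ (hux x) (hex x)
  rw [hact φ, hU1, map_one, mul_one]

/-- **invariant fractions are quotients of invariants** (connected character-free group, factorial
coordinate ring) -/
theorem main [UniqueFactorizationMonoid B] (hchar : ∀ a : A, IsGroupLikeElem k a → a = 1)
    (f g : B) (hg : g ≠ 0)
    (hinv : ∀ φ : A →ₐ[k] k,
      HopfRep.Comod.act k A B φ f * g = f * HopfRep.Comod.act k A B φ g) :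
    ∃ f' g' : B, (∀ φ : A →ₐ[k] k, HopfRep.Comod.act k A B φ f' = f') ∧
      (∀ φ : A →ₐ[k] k, HopfRep.Comod.act k A B φ g' = g') ∧ g' ≠ 0 ∧ f * g' = f' * g := by
  classical
  by_cases hf : f = 0
  · refine ⟨0, 1, fun φ => map_zero _, fun φ => comodAct_one φ, one_ne_zero, ?_⟩
    rw [hf, zero_mul, zero_mul]
  letI : GCDMonoid B := UniqueFactorizationMonoid.toGCDMonoid B
  obtain ⟨f1, g1, hf1, hg1, hu⟩ := extract_gcd f g
  set d := gcd f g with hd
  have hd0 : d ≠ 0 := fun h => hg (by rw [hg1, h, zero_mul])
  have hf10 : f1 ≠ 0 := fun h => hf (by rw [hf1, h, mul_zero])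
  have hg10 : g1 ≠ 0 := fun h => hg (by rw [hg1, h, mul_zero])
  have hrel : IsRelPrime f1 g1 := gcd_isUnit_iff_isRelPrime.mp hu
  -- the relation for the reduced fraction
  have hinv1 : ∀ φ : A →ₐ[k] k,
      HopfRep.Comod.act k A B φ f1 * g1 = f1 * HopfRep.Comod.act k A B φ g1 := by
    intro φ
    have h := hinv φ
    rw [hf1, hg1, comodAct_mul, comodAct_mul] at h
    have hφd : HopfRep.Comod.act k A B φ d ≠ 0 := fun h0 => hd0 (comodAct_injective φ d h0)
    have h' : (HopfRep.Comod.act k A B φ d * d) * (HopfRep.Comod.act k A B φ f1 * g1) =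
        (HopfRep.Comod.act k A B φ d * d) * (f1 * HopfRep.Comod.act k A B φ g1) := by
      linear_combination h
    exact mul_left_cancel₀ (mul_ne_zero hφd hd0) h'
  have hdivf : ∀ φ : A →ₐ[k] k, f1 ∣ HopfRep.Comod.act k A B φ f1 := by
    intro φ
    exact hrel.dvd_of_dvd_mul_right ⟨HopfRep.Comod.act k A B φ g1, hinv1 φ⟩
  have hfinv := invariant_of_dvd hchar f1 hf10 hdivf
  have hginv : ∀ φ : A →ₐ[k] k, HopfRep.Comod.act k A B φ g1 = g1 := by
    intro φ
    have h := hinv1 φ
    rw [hfinv φ] at h
    exact (mul_left_cancel₀ hf10 h).symm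
  refine ⟨f1, g1, hfinv, hginv, hg10, ?_⟩
  rw [hf1, hg1]
  ring

end

end Groth.Agent.Helper7.InvFrac
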