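import Mathlib
import Groth.Prelude.Def_HopfRep
import Groth.Prelude.Def_GLin
import Groth.Agent.Helper8.HopfNorm
import Groth.Agent.Helper7.InvHt1

/-!
# Finite group scheme quotients: fibres are orbits, heights are preserved
-/

set_option autoImplicit false
universe u

namespace Groth.Agent.Helper7.InvHt

open TensorProduct Groth.Agent.Helper8.HopfNorm

section hopf

variable (k : Type u) [Field k] (H : Type u) [CommRing H] [HopfAlgebra k H] [Module.Finite k H]
  (R : Type u) [CommRing R] [Algebra k R] [HopfRep.Comod k H R] [GLin.IsCoactAlg k H R]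

/-- if `ρ(x)` avoids all primes of `R ⊗ H` over `q`, then the norm of `x` is not in `q`. -/
theorem nu_notMem (q : Ideal R) [q.IsPrime] (x : R)
    (hx : ∀ Q : Ideal (R ⊗[k] H), Q.IsPrime → Q.comap (ii k H R : R →+* R ⊗[k] H) = q →
      GLin.coactAlgHom k H R x ∉ Q) : nu k H R x ∉ q := by
  classical
  intro hq
  let D := R ⧸ q
  let φ : R →ₐ[k] D := Ideal.Quotient.mkₐ k q
  let Φ : R ⊗[k] H →ₐ[k] D ⊗[k] H := Algebra.TensorProduct.map φ (AlgHom.id k H)
  let b := Module.finBasis k H
  let bR := Algebra.TensorProduct.basis R b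
  let bD := Algebra.TensorProduct.basis D b
  set z := Φ (GLin.coactAlgHom k H R x) with hz
  set M := Algebra.leftMulMatrix bD z with hM
  have hMmap : M = (Algebra.leftMulMatrix bR (GLin.coactAlgHom k H R x)).map ⇑(φ : R →+* D) :=
    leftMulMatrix_map b φ _
  have hφ : φ (nu k H R x) = 0 := (Ideal.Quotient.eq_zero_iff_mem).mpr hq
  have hdet : M.det = 0 := by
    rw [Matrix.det_eq_sign_charpoly_coeff, hMmap, Matrix.charpoly_map, Polynomial.coeff_map]
    have : (φ : R →+* D) ((Algebra.leftMulMatrix bR (GLin.coactAlgHom k H R x)).charpoly.coeff 0) = 0 :=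
      hφ
    rw [this, mul_zero]
  obtain ⟨v, hv0, hv⟩ := Matrix.exists_mulVec_eq_zero_iff.mpr hdet
  let w : D ⊗[k] H := bD.equivFun.symm v
  have hwv : ⇑(bD.repr w) = v := by
    have := bD.equivFun.apply_symm_apply v
    exact this
  have hw0 : w ≠ 0 := by
    intro h
    apply hv0
    rw [← hwv, h, map_zero]
    rfl
  have hzw : z * w = 0 := by
    apply bD.repr.injective
    rw [map_zero]
    have h1 := Algebra.leftMulMatrix_mulVec_repr bD z w
    rw [hwv, ← hM, hv] at h1
    ext i
    have := congrFun h1 i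
    simpa using this.symm
  -- the ideal of elements killing `w`
  let I₀ : Ideal (D ⊗[k] H) := LinearMap.ker (LinearMap.mulRight (D ⊗[k] H) w)
  have hI₀ : ∀ s, s ∈ I₀ ↔ s * w = 0 := by
    intro s
    show LinearMap.mulRight (D ⊗[k] H) w s = 0 ↔ _
    rw [LinearMap.mulRight_apply]
  let T : Submonoid (D ⊗[k] H) := Algebra.algebraMapSubmonoid (D ⊗[k] H) (nonZeroDivisors D)
  have hdisj : Disjoint (I₀ : Set (D ⊗[k] H)) T := by
    rw [Set.disjoint_left]
    rintro s hs ⟨d, hd, rfl⟩
    have h1 : algebraMap D (D ⊗[k] H) d * w = 0 := (hI₀ _).mp hs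
    rw [← Algebra.smul_def] at h1
    have hd0 : d ≠ 0 := nonZeroDivisors.ne_zero hd
    exact hw0 ((smul_eq_zero.mp h1).resolve_left hd0)
  obtain ⟨Qb, hQbp, hIQ, hQdisj⟩ := Ideal.exists_le_prime_disjoint I₀ T hdisj
  haveI := hQbp
  have hzQ : z ∈ Qb := hIQ ((hI₀ z).mpr hzw)
  refine hx (Qb.comap (Φ : R ⊗[k] H →+* D ⊗[k] H)) (Ideal.comap_isPrime _ _) ?_ hzQ
  ext r
  rw [Ideal.mem_comap, Ideal.mem_comap]
  have h2 : (Φ : R ⊗[k] H →+* D ⊗[k] H) ((ii k H R : R →+* R ⊗[k] H) r) =
      algebraMap D (D ⊗[k] H) (φ r) := by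
    show Φ (r ⊗ₜ[k] (1 : H)) = _
    rw [Algebra.TensorProduct.map_tmul, map_one, Algebra.TensorProduct.algebraMap_apply]
    rfl
  rw [h2]
  constructor
  · intro h
    by_contra hr
    have hne : φ r ≠ 0 := fun h0 => hr ((Ideal.Quotient.eq_zero_iff_mem).mp h0)
    exact Set.disjoint_left.mp hQdisj h ⟨φ r, mem_nonZeroDivisors_of_ne_zero hne, rfl⟩
  · intro hr
    have : φ r = 0 := (Ideal.Quotient.eq_zero_iff_mem).mpr hr
    rw [this, map_zero]
    exact Qb.zero_mem

end hopf

section finiteType

variable (k : Type u) [Field k] (H : Type u) [CommRing H] [HopfAlgebra k H] [Module.Finite k H]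
  (R : Type u) [CommRing R] [Algebra k R] [Algebra.FiniteType k R]
  [HopfRep.Comod k H R] [GLin.IsCoactAlg k H R]

lemma finite_over_invariants : Module.Finite (GLin.invariants k H R) R :=
  (Groth.Agent.Helper8.HopfNorm.main k H R).2

lemma isNoetherianRing_invariants : IsNoetherianRing (GLin.invariants k H R) :=
  haveI := (Groth.Agent.Helper8.HopfNorm.main k H R).1
  Algebra.FiniteType.isNoetherianRing k _

omit [Module.Finite k H] [HopfRep.Comod k H R] [GLin.IsCoactAlg k H R] in
include k in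
lemma isNoetherianRing_of_finiteType : IsNoetherianRing R :=
  Algebra.FiniteType.isNoetherianRing k R

lemma ii_eq_algebraMap : (ii k H R : R →+* R ⊗[k] H) = algebraMap R (R ⊗[k] H) := by
  ext r
  show r ⊗ₜ[k] (1 : H) = _
  rw [Algebra.TensorProduct.algebraMap_apply]
  rfl

/-- transitivity: two primes of `R` with the same contraction to the invariants are related by a
prime of `R ⊗ H`. -/
theorem exists_prime_tensor (q q' : Ideal R) [q.IsPrime] [q'.IsPrime]
    (h : q.comap (algebraMap (GLin.invariants k H R) R) =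
      q'.comap (algebraMap (GLin.invariants k H R) R)) :
    ∃ Q : Ideal (R ⊗[k] H), Q.IsPrime ∧ Q.comap (ii k H R : R →+* R ⊗[k] H) = q ∧
      Q.comap (GLin.coactAlgHom k H R : R →+* R ⊗[k] H) = q' := by
  classical
  haveI := finite_over_invariants k H R
  haveI : Algebra.IsIntegral (GLin.invariants k H R) R := Algebra.IsIntegral.of_finite _ _
  by_contra hcon
  push Not at hcon
  have hfin : (q.primesOver (R ⊗[k] H)).Finite := Algebra.QuasiFinite.finite_primesOver q
  let s : Finset (Ideal (R ⊗[k] H)) := hfin.toFinset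
  let f : Ideal (R ⊗[k] H) → Ideal R :=
    fun Q => Q.comap (GLin.coactAlgHom k H R : R →+* R ⊗[k] H)
  have hs : ∀ Q, Q ∈ s ↔ Q.IsPrime ∧ Q.comap (ii k H R : R →+* R ⊗[k] H) = q := by
    intro Q
    rw [Set.Finite.mem_toFinset, ii_eq_algebraMap]
    constructor
    · rintro ⟨h1, h2⟩
      exact ⟨h1, h2.over.symm⟩
    · rintro ⟨h1, h2⟩
      exact ⟨h1, ⟨h2.symm⟩⟩
  -- contraction of `f Q` to the invariants
  have hfQ : ∀ Q, Q ∈ s → (f Q).comap (algebraMap (GLin.invariants k H R) R) =
      q.comap (algebraMap (GLin.invariants k H R) R) := by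
    intro Q hQ
    obtain ⟨hQp, hQq⟩ := (hs Q).mp hQ
    ext a
    rw [Ideal.mem_comap, Ideal.mem_comap, ← hQq, Ideal.mem_comap]
    show (GLin.coactAlgHom k H R) (a : R) ∈ Q ↔ _
    rw [coact_of_mem k H R a.2]
    rfl
  have hnot : ¬ ((q' : Set R) ⊆ ⋃ Q ∈ (s : Set (Ideal (R ⊗[k] H))), (f Q : Set R)) := by
    intro hsub
    have hprime : ∀ Q ∈ s, Q ≠ (⊥ : Ideal (R ⊗[k] H)) → Q ≠ (⊥ : Ideal (R ⊗[k] H)) →
        (f Q).IsPrime := by
      intro Q hQ _ _
      haveI := ((hs Q).mp hQ).1
      exact Ideal.comap_isPrime _ _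
    obtain ⟨Q, hQ, hle⟩ := (Ideal.subset_union_prime (R := R) (s := s) (f := f) ⊥ ⊥ hprime).mp hsub
    obtain ⟨hQp, hQq⟩ := (hs Q).mp hQ
    haveI := hQp
    haveI : (f Q).IsPrime := Ideal.comap_isPrime _ _
    rcases eq_or_lt_of_le hle with heq | hlt
    · exact hcon Q hQp hQq heq.symm
    · have := Ideal.IsIntegral.comap_lt_comap (R := GLin.invariants k H R) hlt
      rw [hfQ Q hQ, h] at this
      exact lt_irrefl _ this
  rw [Set.not_subset] at hnot
  obtain ⟨x, hxq', hxn⟩ := hnot
  have hx : ∀ Q : Ideal (R ⊗[k] H), Q.IsPrime → Q.comap (ii k H R : R →+* R ⊗[k] H) = q →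
      GLin.coactAlgHom k H R x ∉ Q := by
    intro Q hQp hQq hmem
    apply hxn
    rw [Set.mem_iUnion₂]
    exact ⟨Q, (hs Q).mpr ⟨hQp, hQq⟩, hmem⟩
  have h1 := nu_notMem k H R q x hx
  apply h1
  have h2 : nu k H R x ∈ q' := Ideal.mem_of_dvd q' (dvd_nu k H R x) hxq'
  have h3 : (⟨nu k H R x, nu_mem k H R x⟩ : GLin.invariants k H R) ∈
      q'.comap (algebraMap (GLin.invariants k H R) R) := h2
  rw [← h] at h3
  exact h3

theorem height_le_of_comap_eq (q q' : Ideal R) [q.IsPrime] [q'.IsPrime]
    (h : q.comap (algebraMap (GLin.invariants k H R) R) =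
      q'.comap (algebraMap (GLin.invariants k H R) R)) : q.height ≤ q'.height := by
  haveI := isNoetherianRing_of_finiteType k R
  haveI : IsNoetherianRing (R ⊗[k] H) := IsNoetherianRing.of_finite R _
  haveI : Algebra.IsIntegral R (R ⊗[k] H) := Algebra.IsIntegral.of_finite _ _
  obtain ⟨Q, hQp, hQq, hQq'⟩ := exists_prime_tensor k H R q q' h
  haveI := hQp
  have h1 : Q.height = q.height := by
    rw [height_comap_eq_of_flat_integral (R := R) Q, ← ii_eq_algebraMap, hQq]
  have h2 := height_le_comap_of_isIntegral (GLin.coactAlgHom k H R : R →+* R ⊗[k] H)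
    (coact_isIntegral k H R) Q
  rw [hQq', h1] at h2
  exact h2

theorem height_eq_of_comap_eq (q q' : Ideal R) [q.IsPrime] [q'.IsPrime]
    (h : q.comap (algebraMap (GLin.invariants k H R) R) =
      q'.comap (algebraMap (GLin.invariants k H R) R)) : q.height = q'.height :=
  le_antisymm (height_le_of_comap_eq k H R q q' h) (height_le_of_comap_eq k H R q' q h.symm)

/-- contraction to the invariants preserves heights -/
theorem height_comap_invariants (q : Ideal R) [hq : q.IsPrime] :
    (q.comap (algebraMap (GLin.invariants k H R) R)).height = q.height := by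
  haveI := finite_over_invariants k H R
  haveI := isNoetherianRing_invariants k H R
  haveI : Algebra.IsIntegral (GLin.invariants k H R) R := Algebra.IsIntegral.of_finite _ _
  refine le_antisymm ?_ (Groth.Agent.Helper7.HullS2.height_le_comap q)
  set p := q.comap (algebraMap (GLin.invariants k H R) R) with hp
  obtain ⟨l, hlast, hlen⟩ := Ideal.exists_ltSeries_length_eq_height p
  haveI : FaithfulSMul (GLin.invariants k H R) R :=
    (faithfulSMul_iff_algebraMap_injective _ _).mpr Subtype.val_injective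
  obtain ⟨⟨P₀, hP₀p, hP₀o⟩⟩ := Ideal.nonempty_primesOver (S := R) l.head.asIdeal
  haveI := hP₀p
  haveI := hP₀o
  obtain ⟨L, hLlen, -, hLmap⟩ := Ideal.exists_ltSeries_of_hasGoingUp l P₀
  -- the last term of `L` lies over `p`
  have hLlast : PrimeSpectrum.comap (algebraMap (GLin.invariants k H R) R) L.last = l.last := by
    have h1 : (List.map (PrimeSpectrum.comap (algebraMap (GLin.invariants k H R) R)) L.toList).getLast
        (by simp [RelSeries.toList_ne_nil]) = l.toList.getLast (RelSeries.toList_ne_nil l) := by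
      simp only [hLmap]
    rw [List.getLast_map, RelSeries.getLast_toList, RelSeries.getLast_toList] at h1
    exact h1
  have hover : L.last.asIdeal.comap (algebraMap (GLin.invariants k H R) R) = p := by
    have := congrArg PrimeSpectrum.asIdeal hLlast
    rw [hlast] at this
    exact this
  haveI : L.last.asIdeal.IsPrime := L.last.2
  have h2 : L.last.asIdeal.height = q.height :=
    height_eq_of_comap_eq k H R L.last.asIdeal q (hover.trans hp)
  rw [← h2, ← hlen, ← hLlen]
  have h3 := Order.length_le_height_last (p := L)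
  rw [← PrimeSpectrum.height_eq_orderHeight] at h3
  exact h3

end finiteType

end Groth.Agent.Helper7.InvHt
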