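import Mathlib
import Groth.Prelude.Def_GLin
import Groth.Agent.Helper7.ComodA
import Groth.Agent.Helper7.ComodK
import Groth.Agent.Helper7.ColonStable
import Groth.Agent.Helper7.EqNormal

set_option autoImplicit false
set_option linter.unusedSectionVars false
universe u v w

namespace Groth.Agent.Helper7.InvNorm

open TensorProduct HopfRep Groth.Agent.Helper7.Comodule

section Shear

variable {k : Type u} [Field k] {A : Type v} [CommRing A] [HopfAlgebra k A]
  {R : Type w} [CommRing R] [Algebra k R] [Comod k A R] [GLin.IsCoactAlg k A R]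

/-- `(id ⊗ S) ∘ ρ` as an algebra map -/
noncomputable def rhoS : R →ₐ[k] R ⊗[k] A :=
  (Algebra.TensorProduct.map (AlgHom.id k R) (HopfAlgebra.antipodeAlgHom k A)).comp
    (GLin.coactAlgHom k A R)

/-- `θ'(r ⊗ a) = (id ⊗ S)(ρ r) · (1 ⊗ a)` -/
noncomputable def theta' : R ⊗[k] A →ₐ[k] R ⊗[k] A :=
  Algebra.TensorProduct.lift (rhoS (k := k) (A := A) (R := R))
    (Algebra.TensorProduct.includeRight) (fun _ _ => Commute.all _ _)

lemma theta'_tmul (r : R) (a : A) :
    theta' (k := k) (r ⊗ₜ[k] a) = rhoS (k := k) (A := A) r * ((1 : R) ⊗ₜ[k] a) := by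
  simp [theta']

lemma aux_assoc' (z : R ⊗[k] A) (a : A) :
    LinearMap.lTensor R (LinearMap.mul' k A ∘ₗ LinearMap.rTensor A (HopfAlgebra.antipode k))
      ((TensorProduct.assoc k R A A) (z ⊗ₜ[k] a)) =
      (Algebra.TensorProduct.map (AlgHom.id k R) (HopfAlgebra.antipodeAlgHom k A)) z *
        ((1 : R) ⊗ₜ[k] a) := by
  induction z using TensorProduct.induction_on with
  | zero => simp
  | tmul r c => simp [HopfAlgebra.antipodeAlgHom_apply]
  | add x y hx hy => simp only [TensorProduct.add_tmul, map_add, hx, hy, add_mul]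

lemma theta'_eq (t : R ⊗[k] A) :
    theta' (k := k) t =
      LinearMap.lTensor R (LinearMap.mul' k A ∘ₗ LinearMap.rTensor A (HopfAlgebra.antipode k))
        ((TensorProduct.assoc k R A A) (LinearMap.rTensor A (ρ k A R) t)) := by
  induction t using TensorProduct.induction_on with
  | zero => simp
  | tmul r a =>
    rw [theta'_tmul, LinearMap.rTensor_tmul, aux_assoc']
    rfl
  | add x y hx hy => simp only [map_add, hx, hy]

/-- `Σ r₀₀ ⊗ S(r₀₁) r₁ = r ⊗ 1` -/
lemma theta'_coact (y : R) : theta' (k := k) (ρ k A R y) = y ⊗ₜ[k] (1 : A) := by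
  rw [theta'_eq, coassoc_apply (C := A) y, ← LinearMap.comp_apply, ← LinearMap.lTensor_comp,
    LinearMap.comp_assoc, HopfAlgebra.mul_antipode_rTensor_comul, LinearMap.lTensor_comp,
    LinearMap.comp_apply]
  have h := LinearMap.congr_fun (Comod.counit_comp (k := k) (A := A) (V := R)) y
  simp only [LinearMap.coe_comp, Function.comp_apply, LinearMap.flip_apply,
    TensorProduct.mk_apply] at h
  rw [h, LinearMap.lTensor_tmul]
  simp

/-- `θ(r ⊗ a) = ρ(r) · (1 ⊗ a)` -/
noncomputable def theta : R ⊗[k] A →ₐ[k] R ⊗[k] A :=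
  Algebra.TensorProduct.lift (GLin.coactAlgHom k A R)
    (Algebra.TensorProduct.includeRight) (fun _ _ => Commute.all _ _)

lemma theta_tmul (r : R) (a : A) :
    theta (k := k) (r ⊗ₜ[k] a) = ρ k A R r * ((1 : R) ⊗ₜ[k] a) := by
  simp [theta]

lemma theta_map_antipode (t : R ⊗[k] A) :
    theta (k := k)
      ((Algebra.TensorProduct.map (AlgHom.id k R) (HopfAlgebra.antipodeAlgHom k A)) t) =
      ColonStable.Psi (k := k) t := by
  induction t using TensorProduct.induction_on with
  | zero => simp
  | tmul r a => simp [theta_tmul, ColonStable.Psi_tmul, HopfAlgebra.antipodeAlgHom_apply]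
  | add x y hx hy => simp only [map_add, hx, hy]

lemma theta_comp_theta' :
    (theta (k := k) (A := A) (R := R)).comp (theta' (k := k) (A := A) (R := R)) =
      AlgHom.id k _ := by
  apply Algebra.TensorProduct.ext'
  intro r a
  simp only [AlgHom.coe_comp, Function.comp_apply, AlgHom.coe_id, id_eq]
  rw [theta'_tmul, map_mul, theta_tmul, rhoS, AlgHom.comp_apply, theta_map_antipode]
  have : (GLin.coactAlgHom k A R) r = ρ k A R r := rfl
  rw [this, ColonStable.Psi_coact]
  have h1 : ρ k A R (1 : R) = 1 := GLin.IsCoactAlg.coact_one (k := k)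
  rw [h1, one_mul, Algebra.TensorProduct.tmul_mul_tmul, one_mul, mul_one]

lemma theta'_injective : Function.Injective (theta' (k := k) (A := A) (R := R)) := by
  intro x y h
  have := congrArg (theta (k := k) (A := A) (R := R)) h
  have e1 := DFunLike.congr_fun (theta_comp_theta' (k := k) (A := A) (R := R)) x
  have e2 := DFunLike.congr_fun (theta_comp_theta' (k := k) (A := A) (R := R)) y
  simp only [AlgHom.coe_comp, Function.comp_apply, AlgHom.coe_id, id_eq] at e1 e2
  rw [← e1, ← e2, this]

/-- the coaction carries non-zero-divisors to non-zero-divisors -/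
theorem coact_mem_nonZeroDivisors {s : R} (hs : s ∈ nonZeroDivisors R) :
    ρ k A R s ∈ nonZeroDivisors (R ⊗[k] A) := by
  rw [mem_nonZeroDivisors_iff_right]
  intro w hw
  apply theta'_injective (k := k) (A := A) (R := R)
  rw [map_zero]
  have h1 : theta' (k := k) (w * ρ k A R s) = 0 := by rw [hw, map_zero]
  rw [map_mul, theta'_coact] at h1
  -- `s ⊗ 1` is a non-zero-divisor by flatness
  have hinj : Function.Injective (LinearMap.rTensor A (LinearMap.mulRight k s)) :=
    Module.Flat.rTensor_preserves_injective_linearMap _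
      (fun a b hab => by
        have := (mem_nonZeroDivisors_iff_right.1 hs) (a - b) (by
          simp only [LinearMap.mulRight_apply] at hab
          rw [sub_mul, hab, sub_self])
        exact sub_eq_zero.1 this)
  have h2 : LinearMap.rTensor A (LinearMap.mulRight k s) (theta' (k := k) w) = 0 := by
    rw [← h1]
    generalize theta' (k := k) w = z
    induction z using TensorProduct.induction_on with
    | zero => simp
    | tmul r a => simp
    | add x y hx hy => simp only [map_add, hx, hy, add_mul]
  exact hinj (by rw [h2, map_zero])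

theorem tmul_one_mem_nonZeroDivisors {s : R} (hs : s ∈ nonZeroDivisors R) :
    s ⊗ₜ[k] (1 : A) ∈ nonZeroDivisors (R ⊗[k] A) := by
  rw [mem_nonZeroDivisors_iff_right]
  intro w hw
  have hinj : Function.Injective (LinearMap.rTensor A (LinearMap.mulRight k s)) :=
    Module.Flat.rTensor_preserves_injective_linearMap _
      (fun a b hab => by
        have := (mem_nonZeroDivisors_iff_right.1 hs) (a - b) (by
          simp only [LinearMap.mulRight_apply] at hab
          rw [sub_mul, hab, sub_self])
        exact sub_eq_zero.1 this)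
  have h2 : LinearMap.rTensor A (LinearMap.mulRight k s) w = 0 := by
    rw [← hw]
    generalize w = z
    induction z using TensorProduct.induction_on with
    | zero => simp
    | tmul r a => simp
    | add x y hx hy => simp only [map_add, hx, hy, add_mul]
  exact hinj (by rw [h2, map_zero])

end Shear

end Groth.Agent.Helper7.InvNorm
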