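import Mathlib
import Groth.Prelude.Def_CAlg
import Groth.Prelude.Def_HopfRep
import Groth.Prelude.Def_GLin
import Groth.Agent.Helper7.InvHt2
import Groth.Agent.Helper7.DepthLG
import Groth.Agent.Helper7.DepthFin
import Groth.Agent.Helper8.InvNoeth
import Groth.Agent.Helper6.DepthPi
import Groth.Agent.Helper9.DepthS2
import Groth.Agent.Helper2.DepthCM4

/-!
# Depth of the invariants of a finite linearly reductive group scheme
-/

set_option autoImplicit false
universe u

namespace Groth.Agent.Helper7.InvSk

open TensorProduct LocCoh IsLocalRing Groth.Agent.Helper7.InvHt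

section numerics

lemma num1 (r h : ℕ) (d : WithBot ℕ∞) (δ : ℕ∞) (hd : d ≤ ((h : ℕ∞) : WithBot ℕ∞))
    (hδ : ((min r h : ℕ) : ℕ∞) ≤ δ) : min (r : WithBot ℕ∞) d ≤ (δ : WithBot ℕ∞) := by
  refine le_trans (min_le_min le_rfl hd) ?_
  have h1 : min (r : WithBot ℕ∞) ((h : ℕ∞) : WithBot ℕ∞) = (((min r h : ℕ) : ℕ∞) : WithBot ℕ∞) := by
    rcases le_total r h with hrh | hrh
    · rw [min_eq_left hrh, min_eq_left]
      · rfl
      · exact_mod_cast hrh
    · rw [min_eq_right hrh, min_eq_right]
      exact_mod_cast hrh
  rw [h1]
  exact WithBot.coe_le_coe.mpr hδ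

lemma num2 (r : ℕ) (e δ : ℕ∞)
    (h : min (r : WithBot ℕ∞) ((e : ℕ∞) : WithBot ℕ∞) ≤ (δ : WithBot ℕ∞)) :
    min (r : ℕ∞) e ≤ δ := by
  have h1 : min (r : WithBot ℕ∞) ((e : ℕ∞) : WithBot ℕ∞) = ((min (r : ℕ∞) e : ℕ∞) : WithBot ℕ∞) := by
    rw [WithBot.coe_min]; rfl
  rw [h1, WithBot.coe_le_coe] at h
  exact h

end numerics

variable (k : Type u) [Field k] (H : Type u) [CommRing H] [HopfAlgebra k H] [Module.Finite k H]
  (R : Type u) [CommRing R] [Algebra k R] [Algebra.FiniteType k R]
  [HopfRep.Comod k H R] [GLin.IsCoactAlg k H R]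

omit [Module.Finite k H] [Algebra.FiniteType k R] in
lemma nontrivial_localized (p : Ideal (GLin.invariants k H R)) [p.IsPrime] :
    Nontrivial (LocalizedModule p.primeCompl R) := by
  refine ⟨LocalizedModule.mkLinearMap p.primeCompl R 1, 0, fun h => ?_⟩
  obtain ⟨c, hc⟩ := (IsLocalizedModule.eq_zero_iff p.primeCompl
    (LocalizedModule.mkLinearMap p.primeCompl R)).mp h
  have h1 : ((c : GLin.invariants k H R) : R) = 0 := by
    change ((c : GLin.invariants k H R) : R) * 1 = 0 at hc
    rwa [mul_one] at hc
  have h2 : (c : GLin.invariants k H R) = 0 := Subtype.ext h1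
  exact c.2 (h2 ▸ p.zero_mem)

/-- depth of `R_p` over `A_p` from the local depths of `R`. -/
theorem depth_localized_ge (p : Ideal (GLin.invariants k H R)) [p.IsPrime] (n : ℕ)
    (hR : ∀ (Q : Ideal R) [Q.IsPrime], p.height ≤ Q.height →
      (n : ℕ∞) ≤ depth (Localization.AtPrime Q) (LocalizedModule Q.primeCompl R)) :
    (n : ℕ∞) ≤ depth (Localization.AtPrime p) (LocalizedModule p.primeCompl R) := by
  haveI := finite_over_invariants k H R
  haveI := isNoetherianRing_invariants k H R
  haveI := isNoetherianRing_of_finiteType k R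
  have h1 : (n : ℕ∞) ≤ idealDepth (p.map (algebraMap (GLin.invariants k H R) R)) R := by
    apply Groth.Agent.Helper7.DepthLG.le_idealDepth_of_local
    intro Q _ hle _
    apply hR Q
    rw [← height_comap_invariants k H R Q]
    exact Ideal.height_mono (Ideal.map_le_iff_le_comap.mp hle)
  rw [← Groth.Agent.Helper7.DepthFin.idealDepth_map_eq p R] at h1
  exact Groth.Agent.Helper9.DepthS2.le_depth_loc p R n h1 p le_rfl (nontrivial_localized k H R p)

/-- the invariants are a retract of `R`, so their depth is at least that of `R`. -/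
theorem depth_invariants_ge (hG : HopfRep.IsLinearlyReductive k H)
    (p : Ideal (GLin.invariants k H R)) [p.IsPrime] :
    depth (Localization.AtPrime p) (LocalizedModule p.primeCompl R) ≤
      depth (Localization.AtPrime p) (LocalizedModule p.primeCompl (GLin.invariants k H R)) := by
  haveI := finite_over_invariants k H R
  haveI := isNoetherianRing_invariants k H R
  obtain ⟨E, hE₁, hE₂, hE₃, hE₄⟩ := Groth.Agent.Helper8.InvNoeth.exists_reynolds k H hG R
  have hEmem : ∀ x, E x ∈ GLin.invariants k H R := fun x => (hE₃ _).mp (hE₂ x)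
  let E' : R →ₗ[GLin.invariants k H R] GLin.invariants k H R :=
    { toFun := fun x => ⟨E x, hEmem x⟩
      map_add' := fun x y => Subtype.ext (by simp)
      map_smul' := fun a x => Subtype.ext (by
        show E ((a : R) * x) = (a : R) * E x
        exact hE₄ a a.2 x) }
  let ι' := LocalizedModule.map p.primeCompl (Algebra.linearMap (GLin.invariants k H R) R)
  let π' := LocalizedModule.map p.primeCompl E'
  have hcomp : π' ∘ₗ ι' = LinearMap.id := by
    refine LinearMap.ext fun x => ?_
    induction x using LocalizedModule.induction_on with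
    | h a s =>
      show π' (ι' (LocalizedModule.mk a s)) = LocalizedModule.mk a s
      rw [LocalizedModule.map_mk, LocalizedModule.map_mk]
      congr 1
      apply Subtype.ext
      show E (a : R) = a
      exact (hE₃ _).mpr a.2
  exact Groth.Agent.Helper6.DepthLemma.idealDepth_le_of_retract
    (maximalIdeal (Localization.AtPrime p)) ι' π' hcomp

omit [Module.Finite k H] [HopfRep.Comod k H R] [GLin.IsCoactAlg k H R] in
include k in
/-- local depths of a ring with `(S_r)` -/
lemma depth_of_hasSk (r : ℕ) (hR : LocCoh.HasSk r R R) (Q : Ideal R) [Q.IsPrime] :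
    min (r : ℕ∞) Q.height ≤ depth (Localization.AtPrime Q) (LocalizedModule Q.primeCompl R) := by
  haveI := isNoetherianRing_of_finiteType k R
  have h1 := hR Q
  rw [Groth.Agent.Helper9.DepthS2.supportDim_locSelf Q] at h1
  exact num2 r _ _ h1

omit [Module.Finite k H] [Algebra.FiniteType k R] in
lemma exists_height_eq [IsNoetherianRing (GLin.invariants k H R)]
    (p : Ideal (GLin.invariants k H R)) [hp : p.IsPrime] : ∃ h : ℕ, p.height = h := by
  obtain ⟨h, hh⟩ := ENat.ne_top_iff_exists.mp (Ideal.height_ne_top hp.ne_top)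
  exact ⟨h, hh.symm⟩

theorem hasSk_module (r : ℕ) (hR : LocCoh.HasSk r R R) :
    LocCoh.HasSk r (GLin.invariants k H R) R := by
  haveI := finite_over_invariants k H R
  haveI := isNoetherianRing_invariants k H R
  intro p _
  obtain ⟨h, hh⟩ := exists_height_eq k H R p
  refine num1 r h _ _ ?_ ?_
  · refine le_trans (Module.supportDim_le_ringKrullDim _ _) ?_
    rw [IsLocalization.AtPrime.ringKrullDim_eq_height p, hh]
  · apply depth_localized_ge k H R p
    intro Q _ hle
    refine le_trans ?_ (depth_of_hasSk k R r hR Q)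
    rw [hh] at hle
    refine le_min ?_ ?_
    · exact_mod_cast min_le_left r h
    · refine le_trans ?_ hle
      exact_mod_cast min_le_right r h

theorem hasSk_invariants (hG : HopfRep.IsLinearlyReductive k H) (r : ℕ) (hR : LocCoh.HasSk r R R) :
    LocCoh.HasSk r (GLin.invariants k H R) (GLin.invariants k H R) := by
  haveI := finite_over_invariants k H R
  haveI := isNoetherianRing_invariants k H R
  intro p _
  obtain ⟨h, hh⟩ := exists_height_eq k H R p
  refine num1 r h _ _ ?_ ?_
  · rw [Groth.Agent.Helper9.DepthS2.supportDim_locSelf p, hh]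
  · refine le_trans ?_ (depth_invariants_ge k H R hG p)
    apply depth_localized_ge k H R p
    intro Q _ hle
    refine le_trans ?_ (depth_of_hasSk k R r hR Q)
    rw [hh] at hle
    refine le_min ?_ ?_
    · exact_mod_cast min_le_left r h
    · refine le_trans ?_ hle
      exact_mod_cast min_le_right r h

omit [Module.Finite k H] [Algebra.FiniteType k R] [HopfRep.Comod k H R] [GLin.IsCoactAlg k H R] in
/-- local depths of a Cohen–Macaulay ring -/
lemma depth_of_cm (hR : LocCoh.IsCohenMacaulayRing R) (Q : Ideal R) [Q.IsPrime] :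
    Q.height ≤ depth (Localization.AtPrime Q) (LocalizedModule Q.primeCompl R) := by
  haveI : IsNoetherianRing R := hR.toIsNoetherian
  have h1 := (hR.isCohenMacaulayLocalRing_localization Q).supportDim_eq_depth
  rw [Module.supportDim_self_eq_ringKrullDim, IsLocalization.AtPrime.ringKrullDim_eq_height Q,
    WithBot.coe_inj] at h1
  rw [h1]

theorem cm_invariants (hG : HopfRep.IsLinearlyReductive k H) (hR : LocCoh.IsCohenMacaulayRing R) :
    LocCoh.IsCohenMacaulayRing (GLin.invariants k H R) ∧
      ∀ (p : Ideal (GLin.invariants k H R)) [p.IsPrime],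
        LocCoh.IsCohenMacaulayModule (Localization.AtPrime p) (LocalizedModule p.primeCompl R) ∧
          Module.supportDim (Localization.AtPrime p) (LocalizedModule p.primeCompl R) =
            ringKrullDim (Localization.AtPrime p) := by
  haveI := finite_over_invariants k H R
  haveI := isNoetherianRing_invariants k H R
  -- the key inequality at every prime
  have key : ∀ (p : Ideal (GLin.invariants k H R)) [p.IsPrime],
      p.height ≤ depth (Localization.AtPrime p) (LocalizedModule p.primeCompl R) := by
    intro p _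
    obtain ⟨h, hh⟩ := exists_height_eq k H R p
    rw [hh]
    apply depth_localized_ge k H R p
    intro Q _ hle
    rw [hh] at hle
    exact le_trans hle (depth_of_cm R hR Q)
  have hsupp : ∀ (p : Ideal (GLin.invariants k H R)) [p.IsPrime],
      Module.supportDim (Localization.AtPrime p) (LocalizedModule p.primeCompl R) ≤
        ((p.height : ℕ∞) : WithBot ℕ∞) := by
    intro p _
    refine le_trans (Module.supportDim_le_ringKrullDim _ _) ?_
    rw [IsLocalization.AtPrime.ringKrullDim_eq_height p]
  have hdepth : ∀ (p : Ideal (GLin.invariants k H R)) [p.IsPrime],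
      ((depth (Localization.AtPrime p) (LocalizedModule p.primeCompl R) : ℕ∞) : WithBot ℕ∞) ≤
        Module.supportDim (Localization.AtPrime p) (LocalizedModule p.primeCompl R) := by
    intro p _
    haveI := nontrivial_localized k H R p
    exact Groth.Agent.Helper2.DepthCM4.depth_le_supportDim _
  refine ⟨?_, ?_⟩
  · refine { isCohenMacaulayLocalRing_localization := fun p _ => ?_ }
    refine { supportDim_eq_depth := ?_ }
    rw [Module.supportDim_self_eq_ringKrullDim, IsLocalization.AtPrime.ringKrullDim_eq_height p]
    apply le_antisymm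
    · rw [WithBot.coe_le_coe]
      refine le_trans (key p) (le_trans (depth_invariants_ge k H R hG p) ?_)
      apply le_of_eq
      exact Groth.Agent.Helper2.DepthCM.idealDepth_congr _
        (Groth.Agent.Helper9.DepthS2.locSelfEquiv p)
    · have := Groth.Agent.Helper2.DepthCM4.depth_le_supportDim (A := Localization.AtPrime p)
        (Localization.AtPrime p)
      rwa [Module.supportDim_self_eq_ringKrullDim,
        IsLocalization.AtPrime.ringKrullDim_eq_height p] at this
  · intro p _
    have h1 : ((p.height : ℕ∞) : WithBot ℕ∞) ≤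
        ((depth (Localization.AtPrime p) (LocalizedModule p.primeCompl R) : ℕ∞) : WithBot ℕ∞) :=
      WithBot.coe_le_coe.mpr (key p)
    refine ⟨?_, ?_⟩
    · exact le_antisymm (le_trans (hsupp p) h1) (hdepth p)
    · rw [IsLocalization.AtPrime.ringKrullDim_eq_height p]
      exact le_antisymm (hsupp p) (le_trans h1 (hdepth p))

end Groth.Agent.Helper7.InvSk
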