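import Mathlib
import Groth.Prelude.Def_GrSyz
import Groth.Agent.Helper7.MinRes

set_option autoImplicit false

open DirectSum MvPolynomial

namespace Groth.Agent.Helper7.IrrelMax

open Groth.Agent.Helper7.GrSyzMin Groth.Agent.Helper7.MinRes

universe u

/-- the irrelevant ideal of a polynomial ring over a field is maximal. -/
theorem irrel_isMaximal (k : Type u) [Field k] (r : ℕ) :
    (GrSyz.irrel (GrSyz.stdGr k (Fin (r + 1)))).toIdeal.IsMaximal := by
  classical
  rw [Ideal.isMaximal_iff]
  refine ⟨one_not_mem k (Fin (r + 1)), fun J x hJ hx hxJ => ?_⟩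
  have h0 : (decompose (GrSyz.stdGr k (Fin (r + 1))) x 0 : MvPolynomial (Fin (r + 1)) k) ∉
      (GrSyz.irrel (GrSyz.stdGr k (Fin (r + 1)))).toIdeal :=
    fun h => hx (mem_irrel_of_component_zero k r x h)
  have hu := isUnit_of_not_mem k (Fin (r + 1)) 0 _ (SetLike.coe_mem _) h0
  have hdiff : x - (decompose (GrSyz.stdGr k (Fin (r + 1))) x 0 : MvPolynomial (Fin (r + 1)) k) ∈
      (GrSyz.irrel (GrSyz.stdGr k (Fin (r + 1)))).toIdeal := by
    apply mem_irrel_of_component_zero k r
    rw [decompose_sub, DirectSum.sub_apply, AddSubgroupClass.coe_sub,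
      decompose_of_mem_same _ (SetLike.coe_mem _), sub_self]
    exact Ideal.zero_mem _
  have hmem : (decompose (GrSyz.stdGr k (Fin (r + 1))) x 0 : MvPolynomial (Fin (r + 1)) k) ∈ J := by
    have := J.sub_mem hxJ (hJ hdiff)
    simpa using this
  exact (Ideal.eq_top_of_isUnit_mem J hmem hu) ▸ Submodule.mem_top

end Groth.Agent.Helper7.IrrelMax
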