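import Mathlib
import Groth.Prelude.Def_CAlg
import Groth.Agent.Helper2.Isch
set_option autoImplicit false
open RingTheory.Sequence IsLocalRing Pointwise CategoryTheory
universe u

namespace Groth.Agent.Helper7.Ischebeck
open Groth.Agent.Helper2

theorem ext_subsingleton (A : Type u) [CommRing A] [IsNoetherianRing A]
    [IsLocalRing A] (M N : Type u) [AddCommGroup M] [Module A M] [AddCommGroup N] [Module A N]
    [Module.Finite A M] [Module.Finite A N] [Nontrivial M] [Nontrivial N]
    (d r i : ℕ) (hd : LocCoh.depth A M = d) (hr : Module.supportDim A N = r) (hi : i + r < d) :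
    Subsingleton (Abelian.Ext (ModuleCat.of A N) (ModuleCat.of A M) i) := by
  set I := Module.annihilator A N with hI
  have hItop : I ≠ ⊤ := by
    intro h
    have : (1 : A) ∈ Module.annihilator A N := by rw [← hI, h]; trivial
    rw [Module.mem_annihilator] at this
    obtain ⟨m, hm⟩ := exists_ne (0 : N)
    exact hm (by simpa using this m)
  have hIm : I ≤ maximalIdeal A := IsLocalRing.le_maximalIdeal hItop
  have hIM : I • (⊤ : Submodule A M) ≠ ⊤ := Isch.smul_top_ne_top_of_le M I hIm
  obtain ⟨rs, hreg, hmem, hmax, hlen⟩ := DepthCM.exists_length_eq_idealDepth I M hIM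
  have hSne : Ideal.ofList rs • (⊤ : Submodule A M) ≠ ⊤ :=
    DepthRees.ofList_smul_top_ne_top hIM rs hmem
  have : Nontrivial (M ⧸ Ideal.ofList rs • (⊤ : Submodule A M)) :=
    Submodule.Quotient.nontrivial_iff.2 hSne
  have hzd : ∀ x ∈ I, ¬ IsSMulRegular (M ⧸ Ideal.ofList rs • (⊤ : Submodule A M)) x := by
    intro x hx hcon
    apply hmax x hx
    rw [isWeaklyRegular_append_iff]
    exact ⟨hreg, (isWeaklyRegular_singleton_iff _ x).2 hcon⟩
  obtain ⟨p₀, hp₀⟩ := associatedPrimes.nonempty A (M ⧸ Ideal.ofList rs • (⊤ : Submodule A M))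
  have hex : ∃ q ∈ associatedPrimes A (M ⧸ Ideal.ofList rs • (⊤ : Submodule A M)), I ≤ q := by
    rcases Ass.exists_le_assPrime_or_le A (M ⧸ Ideal.ofList rs • (⊤ : Submodule A M))
      I p₀ (fun x hx _ => hzd x hx) with h | h
    · exact ⟨p₀, hp₀, h⟩
    · exact h
  obtain ⟨P, hP, hIP⟩ := hex
  have hPprime : P.IsPrime := hP.isPrime
  have hPm : P ≤ maximalIdeal A := IsLocalRing.le_maximalIdeal hPprime.ne_top
  have hPM : P • (⊤ : Submodule A M) ≠ ⊤ := Isch.smul_top_ne_top_of_le M P hPm
  have hmaxP : ∀ x ∈ P, ¬ IsWeaklyRegular M (rs ++ [x]) := by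
    intro x hx hcon
    rw [isWeaklyRegular_append_iff] at hcon
    have hxr := (isWeaklyRegular_singleton_iff _ x).1 hcon.2
    exact Depth.not_regular_of_mem_ass A _ P hP x hx hxr
  have hlenP := DepthRees.length_eq_idealDepth_of_maximal P M hPM rs hreg
    (fun x hx => hIP (hmem x hx)) hmaxP
  have h1 := Isch.depth_le_idealDepth_add_dim P rs.length M hlenP.symm
  have hPN : (⟨P, hPprime⟩ : PrimeSpectrum A) ∈ Module.support A N := by
    rw [Module.mem_support_iff_of_finite]
    exact hIP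
  have h2 := SuppDim.dim_quot_le_supportDim A N ⟨P, hPprime⟩ hPN
  change ringKrullDim (A ⧸ P) ≤ _ at h2
  rw [hr] at h2
  rw [hd] at h1
  have h3 : ((d : ℕ∞) : WithBot ℕ∞) ≤ ((rs.length : ℕ∞) : WithBot ℕ∞) + ((r : ℕ) : WithBot ℕ∞) :=
    h1.trans (add_le_add_right h2 _)
  have h4 : d ≤ rs.length + r := by
    have : ((d : ℕ) : WithBot ℕ∞) ≤ ((rs.length + r : ℕ) : WithBot ℕ∞) := by
      push_cast; exact h3
    exact_mod_cast this
  have hilt : i < rs.length := by omega
  exact DepthRees.ext_subsingleton_of_weaklyRegular I (ModuleCat.of A N) 1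
    (fun a ha => by simpa using ha) rs (ModuleCat.of A M) hreg hmem i hilt

end Groth.Agent.Helper7.Ischebeck
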