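import Mathlib

set_option autoImplicit false
set_option maxSynthPendingDepth 3

namespace Groth.Agent.Helper7.JInv

open Polynomial

variable {k : Type*} [Field k]

/-- `k`-algebra maps out of `k(X)` into a field are determined by the image of `X`. -/
theorem algHom_ext_X {L : Type*} [Field L] [Algebra k L] (f g : RatFunc k →ₐ[k] L)
    (h : f RatFunc.X = g RatFunc.X) : f = g := by
  have h1 : (f : RatFunc k →+* L) = (g : RatFunc k →+* L) := by
    apply IsFractionRing.ringHom_ext (A := k[X])
    intro p
    induction p using Polynomial.induction_on' with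
    | add p q hp hq => rw [map_add, map_add, map_add, hp, hq]
    | monomial n a =>
      rw [RatFunc.algebraMap_monomial, map_mul, map_mul, map_pow, map_pow]
      have : (RatFunc.C a : RatFunc k) = algebraMap k (RatFunc k) a := by
        rw [RatFunc.algebraMap_eq_C]
      rw [this]
      simp only [RingHom.coe_coe, AlgHom.commutes, h]
  ext x
  exact RingHom.congr_fun h1 x

theorem algEquiv_ext_X (f g : RatFunc k ≃ₐ[k] RatFunc k)
    (h : f RatFunc.X = g RatFunc.X) : f = g := by
  have := algHom_ext_X (f : RatFunc k →ₐ[k] RatFunc k) (g : RatFunc k →ₐ[k] RatFunc k) h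
  ext x
  exact AlgHom.congr_fun this x

theorem X_ne_zero' : (RatFunc.X : RatFunc k) ≠ 0 := RatFunc.X_ne_zero

theorem X_sub_one_ne_zero : (RatFunc.X : RatFunc k) - 1 ≠ 0 := by
  have h : (RatFunc.X : RatFunc k) - 1 = algebraMap k[X] (RatFunc k) (X - 1) := by
    rw [map_sub, RatFunc.algebraMap_X, map_one]
  rw [h, Ne, map_eq_zero_iff _ (IsFractionRing.injective k[X] (RatFunc k))]
  exact X_sub_C_ne_zero (1 : k) |> fun h => by simpa using h

/-- the `j`-function. -/
noncomputable def jj (k : Type*) [Field k] : RatFunc k :=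
  (256 : RatFunc k) * ((RatFunc.X : RatFunc k) ^ 2 - RatFunc.X + 1) ^ 3 /
    ((RatFunc.X : RatFunc k) ^ 2 * ((RatFunc.X : RatFunc k) - 1) ^ 2)

end Groth.Agent.Helper7.JInv
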