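import Groth.Agent.Helper7.JInv1

set_option autoImplicit false
set_option maxSynthPendingDepth 3

namespace Groth.Agent.Helper7.JInv

open Polynomial

variable {k : Type*} [Field k]

section inv

variable (σ τ : RatFunc k ≃ₐ[k] RatFunc k) (hσ : σ RatFunc.X = (RatFunc.X : RatFunc k)⁻¹)
    (hτ : τ RatFunc.X = 1 - (RatFunc.X : RatFunc k))

include hσ in
theorem sigma_jj : σ (jj k) = jj k := by
  have hX := X_ne_zero' (k := k)
  have hX1 := X_sub_one_ne_zero (k := k)
  have h1 : (1 : RatFunc k) - RatFunc.X ≠ 0 := by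
    intro h
    apply hX1
    linear_combination -h
  simp only [jj, map_div₀, map_mul, map_pow, map_sub, map_add, map_one, hσ, map_ofNat]
  have e1 : (RatFunc.X : RatFunc k)⁻¹ ^ 2 - RatFunc.X⁻¹ + 1 =
      (RatFunc.X ^ 2 - RatFunc.X + 1) / RatFunc.X ^ 2 := by
    field_simp
    ring
  have e2 : (RatFunc.X : RatFunc k)⁻¹ - 1 = (1 - RatFunc.X) / RatFunc.X := by
    field_simp
  rw [e1, e2]
  field_simp
  ring

include hτ in
theorem tau_jj : τ (jj k) = jj k := by
  have hX := X_ne_zero' (k := k)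
  have hX1 := X_sub_one_ne_zero (k := k)
  have h1 : (1 : RatFunc k) - RatFunc.X ≠ 0 := by
    intro h
    apply hX1
    linear_combination -h
  have h2 : (1 : RatFunc k) - RatFunc.X - 1 ≠ 0 := by
    intro h
    apply hX
    linear_combination -h
  simp only [jj, map_div₀, map_mul, map_pow, map_sub, map_add, map_one, hτ, map_ofNat]
  field_simp
  ring

theorem jj_mem_B : jj k ∈ Algebra.adjoin k
    ({RatFunc.X, (RatFunc.X : RatFunc k)⁻¹, ((RatFunc.X : RatFunc k) - 1)⁻¹} : Set (RatFunc k)) := by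
  have hX := X_ne_zero' (k := k)
  have hX1 := X_sub_one_ne_zero (k := k)
  set S := Algebra.adjoin k
    ({RatFunc.X, (RatFunc.X : RatFunc k)⁻¹, ((RatFunc.X : RatFunc k) - 1)⁻¹} : Set (RatFunc k))
  have h1 : (RatFunc.X : RatFunc k) ∈ S := Algebra.subset_adjoin (by simp)
  have h2 : (RatFunc.X : RatFunc k)⁻¹ ∈ S := Algebra.subset_adjoin (by simp)
  have h3 : ((RatFunc.X : RatFunc k) - 1)⁻¹ ∈ S := Algebra.subset_adjoin (by simp)
  have h4 : jj k = 256 * ((RatFunc.X : RatFunc k) ^ 2 - RatFunc.X + 1) ^ 3 *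
      ((RatFunc.X : RatFunc k)⁻¹) ^ 2 * (((RatFunc.X : RatFunc k) - 1)⁻¹) ^ 2 := by
    rw [jj]
    field_simp
  rw [h4]
  have h256 : (256 : RatFunc k) ∈ S := by
    have : (256 : RatFunc k) = algebraMap k (RatFunc k) 256 := (map_ofNat _ 256).symm
    rw [this]
    exact S.algebraMap_mem _
  exact S.mul_mem (S.mul_mem (S.mul_mem h256 (S.pow_mem (S.add_mem (S.sub_mem (S.pow_mem h1 _) h1)
    (S.one_mem)) _)) (S.pow_mem h2 _)) (S.pow_mem h3 _)

include hσ hτ in
theorem easy_dir (b : RatFunc k) (hb : b ∈ Algebra.adjoin k ({jj k} : Set (RatFunc k))) :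
    b ∈ Algebra.adjoin k
      ({RatFunc.X, (RatFunc.X : RatFunc k)⁻¹, ((RatFunc.X : RatFunc k) - 1)⁻¹} : Set (RatFunc k)) ∧
      σ b = b ∧ τ b = b := by
  induction hb using Algebra.adjoin_induction with
  | mem x hx =>
    rw [Set.mem_singleton_iff] at hx
    subst hx
    exact ⟨jj_mem_B, sigma_jj σ hσ, tau_jj τ hτ⟩
  | algebraMap r => exact ⟨Subalgebra.algebraMap_mem _ _, σ.commutes r, τ.commutes r⟩
  | add x y _ _ hx hy =>
    exact ⟨Subalgebra.add_mem _ hx.1 hy.1, by rw [map_add, hx.2.1, hy.2.1],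
      by rw [map_add, hx.2.2, hy.2.2]⟩
  | mul x y _ _ hx hy =>
    exact ⟨Subalgebra.mul_mem _ hx.1 hy.1, by rw [map_mul, hx.2.1, hy.2.1],
      by rw [map_mul, hx.2.2, hy.2.2]⟩

end inv

end Groth.Agent.Helper7.JInv
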