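import Groth.Agent.Helper7.JInv2

set_option autoImplicit false
set_option maxSynthPendingDepth 3

namespace Groth.Agent.Helper7.JInv

open Polynomial IntermediateField

variable {k : Type*} [Field k]

/-- the fixed field of an automorphism. -/
def fixF (σ : RatFunc k ≃ₐ[k] RatFunc k) : IntermediateField k (RatFunc k) where
  carrier := {x | σ x = x}
  mul_mem' := fun {a b} ha hb => by
    simp only [Set.mem_ofPred_eq] at ha hb ⊢
    rw [map_mul, ha, hb]
  add_mem' := fun {a b} ha hb => by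
    simp only [Set.mem_ofPred_eq] at ha hb ⊢
    rw [map_add, ha, hb]
  algebraMap_mem' := fun r => σ.commutes r
  inv_mem' := fun a ha => by
    simp only [Set.mem_ofPred_eq] at ha ⊢
    rw [map_inv₀, ha]

theorem fix_of_mem (σ : RatFunc k ≃ₐ[k] RatFunc k) (hj : σ (jj k) = jj k)
    (c : k⟮jj k⟯) : σ (c : RatFunc k) = c := by
  have h : k⟮jj k⟯ ≤ fixF σ := adjoin_simple_le_iff.mpr hj
  exact h c.2

/-- promote to an `F`-automorphism. -/
noncomputable def toF (σ : RatFunc k ≃ₐ[k] RatFunc k) (hj : σ (jj k) = jj k) :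
    RatFunc k ≃ₐ[k⟮jj k⟯] RatFunc k :=
  AlgEquiv.ofRingEquiv (f := σ.toRingEquiv) (fun c => fix_of_mem σ hj c)

@[simp] theorem toF_apply (σ : RatFunc k ≃ₐ[k] RatFunc k) (hj : σ (jj k) = jj k)
    (x : RatFunc k) : toF σ hj x = σ x := rfl

/-- polynomial numerator / denominator of `j`. -/
noncomputable def jnum (k : Type*) [Field k] : k[X] := C 256 * (X ^ 2 - X + 1) ^ 3
noncomputable def jden (k : Type*) [Field k] : k[X] := X ^ 2 * (X - 1) ^ 2

theorem jj_eq : jj k = algebraMap k[X] (RatFunc k) (jnum k) / algebraMap k[X] (RatFunc k) (jden k) := by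
  simp only [jj, jnum, jden, map_mul, map_pow, map_sub, map_add, map_one, RatFunc.algebraMap_X,
    map_ofNat]

theorem jden_ne_zero : jden k ≠ 0 := by
  rw [jden]
  exact mul_ne_zero (pow_ne_zero _ X_ne_zero) (pow_ne_zero _ (X_sub_C_ne_zero (1 : k) |> fun h => by simpa using h))

theorem natDegree_jden : (jden k).natDegree = 4 := by
  have h1 : ((X : k[X]) - 1) = X - C 1 := by simp
  rw [jden, natDegree_mul (pow_ne_zero _ X_ne_zero) (pow_ne_zero _ (by rw [h1]; exact X_sub_C_ne_zero 1)),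
    natDegree_pow, natDegree_pow, natDegree_X, h1, natDegree_X_sub_C]

theorem quad_monic : ((X : k[X]) ^ 2 - X + 1).Monic := by
  have : ((X : k[X]) ^ 2 - X + 1) = X ^ 2 - (X - 1) := by ring
  rw [this]
  apply monic_X_pow_sub
  have h1 : ((X : k[X]) - 1) = X - C 1 := by simp
  rw [h1, degree_X_sub_C]
  norm_num

theorem natDegree_quad : ((X : k[X]) ^ 2 - X + 1).natDegree = 2 := by
  have : ((X : k[X]) ^ 2 - X + 1) = X ^ 2 - (X - 1) := by ring
  rw [this]
  have h1 : ((X : k[X]) - 1) = X - C 1 := by simp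
  rw [natDegree_sub_eq_left_of_natDegree_lt, natDegree_X_pow]
  rw [natDegree_X_pow, h1, natDegree_X_sub_C]
  norm_num

theorem natDegree_jnum (h2 : (2 : k) ≠ 0) : (jnum k).natDegree = 6 := by
  have h256 : (256 : k) ≠ 0 := by
    have : (256 : k) = 2 ^ 8 := by norm_num
    rw [this]; exact pow_ne_zero _ h2
  rw [jnum, natDegree_C_mul h256, (quad_monic).natDegree_pow, natDegree_quad]

theorem jnum_ne_zero (h2 : (2 : k) ≠ 0) : jnum k ≠ 0 := by
  intro h
  have := natDegree_jnum h2
  rw [h, natDegree_zero] at this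
  omega

end Groth.Agent.Helper7.JInv
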