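import Groth.Agent.Helper7.JInv3

set_option autoImplicit false
set_option maxSynthPendingDepth 3

namespace Groth.Agent.Helper7.JInv

open Polynomial IntermediateField

variable {k : Type*} [Field k]

theorem jj_ne_C (h2 : (2 : k) ≠ 0) : ¬ ∃ c : k, jj k = RatFunc.C c := by
  rintro ⟨c, hc⟩
  have hinj := IsFractionRing.injective k[X] (RatFunc k)
  have hden : algebraMap k[X] (RatFunc k) (jden k) ≠ 0 := by
    rw [Ne, map_eq_zero_iff _ hinj]; exact jden_ne_zero
  rw [jj_eq, div_eq_iff hden, ← RatFunc.algebraMap_C, ← map_mul] at hc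
  have h3 := hinj hc
  have h4 := congrArg natDegree h3
  rw [natDegree_jnum h2] at h4
  have h5 : (C c * jden k).natDegree ≤ 4 := by
    refine (natDegree_C_mul_le _ _).trans ?_
    rw [natDegree_jden]
  omega

theorem finrank_le (h2 : (2 : k) ≠ 0) : Module.finrank k⟮jj k⟯ (RatFunc k) ≤ 6 := by
  rw [RatFunc.finrank_eq_max_natDegree]
  apply max_le
  · have h1 : (jj k).num ∣ jnum k := by
      rw [jj_eq]
      exact RatFunc.num_div_dvd _ jden_ne_zero
    have := natDegree_le_of_dvd h1 (jnum_ne_zero h2)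
    rwa [natDegree_jnum h2] at this
  · have h1 : (jj k).denom ∣ jden k := by
      rw [jj_eq]
      exact RatFunc.denom_div_dvd _ _
    have := natDegree_le_of_dvd h1 jden_ne_zero
    rw [natDegree_jden] at this
    omega

theorem finrank_pos (h2 : (2 : k) ≠ 0) : 0 < Module.finrank k⟮jj k⟯ (RatFunc k) := by
  rw [RatFunc.finrank_eq_max_natDegree]
  by_contra h
  have h0 : max (jj k).num.natDegree (jj k).denom.natDegree = 0 := by omega
  rw [Nat.max_eq_zero_iff, ← RatFunc.eq_C_iff] at h0
  exact jj_ne_C h2 h0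

theorem finiteDimensional (h2 : (2 : k) ≠ 0) : FiniteDimensional k⟮jj k⟯ (RatFunc k) :=
  Module.finite_of_finrank_pos (finrank_pos h2)

end Groth.Agent.Helper7.JInv
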