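import Groth.Agent.Helper7.JInv4

set_option autoImplicit false
set_option maxSynthPendingDepth 3

namespace Groth.Agent.Helper7.JInv

open Polynomial IntermediateField

variable {k : Type*} [Field k]

section inv

variable (σ τ : RatFunc k ≃ₐ[k] RatFunc k) (hσ : σ RatFunc.X = (RatFunc.X : RatFunc k)⁻¹)
    (hτ : τ RatFunc.X = 1 - (RatFunc.X : RatFunc k))

include hσ in
theorem sigma_sigma (x : RatFunc k) : σ (σ x) = x := by
  have h : σ.trans σ = AlgEquiv.refl := by
    apply algEquiv_ext_X
    rw [AlgEquiv.trans_apply, hσ, map_inv₀, hσ, inv_inv]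
    rfl
  exact AlgEquiv.congr_fun h x

include hσ in
theorem sigma_X_ne : σ RatFunc.X ≠ (RatFunc.X : RatFunc k) := by
  rw [hσ]
  intro h
  have hX := X_ne_zero' (k := k)
  have h1 : (RatFunc.X : RatFunc k) * RatFunc.X = 1 := by
    nth_rewrite 1 [← h]
    exact inv_mul_cancel₀ hX
  have h2 : algebraMap k[X] (RatFunc k) (X * X) = algebraMap k[X] (RatFunc k) 1 := by
    rw [map_mul, RatFunc.algebraMap_X, map_one, h1]
  have h3 := IsFractionRing.injective k[X] (RatFunc k) h2
  have h4 := congrArg natDegree h3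
  rw [natDegree_mul X_ne_zero X_ne_zero, natDegree_X, natDegree_one] at h4
  omega

include hσ hτ in
theorem rho_X : σ (τ RatFunc.X) = 1 - (RatFunc.X : RatFunc k)⁻¹ := by
  rw [hτ, map_sub, map_one, hσ]

include hσ hτ in
theorem rho_cube (x : RatFunc k) : σ (τ (σ (τ (σ (τ x))))) = x := by
  have hX := X_ne_zero' (k := k)
  have hX1 := X_sub_one_ne_zero (k := k)
  have h : (τ.trans σ).trans ((τ.trans σ).trans (τ.trans σ)) = AlgEquiv.refl := by
    apply algEquiv_ext_X
    simp only [AlgEquiv.trans_apply]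
    rw [rho_X σ τ hσ hτ]
    simp only [map_sub, map_one, map_inv₀]
    rw [rho_X σ τ hσ hτ]
    simp only [map_sub, map_one, map_inv₀]
    rw [rho_X σ τ hσ hτ]
    have e1 : (1 : RatFunc k) - RatFunc.X⁻¹ = (RatFunc.X - 1) / RatFunc.X := by
      field_simp
    have e2 : (1 : RatFunc k) - ((RatFunc.X - 1) / RatFunc.X)⁻¹ = -1 / (RatFunc.X - 1) := by
      rw [inv_div]
      field_simp
      ring
    rw [e1, e2, inv_div]
    show _ = RatFunc.X
    field_simp
    ring
  exact AlgEquiv.congr_fun h x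

include hσ hτ in
theorem rho_X_ne : σ (τ RatFunc.X) ≠ (RatFunc.X : RatFunc k) := by
  rw [rho_X σ τ hσ hτ]
  intro h
  have hX := X_ne_zero' (k := k)
  have h1 : (RatFunc.X : RatFunc k) ^ 2 - RatFunc.X + 1 = 0 := by
    field_simp at h
    linear_combination -h
  have h2 : algebraMap k[X] (RatFunc k) (X ^ 2 - X + 1) = 0 := by
    rw [map_add, map_sub, map_pow, RatFunc.algebraMap_X, map_one, h1]
  rw [map_eq_zero_iff _ (IsFractionRing.injective k[X] (RatFunc k))] at h2
  exact quad_monic.ne_zero h2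

end inv

end Groth.Agent.Helper7.JInv
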