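import Groth.Agent.Helper7.JInv5

set_option autoImplicit false
set_option maxSynthPendingDepth 3
set_option linter.style.haveILetI false

namespace Groth.Agent.Helper7.JInv

open Polynomial IntermediateField

variable {k : Type*} [Field k]

section inv

variable (σ τ : RatFunc k ≃ₐ[k] RatFunc k) (hσ : σ RatFunc.X = (RatFunc.X : RatFunc k)⁻¹)
    (hτ : τ RatFunc.X = 1 - (RatFunc.X : RatFunc k))

include hσ hτ in
theorem mem_F_of_fixed (h2 : (2 : k) ≠ 0) (b : RatFunc k) (hbσ : σ b = b) (hbτ : τ b = b) :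
    b ∈ k⟮jj k⟯ := by
  haveI := finiteDimensional (k := k) h2
  set σ' := toF σ (sigma_jj σ hσ) with hσ'
  set τ' := toF τ (tau_jj τ hτ) with hτ'
  -- orders
  have ho2 : orderOf σ' = 2 := by
    apply orderOf_eq_prime
    · ext x
      rw [pow_two, AlgEquiv.mul_apply, AlgEquiv.one_apply, hσ', toF_apply, toF_apply,
        sigma_sigma σ hσ]
    · intro h
      have := AlgEquiv.congr_fun h RatFunc.X
      rw [hσ', toF_apply, AlgEquiv.one_apply] at this
      exact sigma_X_ne σ hσ this
  have ho3 : orderOf (σ' * τ') = 3 := by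
    apply orderOf_eq_prime
    · ext x
      rw [pow_succ, pow_two]
      simp only [AlgEquiv.mul_apply, AlgEquiv.one_apply, hσ', hτ', toF_apply]
      exact rho_cube σ τ hσ hτ x
    · intro h
      have := AlgEquiv.congr_fun h RatFunc.X
      rw [AlgEquiv.mul_apply, hσ', hτ', toF_apply, toF_apply, AlgEquiv.one_apply] at this
      exact rho_X_ne σ τ hσ hτ this
  set H : Subgroup (RatFunc k ≃ₐ[k⟮jj k⟯] RatFunc k) := Subgroup.closure {σ', τ'} with hH
  have hσH : σ' ∈ H := Subgroup.subset_closure (by simp)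
  have hτH : τ' ∈ H := Subgroup.subset_closure (by simp)
  have h2H : 2 ∣ Nat.card H := by
    have := orderOf_dvd_natCard (⟨σ', hσH⟩ : H)
    rwa [← Subgroup.orderOf_coe, ho2] at this
  have h3H : 3 ∣ Nat.card H := by
    have := orderOf_dvd_natCard (⟨σ' * τ', H.mul_mem hσH hτH⟩ : H)
    rwa [← Subgroup.orderOf_coe, ho3] at this
  have h6H : 6 ∣ Nat.card H := by
    have : Nat.Coprime 2 3 := by norm_num
    exact this.mul_dvd_of_dvd_of_dvd h2H h3H
  have hHpos : 0 < Nat.card H := Nat.card_pos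
  have hHle : Nat.card H ≤ Nat.card (RatFunc k ≃ₐ[k⟮jj k⟯] RatFunc k) :=
    Subgroup.card_le_card_group H
  have hGle : Nat.card (RatFunc k ≃ₐ[k⟮jj k⟯] RatFunc k) ≤ Module.finrank k⟮jj k⟯ (RatFunc k) := by
    rw [Nat.card_eq_fintype_card]
    exact AlgEquiv.card_le
  have hfr := finrank_le (k := k) h2
  have hH6 : 6 ≤ Nat.card H := Nat.le_of_dvd hHpos h6H
  have hcard : Nat.card (RatFunc k ≃ₐ[k⟮jj k⟯] RatFunc k) = Module.finrank k⟮jj k⟯ (RatFunc k) := by
    omega
  haveI : IsGalois k⟮jj k⟯ (RatFunc k) := IsGalois.of_card_aut_eq_finrank _ _ hcard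
  have hHtop : H = ⊤ := Subgroup.eq_top_of_card_eq H (by omega)
  have hfix : ∀ f : RatFunc k ≃ₐ[k⟮jj k⟯] RatFunc k, f b = b := by
    intro f
    have hf : f ∈ H := by rw [hHtop]; exact Subgroup.mem_top f
    induction hf using Subgroup.closure_induction with
    | mem x hx =>
      rcases hx with rfl | rfl
      · exact hbσ
      · exact hbτ
    | one => rfl
    | mul x y _ _ hx hy => rw [AlgEquiv.mul_apply, hy, hx]
    | inv x _ hx =>
      have : x⁻¹ (x b) = b := by
        show x.symm (x b) = b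
        exact x.symm_apply_apply b
      rw [hx] at this
      exact this
  have hbot := (IsGalois.mem_bot_iff_fixed (F := k⟮jj k⟯) (E := RatFunc k) b).mpr hfix
  obtain ⟨c, hc⟩ := IntermediateField.mem_bot.mp hbot
  rw [← hc]
  exact c.2

end inv

end Groth.Agent.Helper7.JInv
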