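import Groth.Agent.Helper7.JInv6

set_option autoImplicit false
set_option maxSynthPendingDepth 3
set_option linter.style.haveILetI false

namespace Groth.Agent.Helper7.JInv

open Polynomial IntermediateField
open scoped IntermediateField.algebraAdjoinAdjoin

variable {k : Type*} [Field k]

theorem quad_monic' (R : Type*) [CommRing R] [Nontrivial R] : ((X : R[X]) ^ 2 - X + 1).Monic := by
  have : ((X : R[X]) ^ 2 - X + 1) = X ^ 2 - (X - 1) := by ring
  rw [this]
  apply monic_X_pow_sub
  have h1 : ((X : R[X]) - 1) = X - C 1 := by simp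
  rw [h1, degree_X_sub_C]
  norm_num

/-- `X` is integral over `k[j]`. -/
theorem isIntegral_X (h2 : (2 : k) ≠ 0) :
    IsIntegral (Algebra.adjoin k ({jj k} : Set (RatFunc k))) (RatFunc.X : RatFunc k) := by
  set R₀ := Algebra.adjoin k ({jj k} : Set (RatFunc k)) with hR₀
  have h256 : (256 : k) ≠ 0 := by
    have : (256 : k) = 2 ^ 8 := by norm_num
    rw [this]; exact pow_ne_zero _ h2
  let jR : R₀ := ⟨jj k, Algebra.self_mem_adjoin_singleton k (jj k)⟩
  let c : k := (256 : k)⁻¹
  let Φ : R₀[X] := (X ^ 2 - X + 1) ^ 3 - C (c • jR) * (jden k).map (algebraMap k R₀)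
  have hmon : Φ.Monic := by
    apply Monic.sub_of_left ((quad_monic' R₀).pow 3)
    have hd1 : ((X ^ 2 - X + 1 : R₀[X]) ^ 3).degree = 6 := by
      rw [degree_eq_natDegree ((quad_monic' R₀).pow 3).ne_zero, (quad_monic' R₀).natDegree_pow]
      have : ((X : R₀[X]) ^ 2 - X + 1).natDegree = 2 := by
        have : ((X : R₀[X]) ^ 2 - X + 1) = X ^ 2 - (X - 1) := by ring
        rw [this]
        have h1 : ((X : R₀[X]) - 1) = X - C 1 := by simp
        rw [natDegree_sub_eq_left_of_natDegree_lt, natDegree_X_pow]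
        rw [natDegree_X_pow, h1, natDegree_X_sub_C]
        norm_num
      rw [this]
      norm_num
    rw [hd1]
    refine lt_of_le_of_lt (degree_mul_le _ _) ?_
    refine lt_of_le_of_lt (add_le_add degree_C_le degree_map_le) ?_
    rw [zero_add]
    rw [degree_eq_natDegree jden_ne_zero, natDegree_jden]
    norm_num
  refine ⟨Φ, hmon, ?_⟩
  rw [← aeval_def]
  have e : aeval (RatFunc.X : RatFunc k) ((jden k).map (algebraMap k R₀)) =
      algebraMap k[X] (RatFunc k) (jden k) := by
    rw [aeval_map_algebraMap, RatFunc.aeval_X_left_eq_algebraMap]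
  simp only [Φ, map_sub, map_mul, map_pow, aeval_C, map_add, map_one, aeval_X, e]
  have hden : algebraMap k[X] (RatFunc k) (jden k) ≠ 0 := by
    rw [Ne, map_eq_zero_iff _ (IsFractionRing.injective k[X] (RatFunc k))]; exact jden_ne_zero
  have hjR : algebraMap R₀ (RatFunc k) (c • jR) = c • jj k := rfl
  rw [hjR, jj_eq]
  have e2 : c • (algebraMap k[X] (RatFunc k) (jnum k) / algebraMap k[X] (RatFunc k) (jden k)) *
      algebraMap k[X] (RatFunc k) (jden k) = c • algebraMap k[X] (RatFunc k) (jnum k) := by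
    rw [smul_mul_assoc, div_mul_cancel₀ _ hden]
  rw [e2, jnum, map_mul, map_pow, map_add, map_sub, map_pow, RatFunc.algebraMap_X, map_one,
    RatFunc.algebraMap_C, Algebra.smul_def, RatFunc.algebraMap_eq_C, ← mul_assoc, ← map_mul]
  have : c * 256 = 1 := inv_mul_cancel₀ h256
  rw [this, map_one, one_mul, sub_self]

end Groth.Agent.Helper7.JInv
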