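import Groth.Agent.Helper7.JInv7

set_option autoImplicit false
set_option maxSynthPendingDepth 3
set_option linter.style.haveILetI false

namespace Groth.Agent.Helper7.JInv

open Polynomial IntermediateField
open scoped IntermediateField.algebraAdjoinAdjoin

variable {k : Type*} [Field k]

theorem fix_of_mem_R₀ (φ : RatFunc k ≃ₐ[k] RatFunc k) (hj : φ (jj k) = jj k)
    (c : Algebra.adjoin k ({jj k} : Set (RatFunc k))) : φ (c : RatFunc k) = c := by
  have h : Algebra.adjoin k ({jj k} : Set (RatFunc k)) ≤ (fixF φ).toSubalgebra := by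
    apply Algebra.adjoin_le
    intro x hx
    rw [Set.mem_singleton_iff] at hx
    subst hx
    exact hj
  exact h c.2

/-- promote to an `R₀`-algebra hom. -/
noncomputable def toR₀ (φ : RatFunc k ≃ₐ[k] RatFunc k) (hj : φ (jj k) = jj k) :
    RatFunc k →ₐ[Algebra.adjoin k ({jj k} : Set (RatFunc k))] RatFunc k :=
  { φ.toRingEquiv.toRingHom with
    commutes' := fun c => fix_of_mem_R₀ φ hj c }

theorem toR₀_apply (φ : RatFunc k ≃ₐ[k] RatFunc k) (hj : φ (jj k) = jj k) (x : RatFunc k) :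
    toR₀ φ hj x = φ x := rfl

theorem isIntegral_map (φ : RatFunc k ≃ₐ[k] RatFunc k) (hj : φ (jj k) = jj k) (x : RatFunc k)
    (hx : IsIntegral (Algebra.adjoin k ({jj k} : Set (RatFunc k))) x) :
    IsIntegral (Algebra.adjoin k ({jj k} : Set (RatFunc k))) (φ x) := by
  have := hx.map (toR₀ φ hj)
  rwa [toR₀_apply] at this

section inv

variable (σ τ : RatFunc k ≃ₐ[k] RatFunc k) (hσ : σ RatFunc.X = (RatFunc.X : RatFunc k)⁻¹)
    (hτ : τ RatFunc.X = 1 - (RatFunc.X : RatFunc k))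

include hσ hτ in
theorem isIntegral_of_mem_B (h2 : (2 : k) ≠ 0) (b : RatFunc k)
    (hb : b ∈ Algebra.adjoin k
      ({RatFunc.X, (RatFunc.X : RatFunc k)⁻¹, ((RatFunc.X : RatFunc k) - 1)⁻¹} : Set (RatFunc k))) :
    IsIntegral (Algebra.adjoin k ({jj k} : Set (RatFunc k))) b := by
  have hX := isIntegral_X (k := k) h2
  have hXinv : IsIntegral (Algebra.adjoin k ({jj k} : Set (RatFunc k))) (RatFunc.X : RatFunc k)⁻¹ := by
    rw [← hσ]
    exact isIntegral_map σ (sigma_jj σ hσ) _ hX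
  have hX1inv : IsIntegral (Algebra.adjoin k ({jj k} : Set (RatFunc k)))
      ((RatFunc.X : RatFunc k) - 1)⁻¹ := by
    have e : ((RatFunc.X : RatFunc k) - 1)⁻¹ = -(τ (σ RatFunc.X)) := by
      rw [hσ, map_inv₀, hτ, ← inv_neg, neg_sub]
    rw [e]
    exact (isIntegral_map τ (tau_jj τ hτ) _ (isIntegral_map σ (sigma_jj σ hσ) _ hX)).neg
  have hle : Algebra.adjoin k
      ({RatFunc.X, (RatFunc.X : RatFunc k)⁻¹, ((RatFunc.X : RatFunc k) - 1)⁻¹} : Set (RatFunc k)) ≤
      (integralClosure (Algebra.adjoin k ({jj k} : Set (RatFunc k))) (RatFunc k)).restrictScalars k := by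
    apply Algebra.adjoin_le
    intro x hx
    rcases hx with rfl | rfl | rfl
    · exact hX
    · exact hXinv
    · exact hX1inv
  exact hle hb

end inv

theorem mem_R₀_of_isIntegral (h2 : (2 : k) ≠ 0) (b : RatFunc k) (hbF : b ∈ k⟮jj k⟯)
    (hb : IsIntegral (Algebra.adjoin k ({jj k} : Set (RatFunc k))) b) :
    b ∈ Algebra.adjoin k ({jj k} : Set (RatFunc k)) := by
  haveI : UniqueFactorizationMonoid (Algebra.adjoin k ({jj k} : Set (RatFunc k))) :=
    (RatFunc.transcendental_of_ne_C _ (jj_ne_C h2)).uniqueFactorizationMonoid_adjoin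
  have hb' : IsIntegral (Algebra.adjoin k ({jj k} : Set (RatFunc k))) (⟨b, hbF⟩ : k⟮jj k⟯) := by
    rw [← isIntegral_algebraMap_iff (B := RatFunc k) (algebraMap k⟮jj k⟯ (RatFunc k)).injective]
    exact hb
  obtain ⟨y, hy⟩ := (IsIntegrallyClosed.isIntegral_iff (K := k⟮jj k⟯)).mp hb'
  have : (y : RatFunc k) = b := by
    have := congrArg (fun z : k⟮jj k⟯ => (z : RatFunc k)) hy
    exact this
  rw [← this]
  exact y.2

end Groth.Agent.Helper7.JInv
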