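import Groth.Agent.Helper7.JInv8

set_option autoImplicit false
set_option maxSynthPendingDepth 3
set_option linter.style.haveILetI false

namespace Groth.Agent.Helper7.JInv

open Polynomial IntermediateField

universe u

theorem main_11470 (k : Type u) [Field k]
    (h2 : (2 : k) ≠ 0)
    (σ τ : RatFunc k ≃ₐ[k] RatFunc k) (hσ : σ RatFunc.X = (RatFunc.X : RatFunc k)⁻¹)
    (hτ : τ RatFunc.X = 1 - (RatFunc.X : RatFunc k)) (b : RatFunc k) :
    (b ∈ Algebra.adjoin k ({RatFunc.X, (RatFunc.X : RatFunc k)⁻¹, ((RatFunc.X : RatFunc k) - 1)⁻¹} : Set (RatFunc k)) ∧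
        σ b = b ∧ τ b = b) ↔
      b ∈ Algebra.adjoin k ({(256 : RatFunc k) * ((RatFunc.X : RatFunc k) ^ 2 - RatFunc.X + 1) ^ 3 /
        ((RatFunc.X : RatFunc k) ^ 2 * ((RatFunc.X : RatFunc k) - 1) ^ 2)} : Set (RatFunc k)) := by
  change _ ↔ b ∈ Algebra.adjoin k ({jj k} : Set (RatFunc k))
  constructor
  · rintro ⟨hB, hbσ, hbτ⟩
    exact mem_R₀_of_isIntegral h2 b (mem_F_of_fixed σ τ hσ hτ h2 b hbσ hbτ)
      (isIntegral_of_mem_B σ τ hσ hτ h2 b hB)
  · intro hb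
    exact easy_dir σ τ hσ hτ b hb

end Groth.Agent.Helper7.JInv
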