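import Mathlib
import Groth.Agent.Helper1.FieldSmooth7

set_option linter.style.haveILetI false
set_option linter.unusedSectionVars false

/-!
# Naturality of the Jacobi–Zariski connecting map and left exactness for fields
-/

namespace Groth.Agent.Helper7.JZField

universe u
open TensorProduct KaehlerDifferential MvPolynomial Algebra

section nat

variable {R S T T' : Type u} [CommRing R] [CommRing S] [CommRing T] [CommRing T']
  [Algebra R S] [Algebra S T] [Algebra R T] [IsScalarTower R S T]
  [Algebra S T'] [Algebra R T'] [IsScalarTower R S T'] [Algebra T T'] [IsScalarTower S T T']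

/-- the change of rings map `T ⊗ Ω → T' ⊗ Ω` -/
noncomputable def gmap : T ⊗[S] Ω[S⁄R] →ₗ[S] T' ⊗[S] Ω[S⁄R] :=
  LinearMap.rTensor Ω[S⁄R] (IsScalarTower.toAlgHom S T T').toLinearMap

omit [Algebra R T] [IsScalarTower R S T] [Algebra R T'] [IsScalarTower R S T'] in
theorem gmap_tmul (t : T) (ω : Ω[S⁄R]) :
    gmap (R := R) (S := S) (T := T) (T' := T') (t ⊗ₜ ω) = algebraMap T T' t ⊗ₜ ω := rfl

theorem δAux_rename (y : (Generators.self S T).Ring) :
    Generators.H1Cotangent.δAux R (Generators.self S T')
        ((Generators.defaultHom (Generators.self S T) (Generators.self S T')).toAlgHom y) =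
      gmap (Generators.H1Cotangent.δAux R (Generators.self S T) y) := by
  induction y using MvPolynomial.induction_on' with
  | monomial n r =>
    have h1 : (Generators.defaultHom (Generators.self S T) (Generators.self S T')).toAlgHom
        (monomial n r) = monomial (n.mapDomain (algebraMap T T')) r := by
      have : (Generators.defaultHom (Generators.self S T) (Generators.self S T')).toAlgHom =
          MvPolynomial.rename (algebraMap T T') := by
        apply MvPolynomial.algHom_ext
        intro i
        simp [Generators.Hom.toAlgHom, Generators.defaultHom, Generators.self, Generators.σ]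
      rw [this, MvPolynomial.rename_monomial]
    rw [h1, Generators.H1Cotangent.δAux_monomial, Generators.H1Cotangent.δAux_monomial,
      gmap_tmul]
    congr 1
    rw [Finsupp.prod_mapDomain_index (by simp) (by intro a b c; simp [pow_add]),
      map_finsuppProd]
    simp [Generators.self]
  | add y₁ y₂ h₁ h₂ => simp only [map_add, h₁, h₂]

theorem δ_map_nat (x : Algebra.H1Cotangent S T) :
    Algebra.H1Cotangent.δ R S T' (Algebra.H1Cotangent.map S S T T' x) =
      gmap (Algebra.H1Cotangent.δ R S T x) := by
  obtain ⟨x, hx⟩ := x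
  obtain ⟨⟨y, hy⟩, rfl⟩ := Extension.Cotangent.mk_surjective x
  change Generators.H1Cotangent.δ _ _ ⟨_, _⟩ = gmap (Generators.H1Cotangent.δ _ _ _)
  simp only [LinearMap.domRestrict_apply, Extension.Cotangent.map_mk,
    Generators.H1Cotangent.δ_eq_δAux]
  exact δAux_rename y

theorem cancel_eq (t' : T') (z : T ⊗[S] Ω[S⁄R]) :
    TensorProduct.AlgebraTensorModule.cancelBaseChange S T T' T' Ω[S⁄R] (t' ⊗ₜ[T] z) =
      t' • gmap z := by
  induction z with
  | zero => simp
  | tmul t ω =>
    rw [TensorProduct.AlgebraTensorModule.cancelBaseChange_tmul, gmap_tmul, smul_tmul',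
      Algebra.smul_def, smul_eq_mul, mul_comm]
  | add z₁ z₂ h₁ h₂ => rw [tmul_add, map_add, h₁, h₂, map_add, smul_add]

theorem injective_liftBaseChange_of_injective_δ [Module.Flat T T']
    (hδ : Function.Injective (Algebra.H1Cotangent.δ R S T)) :
    Function.Injective ((Algebra.H1Cotangent.map S S T T').liftBaseChange T') := by
  have hχ : Function.Injective
      ((TensorProduct.AlgebraTensorModule.cancelBaseChange S T T' T' Ω[S⁄R]).toLinearMap ∘ₗ
        (LinearMap.baseChange T' (Algebra.H1Cotangent.δ R S T))) := by
    have h := Module.Flat.lTensor_preserves_injective_linearMap (M := T')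
      (Algebra.H1Cotangent.δ R S T) hδ
    intro a b hab
    simp only [LinearMap.comp_apply, LinearEquiv.coe_coe, EmbeddingLike.apply_eq_iff_eq] at hab
    exact h hab
  have heq : ∀ x, (Algebra.H1Cotangent.δ R S T')
      ((Algebra.H1Cotangent.map S S T T').liftBaseChange T' x) =
      ((TensorProduct.AlgebraTensorModule.cancelBaseChange S T T' T' Ω[S⁄R]).toLinearMap ∘ₗ
        (LinearMap.baseChange T' (Algebra.H1Cotangent.δ R S T))) x := by
    intro x
    induction x with
    | zero => simp
    | tmul t' x =>
      rw [LinearMap.liftBaseChange_tmul, map_smul, δ_map_nat, LinearMap.comp_apply,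
        LinearMap.baseChange_tmul, LinearEquiv.coe_coe, cancel_eq]
    | add x₁ x₂ h₁ h₂ => rw [map_add, map_add, h₁, h₂, map_add]
  intro x y hxy
  apply hχ
  rw [← heq, ← heq, hxy]

end nat

section field

variable {K L M : Type u} [Field K] [Field L] [Field M] [Algebra K L] [Algebra L M] [Algebra K M]
  [IsScalarTower K L M]

theorem s9319 : Function.Injective ((Algebra.H1Cotangent.map K K L M).liftBaseChange M) := by
  obtain ⟨p, hp⟩ := CharP.exists K
  rcases CharP.char_is_prime_or_zero K p with hpp | hp0
  · haveI : Fact p.Prime := ⟨hpp⟩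
    letI : Algebra (Groth.Agent.Helper1.FieldSmooth.PF.{u} p) K :=
      (Groth.Agent.Helper1.FieldSmooth.pfHom p K).toAlgebra
    letI : Algebra (Groth.Agent.Helper1.FieldSmooth.PF.{u} p) L :=
      ((algebraMap K L).comp (Groth.Agent.Helper1.FieldSmooth.pfHom p K)).toAlgebra
    letI : Algebra (Groth.Agent.Helper1.FieldSmooth.PF.{u} p) M :=
      ((algebraMap K M).comp (Groth.Agent.Helper1.FieldSmooth.pfHom p K)).toAlgebra
    haveI : IsScalarTower (Groth.Agent.Helper1.FieldSmooth.PF.{u} p) K L :=
      IsScalarTower.of_algebraMap_eq fun _ => rfl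
    haveI : IsScalarTower (Groth.Agent.Helper1.FieldSmooth.PF.{u} p) K M :=
      IsScalarTower.of_algebraMap_eq fun _ => rfl
    haveI : CharP L p := charP_of_injective_algebraMap (algebraMap K L).injective p
    haveI : Algebra.FormallySmooth (Groth.Agent.Helper1.FieldSmooth.PF.{u} p) L :=
      Groth.Agent.Helper1.FieldSmooth.formallySmooth_of_perfect p
        (Groth.Agent.Helper1.FieldSmooth.pf_perfect p)
    haveI : Subsingleton (Algebra.H1Cotangent (Groth.Agent.Helper1.FieldSmooth.PF.{u} p) L) :=
      Algebra.FormallySmooth.subsingleton_h1Cotangent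
    refine injective_liftBaseChange_of_injective_δ
      (R := Groth.Agent.Helper1.FieldSmooth.PF.{u} p) ?_
    have hex := Algebra.H1Cotangent.exact_map_δ (Groth.Agent.Helper1.FieldSmooth.PF.{u} p) K L
    rw [← LinearMap.ker_eq_bot, hex.linearMap_ker_eq, LinearMap.range_eq_bot]
    exact Subsingleton.elim _ _
  · subst hp0
    haveI : CharZero K := CharP.charP_to_charZero K
    haveI : Algebra.FormallySmooth K L := Groth.Agent.Helper1.FieldSmooth.formallySmooth_of_charZero
    haveI : Subsingleton (Algebra.H1Cotangent K L) :=
      Algebra.FormallySmooth.subsingleton_h1Cotangent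
    have hz : ∀ a : M ⊗[L] Algebra.H1Cotangent K L, a = 0 := by
      intro a
      induction a with
      | zero => rfl
      | tmul m x => rw [Subsingleton.elim x 0, tmul_zero]
      | add a₁ a₂ h₁ h₂ => rw [h₁, h₂, add_zero]
    intro a b _
    rw [hz a, hz b]

end field

end Groth.Agent.Helper7.JZField
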