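import Mathlib
import Groth.Agent.Helper7.JZField1
import Groth.Agent.Helper8.Idx13

set_option linter.style.haveILetI false
set_option linter.unusedSectionVars false

/-!
# The index formula for a square of finitely generated field extensions
-/

namespace Groth.Agent.Helper7.JZField

universe u
open TensorProduct KaehlerDifferential Algebra Cardinal Module Groth.Agent.Helper8.Idx

section lin

variable {F : Type u} [Field F] {U V W : Type u} [AddCommGroup U] [Module F U]
  [AddCommGroup V] [Module F V] [AddCommGroup W] [Module F W]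

theorem kd_of_exact (f : U →ₗ[F] V) (g : V →ₗ[F] W) (h : Function.Exact f g) :
    kd g = Module.rank F (LinearMap.range f) := by
  unfold kd
  rw [h.linearMap_ker_eq]

theorem cd_of_exact (f : U →ₗ[F] V) (g : V →ₗ[F] W) (h : Function.Exact f g) :
    cd f = Module.rank F (LinearMap.range g) := by
  unfold cd
  rw [← h.linearMap_ker_eq]
  exact g.quotKerEquivRange.rank_eq

theorem kd_of_injective (f : U →ₗ[F] V) (hf : Function.Injective f) : kd f = 0 := by
  unfold kd
  rw [LinearMap.ker_eq_bot.mpr hf]
  exact rank_bot F U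

theorem cd_of_surjective (f : U →ₗ[F] V) (hf : Function.Surjective f) : cd f = 0 := by
  unfold cd
  rw [LinearMap.range_eq_top.mpr hf]
  exact rank_subsingleton' F _

/-- rank–nullity in `ℕ` for a map out of a finite dimensional space -/
theorem toNat_range_add_ker [Module.Finite F U] (f : U →ₗ[F] V) :
    toNat (Module.rank F (LinearMap.range f)) + toNat (Module.rank F (LinearMap.ker f)) =
      Module.finrank F U :=
  LinearMap.finrank_range_add_finrank_ker f

theorem finite_ker_of_kd (f : U →ₗ[F] V) (h : kd f < ℵ₀) : Module.Finite F (LinearMap.ker f) := by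
  rw [← Module.rank_lt_aleph0_iff]; exact h

theorem finite_coker_of_cd (f : U →ₗ[F] V) (h : cd f < ℵ₀) :
    Module.Finite F (V ⧸ LinearMap.range f) := by
  rw [← Module.rank_lt_aleph0_iff]; exact h

end lin

section main

variable {k k' K K' : Type u} [Field k] [Field k'] [Field K] [Field K'] [Algebra k k'] [Algebra k K]
  [Algebra k K'] [Algebra k' K'] [Algebra K K'] [IsScalarTower k k' K'] [IsScalarTower k K K']

theorem keyΩ (ω : Ω[K⁄k]) : KaehlerDifferential.map k k' K K' ω =
    KaehlerDifferential.map k k' K' K' (KaehlerDifferential.map k k K K' ω) := by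
  have h : ω ∈ Submodule.span K (Set.range (D k K)) := by
    rw [span_range_derivation]; trivial
  induction h using Submodule.span_induction with
  | mem x hx =>
    obtain ⟨a, rfl⟩ := hx
    simp [KaehlerDifferential.map_D]
  | zero => simp
  | add x y _ _ hx hy => rw [map_add, map_add, map_add, hx, hy]
  | smul a x _ hx =>
    rw [map_smul, map_smul, hx, ← algebraMap_smul K' a (KaehlerDifferential.map k k K K' x),
      map_smul, algebraMap_smul]

theorem keyH (x : H1Cotangent k K) : H1Cotangent.map k k' K K' x =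
    H1Cotangent.map k k' K' K' (H1Cotangent.map k k K K' x) := by
  unfold H1Cotangent.map
  rw [← Extension.H1Cotangent.map_comp_apply]
  exact congr($(Extension.H1Cotangent.map_eq _ _) x)

theorem alpha_eq : (KaehlerDifferential.map k k' K K').liftBaseChange K' =
    (KaehlerDifferential.map k k' K' K') ∘ₗ (mapBaseChange k K K') := by
  apply LinearMap.ext
  intro x
  induction x with
  | zero => simp
  | tmul t ω =>
    rw [LinearMap.liftBaseChange_tmul, LinearMap.comp_apply, mapBaseChange_tmul, map_smul, keyΩ]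
  | add x y hx hy => rw [map_add, map_add, hx, hy]

theorem beta_eq : (H1Cotangent.map k k' K K').liftBaseChange K' =
    (H1Cotangent.map k k' K' K') ∘ₗ ((H1Cotangent.map k k K K').liftBaseChange K') := by
  apply LinearMap.ext
  intro x
  induction x with
  | zero => simp
  | tmul t ω =>
    rw [LinearMap.liftBaseChange_tmul, LinearMap.comp_apply, LinearMap.liftBaseChange_tmul,
      map_smul, keyH]
  | add x y hx hy => rw [map_add, map_add, hx, hy]

theorem s9320 [Algebra.EssFiniteType k k'] [Algebra.EssFiniteType K K'] :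
    Module.Finite K' (LinearMap.ker ((KaehlerDifferential.map k k' K K').liftBaseChange K')) ∧
      Module.Finite K' (Ω[K'⁄k'] ⧸ LinearMap.range ((KaehlerDifferential.map k k' K K').liftBaseChange K')) ∧
      Module.Finite K' (LinearMap.ker ((Algebra.H1Cotangent.map k k' K K').liftBaseChange K')) ∧
      Module.Finite K' (Algebra.H1Cotangent k' K' ⧸ LinearMap.range ((Algebra.H1Cotangent.map k k' K K').liftBaseChange K')) ∧
      ((Module.finrank K' (LinearMap.ker ((KaehlerDifferential.map k k' K K').liftBaseChange K')) : ℤ)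
          - Module.finrank K' (Ω[K'⁄k'] ⧸ LinearMap.range ((KaehlerDifferential.map k k' K K').liftBaseChange K'))
          - Module.finrank K' (LinearMap.ker ((Algebra.H1Cotangent.map k k' K K').liftBaseChange K'))
          + Module.finrank K' (Algebra.H1Cotangent k' K' ⧸ LinearMap.range ((Algebra.H1Cotangent.map k k' K K').liftBaseChange K'))
        = (Cardinal.toNat (Algebra.trdeg k k') : ℤ) - Cardinal.toNat (Algebra.trdeg K K')) := by
  obtain ⟨hΩ₁, hH₁, e₁⟩ := cartier_h1 (K := k) (L := k')
  obtain ⟨hΩ₂, hH₂, e₂⟩ := cartier_h1 (K := K) (L := K')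
  -- the maps
  set δ₁ := H1Cotangent.δ k K K' with hδ₁
  set μ := mapBaseChange k k' K' with hμ
  set δ₂ := H1Cotangent.δ k k' K' with hδ₂
  set ν := (H1Cotangent.map k k k' K').liftBaseChange K' with hν
  set α₁ := mapBaseChange k K K' with hα₁
  set α₂ := KaehlerDifferential.map k k' K' K' with hα₂
  set β₁ := (H1Cotangent.map k k K K').liftBaseChange K' with hβ₁
  set β₂ := H1Cotangent.map k k' K' K' with hβ₂
  set γ := H1Cotangent.map k K K' K' with hγ
  have E1 : Function.Exact δ₁ α₁ := H1Cotangent.exact_δ_mapBaseChange k K K'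
  have E2 : Function.Exact α₁ (KaehlerDifferential.map k K K' K') :=
    KaehlerDifferential.exact_mapBaseChange_map k K K'
  have S2 : Function.Surjective (KaehlerDifferential.map k K K' K') :=
    KaehlerDifferential.map_surjective k K K'
  have E3 : Function.Exact μ α₂ := KaehlerDifferential.exact_mapBaseChange_map k k' K'
  have S3 : Function.Surjective α₂ := KaehlerDifferential.map_surjective k k' K'
  have E4 : Function.Exact β₁ γ := H1Cotangent.exact_liftBaseChange_map_of_flat k K K'
  have E5 : Function.Exact γ δ₁ := H1Cotangent.exact_map_δ k K K'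
  have E6 : Function.Exact ν β₂ := H1Cotangent.exact_liftBaseChange_map_of_flat k k' K'
  have E7 : Function.Exact β₂ δ₂ := H1Cotangent.exact_map_δ k k' K'
  have E8 : Function.Exact δ₂ μ := H1Cotangent.exact_δ_mapBaseChange k k' K'
  have Iβ₁ : Function.Injective β₁ := s9319 (K := k) (L := K) (M := K')
  have Iν : Function.Injective ν := s9319 (K := k) (L := k') (M := K')
  -- kernel and cokernel dimensions
  have kα₁ : kd α₁ = Module.rank K' (LinearMap.range δ₁) := kd_of_exact _ _ E1
  have cα₁ : cd α₁ = Module.rank K' (Ω[K'⁄K]) := by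
    rw [cd_of_exact _ _ E2, LinearMap.range_eq_top.mpr S2, rank_top]
  have kα₂ : kd α₂ = Module.rank K' (LinearMap.range μ) := kd_of_exact _ _ E3
  have cα₂ : cd α₂ = 0 := cd_of_surjective _ S3
  have kβ₁ : kd β₁ = 0 := kd_of_injective _ Iβ₁
  have cβ₁ : cd β₁ = Module.rank K' (LinearMap.ker δ₁) := by
    rw [cd_of_exact _ _ E4, E5.linearMap_ker_eq]
  have kβ₂ : kd β₂ = Module.rank K' (K' ⊗[k'] H1Cotangent k k') := by
    rw [kd_of_exact _ _ E6, rank_range_of_injective _ Iν]
  have cβ₂ : cd β₂ = Module.rank K' (LinearMap.ker μ) := by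
    rw [cd_of_exact _ _ E7, E8.linearMap_ker_eq]
  -- finiteness
  have f1 : kd α₁ < ℵ₀ := by rw [kα₁]; exact Module.rank_lt_aleph0 K' _
  have f2 : cd α₁ < ℵ₀ := by rw [cα₁]; exact Module.rank_lt_aleph0 K' _
  have f3 : kd α₂ < ℵ₀ := by rw [kα₂]; exact Module.rank_lt_aleph0 K' _
  have f4 : cd α₂ < ℵ₀ := by rw [cα₂]; exact Cardinal.aleph0_pos
  have f5 : kd β₁ < ℵ₀ := by rw [kβ₁]; exact Cardinal.aleph0_pos
  have f6 : cd β₁ < ℵ₀ := by rw [cβ₁]; exact Module.rank_lt_aleph0 K' _
  have f7 : kd β₂ < ℵ₀ := by rw [kβ₂]; exact Module.rank_lt_aleph0 K' _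
  have f8 : cd β₂ < ℵ₀ := by rw [cβ₂]; exact Module.rank_lt_aleph0 K' _
  obtain ⟨ga1, ga2, ga3⟩ := index_comp α₁ α₂ f1 f2 f3 f4
  obtain ⟨gb1, gb2, gb3⟩ := index_comp β₁ β₂ f5 f6 f7 f8
  rw [← alpha_eq] at ga1 ga2 ga3
  rw [← beta_eq] at gb1 gb2 gb3
  have n1 := toNat_range_add_ker δ₁
  have n2 := toNat_range_add_ker μ
  have n3 : Module.finrank K' (K' ⊗[k'] Ω[k'⁄k]) = Module.finrank k' (Ω[k'⁄k]) :=
    Module.finrank_baseChange
  have n4 : toNat (Module.rank K' (K' ⊗[k'] H1Cotangent k k')) =
      Module.finrank k' (H1Cotangent k k') := Module.finrank_baseChange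
  refine ⟨?_, ?_, ?_, ?_, ?_⟩
  · exact finite_ker_of_kd _ ga1
  · exact finite_coker_of_cd _ ga2
  · exact finite_ker_of_kd _ gb1
  · exact finite_coker_of_cd _ gb2
  · rw [kα₁, cα₁, kα₂, cα₂] at ga3
    rw [kβ₁, cβ₁, kβ₂, cβ₂] at gb3
    simp only [map_zero, Nat.cast_zero] at ga3 gb3
    unfold kd cd at ga3 gb3
    simp only [Module.finrank] at e₁ e₂ n1 n2 n3 n4 ⊢
    rw [n3] at n2
    rw [n4] at gb3
    omega

end main

end Groth.Agent.Helper7.JZField
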