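import Mathlib

set_option autoImplicit false
set_option linter.style.haveILetI false
set_option linter.unusedSectionVars false

namespace Groth.Agent.Helper7.JacEt

open Algebra

universe u v

/-- Localizing a pre-submersive presentation at its jacobian gives a standard smooth algebra. -/
theorem isStandardSmoothOfRelativeDimension_away {R : Type u} {S : Type v} [CommRing R] [CommRing S]
    [Algebra R S] {ι σ : Type} [Finite ι] [Finite σ] (P : PreSubmersivePresentation R S ι σ) :
    Algebra.IsStandardSmoothOfRelativeDimension P.dimension R (Localization.Away P.jacobian) := by
  classical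
  let Q0 : PreSubmersivePresentation S (Localization.Away P.jacobian) Unit Unit :=
    PreSubmersivePresentation.localizationAway (Localization.Away P.jacobian) P.jacobian
  let Q : PreSubmersivePresentation R (Localization.Away P.jacobian) (Unit ⊕ ι) (Unit ⊕ σ) :=
    Q0.comp P
  have hunit : IsUnit Q.jacobian := by
    show IsUnit (Q0.comp P).jacobian
    rw [PreSubmersivePresentation.comp_jacobian_eq_jacobian_smul_jacobian,
      PreSubmersivePresentation.localizationAway_jacobian, Algebra.smul_def]
    exact (IsLocalization.Away.algebraMap_isUnit P.jacobian).mul
      (IsLocalization.Away.algebraMap_isUnit P.jacobian)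
  let Q' : SubmersivePresentation R (Localization.Away P.jacobian) (Unit ⊕ ι) (Unit ⊕ σ) :=
    { toPreSubmersivePresentation := Q, jacobian_isUnit := hunit }
  refine ⟨Unit ⊕ ι, Unit ⊕ σ, inferInstance, inferInstance, Q', ?_⟩
  show (Q0.comp P).dimension = P.dimension
  rw [PreSubmersivePresentation.dimension_comp_eq_dimension_add_dimension]
  have : Q0.dimension = 0 := Presentation.localizationAway_dimension_zero P.jacobian
  rw [this, zero_add]

/-- square case: étale -/
theorem etale_away {R : Type u} {S : Type v} [CommRing R] [CommRing S]
    [Algebra R S] {ι σ : Type} [Finite ι] [Finite σ] (P : PreSubmersivePresentation R S ι σ)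
    (h : P.dimension = 0) :
    Algebra.Etale R (Localization.Away P.jacobian) := by
  haveI := isStandardSmoothOfRelativeDimension_away P
  rw [h] at this
  exact Algebra.Etale.iff_isStandardSmoothOfRelativeDimension_zero.2 this

end Groth.Agent.Helper7.JacEt
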