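import Mathlib
import Groth.Agent.Helper2.RegSeq
import Groth.Agent.Helper5.FtDim4

/-!
# Jacobian criterion at a rational point of affine space

First-order Taylor homomorphism `tau a v : k[x] → k[ε]` and its basic properties.
-/

set_option autoImplicit false
set_option linter.unusedSectionVars false

namespace Groth.Agent.Helper7.JacPt1
open MvPolynomial

universe u

variable {k : Type u} [Field k] {σ : Type} [Fintype σ] [DecidableEq σ]

/-- first order Taylor expansion at `a` in the direction `v` -/
noncomputable def tau (a v : σ → k) : MvPolynomial σ k →+* TrivSqZeroExt k k :=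
  eval₂Hom (TrivSqZeroExt.inlHom k k)
    (fun i => TrivSqZeroExt.inl (a i) + TrivSqZeroExt.inr (v i))

theorem fst_tau (a v : σ → k) (f : MvPolynomial σ k) : (tau a v f).fst = eval a f := by
  have : (TrivSqZeroExt.fstHom k k k : TrivSqZeroExt k k →+* k).comp (tau a v) = eval a := by
    apply MvPolynomial.ringHom_ext
    · intro c
      simp [tau]
    · intro i
      simp [tau]
  exact congrArg (fun φ : MvPolynomial σ k →+* k => φ f) this

theorem snd_tau (a v : σ → k) (f : MvPolynomial σ k) :
    (tau a v f).snd = ∑ i, v i * eval a (pderiv i f) := by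
  induction f using MvPolynomial.induction_on with
  | C c => simp [tau]
  | add p q hp hq =>
    rw [map_add, TrivSqZeroExt.snd_add, hp, hq, ← Finset.sum_add_distrib]
    refine Finset.sum_congr rfl fun i _ => ?_
    rw [map_add, map_add]; ring
  | mul_X p j hp =>
    rw [map_mul, TrivSqZeroExt.snd_mul, hp, fst_tau, fst_tau]
    have h1 : (tau a v (X j)).snd = v j := by simp [tau]
    rw [h1]
    simp only [smul_eq_mul, MulOpposite.smul_eq_mul_unop, MulOpposite.unop_op, eval_X,
      Derivation.leibniz, pderiv_X, smul_eq_mul, map_add, map_mul, eval_X]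
    rw [Finset.sum_mul]
    have h2 : ∑ i, v i * (eval a p * eval a (Pi.single (M := fun _ => MvPolynomial σ k) i 1 j) +
        a j * eval a (pderiv i p)) =
        eval a p * v j + ∑ i, v i * eval a (pderiv i p) * a j := by
      simp only [mul_add, Finset.sum_add_distrib]
      congr 1
      · rw [Finset.sum_eq_single j]
        · simp; ring
        · intro b _ hb
          simp [Pi.single_eq_of_ne (Ne.symm hb)]
        · intro h; exact absurd (Finset.mem_univ j) h
      · refine Finset.sum_congr rfl fun i _ => ?_
        ring
    rw [h2]

theorem snd_tau_single (a : σ → k) (i : σ) (f : MvPolynomial σ k) :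
    (tau a (Pi.single i 1) f).snd = eval a (pderiv i f) := by
  rw [snd_tau, Finset.sum_eq_single i]
  · simp
  · intro b _ hb
    simp [Pi.single_eq_of_ne hb]
  · intro h; exact absurd (Finset.mem_univ i) h

end Groth.Agent.Helper7.JacPt1
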