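import Mathlib
import Groth.Agent.Helper7.JacPt1

/-!
# Jacobian criterion at a rational point of affine space: the local ring of `k[x]` at the point
-/

set_option autoImplicit false
set_option linter.unusedSectionVars false

namespace Groth.Agent.Helper7.JacPt2
open MvPolynomial IsLocalRing Groth.Agent.Helper7.JacPt1

universe u

variable {k : Type u} [Field k] {σ : Type} [Fintype σ] [DecidableEq σ] (a : σ → k)

/-- the maximal ideal of the point `a` -/
noncomputable def pt : Ideal (MvPolynomial σ k) := RingHom.ker (eval a : MvPolynomial σ k →+* k)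

theorem eval_surjective : Function.Surjective (eval a : MvPolynomial σ k →+* k) :=
  fun c => ⟨C c, eval_C c⟩

instance pt_isMaximal : (pt a).IsMaximal :=
  RingHom.ker_isMaximal_of_surjective _ (eval_surjective a)

instance pt_isPrime : (pt a).IsPrime := (pt_isMaximal a).isPrime

theorem mem_pt {f : MvPolynomial σ k} : f ∈ pt a ↔ eval a f = 0 := RingHom.mem_ker

/-- the local ring at `a` -/
abbrev Loc : Type u := Localization.AtPrime (pt a)

theorem ringKrullDim_Loc : ringKrullDim (Loc a) = Fintype.card σ := by
  rw [IsLocalization.AtPrime.ringKrullDim_eq_height (pt a) (Loc a),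
    Groth.Agent.Helper5.FtDim.height_of_isMaximal k (MvPolynomial σ k) (pt a),
    MvPolynomial.ringKrullDim_of_isNoetherianRing, ringKrullDim_eq_zero_of_field,
    Nat.card_eq_fintype_card, zero_add]

theorem isUnit_eval (y : (pt a).primeCompl) : IsUnit (eval a (y : MvPolynomial σ k)) := by
  rw [isUnit_iff_ne_zero]
  intro h
  exact y.2 ((mem_pt a).2 h)

/-- evaluation at `a` on the local ring -/
noncomputable def rho : Loc a →+* k :=
  IsLocalization.lift (M := (pt a).primeCompl) (g := (eval a : MvPolynomial σ k →+* k))
    (isUnit_eval a)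

theorem rho_algebraMap (f : MvPolynomial σ k) : rho a (algebraMap _ (Loc a) f) = eval a f :=
  IsLocalization.lift_eq _ _

theorem ker_rho : RingHom.ker (rho a) = maximalIdeal (Loc a) := by
  apply IsLocalRing.eq_maximalIdeal
  apply RingHom.ker_isMaximal_of_surjective
  intro c
  exact ⟨algebraMap _ (Loc a) (C c), by rw [rho_algebraMap, eval_C]⟩

theorem isUnit_tau (v : σ → k) (y : (pt a).primeCompl) :
    IsUnit (tau a v (y : MvPolynomial σ k)) := by
  rw [TrivSqZeroExt.isUnit_iff_isUnit_fst, fst_tau]
  exact isUnit_eval a y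

/-- Taylor expansion on the local ring -/
noncomputable def tauL (v : σ → k) : Loc a →+* TrivSqZeroExt k k :=
  IsLocalization.lift (M := (pt a).primeCompl) (g := tau a v) (isUnit_tau a v)

theorem tauL_algebraMap (v : σ → k) (f : MvPolynomial σ k) :
    tauL a v (algebraMap _ (Loc a) f) = tau a v f :=
  IsLocalization.lift_eq _ _

theorem fst_tauL (v : σ → k) (x : Loc a) : (tauL a v x).fst = rho a x := by
  have : (TrivSqZeroExt.fstHom k k k : TrivSqZeroExt k k →+* k).comp (tauL a v) = rho a := by
    apply IsLocalization.ringHom_ext (pt a).primeCompl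
    ext f
    · simp [tauL, rho, tau]
    · simp [tauL, rho, tau]
  exact congrArg (fun φ : Loc a →+* k => φ x) this

theorem tauL_eq_zero_of_mem_sq (v : σ → k) {x : Loc a} (hx : x ∈ maximalIdeal (Loc a) ^ 2) :
    tauL a v x = 0 := by
  rw [pow_two] at hx
  refine Submodule.mul_induction_on hx ?_ ?_
  · intro p hp q hq
    rw [← ker_rho, RingHom.mem_ker] at hp hq
    rw [map_mul]
    ext
    · simp [TrivSqZeroExt.fst_mul, fst_tauL, hp]
    · simp [TrivSqZeroExt.snd_mul, fst_tauL, hp, hq]
  · intro p q hp hq
    rw [map_add, hp, hq, add_zero]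

end Groth.Agent.Helper7.JacPt2
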