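import Mathlib
import Groth.Agent.Helper7.JacPt2

/-!
# Jacobian criterion at a rational point of affine space: main theorem
-/

set_option autoImplicit false
set_option linter.unusedSectionVars false

namespace Groth.Agent.Helper7.JacPt3
open MvPolynomial IsLocalRing Groth.Agent.Helper7.JacPt1 Groth.Agent.Helper7.JacPt2

universe u

variable {k : Type u} [Field k] {σ : Type} [Fintype σ] [DecidableEq σ] (a : σ → k)

theorem algebraMap_mem_maximalIdeal {f : MvPolynomial σ k} (hf : eval a f = 0) :
    algebraMap _ (Loc a) f ∈ maximalIdeal (Loc a) := by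
  rw [← ker_rho, RingHom.mem_ker, rho_algebraMap, hf]

/-- the images of the `g j` in the cotangent space of the local ring are linearly independent
when some maximal minor of the Jacobian matrix at `a` is nonzero. -/
theorem linearIndependent (r : ℕ) (g : Fin r → MvPolynomial σ k) (hga : ∀ j, eval a (g j) = 0)
    (s : Fin r → σ)
    (hdet : Matrix.det (Matrix.of fun i j => eval a (pderiv (s i) (g j))) ≠ 0) :
    LinearIndependent (ResidueField (Loc a))
      (fun j => (maximalIdeal (Loc a)).toCotangent
        (⟨algebraMap _ (Loc a) (g j), algebraMap_mem_maximalIdeal a (hga j)⟩ :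
          maximalIdeal (Loc a))) := by
  classical
  rw [Fintype.linearIndependent_iff]
  intro c hc
  have hsurj : Function.Surjective (residue (Loc a)) := Ideal.Quotient.mk_surjective
  choose b hb using fun j => hsurj (c j)
  set x : Fin r → maximalIdeal (Loc a) := fun j =>
    ⟨algebraMap _ (Loc a) (g j), algebraMap_mem_maximalIdeal a (hga j)⟩ with hx
  have h1 : (maximalIdeal (Loc a)).toCotangent (∑ j, b j • x j) = 0 := by
    rw [map_sum, ← hc]
    refine Finset.sum_congr rfl fun j _ => ?_
    rw [map_smul, ← hb j]
    rfl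
  rw [Ideal.toCotangent_eq_zero] at h1
  have h2 : (∑ j, b j * algebraMap _ (Loc a) (g j)) ∈ maximalIdeal (Loc a) ^ 2 := by
    convert h1 using 1
    simp [hx]
  set M : Matrix (Fin r) (Fin r) k := Matrix.of fun i j => eval a (pderiv (s i) (g j)) with hM
  have h3 : M.mulVec (fun j => rho a (b j)) = 0 := by
    funext i
    have h4 := tauL_eq_zero_of_mem_sq a (Pi.single (s i) 1) h2
    have h5 := congrArg TrivSqZeroExt.snd h4
    rw [map_sum, TrivSqZeroExt.snd_sum] at h5
    simp only [map_mul, tauL_algebraMap, TrivSqZeroExt.snd_mul, fst_tauL, fst_tau, hga,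
      snd_tau_single, smul_eq_mul, MulOpposite.smul_eq_mul_unop, MulOpposite.unop_op,
      TrivSqZeroExt.snd_zero] at h5
    simp only [Matrix.mulVec, dotProduct, hM, Matrix.of_apply, Pi.zero_apply]
    rw [← h5]
    refine Finset.sum_congr rfl fun j _ => ?_
    ring
  have h6 := Matrix.eq_zero_of_mulVec_eq_zero hdet h3
  intro j
  rw [← hb j]
  change residue (Loc a) (b j) = 0
  rw [residue_eq_zero_iff, ← ker_rho, RingHom.mem_ker]
  exact congrFun h6 j

/-- localization of a quotient as a quotient of the localization -/
theorem loc_quotient {A : Type u} [CommRing A] (q : Ideal A) [q.IsPrime] (I : Ideal A)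
    (P : Ideal (A ⧸ I)) [P.IsPrime] (hP : P.comap (Ideal.Quotient.mk I) = q)
    (hreg : IsRegularLocalRing
      (Localization.AtPrime q ⧸ I.map (algebraMap A (Localization.AtPrime q)))) :
    IsRegularLocalRing (Localization.AtPrime P) ∧
      ringKrullDim (Localization.AtPrime P) =
        ringKrullDim (Localization.AtPrime q ⧸ I.map (algebraMap A (Localization.AtPrime q))) := by
  have : P.LiesOver q := ⟨hP.symm⟩
  have hsub : Algebra.algebraMapSubmonoid (A ⧸ I) q.primeCompl = P.primeCompl :=
    Ideal.algebraMapSubmonoid_primeCompl_of_liesOver_surjective P q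
      Ideal.Quotient.mk_surjective
  have : IsLocalization.AtPrime (Localization.AtPrime q ⧸
      I.map (algebraMap A (Localization.AtPrime q))) P := by
    have : IsLocalization (Algebra.algebraMapSubmonoid (A ⧸ I) q.primeCompl)
      (Localization.AtPrime q ⧸ I.map (algebraMap A (Localization.AtPrime q))) := inferInstance
    rwa [hsub] at this
  let e : (Localization.AtPrime q ⧸ I.map (algebraMap A (Localization.AtPrime q))) ≃+*
      Localization.AtPrime P :=
    (IsLocalization.algEquiv P.primeCompl _ _).toRingEquiv
  exact ⟨IsRegularLocalRing.of_ringEquiv e, (ringKrullDim_eq_of_ringEquiv e).symm⟩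

/-- **Jacobian criterion at a rational point.** -/
theorem main (r : ℕ) (g : Fin r → MvPolynomial σ k) (S : Set (MvPolynomial σ k))
    (hga : ∀ j, eval a (g j) = 0)
    (hgS : ∀ j, g j ∈ Ideal.span S)
    (hS : ∀ f ∈ S, ∃ u, eval a u ≠ 0 ∧ u * f ∈ Ideal.span (Set.range g))
    (s : Fin r → σ)
    (hdet : Matrix.det (Matrix.of fun i j => eval a (pderiv (s i) (g j))) ≠ 0)
    (P : Ideal (MvPolynomial σ k ⧸ Ideal.span S)) [P.IsPrime]
    (hP : P.comap (Ideal.Quotient.mk (Ideal.span S)) = pt a) :
    IsRegularLocalRing (Localization.AtPrime P) ∧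
      ringKrullDim (Localization.AtPrime P) + r = Fintype.card σ := by
  have hli := linearIndependent a r g hga s hdet
  set x : Fin r → maximalIdeal (Loc a) := fun j =>
    ⟨algebraMap _ (Loc a) (g j), algebraMap_mem_maximalIdeal a (hga j)⟩ with hx
  obtain ⟨hdim, hreg⟩ := Groth.Agent.Helper2.RegSeq.quotient_regular_of_indep r x hli
  -- identify the ideal
  have hideal : Ideal.span (Set.range fun i => (x i : Loc a)) =
      (Ideal.span S).map (algebraMap (MvPolynomial σ k) (Loc a)) := by
    apply le_antisymm
    · rw [Ideal.span_le]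
      rintro _ ⟨j, rfl⟩
      exact Ideal.mem_map_of_mem _ (hgS j)
    · rw [Ideal.map_span, Ideal.span_le]
      rintro _ ⟨f, hf, rfl⟩
      obtain ⟨u, hu, huf⟩ := hS f hf
      have hunit : IsUnit (algebraMap _ (Loc a) u) :=
        IsLocalization.map_units (Loc a) (⟨u, fun h => hu ((mem_pt a).1 h)⟩ : (pt a).primeCompl)
      have h1 : algebraMap _ (Loc a) (u * f) ∈
          Ideal.span (Set.range fun i => (x i : Loc a)) := by
        have : Ideal.span (Set.range fun i => (x i : Loc a)) =
            (Ideal.span (Set.range g)).map (algebraMap (MvPolynomial σ k) (Loc a)) := by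
          rw [Ideal.map_span, ← Set.range_comp]
          rfl
        rw [this]
        exact Ideal.mem_map_of_mem _ huf
      rw [map_mul] at h1
      exact (Ideal.unit_mul_mem_iff_mem _ hunit).1 h1
  rw [hideal] at hdim hreg
  obtain ⟨h1, h2⟩ := loc_quotient (pt a) (Ideal.span S) P hP hreg
  refine ⟨h1, ?_⟩
  rw [h2, hdim, ringKrullDim_Loc]

end Groth.Agent.Helper7.JacPt3
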