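import Mathlib
import Groth.Agent.Helper7.JacPt3

/-!
# The maximal ideal of a rational point of affine space is generated by `X i - C (a i)`
-/

set_option autoImplicit false
set_option linter.unusedSectionVars false

namespace Groth.Agent.Helper7.JacPt4
open MvPolynomial Groth.Agent.Helper7.JacPt2

universe u

variable {k : Type u} [Field k] {σ : Type} [Fintype σ] [DecidableEq σ] (a : σ → k)

theorem pt_eq_span : pt a = Ideal.span (Set.range fun i : σ => (X i - C (a i) : MvPolynomial σ k)) := by
  apply le_antisymm
  · intro f hf
    rw [mem_pt] at hf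
    set I := Ideal.span (Set.range fun i : σ => (X i - C (a i) : MvPolynomial σ k)) with hI
    have h : (Ideal.Quotient.mk I) = ((Ideal.Quotient.mk I).comp C).comp (eval a) := by
      apply MvPolynomial.ringHom_ext
      · intro c
        simp
      · intro i
        simp only [RingHom.comp_apply, eval_X]
        rw [Ideal.Quotient.eq]
        exact Ideal.subset_span ⟨i, rfl⟩
    have h2 := congrArg (fun φ : MvPolynomial σ k →+* _ => φ f) h
    simp only [RingHom.comp_apply, hf, map_zero] at h2
    exact Ideal.Quotient.eq_zero_iff_mem.1 h2
  · rw [Ideal.span_le]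
    rintro _ ⟨i, rfl⟩
    simp [mem_pt]

/-- comap of the image of the point ideal in a quotient by a smaller ideal -/
theorem comap_map_pt (J : Ideal (MvPolynomial σ k)) (hJ : J ≤ pt a) :
    ((pt a).map (Ideal.Quotient.mk J)).comap (Ideal.Quotient.mk J) = pt a := by
  rw [Ideal.comap_map_of_surjective _ Ideal.Quotient.mk_surjective, ← RingHom.ker_eq_comap_bot,
    Ideal.mk_ker]
  exact sup_eq_left.2 hJ

end Groth.Agent.Helper7.JacPt4
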