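import Mathlib
import Groth.Agent.Helper7.Curvi2

set_option autoImplicit false

/-! Truncated polynomial rings `k[X]/(X^l)`: coefficient comparisons, units, and evaluation of
homogeneous polynomials along arcs. -/

namespace Groth.Agent.Helper7.Jet

open Polynomial

universe u

section

variable (k : Type u) [Field k]

theorem coeff_eq_of_mk_eq {l i : ℕ} (hi : i < l) {p q : k[X]}
    (h : Ideal.Quotient.mk (Ideal.span {(X : k[X]) ^ l}) p =
      Ideal.Quotient.mk (Ideal.span {(X : k[X]) ^ l}) q) : p.coeff i = q.coeff i := by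
  rw [Ideal.Quotient.eq, Ideal.mem_span_singleton] at h
  obtain ⟨r, hr⟩ := h
  have h1 := congrArg (fun f => f.coeff i) hr
  simp only [coeff_sub, coeff_X_pow_mul'] at h1
  rw [if_neg (by omega)] at h1
  exact sub_eq_zero.mp h1

theorem mk_eq_const_add (l : ℕ) (p : k[X]) :
    Ideal.Quotient.mk (Ideal.span {(X : k[X]) ^ l}) p =
      algebraMap k _ (p.coeff 0) + Ideal.Quotient.mk (Ideal.span {(X : k[X]) ^ l}) X *
        Ideal.Quotient.mk (Ideal.span {(X : k[X]) ^ l}) p.divX := by
  conv_lhs => rw [← Polynomial.divX_mul_X_add p]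
  rw [map_add, map_mul, add_comm, mul_comm]
  rfl

theorem isUnit_mk {l : ℕ} (hl : 0 < l) (p : k[X]) (h : p.coeff 0 ≠ 0) :
    IsUnit (Ideal.Quotient.mk (Ideal.span {(X : k[X]) ^ l}) p) :=
  (Curvi.isUnit_iff k l hl _ _ _ (mk_eq_const_add k l p)).mpr h

theorem isNilpotent_mk {l : ℕ} (p : k[X]) (h : p.coeff 0 = 0) :
    IsNilpotent (Ideal.Quotient.mk (Ideal.span {(X : k[X]) ^ l}) p) := by
  rw [mk_eq_const_add k l p, h, map_zero, zero_add]
  exact (Commute.all _ _).isNilpotent_mul_right ⟨l, Curvi.mkX_pow k l⟩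

theorem coeff_zero_of_isNilpotent {l : ℕ} (hl : 0 < l) (p : k[X])
    (h : IsNilpotent (Ideal.Quotient.mk (Ideal.span {(X : k[X]) ^ l}) p)) : p.coeff 0 = 0 := by
  by_contra h0
  haveI := Curvi.nontrivial_Bn k l hl
  exact h.not_isUnit (isUnit_mk k hl p h0)

theorem eq_X_mul_of_coeff_zero (p : k[X]) (h : p.coeff 0 = 0) : p = X * p.divX := by
  conv_lhs => rw [← Polynomial.divX_mul_X_add p, h, map_zero, add_zero, mul_comm]

end

section homog

variable {k : Type u} [Field k] {σ : Type*}

theorem aeval_X_mul (F : MvPolynomial σ k) (n : ℕ) (hF : F.IsHomogeneous n) (q : σ → k[X]) :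
    MvPolynomial.aeval (fun i => X * q i) F = X ^ n * MvPolynomial.aeval q F := by
  classical
  rw [MvPolynomial.aeval_def, MvPolynomial.aeval_def, MvPolynomial.eval₂_eq, MvPolynomial.eval₂_eq,
    Finset.mul_sum]
  refine Finset.sum_congr rfl fun d hd => ?_
  have hdeg := hF.degree_eq_sum_deg_support hd
  simp only [mul_pow, Finset.prod_mul_distrib, Finset.prod_pow_eq_pow_sum]
  rw [← hdeg]
  ring

theorem coeff_zero_aeval (F : MvPolynomial σ k) (q : σ → k[X]) :
    (MvPolynomial.aeval q F).coeff 0 = MvPolynomial.eval (fun i => (q i).coeff 0) F := by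
  have h := MvPolynomial.comp_aeval_apply (R := k) (f := q)
    (φ := (Polynomial.aeval (0 : k) : k[X] →ₐ[k] k)) F
  simp only [← Polynomial.coeff_zero_eq_aeval_zero] at h
  rw [h, MvPolynomial.aeval_def, MvPolynomial.eval, Algebra.algebraMap_self]
  rfl

end homog

end Groth.Agent.Helper7.Jet
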