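import Mathlib
import Groth.Agent.Helper7.JetA

set_option autoImplicit false

/-! Arcs on a pointed affine variety: tangent arcs, lifting, and the key vanishing statement. -/

namespace Groth.Agent.Helper7.Jet

open Polynomial

universe u

/-- the curvilinear jet lifting property -/
def JetsLift (k : Type u) [Field k] (A : Type u) [CommRing A] [Algebra k A] (m : Ideal A) : Prop :=
  ∀ (l : ℕ), 1 ≤ l →
    ∀ (φ : A →ₐ[k] (k[X] ⧸ Ideal.span {(X : k[X]) ^ l})),
      (∀ a ∈ m, IsNilpotent (φ a)) →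
      ∃ ψ : A →ₐ[k] (k[X] ⧸ Ideal.span {(X : k[X]) ^ (l + 1)}),
        (Ideal.Quotient.factorₐ k
          (Ideal.span_singleton_le_span_singleton.mpr
            (pow_dvd_pow (X : k[X]) (Nat.le_succ l)))).comp ψ = φ

section character

variable (k : Type u) [Field k] [IsAlgClosed k] (A : Type u) [CommRing A] [Algebra k A]
  [Algebra.FiniteType k A] (m : Ideal A) [m.IsMaximal]

theorem exists_character : ∃ c : A →ₐ[k] k, ∀ a, c a = 0 ↔ a ∈ m := by
  letI : Field (A ⧸ m) := Ideal.Quotient.field m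
  haveI : Module.Finite k (A ⧸ m) := finite_of_finite_type_of_isJacobsonRing k (A ⧸ m)
  have hbij : Function.Bijective (algebraMap k (A ⧸ m)) :=
    IsAlgClosed.algebraMap_bijective_of_isIntegral
  let e0 : k ≃ₐ[k] (A ⧸ m) := AlgEquiv.ofBijective (Algebra.ofId k _) hbij
  refine ⟨e0.symm.toAlgHom.comp (Ideal.Quotient.mkₐ k m), fun a => ?_⟩
  rw [← Ideal.Quotient.eq_zero_iff_mem]
  simp

theorem finite_cotangent : Module.Finite k m.Cotangent := by
  letI : Field (A ⧸ m) := Ideal.Quotient.field m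
  haveI : Module.Finite k (A ⧸ m) := finite_of_finite_type_of_isJacobsonRing k (A ⧸ m)
  haveI : IsNoetherianRing A := Algebra.FiniteType.isNoetherianRing k A
  haveI : Module.Finite A m := Module.Finite.iff_fg.mpr (IsNoetherian.noetherian m)
  haveI : Module.Finite A m.Cotangent :=
    Module.Finite.of_surjective m.toCotangent m.toCotangent_surjective
  haveI : Module.Finite (A ⧸ m) m.Cotangent := Module.Finite.of_restrictScalars_finite A _ _
  haveI : IsScalarTower k (A ⧸ m) m.Cotangent := by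
    refine IsScalarTower.of_algebraMap_smul fun r x => ?_
    rw [IsScalarTower.algebraMap_apply k A (A ⧸ m), algebraMap_smul, algebraMap_smul]
  exact Module.Finite.trans (A ⧸ m) _

theorem exists_basis_lifts : ∃ (e : ℕ) (b : Module.Basis (Fin e) k m.Cotangent) (x : Fin e → m),
    ∀ i, m.toCotangent (x i) = b i := by
  haveI := finite_cotangent k A m
  let b := Module.finBasis k m.Cotangent
  choose x hx using fun i => m.toCotangent_surjective (b i)
  exact ⟨_, b, x, hx⟩

end character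

section arcs

variable {k : Type u} [Field k] {A : Type u} [CommRing A] [Algebra k A] {m : Ideal A}
  (c : A →ₐ[k] k) (hc : ∀ a, c a = 0 ↔ a ∈ m)

include hc in
theorem sub_mem (a : A) : a - algebraMap k A (c a) ∈ m := (hc _).mp (by simp)

include hc in
theorem exists_tau : ∃ τ : A →ₗ[k] m.Cotangent,
    (∀ x : m, τ x = m.toCotangent x) ∧ (∀ a b, τ (a * b) = c a • τ b + c b • τ a) ∧ τ 1 = 0 := by
  let τ : A →ₗ[k] m.Cotangent :=
    { toFun := fun a => m.toCotangent ⟨a - algebraMap k A (c a), sub_mem c hc a⟩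
      map_add' := fun a b => by
        rw [← map_add]
        congr 1
        apply Subtype.ext
        simp only [map_add, Submodule.coe_add]
        ring
      map_smul' := fun t a => by
        rw [RingHom.id_apply, ← LinearMap.map_smul_of_tower]
        congr 1
        apply Subtype.ext
        simp only [map_smul, smul_eq_mul]
        simp only [map_mul, Submodule.coe_smul_of_tower, Algebra.smul_def]
        ring }
  refine ⟨τ, fun x => ?_, fun a b => ?_, ?_⟩
  · show m.toCotangent _ = _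
    congr 1
    apply Subtype.ext
    simp [(hc x).mpr x.2]
  · show m.toCotangent _ = c a • m.toCotangent _ + c b • m.toCotangent _
    rw [← LinearMap.map_smul_of_tower, ← LinearMap.map_smul_of_tower, ← map_add,
      Ideal.toCotangent_eq]
    have : ((⟨a * b - algebraMap k A (c (a * b)), sub_mem c hc (a * b)⟩ : m) : A) -
        ((c a • (⟨b - algebraMap k A (c b), sub_mem c hc b⟩ : m) +
          c b • (⟨a - algebraMap k A (c a), sub_mem c hc a⟩ : m) : m) : A) =
        (a - algebraMap k A (c a)) * (b - algebraMap k A (c b)) := by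
      simp only [map_mul, Submodule.coe_add, Submodule.coe_smul_of_tower, Algebra.smul_def]
      ring
    rw [this, pow_two]
    exact Ideal.mul_mem_mul (sub_mem c hc a) (sub_mem c hc b)
  · show m.toCotangent _ = 0
    rw [Ideal.toCotangent_eq_zero]
    simp

theorem exists_arc2 (D : A →ₗ[k] k) (hD : ∀ a b, D (a * b) = c a * D b + c b * D a)
    (hD1 : D 1 = 0) :
    ∃ φ : A →ₐ[k] (k[X] ⧸ Ideal.span {(X : k[X]) ^ 2}),
      ∀ a, φ a = Ideal.Quotient.mk _ (C (c a) + C (D a) * X) := by
  let f : A →ₗ[k] (k[X] ⧸ Ideal.span {(X : k[X]) ^ 2}) :=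
    { toFun := fun a => Ideal.Quotient.mk _ (C (c a) + C (D a) * X)
      map_add' := fun a b => by
        rw [← map_add]
        congr 1
        simp only [map_add]
        ring
      map_smul' := fun t a => by
        rw [RingHom.id_apply, map_smul c t a, map_smul D t a, smul_eq_mul, smul_eq_mul,
          ← Ideal.Quotient.mkₐ_eq_mk k, ← map_smul]
        congr 1
        rw [Polynomial.smul_eq_C_mul]
        simp only [map_mul]
        ring }
  refine ⟨AlgHom.ofLinearMap f ?_ ?_, fun a => rfl⟩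
  · show Ideal.Quotient.mk _ (C (c 1) + C (D 1) * X) = 1
    rw [hD1, map_one, map_zero, zero_mul, add_zero, map_one, map_one]
  · intro a b
    show Ideal.Quotient.mk _ (C (c (a * b)) + C (D (a * b)) * X) =
      Ideal.Quotient.mk _ (C (c a) + C (D a) * X) * Ideal.Quotient.mk _ (C (c b) + C (D b) * X)
    rw [← map_mul, Ideal.Quotient.eq, Ideal.mem_span_singleton]
    refine ⟨-C (D a * D b), ?_⟩
    rw [hD]
    simp only [map_mul, map_add]
    ring

end arcs

section lifting

variable {k : Type u} [Field k] {A : Type u} [CommRing A] [Algebra k A] {m : Ideal A}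

/-- an arc at level two lifts to all higher levels keeping its first two coefficients -/
theorem exists_lift_arc (H : JetsLift k A m) (c0 c1 : A → k) (h0 : ∀ a ∈ m, c0 a = 0)
    (φ : A →ₐ[k] (k[X] ⧸ Ideal.span {(X : k[X]) ^ 2}))
    (hφ : ∀ a p, φ a = Ideal.Quotient.mk _ p → p.coeff 0 = c0 a ∧ p.coeff 1 = c1 a) :
    ∀ l, 2 ≤ l → ∃ ψ : A →ₐ[k] (k[X] ⧸ Ideal.span {(X : k[X]) ^ l}),
      ∀ a p, ψ a = Ideal.Quotient.mk _ p → p.coeff 0 = c0 a ∧ p.coeff 1 = c1 a := by
  intro l hl
  induction l, hl using Nat.le_induction with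
  | base => exact ⟨φ, hφ⟩
  | succ l hl ih =>
    obtain ⟨ψ, hψ⟩ := ih
    have hnil : ∀ a ∈ m, IsNilpotent (ψ a) := by
      intro a ha
      obtain ⟨p, hp⟩ := Ideal.Quotient.mk_surjective (ψ a)
      rw [← hp]
      apply isNilpotent_mk
      rw [(hψ a p hp.symm).1, h0 a ha]
    obtain ⟨ψ', hψ'⟩ := H l (by omega) ψ hnil
    refine ⟨ψ', fun a p hp => ?_⟩
    apply hψ a p
    rw [← hψ', AlgHom.comp_apply, hp]
    rfl

/-- the image of `m ^ j` under an arc centered at `m` -/
theorem exists_eq_mk_mul_pow {l : ℕ} (ψ : A →ₐ[k] (k[X] ⧸ Ideal.span {(X : k[X]) ^ l}))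
    (hψ : ∀ a ∈ m, ∀ p, ψ a = Ideal.Quotient.mk _ p → p.coeff 0 = 0) (j : ℕ) (a : A)
    (ha : a ∈ m ^ j) : ∃ r : k[X], ψ a = Ideal.Quotient.mk _ (r * X ^ j) := by
  have h1 : Ideal.map ψ m ≤ Ideal.span {Ideal.Quotient.mk (Ideal.span {(X : k[X]) ^ l}) X} := by
    rw [Ideal.map_le_iff_le_comap]
    intro a ha
    rw [Ideal.mem_comap]
    obtain ⟨p, hp⟩ := Ideal.Quotient.mk_surjective (ψ a)
    have h0 := hψ a ha p hp.symm
    rw [← hp, eq_X_mul_of_coeff_zero k p h0, map_mul]
    exact Ideal.mul_mem_right _ _ (Ideal.mem_span_singleton_self _)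
  have h2 : ψ a ∈ Ideal.span {(Ideal.Quotient.mk (Ideal.span {(X : k[X]) ^ l}) X) ^ j} := by
    have e1 : Ideal.span {(Ideal.Quotient.mk (Ideal.span {(X : k[X]) ^ l}) X) ^ j} =
        (Ideal.span {Ideal.Quotient.mk (Ideal.span {(X : k[X]) ^ l}) X}) ^ j :=
      (Ideal.span_singleton_pow _ _).symm
    rw [e1]
    refine Ideal.pow_right_mono h1 j ?_
    rw [← Ideal.map_pow]
    exact Ideal.mem_map_of_mem _ ha
  obtain ⟨r', hr'⟩ := Ideal.mem_span_singleton'.mp h2
  obtain ⟨r, rfl⟩ := Ideal.Quotient.mk_surjective r'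
  exact ⟨r, by rw [← hr', map_mul, map_pow]⟩

/-- the key vanishing statement -/
theorem eval_eq_zero_of_arc {σ : Type*} (n : ℕ)
    (ψ : A →ₐ[k] (k[X] ⧸ Ideal.span {(X : k[X]) ^ (n + 2)})) (c0 c1 : A → k)
    (h0 : ∀ a ∈ m, c0 a = 0)
    (hψ : ∀ a p, ψ a = Ideal.Quotient.mk _ p → p.coeff 0 = c0 a ∧ p.coeff 1 = c1 a)
    (x : σ → A) (hx : ∀ i, x i ∈ m) (F : MvPolynomial σ k) (hF : F.IsHomogeneous n)
    (s : A) (hs : c0 s ≠ 0) (hmem : s * MvPolynomial.aeval x F ∈ m ^ (n + 1)) :
    MvPolynomial.eval (fun i => c1 (x i)) F = 0 := by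
  choose p hp using fun i => Ideal.Quotient.mk_surjective (ψ (x i))
  have hp0 : ∀ i, (p i).coeff 0 = 0 := fun i => by
    rw [(hψ (x i) (p i) (hp i).symm).1, h0 _ (hx i)]
  have hp1 : ∀ i, (p i).coeff 1 = c1 (x i) := fun i => (hψ (x i) (p i) (hp i).symm).2
  have hpq : p = fun i => X * (p i).divX := funext fun i => eq_X_mul_of_coeff_zero k (p i) (hp0 i)
  have hq0 : (fun i => ((p i).divX).coeff 0) = fun i => c1 (x i) := by
    funext i
    rw [Polynomial.coeff_divX, zero_add, hp1]
  -- the image of the polynomial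
  have h1 : ψ (MvPolynomial.aeval x F) = Ideal.Quotient.mk _
      (X ^ n * MvPolynomial.aeval (fun i => (p i).divX) F) := by
    have e2 : (fun i => ψ (x i)) = fun i => Ideal.Quotient.mkₐ k _ (p i) :=
      funext fun i => (hp i).symm
    rw [MvPolynomial.comp_aeval_apply, ← aeval_X_mul F n hF, ← hpq,
      ← Ideal.Quotient.mkₐ_eq_mk k, MvPolynomial.comp_aeval_apply, e2]
  obtain ⟨ps, hps⟩ := Ideal.Quotient.mk_surjective (ψ s)
  have hps0 : ps.coeff 0 = c0 s := (hψ s ps hps.symm).1
  obtain ⟨r, hr⟩ := exists_eq_mk_mul_pow ψ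
    (fun a ha p hp => by rw [(hψ a p hp).1, h0 a ha]) (n + 1) _ hmem
  rw [map_mul, h1, ← hps, ← map_mul] at hr
  have h2 := coeff_eq_of_mk_eq k (show n < n + 2 by omega) hr
  rw [show ps * (X ^ n * MvPolynomial.aeval (fun i => (p i).divX) F) =
    X ^ n * (ps * MvPolynomial.aeval (fun i => (p i).divX) F) by ring,
    Polynomial.coeff_X_pow_mul', if_pos le_rfl, Nat.sub_self, Polynomial.mul_coeff_zero,
    Polynomial.coeff_mul_X_pow', if_neg (by omega), coeff_zero_aeval, hq0, hps0] at h2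
  exact (mul_eq_zero.mp h2).resolve_left hs

end lifting

section claim

variable {k : Type u} [Field k] [Infinite k] {A : Type u} [CommRing A] [Algebra k A] {m : Ideal A}

/-- if all curvilinear jets lift, a homogeneous form in a cotangent basis whose value has a
multiple (by an element outside `m`) in `m ^ (n + 1)` vanishes -/
theorem eq_zero_of_mul_aeval_mem (H : JetsLift k A m) (c : A →ₐ[k] k)
    (hc : ∀ a, c a = 0 ↔ a ∈ m) {e : ℕ} (b : Module.Basis (Fin e) k m.Cotangent)
    (x : Fin e → m) (hx : ∀ i, m.toCotangent (x i) = b i) (n : ℕ)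
    (F : MvPolynomial (Fin e) k) (hF : F.IsHomogeneous n) (s : A) (hs : s ∉ m)
    (hmem : s * MvPolynomial.aeval (fun i => (x i : A)) F ∈ m ^ (n + 1)) : F = 0 := by
  apply MvPolynomial.funext
  intro v
  rw [map_zero]
  obtain ⟨τ, hτ1, hτ2, hτ3⟩ := exists_tau c hc
  let L : m.Cotangent →ₗ[k] k := b.constr k v
  let D : A →ₗ[k] k := L ∘ₗ τ
  have hD : ∀ a b, D (a * b) = c a * D b + c b * D a := by
    intro a b
    show L (τ (a * b)) = c a * L (τ b) + c b * L (τ a)
    rw [hτ2, map_add, map_smul, map_smul, smul_eq_mul, smul_eq_mul]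
  have hD1 : D 1 = 0 := by
    show L (τ 1) = 0
    rw [hτ3, map_zero]
  obtain ⟨φ, hφ⟩ := exists_arc2 c D hD hD1
  have hφ' : ∀ a p, φ a = Ideal.Quotient.mk _ p → p.coeff 0 = c a ∧ p.coeff 1 = D a := by
    intro a p hp
    rw [hφ a] at hp
    constructor
    · rw [← coeff_eq_of_mk_eq k (show 0 < 2 by omega) hp]
      simp
    · rw [← coeff_eq_of_mk_eq k (show 1 < 2 by omega) hp]
      simp [Polynomial.coeff_C]
  have h0 : ∀ a ∈ m, c a = 0 := fun a ha => (hc a).mpr ha
  obtain ⟨ψ, hψ⟩ := exists_lift_arc H (fun a => c a) (fun a => D a) h0 φ hφ' (n + 2) (by omega)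
  have key := eval_eq_zero_of_arc n ψ (fun a => c a) (fun a => D a) h0 hψ
    (fun i => (x i : A)) (fun i => (x i).2) F hF s (fun h => hs ((hc s).mp h)) hmem
  have hv : (fun i => D ((x i : m) : A)) = v := by
    funext i
    show L (τ (x i)) = v i
    rw [hτ1, hx, Module.Basis.constr_basis]
  rw [← hv]
  exact key

end claim

end Groth.Agent.Helper7.Jet
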