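import Mathlib
import Groth.Agent.Helper7.JetB
import Groth.Agent.Helper7.QRReg
import Groth.Agent.Helper8.RegSeqD
import Groth.Agent.Helper4.ArtinReg

set_option autoImplicit false
set_option linter.style.haveILetI false

/-! Lifting of curvilinear jets implies regularity of the local ring. -/

namespace Groth.Agent.Helper7.Jet

open Polynomial RingTheory.Sequence

universe u

variable (k : Type u) [Field k] [IsAlgClosed k] (A : Type u) [CommRing A] [Algebra k A]
  [Algebra.FiniteType k A] (m : Ideal A) [m.IsMaximal]

theorem regular_of_jetsLift (H : JetsLift k A m) :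
    IsRegularLocalRing (Localization.AtPrime m) := by
  classical
  obtain ⟨c, hc⟩ := exists_character k A m
  obtain ⟨e, b, x, hx⟩ := exists_basis_lifts k A m
  haveI : IsNoetherianRing A := Algebra.FiniteType.isNoetherianRing k A
  haveI : IsNoetherianRing (Localization.AtPrime m) :=
    IsLocalization.isNoetherianRing m.primeCompl _ inferInstance
  -- the residue map
  have hunit : ∀ y : m.primeCompl, IsUnit (c.toRingHom y) := fun y =>
    isUnit_iff_ne_zero.mpr fun h => y.2 ((hc _).mp h)
  let ρ : Localization.AtPrime m →+* k := IsLocalization.lift (M := m.primeCompl) hunit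
  have hρ : ∀ a, ρ (algebraMap A (Localization.AtPrime m) a) = c a := fun a =>
    IsLocalization.lift_eq hunit a
  have hρk : ∀ t, ρ (algebraMap k (Localization.AtPrime m) t) = t := by
    intro t
    rw [IsScalarTower.algebraMap_apply k A (Localization.AtPrime m), hρ, AlgHom.commutes]
    rfl
  have hker : RingHom.ker ρ = IsLocalRing.maximalIdeal (Localization.AtPrime m) := by
    have hsurj : Function.Surjective ρ := fun t => ⟨algebraMap k _ t, hρk t⟩
    haveI := RingHom.ker_isMaximal_of_surjective ρ hsurj
    exact IsLocalRing.eq_maximalIdeal inferInstance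
  let ξ : Fin e → Localization.AtPrime m := fun i => algebraMap A _ (x i : A)
  -- the `x i` generate `m` modulo `m ^ 2`
  have hgen : m ≤ Ideal.span (Set.range fun i => (x i : A)) ⊔ m ^ 2 := by
    intro a ha
    have h1 : m.toCotangent ⟨a, ha⟩ = m.toCotangent (∑ i, b.repr (m.toCotangent ⟨a, ha⟩) i • x i) := by
      rw [map_sum]
      conv_lhs => rw [← b.sum_repr (m.toCotangent ⟨a, ha⟩)]
      refine Finset.sum_congr rfl fun i _ => ?_
      rw [LinearMap.map_smul_of_tower, hx]
    rw [Ideal.toCotangent_eq] at h1
    have h2 : ((∑ i, b.repr (m.toCotangent ⟨a, ha⟩) i • x i : m) : A) ∈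
        Ideal.span (Set.range fun i => (x i : A)) := by
      rw [Submodule.coe_sum]
      refine Ideal.sum_mem _ fun i _ => ?_
      rw [Submodule.coe_smul_of_tower, Algebra.smul_def]
      exact Ideal.mul_mem_left _ _ (Ideal.subset_span ⟨i, rfl⟩)
    have h3 : a = ((∑ i, b.repr (m.toCotangent ⟨a, ha⟩) i • x i : m) : A) +
        (a - ((∑ i, b.repr (m.toCotangent ⟨a, ha⟩) i • x i : m) : A)) := by ring
    rw [h3]
    exact Submodule.add_mem_sup h2 h1
  have hmap : Ideal.map (algebraMap A (Localization.AtPrime m)) m =
      IsLocalRing.maximalIdeal (Localization.AtPrime m) :=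
    Localization.AtPrime.map_eq_maximalIdeal
  have hξmem : ∀ i, ξ i ∈ IsLocalRing.maximalIdeal (Localization.AtPrime m) := fun i => by
    rw [← hmap]
    exact Ideal.mem_map_of_mem _ (x i).2
  have hspan : Ideal.span (Set.range ξ) = IsLocalRing.maximalIdeal (Localization.AtPrime m) := by
    apply le_antisymm
    · rw [Ideal.span_le]
      rintro _ ⟨i, rfl⟩
      exact hξmem i
    · have h1 := Ideal.map_mono (f := algebraMap A (Localization.AtPrime m)) hgen
      rw [Ideal.map_sup, Ideal.map_pow, hmap, Ideal.map_span, ← Set.range_comp] at h1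
      refine Submodule.le_of_le_smul_of_le_jacobson_bot
        (I := IsLocalRing.maximalIdeal (Localization.AtPrime m))
        (IsNoetherian.noetherian _) ?_ ?_
      · rw [IsLocalRing.jacobson_eq_maximalIdeal ⊥ bot_ne_top]
      · rw [smul_eq_mul, ← pow_two]
        exact h1
  -- quasi-regularity
  have hqr : CAlgX.IsQuasiRegular ξ := by
    intro n P hP hmem d
    rw [hspan] at hmem ⊢
    set P₀ : MvPolynomial (Fin e) k := MvPolynomial.map ρ P with hP₀
    have hP₀hom : P₀.IsHomogeneous n := hP.map ρ
    set P' : MvPolynomial (Fin e) (Localization.AtPrime m) :=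
      MvPolynomial.map (algebraMap k _) P₀ with hP'
    have hdiff : MvPolynomial.eval ξ (P - P') ∈
        IsLocalRing.maximalIdeal (Localization.AtPrime m) ^ (n + 1) := by
      rw [← hspan]
      apply Groth.Agent.Helper1.QuasiReg.eval_mem_pow_succ ξ n (P - P')
        (hP.sub (hP₀hom.map _))
      intro d'
      rw [hspan, ← hker, RingHom.mem_ker, MvPolynomial.coeff_sub, map_sub, hP',
        MvPolynomial.coeff_map, hP₀, MvPolynomial.coeff_map, hρk, sub_self]
    have h1 : MvPolynomial.eval ξ P' ∈
        IsLocalRing.maximalIdeal (Localization.AtPrime m) ^ (n + 1) := by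
      have := Ideal.sub_mem _ hmem hdiff
      rwa [← map_sub, sub_sub_cancel] at this
    have h2 : MvPolynomial.eval ξ P' = algebraMap A (Localization.AtPrime m)
        (MvPolynomial.aeval (fun i => (x i : A)) P₀) := by
      rw [hP', MvPolynomial.eval_map, ← MvPolynomial.aeval_def]
      exact MvPolynomial.aeval_algebraMap_apply (Localization.AtPrime m) (fun i => (x i : A)) P₀
    rw [h2, ← hmap, ← Ideal.map_pow,
      IsLocalization.algebraMap_mem_map_algebraMap_iff m.primeCompl] at h1
    obtain ⟨s, hs, hsmem⟩ := h1
    have hzero := eq_zero_of_mul_aeval_mem H c hc b x hx n P₀ hP₀hom s hs hsmem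
    rw [← hker, RingHom.mem_ker]
    have := congrArg (MvPolynomial.coeff d) hzero
    rwa [hP₀, MvPolynomial.coeff_map, MvPolynomial.coeff_zero] at this
  -- regularity of the sequence
  have hwr : IsWeaklyRegular (Localization.AtPrime m) (List.ofFn ξ) := by
    apply Groth.Agent.Helper7.QRReg.isWeaklyRegular_of_isQuasiRegular e _ ξ _ hqr
    intro i
    rw [← Ideal.jacobson_bot, IsLocalRing.jacobson_eq_maximalIdeal ⊥ bot_ne_top]
    exact hξmem i
  have hofList : Ideal.ofList (List.ofFn ξ) = IsLocalRing.maximalIdeal (Localization.AtPrime m) := by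
    rw [← hspan]
    unfold Ideal.ofList
    congr 1
    ext r
    simp [List.mem_ofFn]
  have hreg : IsRegular (Localization.AtPrime m) (List.ofFn ξ) := by
    refine ⟨hwr, ?_⟩
    rw [hofList, smul_eq_mul, Ideal.mul_top]
    exact (IsLocalRing.maximalIdeal.isMaximal _).ne_top.symm
  refine Groth.Agent.Helper8.RegSeqD.regular_of_regular_quotient e _ (List.ofFn ξ)
    (List.length_ofFn) hreg ?_
  have e1 : (Localization.AtPrime m ⧸ Ideal.ofList (List.ofFn ξ)) ≃+*
      (Localization.AtPrime m ⧸ IsLocalRing.maximalIdeal (Localization.AtPrime m)) :=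
    Ideal.quotEquivOfEq hofList
  letI : Field (Localization.AtPrime m ⧸ IsLocalRing.maximalIdeal (Localization.AtPrime m)) :=
    Ideal.Quotient.field _
  have hfield : IsRegularLocalRing
      (Localization.AtPrime m ⧸ IsLocalRing.maximalIdeal (Localization.AtPrime m)) :=
    Groth.Agent.Helper4.ArtinReg.isRegularLocalRing_of_isField _ (Field.toIsField _)
  exact IsRegularLocalRing.of_ringEquiv e1.symm

end Groth.Agent.Helper7.Jet
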