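import Mathlib
import Groth.Agent.Helper7.JetC
import Groth.Agent.Helper2.RegSmooth
import Groth.Agent.Helper1.FieldSmooth6

set_option autoImplicit false
set_option linter.style.haveILetI false

/-! Regularity of the local ring implies lifting of curvilinear jets; the equivalence. -/

namespace Groth.Agent.Helper7.Jet

open Polynomial

universe u

variable (k : Type u) [Field k] [IsAlgClosed k] [CharZero k] (A : Type u) [CommRing A] [Algebra k A]
  [Algebra.FiniteType k A] (m : Ideal A) [m.IsMaximal]

theorem jetsLift_of_regular (h : IsRegularLocalRing (Localization.AtPrime m)) :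
    JetsLift k A m := by
  haveI : Algebra.IsGeometricallyReduced k m.ResidueField :=
    Groth.Agent.Helper1.FieldSmooth.isGeometricallyReduced_of_perfectField
  have hsm : Algebra.IsSmoothAt k m :=
    (Groth.Agent.Helper2.RegSmooth.isSmoothAt_iff_isRegularLocalRing k A m).mpr h
  haveI : Algebra.FormallySmooth k (Localization.AtPrime m) := hsm
  obtain ⟨c, hc⟩ := exists_character k A m
  intro l hl φ hnil
  have hunit : ∀ y : m.primeCompl, IsUnit (φ y) := by
    intro y
    have h1 : φ y = algebraMap k _ (c y) + φ ((y : A) - algebraMap k A (c y)) := by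
      rw [map_sub, AlgHom.commutes]
      ring
    rw [h1]
    refine (hnil _ (sub_mem c hc y)).isUnit_add_left_of_commute ?_ (Commute.all _ _)
    exact (isUnit_iff_ne_zero.mpr fun h0 => y.2 ((hc _).mp h0)).map _
  let φ' : Localization.AtPrime m →ₐ[k] (k[X] ⧸ Ideal.span {(X : k[X]) ^ l}) :=
    IsLocalization.liftAlgHom (M := m.primeCompl) (f := φ) hunit
  have hle : Ideal.span {(X : k[X]) ^ (l + 1)} ≤ Ideal.span {(X : k[X]) ^ l} :=
    Ideal.span_singleton_le_span_singleton.mpr (pow_dvd_pow (X : k[X]) (Nat.le_succ l))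
  let π : (k[X] ⧸ Ideal.span {(X : k[X]) ^ (l + 1)}) →ₐ[k] (k[X] ⧸ Ideal.span {(X : k[X]) ^ l}) :=
    Ideal.Quotient.factorₐ k hle
  have hπ : Function.Surjective π := Ideal.Quotient.factor_surjective hle
  have hker : IsNilpotent (RingHom.ker (π : (k[X] ⧸ Ideal.span {(X : k[X]) ^ (l + 1)}) →+*
      (k[X] ⧸ Ideal.span {(X : k[X]) ^ l}))) := by
    refine ⟨2, ?_⟩
    rw [Ideal.Quotient.coe_factorₐ, Ideal.Quotient.factor_ker, ← Ideal.map_pow,
      Ideal.zero_eq_bot, Ideal.map_eq_bot_iff_le_ker, Ideal.mk_ker, Ideal.span_singleton_pow,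
      Ideal.span_singleton_le_span_singleton, ← pow_mul]
    exact pow_dvd_pow _ (by omega)
  let ψ' := Algebra.FormallySmooth.liftOfSurjective φ' π hπ hker
  refine ⟨ψ'.comp (IsScalarTower.toAlgHom k A (Localization.AtPrime m)), ?_⟩
  rw [← AlgHom.comp_assoc, Algebra.FormallySmooth.comp_liftOfSurjective]
  ext a
  exact IsLocalization.lift_eq hunit a

theorem main : IsRegularLocalRing (Localization.AtPrime m) ↔ JetsLift k A m :=
  ⟨jetsLift_of_regular k A m, regular_of_jetsLift k A m⟩

end Groth.Agent.Helper7.Jet
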