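import Mathlib

set_option autoImplicit false
universe u
open scoped TensorProduct

namespace Groth.Agent.Helper7.JordanCent

variable (k : Type u) [Field k] (V : Type u) [AddCommGroup V] [Module k V]
  (R : Type u) [CommRing R] [Algebra k R]

/-- base change as an algebra hom -/
noncomputable abbrev bc : Module.End k V →ₐ[k] Module.End R (R ⊗[k] V) :=
  Module.End.baseChangeHom k R V

lemma bc_apply (f : Module.End k V) : bc k V R f = f.baseChange R := rfl

lemma commute_of_mem_adjoin (h : Module.End R (R ⊗[k] V)) (X a : Module.End k V)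
    (ha : a ∈ Algebra.adjoin k {X}) (hX : Commute h (X.baseChange R)) :
    Commute h (a.baseChange R) := by
  have hle : Algebra.adjoin k {X} ≤ (Subalgebra.centralizer k {h}).comap (bc k V R) := by
    refine Algebra.adjoin_le ?_
    rintro _ rfl
    simp only [Subalgebra.coe_comap, Set.mem_preimage, SetLike.mem_coe]
    rw [Subalgebra.mem_centralizer_iff]
    rintro _ rfl
    exact hX
  have := hle ha
  simp only [Subalgebra.mem_comap] at this
  rw [Subalgebra.mem_centralizer_iff] at this
  exact this h rfl

variable [PerfectField k] [FiniteDimensional k V]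

lemma additive (h : Module.End R (R ⊗[k] V)) (X Y N : Module.End k V)
    (hY : Y.IsSemisimple) (hN : IsNilpotent N) (hYN : Commute Y N) (hX : X = Y + N) :
    (Commute h (X.baseChange R) ↔ Commute h (Y.baseChange R) ∧ Commute h (N.baseChange R)) := by
  constructor
  · intro hc
    obtain ⟨n₀, hn₀, s₀, hs₀, hn₀_nil, hs₀_ss, h₀⟩ := X.exists_isNilpotent_isSemisimple
    have hcomm : Commute n₀ s₀ := by
      have h1 : Commute X n₀ := Algebra.commute_of_mem_adjoin_singleton_of_commute hn₀ (Commute.refl X)
      exact Algebra.commute_of_mem_adjoin_singleton_of_commute hs₀ h1.symm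
    have := Module.End.isNilpotent_isSemisimple_unique hN hY hn₀_nil hs₀_ss hYN.symm hcomm
      (by rw [← h₀, hX, add_comm])
    obtain ⟨rfl, rfl⟩ := this
    exact ⟨commute_of_mem_adjoin k V R h X _ hs₀ hc, commute_of_mem_adjoin k V R h X _ hn₀ hc⟩
  · rintro ⟨h1, h2⟩
    rw [hX, LinearMap.baseChange_add]
    exact h1.add_right h2

lemma multiplicative (h : Module.End R (R ⊗[k] V)) (g t u : Module.End k V)
    (hg : IsUnit g) (ht : t.IsSemisimple) (hu : IsNilpotent (u - 1)) (htu : Commute t u)
    (hgtu : g = t * u) :
    (Commute h (g.baseChange R) ↔ Commute h (t.baseChange R) ∧ Commute h (u.baseChange R)) := by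
  constructor
  · intro hc
    have hN : IsNilpotent (t * (u - 1)) :=
      (htu.sub_right (Commute.one_right t)).isNilpotent_mul_left hu
    have hcomm : Commute t (t * (u - 1)) :=
      (Commute.refl t).mul_right (htu.sub_right (Commute.one_right t))
    have hX : g = t + t * (u - 1) := by rw [hgtu, mul_sub, mul_one]; abel
    have h1 := ((additive k V R h g t (t * (u - 1)) ht hN hcomm hX).mp hc).1
    refine ⟨h1, ?_⟩
    -- u is a unit, so t is a unit
    have huu : IsUnit u := by
      have := hu.isUnit_add_one
      rwa [sub_add_cancel] at this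
    have htunit : IsUnit t := by
      obtain ⟨u', rfl⟩ := huu
      have : t = g * (u'⁻¹ : (Module.End k V)ˣ) := by rw [hgtu, mul_assoc, Units.mul_inv, mul_one]
      rw [this]
      exact hg.mul u'⁻¹.isUnit
    obtain ⟨t', rfl⟩ := htunit
    have htR : IsUnit ((t' : Module.End k V).baseChange R) := by
      rw [← bc_apply]; exact t'.isUnit.map (bc k V R)
    obtain ⟨T, hT⟩ := htR
    have h1' : Commute h (T : Module.End R (R ⊗[k] V)) := by rw [hT]; exact h1
    have h2 : Commute h ((T⁻¹ : (Module.End R (R ⊗[k] V))ˣ) : Module.End R (R ⊗[k] V)) :=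
      h1'.units_inv_right
    have hu_eq : u.baseChange R = (T⁻¹ : (Module.End R (R ⊗[k] V))ˣ) * g.baseChange R := by
      rw [hgtu, LinearMap.baseChange_mul, ← hT, ← mul_assoc, Units.inv_mul, one_mul]
    rw [hu_eq]
    exact h2.mul_right hc
  · rintro ⟨h1, h2⟩
    rw [hgtu, LinearMap.baseChange_mul]
    exact h1.mul_right h2

theorem result (h : Module.End R (R ⊗[k] V)) :
    (∀ (g t u : Module.End k V), IsUnit g → t.IsSemisimple → IsNilpotent (u - 1) → Commute t u → g = t * u →
      (Commute h (g.baseChange R) ↔ Commute h (t.baseChange R) ∧ Commute h (u.baseChange R))) ∧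
    (∀ (X Y N : Module.End k V), Y.IsSemisimple → IsNilpotent N → Commute Y N → X = Y + N →
      (Commute h (X.baseChange R) ↔ Commute h (Y.baseChange R) ∧ Commute h (N.baseChange R))) :=
  ⟨fun g t u hg ht hu htu hgtu => multiplicative k V R h g t u hg ht hu htu hgtu,
   fun X Y N hY hN hYN hX => additive k V R h X Y N hY hN hYN hX⟩

end Groth.Agent.Helper7.JordanCent
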