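import Mathlib
import Groth.Agent.Helper7.CCvA
import Groth.Agent.Helper7.CCvE

/-!
# KAlgA: Kummer algebras `A[T_i]/(T_i^{n_i} - f_i)` over an arbitrary index type; tower isomorphisms
-/

set_option autoImplicit false
universe u v w
open MvPolynomial

namespace Groth.Agent.Helper7.KAlg

open Groth.Agent.Helper7.CCv (pol)

section Aux

variable {R : Type*} {S : Type*} [NonAssocSemiring R] [NonAssocSemiring S]

/-- a ring hom with a two-sided inverse is an isomorphism -/
def ofHomInv (f : R →+* S) (g : S →+* R) (h₂ : g.comp f = RingHom.id R)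
    (h₁ : f.comp g = RingHom.id S) : R ≃+* S :=
  RingEquiv.ofRingHom f g h₁ h₂

theorem ofHomInv_apply (f : R →+* S) (g : S →+* R) (h₂ h₁) (x : R) :
    ofHomInv f g h₂ h₁ x = f x := rfl

theorem ofHomInv_symm_apply (f : R →+* S) (g : S →+* R) (h₂ h₁) (y : S) :
    (ofHomInv f g h₂ h₁).symm y = g y := rfl

end Aux

section Defs

variable (A : Type u) [CommRing A] {σ : Type v} (f : σ → A) (n : σ → ℕ)

/-- the Kummer ideal -/
noncomputable abbrev KI : Ideal (MvPolynomial σ A) :=
  Ideal.span (Set.range fun i => (X i : MvPolynomial σ A) ^ n i - C (f i))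

/-- the Kummer algebra -/
noncomputable abbrev KA : Type (max u v) := MvPolynomial σ A ⧸ KI A f n

variable {A} in
theorem gen_mem (i : σ) : (X i : MvPolynomial σ A) ^ n i - C (f i) ∈ KI A f n :=
  Ideal.subset_span ⟨i, rfl⟩

theorem mk_X_pow (i : σ) :
    (Ideal.Quotient.mk (KI A f n) (X i)) ^ n i = Ideal.Quotient.mk (KI A f n) (C (f i)) := by
  rw [← map_pow, ← sub_eq_zero, ← map_sub, Ideal.Quotient.eq_zero_iff_mem]
  exact gen_mem f n i

theorem algebraMap_KA (a : A) :
    algebraMap A (KA A f n) a = Ideal.Quotient.mk (KI A f n) (C a) := rfl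

/-- ring homs out of a Kummer algebra are determined on constants and variables -/
theorem KA_ringHom_ext {T : Type w} [Semiring T] {h₁ h₂ : KA A f n →+* T}
    (hC : ∀ a : A, h₁ (Ideal.Quotient.mk _ (C a)) = h₂ (Ideal.Quotient.mk _ (C a)))
    (hX : ∀ i : σ, h₁ (Ideal.Quotient.mk _ (X i)) = h₂ (Ideal.Quotient.mk _ (X i))) : h₁ = h₂ := by
  apply Ideal.Quotient.ringHom_ext
  apply MvPolynomial.ringHom_ext
  · intro a
    exact hC a
  · intro i
    exact hX i

/-- a ring hom out of a Kummer algebra -/
noncomputable def KAlift {T : Type w} [CommRing T] (j : A →+* T) (v : σ → T)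
    (hv : ∀ i, v i ^ n i = j (f i)) : KA A f n →+* T :=
  Ideal.Quotient.lift (KI A f n) (eval₂Hom j v) (by
    have : KI A f n ≤ RingHom.ker (eval₂Hom j v) := by
      rw [Ideal.span_le]
      rintro _ ⟨i, rfl⟩
      show eval₂Hom j v (X i ^ n i - C (f i)) = 0
      rw [map_sub, map_pow, eval₂Hom_X', eval₂Hom_C, hv, sub_self]
    intro a ha
    exact this ha)

theorem KAlift_C {T : Type w} [CommRing T] (j : A →+* T) (v : σ → T)
    (hv : ∀ i, v i ^ n i = j (f i)) (a : A) :
    KAlift A f n j v hv (Ideal.Quotient.mk _ (C a)) = j a := by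
  unfold KAlift
  rw [Ideal.Quotient.lift_mk, eval₂Hom_C]

theorem KAlift_X {T : Type w} [CommRing T] (j : A →+* T) (v : σ → T)
    (hv : ∀ i, v i ^ n i = j (f i)) (i : σ) :
    KAlift A f n j v hv (Ideal.Quotient.mk _ (X i)) = v i := by
  unfold KAlift
  rw [Ideal.Quotient.lift_mk, eval₂Hom_X']

end Defs

section Rename

variable (A : Type u) [CommRing A] {σ τ : Type v} (e : σ ≃ τ) (f : τ → A) (n : τ → ℕ)

/-- renaming the variables -/
noncomputable def renameKA : KA A (f ∘ e) (n ∘ e) ≃+* KA A f n :=
  ofHomInv
    (KAlift A (f ∘ e) (n ∘ e) (algebraMap A (KA A f n)) (fun i => Ideal.Quotient.mk _ (X (e i)))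
      (fun i => mk_X_pow A f n (e i)))
    (KAlift A f n (algebraMap A (KA A (f ∘ e) (n ∘ e))) (fun j => Ideal.Quotient.mk _ (X (e.symm j)))
      (fun j => by
        have := mk_X_pow A (f ∘ e) (n ∘ e) (e.symm j)
        simp only [Function.comp_apply, Equiv.apply_symm_apply] at this
        rw [this, algebraMap_KA]))
    (by
      apply KA_ringHom_ext
      · intro a
        rw [RingHom.comp_apply, KAlift_C, algebraMap_KA, KAlift_C, RingHom.id_apply, algebraMap_KA]
      · intro i
        rw [RingHom.comp_apply, KAlift_X, KAlift_X, RingHom.id_apply, Equiv.symm_apply_apply])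
    (by
      apply KA_ringHom_ext
      · intro a
        rw [RingHom.comp_apply, KAlift_C, algebraMap_KA, KAlift_C, RingHom.id_apply, algebraMap_KA]
      · intro i
        rw [RingHom.comp_apply, KAlift_X, KAlift_X, RingHom.id_apply, Equiv.apply_symm_apply])

theorem renameKA_algebraMap (a : A) :
    renameKA A e f n (algebraMap A _ a) = algebraMap A _ a := by
  unfold renameKA
  rw [ofHomInv_apply, algebraMap_KA, KAlift_C]

end Rename

section Empty

variable (A : Type u) [CommRing A] {σ : Type v} [IsEmpty σ] (f : σ → A) (n : σ → ℕ)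

/-- the Kummer algebra in no variables -/
noncomputable def emptyKA : KA A f n ≃+* A :=
  ofHomInv
    (KAlift A f n (RingHom.id A) isEmptyElim (fun i => isEmptyElim i))
    (algebraMap A (KA A f n))
    (by
      apply KA_ringHom_ext
      · intro a
        rw [RingHom.comp_apply, KAlift_C, RingHom.id_apply, RingHom.id_apply, algebraMap_KA]
      · intro i
        exact isEmptyElim i)
    (by
      ext a
      rw [RingHom.comp_apply, algebraMap_KA, KAlift_C])

theorem emptyKA_symm_apply (a : A) : (emptyKA A f n).symm a = algebraMap A _ a := rfl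

end Empty

section Option

variable (A : Type u) [CommRing A] {σ : Type v} (f : Option σ → A) (n : Option σ → ℕ)

/-- the bottom step of the tower -/
noncomputable abbrev A1 : Type u := AdjoinRoot (pol (f none) (n none))

/-- the remaining elements, in the bottom step -/
noncomputable abbrev f1 : σ → A1 A f n := fun i => AdjoinRoot.of _ (f (some i))

abbrev n1 : σ → ℕ := fun i => n (some i)

theorem algebraMap_KA1 (a : A) :
    algebraMap A (KA (A1 A f n) (f1 A f n) (n1 n)) a =
      Ideal.Quotient.mk _ (C (AdjoinRoot.of _ a)) := rfl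

/-- forward map -/
noncomputable def optFwd : KA A f n →+* KA (A1 A f n) (f1 A f n) (n1 n) :=
  KAlift A f n (algebraMap A _)
    (fun o => o.elim (Ideal.Quotient.mk _ (C (AdjoinRoot.root _))) (fun i => Ideal.Quotient.mk _ (X i)))
    (by
      intro o
      cases o with
      | none =>
        show (Ideal.Quotient.mk _ (C (AdjoinRoot.root _))) ^ n none = _
        rw [algebraMap_KA1, ← map_pow, ← map_pow, Groth.Agent.Helper7.CCv.root_pow]
      | some i =>
        show (Ideal.Quotient.mk _ (X i)) ^ n (some i) = _
        rw [algebraMap_KA1]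
        exact mk_X_pow (A1 A f n) (f1 A f n) (n1 n) i)

/-- the map from the bottom step -/
noncomputable def optJ : A1 A f n →+* KA A f n :=
  AdjoinRoot.lift (algebraMap A (KA A f n)) (Ideal.Quotient.mk _ (X none)) (by
    rw [Polynomial.eval₂_sub, Polynomial.eval₂_pow, Polynomial.eval₂_X, Polynomial.eval₂_C,
      mk_X_pow, algebraMap_KA, sub_self])

theorem optJ_of (a : A) : optJ A f n (AdjoinRoot.of _ a) = algebraMap A _ a := by
  unfold optJ
  rw [AdjoinRoot.lift_of]

theorem optJ_root : optJ A f n (AdjoinRoot.root _) = Ideal.Quotient.mk _ (X none) := by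
  unfold optJ
  rw [AdjoinRoot.lift_root]

/-- backward map -/
noncomputable def optBwd : KA (A1 A f n) (f1 A f n) (n1 n) →+* KA A f n :=
  KAlift (A1 A f n) (f1 A f n) (n1 n) (optJ A f n) (fun i => Ideal.Quotient.mk _ (X (some i)))
    (by
      intro i
      rw [optJ_of, algebraMap_KA]
      exact mk_X_pow A f n (some i))

/-- the tower isomorphism: adjoin the root for `none` first -/
noncomputable def optKA : KA A f n ≃+* KA (A1 A f n) (f1 A f n) (n1 n) :=
  ofHomInv (optFwd A f n) (optBwd A f n)
    (by
      apply KA_ringHom_ext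
      · intro a
        unfold optFwd optBwd
        rw [RingHom.comp_apply, KAlift_C, algebraMap_KA1, KAlift_C, optJ_of, RingHom.id_apply,
          algebraMap_KA]
      · intro o
        unfold optFwd optBwd
        rw [RingHom.comp_apply, KAlift_X, RingHom.id_apply]
        cases o with
        | none =>
          show KAlift _ _ _ _ _ _ (Ideal.Quotient.mk _ (C (AdjoinRoot.root _))) = _
          rw [KAlift_C, optJ_root]
        | some i =>
          show KAlift _ _ _ _ _ _ (Ideal.Quotient.mk _ (X i)) = _
          rw [KAlift_X])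
    (by
      apply KA_ringHom_ext
      · intro b
        have : ((optFwd A f n).comp (optBwd A f n)).comp
            ((Ideal.Quotient.mk (KI (A1 A f n) (f1 A f n) (n1 n))).comp C) =
            (RingHom.id _).comp ((Ideal.Quotient.mk (KI (A1 A f n) (f1 A f n) (n1 n))).comp C) := by
          apply Groth.Agent.Helper7.CCv.adj_ringHom_ext
          · intro a
            simp only [RingHom.comp_apply, RingHom.id_apply]
            unfold optBwd
            rw [KAlift_C, optJ_of, algebraMap_KA]
            unfold optFwd
            rw [KAlift_C, algebraMap_KA1]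
          · simp only [RingHom.comp_apply, RingHom.id_apply]
            unfold optBwd
            rw [KAlift_C, optJ_root]
            unfold optFwd
            rw [KAlift_X]
            rfl
        exact RingHom.congr_fun this b
      · intro i
        unfold optBwd
        rw [RingHom.comp_apply, KAlift_X, RingHom.id_apply]
        unfold optFwd
        rw [KAlift_X]
        rfl)

theorem optKA_algebraMap (a : A) :
    optKA A f n (algebraMap A _ a) = algebraMap A _ a := by
  unfold optKA optFwd
  rw [ofHomInv_apply, algebraMap_KA, KAlift_C]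

theorem optKA_symm_algebraMap (a : A) :
    (optKA A f n).symm (algebraMap A _ a) = algebraMap A _ a := by
  rw [RingEquiv.symm_apply_eq, optKA_algebraMap]

theorem optKA_symm_algebraMap1 (b : A1 A f n) :
    (optKA A f n).symm (algebraMap (A1 A f n) _ b) = optJ A f n b := by
  unfold optKA optBwd
  rw [ofHomInv_symm_apply, algebraMap_KA, KAlift_C]

end Option

end Groth.Agent.Helper7.KAlg
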