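import Mathlib
import Groth.Agent.Helper7.KAlgA
import Groth.Agent.Helper7.KAlgB
import Groth.Agent.Helper7.CCvB

/-!
# KAlgC: Kummer algebras over a regular local ring are regular local, and étale away from the `f_i`
-/

set_option autoImplicit false
universe u
open IsLocalRing Polynomial

namespace Groth.Agent.Helper7.KAlg

open Groth.Agent.Helper7.CCv (pol)

section Reg

/-- the regularity statement for the index type `σ` -/
def PReg (σ : Type) : Prop :=
  ∀ (A : Type u) [CommRing A] [IsRegularLocalRing A] (f : σ → A)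
    (hm : ∀ i, f i ∈ maximalIdeal A)
    (_ : LinearIndependent (ResidueField A) (fun i => (maximalIdeal A).toCotangent ⟨f i, hm i⟩))
    (n : σ → ℕ) (_ : ∀ i, 1 ≤ n i), IsRegularLocalRing (KA A f n)

theorem pReg_of_equiv {σ τ : Type} (e : σ ≃ τ) (h : PReg.{u} σ) : PReg.{u} τ := by
  intro A _ _ f hm hf n hn
  haveI := h A (f ∘ e) (fun i => hm (e i)) (hf.comp e e.injective) (n ∘ e) (fun i => hn (e i))
  exact IsRegularLocalRing.of_ringEquiv (renameKA A e f n)

theorem pReg_empty : PReg.{u} PEmpty := by
  intro A _ _ f hm hf n hn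
  exact IsRegularLocalRing.of_ringEquiv (emptyKA A f n).symm

theorem pReg_option {σ : Type} [Fintype σ] (h : PReg.{u} σ) : PReg.{u} (Option σ) := by
  intro A _ _ f hm hf n hn
  have hs2 := none_notMem_sq A f hm hf
  have hn0 : 0 < n none := hn none
  haveI := isRegularLocalRing_adj A (f none) (hm none) hs2 (n none) hn0
  obtain ⟨hm', hli⟩ := cot_li_adj A f hm hf (n none) hn0
  haveI := h (A1 A f n) (f1 A f n) hm' hli (n1 n) (fun i => hn (some i))
  exact IsRegularLocalRing.of_ringEquiv (optKA A f n).symm

theorem regular (σ : Type) [Finite σ] : PReg.{u} σ :=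
  Finite.induction_empty_option (P := PReg.{u}) (fun e h => pReg_of_equiv e h) pReg_empty
    (fun h => pReg_option h) σ

end Reg

section EtaleOne

variable {A : Type u} [CommRing A] (s : A) (n : ℕ) (hn0 : 0 < n) (hn : IsUnit (n : A))
  {C : Type u} [CommRing C]

include hn0 hn in
/-- if `χ : A[X]/(Xⁿ - s) → C` is étale and maps the root to a unit then `C` is étale over `A` -/
theorem etale_comp_of (χ : AdjoinRoot (pol s n) →+* C) (hχ : χ.Etale)
    (hu : IsUnit (χ (AdjoinRoot.root _))) : (χ.comp (AdjoinRoot.of _)).Etale := by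
  let x : AdjoinRoot (pol s n) := AdjoinRoot.root (pol s n)
  haveI : Algebra.Etale A (Localization.Away x) := Groth.Agent.Helper7.CCv.etale_away s n hn0 hn
  let χ' : Localization.Away x →+* C := IsLocalization.Away.lift x hu
  have hχ' : ∀ y, χ' (algebraMap _ _ y) = χ y := fun y => IsLocalization.Away.lift_eq x hu y
  letI : Algebra (AdjoinRoot (pol s n)) C := χ.toAlgebra
  letI : Algebra (Localization.Away x) C := χ'.toAlgebra
  haveI : IsScalarTower (AdjoinRoot (pol s n)) (Localization.Away x) C :=
    IsScalarTower.of_algebraMap_eq (fun y => (hχ' y).symm)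
  haveI : Algebra.Etale (AdjoinRoot (pol s n)) C := hχ
  haveI : Algebra.Etale (AdjoinRoot (pol s n)) (Localization.Away x) :=
    Algebra.Etale.of_isLocalizationAway x
  haveI h1 : Algebra.Etale (Localization.Away x) C :=
    Algebra.Etale.of_restrictScalars (AdjoinRoot (pol s n)) (Localization.Away x) C
  letI : Algebra A C := (χ.comp (AdjoinRoot.of _)).toAlgebra
  haveI : IsScalarTower A (Localization.Away x) C :=
    IsScalarTower.of_algebraMap_eq (fun a => by
      show χ (AdjoinRoot.of _ a) = χ' (algebraMap A (Localization.Away x) a)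
      rw [IsScalarTower.algebraMap_apply A (AdjoinRoot (pol s n)) (Localization.Away x), hχ']
      rfl)
  have : Algebra.Etale A C := Algebra.Etale.comp A (Localization.Away x) C
  exact this

end EtaleOne

section Et

/-- the étaleness statement for the index type `σ` -/
def PEt (σ : Type) : Prop :=
  ∀ (A : Type u) [CommRing A] (f : σ → A) (n : σ → ℕ) (_ : ∀ i, 0 < n i)
    (_ : ∀ i, IsUnit ((n i : ℕ) : A)) (C : Type u) [CommRing C] (ψ : KA A f n →+* C),
    ψ.Etale → (∀ i, IsUnit (ψ (algebraMap A _ (f i)))) →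
    (ψ.comp (algebraMap A (KA A f n))).Etale

theorem pEt_of_equiv {σ τ : Type} (e : σ ≃ τ) (h : PEt.{u} σ) : PEt.{u} τ := by
  intro A _ f n hn0 hnu C _ ψ hψ hu
  let ψ' : KA A (f ∘ e) (n ∘ e) →+* C := ψ.comp (renameKA A e f n).toRingHom
  have hψ' : ψ'.Etale := RingHom.Etale.stableUnderComposition _ _
    (RingHom.Etale.of_bijective (renameKA A e f n).bijective) hψ
  have h1 := h A (f ∘ e) (n ∘ e) (fun i => hn0 (e i)) (fun i => hnu (e i)) C ψ' hψ' (by
    intro i
    show IsUnit (ψ (renameKA A e f n (algebraMap A _ (f (e i)))))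
    rw [renameKA_algebraMap]
    exact hu (e i))
  have heq : ψ'.comp (algebraMap A (KA A (f ∘ e) (n ∘ e))) = ψ.comp (algebraMap A (KA A f n)) := by
    ext a
    show ψ (renameKA A e f n (algebraMap A _ a)) = _
    rw [renameKA_algebraMap]
    rfl
  rw [← heq]
  exact h1

theorem pEt_empty : PEt.{u} PEmpty := by
  intro A _ f n hn0 hnu C _ ψ hψ hu
  refine RingHom.Etale.stableUnderComposition _ _ (RingHom.Etale.of_bijective ?_) hψ
  have : (algebraMap A (KA A f n) : A → KA A f n) = (emptyKA A f n).symm := by
    ext a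
    rw [emptyKA_symm_apply]
  rw [this]
  exact (emptyKA A f n).symm.bijective

theorem pEt_option {σ : Type} (h : PEt.{u} σ) : PEt.{u} (Option σ) := by
  intro A _ f n hn0 hnu C _ ψ hψ hu
  let ψ₁ : KA (A1 A f n) (f1 A f n) (n1 n) →+* C := ψ.comp (optKA A f n).symm.toRingHom
  have hψ₁ : ψ₁.Etale := RingHom.Etale.stableUnderComposition _ _
    (RingHom.Etale.of_bijective (optKA A f n).symm.bijective) hψ
  have hψ₁a : ∀ b : A1 A f n, ψ₁ (algebraMap (A1 A f n) _ b) = ψ (optJ A f n b) := by
    intro b
    show ψ ((optKA A f n).symm (algebraMap (A1 A f n) _ b)) = _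
    rw [optKA_symm_algebraMap1]
  have hn1u : ∀ i, IsUnit ((n1 n i : ℕ) : A1 A f n) := by
    intro i
    have := (hnu (some i)).map (algebraMap A (A1 A f n))
    rwa [map_natCast] at this
  have h1 := h (A1 A f n) (f1 A f n) (n1 n) (fun i => hn0 (some i)) hn1u C ψ₁ hψ₁ (by
    intro i
    rw [hψ₁a, optJ_of]
    exact hu (some i))
  have hroot : IsUnit ((ψ₁.comp (algebraMap (A1 A f n) _)) (AdjoinRoot.root _)) := by
    rw [RingHom.comp_apply, hψ₁a, optJ_root]
    rw [← isUnit_pow_iff (hn0 none).ne', ← map_pow, mk_X_pow]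
    exact hu none
  have h2 := etale_comp_of (f none) (n none) (hn0 none) (hnu none) _ h1 hroot
  have heq : (ψ₁.comp (algebraMap (A1 A f n) _)).comp (AdjoinRoot.of _) =
      ψ.comp (algebraMap A (KA A f n)) := by
    ext a
    rw [RingHom.comp_apply, RingHom.comp_apply, hψ₁a, optJ_of]
    rfl
  rw [← heq]
  exact h2

theorem etale (σ : Type) [Finite σ] : PEt.{u} σ :=
  Finite.induction_empty_option (P := PEt.{u}) (fun e h => pEt_of_equiv e h) pEt_empty
    (fun h => pEt_option h) σ

end Et

section Main

variable (A : Type u) [CommRing A] [IsRegularLocalRing A] {σ : Type} [Fintype σ] (f : σ → A)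
  (hm : ∀ i, f i ∈ maximalIdeal A)
  (hf : LinearIndependent (ResidueField A) (fun i => (maximalIdeal A).toCotangent ⟨f i, hm i⟩))
  (n : σ → ℕ) (hn : ∀ i, 1 ≤ n i)

include hm hf hn in
theorem main_regular : IsRegularLocalRing (KA A f n) :=
  regular σ A f hm hf n hn

include hn in
theorem main_etale' (F : A) (hdvd : ∀ i, f i ∣ F) (hu : ∀ i, IsUnit ((n i : ℕ) : ResidueField A)) :
    letI := (Localization.awayMap (algebraMap A (KA A f n)) F).toAlgebra
    Algebra.Etale (Localization.Away F)
      (Localization.Away (algebraMap A (KA A f n) F)) := by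
  letI := (Localization.awayMap (algebraMap A (KA A f n)) F).toAlgebra
  have hnu : ∀ i, IsUnit ((n i : ℕ) : A) := by
    intro i
    have h := hu i
    rw [← map_natCast (residue A)] at h
    exact (isUnit_map_iff (residue A) _).1 h
  let ψ : KA A f n →+* Localization.Away (algebraMap A (KA A f n) F) := algebraMap _ _
  have hψ : ψ.Etale := by
    rw [RingHom.etale_algebraMap]
    exact Algebra.Etale.of_isLocalizationAway (algebraMap A (KA A f n) F)
  have hunit : ∀ i, IsUnit (ψ (algebraMap A _ (f i))) := by
    intro i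
    have hdvd' : ψ (algebraMap A _ (f i)) ∣ ψ (algebraMap A _ F) :=
      map_dvd ψ (map_dvd (algebraMap A (KA A f n)) (hdvd i))
    exact isUnit_of_dvd_unit hdvd' (IsLocalization.Away.algebraMap_isUnit _)
  have h1 := etale σ A f n (fun i => hn i) hnu _ ψ hψ hunit
  haveI : Algebra.Etale A (Localization.Away (algebraMap A (KA A f n) F)) := by
    have : ψ.comp (algebraMap A (KA A f n)) =
        algebraMap A (Localization.Away (algebraMap A (KA A f n) F)) :=
      (IsScalarTower.algebraMap_eq A (KA A f n) _).symm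
    rw [this, RingHom.etale_algebraMap] at h1
    exact h1
  haveI : IsScalarTower A (Localization.Away F)
      (Localization.Away (algebraMap A (KA A f n) F)) :=
    IsScalarTower.of_algebraMap_eq (fun a => by
      show _ = Localization.awayMap (algebraMap A (KA A f n)) F (algebraMap A _ a)
      rw [Localization.awayMap, IsLocalization.Away.map, IsLocalization.map_eq]
      exact IsScalarTower.algebraMap_apply A (KA A f n) _ a)
  haveI : Algebra.Etale A (Localization.Away F) := Algebra.Etale.of_isLocalizationAway F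
  exact Algebra.Etale.of_restrictScalars A (Localization.Away F) _

include hn in
theorem main_etale (hu : ∀ i, IsUnit ((n i : ℕ) : ResidueField A)) :
    letI := (Localization.awayMap (algebraMap A (KA A f n)) (∏ i, f i)).toAlgebra
    Algebra.Etale (Localization.Away (∏ i, f i))
      (Localization.Away (algebraMap A (KA A f n) (∏ i, f i))) :=
  main_etale' A f n hn (∏ i, f i) (fun i => Finset.dvd_prod_of_mem f (Finset.mem_univ i)) hu

end Main

end Groth.Agent.Helper7.KAlg
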