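import Mathlib
import Groth.Prelude.Def_Disc
import Groth.Agent.Helper7.OpenImm
import Groth.Agent.Helper7.Fitt5

/-!
# Noether different versus Kähler different: localization and gluing (helper7)
-/

set_option autoImplicit false

namespace Groth.Agent.Helper7.KDiff

universe u
open TensorProduct

/-- the Noether different localizes -/
theorem noetherDifferent_isLocalization {A B' B : Type u} [CommRing A] [CommRing B'] [CommRing B]
    [Algebra A B'] [Algebra A B] [Algebra B' B] [IsScalarTower A B' B] [Algebra.FiniteType A B']
    (M : Submonoid B') [IsLocalization M B] :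
    Disc.noetherDifferent A B = (Disc.noetherDifferent A B').map (algebraMap B' B) := by
  haveI : Module.Flat B' B := IsLocalization.flat B M
  exact Groth.Agent.Helper7.OpenImm.noetherDifferent_of_flat_epi
    (fun f g hfg => IsLocalization.ringHom_ext M (RingHom.ext hfg))

/-- the Kähler different localizes -/
theorem fitt_kaehler_isLocalization {A B' B : Type u} [CommRing A] [CommRing B'] [CommRing B]
    [Algebra A B'] [Algebra A B] [Algebra B' B] [IsScalarTower A B' B] [Algebra.FiniteType A B']
    (M : Submonoid B') [IsLocalization M B] (k : ℕ) :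
    Fitt.ideal B Ω[B⁄A] k = (Fitt.ideal B' Ω[B'⁄A] k).map (algebraMap B' B) := by
  haveI := Algebra.FormallyEtale.of_isLocalization (Rₘ := B) M
  exact Groth.Agent.Helper7.FittLib.fitt_isBaseChange B (KaehlerDifferential.map A A B' B)
    (KaehlerDifferential.isBaseChange_of_formallyEtale A B' B) k

/-- gluing ideals along basic opens -/
theorem ideal_eq_of_locally {B : Type u} [CommRing B] (I J : Ideal B)
    (h : ∀ q : Ideal B, q.IsPrime → ∃ g : B, g ∉ q ∧
      I.map (algebraMap B (Localization.Away g)) = J.map (algebraMap B (Localization.Away g))) :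
    I = J := by
  have key : ∀ I J : Ideal B, (∀ q : Ideal B, q.IsPrime → ∃ g : B, g ∉ q ∧
      I.map (algebraMap B (Localization.Away g)) = J.map (algebraMap B (Localization.Away g))) →
      I ≤ J := by
    intro I J h x hx
    by_contra hxJ
    -- the colon ideal
    let C : Ideal B := J.colon (Ideal.span {x})
    have hC : C ≠ ⊤ := by
      intro hC
      apply hxJ
      have h1 : (1 : B) ∈ C := hC ▸ Submodule.mem_top
      have h2 := Submodule.mem_colon.mp h1 x (Ideal.mem_span_singleton_self x)
      simpa using h2
    obtain ⟨m, hm, hCm⟩ := Ideal.exists_le_maximal C hC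
    obtain ⟨g, hg, hgIJ⟩ := h m hm.isPrime
    have h3 : algebraMap B (Localization.Away g) x ∈ J.map (algebraMap B (Localization.Away g)) := by
      rw [← hgIJ]
      exact Ideal.mem_map_of_mem _ hx
    rw [IsLocalization.mem_map_algebraMap_iff (Submonoid.powers g)] at h3
    obtain ⟨⟨j, s⟩, hjs⟩ := h3
    rw [← map_mul, IsLocalization.eq_iff_exists (Submonoid.powers g)] at hjs
    obtain ⟨c, hc⟩ := hjs
    have h4 : (c : B) * (s : B) ∈ C := by
      rw [Submodule.mem_colon]
      intro y hy
      obtain ⟨z, rfl⟩ := Ideal.mem_span_singleton'.mp hy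
      have : (c : B) * (s : B) * x ∈ J := by
        have h5 : (c : B) * (x * s) ∈ J := by
          rw [hc]
          exact J.mul_mem_left _ j.2
        have h6 : (c : B) * (s : B) * x = (c : B) * (x * s) := by ring
        rw [h6]
        exact h5
      rw [smul_eq_mul]
      have h7 : (c : B) * (s : B) * (z * x) = z * ((c : B) * (s : B) * x) := by ring
      rw [h7]
      exact J.mul_mem_left _ this
    have h8 : (c : B) * (s : B) ∈ m := hCm h4
    have h9 : ((c * s : Submonoid.powers g) : B) ∈ m := h8
    obtain ⟨k, hk⟩ := (c * s).2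
    rw [← hk] at h9
    exact hg (hm.isPrime.mem_of_pow_mem k h9)
  exact le_antisymm (key I J h) (key J I fun q hq => by
    obtain ⟨g, hg, hgIJ⟩ := h q hq
    exact ⟨g, hg, hgIJ.symm⟩)

end Groth.Agent.Helper7.KDiff
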