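import Groth.Agent.Helper7.WiebeG
import Groth.Agent.Helper3.GorFib
import Groth.Agent.Helper3.KzLoc
import Groth.Agent.S2217
import Groth.Agent.Helper7.SegGorD

/-!
# `ω_{B/A}` is invertible for a finite free `A[x_1..x_n]/(f_1..f_n)` (helper7)
-/

set_option autoImplicit false

namespace Groth.Agent.Helper7.Wiebe

universe u
open TensorProduct MvPolynomial

/-- a quotient of a polynomial ring by a Koszul-regular sequence is lci -/
theorem isLCI_of_kreg {A : Type u} [CommRing A] {n : ℕ} (f : Fin n → MvPolynomial (Fin n) A)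
    (hf : LCI.IsKoszulRegularSeq (MvPolynomial (Fin n) A) (List.ofFn f)) :
    LCI.IsLCI A (MvPolynomial (Fin n) A ⧸ Ideal.span (Set.range f)) := by
  have hsurj : Function.Surjective (Ideal.Quotient.mkₐ A (Ideal.span (Set.range f))) :=
    Ideal.Quotient.mkₐ_surjective A _
  refine ⟨Algebra.FiniteType.of_surjective _ hsurj, n,
    Ideal.Quotient.mkₐ A (Ideal.span (Set.range f)), hsurj, ?_⟩
  have hker : RingHom.ker (Ideal.Quotient.mkₐ A (Ideal.span (Set.range f))).toRingHom =
      Ideal.span (Set.range f) := by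
    ext x
    rw [RingHom.mem_ker]
    show Ideal.Quotient.mkₐ A (Ideal.span (Set.range f)) x = 0 ↔ _
    rw [Ideal.Quotient.mkₐ_eq_mk, Ideal.Quotient.eq_zero_iff_mem]
  rw [hker, Groth.Agent.Helper3.KzLoc.isKoszulRegularIdeal_iff]
  intro p _
  haveI : IsLocalization.Away (1 : MvPolynomial (Fin n) A) (MvPolynomial (Fin n) A) :=
    IsLocalization.away_of_isUnit_of_bijective _ isUnit_one Function.bijective_id
  refine Groth.Agent.Helper3.KzLoc.locKReg_of_isLocalization _ p.asIdeal 1
    (fun h => p.isPrime.ne_top ((Ideal.eq_top_iff_one _).2 h))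
    (MvPolynomial (Fin n) A) (List.ofFn f) hf ?_
  rw [Algebra.algebraMap_self, Ideal.map_id]
  congr 1
  ext x
  simp [List.mem_ofFn]

/-- `ω_{B/A}` is invertible for a finite free `B = A[x_1..x_n]/(f_1..f_n)` -/
theorem omega_invertible {A : Type u} [CommRing A] [IsNoetherianRing A] {n : ℕ}
    (f : Fin n → MvPolynomial (Fin n) A)
    (hf : LCI.IsKoszulRegularSeq (MvPolynomial (Fin n) A) (List.ofFn f))
    [Module.Finite A (MvPolynomial (Fin n) A ⧸ Ideal.span (Set.range f))]
    [Module.Free A (MvPolynomial (Fin n) A ⧸ Ideal.span (Set.range f))] :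
    Module.Invertible (MvPolynomial (Fin n) A ⧸ Ideal.span (Set.range f))
      (Disc.Omega A (MvPolynomial (Fin n) A ⧸ Ideal.span (Set.range f))) := by
  rw [← Groth.Agent.S2217.result]
  intro p _
  haveI := Groth.Agent.Helper3.GorFib.gorenstein_of_field p.ResidueField
  haveI := Groth.Agent.Helper3.GorFib.gorenstein_tensor_of_flat_isLCI A
    (MvPolynomial (Fin n) A ⧸ Ideal.span (Set.range f)) p.ResidueField (isLCI_of_kreg f hf)
  have h : LocCoh.IsGorensteinRing
      (p.ResidueField ⊗[A] (MvPolynomial (Fin n) A ⧸ Ideal.span (Set.range f))) :=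
    Groth.Agent.Helper7.SegGor.gorenstein_of_ringEquiv
      (S := (MvPolynomial (Fin n) A ⧸ Ideal.span (Set.range f)) ⊗[A] p.ResidueField)
      (Algebra.TensorProduct.comm A (MvPolynomial (Fin n) A ⧸ Ideal.span (Set.range f))
        p.ResidueField).toRingEquiv
  exact h

/-- **S8969** -/
theorem exists_linearEquiv_omega {A : Type u} [CommRing A] [IsNoetherianRing A] {n : ℕ}
    (f : Fin n → MvPolynomial (Fin n) A)
    [Module.Finite A (MvPolynomial (Fin n) A ⧸ Ideal.span (Set.range f))]
    [Module.Free A (MvPolynomial (Fin n) A ⧸ Ideal.span (Set.range f))] :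
    ∃ e : (MvPolynomial (Fin n) A ⧸ Ideal.span (Set.range f)) ≃ₗ[MvPolynomial (Fin n) A ⧸
        Ideal.span (Set.range f)] Disc.Omega A (MvPolynomial (Fin n) A ⧸ Ideal.span (Set.range f)),
      e (Ideal.Quotient.mk (Ideal.span (Set.range f))
        (Matrix.det (Matrix.of fun i j : Fin n => MvPolynomial.pderiv j (f i)))) =
        Disc.Omega.trace A (MvPolynomial (Fin n) A ⧸ Ideal.span (Set.range f)) := by
  have hrel := isRelGCI_of_quasiFinite f
  have hk := Groth.Agent.S9254.result A n n f hrel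
  haveI := omega_invertible f hk
  obtain ⟨ξ, hξ, hμ⟩ := exists_annihilator_generator f hk
  obtain ⟨e, he⟩ := exists_equiv_of_generator ξ hξ
  exact ⟨e, hμ ▸ he⟩

end Groth.Agent.Helper7.Wiebe
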