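import Groth.Agent.Helper7.KDiffA
import Groth.Agent.Helper7.WiebeH
import Groth.Agent.Helper7.FittJac
import Groth.Agent.Helper5.LST8
import Groth.Agent.Helper3.QFSynt1
import Groth.Agent.S2221

/-!
# Noether different = Kähler different for quasi-finite syntomic algebras (helper7)
-/

set_option autoImplicit false

namespace Groth.Agent.Helper7.KDiff

universe u
open TensorProduct MvPolynomial

/-- relative global complete intersection with `n` equations in `n` variables -/
theorem relGCI_square (A : Type u) [CommRing A] (n : ℕ) (F : Fin n → MvPolynomial (Fin n) A)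
    (hF : Synt.IsRelGCI A n n F) :
    Disc.noetherDifferent A (Synt.RelGCIRing A n n F) =
      Fitt.ideal (Synt.RelGCIRing A n n F) Ω[Synt.RelGCIRing A n n F⁄A] 0 := by
  have hsynt := Groth.Agent.S9147.result A n n F hF
  haveI : Module.Flat A (MvPolynomial (Fin n) A ⧸ Ideal.span (Set.range F)) := hsynt.1
  have hk := Groth.Agent.S9254.result A n n F hF
  rw [Groth.Agent.Helper7.Wiebe.noetherDifferent_eq_span_jacobian F hk,
    Groth.Agent.Helper7.FittLib.fitt_kaehler_jacobian]

/-- quasi-finite relative global complete intersections -/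
theorem relGCI_quasiFinite (A : Type u) [CommRing A] (n c : ℕ)
    (F : Fin c → MvPolynomial (Fin n) A) (hF : Synt.IsRelGCI A n c F)
    [Algebra.QuasiFinite A (Synt.RelGCIRing A n c F)] :
    Disc.noetherDifferent A (Synt.RelGCIRing A n c F) =
      Fitt.ideal (Synt.RelGCIRing A n c F) Ω[Synt.RelGCIRing A n c F⁄A] 0 := by
  by_cases hC : Subsingleton (Synt.RelGCIRing A n c F)
  · ext x
    rw [Subsingleton.elim x 0]
    simp
  · rw [not_subsingleton_iff_nontrivial] at hC
    obtain ⟨P, hP⟩ := Ideal.exists_maximal (Synt.RelGCIRing A n c F)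
    let p : PrimeSpectrum A :=
      PrimeSpectrum.comap (algebraMap A (Synt.RelGCIRing A n c F)) ⟨P, hP.isPrime⟩
    have hnt : Nontrivial (p.asIdeal.Fiber (Synt.RelGCIRing A n c F)) :=
      (PrimeSpectrum.nontrivial_iff_mem_rangeComap p).mpr ⟨_, rfl⟩
    obtain ⟨hcn, hdim⟩ := hF p hnt
    have h0 : ringKrullDim (p.asIdeal.Fiber (Synt.RelGCIRing A n c F)) = 0 := by
      haveI : IsArtinianRing (p.asIdeal.Fiber (Synt.RelGCIRing A n c F)) := inferInstance
      have hk : Ring.KrullDimLE 0 (p.asIdeal.Fiber (Synt.RelGCIRing A n c F)) :=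
        ((isArtinianRing_iff_isNoetherianRing_krullDimLE_zero
          (R := p.asIdeal.Fiber (Synt.RelGCIRing A n c F))).mp inferInstance).2
      exact ringKrullDimZero_iff_ringKrullDim_eq_zero.mp hk
    have hnc : n = c := by
      rw [h0] at hdim
      have h1 : ((n - c : ℕ) : WithBot ℕ∞) = 0 := hdim.symm
      have h2 : n - c = 0 := by exact_mod_cast h1
      omega
    subst hnc
    exact relGCI_square A n F hF

/-- transfer along an algebra isomorphism -/
theorem good_of_algEquiv {A B₁ B₂ : Type u} [CommRing A] [CommRing B₁] [CommRing B₂]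
    [Algebra A B₁] [Algebra A B₂] [Algebra.FiniteType A B₁] (e : B₁ ≃ₐ[A] B₂)
    (h : Disc.noetherDifferent A B₁ = Fitt.ideal B₁ Ω[B₁⁄A] 0) :
    Disc.noetherDifferent A B₂ = Fitt.ideal B₂ Ω[B₂⁄A] 0 := by
  letI : Algebra B₁ B₂ := (e : B₁ →+* B₂).toAlgebra
  haveI : IsScalarTower A B₁ B₂ :=
    IsScalarTower.of_algebraMap_eq (fun a => (e.commutes a).symm)
  haveI : IsLocalization.Away (1 : B₁) B₂ :=
    IsLocalization.away_of_isUnit_of_bijective _ isUnit_one e.bijective
  rw [noetherDifferent_isLocalization (A := A) (B' := B₁) (Submonoid.powers (1 : B₁)),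
    fitt_kaehler_isLocalization (A := A) (B' := B₁) (Submonoid.powers (1 : B₁)), h]

/-- **Noether different = Kähler different** for quasi-finite syntomic algebras -/
theorem noetherDifferent_eq_fitt {A B : Type u} [CommRing A] [CommRing B] [Algebra A B]
    [Algebra.QuasiFinite A B] (h : Synt.IsSyntomic A B) :
    Disc.noetherDifferent A B = Fitt.ideal B Ω[B⁄A] 0 := by
  haveI : Algebra.FinitePresentation A B := h.2.1
  haveI : Algebra.FiniteType A B := inferInstance
  apply ideal_eq_of_locally
  intro q hq
  obtain ⟨g, hg, n, c, F, hF, ⟨ε⟩⟩ := Groth.Agent.Helper5.LST.lst A B h q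
  refine ⟨g, hg, ?_⟩
  rw [← noetherDifferent_isLocalization (A := A) (Submonoid.powers g),
    ← fitt_kaehler_isLocalization (A := A) (Submonoid.powers g)]
  haveI : Algebra.QuasiFinite A (Synt.RelGCIRing A n c F) :=
    (Algebra.QuasiFinite.iff_of_algEquiv ε).mp inferInstance
  have hC := relGCI_quasiFinite A n c F hF
  haveI : Algebra.FiniteType A (Synt.RelGCIRing A n c F) :=
    Algebra.FiniteType.of_surjective (Ideal.Quotient.mkₐ A _) (Ideal.Quotient.mkₐ_surjective A _)
  exact good_of_algEquiv ε.symm hC

/-- **S8957** -/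
theorem differentSet_eq_fitt (A B : Type u) [CommRing A] [CommRing B] [Algebra A B]
    [IsNoetherianRing A] [Module.Finite A B] [Module.Free A B] (h : Synt.IsSyntomic A B) :
    Disc.differentSet A B = (Fitt.ideal B (KaehlerDifferential A B) 0 : Set B) := by
  haveI : Module.Invertible B (Disc.Omega A B) := by
    rw [← Groth.Agent.S2217.result]
    intro p _
    have hl := h.2.2 ⟨p, inferInstance⟩
    haveI := hl.1
    haveI : IsNoetherianRing (p.Fiber B) :=
      Algebra.FiniteType.isNoetherianRing p.ResidueField (p.Fiber B)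
    exact { isGorensteinLocalRing_localization := fun P _ =>
      Groth.Agent.Helper3.QFSynt.gorLocal_of_isLCIOver _ _ hl P }
  rw [Groth.Agent.S2221.result, noetherDifferent_eq_fitt h]

end Groth.Agent.Helper7.KDiff
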