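import Mathlib
import Groth.Prelude.Def_KGr
import Groth.Agent.Helper4.AdamsGamma2

/-! # Structure of the Rees ring of the γ-filtration (coefficient conditions) -/

set_option autoImplicit false
universe v

open scoped TensorProduct
open LaurentPolynomial LambdaRing

namespace Groth.Agent.Helper7.KGrS

open Groth.Agent.Helper4.AdamsGamma

variable {K : Type v} [CommRing K] [LambdaOps K] (P : PosStructure K)

/-- filtration index attached to an exponent: `F^{max(-m,0)}` -/
def lvl (m : ℤ) : ℕ := (-m).toNat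

lemma lvl_add_le (a b : ℤ) : lvl (a + b) ≤ lvl a + lvl b := by
  unfold lvl; omega

lemma lvl_neg_natCast (n : ℕ) : lvl (-(n : ℤ)) = n := by
  unfold lvl; omega

omit [LambdaOps K] in
lemma coeff_C_mul_T (x : K) (m n : ℤ) :
    (C x * T m : LaurentPolynomial K).coeff n = if m = n then x else 0 := by
  rw [← LaurentPolynomial.single_eq_C_mul_T]
  rw [AddMonoidAlgebra.coeff_single, Finsupp.single_apply]

omit [LambdaOps K] in
lemma coeff_mul_T (p : LaurentPolynomial K) (m n : ℤ) :
    (p * T m).coeff n = p.coeff (n - m) := by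
  rw [T, AddMonoidAlgebra.coeff_mul_single_apply, mul_one, sub_eq_add_neg]

/-- the monomials allowed in the Rees ring -/
def monos : Submonoid (LaurentPolynomial K) where
  carrier := {p | ∃ (m : ℤ) (x : K), x ∈ gammaFiltration P (lvl m) ∧ p = C x * T m}
  one_mem' := ⟨0, 1, by rw [show lvl 0 = 0 from rfl, filt_zero]; trivial, by simp⟩
  mul_mem' := by
    rintro _ _ ⟨m, x, hx, rfl⟩ ⟨m', y, hy, rfl⟩
    refine ⟨m + m', x * y, filt_anti P (lvl_add_le m m') (mul_mem' P hx hy), ?_⟩
    rw [map_mul, T_add]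
    ring

lemma reesGens_le_monos : KGr.reesGens P ⊆ (monos P : Set (LaurentPolynomial K)) := by
  rintro p (rfl | ⟨n, x, hx, rfl⟩)
  · refine ⟨1, 1, ?_, by simp⟩
    rw [show lvl 1 = 0 from rfl, filt_zero]; trivial
  · exact ⟨-(n : ℤ), x, by rwa [lvl_neg_natCast], rfl⟩

/-- coefficients of elements of the Rees ring lie in the filtration -/
theorem coeff_mem_of_mem_rees {p : LaurentPolynomial K} (hp : p ∈ KGr.rees P) (m : ℤ) :
    p.coeff m ∈ gammaFiltration P (lvl m) := by
  unfold KGr.rees at hp
  rw [Subring.mem_closure_iff] at hp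
  induction hp using AddSubgroup.closure_induction with
  | mem y hy =>
    have : y ∈ monos P := (Submonoid.closure_le.mpr (reesGens_le_monos P)) hy
    obtain ⟨m', x, hx, rfl⟩ := this
    rw [coeff_C_mul_T]
    split_ifs with h
    · subst h; exact hx
    · exact zero_mem _
  | zero => simp
  | add a b _ _ ha hb =>
    rw [AddMonoidAlgebra.coeff_add, Finsupp.add_apply]; exact add_mem ha hb
  | neg a _ ha =>
    rw [AddMonoidAlgebra.coeff_neg, Finsupp.neg_apply]; exact neg_mem ha

theorem mono_mem_rees (n : ℕ) (x : K) (hx : x ∈ gammaFiltration P n) :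
    C x * T (-(n : ℤ)) ∈ KGr.rees P :=
  Subring.subset_closure (Set.mem_insert_of_mem _ ⟨n, x, hx, rfl⟩)

end Groth.Agent.Helper7.KGrS
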