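import Mathlib
import Groth.Agent.Helper7.KGrA

/-! # Classes in `ℚGr K` -/

set_option autoImplicit false
universe v

open scoped TensorProduct
open LaurentPolynomial LambdaRing

namespace Groth.Agent.Helper7.KGrS

open Groth.Agent.Helper4.AdamsGamma

variable {K : Type v} [CommRing K] [LambdaOps K] (P : PosStructure K)

/-- the class of `x t^{-n}` in `GrZ`, additive in `x ∈ F^n` -/
noncomputable def clsHom (n : ℕ) : gammaFiltration P n →+ KGr.GrZ P where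
  toFun x := Ideal.Quotient.mk _ ⟨C (x : K) * T (-(n : ℤ)), mono_mem_rees P n x x.2⟩
  map_zero' := by
    rw [← map_zero (Ideal.Quotient.mk (Ideal.span {KGr.tGen P}))]
    congr 1
    apply Subtype.ext
    simp
  map_add' x y := by
    rw [← map_add (Ideal.Quotient.mk (Ideal.span {KGr.tGen P}))]
    congr 1
    apply Subtype.ext
    simp [add_mul]

lemma clsHom_apply (n : ℕ) (x : K) (hx : x ∈ gammaFiltration P n) :
    clsHom P n ⟨x, hx⟩ =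
      Ideal.Quotient.mk _ ⟨C (x : K) * T (-(n : ℤ)), mono_mem_rees P n x hx⟩ := rfl

lemma clsHom_mul (m n : ℕ) (x y : K) (hx : x ∈ gammaFiltration P m)
    (hy : y ∈ gammaFiltration P n) :
    clsHom P m ⟨x, hx⟩ * clsHom P n ⟨y, hy⟩ = clsHom P (m + n) ⟨x * y, mul_mem' P hx hy⟩ := by
  rw [clsHom_apply, clsHom_apply, clsHom_apply, ← map_mul]
  congr 1
  apply Subtype.ext
  show C x * T (-(m : ℤ)) * (C y * T (-(n : ℤ))) = C (x * y) * T (-((m + n : ℕ) : ℤ))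
  rw [map_mul, Nat.cast_add, neg_add, T_add]
  ring

lemma clsHom_one : clsHom P 0 ⟨1, by rw [filt_zero]; trivial⟩ = 1 := by
  rw [clsHom_apply, ← map_one (Ideal.Quotient.mk (Ideal.span {KGr.tGen P}))]
  congr 1
  apply Subtype.ext
  simp

/-- elements of `F^{n+1}` have zero class in degree `n` -/
lemma clsHom_eq_zero (n : ℕ) (x : K) (hx : x ∈ gammaFiltration P (n + 1)) :
    clsHom P n ⟨x, filt_anti P (Nat.le_succ n) hx⟩ = 0 := by
  rw [clsHom_apply, Ideal.Quotient.eq_zero_iff_mem, Ideal.mem_span_singleton']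
  refine ⟨⟨C x * T (-((n + 1 : ℕ) : ℤ)), mono_mem_rees P (n + 1) x hx⟩, ?_⟩
  apply Subtype.ext
  show C x * T (-((n + 1 : ℕ) : ℤ)) * T 1 = C x * T (-(n : ℤ))
  rw [mul_assoc, ← T_add]
  congr 2
  push_cast
  ring

/-- the saturated filtration `ℚF^n ∩ K` -/
def QFil (n : ℕ) : AddSubgroup K where
  carrier := {x | ∃ N : ℕ, 1 ≤ N ∧ (N : K) * x ∈ gammaFiltration P n}
  zero_mem' := ⟨1, le_refl _, by simp⟩
  add_mem' := by
    rintro x y ⟨N, hN, hx⟩ ⟨M, hM, hy⟩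
    refine ⟨N * M, Nat.mul_pos hN hM, ?_⟩
    have : ((N * M : ℕ) : K) * (x + y) = (M : K) * ((N : K) * x) + (N : K) * ((M : K) * y) := by
      push_cast; ring
    rw [this]
    exact add_mem (ideal_mem P _ _ _ hx) (ideal_mem P _ _ _ hy)
  neg_mem' := by
    rintro x ⟨N, hN, hx⟩
    exact ⟨N, hN, by rw [mul_neg]; exact neg_mem hx⟩

lemma mem_QFil {n : ℕ} {x : K} :
    x ∈ QFil P n ↔ ∃ N : ℕ, 1 ≤ N ∧ (N : K) * x ∈ gammaFiltration P n := Iff.rfl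

lemma mem_QFil_of_mem {n : ℕ} {x : K} (hx : x ∈ gammaFiltration P n) : x ∈ QFil P n :=
  ⟨1, le_refl _, by simpa using hx⟩

lemma QFil_anti {a b : ℕ} (h : a ≤ b) : QFil P b ≤ QFil P a := by
  rintro x ⟨N, hN, hx⟩
  exact ⟨N, hN, filt_anti P h hx⟩

lemma QFil_mul {m n : ℕ} {x y : K} (hx : x ∈ QFil P m) (hy : y ∈ QFil P n) :
    x * y ∈ QFil P (m + n) := by
  obtain ⟨N, hN, hx⟩ := hx
  obtain ⟨M, hM, hy⟩ := hy
  refine ⟨N * M, Nat.mul_pos hN hM, ?_⟩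
  have : ((N * M : ℕ) : K) * (x * y) = ((N : K) * x) * ((M : K) * y) := by push_cast; ring
  rw [this]
  exact mul_mem' P hx hy

lemma QFil_ideal {n : ℕ} (a : K) {x : K} (hx : x ∈ QFil P n) : a * x ∈ QFil P n := by
  obtain ⟨N, hN, hx⟩ := hx
  refine ⟨N, hN, ?_⟩
  have : (N : K) * (a * x) = a * ((N : K) * x) := by ring
  rw [this]
  exact ideal_mem P _ _ _ hx

/-- formula for `grK` given any admissible denominator -/
theorem grK_eq (n : ℕ) (N : ℕ) (hN : 1 ≤ N) (x : K) (h : (N : K) * x ∈ gammaFiltration P n) :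
    KGr.grK P (n : ℤ) x = ((1 : ℚ) / (N : ℚ)) ⊗ₜ[ℤ] clsHom P n ⟨(N : K) * x, h⟩ := by
  have h0 : ∃ N : ℕ, 1 ≤ N ∧ C ((N : K) * x) * T (-(n : ℤ)) ∈ KGr.rees P :=
    ⟨N, hN, mono_mem_rees P n _ h⟩
  unfold KGr.grK
  rw [dif_pos h0]
  set N' := h0.choose with hN'def
  have hN'1 : 1 ≤ N' := h0.choose_spec.1
  have hN'2 : C ((N' : K) * x) * T (-(n : ℤ)) ∈ KGr.rees P := h0.choose_spec.2
  have hmem : (N' : K) * x ∈ gammaFiltration P n := by
    have := coeff_mem_of_mem_rees P hN'2 (-(n : ℤ))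
    rwa [coeff_C_mul_T, if_pos rfl, lvl_neg_natCast] at this
  have e1 : (Ideal.Quotient.mk (Ideal.span {KGr.tGen P})
      ⟨C ((N' : K) * x) * T (-(n : ℤ)), hN'2⟩ : KGr.GrZ P) = clsHom P n ⟨(N' : K) * x, hmem⟩ := rfl
  rw [e1]
  have e2 : (N : ℤ) • clsHom P n ⟨(N' : K) * x, hmem⟩ =
      (N' : ℤ) • clsHom P n ⟨(N : K) * x, h⟩ := by
    rw [← map_zsmul, ← map_zsmul]
    congr 1
    apply Subtype.ext
    simp only [AddSubgroup.coe_zsmul, zsmul_eq_mul, Int.cast_natCast]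
    ring
  have hNq : (N : ℚ) ≠ 0 := by positivity
  have hN'q : (N' : ℚ) ≠ 0 := by
    have : 0 < N' := hN'1
    positivity
  calc ((1 : ℚ) / (N' : ℚ)) ⊗ₜ[ℤ] clsHom P n ⟨(N' : K) * x, hmem⟩
      = ((N : ℤ) • ((1 : ℚ) / ((N : ℚ) * (N' : ℚ)))) ⊗ₜ[ℤ] clsHom P n ⟨(N' : K) * x, hmem⟩ := by
        congr 1
        rw [zsmul_eq_mul]
        push_cast
        field_simp
    _ = ((1 : ℚ) / ((N : ℚ) * (N' : ℚ))) ⊗ₜ[ℤ] ((N : ℤ) • clsHom P n ⟨(N' : K) * x, hmem⟩) := by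
        rw [TensorProduct.smul_tmul]
    _ = ((1 : ℚ) / ((N : ℚ) * (N' : ℚ))) ⊗ₜ[ℤ] ((N' : ℤ) • clsHom P n ⟨(N : K) * x, h⟩) := by
        rw [e2]
    _ = ((N' : ℤ) • ((1 : ℚ) / ((N : ℚ) * (N' : ℚ)))) ⊗ₜ[ℤ] clsHom P n ⟨(N : K) * x, h⟩ := by
        rw [TensorProduct.smul_tmul]
    _ = ((1 : ℚ) / (N : ℚ)) ⊗ₜ[ℤ] clsHom P n ⟨(N : K) * x, h⟩ := by
        congr 1
        rw [zsmul_eq_mul]
        push_cast
        field_simp

end Groth.Agent.Helper7.KGrS
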