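import Mathlib
import Groth.Agent.Helper7.KGrB

/-! # Algebraic properties of `grK` and the component maps -/

set_option autoImplicit false
universe v

open scoped TensorProduct
open LaurentPolynomial LambdaRing

namespace Groth.Agent.Helper7.KGrS

open Groth.Agent.Helper4.AdamsGamma

variable {K : Type v} [CommRing K] [LambdaOps K] (P : PosStructure K)

theorem tors_of_tmul_eq_zero {A : Type*} [AddCommGroup A] (q : ℚ) (hq : q ≠ 0) (a : A)
    (h : q ⊗ₜ[ℤ] a = (0 : ℚ ⊗[ℤ] A)) : ∃ M : ℕ, 1 ≤ M ∧ M • a = 0 := by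
  have h1 : (1 : ℚ) ⊗ₜ[ℤ] a = (0 : ℚ ⊗[ℤ] A) := by
    have : (1 : ℚ) ⊗ₜ[ℤ] a = q⁻¹ • (q ⊗ₜ[ℤ] a) := by
      rw [TensorProduct.smul_tmul', smul_eq_mul, inv_mul_cancel₀ hq]
    rw [this, h, smul_zero]
  have : IsLocalizedModule (nonZeroDivisors ℤ) (TensorProduct.mk ℤ ℚ A 1) :=
    (isLocalizedModule_iff_isBaseChange (nonZeroDivisors ℤ) ℚ _).mpr (TensorProduct.isBaseChange ℤ A ℚ)
  have h2 := (IsLocalizedModule.eq_zero_iff (nonZeroDivisors ℤ) (TensorProduct.mk ℤ ℚ A 1) (m := a)).mp h1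
  obtain ⟨c, hc⟩ := h2
  have hc0 : (c : ℤ) ≠ 0 := nonZeroDivisors.coe_ne_zero c
  refine ⟨(c : ℤ).natAbs, Int.natAbs_pos.mpr hc0, ?_⟩
  have hc' : (c : ℤ) • a = 0 := hc
  rcases Int.natAbs_eq (c : ℤ) with h3 | h3
  · rw [h3] at hc'
    rwa [natCast_zsmul] at hc'
  · rw [h3, neg_smul, neg_eq_zero] at hc'
    rwa [natCast_zsmul] at hc'

/-- `grK` with a common denominator -/
lemma grK_eq' (n : ℕ) {x : K} (hx : x ∈ QFil P n) (M : ℕ) (hM : 1 ≤ M) :
    ∃ (N : ℕ) (hN : 1 ≤ N) (h : ((N * M : ℕ) : K) * x ∈ gammaFiltration P n),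
      KGr.grK P (n : ℤ) x = ((1 : ℚ) / ((N * M : ℕ) : ℚ)) ⊗ₜ[ℤ] clsHom P n ⟨((N * M : ℕ) : K) * x, h⟩ := by
  obtain ⟨N, hN, h⟩ := hx
  have h' : ((N * M : ℕ) : K) * x ∈ gammaFiltration P n := by
    have : ((N * M : ℕ) : K) * x = (M : K) * ((N : K) * x) := by push_cast; ring
    rw [this]; exact ideal_mem P _ _ _ h
  exact ⟨N, hN, h', grK_eq P n (N * M) (Nat.mul_pos hN hM) x h'⟩

theorem grK_add (n : ℕ) {x y : K} (hx : x ∈ QFil P n) (hy : y ∈ QFil P n) :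
    KGr.grK P (n : ℤ) (x + y) = KGr.grK P (n : ℤ) x + KGr.grK P (n : ℤ) y := by
  obtain ⟨N, hN, hx⟩ := hx
  obtain ⟨M, hM, hy⟩ := hy
  have hNM : 1 ≤ N * M := Nat.mul_pos hN hM
  have hx' : ((N * M : ℕ) : K) * x ∈ gammaFiltration P n := by
    have : ((N * M : ℕ) : K) * x = (M : K) * ((N : K) * x) := by push_cast; ring
    rw [this]; exact ideal_mem P _ _ _ hx
  have hy' : ((N * M : ℕ) : K) * y ∈ gammaFiltration P n := by
    have : ((N * M : ℕ) : K) * y = (N : K) * ((M : K) * y) := by push_cast; ring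
    rw [this]; exact ideal_mem P _ _ _ hy
  have hxy' : ((N * M : ℕ) : K) * (x + y) ∈ gammaFiltration P n := by
    rw [mul_add]; exact add_mem hx' hy'
  rw [grK_eq P n (N * M) hNM x hx', grK_eq P n (N * M) hNM y hy',
    grK_eq P n (N * M) hNM (x + y) hxy', ← TensorProduct.tmul_add, ← map_add]
  congr 2
  apply Subtype.ext
  simp [mul_add]

theorem grK_zero (n : ℕ) : KGr.grK P (n : ℤ) (0 : K) = 0 := by
  have h : ((1 : ℕ) : K) * (0 : K) ∈ gammaFiltration P n := by simp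
  rw [grK_eq P n 1 (le_refl _) 0 h]
  have : (⟨((1 : ℕ) : K) * (0 : K), h⟩ : gammaFiltration P n) = 0 := by
    apply Subtype.ext; simp
  rw [this, map_zero, TensorProduct.tmul_zero]

theorem grK_neg (n : ℕ) {x : K} (hx : x ∈ QFil P n) :
    KGr.grK P (n : ℤ) (-x) = - KGr.grK P (n : ℤ) x := by
  have h := grK_add P n hx (neg_mem hx)
  rw [add_neg_cancel, grK_zero] at h
  exact (neg_eq_of_add_eq_zero_right h.symm).symm

theorem grK_sub (n : ℕ) {x y : K} (hx : x ∈ QFil P n) (hy : y ∈ QFil P n) :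
    KGr.grK P (n : ℤ) (x - y) = KGr.grK P (n : ℤ) x - KGr.grK P (n : ℤ) y := by
  rw [sub_eq_add_neg, grK_add P n hx (neg_mem hy), grK_neg P n hy, sub_eq_add_neg]

theorem grK_sum (n : ℕ) {ι : Type*} (s : Finset ι) (f : ι → K) (hf : ∀ i ∈ s, f i ∈ QFil P n) :
    KGr.grK P (n : ℤ) (∑ i ∈ s, f i) = ∑ i ∈ s, KGr.grK P (n : ℤ) (f i) := by
  classical
  induction s using Finset.induction_on with
  | empty => simp [grK_zero]
  | insert a s ha ih =>
    rw [Finset.sum_insert ha, Finset.sum_insert ha,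
      grK_add P n (hf a (Finset.mem_insert_self a s))
        (sum_mem fun i hi => hf i (Finset.mem_insert_of_mem hi)),
      ih fun i hi => hf i (Finset.mem_insert_of_mem hi)]

theorem grK_natCast_mul (n : ℕ) (m : ℕ) {x : K} (hx : x ∈ QFil P n) :
    KGr.grK P (n : ℤ) ((m : K) * x) = (m : ℚ) • KGr.grK P (n : ℤ) x := by
  induction m with
  | zero => simp [grK_zero]
  | succ m ih =>
    have : ((m + 1 : ℕ) : K) * x = (m : K) * x + x := by push_cast; ring
    rw [this, grK_add P n (QFil_ideal P _ hx) hx, ih]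
    push_cast
    rw [add_smul, one_smul]

theorem grK_intCast_mul (n : ℕ) (m : ℤ) {x : K} (hx : x ∈ QFil P n) :
    KGr.grK P (n : ℤ) ((m : K) * x) = (m : ℚ) • KGr.grK P (n : ℤ) x := by
  rcases Int.eq_nat_or_neg m with ⟨k, rfl | rfl⟩
  · simpa using grK_natCast_mul P n k hx
  · have : (((-(k : ℤ)) : ℤ) : K) * x = -((k : K) * x) := by push_cast; ring
    rw [this, grK_neg P n (QFil_ideal P _ hx), grK_natCast_mul P n k hx]
    push_cast
    rw [neg_smul]

theorem grK_mul (m n : ℕ) {x y : K} (hx : x ∈ QFil P m) (hy : y ∈ QFil P n) :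
    KGr.grK P (m : ℤ) x * KGr.grK P (n : ℤ) y = KGr.grK P ((m + n : ℕ) : ℤ) (x * y) := by
  obtain ⟨N, hN, hx⟩ := hx
  obtain ⟨M, hM, hy⟩ := hy
  have hNM : 1 ≤ N * M := Nat.mul_pos hN hM
  have hxy : ((N * M : ℕ) : K) * (x * y) ∈ gammaFiltration P (m + n) := by
    have : ((N * M : ℕ) : K) * (x * y) = ((N : K) * x) * ((M : K) * y) := by push_cast; ring
    rw [this]; exact mul_mem' P hx hy
  rw [grK_eq P m N hN x hx, grK_eq P n M hM y hy, grK_eq P (m + n) (N * M) hNM (x * y) hxy,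
    Algebra.TensorProduct.tmul_mul_tmul, clsHom_mul]
  congr 1
  · push_cast
    rw [one_div_mul_one_div]
  · congr 1
    apply Subtype.ext
    push_cast
    ring

theorem grK_eq_zero_of_mem (n : ℕ) {x : K} (hx : x ∈ QFil P (n + 1)) :
    KGr.grK P (n : ℤ) x = 0 := by
  obtain ⟨N, hN, hx⟩ := hx
  rw [grK_eq P n N hN x (filt_anti P (Nat.le_succ n) hx), clsHom_eq_zero P n _ hx,
    TensorProduct.tmul_zero]

theorem grK_one : KGr.grK P ((0 : ℕ) : ℤ) (1 : K) = 1 := by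
  have h : ((1 : ℕ) : K) * (1 : K) ∈ gammaFiltration P 0 := by rw [filt_zero]; trivial
  rw [grK_eq P 0 1 (le_refl _) 1 h]
  have : (⟨((1 : ℕ) : K) * (1 : K), h⟩ : gammaFiltration P 0) =
      ⟨1, by rw [filt_zero]; trivial⟩ := by
    apply Subtype.ext; simp
  rw [this, clsHom_one]
  simp [Algebra.TensorProduct.one_def]

theorem grK_intCast (m : ℤ) :
    KGr.grK P ((0 : ℕ) : ℤ) (m : K) = algebraMap ℚ (KGr.Gr P) (m : ℚ) := by
  have h1 : (1 : K) ∈ QFil P 0 := mem_QFil_of_mem P (by rw [filt_zero]; trivial)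
  have := grK_intCast_mul P 0 m h1
  rw [mul_one, grK_one] at this
  rw [this, Algebra.algebraMap_eq_smul_one]

end Groth.Agent.Helper7.KGrS
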