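import Mathlib
import Groth.Agent.Helper7.KGrC

/-! # Component maps on `ℚGr K`, detection and generation -/

set_option autoImplicit false
universe v

open scoped TensorProduct
open LaurentPolynomial LambdaRing

namespace Groth.Agent.Helper7.KGrS

open Groth.Agent.Helper4.AdamsGamma

variable {K : Type v} [CommRing K] [LambdaOps K] (P : PosStructure K)

/-- the `(-n)`-th coefficient modulo `F^{n+1}` on the Rees ring -/
noncomputable def kap0 (n : ℕ) : KGr.rees P →+ K ⧸ gammaFiltration P (n + 1) where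
  toFun p := QuotientAddGroup.mk ((p : LaurentPolynomial K).coeff (-(n : ℤ)))
  map_zero' := by simp
  map_add' p q := by
    rw [← QuotientAddGroup.mk_add]
    congr 1

lemma kap0_apply (n : ℕ) (p : KGr.rees P) :
    kap0 P n p = QuotientAddGroup.mk ((p : LaurentPolynomial K).coeff (-(n : ℤ))) := rfl

lemma kap0_eq_zero (n : ℕ) (p : KGr.rees P) (hp : p ∈ Ideal.span {KGr.tGen P}) :
    kap0 P n p = 0 := by
  rw [Ideal.mem_span_singleton'] at hp
  obtain ⟨q, rfl⟩ := hp
  rw [kap0_apply, QuotientAddGroup.eq_zero_iff]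
  show ((q : LaurentPolynomial K) * T 1).coeff (-(n : ℤ)) ∈ _
  rw [coeff_mul_T]
  have := coeff_mem_of_mem_rees P q.2 (-(n : ℤ) - 1)
  have e : lvl (-(n : ℤ) - 1) = n + 1 := by unfold lvl; omega
  rwa [e] at this

/-- the degree `n` component map on `GrZ` -/
noncomputable def kap (n : ℕ) : KGr.GrZ P →+ K ⧸ gammaFiltration P (n + 1) :=
  QuotientAddGroup.lift (Ideal.span {KGr.tGen P}).toAddSubgroup (kap0 P n)
    (fun p hp => kap0_eq_zero P n p hp)

lemma kap_mk (n : ℕ) (p : KGr.rees P) :
    kap P n (Ideal.Quotient.mk _ p) = kap0 P n p := rfl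

lemma kap_clsHom (n j : ℕ) (x : K) (hx : x ∈ gammaFiltration P j) :
    kap P n (clsHom P j ⟨x, hx⟩) = if j = n then QuotientAddGroup.mk x else 0 := by
  rw [clsHom_apply, kap_mk, kap0_apply]
  show QuotientAddGroup.mk ((C x * T (-(j : ℤ)) : LaurentPolynomial K).coeff (-(n : ℤ))) = _
  rw [coeff_C_mul_T]
  by_cases h : j = n
  · subst h; simp
  · have : ¬ (-(j : ℤ) = -(n : ℤ)) := by omega
    rw [if_neg this, if_neg h]; rfl

/-- the degree `n` component map on `ℚGr K` -/
noncomputable def piC (n : ℕ) : KGr.Gr P →ₗ[ℤ] ℚ ⊗[ℤ] (K ⧸ gammaFiltration P (n + 1)) :=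
  LinearMap.lTensor ℚ (kap P n).toIntLinearMap

lemma piC_tmul (n : ℕ) (q : ℚ) (a : KGr.GrZ P) : piC P n (q ⊗ₜ[ℤ] a) = q ⊗ₜ[ℤ] kap P n a := rfl

lemma piC_smul (n : ℕ) (q : ℚ) (g : KGr.Gr P) : piC P n (q • g) = q • piC P n g := by
  induction g using TensorProduct.induction_on with
  | zero => simp
  | tmul r a => rw [TensorProduct.smul_tmul', piC_tmul, piC_tmul, TensorProduct.smul_tmul']
  | add a b ha hb => rw [smul_add, map_add, ha, hb, map_add, smul_add]

lemma piC_grK_ne (n j : ℕ) (hj : j ≠ n) {x : K} (hx : x ∈ QFil P j) :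
    piC P n (KGr.grK P (j : ℤ) x) = 0 := by
  obtain ⟨N, hN, hx⟩ := hx
  rw [grK_eq P j N hN x hx, piC_tmul, kap_clsHom, if_neg hj, TensorProduct.tmul_zero]

/-- detection: if the degree `n` component of `grK n x` vanishes then `x ∈ ℚF^{n+1}` -/
lemma mem_QFil_succ_of_piC (n : ℕ) {x : K} (hx : x ∈ QFil P n)
    (h : piC P n (KGr.grK P (n : ℤ) x) = 0) : x ∈ QFil P (n + 1) := by
  obtain ⟨N, hN, hx⟩ := hx
  rw [grK_eq P n N hN x hx, piC_tmul, kap_clsHom, if_pos rfl] at h
  have hq : ((1 : ℚ) / (N : ℚ)) ≠ 0 := by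
    have : (0 : ℚ) < N := by exact_mod_cast hN
    positivity
  obtain ⟨M, hM, hM0⟩ := tors_of_tmul_eq_zero _ hq _ h
  refine ⟨M * N, Nat.mul_pos hM hN, ?_⟩
  have h2 : (QuotientAddGroup.mk ((M : K) * ((N : K) * x)) : K ⧸ gammaFiltration P (n + 1)) = 0 := by
    rw [← hM0, ← QuotientAddGroup.mk_nsmul, nsmul_eq_mul]
  rw [QuotientAddGroup.eq_zero_iff] at h2
  have : ((M * N : ℕ) : K) * x = (M : K) * ((N : K) * x) := by push_cast; ring
  rwa [this]

/-- detection in a finite sum of homogeneous classes -/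
theorem mem_QFil_succ_of_sum_eq_zero (s : Finset ℕ) (q : ℕ → ℚ) (y : ℕ → K)
    (hy : ∀ j ∈ s, y j ∈ QFil P j)
    (h : ∑ j ∈ s, q j • KGr.grK P (j : ℤ) (y j) = 0) (n : ℕ) (hn : n ∈ s) (hqn : q n ≠ 0) :
    y n ∈ QFil P (n + 1) := by
  apply mem_QFil_succ_of_piC P n (hy n hn)
  have h2 := congrArg (piC P n) h
  rw [map_sum, map_zero, Finset.sum_eq_single n] at h2
  · rw [piC_smul] at h2
    have := congrArg (fun z => (q n)⁻¹ • z) h2
    simpa [smul_smul, inv_mul_cancel₀ hqn] using this
  · intro j hj hjn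
    rw [piC_smul, piC_grK_ne P n j hjn (hy j hj), smul_zero]
  · intro h'; exact absurd hn h'

/-- generation: `ℚGr K` is spanned over `ℚ` by the classes `grK n x`, `x ∈ F^n` -/
theorem gr_induction (S : Submodule ℚ (KGr.Gr P))
    (hS : ∀ (n : ℕ) (x : K), x ∈ gammaFiltration P n → KGr.grK P (n : ℤ) x ∈ S) : S = ⊤ := by
  suffices h : ∀ g : KGr.Gr P, g ∈ S from eq_top_iff.mpr fun g _ => h g
  intro g
  induction g using TensorProduct.induction_on with
  | zero => exact zero_mem _
  | add a b ha hb => exact add_mem ha hb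
  | tmul q a =>
    have hq : q ⊗ₜ[ℤ] a = q • ((1 : ℚ) ⊗ₜ[ℤ] a : KGr.Gr P) := by
      rw [TensorProduct.smul_tmul', smul_eq_mul, mul_one]
    rw [hq]
    apply S.smul_mem
    obtain ⟨⟨p, hp⟩, rfl⟩ := Ideal.Quotient.mk_surjective a
    -- induction on membership of the Rees ring
    have key : ∀ p (hp : p ∈ KGr.rees P),
        ((1 : ℚ) ⊗ₜ[ℤ] (Ideal.Quotient.mk (Ideal.span {KGr.tGen P}) ⟨p, hp⟩) : KGr.Gr P) ∈ S := by
      intro p hp
      have hp' := hp
      unfold KGr.rees at hp'
      rw [Subring.mem_closure_iff] at hp'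
      induction hp' using AddSubgroup.closure_induction with
      | mem y hy =>
        have : y ∈ monos P := (Submonoid.closure_le.mpr (reesGens_le_monos P)) hy
        obtain ⟨m, x, hx, rfl⟩ := this
        by_cases hm : 0 < m
        · -- positive exponent: multiple of t
          have hmem : C x * T (m - 1) ∈ KGr.rees P := by
            have := mono_mem_rees P 0 x (by rw [filt_zero]; trivial)
            have h2 : C x * T (m - 1) = (C x * T (-((0 : ℕ) : ℤ))) * (T 1) ^ (m - 1).toNat := by
              rw [T_pow, mul_assoc, ← T_add]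
              congr 2
              have : ((m - 1).toNat : ℤ) = m - 1 := Int.toNat_of_nonneg (by omega)
              rw [this]; simp
            rw [h2]
            exact Subring.mul_mem _ this (Subring.pow_mem _ (KGr.tGen P).2 _)
          have hz : (Ideal.Quotient.mk (Ideal.span {KGr.tGen P}) ⟨C x * T m, hp⟩ : KGr.GrZ P) = 0 := by
            rw [Ideal.Quotient.eq_zero_iff_mem, Ideal.mem_span_singleton']
            refine ⟨⟨C x * T (m - 1), hmem⟩, ?_⟩
            apply Subtype.ext
            show C x * T (m - 1) * T 1 = C x * T m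
            rw [mul_assoc, ← T_add]
            congr 2; ring
          rw [hz, TensorProduct.tmul_zero]; exact zero_mem _
        · have hm' : m = -((lvl m : ℕ) : ℤ) := by unfold lvl; omega
          have h1 := hS (lvl m) x hx
          rw [grK_eq P (lvl m) 1 (le_refl _) x (by simpa using hx)] at h1
          have e : (clsHom P (lvl m) ⟨((1 : ℕ) : K) * x, by simpa using hx⟩ : KGr.GrZ P) =
              Ideal.Quotient.mk (Ideal.span {KGr.tGen P}) ⟨C x * T m, hp⟩ := by
            rw [clsHom_apply]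
            congr 1
            apply Subtype.ext
            show C (((1 : ℕ) : K) * x) * T (-((lvl m : ℕ) : ℤ)) = C x * T m
            rw [← hm']; simp
          rw [e] at h1
          simpa using h1
      | zero =>
        have : (⟨0, hp⟩ : KGr.rees P) = 0 := rfl
        rw [this, map_zero, TensorProduct.tmul_zero]; exact zero_mem _
      | add a b ha hb iha ihb =>
        have ha' : a ∈ KGr.rees P := by
          unfold KGr.rees; rw [Subring.mem_closure_iff]; exact ha
        have hb' : b ∈ KGr.rees P := by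
          unfold KGr.rees; rw [Subring.mem_closure_iff]; exact hb
        have : (⟨a + b, hp⟩ : KGr.rees P) = ⟨a, ha'⟩ + ⟨b, hb'⟩ := rfl
        rw [this, map_add, TensorProduct.tmul_add]
        exact add_mem (iha ha') (ihb hb')
      | neg a ha iha =>
        have ha' : a ∈ KGr.rees P := by
          unfold KGr.rees; rw [Subring.mem_closure_iff]; exact ha
        have : (⟨-a, hp⟩ : KGr.rees P) = -⟨a, ha'⟩ := rfl
        rw [this, map_neg, TensorProduct.tmul_neg]
        exact neg_mem (iha ha')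
    exact key p hp

end Groth.Agent.Helper7.KGrS
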