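import Mathlib
import Groth.Prelude.Def_KGr
import Groth.Agent.Helper4.AdamsGamma2
import Groth.Agent.Helper4.LineGr3

/-! # Newton's identity between the γ-operations and the finite differences of Adams operations -/

set_option autoImplicit false
universe u

open LambdaRing PowerSeries

namespace Groth.Agent.Helper7.KGrS

open Groth.Agent.Helper1.Lambda

variable {K : Type u} [CommRing K] [LambdaOps K] (P : PosStructure K)

/-- `γ^k(x − ε x)` -/
def cg (k : ℕ) (x : K) : K := gamma k (x - (P.aug x : K))

/-- the `k`-th finite difference at `0` of `l ↦ ψ^l(x)` -/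
noncomputable def del (k : ℕ) (x : K) : K :=
  ∑ m ∈ Finset.range (k + 1), (-1 : K) ^ (m + k) * adams P m x * (k.choose m : K)

noncomputable def Gs (x : K) : PowerSeries K := PowerSeries.mk fun k => (-1 : K) ^ k * cg P k x

noncomputable def Ds (x : K) : PowerSeries K :=
  PowerSeries.mk fun k => if k = 0 then 0 else del P k x

def Rel (x : K) : Prop :=
  Gs P x * Ds P x = -(PowerSeries.X * PowerSeries.derivative K (Gs P x))

lemma del_add (k : ℕ) (x y : K) : del P k (x + y) = del P k x + del P k y := by
  unfold del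
  rw [← Finset.sum_add_distrib]
  refine Finset.sum_congr rfl fun m _ => ?_
  rw [adams_add]; ring

lemma del_neg (k : ℕ) (x : K) : del P k (-x) = - del P k x := by
  unfold del
  rw [← Finset.sum_neg_distrib]
  refine Finset.sum_congr rfl fun m _ => ?_
  rw [adams_neg]; ring

lemma cg_add (k : ℕ) (x y : K) :
    cg P k (x + y) = ∑ i ∈ Finset.range (k + 1), cg P i x * cg P (k - i) y := by
  unfold cg
  rw [← gamma_add]
  congr 1
  rw [map_add]; push_cast; ring

lemma Gs_add (x y : K) : Gs P (x + y) = Gs P x * Gs P y := by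
  ext k
  unfold Gs
  rw [PowerSeries.coeff_mk, PowerSeries.coeff_mul,
    Finset.Nat.sum_antidiagonal_eq_sum_range_succ (fun i j =>
      PowerSeries.coeff i (PowerSeries.mk fun k => (-1 : K) ^ k * cg P k x) *
      PowerSeries.coeff j (PowerSeries.mk fun k => (-1 : K) ^ k * cg P k y)),
    cg_add, Finset.mul_sum]
  refine Finset.sum_congr rfl fun i hi => ?_
  rw [PowerSeries.coeff_mk, PowerSeries.coeff_mk]
  have hi' : i ≤ k := Nat.lt_succ_iff.mp (Finset.mem_range.mp hi)
  have : (-1 : K) ^ k = (-1) ^ i * (-1) ^ (k - i) := by rw [← pow_add]; congr 1; omega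
  rw [this]; ring

lemma Gs_zero : Gs P (0 : K) = 1 := by
  ext k
  unfold Gs cg
  rw [PowerSeries.coeff_mk, map_zero, Int.cast_zero, sub_zero,
    Groth.Agent.Helper4.GammaOps.gamma_zero_arg, PowerSeries.coeff_one]
  by_cases hk : k = 0
  · subst hk; simp
  · simp [hk]

lemma Ds_add (x y : K) : Ds P (x + y) = Ds P x + Ds P y := by
  ext k
  unfold Ds
  rw [map_add, PowerSeries.coeff_mk, PowerSeries.coeff_mk, PowerSeries.coeff_mk]
  by_cases hk : k = 0
  · simp [hk]
  · simp only [hk, if_false]; exact del_add P k x y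

lemma Ds_neg (x : K) : Ds P (-x) = - Ds P x := by
  ext k
  unfold Ds
  rw [map_neg, PowerSeries.coeff_mk, PowerSeries.coeff_mk]
  by_cases hk : k = 0
  · simp [hk]
  · simp only [hk, if_false]; exact del_neg P k x

lemma Ds_zero : Ds P (0 : K) = 0 := by
  have := Ds_add P (0 : K) 0
  rw [add_zero] at this
  exact left_eq_add.mp this

lemma Rel_zero : Rel P (0 : K) := by
  unfold Rel
  rw [Gs_zero, Ds_zero, mul_zero, PowerSeries.derivative_one, mul_zero, neg_zero]

lemma Rel_add {x y : K} (hx : Rel P x) (hy : Rel P y) : Rel P (x + y) := by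
  unfold Rel at *
  rw [Gs_add, Ds_add, Derivation.leibniz, smul_eq_mul, smul_eq_mul]
  have : Gs P x * Gs P y * (Ds P x + Ds P y) =
      (Gs P x * Ds P x) * Gs P y + Gs P x * (Gs P y * Ds P y) := by ring
  rw [this, hx, hy]; ring

lemma Rel_neg {x : K} (hx : Rel P x) : Rel P (-x) := by
  unfold Rel at *
  have h1 : Gs P x * Gs P (-x) = 1 := by rw [← Gs_add, add_neg_cancel, Gs_zero]
  have h2 := congrArg (PowerSeries.derivative K) h1
  rw [Derivation.leibniz, smul_eq_mul, smul_eq_mul, PowerSeries.derivative_one] at h2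
  have e3 : Gs P x * (PowerSeries.derivative K) (Gs P (-x)) =
      -(Gs P (-x) * (PowerSeries.derivative K) (Gs P x)) := by
    rw [eq_neg_iff_add_eq_zero]; exact h2
  have hD : Ds P x = -(PowerSeries.X * (Gs P (-x) * (PowerSeries.derivative K) (Gs P x))) := by
    calc Ds P x = (Gs P x * Gs P (-x)) * Ds P x := by rw [h1, one_mul]
      _ = Gs P (-x) * (Gs P x * Ds P x) := by ring
      _ = Gs P (-x) * -(PowerSeries.X * PowerSeries.derivative K (Gs P x)) := by rw [hx]
      _ = _ := by ring
  have hH : (PowerSeries.derivative K) (Gs P (-x)) =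
      -(Gs P (-x) * (Gs P (-x) * (PowerSeries.derivative K) (Gs P x))) := by
    calc (PowerSeries.derivative K) (Gs P (-x))
        = (Gs P x * Gs P (-x)) * (PowerSeries.derivative K) (Gs P (-x)) := by rw [h1, one_mul]
      _ = Gs P (-x) * (Gs P x * (PowerSeries.derivative K) (Gs P (-x))) := by ring
      _ = Gs P (-x) * -(Gs P (-x) * (PowerSeries.derivative K) (Gs P x)) := by rw [e3]
      _ = _ := by ring
  rw [Ds_neg, hH, hD]
  ring


lemma del_line (u : K) (hu : P.IsLine u) (k : ℕ) : del P k u = (u - 1) ^ k := by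
  unfold del
  rw [sub_pow]
  refine Finset.sum_congr rfl fun m _ => ?_
  rw [adams_line P u hu, one_pow, mul_one]

lemma cg_line (u : K) (hu : P.IsLine u) (k : ℕ) :
    cg P k u = if k = 0 then 1 else if k = 1 then u - 1 else 0 := by
  unfold cg
  rw [hu.2, Int.cast_one]
  have h1 := Groth.Agent.Helper4.PosGamma.lam_one_eq_zero P
  have h := Groth.Agent.Helper4.GammaOps.gamma_sum_sub_one h1 ({u} : Multiset K)
    (by
      intro y hy j hj
      rw [Multiset.mem_singleton] at hy
      subst hy
      exact lam_line P y hu j hj) k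
  rw [Multiset.map_singleton, Multiset.sum_singleton] at h
  rw [h]
  rcases k with _ | _ | k
  · simp [Multiset.esymm]
  · simp [Multiset.esymm, Multiset.powersetCard_one]
  · rw [Groth.Agent.Helper4.InvSplit.esymm_eq_zero_of_card_lt _ _ (by simp)]
    simp

lemma Gs_line (u : K) (hu : P.IsLine u) :
    Gs P u = 1 - PowerSeries.C (u - 1) * PowerSeries.X := by
  ext k
  unfold Gs
  rw [PowerSeries.coeff_mk, cg_line P u hu, map_sub, PowerSeries.coeff_one]
  rcases k with _ | _ | k
  · simp
  · simp [PowerSeries.coeff_succ_mul_X]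
  · rw [PowerSeries.coeff_succ_mul_X, PowerSeries.coeff_C]
    simp

lemma Rel_line (u : K) (hu : P.IsLine u) : Rel P u := by
  unfold Rel
  have hE : (1 - PowerSeries.C (u - 1) * PowerSeries.X) *
      PowerSeries.mk (fun k => (u - 1) ^ k) = (1 : PowerSeries K) := by
    have h1 : PowerSeries.mk (fun k => (u - 1) ^ k) =
        PowerSeries.rescale (u - 1) (PowerSeries.mk 1) := by
      rw [PowerSeries.rescale_mk]; simp
    have h2 : (1 - PowerSeries.C (u - 1) * PowerSeries.X : PowerSeries K) =
        PowerSeries.rescale (u - 1) (1 - PowerSeries.X) := by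
      rw [RingHom.map_sub (PowerSeries.rescale (u - 1)), RingHom.map_one, PowerSeries.rescale_X]
    rw [h1, h2, ← RingHom.map_mul, mul_comm, PowerSeries.mk_one_mul_one_sub_eq_one, RingHom.map_one]
  have hD : Ds P u = PowerSeries.mk (fun k => (u - 1) ^ k) - 1 := by
    ext k
    unfold Ds
    rw [PowerSeries.coeff_mk, map_sub, PowerSeries.coeff_mk, PowerSeries.coeff_one]
    by_cases hk : k = 0
    · simp [hk]
    · simp only [hk, if_false, sub_zero]; exact del_line P u hu k
  rw [Gs_line P u hu, hD, mul_sub, hE, mul_one]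
  have hd : PowerSeries.derivative K (1 - PowerSeries.C (u - 1) * PowerSeries.X) =
      - PowerSeries.C (u - 1) := by
    rw [map_sub (PowerSeries.derivative K), PowerSeries.derivative_one, zero_sub,
      Derivation.leibniz, PowerSeries.derivative_C, PowerSeries.derivative_X]
    simp
  rw [hd]
  ring

lemma Rel_sum_lines (s : Multiset K) (hs : ∀ u ∈ s, P.IsLine u) : Rel P s.sum := by
  induction s using Multiset.induction_on with
  | empty => simpa using Rel_zero P
  | cons a s ih =>
    rw [Multiset.sum_cons]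
    exact Rel_add P (Rel_line P a (hs a (Multiset.mem_cons_self a s)))
      (ih fun u hu => hs u (Multiset.mem_cons_of_mem hu))

section transfer

variable {K' : Type u} [CommRing K'] [LambdaOps K'] (P' : PosStructure K')

lemma map_cg (f : K →+* K') (hf : IsExtension P P' f) (k : ℕ) (x : K) :
    f (cg P k x) = cg P' k (f x) := by
  unfold cg
  rw [Groth.Agent.Helper4.InvSplit.map_gamma f hf.isLambdaHom, map_sub, map_intCast, hf.aug_comp]

lemma map_del (f : K →+* K') (hf : IsExtension P P' f) (k : ℕ) (x : K) :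
    f (del P k x) = del P' k (f x) := by
  unfold del
  rw [map_sum]
  refine Finset.sum_congr rfl fun m _ => ?_
  rw [map_mul, map_mul, map_pow, map_neg, map_one, map_natCast, map_adams P P' f hf]

lemma map_Gs (f : K →+* K') (hf : IsExtension P P' f) (x : K) :
    PowerSeries.map f (Gs P x) = Gs P' (f x) := by
  ext k
  unfold Gs
  rw [PowerSeries.coeff_map, PowerSeries.coeff_mk, PowerSeries.coeff_mk, map_mul, map_pow, map_neg,
    map_one, map_cg P P' f hf]

lemma map_Ds (f : K →+* K') (hf : IsExtension P P' f) (x : K) :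
    PowerSeries.map f (Ds P x) = Ds P' (f x) := by
  ext k
  unfold Ds
  rw [PowerSeries.coeff_map, PowerSeries.coeff_mk, PowerSeries.coeff_mk]
  by_cases hk : k = 0
  · simp [hk]
  · simp only [hk, if_false]; exact map_del P P' f hf k x

lemma Rel_of_map (f : K →+* K') (hf : IsExtension P P' f) (x : K) (h : Rel P' (f x)) :
    Rel P x := by
  unfold Rel at *
  apply PowerSeries.map_injective f hf.injective
  rw [map_mul, map_neg, map_mul, PowerSeries.map_X, map_derivative, map_Gs P P' f hf,
    map_Ds P P' f hf]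
  exact h

end transfer

theorem Rel_all (hK : HasSplitting K P) (x : K) : Rel P x := by
  obtain ⟨C, hKC, hC⟩ := hK
  have hpos : ∀ e ∈ P.pos, Rel P e := by
    intro e he
    obtain ⟨L', _, f, hf, s, hs, hsum⟩ := hC ⟨K, P⟩ hKC e he
    apply Rel_of_map P L'.posStr f hf
    rw [← hsum]
    exact Rel_sum_lines L'.posStr s hs
  obtain ⟨e, f, he, hf, rfl⟩ := P.exists_sub x
  rw [sub_eq_add_neg]
  exact Rel_add P (hpos e he) (Rel_neg P (hpos f hf))

/-- Newton's identity in `K` -/
theorem newton_K (hK : HasSplitting K P) (x : K) (k : ℕ) :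
    (k : K) * cg P k x = (-1) ^ (k + 1) *
      ∑ a ∈ Finset.HasAntidiagonal.antidiagonal k with a.1 < k, (-1) ^ a.1 * cg P a.1 x * del P a.2 x := by
  have h := congrArg (PowerSeries.coeff k) (Rel_all P hK x)
  rw [PowerSeries.coeff_mul, map_neg] at h
  have hL : ∑ p ∈ Finset.HasAntidiagonal.antidiagonal k, PowerSeries.coeff p.1 (Gs P x) * PowerSeries.coeff p.2 (Ds P x)
      = ∑ a ∈ Finset.HasAntidiagonal.antidiagonal k with a.1 < k, (-1) ^ a.1 * cg P a.1 x * del P a.2 x := by
    rw [Finset.sum_filter]
    refine Finset.sum_congr rfl fun a ha => ?_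
    rw [Finset.HasAntidiagonal.mem_antidiagonal] at ha
    unfold Gs Ds
    rw [PowerSeries.coeff_mk, PowerSeries.coeff_mk]
    by_cases h2 : a.2 = 0
    · have : ¬ a.1 < k := by omega
      simp [h2, this]
    · have : a.1 < k := by omega
      simp [h2, this]
  rw [hL] at h
  rw [h]
  rcases k with _ | k
  · simp
  · rw [PowerSeries.coeff_succ_X_mul, PowerSeries.coeff_derivative]
    unfold Gs
    rw [PowerSeries.coeff_mk]
    have : (-1 : K) ^ (k + 1 + 1) * (-1) ^ (k + 1) = -1 := by
      rw [← pow_add]
      have : k + 1 + 1 + (k + 1) = 2 * (k + 1) + 1 := by ring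
      rw [this, pow_succ, pow_mul]; simp
    push_cast
    linear_combination ((cg P (k + 1) x) * ((k : K) + 1)) * this

end Groth.Agent.Helper7.KGrS
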