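import Mathlib
import Groth.Agent.Helper7.KGrE

/-! # Newton recursions: uniqueness and filtration membership -/

set_option autoImplicit false
universe u

open LambdaRing

namespace Groth.Agent.Helper7.KGrS

open Groth.Agent.Helper1.Lambda Groth.Agent.Helper4.AdamsGamma

section general

variable {R : Type*} [CommRing R]

/-- Newton relation at index `k` between sequences `e` ("elementary") and `p` ("power sums") -/
def NR (e p : ℕ → R) (k : ℕ) : Prop :=
  (k : R) * e k = (-1) ^ (k + 1) *
    ∑ a ∈ Finset.HasAntidiagonal.antidiagonal k with a.1 < k, (-1) ^ a.1 * e a.1 * p a.2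

lemma sum_antidiag_lt (f : ℕ → ℕ → R) (k : ℕ) :
    ∑ a ∈ Finset.HasAntidiagonal.antidiagonal k with a.1 < k, f a.1 a.2 =
      ∑ i ∈ Finset.range k, f i (k - i) := by
  rw [Finset.sum_filter, Finset.Nat.sum_antidiagonal_eq_sum_range_succ_mk, Finset.sum_range_succ]
  simp only [lt_self_iff_false, if_false, add_zero]
  refine Finset.sum_congr rfl fun i hi => ?_
  rw [if_pos (Finset.mem_range.mp hi)]

lemma NR_solve (e p : ℕ → R) (he0 : e 0 = 1) (k : ℕ) (h : NR e p (k + 1)) :
    p (k + 1) = (-1) ^ k * ((k + 1 : ℕ) : R) * e (k + 1) -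
      ∑ i ∈ Finset.range k, (-1) ^ (i + 1) * e (i + 1) * p (k - i) := by
  unfold NR at h
  rw [sum_antidiag_lt (fun i j => (-1) ^ i * e i * p j), Finset.sum_range_succ'] at h
  simp only [pow_zero, he0, mul_one, one_mul, Nat.sub_zero] at h
  have h2 : ∑ i ∈ Finset.range k, (-1 : R) ^ (i + 1) * e (i + 1) * p (k + 1 - (i + 1)) =
      ∑ i ∈ Finset.range k, (-1) ^ (i + 1) * e (i + 1) * p (k - i) := by
    refine Finset.sum_congr rfl fun i _ => ?_
    rw [Nat.add_sub_add_right]
  rw [h2] at h
  have h3 : (-1 : R) ^ k * (-1) ^ (k + 1 + 1) = 1 := by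
    rw [← pow_add]
    have : k + (k + 1 + 1) = 2 * (k + 1) := by ring
    rw [this, pow_mul]; simp
  have h4 := congrArg (fun z => (-1 : R) ^ k * z) h
  beta_reduce at h4
  rw [← mul_assoc ((-1 : R) ^ k) ((-1) ^ (k + 1 + 1)), h3, one_mul] at h4
  linear_combination -h4

/-- uniqueness of the solution of the Newton relations -/
theorem NR_unique (e p p' : ℕ → R) (he0 : e 0 = 1) (d : ℕ)
    (h : ∀ k, 1 ≤ k → k ≤ d → NR e p k) (h' : ∀ k, 1 ≤ k → k ≤ d → NR e p' k) :
    ∀ k, 1 ≤ k → k ≤ d → p k = p' k := by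
  intro k
  induction k using Nat.strong_induction_on with
  | _ k ih =>
    intro hk1 hkd
    obtain ⟨k, rfl⟩ : ∃ k', k = k' + 1 := ⟨k - 1, by omega⟩
    rw [NR_solve e p he0 k (h _ hk1 hkd), NR_solve e p' he0 k (h' _ hk1 hkd)]
    congr 1
    refine Finset.sum_congr rfl fun i hi => ?_
    have := Finset.mem_range.mp hi
    rw [ih (k - i) (by omega) (by omega) (by omega)]

end general

variable {K : Type u} [CommRing K] [LambdaOps K] (P : PosStructure K)

lemma cg_zero' (x : K) : cg P 0 x = 1 := by
  unfold cg gamma; simp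

lemma cg_mem (k : ℕ) (x : K) : cg P k x ∈ gammaFiltration P k := by
  unfold cg
  apply Groth.Agent.Helper4.PosGamma.gamma_mem
  simp

lemma NR_K (hK : HasSplitting K P) (x : K) (k : ℕ) :
    NR (fun k => cg P k x) (fun k => del P k x) k := newton_K P hK x k

/-- `Δ^k ψ(x) ∈ F^k` -/
theorem del_mem (hK : HasSplitting K P) (x : K) (k : ℕ) : del P k x ∈ gammaFiltration P k := by
  induction k using Nat.strong_induction_on with
  | _ k ih =>
    rcases k with _ | k
    · rw [filt_zero]; trivial
    · have := NR_solve (fun k => cg P k x) (fun k => del P k x) (cg_zero' P x) k (NR_K P hK x (k + 1))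
      beta_reduce at this
      rw [this]
      apply sub_mem
      · rw [mul_assoc]; exact ideal_mem P _ _ _ (ideal_mem P _ _ _ (cg_mem P _ x))
      · apply sum_mem
        intro i hi
        have hi' := Finset.mem_range.mp hi
        rw [mul_assoc]
        apply ideal_mem P
        have h1 := mul_mem' P (cg_mem P (i + 1) x) (ih (k - i) (by omega))
        have e : i + 1 + (k - i) = k + 1 := by omega
        rwa [e] at h1

lemma adams_zero_eq (x : K) : adams P 0 x = (P.aug x : K) := by
  unfold adams adamsSeries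
  simp [mul_assoc]

lemma adams_mem (hK : HasSplitting K P) (n : ℕ) {x : K} (hx : x ∈ gammaFiltration P n) (m : ℕ) :
    adams P m x ∈ gammaFiltration P n := by
  have h1 := adams_sub_mem P hK m n x hx
  have h2 : adams P m x = (adams P m x - (m : K) ^ n * x) + (m : K) ^ n * x := by ring
  rw [h2]
  exact add_mem (filt_anti P (Nat.le_succ n) h1) (ideal_mem P _ _ _ hx)

lemma del_mem_of_mem (hK : HasSplitting K P) (n : ℕ) {x : K} (hx : x ∈ gammaFiltration P n)
    (k : ℕ) : del P k x ∈ gammaFiltration P n := by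
  unfold del
  apply sum_mem
  intro m _
  have : (-1 : K) ^ (m + k) * adams P m x * (k.choose m : K) =
      ((-1 : K) ^ (m + k) * (k.choose m : K)) * adams P m x := by ring
  rw [this]
  exact ideal_mem P _ _ _ (adams_mem P hK n hx m)

lemma stirling_top (n : ℕ) :
    ∑ m ∈ Finset.range (n + 1), (-1 : ℤ) ^ (m + n) * (m : ℤ) ^ n * (n.choose m : ℤ) =
      (n.factorial : ℤ) := by
  have h1 := congrFun (fwdDiff_iter_eq_factorial (R := ℤ) (n := n)) 0
  rw [fwdDiff_iter_eq_sum_shift] at h1
  simp only [zero_add, smul_eq_mul, Pi.natCast_apply] at h1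
  rw [← h1]
  refine Finset.sum_congr rfl fun m hm => ?_
  have hm' : m ≤ n := Nat.lt_succ_iff.mp (Finset.mem_range.mp hm)
  have : (-1 : ℤ) ^ (m + n) = (-1) ^ (n - m) := by
    have : m + n = (n - m) + 2 * m := by omega
    rw [this, pow_add, pow_mul]; simp
  rw [this]
  push_cast
  ring

/-- `Δ^n ψ(x) ≡ n! x` modulo `F^{n+1}` for `x ∈ F^n` -/
theorem del_sub_mem (hK : HasSplitting K P) (n : ℕ) {x : K} (hx : x ∈ gammaFiltration P n) :
    del P n x - (n.factorial : K) * x ∈ gammaFiltration P (n + 1) := by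
  have h1 : (n.factorial : K) * x =
      ∑ m ∈ Finset.range (n + 1), (-1 : K) ^ (m + n) * ((m : K) ^ n * x) * (n.choose m : K) := by
    have := congrArg (fun z : ℤ => (z : K) * x) (stirling_top n)
    beta_reduce at this
    push_cast at this
    rw [← this, Finset.sum_mul]
    refine Finset.sum_congr rfl fun m _ => ?_
    ring
  unfold del
  rw [h1, ← Finset.sum_sub_distrib]
  apply sum_mem
  intro m _
  have : (-1 : K) ^ (m + n) * adams P m x * (n.choose m : K) -
      (-1 : K) ^ (m + n) * ((m : K) ^ n * x) * (n.choose m : K) =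
      ((-1 : K) ^ (m + n) * (n.choose m : K)) * (adams P m x - (m : K) ^ n * x) := by ring
  rw [this]
  exact ideal_mem P _ _ _ (adams_sub_mem P hK m n x hx)

end Groth.Agent.Helper7.KGrS
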