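import Mathlib
import Groth.Agent.Helper7.KGrD
import Groth.Agent.Helper7.KGrF

/-! # The Chern character in terms of finite differences of Adams operations -/

set_option autoImplicit false
universe v

open scoped TensorProduct
open LambdaRing

namespace Groth.Agent.Helper7.KGrS

open Groth.Agent.Helper1.Lambda Groth.Agent.Helper4.AdamsGamma

section general

variable {R : Type*} [CommRing R]

lemma NR_iff_range (e p : ℕ → R) (k : ℕ) :
    NR e p k ↔ (k : R) * e k = (-1) ^ (k + 1) *
      ∑ i ∈ Finset.range k, (-1) ^ i * e i * p (k - i) := by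
  unfold NR
  rw [sum_antidiag_lt (fun i j => (-1) ^ i * e i * p j)]

lemma NR_congr (e e' p : ℕ → R) (k : ℕ) (h : ∀ j ≤ k, e j = e' j) : NR e p k ↔ NR e' p k := by
  rw [NR_iff_range, NR_iff_range, h k (le_refl _)]
  have : ∑ i ∈ Finset.range k, (-1 : R) ^ i * e i * p (k - i) =
      ∑ i ∈ Finset.range k, (-1 : R) ^ i * e' i * p (k - i) := by
    refine Finset.sum_congr rfl fun i hi => ?_
    rw [h i (Finset.mem_range.mp hi).le]
  rw [this]

end general

variable {K : Type v} [CommRing K] [LambdaOps K] (P : PosStructure K)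

lemma chern_eq (k : ℕ) (x : K) : KGr.chern P k x = KGr.grK P (k : ℤ) (cg P k x) := rfl

lemma chern_zero (x : K) : KGr.chern P 0 x = 1 := by
  rw [chern_eq, cg_zero']
  exact grK_one P

/-- the Newton relations in `ℚGr K` between Chern classes and classes of `Δ^k ψ` -/
theorem NR_Gr (hK : HasSplitting K P) (x : K) (k : ℕ) :
    NR (fun k => KGr.chern P k x) (fun k => KGr.grK P (k : ℤ) (del P k x)) k := by
  rw [NR_iff_range]
  have h0 := (NR_iff_range _ _ k).mp (NR_K P hK x k)
  beta_reduce at h0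
  have hmem : ∀ i ∈ Finset.range k, (-1 : K) ^ i * cg P i x * del P (k - i) x ∈ QFil P k := by
    intro i hi
    have hi' := Finset.mem_range.mp hi
    apply mem_QFil_of_mem
    rw [mul_assoc]
    apply ideal_mem P
    have := mul_mem' P (cg_mem P i x) (del_mem P hK x (k - i))
    have e : i + (k - i) = k := by omega
    rwa [e] at this
  have h1 := congrArg (KGr.grK P (k : ℤ)) h0
  have hs : (-1 : K) ^ (k + 1) = (((-1 : ℤ) ^ (k + 1) : ℤ) : K) := by push_cast; rfl
  rw [grK_natCast_mul P k k (mem_QFil_of_mem P (cg_mem P k x)), hs,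
    grK_intCast_mul P k _ (sum_mem hmem), grK_sum P k _ _ hmem] at h1
  beta_reduce
  rw [chern_eq]
  have e1 : ((k : ℕ) : ℚ) • KGr.grK P (k : ℤ) (cg P k x) =
      (k : KGr.Gr P) * KGr.grK P (k : ℤ) (cg P k x) := by
    rw [Nat.cast_smul_eq_nsmul, nsmul_eq_mul]
  rw [e1] at h1
  rw [h1]
  have e2 : ∀ (q : ℤ) (g : KGr.Gr P), ((q : ℤ) : ℚ) • g = (q : KGr.Gr P) * g := by
    intro q g
    rw [Int.cast_smul_eq_zsmul, zsmul_eq_mul]
  rw [e2]
  push_cast
  congr 1
  refine Finset.sum_congr rfl fun i hi => ?_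
  have hi' := Finset.mem_range.mp hi
  have hs' : (-1 : K) ^ i = (((-1 : ℤ) ^ i : ℤ) : K) := by push_cast; rfl
  have hcd : cg P i x * del P (k - i) x ∈ QFil P k := by
    apply mem_QFil_of_mem
    have := mul_mem' P (cg_mem P i x) (del_mem P hK x (k - i))
    have e : i + (k - i) = k := by omega
    rwa [e] at this
  have hm : KGr.grK P (k : ℤ) (cg P i x * del P (k - i) x) =
      KGr.grK P (i : ℤ) (cg P i x) * KGr.grK P ((k - i : ℕ) : ℤ) (del P (k - i) x) := by
    rw [grK_mul P i (k - i) (mem_QFil_of_mem P (cg_mem P i x))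
      (mem_QFil_of_mem P (del_mem P hK x (k - i)))]
    have e : i + (k - i) = k := by omega
    rw [e]
  rw [mul_assoc, hs', grK_intCast_mul P k _ hcd, e2, chern_eq, hm]
  push_cast
  ring

section poly

open MvPolynomial

variable (d : ℕ)

/-- the symmetric polynomial `e_k` as an element of the symmetric subalgebra -/
noncomputable def Esym (k : ℕ) : symmetricSubalgebra (Fin d) ℚ :=
  ⟨esymm (Fin d) ℚ k, esymm_isSymmetric _ _ k⟩

/-- the power sum `p_k` as an element of the symmetric subalgebra -/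
noncomputable def Psym (k : ℕ) : symmetricSubalgebra (Fin d) ℚ :=
  ⟨psum (Fin d) ℚ k, psum_isSymmetric _ _ k⟩

lemma NR_sym (k : ℕ) : NR (Esym d) (Psym d) k := by
  unfold NR
  apply Subtype.ext
  have := mul_esymm_eq_sum (Fin d) ℚ k
  simp only [Esym, Psym]
  push_cast
  exact this

/-- evaluation of symmetric polynomials at "Chern roots" with elementary symmetric functions `c` -/
noncomputable def psiC {A : Type*} [CommRing A] [Algebra ℚ A] (c : Fin d → A) :
    symmetricSubalgebra (Fin d) ℚ →ₐ[ℚ] A :=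
  (MvPolynomial.aeval c).comp (esymmAlgEquiv (Fin d) ℚ (Fintype.card_fin d)).symm.toAlgHom

variable {A : Type*} [CommRing A] [Algebra ℚ A] (c : Fin d → A)

lemma psiC_Esym_succ (i : Fin d) : psiC d c (Esym d (i + 1)) = c i := by
  unfold psiC Esym
  rw [AlgHom.comp_apply]
  have := esymmAlgEquiv_symm_apply ℚ (Fintype.card_fin d) i
  exact (congrArg (aeval c) this).trans (aeval_X c i)

lemma psiC_Esym_zero : psiC d c (Esym d 0) = 1 := by
  have : Esym d 0 = 1 := by
    apply Subtype.ext
    simp [Esym, esymm_zero]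
  rw [this, map_one]

lemma psiC_Psym_zero : psiC d c (Psym d 0) = (d : A) := by
  have : Psym d 0 = ((d : ℕ) : symmetricSubalgebra (Fin d) ℚ) := by
    apply Subtype.ext
    simp [Psym, psum_zero]
  rw [this, map_natCast]

lemma NR_psiC (k : ℕ) : NR (fun k => psiC d c (Esym d k)) (fun k => psiC d c (Psym d k)) k := by
  have := congrArg (psiC d c) (NR_sym d k)
  unfold NR
  simp only [map_mul, map_natCast, map_pow, map_neg, map_one, map_sum] at this
  exact this

lemma chPoly_eq :
    KGr.chPoly d = (esymmAlgEquiv (Fin d) ℚ (Fintype.card_fin d)).symm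
      (∑ k ∈ Finset.range (d + 1), ((1 : ℚ) / (k.factorial : ℚ)) • Psym d k) := by
  unfold KGr.chPoly
  congr 1
  apply Subtype.ext
  simp only [Psym, KGr.expTrunc]
  push_cast
  simp only [map_sum, map_mul, Polynomial.aeval_C, map_pow, Polynomial.aeval_X]
  rw [Finset.sum_comm]
  refine Finset.sum_congr rfl fun k _ => ?_
  rw [psum, Finset.smul_sum]
  refine Finset.sum_congr rfl fun i _ => ?_
  rw [Algebra.smul_def]

lemma aeval_chPoly :
    MvPolynomial.aeval c (KGr.chPoly d) =
      ∑ k ∈ Finset.range (d + 1), ((1 : ℚ) / (k.factorial : ℚ)) • psiC d c (Psym d k) := by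
  rw [chPoly_eq]
  have : MvPolynomial.aeval c ((esymmAlgEquiv (Fin d) ℚ (Fintype.card_fin d)).symm
      (∑ k ∈ Finset.range (d + 1), ((1 : ℚ) / (k.factorial : ℚ)) • Psym d k)) =
      psiC d c (∑ k ∈ Finset.range (d + 1), ((1 : ℚ) / (k.factorial : ℚ)) • Psym d k) := rfl
  rw [this, map_sum]
  refine Finset.sum_congr rfl fun k _ => ?_
  rw [map_smul]

end poly

/-- **the Chern character in terms of Adams operations** -/
theorem chK_eq (hK : HasSplitting K P) (d : ℕ) (x : K) :
    KGr.chK P d x = algebraMap ℚ (KGr.Gr P) (P.aug x : ℚ) +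
      ∑ k ∈ Finset.Ico 1 (d + 1),
        ((1 : ℚ) / (k.factorial : ℚ)) • KGr.grK P (k : ℤ) (del P k x) := by
  unfold KGr.chK
  set c : Fin d → KGr.Gr P := fun i => KGr.chern P (i.1 + 1) x with hc
  rw [aeval_chPoly d c]
  -- identify the power sums
  have hee : ∀ j ≤ d, (fun k => psiC d c (Esym d k)) j = (fun k => KGr.chern P k x) j := by
    intro j hj
    rcases j with _ | j
    · beta_reduce; rw [psiC_Esym_zero, chern_zero]
    · have := psiC_Esym_succ d c ⟨j, by omega⟩
      exact this
  have hp : ∀ k, 1 ≤ k → k ≤ d → psiC d c (Psym d k) = KGr.grK P (k : ℤ) (del P k x) := by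
    apply NR_unique (fun k => KGr.chern P k x) _ _ (chern_zero P x) d
    · intro k _ hkd
      rw [← NR_congr _ _ _ k (fun j hj => hee j (hj.trans hkd))]
      exact NR_psiC d c k
    · intro k _ _
      exact NR_Gr P hK x k
  rw [Finset.range_eq_Ico, Finset.sum_eq_sum_Ico_succ_bot (Nat.succ_pos d), psiC_Psym_zero]
  have h1 : ∑ k ∈ Finset.Ico (0 + 1) (d + 1), ((1 : ℚ) / (k.factorial : ℚ)) • psiC d c (Psym d k) =
      ∑ k ∈ Finset.Ico 1 (d + 1), ((1 : ℚ) / (k.factorial : ℚ)) • KGr.grK P (k : ℤ) (del P k x) := by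
    refine Finset.sum_congr rfl fun k hk => ?_
    rw [Finset.mem_Ico] at hk
    rw [hp k (by omega) (by omega)]
  rw [h1, ← add_assoc]
  congr 1
  rw [map_sub, Nat.factorial_zero, Nat.cast_one, div_one, one_smul, map_natCast]
  ring

end Groth.Agent.Helper7.KGrS
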