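import Mathlib
import Groth.Agent.Helper7.KGrG

/-! # The Chern character is a rational isomorphism -/

set_option autoImplicit false
universe v

open scoped TensorProduct
open LambdaRing

namespace Groth.Agent.Helper7.KGrS

open Groth.Agent.Helper1.Lambda Groth.Agent.Helper4.AdamsGamma

variable {K : Type v} [CommRing K] [LambdaOps K] (P : PosStructure K)

lemma del_zero_eq (x : K) : del P 0 x = (P.aug x : K) := by
  unfold del
  simp [adams_zero_eq]

lemma del_zero_arg (k : ℕ) : del P k (0 : K) = 0 := by
  have := del_add P k (0 : K) 0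
  rw [add_zero] at this
  exact left_eq_add.mp this

lemma del_natCast_mul (k N : ℕ) (x : K) : del P k ((N : K) * x) = (N : K) * del P k x := by
  induction N with
  | zero => simp [del_zero_arg]
  | succ N ih =>
    have : ((N + 1 : ℕ) : K) * x = (N : K) * x + x := by push_cast; ring
    rw [this, del_add, ih]; push_cast; ring

/-- uniform formula for the Chern character -/
theorem chK_eq' (hK : HasSplitting K P) (d : ℕ) (x : K) :
    KGr.chK P d x = ∑ k ∈ Finset.range (d + 1),
        ((1 : ℚ) / (k.factorial : ℚ)) • KGr.grK P (k : ℤ) (del P k x) := by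
  rw [chK_eq P hK, Finset.range_eq_Ico, Finset.sum_eq_sum_Ico_succ_bot (Nat.succ_pos d)]
  congr 1
  rw [Nat.factorial_zero, Nat.cast_one, div_one, one_smul, del_zero_eq]
  exact (grK_intCast P (P.aug x)).symm

theorem chK_add (hK : HasSplitting K P) (d : ℕ) (x y : K) :
    KGr.chK P d (x + y) = KGr.chK P d x + KGr.chK P d y := by
  rw [chK_eq' P hK, chK_eq' P hK, chK_eq' P hK, ← Finset.sum_add_distrib]
  refine Finset.sum_congr rfl fun k _ => ?_
  rw [del_add, grK_add P k (mem_QFil_of_mem P (del_mem P hK x k))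
    (mem_QFil_of_mem P (del_mem P hK y k)), smul_add]

/-- the Chern character as an additive map -/
noncomputable def chHom (hK : HasSplitting K P) (d : ℕ) : K →+ KGr.Gr P where
  toFun := KGr.chK P d
  map_zero' := by
    have := chK_add P hK d 0 0
    rw [add_zero] at this
    exact left_eq_add.mp this
  map_add' := chK_add P hK d

/-- the rational Chern character -/
noncomputable def PhiQ (hK : HasSplitting K P) (d : ℕ) : ℚ ⊗[ℤ] K →ₗ[ℚ] KGr.Gr P :=
  LinearMap.liftBaseChange ℚ (chHom P hK d).toIntLinearMap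

lemma PhiQ_tmul (hK : HasSplitting K P) (d : ℕ) (q : ℚ) (x : K) :
    PhiQ P hK d (q ⊗ₜ[ℤ] x) = q • KGr.chK P d x := by
  unfold PhiQ
  rw [LinearMap.liftBaseChange_tmul]
  rfl

omit [LambdaOps K] in
/-- every element of `ℚ ⊗ K` is of the form `(1/N) ⊗ x` -/
lemma exists_tmul (w : ℚ ⊗[ℤ] K) : ∃ (N : ℕ) (_ : 1 ≤ N) (x : K), w = ((1 : ℚ) / (N : ℚ)) ⊗ₜ[ℤ] x := by
  induction w using TensorProduct.induction_on with
  | zero => exact ⟨1, le_refl _, 0, by simp⟩
  | tmul q x =>
    refine ⟨q.den, q.den_pos, (q.num : K) * x, ?_⟩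
    have h1 : q = (q.num : ℤ) • ((1 : ℚ) / (q.den : ℚ)) := by
      rw [zsmul_eq_mul, mul_one_div]
      exact (Rat.num_div_den q).symm
    conv_lhs => rw [h1]
    rw [TensorProduct.smul_tmul, zsmul_eq_mul]
  | add a b ha hb =>
    obtain ⟨N, hN, x, rfl⟩ := ha
    obtain ⟨M, hM, y, rfl⟩ := hb
    refine ⟨N * M, Nat.mul_pos hN hM, (M : K) * x + (N : K) * y, ?_⟩
    have hNq : (N : ℚ) ≠ 0 := by positivity
    have hMq : (M : ℚ) ≠ 0 := by positivity
    have h1 : ((1 : ℚ) / (N : ℚ)) = (M : ℤ) • ((1 : ℚ) / ((N * M : ℕ) : ℚ)) := by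
      rw [zsmul_eq_mul]; push_cast; field_simp
    have h2 : ((1 : ℚ) / (M : ℚ)) = (N : ℤ) • ((1 : ℚ) / ((N * M : ℕ) : ℚ)) := by
      rw [zsmul_eq_mul]; push_cast; field_simp
    conv_lhs => rw [h1, h2]
    rw [TensorProduct.smul_tmul, TensorProduct.smul_tmul, ← TensorProduct.tmul_add, zsmul_eq_mul,
      zsmul_eq_mul]
    push_cast
    rfl

/-- an element with vanishing Chern character lies in every `ℚF^n` -/
lemma mem_QFil_of_chK_eq_zero (hK : HasSplitting K P) (d : ℕ) (x : K)
    (h : KGr.chK P d x = 0) (n : ℕ) (hn : n ≤ d + 1) : x ∈ QFil P n := by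
  induction n with
  | zero => exact mem_QFil_of_mem P (by rw [filt_zero]; trivial)
  | succ n ih =>
    have hx := ih (by omega)
    rw [chK_eq' P hK] at h
    have h1 := mem_QFil_succ_of_sum_eq_zero P (Finset.range (d + 1))
      (fun k => (1 : ℚ) / (k.factorial : ℚ)) (fun k => del P k x)
      (fun j _ => mem_QFil_of_mem P (del_mem P hK x j)) h n
      (Finset.mem_range.mpr (by omega))
      (by
        have : (0 : ℚ) < (n.factorial : ℚ) := by exact_mod_cast n.factorial_pos
        positivity)
    obtain ⟨N, hN, hNx⟩ := hx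
    have h2 := del_sub_mem P hK n hNx
    rw [del_natCast_mul] at h2
    have h3 : (N : K) * del P n x ∈ QFil P (n + 1) := QFil_ideal P _ h1
    have h4 : ((n.factorial * N : ℕ) : K) * x ∈ QFil P (n + 1) := by
      have : ((n.factorial * N : ℕ) : K) * x =
          (N : K) * del P n x - ((N : K) * del P n x - (n.factorial : K) * ((N : K) * x)) := by
        push_cast; ring
      rw [this]
      exact sub_mem h3 (mem_QFil_of_mem P h2)
    obtain ⟨M, hM, hMx⟩ := h4
    refine ⟨M * (n.factorial * N), Nat.mul_pos hM (Nat.mul_pos n.factorial_pos hN), ?_⟩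
    have : ((M * (n.factorial * N) : ℕ) : K) * x = (M : K) * (((n.factorial * N : ℕ) : K) * x) := by
      push_cast; ring
    rwa [this]

theorem PhiQ_injective (hK : HasSplitting K P) (d : ℕ)
    (hd : gammaFiltration P (d + 1) = ⊥) : Function.Injective (PhiQ P hK d) := by
  rw [injective_iff_map_eq_zero]
  intro w hw
  obtain ⟨N, hN, x, rfl⟩ := exists_tmul w
  rw [PhiQ_tmul] at hw
  have hq : ((1 : ℚ) / (N : ℚ)) ≠ 0 := by
    have : (0 : ℚ) < N := by exact_mod_cast hN
    positivity
  have h0 : KGr.chK P d x = 0 := by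
    rcases smul_eq_zero.mp hw with h | h
    · exact absurd h hq
    · exact h
  obtain ⟨M, hM, hMx⟩ := mem_QFil_of_chK_eq_zero P hK d x h0 (d + 1) (le_refl _)
  rw [hd, AddSubgroup.mem_bot] at hMx
  have hMq : (M : ℚ) ≠ 0 := by
    have : (0 : ℚ) < M := by exact_mod_cast hM
    positivity
  have h1 : ((1 : ℚ) / (N : ℚ)) = (M : ℤ) • ((1 : ℚ) / ((N : ℚ) * (M : ℚ))) := by
    rw [zsmul_eq_mul]; push_cast; field_simp
  rw [h1, TensorProduct.smul_tmul, zsmul_eq_mul]
  push_cast
  rw [hMx, TensorProduct.tmul_zero]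

theorem PhiQ_surjective (hK : HasSplitting K P) (d : ℕ)
    (hd : gammaFiltration P (d + 1) = ⊥) : Function.Surjective (PhiQ P hK d) := by
  rw [← LinearMap.range_eq_top]
  apply gr_induction P
  -- downward induction
  have key : ∀ (j n : ℕ), d + 1 ≤ n + j → ∀ x : K, x ∈ gammaFiltration P n →
      KGr.grK P (n : ℤ) x ∈ LinearMap.range (PhiQ P hK d) := by
    intro j
    induction j with
    | zero =>
      intro n hn x hx
      have hx0 : x = 0 := by
        have := filt_anti P (show d + 1 ≤ n by omega) hx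
        rwa [hd, AddSubgroup.mem_bot] at this
      rw [hx0, grK_zero]
      exact zero_mem _
    | succ j ih =>
      intro n hn x hx
      by_cases hnd : d + 1 ≤ n
      · have hx0 : x = 0 := by
          have := filt_anti P hnd hx
          rwa [hd, AddSubgroup.mem_bot] at this
        rw [hx0, grK_zero]
        exact zero_mem _
      · have hnd' : n ≤ d := by omega
        set f : ℕ → KGr.Gr P := fun k =>
          ((1 : ℚ) / (k.factorial : ℚ)) • KGr.grK P (k : ℤ) (del P k x) with hf
        have hch : KGr.chK P d x = ∑ k ∈ Finset.range (d + 1), f k := chK_eq' P hK d x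
        have hmemch : KGr.chK P d x ∈ LinearMap.range (PhiQ P hK d) :=
          ⟨(1 : ℚ) ⊗ₜ[ℤ] x, by rw [PhiQ_tmul, one_smul]⟩
        have hn_mem : n ∈ Finset.range (d + 1) := Finset.mem_range.mpr (by omega)
        rw [← Finset.add_sum_erase _ _ hn_mem] at hch
        have hothers : ∑ k ∈ (Finset.range (d + 1)).erase n, f k ∈
            LinearMap.range (PhiQ P hK d) := by
          apply sum_mem
          intro k hk
          rw [Finset.mem_erase] at hk
          rcases lt_or_gt_of_ne hk.1 with hkn | hkn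
          · -- k < n : the class vanishes
            have : del P k x ∈ QFil P (k + 1) :=
              mem_QFil_of_mem P (filt_anti P (by omega) (del_mem_of_mem P hK n hx k))
            rw [hf]; beta_reduce
            rw [grK_eq_zero_of_mem P k this, smul_zero]
            exact zero_mem _
          · rw [hf]; beta_reduce
            exact Submodule.smul_mem _ _ (ih k (by omega) _ (del_mem P hK x k))
        have hfn : f n ∈ LinearMap.range (PhiQ P hK d) := by
          have : f n = KGr.chK P d x - ∑ k ∈ (Finset.range (d + 1)).erase n, f k := by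
            rw [hch]; ring
          rw [this]
          exact sub_mem hmemch hothers
        -- f n = grK n x
        have h1 : KGr.grK P (n : ℤ) (del P n x) = (n.factorial : ℚ) • KGr.grK P (n : ℤ) x := by
          have h2 : del P n x = (del P n x - (n.factorial : K) * x) + (n.factorial : K) * x := by ring
          rw [h2, grK_add P n
            (mem_QFil_of_mem P (filt_anti P (Nat.le_succ n) (del_sub_mem P hK n hx)))
            (QFil_ideal P _ (mem_QFil_of_mem P hx)),
            grK_eq_zero_of_mem P n (mem_QFil_of_mem P (del_sub_mem P hK n hx)), zero_add,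
            grK_natCast_mul P n _ (mem_QFil_of_mem P hx)]
        have h3 : f n = KGr.grK P (n : ℤ) x := by
          rw [hf]; beta_reduce
          rw [h1, smul_smul]
          have : (1 : ℚ) / (n.factorial : ℚ) * (n.factorial : ℚ) = 1 := by
            have : (n.factorial : ℚ) ≠ 0 := by exact_mod_cast n.factorial_ne_zero
            field_simp
          rw [this, one_smul]
        rwa [h3] at hfn
  intro n x hx
  exact key (d + 1) n (by omega) x hx

/-- **Main theorem**: the Chern character induces a bijection `ℚ ⊗ K ≃ ℚGr K` -/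
theorem main (hK : HasSplitting K P) (d : ℕ) (hd : gammaFiltration P (d + 1) = ⊥) :
    ∃ Φ : ℚ ⊗[ℤ] K →ₗ[ℚ] KGr.Gr P,
      (∀ x : K, Φ ((1 : ℚ) ⊗ₜ[ℤ] x) = KGr.chK P d x) ∧ Function.Bijective Φ :=
  ⟨PhiQ P hK d, fun x => by rw [PhiQ_tmul, one_smul],
    PhiQ_injective P hK d hd, PhiQ_surjective P hK d hd⟩

end Groth.Agent.Helper7.KGrS
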