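import Mathlib

/-! # Discrete Leibniz rule for finite differences at `0` in the binomial basis -/

set_option autoImplicit false

open Finset

namespace Groth.Agent.Helper7.KGrS

section

variable {R : Type*} [CommRing R]

/-- `k`-th finite difference at `0` of `f : ℕ → R` -/
def Dk (k : ℕ) (f : ℕ → R) : R :=
  ∑ m ∈ range (k + 1), (-1 : R) ^ (m + k) * f m * (k.choose m : R)

lemma Dk_eq_fwdDiff (k : ℕ) (f : ℕ → R) : Dk k f = (fwdDiff 1)^[k] f 0 := by
  rw [fwdDiff_iter_eq_sum_shift]
  unfold Dk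
  refine Finset.sum_congr rfl fun m hm => ?_
  have hm' : m ≤ k := Nat.lt_succ_iff.mp (Finset.mem_range.mp hm)
  have : (-1 : R) ^ (m + k) = (-1) ^ (k - m) := by
    have : m + k = (k - m) + 2 * m := by omega
    rw [this, pow_add, pow_mul]; simp
  rw [this, zsmul_eq_mul]
  simp only [zero_add, smul_eq_mul, mul_one]
  push_cast
  ring

/-- Gregory–Newton expansion -/
lemma eq_sum_Dk (f : ℕ → R) (m : ℕ) : f m = ∑ i ∈ range (m + 1), (m.choose i : R) * Dk i f := by
  have := shift_eq_sum_fwdDiff_iter (1 : ℕ) f m 0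
  simp only [zero_add, smul_eq_mul, mul_one] at this
  rw [this]
  refine Finset.sum_congr rfl fun i _ => ?_
  rw [Dk_eq_fwdDiff, nsmul_eq_mul]

lemma eq_sum_Dk' (f : ℕ → R) (m k : ℕ) (hmk : m ≤ k) :
    f m = ∑ i ∈ range (k + 1), (m.choose i : R) * Dk i f := by
  rw [eq_sum_Dk f m]
  apply Finset.sum_subset
  · intro i hi
    rw [Finset.mem_range] at *
    omega
  · intro i _ hi
    rw [Finset.mem_range] at hi
    rw [Nat.choose_eq_zero_of_lt (by omega)]
    simp

end

/-- structure constants of the product in the binomial basis -/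
def theta (k i j : ℕ) : ℤ :=
  ∑ m ∈ range (k + 1), (-1 : ℤ) ^ (m + k) * ((m.choose i : ℤ) * (m.choose j : ℤ)) * (k.choose m : ℤ)

lemma theta_eq_Dk (k i j : ℕ) :
    theta k i j = Dk k (fun m => ((m.choose i : ℤ) * (m.choose j : ℤ))) := rfl

/-- discrete Leibniz rule -/
theorem Dk_mul {R : Type*} [CommRing R] (f g : ℕ → R) (k : ℕ) :
    Dk k (fun m => f m * g m) =
      ∑ i ∈ range (k + 1), ∑ j ∈ range (k + 1), (theta k i j : R) * (Dk i f * Dk j g) := by
  have h1 : ∀ m ∈ range (k + 1), (-1 : R) ^ (m + k) * (f m * g m) * (k.choose m : R) =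
      ∑ i ∈ range (k + 1), ∑ j ∈ range (k + 1),
        ((-1 : R) ^ (m + k) * ((m.choose i : R) * (m.choose j : R)) * (k.choose m : R)) *
          (Dk i f * Dk j g) := by
    intro m hm
    have hm' : m ≤ k := Nat.lt_succ_iff.mp (Finset.mem_range.mp hm)
    rw [eq_sum_Dk' f m k hm', eq_sum_Dk' g m k hm', Finset.sum_mul_sum, Finset.mul_sum,
      Finset.sum_mul]
    refine Finset.sum_congr rfl fun i _ => ?_
    rw [Finset.mul_sum, Finset.sum_mul]
    refine Finset.sum_congr rfl fun j _ => ?_
    ring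
  unfold Dk
  rw [Finset.sum_congr rfl h1, Finset.sum_comm]
  refine Finset.sum_congr rfl fun i _ => ?_
  rw [Finset.sum_comm]
  refine Finset.sum_congr rfl fun j _ => ?_
  rw [← Finset.sum_mul]
  congr 1
  unfold theta
  push_cast
  rfl

lemma theta_rat (k i j : ℕ) :
    ((i.factorial : ℚ) * (j.factorial : ℚ)) * (theta k i j : ℚ) =
      (fwdDiff 1)^[k] (fun x : ℚ => Polynomial.eval x (descPochhammer ℚ i * descPochhammer ℚ j)) 0 := by
  rw [fwdDiff_iter_eq_sum_shift]
  unfold theta
  push_cast
  rw [Finset.mul_sum]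
  refine Finset.sum_congr rfl fun m hm => ?_
  have hm' : m ≤ k := Nat.lt_succ_iff.mp (Finset.mem_range.mp hm)
  have : (-1 : ℚ) ^ (m + k) = (-1) ^ (k - m) := by
    have : m + k = (k - m) + 2 * m := by omega
    rw [this, pow_add, pow_mul]; simp
  rw [this, zsmul_eq_mul]
  simp only [zero_add, nsmul_eq_mul, mul_one, Polynomial.eval_mul]
  rw [descPochhammer_eval_eq_descFactorial, descPochhammer_eval_eq_descFactorial,
    Nat.descFactorial_eq_factorial_mul_choose, Nat.descFactorial_eq_factorial_mul_choose]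
  push_cast
  ring

lemma natDegree_dP (i j : ℕ) :
    (descPochhammer ℚ i * descPochhammer ℚ j).natDegree = i + j := by
  rw [Polynomial.Monic.natDegree_mul (monic_descPochhammer ℚ i) (monic_descPochhammer ℚ j),
    descPochhammer_natDegree, descPochhammer_natDegree]

theorem theta_eq_zero {k i j : ℕ} (h : i + j < k) : theta k i j = 0 := by
  have h1 := theta_rat k i j
  rw [Polynomial.fwdDiff_iter_eq_zero_of_degree_lt (by rw [natDegree_dP]; exact h)] at h1
  have hi : (i.factorial : ℚ) ≠ 0 := by exact_mod_cast i.factorial_ne_zero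
  have hj : (j.factorial : ℚ) ≠ 0 := by exact_mod_cast j.factorial_ne_zero
  have : (theta k i j : ℚ) = 0 := by
    rcases mul_eq_zero.mp h1 with h2 | h2
    · exact absurd h2 (mul_ne_zero hi hj)
    · exact h2
  exact_mod_cast this

theorem theta_top (i j : ℕ) : theta (i + j) i j = ((i + j).choose i : ℤ) := by
  have h1 := theta_rat (i + j) i j
  have h2 := Polynomial.fwdDiff_iter_degree_eq_factorial (descPochhammer ℚ i * descPochhammer ℚ j)
  rw [natDegree_dP] at h2
  rw [h2] at h1
  have hmonic : (descPochhammer ℚ i * descPochhammer ℚ j).leadingCoeff = 1 :=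
    ((monic_descPochhammer ℚ i).mul (monic_descPochhammer ℚ j)).leadingCoeff
  rw [hmonic] at h1
  simp only [one_smul, Pi.natCast_apply] at h1
  have h3 := Nat.add_choose_mul_factorial_mul_factorial j i
  have h4 : ((i + j).choose i : ℚ) * (j.factorial : ℚ) * (i.factorial : ℚ) = ((i + j).factorial : ℚ) := by
    rw [add_comm j i] at h3
    exact_mod_cast h3
  have hi : (i.factorial : ℚ) ≠ 0 := by exact_mod_cast i.factorial_ne_zero
  have hj : (j.factorial : ℚ) ≠ 0 := by exact_mod_cast j.factorial_ne_zero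
  have : (theta (i + j) i j : ℚ) = ((i + j).choose i : ℚ) := by
    have h5 : (i.factorial : ℚ) * (j.factorial : ℚ) * (theta (i + j) i j : ℚ) =
        (i.factorial : ℚ) * (j.factorial : ℚ) * ((i + j).choose i : ℚ) := by
      rw [h1, ← h4]; ring
    exact mul_left_cancel₀ (mul_ne_zero hi hj) h5
  exact_mod_cast this

end Groth.Agent.Helper7.KGrS
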