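import Mathlib
import Groth.Agent.Helper7.KGrH
import Groth.Agent.Helper7.KGrI

/-! # The Chern character is multiplicative -/

set_option autoImplicit false
universe v

open scoped TensorProduct
open LambdaRing

namespace Groth.Agent.Helper7.KGrS

open Groth.Agent.Helper1.Lambda Groth.Agent.Helper4.AdamsGamma

variable {K : Type v} [CommRing K] [LambdaOps K] (P : PosStructure K)

lemma del_eq_Dk (k : ℕ) (x : K) : del P k x = Dk k (fun l => adams P l x) := rfl

/-- discrete Leibniz rule for `Δ^k ψ` -/
theorem del_mul (hK : HasSplitting K P) (k : ℕ) (x y : K) :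
    del P k (x * y) = ∑ i ∈ Finset.range (k + 1), ∑ j ∈ Finset.range (k + 1),
      (theta k i j : K) * (del P i x * del P j y) := by
  rw [del_eq_Dk]
  have : (fun l => adams P l (x * y)) = fun l => adams P l x * adams P l y := by
    funext l; exact adams_mul P hK l x y
  rw [this, Dk_mul]
  rfl

/-- the class of `Δ^k ψ(xy)` in degree `k` -/
theorem grK_del_mul (hK : HasSplitting K P) (k : ℕ) (x y : K) :
    KGr.grK P (k : ℤ) (del P k (x * y)) =
      ∑ i ∈ Finset.range (k + 1), ((k.choose i : ℕ) : ℚ) •
        (KGr.grK P (i : ℤ) (del P i x) * KGr.grK P ((k - i : ℕ) : ℤ) (del P (k - i) y)) := by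
  rw [del_mul P hK]
  have hterm : ∀ i j : ℕ, (theta k i j : K) * (del P i x * del P j y) ∈ QFil P k := by
    intro i j
    by_cases h : i + j < k
    · rw [theta_eq_zero h]; simp
    · apply QFil_ideal
      exact mem_QFil_of_mem P (filt_anti P (by omega) (mul_mem' P (del_mem P hK x i) (del_mem P hK y j)))
  rw [grK_sum P k _ _ (fun i _ => sum_mem fun j _ => hterm i j)]
  refine Finset.sum_congr rfl fun i hi => ?_
  have hi' : i ≤ k := Nat.lt_succ_iff.mp (Finset.mem_range.mp hi)
  rw [grK_sum P k _ _ (fun j _ => hterm i j)]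
  rw [Finset.sum_eq_single (k - i)]
  · have e : i + (k - i) = k := by omega
    have h1 : (theta k i (k - i) : K) = ((k.choose i : ℕ) : K) := by
      have := theta_top i (k - i)
      rw [e] at this
      rw [this]; push_cast; rfl
    rw [h1, grK_natCast_mul P k _
      (mem_QFil_of_mem P (filt_anti P (by omega) (mul_mem' P (del_mem P hK x i) (del_mem P hK y (k - i))))),
      grK_mul P i (k - i) (mem_QFil_of_mem P (del_mem P hK x i))
        (mem_QFil_of_mem P (del_mem P hK y (k - i))), e]
  · intro j _ hj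
    rcases lt_or_gt_of_ne hj with h | h
    · -- i + j < k
      rw [theta_eq_zero (by omega)]
      simp [grK_zero]
    · -- i + j > k
      apply grK_eq_zero_of_mem
      apply QFil_ideal
      exact mem_QFil_of_mem P (filt_anti P (by omega) (mul_mem' P (del_mem P hK x i) (del_mem P hK y j)))
  · intro h
    exact absurd (Finset.mem_range.mpr (by omega)) h

theorem chK_mul (hK : HasSplitting K P) (d : ℕ) (hd : gammaFiltration P (d + 1) = ⊥) (x y : K) :
    KGr.chK P d (x * y) = KGr.chK P d x * KGr.chK P d y := by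
  rw [chK_eq' P hK, chK_eq' P hK, chK_eq' P hK, Finset.sum_mul_sum]
  set a : ℕ → KGr.Gr P := fun i => KGr.grK P (i : ℤ) (del P i x) with ha
  set b : ℕ → KGr.Gr P := fun j => KGr.grK P (j : ℤ) (del P j y) with hb
  -- vanishing above degree d
  have hvan : ∀ i j : ℕ, d + 1 ≤ i + j → a i * b j = 0 := by
    intro i j hij
    rw [ha, hb]; beta_reduce
    rw [grK_mul P i j (mem_QFil_of_mem P (del_mem P hK x i)) (mem_QFil_of_mem P (del_mem P hK y j))]
    have : del P i x * del P j y = 0 := by
      have := filt_anti P hij (mul_mem' P (del_mem P hK x i) (del_mem P hK y j))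
      rwa [hd, AddSubgroup.mem_bot] at this
    rw [this, grK_zero]
  set g : ℕ → ℕ → KGr.Gr P := fun i j =>
    (((1 : ℚ) / (i.factorial : ℚ)) * ((1 : ℚ) / (j.factorial : ℚ))) • (a i * b j) with hg
  have hL : ∑ k ∈ Finset.range (d + 1),
      ((1 : ℚ) / (k.factorial : ℚ)) • KGr.grK P (k : ℤ) (del P k (x * y)) =
      ∑ k ∈ Finset.range (d + 1), ∑ i ∈ Finset.range (k + 1), g i (k - i) := by
    refine Finset.sum_congr rfl fun k _ => ?_
    rw [grK_del_mul P hK, Finset.smul_sum]
    refine Finset.sum_congr rfl fun i hi => ?_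
    have hi' : i ≤ k := Nat.lt_succ_iff.mp (Finset.mem_range.mp hi)
    rw [hg]; beta_reduce
    rw [smul_smul]
    congr 1
    rw [Nat.choose_eq_factorial_div_factorial hi']
    have h1 : (i.factorial * (k - i).factorial) ∣ k.factorial := Nat.factorial_mul_factorial_dvd_factorial hi'
    rw [Nat.cast_div h1 (by
      have : (i.factorial * (k - i).factorial : ℕ) ≠ 0 :=
        Nat.mul_ne_zero i.factorial_ne_zero (k - i).factorial_ne_zero
      exact_mod_cast this)]
    have hk0 : (k.factorial : ℚ) ≠ 0 := by exact_mod_cast k.factorial_ne_zero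
    have hi0 : (i.factorial : ℚ) ≠ 0 := by exact_mod_cast i.factorial_ne_zero
    have hki0 : ((k - i).factorial : ℚ) ≠ 0 := by exact_mod_cast (k - i).factorial_ne_zero
    push_cast
    field_simp
  have hR : ∑ i ∈ Finset.range (d + 1), ∑ j ∈ Finset.range (d + 1),
      (((1 : ℚ) / (i.factorial : ℚ)) • a i) * (((1 : ℚ) / (j.factorial : ℚ)) • b j) =
      ∑ i ∈ Finset.range (d + 1), ∑ j ∈ Finset.range (d + 1 - i), g i j := by
    refine Finset.sum_congr rfl fun i hi => ?_
    have hi' := Finset.mem_range.mp hi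
    have hsub : Finset.range (d + 1 - i) ⊆ Finset.range (d + 1) := by
      intro j hj; rw [Finset.mem_range] at *; omega
    rw [← Finset.sum_subset hsub]
    · refine Finset.sum_congr rfl fun j _ => ?_
      rw [hg]; beta_reduce
      rw [smul_mul_smul_comm]
    · intro j _ hj
      rw [Finset.mem_range] at hj
      rw [smul_mul_smul_comm, hvan i j (by omega), smul_zero]
  rw [hL, hR]
  exact Finset.sum_range_diag_flip (d + 1) g

theorem chK_one (hK : HasSplitting K P) (d : ℕ) : KGr.chK P d (1 : K) = 1 := by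
  rw [chK_eq P hK, map_one]
  have : ∑ k ∈ Finset.Ico 1 (d + 1),
      ((1 : ℚ) / (k.factorial : ℚ)) • KGr.grK P (k : ℤ) (del P k (1 : K)) = 0 := by
    apply Finset.sum_eq_zero
    intro k hk
    rw [Finset.mem_Ico] at hk
    rw [del_line P 1 (isLine_one P) k, sub_self, zero_pow (by omega), grK_zero, smul_zero]
  rw [this, add_zero, Int.cast_one, map_one]

end Groth.Agent.Helper7.KGrS
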