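import Mathlib

set_option autoImplicit false

/-!
# Derivations of power series rings over a perfect field of characteristic `p`

Every `k`-derivation `D : k[[σ]] → M` (σ finite, `k` perfect of characteristic `p`) satisfies
`D g = ∑ i, ∂ᵢ g • D (X i)`.
-/

namespace Groth.Agent.Helper7.KPS

open MvPowerSeries

section Coeff

variable {σ : Type*} {k : Type*} [CommRing k] (p : ℕ) [ExpChar k p]

theorem coeff_pow_char_smul (hp : p ≠ 0) (h : MvPowerSeries σ k) (m : σ →₀ ℕ) :
    coeff (p • m) (h ^ p) = (coeff m h) ^ p := by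
  rw [← map_frobenius_expand p hp, coeff_map, coeff_expand_smul, frobenius_def]

theorem coeff_pow_char_of_not_dvd (hp : p ≠ 0) (h : MvPowerSeries σ k) {m : σ →₀ ℕ} {i : σ}
    (hi : ¬ p ∣ m i) : coeff m (h ^ p) = 0 := by
  rw [← map_frobenius_expand p hp, coeff_map, coeff_expand_of_not_dvd p hp h hi, map_zero]

end Coeff

section Decomp

variable {σ : Type*} [Fintype σ] [DecidableEq σ] {k : Type*} [Field k] (p : ℕ) [Fact p.Prime]
  [CharP k p] [PerfectRing k p]

/-- the exponent attached to a residue vector -/
noncomputable def expo (a : σ → Fin p) : σ →₀ ℕ :=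
  Finsupp.equivFunOnFinite.symm (fun i => (a i : ℕ))

theorem expo_apply (a : σ → Fin p) (i : σ) : expo p a i = (a i : ℕ) := rfl

/-- the `p`-th root component of `g` at residue `a` -/
noncomputable def comp (a : σ → Fin p) (g : MvPowerSeries σ k) : MvPowerSeries σ k :=
  fun m => (frobeniusEquiv k p).symm (coeff (p • m + expo p a) g)

theorem coeff_comp (a : σ → Fin p) (g : MvPowerSeries σ k) (m : σ →₀ ℕ) :
    coeff m (comp p a g) = (frobeniusEquiv k p).symm (coeff (p • m + expo p a) g) := rfl

theorem decomp (g : MvPowerSeries σ k) :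
    g = ∑ a : σ → Fin p, monomial (expo p a) (1 : k) * (comp p a g) ^ p := by
  classical
  have hp : p ≠ 0 := (Fact.out : p.Prime).ne_zero
  have hpos : 0 < p := (Fact.out : p.Prime).pos
  haveI : ExpChar k p := ExpChar.prime Fact.out
  ext n
  rw [map_sum]
  let a₀ : σ → Fin p := fun i => ⟨n i % p, Nat.mod_lt _ hpos⟩
  let n₀ : σ →₀ ℕ := Finsupp.equivFunOnFinite.symm (fun i => n i / p)
  have hn : n = p • n₀ + expo p a₀ := by
    ext i
    show n i = p • (n i / p) + n i % p
    rw [smul_eq_mul]
    exact (Nat.div_add_mod _ _).symm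
  rw [Finset.sum_eq_single a₀]
  · rw [coeff_monomial_mul, one_mul, if_pos]
    · have h1 : n - expo p a₀ = p • n₀ := by
        conv_lhs => rw [hn]
        exact add_tsub_cancel_right _ _
      rw [h1, coeff_pow_char_smul p hp, coeff_comp, frobeniusEquiv_symm_pow_p, ← hn]
    · intro i
      show n i % p ≤ n i
      exact Nat.mod_le _ _
  · intro a _ ha
    rw [coeff_monomial_mul, one_mul]
    split_ifs with hle
    · obtain ⟨i, hi⟩ : ∃ i, a i ≠ a₀ i := by
        by_contra hcon
        push Not at hcon
        exact ha (funext hcon)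
      apply coeff_pow_char_of_not_dvd p hp _ (i := i)
      intro hdvd
      apply hi
      apply Fin.ext
      show (a i : ℕ) = n i % p
      have hle' : (a i : ℕ) ≤ n i := hle i
      have h2 : (n - expo p a) i = n i - (a i : ℕ) := rfl
      rw [h2] at hdvd
      have h3 : n i % p = (a i : ℕ) % p := by
        have := (Nat.modEq_of_dvd (a := (a i : ℕ)) (b := n i) (n := p) (by
          rw [← Nat.cast_sub hle']
          exact_mod_cast hdvd))
        exact this.symm
      rw [h3, Nat.mod_eq_of_lt (a i).2]
    · rfl
  · intro h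
    exact absurd (Finset.mem_univ _) h

end Decomp

section Deriv

variable {σ : Type*} {k : Type*} [CommRing k]
  {M : Type*} [AddCommGroup M] [Module k M] [Module (MvPowerSeries σ k) M]
  [IsScalarTower k (MvPowerSeries σ k) M]

theorem derivation_monomial_one_eq_zero (Δ : Derivation k (MvPowerSeries σ k) M)
    (hΔ : ∀ i, Δ (X i) = 0) (a : σ →₀ ℕ) : Δ (monomial a (1 : k)) = 0 := by
  classical
  induction a using Finsupp.induction_linear with
  | zero =>
    rw [monomial_zero_one]
    exact Δ.map_one_eq_zero
  | add f g hf hg =>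
    have : monomial (f + g) (1 : k) = monomial f 1 * monomial g 1 := by
      rw [monomial_mul_monomial, one_mul]
    rw [this, Derivation.leibniz, hf, hg, smul_zero, smul_zero, add_zero]
  | single i n =>
    rw [← X_pow_eq, Derivation.leibniz_pow, hΔ, smul_zero, smul_zero]

end Deriv

section Main

variable {σ : Type*} [Fintype σ] [DecidableEq σ] {k : Type*} [Field k] (p : ℕ) [Fact p.Prime]
  [CharP k p] [PerfectRing k p]
  {M : Type*} [AddCommGroup M] [Module k M] [Module (MvPowerSeries σ k) M]
  [IsScalarTower k (MvPowerSeries σ k) M]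

include p in
theorem derivation_eq_zero (Δ : Derivation k (MvPowerSeries σ k) M)
    (hΔ : ∀ i, Δ (X i) = 0) (g : MvPowerSeries σ k) : Δ g = 0 := by
  classical
  rw [decomp p g, map_sum]
  apply Finset.sum_eq_zero
  intro a _
  rw [Derivation.leibniz, derivation_monomial_one_eq_zero Δ hΔ, smul_zero, add_zero,
    Derivation.leibniz_pow]
  have : (p : ℕ) • (comp p a g ^ (p - 1) • Δ (comp p a g)) = 0 := by
    rw [← Nat.cast_smul_eq_nsmul k, CharP.cast_eq_zero, zero_smul]
  rw [this, smul_zero]

include p in
theorem derivation_eq_sum (D : Derivation k (MvPowerSeries σ k) M) (g : MvPowerSeries σ k) :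
    D g = ∑ i, pderiv k i g • D (X i) := by
  classical
  let Δ : Derivation k (MvPowerSeries σ k) M :=
    D - ∑ i, (LinearMap.toSpanSingleton (MvPowerSeries σ k) M (D (X i))).compDer (pderiv k i)
  have hΔapp : ∀ h, Δ h = D h - ∑ i, pderiv k i h • D (X i) := by
    intro h
    show (D - ∑ i, (LinearMap.toSpanSingleton (MvPowerSeries σ k) M (D (X i))).compDer
      (pderiv k i)) h = _
    rw [Derivation.sub_apply]
    congr 1
    have := map_sum (Derivation.coeFnAddMonoidHom (R := k) (A := MvPowerSeries σ k) (M := M))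
      (fun i => (LinearMap.toSpanSingleton (MvPowerSeries σ k) M (D (X i))).compDer (pderiv k i))
      Finset.univ
    have h2 := congrFun this h
    rw [Derivation.coeFnAddMonoidHom_apply, Finset.sum_apply] at h2
    exact h2
  have hΔ : ∀ j, Δ (X j) = 0 := by
    intro j
    rw [hΔapp, Finset.sum_eq_single j]
    · rw [pderiv_X_self, one_smul, sub_self]
    · intro i _ hij
      rw [pderiv_X_of_ne (Ne.symm hij), zero_smul]
    · intro h
      exact absurd (Finset.mem_univ _) h
  have := derivation_eq_zero p Δ hΔ g
  rw [hΔapp, sub_eq_zero] at this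
  exact this

end Main

end Groth.Agent.Helper7.KPS
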