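import Mathlib
import Groth.Agent.Helper7.KPSA

set_option autoImplicit false

/-!
# Kähler differentials of a hypersurface in a power series ring (perfect field, char `p`)

`Ω[R₀⁄k]` is the cokernel of `R₀ → R₀^σ, 1 ↦ (∂ᵢ f)`.
-/

namespace Groth.Agent.Helper7.KPS

open MvPowerSeries

section QuotDer

variable {k P : Type*} [CommRing k] [CommRing P] [Algebra k P] (I : Ideal P)
  {C : Type*} [AddCommGroup C] [Module k C] [Module P C] [Module (P ⧸ I) C]
  [IsScalarTower k P C] [IsScalarTower P (P ⧸ I) C] [IsScalarTower k (P ⧸ I) C]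

/-- underlying function of the induced derivation on the quotient -/
noncomputable def quotDerFun (d : Derivation k P C) (x : P ⧸ I) : C :=
  d (Function.surjInv Ideal.Quotient.mk_surjective x)

theorem quotDerFun_mk (d : Derivation k P C) (h : ∀ g ∈ I, d g = 0) (g : P) :
    quotDerFun I d (Ideal.Quotient.mk I g) = d g := by
  unfold quotDerFun
  have h1 : Ideal.Quotient.mk I (Function.surjInv Ideal.Quotient.mk_surjective
      (Ideal.Quotient.mk I g)) = Ideal.Quotient.mk I g :=
    Function.surjInv_eq _ _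
  have h2 : Function.surjInv Ideal.Quotient.mk_surjective (Ideal.Quotient.mk I g) - g ∈ I := by
    rw [← Ideal.Quotient.eq_zero_iff_mem, map_sub, h1, sub_self]
  have h3 := h _ h2
  rw [map_sub, sub_eq_zero] at h3
  exact h3

/-- a derivation vanishing on `I` descends to `P ⧸ I` -/
noncomputable def quotDer (d : Derivation k P C) (h : ∀ g ∈ I, d g = 0) :
    Derivation k (P ⧸ I) C where
  toFun := quotDerFun I d
  map_add' x y := by
    obtain ⟨a, rfl⟩ := Ideal.Quotient.mk_surjective x
    obtain ⟨b, rfl⟩ := Ideal.Quotient.mk_surjective y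
    rw [← map_add, quotDerFun_mk I d h, quotDerFun_mk I d h, quotDerFun_mk I d h, map_add]
  map_smul' c x := by
    obtain ⟨a, rfl⟩ := Ideal.Quotient.mk_surjective x
    have : c • Ideal.Quotient.mk I a = Ideal.Quotient.mk I (c • a) := by
      rw [← Ideal.Quotient.mkₐ_eq_mk k, ← map_smul]
    rw [this, quotDerFun_mk I d h, quotDerFun_mk I d h, Derivation.map_smul]
    rfl
  map_one_eq_zero' := by
    show quotDerFun I d 1 = 0
    rw [← map_one (Ideal.Quotient.mk I), quotDerFun_mk I d h, Derivation.map_one_eq_zero]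
  leibniz' x y := by
    obtain ⟨a, rfl⟩ := Ideal.Quotient.mk_surjective x
    obtain ⟨b, rfl⟩ := Ideal.Quotient.mk_surjective y
    show quotDerFun I d (_ * _) = _ • quotDerFun I d _ + _ • quotDerFun I d _
    rw [← map_mul, quotDerFun_mk I d h, quotDerFun_mk I d h, quotDerFun_mk I d h,
      Derivation.leibniz, ← Ideal.Quotient.algebraMap_eq, algebraMap_smul, algebraMap_smul]

theorem quotDer_mk (d : Derivation k P C) (h : ∀ g ∈ I, d g = 0) (g : P) :
    quotDer I d h (Ideal.Quotient.mk I g) = d g :=
  quotDerFun_mk I d h g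

end QuotDer

section Pres

variable {σ : Type*} [Fintype σ] [DecidableEq σ] {k : Type*} [Field k] (p : ℕ) [Fact p.Prime]
  [CharP k p] [PerfectRing k p] (f : MvPowerSeries σ k)

/-- the vector of partial derivatives of `f` modulo `f` -/
noncomputable def jac : σ → (MvPowerSeries σ k ⧸ Ideal.span {f}) :=
  fun i => Ideal.Quotient.mk _ (pderiv k i f)

/-- the classes of `d xᵢ` -/
noncomputable def dX (i : σ) : Ω[(MvPowerSeries σ k ⧸ Ideal.span {f})⁄k] :=
  KaehlerDifferential.D k _ (Ideal.Quotient.mk _ (X i))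

/-- `R₀^σ → Ω`, `eᵢ ↦ d xᵢ` -/
noncomputable def qmap : (σ → (MvPowerSeries σ k ⧸ Ideal.span {f})) →ₗ[MvPowerSeries σ k ⧸ Ideal.span {f}]
    Ω[(MvPowerSeries σ k ⧸ Ideal.span {f})⁄k] :=
  Fintype.linearCombination _ (dX f)

include p in
theorem D_mk (g : MvPowerSeries σ k) :
    KaehlerDifferential.D k (MvPowerSeries σ k ⧸ Ideal.span {f}) (Ideal.Quotient.mk _ g) =
      ∑ i, Ideal.Quotient.mk (Ideal.span {f}) (pderiv k i g) • dX f i := by
  have := derivation_eq_sum p ((KaehlerDifferential.D k
    (MvPowerSeries σ k ⧸ Ideal.span {f})).compAlgebraMap (MvPowerSeries σ k)) g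
  rw [Derivation.compAlgebraMap_apply] at this
  rw [Ideal.Quotient.algebraMap_eq] at this
  rw [this]
  apply Finset.sum_congr rfl
  intro i _
  rw [Derivation.compAlgebraMap_apply, ← algebraMap_smul (MvPowerSeries σ k ⧸ Ideal.span {f})]
  rfl

include p in
theorem qmap_jac : qmap f (jac f) = 0 := by
  unfold qmap
  rw [Fintype.linearCombination_apply]
  have := D_mk p f f
  unfold jac
  rw [← this, Ideal.Quotient.eq_zero_iff_mem.2 (Ideal.mem_span_singleton_self f), map_zero]

include p in
theorem qmap_surjective : Function.Surjective (qmap f) := by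
  rw [← LinearMap.range_eq_top, eq_top_iff, ← KaehlerDifferential.span_range_derivation,
    Submodule.span_le]
  rintro _ ⟨x, rfl⟩
  obtain ⟨g, rfl⟩ := Ideal.Quotient.mk_surjective x
  refine ⟨fun i => Ideal.Quotient.mk _ (pderiv k i g), ?_⟩
  unfold qmap
  rw [Fintype.linearCombination_apply, D_mk p f g]

end Pres

end Groth.Agent.Helper7.KPS
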