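import Mathlib
import Groth.Agent.Helper7.KPSB

set_option autoImplicit false

/-!
# The kernel of `R₀^σ → Ω[R₀⁄k]` is spanned by the Jacobian vector
-/

namespace Groth.Agent.Helper7.KPS

open MvPowerSeries

section Pres

variable {σ : Type*} [Fintype σ] [DecidableEq σ] {k : Type*} [Field k] (p : ℕ) [Fact p.Prime]
  [CharP k p] [PerfectRing k p] (f : MvPowerSeries σ k)

/-- the cokernel of the Jacobian vector -/
abbrev Cok : Type _ :=
  (σ → (MvPowerSeries σ k ⧸ Ideal.span {f})) ⧸
    Submodule.span (MvPowerSeries σ k ⧸ Ideal.span {f}) {jac f}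

/-- the class of the `i`-th basis vector -/
noncomputable def cvec (i : σ) : Cok f := Submodule.Quotient.mk (Pi.single i 1)

/-- the derivation `g ↦ [(∂ᵢ g)]` into the cokernel -/
noncomputable def d₁ : Derivation k (MvPowerSeries σ k) (Cok f) :=
  ∑ i, (LinearMap.toSpanSingleton (MvPowerSeries σ k) (Cok f) (cvec f i)).compDer (pderiv k i)

theorem d₁_apply (g : MvPowerSeries σ k) : d₁ f g = ∑ i, pderiv k i g • cvec f i := by
  unfold d₁
  have := map_sum (Derivation.coeFnAddMonoidHom (R := k) (A := MvPowerSeries σ k) (M := Cok f))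
    (fun i => (LinearMap.toSpanSingleton (MvPowerSeries σ k) (Cok f) (cvec f i)).compDer
      (pderiv k i)) Finset.univ
  have h2 := congrFun this g
  rw [Derivation.coeFnAddMonoidHom_apply, Finset.sum_apply] at h2
  exact h2

theorem d₁_apply' (g : MvPowerSeries σ k) :
    d₁ f g = Submodule.Quotient.mk (fun i => Ideal.Quotient.mk (Ideal.span {f}) (pderiv k i g)) := by
  rw [d₁_apply]
  have h1 : (fun i => Ideal.Quotient.mk (Ideal.span {f}) (pderiv k i g)) =
      ∑ i, Ideal.Quotient.mk (Ideal.span {f}) (pderiv k i g) •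
        (Pi.single i 1 : σ → (MvPowerSeries σ k ⧸ Ideal.span {f})) := by
    funext j
    rw [Finset.sum_apply, Finset.sum_eq_single j]
    · rw [Pi.smul_apply, Pi.single_eq_same, smul_eq_mul, mul_one]
    · intro i _ hij
      rw [Pi.smul_apply, Pi.single_eq_of_ne (Ne.symm hij), smul_zero]
    · intro h
      exact absurd (Finset.mem_univ _) h
  rw [h1]
  have h2 : (Submodule.Quotient.mk (∑ i, Ideal.Quotient.mk (Ideal.span {f}) (pderiv k i g) •
        (Pi.single i 1 : σ → (MvPowerSeries σ k ⧸ Ideal.span {f}))) : Cok f) =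
      ∑ i, Ideal.Quotient.mk (Ideal.span {f}) (pderiv k i g) • cvec f i := by
    rw [← Submodule.mkQ_apply, map_sum]
    rfl
  rw [h2]
  apply Finset.sum_congr rfl
  intro i _
  rw [← Ideal.Quotient.algebraMap_eq, algebraMap_smul]

theorem mk_f_smul (c : Cok f) : f • c = 0 := by
  rw [← algebraMap_smul (MvPowerSeries σ k ⧸ Ideal.span {f}), Ideal.Quotient.algebraMap_eq,
    Ideal.Quotient.eq_zero_iff_mem.2 (Ideal.mem_span_singleton_self f)]
  exact zero_smul (MvPowerSeries σ k ⧸ Ideal.span {f}) c

theorem d₁_f : d₁ f f = 0 := by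
  rw [d₁_apply', Submodule.Quotient.mk_eq_zero]
  exact Submodule.mem_span_singleton_self _

theorem d₁_vanish (g : MvPowerSeries σ k) (hg : g ∈ Ideal.span {f}) : d₁ f g = 0 := by
  obtain ⟨h, rfl⟩ := Ideal.mem_span_singleton.1 hg
  rw [Derivation.leibniz, mk_f_smul, d₁_f, smul_zero, add_zero]

/-- the induced derivation on the quotient -/
noncomputable def dC : Derivation k (MvPowerSeries σ k ⧸ Ideal.span {f}) (Cok f) :=
  quotDer (Ideal.span {f}) (d₁ f) (d₁_vanish f)

theorem dC_mk (g : MvPowerSeries σ k) : dC f (Ideal.Quotient.mk _ g) = d₁ f g :=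
  quotDer_mk _ _ _ g

theorem lift_comp_qmap :
    (dC f).liftKaehlerDifferential ∘ₗ qmap f =
      Submodule.mkQ (Submodule.span (MvPowerSeries σ k ⧸ Ideal.span {f}) {jac f}) := by
  apply LinearMap.pi_ext
  intro i x
  have hx : (Pi.single i x : σ → (MvPowerSeries σ k ⧸ Ideal.span {f})) = x • Pi.single i 1 := by
    funext j
    rw [Pi.smul_apply]
    by_cases hj : j = i
    · subst hj
      rw [Pi.single_eq_same, Pi.single_eq_same, smul_eq_mul, mul_one]
    · rw [Pi.single_eq_of_ne hj, Pi.single_eq_of_ne hj, smul_zero]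
  rw [hx, map_smul, map_smul]
  congr 1
  rw [LinearMap.comp_apply]
  unfold qmap
  rw [Fintype.linearCombination_apply_single, one_smul]
  unfold dX
  rw [Derivation.liftKaehlerDifferential_comp_D, dC_mk, d₁_apply, Finset.sum_eq_single i]
  · rw [pderiv_X_self, one_smul]
    rfl
  · intro j _ hji
    rw [pderiv_X_of_ne (Ne.symm hji), zero_smul]
  · intro h
    exact absurd (Finset.mem_univ _) h

include p in
theorem ker_qmap : LinearMap.ker (qmap f) =
    Submodule.span (MvPowerSeries σ k ⧸ Ideal.span {f}) {jac f} := by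
  apply le_antisymm
  · intro x hx
    rw [LinearMap.mem_ker] at hx
    have h1 : ((dC f).liftKaehlerDifferential ∘ₗ qmap f) x = 0 := by
      rw [LinearMap.comp_apply, hx, map_zero]
    rw [lift_comp_qmap, Submodule.mkQ_apply, Submodule.Quotient.mk_eq_zero] at h1
    exact h1
  · rw [Submodule.span_le, Set.singleton_subset_iff]
    exact qmap_jac p f

end Pres

end Groth.Agent.Helper7.KPS
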