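import Mathlib
import Groth.Agent.Helper7.MonExtA

set_option autoImplicit false

/-!
# `Ext` of a module with a presentation `0 → R → Rⁿ → M → 0`
-/

namespace Groth.Agent.Helper7.KPS

open CategoryTheory Abelian Function
open Groth.Agent.Helper7.ExtDu Groth.Agent.Helper7.MonExt

universe u

variable {R : Type u} [CommRing R] {M : Type u} [AddCommGroup M] [Module R M] {n : ℕ}
  (v : Fin n → R) (q : (Fin n → R) →ₗ[R] M)

/-- the short complex `R → Rⁿ → M` -/
noncomputable def presSC (hker : LinearMap.ker q = Submodule.span R {v}) :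
    ShortComplex (ModuleCat.{u} R) :=
  ShortComplex.mk (ModuleCat.ofHom (LinearMap.toSpanSingleton R (Fin n → R) v))
    (ModuleCat.ofHom q) (by
      apply ModuleCat.hom_ext
      apply LinearMap.ext
      intro r
      show q (LinearMap.toSpanSingleton R (Fin n → R) v r) = 0
      rw [← LinearMap.mem_ker, hker, LinearMap.toSpanSingleton_apply]
      exact Submodule.smul_mem _ _ (Submodule.mem_span_singleton_self v))

theorem presSC_shortExact (hker : LinearMap.ker q = Submodule.span R {v})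
    (hv : Injective (fun r : R => r • v)) (hq : Surjective q) :
    (presSC v q hker).ShortExact := by
  refine ShortComplex.ShortExact.mk' ?_ ?_ ?_
  · rw [ShortComplex.ShortExact.moduleCat_exact_iff_function_exact]
    intro (y : Fin n → R)
    show q y = 0 ↔ _
    rw [← LinearMap.mem_ker, hker, Submodule.mem_span_singleton]
    constructor
    · rintro ⟨r, hr⟩
      exact ⟨r, hr⟩
    · rintro ⟨r, hr⟩
      exact ⟨r, hr⟩
  · exact (ModuleCat.mono_iff_injective _).mpr hv
  · exact (ModuleCat.epi_iff_surjective _).mpr hq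

theorem ext_two_subsingleton (hker : LinearMap.ker q = Submodule.span R {v})
    (hv : Injective (fun r : R => r • v)) (hq : Surjective q) :
    Subsingleton (Ext (ModuleCat.of R M) (ModuleCat.of R R) 2) := by
  have hS := presSC_shortExact v q hker hv hq
  haveI : Projective (ModuleCat.of R R) := (IsProjective.iff_projective _).1 inferInstance
  haveI : Projective (ModuleCat.of R (Fin n → R)) :=
    (IsProjective.iff_projective _).1 inferInstance
  refine ⟨fun a b => ?_⟩
  have key : ∀ x₃ : Ext (ModuleCat.of R M) (ModuleCat.of R R) 2, x₃ = 0 := by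
    intro x₃
    obtain ⟨x₁, hx₁⟩ := Ext.contravariant_sequence_exact₃ hS (ModuleCat.of R R) x₃
      (Ext.eq_zero_of_projective (P := ModuleCat.of R (Fin n → R)) _) (rfl : 1 + 1 = 2)
    have h0 : x₁ = 0 := Ext.eq_zero_of_projective (P := ModuleCat.of R R) x₁
    rw [← hx₁, h0, Ext.comp_zero]
    rfl
  rw [key a, key b]

theorem ext_one_equiv (hker : LinearMap.ker q = Submodule.span R {v})
    (hv : Injective (fun r : R => r • v)) (hq : Surjective q) :
    Nonempty (Ext (ModuleCat.of R M) (ModuleCat.of R R) 1 ≃ₗ[R]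
      (R ⧸ Ideal.span (Set.range v))) := by
  have hS := presSC_shortExact v q hker hv hq
  haveI : Projective (ModuleCat.of R (Fin n → R)) :=
    (IsProjective.iff_projective _).1 inferInstance
  let fM : ModuleCat.of R R ⟶ ModuleCat.of R (Fin n → R) :=
    ModuleCat.ofHom (LinearMap.toSpanSingleton R (Fin n → R) v)
  let δ : Ext (ModuleCat.of R R) (ModuleCat.of R R) 0 →ₗ[R]
      Ext (ModuleCat.of R M) (ModuleCat.of R R) 1 :=
    hS.extClass.precompOfLinear R (ModuleCat.of R R) (add_zero 1)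
  let f' : Ext (ModuleCat.of R (Fin n → R)) (ModuleCat.of R R) 0 →ₗ[R]
      Ext (ModuleCat.of R R) (ModuleCat.of R R) 0 :=
    (Ext.mk₀ fM).precompOfLinear R (ModuleCat.of R R) (zero_add 0)
  have hδsurj : Surjective δ := by
    intro x₃
    obtain ⟨x₁, hx₁⟩ := Ext.contravariant_sequence_exact₃ hS (ModuleCat.of R R) x₃
      (Ext.eq_zero_of_projective (P := ModuleCat.of R (Fin n → R)) _) (add_zero 1)
    exact ⟨x₁, hx₁⟩
  have hkerδ : LinearMap.ker δ = LinearMap.range f' := by
    ext x₁
    rw [LinearMap.mem_ker, LinearMap.mem_range]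
    constructor
    · intro hx₁
      obtain ⟨x₂, hx₂⟩ := Ext.contravariant_sequence_exact₁ hS (ModuleCat.of R R) x₁
        (add_zero 1) hx₁
      exact ⟨x₂, hx₂⟩
    · rintro ⟨x₂, rfl⟩
      exact hS.extClass_comp_assoc x₂ (h := add_zero 1)
  have hf'mk : ∀ φ : (Fin n → R) →ₗ[R] R, f' (Ext.mk₀ (ModuleCat.ofHom φ)) =
      Ext.mk₀ (fM ≫ ModuleCat.ofHom φ) := by
    intro φ
    show (Ext.mk₀ fM).comp (Ext.mk₀ (ModuleCat.ofHom φ)) (zero_add 0) = _
    rw [Ext.mk₀_comp_mk₀]
  let ε : Ext (ModuleCat.of R R) (ModuleCat.of R R) 0 ≃ₗ[R] R :=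
    (ext0Equiv (ModuleCat.of R R) (ModuleCat.of R R)).trans
      (LinearMap.ringLmapEquivSelf R R R)
  have hε : ∀ φ : (Fin n → R) →ₗ[R] R, ε (f' (Ext.mk₀ (ModuleCat.ofHom φ))) = φ v := by
    intro φ
    rw [hf'mk]
    show (LinearMap.ringLmapEquivSelf R R R)
      (ext0Equiv (ModuleCat.of R R) (ModuleCat.of R R) (Ext.mk₀ _)) = _
    rw [ext0Equiv_mk₀]
    show (LinearMap.ringLmapEquivSelf R R R)
      (φ.comp (LinearMap.toSpanSingleton R (Fin n → R) v)) = _
    rw [LinearMap.ringLmapEquivSelf_apply, LinearMap.comp_apply,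
      LinearMap.toSpanSingleton_apply, one_smul]
  have hmap : Submodule.map (ε : _ →ₗ[R] R) (LinearMap.ker δ) = Ideal.span (Set.range v) := by
    rw [hkerδ]
    ext r
    rw [Submodule.mem_map]
    constructor
    · rintro ⟨_, ⟨x₂, rfl⟩, rfl⟩
      obtain ⟨φ, rfl⟩ : ∃ φ : (Fin n → R) →ₗ[R] R, x₂ = Ext.mk₀ (ModuleCat.ofHom φ) := by
        refine ⟨ext0Equiv (ModuleCat.of R (Fin n → R)) (ModuleCat.of R R) x₂, ?_⟩
        apply (ext0Equiv (ModuleCat.of R (Fin n → R)) (ModuleCat.of R R)).injective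
        rw [ext0Equiv_mk₀]
        rfl
      have h1 : (ε : _ →ₗ[R] R) (f' (Ext.mk₀ (ModuleCat.ofHom φ))) = φ v := hε φ
      rw [h1]
      have h2 : v = ∑ i, v i • (Pi.single i 1 : Fin n → R) := by
        funext j
        rw [Finset.sum_apply, Finset.sum_eq_single j]
        · rw [Pi.smul_apply, Pi.single_eq_same, smul_eq_mul, mul_one]
        · intro i _ hij
          rw [Pi.smul_apply, Pi.single_eq_of_ne (Ne.symm hij), smul_zero]
        · intro h
          exact absurd (Finset.mem_univ _) h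
      have h3 : φ v = ∑ i, v i * φ (Pi.single i 1) := by
        conv_lhs => rw [h2]
        rw [map_sum]
        apply Finset.sum_congr rfl
        intro i _
        rw [map_smul, smul_eq_mul]
      rw [h3]
      apply Ideal.sum_mem
      intro i _
      exact Ideal.mul_mem_right _ _ (Ideal.subset_span ⟨i, rfl⟩)
    · intro hr
      induction hr using Submodule.span_induction with
      | mem x hx =>
        obtain ⟨i, rfl⟩ := hx
        exact ⟨f' (Ext.mk₀ (ModuleCat.ofHom (LinearMap.proj i))), ⟨_, rfl⟩, hε _⟩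
      | zero => exact ⟨0, ⟨0, map_zero _⟩, map_zero _⟩
      | add x y _ _ hx hy =>
        obtain ⟨_, ⟨a, rfl⟩, rfl⟩ := hx
        obtain ⟨_, ⟨b, rfl⟩, rfl⟩ := hy
        exact ⟨f' (a + b), ⟨_, rfl⟩, by rw [map_add, map_add]⟩
      | smul c x _ hx =>
        obtain ⟨_, ⟨a, rfl⟩, rfl⟩ := hx
        exact ⟨f' (c • a), ⟨_, rfl⟩, by rw [map_smul, map_smul]⟩
  exact ⟨(LinearMap.quotKerEquivOfSurjective δ hδsurj).symm.trans
    (Submodule.Quotient.equiv _ _ ε hmap)⟩

end Groth.Agent.Helper7.KPS
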