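import Mathlib
import Groth.Agent.Helper7.KPSC

set_option autoImplicit false

/-!
# The Jacobian ideal, and regularity of the Jacobian vector for isolated singularities
-/

namespace Groth.Agent.Helper7.KPS

open MvPowerSeries

section Jac

variable {σ : Type*} [Fintype σ] [DecidableEq σ] {k : Type*} [Field k] (p : ℕ) [Fact p.Prime]
  [CharP k p] [PerfectRing k p] (f : MvPowerSeries σ k)

include p in
theorem jacobian_ideal_eq :
    Ideal.span {g | ∃ D : Derivation k (MvPowerSeries σ k) (MvPowerSeries σ k), g = D f} =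
      Ideal.span (Set.range fun i => pderiv k i f) := by
  apply le_antisymm
  · rw [Ideal.span_le]
    rintro _ ⟨D, rfl⟩
    rw [derivation_eq_sum p D f]
    apply Ideal.sum_mem
    intro i _
    rw [smul_eq_mul]
    exact Ideal.mul_mem_right _ _ (Ideal.subset_span ⟨i, rfl⟩)
  · rw [Ideal.span_le]
    rintro _ ⟨i, rfl⟩
    exact Ideal.subset_span ⟨pderiv k i, rfl⟩

end Jac

section Reg

variable {σ : Type*} {k : Type*} [Field k]

theorem X_pow_dvd_of_dvd_mul_X_pow {s t : σ} (hst : s ≠ t) {n n' : ℕ} {b : MvPowerSeries σ k}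
    (h : (X s : MvPowerSeries σ k) ^ n ∣ b * X t ^ n') : (X s : MvPowerSeries σ k) ^ n ∣ b := by
  classical
  rw [X_pow_dvd_iff] at h ⊢
  intro m hm
  have h1 := h (m + Finsupp.single t n') (by
    rw [Finsupp.add_apply, Finsupp.single_eq_of_ne hst, add_zero]
    exact hm)
  rw [X_pow_eq, coeff_add_mul_monomial, mul_one] at h1
  exact h1

theorem X_mem_maximalIdeal (s : σ) :
    (X s : MvPowerSeries σ k) ∈ IsLocalRing.maximalIdeal (MvPowerSeries σ k) := by
  rw [IsLocalRing.mem_maximalIdeal, mem_nonunits_iff, isUnit_iff_constantCoeff, constantCoeff_X]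
  exact not_isUnit_zero

/-- if `a` times a power of the maximal ideal lies in `(f)`, `f ≠ 0`, then `a ∈ (f)`
(at least two variables) -/
theorem mem_span_of_mul_pow_le {s t : σ} (hst : s ≠ t) {f a : MvPowerSeries σ k} (hf : f ≠ 0)
    {N : ℕ} (h : ∀ x ∈ IsLocalRing.maximalIdeal (MvPowerSeries σ k) ^ N, a * x ∈ Ideal.span {f}) :
    a ∈ Ideal.span {f} := by
  have h1 := h _ (Ideal.pow_mem_pow (X_mem_maximalIdeal s) N)
  have h2 := h _ (Ideal.pow_mem_pow (X_mem_maximalIdeal t) N)
  obtain ⟨b, hb⟩ := Ideal.mem_span_singleton.1 h1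
  obtain ⟨c, hc⟩ := Ideal.mem_span_singleton.1 h2
  have h3 : b * X t ^ N = c * X s ^ N := by
    apply mul_left_cancel₀ hf
    rw [← mul_assoc, ← hb, ← mul_assoc, ← hc]
    ring
  have h4 : (X s : MvPowerSeries σ k) ^ N ∣ b :=
    X_pow_dvd_of_dvd_mul_X_pow hst ⟨c, by rw [h3]; ring⟩
  obtain ⟨b', rfl⟩ := h4
  have hXne : (X s : MvPowerSeries σ k) ^ N ≠ 0 := by
    classical
    intro h0
    have := congrArg (coeff (Finsupp.single s N)) h0
    rw [X_pow_eq, coeff_monomial_same, map_zero] at this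
    exact one_ne_zero this
  have h5 : a = f * b' := by
    apply mul_right_cancel₀ hXne
    rw [hb]
    ring
  rw [h5]
  exact Ideal.mul_mem_right _ _ (Ideal.mem_span_singleton_self f)

end Reg

end Groth.Agent.Helper7.KPS
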