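import Mathlib
import Groth.Agent.Helper7.KPSD
import Groth.Agent.Helper7.KPSE

set_option autoImplicit false

/-!
# `Ext` groups of the Kähler differentials of an isolated hypersurface singularity
in a power series ring over a perfect field of characteristic `p`
-/

namespace Groth.Agent.Helper7.KPS

open MvPowerSeries CategoryTheory

universe u

variable {k : Type u} [Field k] (p : ℕ) [Fact p.Prime] [CharP k p] [PerfectRing k p] {n : ℕ}
  (f : MvPowerSeries (Fin n) k)

include p in
theorem jac_injective {s t : Fin n} (hst : s ≠ t)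
    (hiso : ∃ N : ℕ, IsLocalRing.maximalIdeal (MvPowerSeries (Fin n) k) ^ N ≤
      Ideal.span {f} ⊔ Ideal.span {g | ∃ D : Derivation k (MvPowerSeries (Fin n) k)
        (MvPowerSeries (Fin n) k), g = D f}) :
    Function.Injective (fun r : MvPowerSeries (Fin n) k ⧸ Ideal.span {f} => r • jac f) := by
  classical
  obtain ⟨N, hN⟩ := hiso
  rw [jacobian_ideal_eq p f] at hN
  have hf : f ≠ 0 := by
    rintro rfl
    have h1 := hN (Ideal.pow_mem_pow (X_mem_maximalIdeal s) N)
    have h2 : Ideal.span {(0 : MvPowerSeries (Fin n) k)} ⊔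
        Ideal.span (Set.range fun i => pderiv k i (0 : MvPowerSeries (Fin n) k)) = ⊥ := by
      rw [eq_bot_iff, sup_le_iff, Ideal.span_le, Ideal.span_le]
      constructor
      · rintro _ rfl
        exact Ideal.zero_mem _
      · rintro _ ⟨i, rfl⟩
        show (pderiv k i) 0 ∈ _
        rw [map_zero]
        exact Ideal.zero_mem _
    rw [h2, Ideal.mem_bot] at h1
    have := congrArg (coeff (Finsupp.single s N)) h1
    rw [X_pow_eq, coeff_monomial_same, map_zero] at this
    exact one_ne_zero this
  intro r r' h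
  rw [← sub_eq_zero]
  have h0 : (r - r') • jac f = 0 := by
    rw [sub_smul, sub_eq_zero]
    exact h
  obtain ⟨a, ha⟩ := Ideal.Quotient.mk_surjective (r - r')
  rw [← ha, Ideal.Quotient.eq_zero_iff_mem]
  apply mem_span_of_mul_pow_le hst hf (N := N)
  have hJ : ∀ w ∈ Ideal.span (Set.range fun i => pderiv k i f), a * w ∈ Ideal.span {f} := by
    intro w hw
    induction hw using Submodule.span_induction with
    | mem y hy =>
      obtain ⟨i, rfl⟩ := hy
      rw [← Ideal.Quotient.eq_zero_iff_mem, map_mul, ha]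
      exact congrFun h0 i
    | zero =>
      rw [mul_zero]
      exact Ideal.zero_mem _
    | add y z _ _ hy hz =>
      rw [mul_add]
      exact Ideal.add_mem _ hy hz
    | smul c y _ hy =>
      rw [smul_eq_mul, mul_left_comm]
      exact Ideal.mul_mem_left _ _ hy
  intro x hx
  obtain ⟨u, hu, w, hw, rfl⟩ := Submodule.mem_sup.1 (hN hx)
  rw [mul_add]
  exact Ideal.add_mem _ (Ideal.mul_mem_left _ _ hu) (hJ w hw)

include p in
theorem map_jacobian_ideal :
    Ideal.map (Ideal.Quotient.mk (Ideal.span {f}))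
      (Ideal.span {g | ∃ D : Derivation k (MvPowerSeries (Fin n) k)
        (MvPowerSeries (Fin n) k), g = D f}) = Ideal.span (Set.range (jac f)) := by
  classical
  rw [jacobian_ideal_eq p f, Ideal.map_span, ← Set.range_comp]
  rfl

include p in
theorem main {s t : Fin n} (hst : s ≠ t)
    (hiso : ∃ N : ℕ, IsLocalRing.maximalIdeal (MvPowerSeries (Fin n) k) ^ N ≤
      Ideal.span {f} ⊔ Ideal.span {g | ∃ D : Derivation k (MvPowerSeries (Fin n) k)
        (MvPowerSeries (Fin n) k), g = D f}) :
    Subsingleton (Abelian.Ext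
        (ModuleCat.of (MvPowerSeries (Fin n) k ⧸ Ideal.span {f})
          (Ω[(MvPowerSeries (Fin n) k ⧸ Ideal.span {f})⁄k]))
        (ModuleCat.of (MvPowerSeries (Fin n) k ⧸ Ideal.span {f})
          (MvPowerSeries (Fin n) k ⧸ Ideal.span {f})) 2) ∧
      Nonempty (Abelian.Ext
        (ModuleCat.of (MvPowerSeries (Fin n) k ⧸ Ideal.span {f})
          (Ω[(MvPowerSeries (Fin n) k ⧸ Ideal.span {f})⁄k]))
        (ModuleCat.of (MvPowerSeries (Fin n) k ⧸ Ideal.span {f})
          (MvPowerSeries (Fin n) k ⧸ Ideal.span {f})) 1 ≃ₗ[MvPowerSeries (Fin n) k ⧸ Ideal.span {f}]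
        ((MvPowerSeries (Fin n) k ⧸ Ideal.span {f}) ⧸
          Ideal.map (Ideal.Quotient.mk (Ideal.span {f}))
            (Ideal.span {g | ∃ D : Derivation k (MvPowerSeries (Fin n) k)
              (MvPowerSeries (Fin n) k), g = D f}))) := by
  classical
  have hv := jac_injective p f hst hiso
  have hq := qmap_surjective p f
  have hker := ker_qmap p f
  refine ⟨ext_two_subsingleton (jac f) (qmap f) hker hv hq, ?_⟩
  obtain ⟨e⟩ := ext_one_equiv (jac f) (qmap f) hker hv hq
  exact ⟨e.trans (Submodule.quotEquivOfEq _ _ (map_jacobian_ideal p f).symm)⟩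

end Groth.Agent.Helper7.KPS
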