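import Mathlib
import Groth.Prelude.Def_EtRam
import Groth.Agent.Helper7.ASchI

set_option autoImplicit false

/-!
# Generic forms of the three ramification criteria for a simple extension of degree `≤ p`
-/

namespace Groth.Agent.Helper7.KmR

open Polynomial IsLocalRing Groth.Agent.Helper7.ASch

universe u

section Generic

variable (p : ℕ) [hp : Fact p.Prime] {A K L : Type u} [CommRing A] [IsDomain A]
  [IsDiscreteValuationRing A] [Field K] [Algebra A K] [IsFractionRing A K] [Field L] [Algebra K L]
  [Algebra A L] [IsScalarTower A K L]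
  (π : A) (hπ : maximalIdeal A = Ideal.span {π})

include K hπ in
/-- a root of a monic polynomial whose reduction has derivative `-1` generates an extension
unramified at every place over `A` -/
theorem unramified_general (F : A[X]) (hF : F.Monic) (z : L) (hFz : aeval z F = 0)
    (hder : derivative (F.map (residue A)) = -1)
    (hgen : IntermediateField.adjoin K {z} = ⊤) :
    EtRam.IsUnramifiedExt A (algebraMap A L) := by
  intro V hV
  letI : Algebra A V := (RingHom.codRestrict (algebraMap A L) V hV.1).toAlgebra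
  intro hloc
  haveI : IsScalarTower A V L := IsScalarTower.of_algebraMap_eq' rfl
  have hy : IsIntegral A z := ⟨F, hF, hFz⟩
  have hsep : aeval (yBar z hy V) (derivative (F.map (residue A))) ≠ 0 := by
    rw [hder, map_neg, map_one]
    exact neg_ne_zero.2 one_ne_zero
  have hS : HStar π z V ⊤ := hStar_sep π hπ z hy V F hFz hsep
  refine ⟨weaklyUnramified (K := K) π hπ z hgen hy V ⊤ hS, ?_⟩
  have h0 : aeval (yBar z hy V) (F.map (residue A)) = 0 := by
    rw [← val_lt_iff, hFz, map_zero]; exact zero_lt_one
  exact isSeparable_of_adjoin_eq_top z hy V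
    (adjoin_yBar_eq_top (K := K) π hπ z hgen hy V ⊤ hS)
    (isSeparable_yBar z hy V _ h0 hsep)

include K hπ in
/-- a root of a monic polynomial of degree `p` reducing to `Xᵖ - ā`, `ā` not a `p`-th power -/
theorem case4_general [CharP (ResidueField A) p] (G : A[X]) (hG : G.Monic)
    (hdeg : G.natDegree = p) (a : A)
    (hmap : G.map (residue A) = X ^ p - C (residue A a))
    (ha : ∀ r : A, residue A a ≠ residue A r ^ p)
    (y : L) (hGy : aeval y G = 0) (hgenY : IntermediateField.adjoin K {y} = ⊤) :
    Case4 p A L := by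
  have hy : IsIntegral A y := ⟨G, hG, hGy⟩
  have hirr : Irreducible (G.map (residue A)) := by
    rw [hmap]
    apply X_pow_sub_C_irreducible_of_prime hp.out
    intro b hb
    obtain ⟨r, rfl⟩ := residue_surjective b
    exact ha r hb.symm
  have hdesc : ∀ (V : ValuationSubring L), EtRam.Dominates A (algebraMap A L) V →
      ∀ x : L, x ∈ V ↔ ∃ P : A[X], x = aeval y P := by
    intro V hV x
    letI : Algebra A V := (RingHom.codRestrict (algebraMap A L) V hV.1).toAlgebra
    haveI : IsScalarTower A V L := IsScalarTower.of_algebraMap_eq' rfl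
    haveI : IsLocalHom (algebraMap A V) := DomVal.isLocalHom_codRestrict _ V hV
    have hS : HStar π y V ⊥ := hStar_irr π hπ y hy V G hG hirr hGy
    exact mem_iff_of_bot (K := K) π hπ y hgenY hy V hS x
  refine ⟨TotRam.exists_dominates (algebraMap A L), ?_, ?_⟩
  · intro V V' hV hV'
    ext x
    rw [hdesc V hV x, hdesc V' hV' x]
  · intro V hV
    letI : Algebra A V := (RingHom.codRestrict (algebraMap A L) V hV.1).toAlgebra
    intro hloc
    haveI : IsScalarTower A V L := IsScalarTower.of_algebraMap_eq' rfl
    have hS : HStar π y V ⊥ := hStar_irr π hπ y hy V G hG hirr hGy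
    have htop := adjoin_yBar_eq_top (K := K) π hπ y hgenY hy V ⊥ hS
    have h0 : aeval (yBar y hy V) (G.map (residue A)) = 0 := by
      rw [← val_lt_iff, hGy, map_zero]; exact zero_lt_one
    have hmin : G.map (residue A) = minpoly (ResidueField A) (yBar y hy V) :=
      minpoly.eq_of_irreducible_of_monic hirr h0 (hG.map _)
    have hpow : yBar y hy V ^ p = algebraMap (ResidueField A) (ResidueField V) (residue A a) := by
      rw [hmap, map_sub, map_pow, aeval_X, aeval_C] at h0
      exact sub_eq_zero.1 h0
    haveI : ExpChar (ResidueField A) p := ExpChar.prime hp.out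
    let e : IntermediateField.adjoin (ResidueField A) {yBar y hy V} ≃ₐ[ResidueField A]
        ResidueField V := (IntermediateField.equivOfEq htop).trans IntermediateField.topEquiv
    refine ⟨weaklyUnramified (K := K) π hπ y hgenY hy V ⊥ hS, ?_, ?_⟩
    · haveI : IsPurelyInseparable (ResidueField A)
          (IntermediateField.adjoin (ResidueField A) {yBar y hy V}) := by
        rw [IntermediateField.isPurelyInseparable_adjoin_simple_iff_pow_mem _ _ p]
        exact ⟨1, by rw [pow_one, hpow]; exact ⟨_, rfl⟩⟩
      exact AlgEquiv.isPurelyInseparable e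
    · rw [← e.toLinearEquiv.finrank_eq,
        IntermediateField.adjoin.finrank (isIntegral_yBar y hy V), ← hmin,
        hG.natDegree_map, hdeg]

include K hπ in
/-- an element `ϖ` with `v(ϖ)ᵖ = v(π)` at every place over `A`, in an extension of degree `≤ p`:
totally ramified of degree `p` -/
theorem totRam_of_varpi [FiniteDimensional K L] (hfinle : Module.finrank K L ≤ p) (ϖ : L)
    (key : ∀ (V : ValuationSubring L), EtRam.Dominates A (algebraMap A L) V →
      V.valuation ϖ ^ p = V.valuation (algebraMap A L π)) :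
    EtRam.IsTotallyRamified A (algebraMap A L) ∧ Module.finrank K L = p := by
  classical
  obtain ⟨V₀, hV₀⟩ := TotRam.exists_dominates (algebraMap A L)
  have hli := linearIndependent_pow (K := K) π hπ p ϖ V₀ hV₀ (key V₀ hV₀)
  have hfin : Module.finrank K L = p := by
    apply le_antisymm hfinle
    have := hli.fintype_card_le_finrank
    simpa using this
  let b := basisOfLinearIndependentOfCardEqFinrank hli (by simp [hfin])
  have hexp : ∀ x : L, ∃ c : Fin p → K, x = ∑ i, algebraMap K L (c i) * ϖ ^ (i : ℕ) := by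
    intro x
    refine ⟨fun i => b.repr x i, ?_⟩
    have h1 := b.sum_repr x
    have h2 : ∀ i, b i = ϖ ^ (i : ℕ) := fun i => by
      rw [coe_basisOfLinearIndependentOfCardEqFinrank]
    calc x = ∑ i, b.repr x i • b i := h1.symm
      _ = _ := Finset.sum_congr rfl (fun i _ => by rw [Algebra.smul_def, h2])
  have hdesc : ∀ (V : ValuationSubring L), EtRam.Dominates A (algebraMap A L) V →
      ∀ x : L, x ∈ V ↔ ∃ a : Fin p → A, x = ∑ i, algebraMap A L (a i) * ϖ ^ (i : ℕ) := by
    intro V hV x
    constructor
    · intro hx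
      obtain ⟨c, hc⟩ := hexp x
      have hmem := coeff_mem (K := K) π hπ p ϖ V hV (key V hV) c x hx hc
      choose a ha using hmem
      refine ⟨a, ?_⟩
      rw [hc]
      apply Finset.sum_congr rfl
      intro i _
      rw [← ha i, ← IsScalarTower.algebraMap_apply]
    · rintro ⟨a, rfl⟩
      have hϖV : ϖ ∈ V := (V.valuation_le_one_iff _).1
        (val_varpi_lt π hπ p ϖ V hV (key V hV)).le
      exact sum_mem (fun i _ => mul_mem (hV.1 _) (pow_mem hϖV _))
  refine ⟨⟨⟨V₀, hV₀⟩, ?_, ?_⟩, hfin⟩
  · intro V V' hV hV'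
    ext x
    rw [hdesc V hV x, hdesc V' hV' x]
  · intro V hV xb
    obtain ⟨x, rfl⟩ := residue_surjective xb
    obtain ⟨a, ha⟩ := (hdesc V hV (x : L)).1 x.2
    let i0 : Fin p := ⟨0, hp.out.pos⟩
    refine ⟨a i0, ?_⟩
    show residue V (RingHom.codRestrict (algebraMap A L) V hV.1 (a i0)) = residue V x
    rw [← sub_eq_zero, ← map_sub, residue_eq_zero_iff, ← neg_mem_iff,
      V.valuation_lt_one_iff]
    have hγ1 : V.valuation ϖ < 1 := val_varpi_lt π hπ p ϖ V hV (key V hV)
    have h1 : ((-(RingHom.codRestrict (algebraMap A L) V hV.1 (a i0) - x) : V) : L) =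
        ∑ i ∈ Finset.univ.erase i0, algebraMap A L (a i) * ϖ ^ (i : ℕ) := by
      have h2 : (x : L) = algebraMap A L (a i0) * ϖ ^ (i0 : ℕ) +
          ∑ i ∈ Finset.univ.erase i0, algebraMap A L (a i) * ϖ ^ (i : ℕ) := by
        rw [ha]
        exact (Finset.add_sum_erase _ _ (Finset.mem_univ i0)).symm
      simp only [NegMemClass.coe_neg, AddSubgroupClass.coe_sub, RingHom.codRestrict_apply]
      rw [h2]
      show -(algebraMap A L (a i0) - (algebraMap A L (a i0) * ϖ ^ (0 : ℕ) + _)) = _
      rw [pow_zero, mul_one]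
      ring
    rw [h1]
    apply Valuation.map_sum_lt _ one_ne_zero
    intro i hi
    have hne : i ≠ i0 := (Finset.mem_erase.1 hi).1
    have hipos : (i : ℕ) ≠ 0 := fun h0 => hne (Fin.ext h0)
    rw [map_mul, map_pow]
    calc V.valuation (algebraMap A L (a i)) * V.valuation ϖ ^ (i : ℕ)
        ≤ 1 * V.valuation ϖ ^ (i : ℕ) :=
          mul_le_mul_left ((V.valuation_le_one_iff _).2 (hV.1 _)) _
      _ = V.valuation ϖ ^ (i : ℕ) := one_mul _
      _ < 1 := pow_lt_one₀ zero_le hγ1 hipos

end Generic

end Groth.Agent.Helper7.KmR
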