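import Mathlib
import Groth.Prelude.Def_EtRam
import Groth.Agent.Helper7.KmRA

/-!
# Totally ramified extensions from an element `ϖ` with `v(ϖ)^q = v(π)` (arbitrary `q > 0`)
-/

set_option autoImplicit false
universe u

namespace Groth.Agent.Helper7.TRq

open Polynomial IsLocalRing Groth.Agent.Helper7.ASch

section Generic

variable (q : ℕ) (hq : 0 < q) {A K L : Type u} [CommRing A] [IsDomain A]
  [IsDiscreteValuationRing A] [Field K] [Algebra A K] [IsFractionRing A K] [Field L] [Algebra K L]
  [Algebra A L] [IsScalarTower A K L]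
  (π : A) (hπ : maximalIdeal A = Ideal.span {π})

include K hπ hq in
/-- an element `ϖ` with `v(ϖ)^q = v(π)` at every place over `A`, in an extension of degree `≤ q`:
totally ramified of degree `q` -/
theorem totRam_of_varpi [FiniteDimensional K L] (hfinle : Module.finrank K L ≤ q) (ϖ : L)
    (key : ∀ (V : ValuationSubring L), EtRam.Dominates A (algebraMap A L) V →
      V.valuation ϖ ^ q = V.valuation (algebraMap A L π)) :
    EtRam.IsTotallyRamified A (algebraMap A L) ∧ Module.finrank K L = q := by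
  classical
  haveI : Nonempty (Fin q) := ⟨⟨0, hq⟩⟩
  obtain ⟨V₀, hV₀⟩ := TotRam.exists_dominates (algebraMap A L)
  have hli := linearIndependent_pow (K := K) π hπ q ϖ V₀ hV₀ (key V₀ hV₀)
  have hfin : Module.finrank K L = q := by
    apply le_antisymm hfinle
    have := hli.fintype_card_le_finrank
    simpa using this
  let b := basisOfLinearIndependentOfCardEqFinrank hli (by simp [hfin])
  have hexp : ∀ x : L, ∃ c : Fin q → K, x = ∑ i, algebraMap K L (c i) * ϖ ^ (i : ℕ) := by
    intro x
    refine ⟨fun i => b.repr x i, ?_⟩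
    have h1 := b.sum_repr x
    have h2 : ∀ i, b i = ϖ ^ (i : ℕ) := fun i => by
      rw [coe_basisOfLinearIndependentOfCardEqFinrank]
    calc x = ∑ i, b.repr x i • b i := h1.symm
      _ = _ := Finset.sum_congr rfl (fun i _ => by rw [Algebra.smul_def, h2])
  have hdesc : ∀ (V : ValuationSubring L), EtRam.Dominates A (algebraMap A L) V →
      ∀ x : L, x ∈ V ↔ ∃ a : Fin q → A, x = ∑ i, algebraMap A L (a i) * ϖ ^ (i : ℕ) := by
    intro V hV x
    constructor
    · intro hx
      obtain ⟨c, hc⟩ := hexp x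
      have hmem := coeff_mem (K := K) π hπ q ϖ V hV (key V hV) c x hx hc
      choose a ha using hmem
      refine ⟨a, ?_⟩
      rw [hc]
      apply Finset.sum_congr rfl
      intro i _
      rw [← ha i, ← IsScalarTower.algebraMap_apply]
    · rintro ⟨a, rfl⟩
      have hϖV : ϖ ∈ V := (V.valuation_le_one_iff _).1
        (val_varpi_lt π hπ q ϖ V hV (key V hV)).le
      exact sum_mem (fun i _ => mul_mem (hV.1 _) (pow_mem hϖV _))
  refine ⟨⟨⟨V₀, hV₀⟩, ?_, ?_⟩, hfin⟩
  · intro V V' hV hV'
    ext x
    rw [hdesc V hV x, hdesc V' hV' x]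
  · intro V hV xb
    obtain ⟨x, rfl⟩ := residue_surjective xb
    obtain ⟨a, ha⟩ := (hdesc V hV (x : L)).1 x.2
    let i0 : Fin q := ⟨0, hq⟩
    refine ⟨a i0, ?_⟩
    show residue V (RingHom.codRestrict (algebraMap A L) V hV.1 (a i0)) = residue V x
    rw [← sub_eq_zero, ← map_sub, residue_eq_zero_iff, ← neg_mem_iff,
      V.valuation_lt_one_iff]
    have hγ1 : V.valuation ϖ < 1 := val_varpi_lt π hπ q ϖ V hV (key V hV)
    have h1 : ((-(RingHom.codRestrict (algebraMap A L) V hV.1 (a i0) - x) : V) : L) =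
        ∑ i ∈ Finset.univ.erase i0, algebraMap A L (a i) * ϖ ^ (i : ℕ) := by
      have h2 : (x : L) = algebraMap A L (a i0) * ϖ ^ (i0 : ℕ) +
          ∑ i ∈ Finset.univ.erase i0, algebraMap A L (a i) * ϖ ^ (i : ℕ) := by
        rw [ha]
        exact (Finset.add_sum_erase _ _ (Finset.mem_univ i0)).symm
      simp only [NegMemClass.coe_neg, AddSubgroupClass.coe_sub, RingHom.codRestrict_apply]
      rw [h2]
      show -(algebraMap A L (a i0) - (algebraMap A L (a i0) * ϖ ^ (0 : ℕ) + _)) = _
      rw [pow_zero, mul_one]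
      ring
    rw [h1]
    apply Valuation.map_sum_lt _ one_ne_zero
    intro i hi
    have hne : i ≠ i0 := (Finset.mem_erase.1 hi).1
    have hipos : (i : ℕ) ≠ 0 := fun h0 => hne (Fin.ext h0)
    rw [map_mul, map_pow]
    calc V.valuation (algebraMap A L (a i)) * V.valuation ϖ ^ (i : ℕ)
        ≤ 1 * V.valuation ϖ ^ (i : ℕ) :=
          mul_le_mul_left ((V.valuation_le_one_iff _).2 (hV.1 _)) _
      _ = V.valuation ϖ ^ (i : ℕ) := one_mul _
      _ < 1 := pow_lt_one₀ zero_le hγ1 hipos

end Generic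

end Groth.Agent.Helper7.TRq
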