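import Mathlib
import Groth.Prelude.Def_EtRam
import Groth.Agent.Helper7.TRqA
import Groth.Agent.Helper7.DomValB

/-!
# KTmA: one-step ramification lemmas for simple extensions of the fraction field of a DVR
-/

set_option autoImplicit false
universe u

namespace Groth.Agent.Helper7.KTm

open Polynomial IsLocalRing Groth.Agent.Helper7.ASch

section OneStep

variable {A K L : Type u} [CommRing A] [IsDomain A]
  [IsDiscreteValuationRing A] [Field K] [Algebra A K] [IsFractionRing A K] [Field L] [Algebra K L]
  [Algebra A L] [IsScalarTower A K L]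
  (π : A) (hπ : maximalIdeal A = Ideal.span {π})

include K hπ in
/-- a root of a monic polynomial with separable reduction generates an extension
unramified at every place over `A` -/
theorem unramified_of_separable (F : A[X]) (hF : F.Monic) (z : L) (hFz : aeval z F = 0)
    (hsepF : (F.map (residue A)).Separable)
    (hgen : IntermediateField.adjoin K {z} = ⊤) :
    EtRam.IsUnramifiedExt A (algebraMap A L) := by
  intro V hV
  letI : Algebra A V := (RingHom.codRestrict (algebraMap A L) V hV.1).toAlgebra
  intro hloc
  haveI : IsScalarTower A V L := IsScalarTower.of_algebraMap_eq' rfl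
  have hy : IsIntegral A z := ⟨F, hF, hFz⟩
  have h0 : aeval (yBar z hy V) (F.map (residue A)) = 0 := by
    rw [← val_lt_iff, hFz, map_zero]; exact zero_lt_one
  have hsep : aeval (yBar z hy V) (derivative (F.map (residue A))) ≠ 0 :=
    hsepF.aeval_derivative_ne_zero h0
  have hS : HStar π z V ⊤ := hStar_sep π hπ z hy V F hFz hsep
  refine ⟨weaklyUnramified (K := K) π hπ z hgen hy V ⊤ hS, ?_⟩
  exact isSeparable_of_adjoin_eq_top z hy V
    (adjoin_yBar_eq_top (K := K) π hπ z hgen hy V ⊤ hS)
    (isSeparable_yBar z hy V _ h0 hsep)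

include K hπ in
/-- adjoining an `n`-th root of a unit, `n` invertible: unramified -/
theorem unramified_of_root_unit (n : ℕ) (hnu : IsUnit (n : A)) (u : Aˣ) (z : L)
    (hz : z ^ n = algebraMap A L (u : A)) (hgen : IntermediateField.adjoin K {z} = ⊤) :
    EtRam.IsUnramifiedExt A (algebraMap A L) := by
  have hn0 : n ≠ 0 := by
    rintro rfl
    rw [Nat.cast_zero] at hnu
    exact not_isUnit_zero hnu
  apply unramified_of_separable (K := K) π hπ ((X : A[X]) ^ n - C (u : A))
    (monic_X_pow_sub_C _ hn0) z
  · rw [map_sub, map_pow, aeval_X, aeval_C, hz, sub_self]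
  · exact (separable_X_pow_sub_C_unit u hnu).map
  · exact hgen

end OneStep

section TotRam

variable (q : ℕ) (hq : 0 < q) {A K L : Type u} [CommRing A] [IsDomain A]
  [IsDiscreteValuationRing A] [Field K] [Algebra A K] [IsFractionRing A K] [Field L] [Algebra K L]
  [Algebra A L] [IsScalarTower A K L]
  (π : A) (hπ : maximalIdeal A = Ideal.span {π})

include K hπ hq in
/-- description of the valuation rings over `A` when `1, ϖ, …, ϖ^(q-1)` is an integral basis -/
theorem mem_iff_of_varpi [FiniteDimensional K L] (hfinle : Module.finrank K L ≤ q) (ϖ : L)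
    (key : ∀ (V : ValuationSubring L), EtRam.Dominates A (algebraMap A L) V →
      V.valuation ϖ ^ q = V.valuation (algebraMap A L π))
    (V : ValuationSubring L) (hV : EtRam.Dominates A (algebraMap A L) V) (x : L) :
    x ∈ V ↔ ∃ a : Fin q → A, x = ∑ i, algebraMap A L (a i) * ϖ ^ (i : ℕ) := by
  classical
  haveI : Nonempty (Fin q) := ⟨⟨0, hq⟩⟩
  have hli := linearIndependent_pow (K := K) π hπ q ϖ V hV (key V hV)
  have hfin : Module.finrank K L = q := by
    apply le_antisymm hfinle
    have := hli.fintype_card_le_finrank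
    simpa using this
  let b := basisOfLinearIndependentOfCardEqFinrank hli (by simp [hfin])
  have hexp : ∀ x : L, ∃ c : Fin q → K, x = ∑ i, algebraMap K L (c i) * ϖ ^ (i : ℕ) := by
    intro x
    refine ⟨fun i => b.repr x i, ?_⟩
    have h1 := b.sum_repr x
    have h2 : ∀ i, b i = ϖ ^ (i : ℕ) := fun i => by
      rw [coe_basisOfLinearIndependentOfCardEqFinrank]
    calc x = ∑ i, b.repr x i • b i := h1.symm
      _ = _ := Finset.sum_congr rfl (fun i _ => by rw [Algebra.smul_def, h2])
  constructor
  · intro hx
    obtain ⟨c, hc⟩ := hexp x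
    have hmem := coeff_mem (K := K) π hπ q ϖ V hV (key V hV) c x hx hc
    choose a ha using hmem
    refine ⟨a, ?_⟩
    rw [hc]
    apply Finset.sum_congr rfl
    intro i _
    rw [← ha i, ← IsScalarTower.algebraMap_apply]
  · rintro ⟨a, rfl⟩
    have hϖV : ϖ ∈ V := (V.valuation_le_one_iff _).1
      (val_varpi_lt π hπ q ϖ V hV (key V hV)).le
    exact sum_mem (fun i _ => mul_mem (hV.1 _) (pow_mem hϖV _))

include K hπ hq in
/-- adjoining a `q`-th root of the uniformizer: each place is totally ramified with index `q`
and trivial residue extension; hence tame when the residue characteristic does not divide `q` -/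
theorem tame_of_root [FiniteDimensional K L] (hfinle : Module.finrank K L ≤ q) (ϖ : L)
    (hϖ : ϖ ^ q = algebraMap A L π)
    (hp : ∀ p : ℕ, p.Prime → CharP (ResidueField A) p → ¬ p ∣ q) :
    EtRam.IsTamelyRamified A (algebraMap A L) := by
  obtain ⟨m, rfl⟩ : ∃ m, q = m + 1 := ⟨q - 1, by omega⟩
  have key : ∀ (V : ValuationSubring L), EtRam.Dominates A (algebraMap A L) V →
      V.valuation ϖ ^ (m + 1) = V.valuation (algebraMap A L π) := by
    intro V _
    rw [← map_pow, hϖ]
  obtain ⟨htot, -⟩ := Groth.Agent.Helper7.TRq.totRam_of_varpi (K := K) (m + 1) hq π hπ hfinle ϖ key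
  intro V hV
  letI : Algebra A V := (RingHom.codRestrict (algebraMap A L) V hV.1).toAlgebra
  intro hloc
  have hsurj := htot.2.2 V hV
  refine ⟨⟨fun y => ?_⟩, ?_⟩
  · obtain ⟨a, ha⟩ := hsurj y
    have h1 : y = algebraMap (ResidueField A) (ResidueField V) (residue A a) := by
      rw [← ha]
      rfl
    rw [h1]
    exact isSeparable_algebraMap _
  · have hγ1 : V.valuation ϖ < 1 := val_varpi_lt π hπ (m + 1) ϖ V hV (key V hV)
    have hϖV : ϖ ∈ V := (V.valuation_le_one_iff _).1 hγ1.le
    let ϖV : V := ⟨ϖ, hϖV⟩
    have hϖVmem : ϖV ∈ maximalIdeal V := (V.valuation_lt_one_iff ϖV).2 hγ1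
    have hmapπ : algebraMap A V π = ϖV ^ (m + 1) := by
      apply Subtype.ext
      rw [SubmonoidClass.coe_pow]
      exact hϖ.symm
    have hmap : (maximalIdeal A).map (algebraMap A V) = Ideal.span {ϖV} ^ (m + 1) := by
      rw [hπ, Ideal.map_span, Set.image_singleton, hmapπ, Ideal.span_singleton_pow]
    have hmV : maximalIdeal V = Ideal.span {ϖV} := by
      apply le_antisymm
      · intro x hx
        have hxlt : V.valuation (x : L) < 1 := (V.valuation_lt_one_iff x).1 hx
        obtain ⟨a, ha⟩ := (mem_iff_of_varpi (K := K) (m + 1) hq π hπ hfinle ϖ key V hV (x : L)).1 x.2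
        rw [Fin.sum_univ_succ] at ha
        simp only [Fin.val_zero, pow_zero, mul_one, Fin.val_succ] at ha
        set S : L := ∑ i : Fin m, algebraMap A L (a i.succ) * ϖ ^ (i : ℕ) with hS
        have hSV : S ∈ V := sum_mem (fun i _ => mul_mem (hV.1 _) (pow_mem hϖV _))
        have hsum : ∑ i : Fin m, algebraMap A L (a i.succ) * ϖ ^ ((i : ℕ) + 1) = ϖ * S := by
          rw [hS, Finset.mul_sum]
          apply Finset.sum_congr rfl
          intro i _
          ring
        rw [hsum] at ha
        have ha0 : a 0 ∈ maximalIdeal A := by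
          by_contra hna
          have hu : IsUnit (a 0) := by
            by_contra h
            exact hna h
          have h1 : V.valuation (algebraMap A L (a 0)) = 1 := val_unit V hV _ hu
          have h2 : algebraMap A L (a 0) = (x : L) - ϖ * S := by rw [ha]; ring
          have h3 : V.valuation ((x : L) - ϖ * S) < 1 := by
            apply lt_of_le_of_lt (Valuation.map_sub _ _ _)
            apply max_lt hxlt
            rw [map_mul]
            calc V.valuation ϖ * V.valuation S ≤ V.valuation ϖ * 1 :=
                  mul_le_mul_right ((V.valuation_le_one_iff _).2 hSV) _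
              _ = V.valuation ϖ := mul_one _
              _ < 1 := hγ1
          rw [← h2, h1] at h3
          exact lt_irrefl _ h3
        rw [hπ, Ideal.mem_span_singleton] at ha0
        obtain ⟨b, hb⟩ := ha0
        rw [Ideal.mem_span_singleton]
        refine ⟨⟨ϖ ^ m * algebraMap A L b + S, add_mem (mul_mem (pow_mem hϖV _) (hV.1 _)) hSV⟩, ?_⟩
        apply Subtype.ext
        rw [MulMemClass.coe_mul]
        show (x : L) = ϖ * (ϖ ^ m * algebraMap A L b + S)
        rw [ha, hb, map_mul, ← hϖ]
        ring
      · rw [Ideal.span_singleton_le_iff_mem]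
        exact hϖVmem
    have hϖV0 : ϖV ≠ 0 := by
      intro h0
      have h1 : ϖ = 0 := congrArg Subtype.val h0
      have h2 : algebraMap A L π = 0 := by rw [← hϖ, h1, zero_pow (Nat.succ_ne_zero m)]
      exact map_pi_ne_zero (K := K) π hπ h2
    have hϖVnu : ¬ IsUnit ϖV := hϖVmem
    have he : Ideal.ramificationIdx' (maximalIdeal A) (maximalIdeal V) = m + 1 := by
      apply Ideal.ramificationIdx'_spec
      · rw [hmap, hmV]
      · rw [hmap, hmV, Ideal.span_singleton_pow, Ideal.span_singleton_pow,
          Ideal.span_singleton_le_span_singleton, pow_dvd_pow_iff hϖV0 hϖVnu]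
        omega
    intro p hpp hcp
    rw [he]
    exact hp p hpp hcp

end TotRam

section UnramTame

variable {A K L : Type u} [CommRing A] [IsDomain A]
  [IsDiscreteValuationRing A] [Field K] [Algebra A K] [IsFractionRing A K] [Field L] [Algebra K L]
  [Algebra A L] [IsScalarTower A K L] [FiniteDimensional K L] [Algebra.IsSeparable K L]

include K in
/-- unramified implies tamely ramified -/
theorem tame_of_unramified (h : EtRam.IsUnramifiedExt A (algebraMap A L)) :
    EtRam.IsTamelyRamified A (algebraMap A L) := by
  intro V hV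
  letI : Algebra A V := (RingHom.codRestrict (algebraMap A L) V hV.1).toAlgebra
  intro hloc
  obtain ⟨hw, hs⟩ := h V hV
  refine ⟨hs, ?_⟩
  haveI : IsDiscreteValuationRing V := Groth.Agent.Helper7.DomVal.isDVR_of_dominates (K := K) V hV
  have hw' : (maximalIdeal A).map (algebraMap A V) = maximalIdeal V := hw
  have he : Ideal.ramificationIdx' (maximalIdeal A) (maximalIdeal V) = 1 := by
    obtain ⟨ϖ, hϖ⟩ := IsDiscreteValuationRing.exists_irreducible V
    have hmV : maximalIdeal V = Ideal.span {ϖ} := hϖ.maximalIdeal_eq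
    apply Ideal.ramificationIdx'_spec
    · rw [hw', pow_one]
    · rw [hw', hmV, Ideal.span_singleton_pow, Ideal.span_singleton_le_span_singleton]
      intro hdvd
      have : ϖ ^ 2 ∣ ϖ ^ 1 := by rwa [pow_one]
      rw [pow_dvd_pow_iff hϖ.ne_zero hϖ.not_isUnit] at this
      omega
  intro p hpp _ hdvd
  rw [he] at hdvd
  exact hpp.one_lt.ne' (Nat.dvd_one.1 hdvd)

end UnramTame

end Groth.Agent.Helper7.KTm
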