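import Mathlib
import Groth.Prelude.Def_EtRam
import Groth.Agent.Helper7.KTmA
import Groth.Agent.Helper7.DomValC
import Groth.Agent.S1990

/-!
# KTmB: fields generated by roots of units over the fraction field of a DVR are unramified
-/

set_option autoImplicit false
universe u

namespace Groth.Agent.Helper7.KTm

open Polynomial IsLocalRing

section FinSep

variable {K L : Type u} [Field K] [Field L] [Algebra K L] {σ : Type} [Finite σ] (t : σ → L)
  (n : σ → ℕ) (hn : ∀ j, ((n j : ℕ) : K) ≠ 0) (c : σ → K) (hc : ∀ j, c j ≠ 0)
  (ht : ∀ j, t j ^ n j = algebraMap K L (c j))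

include hn ht in
theorem isIntegral_root (j : σ) : IsIntegral K (t j) := by
  have hn0 : n j ≠ 0 := by
    intro h
    apply hn j
    rw [h, Nat.cast_zero]
  refine ⟨X ^ n j - C (c j), monic_X_pow_sub_C _ hn0, ?_⟩
  rw [eval₂_sub, eval₂_pow, eval₂_X, eval₂_C, ht, sub_self]

include hn hc ht in
theorem isSeparable_root (j : σ) : IsSeparable K (t j) := by
  have h1 : (X ^ n j - C (c j) : K[X]).Separable := separable_X_pow_sub_C (c j) (hn j) (hc j)
  have h2 : minpoly K (t j) ∣ X ^ n j - C (c j) := by
    apply minpoly.dvd
    rw [map_sub, map_pow, aeval_X, aeval_C, ht, sub_self]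
  exact h1.of_dvd h2

include hn hc ht in
theorem finite_sep_of_adjoin (hgen : IntermediateField.adjoin K (Set.range t) = ⊤) :
    FiniteDimensional K L ∧ Algebra.IsSeparable K L := by
  haveI h1 : FiniteDimensional K (IntermediateField.adjoin K (Set.range t)) :=
    IntermediateField.finiteDimensional_adjoin (by
      rintro _ ⟨j, rfl⟩
      exact isIntegral_root t n hn c ht j)
  haveI h2 : Algebra.IsSeparable K (IntermediateField.adjoin K (Set.range t)) :=
    (IntermediateField.isSeparable_adjoin_iff_isSeparable K L).2 (by
      rintro _ ⟨j, rfl⟩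
      exact isSeparable_root t n hn c hc ht j)
  let e : IntermediateField.adjoin K (Set.range t) ≃ₐ[K] L :=
    (IntermediateField.equivOfEq hgen).trans IntermediateField.topEquiv
  exact ⟨Module.Finite.equiv e.toLinearEquiv, AlgEquiv.Algebra.isSeparable e⟩

end FinSep

section Gen

variable {K L : Type u} [Field K] [Field L] [Algebra K L]

theorem adjoin_gen_eq_top (α : L) :
    IntermediateField.adjoin K {IntermediateField.AdjoinSimple.gen K α} = ⊤ := by
  apply IntermediateField.lift_injective
  rw [IntermediateField.lift_adjoin_simple, IntermediateField.lift_top,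
    IntermediateField.AdjoinSimple.coe_gen]

theorem adjoin_some_eq_top {σ : Type} (t : Option σ → L)
    (hgen : IntermediateField.adjoin K (Set.range t) = ⊤) :
    IntermediateField.adjoin (IntermediateField.adjoin K {t none})
      (Set.range (fun j => t (some j))) = ⊤ := by
  rw [← IntermediateField.restrictScalars_eq_top_iff (K := K),
    IntermediateField.adjoin_adjoin_left, ← hgen]
  congr 1
  ext x
  constructor
  · rintro (h | ⟨j, rfl⟩)
    · rw [Set.mem_singleton_iff] at h
      exact ⟨none, h.symm⟩
    · exact ⟨some j, rfl⟩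
  · rintro ⟨o, rfl⟩
    cases o with
    | none => exact Or.inl rfl
    | some j => exact Or.inr ⟨j, rfl⟩

end Gen

section Unram

/-- the unramifiedness statement for the index type `σ` -/
def PU (σ : Type) : Prop :=
  ∀ (W K L : Type u) [CommRing W] [IsDomain W] [IsDiscreteValuationRing W] [Field K] [Algebra W K]
    [IsFractionRing W K] [Field L] [Algebra K L] (t : σ → L) (n : σ → ℕ)
    (_ : ∀ j, IsUnit ((n j : ℕ) : W)) (u : σ → Wˣ)
    (_ : ∀ j, t j ^ n j = algebraMap K L (algebraMap W K (u j)))
    (_ : IntermediateField.adjoin K (Set.range t) = ⊤),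
    EtRam.IsUnramifiedExt W ((algebraMap K L).comp (algebraMap W K))

theorem pU_of_equiv {σ τ : Type} (e : σ ≃ τ) (h : PU.{u} σ) : PU.{u} τ := by
  intro W K L _ _ _ _ _ _ _ _ t n hnu u ht hgen
  refine h W K L (t ∘ e) (n ∘ e) (fun j => hnu (e j)) (u ∘ e) (fun j => ht (e j)) ?_
  rw [e.surjective.range_comp]
  exact hgen

theorem pU_empty : PU.{u} PEmpty := by
  intro W K L _ _ _ _ _ _ _ _ t n hnu u ht hgen
  letI : Algebra W L := ((algebraMap K L).comp (algebraMap W K)).toAlgebra
  haveI : IsScalarTower W K L := IsScalarTower.of_algebraMap_eq' rfl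
  obtain ⟨π, hπ⟩ := IsDiscreteValuationRing.exists_irreducible W
  have hm : maximalIdeal W = Ideal.span {π} := hπ.maximalIdeal_eq
  have hgen' : IntermediateField.adjoin K {(0 : L)} = ⊤ := by
    rw [IntermediateField.adjoin_zero, ← hgen]
    have : Set.range t = ∅ := Set.range_eq_empty t
    rw [this, IntermediateField.adjoin_empty]
  exact unramified_of_separable (K := K) π hm (X : W[X]) monic_X (0 : L) (by simp)
    (by rw [Polynomial.map_X]; exact separable_X) hgen'

theorem pU_option {σ : Type} [Finite σ] (h : PU.{u} σ) : PU.{u} (Option σ) := by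
  intro W K L _ _ _ _ _ _ _ _ t n hnu u ht hgen
  letI algWL : Algebra W L := ((algebraMap K L).comp (algebraMap W K)).toAlgebra
  haveI : IsScalarTower W K L := IsScalarTower.of_algebraMap_eq' rfl
  obtain ⟨π, hπ⟩ := IsDiscreteValuationRing.exists_irreducible W
  have hm : maximalIdeal W = Ideal.span {π} := hπ.maximalIdeal_eq
  have hinjWK : Function.Injective (algebraMap W K) := IsFractionRing.injective W K
  have hnK : ∀ o, ((n o : ℕ) : K) ≠ 0 := by
    intro o
    have h1 := (hnu o).map (algebraMap W K)
    rw [map_natCast] at h1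
    exact h1.ne_zero
  have hcK : ∀ o, algebraMap W K (u o) ≠ 0 := fun o => ((u o).isUnit.map (algebraMap W K)).ne_zero
  obtain ⟨hfin, hsep⟩ := finite_sep_of_adjoin t n hnK (fun o => algebraMap W K (u o)) hcK ht hgen
  let K₁ : IntermediateField K L := IntermediateField.adjoin K {t none}
  refine (Groth.Agent.S1990.result W K K₁ L).2 ?_ ?_
  · -- bottom step
    letI algWK₁ : Algebra W K₁ := ((algebraMap K K₁).comp (algebraMap W K)).toAlgebra
    haveI : IsScalarTower W K K₁ := IsScalarTower.of_algebraMap_eq' rfl
    refine unramified_of_root_unit (K := K) π hm (n none) (hnu none) (u none)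
      (IntermediateField.AdjoinSimple.gen K (t none)) ?_ (adjoin_gen_eq_top (t none))
    apply Subtype.ext
    rw [SubmonoidClass.coe_pow, IntermediateField.AdjoinSimple.coe_gen, ht none]
    rfl
  · -- the remaining roots
    intro V hV
    letI algWK₁ : Algebra W K₁ := ((algebraMap K K₁).comp (algebraMap W K)).toAlgebra
    haveI : IsScalarTower W K K₁ := IsScalarTower.of_algebraMap_eq' rfl
    haveI : FiniteDimensional K K₁ := IntermediateField.finiteDimensional_left K₁
    haveI : Algebra.IsSeparable K K₁ := Algebra.isSeparable_tower_bot_of_isSeparable K K₁ L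
    haveI : IsDiscreteValuationRing V :=
      Groth.Agent.Helper7.DomVal.isDVR_of_dominates (K := K) V hV
    let ι : W →+* V := RingHom.codRestrict (algebraMap W K₁) V hV.1
    have hres := h V K₁ L (fun j => t (some j)) (fun j => n (some j))
      (fun j => by
        have h1 := (hnu (some j)).map ι
        rwa [map_natCast] at h1)
      (fun j => Units.map (ι : W →* V) (u (some j)))
      (fun j => by
        rw [ht (some j)]
        rfl)
      (adjoin_some_eq_top t hgen)
    exact hres

theorem unramified (σ : Type) [Finite σ] : PU.{u} σ :=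
  Finite.induction_empty_option (P := PU.{u}) (fun e h => pU_of_equiv e h) pU_empty
    (fun h => pU_option h) σ

end Unram

end Groth.Agent.Helper7.KTm
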