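import Mathlib
import Groth.Prelude.Def_EtRam
import Groth.Agent.Helper7.KTmB

/-!
# KTmC: a field generated over the fraction field of a DVR by a root of the uniformizer and roots
of units (of orders prime to the residue characteristic) is tamely ramified
-/

set_option autoImplicit false
universe u

namespace Groth.Agent.Helper7.KTm

open Polynomial IsLocalRing

theorem tame_kummer (W K L : Type u) [CommRing W] [IsDomain W] [IsDiscreteValuationRing W]
    [Field K] [Algebra W K] [IsFractionRing W K] [Field L] [Algebra K L] {σ : Type} [Finite σ]
    (π : W) (hm : maximalIdeal W = Ideal.span {π})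
    (t : Option σ → L) (n : Option σ → ℕ) (hnu : ∀ o, IsUnit ((n o : ℕ) : W)) (u : σ → Wˣ)
    (ht0 : t none ^ n none = algebraMap K L (algebraMap W K π))
    (ht : ∀ j, t (some j) ^ n (some j) = algebraMap K L (algebraMap W K (u j)))
    (hgen : IntermediateField.adjoin K (Set.range t) = ⊤) :
    EtRam.IsTamelyRamified W ((algebraMap K L).comp (algebraMap W K)) := by
  letI algWL : Algebra W L := ((algebraMap K L).comp (algebraMap W K)).toAlgebra
  haveI : IsScalarTower W K L := IsScalarTower.of_algebraMap_eq' rfl
  have hinjWK : Function.Injective (algebraMap W K) := IsFractionRing.injective W K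
  have hπ0 : π ≠ 0 := Groth.Agent.Helper7.ASch.pi_ne_zero π hm
  have hnK : ∀ o, ((n o : ℕ) : K) ≠ 0 := by
    intro o
    have h1 := (hnu o).map (algebraMap W K)
    rw [map_natCast] at h1
    exact h1.ne_zero
  have hn0 : ∀ o, n o ≠ 0 := by
    intro o h
    apply hnK o
    rw [h, Nat.cast_zero]
  let c : Option σ → K := fun o => o.elim (algebraMap W K π) (fun j => algebraMap W K (u j))
  have hcK : ∀ o, c o ≠ 0 := by
    intro o
    cases o with
    | none => exact fun h => hπ0 (hinjWK (by rw [map_zero]; exact h))
    | some j => exact ((u j).isUnit.map (algebraMap W K)).ne_zero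
  have htc : ∀ o, t o ^ n o = algebraMap K L (c o) := by
    intro o
    cases o with
    | none => exact ht0
    | some j => exact ht j
  obtain ⟨hfin, hsep⟩ := finite_sep_of_adjoin t n hnK c hcK htc hgen
  let K₁ : IntermediateField K L := IntermediateField.adjoin K {t none}
  refine (Groth.Agent.S1990.result W K K₁ L).1 ?_ ?_
  · -- bottom step: totally ramified of degree `n none`
    letI algWK₁ : Algebra W K₁ := ((algebraMap K K₁).comp (algebraMap W K)).toAlgebra
    haveI : IsScalarTower W K K₁ := IsScalarTower.of_algebraMap_eq' rfl
    haveI : FiniteDimensional K K₁ := IntermediateField.finiteDimensional_left K₁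
    have hint : IsIntegral K (t none) := isIntegral_root t n hnK c htc none
    have hle : Module.finrank K K₁ ≤ n none := by
      rw [IntermediateField.adjoin.finrank hint]
      have hdvd : minpoly K (t none) ∣ X ^ n none - C (c none) := by
        apply minpoly.dvd
        rw [map_sub, map_pow, aeval_X, aeval_C, htc none, sub_self]
      have hne : (X ^ n none - C (c none) : K[X]) ≠ 0 :=
        (monic_X_pow_sub_C _ (hn0 none)).ne_zero
      calc (minpoly K (t none)).natDegree ≤ (X ^ n none - C (c none) : K[X]).natDegree :=
            natDegree_le_of_dvd hdvd hne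
        _ = n none := natDegree_X_pow_sub_C
    refine tame_of_root (K := K) (n none) (Nat.pos_of_ne_zero (hn0 none)) π hm hle
      (IntermediateField.AdjoinSimple.gen K (t none)) ?_ ?_
    · apply Subtype.ext
      rw [SubmonoidClass.coe_pow, IntermediateField.AdjoinSimple.coe_gen, ht0]
      rfl
    · intro p hp hcp hdvd
      have h1 := (hnu none).map (residue W)
      rw [map_natCast] at h1
      have h2 : ((n none : ℕ) : ResidueField W) = 0 := (CharP.cast_eq_zero_iff _ p _).2 hdvd
      rw [h2] at h1
      exact not_isUnit_zero h1
  · -- the remaining roots: unramified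
    intro V hV
    letI algWK₁ : Algebra W K₁ := ((algebraMap K K₁).comp (algebraMap W K)).toAlgebra
    haveI : IsScalarTower W K K₁ := IsScalarTower.of_algebraMap_eq' rfl
    haveI : FiniteDimensional K K₁ := IntermediateField.finiteDimensional_left K₁
    haveI : Algebra.IsSeparable K K₁ := Algebra.isSeparable_tower_bot_of_isSeparable K K₁ L
    haveI : IsDiscreteValuationRing V :=
      Groth.Agent.Helper7.DomVal.isDVR_of_dominates (K := K) V hV
    let ι : W →+* V := RingHom.codRestrict (algebraMap W K₁) V hV.1
    have hres := unramified σ V K₁ L (fun j => t (some j)) (fun j => n (some j))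
      (fun j => by
        have h1 := (hnu (some j)).map ι
        rwa [map_natCast] at h1)
      (fun j => Units.map (ι : W →* V) (u j))
      (fun j => by
        rw [ht j]
        rfl)
      (adjoin_some_eq_top t hgen)
    letI algVL : Algebra V L := ((algebraMap K₁ L).comp (algebraMap V K₁)).toAlgebra
    haveI : IsScalarTower V K₁ L := IsScalarTower.of_algebraMap_eq' rfl
    haveI : FiniteDimensional K₁ L := IntermediateField.finiteDimensional_right K₁
    haveI : Algebra.IsSeparable K₁ L := Algebra.isSeparable_tower_top_of_isSeparable K K₁ L
    exact tame_of_unramified (K := K₁) hres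

end Groth.Agent.Helper7.KTm
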