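import Mathlib
import Groth.Prelude.Def_EtRam
import Groth.Prelude.Def_SGA1
import Groth.Agent.Helper7.KTmC
import Groth.Agent.Helper7.KAlgA
import Groth.Agent.Helper7.KAlgB

/-!
# KTmD: the Kummer algebra over a regular local domain is tamely ramified along each `f_i`
-/

set_option autoImplicit false
universe u

namespace Groth.Agent.Helper7.KTm

open Polynomial IsLocalRing

section Data

variable {W L : Type u} [CommRing W] [IsDomain W] [IsDiscreteValuationRing W] [Field L]
  (g : W →+* L) (hg : Function.Injective g) {σ : Type} [Finite σ]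
  (π : W) (hm : maximalIdeal W = Ideal.span {π})
  (t : Option σ → L) (n : Option σ → ℕ) (hnu : ∀ o, IsUnit ((n o : ℕ) : W)) (u : σ → Wˣ)
  (ht0 : t none ^ n none = g π)
  (ht : ∀ j, t (some j) ^ n (some j) = g (u j))
  (hgen : ∀ x : L, x ∈ Subfield.closure (Set.range g ∪ Set.range t))

include hg hm hnu ht0 ht hgen in
theorem tame_of_data : EtRam.IsTamelyRamified W g := by
  letI algKL : Algebra (FractionRing W) L := (IsFractionRing.lift hg).toAlgebra
  have hcomp : (algebraMap (FractionRing W) L).comp (algebraMap W (FractionRing W)) = g := by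
    ext w
    exact IsFractionRing.lift_algebraMap hg w
  have hcomp' : ∀ w, algebraMap (FractionRing W) L (algebraMap W (FractionRing W) w) = g w :=
    fun w => RingHom.congr_fun hcomp w
  rw [← hcomp]
  refine tame_kummer W (FractionRing W) L π hm t n hnu u ?_ ?_ ?_
  · rw [hcomp']; exact ht0
  · intro j; rw [hcomp']; exact ht j
  · rw [eq_top_iff]
    intro x _
    have hle : Subfield.closure (Set.range g ∪ Set.range t) ≤
        (IntermediateField.adjoin (FractionRing W) (Set.range t)).toSubfield := by
      rw [Subfield.closure_le]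
      rintro y (⟨w, rfl⟩ | hy)
      · rw [← hcomp' w]
        exact (IntermediateField.adjoin (FractionRing W) (Set.range t)).algebraMap_mem _
      · exact IntermediateField.subset_adjoin _ _ hy
    exact hle (hgen x)

end Data

section Main

open Groth.Agent.Helper7.KAlg (KA KI cot_li_iff')

variable (A : Type u) [CommRing A] [IsRegularLocalRing A] [IsDomain A] {r : ℕ} (f : Fin r → A)
  (hm : ∀ i, f i ∈ maximalIdeal A)
  (hf : LinearIndependent (ResidueField A) (fun i => (maximalIdeal A).toCotangent ⟨f i, hm i⟩))

include hf in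
theorem f_ne_zero (i : Fin r) : f i ≠ 0 := by
  intro h
  apply hf.ne_zero i
  rw [Ideal.toCotangent_eq_zero]
  show f i ∈ _
  rw [h]
  exact zero_mem _

include hf in
theorem notMem_span (i j : Fin r) (hji : j ≠ i) : f j ∉ Ideal.span {f i} := by
  intro hmem
  obtain ⟨a, ha⟩ := Ideal.mem_span_singleton'.1 hmem
  have hcrit := (cot_li_iff' (fun k => (⟨f k, hm k⟩ : maximalIdeal A))).1 hf
    (fun k => (if k = j then 1 else 0) - (if k = i then a else 0)) (by
      have : ∑ k, ((if k = j then (1 : A) else 0) - (if k = i then a else 0)) * f k = 0 := by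
        simp [sub_mul, Finset.sum_sub_distrib, ha]
      show ∑ k, ((if k = j then (1 : A) else 0) - (if k = i then a else 0)) * f k ∈ _
      rw [this]
      exact zero_mem _) j
  simp only [if_true, if_neg hji, sub_zero] at hcrit
  exact (maximalIdeal.isMaximal A).ne_top ((Ideal.eq_top_iff_one _).2 hcrit)

variable [hP : ∀ i, (Ideal.span {f i}).IsPrime]

include hf in
theorem maximalIdeal_atPrime (i : Fin r) :
    maximalIdeal (Localization.AtPrime (Ideal.span {f i})) =
      Ideal.span {algebraMap A (Localization.AtPrime (Ideal.span {f i})) (f i)} := by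
  have h := IsLocalization.AtPrime.map_eq_maximalIdeal (Ideal.span {f i})
    (Localization.AtPrime (Ideal.span {f i}))
  rw [← h, Ideal.map_span, Set.image_singleton]

include hf in
theorem isDVR_atPrime (i : Fin r) :
    IsDiscreteValuationRing (Localization.AtPrime (Ideal.span {f i})) := by
  have hmax := maximalIdeal_atPrime A f hm hf i
  have hinj : Function.Injective (algebraMap A (Localization.AtPrime (Ideal.span {f i}))) :=
    IsLocalization.injective _ (Ideal.primeCompl_le_nonZeroDivisors (Ideal.span {f i}))
  have hnf : ¬ IsField (Localization.AtPrime (Ideal.span {f i})) := by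
    rw [IsLocalRing.isField_iff_maximalIdeal_eq, hmax, Ideal.span_singleton_eq_bot]
    intro h
    exact f_ne_zero A f hm hf i (hinj (by rw [h, map_zero]))
  refine ((IsDiscreteValuationRing.TFAE (Localization.AtPrime (Ideal.span {f i})) hnf).out 0 4).2 ?_
  rw [hmax]
  exact ⟨⟨_, rfl⟩⟩

include hf in
theorem tame_main (n : Fin r → ℕ) (hu : ∀ i, IsUnit ((n i : ℕ) : ResidueField A)) :
    SGA1.IsTameAlong f (algebraMap A (KA A f n)) := by
  intro i q hq_prime hq
  haveI := isDVR_atPrime A f hm hf i
  have hgA : ∀ a : A, SGA1.genericResidueMap (algebraMap A (KA A f n)) (Ideal.span {f i}) q hq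
      (algebraMap A (Localization.AtPrime (Ideal.span {f i})) a) =
      algebraMap (KA A f n) q.ResidueField (algebraMap A (KA A f n) a) := fun a => by
    unfold SGA1.genericResidueMap
    rw [IsLocalization.lift_eq]
    rfl
  have hg : Function.Injective (SGA1.genericResidueMap (algebraMap A (KA A f n))
      (Ideal.span {f i}) q hq) := by
    rw [injective_iff_map_eq_zero]
    intro x hx
    obtain ⟨⟨a, s⟩, has⟩ := IsLocalization.surj (Ideal.span {f i}).primeCompl x
    have h1 := congrArg (SGA1.genericResidueMap (algebraMap A (KA A f n))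
      (Ideal.span {f i}) q hq) has
    rw [map_mul, hx, zero_mul, hgA, eq_comm, Ideal.algebraMap_residueField_eq_zero] at h1
    have h2 : a ∈ Ideal.comap (algebraMap A (KA A f n)) q := h1
    rw [hq, Ideal.mem_bot] at h2
    simp only [h2, map_zero] at has
    have hsu : IsUnit (algebraMap A (Localization.AtPrime (Ideal.span {f i})) (s : A)) :=
      IsLocalization.map_units _ s
    exact (hsu.mul_left_eq_zero).1 has
  have hnuA : ∀ j, IsUnit ((n j : ℕ) : A) := by
    intro j
    have h := hu j
    rw [← map_natCast (residue A)] at h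
    exact (isUnit_map_iff (residue A) _).1 h
  let eo := Equiv.optionSubtypeNe i
  let T : Fin r → q.ResidueField :=
    fun j => algebraMap (KA A f n) q.ResidueField (Ideal.Quotient.mk _ (MvPolynomial.X j))
  have hT : ∀ j, T j ^ n j = SGA1.genericResidueMap (algebraMap A (KA A f n))
      (Ideal.span {f i}) q hq (algebraMap A _ (f j)) := by
    intro j
    rw [hgA, ← map_pow, Groth.Agent.Helper7.KAlg.mk_X_pow]
    rfl
  have hunit : ∀ j : {j : Fin r // j ≠ i},
      IsUnit (algebraMap A (Localization.AtPrime (Ideal.span {f i})) (f j.1)) := by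
    intro j
    rw [IsLocalization.AtPrime.isUnit_to_map_iff _ (Ideal.span {f i})]
    exact notMem_span A f hm hf i j.1 j.2
  refine tame_of_data _ hg (σ := {j : Fin r // j ≠ i})
    (algebraMap A (Localization.AtPrime (Ideal.span {f i})) (f i))
    (maximalIdeal_atPrime A f hm hf i) (T ∘ eo) (n ∘ eo)
    (fun o => by
      have h := (hnuA (eo o)).map (algebraMap A (Localization.AtPrime (Ideal.span {f i})))
      rwa [map_natCast] at h)
    (fun j => (hunit j).unit) (hT i) (fun j => hT j.1) ?_
  -- generation
  intro x
  set S := Subfield.closure (Set.range (SGA1.genericResidueMap (algebraMap A (KA A f n))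
      (Ideal.span {f i}) q hq) ∪ Set.range (T ∘ eo)) with hS
  have hmemA : ∀ a : KA A f n, algebraMap (KA A f n) q.ResidueField a ∈ S := by
    intro a
    obtain ⟨p, rfl⟩ := Ideal.Quotient.mk_surjective a
    induction p using MvPolynomial.induction_on with
    | C a =>
      have : algebraMap (KA A f n) q.ResidueField (Ideal.Quotient.mk _ (MvPolynomial.C a)) =
          SGA1.genericResidueMap (algebraMap A (KA A f n)) (Ideal.span {f i}) q hq
            (algebraMap A _ a) := (hgA a).symm
      rw [this]
      exact Subfield.subset_closure (Or.inl ⟨_, rfl⟩)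
    | add p₁ p₂ h₁ h₂ =>
      rw [map_add, map_add]
      exact S.add_mem h₁ h₂
    | mul_X p j h =>
      rw [map_mul, map_mul]
      refine S.mul_mem h ?_
      apply Subfield.subset_closure
      refine Or.inr ⟨eo.symm j, ?_⟩
      show T (eo (eo.symm j)) = _
      rw [Equiv.apply_symm_apply]
  obtain ⟨y, z, hz, rfl⟩ := IsFractionRing.div_surjective (A := KA A f n ⧸ q) x
  obtain ⟨y, rfl⟩ := Ideal.Quotient.mk_surjective y
  obtain ⟨z, rfl⟩ := Ideal.Quotient.mk_surjective (z : KA A f n ⧸ q)
  refine S.div_mem ?_ ?_
  · exact hmemA y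
  · exact hmemA z

end Main

end Groth.Agent.Helper7.KTm
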