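import Mathlib

namespace Groth.Agent.Helper7.KaehSep

universe u

open scoped IntermediateField.algebraAdjoinAdjoin

theorem finrank_kaehler_of_algEquiv_mvPolynomial (K : Type u) [Field K] (A : Type u) [CommRing A]
    [Algebra K A] [Nontrivial A] (n : ℕ) (e : MvPolynomial (Fin n) K ≃ₐ[K] A) :
    Module.Free A (Ω[A⁄K]) ∧ Module.finrank A (Ω[A⁄K]) = n := by
  letI : Algebra (MvPolynomial (Fin n) K) A := e.toAlgHom.toRingHom.toAlgebra
  haveI : IsScalarTower K (MvPolynomial (Fin n) K) A :=
    IsScalarTower.of_algebraMap_eq' e.toAlgHom.comp_algebraMap.symm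
  haveI : Algebra.FormallyEtale (MvPolynomial (Fin n) K) A := by
    let e' : MvPolynomial (Fin n) K ≃ₐ[MvPolynomial (Fin n) K] A :=
      { e.toRingEquiv with commutes' := fun r => rfl }
    exact Algebra.FormallyEtale.of_equiv e'
  haveI : Module.Free (MvPolynomial (Fin n) K) (Ω[(MvPolynomial (Fin n) K)⁄K]) :=
    Module.Free.of_basis (KaehlerDifferential.mvPolynomialBasis K (Fin n))
  refine ⟨Module.Free.of_equiv
    (KaehlerDifferential.tensorKaehlerEquivOfFormallyEtale K (MvPolynomial (Fin n) K) A), ?_⟩
  rw [← (KaehlerDifferential.tensorKaehlerEquivOfFormallyEtale K (MvPolynomial (Fin n) K) A).finrank_eq,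
    Module.finrank_baseChange,
    Module.finrank_eq_card_basis (KaehlerDifferential.mvPolynomialBasis K (Fin n))]
  simp

theorem result (K L : Type u) [Field K] [Field L] [Algebra K L]
    (n : ℕ) (a : Fin n → L) (ha : IsTranscendenceBasis K a)
    (hsep : Algebra.IsSeparable ↥(IntermediateField.adjoin K (Set.range a)) L) :
    Module.finrank L (Ω[L⁄K]) = n := by
  have hb : AlgebraicIndependent K a := ha.1
  haveI : Algebra.FormallyEtale (IntermediateField.adjoin K (Set.range a)) L :=
    Algebra.FormallyEtale.of_isSeparable _ L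
  haveI : Algebra.FormallyEtale (Algebra.adjoin K (Set.range a))
      (IntermediateField.adjoin K (Set.range a)) := .of_isLocalization (nonZeroDivisors _)
  obtain ⟨hfree, h1⟩ := finrank_kaehler_of_algEquiv_mvPolynomial K
    (Algebra.adjoin K (Set.range a)) n hb.aevalEquiv
  haveI := hfree
  haveI : Module.Free (IntermediateField.adjoin K (Set.range a))
      (Ω[(IntermediateField.adjoin K (Set.range a))⁄K]) := Module.Free.of_divisionRing _ _
  have h2 : Module.finrank (IntermediateField.adjoin K (Set.range a))
      (Ω[(IntermediateField.adjoin K (Set.range a))⁄K]) = n := by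
    rw [← (KaehlerDifferential.tensorKaehlerEquivOfFormallyEtale K
      (Algebra.adjoin K (Set.range a)) (IntermediateField.adjoin K (Set.range a))).finrank_eq,
      Module.finrank_baseChange, h1]
  rw [← (KaehlerDifferential.tensorKaehlerEquivOfFormallyEtale K
      (IntermediateField.adjoin K (Set.range a)) L).finrank_eq,
      Module.finrank_baseChange, h2]

end Groth.Agent.Helper7.KaehSep
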