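import Mathlib
import Groth.Prelude.Def_W4c1frobunstivaNR

set_option autoImplicit false

namespace Groth.Agent.Helper7.KerNR

open W4c1frobunstiva Module

universe u v

/-- Kernel of a surjection between finite free modules over a local ring is free of the expected
rank. -/
theorem free_ker (R : Type u) [CommRing R] [IsLocalRing R] (r t : ℕ)
    (g : (Fin r → R) →ₗ[R] (Fin t → R)) (hg : Function.Surjective g) :
    t ≤ r ∧ Nonempty (Module.Basis (Fin (r - t)) R (LinearMap.ker g)) := by
  obtain ⟨σ, hσ⟩ := Module.projective_lifting_property g LinearMap.id hg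
  have hex : Function.Exact (LinearMap.ker g).subtype g := LinearMap.exact_subtype_ker_map g
  have hinj : Function.Injective (LinearMap.ker g).subtype := Subtype.val_injective
  obtain ⟨e, he1, he2⟩ := (hex.splitSurjectiveEquiv hinj) ⟨σ, hσ⟩
  haveI : Module.Projective R (LinearMap.ker g × (Fin t → R)) := Module.Projective.of_equiv e
  haveI : Module.Projective R (LinearMap.ker g) :=
    Module.Projective.of_split (LinearMap.inl R _ (Fin t → R)) (LinearMap.fst R _ _) (by ext; simp)
  haveI : Module.Finite R (LinearMap.ker g) :=
    Module.Finite.of_surjective ((LinearMap.fst R _ (Fin t → R)).comp e.toLinearMap)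
      (by
        intro x
        exact ⟨e.symm (x, 0), by simp⟩)
  haveI : Module.Free R (LinearMap.ker g) := Module.free_of_flat_of_isLocalRing
  have h1 : Module.finrank R (Fin r → R) =
      Module.finrank R (LinearMap.ker g) + Module.finrank R (Fin t → R) := by
    rw [e.finrank_eq, Module.finrank_prod]
  rw [Module.finrank_fin_fun, Module.finrank_fin_fun] at h1
  refine ⟨by omega, ⟨Module.finBasisOfFinrankEq R _ (by omega)⟩⟩

theorem isNRFree_of_fintype {R : Type u} [CommRing R] {M : Type v} [AddCommGroup M] [Module R M]
    {ι : Type} [Fintype ι] (m : ι → M) (hspan : Submodule.span R (Set.range m) = ⊤)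
    (hrel : ∀ a : ι → R, (∑ i, a i • m i) = 0 → ∀ i, IsNilpotent (a i))
    (n : ℕ) (hcard : Fintype.card ι = n) : IsNRFree R M n := by
  let e : ι ≃ Fin n := Fintype.equivFinOfCardEq hcard
  refine ⟨m ∘ e.symm, ?_, ?_⟩
  · rw [e.symm.surjective.range_comp, hspan]
  · intro a ha i
    have h1 : ∑ j, (a (e j)) • m j = 0 := by
      rw [← ha]
      rw [← Equiv.sum_comp e.symm]
      simp
    have := hrel (fun j => a (e j)) h1 (e.symm i)
    simpa using this

theorem isNRFree_of_basis {R : Type u} [CommRing R] {M : Type v} [AddCommGroup M] [Module R M]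
    (n : ℕ) (b : Module.Basis (Fin n) R M) : IsNRFree R M n := by
  refine ⟨b, b.span_eq, ?_⟩
  intro a ha i
  have := (Fintype.linearIndependent_iff.mp b.linearIndependent) a ha i
  rw [this]; exact IsNilpotent.zero

end Groth.Agent.Helper7.KerNR
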