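import Mathlib
import Groth.Agent.Helper7.KerNR

set_option autoImplicit false

namespace Groth.Agent.Helper7.KerNR

open W4c1frobunstiva Module

universe u v

theorem main_aux (R : Type u) [CommRing R] [IsNoetherianRing R] [IsLocalRing R] (f : R)
    (hann : ∀ a : R, a * f = 0 → IsNilpotent a) (r s l : ℕ) (hls : l ≤ s)
    (gen : Fin l → (Fin s → R)) (hgen : gen = fun i => Pi.single (Fin.castLE hls i) f)
    (L : Submodule R (Fin s → R)) (hL : L = Submodule.span R (Set.range gen))
    (φ : (Fin r → R) →ₗ[R] ((Fin s → R) ⧸ L))
    (hφ : Function.Surjective φ) :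
    IsNRFree R (LinearMap.ker φ) (r + l - s) ∧
      (l = 0 → Nonempty (Module.Basis (Fin (r - s)) R (LinearMap.ker φ))) := by
  classical

  obtain ⟨ψ, hψ⟩ := Module.projective_lifting_property L.mkQ φ (Submodule.mkQ_surjective L)
  have hψ' : ∀ c, L.mkQ (ψ c) = φ c := fun c => LinearMap.congr_fun hψ c
  have hker : LinearMap.ker φ = L.comap ψ := by
    ext x
    rw [LinearMap.mem_ker, Submodule.mem_comap, ← hψ' x, Submodule.mkQ_apply,
      Submodule.Quotient.mk_eq_zero]
  -- the coordinate projection
  let ρ : (Fin s → R) →ₗ[R] (Fin (s - l) → R) :=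
    LinearMap.funLeft R R (fun j : Fin (s - l) => (⟨l + j, by omega⟩ : Fin s))
  have hρapp : ∀ (x : Fin s → R) (j : Fin (s - l)), ρ x j = x ⟨l + j, by omega⟩ := fun x j => rfl
  have hρsurj : Function.Surjective ρ := by
    intro y
    refine ⟨fun i => if h : l ≤ i then y ⟨i - l, by omega⟩ else 0, ?_⟩
    ext j
    rw [hρapp]
    simp
  have hLρ : L ≤ LinearMap.ker ρ := by
    rw [hL, Submodule.span_le]
    rintro _ ⟨i, rfl⟩
    rw [SetLike.mem_coe, LinearMap.mem_ker]
    ext j
    rw [hρapp]
    simp only [hgen, Pi.zero_apply]
    rw [Pi.single_apply, if_neg]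
    intro h
    have := congrArg Fin.val h
    simp at this
    omega
  have hρψ : Function.Surjective (ρ ∘ₗ ψ) := by
    intro y
    obtain ⟨x, rfl⟩ := hρsurj y
    obtain ⟨c, hc⟩ := hφ (L.mkQ x)
    refine ⟨c, ?_⟩
    have h1 : ψ c - x ∈ L := by
      rw [← Submodule.Quotient.mk_eq_zero, Submodule.Quotient.mk_sub, ← Submodule.mkQ_apply,
        ← Submodule.mkQ_apply, hψ', hc, sub_self]
    have h2 := hLρ h1
    rw [LinearMap.mem_ker, map_sub, sub_eq_zero] at h2
    exact h2
  have caseA : LinearMap.ker ρ ≤ L →
      (s - l ≤ r ∧ Nonempty (Module.Basis (Fin (r - (s - l))) R (LinearMap.ker φ))) := by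
    intro hle
    have hLeq : L = LinearMap.ker ρ := le_antisymm hLρ hle
    have hk2 : LinearMap.ker φ = LinearMap.ker (ρ ∘ₗ ψ) := by
      rw [hker, hLeq, LinearMap.ker_comp]
    obtain ⟨h1, ⟨b⟩⟩ := free_ker R r (s - l) (ρ ∘ₗ ψ) hρψ
    exact ⟨h1, ⟨b.map (LinearEquiv.ofEq _ _ hk2.symm)⟩⟩
  have hidx : ∀ h1 : s - l ≤ r, r - (s - l) = r + l - s := fun h1 => by omega
  constructor
  · by_cases hf : IsUnit f
    · -- unit case
      obtain ⟨u, hu⟩ := hf
      have hle : LinearMap.ker ρ ≤ L := by
        intro x hx
        rw [LinearMap.mem_ker] at hx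
        have hx0 : ∀ k : Fin s, l ≤ (k : ℕ) → x k = 0 := by
          intro k hk
          have := congrFun hx ⟨(k : ℕ) - l, by omega⟩
          rw [hρapp] at this
          simp only [Pi.zero_apply] at this
          convert this using 2
          ext; simp; omega
        have hxe : x = ∑ i : Fin l, (x (Fin.castLE hls i) * (↑u⁻¹ : R)) • gen i := by
          ext k
          rw [Finset.sum_apply]
          simp only [hgen, Pi.smul_apply, smul_eq_mul, Pi.single_apply]
          by_cases hk : (k : ℕ) < l
          · rw [Finset.sum_eq_single (⟨k, hk⟩ : Fin l)]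
            · rw [if_pos (by ext; simp)]
              have : Fin.castLE hls ⟨k, hk⟩ = k := by ext; simp
              rw [this, mul_assoc, ← hu, Units.inv_mul, mul_one]
            · intro b _ hb
              rw [if_neg, mul_zero]
              intro h
              apply hb
              ext
              have := congrArg Fin.val h
              simpa using this.symm
            · intro h; exact absurd (Finset.mem_univ _) h
          · rw [hx0 k (by omega)]
            symm
            apply Finset.sum_eq_zero
            intro i _
            rw [if_neg, mul_zero]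
            intro h
            have := congrArg Fin.val h
            simp at this
            omega
        rw [hxe, hL]
        exact Submodule.sum_mem _ fun i _ => Submodule.smul_mem _ _ (Submodule.subset_span ⟨i, rfl⟩)
      obtain ⟨h1, ⟨b⟩⟩ := caseA hle
      have := isNRFree_of_basis _ b
      rwa [hidx h1] at this
    · -- non-unit case
      have hfm : f ∈ IsLocalRing.maximalIdeal R := (IsLocalRing.mem_maximalIdeal f).mpr hf
      have hLm : L ≤ (IsLocalRing.maximalIdeal R) • (⊤ : Submodule R (Fin s → R)) := by
        rw [hL, Submodule.span_le]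
        rintro _ ⟨i, rfl⟩
        have : gen i = f • (Pi.single (Fin.castLE hls i) (1 : R) : Fin s → R) := by
          ext k
          simp [hgen, Pi.single_apply]
        rw [SetLike.mem_coe, this]
        exact Submodule.smul_mem_smul hfm Submodule.mem_top
      have hψsurj : Function.Surjective ψ := by
        rw [← LinearMap.range_eq_top, eq_top_iff]
        apply Submodule.le_of_le_smul_of_le_jacobson_bot (I := IsLocalRing.maximalIdeal R)
          (Module.Finite.fg_top) (IsLocalRing.maximalIdeal_le_jacobson _)
        intro x _
        obtain ⟨c, hc⟩ := hφ (L.mkQ x)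
        have h1 : x - ψ c ∈ L := by
          rw [← Submodule.Quotient.mk_eq_zero, Submodule.Quotient.mk_sub, ← Submodule.mkQ_apply,
            ← Submodule.mkQ_apply, hψ', hc, sub_self]
        have : x = ψ c + (x - ψ c) := by abel
        rw [this]
        exact Submodule.add_mem_sup ⟨c, rfl⟩ (hLm h1)
      obtain ⟨hsr, ⟨b⟩⟩ := free_ker R r s ψ hψsurj
      obtain ⟨σ, hσ⟩ := Module.projective_lifting_property ψ LinearMap.id hψsurj
      have hσ' : ∀ y, ψ (σ y) = y := fun y => LinearMap.congr_fun hσ y
      -- the family
      have hm1 : ∀ j, ((b j : LinearMap.ker ψ) : Fin r → R) ∈ LinearMap.ker φ := by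
        intro j
        rw [hker, Submodule.mem_comap, (b j).2]
        exact zero_mem _
      have hm2 : ∀ i, σ (gen i) ∈ LinearMap.ker φ := by
        intro i
        rw [hker, Submodule.mem_comap, hσ', hL]
        exact Submodule.subset_span ⟨i, rfl⟩
      let m : Fin (r - s) ⊕ Fin l → LinearMap.ker φ :=
        Sum.elim (fun j => ⟨(b j : Fin r → R), hm1 j⟩) (fun i => ⟨σ (gen i), hm2 i⟩)
      have hsum : ∀ a : Fin (r - s) ⊕ Fin l → R,
          ((∑ i, a i • m i : LinearMap.ker φ) : Fin r → R) =
            ∑ j, a (Sum.inl j) • ((b j : LinearMap.ker ψ) : Fin r → R) +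
              ∑ i, a (Sum.inr i) • σ (gen i) := by
        intro a
        rw [Fintype.sum_sum_type]
        simp [m]
      refine isNRFree_of_fintype m ?_ ?_ (r + l - s) (by simp; omega)
      · rw [eq_top_iff]
        rintro ⟨x, hx⟩ _
        rw [Submodule.mem_span_range_iff_exists_fun]
        have hx' : ψ x ∈ Submodule.span R (Set.range gen) := by rwa [hker, hL] at hx
        obtain ⟨c, hc⟩ := (Submodule.mem_span_range_iff_exists_fun R).mp hx'
        have hxk : x - σ (ψ x) ∈ LinearMap.ker ψ := by
          rw [LinearMap.mem_ker, map_sub, hσ', sub_self]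
        have hrepr := b.sum_repr ⟨x - σ (ψ x), hxk⟩
        refine ⟨Sum.elim (fun j => b.repr ⟨x - σ (ψ x), hxk⟩ j) c, ?_⟩
        apply Subtype.ext
        rw [hsum]
        simp only [Sum.elim_inl, Sum.elim_inr]
        have h3 : ∑ j, (b.repr ⟨x - σ (ψ x), hxk⟩ j) • ((b j : LinearMap.ker ψ) : Fin r → R) =
            x - σ (ψ x) := by
          have h3' := congrArg (LinearMap.ker ψ).subtype hrepr
          rw [map_sum] at h3'
          simpa only [map_smul, Submodule.subtype_apply] using h3'
        have h4 : ∑ i, c i • σ (gen i) = σ (ψ x) := by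
          rw [← hc, map_sum]
          simp
        rw [h3, h4]; abel
      · intro a ha
        have ha' := congrArg (Subtype.val) ha
        rw [hsum] at ha'
        simp only [ZeroMemClass.coe_zero] at ha'
        -- apply ψ
        have h5 := congrArg ψ ha'
        rw [map_add, map_sum, map_sum, map_zero] at h5
        have h6 : ∑ j, ψ (a (Sum.inl j) • ((b j : LinearMap.ker ψ) : Fin r → R)) = 0 := by
          apply Finset.sum_eq_zero
          intro j _
          rw [map_smul, (b j).2, smul_zero]
        rw [h6, zero_add] at h5
        have h7 : ∀ i, a (Sum.inr i) * f = 0 := by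
          intro i
          have := congrFun h5 (Fin.castLE hls i)
          rw [Finset.sum_apply] at this
          simp only [map_smul, hσ', hgen, Pi.smul_apply, smul_eq_mul, Pi.single_apply,
            Pi.zero_apply] at this
          rw [Finset.sum_eq_single i] at this
          · simpa using this
          · intro k _ hk
            rw [if_neg, mul_zero]
            intro h
            apply hk
            have := congrArg Fin.val h
            ext
            simpa using this.symm
          · intro h; exact absurd (Finset.mem_univ _) h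
        have h8 : ∑ i, a (Sum.inr i) • σ (gen i) = 0 := by
          apply Finset.sum_eq_zero
          intro i _
          rw [← map_smul]
          have : a (Sum.inr i) • gen i = 0 := by
            ext k
            simp only [hgen, Pi.smul_apply, smul_eq_mul, Pi.single_apply, Pi.zero_apply]
            split_ifs
            · exact h7 i
            · rw [mul_zero]
          rw [this, map_zero]
        rw [h8, add_zero] at ha'
        have h9 : ∑ j, a (Sum.inl j) • b j = 0 := by
          apply Subtype.ext
          simpa using ha'
        have h10 := Fintype.linearIndependent_iff.mp b.linearIndependent _ h9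
        rintro (j | i)
        · rw [h10 j]; exact IsNilpotent.zero
        · exact hann _ (h7 i)
  · intro hl0
    subst hl0
    have hle : LinearMap.ker ρ ≤ L := by
      intro x hx
      rw [LinearMap.mem_ker] at hx
      have : x = 0 := by
        ext k
        have h := congrFun hx ⟨(k : ℕ), by omega⟩
        rw [hρapp] at h
        simp only [Pi.zero_apply] at h
        have hk : (⟨0 + (k : ℕ), by omega⟩ : Fin s) = k := by ext; simp
        rw [Pi.zero_apply, ← h]
        exact congrArg x hk.symm
      rw [this]; exact zero_mem _
    obtain ⟨h1, ⟨b⟩⟩ := caseA hle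
    exact ⟨b⟩

theorem main (R : Type u) [CommRing R] [IsNoetherianRing R] [IsLocalRing R] (f : R)
    (hann : ∀ a : R, a * f = 0 → IsNilpotent a) (r s l : ℕ) (hls : l ≤ s)
    (φ : (Fin r → R) →ₗ[R]
      ((Fin s → R) ⧸ Submodule.span R (Set.range fun i : Fin l => (Pi.single (Fin.castLE hls i) f : Fin s → R))))
    (hφ : Function.Surjective φ) :
    IsNRFree R (LinearMap.ker φ) (r + l - s) ∧
      (l = 0 → Nonempty (Module.Basis (Fin (r - s)) R (LinearMap.ker φ))) :=
  main_aux R f hann r s l hls _ rfl _ rfl φ hφ

end Groth.Agent.Helper7.KerNR
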