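import Mathlib

set_option autoImplicit false

/-!
# The Kummer-type polynomial `P` with `wᵖ P(X) = (1 + wX)ᵖ - 1`, `w = 1 - ζ`
-/

namespace Groth.Agent.Helper7.KmR

open Polynomial IsLocalRing

universe u

section PStruct

variable (p : ℕ) [hp : Fact p.Prime] {A : Type u} [CommRing A] [IsDomain A] [CharZero A]
  (ζ : A) (hζ : aeval ζ (cyclotomic p ℤ) = 0)
  (P : A[X]) (hP : C ((1 - ζ) ^ p) * P = (1 + C (1 - ζ) * X) ^ p - 1)

include hζ in
theorem isPrimitiveRoot : IsPrimitiveRoot ζ p := by
  rw [← isRoot_cyclotomic_iff_charZero hp.out.pos, IsRoot.def, ← map_cyclotomic_int,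
    eval_map]
  have h := hζ
  rw [aeval_def, algebraMap_int_eq] at h
  exact h

include hζ in
theorem zeta_pow : ζ ^ p = 1 := (isPrimitiveRoot p ζ hζ).pow_eq_one

include hζ in
theorem w_ne_zero : (1 - ζ) ≠ 0 := by
  intro h
  exact (isPrimitiveRoot p ζ hζ).ne_one hp.out.one_lt (sub_eq_zero.1 h).symm

theorem rhs_natDegree (w : A) (hw : w ≠ 0) : ((1 + C w * X) ^ p - 1 : A[X]).natDegree = p := by
  have h1 : (1 + C w * X : A[X]) = C w * X + C 1 := by rw [map_one]; ring
  have h2 : ((1 + C w * X : A[X]) ^ p).natDegree = p := by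
    rw [natDegree_pow, h1, natDegree_linear hw, mul_one]
  rw [natDegree_sub_eq_left_of_natDegree_lt (by rw [h2, natDegree_one]; exact hp.out.pos), h2]

theorem rhs_leadingCoeff (w : A) (hw : w ≠ 0) :
    ((1 + C w * X) ^ p - 1 : A[X]).leadingCoeff = w ^ p := by
  have h1 : (1 + C w * X : A[X]) = C w * X + C 1 := by rw [map_one]; ring
  have h2 : ((1 + C w * X : A[X]) ^ p).natDegree = p := by
    rw [natDegree_pow, h1, natDegree_linear hw, mul_one]
  have h3 : (1 : A[X]).degree < ((1 + C w * X : A[X]) ^ p).degree := by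
    apply degree_lt_degree
    rw [h2, natDegree_one]; exact hp.out.pos
  rw [leadingCoeff_sub_of_degree_lt h3, leadingCoeff_pow, h1, leadingCoeff_linear hw]

include hζ hP in
theorem P_natDegree : P.natDegree = p := by
  have hw := w_ne_zero p ζ hζ
  have h1 := congrArg natDegree hP
  rw [natDegree_C_mul (pow_ne_zero _ hw), rhs_natDegree p _ hw] at h1
  exact h1

include hζ hP in
theorem P_monic : P.Monic := by
  have hw := w_ne_zero p ζ hζ
  have h1 := congrArg leadingCoeff hP
  rw [leadingCoeff_mul, leadingCoeff_C, rhs_leadingCoeff p _ hw] at h1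
  have h2 : (1 - ζ) ^ p * P.leadingCoeff = (1 - ζ) ^ p * 1 := by rw [h1, mul_one]
  exact mul_left_cancel₀ (pow_ne_zero _ hw) h2

/-- evaluation of the defining identity -/
theorem aeval_P' (w : A) (Q : A[X]) (hQ : C (w ^ p) * Q = (1 + C w * X) ^ p - 1)
    {L : Type u} [CommRing L] [Algebra A L] (z : L) :
    algebraMap A L w ^ p * aeval z Q = (1 + algebraMap A L w * z) ^ p - 1 := by
  have := congrArg (aeval z) hQ
  simp only [map_mul, map_sub, map_add, map_pow, map_one, aeval_C, aeval_X] at this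
  exact this

include hP in
theorem aeval_P {L : Type u} [CommRing L] [Algebra A L] (z : L) :
    algebraMap A L (1 - ζ) ^ p * aeval z P = (1 + algebraMap A L (1 - ζ) * z) ^ p - 1 :=
  aeval_P' p (1 - ζ) P hP z

include hζ hP in
/-- the roots `-(1 + ζ + ⋯ + ζ^{i-1})` of `P` -/
theorem eval_P_geom (i : ℕ) : P.eval (-(∑ j ∈ Finset.range i, ζ ^ j)) = 0 := by
  have hw := w_ne_zero p ζ hζ
  have h1 := congrArg (eval (-(∑ j ∈ Finset.range i, ζ ^ j))) hP
  rw [eval_mul, eval_C, eval_sub, eval_pow, eval_add, eval_one, eval_mul, eval_C, eval_X] at h1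
  have h2 : 1 + (1 - ζ) * -(∑ j ∈ Finset.range i, ζ ^ j) = ζ ^ i := by
    have := geom_sum_mul ζ i
    linear_combination this
  have h3 : (ζ ^ i) ^ p = 1 := by
    rw [← pow_mul, mul_comm, pow_mul, zeta_pow p ζ hζ, one_pow]
  rw [h2, h3, sub_self] at h1
  exact (mul_eq_zero.1 h1).resolve_left (pow_ne_zero _ hw)

include hP hζ in
/-- `p ∈ w^{p-1} A` -/
theorem exists_p_eq : ∃ c₁ : A, (p : A) = c₁ * (1 - ζ) ^ (p - 1) := by
  have hw := w_ne_zero p ζ hζ
  have h1 := congrArg (fun Q => eval 0 (derivative Q)) hP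
  simp only [derivative_mul, derivative_C, zero_mul, zero_add, derivative_sub, derivative_pow,
    derivative_add, derivative_one, derivative_X, mul_one, sub_zero, eval_mul, eval_C, eval_pow,
    eval_add, eval_one, eval_X, mul_zero, add_zero, one_pow] at h1
  refine ⟨eval 0 (derivative P), ?_⟩
  obtain ⟨q, hq⟩ : ∃ q, p = q + 1 := ⟨p - 1, by have := hp.out.one_le; omega⟩
  have h6 : p - 1 = q := by omega
  rw [h6]
  apply mul_left_cancel₀ hw
  rw [hq, pow_succ] at h1
  rw [hq]
  push_cast at h1 ⊢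
  linear_combination -h1

end PStruct

section PRed

variable (p : ℕ) [hp : Fact p.Prime] {A : Type u} [CommRing A] [IsDomain A] [CharZero A]
  [IsLocalRing A] [CharP (ResidueField A) p]
  (ζ : A) (hζ : aeval ζ (cyclotomic p ℤ) = 0)
  (P : A[X]) (hP : C ((1 - ζ) ^ p) * P = (1 + C (1 - ζ) * X) ^ p - 1)

include hζ in
theorem residue_zeta : residue A ζ = 1 := by
  have h1 : (residue A ζ - 1) ^ p = 0 := by
    rw [sub_pow_char, ← map_pow, zeta_pow p ζ hζ, map_one, one_pow, sub_self]
  exact sub_eq_zero.1 (pow_eq_zero_iff hp.out.ne_zero |>.1 h1)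

include hζ in
theorem w_mem : (1 - ζ) ∈ maximalIdeal A := by
  rw [← residue_eq_zero_iff, map_sub, map_one, residue_zeta p ζ hζ, sub_self]

include hζ hP in
/-- the reduction of `P` is the Artin–Schreier polynomial `Xᵖ - X` -/
theorem P_map : P.map (residue A) = X ^ p - X := by
  classical
  let ι : ZMod p →+* ResidueField A := ZMod.castHom (dvd_refl p) (ResidueField A)
  have hmon : (P.map (residue A)).Monic := (P_monic p ζ hζ P hP).map _
  have hdeg : (P.map (residue A)).natDegree = p := by
    rw [(P_monic p ζ hζ P hP).natDegree_map, P_natDegree p ζ hζ P hP]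
  have hmon2 : (X ^ p - X : (ResidueField A)[X]).Monic :=
    monic_X_pow_sub (by rw [degree_X]; exact_mod_cast hp.out.one_lt)
  have hdeg2 : (X ^ p - X : (ResidueField A)[X]).natDegree = p := by
    rw [natDegree_sub_eq_left_of_natDegree_lt
      (by rw [natDegree_X, natDegree_X_pow]; exact hp.out.one_lt), natDegree_X_pow]
  rw [← sub_eq_zero]
  apply eq_zero_of_natDegree_lt_card_of_eval_eq_zero _ ι.injective
  · intro j
    rw [eval_sub, sub_eq_zero]
    have h1 : eval (ι j) (X ^ p - X : (ResidueField A)[X]) = 0 := by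
      rw [eval_sub, eval_pow, eval_X, ← map_pow, ZMod.pow_card, sub_self]
    rw [h1]
    have h2 := eval_P_geom p ζ hζ P hP ((-j).val)
    have h3 := congrArg (residue A) h2
    rw [map_zero, ← eval₂_at_apply, ← eval_map] at h3
    have h4 : residue A (-(∑ k ∈ Finset.range ((-j).val), ζ ^ k)) = ι j := by
      rw [map_neg, map_sum]
      simp only [map_pow, residue_zeta p ζ hζ, one_pow, Finset.sum_const, Finset.card_range,
        nsmul_eq_mul, mul_one]
      have h5 : (((-j).val : ℕ) : ResidueField A) = ι (-j) := by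
        rw [← map_natCast ι, ZMod.natCast_zmod_val]
      rw [h5, map_neg, neg_neg]
    rw [h4] at h3
    exact h3
  · rw [ZMod.card]
    by_cases h0 : P.map (residue A) - (X ^ p - X) = 0
    · rw [h0, natDegree_zero]; exact hp.out.pos
    · have h1 : (P.map (residue A) - (X ^ p - X)).degree < (P.map (residue A)).degree :=
        degree_sub_lt_left
          (by rw [degree_eq_natDegree hmon.ne_zero, degree_eq_natDegree hmon2.ne_zero, hdeg, hdeg2])
          hmon.ne_zero (by rw [hmon.leadingCoeff, hmon2.leadingCoeff])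
      have := natDegree_lt_natDegree h0 h1
      rwa [hdeg] at this

end PRed

end Groth.Agent.Helper7.KmR
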