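import Mathlib
import Groth.Prelude.Def_EtRam
import Groth.Agent.Helper7.KmRA
import Groth.Agent.Helper7.KmRB

set_option autoImplicit false

/-!
# The three criteria for the Kummer-type polynomial
-/

namespace Groth.Agent.Helper7.KmR

open Polynomial IsLocalRing Groth.Agent.Helper7.ASch

universe u

section Val

variable {A L : Type u} [CommRing A] [IsLocalRing A] [Field L] [Algebra A L]
  (V : ValuationSubring L) (hV : EtRam.Dominates A (algebraMap A L) V)

include hV in
/-- the value of a monic polynomial at an element of valuation `> 1` -/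
theorem val_aeval_monic (Q : A[X]) (hQ : Q.Monic) (z : L) (hz1 : 1 < V.valuation z) :
    V.valuation (aeval z Q) = V.valuation z ^ Q.natDegree := by
  have h1 := hQ.as_sum
  have h2 : aeval z Q = z ^ Q.natDegree +
      ∑ i ∈ Finset.range Q.natDegree, algebraMap A L (Q.coeff i) * z ^ i := by
    conv_lhs => rw [h1]
    rw [map_add, map_pow, aeval_X, map_sum]
    congr 1
    apply Finset.sum_congr rfl
    intro i _
    rw [map_mul, aeval_C, map_pow, aeval_X]
  have hz0 : V.valuation z ≠ 0 := (lt_trans zero_lt_one hz1).ne'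
  have h3 : V.valuation (∑ i ∈ Finset.range Q.natDegree, algebraMap A L (Q.coeff i) * z ^ i) <
      V.valuation z ^ Q.natDegree := by
    apply Valuation.map_sum_lt _ (pow_ne_zero _ hz0)
    intro i hi
    rw [map_mul, map_pow]
    calc V.valuation (algebraMap A L (Q.coeff i)) * V.valuation z ^ i
        ≤ 1 * V.valuation z ^ i :=
          mul_le_mul_left ((V.valuation_le_one_iff _).2 (hV.1 _)) _
      _ = V.valuation z ^ i := one_mul _
      _ < V.valuation z ^ Q.natDegree := pow_lt_pow_right₀ hz1 (Finset.mem_range.1 hi)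
  rw [h2, Valuation.map_add_eq_of_lt_left _ (by rw [map_pow]; exact h3), map_pow]

include hV in
theorem val_aeval_le (Q : A[X]) (z : L) (hz1 : V.valuation z ≤ 1) :
    V.valuation (aeval z Q) ≤ 1 := by
  have hzV : z ∈ V := (V.valuation_le_one_iff _).1 hz1
  rw [V.valuation_le_one_iff]
  induction Q using Polynomial.induction_on with
  | C a => rw [aeval_C]; exact hV.1 a
  | add p q hp hq => rw [map_add]; exact add_mem hp hq
  | monomial k a _ =>
    rw [map_mul, aeval_C, map_pow, aeval_X]
    exact mul_mem (hV.1 a) (pow_mem hzV _)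

end Val

section Crit

variable (p : ℕ) [hp : Fact p.Prime] {A K L : Type u} [CommRing A] [IsDomain A]
  [IsDiscreteValuationRing A] [Field K] [Algebra A K] [IsFractionRing A K] [Field L] [Algebra K L]
  [Algebra A L] [IsScalarTower A K L] [CharZero K] [CharP (ResidueField A) p]
  (ζ : A) (hζ : aeval ζ (cyclotomic p ℤ) = 0)
  (P : A[X]) (hP : C ((1 - ζ) ^ p) * P = (1 + C (1 - ζ) * X) ^ p - 1)
  (π : A) (hπ : maximalIdeal A = Ideal.span {π})

include K in
theorem charZero_A : CharZero A := (algebraMap A K).charZero

/-- the polynomial `P - ξ` over `K` -/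
noncomputable def FK (ξ : K) : K[X] := P.map (algebraMap A K) - C ξ

include hζ hP in
theorem FK_monic (ξ : K) : (FK P ξ).Monic := by
  haveI := charZero_A (A := A) (K := K)
  unfold FK
  apply Monic.sub_of_left ((P_monic p ζ hζ P hP).map _)
  rw [degree_eq_natDegree ((P_monic p ζ hζ P hP).map _).ne_zero,
    (P_monic p ζ hζ P hP).natDegree_map, P_natDegree p ζ hζ P hP]
  exact lt_of_le_of_lt degree_C_le (by exact_mod_cast hp.out.pos)

include hζ hP in
theorem FK_natDegree (ξ : K) : (FK P ξ).natDegree = p := by
  haveI := charZero_A (A := A) (K := K)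
  unfold FK
  have h1 : (P.map (algebraMap A K)).natDegree = p := by
    rw [(P_monic p ζ hζ P hP).natDegree_map, P_natDegree p ζ hζ P hP]
  rw [natDegree_sub_eq_left_of_natDegree_lt (by rw [natDegree_C, h1]; exact hp.out.pos), h1]

theorem aeval_FK (ξ : K) (z : L) (hz : aeval z P = algebraMap K L ξ) : aeval z (FK P ξ) = 0 := by
  unfold FK
  rw [map_sub, aeval_map_algebraMap, aeval_C, hz, sub_self]

include hζ hP in
theorem finiteDimensional' (ξ : K) (z : L) (hz : aeval z P = algebraMap K L ξ)
    (hgen : IntermediateField.adjoin K {z} = ⊤) : FiniteDimensional K L := by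
  have hint : IsIntegral K z := ⟨FK P ξ, FK_monic p ζ hζ P hP ξ, aeval_FK P ξ z hz⟩
  haveI : FiniteDimensional K (IntermediateField.adjoin K {z}) :=
    IntermediateField.adjoin.finiteDimensional hint
  exact Module.Finite.equiv
    ((IntermediateField.equivOfEq hgen).trans IntermediateField.topEquiv).toLinearEquiv

include hζ hP in
theorem finrank_le' (ξ : K) (z : L) (hz : aeval z P = algebraMap K L ξ)
    (hgen : IntermediateField.adjoin K {z} = ⊤) : Module.finrank K L ≤ p := by
  have hint : IsIntegral K z := ⟨FK P ξ, FK_monic p ζ hζ P hP ξ, aeval_FK P ξ z hz⟩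
  have h1 : Module.finrank K L = Module.finrank K (IntermediateField.adjoin K {z}) := by
    rw [hgen, IntermediateField.finrank_top']
  rw [h1, IntermediateField.adjoin.finrank hint]
  calc (minpoly K z).natDegree ≤ (FK P ξ).natDegree :=
        natDegree_le_of_dvd (minpoly.dvd K z (aeval_FK P ξ z hz)) (FK_monic p ζ hζ P hP ξ).ne_zero
    _ = p := FK_natDegree p ζ hζ P hP ξ

include K hζ hP hπ in
/-- criterion (A): integral `ξ` gives an extension unramified over `A` -/
theorem critA (ξ : K) (z : L) (hz : aeval z P = algebraMap K L ξ)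
    (hgen : IntermediateField.adjoin K {z} = ⊤) (a : A) (hξ : algebraMap A K a = ξ) :
    EtRam.IsUnramifiedExt A (algebraMap A L) := by
  haveI := charZero_A (A := A) (K := K)
  have hPm := P_monic p ζ hζ P hP
  have hPd := P_natDegree p ζ hζ P hP
  have hF : (P - C a).Monic := by
    apply Monic.sub_of_left hPm
    rw [degree_eq_natDegree hPm.ne_zero, hPd]
    exact lt_of_le_of_lt degree_C_le (by exact_mod_cast hp.out.pos)
  have hFz : aeval z (P - C a) = 0 := by
    rw [map_sub, aeval_C, hz, ← hξ, ← IsScalarTower.algebraMap_apply, sub_self]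
  have hder : derivative ((P - C a).map (residue A)) = -1 := by
    rw [Polynomial.map_sub, map_C, P_map p ζ hζ P hP, derivative_sub, derivative_sub,
      derivative_X_pow, derivative_X, derivative_C, CharP.cast_eq_zero (ResidueField A) p,
      map_zero, zero_mul, zero_sub, sub_zero]
  exact unramified_general (K := K) π hπ (P - C a) hF z hFz hder hgen

include K hζ hP hπ in
/-- criterion (B): a pole of order prime to `p` gives a totally ramified extension -/
theorem critB (ξ : K) (z : L) (hz : aeval z P = algebraMap K L ξ)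
    (hgen : IntermediateField.adjoin K {z} = ⊤)
    (n : ℕ) (hn0 : 0 < n) (hn : ¬ p ∣ n) (u : Aˣ)
    (hξ : ξ * algebraMap A K π ^ n = algebraMap A K u) :
    EtRam.IsTotallyRamified A (algebraMap A L) ∧ Module.finrank K L = p := by
  haveI := charZero_A (A := A) (K := K)
  have hPm := P_monic p ζ hζ P hP
  have hPd := P_natDegree p ζ hζ P hP
  obtain ⟨α, β, hαβ⟩ := exists_bezout p n hn
  haveI := finiteDimensional' p ζ hζ P hP ξ z hz hgen
  apply totRam_of_varpi (K := K) p π hπ (finrank_le' p ζ hζ P hP ξ z hz hgen)
    (z ^ α * algebraMap A L π ^ β)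
  intro V hV
  set πL : L := algebraMap A L π with hπL
  have hξL : algebraMap K L ξ * πL ^ n = algebraMap A L (u : A) := by
    have := congrArg (algebraMap K L) hξ
    rw [map_mul, map_pow, ← IsScalarTower.algebraMap_apply, ← IsScalarTower.algebraMap_apply]
      at this
    exact this
  have hu1 : V.valuation (algebraMap A L (u : A)) = 1 := val_unit V hV _ u.isUnit
  have hprod : V.valuation (algebraMap K L ξ) * V.valuation πL ^ n = 1 := by
    rw [← map_pow, ← map_mul, hξL, hu1]
  have hδ : V.valuation πL < 1 := val_pi_lt π hπ V hV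
  have hδn : V.valuation πL ^ n < 1 := pow_lt_one₀ zero_le hδ hn0.ne'
  have hzgt : 1 < V.valuation z := by
    by_contra hcon
    push Not at hcon
    have h1 : V.valuation (aeval z P) ≤ 1 := val_aeval_le V hV P z hcon
    rw [hz] at h1
    have h2 : V.valuation (algebraMap K L ξ) * V.valuation πL ^ n < 1 := by
      calc _ ≤ 1 * V.valuation πL ^ n := mul_le_mul_left h1 _
        _ = V.valuation πL ^ n := one_mul _
        _ < 1 := hδn
    rw [hprod] at h2
    exact lt_irrefl _ h2
  have hval : V.valuation z ^ p = V.valuation (algebraMap K L ξ) := by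
    rw [← hz, val_aeval_monic V hV P hPm z hzgt, hPd]
  rw [map_mul, map_pow, map_pow, mul_pow, ← pow_mul, ← pow_mul, mul_comm α p, pow_mul, hval,
    mul_comm β p, hαβ, pow_succ, pow_mul, ← mul_assoc, ← mul_pow, hprod, one_pow, one_mul]

include K hζ hP hπ in
/-- criterion (C): a pole of order divisible by `p` whose leading coefficient is not a `p`-th
power in the residue field -/
theorem critC (ξ : K) (z : L) (hz : aeval z P = algebraMap K L ξ)
    (hgen : IntermediateField.adjoin K {z} = ⊤)
    (m : ℕ) (hm : 0 < m) (a : A) (ha : ∀ r : A, residue A a ≠ residue A r ^ p)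
    (hξ : ξ * algebraMap A K π ^ (p * m) = algebraMap A K a) : Case4 p A L := by
  haveI := charZero_A (A := A) (K := K)
  have hPm := P_monic p ζ hζ P hP
  have hPd := P_natDegree p ζ hζ P hP
  set πL : L := algebraMap A L π with hπL
  have hπL0 : πL ≠ 0 := map_pi_ne_zero (K := K) π hπ
  have hξL : algebraMap K L ξ * πL ^ (p * m) = algebraMap A L a := by
    have := congrArg (algebraMap K L) hξ
    rw [map_mul, map_pow, ← IsScalarTower.algebraMap_apply, ← IsScalarTower.algebraMap_apply]
      at this
    exact this
  set y : L := algebraMap A L (π ^ m) * z with hy_def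
  set G : A[X] := scaleRoots P (π ^ m) - C a with hG_def
  have hsm : (scaleRoots P (π ^ m)).Monic := (monic_scaleRoots_iff _).2 hPm
  have hsd : (scaleRoots P (π ^ m)).natDegree = p := by rw [natDegree_scaleRoots, hPd]
  have hGm : G.Monic := by
    apply Monic.sub_of_left hsm
    rw [degree_eq_natDegree hsm.ne_zero, hsd]
    exact lt_of_le_of_lt degree_C_le (by exact_mod_cast hp.out.pos)
  have hGd : G.natDegree = p := by
    rw [hG_def, natDegree_sub_eq_left_of_natDegree_lt
      (by rw [natDegree_C, hsd]; exact hp.out.pos), hsd]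
  have hGy : aeval y G = 0 := by
    rw [hG_def, map_sub, aeval_C, aeval_def, hy_def, scaleRoots_eval₂_mul, ← aeval_def, hz, hPd,
      map_pow, ← hπL, ← pow_mul, mul_comm m p, mul_comm, hξL, sub_self]
  have hres : residue A (π ^ m) = 0 := by
    rw [residue_eq_zero_iff, hπ]
    obtain ⟨j, rfl⟩ : ∃ j, m = j + 1 := ⟨m - 1, by omega⟩
    rw [pow_succ]
    exact Ideal.mul_mem_left _ _ (Ideal.mem_span_singleton_self π)
  have hmap : G.map (residue A) = X ^ p - C (residue A a) := by
    rw [hG_def, Polynomial.map_sub, map_C,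
      map_scaleRoots _ _ _ (by rw [hPm.leadingCoeff, map_one]; exact one_ne_zero), hres,
      scaleRoots_zero, (hPm.map _).leadingCoeff, one_smul, hPm.natDegree_map, hPd]
  have hgenY : IntermediateField.adjoin K {y} = ⊤ := by
    rw [eq_top_iff, ← hgen, IntermediateField.adjoin_simple_le_iff]
    have h1 : z = (algebraMap K L (algebraMap A K π ^ m))⁻¹ * y := by
      rw [hy_def, map_pow, map_pow, ← IsScalarTower.algebraMap_apply, ← hπL, ← mul_assoc,
        inv_mul_cancel₀ (pow_ne_zero _ hπL0), one_mul]
    rw [h1]
    exact mul_mem (inv_mem (IntermediateField.algebraMap_mem _ _))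
      (IntermediateField.mem_adjoin_simple_self K y)
  exact case4_general (K := K) p π hπ G hGm hGd a hmap ha y hGy hgenY

end Crit

end Groth.Agent.Helper7.KmR
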