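import Mathlib

set_option autoImplicit false

/-!
# Field theory of a Kummer extension `L = K(t)`, `tᵖ = θ`, with `ζ_p ∈ K`
-/

namespace Groth.Agent.Helper7.KmR

open Polynomial

universe u

section Kummer

variable (p : ℕ) [hp : Fact p.Prime] {K L : Type u} [Field K] [Field L] [Algebra K L]
  (ζK : K) (hζK : IsPrimitiveRoot ζK p) (hpK : (p : K) ≠ 0)
  (θ : K) (t : L) (ht : t ^ p = algebraMap K L θ)
  (hgen : IntermediateField.adjoin K {t} = ⊤)

include hgen in
theorem finrank_eq_one_of_mem (hmem : t ∈ (algebraMap K L).range) : Module.finrank K L = 1 := by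
  have h1 : IntermediateField.adjoin K {t} = ⊥ := by
    rw [IntermediateField.adjoin_simple_eq_bot_iff, IntermediateField.mem_bot]
    exact hmem
  have h2 : (⊤ : IntermediateField K L) = ⊥ := by rw [← hgen, h1]
  rw [← IntermediateField.finrank_top', h2]
  exact IntermediateField.finrank_eq_one_iff.2 rfl

include hgen in
theorem isGalois_of_mem (hmem : t ∈ (algebraMap K L).range) : IsGalois K L := by
  have h1 : IntermediateField.adjoin K {t} = ⊥ := by
    rw [IntermediateField.adjoin_simple_eq_bot_iff, IntermediateField.mem_bot]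
    exact hmem
  have h2 : (⊥ : IntermediateField K L) = ⊤ := by rw [← hgen, h1]
  have h3 : IsGalois K (⊤ : IntermediateField K L) := h2 ▸ (isGalois_bot : IsGalois K (⊥ : IntermediateField K L))
  exact isGalois_iff_isGalois_top.1 h3

include ht in
theorem isIntegral_t : IsIntegral K t :=
  ⟨X ^ p - C θ, monic_X_pow_sub_C θ hp.out.ne_zero, by
    rw [← aeval_def, map_sub, map_pow, aeval_X, aeval_C, ht, sub_self]⟩

include ht hgen in
theorem finiteDimensional_kummer : FiniteDimensional K L := by
  haveI : FiniteDimensional K (IntermediateField.adjoin K {t}) :=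
    IntermediateField.adjoin.finiteDimensional (isIntegral_t p θ t ht)
  exact Module.Finite.equiv
    ((IntermediateField.equivOfEq hgen).trans IntermediateField.topEquiv).toLinearEquiv

include ht hgen in
theorem finrank_le_kummer : Module.finrank K L ≤ p := by
  have h1 : Module.finrank K L = Module.finrank K (IntermediateField.adjoin K {t}) := by
    rw [hgen, IntermediateField.finrank_top']
  rw [h1, IntermediateField.adjoin.finrank (isIntegral_t p θ t ht)]
  have h0 : aeval t (X ^ p - C θ : K[X]) = 0 := by
    rw [map_sub, map_pow, aeval_X, aeval_C, ht, sub_self]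
  calc (minpoly K t).natDegree ≤ (X ^ p - C θ : K[X]).natDegree :=
        natDegree_le_of_dvd (minpoly.dvd K t h0) (monic_X_pow_sub_C θ hp.out.ne_zero).ne_zero
    _ = p := natDegree_X_pow_sub_C

include hζK hpK ht hgen in
theorem isGalois_kummer : IsGalois K L := by
  by_cases hθ : θ = 0
  · have ht0 : t = 0 := by
      rw [hθ, map_zero] at ht
      exact pow_eq_zero_iff hp.out.ne_zero |>.1 ht
    exact isGalois_of_mem t hgen ⟨0, by rw [ht0, map_zero]⟩
  · have hsep : (X ^ p - C θ : K[X]).Separable := separable_X_pow_sub_C θ hpK hθ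
    haveI : (X ^ p - C θ : K[X]).IsSplittingField K L := by
      refine ⟨?_, ?_⟩
      · rw [Polynomial.map_sub, Polynomial.map_pow, map_X, map_C]
        exact X_pow_sub_C_splits_of_isPrimitiveRoot
          (hζK.map_of_injective (algebraMap K L).injective) ht
      · rw [eq_top_iff]
        have h1 : (IntermediateField.adjoin K {t}).toSubalgebra = ⊤ := by
          rw [hgen]; rfl
        rw [IntermediateField.adjoin_simple_toSubalgebra_of_isAlgebraic
          (isIntegral_t p θ t ht).isAlgebraic] at h1
        rw [← h1]
        apply Algebra.adjoin_mono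
        rw [Set.singleton_subset_iff, mem_rootSet]
        refine ⟨(monic_X_pow_sub_C θ hp.out.ne_zero).ne_zero, ?_⟩
        rw [map_sub, map_pow, aeval_X, aeval_C, ht, sub_self]
    exact IsGalois.of_separable_splitting_field hsep

include hζK ht hgen in
theorem finrank_eq_one_or_kummer : Module.finrank K L = 1 ∨ Module.finrank K L = p := by
  haveI : NeZero p := ⟨hp.out.ne_zero⟩
  by_cases h : ∃ b : K, b ^ p = θ
  · left
    obtain ⟨b, hb⟩ := h
    apply finrank_eq_one_of_mem t hgen
    by_cases hb0 : b = 0
    · have ht0 : t = 0 := by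
        rw [← hb, hb0, zero_pow hp.out.ne_zero, map_zero] at ht
        exact pow_eq_zero_iff hp.out.ne_zero |>.1 ht
      exact ⟨0, by rw [ht0, map_zero]⟩
    · have hbL : algebraMap K L b ≠ 0 := by
        rw [Ne, map_eq_zero]; exact hb0
      have h1 : (t / algebraMap K L b) ^ p = 1 := by
        rw [div_pow, ht, ← hb, map_pow, div_self (pow_ne_zero _ hbL)]
      obtain ⟨i, -, hi⟩ := (hζK.map_of_injective (algebraMap K L).injective).eq_pow_of_pow_eq_one h1
      refine ⟨ζK ^ i * b, ?_⟩
      rw [map_mul, map_pow, hi, div_mul_cancel₀ _ hbL]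
  · right
    push Not at h
    have hirr : Irreducible (X ^ p - C θ : K[X]) := X_pow_sub_C_irreducible_of_prime hp.out h
    have h0 : aeval t (X ^ p - C θ : K[X]) = 0 := by
      rw [map_sub, map_pow, aeval_X, aeval_C, ht, sub_self]
    have hmin : (X ^ p - C θ : K[X]) = minpoly K t :=
      minpoly.eq_of_irreducible_of_monic hirr h0 (monic_X_pow_sub_C θ hp.out.ne_zero)
    have h1 : Module.finrank K L = Module.finrank K (IntermediateField.adjoin K {t}) := by
      rw [hgen, IntermediateField.finrank_top']
    rw [h1, IntermediateField.adjoin.finrank (isIntegral_t p θ t ht), ← hmin,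
      natDegree_X_pow_sub_C]

include hgen in
/-- rescaling the generator -/
theorem adjoin_mul_eq_top (c : K) (hc : c ≠ 0) :
    IntermediateField.adjoin K {algebraMap K L c * t} = ⊤ := by
  rw [eq_top_iff, ← hgen, IntermediateField.adjoin_simple_le_iff]
  have hcL : algebraMap K L c ≠ 0 := by rw [Ne, map_eq_zero]; exact hc
  have h := mul_mem (inv_mem (IntermediateField.algebraMap_mem
    (IntermediateField.adjoin K {algebraMap K L c * t}) c))
    (IntermediateField.mem_adjoin_simple_self K (algebraMap K L c * t))
  rwa [← mul_assoc, inv_mul_cancel₀ hcL, one_mul] at h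

include hgen in
/-- an affine change of generator -/
theorem adjoin_affine_eq_top (c d : K) (hc : c ≠ 0) :
    IntermediateField.adjoin K {algebraMap K L c * t + algebraMap K L d} = ⊤ := by
  rw [eq_top_iff, ← hgen, IntermediateField.adjoin_simple_le_iff]
  have hcL : algebraMap K L c ≠ 0 := by rw [Ne, map_eq_zero]; exact hc
  have h := mul_mem (inv_mem (IntermediateField.algebraMap_mem
    (IntermediateField.adjoin K {algebraMap K L c * t + algebraMap K L d}) c))
    (sub_mem (IntermediateField.mem_adjoin_simple_self K
      (algebraMap K L c * t + algebraMap K L d))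
      (IntermediateField.algebraMap_mem
        (IntermediateField.adjoin K {algebraMap K L c * t + algebraMap K L d}) d))
  rwa [add_sub_cancel_right, ← mul_assoc, inv_mul_cancel₀ hcL, one_mul] at h

end Kummer

end Groth.Agent.Helper7.KmR
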