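import Mathlib

set_option autoImplicit false

/-!
# The substitution step raising the congruence level of a Kummer generator
-/

namespace Groth.Agent.Helper7.KmR

open IsLocalRing

universe u

section Subst

variable (p : ℕ) [hp : Fact p.Prime] {A : Type u} [CommRing A] [IsLocalRing A]

/-- if `a ≡ r₀ᵖ mod π` and `s = p s₁ < p ν` with `p ∈ (π^ν)^{p-1} A`, dividing `1 + π^s a` by
`(1 + π^{s₁} r₀)ᵖ` gives an element `≡ 1 mod π^{s+1}` -/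
theorem subst_step (π : A) (hπ : π ∈ maximalIdeal A) (s₁ ν : ℕ) (hs₁ : 1 ≤ s₁) (hν : s₁ + 1 ≤ ν)
    (c₁ ω : A) (hpA : (p : A) = c₁ * (ω * π ^ ν) ^ (p - 1))
    (a r₀ c : A) (hc : a - r₀ ^ p = π * c) :
    ∃ e₁ a'' : A, e₁ * (1 + π ^ s₁ * r₀) = 1 ∧
      e₁ ^ p * (1 + π ^ (p * s₁) * a) = 1 + π ^ (p * s₁ + 1) * a'' := by
  obtain ⟨q₁, hq₁⟩ : ∃ q₁, p = q₁ + 1 := ⟨p - 1, by have := hp.out.one_le; omega⟩
  have hq₁1 : 1 ≤ q₁ := by have := hp.out.two_le; omega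
  have hpm : p - 1 = q₁ := by omega
  set x : A := π ^ s₁ * r₀ with hx
  have hxmem : x ∈ maximalIdeal A := by
    obtain ⟨j, rfl⟩ : ∃ j, s₁ = j + 1 := ⟨s₁ - 1, by omega⟩
    rw [hx, pow_succ]
    exact Ideal.mul_mem_right _ _ (Ideal.mul_mem_left _ _ hπ)
  have hunit : IsUnit (1 + x) := by
    rw [← residue_ne_zero_iff_isUnit, map_add, map_one, (residue_eq_zero_iff x).2 hxmem, add_zero]
    exact one_ne_zero
  obtain ⟨e₁, he₁⟩ := hunit.exists_left_inv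
  obtain ⟨ρ, hρ⟩ := exists_add_pow_prime_eq hp.out (1 : A) x
  -- exponent bookkeeping
  have hexp : ∃ e, ν * q₁ + s₁ = (p * s₁ + 1) + e := by
    refine ⟨ν * q₁ + s₁ - (p * s₁ + 1), ?_⟩
    have h1 : (s₁ + 1) * q₁ ≤ ν * q₁ := Nat.mul_le_mul_right q₁ hν
    have h2 : (s₁ + 1) * q₁ = s₁ * q₁ + q₁ := by ring
    have h3 : p * s₁ = s₁ * q₁ + s₁ := by rw [hq₁]; ring
    omega
  obtain ⟨e, he⟩ := hexp
  set q : A := c₁ * ω ^ q₁ * π ^ e * r₀ * ρ with hq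
  have hpx : (p : A) * 1 * x * ρ = π ^ (p * s₁ + 1) * q := by
    rw [hpA, hpm, hx, hq, mul_pow, ← pow_mul]
    have : π ^ (ν * q₁) * π ^ s₁ = π ^ (p * s₁ + 1) * π ^ e := by
      rw [← pow_add, ← pow_add, he]
    linear_combination (c₁ * ω ^ q₁ * r₀ * ρ) * this
  have hxp : x ^ p = π ^ (p * s₁) * r₀ ^ p := by
    rw [hx, mul_pow, ← pow_mul, mul_comm s₁ p]
  have hD : (1 + x) ^ p = 1 + π ^ (p * s₁) * r₀ ^ p + π ^ (p * s₁ + 1) * q := by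
    rw [hρ, one_pow, hxp, hpx]
  have heD : e₁ ^ p * (1 + x) ^ p = 1 := by rw [← mul_pow, he₁, one_pow]
  refine ⟨e₁, e₁ ^ p * (c - q), he₁, ?_⟩
  have h4 : 1 + π ^ (p * s₁) * a = (1 + x) ^ p + π ^ (p * s₁ + 1) * (c - q) := by
    rw [hD, pow_succ]
    linear_combination π ^ (p * s₁) * hc
  rw [h4, mul_add, heD]
  ring

end Subst

end Groth.Agent.Helper7.KmR
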