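import Mathlib
import Groth.Prelude.Def_EtRam
import Groth.Agent.Helper7.KmRC
import Groth.Agent.Helper7.KmRD
import Groth.Agent.Helper7.KmRE

set_option autoImplicit false

/-!
# Kummer generators congruent to `1`: the four cases by induction on the congruence level
-/

namespace Groth.Agent.Helper7.KmR

open Polynomial IsLocalRing Groth.Agent.Helper7.ASch

universe u

section Red

variable (p : ℕ) [hp : Fact p.Prime] {A K L : Type u} [CommRing A] [IsDomain A]
  [IsDiscreteValuationRing A] [Field K] [Algebra A K] [IsFractionRing A K] [Field L] [Algebra K L]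
  [Algebra A L] [IsScalarTower A K L] [CharZero K] [CharP (ResidueField A) p]
  (ζ : A) (hζ : aeval ζ (cyclotomic p ℤ) = 0)
  (P : A[X]) (hP : C ((1 - ζ) ^ p) * P = (1 + C (1 - ζ) * X) ^ p - 1)
  (π : A) (hπ : maximalIdeal A = Ideal.span {π})

include K hζ in
theorem isPrimitiveRoot_K : IsPrimitiveRoot (algebraMap A K ζ) p := by
  haveI := charZero_A (A := A) (K := K)
  exact (isPrimitiveRoot p ζ hζ).map_of_injective (IsFractionRing.injective A K)

include hζ in
theorem wK_ne_zero : algebraMap A K (1 - ζ) ≠ 0 := by
  haveI := charZero_A (A := A) (K := K)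
  intro h
  exact w_ne_zero p ζ hζ ((map_eq_zero_iff _ (IsFractionRing.injective A K)).1 h)

include hζ hP in
/-- from a Kummer generator `t` to a root `z' = (t - 1)/w` of `P = (θ - 1)/wᵖ` -/
theorem datum_to_xi (θ : K) (t : L) (ht : t ^ p = algebraMap K L θ)
    (hgen : IntermediateField.adjoin K {t} = ⊤) :
    aeval (algebraMap K L (algebraMap A K (1 - ζ))⁻¹ * t +
        algebraMap K L (-(algebraMap A K (1 - ζ))⁻¹)) P =
      algebraMap K L ((θ - 1) / algebraMap A K (1 - ζ) ^ p) ∧
    IntermediateField.adjoin K {algebraMap K L (algebraMap A K (1 - ζ))⁻¹ * t +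
        algebraMap K L (-(algebraMap A K (1 - ζ))⁻¹)} = ⊤ := by
  haveI := charZero_A (A := A) (K := K)
  have hwK := wK_ne_zero p (K := K) ζ hζ
  refine ⟨?_, adjoin_affine_eq_top t hgen _ _ (inv_ne_zero hwK)⟩
  set wK := algebraMap A K (1 - ζ) with hwK_def
  have hwL : algebraMap A L (1 - ζ) = algebraMap K L wK := by
    rw [hwK_def, ← IsScalarTower.algebraMap_apply]
  have hwL0 : algebraMap K L wK ≠ 0 := by rw [Ne, map_eq_zero]; exact hwK
  have h1 := aeval_P p ζ P hP (L := L)
    (algebraMap K L wK⁻¹ * t + algebraMap K L (-wK⁻¹))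
  rw [hwL] at h1
  have h2 : 1 + algebraMap K L wK * (algebraMap K L wK⁻¹ * t + algebraMap K L (-wK⁻¹)) = t := by
    rw [map_neg, map_inv₀]
    field_simp
    ring
  rw [h2, ht] at h1
  apply mul_left_cancel₀ (pow_ne_zero p hwL0)
  rw [h1, map_div₀, map_sub, map_one, map_pow]
  field_simp

include hπ hζ hP in
/-- Kummer generators with `θ ≡ 1 mod π^s`, `s ≥ 1`: induction on `p ν - s` -/
theorem kcases_one_add (ω : Aˣ) (ν : ℕ) (hw : 1 - ζ = ω * π ^ ν) (k : ℕ) :
    ∀ (s : ℕ) (a : A) (t : L), 1 ≤ s → p * ν ≤ s + k →
      t ^ p = algebraMap A L (1 + π ^ s * a) → IntermediateField.adjoin K {t} = ⊤ →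
      Cases p A K L := by
  haveI := charZero_A (A := A) (K := K)
  have hwK := wK_ne_zero p (K := K) ζ hζ
  have hπK : algebraMap A K π ≠ 0 := fun h0 =>
    pi_ne_zero π hπ ((map_eq_zero_iff _ (IsFractionRing.injective A K)).1 h0)
  have hωK : algebraMap A K (ω : A) ≠ 0 := fun h0 =>
    ω.ne_zero ((map_eq_zero_iff _ (IsFractionRing.injective A K)).1 h0)
  have hwKp : algebraMap A K (1 - ζ) ^ p = algebraMap A K ((ω : A) ^ p * π ^ (p * ν)) := by
    rw [hw, ← map_pow, mul_pow, ← pow_mul, mul_comm ν p]
  induction k with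
  | zero =>
    intro s a t hs hE ht hgen
    -- `p ν ≤ s`: integral case
    have htK : t ^ p = algebraMap K L (algebraMap A K (1 + π ^ s * a)) := by
      rw [ht, ← IsScalarTower.algebraMap_apply]
    obtain ⟨hz', hgen'⟩ := datum_to_xi p ζ hζ P hP _ t htK hgen
    obtain ⟨j, hj⟩ : ∃ j, s = p * ν + j := ⟨s - p * ν, by omega⟩
    have hξ : algebraMap A K (π ^ j * a * ((ω⁻¹ : Aˣ) : A) ^ p) =
        (algebraMap A K (1 + π ^ s * a) - 1) / algebraMap A K (1 - ζ) ^ p := by
      rw [eq_div_iff (pow_ne_zero p hwK), hwKp, ← map_mul, map_add, map_one, add_sub_cancel_left]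
      congr 1
      have h1 : ((ω⁻¹ : Aˣ) : A) ^ p * (ω : A) ^ p = 1 := by
        rw [← mul_pow, Units.inv_mul, one_pow]
      rw [hj, pow_add]
      linear_combination (π ^ j * a * π ^ (p * ν)) * h1
    have unr := critA (K := K) p ζ hζ P hP π hπ _ _ hz' hgen' _ hξ
    rcases finrank_eq_one_or_kummer p (algebraMap A K ζ) (isPrimitiveRoot_K p ζ hζ) _ t htK hgen
      with h | h
    · exact Or.inl h
    · exact Or.inr (Or.inl ⟨unr, h⟩)
  | succ k ih =>
    intro s a t hs hE ht hgen
    have htK : t ^ p = algebraMap K L (algebraMap A K (1 + π ^ s * a)) := by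
      rw [ht, ← IsScalarTower.algebraMap_apply]
    by_cases hE' : p * ν ≤ s
    · -- integral case again
      obtain ⟨hz', hgen'⟩ := datum_to_xi p ζ hζ P hP _ t htK hgen
      obtain ⟨j, hj⟩ : ∃ j, s = p * ν + j := ⟨s - p * ν, by omega⟩
      have hξ : algebraMap A K (π ^ j * a * ((ω⁻¹ : Aˣ) : A) ^ p) =
          (algebraMap A K (1 + π ^ s * a) - 1) / algebraMap A K (1 - ζ) ^ p := by
        rw [eq_div_iff (pow_ne_zero p hwK), hwKp, ← map_mul, map_add, map_one,
          add_sub_cancel_left]
        congr 1
        have h1 : ((ω⁻¹ : Aˣ) : A) ^ p * (ω : A) ^ p = 1 := by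
          rw [← mul_pow, Units.inv_mul, one_pow]
        rw [hj, pow_add]
        linear_combination (π ^ j * a * π ^ (p * ν)) * h1
      have unr := critA (K := K) p ζ hζ P hP π hπ _ _ hz' hgen' _ hξ
      rcases finrank_eq_one_or_kummer p (algebraMap A K ζ) (isPrimitiveRoot_K p ζ hζ) _ t htK hgen
        with h | h
      · exact Or.inl h
      · exact Or.inr (Or.inl ⟨unr, h⟩)
    · push Not at hE'
      by_cases hu : IsUnit a
      · obtain ⟨u, rfl⟩ := hu
        obtain ⟨hz', hgen'⟩ := datum_to_xi p ζ hζ P hP _ t htK hgen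
        obtain ⟨n, hn⟩ : ∃ n, p * ν = s + n := ⟨p * ν - s, by omega⟩
        have hn0 : 0 < n := by omega
        -- `ξ' πⁿ = u ω⁻ᵖ`
        have hξ : (algebraMap A K (1 + π ^ s * (u : A)) - 1) / algebraMap A K (1 - ζ) ^ p *
            algebraMap A K π ^ n = algebraMap A K ((u * (ω⁻¹) ^ p : Aˣ) : A) := by
          have h2 : algebraMap A K (1 + π ^ s * (u : A)) - 1 = algebraMap A K (π ^ s * (u : A)) := by
            rw [map_add, map_one, add_sub_cancel_left]
          rw [div_mul_eq_mul_div, div_eq_iff (pow_ne_zero p hwK), hwKp, ← map_pow, h2, ← map_mul,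
            ← map_mul]
          congr 1
          have h1 : ((ω⁻¹ : Aˣ) : A) ^ p * (ω : A) ^ p = 1 := by
            rw [← mul_pow, Units.inv_mul, one_pow]
          rw [hn, pow_add]
          push_cast
          linear_combination (-(π ^ s * (u : A) * π ^ n)) * h1
        by_cases hdvd : p ∣ n
        · by_cases hpow : ∃ r : A, residue A ((u * (ω⁻¹) ^ p : Aˣ) : A) = residue A r ^ p
          · -- substitution step
            obtain ⟨r, hr⟩ := hpow
            obtain ⟨m, hm⟩ := hdvd
            have hmν : m ≤ ν := by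
              by_contra hcon
              push Not at hcon
              have : p * ν < p * m := Nat.mul_lt_mul_of_pos_left hcon hp.out.pos
              omega
            obtain ⟨s₁, hs₁⟩ : ∃ s₁, ν = m + s₁ := ⟨ν - m, by omega⟩
            have hss₁ : s = p * s₁ := by
              have : p * ν = p * m + p * s₁ := by rw [hs₁]; ring
              omega
            have hm1 : 1 ≤ m := by
              rcases Nat.eq_zero_or_pos m with h0 | h0
              · rw [h0, mul_zero] at hm; omega
              · exact h0
            have hs₁1 : 1 ≤ s₁ := by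
              rcases Nat.eq_zero_or_pos s₁ with h0 | h0
              · rw [h0, mul_zero] at hss₁; omega
              · exact h0
            have hres : residue A (u : A) = residue A (r * ω) ^ p := by
              have h1 : residue A (u : A) = residue A ((u * (ω⁻¹) ^ p : Aˣ) : A) *
                  residue A (ω : A) ^ p := by
                rw [← map_pow, ← map_mul]
                congr 1
                push_cast
                have h1 : ((ω⁻¹ : Aˣ) : A) ^ p * (ω : A) ^ p = 1 := by
                  rw [← mul_pow, Units.inv_mul, one_pow]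
                linear_combination (-(u : A)) * h1
              rw [h1, hr, map_mul, mul_pow]
            have hmem : (u : A) - (r * ω) ^ p ∈ maximalIdeal A := by
              rw [← residue_eq_zero_iff, map_sub, map_pow, hres, sub_self]
            rw [hπ, Ideal.mem_span_singleton] at hmem
            obtain ⟨c, hc⟩ := hmem
            obtain ⟨c₁, hc₁⟩ := exists_p_eq p ζ hζ P hP
            rw [hw] at hc₁
            have hπmem : π ∈ maximalIdeal A := by
              rw [hπ]; exact Ideal.mem_span_singleton_self π
            obtain ⟨e₁, a'', he₁, ha''⟩ := subst_step p π hπmem s₁ ν hs₁1 (by omega) c₁ ω hc₁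
              (u : A) (r * ω) c hc
            have he₁0 : algebraMap A K e₁ ≠ 0 := by
              intro h0
              have := (map_eq_zero_iff _ (IsFractionRing.injective A K)).1 h0
              rw [this, zero_mul] at he₁
              exact zero_ne_one he₁
            have hgen'' := adjoin_mul_eq_top t hgen (algebraMap A K e₁) he₁0
            rw [← IsScalarTower.algebraMap_apply] at hgen''
            apply ih (s + 1) a'' (algebraMap A L e₁ * t) (by omega) (by omega) _ hgen''
            rw [mul_pow, ht, ← map_pow, ← map_mul, hss₁, ha'']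
          · push Not at hpow
            obtain ⟨m, rfl⟩ := hdvd
            have hm : 0 < m := Nat.pos_of_mul_pos_left hn0
            exact Or.inr (Or.inr (Or.inr (critC (K := K) p ζ hζ P hP π hπ _ _ hz' hgen' m hm
              _ hpow hξ)))
        · exact Or.inr (Or.inr (Or.inl
            (critB (K := K) p ζ hζ P hP π hπ _ _ hz' hgen' n hn0 hdvd _ hξ)))
      · have hmem : a ∈ maximalIdeal A := hu
        rw [hπ, Ideal.mem_span_singleton] at hmem
        obtain ⟨a₁, rfl⟩ := hmem
        apply ih (s + 1) a₁ t (by omega) (by omega) _ hgen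
        rw [ht, pow_succ]
        congr 1
        ring

end Red

end Groth.Agent.Helper7.KmR
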